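import Groth.Statements.S13789
import Mathlib.RingTheory.GradedAlgebra.Homogeneous.Ideal
import Mathlib.RingTheory.Artinian.Ring
import Mathlib.RingTheory.FiniteType
import Mathlib.RingTheory.IntegralClosure.IsIntegralClosure.Basic
import Mathlib.RingTheory.Localization.FractionRing
import Mathlib.RingTheory.Localization.Integral
import Mathlib.Algebra.Module.FinitePresentation
import Mathlib.RingTheory.Flat.Basic
import Mathlib.LinearAlgebra.Contraction
import Mathlib.RingTheory.LocalRing.Module
import Mathlib.RingTheory.Support
import Mathlib.RingTheory.FiniteLength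
import Mathlib.LinearAlgebra.Dimension.Finrank
import Mathlib.LinearAlgebra.FiniteDimensional.Basic
import Mathlib.Algebra.Ring.Action.Basic
import Mathlib.Algebra.GroupWithZero.Action.End
import Mathlib.RingTheory.HopkinsLevitzki
import Mathlib.Algebra.CharP.Invertible

set_option autoImplicit false
universe u
open CAlg

namespace Groth.Agent.S13789
open TensorProduct

/-- Let A be a commutative ring with total ring of fractions Q and let B be a ring with A ⊆ B ⊆ Q. Then
the inclusion A ⊆ B carries nonzerodivisors of A to nonzerodivisors of B, and every nonzerodivisor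
of B has the form r/u with r and u nonzerodivisors of A. -/
theorem result {A Q : Type u} [CommRing A] [CommRing Q] [Algebra A Q] [IsFractionRing A Q] (B : Subalgebra A Q) :
    (∀ a : A, a ∈ nonZeroDivisors A → algebraMap A B a ∈ nonZeroDivisors B) ∧
    (∀ b : B, b ∈ nonZeroDivisors B → ∃ r u : A, r ∈ nonZeroDivisors A ∧ u ∈ nonZeroDivisors A ∧
      (b : Q) * algebraMap A Q u = algebraMap A Q r) := by
  refine ⟨fun a ha => mem_nonZeroDivisors_iff_right.2 fun c hc => Subtype.ext
    ((IsLocalization.map_units Q (⟨a, ha⟩ : nonZeroDivisors A)).mul_left_eq_zero.1 (congrArg Subtype.val hc)), fun b hb => ?_⟩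
  obtain ⟨⟨r, u⟩, h⟩ := IsLocalization.surj (nonZeroDivisors A) (b : Q)
  refine ⟨r, u, mem_nonZeroDivisors_iff_right.2 fun c hc => ?_, u.2, h⟩
  have hu := IsLocalization.map_units Q u
  have h1 : ((b * algebraMap A B c : B) : Q) = 0 := by
    rw [← hu.mul_left_eq_zero]
    push_cast [Subalgebra.coe_algebraMap]
    rw [mul_right_comm, h, ← map_mul, mul_comm, hc, map_zero]
  have h2 : algebraMap A B c = 0 := mem_nonZeroDivisors_iff_right.1 hb _ (Subtype.ext (by rw [mul_comm]; exact h1))
  exact IsFractionRing.injective A Q ((congrArg Subtype.val h2).trans (map_zero _).symm)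

end Groth.Agent.S13789
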