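import Groth.Statements.S13790
import Mathlib.RingTheory.GradedAlgebra.Homogeneous.Ideal
import Mathlib.RingTheory.Artinian.Ring
import Mathlib.RingTheory.FiniteType
import Mathlib.RingTheory.IntegralClosure.IsIntegralClosure.Basic
import Mathlib.RingTheory.Localization.FractionRing
import Mathlib.RingTheory.Localization.Integral
import Mathlib.Algebra.Module.FinitePresentation
import Mathlib.RingTheory.Flat.Basic
import Mathlib.LinearAlgebra.Contraction
import Mathlib.RingTheory.LocalRing.Module
import Mathlib.RingTheory.Support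
import Mathlib.RingTheory.FiniteLength
import Mathlib.LinearAlgebra.Dimension.Finrank
import Mathlib.LinearAlgebra.FiniteDimensional.Basic
import Mathlib.Algebra.Ring.Action.Basic
import Mathlib.Algebra.GroupWithZero.Action.End
import Mathlib.RingTheory.HopkinsLevitzki
import Mathlib.Algebra.CharP.Invertible

set_option autoImplicit false
universe u
open CAlg

namespace Groth.Agent.S13790
open TensorProduct

theorem nzd {A Q : Type u} [CommRing A] [CommRing Q] [Algebra A Q] [IsFractionRing A Q] (B : Subalgebra A Q)
    (b : B) (hb : b ∈ nonZeroDivisors B) : ∃ r u : A, r ∈ nonZeroDivisors A ∧ u ∈ nonZeroDivisors A ∧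
      (b : Q) * algebraMap A Q u = algebraMap A Q r := by
  obtain ⟨⟨r, u⟩, h⟩ := IsLocalization.surj (nonZeroDivisors A) (b : Q)
  refine ⟨r, u, mem_nonZeroDivisors_iff_right.2 fun c hc => ?_, u.2, h⟩
  have hu := IsLocalization.map_units Q u
  have h1 : ((b * algebraMap A B c : B) : Q) = 0 := by
    rw [← hu.mul_left_eq_zero]
    push_cast [Subalgebra.coe_algebraMap]
    rw [mul_right_comm, h, ← map_mul, mul_comm, hc, map_zero]
  have h2 : algebraMap A B c = 0 := mem_nonZeroDivisors_iff_right.1 hb _ (Subtype.ext (by rw [mul_comm]; exact h1))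
  exact IsFractionRing.injective A Q ((congrArg Subtype.val h2).trans (map_zero _).symm)

/-- Let A be a commutative ring with total ring of fractions Q and let B be a ring with A ⊆ B ⊆ Q. Then
Q, with the inclusion B ⊆ Q, is the total ring of fractions of B. -/
theorem result {A Q : Type u} [CommRing A] [CommRing Q] [Algebra A Q] [IsFractionRing A Q] (B : Subalgebra A Q) :
    IsFractionRing B Q := by
  refine ⟨{ map_units := fun b => ?_, surj := fun q => ?_, exists_of_eq := fun {x y} h => ⟨1, by rw [Subtype.val_injective (show (x : Q) = y from h)]⟩ }⟩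
  · obtain ⟨r, u, hr, -, h⟩ := nzd B b.1 b.2
    exact isUnit_of_mul_isUnit_left (h ▸ IsLocalization.map_units Q (⟨r, hr⟩ : nonZeroDivisors A))
  · obtain ⟨⟨r, u⟩, h⟩ := IsLocalization.surj (nonZeroDivisors A) q
    have hu : algebraMap A B u ∈ nonZeroDivisors B := mem_nonZeroDivisors_iff_right.2 fun c hc => Subtype.ext
      ((IsLocalization.map_units Q u).mul_left_eq_zero.1 (congrArg Subtype.val hc))
    exact ⟨(algebraMap A B r, ⟨_, hu⟩), h⟩

end Groth.Agent.S13790
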