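import Groth.Statements.S13791
import Groth.Agent.Lib.SiteCoh.Constant

set_option autoImplicit false
universe u
open CategoryTheory
open CohSite

namespace Groth.Agent.S13791
set_option linter.style.haveILetI false
set_option backward.isDefEq.respectTransparency false
set_option backward.isDefEq.respectTransparency.types false


/-- On a site, for a short exact sequence 0 → A → B → C → 0 of abelian groups the map H¹(A) → H¹(B) on
the first cohomology of the associated constant sheaves is injective. Stated for an injective
homomorphism f : A → B (C being its cokernel), with H¹ the Ext-based sheaf cohomology of the site. -/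
theorem result {C : Type u} [SmallCategory C] (J : GrothendieckTopology C)
    {A B : Type u} [AddCommGroup A] [AddCommGroup B] (f : A →+ B) (hf : Function.Injective f) :
    Function.Injective
      (Sheaf.H.map ((constantSheaf J AddCommGrpCat.{u}).map (AddCommGrpCat.ofHom f)) 1) := by
  let S : ShortComplex AddCommGrpCat.{u} := ShortComplex.mk (AddCommGrpCat.ofHom f)
    (Limits.cokernel.π (AddCommGrpCat.ofHom f)) (Limits.cokernel.condition _)
  haveI : Mono (AddCommGrpCat.ofHom f) := (AddCommGrpCat.mono_iff_injective _).2 hf
  haveI : Epi (Limits.cokernel.π (AddCommGrpCat.ofHom f)) := inferInstance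
  have hS : S.ShortExact := ShortComplex.ShortExact.mk'
    (ShortComplex.exact_of_g_is_cokernel _ (Limits.cokernelIsCokernel _)) inferInstance inferInstance
  haveI : Limits.PreservesFiniteLimits (constantSheaf J AddCommGrpCat.{u}) := Limits.comp_preservesFiniteLimits _ _
  haveI : (constantSheaf J AddCommGrpCat.{u}).Additive := Functor.additive_of_preserves_binary_products _
  have h := Groth.Agent.SiteCoh.shortExact_constantSheaf (J := J) hS
  rw [injective_iff_map_eq_zero]
  intro x hx
  obtain ⟨y, rfl⟩ := Abelian.Ext.covariant_sequence_exact₁ _ h x hx (n₀ := 0) rfl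
  obtain ⟨φ, rfl⟩ := (Abelian.Ext.mk₀_bijective _ _).2 y
  obtain ⟨ψ, hψ⟩ := Groth.Agent.SiteCoh.exists_lift_constant S.g ((AddCommGrpCat.epi_iff_surjective _).1 hS.epi_g) φ
  rw [← hψ, ← Abelian.Ext.mk₀_comp_mk₀, Abelian.Ext.comp_assoc_of_second_deg_zero]
  erw [h.comp_extClass]
  rw [Abelian.Ext.comp_zero]

end Groth.Agent.S13791
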