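import Groth.Statements.S13792
import Groth.Agent.Lib.Curve17.Basic
import Groth.Agent.Lib.VarDim.Irred
import Mathlib.AlgebraicGeometry.Morphisms.QuasiFinite
import Mathlib.AlgebraicGeometry.Limits
import Mathlib.AlgebraicGeometry.Morphisms.Finite
-- import your own Groth.Agent.* helpers here

set_option autoImplicit false
universe u
open CategoryTheory AlgebraicGeometry
open Curves

namespace Groth.Agent.S13792
open Groth.Agent TopologicalSpace
set_option linter.style.haveILetI false

set_option backward.isDefEq.respectTransparency.types false in
/-- Let k be a field and E an integral k-scheme of finite type whose underlying space has dimension 1,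
and let ι : G → E be a closed immersion. Then either ι is an isomorphism or G is finite over k. (The
published statement is about a closed subgroup scheme of an elliptic curve and its proof states this
fact for E geometrically integral; this row assumes only that E is integral.) -/
theorem result {k : Type u} [Field k]
    {E G : Scheme.{u}} (f : E ⟶ Spec (CommRingCat.of k)) [LocallyOfFiniteType f] [QuasiCompact f]
    [IsIntegral E] (hdim : topologicalKrullDim ↥E = 1) (ι : G ⟶ E) [IsClosedImmersion ι] :
    IsIso ι ∨ IsFinite (ι ≫ f) := by
  by_cases hsurj : Function.Surjective ι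
  · haveI : Surjective ι := ⟨hsurj⟩
    exact Or.inl (isIso_of_isClosedImmersion_of_surjective ι)
  right
  haveI : NoetherianSpace E := VarDim.noetherianSpace_of_finiteType f
  have hfinr : (Set.range ι).Finite := Curve17.finite_of_isClosed hdim.le ι.isClosedEmbedding.isClosed_range
    fun h => hsurj (Set.range_eq_univ.1 h)
  haveI : Finite G := by
    haveI := hfinr.to_subtype
    exact Finite.of_injective _ (Set.rangeFactorization_injective.2 ι.isClosedEmbedding.injective)
  haveI : T1Space G := by
    refine ⟨fun x => ?_⟩
    have hne : ι x ≠ genericPoint E := by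
      intro h
      refine hsurj (Set.range_eq_univ.1 ?_)
      rw [Set.eq_univ_iff_forall]
      intro z
      exact (genericPoint_specializes z).mem_closed ι.isClosedEmbedding.isClosed_range ⟨x, h⟩
    have := (Curve17.isClosed_singleton hdim.le hne).preimage ι.continuous
    rwa [← Set.image_singleton, ι.isClosedEmbedding.injective.preimage_image] at this
  haveI : DiscreteTopology G := inferInstance
  haveI : IsAffine G := inferInstance
  haveI : LocallyQuasiFinite (ι ≫ f) := LocallyQuasiFinite.of_finite_preimage_singleton _ fun _ => Set.toFinite _
  refine (HasAffineProperty.iff_of_isAffine (P := @AlgebraicGeometry.IsFinite) (f := ι ≫ f)).2 ?_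
  refine ⟨inferInstance, ?_⟩
  have hq : ((ι ≫ f).appTop).hom.QuasiFinite :=
    (HasRingHomProperty.iff_of_isAffine (P := @LocallyQuasiFinite)).1 inferInstance
  let e := (Scheme.ΓSpecIso (CommRingCat.of k)).commRingCatIsoToRingEquiv
  haveI : IsArtinianRing Γ(Spec (CommRingCat.of k), ⊤) :=
    e.symm.surjective.isArtinianRing
  letI := ((ι ≫ f).appTop).hom.toAlgebra
  haveI : Algebra.QuasiFinite Γ(Spec (CommRingCat.of k), ⊤) Γ(G, ⊤) := hq
  exact Module.Finite.of_quasiFinite

end Groth.Agent.S13792
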