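import Groth.Statements.S13793
import Mathlib

set_option autoImplicit false
universe u
open CAlg

namespace Groth.Agent.S13793
open AddMonoidAlgebra
open scoped Matrix

noncomputable section

/-- Laurent polynomials. -/
abbrev L (A : Type u) [CommRing A] (n : ℕ) : Type u := AddMonoidAlgebra A (Fin n → ℤ)

/-- The monomial substitution attached to a matrix. -/
abbrev sub (A : Type u) [CommRing A] {m n : ℕ} (M : Matrix (Fin m) (Fin n) ℤ) : L A n →+* L A m :=
  mapDomainRingHom A (Matrix.mulVecLin M).toAddMonoidHom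

/-- The same on units. -/
abbrev subU (A : Type u) [CommRing A] {m n : ℕ} (M : Matrix (Fin m) (Fin n) ℤ) : (L A n)ˣ →* (L A m)ˣ :=
  Units.map (sub A M).toMonoidHom

/-- Coboundary in degree one. -/
def d1 (A : Type u) [CommRing A] : (L A 1)ˣ →* (L A 2)ˣ :=
  subU A !![0; 1] * (subU A !![1; 1])⁻¹ * subU A !![1; 0]

/-- Coboundary in degree two. -/
def d2 (A : Type u) [CommRing A] : (L A 2)ˣ →* (L A 3)ˣ :=
  subU A !![0, 0; 1, 0; 0, 1] * (subU A !![1, 0; 1, 0; 0, 1])⁻¹ * subU A !![1, 0; 0, 1; 0, 1] *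
    (subU A !![1, 0; 0, 1; 0, 0])⁻¹

section

variable {A : Type u} [CommRing A]

theorem subU_subU {l m n : ℕ} (M : Matrix (Fin l) (Fin m) ℤ) (N : Matrix (Fin m) (Fin n) ℤ) (η : (L A n)ˣ) :
    subU A M (subU A N η) = subU A (M * N) η := by
  apply Units.ext
  show mapDomain _ (mapDomain _ (η : L A n)) = mapDomain _ (η : L A n)
  ext v
  simp only [mapDomain, AddMonoidAlgebra.coeff_ofCoeff, ← Finsupp.mapDomain_comp]
  congr 2
  funext w
  simp [Matrix.mulVec_mulVec]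

theorem d2_d1 (η : (L A 1)ˣ) : d2 A (d1 A η) = 1 := by
  have e1 : (!![0, 0; 1, 0; 0, 1] : Matrix (Fin 3) (Fin 2) ℤ) * (!![0; 1] : Matrix (Fin 2) (Fin 1) ℤ) = (!![0; 0; 1] : Matrix (Fin 3) (Fin 1) ℤ) := by decide
  have e2 : (!![0, 0; 1, 0; 0, 1] : Matrix (Fin 3) (Fin 2) ℤ) * (!![1; 1] : Matrix (Fin 2) (Fin 1) ℤ) = (!![0; 1; 1] : Matrix (Fin 3) (Fin 1) ℤ) := by decide
  have e3 : (!![0, 0; 1, 0; 0, 1] : Matrix (Fin 3) (Fin 2) ℤ) * (!![1; 0] : Matrix (Fin 2) (Fin 1) ℤ) = (!![0; 1; 0] : Matrix (Fin 3) (Fin 1) ℤ) := by decide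
  have f1 : (!![1, 0; 1, 0; 0, 1] : Matrix (Fin 3) (Fin 2) ℤ) * (!![0; 1] : Matrix (Fin 2) (Fin 1) ℤ) = (!![0; 0; 1] : Matrix (Fin 3) (Fin 1) ℤ) := by decide
  have f2 : (!![1, 0; 1, 0; 0, 1] : Matrix (Fin 3) (Fin 2) ℤ) * (!![1; 1] : Matrix (Fin 2) (Fin 1) ℤ) = (!![1; 1; 1] : Matrix (Fin 3) (Fin 1) ℤ) := by decide
  have f3 : (!![1, 0; 1, 0; 0, 1] : Matrix (Fin 3) (Fin 2) ℤ) * (!![1; 0] : Matrix (Fin 2) (Fin 1) ℤ) = (!![1; 1; 0] : Matrix (Fin 3) (Fin 1) ℤ) := by decide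
  have g1 : (!![1, 0; 0, 1; 0, 1] : Matrix (Fin 3) (Fin 2) ℤ) * (!![0; 1] : Matrix (Fin 2) (Fin 1) ℤ) = (!![0; 1; 1] : Matrix (Fin 3) (Fin 1) ℤ) := by decide
  have g2 : (!![1, 0; 0, 1; 0, 1] : Matrix (Fin 3) (Fin 2) ℤ) * (!![1; 1] : Matrix (Fin 2) (Fin 1) ℤ) = (!![1; 1; 1] : Matrix (Fin 3) (Fin 1) ℤ) := by decide
  have g3 : (!![1, 0; 0, 1; 0, 1] : Matrix (Fin 3) (Fin 2) ℤ) * (!![1; 0] : Matrix (Fin 2) (Fin 1) ℤ) = (!![1; 0; 0] : Matrix (Fin 3) (Fin 1) ℤ) := by decide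
  have k1 : (!![1, 0; 0, 1; 0, 0] : Matrix (Fin 3) (Fin 2) ℤ) * (!![0; 1] : Matrix (Fin 2) (Fin 1) ℤ) = (!![0; 1; 0] : Matrix (Fin 3) (Fin 1) ℤ) := by decide
  have k2 : (!![1, 0; 0, 1; 0, 0] : Matrix (Fin 3) (Fin 2) ℤ) * (!![1; 1] : Matrix (Fin 2) (Fin 1) ℤ) = (!![1; 1; 0] : Matrix (Fin 3) (Fin 1) ℤ) := by decide
  have k3 : (!![1, 0; 0, 1; 0, 0] : Matrix (Fin 3) (Fin 2) ℤ) * (!![1; 0] : Matrix (Fin 2) (Fin 1) ℤ) = (!![1; 0; 0] : Matrix (Fin 3) (Fin 1) ℤ) := by decide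
  simp only [d1, d2, MonoidHom.mul_apply, MonoidHom.inv_apply, map_mul, map_inv, subU_subU,
    e1, e2, e3, f1, f2, f3, g1, g2, g3, k1, k2, k3]
  apply Additive.ofMul.injective
  simp only [ofMul_mul, ofMul_inv, ofMul_one]
  abel

variable {B : Type u} [CommRing B]

/-- Change of coefficients on units. -/
abbrev chg (φ : A →+* B) (n : ℕ) : (L A n)ˣ →* (L B n)ˣ :=
  Units.map (mapRingHom (Fin n → ℤ) φ).toMonoidHom

theorem chg_subU (φ : A →+* B) {m n : ℕ} (M : Matrix (Fin m) (Fin n) ℤ) (x : (L A n)ˣ) :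
    chg φ m (subU A M x) = subU B M (chg φ n x) :=
  Units.ext (RingHom.congr_fun (mapRingHom_comp_mapDomainRingHom φ (Matrix.mulVecLin M).toAddMonoidHom) (x : L A n))

theorem chg_d1 (φ : A →+* B) (x : (L A 1)ˣ) : chg φ 2 (d1 A x) = d1 B (chg φ 1 x) := by
  simp only [d1, MonoidHom.mul_apply, MonoidHom.inv_apply, map_mul, map_inv, chg_subU]

theorem chg_d2 (φ : A →+* B) (x : (L A 2)ˣ) : chg φ 3 (d2 A x) = d2 B (chg φ 2 x) := by
  simp only [d2, MonoidHom.mul_apply, MonoidHom.inv_apply, map_mul, map_inv, chg_subU]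

theorem mem_of_red {I : Ideal A} {G : Type} [AddCommMonoid G] (x : AddMonoidAlgebra A G)
    (h : mapRingHom G (Ideal.Quotient.mk I) x = 0) (g : G) : x.coeff g ∈ I := by
  rw [← Ideal.Quotient.eq_zero_iff_mem, ← coeff_mapRingHom, h]
  rfl

theorem mul_eq_zero_of_red {I : Ideal A} (hI : I ^ 2 = ⊥) {G : Type} [AddCommMonoid G]
    {x y : AddMonoidAlgebra A G} (hx : mapRingHom G (Ideal.Quotient.mk I) x = 0)
    (hy : mapRingHom G (Ideal.Quotient.mk I) y = 0) : x * y = 0 := by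
  classical
  ext g
  rw [AddMonoidAlgebra.coeff_mul]
  refine Finset.sum_eq_zero fun a _ => Finset.sum_eq_zero fun b _ => ?_
  have h : x.coeff a * y.coeff b ∈ I ^ 2 := by
    rw [sq]
    exact Ideal.mul_mem_mul (mem_of_red x hx a) (mem_of_red y hy b)
  rw [hI, Ideal.mem_bot] at h
  simp [h]

theorem nil_of_coeff {G : Type} [AddCommMonoid G] (x : AddMonoidAlgebra A G)
    (h : ∀ g, IsNilpotent (x.coeff g)) : IsNilpotent x := by
  rw [← AddMonoidAlgebra.sum_coeff_single x]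
  refine isNilpotent_sum fun g _ => ?_
  obtain ⟨k, hk⟩ := h g
  refine ⟨k, ?_⟩
  show (single g (x.coeff g)) ^ k = 0
  rw [AddMonoidAlgebra.single_pow, hk, AddMonoidAlgebra.single_zero]

theorem lift_unit {I : Ideal A} (hI : IsNilpotent I) (n : ℕ) (u : (L (A ⧸ I) n)ˣ) :
    ∃ v : (L A n)ˣ, chg (Ideal.Quotient.mk I) n v = u := by
  have hs : Function.Surjective (mapRingHom (Fin n → ℤ) (Ideal.Quotient.mk I)) :=
    AddMonoidAlgebra.map_surjective (f := (Ideal.Quotient.mk I).toAddMonoidHom) Ideal.Quotient.mk_surjective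
  obtain ⟨a, ha⟩ := hs (u : L (A ⧸ I) n)
  obtain ⟨b, hb⟩ := hs (↑u⁻¹ : L (A ⧸ I) n)
  have hz : mapRingHom (Fin n → ℤ) (Ideal.Quotient.mk I) (a * b - 1) = 0 := by
    rw [map_sub, map_mul, ha, hb, map_one, Units.mul_inv, sub_self]
  obtain ⟨k, hk⟩ := hI
  have hn : IsNilpotent (a * b - 1) := nil_of_coeff _ fun g => ⟨k, by
    have := Ideal.pow_mem_pow (mem_of_red _ hz g) k
    rwa [hk] at this⟩
  have hu : IsUnit (a * b) := by
    have := hn.isUnit_add_one
    rwa [sub_add_cancel] at this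
  exact ⟨(isUnit_of_mul_isUnit_left hu).unit, Units.ext ha⟩

theorem coeff_sub {m n : ℕ} (M : Matrix (Fin m) (Fin n) ℤ) (p : (Fin m → ℤ) → Prop) [DecidablePred p]
    (g : (Fin m → ℤ) → (Fin n → ℤ)) (hg : ∀ v, p v → M *ᵥ g v = v) (hl : ∀ w, g (M *ᵥ w) = w)
    (hp : ∀ w, p (M *ᵥ w)) (x : L A n) (v : Fin m → ℤ) :
    (sub A M x).coeff v = if p v then x.coeff (g v) else 0 := by
  show Finsupp.mapDomain (fun w => M *ᵥ w) x.coeff v = _
  split_ifs with h
  · conv_lhs => rw [← hg v h]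
    exact Finsupp.mapDomain_apply (Function.LeftInverse.injective hl) _ _
  · exact Finsupp.mapDomain_of_notMem_range _ _ (fun ⟨w, hw⟩ => h (hw ▸ hp w))

theorem ev32 (a b c d e f : ℤ) (w : Fin 2 → ℤ) :
    (!![a, b; c, d; e, f] : Matrix (Fin 3) (Fin 2) ℤ) *ᵥ w =
      ![a * w 0 + b * w 1, c * w 0 + d * w 1, e * w 0 + f * w 1] := by
  funext i
  fin_cases i <;> simp [Matrix.mulVec, dotProduct, Fin.sum_univ_two]

theorem ev21 (a b : ℤ) (w : Fin 1 → ℤ) :
    (!![a; b] : Matrix (Fin 2) (Fin 1) ℤ) *ᵥ w = ![a * w 0, b * w 0] := by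
  funext i
  fin_cases i <;> simp [Matrix.mulVec, dotProduct]

theorem vec2 (w : Fin 2 → ℤ) : ![w 0, w 1] = w := by funext i; fin_cases i <;> rfl

theorem vec1 (w : Fin 1 → ℤ) : ![w 0] = w := by funext i; fin_cases i; rfl

/-- The additive cocycle identity has only coboundary solutions. -/
theorem additive (x : L A 2)
    (h : sub A !![0, 0; 1, 0; 0, 1] x - sub A !![1, 0; 1, 0; 0, 1] x + sub A !![1, 0; 0, 1; 0, 1] x -
      sub A !![1, 0; 0, 1; 0, 0] x = 0) :
    ∃ y : L A 1, (∀ i, y.coeff i = x.coeff ![i 0, 0]) ∧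
      x = sub A !![0; 1] y - sub A !![1; 1] y + sub A !![1; 0] y := by
  have hinj : Function.Injective fun i : Fin 1 → ℤ => ![i 0, 0] := fun i j hij => by
    have := congrFun hij 0
    rw [← vec1 i, ← vec1 j]
    simpa using this
  refine ⟨comapDomain _ hinj x, fun i => by simp, ?_⟩
  have E : ∀ a b c : ℤ, (if a = 0 then x.coeff ![b, c] else 0) - (if a = b then x.coeff ![a, c] else 0)
      + (if b = c then x.coeff ![a, b] else 0) - (if c = 0 then x.coeff ![a, b] else 0) = 0 := by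
    intro a b c
    have := congrArg (fun z : L A 3 => z.coeff ![a, b, c]) h
    simp only [AddMonoidAlgebra.coeff_sub, AddMonoidAlgebra.coeff_add, Finsupp.sub_apply, Finsupp.add_apply,
      AddMonoidAlgebra.coeff_zero, Finsupp.zero_apply] at this
    rw [coeff_sub _ (fun v => v 0 = 0) (fun v => ![v 1, v 2]),
      coeff_sub _ (fun v => v 0 = v 1) (fun v => ![v 0, v 2]),
      coeff_sub _ (fun v => v 1 = v 2) (fun v => ![v 0, v 1]),
      coeff_sub _ (fun v => v 2 = 0) (fun v => ![v 0, v 1])] at this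
    · by_cases h1 : a = 0 <;> by_cases h2 : a = b <;> by_cases h3 : b = c <;> by_cases h4 : c = 0 <;>
        simp [h1, h2, h3, h4] at this ⊢ <;> simp_all
    all_goals first
      | (intro v hv; rw [ev32]; funext i; fin_cases i <;> simp [hv])
      | (intro w; rw [ev32]; conv_rhs => rw [← vec2 w]
         simp)
      | (intro w; rw [ev32]; simp)
  ext v
  simp only [AddMonoidAlgebra.coeff_sub, AddMonoidAlgebra.coeff_add, Finsupp.sub_apply, Finsupp.add_apply]
  rw [coeff_sub _ (fun v => v 0 = 0) (fun v => ![v 1]),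
    coeff_sub _ (fun v => v 0 = v 1) (fun v => ![v 0]),
    coeff_sub _ (fun v => v 1 = 0) (fun v => ![v 0])]
  · rw [← vec2 v]
    generalize v 0 = a, v 1 = b
    simp only [coeff_comapDomain, Finsupp.comapDomain_apply, Matrix.cons_val_zero, Matrix.cons_val_one]
    by_cases ha : a = 0
    · subst ha
      by_cases hb : b = 0
      · subst hb; simp
      · have := E 0 b 0
        simp [hb, Ne.symm hb] at this ⊢
        linear_combination -this
    · by_cases hb : b = 0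
      · subst hb; simp [ha]
      · by_cases hab : a = b
        · subst hab
          have h1 := E 0 a 0
          have h2 := E 0 a a
          simp [ha, Ne.symm ha] at h1 h2 ⊢
          linear_combination h2 + h1
        · have := E a a b
          simp [ha, hb, hab] at this ⊢
          exact this
  all_goals first
    | (intro v hv; rw [ev21]; funext i; fin_cases i <;> simp [hv])
    | (intro w; rw [ev21]; conv_rhs => rw [← vec1 w]
       simp)
    | (intro w; rw [ev21]; simp)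

/-- Square zero case. -/
theorem sq_case {I : Ideal A} (hI : I ^ 2 = ⊥) (ξ : (L A 2)ˣ) (hξ : d2 A ξ = 1)
    (h1 : chg (Ideal.Quotient.mk I) 2 ξ = 1) : ∃ η, ξ = d1 A η := by
  set ν : L A 2 := (ξ : L A 2) - 1 with hν
  have hν0 : mapRingHom _ (Ideal.Quotient.mk I) ν = 0 := by
    have := congrArg (fun z : (L (A ⧸ I) 2)ˣ => (z : L (A ⧸ I) 2)) h1
    simp only [Units.val_one] at this
    rw [hν, map_sub, map_one]
    exact sub_eq_zero.2 this
  have hsub0 : ∀ {m n : ℕ} (M : Matrix (Fin m) (Fin n) ℤ) (z : L A n),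
      mapRingHom _ (Ideal.Quotient.mk I) z = 0 → mapRingHom _ (Ideal.Quotient.mk I) (sub A M z) = 0 := fun M z hz => by
    rw [show mapRingHom _ (Ideal.Quotient.mk I) (sub A M z) = sub (A ⧸ I) M (mapRingHom _ (Ideal.Quotient.mk I) z) from
      RingHom.congr_fun (mapRingHom_comp_mapDomainRingHom (Ideal.Quotient.mk I) (Matrix.mulVecLin M).toAddMonoidHom) z,
      hz, map_zero]
  have hval : ∀ {m n : ℕ} (M : Matrix (Fin m) (Fin n) ℤ) (u : (L A n)ˣ) (z : L A n),
      (u : L A n) = 1 + z → mapRingHom _ (Ideal.Quotient.mk I) z = 0 →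
      (subU A M u : L A m) = 1 + sub A M z ∧ (↑(subU A M u)⁻¹ : L A m) = 1 - sub A M z := by
    intro m n M u z hu hz
    have h : (subU A M u : L A m) = 1 + sub A M z := by
      show sub A M (u : L A n) = _
      rw [hu, map_add, map_one]
    refine ⟨h, Units.inv_eq_of_mul_eq_one_right ?_⟩
    have := mul_eq_zero_of_red hI (hsub0 M z hz) (hsub0 M z hz)
    rw [h]
    linear_combination -this
  have hξν : (ξ : L A 2) = 1 + ν := by rw [hν]; ring
  set a1 := sub A !![0, 0; 1, 0; 0, 1] ν with ha1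
  set a2 := sub A !![1, 0; 1, 0; 0, 1] ν with ha2
  set a3 := sub A !![1, 0; 0, 1; 0, 1] ν with ha3
  set a4 := sub A !![1, 0; 0, 1; 0, 0] ν with ha4
  have p12 := mul_eq_zero_of_red hI (hsub0 !![0, 0; 1, 0; 0, 1] ν hν0) (hsub0 !![1, 0; 1, 0; 0, 1] ν hν0)
  have p34 := mul_eq_zero_of_red hI (hsub0 !![1, 0; 0, 1; 0, 1] ν hν0) (hsub0 !![1, 0; 0, 1; 0, 0] ν hν0)
  have p0 : (a1 - a2) * (a3 - a4) = 0 := by
    refine mul_eq_zero_of_red hI ?_ ?_ <;> simp only [ha1, ha2, ha3, ha4, map_sub] <;>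
      simp only [hsub0 _ ν hν0, sub_zero]
  have hadd : a1 - a2 + a3 - a4 = 0 := by
    have hz := congrArg (fun z : (L A 3)ˣ => (z : L A 3)) hξ
    simp only [d2, MonoidHom.mul_apply, MonoidHom.inv_apply, Units.val_mul, Units.val_one,
      (hval _ ξ ν hξν hν0).1, (hval _ ξ ν hξν hν0).2] at hz
    simp only [← ha1, ← ha2, ← ha3, ← ha4] at hz p12 p34
    linear_combination hz + (1 + a3) * (1 - a4) * p12 + (1 + a1 - a2) * p34 - p0
  obtain ⟨y, hy, hνy⟩ := additive ν hadd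
  have hy0 : mapRingHom _ (Ideal.Quotient.mk I) y = 0 := by
    ext i
    rw [coeff_mapRingHom, hy, AddMonoidAlgebra.coeff_zero, Finsupp.zero_apply, Ideal.Quotient.eq_zero_iff_mem]
    exact mem_of_red ν hν0 _
  have hyy := mul_eq_zero_of_red hI hy0 hy0
  refine ⟨⟨1 + y, 1 - y, by linear_combination -hyy, by linear_combination -hyy⟩, Units.ext ?_⟩
  set η : (L A 1)ˣ := ⟨1 + y, 1 - y, _, _⟩ with hη
  have hηv : (η : L A 1) = 1 + y := rfl
  simp only [d1, MonoidHom.mul_apply, MonoidHom.inv_apply, Units.val_mul, (hval _ η y hηv hy0).1,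
    (hval _ η y hηv hy0).2]
  have q12 := mul_eq_zero_of_red hI (hsub0 !![0; 1] y hy0) (hsub0 !![1; 1] y hy0)
  have q0 : (sub A !![0; 1] y - sub A !![1; 1] y) * sub A !![1; 0] y = 0 := by
    refine mul_eq_zero_of_red hI ?_ (hsub0 _ y hy0)
    rw [map_sub, hsub0 _ y hy0, hsub0 _ y hy0, sub_zero]
  rw [hξν]
  linear_combination hνy + (1 + sub A !![1; 0] y) * q12 - q0

end

/-- The statement for units which are trivial modulo a nilpotent ideal. -/
theorem nilpotent_case {A : Type u} [CommRing A] (I : Ideal A) (hI : IsNilpotent I) (ξ : (L A 2)ˣ)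
    (hξ : d2 A ξ = 1) (h1 : chg (Ideal.Quotient.mk I) 2 ξ = 1) : ∃ η, ξ = d1 A η := by
  suffices H : IsNilpotent I → ∀ ξ : (L A 2)ˣ, d2 A ξ = 1 → chg (Ideal.Quotient.mk I) 2 ξ = 1 → ∃ η, ξ = d1 A η from
    H hI ξ hξ h1
  clear hξ h1 ξ
  apply Ideal.IsNilpotent.induction_on (S := A) I hI (P := fun S _ J =>
    IsNilpotent J → ∀ ξ : (L S 2)ˣ, d2 S ξ = 1 → chg (Ideal.Quotient.mk J) 2 ξ = 1 → ∃ η, ξ = d1 S η)
  · intro S _ J hJ _ ξ hξ h1
    exact sq_case hJ ξ hξ h1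
  · intro S _ I J hle hPI hPJ hJ ξ hξ h1
    have hIn : IsNilpotent I := by
      obtain ⟨k, hk⟩ := hJ
      exact ⟨k, le_bot_iff.1 ((Ideal.pow_right_mono hle k).trans hk.le)⟩
    have hJ' : IsNilpotent (J.map (Ideal.Quotient.mk I)) := by
      obtain ⟨k, hk⟩ := hJ
      exact ⟨k, by rw [← Ideal.map_pow, hk]; simp⟩
    have hcomp : ∀ z : (L S 2)ˣ, chg (Ideal.Quotient.mk (J.map (Ideal.Quotient.mk I))) 2 (chg (Ideal.Quotient.mk I) 2 z) =
        chg (Ideal.quotientMap (J.map (Ideal.Quotient.mk I)) (Ideal.Quotient.mk I) Ideal.le_comap_map) 2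
          (chg (Ideal.Quotient.mk J) 2 z) := fun z => Units.ext <| AddMonoidAlgebra.ext <| Finsupp.ext fun v => by
      simp
    obtain ⟨ηb, hηb⟩ := hPJ hJ' (chg (Ideal.Quotient.mk I) 2 ξ) (by rw [← chg_d2, hξ, map_one])
      (by rw [hcomp, h1, map_one])
    obtain ⟨η, rfl⟩ := lift_unit hIn 1 ηb
    obtain ⟨η', hη'⟩ := hPI hIn (ξ * (d1 S η)⁻¹) (by rw [map_mul, map_inv, hξ, d2_d1, inv_one, one_mul])
      (by rw [map_mul, map_inv, chg_d1, hηb, mul_inv_cancel])
    exact ⟨η' * η, by rw [map_mul, ← hη', inv_mul_cancel_right]⟩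

/-- Units of Laurent polynomials over a domain are monomials. -/
theorem monomial {D : Type u} [CommRing D] [IsDomain D] {n : ℕ} (u : (L D n)ˣ) :
    ∃ m c, c ≠ 0 ∧ (u : L D n) = single m c := by
  classical
  set a : L D n := (u : L D n)
  set b : L D n := ((u⁻¹ : (L D n)ˣ) : L D n)
  have hab : a * b = 1 := u.mul_inv
  have ha : a.coeff.support.Nonempty := by
    rw [Finsupp.support_nonempty_iff, ne_eq, AddMonoidAlgebra.coeff_eq_zero]
    exact u.ne_zero
  have hb : b.coeff.support.Nonempty := by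
    rw [Finsupp.support_nonempty_iff, ne_eq, AddMonoidAlgebra.coeff_eq_zero]
    exact u⁻¹.ne_zero
  have hle : a.coeff.support.card * b.coeff.support.card ≤ 1 := by
    by_contra hlt
    obtain ⟨p, hp, q, hq, hne, hup, huq⟩ := TwoUniqueSums.uniqueAdd_of_one_lt_card (not_le.1 hlt)
    rw [Finset.mem_product] at hp hq
    have h0 : ∀ r : (Fin n → ℤ) × (Fin n → ℤ), r.1 ∈ a.coeff.support → r.2 ∈ b.coeff.support →
        UniqueAdd a.coeff.support b.coeff.support r.1 r.2 → r.1 + r.2 = 0 := by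
      intro r h1 h2 hu
      by_contra hr
      have := AddMonoidAlgebra.coeff_mul_add_of_uniqueAdd hu
      rw [hab, AddMonoidAlgebra.one_def, AddMonoidAlgebra.coeff_single, Finsupp.single_eq_of_ne hr] at this
      exact mul_ne_zero (Finsupp.mem_support_iff.1 h1) (Finsupp.mem_support_iff.1 h2) this.symm
    have hsum : p.1 + p.2 = q.1 + q.2 := (h0 p hp.1 hp.2 hup).trans (h0 q hq.1 hq.2 huq).symm
    obtain ⟨e1, e2⟩ := huq hp.1 hp.2 hsum
    exact hne (Prod.ext e1 e2)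
  have hcard : a.coeff.support.card = 1 := by
    have h1 := ha.card_pos
    have h2 := hb.card_pos
    nlinarith
  obtain ⟨m, c, hc, e⟩ := Finsupp.card_support_eq_one'.1 hcard
  exact ⟨m, c, hc, AddMonoidAlgebra.ext (by rw [AddMonoidAlgebra.coeff_single]; exact e)⟩

/-- Over a domain a cocycle is a constant. -/
theorem domain_case {D : Type u} [CommRing D] [IsDomain D] (ξ : (L D 2)ˣ) (hξ : d2 D ξ = 1) :
    ∃ c, c ≠ 0 ∧ (ξ : L D 2) = single 0 c := by
  obtain ⟨m, c, hc, hm⟩ := monomial ξ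
  refine ⟨c, hc, ?_⟩
  simp only [d2, MonoidHom.mul_apply, MonoidHom.inv_apply] at hξ
  rw [mul_inv_eq_one, mul_right_comm, mul_inv_eq_iff_eq_mul] at hξ
  have h := congrArg (fun z : (L D 3)ˣ => (z : L D 3)) hξ
  simp only [Units.val_mul, Units.coe_map, RingHom.toMonoidHom_eq_coe, MonoidHom.coe_coe, hm,
    mapDomainRingHom_apply, mapDomain_single, single_mul_single] at h
  rw [← AddMonoidAlgebra.coeff_inj, AddMonoidAlgebra.coeff_single, AddMonoidAlgebra.coeff_single] at h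
  have hcc : c * c ≠ 0 := mul_ne_zero hc hc
  have hv := Finsupp.single_left_injective hcc h
  simp only [LinearMap.toAddMonoidHom_coe, Matrix.mulVecLin_apply, ev32] at hv
  have h0 := congrFun hv 0
  have h2 := congrFun hv 2
  simp at h0 h2
  have : m = 0 := by
    refine funext (Fin.forall_fin_two.2 ⟨?_, ?_⟩) <;> simp only [Pi.zero_apply] <;> omega
  rw [hm, this]

/-- For any commutative ring A, the second cohomology of the complex of unit groups A[t₁^±]ˣ → A[t₁^±,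
t₂^±]ˣ → A[t₁^±, t₂^±, t₃^±]ˣ → ⋯ attached to the cosimplicial ring of Laurent polynomial rings
(coface maps (t₁, t₂) ↦ (t₂, t₃), (t₁t₂, t₃), (t₁, t₂t₃), (t₁, t₂) and t₁ ↦ t₂, t₁t₂, t₁) vanishes:
every unit ξ of A[t₁^±, t₂^±] with ξ(t₂,t₃) ξ(t₁t₂,t₃)⁻¹ ξ(t₁,t₂t₃) ξ(t₁,t₂)⁻¹ = 1 is of the form
η(t₂) η(t₁t₂)⁻¹ η(t₁) for a unit η of A[t^±]. Laurent polynomial rings are written as group algebras
of ℤ^p and the coface maps as the maps induced by the corresponding additive maps ℤ^p → ℤ^(p+1). -/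
theorem result (A : Type u) [CommRing A] (ξ : (AddMonoidAlgebra A (Fin 2 → ℤ))ˣ)
    (hξ : Units.map (AddMonoidAlgebra.mapDomainRingHom A
          (Matrix.mulVecLin (!![0, 0; 1, 0; 0, 1] : Matrix (Fin 3) (Fin 2) ℤ)).toAddMonoidHom).toMonoidHom ξ *
        (Units.map (AddMonoidAlgebra.mapDomainRingHom A
          (Matrix.mulVecLin (!![1, 0; 1, 0; 0, 1] : Matrix (Fin 3) (Fin 2) ℤ)).toAddMonoidHom).toMonoidHom ξ)⁻¹ *
        Units.map (AddMonoidAlgebra.mapDomainRingHom A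
          (Matrix.mulVecLin (!![1, 0; 0, 1; 0, 1] : Matrix (Fin 3) (Fin 2) ℤ)).toAddMonoidHom).toMonoidHom ξ *
        (Units.map (AddMonoidAlgebra.mapDomainRingHom A
          (Matrix.mulVecLin (!![1, 0; 0, 1; 0, 0] : Matrix (Fin 3) (Fin 2) ℤ)).toAddMonoidHom).toMonoidHom ξ)⁻¹ = 1) :
    ∃ η : (AddMonoidAlgebra A (Fin 1 → ℤ))ˣ,
      ξ = Units.map (AddMonoidAlgebra.mapDomainRingHom A
          (Matrix.mulVecLin (!![0; 1] : Matrix (Fin 2) (Fin 1) ℤ)).toAddMonoidHom).toMonoidHom η *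
        (Units.map (AddMonoidAlgebra.mapDomainRingHom A
          (Matrix.mulVecLin (!![1; 1] : Matrix (Fin 2) (Fin 1) ℤ)).toAddMonoidHom).toMonoidHom η)⁻¹ *
        Units.map (AddMonoidAlgebra.mapDomainRingHom A
          (Matrix.mulVecLin (!![1; 0] : Matrix (Fin 2) (Fin 1) ℤ)).toAddMonoidHom).toMonoidHom η := by
  classical
  have hξ' : d2 A ξ = 1 := hξ
  show ∃ η, ξ = d1 A η
  set x : L A 2 := (ξ : L A 2) with hx
  set c := x.coeff 0 with hc0
  -- modulo every prime, `ξ` is a non-zero constant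
  have hp : ∀ p : Ideal A, p.IsPrime → c ∉ p ∧ ∀ v, v ≠ 0 → x.coeff v ∈ p := by
    intro p hp
    obtain ⟨d, hd, he⟩ := domain_case (chg (Ideal.Quotient.mk p) 2 ξ) (by rw [← chg_d2, hξ', map_one])
    have hco : ∀ v, Ideal.Quotient.mk p (x.coeff v) = (Finsupp.single (0 : Fin 2 → ℤ) d) v := fun v => by
      rw [← coeff_mapRingHom, ← AddMonoidAlgebra.coeff_single, ← he]
      rfl
    refine ⟨fun hcp => hd ?_, fun v hv => ?_⟩
    · have := hco 0
      rwa [Finsupp.single_eq_same, ← hc0, Ideal.Quotient.eq_zero_iff_mem.2 hcp, eq_comm] at this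
    · rw [← Ideal.Quotient.eq_zero_iff_mem, hco, Finsupp.single_eq_of_ne hv]
  have hcu : IsUnit c := by
    by_contra hcn
    obtain ⟨p, hpm, hcp⟩ := exists_max_ideal_of_mem_nonunits hcn
    exact (hp p hpm.isPrime).1 hcp
  let S : Finset A := (x.coeff.support.erase 0).image x.coeff
  let I : Ideal A := Ideal.span (S : Set A)
  have hI : IsNilpotent I := by
    have hfg : I.FG := ⟨S, rfl⟩
    rw [Ideal.FG.isNilpotent_iff_le_nilradical hfg, Ideal.span_le]
    intro a ha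
    simp only [S, Finset.coe_image, Set.mem_image, Finset.mem_coe, Finset.mem_erase] at ha
    obtain ⟨v, ⟨hv, -⟩, rfl⟩ := ha
    rw [SetLike.mem_coe, nilradical_eq_sInf, Ideal.mem_sInf]
    exact fun {p} hp' => (hp p hp').2 v hv
  let η0 : (L A 1)ˣ := Units.map (AddMonoidAlgebra.singleZeroRingHom : A →+* L A 1).toMonoidHom hcu.unit
  have hη0 : ((d1 A η0 : (L A 2)ˣ) : L A 2) = single 0 c := by
    have hU : ∀ M : Matrix (Fin 2) (Fin 1) ℤ, subU A M η0 =
        Units.map (AddMonoidAlgebra.singleZeroRingHom : A →+* L A 2).toMonoidHom hcu.unit := fun M => by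
      apply Units.ext
      show sub A M (single 0 c) = single 0 c
      simp
    simp only [d1, MonoidHom.mul_apply, MonoidHom.inv_apply, hU, mul_inv_cancel, one_mul]
    rfl
  obtain ⟨η, hη⟩ := nilpotent_case I hI (ξ * (d1 A η0)⁻¹) (by rw [map_mul, map_inv, hξ', d2_d1, inv_one, one_mul])
    (by
      rw [map_mul, map_inv, mul_inv_eq_one]
      apply Units.ext
      show mapRingHom _ (Ideal.Quotient.mk I) x = mapRingHom _ (Ideal.Quotient.mk I) (d1 A η0 : L A 2)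
      rw [hη0]
      ext v
      rw [coeff_mapRingHom, coeff_mapRingHom, AddMonoidAlgebra.coeff_single]
      by_cases hv : v = 0
      · subst hv
        rw [Finsupp.single_eq_same]
      · rw [Finsupp.single_eq_of_ne hv, map_zero, Ideal.Quotient.eq_zero_iff_mem]
        by_cases hs : x.coeff v = 0
        · rw [hs]; exact I.zero_mem
        · exact Ideal.subset_span (Finset.mem_coe.2 (Finset.mem_image_of_mem _ (Finset.mem_erase.2
            ⟨hv, Finsupp.mem_support_iff.2 hs⟩))))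
  exact ⟨η * η0, by rw [map_mul, ← hη, inv_mul_cancel_right]⟩

end

end Groth.Agent.S13793
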