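import Groth.Statements.S13794
import Mathlib.Tactic
-- import your own Groth.Agent.* helpers here

set_option autoImplicit false
universe u
open Polynomial
open Curves

namespace Groth.Agent.S13794

/-- Let k be a field of characteristic not 3 and β ∈ k. If a line ax + by + c = 0 with a³ ≠ b³ is the
tangent line at a flex point of the affine cubic x³ + y³ + β = 3xy, then β is a cube in k. Here the
line is normalised to b ≠ 0 (the roles of x and y are symmetric) and the flex-tangency is expressed
by the restriction of the cubic to the line being λ (x − x₀)³. -/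
theorem result {k : Type u} [Field k] (h3 : (3 : k) ≠ 0)
    (β a b c : k) (hb : b ≠ 0) (hab : a ^ 3 ≠ b ^ 3) (lam x₀ : k)
    (hflex : (X : k[X]) ^ 3 + (C (-a / b) * X + C (-c / b)) ^ 3 + C β - 3 * X * (C (-a / b) * X + C (-c / b)) =
      C lam * (X - C x₀) ^ 3) :
    ∃ γ : k, β = γ ^ 3 := by
  set A := -a / b with hA
  set D := -c / b with hD
  have hl : (X : k[X]) ^ 3 + (C A * X + C D) ^ 3 + C β - 3 * X * (C A * X + C D) =
      C (1 + A ^ 3) * X ^ 3 + C (3 * (A ^ 2 * D - A)) * X ^ 2 + C (3 * (A * D ^ 2 - D)) * X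
        + C (D ^ 3 + β) := by
    simp only [map_add, map_mul, map_sub, map_pow, map_one, map_ofNat]; ring
  have hr : C lam * ((X : k[X]) - C x₀) ^ 3 =
      C lam * X ^ 3 + C (3 * (-(lam * x₀))) * X ^ 2 + C (3 * (lam * x₀ ^ 2)) * X
        + C (-(lam * x₀ ^ 3)) := by
    simp only [map_mul, map_neg, map_pow, map_ofNat]; ring
  rw [hl, hr] at hflex
  have c3 := congrArg (fun q => q.coeff 3) hflex
  have c2 := congrArg (fun q => q.coeff 2) hflex
  have c1 := congrArg (fun q => q.coeff 1) hflex
  have c0 := congrArg (fun q => q.coeff 0) hflex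
  simp only [coeff_add, coeff_C_mul, coeff_X_pow, coeff_X, coeff_C] at c3 c2 c1 c0
  norm_num [h3] at c3 c2 c1 c0
  replace c2 : A ^ 2 * D - A = -(lam * x₀) := mul_left_cancel₀ h3 (by linear_combination c2)
  have hlam : 1 + A ^ 3 ≠ 0 := by
    intro h0
    apply hab
    rw [hA] at h0
    field_simp at h0
    linear_combination -h0
  by_cases hAD : A * D = 1
  · have hx : lam * x₀ = 0 := by linear_combination c2 - A * hAD
    have hx0 : x₀ = 0 := by
      rcases mul_eq_zero.1 hx with h | h
      · exact absurd (c3.trans h) hlam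
      · exact h
    refine ⟨-D, ?_⟩
    subst hx0
    linear_combination c0
  · have key : (A * D - 1) * (A ^ 2 * (A * D - 1) - (1 + A ^ 3) * D) = 0 := by
      linear_combination (A ^ 2 * D - A - lam * x₀) * c2 - lam * c1 + (A*D^2 - D) * c3 * (-1)
    have hD2 : D = -A ^ 2 := by
      rcases mul_eq_zero.1 key with h | h
      · exact absurd (sub_eq_zero.1 h) hAD
      · linear_combination -h
    have hx : (1 + A ^ 3) * x₀ = (1 + A ^ 3) * A := by
      rw [hD2] at c2; linear_combination x₀ * c3 + c2
    have hx0 := mul_left_cancel₀ hlam hx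
    refine ⟨-A, ?_⟩
    rw [hD2, hx0, ← c3] at c0
    linear_combination c0

end Groth.Agent.S13794
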