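import Groth.Statements.S13797
import Groth.Agent.Lib.Brauer25.EndIso

set_option autoImplicit false
universe u
open scoped TensorProduct
open Brauer

namespace Groth.Agent.S13797

/-- In the case of an affine scheme — let A be a commutative ring, n ≥ 1 and α an A-algebra automorphism
of the n × n matrix algebra over A. The A-module L of matrices M with M N = α(N) M for every matrix
N (the module of sections of the line bundle attached to the torsor of liftings of α to GL_n) is
invertible, and its class in the Picard group of A is n-torsion: the n-fold tensor power of L is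
isomorphic to A (existence of an isomorphism only). (The published statement is for an automorphism
of End(O^n) on any locally ringed site, in the form: the sheaf of liftings is a 𝔾_m-torsor whose
class in Pic is n-torsion; this row is the affine case.) -/
theorem result (A : Type u) [CommRing A] (n : ℕ) (hn : 0 < n)
    (α : Matrix (Fin n) (Fin n) A ≃ₐ[A] Matrix (Fin n) (Fin n) A) :
    Module.Invertible A
        (LinearMap.ker (LinearMap.mul A (Matrix (Fin n) (Fin n) A) -
          (LinearMap.lcomp A (Matrix (Fin n) (Fin n) A) α.toLinearMap).comp (LinearMap.mul A (Matrix (Fin n) (Fin n) A)).flip)) ∧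
      Nonempty ((⨂[A] _ : Fin n,
          LinearMap.ker (LinearMap.mul A (Matrix (Fin n) (Fin n) A) -
            (LinearMap.lcomp A (Matrix (Fin n) (Fin n) A) α.toLinearMap).comp (LinearMap.mul A (Matrix (Fin n) (Fin n) A)).flip)) ≃ₗ[A] A) := by
  let L := LinearMap.ker (LinearMap.mul A (Matrix (Fin n) (Fin n) A) -
    (LinearMap.lcomp A (Matrix (Fin n) (Fin n) A) α.toLinearMap).comp (LinearMap.mul A (Matrix (Fin n) (Fin n) A)).flip)
  have hL : ∀ M, M ∈ L ↔ ∀ N, M * N = α N * M := fun M => by
    simp [L, LinearMap.mem_ker, LinearMap.ext_iff, sub_eq_zero]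
  let T := (Matrix.toLinAlgEquiv' : Matrix (Fin n) (Fin n) A ≃ₐ[A] _)
  let φ : Module.End A (Fin n → A) ≃ₐ[A] Module.End A (Fin n → A) := T.symm.trans (α.trans T)
  haveI : Module.FaithfullyFlat A (Fin n → A) :=
    { submodule_ne_top := fun m hm htop => by
        haveI : Nonempty (Fin n) := ⟨⟨0, hn⟩⟩
        obtain ⟨i⟩ := ‹Nonempty (Fin n)›
        have h : ∀ x ∈ m • (⊤ : Submodule A (Fin n → A)), x i ∈ m := fun x hx =>
          Submodule.smul_induction_on hx (fun a ha y _ => m.mul_mem_right _ ha)
            (fun x y hx hy => m.add_mem hx hy)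
        have := h (fun _ => 1) (by rw [htop]; exact Submodule.mem_top)
        exact hm.ne_top ((Ideal.eq_top_iff_one m).2 this) }
  have hto : ∀ M ∈ L, T M ∈ Groth.Agent.Brauer25.EndIso.Inter φ := by
    intro M hM f x
    obtain ⟨N, rfl⟩ := T.surjective f
    have h := congrArg T ((hL M).1 hM N)
    rw [map_mul, map_mul] at h
    show φ (T N) (T M x) = T M (T N x)
    rw [show φ (T N) = T (α N) by simp [φ]]
    exact (LinearMap.congr_fun h x).symm
  have hfrom : ∀ ξ ∈ Groth.Agent.Brauer25.EndIso.Inter φ, T.symm ξ ∈ L := by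
    intro ξ hξ
    rw [hL]
    intro N
    apply T.injective
    rw [map_mul, map_mul, AlgEquiv.apply_symm_apply]
    refine LinearMap.ext fun x => ?_
    have := hξ (T N) x
    rw [show φ (T N) = T (α N) by simp [φ]] at this
    exact this.symm
  let e : L ≃ₗ[A] Groth.Agent.Brauer25.EndIso.Inter φ :=
    { toFun := fun M => ⟨T M.1, hto _ M.2⟩
      invFun := fun ξ => ⟨T.symm ξ.1, hfrom _ ξ.2⟩
      map_add' := fun M M' => Subtype.ext (map_add T M.1 M'.1)
      map_smul' := fun c M => Subtype.ext (map_smul T c M.1)
      left_inv := fun M => Subtype.ext (T.symm_apply_apply M.1)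
      right_inv := fun ξ => Subtype.ext (T.apply_symm_apply ξ.1) }
  haveI := Groth.Agent.Brauer25.EndIso.invertible φ
  haveI hinv : Module.Invertible A L := Module.Invertible.congr e.symm
  refine ⟨hinv, Groth.Agent.Brauer25.EndIso.matrix_tensorPower n L hn
    (fun M hM N => ⟨α N, (hL M).1 hM N⟩) ?_⟩
  intro m hm
  by_contra! h
  let i : Fin n := ⟨0, hn⟩
  have hz : ∀ z, (Groth.Agent.Brauer25.EndIso.ev φ z) i ∈ m := by
    intro z
    induction z using TensorProduct.induction_on with
    | zero => simp
    | add x y hx hy => rw [map_add]; exact m.add_mem hx hy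
    | tmul x ξ =>
      obtain ⟨⟨M, hM⟩, rfl⟩ := e.surjective ξ
      show (T M x) i ∈ m
      rw [show T M x = M.mulVec x from rfl]
      rw [Matrix.mulVec, dotProduct]
      exact m.sum_mem fun j _ => m.mul_mem_right _ (h M hM i j)
  obtain ⟨z, hz'⟩ := (Groth.Agent.Brauer25.EndIso.ev_bijective φ).2 (fun _ => 1)
  have := hz z
  rw [hz'] at this
  exact hm.ne_top ((Ideal.eq_top_iff_one m).2 this)
end Groth.Agent.S13797
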