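import Groth.Statements.S13798
import Mathlib

set_option autoImplicit false
universe u
open CategoryTheory CategoryTheory.Limits AlgebraicGeometry Opposite
open Curves

namespace Groth.Agent.S13798


section
open AddMonoidAlgebra

theorem isUnit_single_of {A G : Type*} [CommRing A] [IsDomain A] [AddCommGroup G] [TwoUniqueSums G]
    {f : AddMonoidAlgebra A G} (hf : IsUnit f) :
    ∃ (m : G) (a : A), IsUnit a ∧ f = AddMonoidAlgebra.single m a := by
  classical
  obtain ⟨g, hg⟩ := hf.exists_right_inv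
  have hf0 : f ≠ 0 := fun h => one_ne_zero (α := AddMonoidAlgebra A G) (by rw [← hg, h, zero_mul])
  have hg0 : g ≠ 0 := fun h => one_ne_zero (α := AddMonoidAlgebra A G) (by rw [← hg, h, mul_zero])
  have hfs : f.coeff.support.Nonempty := Finsupp.support_nonempty_iff.2 (by simpa using hf0)
  have hgs : g.coeff.support.Nonempty := Finsupp.support_nonempty_iff.2 (by simpa using hg0)
  have hkey : ∀ a b, a ∈ f.coeff.support → b ∈ g.coeff.support →
      UniqueAdd f.coeff.support g.coeff.support a b → a + b = 0 := by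
    intro a b ha hb hu
    by_contra hne
    have h1 : (f * g).coeff (a + b) = f.coeff a * g.coeff b :=
      AddMonoidAlgebra.coeff_mul_add_of_uniqueAdd hu
    rw [hg, AddMonoidAlgebra.one_def, AddMonoidAlgebra.coeff_single, Finsupp.single_apply,
      if_neg (Ne.symm hne)] at h1
    exact mul_ne_zero (Finsupp.mem_support_iff.1 ha) (Finsupp.mem_support_iff.1 hb) h1.symm
  have hcard : f.coeff.support.card * g.coeff.support.card ≤ 1 := by
    by_contra h
    obtain ⟨p1, hp1, p2, hp2, hne, hu1, hu2⟩ := TwoUniqueSums.uniqueAdd_of_one_lt_card (not_le.1 h)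
    obtain ⟨h1a, h1b⟩ := Finset.mem_product.1 hp1
    obtain ⟨h2a, h2b⟩ := Finset.mem_product.1 hp2
    have e := hu1 h2a h2b ((hkey _ _ h2a h2b hu2).trans (hkey _ _ h1a h1b hu1).symm)
    exact hne (Prod.ext e.1.symm e.2.symm)
  have hf1 : f.coeff.support.card = 1 := by
    have := hfs.card_pos
    have := hgs.card_pos
    nlinarith
  have hg1 : g.coeff.support.card = 1 := by
    have := hfs.card_pos
    have := hgs.card_pos
    nlinarith
  obtain ⟨m, a, ha0, hma⟩ := Finsupp.card_support_eq_one'.1 hf1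
  obtain ⟨m', b, hb0, hmb⟩ := Finsupp.card_support_eq_one'.1 hg1
  have hf' : f = AddMonoidAlgebra.single m a := AddMonoidAlgebra.coeff_injective (by simpa using hma)
  have hg' : g = AddMonoidAlgebra.single m' b := AddMonoidAlgebra.coeff_injective (by simpa using hmb)
  refine ⟨m, a, ?_, hf'⟩
  rw [hf', hg', AddMonoidAlgebra.single_mul_single, AddMonoidAlgebra.one_def] at hg
  have := congrArg (fun x => x.coeff (0 : G)) hg
  simp only [AddMonoidAlgebra.coeff_single, Finsupp.single_apply, if_pos rfl] at this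
  split_ifs at this with h
  · exact IsUnit.of_mul_eq_one _ this
  · exact absurd this.symm one_ne_zero

open AlgebraicGeometry CategoryTheory CategoryTheory.Limits

variable (n : ℕ)

/-- Laurent polynomials over `A` -/
noncomputable abbrev Laur (A : Type u) [CommRing A] : CommRingCat.{u} :=
  CommRingCat.of (AddMonoidAlgebra A (Fin n → ℤ))

/-- the coordinate ring of the torus -/
noncomputable abbrev TR : CommRingCat.{u} := CommRingCat.of (ULift.{u} (AddMonoidAlgebra ℤ (Fin n → ℤ)))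

/-- constants -/
noncomputable abbrev cst (A : CommRingCat.{u}) : A ⟶ Laur n A :=
  CommRingCat.ofHom AddMonoidAlgebra.singleZeroRingHom

/-- the map from the integral Laurent polynomials -/
noncomputable abbrev cTor (A : CommRingCat.{u}) : TR n ⟶ Laur n A :=
  CommRingCat.ofHom ((AddMonoidAlgebra.mapRingHom (Fin n → ℤ) (Int.castRingHom A)).comp
    (ULift.ringEquiv.toRingHom))

/-- evaluation at the unit point -/
noncomputable abbrev evOne (A : CommRingCat.{u}) : Laur n A ⟶ A :=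
  CommRingCat.ofHom (AddMonoidAlgebra.liftNCRingHom (RingHom.id A) 1 fun _ _ => Commute.all _ _)

@[simp] theorem ringEquiv_up {R : Type*} [NonUnitalNonAssocSemiring R] (x : R) :
    ULift.ringEquiv (ULift.up x : ULift.{u} R) = x := rfl

theorem torusHom_ext {B : Type u} [CommRing B] {φ ψ : ULift.{u} (AddMonoidAlgebra ℤ (Fin n → ℤ)) →+* B}
    (h : ∀ g, φ (ULift.up (AddMonoidAlgebra.single g 1)) = ψ (ULift.up (AddMonoidAlgebra.single g 1))) :
    φ = ψ := by
  have h1 : φ.comp ULift.ringEquiv.symm.toRingHom = ψ.comp ULift.ringEquiv.symm.toRingHom :=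
    AddMonoidAlgebra.ringHom_ext (fun z => by
      have e1 : φ.comp ULift.ringEquiv.symm.toRingHom (AddMonoidAlgebra.single 0 z) =
          ψ.comp ULift.ringEquiv.symm.toRingHom (AddMonoidAlgebra.single 0 z) := by
        have := RingHom.ext_int ((φ.comp ULift.ringEquiv.symm.toRingHom).comp AddMonoidAlgebra.singleZeroRingHom)
          ((ψ.comp ULift.ringEquiv.symm.toRingHom).comp AddMonoidAlgebra.singleZeroRingHom)
        exact RingHom.congr_fun this z
      exact e1) h
  ext x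
  exact RingHom.congr_fun h1 x.down

theorem eq_toSpecΓ {Y : Scheme.{u}} {R : CommRingCat.{u}} (h : Y ⟶ Spec R) :
    Y.toSpecΓ ≫ Spec.map ((Scheme.ΓSpecIso R).inv ≫ h.appTop) = h := by
  rw [Spec.map_comp, ← Category.assoc, ← Scheme.toSpecΓ_naturality, Category.assoc,
    toSpecΓ_SpecMap_ΓSpecIso_inv, Category.comp_id]

variable {n} {X : Scheme.{u}}

local notation "PP" => X ⨯ Spec (TR n)

/-- a chart of the product -/
noncomputable abbrev chart {A : CommRingCat.{u}} (s : Spec A ⟶ X) : Spec (Laur n A) ⟶ X ⨯ Spec (TR n) :=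
  prod.lift (Spec.map (cst n A) ≫ s) (Spec.map (cTor n A))

/-- pullback of functions to a chart -/
noncomputable abbrev pullC {A : CommRingCat.{u}} (s : Spec A ⟶ X) : Γ(X ⨯ Spec (TR n), ⊤) →+* Laur n A :=
  ((chart s).appTop ≫ (Scheme.ΓSpecIso (Laur n A)).hom).hom

theorem pullC_fst {A : CommRingCat.{u}} (s : Spec A ⟶ X) (x : Γ(X, ⊤)) :
    pullC (n := n) s ((prod.fst : X ⨯ Spec (TR n) ⟶ X).appTop x) =
      AddMonoidAlgebra.single 0 ((Scheme.ΓSpecIso A).hom (s.appTop x)) := by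
  have h : (prod.fst : X ⨯ Spec (TR n) ⟶ X).appTop ≫ (chart s).appTop ≫ (Scheme.ΓSpecIso (Laur n A)).hom =
      s.appTop ≫ (Scheme.ΓSpecIso A).hom ≫ cst n A := by
    rw [← Category.assoc, ← Scheme.Hom.comp_appTop, prod.lift_fst, Scheme.Hom.comp_appTop, Category.assoc,
      Scheme.ΓSpecIso_naturality]
  exact ConcreteCategory.congr_hom h x

theorem pullC_snd {A : CommRingCat.{u}} (s : Spec A ⟶ X) (m : Fin n → ℤ) :
    pullC (n := n) s ((prod.snd : X ⨯ Spec (TR n) ⟶ Spec (TR n)).appTop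
        ((Scheme.ΓSpecIso (TR n)).inv (ULift.up (AddMonoidAlgebra.single m 1)))) =
      AddMonoidAlgebra.single m 1 := by
  have h : (Scheme.ΓSpecIso (TR n)).inv ≫ (prod.snd : X ⨯ Spec (TR n) ⟶ Spec (TR n)).appTop ≫
      (chart s).appTop ≫ (Scheme.ΓSpecIso (Laur n A)).hom = cTor n A := by
    rw [← Category.assoc (prod.snd : X ⨯ Spec (TR n) ⟶ Spec (TR n)).appTop, ← Scheme.Hom.comp_appTop,
      prod.lift_snd, Scheme.ΓSpecIso_naturality, Iso.inv_hom_id_assoc]
  refine (ConcreteCategory.congr_hom h (ULift.up (AddMonoidAlgebra.single m 1))).trans ?_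
  simp [cTor]

theorem chart_natural {A B : CommRingCat.{u}} (φ : A ⟶ B) (s : Spec A ⟶ X) (s' : Spec B ⟶ X)
    (h : Spec.map φ ≫ s = s') :
    Spec.map (CommRingCat.ofHom (AddMonoidAlgebra.mapRingHom (Fin n → ℤ) φ.hom)) ≫ chart (n := n) s =
      chart (n := n) s' := by
  apply prod.hom_ext
  · rw [Category.assoc, prod.lift_fst, prod.lift_fst, ← h, ← Category.assoc, ← Spec.map_comp,
      ← Category.assoc, ← Spec.map_comp]
    congr 2
    ext x
    simp [cst]
  · rw [Category.assoc, prod.lift_snd, prod.lift_snd, ← Spec.map_comp]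
    congr 1
    apply CommRingCat.hom_ext
    refine torusHom_ext n fun g => ?_
    simp [cTor]

theorem pullC_natural {A B : CommRingCat.{u}} (φ : A ⟶ B) (s : Spec A ⟶ X) (s' : Spec B ⟶ X)
    (h : Spec.map φ ≫ s = s') (v : Γ(X ⨯ Spec (TR n), ⊤)) :
    pullC (n := n) s' v = AddMonoidAlgebra.mapRingHom (Fin n → ℤ) φ.hom (pullC (n := n) s v) := by
  have h2 : (chart (n := n) s').appTop ≫ (Scheme.ΓSpecIso (Laur n B)).hom =
      ((chart (n := n) s).appTop ≫ (Scheme.ΓSpecIso (Laur n A)).hom) ≫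
        CommRingCat.ofHom (AddMonoidAlgebra.mapRingHom (Fin n → ℤ) φ.hom) := by
    rw [← chart_natural φ s s' h, Scheme.Hom.comp_appTop, Category.assoc, Scheme.ΓSpecIso_naturality,
      Category.assoc]
  exact ConcreteCategory.congr_hom h2 v

variable (n) (X)

/-- the unit section -/
noncomputable def unitSec : X ⟶ X ⨯ Spec (TR n) :=
  prod.lift (𝟙 X) (X.toSpecΓ ≫ Spec.map (CommRingCat.ofHom
    ((AddMonoidAlgebra.liftNCRingHom (Int.castRingHom Γ(X, ⊤)) 1 fun _ _ => Commute.all _ _).comp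
      (ULift.ringEquiv.toRingHom : ULift.{u} (AddMonoidAlgebra ℤ (Fin n → ℤ)) →+* _))))

variable {n} {X}

theorem pullC_unitSec {A : CommRingCat.{u}} (s : Spec A ⟶ X) (v : Γ(X ⨯ Spec (TR n), ⊤)) :
    (Scheme.ΓSpecIso A).hom (s.appTop ((unitSec n X).appTop v)) = evOne n A (pullC (n := n) s v) := by
  have h1 : Spec.map (evOne n A) ≫ chart (n := n) s = s ≫ unitSec n X := by
    apply prod.hom_ext
    · rw [Category.assoc, prod.lift_fst, Category.assoc, unitSec, prod.lift_fst, Category.comp_id,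
        ← Category.assoc, ← Spec.map_comp]
      rw [show cst n A ≫ evOne n A = 𝟙 A by ext x; simp [cst, evOne, AddMonoidAlgebra.liftNCRingHom_single],
        Spec.map_id, Category.id_comp]
    · rw [Category.assoc, prod.lift_snd, Category.assoc, unitSec, prod.lift_snd, ← Category.assoc,
        Scheme.toSpecΓ_naturality, ← SpecMap_ΓSpecIso_hom, ← Spec.map_comp, ← Spec.map_comp,
        ← Spec.map_comp]
      congr 1
      apply CommRingCat.hom_ext
      refine torusHom_ext n fun g => ?_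
      simp [cTor, evOne, AddMonoidAlgebra.liftNCRingHom_single]
  have h2 : (unitSec n X).appTop ≫ s.appTop ≫ (Scheme.ΓSpecIso A).hom =
      ((chart (n := n) s).appTop ≫ (Scheme.ΓSpecIso (Laur n A)).hom) ≫ evOne n A := by
    rw [← Category.assoc, ← Scheme.Hom.comp_appTop, ← h1, Scheme.Hom.comp_appTop, Category.assoc,
      Scheme.ΓSpecIso_naturality, Category.assoc]
  exact ConcreteCategory.congr_hom h2 v

theorem eq_of_pullC {U : X.Opens} (hU : IsAffineOpen U) {v w : Γ(X ⨯ Spec (TR n), ⊤)}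
    (h : pullC (n := n) hU.fromSpec v = pullC (n := n) hU.fromSpec w) :
    ((prod.fst : X ⨯ Spec (TR n) ⟶ X) ⁻¹ᵁ U).ι.appTop v =
      ((prod.fst : X ⨯ Spec (TR n) ⟶ X) ⁻¹ᵁ U).ι.appTop w := by
  set W := (prod.fst : X ⨯ Spec (TR n) ⟶ X) ⁻¹ᵁ U
  let fU : (W : Scheme.{u}) ⟶ Spec Γ(X, U) := ((prod.fst : X ⨯ Spec (TR n) ⟶ X) ∣_ U) ≫ hU.isoSpec.hom
  let gW : (W : Scheme.{u}) ⟶ Spec (TR n) := W.ι ≫ prod.snd
  let fA := (Scheme.ΓSpecIso Γ(X, U)).inv ≫ fU.appTop
  let gA := (Scheme.ΓSpecIso (TR n)).inv ≫ gW.appTop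
  let mon : Multiplicative (Fin n → ℤ) →* Γ((W : Scheme.{u}), ⊤) :=
    (gA.hom.toMonoidHom.comp ULift.ringEquiv.symm.toRingHom.toMonoidHom).comp
      (AddMonoidAlgebra.of ℤ (Fin n → ℤ))
  let ρ : Laur n Γ(X, U) ⟶ Γ((W : Scheme.{u}), ⊤) :=
    CommRingCat.ofHom (AddMonoidAlgebra.liftNCRingHom fA.hom mon fun _ _ => Commute.all _ _)
  have hq : ((W : Scheme.{u}).toSpecΓ ≫ Spec.map ρ) ≫ chart (n := n) hU.fromSpec = W.ι := by
    apply prod.hom_ext
    · rw [Category.assoc, prod.lift_fst, Category.assoc, ← Category.assoc (Spec.map ρ), ← Spec.map_comp,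
        show cst n Γ(X, U) ≫ ρ = fA by
          ext x
          show AddMonoidAlgebra.liftNCRingHom fA.hom mon (fun _ _ => Commute.all _ _) (AddMonoidAlgebra.single 0 x) = _
          rw [AddMonoidAlgebra.liftNCRingHom_single, ofAdd_zero, map_one, mul_one],
        ← Category.assoc, eq_toSpecΓ fU]
      show ((prod.fst : X ⨯ Spec (TR n) ⟶ X) ∣_ U ≫ hU.isoSpec.hom) ≫ hU.fromSpec = _
      rw [Category.assoc, IsAffineOpen.isoSpec_hom_fromSpec, morphismRestrict_ι]
    · rw [Category.assoc, prod.lift_snd, Category.assoc, ← Spec.map_comp,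
        show cTor n Γ(X, U) ≫ ρ = gA by
          apply CommRingCat.hom_ext
          refine torusHom_ext n fun g => ?_
          show AddMonoidAlgebra.liftNCRingHom fA.hom mon (fun _ _ => Commute.all _ _)
            (AddMonoidAlgebra.mapRingHom _ (Int.castRingHom _) (AddMonoidAlgebra.single g 1)) = _
          rw [AddMonoidAlgebra.mapRingHom_single, AddMonoidAlgebra.liftNCRingHom_single, map_one, map_one,
            one_mul]
          rfl,
        eq_toSpecΓ gW]
  have h' : (chart (n := n) hU.fromSpec).appTop v = (chart (n := n) hU.fromSpec).appTop w :=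
    (Scheme.ΓSpecIso (Laur n Γ(X, U))).commRingCatIsoToRingEquiv.injective h
  rw [← hq]
  simp only [Scheme.Hom.comp_appTop, CommRingCat.comp_apply, h']

theorem main (X : Scheme.{u}) [IsIntegral X] (n : ℕ) (v : Γ(X ⨯ Spec (TR n), ⊤)) (hv : IsUnit v) :
    ∃! p : (Γ(X, ⊤))ˣ × (Fin n → ℤ),
      v = (prod.fst : X ⨯ Spec (TR n) ⟶ X).appTop (p.1 : Γ(X, ⊤)) *
        (prod.snd : X ⨯ Spec (TR n) ⟶ Spec (TR n)).appTop
          ((Scheme.ΓSpecIso (TR n)).inv (ULift.up (AddMonoidAlgebra.single p.2 1))) := by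
  classical
  have hdom : ∀ U : X.Opens, (U : Set X).Nonempty → IsDomain Γ(X, U) := fun U hU =>
    @IsIntegral.component_integral X _ U ⟨⟨_, hU.choose_spec⟩⟩
  have hmono : ∀ (U : X.Opens) (hU : IsAffineOpen U), (U : Set X).Nonempty →
      ∃ (m : Fin n → ℤ) (a : Γ(X, U)), IsUnit a ∧ pullC (n := n) hU.fromSpec v = AddMonoidAlgebra.single m a := by
    intro U hU hne
    haveI := hdom U hne
    exact isUnit_single_of (hv.map (pullC (n := n) hU.fromSpec))
  obtain ⟨x₀⟩ := (inferInstance : Nonempty X)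
  obtain ⟨U₀, hU₀, hx₀, -⟩ := exists_isAffineOpen_mem_and_subset (U := ⊤) (x := x₀) (Set.mem_univ _)
  obtain ⟨m, a₀, -, hm₀⟩ := hmono U₀ hU₀ ⟨x₀, hx₀⟩
  have hmU : ∀ (U : X.Opens) (hU : IsAffineOpen U), (U : Set X).Nonempty →
      ∀ m' a, IsUnit a → pullC (n := n) hU.fromSpec v = AddMonoidAlgebra.single m' a → m' = m := by
    intro U hU hne m' a _ hma
    obtain ⟨y, hy⟩ := nonempty_preirreducible_inter U.2 U₀.2 hne ⟨x₀, hx₀⟩
    obtain ⟨V, hV, hyV, hVU⟩ := exists_isAffineOpen_mem_and_subset (U := U ⊓ U₀) (x := y) hy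
    obtain ⟨mV, b, hb, hVm⟩ := hmono V hV ⟨y, hyV⟩
    haveI := hdom V ⟨y, hyV⟩
    have key : ∀ (U' : X.Opens) (hU' : IsAffineOpen U') (hle : V ≤ U') (m'' : Fin n → ℤ) (a' : Γ(X, U')),
        pullC (n := n) hU'.fromSpec v = AddMonoidAlgebra.single m'' a' → mV = m'' := by
      intro U' hU' hle m'' a' h'
      have h2 := pullC_natural (n := n) (X.presheaf.map (homOfLE hle).op) hU'.fromSpec hV.fromSpec
        (hU'.map_fromSpec hV (homOfLE hle).op) v
      rw [hVm, h', AddMonoidAlgebra.mapRingHom_single] at h2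
      have h3 := congrArg (fun x => x.coeff mV) h2
      simp only [AddMonoidAlgebra.coeff_single, Finsupp.single_apply, if_pos] at h3
      by_contra hne'
      rw [if_neg (Ne.symm hne')] at h3
      exact hb.ne_zero h3
    rw [← key U hU (le_trans hVU inf_le_left) m' a hma,
      key U₀ hU₀ (le_trans hVU inf_le_right) m a₀ hm₀]
  let uu : (Γ(X, ⊤))ˣ := (hv.map (unitSec n X).appTop.hom).unit
  have huu : (uu : Γ(X, ⊤)) = (unitSec n X).appTop v := rfl
  refine ⟨(uu, m), ?_, ?_⟩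
  · let W : X → (X ⨯ Spec (TR n)).Opens := fun x =>
      (prod.fst : X ⨯ Spec (TR n) ⟶ X) ⁻¹ᵁ
        (exists_isAffineOpen_mem_and_subset (U := ⊤) (x := x) (Set.mem_univ _)).choose
    have hcov : TopologicalSpace.IsOpenCover W := by
      refine TopologicalSpace.Opens.ext (Set.eq_univ_of_forall fun z => ?_)
      exact TopologicalSpace.Opens.mem_iSup.2 ⟨(prod.fst : X ⨯ Spec (TR n) ⟶ X) z,
        (exists_isAffineOpen_mem_and_subset (U := ⊤) (Set.mem_univ _)).choose_spec.2.1⟩
    refine Scheme.OpenCover.ext_elem _ _ (Scheme.openCoverOfIsOpenCover _ W hcov) fun x => ?_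
    obtain ⟨hUaff, hxU, -⟩ := (exists_isAffineOpen_mem_and_subset (U := ⊤) (x := x) (Set.mem_univ x)).choose_spec
    refine eq_of_pullC hUaff ?_
    obtain ⟨m', a, ha, hma⟩ := hmono _ hUaff ⟨x, hxU⟩
    obtain rfl := hmU _ hUaff ⟨x, hxU⟩ m' a ha hma
    rw [map_mul, pullC_fst, pullC_snd, huu, pullC_unitSec, hma, AddMonoidAlgebra.single_mul_single,
      zero_add, mul_one]
    simp [evOne, AddMonoidAlgebra.liftNCRingHom_single]
  · rintro ⟨u', m'⟩ hu'
    dsimp only at hu'
    haveI := hdom U₀ ⟨x₀, hx₀⟩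
    have hm' : m' = m := by
      have h := congrArg (pullC (n := n) hU₀.fromSpec) hu'
      rw [map_mul, pullC_fst, pullC_snd, AddMonoidAlgebra.single_mul_single, zero_add, mul_one] at h
      refine hmU U₀ hU₀ ⟨x₀, hx₀⟩ _ _ ?_ h
      exact ((u'.isUnit.map hU₀.fromSpec.appTop.hom).map (Scheme.ΓSpecIso _).hom.hom)
    subst hm'
    refine Prod.ext (Units.ext ?_) rfl
    show (u' : Γ(X, ⊤)) = (unitSec n X).appTop v
    have hA : (prod.fst : X ⨯ Spec (TR n) ⟶ X).appTop ≫ (unitSec n X).appTop = 𝟙 _ := by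
      rw [← Scheme.Hom.comp_appTop, unitSec, prod.lift_fst, Scheme.Hom.id_appTop]
    have hB : (unitSec n X).appTop ((prod.snd : X ⨯ Spec (TR n) ⟶ Spec (TR n)).appTop
        ((Scheme.ΓSpecIso (TR n)).inv (ULift.up (AddMonoidAlgebra.single m' 1)))) = 1 := by
      have h : (Scheme.ΓSpecIso (TR n)).inv ≫ (prod.snd : X ⨯ Spec (TR n) ⟶ Spec (TR n)).appTop ≫
          (unitSec n X).appTop = CommRingCat.ofHom
          ((AddMonoidAlgebra.liftNCRingHom (Int.castRingHom Γ(X, ⊤)) 1 fun _ _ => Commute.all _ _).comp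
            (ULift.ringEquiv.toRingHom : ULift.{u} (AddMonoidAlgebra ℤ (Fin n → ℤ)) →+* _)) := by
        rw [← Scheme.Hom.comp_appTop, unitSec, prod.lift_snd, Scheme.Hom.comp_appTop,
          ← Category.assoc, ← Scheme.ΓSpecIso_inv_naturality, Category.assoc, Scheme.toSpecΓ_appTop,
          Iso.inv_hom_id, Category.comp_id]
      refine (ConcreteCategory.congr_hom h (ULift.up (AddMonoidAlgebra.single m' 1))).trans ?_
      simp [AddMonoidAlgebra.liftNCRingHom_single]
    rw [hu', map_mul, hB, mul_one]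
    exact (ConcreteCategory.congr_hom hA (u' : Γ(X, ⊤))).symm

end


/-- Units on tori: let X be an integral scheme and P = X × 𝔾_mⁿ, the product with the n-dimensional
split torus Spec ℤ[ℤⁿ] = Spec ℤ[t₁^±, …, t_n^±]. The canonical map Γ(X, O_X)ˣ × ℤⁿ → Γ(P, O_P)ˣ, (u,
e) ↦ pr₁^*(u) · pr₂^*(t^e), is an isomorphism: every invertible global function on P is uniquely of
this form. -/
theorem result (X : Scheme.{u}) [IsIntegral X] (n : ℕ)
    (v : Γ(X ⨯ Spec (CommRingCat.of (ULift.{u} (AddMonoidAlgebra ℤ (Fin n → ℤ)))), ⊤)) (hv : IsUnit v) :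
    ∃! p : (Γ(X, ⊤))ˣ × (Fin n → ℤ),
      v = (prod.fst : X ⨯ Spec (CommRingCat.of (ULift.{u} (AddMonoidAlgebra ℤ (Fin n → ℤ)))) ⟶ X).appTop (p.1 : Γ(X, ⊤)) *
        (prod.snd : X ⨯ Spec (CommRingCat.of (ULift.{u} (AddMonoidAlgebra ℤ (Fin n → ℤ)))) ⟶ Spec (CommRingCat.of (ULift.{u} (AddMonoidAlgebra ℤ (Fin n → ℤ))))).appTop
          ((Scheme.ΓSpecIso (CommRingCat.of (ULift.{u} (AddMonoidAlgebra ℤ (Fin n → ℤ))))).inv (ULift.up (AddMonoidAlgebra.single p.2 1))) := by
  exact main X n v hv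

end Groth.Agent.S13798
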