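import Groth.Statements.S13799
import Mathlib.CategoryTheory.Sites.EpiMono
-- import your own Groth.Agent.* helpers here

set_option autoImplicit false
universe u
open CategoryTheory Opposite
open CohSite

namespace Groth.Agent.S13799

section Helpers

variable {C : Type u} [SmallCategory C] (J : GrothendieckTopology C)

/-- constants as sections of the constant sheaf -/
noncomputable def eta (B : AddCommGrpCat.{u}) (V : C) :
    B →+ ((constantSheaf J AddCommGrpCat.{u}).obj B).obj.obj (op V) :=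
  ((toSheafify J ((Functor.const Cᵒᵖ).obj B)).app (op V)).hom

variable {J}

theorem eta_res (B : AddCommGrpCat.{u}) {V W : C} (g : W ⟶ V) (b : B) :
    ((constantSheaf J AddCommGrpCat.{u}).obj B).obj.map g.op (eta J B V b) = eta J B W b :=
  (NatTrans.naturality_apply (toSheafify J ((Functor.const Cᵒᵖ).obj B)) g.op b).symm

theorem isSheaf_type (F : Sheaf J AddCommGrpCat.{u}) :
    Presieve.IsSheaf J (F.obj ⋙ forget AddCommGrpCat.{u}) :=
  (isSheaf_iff_isSheaf_of_type J _).1 ((sheafCompose J (forget AddCommGrpCat.{u})).obj F).property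

/-- sections agreeing locally agree -/
theorem eq_of_locally (F : Sheaf J AddCommGrpCat.{u}) {V : C} (R : Sieve V) (hR : R ∈ J V)
    (a b : F.obj.obj (op V)) (h : ∀ ⦃W : C⦄ (g : W ⟶ V), R g → F.obj.map g.op a = F.obj.map g.op b) :
    a = b :=
  ((isSheaf_type F).isSeparated R hR).ext h

theorem eq_of_bot (F : Sheaf J AddCommGrpCat.{u}) {V : C} (hV : (⊥ : Sieve V) ∈ J V)
    (a b : F.obj.obj (op V)) : a = b :=
  eq_of_locally F ⊥ hV a b (fun _ _ h => h.elim)

/-- a nonzero constant vanishes only on an empty object -/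
theorem bot_mem (B : AddCommGrpCat.{u}) {V : C} (b : B) (hb : b ≠ 0) (h : eta J B V b = 0) :
    (⊥ : Sieve V) ∈ J V := by
  have h' : (toSheafify J ((Functor.const Cᵒᵖ).obj B)).app (op V) b =
      (toSheafify J ((Functor.const Cᵒᵖ).obj B)).app (op V) 0 := h.trans (map_zero (eta J B V)).symm
  have := Presheaf.equalizerSieve_mem J (toSheafify J ((Functor.const Cᵒᵖ).obj B))
    (F₁ := (Functor.const Cᵒᵖ).obj B) (X := op V) b 0 h'
  exact J.superset_covering (fun W g hg => (hb hg).elim) this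

theorem eta_locally_surjective (B : AddCommGrpCat.{u}) {V : C}
    (s : ((constantSheaf J AddCommGrpCat.{u}).obj B).obj.obj (op V)) :
    ∃ R ∈ J V, ∀ ⦃W : C⦄ (g : W ⟶ V), R g →
      ∃ b, eta J B W b = ((constantSheaf J AddCommGrpCat.{u}).obj B).obj.map g.op s :=
  ⟨_, Presheaf.imageSieve_mem J (toSheafify J ((Functor.const Cᵒᵖ).obj B)) (U := op V) s,
    fun _ _ hg => hg⟩

noncomputable abbrev Zs (J : GrothendieckTopology C) : Sheaf J AddCommGrpCat.{u} :=
  (constantSheaf J AddCommGrpCat.{u}).obj (AddCommGrpCat.of (ULift.{u} ℤ))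

/-- the value of a map out of the constant sheaf `ℤ` at `1` -/
noncomputable def one {F : Sheaf J AddCommGrpCat.{u}} (y : Zs J ⟶ F) (V : C) : F.obj.obj (op V) :=
  y.hom.app (op V) (eta J (AddCommGrpCat.of (ULift.{u} ℤ)) V ⟨1⟩)

theorem one_res {F : Sheaf J AddCommGrpCat.{u}} (y : Zs J ⟶ F) {V W : C} (g : W ⟶ V) :
    F.obj.map g.op (one y V) = one y W := by
  unfold one
  rw [← eta_res (AddCommGrpCat.of (ULift.{u} ℤ)) g]
  exact (NatTrans.naturality_apply y.hom g.op _).symm

theorem one_comp {F G : Sheaf J AddCommGrpCat.{u}} (y : Zs J ⟶ F) (z : F ⟶ G) (V : C) :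
    one (y ≫ z) V = z.hom.app (op V) (one y V) := rfl

theorem hom_ext_one {F : Sheaf J AddCommGrpCat.{u}} (y z : Zs J ⟶ F) (h : ∀ V, one y V = one z V) : y = z := by
  apply ((sheafificationAdjunction J AddCommGrpCat.{u}).homEquiv _ _).injective
  apply NatTrans.ext
  funext V
  obtain ⟨V⟩ := V
  apply AddCommGrpCat.hom_ext
  apply AddMonoidHom.ext
  rintro ⟨m⟩
  have hm : (⟨m⟩ : ULift.{u} ℤ) = m • (⟨1⟩ : ULift.{u} ℤ) := ULift.ext _ _ (by simp)
  rw [hm, map_zsmul, map_zsmul]
  exact congrArg (fun t => m • t) (h V)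

theorem exists_hom_of_one {F : Sheaf J AddCommGrpCat.{u}} (t : ∀ V : C, F.obj.obj (op V))
    (ht : ∀ ⦃V W : C⦄ (g : W ⟶ V), F.obj.map g.op (t V) = t W) : ∃ y : Zs J ⟶ F, ∀ V, one y V = t V := by
  let p : (Functor.const Cᵒᵖ).obj (AddCommGrpCat.of (ULift.{u} ℤ)) ⟶ F.obj :=
    { app := fun V => AddCommGrpCat.ofHom
        ((zmultiplesHom _ (t V.unop)).comp AddEquiv.ulift.toAddMonoidHom)
      naturality := fun V W g => by
        apply AddCommGrpCat.hom_ext
        apply AddMonoidHom.ext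
        rintro ⟨m⟩
        show m • t W.unop = F.obj.map g (m • t V.unop)
        rw [map_zsmul]
        exact congrArg (fun s => m • s) (ht g.unop).symm }
  refine ⟨((sheafificationAdjunction J AddCommGrpCat.{u}).homEquiv _ _).symm p, fun V => ?_⟩
  have h := congrArg (fun q => q.app (op V) (⟨1⟩ : ULift.{u} ℤ))
    (((sheafificationAdjunction J AddCommGrpCat.{u}).homEquiv _ _).apply_symm_apply p)
  exact h.trans (one_zsmul _)

theorem exists_preimage {T : ShortComplex (Sheaf J AddCommGrpCat.{u})} (hT : T.ShortExact) {V : C}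
    (e : T.X₂.obj.obj (op V)) (he : T.g.hom.app (op V) e = 0) : ∃ a, T.f.hom.app (op V) a = e := by
  haveI := hT.mono_f
  let F : Sheaf J AddCommGrpCat.{u} ⥤ AddCommGrpCat.{u} :=
    sheafToPresheaf J AddCommGrpCat.{u} ⋙ (evaluation _ _).obj (op V)
  haveI : F.PreservesZeroMorphisms := ⟨fun _ _ => rfl⟩
  have h := (T.map F).exact_of_f_is_kernel (Limits.KernelFork.mapIsLimit _ hT.exact.fIsKernel F)
  exact ((T.map F).ab_exact_iff.1 h) e he

/-- the core: a section over a locally invertible multiple descends -/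
theorem exists_lift {A : Type u} [AddCommGroup A] (hA : ∀ (m : ℤ) (a : A), m ≠ 0 → m • a = 0 → a = 0)
    (φ : Zs J ⟶ Zs J) {ι : Type u} (U : ι → C) (n : ι → ℤ) (hn : ∀ i, n i ≠ 0)
    (hφ : ∀ (i : ι) (V : C) (_ : V ⟶ U i), φ.hom.app (op V) = n i • 𝟙 _)
    (hcov : ∀ V : C, ∃ R ∈ J V, ∀ ⦃W : C⦄ (g : W ⟶ V), R g → ∃ i, Nonempty (W ⟶ U i))
    {I Q : Sheaf J AddCommGrpCat.{u}}
    (f : (constantSheaf J AddCommGrpCat.{u}).obj (AddCommGrpCat.of A) ⟶ I) (p : I ⟶ Q) (w : f ≫ p = 0)
    (hT : (ShortComplex.mk f p w).ShortExact) (y : Zs J ⟶ Q) (s : Zs J ⟶ I) (hs : s ≫ p = φ ≫ y) :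
    ∃ t : Zs J ⟶ I, t ≫ p = y := by
  let Zg := AddCommGrpCat.of (ULift.{u} ℤ)
  let Ag := AddCommGrpCat.of A
  haveI : Mono f := hT.mono_f
  haveI : Epi p := hT.epi_g
  haveI : Sheaf.IsLocallySurjective p := (Sheaf.isLocallySurjective_iff_epi' (φ := p)).2 inferInstance
  let ρ : ℤ → A → A := fun m c =>
    Quotient.out (QuotientAddGroup.mk c : A ⧸ (zsmulAddGroupHom (α := A) m).range)
  have hρ : ∀ m c, ∃ b, c - m • b = ρ m (c - m • b) := fun m c => by
    have h : (QuotientAddGroup.mk (ρ m c) : A ⧸ (zsmulAddGroupHom (α := A) m).range) = QuotientAddGroup.mk c :=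
      Quotient.out_eq _
    obtain ⟨b, hb⟩ := QuotientAddGroup.eq.1 h
    have hb' : c - m • b = ρ m c := by rw [show m • b = -ρ m c + c from hb]; abel
    refine ⟨b, hb'.trans ?_⟩
    have : (QuotientAddGroup.mk (c - m • b) : A ⧸ (zsmulAddGroupHom (α := A) m).range) = QuotientAddGroup.mk c :=
      QuotientAddGroup.eq.2 ⟨b, by show m • b = _; abel⟩
    show Quotient.out _ = Quotient.out _
    rw [this]
  have hrig : ∀ m c c' b, m ≠ 0 → ρ m c = c → ρ m c' = c' → c' - c = m • b → b = 0 := fun m c c' b hm h h' e => by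
    have : (QuotientAddGroup.mk c : A ⧸ (zsmulAddGroupHom (α := A) m).range) = QuotientAddGroup.mk c' :=
      QuotientAddGroup.eq.2 ⟨b, by show m • b = _; rw [← e]; abel⟩
    have hc : c = c' := by rw [← h, ← h']; show Quotient.out _ = Quotient.out _; rw [this]
    exact hA m b hm (by rw [← e, hc, sub_self])
  let Good : ∀ V : C, I.obj.obj (op V) → Prop := fun V t =>
    p.hom.app (op V) t = one y V ∧ ∃ R ∈ J V, ∀ ⦃W : C⦄ (g : W ⟶ V), R g →
      ∃ (i : ι) (_ : W ⟶ U i) (c : A), ρ (n i) c = c ∧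
        one s W - n i • I.obj.map g.op t = f.hom.app (op W) (eta J Ag W c)
  have resGood : ∀ ⦃V W : C⦄ (g : W ⟶ V) (t : I.obj.obj (op V)), Good V t → Good W (I.obj.map g.op t) := by
    rintro V W g t ⟨ht, R, hR, h⟩
    refine ⟨?_, R.pullback g, J.pullback_stable g hR, fun W' k hk => ?_⟩
    · rw [NatTrans.naturality_apply, ht, one_res]
    · obtain ⟨i, a, c, hc, e⟩ := h (k ≫ g) hk
      exact ⟨i, a, c, hc, by rw [← e, op_comp, Functor.map_comp]; rfl⟩
  have uniq : ∀ V (t t' : I.obj.obj (op V)), Good V t → Good V t' → t = t' := by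
    rintro V t t' ⟨ht, R, hR, h⟩ ⟨ht', R', hR', h'⟩
    obtain ⟨d, hd⟩ := exists_preimage hT (V := V) (t - t') (by
      show p.hom.app (op V) (t - t') = 0
      rw [map_sub, ht, ht', sub_self])
    obtain ⟨D, hD, hd'⟩ := eta_locally_surjective Ag d
    refine sub_eq_zero.1 (eq_of_locally I (R ⊓ R' ⊓ D) (J.intersection_covering (J.intersection_covering hR hR') hD)
      _ _ fun W g hg => ?_)
    rw [map_zero]
    obtain ⟨i, a, c, hc, e⟩ := h g hg.1.1
    obtain ⟨i', a', c', hc', e'⟩ := h' g hg.1.2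
    obtain ⟨b, hb⟩ := hd' g hg.2
    have htt : I.obj.map g.op (t - t') = f.hom.app (op W) (eta J Ag W b) := by
      rw [hb, ← hd]
      exact (NatTrans.naturality_apply f.hom g.op d).symm
    rw [htt]
    by_cases hW : (⊥ : Sieve W) ∈ J W
    · exact eq_of_bot I hW _ _
    have hnn : n i = n i' := by
      by_contra hne
      refine hW (bot_mem Zg (⟨n i - n i'⟩ : ULift.{u} ℤ) (fun h0 => hne (sub_eq_zero.1 (congrArg ULift.down h0))) ?_)
      have h1 : (⟨n i - n i'⟩ : ULift.{u} ℤ) = (n i - n i') • (⟨1⟩ : ULift.{u} ℤ) := ULift.ext _ _ (by simp)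
      have h2 := ConcreteCategory.congr_hom ((hφ i W a).symm.trans (hφ i' W a')) (eta J Zg W ⟨1⟩)
      have h2' : n i • eta J Zg W (⟨1⟩ : ULift.{u} ℤ) = n i' • eta J Zg W ⟨1⟩ := h2
      rw [h1, map_zsmul, sub_smul, h2', sub_self]
    have hb0 : b = 0 := by
      by_contra hb0
      have h3 : f.hom.app (op W) (eta J Ag W (c' - c - n i • b)) = 0 := by
        rw [map_sub, map_sub, map_sub, map_sub, map_zsmul, map_zsmul, ← htt, ← e, ← e', ← hnn, map_sub, smul_sub]
        abel
      have hinj : ∀ z, f.hom.app (op W) z = 0 → z = 0 := fun z hz => by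
        haveI : Mono ((sheafToPresheaf J AddCommGrpCat.{u} ⋙ (evaluation _ _).obj (op W)).map f) := inferInstance
        exact (AddCommGrpCat.mono_iff_injective _).1 this (hz.trans (map_zero _).symm)
      by_cases hz : c' - c - n i • b = 0
      · exact hb0 (hrig _ c c' b (hn i) hc (hnn ▸ hc') (sub_eq_zero.1 hz))
      · exact hW (bot_mem Ag _ hz (hinj _ h3))
    rw [hb0, map_zero, map_zero]
  have loc : ∀ V : C, ∃ R ∈ J V, ∀ ⦃W : C⦄ (g : W ⟶ V), R g → ∃ t, Good W t := fun V => by
    obtain ⟨R, hR, hi⟩ := hcov V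
    refine ⟨_, J.bind_covering hR (fun W g hg => Presheaf.imageSieve_mem J p.hom (U := op W) (one y W)), ?_⟩
    rintro W _ ⟨W₁, k, g, hg, hk, rfl⟩
    obtain ⟨e, he⟩ := hk
    obtain ⟨i, ⟨a₁⟩⟩ := hi g hg
    let a := k ≫ a₁
    have he' : p.hom.app (op W) e = one y W := he.trans (one_res y k)
    obtain ⟨d, hd⟩ := exists_preimage hT (V := W) (one s W - n i • e) (by
      show p.hom.app (op W) (one s W - n i • e) = 0
      rw [map_sub, map_zsmul, he', ← one_comp, hs, sub_eq_zero]
      show y.hom.app (op W) (φ.hom.app (op W) _) = _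
      rw [hφ i W a]
      exact map_zsmul _ (n i) _)
    obtain ⟨D, hD, hd'⟩ := eta_locally_surjective Ag d
    choose! c hc using hd'
    choose b hb using fun c => hρ (n i) c
    -- on the refinement by `D` the corrected lifts are good; glue them
    have good : ∀ ⦃Z : C⦄ (l : Z ⟶ W), D l →
        Good Z (I.obj.map l.op e + f.hom.app (op Z) (eta J Ag Z (b (c l)))) := fun Z l hl => by
      refine ⟨?_, ⊤, J.top_mem _, fun Z' m _ => ⟨i, m ≫ l ≫ a, c l - n i • b (c l), (hb _).symm, ?_⟩⟩
      · rw [map_add, NatTrans.naturality_apply, he', one_res]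
        have h0 := ConcreteCategory.congr_hom (congrArg (fun q => q.hom.app (op Z)) w) (eta J Ag Z (b (c l)))
        exact (congrArg (fun z => one y Z + z) h0).trans (add_zero _)
      · have hd₁ : f.hom.app (op Z) (eta J Ag Z (c l)) = one s Z - n i • I.obj.map l.op e := by
          rw [hc l hl, NatTrans.naturality_apply, hd, map_sub, map_zsmul, one_res]
        rw [← one_res s m, ← map_zsmul, ← map_sub, smul_add, ← sub_sub, ← hd₁, ← map_zsmul, ← map_zsmul,
          ← map_sub, ← map_sub, ← eta_res Ag m]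
        exact (NatTrans.naturality_apply f.hom m.op _).symm
    let x : Presieve.FamilyOfElements (I.obj ⋙ forget AddCommGrpCat.{u}) D.arrows :=
      fun Z l _ => I.obj.map l.op e + f.hom.app (op Z) (eta J Ag Z (b (c l)))
    have hx : x.Compatible := fun Y₁ Y₂ Z g₁ g₂ l₁ l₂ h₁ h₂ _ =>
      uniq Z _ _ (resGood g₁ _ (good l₁ h₁)) (resGood g₂ _ (good l₂ h₂))
    refine ⟨(isSheaf_type I D hD).amalgamate x hx, ?_, ?_⟩
    · refine eq_of_locally Q D hD _ _ fun Z l hl => ?_
      rw [← NatTrans.naturality_apply, one_res]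
      exact (congrArg _ ((isSheaf_type I D hD).valid_glue hx l hl)).trans (good l hl).1
    · have hZ := fun {Z : C} (l : Z ⟶ W) (hl : D l) => (good l hl).2
      choose R' hR' h' using @hZ
      refine ⟨_, J.bind_covering hD (fun Z l hl => hR' l hl), ?_⟩
      rintro Z' _ ⟨Z, m, l, hl, hm, rfl⟩
      obtain ⟨j, a', c', hc', he''⟩ := h' l hl m hm
      refine ⟨j, a', c', hc', ?_⟩
      rw [← he'', op_comp, Functor.map_comp]
      exact congrArg (fun z => one s Z' - n j • I.obj.map m.op z) ((isSheaf_type I D hD).valid_glue hx l hl)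
  choose R hR hGood using loc
  choose t ht using hGood
  have glue : ∀ V, ∃ t₀, Good V t₀ := fun V => by
    let x : Presieve.FamilyOfElements (I.obj ⋙ forget AddCommGrpCat.{u}) (R V).arrows := fun W g hg => t V g hg
    have hx : x.Compatible := fun Y₁ Y₂ Z g₁ g₂ l₁ l₂ h₁ h₂ _ =>
      uniq Z _ _ (resGood g₁ _ (ht V l₁ h₁)) (resGood g₂ _ (ht V l₂ h₂))
    refine ⟨(isSheaf_type I (R V) (hR V)).amalgamate x hx, ?_, ?_⟩
    · refine eq_of_locally Q (R V) (hR V) _ _ fun Z l hl => ?_
      rw [← NatTrans.naturality_apply, one_res]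
      exact (congrArg _ ((isSheaf_type I (R V) (hR V)).valid_glue hx l hl)).trans (ht V l hl).1
    · have hZ := fun {Z : C} (l : Z ⟶ V) (hl : R V l) => (ht V l hl).2
      choose R' hR' h' using @hZ
      refine ⟨_, J.bind_covering (hR V) (fun Z l hl => hR' l hl), ?_⟩
      rintro Z' _ ⟨Z, m, l, hl, hm, rfl⟩
      obtain ⟨j, a', c', hc', he''⟩ := h' l hl m hm
      refine ⟨j, a', c', hc', ?_⟩
      rw [← he'', op_comp, Functor.map_comp]
      exact congrArg (fun z => one s Z' - n j • I.obj.map m.op z) ((isSheaf_type I (R V) (hR V)).valid_glue hx l hl)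
  choose t₀ ht₀ using glue
  obtain ⟨τ, hτ⟩ := exists_hom_of_one t₀ fun V W g => uniq W _ _ (resGood g _ (ht₀ V)) (ht₀ W)
  exact ⟨τ, hom_ext_one _ _ fun V => by rw [one_comp, hτ]; exact (ht₀ V).1⟩

end Helpers

/-- On a site, take a torsion-free abelian group A, and let φ be a locally nonzero global section of the
constant sheaf ℤ, viewed as an endomorphism of the constant abelian sheaf ℤ: there are objects U_i
which cover every object of the site locally and nonzero integers n_i such that φ is multiplication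
by n_i on every object over U_i. Then the first cohomology H¹(A) of the constant sheaf on A (the
Ext-based sheaf cohomology of the site) has no φ-torsion: a class x with φ · x = 0 is zero, where φ
acts on H¹(A) = Ext¹(ℤ, A) by precomposition. (The published statement takes the section in the
constant sheaf of A itself, with a module structure over its global sections that is defined for A =
ℤ; this row lets a locally nonzero section of the constant sheaf ℤ act on H¹(A), which is the
published statement when A = ℤ and is what the published proof establishes for any torsion-free A.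
The published definition of a locally nonzero section also asks the covering family to be nonempty;
when it is empty every sheaf is terminal and the conclusion holds trivially, so that condition is
omitted.) -/
theorem result {C : Type u} [SmallCategory C] (J : GrothendieckTopology C)
    {A : Type u} [AddCommGroup A] (hA : ∀ (m : ℤ) (a : A), m ≠ 0 → m • a = 0 → a = 0)
    (φ : (constantSheaf J AddCommGrpCat.{u}).obj (AddCommGrpCat.of (ULift.{u} ℤ)) ⟶
      (constantSheaf J AddCommGrpCat.{u}).obj (AddCommGrpCat.of (ULift.{u} ℤ)))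
    {ι : Type u} (U : ι → C) (n : ι → ℤ) (hn : ∀ i, n i ≠ 0)
    (hφ : ∀ (i : ι) (V : C) (_ : V ⟶ U i), φ.hom.app (op V) = n i • 𝟙 _)
    (hcov : ∀ V : C, ∃ R ∈ J V, ∀ ⦃W : C⦄ (g : W ⟶ V), R g → ∃ i, Nonempty (W ⟶ U i))
    (x : Sheaf.H ((constantSheaf J AddCommGrpCat.{u}).obj (AddCommGrpCat.of A)) 1)
    (hx : (Abelian.Ext.mk₀ φ).comp x (zero_add 1) = 0) :
    x = 0 := by
  let F := (constantSheaf J AddCommGrpCat.{u}).obj (AddCommGrpCat.of A)
  let T : ShortComplex (Sheaf J AddCommGrpCat.{u}) :=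
    ShortComplex.mk (Injective.ι F) (Limits.cokernel.π (Injective.ι F)) (Limits.cokernel.condition _)
  have hT : T.ShortExact := { exact := ShortComplex.exact_cokernel _ }
  obtain ⟨x₃, hx₃⟩ := Abelian.Ext.covariant_sequence_exact₁ _ hT x
    (Abelian.Ext.eq_zero_of_injective (I := Injective.under F) _) (n₀ := 0) rfl
  obtain ⟨y, rfl⟩ := (Abelian.Ext.mk₀_bijective _ _).2 x₃
  subst hx₃
  rw [Abelian.Ext.mk₀_comp_mk₀_assoc] at hx
  obtain ⟨x₂, hx₂⟩ := Abelian.Ext.covariant_sequence_exact₃ _ hT (Abelian.Ext.mk₀ (φ ≫ y)) _ hx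
  obtain ⟨s, rfl⟩ := (Abelian.Ext.mk₀_bijective _ _).2 x₂
  rw [Abelian.Ext.mk₀_comp_mk₀] at hx₂
  obtain ⟨t, rfl⟩ := exists_lift hA φ U n hn hφ hcov _ _ _ hT y s ((Abelian.Ext.mk₀_bijective _ _).1 hx₂)
  rw [← Abelian.Ext.mk₀_comp_mk₀_assoc]
  exact (congrArg (fun z => (Abelian.Ext.mk₀ t).comp z (zero_add 1)) hT.comp_extClass).trans (Abelian.Ext.comp_zero ..)
end Groth.Agent.S13799
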