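import Groth.Statements.S1380
import Groth.Agent.Lib.EtaleRes4.Ext
import Mathlib

set_option autoImplicit false
universe u
open FlatMor
set_option maxSynthPendingDepth 3

set_option backward.isDefEq.respectTransparency.types false

namespace Groth.Agent.S1380



open TensorProduct

namespace Dev4

theorem pow_mem_range_of_normal {κ K L M : Type*} [Field κ] [Field K] [Field L] [Field M] [Algebra κ K] [Algebra κ L]
    [Algebra κ M] [Algebra.IsAlgebraic κ K] [Normal κ L] (ℓ : ℕ) [ExpChar κ ℓ]
    (φ : separableClosure κ K →ₐ[κ] L) (ι : K →ₐ[κ] M) (ψ : L →ₐ[κ] M) (x : K) :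
    ∃ n, (ι x) ^ ℓ ^ n ∈ ψ.toRingHom.range := by
  haveI : ExpChar (separableClosure κ K) ℓ := expChar_of_injective_ringHom (algebraMap κ _).injective ℓ
  obtain ⟨n, z, hz⟩ := IsPurelyInseparable.pow_mem (separableClosure κ K) ℓ x
  refine ⟨n, ?_⟩
  rw [← map_pow, ← hz]
  have hint : IsIntegral κ z := Algebra.IsIntegral.isIntegral z
  have hs : ((minpoly κ z).map (algebraMap κ L)).Splits := by
    have h := Normal.splits (F := κ) inferInstance (φ z)
    rwa [minpoly.algHom_eq φ φ.injective] at h
  refine hs.mem_range_of_isRoot (Polynomial.map_ne_zero (minpoly.ne_zero hint)) ?_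
  rw [Polynomial.map_map, show ψ.toRingHom.comp (algebraMap κ L) = algebraMap κ M from ψ.comp_algebraMap, Polynomial.IsRoot, Polynomial.eval_map_algebraMap]
  exact (Polynomial.aeval_algHom_apply (ι.comp (separableClosure κ K).val) z _).trans
    ((congrArg _ (minpoly.aeval κ z)).trans (map_zero _))

theorem finite_primes_tensor {R T S : Type*} [CommRing R] [CommRing T] [CommRing S] [Algebra R T] [Algebra R S]
    [Algebra.QuasiFinite R T] {F : Set (PrimeSpectrum S)} (hF : F.Finite) :
    {Q : PrimeSpectrum (T ⊗[R] S) | PrimeSpectrum.comap Algebra.TensorProduct.includeRight.toRingHom Q ∈ F}.Finite := by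
  have h := Algebra.QuasiFinite.finite_comap_preimage (R := S) (S := S ⊗[R] T) hF
  refine Set.Finite.of_finite_image (f := PrimeSpectrum.comap (Algebra.TensorProduct.comm R T S).symm.toAlgHom.toRingHom) (h.subset ?_) ?_
  · rintro _ ⟨Q, hQ, rfl⟩
    change PrimeSpectrum.comap (algebraMap S (S ⊗[R] T)) _ ∈ F
    rw [← PrimeSpectrum.comap_comp_apply]
    rwa [show RingHom.comp (Algebra.TensorProduct.comm R T S).symm.toAlgHom.toRingHom (algebraMap S (S ⊗[R] T)) =
      (Algebra.TensorProduct.includeRight : S →ₐ[R] T ⊗[R] S).toRingHom from RingHom.ext fun s => by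
        simp [Algebra.TensorProduct.algebraMap_apply]]
  · exact (PrimeSpectrum.comap_injective_of_surjective _ (Algebra.TensorProduct.comm R T S).symm.surjective).injOn

theorem exists_finite_separating {R A : Type*} [CommRing R] [CommRing A] [Algebra R A] [Algebra.IsIntegral R A]
    {F : Set (PrimeSpectrum A)} (hF : F.Finite) :
    ∃ A0 : Subalgebra R A, Module.Finite R A0 ∧
      ∀ Q ∈ F, ∀ Q' ∈ F, Q.asIdeal.comap A0.val.toRingHom = Q'.asIdeal.comap A0.val.toRingHom → Q = Q' := by
  classical
  have hc : ∀ pq : PrimeSpectrum A × PrimeSpectrum A, ∃ a : A, pq.1 ≠ pq.2 → ¬ (a ∈ pq.1.asIdeal ↔ a ∈ pq.2.asIdeal) := by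
    rintro ⟨Q, Q'⟩
    by_cases h : Q = Q'
    · exact ⟨0, fun h' => (h' h).elim⟩
    · by_contra hne
      push Not at hne
      exact h (PrimeSpectrum.ext (Ideal.ext fun a => (hne a).2))
  choose c hc using hc
  let G : Set A := c '' (F ×ˢ F)
  have hG : G.Finite := (hF.prod hF).image _
  refine ⟨Algebra.adjoin R G, Module.Finite.iff_fg.2 (fg_adjoin_of_finite hG fun a _ => Algebra.IsIntegral.isIntegral a), ?_⟩
  intro Q hQ Q' hQ' h
  by_contra hne
  exact hc (Q, Q') hne (Ideal.ext_iff.1 h ⟨c (Q, Q'), Algebra.subset_adjoin ⟨(Q, Q'), ⟨hQ, hQ'⟩, rfl⟩⟩)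

theorem coi_merge {Z : Type*} [CommRing Z] {n : ℕ} {e : Fin (n + 2) → Z} (he : CompleteOrthogonalIdempotents e) :
    CompleteOrthogonalIdempotents (fun i : Fin (n + 1) => e i.castSucc + if i = 0 then e (Fin.last _) else 0) := by
  have horth : ∀ i j, i ≠ j → e i * e j = 0 := fun i j h => he.ortho h
  have hne : ∀ i : Fin (n + 1), i.castSucc ≠ Fin.last (n + 1) := fun i => Fin.castSucc_ne_last i
  refine ⟨⟨fun i => ?_, fun i j hij => ?_⟩, ?_⟩
  · change (_ + _) * (_ + _) = _ + _
    split_ifs
    · rw [add_mul, mul_add, mul_add, horth _ _ (hne i), horth _ _ (hne i).symm, (he.idem _).eq, (he.idem _).eq]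
      ring
    · rw [add_zero, (he.idem _).eq]
  · change (_ + _) * (_ + _) = 0
    have hc : i.castSucc ≠ j.castSucc := fun h => hij (Fin.castSucc_injective _ h)
    split_ifs with h1 h2 h2
    · exact absurd (h1.trans h2.symm) hij
    · rw [add_zero, add_mul, horth _ _ hc, horth _ _ (hne j).symm, add_zero]
    · rw [add_zero, mul_add, horth _ _ hc, horth _ _ (hne i), add_zero]
    · rw [add_zero, add_zero, horth _ _ hc]
  · rw [Finset.sum_add_distrib, Finset.sum_ite_eq' Finset.univ (0 : Fin (n + 1)), if_pos (Finset.mem_univ _),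
      ← Fin.sum_univ_castSucc, he.complete]

theorem exists_notMem_of_disjoint_range {R Z : Type*} [CommRing R] [CommRing Z] [Algebra R Z] [Algebra.IsIntegral R Z]
    (P : Ideal R) [P.IsPrime] (h : ∀ r : Ideal Z, r.IsPrime → r.comap (algebraMap R Z) ≠ P) :
    ∃ f ∉ P, algebraMap R Z f = 0 := by
  by_contra hne
  push Not at hne
  obtain ⟨r, -, hr, hr'⟩ := Ideal.exists_ideal_over_prime_of_isIntegral P (⊥ : Ideal Z) (fun f hf => by
    by_contra hfP
    exact hne f hfP hf)
  exact h r hr hr'

theorem purelyInsep_residue {κ' A M : Type*} [Field κ'] [CommRing A] [Field M] [Algebra κ' M] (ρ : A →+* M)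
    (hfrac : ∀ x : M, ∃ a b, x = ρ a / ρ b) (G : Set A) (hG : Subring.closure G = ⊤)
    (h : ∀ g ∈ G, ρ g ∈ perfectClosure κ' M) : IsPurelyInseparable κ' M := by
  have hle : Subring.closure G ≤ (perfectClosure κ' M).toSubfield.toSubring.comap ρ := Subring.closure_le.2 h
  rw [hG] at hle
  have hall : ∀ x : M, x ∈ perfectClosure κ' M := fun x => by
    obtain ⟨a, b, rfl⟩ := hfrac x
    exact div_mem (hle trivial) (hle trivial)
  exact (isPurelyInseparable_iff_pow_mem κ' (ringExpChar κ')).2 fun x => mem_perfectClosure_iff.1 (hall x)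

theorem exists_prime_over {A B : Type*} [CommRing A] [CommRing B] (j : A →+* B) (hj : j.IsIntegral) (hinj : Function.Injective j)
    (P : Ideal A) [P.IsPrime] : ∃ r : Ideal B, r.IsPrime ∧ r.comap j = P := by
  letI := j.toAlgebra
  haveI : Algebra.IsIntegral A B := ⟨hj⟩
  obtain ⟨r, -, hr, hr'⟩ := Ideal.exists_ideal_over_prime_of_isIntegral P (⊥ : Ideal B) (by
    intro a ha
    rw [show a = 0 from hinj ((Ideal.mem_bot.1 ha).trans (map_zero j).symm)]
    exact P.zero_mem)
  exact ⟨r, hr, hr'⟩

end Dev4

open TensorProduct in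
/-- Let R → S be integral and p a prime of R with only finitely many primes of S above it, such that for
each of them the separable closure of κ(p) in its residue field is finite over κ(p). Then there are
an étale R-algebra R' and a prime p' of R' over p such that R' ⊗ S is a finite product of
R'-algebras, each integral over R' with exactly one prime over p', whose residue field is purely
inseparable over κ(p'). -/
theorem result {R S : Type u} [CommRing R] [CommRing S] [Algebra R S] [Algebra.IsIntegral R S]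
    (p : Ideal R) [p.IsPrime] (hfin : {q : PrimeSpectrum S | q.asIdeal.comap (algebraMap R S) = p}.Finite)
    (hsep : ∀ (q : PrimeSpectrum S) (hq : q.asIdeal.comap (algebraMap R S) = p),
      letI := (Ideal.ResidueField.map p q.asIdeal (algebraMap R S) hq.symm).toAlgebra
      Module.Finite p.ResidueField (separableClosure p.ResidueField q.asIdeal.ResidueField)) :
    ∃ (R' : Type u) (_ : CommRing R') (_ : Algebra R R') (p' : PrimeSpectrum R'), Algebra.Etale R R' ∧ p'.asIdeal.comap (algebraMap R R') = p ∧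
      ∃ (m : ℕ) (A : Fin m → Type u) (_ : ∀ j, CommRing (A j)) (_ : ∀ j, Algebra R' (A j)) (e : R' ⊗[R] S ≃ₐ[R'] (Π j, A j)),
        ∀ j, Algebra.IsIntegral R' (A j) ∧ ∃ (r : PrimeSpectrum (A j)) (hr : r.asIdeal.comap (algebraMap R' (A j)) = p'.asIdeal),
          (∀ r' : PrimeSpectrum (A j), r'.asIdeal.comap (algebraMap R' (A j)) = p'.asIdeal → r' = r) ∧
          letI := (Ideal.ResidueField.map p'.asIdeal r.asIdeal (algebraMap R' (A j)) hr.symm).toAlgebra
          IsPurelyInseparable p'.asIdeal.ResidueField r.asIdeal.ResidueField := by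
  classical
  let κ := p.ResidueField
  let Fib : Type u := {q : PrimeSpectrum S // q.asIdeal.comap (algebraMap R S) = p}
  haveI : Finite Fib := hfin.to_subtype
  haveI hlo : ∀ i : Fib, i.1.asIdeal.LiesOver p := fun i => ⟨i.2.symm⟩
  letI algq : ∀ i : Fib, Algebra κ i.1.asIdeal.ResidueField := fun i =>
    (Ideal.ResidueField.map p i.1.asIdeal (algebraMap R S) i.2.symm).toAlgebra
  haveI hEfin : ∀ i : Fib, Module.Finite κ (separableClosure κ i.1.asIdeal.ResidueField) := fun i => hsep i.1 i.2
  haveI htow : ∀ i : Fib, IsScalarTower R κ i.1.asIdeal.ResidueField := fun i =>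
    IsScalarTower.of_algebraMap_eq fun a => by
      change algebraMap R i.1.asIdeal.ResidueField a = Ideal.ResidueField.map p i.1.asIdeal (algebraMap R S) i.2.symm (algebraMap R p.ResidueField a)
      rw [Ideal.ResidueField.map_algebraMap]
      rfl
  haveI halg : ∀ i : Fib, Algebra.IsAlgebraic κ i.1.asIdeal.ResidueField := fun i => by
    letI : Algebra R i.1.asIdeal.ResidueField := inferInstance
    refine ⟨fun x => ?_⟩
    obtain ⟨a, b, hb, rfl⟩ := IsFractionRing.div_surjective (A := S ⧸ i.1.asIdeal) x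
    have hia : ∀ t : S ⧸ i.1.asIdeal, IsAlgebraic κ (algebraMap (S ⧸ i.1.asIdeal) i.1.asIdeal.ResidueField t) := fun t => by
      obtain ⟨s, rfl⟩ := Ideal.Quotient.mk_surjective t
      have h : IsIntegral R (algebraMap S i.1.asIdeal.ResidueField s) := (Algebra.IsIntegral.isIntegral (R := R) s).algebraMap
      exact h.tower_top.isAlgebraic
    exact ((hia a).isIntegral.mul (hia b).isIntegral.inv).isAlgebraic
  let Ω := SeparableClosure κ
  let φ : ∀ i : Fib, separableClosure κ i.1.asIdeal.ResidueField →ₐ[κ] Ω := fun i => IsSepClosed.lift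
  let L : IntermediateField κ Ω := ⨆ i : Fib, IntermediateField.normalClosure κ (separableClosure κ i.1.asIdeal.ResidueField) Ω
  haveI : FiniteDimensional κ L := IntermediateField.finiteDimensional_iSup_of_finite
  haveI : Normal κ L := IntermediateField.normal_iSup _ _ _
  have hφL : ∀ i, (φ i).fieldRange ≤ L := fun i =>
    (AlgHom.fieldRange_le_normalClosure (φ i)).trans (le_iSup (fun i : Fib => IntermediateField.normalClosure κ (separableClosure κ i.1.asIdeal.ResidueField) Ω) i)
  let φ' : ∀ i : Fib, separableClosure κ i.1.asIdeal.ResidueField →ₐ[κ] L := fun i =>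
    (φ i).codRestrict L.toSubalgebra fun z => hφL i ⟨z, rfl⟩
  obtain ⟨R1, _, _, _, q1, _, hq1, ⟨eL⟩⟩ := Groth.Agent.ER4.exists_etale_residueField_ext p L
  haveI : q1.LiesOver p := ⟨hq1.symm⟩
  haveI : Algebra.QuasiFinite R R1 := inferInstance
  let T := R1 ⊗[R] S
  let F1 : Set (PrimeSpectrum T) := {Q | Q.asIdeal.comap (algebraMap R1 T) = q1}
  have hF1 : F1.Finite := (Dev4.finite_primes_tensor (R := R) (T := R1) hfin).subset fun Q hQ => by
    change (Q.asIdeal.comap Algebra.TensorProduct.includeRight.toRingHom).comap (algebraMap R S) = p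
    rw [← hq1, ← show Q.asIdeal.comap (algebraMap R1 T) = q1 from hQ, Ideal.comap_comap, Ideal.comap_comap]
    congr 1
    exact (AlgHom.comp_algebraMap (Algebra.TensorProduct.includeRight : S →ₐ[R] T)).trans (IsScalarTower.algebraMap_eq R R1 T)
  obtain ⟨T0, _, hT0⟩ := Dev4.exists_finite_separating (R := R1) hF1
  obtain ⟨R', _, _, _, P, _, _, n, e, he, P', hP'p, hP'o, hbij, hP'ne, H⟩ :=
    Algebra.exists_etale_completeOrthogonalIdempotents_forall_liesOver_eq (R := R1) (S := T0) q1
  letI algR' : Algebra R R' := ((algebraMap R1 R').comp (algebraMap R R1)).toAlgebra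
  haveI : IsScalarTower R R1 R' := IsScalarTower.of_algebraMap_eq' rfl
  haveI : Algebra.Etale R R' := Algebra.Etale.comp R R1 R'
  have hPp : P.comap (algebraMap R R') = p := by
    rw [IsScalarTower.algebraMap_eq R R1 R', ← Ideal.comap_comap, ← show q1 = P.comap (algebraMap R1 R') from P.over_def q1, hq1]
  let Z0 := R' ⊗[R1] T0
  let Z := R' ⊗[R1] T
  let j : Z0 →ₐ[R'] Z := Algebra.TensorProduct.map (AlgHom.id R' R') T0.val
  have hjinj : Function.Injective j := Module.Flat.lTensor_preserves_injective_linearMap T0.val.toLinearMap Subtype.val_injective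
  have hjint : j.toRingHom.IsIntegral := by
    refine RingHom.IsIntegral.tower_top (algebraMap R' Z0) _ ?_
    rw [show j.toRingHom.comp (algebraMap R' Z0) = algebraMap R' Z from j.comp_algebraMap]
    exact algebraMap_isIntegral_iff.2 inferInstance
  have huni : ∀ r r' : Ideal Z, r.IsPrime → r'.IsPrime → r.comap (algebraMap R' Z) = P → r'.comap (algebraMap R' Z) = P →
      r.comap j.toRingHom = r'.comap j.toRingHom → r = r' := by
    intro r r' _ _ hr hr' hj
    haveI : r.LiesOver P := ⟨hr.symm⟩
    haveI : r'.LiesOver P := ⟨hr'.symm⟩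
    refine Ideal.eq_of_comap_eq_comap_of_bijective_residueFieldMap hbij r r' ?_
    let iT : T →+* Z := (Algebra.TensorProduct.includeRight : T →ₐ[R1] Z).toRingHom
    have hiF : ∀ t : Ideal Z, ∀ _ : t.IsPrime, t.comap (algebraMap R' Z) = P →
        (⟨t.comap iT, inferInstance⟩ : PrimeSpectrum T) ∈ F1 := fun t _ ht => by
      change (t.comap iT).comap (algebraMap R1 T) = q1
      rw [P.over_def q1, Ideal.under, ← ht, Ideal.comap_comap, Ideal.comap_comap]
      congr 1
      exact (AlgHom.comp_algebraMap (Algebra.TensorProduct.includeRight : T →ₐ[R1] Z)).trans (IsScalarTower.algebraMap_eq R1 R' Z)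
    have hh := congrArg (Ideal.comap (Algebra.TensorProduct.includeRight : T0 →ₐ[R1] Z0).toRingHom) hj
    rw [Ideal.comap_comap, Ideal.comap_comap] at hh
    have hc : j.toRingHom.comp (Algebra.TensorProduct.includeRight : T0 →ₐ[R1] Z0).toRingHom = iT.comp T0.val.toRingHom :=
      RingHom.ext fun t => by simp [j, iT, Z0, Z]
    rw [hc, ← Ideal.comap_comap, ← Ideal.comap_comap] at hh
    exact congrArg PrimeSpectrum.asIdeal (hT0 _ (hiF r inferInstance hr) _ (hiF r' inferInstance hr') hh)
  rcases n with _ | n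
  · -- empty fibre
    obtain ⟨f, hfP, hf⟩ := Dev4.exists_notMem_of_disjoint_range (Z := Z) P fun r _ hr => by
      haveI : (r.comap j.toRingHom).LiesOver P := ⟨by
        rw [← hr]; exact (congrArg (fun g => r.comap g) j.comp_algebraMap.symm).trans (Ideal.comap_comap _ _).symm⟩
      have h1 := (H (r.comap j.toRingHom) inferInstance inferInstance).1
      have h2 : e (Fin.last 0) = 1 := by simpa using he.complete
      rw [h2] at h1
      exact (Ideal.IsPrime.ne_top (I := r.comap j.toRingHom) inferInstance) ((Ideal.eq_top_iff_one _).2 h1)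
    let Rf := Localization.Away f
    haveI : IsScalarTower R R' Rf := inferInstance
    haveI : Algebra.Etale R' Rf := Algebra.Etale.of_isLocalizationAway f
    let pf := P.map (algebraMap R' Rf)
    have hdisj : Disjoint (Submonoid.powers f : Set R') ↑P :=
      (Ideal.disjoint_powers_iff_notMem_of_isPrime f).2 hfP
    haveI : pf.IsPrime := IsLocalization.isPrime_of_isPrime_disjoint (.powers f) _ _ inferInstance hdisj
    have hS0 : Subsingleton (Rf ⊗[R] S) := by
      let m : R' ⊗[R] S →ₐ[R] Rf ⊗[R] S := Algebra.TensorProduct.map (IsScalarTower.toAlgHom R R' Rf) (AlgHom.id R S)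
      have h0 : (algebraMap R' (R' ⊗[R] S)) f = 0 := by
        rw [← (Algebra.TensorProduct.cancelBaseChange R R1 R' R' S).commutes f]
        exact (congrArg _ hf).trans (map_zero _)
      have hu : IsUnit ((algebraMap R' Rf f) ⊗ₜ[R] (1 : S)) :=
        (IsLocalization.Away.algebraMap_isUnit f).map (algebraMap Rf (Rf ⊗[R] S))
      have hz : (algebraMap R' Rf f) ⊗ₜ[R] (1 : S) = 0 := (congrArg m h0).trans (map_zero m)
      rw [hz] at hu
      exact subsingleton_of_zero_eq_one (isUnit_zero_iff.1 hu)
    refine ⟨Rf, inferInstance, inferInstance, ⟨pf, inferInstance⟩, Algebra.Etale.comp R R' Rf, ?_, 0,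
      fun _ => PUnit, fun _ => inferInstance, fun k => k.elim0,
      AlgEquiv.ofBijective (AlgHom.ofLinearMap ⟨⟨fun _ k => k.elim0, fun _ _ => funext fun k => k.elim0⟩, fun _ _ => funext fun k => k.elim0⟩
        (funext fun k => k.elim0) (fun _ _ => funext fun k => k.elim0))
        ⟨fun a b _ => Subsingleton.elim a b, fun b => ⟨0, funext fun k => k.elim0⟩⟩, fun k => k.elim0⟩
    change pf.comap (algebraMap R Rf) = p
    rw [IsScalarTower.algebraMap_eq R R' Rf, ← Ideal.comap_comap,
      show pf.comap (algebraMap R' Rf) = P from IsLocalization.under_map_of_isPrime_disjoint (.powers f) _ inferInstance hdisj, hPp]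
  let e2 : Fin (n + 1) → Z0 := fun i => e i.castSucc + if i = 0 then e (Fin.last _) else 0
  have he2 : CompleteOrthogonalIdempotents (j.toRingHom ∘ e2) := (Dev4.coi_merge he).map _
  let A : Fin (n + 1) → Type u := fun k => Z ⧸ Ideal.span {1 - j (e2 k)}
  let ε := AlgEquiv.ofBijective (Pi.algHom R' (fun k : Fin (n + 1) => A k) fun k => Ideal.Quotient.mkₐ R' (Ideal.span {1 - j (e2 k)})) he2.bijective_pi
  refine ⟨R', inferInstance, inferInstance, ⟨P, inferInstance⟩, inferInstance, hPp, n + 1, A,
    fun k => inferInstance, fun k => inferInstance,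
    (Algebra.TensorProduct.cancelBaseChange R R1 R' R' S).symm.trans ε, fun k => ⟨inferInstance, ?_⟩⟩
  let π : Z →+* A k := Ideal.Quotient.mk _
  have hπ : Function.Surjective π := Ideal.Quotient.mk_surjective
  -- characterisation of the primes of the factor over P
  have hchar : ∀ r : Ideal (A k), r.IsPrime → r.comap (algebraMap R' (A k)) = P →
      (r.comap π).comap j.toRingHom = P' k := by
    intro r _ hr
    haveI : ((r.comap π).comap j.toRingHom).LiesOver P := ⟨by
      rw [← hr, Ideal.under, Ideal.comap_comap, Ideal.comap_comap]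
      exact congrArg (fun g : R' →+* A k => r.comap g) (RingHom.ext fun a => congrArg π (j.commutes a).symm)⟩
    obtain ⟨hlast, hcase⟩ := H ((r.comap π).comap j.toRingHom) inferInstance inferInstance
    have h1 : e2 k ∉ (r.comap π).comap j.toRingHom := fun h => by
      have h' : π (j (e2 k)) = 1 := by
        rw [← map_one π, eq_comm]
        exact Ideal.Quotient.eq.2 (Ideal.subset_span rfl)
      exact (Ideal.IsPrime.ne_top (I := r) inferInstance) ((Ideal.eq_top_iff_one r).2 (h' ▸ h))
    refine hcase k fun hk => h1 ?_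
    change e k.castSucc + (if k = 0 then e (Fin.last _) else 0) ∈ _
    split_ifs
    · exact Ideal.add_mem _ hk hlast
    · simpa using hk
  obtain ⟨rZ, hrZ, hrZ'⟩ := Dev4.exists_prime_over j.toRingHom hjint hjinj (P' k)
  have hrk : e2 k ∉ P' k := fun h => by
    have hlast := (H (P' k) inferInstance inferInstance).1
    refine hP'ne k ?_
    have h' : e k.castSucc + (if k = 0 then e (Fin.last _) else 0) ∈ P' k := h
    split_ifs at h'
    · exact (Ideal.add_mem_iff_left _ hlast).1 h'
    · simpa using h'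
  have hker : RingHom.ker π ≤ rZ := by
    rw [Ideal.mk_ker, Ideal.span_singleton_le_iff_mem]
    refine ((hrZ.mem_or_mem (x := j (e2 k)) (y := 1 - j (e2 k)) ?_).resolve_left fun h => hrk ?_)
    · rw [mul_sub, mul_one, show j (e2 k) * j (e2 k) = j (e2 k) from (he2.idem k).eq, sub_self]; exact Ideal.zero_mem _
    · rw [← hrZ']; exact h
  let rA : PrimeSpectrum (A k) := ⟨rZ.map π, Ideal.map_isPrime_of_surjective hπ hker⟩
  have hrAπ : rA.asIdeal.comap π = rZ := by
    change (rZ.map π).comap π = rZ
    rw [Ideal.comap_map_of_surjective π hπ]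
    exact sup_eq_left.2 hker
  have hrA : rA.asIdeal.comap (algebraMap R' (A k)) = P := by
    rw [(P' k).over_def P, Ideal.under, ← hrZ', Ideal.comap_comap, show algebraMap R' (A k) = π.comp (algebraMap R' Z) from rfl,
      ← Ideal.comap_comap, hrAπ]
    exact congrArg (fun g : R' →+* Z => rZ.comap g) j.comp_algebraMap.symm
  haveI := rA.2
  refine ⟨rA, hrA, fun r' hr' => ?_, ?_⟩
  · refine PrimeSpectrum.ext (Ideal.comap_injective_of_surjective π hπ ?_)
    refine huni _ _ (Ideal.comap_isPrime π r'.asIdeal) (Ideal.comap_isPrime π rA.asIdeal) ?_ ?_ ((hchar _ r'.2 hr').trans (hchar _ rA.2 hrA).symm)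
    · rw [Ideal.comap_comap]; exact hr'
    · rw [Ideal.comap_comap]; exact hrA
  -- residue field
  letI : Algebra P.ResidueField rA.asIdeal.ResidueField :=
    (Ideal.ResidueField.map P rA.asIdeal (algebraMap R' (A k)) hrA.symm).toAlgebra
  let ρ : R' ⊗[R] S →+* rA.asIdeal.ResidueField :=
    (algebraMap (A k) _).comp (π.comp (Algebra.TensorProduct.cancelBaseChange R R1 R' R' S).symm.toRingEquiv.toRingHom)
  have hρR : ∀ a : R', ρ (a ⊗ₜ[R] (1 : S)) = algebraMap P.ResidueField rA.asIdeal.ResidueField (algebraMap R' _ a) := fun a => by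
    change algebraMap (A k) rA.asIdeal.ResidueField (π ((Algebra.TensorProduct.cancelBaseChange R R1 R' R' S).symm (algebraMap R' _ a))) = _
    rw [AlgEquiv.commutes, RingHom.algebraMap_toAlgebra, Ideal.ResidueField.map_algebraMap]
    rfl
  refine Dev4.purelyInsep_residue ρ ?_ {x | ∃ a s, x = a ⊗ₜ[R] s} ?_ ?_
  · intro x
    obtain ⟨a, b, -, rfl⟩ := IsFractionRing.div_surjective (A := A k ⧸ rA.asIdeal) x
    have hs : Function.Surjective ((Ideal.Quotient.mk rA.asIdeal).comp (π.comp
        (Algebra.TensorProduct.cancelBaseChange R R1 R' R' S).symm.toRingEquiv.toRingHom)) :=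
      Ideal.Quotient.mk_surjective.comp (hπ.comp (Algebra.TensorProduct.cancelBaseChange R R1 R' R' S).symm.surjective)
    obtain ⟨a', ha'⟩ := hs a
    obtain ⟨b', hb'⟩ := hs b
    exact ⟨a', b', by rw [← ha', ← hb']; rfl⟩
  · refine eq_top_iff.2 fun x _ => ?_
    induction x with
    | zero => exact zero_mem _
    | tmul a s => exact Subring.subset_closure ⟨a, s, rfl⟩
    | add a b ha hb => exact add_mem (ha trivial) (hb trivial)
  rintro _ ⟨a, s, rfl⟩
  rw [show a ⊗ₜ[R] s = (a ⊗ₜ[R] (1 : S)) * ((1 : R') ⊗ₜ[R] s) by rw [Algebra.TensorProduct.tmul_mul_tmul, mul_one, one_mul], map_mul, hρR]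
  refine mul_mem (IntermediateField.algebraMap_mem _ _) ?_
  let ρS : S →+* rA.asIdeal.ResidueField := ρ.comp (Algebra.TensorProduct.includeRight : S →ₐ[R] R' ⊗[R] S).toRingHom
  let ρR : R →+* rA.asIdeal.ResidueField := (algebraMap P.ResidueField _).comp ((algebraMap R' _).comp (algebraMap R R'))
  have hcompat : ρS.comp (algebraMap R S) = ρR := RingHom.ext fun c => by
    change ρ ((Algebra.TensorProduct.includeRight : S →ₐ[R] R' ⊗[R] S) (algebraMap R S c)) = _
    rw [AlgHom.commutes, Algebra.TensorProduct.algebraMap_apply, hρR]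
    rfl
  have hρRker : RingHom.ker ρR = p := by
    rw [RingHom.ker_comp_of_injective _ (RingHom.injective _), ← RingHom.comap_ker, Ideal.ker_algebraMap_residueField, hPp]
  obtain ⟨i, hi⟩ : ∃ i : Fib, i.1.asIdeal = RingHom.ker ρS := ⟨⟨⟨RingHom.ker ρS, RingHom.ker_isPrime _⟩, by
    change (RingHom.ker ρS).comap (algebraMap R S) = p
    rw [RingHom.comap_ker, hcompat, hρRker]⟩, rfl⟩
  letI : Algebra κ rA.asIdeal.ResidueField :=
    ((algebraMap P.ResidueField _).comp (Ideal.ResidueField.map p P (algebraMap R R') hPp.symm)).toAlgebra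
  let ι0 : i.1.asIdeal.ResidueField →+* rA.asIdeal.ResidueField :=
    Ideal.ResidueField.lift i.1.asIdeal ρS hi.le (fun x hx => isUnit_iff_ne_zero.2 fun h => hx (hi ▸ h))
  let ι : i.1.asIdeal.ResidueField →ₐ[κ] rA.asIdeal.ResidueField :=
    { ι0 with commutes' := fun c => RingHom.congr_fun (show ι0.comp (algebraMap κ _) = algebraMap κ _ from
        Ideal.ResidueField.ringHom_ext (RingHom.ext fun d => by
          change ι0 (Ideal.ResidueField.map p i.1.asIdeal (algebraMap R S) i.2.symm (algebraMap R κ d)) =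
            algebraMap P.ResidueField _ (Ideal.ResidueField.map p P (algebraMap R R') hPp.symm (algebraMap R κ d))
          rw [Ideal.ResidueField.map_algebraMap, Ideal.ResidueField.map_algebraMap, Ideal.ResidueField.lift_algebraMap]
          exact RingHom.congr_fun hcompat d)) c }
  let ψ0 : L →+* rA.asIdeal.ResidueField := (algebraMap P.ResidueField _).comp
    ((Ideal.ResidueField.map q1 P (algebraMap R1 R') (P.over_def q1)).comp eL.toRingEquiv.toRingHom)
  let ψ : L →ₐ[κ] rA.asIdeal.ResidueField :=
    { ψ0 with commutes' := fun c => RingHom.congr_fun (show ψ0.comp (algebraMap κ L) = algebraMap κ _ from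
        Ideal.ResidueField.ringHom_ext (RingHom.ext fun d => by
          change algebraMap P.ResidueField _ (Ideal.ResidueField.map q1 P (algebraMap R1 R') (P.over_def q1) (eL (algebraMap κ L (algebraMap R κ d)))) =
            algebraMap P.ResidueField _ (Ideal.ResidueField.map p P (algebraMap R R') hPp.symm (algebraMap R κ d))
          rw [← IsScalarTower.algebraMap_apply R κ L, eL.commutes, IsScalarTower.algebraMap_apply R R1 q1.ResidueField,
            Ideal.ResidueField.map_algebraMap, Ideal.ResidueField.map_algebraMap]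
          rfl)) c }
  obtain ⟨ℓ, hℓ⟩ := ExpChar.exists κ
  haveI : ExpChar P.ResidueField ℓ :=
    expChar_of_injective_ringHom (Ideal.ResidueField.map p P (algebraMap R R') hPp.symm).injective ℓ
  obtain ⟨m, hm⟩ := Dev4.pow_mem_range_of_normal ℓ (φ' i) ι ψ (algebraMap S _ s)
  rw [mem_perfectClosure_iff_pow_mem (F := P.ResidueField) ℓ]
  refine ⟨m, ?_⟩
  have hι : ι (algebraMap S _ s) = ρ ((1 : R') ⊗ₜ[R] s) := Ideal.ResidueField.lift_algebraMap i.1.asIdeal ρS hi.le (fun x hx => isUnit_iff_ne_zero.2 fun h => hx (hi ▸ h)) _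
  rw [hι] at hm
  obtain ⟨l, hl⟩ := hm
  exact ⟨_, hl⟩

end Groth.Agent.S1380
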