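import Groth.Statements.S13801
import Mathlib.Tactic
import Mathlib.LinearAlgebra.FreeModule.PID
import Mathlib.LinearAlgebra.Dimension.Finrank
import Mathlib.Algebra.MonoidAlgebra.MapDomain
import Mathlib.Algebra.MonoidAlgebra.Basic
import Mathlib.RingTheory.GradedAlgebra.Basic
import Mathlib.RingTheory.FiniteType
import Mathlib.Analysis.Seminorm
import Mathlib.Algebra.Module.CharacterModule
import Mathlib.Topology.Algebra.Group.Basic
import Mathlib.GroupTheory.FiniteAbelian.Basic
import Mathlib.NumberTheory.Padics.PadicVal.Basic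
import Mathlib.Data.Nat.Factorial.BigOperators
import Mathlib.Algebra.CharP.Basic
import Mathlib.Data.Nat.Choose.Sum

set_option autoImplicit false
open ChowMon

namespace Groth.Agent.S13801

/-- For a prime p and positive natural numbers a_1, ..., a_k with sum n one has v_p(a_1!) + ... +
v_p(a_k!) ≤ v_p(n!), and the inequality is strict whenever some a_i is not divisible by p^(v_p(n)). -/
theorem result {k : ℕ} (p : ℕ) [Fact p.Prime]
    (a : Fin k → ℕ) (ha : ∀ i, 0 < a i) :
    (∑ i, padicValNat p (a i).factorial ≤ padicValNat p (∑ i, a i).factorial) ∧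
      ((∃ i, ¬ p ^ padicValNat p (∑ j, a j) ∣ a i) →
        ∑ i, padicValNat p (a i).factorial < padicValNat p (∑ i, a i).factorial) := by
  have key : ∀ b : Fin k → ℕ, ∑ i, padicValNat p (b i).factorial ≤ padicValNat p (∑ i, b i).factorial := by
    intro b
    obtain ⟨c, hc⟩ := Nat.prod_factorial_dvd_factorial_sum Finset.univ b
    have hc0 : c ≠ 0 := fun e => Nat.factorial_ne_zero _ (by rw [hc, e, mul_zero])
    have hprod : ∀ s : Finset (Fin k), padicValNat p (∏ i ∈ s, (b i).factorial) = ∑ i ∈ s, padicValNat p (b i).factorial := by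
      intro s
      classical
      induction s using Finset.induction with
      | empty => simp
      | insert x s hx ih =>
        rw [Finset.prod_insert hx, Finset.sum_insert hx, padicValNat.mul (Nat.factorial_ne_zero _)
          (Finset.prod_ne_zero_iff.2 fun i _ => Nat.factorial_ne_zero _), ih]
    rw [hc, padicValNat.mul (Finset.prod_ne_zero_iff.2 fun i _ => Nat.factorial_ne_zero _) hc0, hprod]
    omega
  refine ⟨key a, ?_⟩
  rintro ⟨i, hi⟩
  obtain ⟨m, hm⟩ : ∃ m, a i = m + 1 := ⟨a i - 1, by have := ha i; omega⟩
  have hk := key (Function.update a i m)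
  rw [Finset.sum_update_of_mem (Finset.mem_univ i)] at hk
  have hrest : ∑ j, padicValNat p (Function.update a i m j).factorial = padicValNat p m.factorial + ∑ j ∈ Finset.univ \ {i}, padicValNat p (a j).factorial := by
    rw [← Finset.sum_update_of_mem (Finset.mem_univ i) (fun j => padicValNat p (a j).factorial)]
    exact Finset.sum_congr rfl fun j _ => by by_cases hj : j = i <;> simp [hj]
  have hsum : ∑ j, a j = m + (∑ j ∈ Finset.univ \ {i}, a j) + 1 := by
    rw [Finset.sum_eq_add_sum_sdiff_singleton_of_mem (Finset.mem_univ i), hm]; omega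
  rw [hrest] at hk
  rw [Finset.sum_eq_add_sum_sdiff_singleton_of_mem (Finset.mem_univ i) (fun j => padicValNat p (a j).factorial), hm, hsum, Nat.factorial_succ, Nat.factorial_succ, padicValNat.mul (Nat.succ_ne_zero _) (Nat.factorial_ne_zero _), padicValNat.mul (Nat.succ_ne_zero _) (Nat.factorial_ne_zero _)]
  have : padicValNat p (m + 1) < padicValNat p (∑ j, a j) := by
    by_contra hle
    apply hi
    exact dvd_trans (pow_dvd_pow p (not_lt.1 hle)) (hm ▸ pow_padicValNat_dvd)
  rw [hsum] at this
  simp only [Nat.succ_eq_add_one] at *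
  omega

end Groth.Agent.S13801
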