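import Groth.Statements.S13810
import Groth.Agent.Lib.EtaPt26.Val
-- import your own Groth.Agent.* helpers here

set_option autoImplicit false
universe u
open EtaPt

namespace Groth.Agent.S13810

/-- For commutative rings A and B, the pair of maps N_η of the two projections restricts to a bijection
from M_η(A × B) onto M_η(A) × M_η(B). Here η is a natural transformation from the identity of the
category of fields to an endofunctor F with F(η_K) bijective and η_K purely inseparable for every
field K, N_η(A) is the product of the F(k(p)) over the primes p of A with diagonal map t_A, and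
M_η(A) ⊆ N_η(A) is the subring of elements sent into the range of t_R by every ring map from A to a
valuation ring R at whose fraction field η is bijective; q_A : A → M_η(A) is the corestriction of
t_A. -/
theorem result (η : EtaPt.FieldEndo.{u}) (A B : Type u) [CommRing A] [CommRing B] :
    Set.BijOn (fun x : η.N (A × B) => (η.Nmap (RingHom.fst A B) x, η.Nmap (RingHom.snd A B) x))
      (η.M (A × B)) ((η.M A : Set (η.N A)) ×ˢ (η.M B : Set (η.N B))) := by
  let fA := RingHom.fst A B
  let sB := RingHom.snd A B
  have cov : ∀ x : η.N (A × B), η.Nmap fA x = 0 → η.Nmap sB x = 0 → x = 0 := by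
    intro x h1 h2
    funext P
    obtain ⟨Q, hQ⟩ | ⟨Q, hQ⟩ : (∃ Q, PrimeSpectrum.comap fA Q = P) ∨ (∃ Q, PrimeSpectrum.comap sB Q = P) := by
      have hP := P.2
      rcases (Ideal.ideal_prod_prime P.asIdeal).1 hP with ⟨p, hp, he⟩ | ⟨p, hp, he⟩
      · refine Or.inl ⟨⟨p, hp⟩, PrimeSpectrum.ext (Ideal.ext fun z => ?_)⟩
        rw [he]
        exact ⟨fun h => ⟨h, trivial⟩, fun h => h.1⟩
      · refine Or.inr ⟨⟨p, hp⟩, PrimeSpectrum.ext (Ideal.ext fun z => ?_)⟩
        rw [he]
        exact ⟨fun h => ⟨trivial, h⟩, fun h => h.2⟩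
    · subst hQ; exact (map_eq_zero (η.map _)).1 (congrFun h1 Q)
    · subst hQ; exact (map_eq_zero (η.map _)).1 (congrFun h2 Q)
  refine ⟨fun x hx => ⟨EtaPt26.Nmap_mem_M η fA hx, EtaPt26.Nmap_mem_M η sB hx⟩, fun x _ y _ e => ?_, ?_⟩
  · exact sub_eq_zero.1 (cov _ (by rw [map_sub, sub_eq_zero]; exact congrArg Prod.fst e)
      (by rw [map_sub, sub_eq_zero]; exact congrArg Prod.snd e))
  · rintro ⟨y, z⟩ ⟨hy, hz⟩
    have sur1 : Function.Surjective fA := fun a => ⟨(a, 0), rfl⟩
    have sur2 : Function.Surjective sB := fun b => ⟨(0, b), rfl⟩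
    obtain ⟨x1, h1⟩ := EtaPt26.surjective_Nmap_of (η := η) fA (PrimeSpectrum.comap_injective_of_surjective fA sur1)
      (RingHom.surjectiveOnStalks_of_surjective sur1) y
    obtain ⟨x2, h2⟩ := EtaPt26.surjective_Nmap_of (η := η) sB (PrimeSpectrum.comap_injective_of_surjective sB sur2)
      (RingHom.surjectiveOnStalks_of_surjective sur2) z
    let x := η.t (A × B) (1, 0) * x1 + η.t (A × B) (0, 1) * x2
    have e1 : η.Nmap fA x = y := by
      rw [map_add, map_mul, map_mul, EtaPt26.Nmap_t, EtaPt26.Nmap_t, h1]
      show η.t A 1 * y + η.t A 0 * _ = y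
      rw [map_one, map_zero, one_mul, zero_mul, add_zero]
    have e2 : η.Nmap sB x = z := by
      rw [map_add, map_mul, map_mul, EtaPt26.Nmap_t, EtaPt26.Nmap_t, h2]
      show η.t B 0 * _ + η.t B 1 * z = z
      rw [map_one, map_zero, one_mul, zero_mul, zero_add]
    refine ⟨x, fun R _ _ _ hR g => ?_, Prod.ext e1 e2⟩
    have hidem : g (1, 0) * g (0, 1) = 0 := by rw [← map_mul, Prod.mk_mul_mk, mul_zero, zero_mul, ← Prod.zero_eq_mk, map_zero]
    have hsum : g (1, 0) + g (0, 1) = 1 := by rw [← map_add, Prod.mk_add_mk, add_zero, zero_add, ← Prod.one_eq_mk, map_one]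
    rcases mul_eq_zero.1 hidem with h0 | h0
    · let g' : B →+* R := { toFun := fun b => g (0, b), map_one' := by rw [← hsum, h0, zero_add],
                            map_mul' := fun a b => by rw [← map_mul, Prod.mk_mul_mk, zero_mul],
                            map_zero' := map_zero g, map_add' := fun a b => by rw [← map_add, Prod.mk_add_mk, add_zero] }
      have hg : g = g'.comp sB := RingHom.ext fun w => by
        show g w = g (0, w.2)
        conv_lhs => rw [show w = (1, 0) * w + (0, w.2) from Prod.ext (by simp) (by simp)]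
        rw [map_add, map_mul, h0, zero_mul, zero_add]
      rw [hg, EtaPt26.Nmap_comp, e2]
      exact hz R hR g'
    · let g' : A →+* R := { toFun := fun a => g (a, 0), map_one' := by rw [← hsum, h0, add_zero],
                            map_mul' := fun a b => by rw [← map_mul, Prod.mk_mul_mk, zero_mul],
                            map_zero' := map_zero g, map_add' := fun a b => by rw [← map_add, Prod.mk_add_mk, add_zero] }
      have hg : g = g'.comp fA := RingHom.ext fun w => by
        show g w = g (w.1, 0)
        conv_lhs => rw [show w = (w.1, 0) + (0, 1) * w from Prod.ext (by simp) (by simp)]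
        rw [map_add, map_mul, h0, zero_mul, add_zero]
      rw [hg, EtaPt26.Nmap_comp, e1]
      exact hy R hR g' 

end Groth.Agent.S13810
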