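import Groth.Statements.S13814
import Groth.Agent.Lib.EtaPt26.Val
-- import your own Groth.Agent.* helpers here

set_option autoImplicit false
universe u
open EtaPt

namespace Groth.Agent.S13814

/-- Let R be a valuation ring with fraction field K = k((0)) such that η is bijective at K, or such that
every field of the same characteristic as R at which η is bijective is perfect. Then the ring M_η(R)
is again a valuation ring, every element of F(K) is a quotient of generic components of elements of
M_η(R), and an element of F(K) that is both the generic component of an element of M_η(R) and in the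
image of K comes from R. (The published statement assumes nothing about η beyond the standing
conditions, and then fails: for the endofunctor equal to the perfect closure on the fields of
characteristic 2 and transcendence degree at least 2 over the prime field and to the identity on
every other field, and R = F_2(s)[t] localised at (t), neither of the elements (s^(1/2) t, 0) and
(t, 0) of M_η(R) ⊆ F(K) × F_2(s) divides the other, so M_η(R) is not a valuation ring. This row
assumes that η is bijective at Frac R, or that every field of the same characteristic as R at which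
η is bijective is perfect; both the identity and the perfect closure satisfy this.) Here η is a
natural transformation from the identity of the category of fields to an endofunctor F with F(η_K)
bijective and η_K purely inseparable for every field K, N_η(A) is the product of the F(k(p)) over
the primes p of A with diagonal map t_A, and M_η(A) ⊆ N_η(A) is the subring of elements sent into
the range of t_R by every ring map from A to a valuation ring R at whose fraction field η is
bijective; q_A : A → M_η(A) is the corestriction of t_A. -/
theorem result (η : EtaPt.FieldEndo.{u}) (R : Type u) [CommRing R] [IsDomain R] [ValuationRing R]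
    (hη : η.InV R ∨ ∀ (k : Type u) [Field k], ringChar k = ringChar R →
      Function.Bijective (η.eta k) → PerfectField k) :
    IsDomain (η.M R) ∧ PreValuationRing (η.M R) ∧
      (∀ y : η.obj (⊥ : Ideal R).ResidueField, ∃ a b : η.M R,
        (b : η.N R) ⟨⊥, Ideal.isPrime_bot⟩ ≠ 0 ∧
          y * (b : η.N R) ⟨⊥, Ideal.isPrime_bot⟩ = (a : η.N R) ⟨⊥, Ideal.isPrime_bot⟩) ∧
      (fun x : η.N R => x ⟨⊥, Ideal.isPrime_bot⟩) '' (η.M R : Set (η.N R)) ∩
          Set.range (η.eta (⊥ : Ideal R).ResidueField) =
        Set.range ((η.eta (⊥ : Ideal R).ResidueField).comp (algebraMap R (⊥ : Ideal R).ResidueField)) := by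
  let ev : η.M R →+* η.obj (⊥ : Ideal R).ResidueField := EtaPt26.evP η ⟨⊥, Ideal.isPrime_bot⟩
  have hev : Function.Injective ev := fun a b e => Subtype.ext (EtaPt26.eq_of_generic η a.2 b.2 e)
  refine ⟨hev.isDomain ev, ⟨fun a b => ?_⟩, fun y => ?_, Set.ext fun y => ⟨?_, ?_⟩⟩
  · by_cases ha : ev a = 0
    · exact ⟨0, Or.inr (by rw [mul_zero, (map_eq_zero_iff ev hev).1 ha])⟩
    · by_cases hb : ev b = 0
      · exact ⟨0, Or.inl (by rw [mul_zero, (map_eq_zero_iff ev hev).1 hb])⟩
      rcases EtaPt26.isIntegralElem_or (η := η) (ev b / ev a) with h | h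
      · obtain ⟨c, hc⟩ := EtaPt26.exists_mem_M_of_integral hη _ h
        have hc' : ev c = ev b / ev a := hc
        exact ⟨c, Or.inl (hev (by rw [map_mul, hc', mul_div_cancel₀ _ ha]))⟩
      · obtain ⟨c, hc⟩ := EtaPt26.exists_mem_M_of_integral hη _ h
        have hc' : ev c = (ev b / ev a)⁻¹ := hc
        exact ⟨c, Or.inr (hev (by rw [map_mul, hc', inv_div, mul_div_cancel₀ _ hb]))⟩
  · rcases EtaPt26.isIntegralElem_or (η := η) y with h | h
    · obtain ⟨c, hc⟩ := EtaPt26.exists_mem_M_of_integral hη y h
      exact ⟨c, 1, one_ne_zero, (mul_one y).trans hc.symm⟩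
    · obtain ⟨c, hc⟩ := EtaPt26.exists_mem_M_of_integral hη _ h
      by_cases hy : y = 0
      · subst hy
        exact ⟨0, 1, one_ne_zero, by simp⟩
      · exact ⟨1, c, by rw [hc]; exact inv_ne_zero hy, by rw [hc, mul_inv_cancel₀ hy]; rfl⟩
  · rintro ⟨⟨x, hx, rfl⟩, k, hk⟩
    obtain ⟨P, hP, hPx⟩ := EtaPt26.isIntegralElem_apply η hx ⟨⊥, Ideal.isPrime_bot⟩
    obtain ⟨r, rfl⟩ : ∃ r, algebraMap R _ r = k := by
      refine IsIntegrallyClosed.isIntegral_iff.1 ⟨P, hP, (η.eta _).injective ?_⟩
      rw [map_zero, Polynomial.hom_eval₂, hk]
      exact hPx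
    exact ⟨r, hk⟩
  · rintro ⟨r, rfl⟩
    exact ⟨⟨η.t R r, η.t_mem_M R r, rfl⟩, _, rfl⟩

end Groth.Agent.S13814
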