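import Groth.Statements.S13820
import Groth.Agent.Lib.EtaPt26.Rel
-- import your own Groth.Agent.* helpers here

set_option autoImplicit false
universe u
open EtaPt

namespace Groth.Agent.S13820

/-- Let A have finitely many minimal prime ideals and let B be an A-algebra with Spec B → Spec A
surjective, C the integral closure of A in B; then the inclusion C ⊆ B carries (C/A)_η onto (B/A)_η.
Here η is a natural transformation from the identity of the category of fields to an endofunctor F
with F(η_K) bijective and η_K purely inseparable for every field K, N_η(A) is the product of the
F(k(p)) over the primes p of A with diagonal map t_A, and M_η(A) ⊆ N_η(A) is the subring of elements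
sent into the range of t_R by every ring map from A to a valuation ring R at whose fraction field η
is bijective; q_A : A → M_η(A) is the corestriction of t_A. For a ring map f : A → B, (B/A)_η ⊆ B
denotes the subring of elements b with t_B(b) in N_η(f)(M_η(A)) (the image in B of the fibre product
of M_η(A) and B over M_η(B)), and q_{B/A} : A → (B/A)_η the corestriction of f. -/
theorem result (η : EtaPt.FieldEndo.{u}) (A B : Type u) [CommRing A] [CommRing B] [Algebra A B]
    (hA : (minimalPrimes A).Finite) (hs : Function.Surjective (PrimeSpectrum.comap (algebraMap A B))) :
    (η.rel (algebraMap A (integralClosure A B))).map (integralClosure A B).val.toRingHom =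
      η.rel (algebraMap A B) := by
  refine le_antisymm (EtaPt26.rel_map_le (η := η) (f := algebraMap A (integralClosure A B))
    (integralClosure A B).val.toRingHom) fun b hb => ?_
  have hint := EtaPt26.isIntegral_qRel (η := η) hA hs
  have hmem : ∀ c : η.rel (algebraMap A B), (c : B) ∈ integralClosure A B := fun c => by
    obtain ⟨P, hP, hPc⟩ := hint c
    refine ⟨P, hP, ?_⟩
    have h := congrArg (η.rel (algebraMap A B)).subtype hPc
    rw [map_zero, Polynomial.hom_eval₂] at h
    exact h
  let incl : η.rel (algebraMap A B) →+* integralClosure A B :=
    (η.rel (algebraMap A B)).subtype.codRestrict (integralClosure A B).toSubring hmem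
  have e : incl.comp (η.qRel (algebraMap A B)) = algebraMap A (integralClosure A B) := RingHom.ext fun a => rfl
  have h := EtaPt26.range_le_rel (η := η) incl hint (EtaPt26.bijective_Nmap_qRel hA hs)
  rw [e] at h
  exact ⟨incl ⟨b, hb⟩, h ⟨_, rfl⟩, rfl⟩

end Groth.Agent.S13820
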