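import Groth.Statements.S13821
import Groth.Agent.Lib.EtaPt26.Rel
-- import your own Groth.Agent.* helpers here

set_option autoImplicit false
universe u
open EtaPt

namespace Groth.Agent.S13821

/-- Let A and B have finitely many minimal prime ideals and let f : A → B, g : B → C be ring maps with
Spec(f) and Spec(g) surjective. If q_{B/A} and q_{C/B} are bijective then so is q_{C/A}; and if g is
injective and q_{C/A} is bijective then q_{B/A} is bijective. Here η is a natural transformation
from the identity of the category of fields to an endofunctor F with F(η_K) bijective and η_K purely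
inseparable for every field K, N_η(A) is the product of the F(k(p)) over the primes p of A with
diagonal map t_A, and M_η(A) ⊆ N_η(A) is the subring of elements sent into the range of t_R by every
ring map from A to a valuation ring R at whose fraction field η is bijective; q_A : A → M_η(A) is
the corestriction of t_A. For a ring map f : A → B, (B/A)_η ⊆ B denotes the subring of elements b
with t_B(b) in N_η(f)(M_η(A)) (the image in B of the fibre product of M_η(A) and B over M_η(B)), and
q_{B/A} : A → (B/A)_η the corestriction of f. (The published statement assumes finitely many minimal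
primes only for A; this row also assumes it for B, under which the relative ring of g is
introduced.) -/
theorem result (η : EtaPt.FieldEndo.{u}) {A B C : Type u} [CommRing A] [CommRing B] [CommRing C]
    (hA : (minimalPrimes A).Finite) (hB : (minimalPrimes B).Finite) (f : A →+* B) (g : B →+* C)
    (hf : Function.Surjective (PrimeSpectrum.comap f)) (hg : Function.Surjective (PrimeSpectrum.comap g)) :
    (Function.Bijective (η.qRel f) → Function.Bijective (η.qRel g) → Function.Bijective (η.qRel (g.comp f))) ∧
      (Function.Injective g → Function.Bijective (η.qRel (g.comp f)) → Function.Bijective (η.qRel f)) := by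
  refine ⟨fun h1 h2 => EtaPt26.bijective_qRel_iff.2 ⟨?_, ?_⟩, fun gi h => EtaPt26.bijective_qRel_iff.2 ⟨?_, ?_⟩⟩
  · exact (EtaPt26.bijective_qRel_iff.1 h2).1.comp (EtaPt26.bijective_qRel_iff.1 h1).1
  · intro c hc
    obtain ⟨x, hx, e⟩ := EtaPt26.mem_rel_iff.1 hc
    rw [EtaPt26.Nmap_comp] at e
    obtain ⟨b, rfl⟩ := (EtaPt26.bijective_qRel_iff.1 h2).2 c ⟨_, EtaPt26.Nmap_mem_M η f hx, e⟩
    obtain ⟨a, rfl⟩ := (EtaPt26.bijective_qRel_iff.1 h1).2 b
      ⟨x, hx, EtaPt26.injective_Nmap_of_surjective hg (by rw [e, EtaPt26.Nmap_t])⟩
    exact ⟨a, rfl⟩
  · exact Function.Injective.of_comp (f := g) (EtaPt26.bijective_qRel_iff.1 h).1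
  · intro b hb
    obtain ⟨a, ha⟩ := (EtaPt26.bijective_qRel_iff.1 h).2 (g b) (EtaPt26.rel_map_le g ⟨b, hb, rfl⟩)
    exact ⟨a, gi ha⟩

end Groth.Agent.S13821
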