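import Groth.Statements.S13822
import Groth.Agent.Lib.EtaPt26.Rel
import Mathlib.RingTheory.Flat.FaithfullyFlat.Algebra
import Mathlib.LinearAlgebra.TensorProduct.RightExactness
-- import your own Groth.Agent.* helpers here

set_option autoImplicit false
universe u
open scoped TensorProduct
open EtaPt

namespace Groth.Agent.S13822

/-- Let A → A' be faithfully flat with A and A' having finitely many minimal prime ideals, and B an
A-algebra with Spec B → Spec A surjective; if q_{(A' ⊗ B)/A'} is bijective then q_{B/A} is
bijective. Here η is a natural transformation from the identity of the category of fields to an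
endofunctor F with F(η_K) bijective and η_K purely inseparable for every field K, N_η(A) is the
product of the F(k(p)) over the primes p of A with diagonal map t_A, and M_η(A) ⊆ N_η(A) is the
subring of elements sent into the range of t_R by every ring map from A to a valuation ring R at
whose fraction field η is bijective; q_A : A → M_η(A) is the corestriction of t_A. For a ring map f
: A → B, (B/A)_η ⊆ B denotes the subring of elements b with t_B(b) in N_η(f)(M_η(A)) (the image in B
of the fibre product of M_η(A) and B over M_η(B)), and q_{B/A} : A → (B/A)_η the corestriction of f. -/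
theorem result (η : EtaPt.FieldEndo.{u}) (A A' B : Type u) [CommRing A] [CommRing A'] [CommRing B]
    [Algebra A A'] [Algebra A B] [Module.FaithfullyFlat A A']
    (hA : (minimalPrimes A).Finite) (hA' : (minimalPrimes A').Finite)
    (hs : Function.Surjective (PrimeSpectrum.comap (algebraMap A B)))
    (h : Function.Bijective (η.qRel (Algebra.TensorProduct.includeLeftRingHom : A' →+* A' ⊗[A] B))) :
    Function.Bijective (η.qRel (algebraMap A B)) := by
  obtain ⟨hinj, hsurj⟩ := EtaPt26.bijective_qRel_iff.1 h
  let incR : B →+* A' ⊗[A] B := (Algebra.TensorProduct.includeRight : B →ₐ[A] A' ⊗[A] B).toRingHom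
  have hsq : incR.comp (algebraMap A B) =
      (Algebra.TensorProduct.includeLeftRingHom : A' →+* A' ⊗[A] B).comp (algebraMap A A') :=
    RingHom.ext fun a => (AlgHom.commutes (Algebra.TensorProduct.includeRight : B →ₐ[A] A' ⊗[A] B) a).trans
      (Algebra.TensorProduct.algebraMap_apply a)
  have hAB : Function.Injective (algebraMap A B) := fun a b e =>
    (FaithfulSMul.algebraMap_injective A A') (hinj ((RingHom.congr_fun hsq a).symm.trans
      ((congrArg incR e).trans (RingHom.congr_fun hsq b))))
  refine EtaPt26.bijective_qRel_iff.2 ⟨hAB, fun b hb => ?_⟩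
  obtain ⟨x, hx, e⟩ := EtaPt26.mem_rel_iff.1 hb
  obtain ⟨a', ha'⟩ := hsurj (incR b) ⟨η.Nmap (algebraMap A A') x, EtaPt26.Nmap_mem_M η _ hx, by
    rw [← EtaPt26.Nmap_comp, ← hsq, EtaPt26.Nmap_comp, e, EtaPt26.Nmap_t]⟩
  let π : B →ₗ[A] B ⧸ LinearMap.range (Algebra.linearMap A B) := (LinearMap.range (Algebra.linearMap A B)).mkQ
  have h0 : (1 : A') ⊗ₜ[A] π b = 0 := by
    have h1 := congrArg (LinearMap.lTensor A' π) ha'
    simp only [incR, AlgHom.toRingHom_eq_coe, RingHom.coe_coe, Algebra.TensorProduct.includeRight_apply,
      Algebra.TensorProduct.includeLeftRingHom_apply, LinearMap.lTensor_tmul] at h1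
    rw [← h1, show π 1 = 0 from (Submodule.Quotient.mk_eq_zero _).2 ⟨1, map_one (algebraMap A B)⟩,
      TensorProduct.tmul_zero]
  have h2 : π b = 0 := (Module.FaithfullyFlat.one_tmul_eq_zero_iff A _ (π b)).1 h0
  exact (Submodule.Quotient.mk_eq_zero _).1 h2

end Groth.Agent.S13822
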