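import Groth.Statements.S13823
import Groth.Agent.Lib.EtaPt26.Rel
import Mathlib.RingTheory.Flat.FaithfullyFlat.Algebra
import Mathlib.RingTheory.Localization.FractionRing
import Mathlib.RingTheory.Flat.Localization
-- import your own Groth.Agent.* helpers here

set_option autoImplicit false
universe u
open EtaPt

namespace Groth.Agent.S13823

/-- Let A → A' be faithfully flat with A and A' having finitely many minimal prime ideals, and let Ā, Ā'
be the integral closures of A, A' in their total rings of fractions; if q_{Ā'/A'} is bijective then
q_{Ā/A} is bijective. Here η is a natural transformation from the identity of the category of fields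
to an endofunctor F with F(η_K) bijective and η_K purely inseparable for every field K, N_η(A) is
the product of the F(k(p)) over the primes p of A with diagonal map t_A, and M_η(A) ⊆ N_η(A) is the
subring of elements sent into the range of t_R by every ring map from A to a valuation ring R at
whose fraction field η is bijective; q_A : A → M_η(A) is the corestriction of t_A. For a ring map f
: A → B, (B/A)_η ⊆ B denotes the subring of elements b with t_B(b) in N_η(f)(M_η(A)) (the image in B
of the fibre product of M_η(A) and B over M_η(B)), and q_{B/A} : A → (B/A)_η the corestriction of f. -/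
theorem result (η : EtaPt.FieldEndo.{u}) (A A' : Type u) [CommRing A] [CommRing A'] [Algebra A A'] [Module.FaithfullyFlat A A']
    (hA : (minimalPrimes A).Finite) (hA' : (minimalPrimes A').Finite)
    (h : Function.Bijective (η.qRel (algebraMap A' (integralClosure A' (FractionRing A'))))) :
    Function.Bijective (η.qRel (algebraMap A (integralClosure A (FractionRing A)))) := by
  obtain ⟨hinj, hsurj⟩ := EtaPt26.bijective_qRel_iff.1 h
  have hnzd : nonZeroDivisors A ≤ (nonZeroDivisors A').comap (algebraMap A A') := fun s hs =>
    mem_nonZeroDivisors_iff_right.2 fun y hy => by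
      have hr := Module.Flat.lTensor_preserves_injective_linearMap (R := A) (M := A')
        (LinearMap.mulLeft A s) (fun u v e => (mul_cancel_left_mem_nonZeroDivisors hs).1 e)
      have h1 : (TensorProduct.rid A A').symm y = 0 := hr (by
        rw [map_zero, TensorProduct.rid_symm_apply, LinearMap.lTensor_tmul, LinearMap.mulLeft_apply, mul_one,
          show (s : A) = s • (1 : A) from (mul_one s).symm, ← TensorProduct.smul_tmul, Algebra.smul_def,
          mul_comm, hy, TensorProduct.zero_tmul])
      exact (TensorProduct.rid A A').symm.injective (h1.trans (map_zero _).symm)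
  let F : FractionRing A →+* FractionRing A' := IsLocalization.map (FractionRing A') (algebraMap A A') hnzd
  have hF : ∀ a, F (algebraMap A _ a) = algebraMap A' _ (algebraMap A A' a) := fun a => IsLocalization.map_eq hnzd a
  have hmem : ∀ c : integralClosure A (FractionRing A), F c ∈ integralClosure A' (FractionRing A') := fun c => by
    obtain ⟨P, hP, hPc⟩ := c.2
    refine ⟨P.map (algebraMap A A'), hP.map _, ?_⟩
    rw [Polynomial.eval₂_map, show (algebraMap A' (FractionRing A')).comp (algebraMap A A') =
      F.comp (algebraMap A (FractionRing A)) from RingHom.ext fun a => (hF a).symm, ← Polynomial.hom_eval₂, hPc,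
      map_zero]
  let G : integralClosure A (FractionRing A) →+* integralClosure A' (FractionRing A') :=
    (F.comp (integralClosure A (FractionRing A)).val.toRingHom).codRestrict
      (integralClosure A' (FractionRing A')).toSubring hmem
  have hsq : G.comp (algebraMap A _) = (algebraMap A' _).comp (algebraMap A A') :=
    RingHom.ext fun a => Subtype.ext (hF a)
  refine EtaPt26.bijective_qRel_iff.2 ⟨fun a b e => IsFractionRing.injective A (FractionRing A)
    (congrArg Subtype.val e), fun c hc => ?_⟩
  obtain ⟨x, hx, e⟩ := EtaPt26.mem_rel_iff.1 hc
  obtain ⟨a', ha'⟩ := hsurj (G c) ⟨η.Nmap (algebraMap A A') x, EtaPt26.Nmap_mem_M η _ hx, by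
    rw [← EtaPt26.Nmap_comp, ← hsq, EtaPt26.Nmap_comp, e, EtaPt26.Nmap_t]⟩
  obtain ⟨⟨x0, s⟩, hxs⟩ := IsLocalization.surj (nonZeroDivisors A) (c : FractionRing A)
  have hax : a' * algebraMap A A' s = algebraMap A A' x0 := by
    refine IsFractionRing.injective A' (FractionRing A') ?_
    have h1 : algebraMap A' (FractionRing A') a' = F c := congrArg Subtype.val ha'
    rw [map_mul, h1, ← hF, ← hF, ← map_mul, hxs]
  obtain ⟨a, ha⟩ : ∃ a, (s : A) * a = x0 := by
    have hm : algebraMap A A' x0 ∈ (Ideal.span {(s : A)}).map (algebraMap A A') := by
      rw [← hax]; exact Ideal.mul_mem_left _ _ (Ideal.mem_map_of_mem _ (Ideal.mem_span_singleton_self _))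
    rw [← Ideal.mem_comap, Ideal.comap_map_eq_self_of_faithfullyFlat] at hm
    obtain ⟨a, ha⟩ := Ideal.mem_span_singleton'.1 hm
    exact ⟨a, by rw [mul_comm, ha]⟩
  refine ⟨a, Subtype.ext ((IsLocalization.map_units (FractionRing A) s).mul_left_injective ?_)⟩
  show algebraMap A (FractionRing A) a * algebraMap A _ (s : A) = (c : FractionRing A) * algebraMap A _ (s : A)
  rw [← map_mul, mul_comm, ha, ← hxs]

end Groth.Agent.S13823
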