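import Groth.Statements.S13826
import Groth.Agent.Lib.EtaPt26.Val
import Groth.Agent.Lib.UnivHomeoRing26.Basic
-- import your own Groth.Agent.* helpers here

set_option autoImplicit false
universe u
open EtaPt

namespace Groth.Agent.S13826

/-- For the identity endofunctor and a commutative ring A with finitely many minimal prime ideals, q_A :
A → M(A) is a seminormalization of A: Spec(q_A) is a universal homeomorphism with trivial residue
field extensions, final among ring maps out of A with these properties. Here M(A) ⊆ ∏_p k(p) is the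
subring of families whose image in ∏_q k(q), for every ring map from A to a valuation ring R, is the
diagonal image of an element of R. -/
theorem result (A : Type u) [CommRing A] (hA : (minimalPrimes A).Finite) :
    HTop.IsRingSN (EtaPt.FieldEndo.ident.{u}.q A) := by
  have hb := EtaPt26.comap_q_bijective EtaPt.FieldEndo.ident.{u} hA
  have hN := EtaPt26.bijective_Nmap_q (η := EtaPt.FieldEndo.ident.{u}) hA
  refine ⟨⟨UnivHomeoRing26.isUnivHomeo_of _ (EtaPt26.isIntegral_q _ hA) hb.2
    (fun L _ g h e => EtaPt26.point_ext hN.2 g h e), UnivHomeoRing26.residueFieldsIso_of _ fun Q => ?_⟩,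
    fun C _ ψ h1 h2 => ?_⟩
  · obtain ⟨φ, hφ⟩ := EtaPt26.factors_q (η := EtaPt.FieldEndo.ident.{u}) hA Q
    exact fun y => ⟨φ y, φ.injective (RingHom.congr_fun hφ (φ y))⟩
  · refine EtaPt26.existsUnique_lift (UnivHomeoRing26.isIntegral_of h1)
      (EtaPt26.bijective_Nmap_of (UnivHomeoRing26.bijective_comap h1) fun Q => ?_)
    let e := RingEquiv.ofBijective _ (⟨RingHom.injective _, UnivHomeoRing26.surjective_of_isIso ψ Q (h2 Q)⟩ :
      Function.Bijective (Ideal.ResidueField.map (PrimeSpectrum.comap ψ Q).asIdeal Q.asIdeal ψ rfl))
    exact ⟨e.symm.toRingHom, RingHom.ext fun a => e.symm_apply_apply a⟩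

end Groth.Agent.S13826
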