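import Groth.Statements.S13830
import Groth.Agent.Lib.EtaPt26.Val
import Groth.Agent.Lib.UnivHomeoRing26.Basic
-- import your own Groth.Agent.* helpers here

set_option autoImplicit false
universe u
open AlgebraicGeometry
open EtaPt

namespace Groth.Agent.S13830

/-- For the identity endofunctor, a commutative ring A with finitely many minimal prime ideals and an
A-algebra B with Spec B → Spec A surjective, the subring (B/A) ⊆ B (elements b whose residue classes
(b mod q)_q come from a family in M(A) ⊆ ∏_p k(p), M(A) being the families that come from an element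
of R after any base change to a valuation ring R) is the seminormalization of A in B: Spec (B/A) →
Spec A is a universal homeomorphism with trivial residue field extensions, and every A-subalgebra C
of B with these two properties is contained in (B/A). -/
theorem result (A B : Type u) [CommRing A] [CommRing B] [Algebra A B] (hA : (minimalPrimes A).Finite)
    (hs : Function.Surjective (PrimeSpectrum.comap (algebraMap A B))) :
    (FlatMor.IsUnivHomeo (Spec.map (CommRingCat.ofHom (EtaPt.FieldEndo.ident.{u}.qRel (algebraMap A B)))) ∧
      HTop.ResidueFieldsIso (Spec.map (CommRingCat.ofHom (EtaPt.FieldEndo.ident.{u}.qRel (algebraMap A B))))) ∧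
    ∀ C : Subalgebra A B,
      FlatMor.IsUnivHomeo (Spec.map (CommRingCat.ofHom (algebraMap A C))) →
      HTop.ResidueFieldsIso (Spec.map (CommRingCat.ofHom (algebraMap A C))) →
      C.toSubring ≤ EtaPt.FieldEndo.ident.{u}.rel (algebraMap A B) := by
  have hb := EtaPt26.comap_qRel_bijective (η := EtaPt.FieldEndo.ident.{u}) hA hs
  have hN := EtaPt26.bijective_Nmap_qRel (η := EtaPt.FieldEndo.ident.{u}) hA hs
  refine ⟨⟨UnivHomeoRing26.isUnivHomeo_of _ (EtaPt26.isIntegral_qRel hA hs) hb.2
    (fun L _ g h e => EtaPt26.point_ext hN.2 g h e), UnivHomeoRing26.residueFieldsIso_of _ fun Q => ?_⟩,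
    fun C h1 h2 => ?_⟩
  · obtain ⟨φ, hφ⟩ := EtaPt26.factors_qRel (η := EtaPt.FieldEndo.ident.{u}) hA hs Q
    exact fun y => ⟨φ y, φ.injective (RingHom.congr_fun hφ (φ y))⟩
  · have hN' := EtaPt26.bijective_Nmap_of (η := EtaPt.FieldEndo.ident.{u}) (UnivHomeoRing26.bijective_comap h1)
      fun Q => by
        let e := RingEquiv.ofBijective _
          (⟨RingHom.injective _, UnivHomeoRing26.surjective_of_isIso (algebraMap A C) Q (h2 Q)⟩ :
            Function.Bijective (Ideal.ResidueField.map (PrimeSpectrum.comap (algebraMap A C) Q).asIdeal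
              Q.asIdeal (algebraMap A C) rfl))
        exact ⟨e.symm.toRingHom, RingHom.ext fun a => e.symm_apply_apply a⟩
    intro c hc
    exact EtaPt26.range_le_rel C.val.toRingHom (UnivHomeoRing26.isIntegral_of h1) hN' ⟨⟨c, hc⟩, rfl⟩

end Groth.Agent.S13830
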