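import Groth.Statements.S13831
import Groth.Agent.Lib.UnivHomeo.Basic
import Mathlib.FieldTheory.PurelyInseparable.Basic
import Mathlib.RingTheory.Algebraic.Integral

set_option autoImplicit false
universe u
open AlgebraicGeometry
open ChowMon

namespace Groth.Agent.S13831

/-- For a finite universal homeomorphism p : T' → T of Noetherian schemes there is an integer d ≥ 1 such
that for every point t' of T' over t the residue field degree [k(t') : k(t)] is a power of the
exponential characteristic of k(t) dividing d. -/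
theorem result {T' T : Scheme.{u}} (p : T' ⟶ T) [IsFinite p] (hp : FlatMor.IsUnivHomeo p)
    [IsNoetherian T] [IsNoetherian T'] [T.IsSeparated] [T'.IsSeparated] :
    ∃ d : ℕ, 0 < d ∧ ∀ t' : T', ∃ e : ℕ,
      @Module.finrank (T.residueField (p t')) (T'.residueField t') _ _
          (p.residueFieldMap t').hom.toAlgebra.toModule =
        ringExpChar (T.residueField (p t')) ^ e ∧
      ringExpChar (T.residueField (p t')) ^ e ∣ d := by
  classical
  haveI := Groth.Agent.UH.universallyInjective_of_isUnivHomeo hp
  obtain ⟨-, hpi⟩ := ((tfae_universallyInjective p).out 0 2).mp ‹UniversallyInjective p›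
  -- a bound on one affine open
  have key : ∀ U : T.affineOpens, ∃ N : ℕ, ∀ t' : T', p t' ∈ U.1 →
      letI := (p.residueFieldMap t').hom.toAlgebra
      Module.Finite (T.residueField (p t')) (T'.residueField t') ∧
        Module.finrank (T.residueField (p t')) (T'.residueField t') ≤ N := by
    intro U
    have hV : IsAffineOpen (p ⁻¹ᵁ U.1) := U.2.preimage p
    letI : Algebra Γ(T, U.1) Γ(T', p ⁻¹ᵁ U.1) := (p.app U.1).hom.toAlgebra
    haveI : Module.Finite Γ(T, U.1) Γ(T', p ⁻¹ᵁ U.1) := IsFinite.finite_app p U.1 U.2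
    obtain ⟨s, hs⟩ := Module.Finite.fg_top (R := Γ(T, U.1)) (M := Γ(T', p ⁻¹ᵁ U.1))
    refine ⟨s.card, fun t' ht => ?_⟩
    letI := (p.residueFieldMap t').hom.toAlgebra
    let ev : Γ(T', p ⁻¹ᵁ U.1) →+* T'.residueField t' := (T'.evaluation (p ⁻¹ᵁ U.1) t' ht).hom
    let evA : Γ(T, U.1) →+* T.residueField (p t') := (T.evaluation U.1 (p t') ht).hom
    have hnat : ∀ a, algebraMap (T.residueField (p t')) (T'.residueField t') (evA a) =
        ev (algebraMap Γ(T, U.1) Γ(T', p ⁻¹ᵁ U.1) a) := fun a =>
      Scheme.evaluation_naturality_apply p t' ht a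
    let S : Submodule (T.residueField (p t')) (T'.residueField t') :=
      Submodule.span _ ((s.image ev : Finset _) : Set (T'.residueField t'))
    have hev : ∀ b, ev b ∈ S := by
      intro b
      have hb : b ∈ Submodule.span Γ(T, U.1) (s : Set Γ(T', p ⁻¹ᵁ U.1)) := by rw [hs]; trivial
      induction hb using Submodule.span_induction with
      | mem b hb => exact Submodule.subset_span (Finset.mem_coe.mpr (Finset.mem_image_of_mem ev hb))
      | zero => rw [map_zero]; exact S.zero_mem
      | add a b _ _ ha hb => rw [map_add]; exact S.add_mem ha hb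
      | smul a b _ hb =>
        rw [Algebra.smul_def, map_mul, ← hnat, ← Algebra.smul_def]
        exact S.smul_mem _ hb
    let R : Subalgebra (T.residueField (p t')) (T'.residueField t') := Algebra.adjoin _ (Set.range ev)
    have hRS : Subalgebra.toSubmodule R = S := by
      refine le_antisymm ?_ (Submodule.span_le.mpr fun z hz => ?_)
      · rw [Algebra.adjoin_eq_span, Submodule.span_le]
        intro z hz
        have : z ∈ MonoidHom.mrange (ev : Γ(T', p ⁻¹ᵁ U.1) →* T'.residueField t') := by
          refine Submonoid.closure_le.mpr ?_ hz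
          rintro _ ⟨b, rfl⟩; exact ⟨b, rfl⟩
        obtain ⟨b, rfl⟩ := this
        exact hev b
      · obtain ⟨b, -, rfl⟩ := Finset.mem_image.mp (Finset.mem_coe.mp hz)
        exact Algebra.subset_adjoin ⟨b, rfl⟩
    haveI : Module.Finite (T.residueField (p t')) S := Module.Finite.span_of_finite _ (Finset.finite_toSet _)
    haveI hRfin : Module.Finite (T.residueField (p t')) R :=
      Module.Finite.equiv (LinearEquiv.ofEq _ _ hRS.symm)
    have htop : S = ⊤ := by
      rw [eq_top_iff, ← hRS]
      intro z _
      obtain ⟨w, rfl⟩ := T'.residue_surjective t' z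
      haveI := hV.isLocalization_stalk ⟨t', ht⟩
      letI := TopCat.Presheaf.algebra_section_stalk T'.presheaf (⟨t', ht⟩ : ↥(p ⁻¹ᵁ U.1))
      obtain ⟨⟨a, c⟩, hac⟩ := IsLocalization.surj (hV.primeIdealOf ⟨t', ht⟩).asIdeal.primeCompl w
      have hc : IsUnit (algebraMap Γ(T', p ⁻¹ᵁ U.1) (T'.presheaf.stalk t') c) :=
        IsLocalization.map_units _ c
      have hc' : ev c ≠ 0 := (hc.map (T'.residue t').hom).ne_zero
      have he : (T'.residue t') w * ev c = ev a := by
        have h := congrArg (T'.residue t').hom hac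
        rw [map_mul] at h
        exact h
      rw [eq_div_iff hc' |>.mpr he, Subalgebra.mem_toSubmodule, div_eq_mul_inv]
      exact R.mul_mem (Algebra.subset_adjoin ⟨a, rfl⟩)
        (R.inv_mem_of_algebraic (x := ⟨ev c, Algebra.subset_adjoin ⟨c, rfl⟩⟩)
          ((IsIntegral.of_finite (T.residueField (p t')) (⟨ev c, Algebra.subset_adjoin ⟨c, rfl⟩⟩ : R)).map
            R.val).isAlgebraic)
    refine ⟨⟨⟨s.image ev, htop⟩⟩, ?_⟩
    rw [← finrank_top (T.residueField (p t')) (T'.residueField t'), ← htop]
    exact (finrank_span_finset_le_card _).trans Finset.card_image_le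
  choose N hN using key
  obtain ⟨F, hF⟩ := isCompact_univ.elim_finite_subcover (fun U : T.affineOpens => (U.1 : Set T))
    (fun U => U.1.2) (fun x _ => by
      obtain ⟨U, hU, hxU, -⟩ := exists_isAffineOpen_mem_and_subset (x := x) (U := ⊤) trivial
      exact Set.mem_iUnion.mpr ⟨⟨U, hU⟩, hxU⟩)
  refine ⟨(∑ U ∈ F, N U).factorial, Nat.factorial_pos _, fun t' => ?_⟩
  obtain ⟨U, hUF, htU⟩ := Set.mem_iUnion₂.mp (hF (Set.mem_univ (p t')))
  letI := (p.residueFieldMap t').hom.toAlgebra
  obtain ⟨hfin, hle⟩ := hN U t' htU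
  haveI : IsPurelyInseparable (T.residueField (p t')) (T'.residueField t') := hpi t'
  haveI := hfin
  obtain ⟨q, hq⟩ := ExpChar.exists (T.residueField (p t'))
  obtain ⟨e, he⟩ := IsPurelyInseparable.finrank_eq_pow (F := T.residueField (p t')) (T'.residueField t') q
  refine ⟨e, ?_, ?_⟩
  · rw [ringExpChar.eq _ q]; exact he
  · rw [ringExpChar.eq _ q, ← he]
    exact Nat.dvd_factorial Module.finrank_pos
      (hle.trans (Finset.single_le_sum (fun V _ => Nat.zero_le (N V)) hUF))

end Groth.Agent.S13831
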