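import Groth.Statements.S13833
import Groth.Agent.Lib.Seminormal26.Factor
-- import your own Groth.Agent.* helpers here

set_option autoImplicit false
universe u
open AlgebraicGeometry CategoryTheory
open HTop

namespace Groth.Agent.S13833

/-- Let S be a Noetherian scheme, X → S locally of finite type, T a Noetherian S-scheme and ν : T' → T a
seminormalization (all schemes separated). Then S-morphisms T' → X are the colimit of S-morphisms T₁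
→ X over the finite universal homeomorphisms T₁ → T inducing isomorphisms on residue fields: every
S-morphism g : T' → X factors as T' → T₁ → X for such a T₁ → T, and two such factorizations through
T₁ and T₂ become equal on some such T₃ → T dominating both. -/
theorem result {S X T T' : Scheme.{u}} [IsNoetherian S] [IsNoetherian T] [S.IsSeparated] [X.IsSeparated]
    [T.IsSeparated] [T'.IsSeparated] (fX : X ⟶ S) [LocallyOfFiniteType fX] (fT : T ⟶ S)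
    (ν : T' ⟶ T) (hν : HTop.IsSeminormalization ν) :
    (∀ g : T' ⟶ X, g ≫ fX = ν ≫ fT →
      ∃ (T₁ : Scheme.{u}) (π : T₁ ⟶ T) (_ : IsFinite π) (_ : FlatMor.IsUnivHomeo π)
        (_ : HTop.ResidueFieldsIso π) (g₁ : T₁ ⟶ X) (h : T' ⟶ T₁),
        h ≫ π = ν ∧ g₁ ≫ fX = π ≫ fT ∧ h ≫ g₁ = g) ∧
    (∀ (T₁ T₂ : Scheme.{u}) (π₁ : T₁ ⟶ T) (π₂ : T₂ ⟶ T) [IsFinite π₁] [IsFinite π₂],
      FlatMor.IsUnivHomeo π₁ → FlatMor.IsUnivHomeo π₂ →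
      HTop.ResidueFieldsIso π₁ → HTop.ResidueFieldsIso π₂ →
      ∀ (g₁ : T₁ ⟶ X) (g₂ : T₂ ⟶ X) (h₁ : T' ⟶ T₁) (h₂ : T' ⟶ T₂),
        g₁ ≫ fX = π₁ ≫ fT → g₂ ≫ fX = π₂ ≫ fT → h₁ ≫ π₁ = ν → h₂ ≫ π₂ = ν → h₁ ≫ g₁ = h₂ ≫ g₂ →
        ∃ (T₃ : Scheme.{u}) (π₃ : T₃ ⟶ T) (_ : IsFinite π₃) (_ : FlatMor.IsUnivHomeo π₃)
          (_ : HTop.ResidueFieldsIso π₃) (a₁ : T₃ ⟶ T₁) (a₂ : T₃ ⟶ T₂),
          a₁ ≫ π₁ = π₃ ∧ a₂ ≫ π₂ = π₃ ∧ a₁ ≫ g₁ = a₂ ≫ g₂) := by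
  have hG : SN26.GoodHom True ν := SN26.goodHom_true_iff.2 hν.1
  refine ⟨fun g w => ?_, fun T₁ T₂ π₁ π₂ _ _ hp₁ hp₂ hq₁ hq₂ g₁ g₂ h₁ h₂ _ _ e₁ e₂ eg => ?_⟩
  · obtain ⟨T₁, π, hf, hp, g₁, h, a, b, c⟩ := SN26.exists_finite_factor fX fT ν hG g w
    exact ⟨T₁, π, hf, hp.1, hp.2 trivial, g₁, h, a, b, c⟩
  · obtain ⟨T₃, π₃, hf, hp, a₁, a₂, a, b, c⟩ := SN26.exists_common_refinement π₁ π₂
      (SN26.goodHom_true_iff.2 ⟨hp₁, hq₁⟩) (SN26.goodHom_true_iff.2 ⟨hp₂, hq₂⟩) ν hG g₁ g₂ h₁ h₂ e₁ e₂ eg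
    exact ⟨T₃, π₃, hf, hp.1, hp.2 trivial, a₁, a₂, a, b, c⟩

end Groth.Agent.S13833
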