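import Groth.Statements.S13834
import Mathlib.AlgebraicGeometry.Morphisms.Flat
import Mathlib.RingTheory.Ideal.MinimalPrime.Noetherian
import Mathlib.RingTheory.LocalRing.ResidueField.Fiber
import Mathlib.RingTheory.Ideal.GoingDown
import Mathlib.Topology.Irreducible

set_option autoImplicit false
universe u
open AlgebraicGeometry
open EtaPt

namespace Groth.Agent.S13834

/-- An open cover by finitely many sets with finitely many components. -/
theorem finite_of_cover {T : Type*} [TopologicalSpace T] {ι : Type*} [Finite ι] (W : ι → Type*)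
    [∀ i, TopologicalSpace (W i)] (g : ∀ i, W i → T) (hg : ∀ i, Topology.IsOpenEmbedding (g i))
    (hcov : ∀ x, ∃ i, x ∈ Set.range (g i)) (h : ∀ i, (irreducibleComponents (W i)).Finite) :
    (irreducibleComponents T).Finite := by
  refine Set.Finite.subset (Set.finite_iUnion fun i => (h i).image fun z => closure (g i '' z)) fun Z hZ => ?_
  obtain ⟨z, hz⟩ := hZ.1.1
  obtain ⟨i, hi⟩ := hcov z
  refine Set.mem_iUnion.2 ⟨i, g i ⁻¹' Z, preimage_mem_irreducibleComponents hZ (hg i) ⟨z, hz, hi⟩, ?_⟩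
  exact closure_image_preimage_of_isPreirreducible (g i) (hg i).isOpenMap Z
    (by obtain ⟨w, rfl⟩ := hi; exact ⟨w, hz⟩) hZ.1.2 (isClosed_of_mem_irreducibleComponents Z hZ)

/-- Finitely many minimal primes ascend along flat algebras of finite type. -/
theorem finite_minimalPrimes_flat {A B : Type*} [CommRing A] [CommRing B] [Algebra A B] [Module.Flat A B]
    [Algebra.FiniteType A B] (hA : (minimalPrimes A).Finite) : (minimalPrimes B).Finite := by
  have key : ∀ p ∈ minimalPrimes A, {Q ∈ minimalPrimes B | Q.comap (algebraMap A B) = p}.Finite := by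
    intro p hp
    haveI := hp.1.1
    haveI : IsNoetherianRing (p.Fiber B) := Algebra.FiniteType.isNoetherianRing p.ResidueField _
    let e := PrimeSpectrum.preimageOrderIsoFiber A B ⟨p, hp.1.1⟩
    refine Set.Finite.subset ((minimalPrimes.finite_of_isNoetherianRing (p.Fiber B)).preimage
      (f := PrimeSpectrum.asIdeal) (fun _ _ _ _ h => PrimeSpectrum.ext h) |>.image
      fun x => (e.symm x).1.asIdeal) ?_
    rintro Q ⟨hQ, hQp⟩
    let Q' : PrimeSpectrum B := ⟨Q, hQ.1.1⟩
    have hmem : Q' ∈ PrimeSpectrum.comap (algebraMap A B) ⁻¹' {⟨p, hp.1.1⟩} := PrimeSpectrum.ext hQp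
    refine ⟨e ⟨Q', hmem⟩, ⟨⟨(e ⟨Q', hmem⟩).2, bot_le⟩, fun J hJ hle => ?_⟩, ?_⟩
    · have h1 : e.symm ⟨J, hJ.1⟩ ≤ e.symm (e ⟨Q', hmem⟩) := e.symm.monotone hle
      rw [e.symm_apply_apply] at h1
      have h2 : (e.symm ⟨J, hJ.1⟩).1 = Q' :=
        PrimeSpectrum.ext (le_antisymm h1 (hQ.2 ⟨(e.symm ⟨J, hJ.1⟩).1.2, bot_le⟩ h1))
      have h3 : (⟨J, hJ.1⟩ : PrimeSpectrum (p.Fiber B)) = e ⟨Q', hmem⟩ := by
        rw [← e.apply_symm_apply ⟨J, hJ.1⟩]; exact congrArg e (Subtype.ext h2)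
      exact (congrArg PrimeSpectrum.asIdeal h3).ge
    · simp [Q']
  refine Set.Finite.subset (hA.biUnion key) fun Q hQ => ?_
  haveI := hQ.1.1
  refine Set.mem_biUnion (x := Q.comap (algebraMap A B)) ⟨⟨inferInstance, bot_le⟩, fun J hJ hle => ?_⟩ ⟨hQ, rfl⟩
  haveI := hJ.1
  haveI : Q.LiesOver (Q.comap (algebraMap A B)) := ⟨rfl⟩
  obtain ⟨Q', hle', hQ', hl⟩ := Ideal.exists_ideal_le_liesOver_of_le (p := J) (q := Q.comap (algebraMap A B)) Q hle
  calc Q.comap (algebraMap A B) ≤ Q'.comap (algebraMap A B) := Ideal.comap_mono (hQ.2 ⟨hQ', bot_le⟩ hle')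
    _ = J := hl.over.symm

theorem minimalPrimes_finite_iff (A : Type*) [CommRing A] :
    (minimalPrimes A).Finite ↔ (irreducibleComponents (PrimeSpectrum A)).Finite := by
  refine ⟨fun h => ?_, fun h => ?_⟩
  · rw [← PrimeSpectrum.zeroLocus_minimalPrimes]
    exact h.image _
  · rw [← PrimeSpectrum.vanishingIdeal_irreducibleComponents]
    exact h.image _

/-- If f : Y → X is faithfully flat and locally of finite presentation and each quasi-compact open
subset of X has only finitely many irreducible components, the same is true of each quasi-compact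
open subset of Y. -/
theorem result {Y X : Scheme.{u}} (f : Y ⟶ X) [Flat f] [LocallyOfFinitePresentation f] [Surjective f]
    (hX : ∀ U : X.Opens, IsCompact (U : Set X) → (irreducibleComponents (U : Type u)).Finite)
    (V : Y.Opens) (hV : IsCompact (V : Set Y)) : (irreducibleComponents (V : Type u)).Finite := by
  classical
  have h : ∀ y : V, ∃ (U : X.Opens) (W : Y.Opens), IsAffineOpen U ∧ IsAffineOpen W ∧ (y : Y) ∈ W ∧ W ≤ V ∧ W ≤ f ⁻¹ᵁ U := by
    intro y
    obtain ⟨U, hU, hyU, -⟩ := exists_isAffineOpen_mem_and_subset (U := (⊤ : X.Opens)) (x := f.base (y : Y)) trivial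
    obtain ⟨W, hW, hyW, hWle⟩ := exists_isAffineOpen_mem_and_subset (U := V ⊓ f ⁻¹ᵁ U) (x := (y : Y)) ⟨y.2, hyU⟩
    exact ⟨U, W, hU, hW, hyW, fun z hz => (hWle hz).1, fun z hz => (hWle hz).2⟩
  choose U W hU hW hyW hWV hWU using h
  obtain ⟨s, hs⟩ := hV.elim_finite_subcover (fun y : V => (W y : Set Y)) (fun y => (W y).2)
    fun z hz => Set.mem_iUnion.2 ⟨⟨z, hz⟩, hyW ⟨z, hz⟩⟩
  refine finite_of_cover (ι := s) (fun i => (W i.1 : Set Y)) (fun i => Set.inclusion (hWV i.1))
    (fun i => Topology.IsOpenEmbedding.inclusion _ ((W i.1).2.preimage continuous_subtype_val))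
    (fun z => ?_) fun i => ?_
  · obtain ⟨y, hys, hzy⟩ := Set.mem_iUnion₂.1 (hs z.2)
    exact ⟨⟨y, hys⟩, ⟨z.1, hzy⟩, rfl⟩
  let φ := f.appLE (U i.1) (W i.1) (hWU i.1)
  letI := φ.hom.toAlgebra
  haveI : Algebra.FinitePresentation Γ(X, U i.1) Γ(Y, W i.1) :=
    f.finitePresentation_appLE (hU i.1) (hW i.1) (hWU i.1)
  haveI : Module.Flat Γ(X, U i.1) Γ(Y, W i.1) := f.flat_appLE (hU i.1) (hW i.1) (hWU i.1)
  let eW := Scheme.homeoOfIso (hW i.1).isoSpec
  let eU := Scheme.homeoOfIso (hU i.1).isoSpec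
  have hA : (minimalPrimes Γ(X, U i.1)).Finite := (minimalPrimes_finite_iff _).2 <|
    finite_of_cover (T := PrimeSpectrum Γ(X, U i.1)) (ι := Unit) (fun _ => (U i.1 : Type u)) (fun _ => eU)
      (fun _ => eU.isOpenEmbedding) (fun x => ⟨(), eU.surjective x⟩) fun _ => hX _ (hU i.1).isCompact
  exact finite_of_cover (ι := Unit) (fun _ => PrimeSpectrum Γ(Y, W i.1)) (fun _ => eW.symm)
    (fun _ => eW.symm.isOpenEmbedding) (fun x => ⟨(), eW.symm.surjective x⟩)
    fun _ => (minimalPrimes_finite_iff _).1 (finite_minimalPrimes_flat hA)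

end Groth.Agent.S13834
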