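import Groth.Statements.S13835
import Groth.Agent.Lib.UnivHomeo.Morph
import Mathlib.AlgebraicGeometry.Morphisms.Separated

set_option autoImplicit false
universe u
open AlgebraicGeometry CategoryTheory
open ChowMon

namespace Groth.Agent.S13835

/-- Let p : T' → T be a universal homeomorphism of separated schemes with T reduced and f' : T' → Y a
morphism (Y separated); if T has an open cover by affine opens U_i such that each restriction of f'
to p⁻¹(U_i) factors through p⁻¹(U_i) → U_i, then f' factors through p. -/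
theorem result {T' T Y : Scheme.{u}} (p : T' ⟶ T) (hp : FlatMor.IsUnivHomeo p) [IsReduced T]
    [T.IsSeparated] [T'.IsSeparated] [Y.IsSeparated] (f' : T' ⟶ Y)
    {ι : Type u} (U : ι → T.affineOpens) (hU : ⨆ i, (U i : T.Opens) = ⊤)
    (hloc : ∀ i, ∃ fi : ((U i : T.Opens) : Scheme.{u}) ⟶ Y, (p ⁻¹ᵁ (U i : T.Opens)).ι ≫ f' = (p ∣_ (U i : T.Opens)) ≫ fi) :
    ∃ f : T ⟶ Y, p ≫ f = f' := by
  classical
  choose fi hfi using hloc
  let 𝒰 : T.OpenCover := T.openCoverOfIsOpenCover (fun i => (U i : T.Opens)) hU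
  have key : ∀ x y, Limits.pullback.fst (𝒰.f x) (𝒰.f y) ≫ fi x = Limits.pullback.snd (𝒰.f x) (𝒰.f y) ≫ fi y := by
    intro x y
    let W := Limits.pullback (𝒰.f x) (𝒰.f y)
    let ι : W ⟶ T := Limits.pullback.fst (𝒰.f x) (𝒰.f y) ≫ 𝒰.f x
    haveI : AlgebraicGeometry.IsReduced W := isReduced_of_isOpenImmersion ι
    let q := Limits.pullback.snd p ι
    haveI : Surjective q := Groth.Agent.UH.surjective_of_isUnivHomeo (Groth.Agent.UH.isUnivHomeo_snd p ι hp)
    have hx : ∀ (i : _) (v : W ⟶ (U i : T.Opens)), v ≫ (U i : T.Opens).ι = ι →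
        q ≫ v ≫ fi i = Limits.pullback.fst p ι ≫ f' := by
      intro i v hv
      have H := isPullback_morphismRestrict p (U i : T.Opens)
      have e : (q ≫ v) ≫ (U i : T.Opens).ι = Limits.pullback.fst p ι ≫ p := by
        rw [Category.assoc, hv, Limits.pullback.condition]
      rw [← Category.assoc, ← H.lift_fst (q ≫ v) (Limits.pullback.fst p ι) e, Category.assoc, ← hfi i,
        ← Category.assoc, H.lift_snd]
    have h1 := hx x (Limits.pullback.fst (𝒰.f x) (𝒰.f y)) rfl
    have h2 := hx y (Limits.pullback.snd (𝒰.f x) (𝒰.f y)) Limits.pullback.condition.symm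
    exact ext_of_isDominant q (h1.trans h2.symm)
  refine ⟨𝒰.glueMorphisms fi key, ?_⟩
  refine Scheme.Cover.hom_ext (T'.openCoverOfIsOpenCover (fun i => p ⁻¹ᵁ (U i : T.Opens)) ?_) _ _ fun i => ?_
  · show (⨆ i, p ⁻¹ᵁ (U i : T.Opens)) = ⊤
    rw [← Scheme.Hom.preimage_iSup, hU, Scheme.Hom.preimage_top]
  · show (p ⁻¹ᵁ (U i : T.Opens)).ι ≫ p ≫ _ = (p ⁻¹ᵁ (U i : T.Opens)).ι ≫ f'
    rw [hfi i, ← Category.assoc, ← morphismRestrict_ι, Category.assoc]
    exact congrArg _ (Scheme.Cover.ι_glueMorphisms 𝒰 fi key i)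

end Groth.Agent.S13835
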