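import Groth.Statements.S13836
import Groth.Agent.Lib.Stein6.GeomUnibranch
import Groth.Agent.Lib.UnivHomeo.Morph

set_option autoImplicit false
universe u
open AlgebraicGeometry CategoryTheory
open HTop

set_option backward.isDefEq.respectTransparency.types false
set_option maxHeartbeats 1600000

namespace Groth.Agent.S13836

open CategoryTheory.Limits

/-- The function field extension of a map from the spectrum of a field through an integral scheme. -/
theorem aux {Z Y : Scheme.{u}} [IsIntegral Y] [IsIntegral Z] (g : Z ⟶ Y)
    (hd : g.base (genericPoint Z) ⤳ genericPoint Y) (L : Type u) [Field L] [Algebra Y.functionField L]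
    [IsPurelyInseparable Y.functionField L] (ζ : Z) (hζ : ζ = genericPoint Z) (ψ : Z.presheaf.stalk ζ ⟶ CommRingCat.of L)
    (h : Spec.map (g.stalkMap ζ ≫ ψ) ≫ Y.fromSpecStalk (g ζ) =
      Spec.map (CommRingCat.ofHom (algebraMap Y.functionField L)) ≫ Y.fromSpecStalk (genericPoint Y)) :
    letI := (CohIII.stalkToFunctionField g (genericPoint Y) hd).toAlgebra
      (R := Y.functionField) (S := Z.functionField)
    IsPurelyInseparable Y.functionField Z.functionField := by
  subst hζ
  letI : Algebra Y.functionField Z.functionField :=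
    (CohIII.stalkToFunctionField g (genericPoint Y) hd).toAlgebra (R := Y.functionField) (S := Z.functionField)
  have h2 : Spec.map (Y.presheaf.stalkSpecializes hd ≫ g.stalkMap (genericPoint Z) ≫ ψ) ≫
      Y.fromSpecStalk (genericPoint Y) =
      Spec.map (CommRingCat.ofHom (algebraMap Y.functionField L)) ≫ Y.fromSpecStalk (genericPoint Y) := by
    rw [Spec.map_comp, Category.assoc, Scheme.SpecMap_stalkSpecializes_fromSpecStalk hd, h]
  have h3 := congrArg CommRingCat.Hom.hom (Spec.map_injective ((cancel_mono _).mp h2))
  have hc : ∀ a : Y.functionField, ψ.hom (algebraMap Y.functionField Z.functionField a) = algebraMap Y.functionField L a :=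
    fun a => RingHom.congr_fun h3 a
  obtain ⟨q, hq⟩ := ExpChar.exists Y.functionField
  haveI := hq
  rw [isPurelyInseparable_iff_pow_mem Y.functionField q]
  intro x
  obtain ⟨n, a, ha⟩ := IsPurelyInseparable.pow_mem Y.functionField q (ψ.hom x : L)
  refine ⟨n, a, ?_⟩
  letI : Field (Z.presheaf.stalk (genericPoint Z)) := inferInstanceAs (Field Z.functionField)
  apply ψ.hom.injective
  rw [hc, map_pow]
  exact ha

theorem universallyInjective_of_integral {Z Y : Scheme.{u}} [IsIntegral Y] [IsIntegral Z] (g : Z ⟶ Y) [IsIntegralHom g]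
    (hY : ∀ y : Y, CAlg2.IsGeomUnibranch (Y.presheaf.stalk y))
    (hd : g.base (genericPoint Z) ⤳ genericPoint Y)
    (hK : (letI : Algebra Y.functionField Z.functionField :=
        RingHom.toAlgebra (R := Y.functionField) (S := Z.functionField) (CohIII.stalkToFunctionField g (genericPoint Y) hd)
      IsPurelyInseparable Y.functionField Z.functionField)) :
    UniversallyInjective g := by
  let η' := genericPoint Z
  rw [IsZariskiLocalAtTarget.iff_of_iSup_eq_top (P := @UniversallyInjective) _ (iSup_affineOpens_eq_top _)]
  rintro ⟨V, hV⟩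
  let W := g ⁻¹ᵁ V
  have hW : IsAffineOpen W := hV.preimage g
  have e : g ∣_ V = hW.isoSpec.hom ≫ Spec.map (g.app V) ≫ hV.isoSpec.inv := by
    rw [← cancel_mono V.ι, morphismRestrict_ι]
    simp only [Category.assoc, IsAffineOpen.isoSpec_inv_ι]
    rw [Scheme.Hom.app_eq_appLE, hV.SpecMap_appLE_fromSpec g hW le_rfl]
    simp [W]
  rw [e, MorphismProperty.cancel_left_of_respectsIso @UniversallyInjective,
    MorphismProperty.cancel_right_of_respectsIso @UniversallyInjective]
  letI : Algebra Γ(Y, V) Γ(Z, W) := (g.app V).hom.toAlgebra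
  suffices hmain : ∀ q : Ideal Γ(Z, W), q.IsPrime →
      (∀ q' : Ideal Γ(Z, W), q'.IsPrime → q'.comap (algebraMap Γ(Y, V) Γ(Z, W)) =
        q.comap (algebraMap Γ(Y, V) Γ(Z, W)) → q' = q) ∧
      ∀ b, UH.ResAt (algebraMap Γ(Y, V) Γ(Z, W)) q b ∨
        ∃ r : ℕ, r.Prime ∧ (r : Γ(Z, W)) ∈ q ∧ ∃ n : ℕ,
          UH.ResAt (algebraMap Γ(Y, V) Γ(Z, W)) q (b ^ r ^ n) by
    exact UH.universallyInjective_of_inj2_rad (g.app V).hom
      (fun q q' hq hq' h => ((hmain q' hq').1 q hq h)) (fun q hq => (hmain q hq).2)
  intro q hq
  let p : Ideal Γ(Y, V) := q.comap (algebraMap Γ(Y, V) Γ(Z, W))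
  haveI : p.IsPrime := Ideal.IsPrime.comap _
  let y : Y := hV.fromSpec ⟨p, inferInstance⟩
  have hyV : y ∈ V := hV.opensRange_fromSpec.le ⟨_, rfl⟩
  let O := Y.presheaf.stalk y
  let K := Z.functionField
  have hgy : g η' ⤳ y := hd.trans ((genericPoint_spec Y).specializes trivial)
  have hη'W : η' ∈ W := hgy.mem_open V.2 hyV
  letI : Algebra Γ(Y, V) O := Y.presheaf.algebra_section_stalk (⟨y, hyV⟩ : V)
  haveI hloc := hV.isLocalization_stalk ⟨y, hyV⟩
  have hpy : hV.primeIdealOf ⟨y, hyV⟩ = ⟨p, inferInstance⟩ := by
    apply hV.fromSpec.isOpenEmbedding.injective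
    rw [hV.fromSpec_primeIdealOf]
  haveI : IsLocalization.AtPrime O p := by
    simpa [hpy] using hloc
  letI : Algebra Y.functionField K :=
    (CohIII.stalkToFunctionField g (genericPoint Y) hd).toAlgebra (R := Y.functionField) (S := K)
  haveI : IsPurelyInseparable Y.functionField K := hK
  letI : Algebra O K := (CohIII.stalkToFunctionField g y hgy).toAlgebra
  letI : Algebra Γ(Y, V) K := ((CohIII.stalkToFunctionField g y hgy).comp (algebraMap Γ(Y, V) O)).toAlgebra
  letI : Algebra Γ(Z, W) K := (Z.presheaf.germ W η' hη'W).hom.toAlgebra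
  haveI : IsScalarTower Γ(Y, V) O K := IsScalarTower.of_algebraMap_eq' rfl
  haveI : IsScalarTower Γ(Y, V) Γ(Z, W) K := IsScalarTower.of_algebraMap_eq' (by
    show (CohIII.stalkToFunctionField g y hgy).comp (Y.presheaf.germ V y hyV).hom =
      (Z.presheaf.germ W η' hη'W).hom.comp (g.app V).hom
    rw [CohIII.stalkToFunctionField, RingHom.comp_assoc, ← CommRingCat.hom_comp,
      TopCat.Presheaf.germ_stalkSpecializes, ← CommRingCat.hom_comp, Scheme.Hom.germ_stalkMap]
    rfl)
  haveI : IsScalarTower O Y.functionField K := IsScalarTower.of_algebraMap_eq' (by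
    show CohIII.stalkToFunctionField g y hgy = (CohIII.stalkToFunctionField g (genericPoint Y) hd).comp
      (Y.presheaf.stalkSpecializes ((genericPoint_spec Y).specializes trivial)).hom
    rw [CohIII.stalkToFunctionField, CohIII.stalkToFunctionField, RingHom.comp_assoc]
    congr 1
    rw [← CommRingCat.hom_comp, TopCat.Presheaf.stalkSpecializes_comp])
  haveI : Algebra.IsIntegral Γ(Y, V) Γ(Z, W) := ⟨IsIntegralHom.isIntegral_app (f := g) V hV⟩
  have hinj : Function.Injective (algebraMap Γ(Z, W) K) :=
    germ_injective_of_isIntegral (X := Z) (U := W) η' hη'W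
  exact Stein6.inj2_rad_of_geomUnibranch (O := O) (F := Y.functionField) (K := K) (hY y) hinj p q rfl


/-- Let Y be a separated Noetherian integral scheme whose local rings are geometrically unibranch and
whose affine coordinate rings are Nagata, K its function field and L a finite purely inseparable
extension of K; then the normalization of Y in L, i.e. the normalization of Y relative to Spec L →
Spec K → Y, maps to Y by a universal homeomorphism. (The instance binders on Spec L → Y always hold;
they are only needed to form the normalization.) -/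
theorem result (Y : Scheme.{u}) [IsIntegral Y] [IsNoetherian Y] [Y.IsSeparated]
    (hY : ∀ y : Y, CAlg2.IsGeomUnibranch (Y.presheaf.stalk y))
    (hN : ∀ U : Y.affineOpens, CAlg.IsNagata Γ(Y, U))
    (L : Type u) [Field L] [Algebra Y.functionField L] [FiniteDimensional Y.functionField L]
    [IsPurelyInseparable Y.functionField L]
    [QuasiCompact (Spec.map (CommRingCat.ofHom (algebraMap Y.functionField L)) ≫ Y.fromSpecStalk (genericPoint Y))]
    [QuasiSeparated (Spec.map (CommRingCat.ofHom (algebraMap Y.functionField L)) ≫ Y.fromSpecStalk (genericPoint Y))] :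
    FlatMor.IsUnivHomeo
      (Spec.map (CommRingCat.ofHom (algebraMap Y.functionField L)) ≫ Y.fromSpecStalk (genericPoint Y)).fromNormalization := by
  set f := Spec.map (CommRingCat.ofHom (algebraMap Y.functionField L)) ≫ Y.fromSpecStalk (genericPoint Y) with hf
  let g := f.fromNormalization
  let t := f.toNormalization
  let pt := IsLocalRing.closedPoint L
  haveI : IsIntegral (Spec (CommRingCat.of L)) := inferInstance
  haveI : IsIntegral f.normalization := inferInstance
  have hζ : t pt = genericPoint f.normalization := by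
    refine ((genericPoint_spec f.normalization).eq ?_).symm
    show closure {t pt} = Set.univ
    have h := t.denseRange.closure_range
    refine (congrArg closure ?_).trans h
    refine Set.Subset.antisymm (Set.singleton_subset_iff.2 ⟨pt, rfl⟩) ?_
    rintro _ ⟨a, rfl⟩
    rw [Set.mem_singleton_iff, show a = pt from Subsingleton.elim _ _]
  have hgt : g (t pt) = genericPoint Y := by
    show (t ≫ g) pt = _
    rw [Scheme.Hom.toNormalization_fromNormalization, hf, Scheme.Hom.comp_apply]
    have : Spec.map (CommRingCat.ofHom (algebraMap Y.functionField L)) pt =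
        IsLocalRing.closedPoint Y.functionField := Subsingleton.elim _ _
    erw [this]
    exact Scheme.fromSpecStalk_closedPoint
  have hd : g.base (genericPoint f.normalization) ⤳ genericPoint Y := specializes_of_eq (hζ ▸ hgt)
  haveI : IsDominant g := ⟨by
    refine dense_iff_closure_eq.2 (Set.eq_univ_of_univ_subset ?_)
    refine (genericPoint_spec Y).symm.le.trans (closure_mono ?_)
    exact Set.singleton_subset_iff.2 ⟨_, hgt⟩⟩
  haveI : Surjective g := surjective_of_isDominant_of_isClosed_range g g.isClosedMap.isClosed_range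
  haveI : UniversallyInjective g := by
    refine universallyInjective_of_integral g hY hd (aux g hd L (t pt) hζ (Scheme.stalkClosedPointTo t) ?_)
    rw [Spec.map_comp, Category.assoc, Scheme.SpecMap_stalkMap_fromSpecStalk, ← Category.assoc]
    erw [Scheme.Spec_stalkClosedPointTo_fromSpecStalk t]
    rw [Scheme.Hom.toNormalization_fromNormalization]
  exact UH.isUnivHomeo_of g

end Groth.Agent.S13836
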