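import Groth.Statements.S14673
import Groth.Agent.Lib.SymTenH28.Gen

set_option autoImplicit false
universe u
open scoped TensorProduct
open SymTen

namespace Groth.Agent.S14673

/-- Let R be a commutative ring, A a commutative R-algebra which is flat as an R-module, and n ≥ 0. For
a ∈ A and j ≥ 0 write σ_j(a) for the j-th elementary symmetric polynomial in the n elements 1 ⊗ ⋯ ⊗
a ⊗ ⋯ ⊗ 1 of the n-fold tensor power of A over R, that is, the sum over the j-element sets I of
indices of the pure tensors having a in the places of I and 1 in the other places. Then the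
subalgebra TS^n_R(A) of symmetric tensors (tensors fixed by every permutation of the factors) equals
the R-subalgebra generated by all the σ_j(a). -/
theorem result (R : Type u) [CommRing R] (A : Type u) [CommRing A] [Algebra R A]
    [Module.Flat R A] (n : ℕ) :
    SymTen.TS R A n = Algebra.adjoin R {t : ⨂[R] _ : Fin n, A | ∃ (a : A) (j : ℕ),
      t = ∑ I ∈ (Finset.univ : Finset (Fin n)).powersetCard j,
        PiTensorProduct.tprod R (fun i : Fin n => if i ∈ I then a else (1 : A))} := by
  classical
  refine le_antisymm (fun y hy => ?_) (Algebra.adjoin_le Groth.Agent.SymTenH28.elemSet_subset_TS)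
  obtain ⟨V, _, _, _, _, a, w, hw, hinv⟩ := Groth.Agent.GammaD.exists_invariant_stage R A n hy
  obtain ⟨ℓ, hℓ⟩ := Module.projective_lifting_property (Groth.Agent.GammaD.piP R A).toLinearMap a
    Groth.Agent.GammaD.piP_surjective
  set t := Groth.Agent.GammaD.pmap n ℓ w with ht
  have htS : t ∈ SymTen.TS R _ n := fun σ => by rw [ht, ← Groth.Agent.GammaD.pmap_reindex, hinv]
  have h1 : t ∈ Algebra.adjoin R (Groth.Agent.SymTenH28.elemSet R (Groth.Agent.GammaD.Pres R A) n) := by
    rw [← Groth.Agent.GammaD.orbP_eq_self (Groth.Agent.GammaD.bP R A) htS]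
    exact Groth.Agent.SymTenH28.orbP_mem _ t
  have h2 : SymTen.tmap R n (Groth.Agent.GammaD.piP R A) t = y := by
    rw [Groth.Agent.GammaD.tmap_eq_pmap, ht, ← Groth.Agent.GammaD.pmap_comp, hℓ, hw]
  rw [← h2]
  have h3 : SymTen.tmap R n (Groth.Agent.GammaD.piP R A) t ∈ Subalgebra.map (SymTen.tmap R n (Groth.Agent.GammaD.piP R A)) _ :=
    Subalgebra.mem_map.2 ⟨t, h1, rfl⟩
  rw [AlgHom.map_adjoin] at h3
  refine Algebra.adjoin_mono ?_ h3
  rintro _ ⟨_, ⟨b, j, rfl⟩, rfl⟩
  refine ⟨Groth.Agent.GammaD.piP R A b, j, ?_⟩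
  rw [map_sum]
  refine Finset.sum_congr rfl fun I _ => ?_
  rw [SymTen.tmap_tprod]
  congr 1
  funext i
  split_ifs <;> simp

end Groth.Agent.S14673
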