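import Groth.Statements.S13839
import Groth.Agent.S14673
import Groth.Agent.Lib.Seminormal26.Ring
import Mathlib.FieldTheory.PurelyInseparable.Basic

set_option autoImplicit false
universe u
open AlgebraicGeometry
open scoped TensorProduct
open ChowMon

namespace Groth.Agent.S13839

open scoped Classical

open Groth.Agent

/-- Values at a point of a fraction of elements of the base. -/
lemma resAt_of_mem_range {R S : Type u} [CommRing R] [CommRing S] (f : R →+* S) (J : Ideal S) [J.IsPrime]
    (b : S) (z : (J.comap f).ResidueField)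
    (hz : Ideal.ResidueField.map (J.comap f) J f rfl z = algebraMap S J.ResidueField b) : UH.ResAt f J b := by
  obtain ⟨a, s, hs, rfl⟩ := IsFractionRing.div_surjective (A := R ⧸ J.comap f) z
  obtain ⟨a, rfl⟩ := Ideal.Quotient.mk_surjective a
  obtain ⟨s, rfl⟩ := Ideal.Quotient.mk_surjective s
  have hs' : s ∉ J.comap f := fun h => nonZeroDivisors.ne_zero hs (Ideal.Quotient.eq_zero_iff_mem.mpr h)
  refine ⟨a, s, hs', ?_⟩
  rw [← Ideal.algebraMap_residueField_eq_zero, map_sub, map_mul, ← hz, map_div₀, sub_eq_zero,
    Ideal.algebraMap_quotient_residueField_mk, Ideal.algebraMap_quotient_residueField_mk,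
    Ideal.ResidueField.map_algebraMap, Ideal.ResidueField.map_algebraMap, mul_div_cancel₀]
  exact fun h => hs' (Ideal.mem_comap.2 (Ideal.algebraMap_residueField_eq_zero.1 h))

lemma exists_eq_of_resAt {R S : Type u} [CommRing R] [CommRing S] (f : R →+* S) (J : Ideal S) [J.IsPrime]
    {b : S} (h : UH.ResAt f J b) :
    ∃ z, Ideal.ResidueField.map (J.comap f) J f rfl z = algebraMap S J.ResidueField b := by
  obtain ⟨a, s, hs, hb⟩ := h
  refine ⟨algebraMap R _ a / algebraMap R _ s, ?_⟩
  rw [map_div₀, Ideal.ResidueField.map_algebraMap, Ideal.ResidueField.map_algebraMap,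
    div_eq_iff (fun h => hs (Ideal.algebraMap_residueField_eq_zero.1 h)), ← map_mul,
    eq_comm, ← sub_eq_zero, ← map_sub, Ideal.algebraMap_residueField_eq_zero, mul_comm]
  exact hb

lemma choose_pow_mem {F L : Type u} [Field F] [Field L] [Algebra F L] [IsPurelyInseparable F L]
    (d : ℕ) (hd : 0 < d) (hfd : Module.finrank F L ∣ d) (a : L) (i : ℕ) :
    (Nat.choose d i : L) * a ^ i ∈ (algebraMap F L).range := by
  haveI : FiniteDimensional F L := Module.finite_of_finrank_pos (Nat.pos_of_dvd_of_pos hfd hd)
  obtain ⟨q, hq⟩ := ExpChar.exists F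
  obtain ⟨N, y, hN⟩ := IsPurelyInseparable.minpoly_eq_X_pow_sub_C F q a
  have hy : a ^ q ^ N = algebraMap F L y := by
    have := minpoly.aeval F a
    rw [hN] at this
    simpa [sub_eq_zero] using this
  have hdvd : q ^ N ∣ d := by
    refine dvd_trans ?_ hfd
    have := minpoly.degree_dvd (IsIntegral.of_finite F a)
    rwa [hN, Polynomial.natDegree_X_pow_sub_C] at this
  by_cases hi : q ^ N ∣ i
  · obtain ⟨r, rfl⟩ := hi
    exact ⟨(Nat.choose d (q ^ N * r) : F) * y ^ r, by rw [map_mul, map_natCast, map_pow, ← hy, pow_mul]⟩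
  · rcases hq with _ | ⟨hp⟩
    · exact absurd (by simp) hi
    · have hdiv : q ∣ Nat.choose d i := by
        by_contra hc
        have hco : Nat.Coprime (q ^ N) (Nat.choose d i) := Nat.Coprime.pow_left N (hp.coprime_iff_not_dvd.2 hc)
        rcases i with _ | i
        · exact hi (dvd_zero _)
        · obtain ⟨d, rfl⟩ : ∃ e, d = e + 1 := ⟨d - 1, by omega⟩
          refine hi (hco.dvd_of_dvd_mul_left ?_)
          rw [← Nat.add_one_mul_choose_eq]
          exact hdvd.mul_right _
      haveI : CharP L q := charP_of_injective_algebraMap (algebraMap F L).injective q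
      rw [(CharP.cast_eq_zero_iff L q _).2 hdiv, zero_mul]
      exact zero_mem _

lemma isPurelyInseparable_residueField {R S : Type u} [CommRing R] [CommRing S] (f : R →+* S)
    (J : Ideal S) [J.IsPrime] (hrad : UH.Rad f) :
    @IsPurelyInseparable (J.comap f).ResidueField J.ResidueField _ _
      (Ideal.ResidueField.map (J.comap f) J f rfl).toAlgebra := by
  letI := (Ideal.ResidueField.map (J.comap f) J f rfl).toAlgebra
  obtain ⟨q, hq⟩ := ExpChar.exists (J.comap f).ResidueField
  haveI := hq
  rw [isPurelyInseparable_iff_pow_mem _ q]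
  have key : ∀ b : S, ∃ n : ℕ, algebraMap S J.ResidueField b ^ q ^ n ∈
      (algebraMap (J.comap f).ResidueField J.ResidueField).range := by
    intro b
    rcases hrad J ‹_› b with h | ⟨p, hp, hpJ, n, h⟩
    · exact ⟨0, by rw [pow_zero, pow_one]; exact exists_eq_of_resAt f J h⟩
    · have hpq : p = q := by
        have h0 : (p : (J.comap f).ResidueField) = 0 := by
          refine (algebraMap (J.comap f).ResidueField J.ResidueField).injective ?_
          rw [map_natCast, map_zero, ← map_natCast (algebraMap S J.ResidueField)]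
          exact Ideal.algebraMap_residueField_eq_zero.2 hpJ
        haveI : Fact p.Prime := ⟨hp⟩
        haveI : CharP (J.comap f).ResidueField p := ringChar.of_eq (CharP.ringChar_of_prime_eq_zero hp h0)
        exact ExpChar.eq (ExpChar.prime hp) hq
      subst hpq
      exact ⟨n, by rw [← map_pow]; exact exists_eq_of_resAt f J h⟩
  intro x
  obtain ⟨a, s, hs, rfl⟩ := IsFractionRing.div_surjective (A := S ⧸ J) x
  obtain ⟨a, rfl⟩ := Ideal.Quotient.mk_surjective a
  obtain ⟨s, rfl⟩ := Ideal.Quotient.mk_surjective s
  rw [Ideal.algebraMap_quotient_residueField_mk, Ideal.algebraMap_quotient_residueField_mk]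
  obtain ⟨n, z, hz⟩ := key a
  obtain ⟨m, w, hw⟩ := key s
  refine ⟨n + m, z ^ q ^ m / w ^ q ^ n, ?_⟩
  rw [map_div₀, map_pow, map_pow, hz, hw, ← pow_mul, ← pow_mul, ← pow_add, ← pow_add, div_pow, add_comm m n]

/-- Let C be a Noetherian seminormal A-algebra, g : C → C' an A-algebra map with C' reduced such that
Spec C' → Spec C is a finite universal homeomorphism, and d ≥ 1 an integer divisible by every
residue degree [k(q) : k(g⁻¹q)]; let B be a flat A-algebra and φ : B → C' an A-algebra map. Then for
every symmetric tensor x ∈ TS^d_A(B) the element φ(m_d(x)) of C', m_d : B^{⊗d} → B the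
multiplication, lies in the image of C. (The published statement does not assume C' reduced and is
false without it: take A = C = k a field, C' = k[ε]/(ε²), d = 1, B = k[t] and φ(t) = ε; then ε is
not in k.) -/
theorem result (A C C' B : Type u) [CommRing A] [CommRing C] [CommRing C'] [CommRing B]
    [Algebra A C] [Algebra A C'] [Algebra A B] [IsNoetherianRing C] (hC : HTop.IsSeminormalRing C)
    (g : C →ₐ[A] C') [IsReduced C'] (hfin : g.toRingHom.Finite)
    (hg : FlatMor.IsUnivHomeo (Spec.map (CommRingCat.ofHom g.toRingHom)))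
    (d : ℕ) (hd : 0 < d)
    (hdeg : ∀ q : PrimeSpectrum C',
      @Module.finrank (PrimeSpectrum.comap g.toRingHom q).asIdeal.ResidueField q.asIdeal.ResidueField _ _
          (Ideal.ResidueField.map (PrimeSpectrum.comap g.toRingHom q).asIdeal q.asIdeal g.toRingHom
            rfl).toAlgebra.toModule ∣ d)
    [Module.Flat A B] (φ : B →ₐ[A] C') (x : ⨂[A] _ : Fin d, B) (hx : x ∈ SymTen.TS A B d) :
    φ (PiTensorProduct.lift (MultilinearMap.mkPiAlgebra A (Fin d) B) x) ∈ g.range := by
  letI := g.toRingHom.toAlgebra
  haveI : Module.Finite C C' := hfin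
  obtain ⟨-, -, hover⟩ := (UH.isUnivHomeo_iff g.toRingHom).1 hg
  have hG : UH.Good False g.toRingHom := UH.good_of_univHomeo hg (fun h => h.elim)
  have hrad : UH.Rad g.toRingHom :=
    (UH.rad_inj2_of_universallyInjective _ (UH.universallyInjective_of_field _ hG.field)).2
  let μ : (⨂[A] _ : Fin d, B) → B := PiTensorProduct.lift (MultilinearMap.mkPiAlgebra A (Fin d) B)
  have hμ1 : μ 1 = 1 := by
    rw [PiTensorProduct.one_def]
    simp [μ]
  have hμmul : ∀ s t, μ (s * t) = μ s * μ t := by
    intro s t
    induction s using PiTensorProduct.induction_on with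
    | smul_tprod r v =>
      induction t using PiTensorProduct.induction_on with
      | smul_tprod r' v' =>
        simp [μ, PiTensorProduct.tprod_mul_tprod, Finset.prod_mul_distrib, smul_smul, mul_comm r r']
      | add t t' ht ht' => simp only [μ, mul_add, map_add] at ht ht' ⊢; rw [ht, ht']
    | add s s' hs hs' => simp only [μ, add_mul, map_add] at hs hs' ⊢; rw [hs, hs']
  let M : (⨂[A] _ : Fin d, B) →ₐ[A] C' := φ.comp (AlgHom.ofLinearMap
    (PiTensorProduct.lift (MultilinearMap.mkPiAlgebra A (Fin d) B)) hμ1 hμmul)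
  -- every value at a point of `C'` comes from the base
  have hres : ∀ Q : Ideal C', Q.IsPrime → UH.ResAt g.toRingHom Q (M x) := by
    intro Q hQ
    letI := (Ideal.ResidueField.map (Q.comap g.toRingHom) Q g.toRingHom rfl).toAlgebra
    haveI := isPurelyInseparable_residueField g.toRingHom Q hrad
    have hfd : Module.finrank (Q.comap g.toRingHom).ResidueField Q.ResidueField ∣ d := hdeg ⟨Q, hQ⟩
    obtain ⟨z, hz⟩ : algebraMap C' Q.ResidueField (M x) ∈
        (algebraMap (Q.comap g.toRingHom).ResidueField Q.ResidueField).range := by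
      have hx' := hx
      rw [Groth.Agent.S14673.result A B d] at hx'
      clear hx
      induction hx' using Algebra.adjoin_induction with
      | mem t ht =>
        obtain ⟨a, j, rfl⟩ := ht
        have e : M (∑ I ∈ (Finset.univ : Finset (Fin d)).powersetCard j,
            PiTensorProduct.tprod A (fun i : Fin d => if i ∈ I then a else (1 : B))) =
            (Nat.choose d j : C') * φ a ^ j := by
          rw [map_sum, Finset.sum_congr rfl fun I hI => show
            M (PiTensorProduct.tprod A fun i : Fin d => if i ∈ I then a else (1 : B)) = φ a ^ j by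
              simp [M, Finset.prod_ite_mem, (Finset.mem_powersetCard.1 hI).2], Finset.sum_const,
            Finset.card_powersetCard, Finset.card_univ, Fintype.card_fin, nsmul_eq_mul]
        rw [e, map_mul, map_pow, map_natCast]
        exact choose_pow_mem d hd hfd _ j
      | algebraMap r =>
        rw [AlgHom.commutes, ← g.commutes]
        exact ⟨algebraMap C _ (algebraMap A C r), Ideal.ResidueField.map_algebraMap _ _ _ rfl _⟩
      | add s t _ _ hs ht => rw [map_add, map_add]; exact add_mem hs ht
      | mul s t _ _ hs ht => rw [map_mul, map_mul]; exact mul_mem hs ht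
    exact resAt_of_mem_range _ _ _ z hz
  set c' := φ (PiTensorProduct.lift (MultilinearMap.mkPiAlgebra A (Fin d) B) x) with hc'
  have hMx : M x = c' := rfl
  rw [hMx] at hres
  let D : Subalgebra C C' := Algebra.adjoin C {c'}
  haveI : Algebra.IsIntegral C C' := Algebra.IsIntegral.of_finite C C'
  haveI : Algebra.IsIntegral C D := ⟨fun z =>
    (isIntegral_algHom_iff D.val Subtype.val_injective).1 (Algebra.IsIntegral.isIntegral (z : C'))⟩
  haveI : Algebra.IsIntegral D C' := Algebra.IsIntegral.tower_top C
  have hlift : ∀ q : Ideal D, q.IsPrime → ∃ Q : Ideal C', Q.IsPrime ∧ Q.comap D.val.toRingHom = q :=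
    fun q hq => UH.exists_over_of_injective D.val.toRingHom Subtype.val_injective
      (Algebra.IsIntegral.isIntegral (R := D) (A := C')) q
  have hresD : UH.Res (algebraMap C D) := by
    intro q hq b
    obtain ⟨Q, hQ, rfl⟩ := hlift q hq
    have hone : g.toRingHom 1 ∉ Q := fun h => Ideal.one_notMem Q (by rwa [map_one] at h)
    suffices ∀ w ∈ D, UH.ResAt g.toRingHom Q w by
      obtain ⟨a, s, hs, h⟩ := this b b.2
      exact ⟨a, s, hs, h⟩
    intro w hw
    induction hw using Algebra.adjoin_induction with
    | mem t ht => rw [Set.mem_singleton_iff.1 ht]; exact hres Q hQ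
    | algebraMap r => exact ⟨r, 1, hone, by rw [map_one, one_mul]; exact (sub_self (g r)).symm ▸ Q.zero_mem⟩
    | add u v _ _ hu hv =>
      obtain ⟨a, s, hs, ha⟩ := hu
      obtain ⟨b, t, ht, hb⟩ := hv
      refine ⟨t * a + s * b, s * t, fun h1 => ?_, ?_⟩
      · rw [map_mul] at h1; exact (hQ.mem_or_mem h1).elim hs ht
      · rw [map_mul, map_add, map_mul, map_mul,
          show ∀ S T Aa Bb : C', S * T * (u + v) - (T * Aa + S * Bb) = T * (S * u - Aa) + S * (T * v - Bb) by
            intros; ring]
        exact Q.add_mem (Q.mul_mem_left _ ha) (Q.mul_mem_left _ hb)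
    | mul u v _ _ hu hv =>
      obtain ⟨a, s, hs, ha⟩ := hu
      obtain ⟨b, t, ht, hb⟩ := hv
      refine ⟨a * b, s * t, fun h1 => ?_, ?_⟩
      · rw [map_mul] at h1; exact (hQ.mem_or_mem h1).elim hs ht
      · rw [map_mul, map_mul,
          show ∀ S T Aa Bb : C', S * T * (u * v) - Aa * Bb = T * v * (S * u - Aa) + Aa * (T * v - Bb) by
            intros; ring]
        exact Q.add_mem (Q.mul_mem_left _ ha) (Q.mul_mem_left _ hb)
  have hgood : UH.Good True (algebraMap C D) := by
    refine ⟨Algebra.IsIntegral.isIntegral, ?_, fun p hp => ?_, fun _ => hresD⟩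
    · refine fun K _ => UH.eq_of_inj2_rad (algebraMap C D) (fun q q' hq hq' h => ?_) (UH.rad_of_res _ hresD) K
      obtain ⟨Q, hQ, rfl⟩ := hlift q hq
      obtain ⟨Q', hQ', rfl⟩ := hlift q' hq'
      have : Q = Q' := hG.inj2 Q Q' hQ hQ' h
      rw [this]
    · obtain ⟨Q, hQ, h⟩ := hG.over p hp
      exact ⟨Q.comap D.val.toRingHom, inferInstance, h⟩
  haveI : IsReduced D := isReduced_of_injective D.val Subtype.val_injective
  obtain ⟨c, hc⟩ := (SN26.bijective_of_good (SN26.normal_true_iff.2 hC) hgood).2
    ⟨c', Algebra.subset_adjoin rfl⟩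
  exact ⟨c, congrArg Subtype.val hc⟩

end Groth.Agent.S13839
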