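import Groth.Statements.S13841
import Groth.Agent.Lib.Brauer25.PeriodIndex

set_option autoImplicit false
universe u v
open scoped TensorProduct
open Brauer

namespace Groth.Agent.S13841

/-- Let k be a field and A a finite-dimensional central simple k-algebra of period n. Then A has index n
if and only if there is a finite field extension k' of k of degree coprime to n such that the index
of the k'-algebra k' ⊗_k A divides n. (The published statement is for a class of period n in H²(X,
G_m) on a scheme X over k; this row is the case where X is the spectrum of k.) -/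
theorem result (k : Type u) [Field k] (A : Type v) [Ring A] [Algebra k A]
    [Algebra.IsCentral k A] [IsSimpleRing A] [FiniteDimensional k A] (n : ℕ) (hper : CSAGal.IsPeriod k A n) :
    CSAGal.IsIndex k A n ↔
      ∃ (k' : Type u) (_ : Field k') (_ : Algebra k k') (_ : FiniteDimensional k k'),
        Nat.Coprime n (Module.finrank k k') ∧ ∃ d' : ℕ, CSAGal.IsIndex k' (k' ⊗[k] A) d' ∧ d' ∣ n := by
  constructor
  · intro h
    refine ⟨k, inferInstance, inferInstance, inferInstance, ?_, n, ?_, dvd_rfl⟩
    · rw [Module.finrank_self]; exact Nat.coprime_one_right n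
    · haveI := Groth.Agent.CSAlg.isSimpleRing_baseChange (k := k) k A
      haveI := Groth.Agent.CSAlg.isCentral_baseChange (k := k) k A
      rw [Groth.Agent.Brauer25.isIndex_iff] at h ⊢
      rw [← h, Groth.Agent.Brauer25.cls_congr (Algebra.TensorProduct.lid k A)]
  · rintro ⟨k', _, _, _, hcop, d', hd', hdvd⟩
    haveI := Groth.Agent.CSAlg.isSimpleRing_baseChange (k := k) k' A
    haveI := Groth.Agent.CSAlg.isCentral_baseChange (k := k) k' A
    rw [Groth.Agent.Brauer25.isIndex_iff] at hd' ⊢
    rw [Groth.Agent.Brauer25.isPeriod_iff] at hper
    subst hper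
    refine Nat.dvd_antisymm (Groth.Agent.Brauer25.ind_dvd_of_coprime hcop (pow_orderOf_eq_one _) (hd' ▸ hdvd))
      (orderOf_dvd_of_pow_eq_one (Groth.Agent.Brauer25.pow_ind_eq_one _))
end Groth.Agent.S13841
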