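import Groth.Statements.S13844
import Groth.Agent.Lib.RegSmooth17.Scheme
import Groth.Agent.Lib.Curve17.Basic
import Groth.Agent.Lib.VarDim.Irred
import Mathlib.RingTheory.Etale.Field

set_option autoImplicit false
universe u
open CategoryTheory CategoryTheory.Limits AlgebraicGeometry
attribute [local instance] Curv2.resAlgebra
open Curves

namespace Groth.Agent.S13844
open Groth.Agent TopologicalSpace IsLocalRing
set_option linter.style.haveILetI false

/-- Let K be a field and C a normal curve over K, namely an integral normal separated K-scheme of finite
type of dimension one, and let S be a set of closed points of C whose residue fields are separable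
over K. If the structure morphism of C is smooth at every point outside S, then it is smooth. (The
published statement takes S to be a closed subscheme finite étale over K, that is finitely many such
points; this row allows any set of closed points with separable residue fields.) -/
theorem result (K : Type u) [Field K] (C : Scheme.{u}) [C.Over (Spec (CommRingCat.of K))]
    [IsIntegral C] [IsSeparated (C ↘ (Spec (CommRingCat.of K)))] [LocallyOfFinitePresentation (C ↘ (Spec (CommRingCat.of K)))]
    [QuasiCompact (C ↘ (Spec (CommRingCat.of K)))] (hN : ∀ x : C, IsIntegrallyClosed (C.presheaf.stalk x))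
    (hdim : topologicalKrullDim C = 1) (S : Set C)
    (hS : ∀ x ∈ S, IsClosed ({x} : Set C) ∧ Algebra.IsSeparable K (C.residueField x))
    (hsm : ∀ x : C, x ∉ S → x ∈ (C ↘ (Spec (CommRingCat.of K))).smoothLocus) :
    AlgebraicGeometry.Smooth (C ↘ (Spec (CommRingCat.of K))) := by
  set f := C ↘ (Spec (CommRingCat.of K))
  rw [← Scheme.Hom.smoothLocus_eq_top_iff, ← top_le_iff]
  intro x _
  by_cases hx : x ∈ S
  swap
  · exact hsm x hx
  obtain ⟨hcl, hsep⟩ := hS x hx
  haveI := hsep
  haveI : IsLocallyNoetherian C := LocallyOfFiniteType.isLocallyNoetherian f
  haveI := hN x
  haveI := Curve17.isDiscreteValuationRing_stalk hdim hcl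
  haveI : IsRegularLocalRing (C.presheaf.stalk x) :=
    haveI : IsRegularRing (C.presheaf.stalk x) := inferInstance
    IsRegularLocalRing.of_isRegularRing_of_isLocalRing _
  refine RegSmooth17.mem_smoothLocus_of_isRegularLocalRing f x ?_
  haveI : Algebra.FormallyEtale K (C.residueField x) := Algebra.FormallyEtale.of_isSeparable K _
  exact (RingHom.formallySmooth_algebraMap (R := K) (S := C.residueField x)).2 inferInstance

end Groth.Agent.S13844
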