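import Groth.Statements.S13846
import Mathlib

set_option autoImplicit false
universe u v
open TwSh

namespace Groth.Agent.S13846

/-- Let k be a field and V, W finite-dimensional ℤ-graded k-vector spaces, V = ⊕ V_i with V ≠ 0 and W =
⊕ W_i. Let φ : End_k(V) ≃ End_k(W) be a k-algebra isomorphism which sends every endomorphism
homogeneous of degree d (one mapping V_i into V_{i+d} for all i) to an endomorphism homogeneous of
degree d. Then there are an integer n and a k-linear isomorphism g : V ≅ W with g(V_i) = W_{i+n} for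
every i such that φ(f) = g ∘ f ∘ g⁻¹ for all f; moreover n is unique and g is unique up to a nonzero
scalar: if g' : V ≅ W satisfies g'(V_i) = W_{i+n'} for all i and φ(f) = g' ∘ f ∘ g'⁻¹ for all f,
then n' = n and g' = c·g for some c ∈ kˣ. (The published statement is about non-zero perfect
complexes over k: an isomorphism of their derived endomorphism algebras, as algebra objects of the
derived category, is induced by an isomorphism from the first complex to a shift of the second, for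
a unique shift and up to a unit; this row is its form for finite-dimensional ℤ-graded vector spaces,
to which the bounded derived category of a field is equivalent by taking cohomology.) -/
theorem result (k : Type u) [Field k] (V W : Type v) [AddCommGroup V] [Module k V] [FiniteDimensional k V] [Nontrivial V] [AddCommGroup W] [Module k W] [FiniteDimensional k W] (𝒱 : ℤ → Submodule k V) (h𝒱 : DirectSum.IsInternal 𝒱) (𝒲 : ℤ → Submodule k W) (h𝒲 : DirectSum.IsInternal 𝒲) (φ : Module.End k V ≃ₐ[k] Module.End k W) (hφ : ∀ (d : ℤ) (f : Module.End k V), (∀ (i : ℤ) (x : V), x ∈ 𝒱 i → f x ∈ 𝒱 (i + d)) → ∀ (i : ℤ) (y : W), y ∈ 𝒲 i → φ f y ∈ 𝒲 (i + d)) : ∃ (n : ℤ) (g : V ≃ₗ[k] W), (∀ i : ℤ, Submodule.map (g : V →ₗ[k] W) (𝒱 i) = 𝒲 (i + n)) ∧ (∀ f : Module.End k V, φ f = (g : V →ₗ[k] W) ∘ₗ f ∘ₗ (g.symm : W →ₗ[k] V)) ∧ ∀ (n' : ℤ) (g' : V ≃ₗ[k] W), (∀ i : ℤ, Submodule.map (g' : V →ₗ[k] W) (𝒱 i) = 𝒲 (i + n')) → (∀ f : Module.End k V, φ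 f = (g' : V →ₗ[k] W) ∘ₗ f ∘ₗ (g'.symm : W →ₗ[k] V)) → n' = n ∧ ∃ c : kˣ, ∀ x : V, g' x = c • g x := by
  classical
  have hdec : ∀ {U : Type v} [AddCommGroup U] [Module k U] (𝒰 : ℤ → Submodule k U), DirectSum.IsInternal 𝒰 →
      ∀ z : U, ∃ (s : Finset ℤ) (c : ℤ → U), (∀ m, c m ∈ 𝒰 m) ∧ z = ∑ m ∈ s, c m := by
    intro U _ _ 𝒰 h𝒰 z
    obtain ⟨f, hf, hsum⟩ := (Submodule.mem_iSup_iff_exists_finsupp _ z).1
      (h𝒰.submodule_iSup_eq_top ▸ (Submodule.mem_top : z ∈ (⊤ : Submodule k U)))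
    exact ⟨f.support, f, hf, hsum.symm⟩
  have hdisj : ∀ {U : Type v} [AddCommGroup U] [Module k U] (𝒰 : ℤ → Submodule k U), DirectSum.IsInternal 𝒰 →
      ∀ (m : ℤ) (z : U), z ∈ 𝒰 m → z ∈ (⨆ (l) (_ : l ≠ m), 𝒰 l) → z = 0 := fun 𝒰 h𝒰 m z h1 h2 =>
    Submodule.disjoint_def.1 (h𝒰.submodule_iSupIndep m) z h1 h2
  obtain ⟨i₀, hi₀⟩ : ∃ i, 𝒱 i ≠ ⊥ := by
    by_contra h
    simp only [not_exists, not_not] at h
    have := h𝒱.submodule_iSup_eq_top
    exact bot_ne_top ((iSup_eq_bot.2 h).symm.trans this)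
  obtain ⟨v₀, hv₀, hv₀0⟩ := Submodule.exists_mem_ne_zero_of_ne_bot hi₀
  obtain ⟨ℓ, hℓv, hℓ⟩ : ∃ ℓ : V →ₗ[k] k, ℓ v₀ = 1 ∧ ∀ m, m ≠ i₀ → ∀ x ∈ 𝒱 m, ℓ x = 0 := by
    obtain ⟨f, hf1, hf2⟩ := Submodule.exists_dual_map_eq_bot_of_notMem
      (fun h => hv₀0 (hdisj 𝒱 h𝒱 i₀ v₀ hv₀ h) : v₀ ∉ ⨆ (l) (_ : l ≠ i₀), 𝒱 l) inferInstance
    refine ⟨(f v₀)⁻¹ • f, by simp [inv_mul_cancel₀ hf1], fun m hm x hx => ?_⟩
    have : f x ∈ (⨆ (l) (_ : l ≠ i₀), 𝒱 l).map f :=
      Submodule.mem_map_of_mem (Submodule.mem_iSup_of_mem m (Submodule.mem_iSup_of_mem hm hx))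
    rw [hf2, Submodule.mem_bot] at this
    simp [this]
  have hdeg : ∀ (i : ℤ) (x : V), x ∈ 𝒱 i → ∀ (m : ℤ) (z : V), z ∈ 𝒱 m → ℓ.smulRight x z ∈ 𝒱 (m + (i - i₀)) := by
    intro i x hx m z hz
    rw [LinearMap.smulRight_apply]
    by_cases hm : m = i₀
    · subst hm; rw [add_sub_cancel]; exact Submodule.smul_mem _ _ hx
    · rw [hℓ m hm z hz, zero_smul]; exact zero_mem _
  have he0 : φ (ℓ.smulRight v₀) ≠ 0 := fun h => by
    have h1 : ℓ.smulRight v₀ = (0 : Module.End k V) := φ.injective (by rw [map_zero]; exact h)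
    have := LinearMap.congr_fun h1 v₀
    rw [LinearMap.smulRight_apply, hℓv, one_smul, LinearMap.zero_apply] at this
    exact hv₀0 this
  obtain ⟨j, y, hy, hy0⟩ : ∃ (j : ℤ) (y : W), y ∈ 𝒲 j ∧ φ (ℓ.smulRight v₀) y ≠ 0 := by
    by_contra h
    simp only [not_exists, not_and, not_not] at h
    refine he0 (LinearMap.ext fun z => ?_)
    obtain ⟨s, c, hc, rfl⟩ := hdec 𝒲 h𝒲 z
    rw [map_sum, LinearMap.zero_apply]
    exact Finset.sum_eq_zero fun m _ => h m _ (hc m)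
  set w₀ := φ (ℓ.smulRight v₀) y with hw₀
  have hw₀mem : w₀ ∈ 𝒲 j := by
    have := hφ (i₀ - i₀) (ℓ.smulRight v₀) (fun m z hz => hdeg i₀ v₀ hv₀ m z hz) j y hy
    simpa using this
  let g₀ : V →ₗ[k] W :=
    { toFun := fun x => φ (ℓ.smulRight x) w₀
      map_add' := fun a b => by
        rw [show ℓ.smulRight (a + b) = ℓ.smulRight a + ℓ.smulRight b from LinearMap.ext fun z => smul_add _ _ _, map_add]
        rfl
      map_smul' := fun c a => by
        rw [show ℓ.smulRight (c • a) = c • ℓ.smulRight a from LinearMap.ext fun z => smul_comm _ _ _, map_smul]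
        rfl }
  have heq : ∀ (f : Module.End k V) (x : V), g₀ (f x) = φ f (g₀ x) := fun f x => by
    change φ (ℓ.smulRight (f x)) w₀ = φ f (φ (ℓ.smulRight x) w₀)
    have e : f * ℓ.smulRight x = ℓ.smulRight (f x) := LinearMap.ext fun z => by simp
    rw [← Module.End.mul_apply (φ f) (φ (ℓ.smulRight x)), ← map_mul, e]
  have hgv₀ : g₀ v₀ = w₀ := by
    change φ (ℓ.smulRight v₀) (φ (ℓ.smulRight v₀) y) = φ (ℓ.smulRight v₀) y
    have e : ℓ.smulRight v₀ * ℓ.smulRight v₀ = (ℓ.smulRight v₀ : Module.End k V) := LinearMap.ext fun z => by simp [hℓv]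
    rw [← Module.End.mul_apply, ← map_mul, e]
  have hginj : Function.Injective g₀ := by
    refine (injective_iff_map_eq_zero _).2 fun x hx => by_contra fun hx0 => hy0 ?_
    obtain ⟨l, hl⟩ : ∃ l : V →ₗ[k] k, l x = 1 := by
      obtain ⟨f, hf1, -⟩ := Submodule.exists_dual_map_eq_bot_of_notMem (p := (⊥ : Submodule k V)) (x := x)
        (by rwa [Submodule.mem_bot]) inferInstance
      exact ⟨(f x)⁻¹ • f, by simp [inv_mul_cancel₀ hf1]⟩
    have := heq (l.smulRight v₀) x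
    rw [LinearMap.smulRight_apply, hl, one_smul, hgv₀, hx, map_zero] at this
    exact this
  have hgsurj : Function.Surjective g₀ := fun w => by
    obtain ⟨l, hl⟩ : ∃ l : W →ₗ[k] k, l w₀ = 1 := by
      obtain ⟨f, hf1, -⟩ := Submodule.exists_dual_map_eq_bot_of_notMem (p := (⊥ : Submodule k W)) (x := w₀)
        (by rwa [Submodule.mem_bot]) inferInstance
      exact ⟨(f w₀)⁻¹ • f, by simp [inv_mul_cancel₀ hf1]⟩
    refine ⟨φ.symm (l.smulRight w) v₀, ?_⟩
    rw [heq, hgv₀, AlgEquiv.apply_symm_apply, LinearMap.smulRight_apply, hl, one_smul]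
  let g : V ≃ₗ[k] W := LinearEquiv.ofBijective g₀ ⟨hginj, hgsurj⟩
  have hgdeg : ∀ (i : ℤ) (x : V), x ∈ 𝒱 i → g x ∈ 𝒲 (i + (j - i₀)) := fun i x hx => by
    have := hφ (i - i₀) (ℓ.smulRight x) (hdeg i x hx) j w₀ hw₀mem
    rwa [show j + (i - i₀) = i + (j - i₀) by ring] at this
  refine ⟨j - i₀, g, fun i => le_antisymm ?_ fun z hz => ?_, fun f => LinearMap.ext fun w => ?_, fun n' g' hn' hg' => ?_⟩
  · rintro _ ⟨x, hx, rfl⟩
    exact hgdeg i x hx
  · obtain ⟨s, c, hc, hsum⟩ := hdec 𝒱 h𝒱 (g.symm z)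
    by_cases his : i ∈ s
    · refine ⟨c i, hc i, sub_eq_zero.1 (hdisj 𝒲 h𝒲 (i + (j - i₀)) _ (sub_mem (hgdeg i _ (hc i)) hz) ?_)⟩
      have e : g (c i) - z = -∑ m ∈ s.erase i, g (c m) := by
        rw [← g.apply_symm_apply z, hsum, map_sum, ← Finset.add_sum_erase _ _ his]
        abel
      change g (c i) - z ∈ _
      rw [e]
      refine neg_mem (sum_mem fun m hm => Submodule.mem_iSup_of_mem (m + (j - i₀))
        (Submodule.mem_iSup_of_mem ?_ (hgdeg m _ (hc m))))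
      have := Finset.ne_of_mem_erase hm
      omega
    · refine ⟨0, zero_mem _, ?_⟩
      have : z = 0 := hdisj 𝒲 h𝒲 (i + (j - i₀)) z hz (by
        rw [← g.apply_symm_apply z, hsum, map_sum]
        refine sum_mem fun m hm => Submodule.mem_iSup_of_mem (m + (j - i₀)) (Submodule.mem_iSup_of_mem ?_ (hgdeg m _ (hc m)))
        have : m ≠ i := fun h => his (h ▸ hm)
        omega)
      rw [map_zero, this]
  · have := heq f (g.symm w)
    simp only [LinearMap.comp_apply, LinearEquiv.coe_coe]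
    change φ f w = g₀ (f (g.symm w))
    rw [this]
    congr 1
    exact (g.apply_symm_apply w).symm
  · have hcomm : ∀ (f : Module.End k V) (x : V), g.symm (g' (f x)) = f (g.symm (g' x)) := fun f x => by
      have h1 := LinearMap.congr_fun (hg' f) (g' x)
      simp only [LinearMap.comp_apply, LinearEquiv.coe_coe, LinearEquiv.symm_apply_apply] at h1
      rw [← h1, LinearEquiv.symm_apply_eq]
      change φ f (g' x) = g₀ (f (g.symm (g' x)))
      rw [heq]
      congr 1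
      exact (g.apply_symm_apply _).symm
    have hscal : ∀ x, g' x = ℓ (g.symm (g' v₀)) • g x := fun x => by
      have := hcomm (ℓ.smulRight x) v₀
      rw [LinearMap.smulRight_apply, hℓv, one_smul, LinearMap.smulRight_apply, LinearEquiv.symm_apply_eq, map_smul] at this
      exact this
    have hc0 : ℓ (g.symm (g' v₀)) ≠ 0 := fun h => hv₀0 (g'.injective (by rw [hscal v₀, h, zero_smul, map_zero]))
    refine ⟨?_, Units.mk0 _ hc0, hscal⟩
    by_contra hne
    have h1 : g' v₀ ∈ 𝒲 (i₀ + n') := hn' i₀ ▸ Submodule.mem_map_of_mem hv₀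
    have h2 : g' v₀ ∈ ⨆ (l) (_ : l ≠ i₀ + n'), 𝒲 l := Submodule.mem_iSup_of_mem (i₀ + (j - i₀))
      (Submodule.mem_iSup_of_mem (by omega) (by rw [hscal]; exact Submodule.smul_mem _ _ (hgdeg i₀ v₀ hv₀)))
    exact hv₀0 (g'.injective ((hdisj 𝒲 h𝒲 _ _ h1 h2).trans (map_zero _).symm))

end Groth.Agent.S13846
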