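import Groth.Statements.S13847
import Groth.Agent.Lib.SimpleTop3.Basic

set_option autoImplicit false
universe u v
open TwSh

namespace Groth.Agent.S13847

/-- Let A be a ring which is strongly local, that is, the quotient of A by its Jacobson radical J is a
simple left-Artinian ring, and let P and Q be finitely generated projective left A-modules. If
End_A(P) and End_A(Q) are isomorphic as rings, then P ≅ Q as A-modules. (The published assertion
says more, that every ring isomorphism End_A(P) ≅ End_A(Q) is induced by an isomorphism P ≅ Q; that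
is not correct for isomorphisms which are not linear over the centre — complex conjugation is a ring
automorphism of End_ℂ(ℂ) = ℂ induced by no ℂ-linear map — and this row keeps the existence of an
isomorphism P ≅ Q, which is what the first part of the printed proof establishes.) -/
theorem result (A : Type u) [Ring A] [IsSimpleRing (A ⧸ Ring.jacobson A)] [IsArtinianRing (A ⧸ Ring.jacobson A)] (P Q : Type v) [AddCommGroup P] [Module A P] [Module.Finite A P] [Module.Projective A P] [AddCommGroup Q] [Module A Q] [Module.Finite A Q] [Module.Projective A Q] (e : Module.End A P ≃+* Module.End A Q) : Nonempty (P ≃ₗ[A] Q) := by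
  classical
  obtain ⟨S, hS1, hS⟩ := SimpleTop3.exists_isotypic_top (A := A)
  haveI := hS1
  haveI := IsSimpleModule.nontrivial A S
  obtain ⟨a, ⟨eP⟩, hP⟩ := SimpleTop3.top_structure (M := P) hS
  obtain ⟨b, ⟨eQ⟩, hQ⟩ := SimpleTop3.top_structure (M := Q) hS
  have key : ∀ (X Y : Type v) [AddCommGroup X] [Module A X] [Module.Finite A X] [Module.Projective A X] [AddCommGroup Y]
      [Module A Y] [Module.Finite A Y] [Module.Projective A Y] [IsSemisimpleModule A (X ⧸ SimpleTop3.rad A X)]
      (ε : Module.End A X ≃+* Module.End A Y) (f : Module.End A Y), SimpleTop3.top f = 0 →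
      SimpleTop3.top (ε.symm f) = 0 := by
    intro X Y _ _ _ _ _ _ _ _ _ ε f hf
    by_contra hne
    set φ := SimpleTop3.top (ε.symm f) with hφ
    obtain ⟨C, hC⟩ := exists_isCompl (LinearMap.ker φ)
    obtain ⟨ψ, hψ⟩ : ∃ ψ : (X ⧸ SimpleTop3.rad A X) →ₗ[A] (X ⧸ SimpleTop3.rad A X), ∀ c ∈ C, ψ (φ c) = c := by
      have hinj : LinearMap.ker (φ ∘ₗ C.subtype) = ⊥ := by
        refine LinearMap.ker_eq_bot'.2 fun c hc => Subtype.ext ?_
        exact Submodule.disjoint_def.1 hC.disjoint c hc c.2
      obtain ⟨ψ, hψ⟩ := IsSemisimpleModule.extension_property (φ ∘ₗ C.subtype) (LinearMap.ker_eq_bot.1 hinj) C.subtype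
      exact ⟨ψ, fun c hc => LinearMap.congr_fun hψ ⟨c, hc⟩⟩
    obtain ⟨g, hg⟩ := SimpleTop3.exists_top_eq (-ψ)
    have h1 : IsUnit (1 + ε g * f : Module.End A Y) := (Module.End.isUnit_iff _).2 (SimpleTop3.bijective_of_top _ (by
      have : SimpleTop3.top (1 + ε g * f : Module.End A Y) = LinearMap.id := Submodule.linearMap_qext _ (LinearMap.ext fun m => by
        have := LinearMap.congr_fun hf (Submodule.Quotient.mk m)
        rw [SimpleTop3.top_mk, LinearMap.zero_apply, Submodule.Quotient.mk_eq_zero] at this
        simp only [LinearMap.comp_apply, Submodule.mkQ_apply, SimpleTop3.top_mk, LinearMap.add_apply, Module.End.one_apply,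
          Module.End.mul_apply, Submodule.Quotient.mk_add, LinearMap.id_apply, add_eq_left, Submodule.Quotient.mk_eq_zero]
        exact SimpleTop3.map_rad (ε g) ⟨_, this, rfl⟩)
      rw [this]; exact Function.bijective_id))
    have h2 : IsUnit (1 + g * ε.symm f : Module.End A X) := by
      have := h1.map (ε.symm : Module.End A Y →+* Module.End A X)
      simpa using this
    have h3 := ((Module.End.isUnit_iff _).1 h2)
    have h4 : Function.Surjective (SimpleTop3.top (1 + g * ε.symm f : Module.End A X)) := fun z => by
      obtain ⟨m, rfl⟩ := Submodule.Quotient.mk_surjective _ z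
      obtain ⟨m', hm'⟩ := h3.2 m
      exact ⟨Submodule.Quotient.mk m', by rw [SimpleTop3.top_mk, hm']⟩
    have h5 : ∀ c ∈ C, SimpleTop3.top (1 + g * ε.symm f : Module.End A X) c = 0 := fun c hc => by
      obtain ⟨m, rfl⟩ := Submodule.Quotient.mk_surjective _ c
      simp only [SimpleTop3.top_mk, LinearMap.add_apply, Module.End.one_apply, Module.End.mul_apply, Submodule.Quotient.mk_add]
      rw [← SimpleTop3.top_mk g, hg, ← SimpleTop3.top_mk (ε.symm f), LinearMap.neg_apply, ← hφ, hψ _ hc, add_neg_cancel]
    have hinj : Function.Injective (SimpleTop3.top (1 + g * ε.symm f : Module.End A X)) := by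
      obtain ⟨s, hs⟩ := h2
      intro x y hxy
      have e1 : ∀ z, SimpleTop3.top (↑s⁻¹ : Module.End A X) (SimpleTop3.top (↑s : Module.End A X) z) = z := fun z => by
        obtain ⟨m, rfl⟩ := Submodule.Quotient.mk_surjective _ z
        rw [SimpleTop3.top_mk, SimpleTop3.top_mk, ← Module.End.mul_apply, Units.inv_mul, Module.End.one_apply]
      rw [← hs] at hxy
      rw [← e1 x, hxy, e1]
    refine hne (LinearMap.ext fun z => ?_)
    obtain ⟨u, hu, c, hc, rfl⟩ := Submodule.mem_sup.1 (hC.sup_eq_top ▸ (Submodule.mem_top : z ∈ (⊤ : Submodule A _)))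
    have hc0 : c = 0 := hinj (by rw [h5 c hc, map_zero])
    rw [hc0, add_zero, LinearMap.mem_ker.1 hu, LinearMap.zero_apply]
  have sym : ∀ (X Y : Type v) [AddCommGroup X] [Module A X] [Module.Finite A X] [Module.Projective A X] [AddCommGroup Y]
      [Module A Y] [Module.Finite A Y] [Module.Projective A Y] [IsSemisimpleModule A (X ⧸ SimpleTop3.rad A X)]
      [IsSemisimpleModule A (Y ⧸ SimpleTop3.rad A Y)] (ε : Module.End A X ≃+* Module.End A Y),
      ∃ φ : Module.End A (X ⧸ SimpleTop3.rad A X) →+* Module.End A (Y ⧸ SimpleTop3.rad A Y), Function.Injective φ := by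
    intro X Y _ _ _ _ _ _ _ _ _ _ ε
    have hlift := fun x : Module.End A (X ⧸ SimpleTop3.rad A X) => SimpleTop3.exists_top_eq (M := X) (N := X) x
    choose l hl using hlift
    have hwd : ∀ f f' : Module.End A X, SimpleTop3.top f = SimpleTop3.top f' →
        SimpleTop3.top (ε f) = SimpleTop3.top (ε f') := by
      intro f f' hff
      have h0 : SimpleTop3.top (f - f') = 0 := Submodule.linearMap_qext _ (LinearMap.ext fun m => by
        have := LinearMap.congr_fun hff (Submodule.Quotient.mk m)
        simp only [SimpleTop3.top_mk] at this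
        simp only [LinearMap.comp_apply, Submodule.mkQ_apply, SimpleTop3.top_mk, LinearMap.sub_apply, LinearMap.zero_apply,
          Submodule.Quotient.mk_sub, this, sub_self])
      have h1 := key Y X ε.symm (f - f') h0
      rw [RingEquiv.symm_symm, map_sub] at h1
      refine Submodule.linearMap_qext _ (LinearMap.ext fun m => ?_)
      have := LinearMap.congr_fun h1 (Submodule.Quotient.mk m)
      simp only [SimpleTop3.top_mk, LinearMap.sub_apply, LinearMap.zero_apply, Submodule.Quotient.mk_sub, sub_eq_zero] at this
      simp only [LinearMap.comp_apply, Submodule.mkQ_apply, SimpleTop3.top_mk, this]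
    refine ⟨{ toFun := fun x => SimpleTop3.top (ε (l x)), map_one' := ?_, map_mul' := ?_, map_zero' := ?_, map_add' := ?_ }, ?_⟩
    · rw [hwd (l 1) 1 (by rw [hl]; exact (Submodule.linearMap_qext _ (LinearMap.ext fun m => rfl))), map_one]
      exact Submodule.linearMap_qext _ (LinearMap.ext fun m => rfl)
    · intro x y
      rw [hwd (l (x * y)) (l x * l y) (by
        rw [hl]; refine Submodule.linearMap_qext _ (LinearMap.ext fun m => ?_)
        simp only [LinearMap.comp_apply, Submodule.mkQ_apply, Module.End.mul_apply, SimpleTop3.top_mk]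
        rw [← SimpleTop3.top_mk (l x), hl, ← SimpleTop3.top_mk (l y), hl]), map_mul]
      exact Submodule.linearMap_qext _ (LinearMap.ext fun m => rfl)
    · rw [hwd (l 0) 0 (by rw [hl]; exact (Submodule.linearMap_qext _ (LinearMap.ext fun m => rfl))), map_zero]
      exact Submodule.linearMap_qext _ (LinearMap.ext fun m => rfl)
    · intro x y
      rw [hwd (l (x + y)) (l x + l y) (by
        rw [hl]; refine Submodule.linearMap_qext _ (LinearMap.ext fun m => ?_)
        simp only [LinearMap.comp_apply, Submodule.mkQ_apply, LinearMap.add_apply, SimpleTop3.top_mk, Submodule.Quotient.mk_add]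
        rw [← SimpleTop3.top_mk (l x), hl, ← SimpleTop3.top_mk (l y), hl]), map_add]
      exact Submodule.linearMap_qext _ (LinearMap.ext fun m => rfl)
    · intro x y hxy
      have hxy' : SimpleTop3.top (ε (l x)) = SimpleTop3.top (ε (l y)) := hxy
      have h1 : SimpleTop3.top (ε (l x - l y)) = 0 := Submodule.linearMap_qext _ (LinearMap.ext fun m => by
        have := LinearMap.congr_fun hxy' (Submodule.Quotient.mk m)
        simp only [SimpleTop3.top_mk] at this
        simp only [LinearMap.comp_apply, Submodule.mkQ_apply, SimpleTop3.top_mk, map_sub, LinearMap.sub_apply, LinearMap.zero_apply,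
          Submodule.Quotient.mk_sub, this, sub_self])
      have h2 := key X Y ε _ h1
      rw [RingEquiv.symm_apply_apply] at h2
      rw [← hl x, ← hl y]
      refine Submodule.linearMap_qext _ (LinearMap.ext fun m => ?_)
      have := LinearMap.congr_fun h2 (Submodule.Quotient.mk m)
      simp only [SimpleTop3.top_mk, LinearMap.sub_apply, LinearMap.zero_apply, Submodule.Quotient.mk_sub, sub_eq_zero] at this
      simp only [LinearMap.comp_apply, Submodule.mkQ_apply, SimpleTop3.top_mk, this]
  haveI := hP
  haveI := hQ
  obtain ⟨φ₁, hφ₁⟩ := sym P Q e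
  obtain ⟨φ₂, hφ₂⟩ := sym Q P e.symm
  obtain ⟨p, hp, hp0⟩ := SimpleTop3.projPi eP
  obtain ⟨q, hq, hq0⟩ := SimpleTop3.projPi eQ
  have h1 := SimpleTop3.le_of_endHom φ₁ hφ₁ p hp hp0
  have h2 := SimpleTop3.le_of_endHom φ₂ hφ₂ q hq hq0
  have hlen : ∀ n : ℕ, Module.length A (Fin n → S) = n := fun n => by
    rw [Module.length_pi_of_fintype]; simp [Module.length_eq_one]
  rw [eQ.length_eq, hlen, Nat.cast_le] at h1
  rw [eP.length_eq, hlen, Nat.cast_le] at h2
  obtain rfl : a = b := le_antisymm h1 h2
  exact SimpleTop3.nonempty_equiv_of_top (eP.trans eQ.symm)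

end Groth.Agent.S13847
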