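import Groth.Statements.S13848
import Groth.Agent.Lib.SimpleTop3.Basic

set_option autoImplicit false
universe u v
open TwSh

namespace Groth.Agent.S13848

/-- Let A be a ring with A/J a simple left-Artinian ring, J the Jacobson radical, and let P be a
non-zero finitely generated projective left A-module. An A-linear automorphism u of P which commutes
with every A-linear endomorphism of P (equivalently, induces the identity on End_A(P) by
conjugation) is scalar multiplication by a unique central element a of A: u(x) = a·x for all x ∈ P,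
and a is determined by u. (So the automorphisms of P acting trivially on End_A(P) are exactly the
central units of A acting by scalars; the published assertion does not exclude P = 0, where
uniqueness fails.) -/
theorem result (A : Type u) [Ring A] [IsSimpleRing (A ⧸ Ring.jacobson A)] [IsArtinianRing (A ⧸ Ring.jacobson A)] (P : Type v) [AddCommGroup P] [Module A P] [Module.Finite A P] [Module.Projective A P] [Nontrivial P] (u : P ≃ₗ[A] P) (hu : ∀ f : Module.End A P, (u : P →ₗ[A] P) ∘ₗ f = f ∘ₗ (u : P →ₗ[A] P)) : ∃! a : A, (∀ b : A, a * b = b * a) ∧ ∀ x : P, u x = a • x := by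
  classical
  obtain ⟨S, hS1, hS⟩ := SimpleTop3.exists_isotypic_top (A := A)
  haveI := hS1
  haveI := SimpleTop3.isSemisimple_top (A := A)
  obtain ⟨n, ⟨eP⟩, -⟩ := SimpleTop3.top_structure (M := P) hS
  obtain ⟨m, ⟨eA⟩⟩ := IsIsotypicOfType.linearEquiv_fun hS
  have hn : 0 < n := by
    by_contra h0
    obtain rfl : n = 0 := by omega
    haveI : Subsingleton (P ⧸ SimpleTop3.rad A P) := eP.toEquiv.subsingleton
    have hb : (⊥ : Submodule A P) = ⊤ := SimpleTop3.eq_top_of_sup_rad ⊥ (Submodule.eq_top_iff'.2 fun x => by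
      rw [bot_sup_eq, ← Submodule.Quotient.mk_eq_zero]; exact Subsingleton.elim _ _)
    obtain ⟨x, hx⟩ := exists_ne (0 : P)
    exact hx ((Submodule.mem_bot A).1 (hb ▸ trivial))
  let T : Submodule A A := ⨆ f : P →ₗ[A] A, LinearMap.range f
  have hT : T = ⊤ := by
    refine SimpleTop3.eq_top_of_sup_rad T (Submodule.eq_top_iff'.2 fun a => ?_)
    let ι : Fin m → (S →ₗ[A] A ⧸ Ring.jacobson A) := fun i => eA.symm.toLinearMap ∘ₗ LinearMap.single A (fun _ => S) i
    have hlift := fun i => Module.projective_lifting_property (Submodule.mkQ (Ring.jacobson A))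
      (ι i ∘ₗ LinearMap.proj (⟨0, hn⟩ : Fin n) ∘ₗ eP.toLinearMap ∘ₗ (SimpleTop3.rad A P).mkQ) (Submodule.mkQ_surjective _)
    choose F hF using hlift
    have hy : ∀ i, ∃ x : P, F i x - ((ι i) (eA (Submodule.Quotient.mk a) i)).out ∈ Ring.jacobson A := fun i => by
      obtain ⟨z, hz⟩ := eP.surjective (Pi.single ⟨0, hn⟩ (eA (Submodule.Quotient.mk a) i))
      obtain ⟨x, rfl⟩ := Submodule.Quotient.mk_surjective _ z
      refine ⟨x, ?_⟩
      rw [← Submodule.Quotient.eq]
      have := LinearMap.congr_fun (hF i) x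
      simp only [LinearMap.comp_apply, Submodule.mkQ_apply, LinearEquiv.coe_coe, hz, LinearMap.proj_apply, Pi.single_eq_same] at this
      rw [this]
      exact (Submodule.Quotient.mk_out _).symm
    choose x hx using hy
    have h1 : a - ∑ i, F i (x i) ∈ Ring.jacobson A := by
      rw [← Submodule.Quotient.mk_eq_zero, Submodule.Quotient.mk_sub, sub_eq_zero, ← Submodule.mkQ_apply _ (∑ i, F i (x i)), map_sum]
      simp only [Submodule.mkQ_apply]
      have h2 : ∀ i, (Submodule.Quotient.mk (F i (x i)) : A ⧸ Ring.jacobson A) = ι i (eA (Submodule.Quotient.mk a) i) := fun i => by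
        rw [(Submodule.Quotient.eq _).2 (hx i)]; exact Submodule.Quotient.mk_out _
      simp only [h2, ι, LinearMap.comp_apply, LinearEquiv.coe_coe, ← map_sum, LinearMap.coe_single, Finset.univ_sum_single,
        LinearEquiv.symm_apply_apply]
    refine Submodule.mem_sup.2 ⟨∑ i, F i (x i), sum_mem fun i _ => Submodule.mem_iSup_of_mem (F i) ⟨_, rfl⟩,
      a - ∑ i, F i (x i), ?_, by abel⟩
    have := Submodule.smul_mem_smul h1 (Submodule.mem_top : (1 : A) ∈ (⊤ : Submodule A A))
    simpa using this
  obtain ⟨f, hf, hsum⟩ := (Submodule.mem_iSup_iff_exists_finsupp _ (1 : A)).1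
    (show (1 : A) ∈ ⨆ f : P →ₗ[A] A, LinearMap.range f by change (1 : A) ∈ T; rw [hT]; trivial)
  choose x hx using hf
  rw [Finsupp.sum] at hsum
  have h1 : ∀ c : A, c = ∑ g ∈ f.support, g (c • x g) := fun c => by
    conv_lhs => rw [← mul_one c, ← hsum, Finset.mul_sum]
    exact Finset.sum_congr rfl fun g _ => by rw [map_smul, hx, smul_eq_mul]
  have hann : ∀ c : A, (∀ y : P, c • y = 0) → c = 0 := fun c hc => by
    rw [h1 c]; exact Finset.sum_eq_zero fun g _ => by rw [hc, map_zero]
  let a : A := ∑ g ∈ f.support, g (u (x g))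
  have ha : ∀ y : P, u y = a • y := fun y => by
    have hy : y = ∑ g ∈ f.support, g (x g) • y := by
      rw [← Finset.sum_smul, Finset.sum_congr rfl fun g _ => hx g, hsum, one_smul]
    conv_lhs => rw [hy]
    rw [map_sum, Finset.sum_smul]
    refine Finset.sum_congr rfl fun g _ => ?_
    have := LinearMap.congr_fun (hu (g.smulRight y)) (x g)
    simpa using this
  have hcentral : ∀ b : A, a * b = b * a := fun b => sub_eq_zero.1 (hann _ fun y => by
    rw [sub_smul, mul_smul, mul_smul, ← ha, ← ha, map_smul, sub_self])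
  refine ⟨a, ⟨hcentral, ha⟩, fun a' ha' => sub_eq_zero.1 (hann _ fun y => by rw [sub_smul, ← ha'.2 y, ← ha y, sub_self])⟩

end Groth.Agent.S13848
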