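import Groth.Statements.S1386
import Groth.Agent.Lib.FlatH4.FibreCritScheme

set_option autoImplicit false
universe u
open FlatMor

namespace Groth.Agent.S1386

open AlgebraicGeometry CategoryTheory Limits in
/-- Fibrewise flatness criterion (critère de platitude par fibres), for the structure sheaf: let f : X →
Y and g : Y → S be morphisms of schemes with X locally of finite presentation over S (via g ∘ f) and
Y locally of finite type over S. For a point x of X with images y = f(x) and s = g(y) the following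
are equivalent: (1) X → S is flat at x and the induced morphism of fibres X_s → Y_s is flat at x;
(2) Y → S is flat at y and f is flat at x. Moreover the set of points x at which (2) holds is open
in X. The published statement treats a finitely presented quasi-coherent O_X-module; here the module
is O_X. -/
theorem result {X Y S : Scheme.{u}} (f : X ⟶ Y) (g : Y ⟶ S) [LocallyOfFinitePresentation (f ≫ g)] [LocallyOfFiniteType g] :
    (∀ x : X, ((f ≫ g).stalkMap x).hom.Flat ∧ ((MoreMor.fiberMap f g (g (f x))).stalkMap ((f ≫ g).asFiber x)).hom.Flat ↔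
        (g.stalkMap (f x)).hom.Flat ∧ (f.stalkMap x).hom.Flat) ∧
      IsOpen {x : ↑X | (g.stalkMap (f x)).hom.Flat ∧ (f.stalkMap x).hom.Flat} := by
  have hfib : ∀ x, MoreMor.fiberMap f g (g (f x)) =
      Groth.Agent.FlatH4.fibreMapAt' f g (S.fromSpecResidueField (g (f x))) := fun x => by
    apply pullback.hom_ext
    · simp [MoreMor.fiberMap, Groth.Agent.FlatH4.fibreMapAt', Scheme.Hom.fiberι, pullback.lift_fst]
      exact (pullback.lift_fst _ _ _).symm
    · simp [MoreMor.fiberMap, Groth.Agent.FlatH4.fibreMapAt', Scheme.Hom.fiberToSpecResidueField,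
        pullback.lift_snd]
      exact ((pullback.lift_snd _ _ _).trans (Category.comp_id _)).symm
  have hiff : ∀ x : X, ((f ≫ g).stalkMap x).hom.Flat ∧
      ((MoreMor.fiberMap f g (g (f x))).stalkMap ((f ≫ g).asFiber x)).hom.Flat ↔
        (g.stalkMap (f x)).hom.Flat ∧ (f.stalkMap x).hom.Flat := by
    intro x
    have hz : pullback.fst (f ≫ g) (S.fromSpecResidueField (g (f x))) ((f ≫ g).asFiber x) = x :=
      (f ≫ g).fiberι_asFiber x
    rw [hfib x]
    constructor
    · rintro ⟨h1, h2⟩
      have h3 := Groth.Agent.FlatH4.flat_of_flat_fibreMapAt' f g (S.fromSpecResidueField (g (f x)))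
        ((f ≫ g).asFiber x) (Groth.Agent.FlatH4.flat_stalkMap_of_eq (f ≫ g) hz.symm h1) h2
      replace h3 := Groth.Agent.FlatH4.flat_stalkMap_of_eq f hz h3
      exact ⟨Groth.Agent.FlatH4.flat_stalkMap_of_comp_of_flat f g x h1 h3, h3⟩
    · rintro ⟨h1, h2⟩
      refine ⟨?_, Groth.Agent.FlatH4.flat_fibreMapAt'_of_flat f g _ _ (Groth.Agent.FlatH4.flat_stalkMap_of_eq f hz.symm h2)⟩
      rw [Scheme.Hom.stalkMap_comp]
      exact RingHom.Flat.comp h1 h2
  refine ⟨hiff, ?_⟩
  haveI : LocallyOfFinitePresentation f := Groth.Agent.SchBasic.locallyOfFinitePresentation_of_comp f g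
  have heq : {x : ↑X | (g.stalkMap (f x)).hom.Flat ∧ (f.stalkMap x).hom.Flat} =
      {x : ↑X | ((f ≫ g).stalkMap x).hom.Flat} ∩ {x : ↑X | (f.stalkMap x).hom.Flat} := by
    ext x
    constructor
    · rintro ⟨h1, h2⟩
      refine ⟨?_, h2⟩
      show ((f ≫ g).stalkMap x).hom.Flat
      rw [Scheme.Hom.stalkMap_comp]
      exact RingHom.Flat.comp h1 h2
    · rintro ⟨h1, h2⟩
      exact ⟨Groth.Agent.FlatH4.flat_stalkMap_of_comp_of_flat f g x h1 h2, h2⟩
  rw [heq]
  exact (Groth.Agent.FlatH4.isOpen_flatLocus (f ≫ g)).inter (Groth.Agent.FlatH4.isOpen_flatLocus f)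

end Groth.Agent.S1386
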