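import Groth.Statements.S13860
import Mathlib

set_option autoImplicit false
universe u v w
open ModRep

namespace Groth.Agent.S13860

/-- For k a field of characteristic p > 0, G a finite group and P a Sylow p-subgroup of G, a short exact
sequence of k[G]-modules has a k[G]-linear splitting exactly when it has a k[P]-linear one. Stated
here for the surjection of the sequence: a G-equivariant k-linear map g : B → C between k-linear
representations of G admits a G-equivariant k-linear section if and only if it admits a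
P-equivariant k-linear section. -/
theorem result {k : Type u} [Field k] (p : ℕ) [Fact p.Prime]
    [CharP k p] {G : Type v} [Group G] [Finite G] (P : Sylow p G)
    {B C : Type w} [AddCommGroup B] [Module k B] [AddCommGroup C] [Module k C]
    (ρB : Representation k G B) (ρC : Representation k G C)
    (g : B →ₗ[k] C) (hg : ∀ x : G, g ∘ₗ ρB x = ρC x ∘ₗ g) :
    (∃ s : C →ₗ[k] B, g ∘ₗ s = LinearMap.id ∧ ∀ x : G, s ∘ₗ ρC x = ρB x ∘ₗ s) ↔
      (∃ s : C →ₗ[k] B, g ∘ₗ s = LinearMap.id ∧ ∀ x : G, x ∈ P → s ∘ₗ ρC x = ρB x ∘ₗ s) := by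
  constructor
  · rintro ⟨s, h1, h2⟩
    exact ⟨s, h1, fun x _ => h2 x⟩
  · rintro ⟨s, h1, h2⟩
    classical
    let : Fintype (G ⧸ (P : Subgroup G)) := Fintype.ofFinite _
    let T : G → (C →ₗ[k] B) := fun x => ρB x ∘ₗ s ∘ₗ ρC x⁻¹
    have hT : ∀ x y : G, (x : G ⧸ (P : Subgroup G)) = (y : G ⧸ (P : Subgroup G)) → T x = T y := by
      intro x y hxy
      have hp : x⁻¹ * y ∈ P := QuotientGroup.eq.1 hxy
      refine LinearMap.ext fun c => ?_
      have := LinearMap.congr_fun (h2 _ hp) (ρC y⁻¹ c)
      simp only [LinearMap.comp_apply] at this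
      rw [← Module.End.mul_apply, ← map_mul, mul_inv_cancel_right] at this
      show ρB x (s (ρC x⁻¹ c)) = ρB y (s (ρC y⁻¹ c))
      rw [this, ← Module.End.mul_apply, ← map_mul, mul_inv_cancel_left]
    have hnum : (((P : Subgroup G).index : ℕ) : k) ≠ 0 := by
      rw [Ne, CharP.cast_eq_zero_iff k p]
      exact P.not_dvd_index
    refine ⟨(((P : Subgroup G).index : ℕ) : k)⁻¹ • ∑ q : G ⧸ (P : Subgroup G), T q.out, ?_, ?_⟩
    · have : ∀ x, g ∘ₗ T x = LinearMap.id := by
        intro x
        refine LinearMap.ext fun c => ?_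
        have e1 := LinearMap.congr_fun (hg x) (s (ρC x⁻¹ c))
        have e2 := LinearMap.congr_fun h1 (ρC x⁻¹ c)
        simp only [LinearMap.comp_apply, LinearMap.id_apply] at e1 e2
        show g (ρB x (s (ρC x⁻¹ c))) = c
        rw [e1, e2, ρC.self_inv_apply]
      refine LinearMap.ext fun c => ?_
      simp only [LinearMap.comp_apply, LinearMap.smul_apply, LinearMap.sum_apply, map_smul, map_sum]
      rw [Finset.sum_congr rfl fun q _ => LinearMap.congr_fun (this q.out) c]
      simp only [LinearMap.id_apply, Finset.sum_const, Finset.card_univ, ← Nat.cast_smul_eq_nsmul k,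
        smul_smul]
      rw [← Nat.card_eq_fintype_card, ← Subgroup.index_eq_card, inv_mul_cancel₀ hnum, one_smul]
    · intro y
      refine LinearMap.ext fun c => ?_
      simp only [LinearMap.comp_apply, LinearMap.smul_apply, LinearMap.sum_apply, map_smul, map_sum]
      congr 1
      rw [← Equiv.sum_comp (MulAction.toPerm y) (fun q : G ⧸ (P : Subgroup G) => T q.out (ρC y c))]
      refine Finset.sum_congr rfl fun q _ => ?_
      simp only [MulAction.toPerm_apply]
      rw [hT (y • q).out (y * q.out) (by rw [QuotientGroup.out_eq']; conv_rhs => rw [← smul_eq_mul, ← MulAction.Quotient.smul_coe, QuotientGroup.out_eq'])]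
      show ρB (y * q.out) (s (ρC (y * q.out)⁻¹ (ρC y c))) = ρB y (ρB q.out (s (ρC q.out⁻¹ c)))
      rw [mul_inv_rev, map_mul, map_mul, Module.End.mul_apply, Module.End.mul_apply, ρC.inv_self_apply]

end Groth.Agent.S13860
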