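import Groth.Statements.S13861
import Groth.Agent.Lib.ASCohom

set_option autoImplicit false
universe u
open ASCover

namespace Groth.Agent.S13861

/-- Let k be an algebraically closed field of characteristic p > 0 and n ≥ 1 an integer prime to p; let
u ∈ k[[t]] be the power series with constant term 1 and u^n · (1 + t^n) = 1, so that t ↦ t·u = t(1 +
t^n)^(-1/n) defines a k-automorphism σ of k((t)) of order p (the action at a totally ramified point
of a ℤ/p-cover of curves with break n). For an integer a, the fractional ideal t^a·k[[t]] is stable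
under σ; transported to B = k[[t]] along h ↦ t^a·h the action of σ reads h ↦ u^a · h(t·u). For a
group G of order p generated by g acting on B through this map, the first group cohomology H^1(G, B)
is finite-dimensional over k, of dimension n − ⌊(a−1)/p⌋ + ⌊(a−1−n)/p⌋. (The published lemma also
identifies this H^1 with the cokernel of k((t))^G → (k((t))/t^a k[[t]])^G and names explicit
representatives t^i, a − n ≤ i ≤ a − 1 with p ∤ i, of a basis; those parts are not restated here.) -/
theorem result {k : Type u} [Field k] [IsAlgClosed k] (p : ℕ)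
    [Fact p.Prime] [CharP k p] (n : ℕ) (hn : 0 < n) (hpn : ¬ p ∣ n)
    (u : PowerSeries k) (hu1 : PowerSeries.constantCoeff u = 1)
    (hun : u ^ n * (1 + PowerSeries.X ^ n) = 1) (hu : IsUnit u) (a : ℤ)
    {G : Type u} [Group G] [Finite G] (g : G) (hG : Nat.card G = p)
    (hg : ∀ x : G, x ∈ Subgroup.zpowers g)
    (ρ : Representation k G (PowerSeries k))
    (hρ : ∀ h : PowerSeries k, ρ g h =
      ((hu.unit ^ a : (PowerSeries k)ˣ) : PowerSeries k) * PowerSeries.subst (PowerSeries.X * u) h) :
    Module.Finite k (groupCohomology.H1 (Rep.of ρ)) ∧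
      (Module.finrank k (groupCohomology.H1 (Rep.of ρ)) : ℤ) =
        n - (a - 1) / (p : ℤ) + (a - 1 - n) / (p : ℤ) := by
  classical
  have hsX : PowerSeries.HasSubst (PowerSeries.X * u : PowerSeries k) := PowerSeries.HasSubst.of_constantCoeff_zero' (by simp)
  have ho : orderOf g = p := (orderOf_eq_card_of_forall_mem_zpowers hg).trans hG
  let S : Groth.Agent.ASCohom.Setup k :=
    { p := p, hp := Fact.out, hchar := inferInstance, n := n, hn := hn, hpn := hpn, u := u, hu1 := hu1, hun := hun,
      U := hu.unit, hU := rfl, a := a, σ := PowerSeries.substAlgHom hsX, hσX := PowerSeries.substAlgHom_X hsX,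
      T := ρ g, hT := fun h => by rw [hρ, ← PowerSeries.coe_substAlgHom hsX],
      hTp := by rw [← map_pow, ← ho, pow_orderOf_eq_one, map_one] }
  have hrange : LinearMap.range (Groth.Agent.ASCohom.ev g ρ) = S.Z := by
    rw [Groth.Agent.ASCohom.range_ev g hg ρ p hG]
    exact congrArg LinearMap.ker S.geom_sum_eq
  have hΨ : ∀ x, Groth.Agent.ASCohom.coords n (Groth.Agent.ASCohom.ev g ρ x) = 0 ↔ Groth.Agent.ASCohom.ev g ρ x ∈ LinearMap.range (ρ g - 1) :=
    fun x => S.coords_mem_range_iff _ (hrange ▸ ⟨x, rfl⟩)
  obtain ⟨hfin, hrk⟩ := Groth.Agent.ASCohom.finrank_range_H1 g hg ρ LinearMap.id (Groth.Agent.ASCohom.coords n) hΨ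
  have hsurj : LinearMap.range ((groupCohomology.H1π (Rep.of ρ)).hom ∘ₗ LinearMap.id) = ⊤ := by
    rw [LinearMap.comp_id, LinearMap.range_eq_top]
    exact (ModuleCat.epi_iff_surjective _).1 inferInstance
  rw [hsurj] at hfin hrk
  refine ⟨Module.Finite.equiv (LinearEquiv.ofTop ⊤ rfl), ?_⟩
  rw [← (LinearEquiv.ofTop (⊤ : Submodule k (groupCohomology.H1 (Rep.of ρ))) rfl).finrank_eq, hrk, LinearMap.comp_id,
    LinearMap.range_comp, hrange,
    show S.Z.map (Groth.Agent.ASCohom.coords n) = _ from S.map_coords_Z,
    Groth.Agent.ASCohom.finrank_span_single]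
  have hp0 : 0 < p := (Fact.out : p.Prime).pos
  have hsplit := Finset.card_filter_add_card_filter_not (s := Finset.range n) (fun i : ℕ => (p : ℤ) ∣ a - 1 - i)
  have hbij : S.idx.card = ((Finset.range n).filter fun i : ℕ => ¬ (p : ℤ) ∣ a - 1 - i).card := by
    refine Finset.card_bij' (fun i _ => n - 1 - (i : ℕ)) (fun i hi => (⟨n - 1 - i, by omega⟩ : Fin n)) ?_ ?_ ?_ ?_
    · intro i hi
      have hlt : (i : ℕ) < n := i.2
      rw [Finset.mem_filter, Finset.mem_range]
      refine ⟨by omega, ?_⟩
      have := (S.mem_idx i).1 hi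
      rwa [show a - 1 - ((n - 1 - (i : ℕ) : ℕ) : ℤ) = a + (i : ℕ) - n by omega]
    · intro i hi
      rw [Finset.mem_filter, Finset.mem_range] at hi
      refine (S.mem_idx _).2 ?_
      show ¬ (p : ℤ) ∣ a + ((n - 1 - i : ℕ) : ℤ) - n
      rw [show a + ((n - 1 - i : ℕ) : ℤ) - n = a - 1 - i by omega]
      exact hi.2
    · intro i _
      have hlt : (i : ℕ) < n := i.2
      refine Fin.ext ?_
      simp only
      omega
    · intro i hi
      rw [Finset.mem_filter, Finset.mem_range] at hi
      simp only
      omega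
  have hcard := Groth.Agent.ASCohom.card_range_filter hp0 (a - 1) n
  rw [hbij]
  rw [Finset.card_range] at hsplit
  omega

end Groth.Agent.S13861
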