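import Groth.Statements.S13862
import Groth.Agent.Lib.ASCohom

set_option autoImplicit false
universe u
open ASCover

namespace Groth.Agent.S13862

/-- For k an algebraically closed field of characteristic p > 0, n ≥ 1 an integer prime to p, u ∈ k[[t]]
the power series with constant term 1 and u^n · (1 + t^n) = 1, and G a group of order p generated by
g, consider two k-linear actions of G on B = k[[t]]: ρ₀(g) h = h(t·u), i.e. B with its order-p
automorphism σ(t) = t·u, and ρ₁(g) h = u^(n+1) · h(t·u), which is the σ-module B·dt identified with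
B through h·dt ↦ h (because d(σ t) = u^(n+1) dt). The derivative d/dt : (B, ρ₀) → (B, ρ₁) is
G-equivariant, and the image of the map it induces on first group cohomology, H^1(G, (B, ρ₀)) →
H^1(G, (B, ρ₁)), is finite-dimensional over k of dimension ⌊(n+1)(p−1)/p⌋ − 1 − ⌊(n−1)/p⌋. This is
the dimension of the image of H^1(G, O) → H^1(G, Ω) at a ramified point with break n of a ℤ/p-cover
of smooth curves, computed in the completed local ring; the published statement is phrased for the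
stalks, at a point of the quotient curve, of the direct images of the structure sheaf and of the
sheaf of differentials, and its proof passes to this completed form. -/
theorem result {k : Type u} [Field k] [IsAlgClosed k] (p : ℕ)
    [Fact p.Prime] [CharP k p] (n : ℕ) (hn : 0 < n) (hpn : ¬ p ∣ n)
    (u : PowerSeries k) (hu1 : PowerSeries.constantCoeff u = 1)
    (hun : u ^ n * (1 + PowerSeries.X ^ n) = 1)
    {G : Type u} [Group G] [Finite G] (g : G) (hG : Nat.card G = p)
    (hg : ∀ x : G, x ∈ Subgroup.zpowers g)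
    (ρ₀ ρ₁ : Representation k G (PowerSeries k))
    (hρ₀ : ∀ h : PowerSeries k, ρ₀ g h = PowerSeries.subst (PowerSeries.X * u) h)
    (hρ₁ : ∀ h : PowerSeries k, ρ₁ g h = u ^ (n + 1) * PowerSeries.subst (PowerSeries.X * u) h)
    (φ : Rep.of ρ₀ ⟶ Rep.of ρ₁) (hφ : ∀ h : PowerSeries k, φ.hom h = PowerSeries.derivative k h) :
    Module.Finite k (LinearMap.range ((groupCohomology.functor k G 1).map φ).hom) ∧
      (Module.finrank k (LinearMap.range ((groupCohomology.functor k G 1).map φ).hom) : ℤ) =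
        ((n + 1) * (p - 1) : ℤ) / p - 1 - (n - 1 : ℤ) / p := by
  classical
  have hsX : PowerSeries.HasSubst (PowerSeries.X * u : PowerSeries k) := PowerSeries.HasSubst.of_constantCoeff_zero' (by simp)
  have hu : IsUnit u := by rw [PowerSeries.isUnit_iff_constantCoeff, hu1]; exact isUnit_one
  have ho : orderOf g = p := (orderOf_eq_card_of_forall_mem_zpowers hg).trans hG
  let S₀ : Groth.Agent.ASCohom.Setup k :=
    { p := p, hp := Fact.out, hchar := inferInstance, n := n, hn := hn, hpn := hpn, u := u, hu1 := hu1, hun := hun,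
      U := hu.unit, hU := rfl, a := 0, σ := PowerSeries.substAlgHom hsX, hσX := PowerSeries.substAlgHom_X hsX,
      T := ρ₀ g, hT := fun h => by rw [hρ₀, ← PowerSeries.coe_substAlgHom hsX, zpow_zero, Units.val_one, one_mul],
      hTp := by rw [← map_pow, ← ho, pow_orderOf_eq_one, map_one] }
  let S₁ : Groth.Agent.ASCohom.Setup k :=
    { p := p, hp := Fact.out, hchar := inferInstance, n := n, hn := hn, hpn := hpn, u := u, hu1 := hu1, hun := hun,
      U := hu.unit, hU := rfl, a := ((n + 1 : ℕ) : ℤ), σ := PowerSeries.substAlgHom hsX, hσX := PowerSeries.substAlgHom_X hsX,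
      T := ρ₁ g, hT := fun h => by rw [hρ₁, ← PowerSeries.coe_substAlgHom hsX, zpow_natCast, Units.val_pow_eq_pow_val, IsUnit.unit_spec],
      hTp := by rw [← map_pow, ← ho, pow_orderOf_eq_one, map_one] }
  have hrange₀ : LinearMap.range (Groth.Agent.ASCohom.ev g ρ₀) = S₀.Z := by
    rw [Groth.Agent.ASCohom.range_ev g hg ρ₀ p hG]
    exact congrArg LinearMap.ker S₀.geom_sum_eq
  have hrange₁ : LinearMap.range (Groth.Agent.ASCohom.ev g ρ₁) = S₁.Z := by
    rw [Groth.Agent.ASCohom.range_ev g hg ρ₁ p hG]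
    exact congrArg LinearMap.ker S₁.geom_sum_eq
  have hΨ : ∀ x, Groth.Agent.ASCohom.coords n (Groth.Agent.ASCohom.ev g ρ₁ x) = 0 ↔ Groth.Agent.ASCohom.ev g ρ₁ x ∈ LinearMap.range (ρ₁ g - 1) :=
    fun x => S₁.coords_mem_range_iff _ (hrange₁ ▸ ⟨x, rfl⟩)
  let Φ := (groupCohomology.mapCocycles₁ (A := Rep.of ρ₀) (B := Rep.of ρ₁) (MonoidHom.id G) φ).hom
  obtain ⟨hfin, hrk⟩ := Groth.Agent.ASCohom.finrank_range_H1 g hg ρ₁ Φ (Groth.Agent.ASCohom.coords n) hΨ
  have hfun : LinearMap.range ((groupCohomology.functor k G 1).map φ).hom =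
      LinearMap.range ((groupCohomology.H1π (Rep.of ρ₁)).hom ∘ₗ Φ) := by
    have := congrArg ModuleCat.Hom.hom (groupCohomology.H1π_comp_map (A := Rep.of ρ₀) (B := Rep.of ρ₁) (f := MonoidHom.id G) (φ := φ))
    rw [ModuleCat.hom_comp, ModuleCat.hom_comp] at this
    refine Eq.trans ?_ (congrArg LinearMap.range this)
    have hepi : Function.Surjective (groupCohomology.H1π (Rep.of ρ₀)).hom := fun y => by
      induction y using groupCohomology.H1_induction_on with
      | h x => exact ⟨x, rfl⟩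
    exact (LinearMap.range_comp_of_range_eq_top _ (LinearMap.range_eq_top.2 hepi)).symm
  rw [hfun]
  refine ⟨hfin, ?_⟩
  refine (congrArg (Nat.cast (R := ℤ)) hrk).trans ?_
  let d : PowerSeries k →ₗ[k] PowerSeries k := (PowerSeries.derivative k).toLinearMap
  have hev : Groth.Agent.ASCohom.ev g ρ₁ ∘ₗ Φ = d ∘ₗ Groth.Agent.ASCohom.ev g ρ₀ :=
    LinearMap.ext fun x => hφ _
  rw [hev, LinearMap.range_comp, LinearMap.range_comp, hrange₀]
  have hD : ∀ h, Groth.Agent.ASCohom.coords n (d (S₀.D h)) = 0 := by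
    intro h
    have e : d (S₀.D h) = S₁.D (d h) := by
      show d (ρ₀ g h - h) = ρ₁ g (d h) - d h
      rw [map_sub]
      congr 1
      exact ((hφ _).symm.trans (Rep.hom_comm_apply φ g h)).trans (congrArg (ρ₁ g) (hφ h))
    rw [e, show Groth.Agent.ASCohom.coords n (S₁.D (d h)) = 0 ↔ _ from S₁.coords_mem_range_iff _ (S₁.range_le_Z ⟨_, rfl⟩)]
    exact ⟨_, rfl⟩
  obtain ⟨c, hc1, hc2, hc3⟩ := S₀.decompose
  let s : Finset (Fin n) := Finset.univ.filter fun j => ¬ (p : ℤ) ∣ ((j : ℕ) : ℤ) + 1 ∧ ¬ (p : ℤ) ∣ ((j : ℕ) : ℤ) + 1 - n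
  have hone : (1 : PowerSeries k) ∈ S₀.Z := by
    show (S₀.D ^ (p - 1)) 1 = 0
    rw [show S₀.D ^ (p - 1) = _ from S₀.geom_sum_eq.symm, LinearMap.sum_apply]
    have hT1 : ρ₀ g 1 = 1 := by rw [hρ₀, ← PowerSeries.coe_substAlgHom hsX, map_one]
    have hi : ∀ i : ℕ, ((ρ₀ g) ^ i) (1 : PowerSeries k) = 1 := by
      intro i
      induction i with
      | zero => rfl
      | succ i ih => rw [pow_succ' (ρ₀ g), Module.End.mul_apply, ih, hT1]
    have : CharP (PowerSeries k) p := charP_of_injective_algebraMap (RingHom.injective (algebraMap k (PowerSeries k))) p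
    show ∑ i ∈ Finset.range p, ((ρ₀ g) ^ i) (1 : PowerSeries k) = 0
    rw [Finset.sum_congr rfl fun i _ => hi i, Finset.sum_const, Finset.card_range, nsmul_eq_mul, CharP.cast_eq_zero, zero_mul]
  have hc0 : ∀ i : Fin n, (i : ℕ) = 0 → Groth.Agent.ASCohom.coords n (d (c i)) = 0 := by
    intro i hi0
    have hcst : c i - (PowerSeries.coeff 0 (c i)) • (1 : PowerSeries k) ∈ S₀.Z := sub_mem (hc1 i) (S₀.Z.smul_mem _ hone)
    have hdvd : (PowerSeries.X : PowerSeries k) ^ n ∣ c i - (PowerSeries.coeff 0 (c i)) • (1 : PowerSeries k) := by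
      rw [PowerSeries.X_pow_dvd_iff]
      intro e he
      rw [map_sub, map_smul, hc2 i e (show e < n + (i : ℕ) by omega), hc2 i 0 (show 0 < n + (i : ℕ) by omega), PowerSeries.coeff_one]
      simp only [hi0]
      split_ifs with h <;> simp
    obtain ⟨h, hh⟩ := S₀.mem_range_of_dvd _ hcst hdvd
    have := hD h
    rw [hh, map_sub, map_sub, map_smul, show d 1 = 0 from Derivation.map_one_eq_zero _] at this
    simpa using this
  have hcpos : ∀ i j : Fin n, (i : ℕ) ≠ 0 → Groth.Agent.ASCohom.coords n (d (c i)) j =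
      if (j : ℕ) + 1 = (i : ℕ) then (((i : ℕ) : k)) * ((((i : ℕ) : ℤ) - n : ℤ) : k) * -(n : k)⁻¹ else 0 := by
    intro i j hi
    show PowerSeries.coeff (j : ℕ) (PowerSeries.derivative k (c i)) = _
    have hlt : (j : ℕ) < n := j.2
    rw [PowerSeries.coeff_derivative, hc2 i _ (show (j : ℕ) + 1 < n + (i : ℕ) by omega)]
    show (if (j : ℕ) + 1 = (i : ℕ) then (((0 : ℤ) + (i : ℕ) - n : ℤ) : k) * -(n : k)⁻¹ else 0) * _ = _
    split_ifs with h
    · rw [← h]
      push_cast
      ring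
    · simp
  have hmap : Submodule.map (Groth.Agent.ASCohom.coords n) (Submodule.map d S₀.Z) =
      Submodule.span k ((fun i : Fin n => (Pi.single i 1 : Fin n → k)) '' s) := by
    refine le_antisymm ?_ (Submodule.span_le.2 ?_)
    · rintro _ ⟨_, ⟨f, hf, rfl⟩, rfl⟩
      obtain ⟨r, h, rfl⟩ := hc3 f hf
      rw [map_add, map_add, hD, add_zero, map_sum, map_sum]
      refine sum_mem fun i hi => ?_
      rw [map_smul, map_smul]
      refine Submodule.smul_mem _ _ ?_
      by_cases hi0 : (i : ℕ) = 0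
      · exact (hc0 i hi0).symm ▸ Submodule.zero_mem _
      have hlt : (i : ℕ) < n := i.2
      let j : Fin n := ⟨(i : ℕ) - 1, by omega⟩
      have hval : Groth.Agent.ASCohom.coords n (d (c i)) = ((((i : ℕ) : k)) * ((((i : ℕ) : ℤ) - n : ℤ) : k) * -(n : k)⁻¹) • (Pi.single j 1 : Fin n → k) := by
        funext l
        rw [hcpos i l hi0, Pi.smul_apply, Pi.single_apply, smul_eq_mul, mul_ite, mul_one, mul_zero]
        refine if_congr ?_ rfl rfl
        rw [Fin.ext_iff]
        simp only [j]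
        omega
      rw [hval]
      by_cases hip : (p : ℤ) ∣ ((i : ℕ) : ℤ)
      · rw [show ((i : ℕ) : k) = 0 from (CharP.cast_eq_zero_iff k p _).2 (Int.natCast_dvd_natCast.1 hip), zero_mul, zero_mul, zero_smul]
        exact Submodule.zero_mem _
      refine Submodule.smul_mem _ _ (Submodule.subset_span ⟨j, ?_, rfl⟩)
      have hmem := (S₀.mem_idx i).1 hi
      simp only [s, Finset.coe_filter, Finset.mem_univ, true_and, Set.mem_setOf_eq, j]
      rw [show (((i : ℕ) - 1 : ℕ) : ℤ) + 1 = ((i : ℕ) : ℤ) by omega]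
      refine ⟨hip, ?_⟩
      have e : S₀.a + ((i : ℕ) : ℤ) - S₀.n = ((i : ℕ) : ℤ) - n := by show (0 : ℤ) + _ - (n : ℤ) = _; ring
      rwa [e] at hmem
    · rintro _ ⟨j, hj, rfl⟩
      simp only [s, Finset.coe_filter, Finset.mem_univ, true_and, Set.mem_setOf_eq] at hj
      have hlt : (j : ℕ) + 1 < n := by
        rcases Nat.lt_or_ge ((j : ℕ) + 1) n with h | h
        · exact h
        · exfalso
          apply hj.2
          rw [show ((j : ℕ) : ℤ) + 1 - n = 0 by omega]
          exact dvd_zero _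
      let i : Fin n := ⟨(j : ℕ) + 1, hlt⟩
      refine ⟨_, ⟨((((i : ℕ) : k)) * ((((i : ℕ) : ℤ) - n : ℤ) : k) * -(n : k)⁻¹)⁻¹ • c i, S₀.Z.smul_mem _ (hc1 i), rfl⟩, ?_⟩
      rw [map_smul, map_smul]
      funext l
      show _ = (Pi.single j (1 : k) : Fin n → k) l
      rw [Pi.smul_apply, hcpos i l (Nat.succ_ne_zero _), Pi.single_apply, smul_eq_mul, mul_ite, mul_zero]
      rw [inv_mul_cancel₀]
      · refine if_congr ?_ rfl rfl
        rw [Fin.ext_iff]
        simp only [i]
        omega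
      · refine mul_ne_zero (mul_ne_zero ?_ ?_) (neg_ne_zero.2 (inv_ne_zero S₀.hnk))
        · rw [Ne, CharP.cast_eq_zero_iff k p]
          intro h
          exact hj.1 (by simpa [i] using Int.natCast_dvd_natCast.2 h)
        · rw [Ne, CharP.intCast_eq_zero_iff k p]
          simpa [i] using hj.2
  rw [hmap, Groth.Agent.ASCohom.finrank_span_single]
  have hp0 : 0 < p := (Fact.out : p.Prime).pos
  have hs : s.card = ((Finset.range n).filter fun j : ℕ => ¬ (p : ℤ) ∣ (j : ℤ) + 1 ∧ ¬ (p : ℤ) ∣ (j : ℤ) + 1 - n).card := by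
    refine Finset.card_bij' (fun j _ => (j : ℕ)) (fun j hj => (⟨j, Finset.mem_range.1 (Finset.mem_filter.1 hj).1⟩ : Fin n)) ?_ ?_ ?_ ?_
    · intro j hj
      exact Finset.mem_filter.2 ⟨Finset.mem_range.2 j.2, (Finset.mem_filter.1 hj).2⟩
    · intro j hj
      exact Finset.mem_filter.2 ⟨Finset.mem_univ _, (Finset.mem_filter.1 hj).2⟩
    · intros; rfl
    · intros; rfl
  have h1 := Finset.card_filter_add_card_filter_not (s := Finset.range n) (fun j : ℕ => (p : ℤ) ∣ (j : ℤ) + 1)
  have h2 := Finset.card_filter_add_card_filter_not (s := (Finset.range n).filter (fun j : ℕ => ¬ (p : ℤ) ∣ (j : ℤ) + 1)) (fun j : ℕ => (p : ℤ) ∣ (j : ℤ) + 1 - n)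
  rw [Finset.filter_filter, Finset.filter_filter] at h2
  have h3 : ((Finset.range n).filter fun j : ℕ => ¬ (p : ℤ) ∣ (j : ℤ) + 1 ∧ (p : ℤ) ∣ (j : ℤ) + 1 - n) = (Finset.range n).filter fun j : ℕ => (p : ℤ) ∣ ((n : ℤ) - 1) - j := by
    refine Finset.filter_congr fun j _ => ⟨fun h => ?_, fun h => ?_⟩
    · rw [show (n : ℤ) - 1 - j = -((j : ℤ) + 1 - n) by ring, dvd_neg]; exact h.2
    · have h' : (p : ℤ) ∣ (j : ℤ) + 1 - n := by rw [show (j : ℤ) + 1 - n = -((n : ℤ) - 1 - j) by ring, dvd_neg]; exact h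
      refine ⟨fun hb => hpn (Int.natCast_dvd_natCast.1 ?_), h'⟩
      have := dvd_sub hb h'
      simpa using this
  have h4 : ((Finset.range n).filter fun j : ℕ => (p : ℤ) ∣ (j : ℤ) + 1) = (Finset.range n).filter fun j : ℕ => (p : ℤ) ∣ (-1 : ℤ) - j := by
    refine Finset.filter_congr fun j _ => ?_
    rw [show (-1 : ℤ) - j = -((j : ℤ) + 1) by ring, dvd_neg]
  have c1 := Groth.Agent.ASCohom.card_range_filter hp0 (-1) n
  have c2 := Groth.Agent.ASCohom.card_range_filter hp0 ((n : ℤ) - 1) n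
  have hneg : (-1 : ℤ) / (p : ℤ) = -1 := Int.ediv_eq_neg_one_of_neg_of_le (by norm_num) (by omega)
  have hmul : ((n : ℤ) + 1) * ((p : ℤ) - 1) / (p : ℤ) = ((n : ℤ) + 1) + (-1 - (n : ℤ)) / (p : ℤ) := by
    rw [show ((n : ℤ) + 1) * ((p : ℤ) - 1) = (-1 - (n : ℤ)) + ((n : ℤ) + 1) * (p : ℤ) by ring,
      Int.add_mul_ediv_right _ _ (by omega : (p : ℤ) ≠ 0), add_comm]
  rw [show ((n : ℤ) - 1) - n = -1 by ring] at c2
  rw [Finset.card_range] at h1
  rw [h3] at h2
  rw [hs, hmul]
  rw [h4] at h1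
  omega

end Groth.Agent.S13862
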