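import Groth.Statements.S13863
import Groth.Agent.Lib.ASTwist

set_option autoImplicit false
universe u
open ASCover

namespace Groth.Agent.S13863

/-- For k an algebraically closed field of characteristic p > 0, n ≥ 1 an integer prime to p, and u ∈
k[[t]] the power series with constant term 1 and u^n · (1 + t^n) = 1, the substitution σ(t) = t·u is
a k-automorphism of k((t)) of order p and, for an integer a, σ acts on the fractional ideal I =
t^a·k[[t]]; transported to B = k[[t]] along h ↦ t^a·h this action is h ↦ u^a · h(t·u). For an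
integer i with a − n ≤ i ≤ a − 1 the element σ(t^i) − t^i lies in I, so t^i defines a class in
H^1(⟨σ⟩, I); the classes with p ∤ i form a basis of this H^1, and when p divides i the class
vanishes, i.e. σ(t^i) − t^i = σ(w) − w for some w ∈ I. (The published statement of this vanishing is
printed with the condition p ∤ i, which contradicts the basis assertion of the same lemma; its proof
treats p | i, and this row states that case.) In transported form, with m = a − i ∈ [1, n] and c ∈
k[[t]] defined by t^m · c = u^i − 1: there is h ∈ k[[t]] with u^a · h(t·u) − h = c. -/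
theorem result {k : Type u} [Field k] [IsAlgClosed k] (p : ℕ)
    [Fact p.Prime] [CharP k p] (n : ℕ) (hn : 0 < n) (hpn : ¬ p ∣ n)
    (u : PowerSeries k) (hu1 : PowerSeries.constantCoeff u = 1)
    (hun : u ^ n * (1 + PowerSeries.X ^ n) = 1) (hu : IsUnit u) (a : ℤ) (m : ℕ)
    (hm1 : 1 ≤ m) (hmn : m ≤ n) (hdvd : (p : ℤ) ∣ a - m) (c : PowerSeries k)
    (hc : PowerSeries.X ^ m * c = ((hu.unit ^ (a - m) : (PowerSeries k)ˣ) : PowerSeries k) - 1) :
    ∃ h : PowerSeries k,
      ((hu.unit ^ a : (PowerSeries k)ˣ) : PowerSeries k) * PowerSeries.subst (PowerSeries.X * u) h - h = c := by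
  open PowerSeries in
  have hnk : (n : k) ≠ 0 := by rw [Ne, CharP.cast_eq_zero_iff k p]; exact hpn
  open PowerSeries in
  have hp2 : 2 ≤ p := (Fact.out : p.Prime).two_le
  open PowerSeries in
  set N := (p - 1) * n with hN
  have hNpos : 0 < N := Nat.mul_pos (by omega) hn
  obtain ⟨r, hr, hr1⟩ := Groth.Agent.ASTwist.exists_root hnk (-(PowerSeries.X ^ N : PowerSeries k)) (by simp [hNpos.ne'])
  have hsX : PowerSeries.HasSubst (PowerSeries.X * u : PowerSeries k) := PowerSeries.HasSubst.of_constantCoeff_zero' (by simp)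
  set σ := PowerSeries.substAlgHom (R := k) hsX
  have hσX : σ PowerSeries.X = PowerSeries.X * u := PowerSeries.substAlgHom_X hsX
  have : CharP (PowerSeries k) p := charP_of_injective_algebraMap (RingHom.injective (algebraMap k (PowerSeries k))) p
  have hp1 : p - 1 + 1 = p := by omega
  have hrn : (σ r) ^ n = (u ^ p * r) ^ n := by
    rw [← map_pow, hr, map_add, map_one, map_neg, map_pow, hσX, mul_pow, mul_pow, hr, ← pow_mul, mul_comm p n, pow_mul u n p]
    have hA : (1 + (PowerSeries.X : PowerSeries k) ^ n) ^ p = 1 + PowerSeries.X ^ (n * p) := by rw [add_pow_char, one_pow, ← pow_mul]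
    have hUp : (u ^ n) ^ p * (1 + (PowerSeries.X : PowerSeries k) ^ n) ^ p = 1 := by rw [← mul_pow, hun, one_pow]
    have hUq : (u ^ n) ^ (p - 1) * (1 + (PowerSeries.X : PowerSeries k) ^ n) ^ (p - 1) = 1 := by rw [← mul_pow, hun, one_pow]
    have hUN : u ^ N = (u ^ n) ^ (p - 1) := by rw [hN, ← pow_mul, mul_comm]
    have hXN : (PowerSeries.X : PowerSeries k) ^ N * PowerSeries.X ^ n = PowerSeries.X ^ (n * p) := by
      rw [← pow_add, hN, show (p - 1) * n + n = n * p by rw [mul_comm, ← mul_add_one, hp1]]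
    have hU : (u ^ n) ^ p = (u ^ n) ^ (p - 1) * u ^ n := by rw [← pow_succ, hp1]
    rw [hUN]
    linear_combination (-1 : PowerSeries k) * hUp + (u ^ n) ^ p * hA - (u ^ n) ^ p * hXN + (PowerSeries.X : PowerSeries k) ^ N * (1 + (PowerSeries.X : PowerSeries k) ^ n) * hU + (PowerSeries.X : PowerSeries k) ^ N * (u ^ n) ^ (p - 1) * hun
  have hσcc : ∀ f : PowerSeries k, PowerSeries.constantCoeff (σ f) = PowerSeries.constantCoeff f := by
    intro f
    obtain ⟨g, hg⟩ : PowerSeries.X ∣ f - PowerSeries.C (PowerSeries.constantCoeff f) := by simp [PowerSeries.X_dvd_iff]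
    have hC : ∀ c, σ (PowerSeries.C c) = PowerSeries.C c := fun c => σ.commutes c
    conv_lhs => rw [eq_add_of_sub_eq hg, map_add σ, map_mul σ, hσX, hC]
    simp
  have hσr : σ r = u ^ p * r := Groth.Agent.ASTwist.root_unique hnk (by rw [hσcc, hr1]) (by simp [hu1, hr1]) hrn
  have hru : IsUnit r := by rw [PowerSeries.isUnit_iff_constantCoeff, hr1]; exact isUnit_one
  set U := hu.unit
  obtain ⟨R, rfl⟩ := hru
  have hσU : Units.map (σ : PowerSeries k →* PowerSeries k) R = U ^ (p : ℤ) * R := by
    refine Units.ext ?_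
    simpa [U] using hσr
  obtain ⟨j, hj⟩ := hdvd
  set W : (PowerSeries k)ˣ := R ^ (-j)
  have hW : U ^ (a - m) * Units.map (σ : PowerSeries k →* PowerSeries k) W = W := by
    rw [map_zpow, hσU, mul_zpow, ← zpow_mul, ← mul_assoc, ← zpow_add, hj]
    rw [show (p : ℤ) * j + p * -j = 0 by ring, zpow_zero, one_mul]
  have hRdvd : (PowerSeries.X : PowerSeries k) ^ m ∣ (R : PowerSeries k) - 1 := by
    refine Groth.Agent.ASTwist.dvd_sub_one_of_pow hnk hr1 ?_
    rw [hr, add_sub_cancel_left, dvd_neg]
    exact pow_dvd_pow _ (hmn.trans (Nat.le_mul_of_pos_left n (by omega)))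
  let Φ := Units.map (Ideal.Quotient.mk (Ideal.span {(PowerSeries.X : PowerSeries k) ^ m})).toMonoidHom
  have hΦ : Φ W = 1 := by
    have hR1 : Φ R = 1 := Units.ext (by
      show Ideal.Quotient.mk _ (R : PowerSeries k) = 1
      rw [← map_one (Ideal.Quotient.mk (Ideal.span {(PowerSeries.X : PowerSeries k) ^ m})), Ideal.Quotient.eq, Ideal.mem_span_singleton]
      exact hRdvd)
    rw [map_zpow, hR1, one_zpow]
  obtain ⟨q, hq⟩ : (PowerSeries.X : PowerSeries k) ^ m ∣ (W : PowerSeries k) - 1 := by
    rw [← Ideal.mem_span_singleton, ← Ideal.Quotient.eq, map_one]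
    exact congrArg Units.val hΦ
  refine ⟨-q, ?_⟩
  rw [← PowerSeries.coe_substAlgHom hsX]
  refine mul_left_cancel₀ (pow_ne_zero m (PowerSeries.X_ne_zero : (PowerSeries.X : PowerSeries k) ≠ 0)) ?_
  rw [hc]
  have hσq : σ (W : PowerSeries k) - 1 = (PowerSeries.X * u) ^ m * σ q := by
    rw [← hσX, ← map_pow, ← map_mul, ← hq, map_sub, map_one]
  have hWv : ((U ^ (a - m) : (PowerSeries k)ˣ) : PowerSeries k) * σ (W : PowerSeries k) = W := congrArg Units.val hW
  have hUa : ((U ^ a : (PowerSeries k)ˣ) : PowerSeries k) = ((U ^ (a - m) : (PowerSeries k)ˣ) : PowerSeries k) * u ^ m := by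
    rw [show a = (a - m) + (m : ℤ) by ring, zpow_add, zpow_natCast, Units.val_mul, Units.val_pow_eq_pow_val, IsUnit.unit_spec, add_sub_cancel_right]
  rw [hUa, map_neg, mul_pow] at *
  linear_combination ((U ^ (a - m) : (PowerSeries k)ˣ) : PowerSeries k) * hσq - hq - hWv

end Groth.Agent.S13863
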