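import Groth.Statements.S13864
import Groth.Agent.Lib.ASTwist

set_option autoImplicit false
universe u
open ASCover

namespace Groth.Agent.S13864

/-- Let k be an algebraically closed field of characteristic p > 0, n ≥ 1 an integer prime to p, u ∈
k[[t]] the power series with constant term 1 and u^n · (1 + t^n) = 1 (so σ(t) = t·u is a
k-automorphism of k((t)) of order p), and a an integer; σ acts on I = t^a·k[[t]], and transported to
B = k[[t]] along h ↦ t^a·h the action is h ↦ u^a · h(t·u). For 1 ≤ m ≤ n let c_m ∈ B be determined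
by t^m · c_m = u^(a−m) − 1; this is the cocycle value σ(t^i) − t^i ∈ I of the element t^i, i = a −
m, divided by t^a. The published lemma says that the classes of the t^i with a − n ≤ i ≤ a − 1 and p
∤ i form a basis of H^1(⟨σ⟩, I); this row states their linear independence: if Σ λ_m c_m, summed
over 1 ≤ m ≤ n with p ∤ a − m, equals u^a · h(t·u) − h for some h ∈ B, then every such λ_m is 0.
(Together with the dimension of this H^1, namely n − ⌊(a−1)/p⌋ + ⌊(a−1−n)/p⌋, this gives the basis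
statement.) -/
theorem result {k : Type u} [Field k] [IsAlgClosed k] (p : ℕ)
    [Fact p.Prime] [CharP k p] (n : ℕ) (hn : 0 < n) (hpn : ¬ p ∣ n)
    (u : PowerSeries k) (hu1 : PowerSeries.constantCoeff u = 1)
    (hun : u ^ n * (1 + PowerSeries.X ^ n) = 1) (hu : IsUnit u) (a : ℤ)
    (c : ℕ → PowerSeries k)
    (hc : ∀ m : ℕ, 1 ≤ m → m ≤ n →
      PowerSeries.X ^ m * c m = ((hu.unit ^ (a - m) : (PowerSeries k)ˣ) : PowerSeries k) - 1)
    (coef : ℕ → k) (h : PowerSeries k)
    (hh : ((hu.unit ^ a : (PowerSeries k)ˣ) : PowerSeries k) * PowerSeries.subst (PowerSeries.X * u) h - h =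
      ∑ m ∈ (Finset.Icc 1 n).filter (fun m : ℕ => ¬ (p : ℤ) ∣ a - (m : ℤ)), coef m • c m) :
    ∀ m ∈ (Finset.Icc 1 n).filter (fun m : ℕ => ¬ (p : ℤ) ∣ a - (m : ℤ)), coef m = 0 := by
  have hnk : (n : k) ≠ 0 := by rw [Ne, CharP.cast_eq_zero_iff k p]; exact hpn
  have hd : (PowerSeries.X : PowerSeries k) ^ n ∣ u - 1 := by
    refine Groth.Agent.ASTwist.dvd_sub_one_of_pow hnk hu1 ⟨-(u ^ n), ?_⟩
    linear_combination hun
  obtain ⟨w, hw⟩ := hd
  set U := hu.unit
  have hwU : (U : PowerSeries k) - 1 = PowerSeries.X ^ n * w := hw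
  have key : ∀ b : ℕ, 1 ≤ b → b ≤ n →
      PowerSeries.X ^ n ∣ c b - PowerSeries.X ^ (n - b) * PowerSeries.C (((a - b : ℤ) : k) * -(n : k)⁻¹) := by
    intro b hb1 hb2
    obtain ⟨z, hz, hzc⟩ := Groth.Agent.ASTwist.zpow_expand U w hwU (a - b)
    have hcb : c b = PowerSeries.X ^ (n - b) * z := by
      refine mul_left_cancel₀ (pow_ne_zero b (PowerSeries.X_ne_zero : (PowerSeries.X : PowerSeries k) ≠ 0)) ?_
      rw [hc b hb1 hb2, hz, ← mul_assoc, ← pow_add, Nat.add_sub_cancel' hb2]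
    rw [hcb, ← mul_sub, map_mul, map_intCast]
    refine dvd_mul_of_dvd_right ?_ _
    rw [show z - ((a - b : ℤ) : PowerSeries k) * PowerSeries.C (-(n : k)⁻¹) = (z - ((a - b : ℤ) : PowerSeries k) * w) + ((a - b : ℤ) : PowerSeries k) * (w - PowerSeries.C (-(n : k)⁻¹)) by ring]
    exact dvd_add hzc (dvd_mul_of_dvd_right (Groth.Agent.ASTwist.w_congr hnk hun hw) _)
  have hcoef : ∀ b : ℕ, 1 ≤ b → b ≤ n → ∀ d < n, PowerSeries.coeff d (c b) = if d = n - b then ((a - b : ℤ) : k) * -(n : k)⁻¹ else 0 := by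
    intro b hb1 hb2 d hd
    have := PowerSeries.X_pow_dvd_iff.1 (key b hb1 hb2) d hd
    rw [map_sub, sub_eq_zero] at this
    rw [this, mul_comm, PowerSeries.coeff_C_mul, PowerSeries.coeff_X_pow]
    split_ifs <;> simp
  have hsX : PowerSeries.HasSubst (PowerSeries.X * u : PowerSeries k) := PowerSeries.HasSubst.of_constantCoeff_zero' (by simp)
  rw [← PowerSeries.coe_substAlgHom hsX] at hh
  have hL : (PowerSeries.X : PowerSeries k) ^ n ∣ ((U ^ a : (PowerSeries k)ˣ) : PowerSeries k) * PowerSeries.substAlgHom hsX h - h := by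
    obtain ⟨z, hz, -⟩ := Groth.Agent.ASTwist.zpow_expand U w hwU a
    rw [eq_add_of_sub_eq hz]
    have := Groth.Agent.ASTwist.subst_sub_self_dvd ⟨w, hw⟩ hsX h
    rw [add_mul, one_mul, add_sub_assoc, mul_assoc]
    exact dvd_add (dvd_mul_right _ _) this
  rw [hh] at hL
  intro m hm
  have hm' := Finset.mem_filter.1 hm
  rw [Finset.mem_Icc] at hm'
  have h0 := PowerSeries.X_pow_dvd_iff.1 hL (n - m) (by omega)
  rw [map_sum] at h0
  rw [Finset.sum_eq_single m] at h0
  · rw [map_smul, smul_eq_mul, mul_eq_zero] at h0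
    refine h0.resolve_right ?_
    rw [hcoef m hm'.1.1 hm'.1.2 _ (by omega), if_pos rfl]
    refine mul_ne_zero ?_ (neg_ne_zero.2 (inv_ne_zero hnk))
    rw [Ne, CharP.intCast_eq_zero_iff k p]
    exact hm'.2
  · intro b hb hbm
    have hb' := Finset.mem_filter.1 hb
    rw [Finset.mem_Icc] at hb'
    rw [map_smul, hcoef b hb'.1.1 hb'.1.2 _ (by omega), if_neg (by omega), smul_zero]
  · exact fun h => absurd hm h

end Groth.Agent.S13864
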