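import Groth.Statements.S1404
import Mathlib
import Groth.Agent.Lib.DimClosedH1.Sop
import Groth.Agent.Lib.Unibr4.Poly

set_option autoImplicit false
universe u
open FlatMor

namespace Groth.Agent.S1404

section Aux

open IsLocalRing

set_option maxHeartbeats 1000000

lemma eq_zero_of_dvd_of_normal {A B : Type u} [CommRing A] [CommRing B] [IsDomain A] [IsDomain B] [IsLocalRing B]
    [Algebra A B] [FaithfulSMul A B] {N : ℕ} (x : Fin N → B) (hx : AlgebraicIndependent A x)
    (hfr : ∀ b : B, ∃ t : B, IsUnit t ∧ IsIntegral (Algebra.adjoin A (Set.range x)) t ∧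
      IsIntegral (Algebra.adjoin A (Set.range x)) (b * t))
    (j : Fin N) (hj : x j ∈ maximalIdeal B) {a : A} {b : B} (hab : algebraMap A B a = x j * b) : a = 0 := by
  let L := FractionRing B
  haveI : FaithfulSMul A L := (faithfulSMul_iff_algebraMap_injective A L).mpr (by
    rw [IsScalarTower.algebraMap_eq A B L]
    exact (IsFractionRing.injective B L).comp (FaithfulSMul.algebraMap_injective A B))
  let A' := integralClosure A L
  haveI : IsIntegrallyClosedIn A' L := inferInstance
  haveI : IsIntegrallyClosed A' := IsIntegrallyClosed.of_isIntegrallyClosedIn A' L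
  haveI : FaithfulSMul A A' := (faithfulSMul_iff_algebraMap_injective A A').mpr fun p q h =>
    FaithfulSMul.algebraMap_injective A L (congrArg Subtype.val h)
  let x' : Fin N → L := algebraMap B L ∘ x
  have hx' : AlgebraicIndependent A' x' := by
    rw [← Algebra.IsIntegral.algebraicIndependent_iff A A']
    exact hx.map' (f := IsScalarTower.toAlgHom A B L) (IsFractionRing.injective B L)
  let P := MvPolynomial (Fin N) A'
  haveI : IsIntegrallyClosed P := Groth.Agent.Unibr4.isIntegrallyClosed_mvPolynomial A' N
  letI : Algebra P L := (MvPolynomial.aeval x').toRingHom.toAlgebra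
  haveI : FaithfulSMul P L := (faithfulSMul_iff_algebraMap_injective P L).mpr hx'
  let B' := integralClosure B L
  let W := integralClosure P L
  letI instW : CommRing W := @Subalgebra.toCommRing P L _ _ _ W
  haveI : FaithfulSMul P W := (faithfulSMul_iff_algebraMap_injective P W).mpr fun p q h =>
    FaithfulSMul.algebraMap_injective P L (congrArg Subtype.val h)
  have hPB : ∀ p : P, algebraMap P L p ∈ B' := by
    intro p
    change MvPolynomial.aeval x' p ∈ B'
    induction p using MvPolynomial.induction_on with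
    | C c =>
      rw [MvPolynomial.aeval_C]
      exact IsIntegral.map_of_comp_eq (algebraMap A B) (RingHom.id L)
        (by rw [RingHom.id_comp, ← IsScalarTower.algebraMap_eq]) c.2
    | add p q hp hq => rw [map_add]; exact add_mem hp hq
    | mul_X p i hp =>
      rw [map_mul, MvPolynomial.aeval_X]
      exact mul_mem hp isIntegral_algebraMap
  letI : Algebra P B' := ((algebraMap P L).codRestrict B'.toSubring hPB).toAlgebra
  haveI : IsScalarTower P B' L := IsScalarTower.of_algebraMap_eq fun _ => rfl
  have hWB : ∀ w : W, (w : L) ∈ B' := fun w => isIntegral_trans (w : L) (IsIntegral.tower_top (A := B') w.2)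
  let ι : W →+* B' := RingHom.codRestrict W.val.toRingHom B' hWB
  have hθ : ∀ r : L, ∀ c : B, algebraMap B L c = r → IsIntegral (Algebra.adjoin A (Set.range x)) c → r ∈ W := by
    rintro _ c rfl hc
    let θ : Algebra.adjoin A (Set.range x) →+* P :=
      (MvPolynomial.map (algebraMap A A')).comp hx.aevalEquiv.symm.toAlgHom.toRingHom
    refine IsIntegral.map_of_comp_eq θ (algebraMap B L) ?_ hc
    ext r
    show MvPolynomial.aeval x' (MvPolynomial.map (algebraMap A A') (hx.aevalEquiv.symm r)) =
      algebraMap B L (r : B)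
    rw [MvPolynomial.aeval_map_algebraMap]
    conv_rhs => rw [← hx.aevalEquiv.apply_symm_apply r]
    rw [show ((hx.aevalEquiv (hx.aevalEquiv.symm r) : Algebra.adjoin A (Set.range x)) : B) =
      MvPolynomial.aeval x (hx.aevalEquiv.symm r) from rfl, ← IsScalarTower.toAlgHom_apply A B L]
    exact (MvPolynomial.comp_aeval_apply (R := A) x (IsScalarTower.toAlgHom A B L) _).symm
  obtain ⟨t, ht, ht1, ht2⟩ := hfr b
  let tW : W := ⟨algebraMap B L t, hθ _ t rfl ht1⟩
  let cW : W := ⟨algebraMap B L (b * t), hθ _ _ rfl ht2⟩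
  haveI : Algebra.IsIntegral B B' := inferInstance
  obtain ⟨Q', hQ'p, hQ'o⟩ : ∃ Q' : Ideal B', Q'.IsPrime ∧ Q'.comap (algebraMap B B') = maximalIdeal B := by
    obtain ⟨Q', -, h1, h2⟩ := Ideal.exists_ideal_over_prime_of_isIntegral (maximalIdeal B) (⊥ : Ideal B')
      (fun c hc => by
        have : c = 0 := IsFractionRing.injective B L ((congrArg Subtype.val (Ideal.mem_comap.mp hc)).trans
          (map_zero _).symm)
        rw [this]; exact zero_mem _)
    exact ⟨Q', h1, h2⟩
  haveI := hQ'p
  let q'' : Ideal W := Q'.comap ι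
  have ht' : tW ∉ q'' := fun h => by
    have h1 : t ∈ Q'.comap (algebraMap B B') := by
      change algebraMap B B' t ∈ Q'
      rwa [show algebraMap B B' t = ι tW from Subtype.ext rfl]
    rw [hQ'o] at h1
    exact (IsLocalRing.mem_maximalIdeal _).mp h1 ht
  let G : P := MvPolynomial.X j
  have hG : algebraMap P W G ∈ q'' := by
    have h1 : x j ∈ Q'.comap (algebraMap B B') := hQ'o ▸ hj
    change ι (algebraMap P W G) ∈ Q'
    rwa [show ι (algebraMap P W G) = algebraMap B B' (x j) from Subtype.ext (MvPolynomial.aeval_X x' j)]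
  let pG : Ideal P := Ideal.span {G}
  haveI : pG.IsPrime := (Ideal.span_singleton_prime (MvPolynomial.X_ne_zero j)).mpr MvPolynomial.X_prime
  haveI : q''.LiesOver (q''.under P) := ⟨rfl⟩
  obtain ⟨Q, hQle, hQp, hQo⟩ := Ideal.exists_ideal_le_liesOver_of_le (R := P) (S := W) q''
    (p := pG) (q := q''.under P) ((Ideal.span_singleton_le_iff_mem (q''.under P)).mpr hG)
  have hrel : algebraMap P W (MvPolynomial.C (algebraMap A A' a)) * tW = algebraMap P W G * cW := by
    apply Subtype.ext
    show MvPolynomial.aeval x' (MvPolynomial.C (algebraMap A A' a)) * algebraMap B L t =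
      MvPolynomial.aeval x' G * algebraMap B L (b * t)
    rw [MvPolynomial.aeval_C, MvPolynomial.aeval_X, ← IsScalarTower.algebraMap_apply A A' L,
      IsScalarTower.algebraMap_apply A B L, hab, map_mul, map_mul]
    show algebraMap B L (x j) * algebraMap B L b * algebraMap B L t = algebraMap B L (x j) * _
    ring
  have hmem : algebraMap P W (MvPolynomial.C (algebraMap A A' a)) * tW ∈ Q := by
    rw [hrel]
    refine Ideal.mul_mem_right _ _ ?_
    have h1 : G ∈ pG := Ideal.mem_span_singleton_self G
    rw [hQo.over] at h1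
    exact h1
  rcases hQp.mem_or_mem hmem with h | h
  · have h1 : MvPolynomial.C (algebraMap A A' a) ∈ pG := by
      rw [hQo.over]; exact h
    obtain ⟨f, hf⟩ := Ideal.mem_span_singleton.mp h1
    have h2 := congrArg MvPolynomial.constantCoeff hf
    simp only [G, map_mul, MvPolynomial.constantCoeff_C, MvPolynomial.constantCoeff_X, zero_mul] at h2
    exact FaithfulSMul.algebraMap_injective A A' (h2.trans (map_zero _).symm)
  · exact absurd (hQle h) ht'

end Aux


/-- Let A → B be an injective local homomorphism of local domains with B essentially of finite type over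
A, and g an element of the maximal ideal of B lying in no minimal prime over m_A B. Assume dim(B /
m_A B) + trdeg_{κ(A)} κ(B) = trdeg_A B (with all three finite). Then A → B/gB is injective. -/
theorem result {A B : Type u} [CommRing A] [CommRing B] [IsDomain A] [IsDomain B] [IsLocalRing A] [IsLocalRing B]
    [Algebra A B] [IsLocalHom (algebraMap A B)] [FaithfulSMul A B] [Algebra.EssFiniteType A B]
    (g : B) (hg : g ∈ IsLocalRing.maximalIdeal B)
    (hmin : ∀ q ∈ (Ideal.map (algebraMap A B) (IsLocalRing.maximalIdeal A)).minimalPrimes, g ∉ q)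
    (d e : ℕ) (hd : ringKrullDim (B ⧸ Ideal.map (algebraMap A B) (IsLocalRing.maximalIdeal A)) = d)
    (he : Algebra.trdeg (IsLocalRing.ResidueField A) (IsLocalRing.ResidueField B) = e) (hsum : Algebra.trdeg A B = (d + e : ℕ)) :
    Function.Injective (algebraMap A (B ⧸ Ideal.span {g})) := by
  letI : Algebra (IsLocalRing.ResidueField A) (B ⧸ Ideal.map (algebraMap A B) (IsLocalRing.maximalIdeal A)) :=
    (Ideal.Quotient.lift (IsLocalRing.maximalIdeal A)
      ((Ideal.Quotient.mk (Ideal.map (algebraMap A B) (IsLocalRing.maximalIdeal A))).comp (algebraMap A B))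
      (fun a ha => Ideal.Quotient.eq_zero_iff_mem.mpr (Ideal.mem_map_of_mem _ ha))).toAlgebra
  let m := IsLocalRing.maximalIdeal A
  let I := Ideal.map (algebraMap A B) m
  let k := IsLocalRing.ResidueField A
  haveI : IsScalarTower A k (B ⧸ I) := IsScalarTower.of_algebraMap_eq fun a => rfl
  haveI : Algebra.EssFiniteType A (B ⧸ I) := Algebra.EssFiniteType.comp A B (B ⧸ I)
  haveI : Algebra.EssFiniteType k (B ⧸ I) := Algebra.EssFiniteType.of_comp A k (B ⧸ I)
  haveI : IsNoetherianRing (B ⧸ I) := Algebra.EssFiniteType.isNoetherianRing k _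
  let J := I ⊔ Ideal.span {g}
  have hJm : J ≤ IsLocalRing.maximalIdeal B :=
    sup_le (IsLocalRing.map_maximalIdeal_le _) ((Ideal.span_singleton_le_iff_mem _).mpr hg)
  haveI : IsNoetherianRing (B ⧸ J) := isNoetherianRing_of_surjective (B ⧸ I) _
    (Ideal.Quotient.factor (le_sup_left : I ≤ J)) (Ideal.Quotient.factor_surjective _)
  obtain ⟨n, X', hX'f, hX'c, hn, hX'm, hX'r⟩ := Groth.Agent.DimClosedH1.exists_sop J
    (fun h => (IsLocalRing.maximalIdeal.isMaximal B).ne_top (top_le_iff.mp (h ▸ hJm)))
  have hnd : n + 1 ≤ d := by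
    have := Groth.Agent.DimClosedH1.ringKrullDim_quotient_sup_add_one_le hmin
    rw [hd, hn] at this
    exact_mod_cast this
  obtain ⟨ι, y, hy⟩ := exists_isTranscendenceBasis' k (IsLocalRing.ResidueField B)
  have hι : Cardinal.mk ι = e := hy.cardinalMk_eq_trdeg.trans he
  haveI : Finite ι := Cardinal.lt_aleph0_iff_finite.mp (hι ▸ Cardinal.natCast_lt_aleph0)
  let lifty := Function.surjInv (IsLocalRing.residue_surjective (R := B))
  let Y : Set B := Set.range (lifty ∘ y)
  let X : Set B := insert g X'
  have hfr := Groth.Agent.DimClosedH1.exists_integral_fraction (A := A) X Y (hX'f.insert g)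
    (Set.finite_range _) (hX'r.trans (Ideal.radical_mono (sup_le (sup_le le_sup_left
      ((Ideal.span_mono (Set.singleton_subset_iff.mpr (Set.mem_insert g X'))).trans le_sup_right))
      ((Ideal.span_mono (Set.subset_insert g X')).trans le_sup_right))))
    (Set.insert_subset hg hX'm)
    (fun c => by
      rw [show IsLocalRing.residue B '' Y = Set.range y by
        rw [← Set.range_comp]; congr 1; funext i; exact Function.surjInv_eq _ _]
      exact hy.isAlgebraic.isAlgebraic _)
  have hcard : Cardinal.mk ↥(X ∪ Y) ≤ (d + e : ℕ) := by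
    refine (Cardinal.mk_union_le _ _).trans ?_
    rw [Nat.cast_add]
    refine add_le_add ?_ (Cardinal.mk_range_le.trans hι.le)
    exact (Cardinal.mk_insert_le).trans ((add_le_add hX'c le_rfl).trans (by exact_mod_cast hnd))
  haveI : Finite ↥(X ∪ Y) := ((hX'f.insert g).union (Set.finite_range _)).to_subtype
  obtain ⟨N, ⟨eN⟩⟩ := Finite.exists_equiv_fin ↥(X ∪ Y)
  let x : Fin N → B := fun i => (eN.symm i : B)
  have hrange : Set.range x = X ∪ Y := by
    rw [show x = Subtype.val ∘ eN.symm from rfl, eN.symm.surjective.range_comp, Subtype.range_coe]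
  rw [← hrange] at hfr
  haveI := Groth.Agent.DimClosedH1.isAlgebraic_core hfr
  have hN : N ≤ d + e := by
    have h1 : (N : Cardinal) ≤ ((d + e : ℕ) : Cardinal) := by
      refine le_trans (le_of_eq ?_) hcard
      rw [Cardinal.mk_congr (eN.trans (Equiv.ulift.{u}).symm)]
      simp
    exact_mod_cast h1
  have hx : AlgebraicIndependent A x :=
    (Algebra.IsAlgebraic.isTranscendenceBasis_of_lift_le_trdeg_of_finite A x (by
      rw [hsum, Cardinal.mk_fin, Cardinal.lift_natCast, Cardinal.lift_natCast]
      exact_mod_cast hN)).1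
  let j : Fin N := eN ⟨g, Or.inl (Set.mem_insert g X')⟩
  have hj : x j = g := by simp [x, j]
  rw [RingHom.injective_iff_ker_eq_bot, eq_bot_iff]
  intro a ha
  rw [RingHom.mem_ker, IsScalarTower.algebraMap_apply A B (B ⧸ Ideal.span {g}),
    Ideal.Quotient.algebraMap_eq, Ideal.Quotient.eq_zero_iff_mem, Ideal.mem_span_singleton] at ha
  obtain ⟨b, hb⟩ := ha
  exact Ideal.mem_bot.mpr (eq_zero_of_dvd_of_normal x hx hfr j (hj ▸ hg) (hj ▸ hb))

end Groth.Agent.S1404
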