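import Groth.Statements.S1387
import Mathlib
import Groth.Agent.S1404
import Groth.Agent.Lib.DimClosedH1.Bound
import Groth.Agent.Lib.EquidimStalk4
import Groth.Agent.Lib.Unibr4.GoDown

set_option autoImplicit false
universe u
open FlatMor

namespace Groth.Agent.S1387

section Aux

open AlgebraicGeometry CategoryTheory Limits IsLocalRing

set_option maxHeartbeats 1000000
set_option backward.isDefEq.respectTransparency.types false

lemma trdeg_congr {R T : Type u} [CommRing R] [CommRing T] [Algebra R T] (p p' : Ideal R) (ξ ξ' : Ideal T)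
    [ξ.LiesOver p] [ξ'.LiesOver p'] (hp : p = p') (hξ : ξ = ξ') :
    Algebra.trdeg (R ⧸ p) (T ⧸ ξ) = Algebra.trdeg (R ⧸ p') (T ⧸ ξ') := by
  subst hp hξ
  rfl

lemma key_ring {R T : Type u} [CommRing R] [CommRing T] [Algebra R T] [Algebra.FiniteType R T]
    (r0 : Ideal R) [r0.IsPrime] (t0 : Ideal T) [t0.IsPrime] [t0.LiesOver r0]
    (ht0 : ∀ W : Ideal T, W.IsPrime → t0 ≤ W)
    (g : T) (Q0 : Ideal T) [Q0.IsPrime] (hg : g ∈ Q0) (p : Ideal R) [p.IsPrime] [Q0.LiesOver p]
    (hdim : ∀ (ξ : Ideal T) [ξ.IsPrime] [ξ.LiesOver p], ξ ≤ Q0 →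
      Algebra.trdeg (R ⧸ p) (T ⧸ ξ) ≤ Algebra.trdeg (R ⧸ r0) (T ⧸ t0))
    (hη : ∀ W : Ideal T, W.IsPrime → g ∈ W → W.under R ≠ r0) :
    ∃ ξ : Ideal T, ξ.IsPrime ∧ ξ.under R = p ∧ ξ ≤ Q0 ∧ g ∈ ξ ∧
      ∀ ξ' : Ideal T, ξ'.IsPrime → ξ'.under R = p → ξ' ≤ ξ → ξ' = ξ := by
  have htQ : t0 ≤ Q0 := ht0 Q0 inferInstance
  let R1 := R ⧸ r0
  let T1 := T ⧸ t0
  let q : Ideal T1 := Q0.map (Ideal.Quotient.mk t0)
  have hqc : q.comap (Ideal.Quotient.mk t0) = Q0 := by
    rw [Ideal.comap_map_of_surjective _ Ideal.Quotient.mk_surjective, ← RingHom.ker_eq_comap_bot,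
      Ideal.mk_ker, sup_eq_left.mpr htQ]
  haveI : q.IsPrime := Ideal.map_isPrime_of_surjective Ideal.Quotient.mk_surjective (by rwa [Ideal.mk_ker])
  let p1 : Ideal R1 := q.under R1
  haveI : q.LiesOver p1 := ⟨rfl⟩
  let A := Localization.AtPrime p1
  let B := Localization.AtPrime q
  letI : Algebra A B := (Localization.localRingHom p1 q (algebraMap R1 T1) rfl).toAlgebra
  haveI : IsLocalHom (algebraMap A B) :=
    inferInstanceAs (IsLocalHom (Localization.localRingHom p1 q (algebraMap R1 T1) rfl))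
  haveI : IsScalarTower R1 A B := IsScalarTower.of_algebraMap_eq fun a => by
    show algebraMap R1 B a = Localization.localRingHom p1 q (algebraMap R1 T1) rfl (algebraMap R1 A a)
    rw [Localization.localRingHom_to_map, ← IsScalarTower.algebraMap_apply]
  haveI : FaithfulSMul R1 T1 := by
    rw [faithfulSMul_iff_algebraMap_injective, injective_iff_map_eq_zero]
    intro a ha
    obtain ⟨a, rfl⟩ := Ideal.Quotient.mk_surjective a
    rw [Ideal.Quotient.eq_zero_iff_mem, t0.over_def r0]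
    show algebraMap R T a ∈ t0
    exact Ideal.Quotient.eq_zero_iff_mem.mp ha
  haveI : IsDomain A := IsLocalization.isDomain_localization (Ideal.primeCompl_le_nonZeroDivisors p1)
  haveI : IsDomain B := IsLocalization.isDomain_localization (Ideal.primeCompl_le_nonZeroDivisors q)
  have hT1B : Function.Injective (algebraMap T1 B) :=
    IsLocalization.injective _ (M := q.primeCompl) (Ideal.primeCompl_le_nonZeroDivisors q)
  have hR1A : Function.Injective (algebraMap R1 A) :=
    IsLocalization.injective _ (M := p1.primeCompl) (Ideal.primeCompl_le_nonZeroDivisors p1)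
  haveI : FaithfulSMul A B := by
    rw [faithfulSMul_iff_algebraMap_injective, injective_iff_map_eq_zero]
    intro a ha
    obtain ⟨⟨r, s⟩, hrs⟩ := IsLocalization.surj p1.primeCompl a
    have h1 : algebraMap R1 B r = 0 := by
      rw [IsScalarTower.algebraMap_apply R1 A B, ← hrs, map_mul, ha, zero_mul]
    rw [IsScalarTower.algebraMap_apply R1 T1 B] at h1
    have h2 : r = 0 := FaithfulSMul.algebraMap_injective R1 T1
      ((hT1B (h1.trans (map_zero _).symm)).trans (map_zero _).symm)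
    rw [h2, map_zero, mul_eq_zero] at hrs
    exact hrs.resolve_right (IsLocalization.map_units A s).ne_zero
  haveI : Algebra.FiniteType R1 T1 := by
    haveI : Algebra.FiniteType R T1 := Algebra.FiniteType.trans (S := T) inferInstance inferInstance
    exact Algebra.FiniteType.of_restrictScalars_finiteType R R1 T1
  haveI : Algebra.EssFiniteType R1 B := by
    haveI : Algebra.EssFiniteType T1 B := Algebra.EssFiniteType.of_isLocalization B q.primeCompl
    exact Algebra.EssFiniteType.comp R1 T1 B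
  haveI : Algebra.EssFiniteType A B := Algebra.EssFiniteType.of_comp R1 A B
  haveI : FaithfulSMul R1 A := (faithfulSMul_iff_algebraMap_injective _ _).mpr hR1A
  haveI : FaithfulSMul T1 B := (faithfulSMul_iff_algebraMap_injective _ _).mpr hT1B
  obtain ⟨d, e, P, hPp, hPo, hd, he, hC, hle⟩ := Groth.Agent.DimClosedH1.exists_prime_dim_trdeg A B
  let φ : T →+* B := (algebraMap T1 B).comp (Ideal.Quotient.mk t0)
  have hφQ : ∀ a : T, φ a ∈ maximalIdeal B ↔ a ∈ Q0 := fun a => by
    rw [show φ a = algebraMap T1 B (Ideal.Quotient.mk t0 a) from rfl,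
      IsLocalization.AtPrime.to_map_mem_maximal_iff B q, ← Ideal.mem_comap, hqc]
  have hsq : ∀ r : R, φ (algebraMap R T r) = algebraMap R1 B (Ideal.Quotient.mk r0 r) := fun r => by
    rw [IsScalarTower.algebraMap_apply R1 T1 B]
    rfl
  have hp1 : ∀ r : R, algebraMap R1 A (Ideal.Quotient.mk r0 r) ∈ maximalIdeal A ↔ r ∈ p := fun r => by
    rw [IsLocalization.AtPrime.to_map_mem_maximal_iff A p1, Q0.over_def p]
    show algebraMap R1 T1 (Ideal.Quotient.mk r0 r) ∈ q ↔ algebraMap R T r ∈ Q0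
    conv_rhs => rw [← hqc]
    rfl
  have hfracA : ∀ b : A, ∃ t s : R, algebraMap R1 A (Ideal.Quotient.mk r0 t) ∉ maximalIdeal A ∧
      b * algebraMap R1 A (Ideal.Quotient.mk r0 t) = algebraMap R1 A (Ideal.Quotient.mk r0 s) := fun b => by
    obtain ⟨⟨s, t⟩, hb⟩ := IsLocalization.surj p1.primeCompl b
    obtain ⟨s', hs'⟩ := Ideal.Quotient.mk_surjective s
    obtain ⟨t', ht'⟩ := Ideal.Quotient.mk_surjective (t : R1)
    refine ⟨t', s', ?_, by rw [ht', hs']; exact hb⟩
    rw [ht', IsLocalization.AtPrime.to_map_mem_maximal_iff A p1]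
    exact t.2
  have hfracB : ∀ b : B, ∃ t s : T, φ t ∉ maximalIdeal B ∧ b * φ t = φ s := fun b => by
    obtain ⟨⟨s, t⟩, hb⟩ := IsLocalization.surj q.primeCompl b
    obtain ⟨s', hs'⟩ := Ideal.Quotient.mk_surjective s
    obtain ⟨t', ht'⟩ := Ideal.Quotient.mk_surjective (t : T1)
    have e1 : φ t' = algebraMap T1 B t := congrArg (algebraMap T1 B) ht'
    refine ⟨t', s', ?_, by rw [e1]; exact hb.trans (congrArg (algebraMap T1 B) hs'.symm)⟩
    rw [e1, IsLocalization.AtPrime.to_map_mem_maximal_iff B q]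
    exact t.2
  have htrAB : Algebra.trdeg R1 T1 = Algebra.trdeg A B := by
    refine Groth.Agent.DimClosedH1.trdeg_square (fun b => ?_) (fun b => ?_)
    · obtain ⟨⟨s, t⟩, hb⟩ := IsLocalization.surj p1.primeCompl b
      exact ⟨t, s, (IsLocalization.map_units A t).ne_zero, hb⟩
    · obtain ⟨⟨s, t⟩, hb⟩ := IsLocalization.surj q.primeCompl b
      exact ⟨t, s, (IsLocalization.map_units B t).ne_zero, hb⟩
  have hge : ((d + e : ℕ) : Cardinal) ≤ Algebra.trdeg A B := by
    haveI := hPp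
    haveI := hPo
    let ξ : Ideal T := P.comap φ
    haveI : ξ.IsPrime := inferInstanceAs (P.comap φ).IsPrime
    have hPm : P ≤ maximalIdeal B := IsLocalRing.le_maximalIdeal hPp.ne_top
    haveI : ξ.LiesOver p := ⟨by
      ext r
      show r ∈ p ↔ φ (algebraMap R T r) ∈ P
      rw [hsq, IsScalarTower.algebraMap_apply R1 A B, ← hp1, P.over_def (maximalIdeal A)]
      rfl⟩
    let a1 : R ⧸ p →+* A ⧸ maximalIdeal A := Ideal.Quotient.lift p
      ((Ideal.Quotient.mk (maximalIdeal A)).comp ((algebraMap R1 A).comp (Ideal.Quotient.mk r0)))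
      fun r hr => Ideal.Quotient.eq_zero_iff_mem.mpr ((hp1 r).mpr hr)
    have ha1 : Function.Injective a1 := RingHom.lift_injective_of_ker_le_ideal _ _ fun r hr =>
      (hp1 r).mp (Ideal.Quotient.eq_zero_iff_mem.mp (RingHom.mem_ker.mp hr))
    let a2 : T ⧸ ξ →+* B ⧸ P := Ideal.Quotient.lift ξ ((Ideal.Quotient.mk P).comp φ)
      fun r hr => Ideal.Quotient.eq_zero_iff_mem.mpr hr
    have ha2 : Function.Injective a2 := RingHom.lift_injective_of_ker_le_ideal _ _ fun r hr =>
      show r ∈ ξ from (Ideal.Quotient.eq_zero_iff_mem (I := P)).mp (RingHom.mem_ker.mp hr)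
    letI : Algebra (R ⧸ p) (A ⧸ maximalIdeal A) := RingHom.toAlgebra (R := R ⧸ p) (S := A ⧸ maximalIdeal A) a1
    letI : Algebra (T ⧸ ξ) (B ⧸ P) := RingHom.toAlgebra (R := T ⧸ ξ) (S := B ⧸ P) a2
    letI : Algebra (R ⧸ p) (B ⧸ P) := (a2.comp (algebraMap (R ⧸ p) (T ⧸ ξ))).toAlgebra
    haveI : IsScalarTower (R ⧸ p) (T ⧸ ξ) (B ⧸ P) := IsScalarTower.of_algebraMap_eq fun _ => rfl
    haveI : IsScalarTower (R ⧸ p) (A ⧸ maximalIdeal A) (B ⧸ P) := IsScalarTower.of_algebraMap_eq fun x => by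
      obtain ⟨r, rfl⟩ := Ideal.Quotient.mk_surjective x
      show Ideal.Quotient.mk P (φ (algebraMap R T r)) =
        Ideal.Quotient.mk P (algebraMap A B (algebraMap R1 A (Ideal.Quotient.mk r0 r)))
      rw [hsq, IsScalarTower.algebraMap_apply R1 A B]
    haveI : FaithfulSMul (R ⧸ p) (A ⧸ maximalIdeal A) := (faithfulSMul_iff_algebraMap_injective _ _).mpr ha1
    haveI : FaithfulSMul (T ⧸ ξ) (B ⧸ P) := (faithfulSMul_iff_algebraMap_injective _ _).mpr ha2
    haveI : FaithfulSMul (R ⧸ p) (T ⧸ ξ) := by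
      rw [faithfulSMul_iff_algebraMap_injective, injective_iff_map_eq_zero]
      intro a ha
      obtain ⟨a, rfl⟩ := Ideal.Quotient.mk_surjective a
      rw [Ideal.Quotient.eq_zero_iff_mem, ξ.over_def p]
      show algebraMap R T a ∈ ξ
      exact Ideal.Quotient.eq_zero_iff_mem.mp ha
    haveI : FaithfulSMul (A ⧸ maximalIdeal A) (B ⧸ P) := by
      rw [faithfulSMul_iff_algebraMap_injective, injective_iff_map_eq_zero]
      intro a ha
      obtain ⟨a, rfl⟩ := Ideal.Quotient.mk_surjective a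
      rw [Ideal.Quotient.eq_zero_iff_mem, P.over_def (maximalIdeal A)]
      show algebraMap A B a ∈ P
      exact Ideal.Quotient.eq_zero_iff_mem.mp ha
    have hsq2 : Algebra.trdeg (R ⧸ p) (T ⧸ ξ) = Algebra.trdeg (A ⧸ maximalIdeal A) (B ⧸ P) := by
      refine Groth.Agent.DimClosedH1.trdeg_square (fun b => ?_) (fun b => ?_)
      · obtain ⟨b, rfl⟩ := Ideal.Quotient.mk_surjective b
        obtain ⟨t, s, ht, hb⟩ := hfracA b
        refine ⟨Ideal.Quotient.mk p t, Ideal.Quotient.mk p s, ?_, ?_⟩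
        · exact fun h => ht (Ideal.Quotient.eq_zero_iff_mem.mp h)
        · exact (map_mul (Ideal.Quotient.mk (maximalIdeal A)) _ _).symm.trans
            (congrArg (Ideal.Quotient.mk (maximalIdeal A)) hb)
      · obtain ⟨b, rfl⟩ := Ideal.Quotient.mk_surjective b
        obtain ⟨t, s, ht, hb⟩ := hfracB b
        refine ⟨Ideal.Quotient.mk ξ t, Ideal.Quotient.mk ξ s, ?_, ?_⟩
        · exact fun h => ht (hPm (Ideal.Quotient.eq_zero_iff_mem.mp h))
        · exact (map_mul (Ideal.Quotient.mk P) _ _).symm.trans (congrArg (Ideal.Quotient.mk P) hb)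
    calc ((d + e : ℕ) : Cardinal) = Algebra.trdeg (R ⧸ p) (T ⧸ ξ) := (hsq2.trans hC).symm
      _ ≤ Algebra.trdeg (R ⧸ r0) (T ⧸ t0) := hdim ξ (fun a ha => (hφQ a).mp (hPm ha))
      _ = Algebra.trdeg A B := htrAB
  have hsum : Algebra.trdeg A B = (d + e : ℕ) := le_antisymm hle hge
  obtain ⟨qm, hqm, hgq⟩ : ∃ qm ∈ (Ideal.map (algebraMap A B) (maximalIdeal A)).minimalPrimes, φ g ∈ qm := by
    by_contra hne
    push Not at hne
    have hinj := Groth.Agent.S1404.result (φ g) ((hφQ g).mpr hg) hne d e hd he hsum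
    let M : Submonoid B := (nonZeroDivisors A).map (algebraMap A B)
    obtain ⟨W, hWp, hgW, hWd⟩ := Ideal.exists_le_prime_disjoint (Ideal.span {φ g}) M (by
      rw [Set.disjoint_left]
      rintro _ hb ⟨a, ha, rfl⟩
      exact nonZeroDivisors.ne_zero ha (hinj ((Ideal.Quotient.eq_zero_iff_mem.mpr hb).trans (map_zero _).symm)))
    haveI := hWp
    refine hη (W.comap φ) inferInstance (hgW (Ideal.mem_span_singleton_self _)) ?_
    ext r
    show φ (algebraMap R T r) ∈ W ↔ r ∈ r0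
    rw [hsq, IsScalarTower.algebraMap_apply R1 A B]
    refine ⟨fun h => ?_, fun h => by rw [Ideal.Quotient.eq_zero_iff_mem.mpr h, map_zero, map_zero]; exact zero_mem _⟩
    by_contra hr
    refine Set.disjoint_left.mp hWd h (Submonoid.mem_map.mpr ⟨_, mem_nonZeroDivisors_of_ne_zero ?_, rfl⟩)
    intro h0
    exact hr (Ideal.Quotient.eq_zero_iff_mem.mp (hR1A (h0.trans (map_zero _).symm)))
  haveI : qm.IsPrime := hqm.1.1
  have hqmQ : qm.comap φ ≤ Q0 := fun a ha => (hφQ a).mp (IsLocalRing.le_maximalIdeal hqm.1.1.ne_top ha)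
  refine ⟨qm.comap φ, inferInstance, ?_, hqmQ, hgq, ?_⟩
  · refine le_antisymm ?_ fun r hr => ?_
    · rw [Q0.over_def p]; exact Ideal.comap_mono hqmQ
    · show φ (algebraMap R T r) ∈ qm
      rw [hsq, IsScalarTower.algebraMap_apply R1 A B]
      exact hqm.1.2 (Ideal.mem_map_of_mem _ ((hp1 r).mpr hr))
  · intro ξ' hξ' hξo hle'
    haveI := hξ'
    have hξQ : ξ' ≤ Q0 := hle'.trans hqmQ
    let ξ1 : Ideal T1 := ξ'.map (Ideal.Quotient.mk t0)
    have hξ1c : ξ1.comap (Ideal.Quotient.mk t0) = ξ' := by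
      rw [Ideal.comap_map_of_surjective _ Ideal.Quotient.mk_surjective, ← RingHom.ker_eq_comap_bot,
        Ideal.mk_ker, sup_eq_left.mpr (ht0 ξ' hξ')]
    haveI : ξ1.IsPrime := Ideal.map_isPrime_of_surjective Ideal.Quotient.mk_surjective
      (by rw [Ideal.mk_ker]; exact ht0 ξ' hξ')
    have hdis : Disjoint (q.primeCompl : Set T1) (ξ1 : Set T1) := by
      rw [Set.disjoint_right]
      intro x hx hx'
      exact hx' (Ideal.map_mono hξQ hx)
    let W : Ideal B := ξ1.map (algebraMap T1 B)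
    haveI hWp : W.IsPrime := IsLocalization.isPrime_of_isPrime_disjoint q.primeCompl B ξ1 inferInstance hdis
    have hWc : W.comap φ = ξ' := by
      rw [show W.comap φ = (W.comap (algebraMap T1 B)).comap (Ideal.Quotient.mk t0) from rfl]
      rw [show W.comap (algebraMap T1 B) = ξ1 from IsLocalization.under_map_of_isPrime_disjoint q.primeCompl B inferInstance hdis]
      exact hξ1c
    have hWle : W ≤ qm := by
      refine Ideal.map_le_iff_le_comap.mpr (Ideal.map_le_iff_le_comap.mpr ?_)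
      exact hle'
    have hIW : Ideal.map (algebraMap A B) (maximalIdeal A) ≤ W := by
      refine Ideal.map_le_iff_le_comap.mpr fun a ha => ?_
      obtain ⟨t, s, ht, hb⟩ := hfracA a
      have hs : s ∈ p := (hp1 s).mp (hb ▸ Ideal.mul_mem_right _ _ ha)
      have hsW : φ (algebraMap R T s) ∈ W := by
        show algebraMap R T s ∈ W.comap φ
        rw [hWc]
        show s ∈ ξ'.under R
        rw [hξo]; exact hs
      rw [hsq, IsScalarTower.algebraMap_apply R1 A B, ← hb, map_mul] at hsW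
      exact (hWp.mem_or_mem hsW).resolve_right fun h => ht fun hu =>
        hWp.ne_top (Ideal.eq_top_of_isUnit_mem _ h (hu.map (algebraMap A B)))
    rw [← hWc]
    exact le_antisymm (Ideal.comap_mono hWle) (Ideal.comap_mono (hqm.2 ⟨hWp, hIW⟩ hWle))

end Aux


open AlgebraicGeometry CategoryTheory Limits in
/-- Let f : X → S be dominant and locally of finite type with X and S irreducible, let η be the generic
point of S and s a point with dim X_s ≤ dim X_η, and let Z be a locally principal closed subscheme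
of X (its ideal sheaf is generated by one section on an affine neighbourhood of each point) whose
generic fibre is empty. Then, set-theoretically, the fibre of Z over s is a union of irreducible
components of the fibre of X over s. -/
theorem result {X S : Scheme.{u}} (f : X ⟶ S) [IrreducibleSpace ↑S] [IrreducibleSpace ↑X] [IsDominant f] [LocallyOfFiniteType f]
    (s : S) (hdim : topologicalKrullDim ↑(f.fiber s) ≤ topologicalKrullDim ↑(f.fiber (genericPoint ↑S)))
    (Z : X.IdealSheafData) (hZ : ∀ x : X, ∃ (U : X.Opens) (hU : IsAffineOpen U) (g : Γ(X, U)), x ∈ U ∧ Z.ideal ⟨U, hU⟩ = Ideal.span {g})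
    (hη : ∀ x ∈ (Z.support : Set ↑X), f x ≠ genericPoint ↑S) :
    ∀ x : ↑(f ⁻¹' {s}), (x : ↑X) ∈ (Z.support : Set ↑X) →
      ∃ C ∈ irreducibleComponents ↑(f ⁻¹' {s}), x ∈ C ∧ Subtype.val '' C ⊆ (Z.support : Set ↑X) := by
  intro x0 hxZ
  obtain ⟨x, hfx⟩ := x0
  change f x = s at hfx
  subst hfx
  obtain ⟨U0, hU0, g0, hxU0, hZ0⟩ := hZ x
  obtain ⟨V, hV, hsV, -⟩ := exists_isAffineOpen_mem_and_subset (U := (⊤ : S.Opens)) (x := f x) trivial
  obtain ⟨r, hrU, hxr⟩ := hU0.exists_basicOpen_le (V := f ⁻¹ᵁ V) ⟨x, hsV⟩ hxU0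
  let U := X.basicOpen r
  have hU : IsAffineOpen U := hU0.basicOpen r
  let g : Γ(X, U) := X.presheaf.map (homOfLE (X.basicOpen_le r)).op g0
  have hZU : Z.ideal ⟨U, hU⟩ = Ideal.span {g} := by
    rw [← Z.map_ideal (U := ⟨U, hU⟩) (V := ⟨U0, hU0⟩) (X.basicOpen_le r), hZ0, Ideal.map_span,
      Set.image_singleton]
    rfl
  let P : U → Ideal Γ(X, U) := fun y => (hU.primeIdealOf y).asIdeal
  have hmem : ∀ (y : X) (hy : y ∈ U), y ∈ (Z.support : Set X) ↔ g ∈ P ⟨y, hy⟩ := by
    intro y hy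
    rw [SetLike.mem_coe, Scheme.IdealSheafData.mem_support_iff_of_mem (U := ⟨U, hU⟩) hy, hZU,
      Scheme.zeroLocus_span, Scheme.mem_zeroLocus_iff]
    show _ ↔ g ∈ (hU.primeIdealOf ⟨y, hy⟩).asIdeal
    rw [← Groth.Agent.VarDim.ker_evaluation hU y hy, RingHom.mem_ker]
    simp only [Set.mem_singleton_iff, forall_eq]
    constructor
    · intro h
      by_contra hne
      exact h ((X.toLocallyRingedSpace.evaluation_ne_zero_iff_mem_basicOpen ⟨y, hy⟩ g).mp hne)
    · intro h hb
      exact (X.toLocallyRingedSpace.evaluation_ne_zero_iff_mem_basicOpen ⟨y, hy⟩ g).mpr hb h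
  letI := (f.appLE V U hrU).hom.toAlgebra
  haveI : Algebra.FiniteType Γ(S, V) Γ(X, U) := f.finiteType_appLE hV hU hrU
  have hover : ∀ (y : X) (hy : y ∈ U), (P ⟨y, hy⟩).LiesOver (hV.primeIdealOf ⟨f y, hrU hy⟩).asIdeal :=
    fun y hy => ⟨(congrArg PrimeSpectrum.asIdeal (IsAffineOpen.comap_primeIdealOf_appLE V hV U hU hrU hy)).symm⟩
  have hgen : ∀ y : X, genericPoint X ⤳ y := fun y => (genericPoint_spec X).specializes trivial
  have hηU : genericPoint X ∈ U := (hgen x).mem_open U.2 hxr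
  have hfη : f (genericPoint X) = genericPoint S := Groth.Agent.Unibr4.apply_genericPoint f f.denseRange
  have hinj : ∀ (a b : V), hV.primeIdealOf a = hV.primeIdealOf b → (a : S) = b := fun a b h => by
    rw [← hV.fromSpec_primeIdealOf a, ← hV.fromSpec_primeIdealOf b, h]
  haveI := hover _ hηU
  haveI := hover x hxr
  obtain ⟨ξ, hξp, hξo, hξle, hgξ, hξmin⟩ := key_ring (R := Γ(S, V)) (T := Γ(X, U))
    (hV.primeIdealOf ⟨f (genericPoint X), hrU hηU⟩).asIdeal (P ⟨genericPoint X, hηU⟩)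
    (fun W hW => by
      let w : PrimeSpectrum Γ(X, U) := ⟨W, hW⟩
      have h := (Groth.Agent.VarDim.primeIdealOf_le_iff hU ⟨genericPoint X, hηU⟩
        ⟨hU.fromSpec w, Groth.Agent.VarDim.fromSpec_mem hU w⟩).mpr (hgen _)
      rw [Groth.Agent.VarDim.primeIdealOf_fromSpec] at h
      exact h)
    g (P ⟨x, hxr⟩) ((hmem x hxr).mp hxZ) (hV.primeIdealOf ⟨f x, hrU hxr⟩).asIdeal
    (fun ξ _ hξo _ => by
      let w : PrimeSpectrum Γ(X, U) := ⟨ξ, inferInstance⟩
      let y : X := hU.fromSpec w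
      have hy : y ∈ U := Groth.Agent.VarDim.fromSpec_mem hU w
      have hPy : P ⟨y, hy⟩ = ξ :=
        congrArg PrimeSpectrum.asIdeal (Groth.Agent.VarDim.primeIdealOf_fromSpec hU w)
      have hfy : f y = f x := hinj ⟨f y, hrU hy⟩ ⟨f x, hrU hxr⟩ (PrimeSpectrum.ext (by
        rw [(hover y hy).over, hξo.over, hPy]))
      haveI := hover y hy
      have h1 := Groth.Agent.DimFormula14.rdeg_eq_trdeg f hU hV hrU hy
      have h2 := Groth.Agent.DimFormula14.rdeg_eq_trdeg f hU hV hrU hηU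
      have hle : Groth.Agent.FibDim14.rd f y ≤ Groth.Agent.FibDim14.rd f (genericPoint X) := by
        have ha : (Groth.Agent.FibDim14.rd f y : WithBot ℕ∞) ≤ topologicalKrullDim (f.fiber (f x)) := by
          refine le_trans ?_ ((Groth.Agent.FibGen4.dim_fiber_le_iff f (f x) _).1 le_rfl y hfy)
          exact Groth.Agent.FibDim14.rd_le_fibreDimAt f specializes_rfl rfl
        rw [← hfη] at hdim
        rw [Groth.Agent.FibSub4.dim_fiber_eq_rd f fun a _ => hgen a] at hdim
        exact_mod_cast ha.trans hdim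
      rw [h2, Groth.Agent.FibDim14.rdeg_eq_rd]
      refine le_trans (le_of_eq ?_) (Nat.cast_le.mpr hle)
      rw [← Groth.Agent.FibDim14.rdeg_eq_rd, ← h1]
      exact trdeg_congr _ _ _ _ (congrArg PrimeSpectrum.asIdeal (congrArg hV.primeIdealOf (Subtype.ext hfy.symm))) hPy.symm)
    (fun W hW hgW hWo => by
      let w : PrimeSpectrum Γ(X, U) := ⟨W, hW⟩
      let y : X := hU.fromSpec w
      have hy : y ∈ U := Groth.Agent.VarDim.fromSpec_mem hU w
      have hPy : P ⟨y, hy⟩ = W :=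
        congrArg PrimeSpectrum.asIdeal (Groth.Agent.VarDim.primeIdealOf_fromSpec hU w)
      refine hη y ((hmem y hy).mpr (hPy ▸ hgW)) ?_
      rw [← hfη]
      exact hinj ⟨f y, hrU hy⟩ ⟨_, hrU hηU⟩ (PrimeSpectrum.ext (by
        rw [(hover y hy).over, hPy]; exact hWo)))
  let w : PrimeSpectrum Γ(X, U) := ⟨ξ, hξp⟩
  let z : X := hU.fromSpec w
  have hz : z ∈ U := Groth.Agent.VarDim.fromSpec_mem hU w
  have hPz : hU.primeIdealOf ⟨z, hz⟩ = w := Groth.Agent.VarDim.primeIdealOf_fromSpec hU w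
  have hfz : f z = f x := hinj ⟨f z, hrU hz⟩ ⟨f x, hrU hxr⟩ (PrimeSpectrum.ext (by
    rw [(hover z hz).over, show P ⟨z, hz⟩ = ξ from congrArg PrimeSpectrum.asIdeal hPz]; exact hξo))
  have hzx : z ⤳ x := (Groth.Agent.VarDim.primeIdealOf_le_iff hU ⟨z, hz⟩ ⟨x, hxr⟩).mp
    (by rw [hPz]; exact hξle)
  have hzZ : z ∈ (Z.support : Set X) :=
    (hmem z hz).mpr (by rw [show P ⟨z, hz⟩ = ξ from congrArg PrimeSpectrum.asIdeal hPz]; exact hgξ)
  let z' : ↑(f ⁻¹' {f x}) := ⟨z, hfz⟩
  haveI : QuasiSober ↑(f ⁻¹' {f x}) := (f.fiberHomeo (f x)).symm.isClosedEmbedding.quasiSober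
  refine ⟨closure {z'}, ⟨isIrreducible_singleton.closure, fun D hD hzD => ?_⟩, ?_, ?_⟩
  · have hDc : IsIrreducible (closure D) := hD.closure
    obtain ⟨ζ, hζ⟩ := QuasiSober.sober hDc isClosed_closure
    have hζz : ζ ⤳ z' := hζ.specializes (subset_closure (hzD (subset_closure rfl)))
    have hζX : (ζ : X) ⤳ z := hζz.map continuous_subtype_val
    have hζU : (ζ : X) ∈ U := hζX.mem_open U.2 hz
    have hζeq : P ⟨ζ, hζU⟩ = ξ := by
      haveI := hover _ hζU
      refine hξmin _ inferInstance ?_ ?_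
      · rw [← (hover _ hζU).over]
        exact congrArg PrimeSpectrum.asIdeal (congrArg hV.primeIdealOf (Subtype.ext ζ.2))
      · have := (Groth.Agent.VarDim.primeIdealOf_le_iff hU ⟨ζ, hζU⟩ ⟨z, hz⟩).mpr hζX
        rw [hPz] at this
        exact this
    have hζz' : ζ = z' := Subtype.ext (by
      show (ζ : X) = z
      rw [← hU.fromSpec_primeIdealOf ⟨ζ, hζU⟩]
      exact congrArg hU.fromSpec (PrimeSpectrum.ext hζeq))
    intro a ha
    rw [← hζz', show closure {ζ} = closure D from hζ]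
    exact subset_closure ha
  · exact ((Topology.IsInducing.subtypeVal.specializes_iff).mp hzx).mem_closure
  · rintro _ ⟨a, ha, rfl⟩
    exact ((specializes_iff_mem_closure.mpr ha).map continuous_subtype_val).mem_closed Z.support.isClosed hzZ

end Groth.Agent.S1387
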