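import Groth.Statements.S13874
import Groth.Agent.Lib.GammaD.UnivHomeo
-- import your own Groth.Agent.* helpers here

set_option autoImplicit false
universe u
open scoped TensorProduct
open AlgebraicGeometry
open ZeroCyc

namespace Groth.Agent.S13874

/-- Affine form. Let A be a commutative ring, B an A-algebra and d ≥ 1; let (C, γ) be the degree-d
divided power algebra Γ^d_A(B) with its universal multiplicative law γ : B → C of degree d (every
multiplicative law of degree d out of B factors uniquely through γ), and let φ : Γ^d_A(B) →
TS^d_A(B) be the canonical homomorphism to the symmetric tensors, taken as data characterised by: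
after any base change S, φ ∘ γ sends Σ_j s_j ⊗ b_j to Σ_{c : [d] → [n]} (∏_i s_{c(i)}) ⊗ (b_{c(1)} ⊗
⋯ ⊗ b_{c(d)}), i.e. φ corresponds to the law x ↦ x ⊗ ⋯ ⊗ x. Then the morphism Spec TS^d_A(B) → Spec
Γ^d_A(B) induced by φ (the comparison map from the d-th symmetric product of Spec B over Spec A to
the scheme of degree-d divided powers) is a universal homeomorphism inducing an isomorphism on every
residue field. (The published statement is for a separated algebraic space X over an algebraic space
S; this row is its content for X = Spec B over S = Spec A. The second assertion of the published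
statement, that the map is an isomorphism when B is flat over A or A contains the rationals, is not
part of this row.) -/
theorem result {A B C : Type u} [CommRing A] [CommRing B] [Algebra A B] [CommRing C] [Algebra A C] (d : ℕ) (hd : 0 < d)
    (γ : PolLaw.MulLaw A B C d) (hγ : PolLaw.IsGammaD γ) (φ : C →ₐ[A] SymTen.TS A B d)
    (hφ : ∀ (S : Type u) [CommSemiring S] [Algebra A S] (n : ℕ) (s : Fin n → S) (b : Fin n → B),
      ((SymTen.TS A B d).val.comp φ).toLinearMap.lTensor S (γ.law.toFun' S (∑ j, s j ⊗ₜ[A] b j)) =
        ∑ c : Fin d → Fin n, (∏ i, s (c i)) ⊗ₜ[A] PiTensorProduct.tprod A (fun i => b (c i))) :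
    FlatMor.IsUnivHomeo (Spec.map (CommRingCat.ofHom φ.toRingHom)) ∧
      ∀ x : ↥(Spec (CommRingCat.of (SymTen.TS A B d))),
        Function.Surjective ((Spec.map (CommRingCat.ofHom φ.toRingHom)).residueFieldMap x).hom := by
  have hc : GammaD.IsCompare γ φ := GammaD.isCompare_of hφ
  exact ⟨GammaD.isUnivHomeo hγ hc, fun x =>
    (UnivHomeoRing26.surjective_residueFieldMap_iff φ.toRingHom x).2 (GammaD.surjective_residueField hd hc x)⟩

end Groth.Agent.S13874
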