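import Groth.Statements.S13877
import Mathlib

set_option autoImplicit false
universe u v
open Crimp

namespace Groth.Agent.S13877

theorem discr_assoc {R B : Type*} [CommRing R] [CommRing B] [Algebra R B] {ι : Type*} [Fintype ι] [DecidableEq ι]
    (b b' : Module.Basis ι R B) : Associated (Algebra.discr R ⇑b) (Algebra.discr R ⇑b') := by
  have h : (⇑b' : ι → B) = Matrix.vecMul ⇑b ((b.toMatrix ⇑b').map (algebraMap R B)) := by
    funext i
    conv_lhs => rw [← b.sum_repr (b' i)]
    simp only [Matrix.vecMul, dotProduct, Matrix.map_apply, Module.Basis.toMatrix_apply, Algebra.smul_def, mul_comm]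
  rw [h, Algebra.discr_of_matrix_vecMul, mul_comm]
  have hu : IsUnit ((b.toMatrix ⇑b').det ^ 2) :=
    (letI := b.invertibleToMatrix b'; Matrix.isUnit_det_of_invertible (b.toMatrix ⇑b')).pow 2
  exact associated_mul_unit_right _ _ hu

theorem trace_sub {R B : Type*} [CommRing R] [IsDomain R] [CommRing B] [Algebra R B] {ι : Type*} [Fintype ι] [DecidableEq ι]
    (S : Subalgebra R B) (b : Module.Basis ι R B) (c : Module.Basis ι R S) (a : ι → R) (ha : ∀ i, a i ≠ 0)
    (hc : ∀ i, (c i : B) = a i • b i) (x : S) :
    Algebra.trace R S x = Algebra.trace R B (x : B) := by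
  rw [Algebra.trace_eq_matrix_trace b, Algebra.trace_eq_matrix_trace c]
  simp only [Matrix.trace, Matrix.diag, Algebra.leftMulMatrix_eq_repr_mul]
  refine Finset.sum_congr rfl fun i _ => mul_left_cancel₀ (ha i) ?_
  have h1 : ((x * c i : S) : B) = ∑ j, (c.repr (x * c i) j * a j) • b j := by
    conv_lhs => rw [← c.sum_repr (x * c i)]
    rw [AddSubmonoidClass.coe_finsetSum]
    exact Finset.sum_congr rfl fun j _ => by rw [SetLike.val_smul, hc, smul_smul]
  have h2 : ((x * c i : S) : B) = a i • ((x : B) * b i) := by
    rw [Subalgebra.coe_mul, hc, mul_smul_comm]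
  have := congrArg (fun y => b.repr y i) (h1.symm.trans h2)
  simp only [b.repr_sum_self, map_smul, Finsupp.smul_apply, smul_eq_mul] at this
  rw [mul_comm]; exact this

/-- Over R = k⟦t⟧ with k an algebraically closed field of characteristic zero, let S' be a commutative
R-algebra with an R-basis of size d whose discriminant generates the ideal (t ^ a) (a finite cover
of the formal disk of degree d, unramified over the punctured disk, with branch divisor (t ^ a)),
and let S be an R-subalgebra of S' with an R-basis of size d whose discriminant generates (t ^ b) (a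
crimp with branch divisor (t ^ b)). Then t ^ b annihilates S' / S and twice the R-length of S' / S
plus a equals b. (The published statement is for a family of such subalgebras over a k-scheme T and
also asserts T-flatness of the quotient; this row is its restriction to T a point.) -/
theorem result {k : Type u} [Field k] [IsAlgClosed k] [CharZero k]
    {St : Type v} [CommRing St] [Algebra (PowerSeries k) St] (d a b : ℕ)
    (bt : Module.Basis (Fin d) (PowerSeries k) St)
    (ha : Ideal.span {Algebra.discr (PowerSeries k) ⇑bt} = Ideal.span {(PowerSeries.X : PowerSeries k) ^ a})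
    (S : Subalgebra (PowerSeries k) St) (bS : Module.Basis (Fin d) (PowerSeries k) S)
    (hb : Ideal.span {Algebra.discr (PowerSeries k) ⇑bS} = Ideal.span {(PowerSeries.X : PowerSeries k) ^ b}) :
    (∀ q : St ⧸ Subalgebra.toSubmodule S, ((PowerSeries.X : PowerSeries k) ^ b) • q = 0) ∧
    2 * Module.length (PowerSeries k) (St ⧸ Subalgebra.toSubmodule S) + (a : ℕ∞) = (b : ℕ∞) := by
  classical
  set N := Subalgebra.toSubmodule S
  have hrk : Module.finrank (PowerSeries k) N = Module.finrank (PowerSeries k) St := by
    rw [Module.finrank_eq_card_basis bt]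
    exact Module.finrank_eq_card_basis bS
  obtain ⟨b', c, ab, hab⟩ := Submodule.exists_smith_normal_form_of_rank_eq bt hrk
  have hc0 : ∀ i, c i ≠ 0 := fun i hi => ab.ne_zero i (Subtype.ext (by rw [hab, hi, zero_smul]; rfl))
  let abS : Module.Basis (Fin d) (PowerSeries k) S := ab.map (LinearEquiv.ofEq _ _ rfl)
  have habS : ∀ i, (abS i : St) = c i • b' i := fun i => hab i
  have hdisc : Algebra.discr (PowerSeries k) ⇑abS = (∏ i, c i) ^ 2 * Algebra.discr (PowerSeries k) ⇑b' := by
    have hvec : Matrix.vecMul ⇑b' ((Matrix.diagonal c).map (algebraMap (PowerSeries k) St)) = fun i => (abS i : St) := by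
      funext i
      rw [Matrix.diagonal_map (map_zero _), Matrix.vecMul_diagonal, habS, Algebra.smul_def, mul_comm]
    rw [← Matrix.det_diagonal (d := c), ← Algebra.discr_of_matrix_vecMul, hvec, Algebra.discr_def, Algebra.discr_def]
    congr 1
    ext i j
    simp only [Algebra.traceMatrix_apply, Algebra.traceForm_apply]
    rw [trace_sub S b' abS c hc0 habS, Subalgebra.coe_mul]
  have hass : Associated ((PowerSeries.X : PowerSeries k) ^ b) ((∏ i, c i) ^ 2 * PowerSeries.X ^ a) := by
    refine ((Ideal.span_singleton_eq_span_singleton.1 hb).symm.trans (discr_assoc bS abS)).trans ?_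
    rw [hdisc]
    exact ((discr_assoc b' bt).trans (Ideal.span_singleton_eq_span_singleton.1 ha)).mul_left _
  have hdvd : ∀ i, c i ∣ (PowerSeries.X : PowerSeries k) ^ b := fun i =>
    ((Finset.dvd_prod_of_mem c (Finset.mem_univ i)).trans (dvd_pow_self _ two_ne_zero)).trans
      ((dvd_mul_right _ _).trans hass.symm.dvd)
  refine ⟨fun q => ?_, ?_⟩
  · obtain ⟨y, rfl⟩ := Submodule.Quotient.mk_surjective N q
    rw [← Submodule.Quotient.mk_smul, Submodule.Quotient.mk_eq_zero, ← b'.sum_repr y, Finset.smul_sum]
    refine Submodule.sum_mem _ fun i _ => ?_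
    obtain ⟨r, hr⟩ := hdvd i
    rw [smul_smul, hr, show c i * r * b'.repr y i = (r * b'.repr y i) * c i by ring, mul_smul, ← hab i]
    exact Submodule.smul_mem _ _ (ab i).2
  · let e : (St ⧸ N) ≃ₗ[PowerSeries k] Π i, PowerSeries k ⧸ Ideal.span ({c i} : Set (PowerSeries k)) :=
      (Submodule.Quotient.equiv N (Submodule.pi Set.univ fun i => Ideal.span ({c i} : Set (PowerSeries k))) b'.equivFun (by
        ext x
        simp only [Submodule.mem_map, Submodule.mem_pi, Set.mem_univ, forall_true_left, Ideal.mem_span_singleton]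
        constructor
        · rintro ⟨y, hy, rfl⟩ i
          obtain ⟨r, rfl⟩ := (ab.mem_submodule_iff').1 hy
          refine ⟨r i, ?_⟩
          simp [hab, smul_smul, Finsupp.single_apply, mul_comm]
        · intro hx
          choose r hr using hx
          refine ⟨∑ i, r i • (ab i : St), Submodule.sum_mem _ fun i _ => Submodule.smul_mem _ _ (ab i).2, ?_⟩
          ext i
          simp [hab, smul_smul, hr, Finsupp.single_apply, mul_comm])).trans (Submodule.quotientPi _)
    rw [e.length_eq, Module.length_pi_of_fintype]
    change 2 * ∑ i, Ring.ord (PowerSeries k) (c i) + (a : ℕ∞) = (b : ℕ∞)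
    have hX : Ring.ord (PowerSeries k) (PowerSeries.X : PowerSeries k) = 1 := Ring.ord_of_irreducible PowerSeries.X_irreducible
    have hXn : ∀ n : ℕ, Ring.ord (PowerSeries k) ((PowerSeries.X : PowerSeries k) ^ n) = n := fun n => by
      rw [Ring.ord_pow (mem_nonZeroDivisors_of_ne_zero PowerSeries.X_ne_zero), hX, nsmul_eq_mul, mul_one]
    have hprod : ∀ s : Finset (Fin d), Ring.ord (PowerSeries k) (∏ i ∈ s, c i) = ∑ i ∈ s, Ring.ord (PowerSeries k) (c i) := by
      intro s
      induction s using Finset.induction_on with
      | empty => simp [Ring.ord_one]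
      | insert i s hi ih =>
        rw [Finset.prod_insert hi, Finset.sum_insert hi, Ring.ord_mul _ (mem_nonZeroDivisors_of_ne_zero (Finset.prod_ne_zero_iff.2 fun j _ => hc0 j)), ih]
    rw [← hXn b, Ring.ord_eq_of_associated hass, Ring.ord_mul _ (mem_nonZeroDivisors_of_ne_zero (pow_ne_zero _ PowerSeries.X_ne_zero)),
      Ring.ord_pow (mem_nonZeroDivisors_of_ne_zero (Finset.prod_ne_zero_iff.2 fun j _ => hc0 j)), hprod, hXn, nsmul_eq_mul]
    norm_num

end Groth.Agent.S13877
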