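import Groth.Statements.S13878
import Mathlib

set_option autoImplicit false
universe u
open Crimp

namespace Groth.Agent.S13878

/-- Over R = k⟦t⟧ with k an algebraically closed field of characteristic zero, let S' = R × R × R (the
unramified triple cover of the formal disk) and let S be an R-submodule of S' containing 1 such that
S' / S is isomorphic to R / (t ^ m) ⊕ R / (t ^ n) with m ≤ n. Then t ^ n S' is contained in S, and
there is f in S', not lying in R·1 + t S', such that S = R·1 + R·(t ^ m f) + t ^ n S'. -/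
theorem result {k : Type u} [Field k] [IsAlgClosed k] [CharZero k] (m n : ℕ) (hmn : m ≤ n)
    (S : Submodule (PowerSeries k) (Fin 3 → PowerSeries k))
    (h1 : (1 : (Fin 3 → PowerSeries k)) ∈ S)
    (e : ((Fin 3 → PowerSeries k) ⧸ S) ≃ₗ[PowerSeries k]
      ((PowerSeries k ⧸ Ideal.span {(PowerSeries.X : PowerSeries k) ^ m}) × (PowerSeries k ⧸ Ideal.span {(PowerSeries.X : PowerSeries k) ^ n}))) :
    Ideal.span {(PowerSeries.X : PowerSeries k) ^ n} • (⊤ : Submodule (PowerSeries k) (Fin 3 → PowerSeries k)) ≤ S ∧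
    ∃ f : (Fin 3 → PowerSeries k),
      f ∉ Submodule.span (PowerSeries k) {(1 : (Fin 3 → PowerSeries k))} ⊔ Ideal.span {(PowerSeries.X : PowerSeries k)} • (⊤ : Submodule (PowerSeries k) (Fin 3 → PowerSeries k)) ∧
      S = Submodule.span (PowerSeries k) {(1 : (Fin 3 → PowerSeries k)), ((PowerSeries.X : PowerSeries k) ^ m) • f} ⊔
        Ideal.span {(PowerSeries.X : PowerSeries k) ^ n} • (⊤ : Submodule (PowerSeries k) (Fin 3 → PowerSeries k)) := by
  classical
  set R := PowerSeries k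
  set φ : (Fin 3 → R) →ₗ[R] (R ⧸ Ideal.span {(PowerSeries.X : R) ^ m}) × (R ⧸ Ideal.span {(PowerSeries.X : R) ^ n}) :=
    e.toLinearMap ∘ₗ S.mkQ
  have hker : ∀ v, v ∈ S ↔ φ v = 0 := fun v => by simp [φ]
  have hsurj : Function.Surjective φ := e.surjective.comp S.mkQ_surjective
  have hXn : ∀ w : Fin 3 → R, (PowerSeries.X : R) ^ n • w ∈ S := fun w => by
    rw [hker, map_smul]
    generalize φ w = z
    obtain ⟨a, b⟩ := z
    obtain ⟨a, rfl⟩ := Ideal.Quotient.mk_surjective a
    obtain ⟨b, rfl⟩ := Ideal.Quotient.mk_surjective b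
    show ((Ideal.Quotient.mk (Ideal.span {(PowerSeries.X : R) ^ m}) (PowerSeries.X ^ n * a), Ideal.Quotient.mk (Ideal.span {(PowerSeries.X : R) ^ n}) (PowerSeries.X ^ n * b)) : _ × _) = 0
    simp only [Prod.mk_eq_zero, Ideal.Quotient.eq_zero_iff_dvd]
    exact ⟨(pow_dvd_pow _ hmn).mul_right _, dvd_mul_right _ _⟩
  have hle : Ideal.span {(PowerSeries.X : R) ^ n} • (⊤ : Submodule R (Fin 3 → R)) ≤ S :=
    Submodule.smul_le.2 fun r hr w _ => by
      obtain ⟨c, rfl⟩ := Ideal.mem_span_singleton.1 hr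
      rw [mul_smul]
      exact hXn _
  refine ⟨hle, ?_⟩
  let ι : (R × R) →ₗ[R] (Fin 3 → R) :=
    { toFun := fun u => ![u.1, u.2, 0]
      map_add' := fun u v => by ext i; fin_cases i <;> simp
      map_smul' := fun c u => by ext i; fin_cases i <;> simp }
  have hdec : ∀ v : Fin 3 → R, v = v 2 • (1 : Fin 3 → R) + ι (v 0 - v 2, v 1 - v 2) := fun v => by
    ext i; fin_cases i <;> simp [ι]
  rcases Nat.eq_zero_or_pos n with hn | hn
  · refine ⟨ι (1, 0), fun hmem => ?_, ?_⟩
    · obtain ⟨a, ha, b, hb, hab⟩ := Submodule.mem_sup.1 hmem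
      obtain ⟨c, rfl⟩ := Submodule.mem_span_singleton.1 ha
      rw [Submodule.ideal_span_singleton_smul, Submodule.mem_smul_pointwise_iff_exists] at hb
      obtain ⟨w, -, rfl⟩ := hb
      have e0 := congrFun hab 0
      have e2 := congrFun hab 2
      simp [ι] at e0 e2
      exact PowerSeries.X_irreducible.not_isUnit (IsUnit.of_mul_eq_one (w 0 - w 2) (by linear_combination e0 - e2))
    · have hS : S = ⊤ := eq_top_iff.2 fun w _ => by simpa [hn] using hXn w
      rw [hn, pow_zero, Ideal.span_singleton_one, Submodule.top_smul, hS, sup_top_eq]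
  obtain ⟨Θ, hΘs, hΘ⟩ : ∃ Θ : (R × R) →ₗ[R] R × R, Function.Surjective Θ ∧ ∀ u, φ (ι u) = (Ideal.Quotient.mk _ (Θ u).1, Ideal.Quotient.mk _ (Θ u).2) := by
    obtain ⟨L, hL⟩ := Module.projective_lifting_property
      ((Ideal.span {(PowerSeries.X : R) ^ m}).mkQ.prodMap (Ideal.span {(PowerSeries.X : R) ^ n}).mkQ) (φ ∘ₗ ι)
      (Prod.map_surjective.2 ⟨Submodule.mkQ_surjective _, Submodule.mkQ_surjective _⟩)
    have hL' : ∀ u, φ (ι u) = (Ideal.Quotient.mk _ (L u).1, Ideal.Quotient.mk _ (L u).2) := fun u => (LinearMap.congr_fun hL u).symm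
    have hlift : ∀ y : R × R, ∃ u, (PowerSeries.X : R) ^ m ∣ (L u).1 - y.1 ∧ (PowerSeries.X : R) ^ n ∣ (L u).2 - y.2 := by
      intro y
      obtain ⟨v, hv⟩ := hsurj (Ideal.Quotient.mk _ y.1, Ideal.Quotient.mk _ y.2)
      rw [hdec v, map_add, map_smul, (hker _).1 h1, smul_zero, zero_add, hL'] at hv
      refine ⟨(v 0 - v 2, v 1 - v 2), ?_, ?_⟩
      · rw [← Ideal.Quotient.eq_zero_iff_dvd, map_sub, sub_eq_zero]; exact congrArg Prod.fst hv
      · rw [← Ideal.Quotient.eq_zero_iff_dvd, map_sub, sub_eq_zero]; exact congrArg Prod.snd hv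
    rcases Nat.eq_zero_or_pos m with hm | hm
    · subst hm
      have htriv : ∀ z z' : R ⧸ Ideal.span {(PowerSeries.X : R) ^ 0}, z = z' := fun z z' => by
        obtain ⟨a, rfl⟩ := Ideal.Quotient.mk_surjective z
        obtain ⟨b, rfl⟩ := Ideal.Quotient.mk_surjective z'
        rw [Ideal.Quotient.eq, Ideal.mem_span_singleton, pow_zero]; exact one_dvd _
      obtain ⟨u, -, c, hc⟩ := hlift (0, 1)
      have hL2 : ∀ u : R × R, (L u).2 = u.1 * (L (1, 0)).2 + u.2 * (L (0, 1)).2 := fun u => by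
        conv_lhs => rw [show u = u.1 • ((1 : R), (0 : R)) + u.2 • ((0 : R), (1 : R)) by ext <;> simp, map_add, map_smul, map_smul]
        simp only [Prod.snd_add, Prod.smul_snd, smul_eq_mul]
      have hcases : IsUnit (L (1, 0)).2 ∨ IsUnit (L (0, 1)).2 := by
        by_contra hc'
        push Not at hc'
        obtain ⟨p, hp⟩ := PowerSeries.X_dvd_iff.2 (by_contra fun h => hc'.1 (PowerSeries.isUnit_iff_constantCoeff.2 (isUnit_iff_ne_zero.2 h)))
        obtain ⟨q, hq⟩ := PowerSeries.X_dvd_iff.2 (by_contra fun h => hc'.2 (PowerSeries.isUnit_iff_constantCoeff.2 (isUnit_iff_ne_zero.2 h)))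
        rw [hL2, hp, hq] at hc
        obtain ⟨n', rfl⟩ : ∃ n', n = n' + 1 := ⟨n - 1, by omega⟩
        refine PowerSeries.X_irreducible.not_isUnit (IsUnit.of_mul_eq_one (u.1 * p + u.2 * q - PowerSeries.X ^ n' * c) ?_)
        linear_combination hc
      rcases hcases with h | h
      · refine ⟨(LinearMap.snd R R R).prod ((LinearMap.snd R R R) ∘ₗ L), fun y => ?_, fun u => ?_⟩
        · obtain ⟨r, hr⟩ := h.exists_left_inv
          refine ⟨(r * (y.2 - y.1 * (L (0, 1)).2), y.1), Prod.ext rfl ?_⟩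
          show (L _).2 = y.2
          rw [hL2]; linear_combination (y.2 - y.1 * (L (0, 1)).2) * hr
        · rw [hL']; exact Prod.ext (htriv _ _) rfl
      · refine ⟨(LinearMap.fst R R R).prod ((LinearMap.snd R R R) ∘ₗ L), fun y => ?_, fun u => ?_⟩
        · obtain ⟨r, hr⟩ := h.exists_left_inv
          refine ⟨(y.1, r * (y.2 - y.1 * (L (1, 0)).2)), Prod.ext rfl ?_⟩
          show (L _).2 = y.2
          rw [hL2]; linear_combination (y.2 - y.1 * (L (1, 0)).2) * hr
        · rw [hL']; exact Prod.ext (htriv _ _) rfl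
    · refine ⟨L, LinearMap.range_eq_top.1 (eq_top_iff.2 ?_), hL'⟩
      refine Submodule.le_of_le_smul_of_le_jacobson_bot (I := Ideal.span {(PowerSeries.X : R)}) (Module.Finite.fg_top) ?_ ?_
      · rw [IsLocalRing.jacobson_eq_maximalIdeal _ bot_ne_top, PowerSeries.maximalIdeal_eq_span_X]
      · intro y _
        obtain ⟨u, ⟨c, hc⟩, ⟨c', hc'⟩⟩ := hlift y
        obtain ⟨m', rfl⟩ : ∃ m', m = m' + 1 := ⟨m - 1, by omega⟩
        obtain ⟨n', rfl⟩ : ∃ n', n = n' + 1 := ⟨n - 1, by omega⟩
        rw [show y = L u + (PowerSeries.X : R) • (-(PowerSeries.X ^ m' * c), -(PowerSeries.X ^ n' * c')) from Prod.ext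
          (show y.1 = (L u).1 + PowerSeries.X * _ by linear_combination -hc) (show y.2 = (L u).2 + PowerSeries.X * _ by linear_combination -hc')]
        exact Submodule.mem_sup.2 ⟨_, LinearMap.mem_range.2 ⟨u, rfl⟩, _, Submodule.smul_mem_smul (Ideal.mem_span_singleton_self _) Submodule.mem_top, rfl⟩
  let E := LinearEquiv.ofBijective Θ ⟨OrzechProperty.injective_of_surjective_endomorphism Θ hΘs, hΘs⟩
  refine ⟨ι (E.symm (1, 0)), fun hmem => ?_, le_antisymm ?_ (sup_le (Submodule.span_le.2 ?_) hle)⟩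
  · obtain ⟨a, ha, b, hb, hab⟩ := Submodule.mem_sup.1 hmem
    obtain ⟨c, rfl⟩ := Submodule.mem_span_singleton.1 ha
    rw [Submodule.ideal_span_singleton_smul, Submodule.mem_smul_pointwise_iff_exists] at hb
    obtain ⟨w, -, rfl⟩ := hb
    have e0 := congrFun hab 0
    have e1 := congrFun hab 1
    have e2 := congrFun hab 2
    simp [ι] at e0 e1 e2
    have : E.symm (1, 0) = (PowerSeries.X : R) • (w 0 - w 2, w 1 - w 2) := Prod.ext
      (show _ = PowerSeries.X * (w 0 - w 2) by linear_combination e2 - e0) (show _ = PowerSeries.X * (w 1 - w 2) by linear_combination e2 - e1)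
    have h3 := congrArg Prod.fst (congrArg E this)
    simp only [LinearEquiv.apply_symm_apply, map_smul, Prod.smul_fst, smul_eq_mul] at h3
    exact PowerSeries.X_irreducible.not_isUnit (IsUnit.of_mul_eq_one _ h3.symm)
  · intro v hv
    have hu : φ (ι (v 0 - v 2, v 1 - v 2)) = 0 := by
      have := (hker v).1 hv
      rwa [hdec v, map_add, map_smul, (hker _).1 h1, smul_zero, zero_add] at this
    rw [hdec v]
    generalize (v 0 - v 2, v 1 - v 2) = u at hu
    rw [hΘ, Prod.mk_eq_zero, Ideal.Quotient.eq_zero_iff_dvd, Ideal.Quotient.eq_zero_iff_dvd] at hu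
    obtain ⟨⟨c, hc⟩, ⟨c', hc'⟩⟩ := hu
    have hu' : u = c • ((PowerSeries.X : R) ^ m • E.symm (1, 0)) + (PowerSeries.X : R) ^ n • (c' • E.symm (0, 1)) := by
      apply E.injective
      simp only [map_add, map_smul, LinearEquiv.apply_symm_apply]
      show Θ u = _
      exact Prod.ext (by simp [hc, mul_comm]) (by simp [hc', mul_comm])
    rw [hu', map_add, map_smul, map_smul, map_smul]
    refine add_mem (Submodule.mem_sup_left (Submodule.smul_mem _ _ (Submodule.subset_span (by simp)))) (add_mem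
      (Submodule.mem_sup_left (Submodule.smul_mem _ _ (Submodule.subset_span (by simp)))) ?_)
    exact Submodule.mem_sup_right (Submodule.smul_mem_smul (Ideal.mem_span_singleton_self _) Submodule.mem_top)
  · rintro x (rfl | rfl)
    · exact h1
    · rw [SetLike.mem_coe, hker, map_smul, hΘ]
      have : Θ (E.symm (1, 0)) = (1, 0) := E.apply_symm_apply _
      rw [this]
      refine Prod.ext ?_ (by simp)
      show Ideal.Quotient.mk _ ((PowerSeries.X : R) ^ m * 1) = 0
      rw [mul_one]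
      exact (Ideal.Quotient.eq_zero_iff_dvd _ _).2 dvd_rfl

end Groth.Agent.S13878
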