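import Groth.Statements.S13879
import Mathlib

set_option autoImplicit false
universe u
open Crimp

namespace Groth.Agent.S13879

/-- Over R = k⟦t⟧ with k an algebraically closed field of characteristic zero, let S' = R × R × R and
let S be the R-submodule R·1 + R·(t ^ m f) + t ^ n S' of S' for some f in S' and natural numbers m,
n. Then S is closed under multiplication (equivalently, is an R-subalgebra of S') if and only if t ^
(2m) f ^ 2 lies in S. (The published statement has m ≤ n and S' / S isomorphic to R / (t ^ m) ⊕ R /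
(t ^ n), under which S has this shape; this row states the criterion for every submodule of this
shape.) -/
theorem result {k : Type u} [Field k] [IsAlgClosed k] [CharZero k] (m n : ℕ) (f : (Fin 3 → PowerSeries k))
    (S : Submodule (PowerSeries k) (Fin 3 → PowerSeries k))
    (hS : S = Submodule.span (PowerSeries k) {(1 : (Fin 3 → PowerSeries k)), ((PowerSeries.X : PowerSeries k) ^ m) • f} ⊔
        Ideal.span {(PowerSeries.X : PowerSeries k) ^ n} • (⊤ : Submodule (PowerSeries k) (Fin 3 → PowerSeries k))) :
    (∀ x ∈ S, ∀ y ∈ S, x * y ∈ S) ↔ ((PowerSeries.X : PowerSeries k) ^ (2 * m)) • (f * f) ∈ S := by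
  set g := ((PowerSeries.X : PowerSeries k) ^ m) • f with hg
  have hgg : g * g = ((PowerSeries.X : PowerSeries k) ^ (2 * m)) • (f * f) := by
    simp only [g, smul_mul_smul_comm, ← pow_add, two_mul]
  have hgS : g ∈ S := hS ▸ Submodule.mem_sup_left (Submodule.subset_span (by simp))
  have h1S : (1 : Fin 3 → PowerSeries k) ∈ S := hS ▸ Submodule.mem_sup_left (Submodule.subset_span (by simp))
  constructor
  · intro h
    rw [← hgg]; exact h g hgS g hgS
  · intro h x hx y hy
    set J := Ideal.span {(PowerSeries.X : PowerSeries k) ^ n} • (⊤ : Submodule (PowerSeries k) (Fin 3 → PowerSeries k))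
    have hJmul : ∀ u ∈ J, ∀ z, u * z ∈ J := fun u hu z => by
      refine Submodule.smul_induction_on hu (fun r hr w _ => ?_) (fun a b ha hb => ?_)
      · rw [smul_mul_assoc]; exact Submodule.smul_mem_smul hr Submodule.mem_top
      · rw [add_mul]; exact add_mem ha hb
    have hJS : J ≤ S := hS ▸ le_sup_right
    rw [hS] at hx hy
    obtain ⟨a, ha, u, hu, rfl⟩ := Submodule.mem_sup.1 hx
    obtain ⟨b, hb, v, hv, rfl⟩ := Submodule.mem_sup.1 hy
    obtain ⟨a0, a1, rfl⟩ := Submodule.mem_span_pair.1 ha
    obtain ⟨b0, b1, rfl⟩ := Submodule.mem_span_pair.1 hb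
    rw [add_mul, mul_add]
    refine add_mem (add_mem ?_ (hJS (mul_comm v _ ▸ hJmul v hv _))) (hJS (hJmul u hu _))
    simp only [add_mul, mul_add, smul_mul_smul_comm, one_mul, mul_one, hgg]
    exact add_mem (add_mem (S.smul_mem _ h1S) (S.smul_mem _ hgS)) (add_mem (S.smul_mem _ hgS) (S.smul_mem _ h))

end Groth.Agent.S13879
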