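import Groth.Statements.S13880
import Groth.Agent.Lib.Crimp29.Double
import Mathlib.RingTheory.PowerSeries.Inverse

set_option autoImplicit false
universe u
open Crimp

namespace Groth.Agent.S13880

/-- Over R = k⟦t⟧ with k an algebraically closed field of characteristic zero, let S' = R × R, the
trivial double cover of the formal disk (branch divisor (t ^ 0)). An R-subalgebra S of S' admits an
R-basis of size 2 whose discriminant generates (t ^ b), that is, S is a crimp with branch divisor (t
^ b), if and only if b = 2n for some n and S = R·1 + t ^ n S'. So there is exactly one such crimp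
when b is even and none when b is odd; moreover the subalgebra R·1 + t ^ n S' is isomorphic as an
R-algebra to R[y] / (y ^ 2 - t ^ (2n)) (existence of an isomorphism; y ↦ (t ^ n, -t ^ n)). (The
published statement also gives the space of crimps its reduced one-point scheme structure; this row
classifies its k-points.) -/
theorem result {k : Type u} [Field k] [IsAlgClosed k] [CharZero k] (b : ℕ) (S : Subalgebra (PowerSeries k) (Fin 2 → PowerSeries k)) :
    ((∃ bS : Module.Basis (Fin 2) (PowerSeries k) S,
      Ideal.span {Algebra.discr (PowerSeries k) ⇑bS} = Ideal.span {(PowerSeries.X : PowerSeries k) ^ b}) ↔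
    ∃ n : ℕ, b = 2 * n ∧
      Subalgebra.toSubmodule S = Submodule.span (PowerSeries k) {(1 : (Fin 2 → PowerSeries k))} ⊔
        Ideal.span {(PowerSeries.X : PowerSeries k) ^ n} • (⊤ : Submodule (PowerSeries k) (Fin 2 → PowerSeries k))) ∧
    (∀ n : ℕ, Subalgebra.toSubmodule S = Submodule.span (PowerSeries k) {(1 : (Fin 2 → PowerSeries k))} ⊔
        Ideal.span {(PowerSeries.X : PowerSeries k) ^ n} • (⊤ : Submodule (PowerSeries k) (Fin 2 → PowerSeries k)) →
      Nonempty (S ≃ₐ[PowerSeries k] AdjoinRoot (Polynomial.X ^ 2 - Polynomial.C ((PowerSeries.X : PowerSeries k) ^ (2 * n))))) := by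
  classical
  let eqv : (Fin 2 → PowerSeries k) ≃ₗ[PowerSeries k] (Fin 2 → PowerSeries k) :=
    { toFun := fun f => ![f 0, f 1 - f 0]
      invFun := fun g => ![g 0, g 0 + g 1]
      map_add' := fun f g => by ext i; fin_cases i <;> simp; ring
      map_smul' := fun r f => by ext i; fin_cases i <;> simp [mul_sub]
      left_inv := fun f => by ext i; fin_cases i <;> simp
      right_inv := fun g => by ext i; fin_cases i <;> simp }
  let bB := Module.Basis.ofEquivFun eqv
  have hb0 : bB 0 = 1 := by
    simp only [bB, Module.Basis.coe_ofEquivFun]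
    ext i
    fin_cases i <;> simp [eqv, Function.update]
  have hb1 : bB 1 = ![0, 1] := by
    simp only [bB, Module.Basis.coe_ofEquivFun]
    ext i
    fin_cases i <;> simp [eqv, Function.update]
  obtain ⟨hiff, hform⟩ := Crimp29.main bB hb0 (α := 1) (β := 0)
    (by rw [hb1]; ext i; fin_cases i <;> simp) PowerSeries.X_irreducible 0 (by simp) b S
  refine ⟨hiff.trans (exists_congr fun n => ?_), fun n hS => ?_⟩
  · rw [hform n]; simp only [add_zero]
  · rw [← hform n] at hS
    have h2 : IsUnit (-2 : PowerSeries k) := by
      rw [IsUnit.neg_iff, PowerSeries.isUnit_iff_constantCoeff, map_ofNat, isUnit_iff_ne_zero]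
      exact two_ne_zero
    refine Crimp29.nonempty_algEquiv bB hb0 S (pow_ne_zero n PowerSeries.X_ne_zero) hS
      ((PowerSeries.X : PowerSeries k) ^ n) (-2) h2 _ ?_
    rw [hb1]
    funext i
    fin_cases i <;> (simp [Matrix.vecHead, Matrix.vecTail, pow_mul]; try ring)

end Groth.Agent.S13880
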