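import Groth.Statements.S13881
import Groth.Agent.Lib.Crimp29.Double
import Mathlib.RingTheory.PowerSeries.Inverse

set_option autoImplicit false
universe u
open Crimp

namespace Groth.Agent.S13881

/-- Over R = k⟦t⟧ with k an algebraically closed field of characteristic zero, let S' = R[x] / (x ^ 2 -
t), the ramified smooth double cover of the formal disk (branch divisor (t)). An R-subalgebra S of
S' admits an R-basis of size 2 whose discriminant generates (t ^ b), that is, S is a crimp with
branch divisor (t ^ b), if and only if b = 2n + 1 for some n and S = R·1 + t ^ n S'. So there is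
exactly one such crimp when b is odd and none when b is even; moreover the subalgebra R·1 + t ^ n S'
is isomorphic as an R-algebra to R[y] / (y ^ 2 - t ^ (2n+1)) (existence of an isomorphism; y ↦ t ^ n
x). (The published statement describes this algebra as R[y] / (y ^ 2 - t ^ (b - a)) with a = 1, that
is R[y] / (y ^ 2 - t ^ (2n)); that algebra has discriminant ideal (t ^ (b - 1)), not (t ^ b), so
this row uses R[y] / (y ^ 2 - t ^ b) = R[y] / (y ^ 2 - t ^ (2n+1)), which is the algebra R·1 + t ^ n
S'. The published statement also gives the space of crimps its reduced one-point scheme structure;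
this row classifies its k-points.) -/
theorem result {k : Type u} [Field k] [IsAlgClosed k] [CharZero k] (b : ℕ)
    (S : Subalgebra (PowerSeries k) (AdjoinRoot (Polynomial.X ^ 2 - Polynomial.C (PowerSeries.X : PowerSeries k)))) :
    ((∃ bS : Module.Basis (Fin 2) (PowerSeries k) S,
      Ideal.span {Algebra.discr (PowerSeries k) ⇑bS} = Ideal.span {(PowerSeries.X : PowerSeries k) ^ b}) ↔
    ∃ n : ℕ, b = 2 * n + 1 ∧
      Subalgebra.toSubmodule S = Submodule.span (PowerSeries k) {(1 : (AdjoinRoot (Polynomial.X ^ 2 - Polynomial.C (PowerSeries.X : PowerSeries k))))} ⊔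
        Ideal.span {(PowerSeries.X : PowerSeries k) ^ n} • (⊤ : Submodule (PowerSeries k) (AdjoinRoot (Polynomial.X ^ 2 - Polynomial.C (PowerSeries.X : PowerSeries k))))) ∧
    (∀ n : ℕ, Subalgebra.toSubmodule S = Submodule.span (PowerSeries k) {(1 : (AdjoinRoot (Polynomial.X ^ 2 - Polynomial.C (PowerSeries.X : PowerSeries k))))} ⊔
        Ideal.span {(PowerSeries.X : PowerSeries k) ^ n} • (⊤ : Submodule (PowerSeries k) (AdjoinRoot (Polynomial.X ^ 2 - Polynomial.C (PowerSeries.X : PowerSeries k)))) →
      Nonempty (S ≃ₐ[PowerSeries k] AdjoinRoot (Polynomial.X ^ 2 - Polynomial.C ((PowerSeries.X : PowerSeries k) ^ (2 * n + 1))))) := by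
  classical
  have hmon : (Polynomial.X ^ 2 - Polynomial.C (PowerSeries.X : PowerSeries k)).Monic :=
    Polynomial.monic_X_pow_sub_C _ two_ne_zero
  let P := AdjoinRoot.powerBasis' hmon
  have hdim : P.dim = 2 := Polynomial.natDegree_X_pow_sub_C
  let bB := P.basis.reindex (finCongr hdim)
  have hb : ∀ i : Fin 2, bB i = AdjoinRoot.root (Polynomial.X ^ 2 - Polynomial.C (PowerSeries.X : PowerSeries k)) ^ (i : ℕ) := fun i => by
    rw [Module.Basis.reindex_apply, PowerBasis.coe_basis]
    rfl
  have hb0 : bB 0 = 1 := by rw [hb]; simp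
  have hb1 : bB 1 = AdjoinRoot.root _ := by rw [hb]; simp
  have hsq : AdjoinRoot.root (Polynomial.X ^ 2 - Polynomial.C (PowerSeries.X : PowerSeries k)) *
      AdjoinRoot.root (Polynomial.X ^ 2 - Polynomial.C (PowerSeries.X : PowerSeries k)) =
      (PowerSeries.X : PowerSeries k) • 1 := by
    have h := AdjoinRoot.eval₂_root (Polynomial.X ^ 2 - Polynomial.C (PowerSeries.X : PowerSeries k))
    rw [Polynomial.eval₂_sub, Polynomial.eval₂_pow, Polynomial.eval₂_X, Polynomial.eval₂_C, sub_eq_zero] at h
    rw [← pow_two, h, ← Algebra.algebraMap_eq_smul_one, AdjoinRoot.algebraMap_eq]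
  have h4 : IsUnit (4 : PowerSeries k) := by
    rw [PowerSeries.isUnit_iff_constantCoeff, map_ofNat, isUnit_iff_ne_zero]
    exact OfNat.ofNat_ne_zero 4
  obtain ⟨hiff, hform⟩ := Crimp29.main bB hb0 (α := 0) (β := (PowerSeries.X : PowerSeries k))
    (by rw [hb1, hsq, zero_smul, add_zero]) PowerSeries.X_irreducible 1
    (by rw [zero_pow two_ne_zero, zero_add, Ideal.span_singleton_mul_left_unit h4, pow_one]) b S
  refine ⟨hiff.trans (exists_congr fun n => ?_), fun n hS => ?_⟩
  · rw [hform n]
  · rw [← hform n] at hS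
    refine Crimp29.nonempty_algEquiv bB hb0 S (pow_ne_zero n PowerSeries.X_ne_zero) hS 0 1 isUnit_one _ ?_
    rw [hb1, zero_smul, zero_add, one_smul, smul_mul_smul_comm, hsq, smul_smul]
    congr 1
    ring

end Groth.Agent.S13881
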