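import Groth.Statements.S13882
import Mathlib.RingTheory.FiniteType
import Mathlib.RingTheory.Ideal.Quotient.Operations
import Mathlib.Algebra.MvPolynomial.Eval

set_option autoImplicit false
universe u
open FinCov

namespace Groth.Agent.S13882

/-- Over a field K of characteristic zero, the functor that sends a K-scheme S to the set of isomorphism
classes of pairs (A, τ) of an O_S-algebra A and an O_S-module isomorphism τ from A to the free
module of rank d, equivalently to the set of commutative unital algebra structures on the rank-d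
free module with its standard basis, is represented by an affine K-scheme of finite type. Stated on
affine K-schemes in one universe: there is a finitely generated commutative K-algebra B with
bijections between K-algebra maps B → A and based algebra structures of rank d over A, natural in
the commutative K-algebra A. -/
theorem result (K : Type u) [Field K] [CharZero K] (d : ℕ) :
    ∃ (B : Type u) (_ : CommRing B) (_ : Algebra K B) (_ : Algebra.FiniteType K B)
      (η : ∀ (A : Type u) [CommRing A] [Algebra K A], (B →ₐ[K] A) ≃ W4c1hurwitzcpt.BasedAlg d A),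
      ∀ (A A' : Type u) [CommRing A] [Algebra K A] [CommRing A'] [Algebra K A']
        (f : A →ₐ[K] A') (g : B →ₐ[K] A),
        η A' (f.comp g) = (η A g).map f.toRingHom := by
  classical
  let σ := (Fin d × Fin d × Fin d) ⊕ Fin d
  let cv : Fin d → Fin d → Fin d → MvPolynomial σ K := fun i j l => MvPolynomial.X (Sum.inl (i, j, l))
  let uv : Fin d → MvPolynomial σ K := fun i => MvPolynomial.X (Sum.inr i)
  let rel : Set (MvPolynomial σ K) :=
    (Set.range fun t : Fin d × Fin d × Fin d => cv t.1 t.2.1 t.2.2 - cv t.2.1 t.1 t.2.2) ∪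
    (Set.range fun t : Fin d × Fin d × Fin d × Fin d =>
      (∑ k, cv t.1 t.2.1 k * cv k t.2.2.1 t.2.2.2) - ∑ k, cv t.2.1 t.2.2.1 k * cv t.1 k t.2.2.2) ∪
    (Set.range fun t : Fin d × Fin d => (∑ i, uv i * cv i t.1 t.2) - if t.1 = t.2 then 1 else 0)
  let I := Ideal.span rel
  let π := Ideal.Quotient.mkₐ K I
  have hπ : ∀ r ∈ rel, π r = 0 := fun r hr => Ideal.Quotient.eq_zero_iff_mem.2 (Ideal.subset_span hr)
  let toAlg : ∀ (A : Type u) [CommRing A] [Algebra K A],
      ((MvPolynomial σ K ⧸ I) →ₐ[K] A) → W4c1hurwitzcpt.BasedAlg d A := fun A _ _ g =>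
    { c := fun i j l => g (π (cv i j l))
      u := fun i => g (π (uv i))
      comm := fun i j l => by
        rw [← sub_eq_zero, ← map_sub, ← map_sub, hπ _ (Or.inl (Or.inl ⟨(i, j, l), rfl⟩)), map_zero]
      assoc := fun i j l m => by
        simp only [← map_mul, ← map_sum]
        rw [← sub_eq_zero, ← map_sub, ← map_sub, hπ _ (Or.inl (Or.inr ⟨(i, j, l, m), rfl⟩)), map_zero]
      unit := fun j m => by
        simp only [← map_mul, ← map_sum]
        have h : (if j = m then (1 : A) else 0) = g (π (if j = m then 1 else 0)) := by split <;> simp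
        rw [h, ← sub_eq_zero, ← map_sub, ← map_sub, hπ _ (Or.inr ⟨(j, m), rfl⟩), map_zero] }
  have hvan : ∀ (A : Type u) [CommRing A] [Algebra K A] (s : W4c1hurwitzcpt.BasedAlg d A),
      ∀ a ∈ I, MvPolynomial.aeval (Sum.elim (fun t => s.c t.1 t.2.1 t.2.2) s.u) a = 0 := fun A _ _ s =>
    (Ideal.span_le (I := RingHom.ker (MvPolynomial.aeval (Sum.elim (fun t => s.c t.1 t.2.1 t.2.2) s.u) :
        MvPolynomial σ K →ₐ[K] A))).2 <| by
      rintro _ ((⟨⟨i, j, l⟩, rfl⟩ | ⟨⟨i, j, l, m⟩, rfl⟩) | ⟨⟨j, m⟩, rfl⟩)
      · simp [cv, s.comm i j l]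
      · simp [cv, s.assoc i j l m]
      · have h : (MvPolynomial.aeval (Sum.elim (fun t => s.c t.1 t.2.1 t.2.2) s.u) :
            MvPolynomial σ K →ₐ[K] A) (if j = m then 1 else 0) = if j = m then 1 else 0 := by split <;> simp
        simp [cv, uv, s.unit j m, h]
  refine ⟨MvPolynomial σ K ⧸ I, inferInstance, inferInstance, inferInstance, fun A _ _ =>
    { toFun := toAlg A
      invFun := fun s => Ideal.Quotient.liftₐ I _ (hvan A s)
      left_inv := fun g => Ideal.Quotient.algHom_ext K (MvPolynomial.algHom_ext fun v => by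
        rcases v with ⟨i, j, l⟩ | i
        · show MvPolynomial.aeval _ (MvPolynomial.X _) = _
          rw [MvPolynomial.aeval_X]
          rfl
        · show MvPolynomial.aeval _ (MvPolynomial.X _) = _
          rw [MvPolynomial.aeval_X]
          rfl)
      right_inv := fun s => by
        ext i j l
        · show MvPolynomial.aeval _ (MvPolynomial.X _) = _
          rw [MvPolynomial.aeval_X]
          rfl
        · show MvPolynomial.aeval _ (MvPolynomial.X _) = _
          rw [MvPolynomial.aeval_X]
          rfl }, ?_⟩
  intro A A' _ _ _ _ f g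
  ext <;> rfl

end Groth.Agent.S13882
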