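import Groth.Statements.S13884
import Mathlib

set_option autoImplicit false
universe u
open Crimp

namespace Groth.Agent.S13884

open PowerSeries W4c1hurwitzcpt

section
variable {k : Type u} [Field k]

local notation "R" => RootDisk 3 k
local notation "P" => PowerSeries k

theorem val_smul (c : P) (f : R) : RootDisk.val (c • f) = PowerSeries.expand 3 (by norm_num) c * RootDisk.val f := rfl

/-- the coordinates with respect to `1, x, x²` -/
noncomputable def coords : (Fin 3 → P) →ₗ[P] R :=
  Fintype.linearCombination P (fun r : Fin 3 => RootDisk.val.symm ((PowerSeries.X : P) ^ (r : ℕ)))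

theorem coeff_coords (v : Fin 3 → P) (q : ℕ) (r : Fin 3) :
    coeff (3 * q + r) (RootDisk.val (coords v)) = coeff q (v r) := by
  rw [coords, Fintype.linearCombination_apply, map_sum, map_sum, Finset.sum_eq_single r]
  · rw [val_smul, RingEquiv.apply_symm_apply, coeff_mul_X_pow', if_pos (by omega), Nat.add_sub_cancel,
      coeff_expand_mul]
  · intro s _ hs
    rw [val_smul, RingEquiv.apply_symm_apply, coeff_mul_X_pow']
    have h1 := r.2
    have h2 := s.2
    have h3 : (r : ℕ) ≠ (s : ℕ) := fun e => hs (Fin.ext e.symm)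
    split_ifs with hle
    · exact coeff_expand_of_not_dvd 3 (by norm_num) _ (by omega)
    · rfl
  · simp

theorem coords_bijective : Function.Bijective (coords (k := k)) := by
  constructor
  · rw [injective_iff_map_eq_zero]
    intro v hv
    funext r
    ext q
    rw [← coeff_coords v q r, hv, map_zero, map_zero, Pi.zero_apply, map_zero]
  · intro f
    refine ⟨fun r => PowerSeries.mk fun q => coeff (3 * q + r) (RootDisk.val f), RootDisk.val.injective ?_⟩
    ext n
    have hn : n = 3 * (n / 3) + (⟨n % 3, Nat.mod_lt _ (by norm_num)⟩ : Fin 3) := (Nat.div_add_mod n 3).symm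
    rw [hn, coeff_coords, coeff_mk]

theorem exists_conductor (M : Submodule P R) (bM : Module.Basis (Fin 3) P M) :
    ∃ N : ℕ, ∀ f : R, (PowerSeries.X : P) ^ N ∣ RootDisk.val f → f ∈ M := by
  classical
  let e := LinearEquiv.ofBijective (coords (k := k)) coords_bijective
  let L : (Fin 3 → P) →ₗ[P] (Fin 3 → P) := e.symm.toLinearMap ∘ₗ M.subtype ∘ₗ bM.equivFun.symm.toLinearMap
  have hLinj : Function.Injective L :=
    e.symm.injective.comp (M.injective_subtype.comp bM.equivFun.symm.injective)
  set A := LinearMap.toMatrix' L with hA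
  have hAd : A.det ≠ 0 := fun h0 => by
    obtain ⟨v, hv, hAv⟩ := Matrix.exists_mulVec_eq_zero_iff.2 h0
    refine hv (hLinj ?_)
    rw [map_zero, ← Matrix.toLin'_toMatrix' L, Matrix.toLin'_apply, ← hA, hAv]
  have hmem : ∀ f : R, A.det • f ∈ M := by
    intro f
    have h1 : L (A.adjugate.mulVec (e.symm f)) = A.det • e.symm f := by
      rw [← Matrix.toLin'_toMatrix' L, Matrix.toLin'_apply, ← hA, Matrix.mulVec_mulVec, Matrix.mul_adjugate,
        Matrix.smul_mulVec, Matrix.one_mulVec]
    have h2 := congrArg e h1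
    rw [map_smul, LinearEquiv.apply_symm_apply] at h2
    rw [← h2]
    simp only [L, LinearMap.comp_apply, LinearEquiv.coe_coe, LinearEquiv.apply_symm_apply]
    exact Subtype.mem _
  obtain ⟨n, hn⟩ : ∃ n : ℕ, A.det.order = n := by
    obtain ⟨n, hn⟩ := ENat.ne_top_iff_exists.1 (fun h => hAd (PowerSeries.order_eq_top.1 h))
    exact ⟨n, hn.symm⟩
  obtain ⟨h0, hlow⟩ := order_eq_nat.1 hn
  refine ⟨3 * n, fun f ⟨g, hg⟩ => ?_⟩
  obtain ⟨u, hu⟩ : (PowerSeries.X : P) ^ n ∣ A.det := X_pow_dvd_iff.2 hlow
  have huu : IsUnit u := by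
    rw [isUnit_iff_constantCoeff, ← coeff_zero_eq_constantCoeff]
    refine isUnit_iff_ne_zero.2 fun hu0 => h0 ?_
    rw [hu, coeff_X_pow_mul', if_pos le_rfl, Nat.sub_self, hu0]
  obtain ⟨u', hu'⟩ := huu.exists_left_inv
  have hf : f = A.det • RootDisk.val.symm (PowerSeries.expand 3 (by norm_num) u' * g) := by
    refine RootDisk.val.injective ?_
    rw [val_smul, RingEquiv.apply_symm_apply, hg, hu, map_mul, map_pow, expand_X, ← pow_mul, ← mul_assoc,
      mul_assoc (PowerSeries.X ^ (3 * n)), ← map_mul, mul_comm u u', hu', map_one, mul_one]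
  rw [hf]
  exact hmem _

end

/-- Over R = k⟦t⟧ with k an algebraically closed field of characteristic zero, let S' = k⟦x⟧ regarded as
an R-algebra through t ↦ x ^ 3, that is S' = R[x] / (x ^ 3 - t), the smooth totally ramified triple
cover of the formal disk. If M is an R-submodule of S' which is free of rank 3, then M has an
R-basis consisting of three power series whose x-adic valuations are pairwise distinct modulo 3.
(Items (2) and (3) of the published proposition, on the base change of M to R[s] / (s ^ 3 - t), are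
not restated.) -/
theorem result {k : Type u} [Field k] [IsAlgClosed k] [CharZero k]
    (M : Submodule (PowerSeries k) (W4c1hurwitzcpt.RootDisk 3 k))
    (bM : Module.Basis (Fin 3) (PowerSeries k) M) :
    ∃ g : Module.Basis (Fin 3) (PowerSeries k) M, ∀ i j : Fin 3, i ≠ j →
      ¬ Nat.ModEq 3 (PowerSeries.order (W4c1hurwitzcpt.RootDisk.val (((g i : M) : (W4c1hurwitzcpt.RootDisk 3 k)) : W4c1hurwitzcpt.RootDisk 3 k))).toNat
        (PowerSeries.order (W4c1hurwitzcpt.RootDisk.val (((g j : M) : (W4c1hurwitzcpt.RootDisk 3 k)) : W4c1hurwitzcpt.RootDisk 3 k))).toNat := by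
  classical
  obtain ⟨N, hN⟩ := exists_conductor M bM
  let C : ℕ → RootDisk 3 k → k := fun n f => coeff n (RootDisk.val f)
  let Good : ℕ → RootDisk 3 k → Prop := fun n f => f ∈ M ∧ C n f ≠ 0 ∧ ∀ i < n, C i f = 0
  have hex : ∀ r : Fin 3, ∃ n, n % 3 = (r : ℕ) ∧ ∃ f, Good n f := fun r => by
    refine ⟨3 * N + r, by omega, RootDisk.val.symm (PowerSeries.X ^ (3 * N + (r : ℕ))), hN _ ?_, ?_, fun i hi => ?_⟩
    · rw [RingEquiv.apply_symm_apply]; exact pow_dvd_pow _ (by omega)
    · simp [C]
    · simp [C, coeff_X_pow, hi.ne]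
  let n : Fin 3 → ℕ := fun r => Nat.find (hex r)
  have hnr : ∀ r, n r % 3 = (r : ℕ) := fun r => (Nat.find_spec (hex r)).1
  choose hh hhgood using fun r => (Nat.find_spec (hex r)).2
  have hmin : ∀ (m : ℕ) (f : RootDisk 3 k), Good m f → ∀ r : Fin 3, m % 3 = (r : ℕ) → n r ≤ m :=
    fun m f hf r hr => Nat.find_le ⟨hr, f, hf⟩
  let g : Fin 3 → M := fun r => ⟨hh r, (hhgood r).1⟩
  have hord : ∀ r, PowerSeries.order (RootDisk.val (hh r)) = (n r : ℕ∞) := fun r =>
    order_eq_nat.2 ⟨(hhgood r).2.1, (hhgood r).2.2⟩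
  haveI : Module.Finite (PowerSeries k) M := Module.Finite.of_basis bM
  set H := Submodule.span (PowerSeries k) (Set.range g)
  have key : ∀ (j m : ℕ) (f : M), m + j = 3 * N + 3 → (∀ i < m, C i (f : RootDisk 3 k) = 0) →
      f ∈ H ⊔ IsLocalRing.maximalIdeal (PowerSeries k) • (⊤ : Submodule (PowerSeries k) M) := by
    intro j
    induction j with
    | zero =>
      intro m f hm hf
      refine Submodule.mem_sup_right ?_
      obtain ⟨g', hg'⟩ : (PowerSeries.X : PowerSeries k) ^ (3 * N + 3) ∣ RootDisk.val (f : RootDisk 3 k) :=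
        X_pow_dvd_iff.2 fun i hi => hf i (by omega)
      let f' : M := ⟨RootDisk.val.symm (PowerSeries.X ^ (3 * N) * g'), hN _ (by
        rw [RingEquiv.apply_symm_apply]; exact (pow_dvd_pow _ (by omega)).trans (dvd_mul_right _ _))⟩
      have e : f = (PowerSeries.X : PowerSeries k) • f' := Subtype.ext (RootDisk.val.injective (by
        rw [Submodule.coe_smul, val_smul, RingEquiv.apply_symm_apply, hg', expand_X, ← mul_assoc, ← pow_add,
          add_comm 3]))
      rw [e]
      exact Submodule.smul_mem_smul (by rw [maximalIdeal_eq_span_X]; exact Ideal.mem_span_singleton_self _) trivial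
    | succ j ih =>
      intro m f hm hf
      by_cases h0 : C m (f : RootDisk 3 k) = 0
      · exact ih (m + 1) f (by omega) fun i hi => (Nat.lt_succ_iff_lt_or_eq.1 hi).elim (hf i) (fun e => e ▸ h0)
      let r : Fin 3 := ⟨m % 3, Nat.mod_lt _ (by norm_num)⟩
      have hle := hmin m f ⟨f.2, h0, hf⟩ r rfl
      obtain ⟨q, hq⟩ : ∃ q, m = n r + 3 * q := ⟨(m - n r) / 3, by
        have h1 := hnr r
        have h2 : (r : ℕ) = m % 3 := rfl
        omega⟩
      let c := C m (f : RootDisk 3 k) / C (n r) (hh r)
      let f' : M := f - (PowerSeries.C c * PowerSeries.X ^ q) • g r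
      have hC : ∀ i, C i (f' : RootDisk 3 k) =
          C i (f : RootDisk 3 k) - c * (if 3 * q ≤ i then C (i - 3 * q) (hh r) else 0) := fun i => by
        simp only [C, f', g, Submodule.coe_sub, Submodule.coe_smul, map_sub, val_smul, map_mul, map_pow, expand_C,
          expand_X, ← pow_mul, mul_assoc, coeff_C_mul, coeff_X_pow_mul']
      have hrec := ih (m + 1) f' (by omega) fun i hi => by
        rw [hC]
        rcases Nat.lt_succ_iff_lt_or_eq.1 hi with hlt | rfl
        · rw [hf i hlt, zero_sub, neg_eq_zero, mul_eq_zero]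
          right
          split_ifs
          · exact (hhgood r).2.2 _ (show i - 3 * q < n r by omega)
          · rfl
        · rw [if_pos (by omega), show i - 3 * q = n r by omega, div_mul_cancel₀ _ (show C (n r) (hh r) ≠ 0 from (hhgood r).2.1), sub_self]
      have e : f = f' + (PowerSeries.C c * PowerSeries.X ^ q) • g r := (sub_add_cancel _ _).symm
      rw [e]
      exact add_mem hrec (Submodule.mem_sup_left (Submodule.smul_mem _ _ (Submodule.subset_span ⟨r, rfl⟩)))
  have htop : ⊤ ≤ H := Submodule.le_of_le_smul_of_le_jacobson_bot Module.Finite.fg_top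
    (IsLocalRing.jacobson_eq_maximalIdeal ⊥ bot_ne_top).ge fun f _ => key (3 * N + 3) 0 f (by omega) (fun i hi => absurd hi (Nat.not_lt_zero i))
  have hli : LinearIndependent (PowerSeries k) g := linearIndependent_of_top_le_span_of_card_eq_finrank htop
    (Module.finrank_eq_card_basis bM).symm
  refine ⟨Module.Basis.mk hli htop, fun i j hij h => hij (Fin.ext ?_)⟩
  rw [Module.Basis.mk_apply, Module.Basis.mk_apply, hord, hord, ENat.toNat_coe, ENat.toNat_coe, Nat.ModEq, hnr, hnr] at h
  exact h

end Groth.Agent.S13884
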