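import Groth.Statements.S13885
import Groth.Agent.Lib.RootDiskBasis28.Basic

set_option autoImplicit false
universe u
open Crimp

namespace Groth.Agent.S13885

/-- Over R = k⟦t⟧ with k an algebraically closed field of characteristic zero, let S' = k⟦x⟧ × R, where
k⟦x⟧ is regarded as an R-algebra through t ↦ x ^ 2, that is S' = R[x] / (x ^ 2 - t) ⊕ R, the smooth
simply ramified triple cover of the formal disk, with R embedded diagonally. If M is an R-submodule
of S' containing 1 which is free of rank 3, then M is spanned by 1, (f₁, 0) and (f₂, 0) for some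
power series f₁, f₂ whose x-adic valuations are distinct modulo 2. (Items (2) and (3) of the
published proposition, on the base change of M to R[s] / (s ^ 2 - t), are not restated.) -/
theorem result {k : Type u} [Field k] [IsAlgClosed k] [CharZero k]
    (M : Submodule (PowerSeries k) (W4c1hurwitzcpt.RootDisk 2 k × PowerSeries k))
    (h1 : (1 : (W4c1hurwitzcpt.RootDisk 2 k × PowerSeries k)) ∈ M)
    (bM : Module.Basis (Fin 3) (PowerSeries k) M) :
    ∃ f₁ f₂ : W4c1hurwitzcpt.RootDisk 2 k,
      ¬ Nat.ModEq 2 (PowerSeries.order (W4c1hurwitzcpt.RootDisk.val (f₁ : W4c1hurwitzcpt.RootDisk 2 k))).toNat (PowerSeries.order (W4c1hurwitzcpt.RootDisk.val (f₂ : W4c1hurwitzcpt.RootDisk 2 k))).toNat ∧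
      M = Submodule.span (PowerSeries k) {(1 : (W4c1hurwitzcpt.RootDisk 2 k × PowerSeries k)), (f₁, 0), (f₂, 0)} := by
  classical
  let R := W4c1hurwitzcpt.RootDisk 2 k
  let P := PowerSeries k
  let M' : Submodule P R := M.comap (LinearMap.inl P R P)
  let e : M ≃ₗ[P] P × M' :=
    { toFun := fun m => ((m : R × P).2, ⟨(m : R × P).1 - (m : R × P).2 • (1 : R), by
        show (LinearMap.inl P R P) _ ∈ M
        have h2 := M.sub_mem m.2 (M.smul_mem (m : R × P).2 h1)
        convert h2 using 1
        refine Prod.ext ?_ ?_ <;> simp⟩)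
      map_add' := fun a b => by
        refine Prod.ext (by simp) (Subtype.ext ?_)
        simp only [Submodule.coe_add, Prod.fst_add, Prod.snd_add, Prod.mk_add_mk, add_smul]
        abel
      map_smul' := fun c a => by
        refine Prod.ext (by simp) (Subtype.ext ?_)
        simp only [Submodule.coe_smul, Prod.smul_fst, Prod.smul_snd, RingHom.id_apply, Prod.smul_mk, smul_eq_mul, mul_smul, smul_sub]
      invFun := fun q => ⟨q.1 • (1 : R × P) + ((q.2 : R), 0), M.add_mem (M.smul_mem _ h1) q.2.2⟩
      left_inv := fun m => Subtype.ext (by refine Prod.ext ?_ ?_ <;> simp)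
      right_inv := fun q => by
        refine Prod.ext ?_ (Subtype.ext ?_) <;> simp }
  haveI : Module.Finite P M := Module.Finite.of_basis bM
  haveI : Module.Free P M := Module.Free.of_basis bM
  haveI : Module.Finite P M' := Module.Finite.of_surjective ((LinearMap.snd P P M') ∘ₗ e.toLinearMap)
    (Prod.snd_surjective.comp e.surjective)
  haveI : Module.Free P (P × M') := Module.Free.of_equiv e
  haveI : Module.IsTorsionFree P M' :=
    Function.Injective.moduleIsTorsionFree (LinearMap.inr P P M') LinearMap.inr_injective (fun c x => map_smul _ c x)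
  haveI : Module.Free P M' := Module.free_of_finite_type_torsion_free'
  have hfr : Module.finrank P M' = 2 := by
    have h := e.finrank_eq
    rw [Module.finrank_eq_card_basis bM, Fintype.card_fin, Module.finrank_prod, Module.finrank_self] at h
    omega
  obtain ⟨g, hg⟩ := RootDiskBasis28.exists_basis (p := 2) M' (Module.finBasisOfFinrankEq P M' hfr)
  obtain ⟨n0, hn0, ho0⟩ := hg 0
  obtain ⟨n1, hn1, ho1⟩ := hg 1
  refine ⟨(g 0 : M'), (g 1 : M'), ?_, ?_⟩
  · rw [ho0, ho1, ENat.toNat_coe, ENat.toNat_coe, Nat.ModEq, hn0, hn1]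
    simp
  · refine le_antisymm (fun m hm => ?_) (Submodule.span_le.2 ?_)
    · have h := congrArg Subtype.val (g.sum_repr (e ⟨m, hm⟩).2)
      rw [Fin.sum_univ_two, Submodule.coe_add, Submodule.coe_smul, Submodule.coe_smul] at h
      have hm' : m = m.2 • (1 : R × P) + (g.repr (e ⟨m, hm⟩).2 0 • (((g 0 : M') : R), (0 : P)) +
          g.repr (e ⟨m, hm⟩).2 1 • (((g 1 : M') : R), (0 : P))) := by
        refine Prod.ext ?_ (by simp)
        simp only [Prod.fst_add, Prod.smul_fst, Prod.fst_one]
        rw [h]
        show m.1 = m.2 • (1 : R) + (m.1 - m.2 • (1 : R))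
        abel
      rw [hm']
      exact add_mem (Submodule.smul_mem _ _ (Submodule.subset_span (Or.inl rfl))) (add_mem
        (Submodule.smul_mem _ _ (Submodule.subset_span (Or.inr (Or.inl rfl))))
        (Submodule.smul_mem _ _ (Submodule.subset_span (Or.inr (Or.inr rfl)))))
    · rintro x (rfl | rfl | rfl)
      exacts [h1, (g 0).2, (g 1).2]

end Groth.Agent.S13885
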