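import Groth.Statements.S13886
import Mathlib

set_option autoImplicit false
universe u
open Crimp

namespace Groth.Agent.S13886

/-- Over R = k⟦t⟧ with k an algebraically closed field of characteristic zero, let S' = R × R × R be the
unramified triple cover of the formal disk and let m ≤ n ≤ 2m be natural numbers. For every f in S'
not lying in R·1 + t S', the R-submodule S = R·1 + R·(t ^ m f) + t ^ n S' is closed under
multiplication, hence an R-subalgebra (a crimp), and S' / S is isomorphic to R / (t ^ m) ⊕ R / (t ^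
n) (so the crimp has μ-invariant n - m and branch divisor (t ^ (2(m+n)))). Together with the
structure result for submodules with this quotient, this identifies the k-points of the space of
crimps of splitting type (m, n), 2m ≥ n, with the submodules of this shape. (The published statement
moreover asserts that this stratum is an irreducible variety of dimension n - m; that part is not
restated.) -/
theorem result {k : Type u} [Field k] [IsAlgClosed k] [CharZero k]
    (m n : ℕ) (hmn : m ≤ n) (hn : n ≤ 2 * m)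
    (f : (Fin 3 → PowerSeries k)) (hf : f ∉ Submodule.span (PowerSeries k) {(1 : (Fin 3 → PowerSeries k))} ⊔ Ideal.span {(PowerSeries.X : PowerSeries k)} • (⊤ : Submodule (PowerSeries k) (Fin 3 → PowerSeries k)))
    (S : Submodule (PowerSeries k) (Fin 3 → PowerSeries k))
    (hS : S = Submodule.span (PowerSeries k) {(1 : (Fin 3 → PowerSeries k)), ((PowerSeries.X : PowerSeries k) ^ m) • f} ⊔
        Ideal.span {(PowerSeries.X : PowerSeries k) ^ n} • (⊤ : Submodule (PowerSeries k) (Fin 3 → PowerSeries k))) :
    (∀ x ∈ S, ∀ y ∈ S, x * y ∈ S) ∧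
    Nonempty (((Fin 3 → PowerSeries k) ⧸ S) ≃ₗ[PowerSeries k]
      ((PowerSeries k ⧸ Ideal.span {(PowerSeries.X : PowerSeries k) ^ m}) × (PowerSeries k ⧸ Ideal.span {(PowerSeries.X : PowerSeries k) ^ n}))) := by
  classical
  set t : PowerSeries k := PowerSeries.X
  have key : ∀ N, ∀ y : Fin 3 → PowerSeries k, y ∈ Ideal.span {t ^ N} • (⊤ : Submodule (PowerSeries k) (Fin 3 → PowerSeries k)) ↔ ∀ i, t ^ N ∣ y i := by
    intro N y
    constructor
    · intro hy
      refine Submodule.smul_induction_on hy ?_ (fun a b ha hb i => dvd_add (ha i) (hb i))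
      intro r hr z _ i
      exact Dvd.dvd.mul_right (Ideal.mem_span_singleton.1 hr) _
    · intro h
      choose z hz using h
      rw [show y = (t ^ N) • z from funext hz]
      exact Submodule.smul_mem_smul (Ideal.mem_span_singleton_self _) Submodule.mem_top
  have hmem : ∀ x, x ∈ S ↔ ∃ a b : PowerSeries k, ∀ i, t ^ n ∣ (x i - (a + b * (t ^ m * f i))) := by
    intro x
    rw [hS, Submodule.mem_sup]
    constructor
    · rintro ⟨y, hy, z, hz, rfl⟩
      obtain ⟨a, b, rfl⟩ := Submodule.mem_span_pair.1 hy
      refine ⟨a, b, fun i => ?_⟩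
      have := (key n z).1 hz i
      simpa using this
    · rintro ⟨a, b, h⟩
      refine ⟨a • 1 + b • (t ^ m • f), Submodule.mem_span_pair.2 ⟨a, b, rfl⟩, x - (a • 1 + b • (t ^ m • f)), (key n _).2 fun i => ?_, by abel⟩
      simpa using h i
  constructor
  · intro x hx y hy
    obtain ⟨a, b, h⟩ := (hmem x).1 hx
    obtain ⟨c, d, h'⟩ := (hmem y).1 hy
    refine (hmem _).2 ⟨a * c, a * d + b * c, fun i => ?_⟩
    obtain ⟨u, hu⟩ := h i
    obtain ⟨v, hv⟩ := h' i
    obtain ⟨w, hw⟩ : t ^ n ∣ t ^ (2 * m) := pow_dvd_pow _ hn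
    refine ⟨u * y i + v * (a + b * (t ^ m * f i)) + w * (b * d * (f i * f i)), ?_⟩
    simp only [Pi.mul_apply]
    rw [pow_mul', pow_two] at hw
    linear_combination (y i) * hu + (a + b * (t ^ m * f i)) * hv + (b * d * (f i * f i)) * hw
  · obtain ⟨i, j, l, hij, hil, hjl, hne⟩ : ∃ i j l : Fin 3, i ≠ j ∧ i ≠ l ∧ j ≠ l ∧ PowerSeries.constantCoeff (f i) ≠ PowerSeries.constantCoeff (f j) := by
      by_cases h01 : PowerSeries.constantCoeff (f 0) = PowerSeries.constantCoeff (f 1)
      · by_cases h02 : PowerSeries.constantCoeff (f 0) = PowerSeries.constantCoeff (f 2)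
        · refine absurd ?_ hf
          have : f - PowerSeries.C (PowerSeries.constantCoeff (f 0)) • 1 ∈ Ideal.span {t} • (⊤ : Submodule (PowerSeries k) (Fin 3 → PowerSeries k)) := by
            rw [← pow_one t, key]
            intro i
            rw [pow_one, PowerSeries.X_dvd_iff]
            fin_cases i <;> simp [← h01, ← h02]
          rw [show f = PowerSeries.C (PowerSeries.constantCoeff (f 0)) • 1 + (f - PowerSeries.C (PowerSeries.constantCoeff (f 0)) • 1) by abel]
          exact Submodule.add_mem_sup (Submodule.smul_mem _ _ (Submodule.mem_span_singleton_self _)) this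
        · exact ⟨0, 2, 1, by decide, by decide, by decide, h02⟩
      · exact ⟨0, 1, 2, by decide, by decide, by decide, h01⟩
    have hu : IsUnit (f i - f j) := by
      rw [PowerSeries.isUnit_iff_constantCoeff]
      simp [sub_eq_zero, hne]
    obtain ⟨u, hu⟩ := hu
    let pi := LinearMap.proj (R := PowerSeries k) (φ := fun _ : Fin 3 => PowerSeries k)
    let bco : (Fin 3 → PowerSeries k) →ₗ[PowerSeries k] PowerSeries k := ((u⁻¹ : (PowerSeries k)ˣ) : PowerSeries k) • (pi i - pi j)
    let cco : (Fin 3 → PowerSeries k) →ₗ[PowerSeries k] PowerSeries k := pi l - pi i + (f i - f l) • bco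
    let Φ := ((Ideal.span {t ^ m}).mkQ ∘ₗ bco).prod ((Ideal.span {t ^ n}).mkQ ∘ₗ cco)
    have hb : ∀ x, bco x = ((u⁻¹ : (PowerSeries k)ˣ) : PowerSeries k) * (x i - x j) := fun x => rfl
    have hc : ∀ x, cco x = x l - x i + (f i - f l) * bco x := fun x => rfl
    have hui : ((u⁻¹ : (PowerSeries k)ˣ) : PowerSeries k) * (f i - f j) = 1 := by rw [← hu]; exact u.inv_mul
    have hsurj : Function.Surjective Φ := by
      rintro ⟨β, γ⟩
      obtain ⟨β, rfl⟩ := Submodule.mkQ_surjective _ β
      obtain ⟨γ, rfl⟩ := Submodule.mkQ_surjective _ γ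
      refine ⟨β • f + Pi.single l γ, ?_⟩
      have e1 : bco (β • f + Pi.single l γ) = β := by
        rw [hb]
        simp only [Pi.add_apply, Pi.smul_apply, smul_eq_mul, Pi.single_eq_of_ne hil, Pi.single_eq_of_ne hjl, add_zero]
        linear_combination β * hui
      have e2 : cco (β • f + Pi.single l γ) = γ := by
        rw [hc, e1]
        simp only [Pi.add_apply, Pi.smul_apply, smul_eq_mul, Pi.single_eq_of_ne hil, Pi.single_eq_same]
        ring
      exact Prod.ext (congrArg (Submodule.mkQ (Ideal.span {t ^ m})) e1) (congrArg (Submodule.mkQ (Ideal.span {t ^ n})) e2)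
    have hker : LinearMap.ker Φ = S := by
      ext x
      rw [hmem]
      simp only [Φ, LinearMap.ker_prod, Submodule.mem_inf, LinearMap.mem_ker, LinearMap.comp_apply, Submodule.mkQ_apply, Submodule.Quotient.mk_eq_zero, Ideal.mem_span_singleton]
      constructor
      · rintro ⟨⟨β, hβ⟩, ⟨γ, hγ⟩⟩
        refine ⟨x i - bco x * f i, β, fun q => ?_⟩
        have hj : x j = x i - bco x * f i + bco x * f j := by
          linear_combination (f i - f j) * hb x + (x i - x j) * hui
        have hq : q = i ∨ q = j ∨ q = l := by omega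
        rcases hq with rfl | rfl | rfl
        · exact ⟨0, by linear_combination (f q) * hβ⟩
        · exact ⟨0, by linear_combination hj + (f q) * hβ⟩
        · exact ⟨γ, by linear_combination hγ + (f q) * hβ - hc x⟩
      · rintro ⟨a, b, h⟩
        obtain ⟨wi, hwi⟩ := h i
        obtain ⟨wj, hwj⟩ := h j
        obtain ⟨wl, hwl⟩ := h l
        obtain ⟨w, hw⟩ : t ^ m ∣ t ^ n := pow_dvd_pow _ hmn
        have hB : bco x = b * t ^ m + t ^ n * (((u⁻¹ : (PowerSeries k)ˣ) : PowerSeries k) * (wi - wj)) := by
          linear_combination hb x + ((u⁻¹ : (PowerSeries k)ˣ) : PowerSeries k) * hwi - ((u⁻¹ : (PowerSeries k)ˣ) : PowerSeries k) * hwj + b * t ^ m * hui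
        refine ⟨⟨b + w * (((u⁻¹ : (PowerSeries k)ˣ) : PowerSeries k) * (wi - wj)), ?_⟩, ⟨wl - wi + (f i - f l) * (((u⁻¹ : (PowerSeries k)ˣ) : PowerSeries k) * (wi - wj)), ?_⟩⟩
        · linear_combination hB + (((u⁻¹ : (PowerSeries k)ˣ) : PowerSeries k) * (wi - wj)) * hw
        · linear_combination hc x + hwl - hwi + (f i - f l) * hB
    exact ⟨(Submodule.quotEquivOfEq _ _ hker.symm).trans (Φ.quotKerEquivOfSurjective hsurj)⟩

end Groth.Agent.S13886
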