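import Groth.Statements.S13888
import Mathlib.CategoryTheory.Adjunction.Unique
-- import your own Groth.Agent.* helpers here

set_option autoImplicit false
universe u
open CategoryTheory CategoryTheory.Limits MonoidalCategory
attribute [local instance] HasDerivedCategory.standard
open DTen

namespace Groth.Agent.S13888

/-- For a commutative ring `A` (assuming the derived tensor product on `D(A)` with its triple version
exists, that its symmetry, unit and associativity maps are isomorphisms, and that every `- ⊗^L L`
has a right adjoint `RHom(L, -)`) and objects `K`, `L`, `M` of `D(A)`, the canonical morphism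
`RHom(K ⊗^L L, M) ⟶ RHom(K, RHom(L, M))`, namely the double adjunct of the associativity isomorphism
followed by evaluation at `K ⊗^L L`, is an isomorphism. (Functoriality in the three objects is built
into the construction; the identification on `H^0` with the hom bijection of the adjunction is not
part of this row.) -/
theorem result (A : Type u) [CommRing A] [DTen.HasLTen A] [DTen.HasLTen₃ A]
    [DTen.IsSymMonoidal A] [DTen.HasRHom A] (K L M : Dual.D A) :
    IsIso (DTen.curryHom K L M) := by
  have nat : ∀ {T T' : Dual.D A} (f : T ⟶ T'),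
      (DTen.tensorRightD A L).map ((DTen.tensorRightD A K).map f) ≫ (DTen.associator T' K L).hom =
      (DTen.associator T K L).hom ≫ (DTen.tensorRightD A ((DTen.LTen₂ A).obj (K, L))).map f := by
    intro T T' f
    rw [← cancel_mono ((DTen.assocR A).app (T', (K, L))), Category.assoc, Category.assoc,
      DTen.associator_hom_assocR]
    have hL := (DTen.assocL A).naturality (Prod.mkHom f (Prod.mkHom (𝟙 K) (𝟙 L)) : (T, (K, L)) ⟶ (T', (K, L)))
    have hR := (DTen.assocR A).naturality (Prod.mkHom f (Prod.mkHom (𝟙 K) (𝟙 L)) : (T, (K, L)) ⟶ (T', (K, L)))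
    have e : (DTen.LTen₂ A).map (Prod.mkHom (𝟙 K) (𝟙 L)) = 𝟙 ((DTen.LTen₂ A).obj (K, L)) :=
      (DTen.LTen₂ A).map_id _
    dsimp at hL hR ⊢
    rw [e] at hR
    refine hL.trans ?_
    rw [hR, DTen.associator_hom_assocR_assoc]
    rfl
  let e : DTen.tensorRightD A K ⋙ DTen.tensorRightD A L ≅
      DTen.tensorRightD A ((DTen.LTen₂ A).obj (K, L)) :=
    NatIso.ofComponents (fun T => DTen.associator T K L) nat
  let adj := ((DTen.rhomAdj A K).comp (DTen.rhomAdj A L)).ofNatIsoLeft e
  let r := Adjunction.rightAdjointUniq (DTen.rhomAdj A ((DTen.LTen₂ A).obj (K, L))) adj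
  have h : DTen.curryHom K L M = r.hom.app M := by
    apply (adj.homEquiv _ _).symm.injective
    rw [Adjunction.homEquiv_symm_rightAdjointUniq_hom_app]
    rw [Adjunction.homEquiv_counit]
    dsimp [adj, Adjunction.ofNatIsoLeft, Adjunction.comp]
    have hf := DTen.curryHom_fac K L M
    have hn := (nat (DTen.curryHom K L M))
    have hn' := e.inv.naturality (DTen.curryHom K L M)
    dsimp [e] at hn'
    refine ((Category.assoc _ _ _).symm.trans (congrArg (· ≫ _) hn')).trans ((Category.assoc _ _ _).trans ?_)
    dsimp [Adjunction.mk']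
    simp only [Category.id_comp, Category.comp_id]
    have hm : ∀ {X Y Z : Dual.D A} (a : X ⟶ Y) (b : Y ⟶ Z) (N : Dual.D A),
        (DTen.LTen₂ A).map (Prod.mkHom (a ≫ b) (𝟙 N)) =
          (DTen.LTen₂ A).map (Prod.mkHom a (𝟙 N)) ≫ (DTen.LTen₂ A).map (Prod.mkHom b (𝟙 N)) :=
      fun a b N => (DTen.tensorRightD A N).map_comp a b
    rw [hm, Category.assoc] at hf
    refine (congrArg (fun t => (DTen.associator _ K L).inv ≫ t) hf).trans ?_
    simp [DTen.curryHomAux, DTen.ev]
  rw [h]
  infer_instance

end Groth.Agent.S13888
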