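import Groth.Statements.S1389
import Mathlib

set_option autoImplicit false
universe u
open FlatMor

namespace Groth.Agent.S1389

open AlgebraicGeometry CategoryTheory Limits

open AlgebraicGeometry CategoryTheory Limits in
/-- Let (U, u) and (U', u') be étale neighbourhoods of a point s of S and h₁, h₂ two S-morphisms U → U'
sending u to u' which induce the same map of residue fields κ(u') → κ(u). Then there is an étale
neighbourhood (U'', u'') of s with an S-morphism h : U'' → U sending u'' to u and with h followed by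
h₁ equal to h followed by h₂. -/
theorem result {S U U' : Scheme.{u}} (s : S) (g : U ⟶ S) (g' : U' ⟶ S) [Etale g] [Etale g'] (u : U) (u' : U')
    (hu : g u = s) (hu' : g' u' = s) (h₁ h₂ : U ⟶ U') (w₁ : h₁ ≫ g' = g) (w₂ : h₂ ≫ g' = g) (e₁ : h₁ u = u') (e₂ : h₂ u = u')
    (hres : (U'.residueFieldCongr e₁).inv ≫ h₁.residueFieldMap u = (U'.residueFieldCongr e₂).inv ≫ h₂.residueFieldMap u) :
    ∃ (U'' : Scheme.{u}) (g'' : U'' ⟶ S) (u'' : U'') (h : U'' ⟶ U), Etale g'' ∧ g'' u'' = s ∧ h ≫ g = g'' ∧ h u'' = u ∧ h ≫ h₁ = h ≫ h₂ := by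
  subst e₁
  have key : U.fromSpecResidueField u ≫ h₁ = U.fromSpecResidueField u ≫ h₂ := by
    rw [← Scheme.Hom.SpecMap_residueFieldMap_fromSpecResidueField,
      ← Scheme.Hom.SpecMap_residueFieldMap_fromSpecResidueField]
    have h' : h₁.residueFieldMap u = (U'.residueFieldCongr e₂).inv ≫ h₂.residueFieldMap u := by simpa using hres
    rw [h', Spec.map_comp, Category.assoc, Scheme.residueFieldCongr_inv,
      Scheme.residueFieldCongr_fromSpecResidueField]
  let p : U ⟶ pullback g' g' := pullback.lift h₁ h₂ (w₁.trans w₂.symm)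
  let W : U.Opens := p ⁻¹ᵁ (pullback.diagonal g').opensRange
  have hu' : u ∈ W := by
    have hp : U.fromSpecResidueField u ≫ p = (U.fromSpecResidueField u ≫ h₁) ≫ pullback.diagonal g' := by
      refine pullback.hom_ext ?_ ?_
      · simp only [p, Category.assoc]
        erw [pullback.lift_fst, pullback.diagonal_fst, Category.comp_id]
      · simp only [p, Category.assoc]
        erw [pullback.lift_snd, pullback.diagonal_snd, Category.comp_id, key]
    refine ⟨h₁ u, ?_⟩
    obtain ⟨s⟩ : Nonempty (Spec (U.residueField u)) := inferInstance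
    have := congr($hp s)
    simp only [Scheme.Hom.comp_apply, Scheme.fromSpecResidueField_apply] at this
    exact this.symm
  let e := IsOpenImmersion.lift (pullback.diagonal g') (W.ι ≫ p) (by
    rintro _ ⟨w, rfl⟩
    exact w.2)
  have he : e ≫ pullback.diagonal g' = W.ι ≫ p := IsOpenImmersion.lift_fac _ _ _
  refine ⟨W, W.ι ≫ g, ⟨u, hu'⟩, W.ι, inferInstance, ?_, rfl, rfl, ?_⟩
  · simpa using hu
  · have a := congr($he ≫ pullback.fst g' g')
    have b := congr($he ≫ pullback.snd g' g')
    simp [p] at a b
    erw [pullback.lift_fst] at a; erw [pullback.lift_snd] at b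
    exact a.symm.trans b

end Groth.Agent.S1389
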