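import Groth.Statements.S13890
import Groth.Agent.Lib.KFlat.EvalHomPC
-- import your own Groth.Agent.* helpers here

set_option autoImplicit false
universe u
open CategoryTheory CategoryTheory.Limits MonoidalCategory
attribute [local instance] HasDerivedCategory.standard
open DTen

namespace Groth.Agent.S13890

/-- For a commutative ring `A` (assuming the derived tensor product on `D(A)` with its triple version
exists, that its symmetry, unit and associativity maps are isomorphisms, and that every `- ⊗^L L`
has a right adjoint `RHom(L, -)`) and objects `K`, `L`, `M` of `D(A)` with `K` pseudo-coherent, `L`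
in `D^+(A)` and `M` of finite injective dimension, the canonical evaluation morphism `RHom(L, M) ⊗^L
K ⟶ RHom(RHom(K, L), M)` is an isomorphism. -/
theorem result (A : Type u) [CommRing A] [DTen.HasLTen A] [DTen.HasLTen₃ A]
    [DTen.IsSymMonoidal A] [DTen.HasRHom A]
    (K L M : Dual.D A) (hK : DRing.IsPseudoCoherent' A K) (n : ℤ) (hL : DerivedCategory.IsGE L n)
    (hM : DRing.HasFiniteInjDim A M) :
    IsIso (DTen.evalHom K L M) := by
  exact Groth.Agent.KFlat.HomD.isIso_evalHom_of_isPseudoCoherent K L M hK n hL hM

end Groth.Agent.S13890
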