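import Groth.Statements.S13893
import Groth.Agent.Lib.KFlat.DTenBase
-- import your own Groth.Agent.* helpers here

set_option autoImplicit false
universe u
open CategoryTheory CategoryTheory.Limits MonoidalCategory
attribute [local instance] HasDerivedCategory.standard
open DTen

namespace Groth.Agent.S13893

/-- For a map of commutative rings `φ : R → A`, an object `E` of `D(R)` and an object `N` of `D(A)`, the
canonical comparison morphism `(E ⊗^L_R A) ⊗^L_A N ⟶ E ⊗^L_R N` — from derived base change followed
by the derived tensor product over `A` to the mixed derived tensor product, the unique morphism of
functors compatible with the counits — is an isomorphism. (The existence of the three derived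
functors, which the published statement also asserts, is assumed here as hypotheses; exactness of
the mixed functor is not part of this row.) -/
theorem result (R A : Type u) [CommRing R] [CommRing A] (φ : R →+* A) [DTen.HasLTen A]
    [DTen.HasLBase φ] [DTen.HasLTenMix φ] (E : Dual.D R) (N : Dual.D A) :
    IsIso ((DTen.split φ).app (E, N)) := by
  exact Groth.Agent.KFlat.DT.isIso_split_app φ E N

end Groth.Agent.S13893
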