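import Groth.Statements.S13901
import Groth.Agent.Lib.P1Fin13.Conn
import Mathlib.AlgebraicGeometry.Morphisms.QuasiFinite

set_option autoImplicit false
universe u
open P1Fin

set_option backward.isDefEq.respectTransparency false
set_option backward.isDefEq.respectTransparency.types false

namespace Groth.Agent.S13901

open AlgebraicGeometry CategoryTheory in
/-- Let S be a scheme with preconnected underlying space and f : X → P^1_S a finite, flat, locally
finitely presented morphism (finite locally free). Then f restricted to any connected component of X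
is surjective onto P^1_S. (The published statement allows an arbitrary base S; over a base with two
points and X a copy of the projective line over one of them, mapped identically into P^1_S, the
connected X misses the other fibre, so the base is taken connected here.) -/
theorem result (S X : Scheme.{u}) [PreconnectedSpace S]
    (f : X ⟶ CohB1.ProjSpaceOver 1 S) [IsFinite f] [Flat f] [LocallyOfFinitePresentation f]
    (x : X) (p : CohB1.ProjSpaceOver 1 S) : ∃ y ∈ connectedComponent x, f y = p := by
  haveI := P1Fin13.preconnectedSpace_line S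
  let Fp : Set X := f ⁻¹' {p}
  have hfin : Fp.Finite := f.finite_preimage_singleton p
  have himg : ∀ W : Set X, IsClopen W → W.Nonempty → ∃ y ∈ Fp, y ∈ W := fun W hW hne => by
    obtain ⟨y, hy, hyp⟩ :=
      ((isClopen_iff.1 (P1Fin13.isClopen_image f hW)).resolve_left (hne.image f).ne_empty).ge
        (Set.mem_univ p)
    exact ⟨y, hyp, hy⟩
  have hclop : {W : Set X | IsClopen W}.Finite := by
    refine Set.Finite.of_finite_image (f := fun W => W ∩ Fp)
      (hfin.finite_subsets.subset ?_) ?_
    · rintro _ ⟨W, -, rfl⟩
      exact Set.inter_subset_right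
    · intro W hW W' hW' he
      by_contra hne
      have key : ∀ A B : Set X, IsClopen A → IsClopen B → A ∩ Fp = B ∩ Fp → A ⊆ B := by
        intro A B hA hB hAB a ha
        by_contra hb
        obtain ⟨y, hy, hyW⟩ := himg _ (hA.inter hB.compl) ⟨a, ha, hb⟩
        exact hyW.2 (hAB.le ⟨hyW.1, hy⟩).1
      exact hne (le_antisymm (key W W' hW hW' he) (key W' W hW' hW he.symm))
  let C : Set X := ⋂₀ {W : Set X | IsClopen W ∧ x ∈ W}
  have hC : IsClopen C := by
    have hf' : {W : Set X | IsClopen W ∧ x ∈ W}.Finite := hclop.subset fun W h => h.1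
    exact ⟨isClosed_sInter fun W h => h.1.1, hf'.isOpen_sInter fun W h => h.1.2⟩
  have hxC : x ∈ C := Set.mem_sInter.2 fun W h => h.2
  have hmin : ∀ W : Set X, IsClopen W → x ∈ W → C ⊆ W := fun W hW hx =>
    Set.sInter_subset_of_mem ⟨hW, hx⟩
  have hconn : _root_.IsPreconnected C := by
    rw [isPreconnected_iff_subset_of_disjoint_closed]
    intro u v hu hv hCuv hdisj
    have hCu : IsClosed (C ∩ u) := hC.1.inter hu
    have hopen : IsOpen (C ∩ u) := by
      have he : C ∩ u = C ∩ vᶜ := by
        ext z
        refine ⟨fun hz => ⟨hz.1, fun hzv => ?_⟩, fun hz => ⟨hz.1, (hCuv hz.1).resolve_right hz.2⟩⟩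
        exact Set.eq_empty_iff_forall_notMem.1 hdisj z ⟨hz.1, hz.2, hzv⟩
      rw [he]
      exact hC.2.inter hv.isOpen_compl
    by_cases hxu : x ∈ u
    · exact Or.inl ((hmin _ ⟨hCu, hopen⟩ ⟨hxC, hxu⟩).trans Set.inter_subset_right)
    · refine Or.inr fun z hz => ?_
      by_contra hzv
      exact (hmin (C ∩ u)ᶜ (IsClopen.compl ⟨hCu, hopen⟩) (fun h => hxu h.2) hz) ⟨hz, (hCuv hz).resolve_right hzv⟩
  obtain ⟨y, hy, hyC⟩ := himg C hC ⟨x, hxC⟩
  exact ⟨y, hconn.subset_connectedComponent hxC hyC, hy⟩

end Groth.Agent.S13901
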