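import Groth.Statements.S13903
import Mathlib.FieldTheory.PrimitiveElement
import Mathlib.RingTheory.Artinian.Module
import Mathlib.FieldTheory.IsAlgClosed.AlgebraicClosure
import Mathlib.LinearAlgebra.FreeModule.Finite.Matrix

set_option autoImplicit false
universe u
open EtAlg

namespace Groth.Agent.S13903

/-- Let K be a field and L a finite-dimensional reduced commutative K-algebra of dimension d all of
whose elements are separable over K, generated as a K-algebra by z and t. In any finite set of at
least d^(4d) elements of K there is an element c such that c • z + t generates L as a K-algebra.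
(The published statement does not require separability; for K of characteristic p and L obtained by
adjoining p-th roots of two independent indeterminates, L is a reduced finite K-algebra generated by
two elements with no single generator, so separability over K is assumed here, as the counting in
the published proof requires.) -/
theorem result (K L : Type u) [Field K] [CommRing L]
    [Algebra K L] [Module.Finite K L] [IsReduced L] [Algebra.IsSeparable K L] (z t : L)
    (hgen : Algebra.adjoin K ({z, t} : Set L) = ⊤) (S : Finset K)
    (hS : Module.finrank K L ^ (4 * Module.finrank K L) ≤ S.card) :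
    ∃ c ∈ S, Algebra.adjoin K ({c • z + t} : Set L) = ⊤ := by
  classical
  set Ω := AlgebraicClosure K with hΩ
  set d := Module.finrank K L with hd
  have hArt : IsArtinianRing L := IsArtinianRing.of_finite K L
  have : Finite (L →ₐ[K] Ω) := inferInstance
  let e : L ≃ₐ[K] (∀ I : MaximalSpectrum L, L ⧸ I.asIdeal) := (IsArtinianRing.equivPi L).restrictScalars K
  have : Fintype (MaximalSpectrum L) := Fintype.ofFinite _
  have hge : d ≤ Nat.card (L →ₐ[K] Ω) := by
    let F : (Σ I : MaximalSpectrum L, (L ⧸ I.asIdeal) →ₐ[K] Ω) → (L →ₐ[K] Ω) :=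
      fun q => q.2.comp (Ideal.Quotient.mkₐ K q.1.asIdeal)
    have hFi : Function.Injective F := by
      rintro ⟨I, f⟩ ⟨J, g⟩ h
      letI := fun I : MaximalSpectrum L => Ideal.Quotient.field I.asIdeal
      have hker : ∀ (I : MaximalSpectrum L) (f : (L ⧸ I.asIdeal) →ₐ[K] Ω),
          RingHom.ker (F ⟨I, f⟩).toRingHom = I.asIdeal := by
        intro I f
        ext x
        show f (Ideal.Quotient.mk I.asIdeal x) = 0 ↔ _
        rw [map_eq_zero_iff f f.toRingHom.injective, Ideal.Quotient.eq_zero_iff_mem]
      have hIJ : I = J := MaximalSpectrum.ext (by rw [← hker I f, ← hker J g, h])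
      subst hIJ
      exact congrArg (Sigma.mk I) (Ideal.Quotient.algHom_ext K h)
    refine le_trans ?_ (Nat.card_le_card_of_injective F hFi)
    rw [Nat.card_sigma, hd, LinearEquiv.finrank_eq e.toLinearEquiv, Module.finrank_pi_fintype]
    refine le_of_eq (Finset.sum_congr rfl fun I _ => ?_)
    letI := Ideal.Quotient.field I.asIdeal
    have : Algebra.IsSeparable K (L ⧸ I.asIdeal) := ⟨fun z => by
      obtain ⟨y, rfl⟩ := Ideal.Quotient.mk_surjective z
      refine (Algebra.IsSeparable.isSeparable K y).of_dvd (minpoly.dvd K _ ?_)
      rw [show Ideal.Quotient.mk I.asIdeal y = Ideal.Quotient.mkₐ K I.asIdeal y from rfl, Polynomial.aeval_algHom_apply,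
        minpoly.aeval, map_zero]⟩
    have : FiniteDimensional K (L ⧸ I.asIdeal) := Module.Finite.of_surjective (Ideal.Quotient.mkₐ K I.asIdeal).toLinearMap Ideal.Quotient.mk_surjective
    exact (AlgHom.natCard_of_splits K (L ⧸ I.asIdeal) Ω fun _ => IsAlgClosed.splits _).symm
  have hle : Nat.card (L →ₐ[K] Ω) ≤ d := card_algHom_le_finrank K L Ω
  have : Fintype (L →ₐ[K] Ω) := Fintype.ofFinite _
  let bad : (L →ₐ[K] Ω) × (L →ₐ[K] Ω) → Finset K := fun q =>
    if q.1 = q.2 then ∅ else S.filter fun c => q.1 (c • z + t) = q.2 (c • z + t)
  have hbad : ∀ q, (bad q).card ≤ 1 := by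
    intro q
    simp only [bad]
    split
    · simp
    · next hne =>
      refine Finset.card_le_one.2 fun a ha b hb => ?_
      rw [Finset.mem_filter, map_add, map_add, map_smul, map_smul] at ha hb
      by_contra hab
      apply hne
      have h1 : (a - b) • (q.1 z - q.2 z) = 0 := by
        rw [sub_smul, smul_sub, smul_sub]; linear_combination ha.2 - hb.2
      have hz : q.1 z = q.2 z := sub_eq_zero.1 ((smul_eq_zero.1 h1).resolve_left (sub_ne_zero.2 hab))
      have htt : q.1 t = q.2 t := by
        have := ha.2; rw [hz] at this; exact add_left_cancel this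
      refine AlgHom.ext_of_adjoin_eq_top hgen ?_
      intro x hx
      rcases hx with rfl | rfl
      exacts [hz, htt]
  obtain ⟨c, hc, hcb⟩ : ∃ c ∈ S, c ∉ Finset.univ.biUnion bad := by
    by_contra! hall
    rcases Nat.lt_or_ge d 2 with h2 | h2
    · have hempty : Finset.univ.biUnion bad = ∅ := by
        have : Subsingleton (L →ₐ[K] Ω) := (Finite.card_le_one_iff_subsingleton).1 (by omega)
        ext c; simp [bad, Subsingleton.elim]
      have hpos : 0 < S.card := lt_of_lt_of_le (by
        rcases Nat.eq_zero_or_pos d with h | h
        · rw [h]; norm_num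
        · exact pow_pos h _) hS
      obtain ⟨c, hc⟩ := Finset.card_pos.1 hpos
      have := hall c hc
      rw [hempty] at this
      exact Finset.notMem_empty c this
    · have h1 : S.card ≤ (Finset.univ.biUnion bad).card := Finset.card_le_card hall
      have h3 : (Finset.univ.biUnion bad).card ≤ d ^ 2 := by
        refine (Finset.card_biUnion_le_card_mul _ _ 1 fun q _ => hbad q).trans ?_
        rw [mul_one, Finset.card_univ, Fintype.card_prod, ← Nat.card_eq_fintype_card, sq]
        exact Nat.mul_le_mul hle hle
      have h4 : d ^ 2 < d ^ (4 * d) := Nat.pow_lt_pow_right h2 (by omega)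
      omega
  refine ⟨c, hc, ?_⟩
  set S' := Algebra.adjoin K ({c • z + t} : Set L)
  have hinj : Function.Injective fun f : L →ₐ[K] Ω => f.comp S'.val := by
    intro f g h
    by_contra hne
    apply hcb
    refine Finset.mem_biUnion.2 ⟨(f, g), Finset.mem_univ _, ?_⟩
    simp only [bad, if_neg hne, Finset.mem_filter]
    exact ⟨hc, DFunLike.congr_fun h ⟨c • z + t, Algebra.self_mem_adjoin_singleton _ _⟩⟩
  have h5 : d ≤ Module.finrank K S' :=
    hge.trans ((Nat.card_le_card_of_injective _ hinj).trans (card_algHom_le_finrank K S' Ω))
  have h6 : Subalgebra.toSubmodule S' = ⊤ :=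
    Submodule.eq_top_of_finrank_eq (le_antisymm (Submodule.finrank_le _) h5)
  exact Algebra.toSubmodule_eq_top.1 h6

end Groth.Agent.S13903
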