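import Groth.Statements.S13904
import Groth.Agent.Lib.VarDim.Alg

set_option autoImplicit false
universe u
open CAlg

namespace Groth.Agent.S13904


theorem dim_add_one_le (P B : Type u) [CommRing P] [IsDomain P] [CommRing B] [Algebra P B]
    [Algebra.IsIntegral P B] {f : P} (hf : algebraMap P B f = 0) (hf0 : f ≠ 0) :
    ringKrullDim B + 1 ≤ ringKrullDim P := by
  let K : Ideal P := RingHom.ker (algebraMap P B)
  let g : P ⧸ K →+* B := RingHom.kerLift (algebraMap P B)
  letI := g.toAlgebra
  haveI : IsScalarTower P (P ⧸ K) B := IsScalarTower.of_algebraMap_eq' rfl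
  haveI : Algebra.IsIntegral (P ⧸ K) B :=
    ⟨fun x => (Algebra.IsIntegral.isIntegral (R := P) x).tower_top⟩
  rw [Groth.Agent.VarDim.ringKrullDim_eq_of_isIntegral (R := P ⧸ K) (S := B) (RingHom.kerLift_injective _)]
  exact (add_le_add (ringKrullDim_le_of_surjective
    (Ideal.Quotient.factor ((Ideal.span_singleton_le_iff_mem _).2 (show f ∈ K from hf)))
    (Ideal.Quotient.factor_surjective _)) le_rfl).trans
    (ringKrullDim_quotient_succ_le_of_nonZeroDivisor (mem_nonZeroDivisors_of_ne_zero hf0))



/-- Let k be a field, A a commutative k-algebra and φ : k[x_1, …, x_r] → A a finite k-algebra map such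
that A/p has Krull dimension r for every minimal prime p of A (an equidimensional affine scheme of
dimension r, finite over affine r-space). Then for every minimal prime p of A and every prime q of
k[x_1, …, x_r] there is a prime P ⊇ p of A with φ⁻¹(P) = q: the finite map restricted to each
irreducible component of Spec A is surjective onto affine r-space. (The published statement is over
an algebraically closed field with φ a Noether normalisation; this row allows any field and any
finite k-algebra map φ.) -/
theorem result (k : Type u) [Field k] (r : ℕ)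
    (A : Type u) [CommRing A] [Algebra k A] (φ : MvPolynomial (Fin r) k →ₐ[k] A)
    (hφ : φ.toRingHom.Finite)
    (hdim : ∀ p ∈ minimalPrimes A, ringKrullDim (A ⧸ p) = r)
    (p : Ideal A) (hp : p ∈ minimalPrimes A)
    (q : Ideal (MvPolynomial (Fin r) k)) [q.IsPrime] :
    ∃ P : Ideal A, P.IsPrime ∧ p ≤ P ∧ P.comap φ.toRingHom = q := by
  letI := φ.toRingHom.toAlgebra
  haveI : Module.Finite (MvPolynomial (Fin r) k) A := hφ
  haveI := hp.1.1
  have hcomap : p.comap (algebraMap (MvPolynomial (Fin r) k) A) ≤ q := by
    intro a ha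
    by_contra h
    have h0 : a ≠ 0 := fun h0 => h (h0 ▸ q.zero_mem)
    have h4 := dim_add_one_le (MvPolynomial (Fin r) k) (A ⧸ p) (f := a)
      (Ideal.Quotient.eq_zero_iff_mem.2 ha) h0
    rw [Groth.Agent.VarDim.ringKrullDim_mvPolynomial, hdim p hp] at h4
    have h5 : ((r + 1 : ℕ) : WithBot ℕ∞) ≤ ((r : ℕ) : WithBot ℕ∞) := by push_cast; exact h4
    have : r + 1 ≤ r := by exact_mod_cast h5
    omega
  obtain ⟨P, hP, hPp, hPq⟩ := Ideal.exists_ideal_over_prime_of_isIntegral q p hcomap
  exact ⟨P, hPp, hP, hPq⟩

end Groth.Agent.S13904
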