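import Groth.Statements.S13905
import Mathlib

set_option autoImplicit false
universe u
open ProjGeom

namespace Groth.Agent.S13905

open W4c1etcurveeff3b in
/-- Hyperplanes of projective n-space in general position, in linear-algebra form (V of dimension n + 1
over a field k, hyperplanes as n-dimensional subspaces, points as nonzero vectors): if S is a finite
set of hyperplanes in general position with at least n members and H is a hyperplane containing none
of the lines cut out by n members of S, then S with H added is again in general position. (The
published statement is for hyperplanes of P^n_k and closed points; a closed point lying on n + 1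
members is automatically one of the rational points cut out by n of them, so the condition on
nonzero vectors of V is the same condition.) -/
theorem result (k V : Type u) [Field k]
    [AddCommGroup V] [Module k V] [DecidableEq (Submodule k V)] (n : ℕ) (S : Finset (Submodule k V))
    (hS : InGeneralPosition k V n S) (hn : n ≤ S.card) (H : Submodule k V)
    (hH : Module.finrank k H = n)
    (havoid : ∀ T ⊆ S, T.card = n → ¬ (T.inf id ≤ H)) :
    InGeneralPosition k V n (insert H S) := by
  classical
  obtain ⟨hV, h1, h2, h3⟩ := hS
  haveI : FiniteDimensional k V := Module.finite_of_finrank_pos (by omega)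
  refine ⟨hV, fun K hK => ?_, fun T hT hcard => ?_, fun v hv T hT hmem => ?_⟩
  · rcases Finset.mem_insert.1 hK with rfl | hK
    exacts [hH, h1 K hK]
  · by_cases hHT : H ∈ T
    swap
    · exact h2 T (fun K hK => (Finset.mem_insert.1 (hT hK)).resolve_left (fun e => hHT (e ▸ hK))) hcard
    have hT' : T.erase H ⊆ S := fun K hK =>
      (Finset.mem_insert.1 (hT (Finset.mem_of_mem_erase hK))).resolve_left (Finset.ne_of_mem_erase hK)
    have hc : (T.erase H).card = T.card - 1 := Finset.card_erase_of_mem hHT
    have hpos : 0 < T.card := Finset.card_pos.2 ⟨H, hHT⟩
    obtain ⟨U, hTU, hUS, hU⟩ := Finset.exists_subsuperset_card_eq hT' (show (T.erase H).card ≤ n by omega) hn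
    have hnle : ¬ (T.erase H).inf id ≤ H := fun hle => havoid U hUS hU (le_trans (Finset.inf_mono hTU) hle)
    rw [← Finset.insert_erase hHT, Finset.inf_insert, id_eq, Finset.card_insert_of_notMem (Finset.notMem_erase _ _)]
    have hW := h2 _ hT' (by omega)
    set W := (T.erase H).inf id
    have hsum := Submodule.finrank_sup_add_finrank_inf_eq H W
    have htop : n + 1 = Module.finrank k (H ⊔ W : Submodule k V) := by
      have hlt : H < H ⊔ W := lt_of_le_of_ne le_sup_left fun e => hnle (e ▸ le_sup_right)
      have := Submodule.finrank_lt_finrank_of_lt hlt
      have := Submodule.finrank_le (H ⊔ W)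
      omega
    change Module.finrank k (H ⊓ W : Submodule k V) = _
    omega
  · by_cases hHT : H ∈ T
    swap
    · exact h3 v hv T (fun K hK => (Finset.mem_insert.1 (hT hK)).resolve_left (fun e => hHT (e ▸ hK))) hmem
    by_contra hlt
    have hT' : T.erase H ⊆ S := fun K hK =>
      (Finset.mem_insert.1 (hT (Finset.mem_of_mem_erase hK))).resolve_left (Finset.ne_of_mem_erase hK)
    have hc : (T.erase H).card = T.card - 1 := Finset.card_erase_of_mem hHT
    obtain ⟨U, hUT, hU⟩ := Finset.exists_subset_card_eq (show n ≤ (T.erase H).card by omega)
    have hvU : Submodule.span k {v} ≤ U.inf id := Finset.le_inf fun K hK =>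
      (Submodule.span_singleton_le_iff_mem v K).2 (hmem K (Finset.mem_of_mem_erase (hUT hK)))
    have heq := Submodule.eq_of_le_of_finrank_eq hvU (by
      rw [finrank_span_singleton hv, h2 U (hUT.trans hT') hU.le, hU]; omega)
    exact havoid U (hUT.trans hT') hU (heq ▸ (Submodule.span_singleton_le_iff_mem v H).2 (hmem H hHT))

end Groth.Agent.S13905
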