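import Groth.Statements.S13907
import Groth.Agent.Lib.CoordSec13.Basic

set_option autoImplicit false
universe u
open ProjGeom

set_option backward.isDefEq.respectTransparency false
set_option backward.isDefEq.respectTransparency.types false

namespace Groth.Agent.S13907

/-- Over an algebraically closed field k, let C be a nonempty irreducible closed subset of the
underlying space of projective n-space with homogeneous coordinates x_0, …, x_n, and for i ≤ n let
L_i be the linear subspace where x_1, …, x_i vanish. Then there is an index i ≤ n with C ∩ L_i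
nonempty and of topological Krull dimension zero. -/
theorem result (k : Type u) [Field k]
    [IsAlgClosed k] (n : ℕ) (C : Set (ProjectiveSpectrum (CohB1.polyGrading n k)))
    (hC : IsClosed C) (hirr : IsIrreducible C) :
    ∃ i : ℕ, i ≤ n ∧
      (C ∩ ProjectiveSpectrum.zeroLocus (CohB1.polyGrading n k)
          ((fun j : Fin (n + 1) => (MvPolynomial.X j : MvPolynomial (Fin (n + 1)) k)) ''
            {j : Fin (n + 1) | 1 ≤ j.val ∧ j.val ≤ i})).Nonempty ∧
      topologicalKrullDim ↥(C ∩ ProjectiveSpectrum.zeroLocus (CohB1.polyGrading n k)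
          ((fun j : Fin (n + 1) => (MvPolynomial.X j : MvPolynomial (Fin (n + 1)) k)) ''
            {j : Fin (n + 1) | 1 ≤ j.val ∧ j.val ≤ i})) = 0 := by
  obtain ⟨i, hi, hne, hd⟩ := Groth.Agent.CoordSec13.exists_dim_zero (C : Set (CohB1.ProjSpace n k)) hC hirr.nonempty
  have e : ∀ i, {x : CohB1.ProjSpace n k | ∀ j : Fin (n + 1), 1 ≤ j.val → j.val ≤ i →
      MvPolynomial.X j ∈ x.asHomogeneousIdeal} = ProjectiveSpectrum.zeroLocus (CohB1.polyGrading n k)
        ((fun j : Fin (n + 1) => (MvPolynomial.X j : MvPolynomial (Fin (n + 1)) k)) ''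
          {j : Fin (n + 1) | 1 ≤ j.val ∧ j.val ≤ i}) := fun i => by
    ext x
    rw [Set.mem_setOf_eq, ProjectiveSpectrum.mem_zeroLocus]
    constructor
    · rintro h _ ⟨j, hj, rfl⟩
      exact h j hj.1 hj.2
    · exact fun h j h1 h2 => h ⟨j, ⟨h1, h2⟩, rfl⟩
  rw [e i] at hne hd
  exact ⟨i, hi, hne, hd⟩

end Groth.Agent.S13907
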