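import Groth.Statements.S13911
import Mathlib.LinearAlgebra.QuadraticForm.Basic
import Mathlib.LinearAlgebra.Matrix.BilinearForm
import Mathlib.RingTheory.MvPolynomial.EulerIdentity
import Mathlib.Algebra.MvPolynomial.NoZeroDivisors
import Mathlib.Tactic.LinearCombination
import Mathlib.Tactic.FinCases

set_option autoImplicit false
universe u
open PlaneConic

namespace Groth.Agent.S13911

/-- For an algebraically closed field k of characteristic zero, a nonzero symmetric 3 × 3 matrix Q over
k and the ternary quadratic form f = Σ Q_ij X_i X_j in k[X_0, X_1, X_2] (the equation of a plane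
conic): (1) f is irreducible iff det Q ≠ 0; (2) the conic has a singular point, that is a nonzero
vector at which all partial derivatives of f vanish, iff det Q = 0 (so smooth conics are exactly the
irreducible ones); (3) f is the product of two linearly independent linear forms (two distinct
lines) iff rank Q = 2; (4) f is the square of a linear form (a double line) iff rank Q = 1. -/
theorem result (k : Type u) [Field k] [IsAlgClosed k] [CharZero k]
    (Q : Matrix (Fin 3) (Fin 3) k) (hQ : Q.IsSymm) (hQ0 : Q ≠ 0) (f : MvPolynomial (Fin 3) k)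
    (hf : f = ∑ i : Fin 3, ∑ j : Fin 3, Q i j • (MvPolynomial.X i * MvPolynomial.X j)) :
    (Irreducible f ↔ Q.det ≠ 0) ∧
    ((∃ u : Fin 3 → k, u ≠ 0 ∧ ∀ i : Fin 3, MvPolynomial.eval u (MvPolynomial.pderiv i f) = 0) ↔ Q.det = 0) ∧
    ((∃ a b : Fin 3 → k, LinearIndependent k ![a, b] ∧
        f = (∑ i : Fin 3, a i • MvPolynomial.X i) * (∑ i : Fin 3, b i • MvPolynomial.X i)) ↔ Q.rank = 2) ∧
    ((∃ a : Fin 3 → k, f = (∑ i : Fin 3, a i • MvPolynomial.X i) ^ 2) ↔ Q.rank = 1) := by
  classical
  have h2 : (2 : k) ≠ 0 := two_ne_zero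
  haveI : Invertible (2 : k) := invertibleOfNonzero h2
  have hsym : ∀ i j, Q i j = Q j i := fun i j => (hQ.apply i j).symm
  -- derivatives of f
  have hd1 : ∀ i, MvPolynomial.pderiv i f = ∑ j, MvPolynomial.C (2 * Q i j) * MvPolynomial.X j := by
    intro i
    rw [hf]
    simp only [map_sum, Derivation.map_smul, Derivation.leibniz, MvPolynomial.pderiv_X, smul_eq_mul,
      MvPolynomial.smul_eq_C_mul, Fin.sum_univ_three]
    fin_cases i <;> simp [Pi.single_apply] <;>
      simp only [hsym 1 0, hsym 2 0, hsym 2 1, show (MvPolynomial.C (2 : k) : MvPolynomial (Fin 3) k) = 2 from map_ofNat _ 2] <;> ring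
  have hev : ∀ u i, MvPolynomial.eval u (MvPolynomial.pderiv i f) = 2 * (Q.mulVec u) i := fun u i => by
    rw [hd1, map_sum, Matrix.mulVec, dotProduct, Finset.mul_sum]
    exact Finset.sum_congr rfl fun j _ => by simp [mul_assoc]
  have hd2 : ∀ i j, MvPolynomial.pderiv j (MvPolynomial.pderiv i f) = MvPolynomial.C (2 * Q i j) := by
    intro i j
    rw [hd1, map_sum, Finset.sum_eq_single j]
    · simp [Derivation.leibniz]
    · intro b _ hb; simp [Derivation.leibniz, MvPolynomial.pderiv_X_of_ne hb]
    · simp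
  -- a product of two polynomials of degree ≤ 1
  have hprod : ∀ (g h : MvPolynomial (Fin 3) k) (a b : Fin 3 → k),
      (∀ i, MvPolynomial.pderiv i g = MvPolynomial.C (a i)) →
      (∀ i, MvPolynomial.pderiv i h = MvPolynomial.C (b i)) → f = g * h →
      ∀ i j, 2 * Q i j = a i * b j + a j * b i := by
    intro g h a b hg hh hfgh i j
    have := hd2 i j
    rw [hfgh, Derivation.leibniz, map_add, smul_eq_mul, smul_eq_mul, Derivation.leibniz,
      Derivation.leibniz, hg, hh] at this
    simp only [MvPolynomial.pderiv_C, smul_eq_mul, mul_zero, zero_add, add_zero, hg, hh, ← map_mul,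
      ← map_add] at this
    rw [← MvPolynomial.C_injective _ _ this]; ring
  have hlin : ∀ a : Fin 3 → k, ∀ i,
      MvPolynomial.pderiv i (∑ j, a j • MvPolynomial.X j : MvPolynomial (Fin 3) k) = MvPolynomial.C (a i) := by
    intro a i
    simp only [map_sum, Derivation.map_smul, Fin.sum_univ_three]
    fin_cases i <;> simp [Pi.single_apply, MvPolynomial.smul_eq_C_mul]
  have hnu : ∀ a : Fin 3 → k, ¬ IsUnit (∑ j, a j • MvPolynomial.X j : MvPolynomial (Fin 3) k) := by
    intro a h
    have := h.map (MvPolynomial.constantCoeff (σ := Fin 3) (R := k))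
    simp [MvPolynomial.smul_eq_C_mul] at this
  have hdet0 : ∀ a b : Fin 3 → k, (∀ i j, 2 * Q i j = a i * b j + a j * b i) → Q.det = 0 := by
    intro a b h
    have h' : (2 : k) ^ 3 * Q.det = 0 := by
      have e : (2 : k) • Q = Matrix.of fun i j => a i * b j + a j * b i := by
        ext i j; simpa using h i j
      rw [show (2 : k) ^ 3 * Q.det = ((2 : k) • Q).det by simp [Matrix.det_smul], e, Matrix.det_fin_three]
      simp only [Matrix.of_apply]; ring
    simpa [h2] using h'
  -- diagonalisation
  obtain ⟨v0, hv0⟩ := LinearMap.BilinForm.exists_orthogonal_basis (B := Matrix.toBilin' Q)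
    ⟨fun x y => by
      rw [RingHom.id_apply, Matrix.toBilin'_apply', Matrix.toBilin'_apply', Matrix.dotProduct_mulVec,
        ← Matrix.mulVec_transpose, hQ.eq, dotProduct_comm]⟩
  let v := v0.reindex (finCongr (Module.finrank_fin_fun (R := k) (n := 3)))
  let d : Fin 3 → k := fun i => Matrix.toBilin' Q (v i) (v i)
  let V : Matrix (Fin 3) (Fin 3) k := (Pi.basisFun k (Fin 3)).toMatrix v
  have hVDV : V.transpose * Q * V = Matrix.diagonal d := by
    ext i j
    have : (V.transpose * Q * V) i j = Matrix.toBilin' Q (v i) (v j) := by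
      simp only [Matrix.toBilin'_apply, Matrix.mul_apply, Matrix.transpose_apply, V,
        Module.Basis.toMatrix_apply, Pi.basisFun_repr, Finset.sum_mul]
      rw [Finset.sum_comm]
    rw [this]
    rcases eq_or_ne i j with rfl | hij
    · rw [Matrix.diagonal_apply_eq]
    · rw [Matrix.diagonal_apply_ne _ hij]
      simpa [v] using hv0 (fun h => hij ((finCongr (Module.finrank_fin_fun (R := k) (n := 3))).symm.injective h))
  have hVu : IsUnit V.det := by
    haveI := (Pi.basisFun k (Fin 3)).invertibleToMatrix v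
    exact Matrix.isUnit_det_of_invertible _
  let P := V⁻¹
  have hQP : Q = P.transpose * Matrix.diagonal d * P := by
    rw [← hVDV, Matrix.transpose_nonsing_inv]
    have hVt : IsUnit V.transpose.det := by rwa [Matrix.det_transpose]
    rw [← Matrix.mul_assoc, ← Matrix.mul_assoc, Matrix.nonsing_inv_mul _ hVt, Matrix.one_mul,
      Matrix.mul_assoc, Matrix.mul_nonsing_inv _ hVu, Matrix.mul_one]
  have hrank : Q.rank = Fintype.card {i // d i ≠ 0} := by
    rw [← Matrix.rank_diagonal d, ← hVDV, Matrix.rank_mul_eq_left_of_isUnit_det _ _ hVu,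
      Matrix.rank_mul_eq_right_of_isUnit_det _ _ (by rwa [Matrix.det_transpose])]
  choose s hs using fun i => IsAlgClosed.exists_pow_nat_eq (d i) (n := 2) (by norm_num)
  let r : Fin 3 → Fin 3 → k := fun l i => s l * P l i
  have hQr : ∀ i j, Q i j = ∑ l, r l i * r l j := fun i j => by
    rw [hQP, Matrix.mul_apply]
    refine Finset.sum_congr rfl fun l _ => ?_
    rw [Matrix.mul_diagonal, Matrix.transpose_apply]
    simp only [r, ← hs l]; ring
  have hfl : f = ∑ l, (∑ i, r l i • MvPolynomial.X i) ^ 2 := by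
    rw [hf]
    simp only [hQr, Fin.sum_univ_three, MvPolynomial.smul_eq_C_mul, map_add, map_mul]
    ring
  obtain ⟨im, him⟩ := IsAlgClosed.exists_pow_nat_eq (-1 : k) (n := 2) (by norm_num)
  have him0 : im ≠ 0 := by rintro rfl; norm_num at him
  -- one zero eigenvalue: two lines or one
  have htwo : ∀ l0 l1 l2, (∀ g : Fin 3 → MvPolynomial (Fin 3) k, ∑ l, g l = g l0 + g l1 + g l2) →
      d l0 = 0 → f = (∑ i, (r l1 i + im * r l2 i) • MvPolynomial.X i) *
        (∑ i, (r l1 i - im * r l2 i) • MvPolynomial.X i) := by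
    intro l0 l1 l2 hsum h0
    have hs0 : s l0 = 0 := by
      have := hs l0; rw [h0] at this; exact pow_eq_zero_iff two_ne_zero |>.mp this
    rw [hfl, hsum]
    have hi : (MvPolynomial.C (im ^ 2) : MvPolynomial (Fin 3) k) = -1 := by rw [him]; simp
    rw [map_pow] at hi
    simp only [r, hs0, zero_mul, zero_smul, Finset.sum_const_zero, MvPolynomial.smul_eq_C_mul,
      map_add, map_sub, map_mul, Fin.sum_univ_three, map_zero]
    linear_combination (MvPolynomial.C (s l2) * MvPolynomial.C (P l2 0) * MvPolynomial.X 0 +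
      MvPolynomial.C (s l2) * MvPolynomial.C (P l2 1) * MvPolynomial.X 1 +
      MvPolynomial.C (s l2) * MvPolynomial.C (P l2 2) * MvPolynomial.X 2) ^ 2 * hi
  have hPli : ∀ l1 l2 : Fin 3, l1 ≠ l2 → s l1 ≠ 0 → s l2 ≠ 0 →
      LinearIndependent k ![fun i => r l1 i + im * r l2 i, fun i => r l1 i - im * r l2 i] := by
    intro l1 l2 hne h1 h2'
    have hP : LinearIndependent k P.row := Matrix.linearIndependent_rows_of_isUnit
      ((Matrix.isUnit_iff_isUnit_det _).mpr (Matrix.isUnit_nonsing_inv_det _ hVu))
    refine LinearIndependent.pair_iff.mpr fun x y hxy => ?_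
    have h3 := Fintype.linearIndependent_iff.mp hP
      (fun l => if l = l1 then (x + y) * s l1 else if l = l2 then (x - y) * im * s l2 else 0) (by
        funext i
        have := congrFun hxy i
        simp only [Pi.add_apply, Pi.smul_apply, smul_eq_mul, Pi.zero_apply] at this
        rw [Finset.sum_apply, Pi.zero_apply]
        refine Eq.trans ?_ this
        rw [Finset.sum_eq_add_of_mem l1 l2 (Finset.mem_univ _) (Finset.mem_univ _) hne
          (fun c _ hc => by rw [if_neg hc.1, if_neg hc.2, zero_smul]; rfl)]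
        simp only [Pi.smul_apply, smul_eq_mul, if_pos, if_neg hne.symm, Matrix.row, r]
        ring)
    have e1 := h3 l1
    have e2 := h3 l2
    rw [if_pos rfl] at e1
    rw [if_neg hne.symm, if_pos rfl] at e2
    have f1 : x + y = 0 := (mul_eq_zero.mp e1).resolve_right h1
    have f2 : x - y = 0 := by simpa [him0, h2'] using e2
    exact ⟨by linear_combination (f1 + f2) / 2, by linear_combination (f1 - f2) / 2⟩
  have hdetd : Q.det = 0 → ∃ l0, d l0 = 0 := fun h => by
    have := congrArg Matrix.det hVDV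
    rw [Matrix.det_mul, Matrix.det_mul, h, mul_zero, zero_mul, Matrix.det_diagonal] at this
    simpa [Finset.prod_eq_zero_iff] using this.symm
  have hsum3 : ∀ l0 : Fin 3, ∃ l1 l2, l1 ≠ l0 ∧ l2 ≠ l0 ∧ l1 ≠ l2 ∧ (∀ i, i = l0 ∨ i = l1 ∨ i = l2) ∧
      ∀ g : Fin 3 → MvPolynomial (Fin 3) k, ∑ l, g l = g l0 + g l1 + g l2 := by
    intro l0; fin_cases l0
    · exact ⟨1, 2, by decide, by decide, by decide, by decide, fun g => by simp [Fin.sum_univ_three]⟩
    · exact ⟨0, 2, by decide, by decide, by decide, by decide, fun g => by simp [Fin.sum_univ_three]; ring⟩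
    · exact ⟨0, 1, by decide, by decide, by decide, by decide, fun g => by simp [Fin.sum_univ_three]; ring⟩
  have hs0iff : ∀ l, s l = 0 ↔ d l = 0 := fun l => by rw [← hs l, pow_eq_zero_iff two_ne_zero]
  -- f = g * h with g, h linear forms of given kind: the rank
  have hrk2 : ∀ a b : Fin 3 → k, LinearIndependent k ![a, b] →
      (∀ i j, 2 * Q i j = a i * b j + a j * b i) → 2 ≤ Q.rank := by
    intro a b hab h
    by_contra hlt
    have hle : Fintype.card {i // d i ≠ 0} ≤ 1 := by omega
    -- Q = c • w wᵀ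
    obtain ⟨w, hw⟩ : ∃ w : Fin 3 → k, ∀ i j, Q i j = w i * w j := by
      by_cases hex : ∃ l, d l ≠ 0
      · obtain ⟨l, hl⟩ := hex
        refine ⟨r l, fun i j => ?_⟩
        rw [hQr, Finset.sum_eq_single l (fun c _ hc => ?_) (by simp)]
        have : d c = 0 := by
          by_contra hc0
          exact hc (congrArg Subtype.val (Fintype.card_le_one_iff.mp hle ⟨c, hc0⟩ ⟨l, hl⟩))
        simp [r, (hs0iff c).mpr this]
      · push Not at hex
        exact ⟨0, fun i j => by
          simp [hQr, r, fun l => (hs0iff l).mpr (hex l)]⟩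
    -- the 2 × 2 minors of a bᵀ + b aᵀ are -(a_i b_j - a_j b_i)^2
    have hminor : ∀ i j, a i * b j = a j * b i := fun i j => by
      have e1 := h i i; have e2 := h j j; have e3 := h i j
      rw [hw] at e1 e2 e3
      have : (a i * b j - a j * b i) ^ 2 = 0 := by
        linear_combination -(2 * (w i * w j) + a i * b j + a j * b i) * e3 +
          (2 * (w j * w j)) * e1 + (a i * b i + a i * b i) * e2
      linear_combination (pow_eq_zero_iff two_ne_zero).mp this
    obtain ⟨i0, hi0⟩ := Function.ne_iff.mp (show a ≠ 0 from hab.ne_zero 0)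
    have := (LinearIndependent.pair_iff.mp hab (b i0) (-(a i0)) (funext fun j => by
      simp only [Pi.add_apply, Pi.smul_apply, smul_eq_mul, Pi.zero_apply]
      linear_combination -hminor i0 j)).2
    exact hi0 (neg_eq_zero.mp this)
  have hrk3 : Q.det ≠ 0 → Q.rank = 3 := fun h =>
    (Matrix.rank_of_isUnit Q ((Matrix.isUnit_iff_isUnit_det Q).mpr (isUnit_iff_ne_zero.mpr h))).trans (by simp)
  refine ⟨⟨fun hirr hdet => ?_, fun hdet => ?_⟩, ?_, ⟨?_, fun hr => ?_⟩, ⟨?_, fun hr => ?_⟩⟩
  · obtain ⟨l0, hl0⟩ := hdetd hdet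
    obtain ⟨l1, l2, -, -, -, -, hsum⟩ := hsum3 l0
    rcases hirr.isUnit_or_isUnit (htwo l0 l1 l2 hsum hl0) with h | h <;> exact hnu _ h
  · -- irreducible
    have hf0 : f ≠ 0 := fun h => hQ0 (Matrix.ext fun i j => by
      have := hd2 i j
      rw [h] at this
      rw [map_zero, map_zero, ← map_zero MvPolynomial.C] at this
      simpa [h2] using (MvPolynomial.C_injective _ _ this).symm)
    have hdeg : f.totalDegree ≤ 2 := by
      rw [hfl]
      refine (MvPolynomial.totalDegree_finsetSum _ _).trans (Finset.sup_le fun l _ => ?_)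
      have h1 : (∑ i, r l i • MvPolynomial.X i : MvPolynomial (Fin 3) k).totalDegree ≤ 1 :=
        (MvPolynomial.totalDegree_finsetSum _ _).trans (Finset.sup_le fun i _ =>
        (MvPolynomial.totalDegree_smul_le _ _).trans (MvPolynomial.totalDegree_X _).le)
      exact (MvPolynomial.totalDegree_pow _ _).trans (by omega)
    have haff : ∀ g : MvPolynomial (Fin 3) k, g.totalDegree ≤ 1 →
        ∃ a : Fin 3 → k, ∀ i, MvPolynomial.pderiv i g = MvPolynomial.C (a i) := by
      intro g hg
      have e : g = MvPolynomial.homogeneousComponent 0 g + MvPolynomial.homogeneousComponent 1 g := by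
        conv_lhs => rw [← MvPolynomial.sum_homogeneousComponent g]
        rcases Nat.le_one_iff_eq_zero_or_eq_one.mp hg with h | h
        · rw [h, MvPolynomial.homogeneousComponent_eq_zero (n := 1) (φ := g) (by omega)]; simp
        · rw [h]; simp [Finset.sum_range_succ]
      refine ⟨fun i => MvPolynomial.coeff 0 (MvPolynomial.pderiv i (MvPolynomial.homogeneousComponent 1 g)),
        fun i => ?_⟩
      conv_lhs => rw [e]
      rw [map_add, MvPolynomial.homogeneousComponent_zero, MvPolynomial.pderiv_C, zero_add]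
      exact MvPolynomial.totalDegree_eq_zero_iff_eq_C.mp
        (Nat.le_zero.mp ((MvPolynomial.homogeneousComponent_isHomogeneous 1 g).pderiv (i := i)).totalDegree_le)
    have hlow : ∀ a, ∀ b : MvPolynomial (Fin 3) k, f = a * b → a ≠ 0 → b ≠ 0 → a.totalDegree + b.totalDegree ≤ 2 :=
      fun a b he ha hb => by rw [← MvPolynomial.totalDegree_mul_of_isDomain ha hb, ← he]; exact hdeg
    refine ⟨fun hu => ?_, fun g h he => ?_⟩
    · have := hu.map (MvPolynomial.constantCoeff (σ := Fin 3) (R := k))
      rw [hf] at this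
      simp [MvPolynomial.smul_eq_C_mul] at this
    · have hg0 : g ≠ 0 := fun e => hf0 (by rw [he, e, zero_mul])
      have hh0 : h ≠ 0 := fun e => hf0 (by rw [he, e, mul_zero])
      have hsum := hlow g h he hg0 hh0
      rcases Nat.eq_zero_or_pos g.totalDegree with hg | hg
      · left
        obtain hC := MvPolynomial.totalDegree_eq_zero_iff_eq_C.mp hg
        rw [hC]
        exact (isUnit_iff_ne_zero.mpr fun e => hg0 (by rw [hC, e, map_zero])).map MvPolynomial.C
      rcases Nat.eq_zero_or_pos h.totalDegree with hh | hh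
      · right
        obtain hC := MvPolynomial.totalDegree_eq_zero_iff_eq_C.mp hh
        rw [hC]
        exact (isUnit_iff_ne_zero.mpr fun e => hh0 (by rw [hC, e, map_zero])).map MvPolynomial.C
      obtain ⟨a, ha⟩ := haff g (by omega)
      obtain ⟨b, hb⟩ := haff h (by omega)
      exact absurd (hdet0 a b (hprod g h a b ha hb he)) hdet
  · constructor
    · rintro ⟨u, hu0, hu⟩
      exact Matrix.exists_mulVec_eq_zero_iff.mp ⟨u, hu0, funext fun i => by simpa [hev, h2] using hu i⟩
    · intro h
      obtain ⟨u, hu0, hu⟩ := Matrix.exists_mulVec_eq_zero_iff.mpr h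
      exact ⟨u, hu0, fun i => by rw [hev, hu]; simp⟩
  · rintro ⟨a, b, hab, he⟩
    have h := hprod _ _ a b (hlin a) (hlin b) he
    refine le_antisymm ?_ (hrk2 a b hab h)
    obtain ⟨l0, hl0⟩ := hdetd (hdet0 a b h)
    rw [hrank]
    exact Nat.lt_succ_iff.mp ((Fintype.card_subtype_lt (x := l0) (by simpa using hl0)).trans_eq (Fintype.card_fin 3))
  · have hd0 : Q.det = 0 := by_contra fun h => by have := hrk3 h; omega
    obtain ⟨l0, hl0⟩ := hdetd hd0
    obtain ⟨l1, l2, h10, h20, h12, hall, hsum⟩ := hsum3 l0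
    have hnz : ∀ la lb, (∀ i, i = l0 ∨ i = la ∨ i = lb) → s la ≠ 0 := by
      intro la lb hab h0
      have : Fintype.card {i // d i ≠ 0} ≤ 1 := Fintype.card_le_one_iff.mpr fun ⟨p, hp⟩ ⟨q, hq⟩ => by
        have key : ∀ i, d i ≠ 0 → i = lb := fun i hi => by
          rcases hab i with e | e | e
          · exact absurd (e ▸ hl0) hi
          · exact absurd ((hs0iff la).mp h0) (e ▸ hi)
          · exact e
        exact Subtype.ext ((key p hp).trans (key q hq).symm)
      omega
    exact ⟨_, _, hPli l1 l2 h12 (hnz l1 l2 hall) (hnz l2 l1 fun i => (hall i).imp_right Or.symm),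
      htwo l0 l1 l2 hsum hl0⟩
  · rintro ⟨a, he⟩
    rw [pow_two] at he
    have h := hprod _ _ a a (hlin a) (hlin a) he
    have : Q = Matrix.vecMulVec a a := by
      ext i j
      rw [Matrix.vecMulVec_apply]
      exact mul_left_cancel₀ h2 (by linear_combination h i j)
    refine le_antisymm (this ▸ Matrix.rank_vecMulVec_le a a) (Nat.one_le_iff_ne_zero.mpr fun h0 => hQ0 ?_)
    rw [hrank, Fintype.card_eq_zero_iff] at h0
    ext i j
    simp [hQr, r, fun l => (hs0iff l).mpr (by_contra fun hl => h0.elim ⟨l, hl⟩)]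
  · rw [hrank, Fintype.card_eq_one_iff] at hr
    obtain ⟨⟨l, hl⟩, hu⟩ := hr
    refine ⟨r l, ?_⟩
    rw [hfl, Finset.sum_eq_single l (fun c _ hc => ?_) (by simp)]
    have : d c = 0 := by_contra fun hc0 => hc (congrArg Subtype.val (hu ⟨c, hc0⟩))
    simp [r, (hs0iff c).mpr this]

end Groth.Agent.S13911
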