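import Groth.Statements.S13912
import Groth.Agent.Lib.LinFormH28.Basic
import Mathlib

set_option autoImplicit false
universe u
open PlaneConic

namespace Groth.Agent.S13912

/-- Over an algebraically closed field k of characteristic zero, for a 2 × 2 matrix M of linear forms in
k[X_0, X_1, X_2] (entries homogeneous of degree 1, zero allowed), det M is a product of two linear
forms if and only if M can be brought by invertible scalar row and column operations g M h, with g,
h in GL_2(k), to a matrix with zero upper-right entry. (The published statement concerns matrices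
with nonzero determinant; this row also allows determinant zero, where both sides hold.) -/
theorem result (k : Type u) [Field k] [IsAlgClosed k] [CharZero k]
    (M : Matrix (Fin 2) (Fin 2) (MvPolynomial (Fin 3) k)) (hM : ∀ a b : Fin 2, (M a b).IsHomogeneous 1) :
    (∃ l₁ l₂ : MvPolynomial (Fin 3) k, l₁.IsHomogeneous 1 ∧ l₂.IsHomogeneous 1 ∧ M.det = l₁ * l₂) ↔
    ∃ g h : GL (Fin 2) k,
      ((MvPolynomial.C : k →+* MvPolynomial (Fin 3) k).mapMatrix g.val * M *
        (MvPolynomial.C : k →+* MvPolynomial (Fin 3) k).mapMatrix h.val) 0 1 = 0 := by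
  open Groth.Agent.LinFormH28 in
  classical
  let Cm := (MvPolynomial.C : k →+* MvPolynomial (Fin 3) k).mapMatrix (m := Fin 2)
  constructor
  · rintro ⟨l₁, l₂, hl₁, hl₂, hdet⟩
    let T : Matrix (Fin 2) (Fin 2) k →ₗ[k] (Fin 3 → k) :=
      { toFun := fun N i => ∑ a, ∑ b, N a b * Groth.Agent.LinFormH28.cv (M a b) i
        map_add' := fun N N' => funext fun i => by simp [add_mul, Finset.sum_add_distrib]
        map_smul' := fun c N => funext fun i => by simp [mul_assoc, mul_add] }
    -- a singular non-zero matrix in the kernel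
    have hex : ∃ N : Matrix (Fin 2) (Fin 2) k, T N = 0 ∧ N ≠ 0 ∧ N.det = 0 := by
      by_contra hno
      push Not at hno
      have hker : Module.finrank k (LinearMap.ker T) ≤ 1 := by
        by_cases hbot : LinearMap.ker T = ⊥
        · rw [hbot]; simp
        obtain ⟨N₀, hN₀, hN₀0⟩ := Submodule.exists_mem_ne_zero_of_ne_bot hbot
        refine finrank_le_one ⟨N₀, hN₀⟩ fun ⟨N₁, hN₁⟩ => ?_
        rw [LinearMap.mem_ker] at hN₀ hN₁
        let P : Polynomial k := Polynomial.C N₀.det * Polynomial.X ^ 2 +
          Polynomial.C (N₁ 0 0 * N₀ 1 1 + N₀ 0 0 * N₁ 1 1 - N₁ 0 1 * N₀ 1 0 - N₀ 0 1 * N₁ 1 0) * Polynomial.X +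
          Polynomial.C N₁.det
        have hP : P.degree ≠ 0 := by
          simp only [P]
          rw [Polynomial.degree_quadratic (hno N₀ hN₀ hN₀0)]
          decide
        obtain ⟨t, ht⟩ := IsAlgClosed.exists_root P hP
        refine ⟨-t, Subtype.ext ?_⟩
        have h0 : (N₁ + t • N₀).det = 0 := by
          rw [Polynomial.IsRoot.def] at ht
          simp [P] at ht
          simp [Matrix.det_fin_two] at ht ⊢
          linear_combination ht
        have : N₁ + t • N₀ = 0 := by
          by_contra h
          exact hno _ (by rw [map_add, map_smul, hN₀, hN₁, smul_zero, add_zero]) h h0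
        simp [eq_neg_of_add_eq_zero_left this]
      have hrn := LinearMap.finrank_range_add_finrank_ker T
      have hM4 : Module.finrank k (Matrix (Fin 2) (Fin 2) k) = 4 := by simp [Module.finrank_matrix]
      have hsurj : LinearMap.range T = ⊤ := by
        apply Submodule.eq_top_of_finrank_eq
        have := Submodule.finrank_le (LinearMap.range T)
        simp only [Module.finrank_fin_fun] at this ⊢
        omega
      -- a common zero of the two factors
      let L : (Fin 3 → k) →ₗ[k] k × k :=
        (LinearMap.prod (∑ i, Groth.Agent.LinFormH28.cv l₁ i • LinearMap.proj i) (∑ i, Groth.Agent.LinFormH28.cv l₂ i • LinearMap.proj i))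
      have hL : LinearMap.ker L ≠ ⊥ := LinearMap.ker_ne_bot_of_finrank_lt (by simp)
      obtain ⟨p, hpk, hp0⟩ := Submodule.exists_mem_ne_zero_of_ne_bot hL
      rw [LinearMap.mem_ker] at hpk
      simp [L, Prod.ext_iff] at hpk
      have z₁ : MvPolynomial.eval p l₁ = 0 := by rw [Groth.Agent.LinFormH28.eval_eq hl₁]; exact hpk.1
      have z₂ : MvPolynomial.eval p l₂ = 0 := by rw [Groth.Agent.LinFormH28.eval_eq hl₂]; exact hpk.2
      let m : Matrix (Fin 2) (Fin 2) k := fun a b => MvPolynomial.eval p (M a b)
      let N : Matrix (Fin 2) (Fin 2) k := !![m 1 1, -m 1 0; -m 0 1, m 0 0]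
      have hTN : T N = 0 := funext fun i => by
        have := congrArg (fun f => MvPolynomial.eval p (MvPolynomial.pderiv i f)) hdet
        simp [Matrix.det_fin_two, z₁, z₂, Groth.Agent.LinFormH28.pderiv_eq (hM _ _)] at this
        simp [T, N, m, Fin.sum_univ_two]
        linear_combination this
      have hNdet : N.det = 0 := by
        have := congrArg (MvPolynomial.eval p) hdet
        simp [Matrix.det_fin_two, z₁] at this
        simp [N, m, Matrix.det_fin_two]
        linear_combination this
      have hN0 : N = 0 := by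
        by_contra h
        exact hno N hTN h hNdet
      have hm : ∀ a b, MvPolynomial.eval p (M a b) = 0 := fun a b => by
        have e00 := congrFun (congrFun hN0 0) 0; have e01 := congrFun (congrFun hN0 0) 1
        have e10 := congrFun (congrFun hN0 1) 0; have e11 := congrFun (congrFun hN0 1) 1
        simp [N, m] at e00 e01 e10 e11
        fin_cases a <;> fin_cases b <;> assumption
      apply hp0
      funext i
      obtain ⟨A, hA⟩ := LinearMap.range_eq_top.1 hsurj (Pi.single i 1)
      have := congrArg (fun v => ∑ j, v j * p j) hA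
      simp only [T, LinearMap.coe_mk, AddHom.coe_mk] at this
      rw [show ∑ j, (Pi.single i (1 : k) : Fin 3 → k) j * p j = p i by simp [Pi.single_apply]] at this
      rw [← this]
      simp only [Finset.sum_mul]
      rw [Finset.sum_comm]
      refine Finset.sum_eq_zero fun a _ => ?_
      rw [Finset.sum_comm]
      refine Finset.sum_eq_zero fun b _ => ?_
      have := hm a b
      rw [Groth.Agent.LinFormH28.eval_eq (hM a b)] at this
      simp only [mul_assoc, ← Finset.mul_sum, this, mul_zero]
    obtain ⟨N, hTN, hN0, hNd⟩ := hex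
    -- write N as an outer product
    have hxy : ∃ x y : Fin 2 → k, x ≠ 0 ∧ y ≠ 0 ∧ ∀ a b, N a b = x a * y b := by
      rw [Matrix.det_fin_two] at hNd
      by_cases h00 : N 0 0 ≠ 0
      · refine ⟨![1, N 1 0 / N 0 0], ![N 0 0, N 0 1], fun h => one_ne_zero (congrFun h 0), fun h => h00 (congrFun h 0), fun a b => ?_⟩
        fin_cases a <;> fin_cases b <;> simp <;> field_simp
        linear_combination hNd
      push Not at h00
      by_cases h01 : N 0 1 = 0
      · refine ⟨![0, 1], ![N 1 0, N 1 1], fun h => one_ne_zero (congrFun h 1), fun h => hN0 ?_, fun a b => ?_⟩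
        · have h0 := congrFun h 0; have h1 := congrFun h 1
          simp at h0 h1
          ext a b; fin_cases a <;> fin_cases b <;> simp [h00, h01, h0, h1]
        · fin_cases a <;> fin_cases b <;> simp [h00, h01]
      · refine ⟨![1, N 1 1 / N 0 1], ![0, N 0 1], fun h => one_ne_zero (congrFun h 0), fun h => h01 (congrFun h 1), fun a b => ?_⟩
        have h10 : N 1 0 = 0 := by
          rw [h00, zero_mul, zero_sub, neg_eq_zero] at hNd
          exact (mul_eq_zero.1 hNd).resolve_left h01
        fin_cases a <;> fin_cases b <;> simp [h00, h10] <;> field_simp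
    obtain ⟨x, y, hx, hy, hN⟩ := hxy
    have hg : ∃ g : GL (Fin 2) k, ∀ a, g.val 0 a = x a := by
      by_cases h : x 0 = 0
      · have : x 1 ≠ 0 := fun h1 => hx (funext fun a => by fin_cases a <;> assumption)
        exact ⟨Matrix.GeneralLinearGroup.mkOfDetNeZero !![x 0, x 1; 1, 0] (by simp [Matrix.det_fin_two, this]), fun a => by fin_cases a <;> rfl⟩
      · exact ⟨Matrix.GeneralLinearGroup.mkOfDetNeZero !![x 0, x 1; 0, 1] (by simp [Matrix.det_fin_two, h]), fun a => by fin_cases a <;> rfl⟩
    have hh : ∃ h : GL (Fin 2) k, ∀ a, h.val a 1 = y a := by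
      by_cases h : y 0 = 0
      · have : y 1 ≠ 0 := fun h1 => hy (funext fun a => by fin_cases a <;> assumption)
        exact ⟨Matrix.GeneralLinearGroup.mkOfDetNeZero !![1, y 0; 0, y 1] (by simp [Matrix.det_fin_two, this]), fun a => by fin_cases a <;> rfl⟩
      · exact ⟨Matrix.GeneralLinearGroup.mkOfDetNeZero !![0, y 0; 1, y 1] (by simp [Matrix.det_fin_two, h]), fun a => by fin_cases a <;> rfl⟩
    obtain ⟨g, hg⟩ := hg
    obtain ⟨h, hh⟩ := hh
    refine ⟨g, h, ?_⟩
    have hi : ∀ i, x 0 * y 0 * Groth.Agent.LinFormH28.cv (M 0 0) i + x 0 * y 1 * Groth.Agent.LinFormH28.cv (M 0 1) i +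
        (x 1 * y 0 * Groth.Agent.LinFormH28.cv (M 1 0) i + x 1 * y 1 * Groth.Agent.LinFormH28.cv (M 1 1) i) = 0 := fun i => by
      have := congrFun hTN i
      simpa [T, Fin.sum_univ_two, hN] using this
    simp only [Matrix.mul_apply, Fin.sum_univ_two, RingHom.mapMatrix_apply, Matrix.map_apply, hg, hh]
    rw [Groth.Agent.LinFormH28.eq_sum (hM 0 0), Groth.Agent.LinFormH28.eq_sum (hM 0 1),
      Groth.Agent.LinFormH28.eq_sum (hM 1 0), Groth.Agent.LinFormH28.eq_sum (hM 1 1)]
    simp only [Finset.mul_sum, Finset.sum_mul, ← Finset.sum_add_distrib]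
    refine Finset.sum_eq_zero fun i _ => ?_
    have := congrArg (fun c => MvPolynomial.C c * (MvPolynomial.X i : MvPolynomial (Fin 3) k)) (hi i)
    simp only [map_add, map_mul, map_zero, zero_mul] at this
    linear_combination this
  · rintro ⟨g, h, e⟩
    have hs : ∀ a b, ((Cm g.val * M * Cm h.val) a b).IsHomogeneous 1 := fun a b => by
      simp only [Matrix.mul_apply, Cm, RingHom.mapMatrix_apply, Matrix.map_apply]
      refine MvPolynomial.IsHomogeneous.sum _ _ _ fun j _ => ?_
      rw [mul_comm]
      refine MvPolynomial.IsHomogeneous.C_mul ?_ _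
      exact MvPolynomial.IsHomogeneous.sum _ _ _ fun i _ => MvPolynomial.IsHomogeneous.C_mul (hM _ _) _
    refine ⟨MvPolynomial.C (g.val.det * h.val.det)⁻¹ * (Cm g.val * M * Cm h.val) 0 0,
      (Cm g.val * M * Cm h.val) 1 1, MvPolynomial.IsHomogeneous.C_mul (hs _ _) _, hs _ _, ?_⟩
    have hd := Matrix.det_fin_two (Cm g.val * M * Cm h.val)
    rw [Matrix.det_mul, Matrix.det_mul] at hd
    simp only [Cm] at hd ⊢
    rw [e, zero_mul, sub_zero, ← RingHom.map_det, ← RingHom.map_det] at hd
    rw [mul_assoc, ← hd]
    have : g.val.det * h.val.det ≠ 0 := mul_ne_zero ((Matrix.isUnit_iff_isUnit_det _).1 g.isUnit).ne_zero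
      ((Matrix.isUnit_iff_isUnit_det _).1 h.isUnit).ne_zero
    have hc : MvPolynomial.C (g.val.det * h.val.det)⁻¹ * (MvPolynomial.C g.val.det * MvPolynomial.C h.val.det) = (1 : MvPolynomial (Fin 3) k) := by
      rw [← map_mul, ← map_mul, inv_mul_cancel₀ this, map_one]
    linear_combination (-M.det) * hc

end Groth.Agent.S13912
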