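import Groth.Statements.S13913
import Groth.Agent.Lib.LinFormH28.Basic

set_option autoImplicit false
universe u
open PlaneCubic

namespace Groth.Agent.S13913

/-- Over an algebraically closed field of characteristic zero, for linearly independent linear forms z₁,
z₂ and quadratic forms q₁, q₂ in three variables and a nonzero common zero p of z₁ and z₂, the point
p is a singular point of the plane cubic z₁q₂ − z₂q₁ = 0 (all three partial derivatives vanish at p)
if and only if q₁ and q₂ both vanish at p. -/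
theorem result (k : Type u) [Field k] [IsAlgClosed k] [CharZero k]
    (z₁ z₂ q₁ q₂ : MvPolynomial (Fin 3) k) (hz₁ : z₁.IsHomogeneous 1) (hz₂ : z₂.IsHomogeneous 1)
    (hq₁ : q₁.IsHomogeneous 2) (hq₂ : q₂.IsHomogeneous 2) (hind : LinearIndependent k ![z₁, z₂])
    (p : Fin 3 → k) (hp : p ≠ 0) (hp₁ : MvPolynomial.eval p z₁ = 0) (hp₂ : MvPolynomial.eval p z₂ = 0) :
    (∀ i : Fin 3, MvPolynomial.eval p (MvPolynomial.pderiv i (z₁ * q₂ - z₂ * q₁)) = 0) ↔
      (MvPolynomial.eval p q₁ = 0 ∧ MvPolynomial.eval p q₂ = 0) := by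
  open Groth.Agent.LinFormH28 in
  have hi : ∀ i : Fin 3, MvPolynomial.eval p (MvPolynomial.pderiv i (z₁ * q₂ - z₂ * q₁)) =
      cv z₁ i * MvPolynomial.eval p q₂ - cv z₂ i * MvPolynomial.eval p q₁ := fun i => by
    simp [pderiv_eq hz₁, pderiv_eq hz₂, hp₁, hp₂]
    ring
  refine ⟨fun h => ?_, fun h i => by rw [hi, h.1, h.2]; ring⟩
  have key := LinearIndependent.pair_iff.1 hind (MvPolynomial.eval p q₂) (-MvPolynomial.eval p q₁) (by
    conv_lhs => rw [Groth.Agent.LinFormH28.eq_sum hz₁, Groth.Agent.LinFormH28.eq_sum hz₂]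
    rw [Finset.smul_sum, Finset.smul_sum, ← Finset.sum_add_distrib]
    refine Finset.sum_eq_zero fun i _ => ?_
    have := (hi i).symm.trans (h i)
    rw [MvPolynomial.smul_eq_C_mul, MvPolynomial.smul_eq_C_mul, ← mul_assoc, ← mul_assoc, ← add_mul,
      ← map_mul, ← map_mul, ← map_add]
    rw [show MvPolynomial.eval p q₂ * Groth.Agent.LinFormH28.cv z₁ i +
      -MvPolynomial.eval p q₁ * Groth.Agent.LinFormH28.cv z₂ i = 0 from by linear_combination this]
    simp)
  exact ⟨neg_eq_zero.1 key.2, key.1⟩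

end Groth.Agent.S13913
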