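import Groth.Statements.S13915
import Groth.Agent.Lib.PlaneOne10.Basic
import Groth.Agent.Lib.BlowPic10.Basic

set_option autoImplicit false
set_option maxHeartbeats 1000000
set_option linter.style.haveILetI false
set_option backward.isDefEq.respectTransparency false
set_option backward.isDefEq.respectTransparency.types false
universe u
open CategoryTheory CategoryTheory.Limits AlgebraicGeometry
open BlowUp

namespace Groth.Agent.S13915

open Groth.Agent Groth.Agent.NumConn10
open Groth.Agent.SymSq10 (sdot)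
open Groth.Agent.HypSq10 (chi rep rep_inv cls_rep)

noncomputable local instance instLawS13915 (Y : Scheme.{u}) : PicGrp.Law Y := M2.law Y

theorem cls_twist {k : Type u} [Field k] (a : ℤ) :
    PicGrp.cls _ ((CMReg18.projData k 2).inv a) = PicGrp.cls _ ((CMReg18.projData k 2).inv 1) ^ a := by
  let D := CMReg18.projData k 2
  have hadd : ∀ i j : ℤ, PicGrp.cls _ (D.inv (i + j)) = PicGrp.cls _ (D.inv i) * PicGrp.cls _ (D.inv j) := fun i j => by
    rw [AlgEquiv22.cls_tensor]
    exact (PicGrp.cls_eq_cls_iff (D.inv (i + j)) (M2.isInvertible_tensor (D.inv i) (D.inv j))).2 ⟨(D.add i j).symm⟩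
  let φ : Multiplicative ℤ →* PicLoc.PicSet (CohB1.ProjSpace 2 k) :=
    { toFun := fun n => PicGrp.cls _ (D.inv n.toAdd)
      map_one' := by
        show PicGrp.cls _ (D.inv 0) = 1
        rw [(PicGrp.cls_eq_cls_iff (D.inv 0) (PicLoc.isInvertible_structureModule _)).2 ⟨D.zero⟩,
          PicGrp.cls_structureModule_eq_one]
      map_mul' := fun i j => hadd i.toAdd j.toAdd }
  have h := map_zpow φ (Multiplicative.ofAdd 1) a
  rw [show (Multiplicative.ofAdd (1 : ℤ)) ^ a = Multiplicative.ofAdd a from by rw [← ofAdd_zsmul, smul_eq_mul, mul_one]] at h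
  exact h

/-- On the blowing up σ : X ⟶ P²_k of the projective plane over an algebraically closed field k of
characteristic zero at a closed point, with E the ideal of the exceptional line and H the pull-back
of O(1), one has χ(X, σ^*O(a) ⊗ E^b) = (a² + 3a)/2 − (b² + b)/2 + 1 for all integers a and natural
numbers b (the line bundle written aH − bL; the k-structure on X is the composite through σ). -/
theorem result (k : Type u) [Field k] [IsAlgClosed k] [CharZero k]
    (p : ↥(CohB1.ProjSpace 2 k)) (hp : IsClosed ({p} : Set ↥(CohB1.ProjSpace 2 k)))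
    {X : Scheme.{u}} [X.Over (Spec (CommRingCat.of k))] (σ : X ⟶ CohB1.ProjSpace 2 k)
    (hσk : σ ≫ CohB1.ProjSpace.toSpec 2 k = X ↘ Spec (CommRingCat.of k))
    (hσ : BlowUp.IsBlowUp σ (Scheme.IdealSheafData.vanishingIdeal ⟨{p}, hp⟩)) (a : ℤ) (b : ℕ) :
    Curv2.euler k X (CohB1.tensorMod ((Scheme.Modules.pullback σ).obj (Twist.twistProjSpace 2 k a))
      (ClSub.idealMod ((BlowUp.exceptional σ (Scheme.IdealSheafData.vanishingIdeal ⟨{p}, hp⟩)) ^ b))) =
      (a * a + 3 * a) / 2 - ((b : ℤ) * b + b) / 2 + 1 := by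
  obtain ⟨hi, hpr, hsm, hdim⟩ := PlaneOne10.setup hp σ hσk hσ
  haveI := hi
  haveI := hpr
  haveI := hsm
  have hd := SurfRR10.dim_eq (k := k) (X := X) hdim
  have hpr1 := (Set.range_const (c := p) (ι := Fin 1))
  have hclos : (⟨Set.range (fun _ : Fin 1 => p), hpr1.symm ▸ hp⟩ : TopologicalSpace.Closeds (CohB1.ProjSpace 2 k)) = ⟨{p}, hp⟩ :=
    TopologicalSpace.Closeds.ext hpr1
  obtain ⟨W, hW⟩ := NumConn10.exists_canonical (k := k) hdim
  have hWi := SurfRR10.isInvertible_canonical hdim hW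
  have hT := (CMReg18.projData k 2).inv 1
  have hH := Twist.isInvertible_pullback σ hT
  obtain ⟨hee, hHe, heW⟩ := PlaneOne10.exc_numbers hp σ hσk hσ hdim hW hWi hH
  obtain ⟨hHH, hHW⟩ := PlaneBlow10.line_numbers (k := k) hdim (fun _ : Fin 1 => hp) (hpr1.symm ▸ hp) σ hσk
    (by rw [hclos]; exact hσ) hW hWi hH
  set h := PicGrp.cls ((Scheme.Modules.pullback σ).obj (Twist.twistProjSpace 2 k 1)) hH with hh
  set e := icl hσ.1 with he
  set w := PicGrp.cls W hWi with hw
  have hA := Twist.isInvertible_pullback σ ((CMReg18.projData k 2).inv a)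
  have hBc := BlowUpExist.isEffCartierIdeal_pow hσ.1 b
  have hB := M2.isInvertible_idealMod _ hBc
  have hc1 : PicGrp.cls _ hA = h ^ a := by
    have := congrArg (PicGrp.pullHom σ (M2.pullMul σ)) (cls_twist (k := k) a)
    rwa [map_zpow, PicGrp.pullHom_cls, PicGrp.pullHom_cls] at this
  refine (HypSq10.euler_eq_chi (M2.isInvertible_tensor hA hB)).trans ?_
  rw [← AlgEquiv22.cls_tensor hA hB, hc1, show PicGrp.cls _ hB = e ^ b from BlowPic10.icl_pow hσ.1 b hBc]
  have hz : ∀ (n : ℤ) (x y : PicLoc.PicSet X), sdot k (x ^ n) y = n * sdot k x y := fun n x y => by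
    cases n with
    | ofNat m => rw [Int.ofNat_eq_natCast, zpow_natCast, SurfRR10.sdot_pow_left (k := k) hdim]
    | negSucc m =>
      rw [zpow_negSucc, SurfRR10.sdot_inv_left (k := k) hdim, SurfRR10.sdot_pow_left (k := k) hdim,
        Int.negSucc_eq]
      push_cast
      ring
  have h1 : ∀ y, sdot k (h ^ a * e ^ b) y = a * sdot k h y + b * sdot k e y := fun y => by
    rw [SymSq10.sdot_mul (k := k) hd.le, hz, SurfRR10.sdot_pow_left (k := k) hdim]
  have h2 : ∀ x, sdot k x (h ^ a * e ^ b) = a * sdot k x h + b * sdot k x e := fun x => by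
    rw [SymSq10.sdot_comm x, h1, SymSq10.sdot_comm x h, SymSq10.sdot_comm x e]
  have hr := SurfRR10.rr (k := k) (X := X) hdim hW hWi (h ^ a * e ^ b)
  rw [SurfRR10.phi, PlaneOne10.chi_one hp σ hσk hσ hdim, h1, h1, h2, h2, ← hw, hHH, hee, hHW, heW,
    SymSq10.sdot_comm e h, hHe] at hr
  have key : 2 * chi k (h ^ a * e ^ b) = (a * a + 3 * a) - ((b : ℤ) * b + b) + 2 := by linarith
  have e1 : 2 ∣ a * a + 3 * a := by
    rcases Int.even_or_odd a with ⟨m, hm⟩ | ⟨m, hm⟩
    · exact ⟨2 * m * m + 3 * m, by rw [hm]; ring⟩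
    · exact ⟨2 * m * m + 5 * m + 2, by rw [hm]; ring⟩
  have e2 : 2 ∣ (b : ℤ) * b + b := by
    rcases Int.even_or_odd (b : ℤ) with ⟨m, hm⟩ | ⟨m, hm⟩
    · exact ⟨2 * m * m + m, by rw [hm]; ring⟩
    · exact ⟨2 * m * m + 3 * m + 1, by rw [hm]; ring⟩
  omega

end Groth.Agent.S13915
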