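import Groth.Statements.S13916
import Mathlib

set_option autoImplicit false
universe u
open PlaneConic

namespace Groth.Agent.S13916

/-- Over an algebraically closed field k of characteristic zero, with u_0, u_1, u_2 the coordinate
linear forms of k[X_0, X_1, X_2] and 2 × 2 matrices of linear forms compared up to M ↦ g M h with g,
h invertible scalar matrices: (1) the matrices with rows (u_1, 0), (u_0, u_2) and (u_2, 0), (u_0,
u_1) are not equivalent; (2) for α ≠ 0 the matrix with rows (u_1, 0), (αu_0 + βu_1 + γu_2, u_2) is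
equivalent to the one with rows (u_1, 0), (u_0, u_2). -/
theorem result (k : Type u) [Field k] [IsAlgClosed k] [CharZero k] :
    (¬ ∃ g h : GL (Fin 2) k,
      (MvPolynomial.C : k →+* MvPolynomial (Fin 3) k).mapMatrix g.val *
          !![MvPolynomial.X 1, 0; MvPolynomial.X 0, MvPolynomial.X 2] *
        (MvPolynomial.C : k →+* MvPolynomial (Fin 3) k).mapMatrix h.val =
      !![MvPolynomial.X 2, 0; MvPolynomial.X 0, MvPolynomial.X 1]) ∧
    (∀ α β γ : k, α ≠ 0 → ∃ g h : GL (Fin 2) k,
      (MvPolynomial.C : k →+* MvPolynomial (Fin 3) k).mapMatrix g.val *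
          !![MvPolynomial.X 1, 0;
             MvPolynomial.C α * MvPolynomial.X 0 + MvPolynomial.C β * MvPolynomial.X 1 + MvPolynomial.C γ * MvPolynomial.X 2,
             MvPolynomial.X 2] *
        (MvPolynomial.C : k →+* MvPolynomial (Fin 3) k).mapMatrix h.val =
      !![MvPolynomial.X 1, 0; MvPolynomial.X 0, MvPolynomial.X 2]) := by
  constructor
  · rintro ⟨g, h, e⟩
    have ginv : g.val.det ≠ 0 := ((Matrix.isUnit_iff_isUnit_det _).1 g.isUnit).ne_zero
    have hi : h.val * (h⁻¹ : GL (Fin 2) k).val = 1 := h.mul_inv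
    have e' : ∀ u : Fin 3 → k, g.val * !![u 1, 0; u 0, u 2] = !![u 2, 0; u 0, u 1] * (h⁻¹ : GL (Fin 2) k).val := by
      intro u
      have eu := congrArg (MvPolynomial.eval u).mapMatrix e
      simp only [map_mul] at eu
      have h1 : ∀ A : Matrix (Fin 2) (Fin 2) k, (MvPolynomial.eval u).mapMatrix
          ((MvPolynomial.C : k →+* MvPolynomial (Fin 3) k).mapMatrix A) = A := fun A => by ext i j; simp
      have h2 : ∀ a b c d : MvPolynomial (Fin 3) k, (MvPolynomial.eval u).mapMatrix !![a, b; c, d] =
          !![MvPolynomial.eval u a, MvPolynomial.eval u b; MvPolynomial.eval u c, MvPolynomial.eval u d] :=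
        fun a b c d => by ext i j; fin_cases i <;> fin_cases j <;> rfl
      rw [h1, h1, h2, h2] at eu
      simp only [MvPolynomial.eval_X, map_zero] at eu
      rw [← eu, Matrix.mul_assoc, hi, Matrix.mul_one]
    have a0 := congrFun (congrFun (e' ![1, 0, 0]) 0) 0
    have a1 := congrFun (congrFun (e' ![0, 1, 0]) 0) 0
    simp [Matrix.mul_apply, Fin.sum_univ_two] at a0 a1
    apply ginv
    rw [Matrix.det_fin_two, a0, a1]
    ring
  · intro α β γ hα
    let g : GL (Fin 2) k := Matrix.GeneralLinearGroup.mkOfDetNeZero !![α, 0; -β, 1] (by simp [Matrix.det_fin_two, hα])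
    let h : GL (Fin 2) k := Matrix.GeneralLinearGroup.mkOfDetNeZero !![α⁻¹, 0; -γ * α⁻¹, 1] (by simp [Matrix.det_fin_two, hα])
    refine ⟨g, h, ?_⟩
    have hc : (MvPolynomial.C α⁻¹ : MvPolynomial (Fin 3) k) * MvPolynomial.C α = 1 := by
      rw [← map_mul, inv_mul_cancel₀ hα, map_one]
    ext1 i j
    fin_cases i <;> fin_cases j <;> simp [g, h, Matrix.mul_apply, Fin.sum_univ_two, Matrix.GeneralLinearGroup.mkOfDetNeZero]
    · linear_combination MvPolynomial.X 1 * hc
    · linear_combination MvPolynomial.X 0 * hc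

end Groth.Agent.S13916
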