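import Groth.Statements.S13918
import Groth.Agent.Lib.RamP1_29.Schubert

set_option autoImplicit false
universe u
open W4c1limliniiii

namespace Groth.Agent.S13918

open Polynomial in
/-- Over an algebraically closed field of characteristic p (zero allowed), fix three distinct points of
the affine line, an integer d and ramification indices e_i with 2 ≤ e_i ≤ d, each e_i prime to p,
and ∑ (e_i − 1) = 2d − 2. Then there is at most one separable self-map of the projective line of
degree d, taken up to automorphisms of the target, with ramification index exactly e_i at the i-th
point — such maps being encoded as base-point-free separable pencils of polynomials of degree at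
most d — and there is none precisely when some two-dimensional space of polynomials of degree at
most d with identically vanishing Wronskian contains, for each i, a non-zero member vanishing to
order at least e_i at the i-th point (an inseparable pencil, base points allowed, with at least the
required ramification). (The three points are taken on the affine line, which is no restriction up
to a change of coordinate; the assertion that the solution, when it exists, is a reduced point of
the parameter scheme is not restated.) -/
theorem result (k : Type u) [Field k] [IsAlgClosed k]
    (p : ℕ) [CharP k p] (d : ℕ) (P : Fin 3 → k) (hP : Function.Injective P)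
    (e : Fin 3 → ℕ) (he : W4c1limliniiii.Admissible p d e) :
    (W4c1limliniiii.ramMaps d P e).Subsingleton ∧
      (W4c1limliniiii.ramMaps d P e = ∅ ↔
        ∃ V : Submodule k k[X], V ≤ Polynomial.degreeLE k d ∧ Module.finrank k V = 2 ∧
          ¬ W4c1limliniiii.IsSeparable V ∧
          ∀ i, ∃ s ∈ V, s ≠ 0 ∧ e i ≤ Polynomial.rootMultiplicity (P i) s) := by
  have hsub : ∀ V ∈ W4c1limliniiii.ramMaps d P e, ∀ W, RamP129.InSchubert d P e W → W = V := by
    intro V hV W hW
    obtain ⟨x, hx, hx0, rfl⟩ := RamP129.schubert_triple hP he (RamP129.InSchubert.of_mem hV)
    obtain ⟨y, hy, hy0, rfl⟩ := RamP129.schubert_triple hP he hW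
    exact RamP129.triple_unique hP he hx hy hx0 hy0 hV
  refine ⟨fun V hV W hW => hsub W hW V (RamP129.InSchubert.of_mem hV), ?_, ?_⟩
  · intro hempty
    obtain ⟨x, hx, hx0⟩ := RamP129.triple_ne_bot (P := P) he
    obtain ⟨hS, -⟩ := RamP129.triple_schubert hP he hx hx0
    refine ⟨_, hS.1, hS.2.1, fun hsep => ?_, hS.2.2⟩
    have := RamP129.mem_ramMaps_of_schubert hP he hS hsep
    rw [hempty] at this
    exact this
  · rintro ⟨V, h1, h2, h3, h4⟩
    rw [Set.eq_empty_iff_forall_notMem]
    intro W hW
    obtain rfl := hsub W hW V ⟨h1, h2, h4⟩
    exact h3 hW.2.1

end Groth.Agent.S13918
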