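import Groth.Statements.S13919
import Groth.Agent.Lib.RamP1_29.Schubert

set_option autoImplicit false
universe u
open W4c1limliniiii

namespace Groth.Agent.S13919

open Polynomial in
/-- Over an algebraically closed field of characteristic p (zero allowed), fix three distinct points of
the affine line and indices 2 ≤ e_i ≤ d prime to p with ∑ (e_i − 1) = 2d − 2, and encode self-maps
of the projective line up to automorphisms of the target as base-point-free separable pencils of
polynomials of degree at most d. If p is positive, the first two indices are less than p and p ≤ d,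
then there is no separable degree-d self-map of the projective line with ramification index exactly
e_i at the i-th point; if p = 0 or d < p there is exactly one up to automorphisms of the target.
(The first clause includes the case d = p; with it, when all e_i are less than p, the three-point
count is one map if p = 0 or p > d and none otherwise.) -/
theorem result (k : Type u) [Field k] [IsAlgClosed k]
    (p : ℕ) [CharP k p] (d : ℕ) (P : Fin 3 → k) (hP : Function.Injective P)
    (e : Fin 3 → ℕ) (he : W4c1limliniiii.Admissible p d e) :
    (p ≠ 0 → e 0 < p → e 1 < p → p ≤ d → W4c1limliniiii.ramMaps d P e = ∅) ∧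
      (p = 0 ∨ d < p → ∃ V : Submodule k k[X], W4c1limliniiii.ramMaps d P e = {V}) := by
  have hsub : ∀ V ∈ W4c1limliniiii.ramMaps d P e, ∀ W, RamP129.InSchubert d P e W → W = V := by
    intro V hV W hW
    obtain ⟨x, hx, hx0, rfl⟩ := RamP129.schubert_triple hP he (RamP129.InSchubert.of_mem hV)
    obtain ⟨y, hy, hy0, rfl⟩ := RamP129.schubert_triple hP he hW
    exact RamP129.triple_unique hP he hx hy hx0 hy0 hV
  refine ⟨fun hp h0 h1 hpd => ?_, fun hp => ?_⟩
  · have hprime : p.Prime := (CharP.char_is_prime_or_zero k p).resolve_right hp
    haveI : Fact p.Prime := ⟨hprime⟩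
    set q : k[X] := (X - C (P 2)) ^ (e 2 - p) with hq
    set A : k[X] := (X - C (P 0)) ^ p with hA
    set B : k[X] := (X - C (P 1)) ^ p with hB
    set V := Submodule.span k {q * A, q * B} with hV
    have hA' : derivative A = 0 := by simp [hA, derivative_pow, CharP.cast_eq_zero k p]
    have hB' : derivative B = 0 := by simp [hB, derivative_pow, CharP.cast_eq_zero k p]
    have hq0 : q ≠ 0 := pow_ne_zero _ (X_sub_C_ne_zero _)
    have hne : ∀ i j : Fin 3, i ≠ j → P i - P j ≠ 0 := fun i j h => sub_ne_zero.2 (fun h' => h (hP h'))
    have hind : LinearIndependent k ![q * A, q * B] := by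
      rw [LinearIndependent.pair_iff]
      intro a b hab
      have h := congrArg (Polynomial.eval (P 0)) (show a • A + b • B = 0 from
        mul_left_cancel₀ hq0 (by rw [mul_add, mul_smul_comm, mul_smul_comm, hab, mul_zero]))
      have h' := congrArg (Polynomial.eval (P 1)) (show a • A + b • B = 0 from
        mul_left_cancel₀ hq0 (by rw [mul_add, mul_smul_comm, mul_smul_comm, hab, mul_zero]))
      simp [hA, hB, hprime.ne_zero] at h h'
      exact ⟨h'.resolve_right (hne 1 0 (by decide)), h.resolve_right (hne 0 1 (by decide))⟩
    have he2 := (he.1 2).2.1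
    have hdeg : ∀ i, q * (X - C (P i)) ^ p ∈ degreeLE k d := by
      intro i
      rw [mem_degreeLE, ← natDegree_le_iff_degree_le, natDegree_mul hq0
        (pow_ne_zero _ (X_sub_C_ne_zero _)), hq]
      simp only [natDegree_pow, natDegree_X_sub_C]
      omega
    have hS : RamP129.InSchubert d P e V := by
      refine ⟨?_, ?_, ?_⟩
      · rw [hV, Submodule.span_le]
        rintro y (rfl | rfl)
        · exact hdeg 0
        · exact hdeg 1
      · rw [hV, ← Matrix.range_cons_cons_empty (q * A) (q * B) ![], finrank_span_eq_card hind]; rfl
      · intro i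
        fin_cases i
        · refine ⟨q * A, Submodule.subset_span (by simp), hind.ne_zero 0,
            (le_rootMultiplicity_iff (hind.ne_zero 0)).2 ?_⟩
          exact Dvd.dvd.mul_left (pow_dvd_pow _ h0.le) _
        · refine ⟨q * B, Submodule.subset_span (by simp), hind.ne_zero 1,
            (le_rootMultiplicity_iff (hind.ne_zero 1)).2 ?_⟩
          exact Dvd.dvd.mul_left (pow_dvd_pow _ h1.le) _
        · set a := (P 2 - P 1) ^ p
          set b := -((P 2 - P 0) ^ p)
          have hs0 : a • (q * A) + b • (q * B) ≠ 0 := fun h =>
            pow_ne_zero p (hne 2 1 (by decide)) (LinearIndependent.pair_iff.1 hind a b h).1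
          refine ⟨a • (q * A) + b • (q * B), Submodule.mem_span_pair.2 ⟨a, b, rfl⟩, hs0,
            (le_rootMultiplicity_iff hs0).2 ?_⟩
          have hdiv : (X - C (P 2)) ^ p ∣ a • A + b • B := by
            have : a • A + b • B = (C (P 2 - P 1) * (X - C (P 0)) - C (P 2 - P 0) * (X - C (P 1))) ^ p := by
              rw [sub_pow_char, mul_pow, mul_pow]
              simp only [a, b, hA, hB, smul_eq_C_mul, C_pow, map_neg]; ring
            rw [this]
            refine pow_dvd_pow_of_dvd (dvd_iff_isRoot.2 ?_) p
            simp; ring
          rw [← mul_smul_comm, ← mul_smul_comm, ← mul_add]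
          refine (pow_dvd_pow _ ?_).trans ((pow_add _ (e 2 - p) p).dvd.trans (mul_dvd_mul dvd_rfl hdiv))
          show e 2 ≤ e 2 - p + p
          omega
    have hins : ¬ W4c1limliniiii.IsSeparable V := by
      rintro ⟨F, hF, G, hG, hFG⟩
      obtain ⟨a, b, rfl⟩ := Submodule.mem_span_pair.1 hF
      obtain ⟨a', b', rfl⟩ := Submodule.mem_span_pair.1 hG
      apply hFG
      rw [RamP129.wronskian_comb]
      have : wronskian (q * A) (q * B) = 0 := by
        simp [wronskian, derivative_mul, hA', hB']; ring
      rw [this, mul_zero]
    rw [Set.eq_empty_iff_forall_notMem]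
    intro W hW
    exact hins ((hsub W hW V hS) ▸ hW.2.1)
  · obtain ⟨x, hx, hx0⟩ := RamP129.triple_ne_bot (P := P) he
    obtain ⟨hS, hind, -⟩ := RamP129.triple_schubert hP he hx hx0
    have hsep : W4c1limliniiii.IsSeparable (Submodule.span k {x.1, x.2}) :=
      ⟨x.1, Submodule.subset_span (by simp), x.2, Submodule.subset_span (by simp), fun h =>
        RamP129.dependent_of_wronskian_eq_zero hp
          (natDegree_le_iff_degree_le.2 (mem_degreeLE.1 (hS.1 (Submodule.subset_span (by simp)))))
          (natDegree_le_iff_degree_le.2 (mem_degreeLE.1 (hS.1 (Submodule.subset_span (by simp)))))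
          h hind⟩
    have hV := RamP129.mem_ramMaps_of_schubert hP he hS hsep
    exact ⟨_, Set.Subset.antisymm (fun W hW => hsub _ hV W (RamP129.InSchubert.of_mem hW))
      (Set.singleton_subset_iff.2 hV)⟩

end Groth.Agent.S13919
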