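import Groth.Statements.S13920
import Groth.Agent.Lib.RamP129.Family

set_option autoImplicit false
universe u
open W4c1limliniiii

namespace Groth.Agent.S13920

open Polynomial in
/-- Over an algebraically closed field of prime characteristic p, fix n points of the affine line with
ramification indices e_i < p, and at infinity an index E with p < E and E prime to p, the datum (E,
e_1, …, e_n) being admissible for degree d (each index between 2 and d, ∑ (index − 1) = 2d − 2). If
one separable degree-d self-map of the projective line (up to automorphisms of the target, encoded
as a base-point-free separable pencil of polynomials of degree at most d) has ramification index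
exactly e_i at the i-th point and exactly E at infinity, then infinitely many do: the set of such
pencils is empty or infinite. (The consequence for general points, that no such map exists, is not
restated.) -/
theorem result
    (k : Type u) [Field k] [IsAlgClosed k] (p : ℕ) [Fact p.Prime] [CharP k p]
    (d n : ℕ) (P : Fin n → k) (e : Fin n → ℕ) (E : ℕ)
    (he : W4c1limliniiii.Admissible p d (Fin.cons E e : Fin (n + 1) → ℕ))
    (hlt : ∀ i, e i < p) (hE : p < E) :
    {V : Submodule k k[X] | V ∈ W4c1limliniiii.ramMaps d P e ∧ W4c1limliniiii.HasRamIdxInf d V E} = ∅ ∨
      {V : Submodule k k[X] | V ∈ W4c1limliniiii.ramMaps d P e ∧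
        W4c1limliniiii.HasRamIdxInf d V E}.Infinite := by
  exact RamP129.empty_or_infinite P e E hlt hE

end Groth.Agent.S13920
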