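import Groth.Statements.S13922
import Groth.Agent.Lib.RamP1_29.FlipSep
-- import your own Groth.Agent.* helpers here

set_option autoImplicit false
universe u
open W4c1limliniiii

namespace Groth.Agent.S13922

open Polynomial in
/-- Over an algebraically closed field of prime characteristic p, let (d; e_1, …, e_n) be admissible
ramification data (2 ≤ e_i ≤ d, ∑ (e_i − 1) = 2d − 2) with every e_i < p, and for two distinct
indices i ≠ j replace e_i, e_j by p − e_i, p − e_j and d by d + p − e_i − e_j. Then the number of
separable self-maps of the projective line with the prescribed ramification at general points, up to
automorphisms of the target (counted as base-point-free separable pencils of polynomials, for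
configurations of points of the affine line off the zero set of a non-zero polynomial), is the same
for the two data: a number is the general count for one if and only if it is the general count for
the other. -/
theorem result (k : Type u) [Field k] [IsAlgClosed k]
    (p : ℕ) [Fact p.Prime] [CharP k p] (d n : ℕ) (e : Fin n → ℕ)
    (he : W4c1limliniiii.Admissible p d e) (hlt : ∀ l, e l < p) (i j : Fin n) (hij : i ≠ j)
    (m : ℕ) :
    W4c1limliniiii.HasGenericCount (k := k) d e m ↔
      W4c1limliniiii.HasGenericCount (k := k) (d + p - e i - e j)
        (Function.update (Function.update e i (p - e i)) j (p - e j)) m := by
  exact RamP129.flip_count p d n e he hlt i j hij m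

end Groth.Agent.S13922
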