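import Groth.Statements.S13925
import Mathlib

set_option autoImplicit false
universe u v w x
open W4c1limliniiii

namespace Groth.Agent.S13925

/-- Let k be a field and U, E, W vector spaces over k with linear maps f : U → E, g' : E → U, f₂ : E → W
and g : W → E such that g' ∘ f = 0, the kernel of f₂ is contained in the image of g, and the image
of g meets the kernel of g' only in 0 — the conditions holding at a point of a linked Grassmannian
at which the linking scalar vanishes. Let V₁ ≤ U and V₂ ≤ E be subspaces and let C' ≤ V₂ be a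
subspace contained in the kernel of g' and meeting f(V₁) only in 0. Then the subspaces f(V₁), ker f₂
∩ V₂ and C' of E are independent: their sum is direct. (The published statement is for two
consecutive members V_{i-1}, V_i of a point of a linked Grassmannian at which the linking scalar
vanishes and adds the decomposition V_i = f(V_{i-1}) ⊕ (ker f_i ∩ V_i) ⊕ C with C ⊇ C'; this row
states the independence, with only the three conditions the argument uses.) -/
theorem result (k : Type u) [Field k]
    (U : Type v) (E : Type w) (W : Type x) [AddCommGroup U] [Module k U] [AddCommGroup E]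
    [Module k E] [AddCommGroup W] [Module k W]
    (f : U →ₗ[k] E) (g' : E →ₗ[k] U) (f₂ : E →ₗ[k] W) (g : W →ₗ[k] E)
    (hgf : g'.comp f = 0) (hII : LinearMap.ker f₂ ≤ LinearMap.range g)
    (hIII : LinearMap.range g ⊓ LinearMap.ker g' = ⊥)
    (V₁ : Submodule k U) (V₂ : Submodule k E) (C' : Submodule k E) (hC : C' ≤ V₂)
    (hCg : C' ≤ LinearMap.ker g') (hCf : Submodule.map f V₁ ⊓ C' = ⊥) :
    iSupIndep ![Submodule.map f V₁, LinearMap.ker f₂ ⊓ V₂, C'] := by
  rw [iSupIndep_iff_finsetSum_eq_zero_imp_eq_zero]
  intro s v hv hsum i hi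
  set w : Fin 3 → E := fun j => if j ∈ s then v j else 0 with hw
  have hmem : ∀ j, w j ∈ (![Submodule.map f V₁, LinearMap.ker f₂ ⊓ V₂, C'] : Fin 3 → _) j := by
    intro j
    by_cases h : j ∈ s
    · simpa [hw, h] using hv j h
    · simp [hw, h]
  have htot : w 0 + w 1 + w 2 = 0 := by
    rw [← Fin.sum_univ_three w]
    simpa [hw, Finset.sum_ite_mem] using hsum
  have h0 : w 0 ∈ Submodule.map f V₁ := hmem 0
  have h1 : w 1 ∈ LinearMap.ker f₂ ⊓ V₂ := hmem 1
  have h2 : w 2 ∈ C' := hmem 2
  have g0 : g' (w 0) = 0 := by
    obtain ⟨x, -, hx⟩ := h0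
    rw [← hx]
    exact LinearMap.congr_fun hgf x
  have g1 : g' (w 1) = 0 := by
    have := congrArg g' htot
    have g2 : g' (w 2) = 0 := hCg h2
    simpa [g0, g2] using this
  have e1 : w 1 = 0 := by
    have : w 1 ∈ LinearMap.range g ⊓ LinearMap.ker g' := ⟨hII h1.1, g1⟩
    rw [hIII] at this
    exact (Submodule.mem_bot k).1 this
  have e0 : w 0 = 0 := by
    have : w 0 ∈ Submodule.map f V₁ ⊓ C' := by
      refine ⟨h0, ?_⟩
      rw [e1, add_zero] at htot
      rw [eq_neg_of_add_eq_zero_left htot]
      exact C'.neg_mem h2
    rw [hCf] at this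
    exact (Submodule.mem_bot k).1 this
  have e2 : w 2 = 0 := by simpa [e0, e1] using htot
  have : w i = 0 := by fin_cases i <;> assumption
  simpa [hw, hi] using this

end Groth.Agent.S13925
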