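import Groth.Statements.S13926
import Mathlib

set_option autoImplicit false
universe u v w
open W4c1limliniiii

namespace Groth.Agent.S13926

/-- Let k be a field, E₁ and E₂ finite-dimensional vector spaces over k of the same dimension, f : E₁ →
E₂ and g : E₂ → E₁ linear maps whose composite g ∘ f is multiplication by a scalar s, and V₁ a
subspace of E₁. Then there is a subspace V₂ of E₂ of the same dimension as V₁ with f(V₁) ≤ V₂ and
g(V₂) ≤ V₁. (The published statement is the surjectivity of the truncation morphisms of a linked
Grassmannian, with a further assertion on lifting families; this row is the lifting step over a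
field — over a point the chain of linked subspaces V_1, …, V_{n'} extends one index at a time — and
assumes only g ∘ f = s.) -/
theorem result (k : Type u) [Field k]
    (E₁ : Type v) (E₂ : Type w) [AddCommGroup E₁] [Module k E₁] [FiniteDimensional k E₁]
    [AddCommGroup E₂] [Module k E₂] [FiniteDimensional k E₂]
    (hdim : Module.finrank k E₁ = Module.finrank k E₂)
    (f : E₁ →ₗ[k] E₂) (g : E₂ →ₗ[k] E₁) (s : k) (hgf : g.comp f = s • LinearMap.id)
    (V₁ : Submodule k E₁) :
    ∃ V₂ : Submodule k E₂, Module.finrank k V₂ = Module.finrank k V₁ ∧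
      Submodule.map f V₁ ≤ V₂ ∧ Submodule.map g V₂ ≤ V₁ := by
  have hle : Submodule.map f V₁ ≤ Submodule.comap g V₁ := by
    rintro _ ⟨x, hx, rfl⟩
    show g (f x) ∈ V₁
    have h := LinearMap.congr_fun hgf x
    simp only [LinearMap.comp_apply, LinearMap.smul_apply, LinearMap.id_coe, id_eq] at h
    rw [h]
    exact V₁.smul_mem s hx
  have hub : Module.finrank k V₁ ≤ Module.finrank k (Submodule.comap g V₁) := by
    have h1 := (g.domRestrict (Submodule.comap g V₁)).finrank_range_add_finrank_ker
    have h2 : LinearMap.range (g.domRestrict (Submodule.comap g V₁)) = LinearMap.range g ⊓ V₁ := by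
      ext y
      constructor
      · rintro ⟨⟨x, hx⟩, rfl⟩
        exact ⟨⟨x, rfl⟩, hx⟩
      · rintro ⟨⟨x, rfl⟩, hy⟩
        exact ⟨⟨x, hy⟩, rfl⟩
    have h3 : Module.finrank k (LinearMap.ker (g.domRestrict (Submodule.comap g V₁))) = Module.finrank k (LinearMap.ker g) := by
      rw [LinearMap.ker_domRestrict]
      exact LinearEquiv.finrank_eq (Submodule.comapSubtypeEquivOfLe (LinearMap.ker_le_comap g))
    rw [h2, h3] at h1
    have h4 := Submodule.finrank_sup_add_finrank_inf_eq (LinearMap.range g) V₁
    have h5 := g.finrank_range_add_finrank_ker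
    have h6 := Submodule.finrank_le (LinearMap.range g ⊔ V₁)
    omega
  have hlb : Module.finrank k (Submodule.map f V₁) ≤ Module.finrank k V₁ := Submodule.finrank_map_le f V₁
  have key : ∀ j : ℕ, Module.finrank k (Submodule.map f V₁) + j ≤ Module.finrank k (Submodule.comap g V₁) →
      ∃ C : Submodule k E₂, Module.finrank k C = Module.finrank k (Submodule.map f V₁) + j ∧
        Submodule.map f V₁ ≤ C ∧ C ≤ Submodule.comap g V₁ := by
    intro j
    induction j with
    | zero => exact fun _ => ⟨_, rfl, le_rfl, hle⟩
    | succ j ih =>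
      intro hj
      obtain ⟨C, hC, h1, h2⟩ := ih (by omega)
      obtain ⟨x, hxB, hxC⟩ := Set.exists_of_ssubset (show (C : Set E₂) ⊂ Submodule.comap g V₁ from
        SetLike.coe_ssubset_coe.2 (lt_of_le_of_ne h2 (by rintro rfl; omega)))
      refine ⟨C ⊔ Submodule.span k {x}, ?_, le_sup_of_le_left h1, sup_le h2 ((Submodule.span_singleton_le_iff_mem x _).2 hxB)⟩
      have hd : C ⊓ Submodule.span k {x} = ⊥ := by
        rw [← disjoint_iff, Submodule.disjoint_span_singleton]
        exact fun hx => absurd hx hxC
      have := Submodule.finrank_sup_add_finrank_inf_eq C (Submodule.span k {x})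
      rw [hd, finrank_bot, finrank_span_singleton (by rintro rfl; exact hxC C.zero_mem)] at this
      omega
  obtain ⟨C, hC, h1, h2⟩ := key (Module.finrank k V₁ - Module.finrank k (Submodule.map f V₁)) (by omega)
  exact ⟨C, by omega, h1, Submodule.map_le_iff_le_comap.2 h2⟩

end Groth.Agent.S13926
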