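import Groth.Statements.S1393
import Groth.Agent.Lib.FlatH4.ModFlatAt
import Groth.Agent.Lib.FlatH4.FibreCritFT
import Groth.Agent.Lib.ModM1.LocFree

set_option autoImplicit false
universe u
open FlatMor

namespace Groth.Agent.S1393

open Groth.Agent


open AlgebraicGeometry CategoryTheory Limits in
/-- Let f : X → S be of finite presentation, F a finitely presented quasi-coherent O_X-module and x a
point with image s. If F is flat over S at x and the stalk at x of the restriction of F to the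
fibre, namely F_x / m_s F_x, is flat over the local ring of the fibre at x, namely O_{X,x} / m_s
O_{X,x}, then F is free of finite rank on some open neighbourhood of x. -/
theorem result {X S : Scheme.{u}} (f : X ⟶ S) [LocallyOfFinitePresentation f] [QuasiCompact f] [QuasiSeparated f]
    (F : X.Modules) (hFq : Coh.IsQCoh F) (hFp : CohB1.IsFP F) (x : X) (h1 : FlatMod.IsFlatOverAt f F x)
    (h2 : Module.Flat (↑(X.presheaf.stalk x) ⧸ Ideal.map (f.stalkMap x).hom (IsLocalRing.maximalIdeal ↑(S.presheaf.stalk (f x))))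
      (↑(F.presheaf.stalk x) ⧸ (Ideal.map (f.stalkMap x).hom (IsLocalRing.maximalIdeal ↑(S.presheaf.stalk (f x))) • (⊤ : Submodule ↑(X.presheaf.stalk x) ↑(F.presheaf.stalk x))))) :
    ∃ (U : X.Opens) (n : ℕ), x ∈ U ∧ Nonempty (F.restrict U.ι ≅ FlatMod.freeMod (↑U) n) := by
  obtain ⟨V, hV, hfxV, -⟩ :=
    exists_isAffineOpen_mem_and_subset (X := S) (x := f x) (U := ⊤) trivial
  obtain ⟨W, hW, hxW, hWV⟩ :=
    exists_isAffineOpen_mem_and_subset (X := X) (x := x) (U := f ⁻¹ᵁ V) hfxV
  haveI := hFq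
  letI : Algebra Γ(S, V) Γ(X, W) := (f.appLE V W hWV).hom.toAlgebra
  letI := FlatH4.secModuleOver f F V W hWV
  haveI : IsScalarTower Γ(S, V) Γ(X, W) Γ(F, W) := IsScalarTower.of_algebraMap_smul fun _ _ => rfl
  haveI : Algebra.FinitePresentation Γ(S, V) Γ(X, W) := f.finitePresentation_appLE hV hW hWV
  haveI : Module.FinitePresentation Γ(X, W) Γ(F, W) := M1.finitePresentation_sections hFp hW
  let q := (hW.primeIdealOf ⟨x, hxW⟩).asIdeal
  letI : Algebra Γ(X, W) (X.presheaf.stalk x) := X.presheaf.algebra_section_stalk ⟨x, hxW⟩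
  haveI hloc : IsLocalization.AtPrime (X.presheaf.stalk x) q := hW.isLocalization_stalk ⟨x, hxW⟩
  letI : Algebra Γ(S, V) (S.presheaf.stalk (f x)) := S.presheaf.algebra_section_stalk ⟨f x, hfxV⟩
  haveI hlocS : IsLocalization.AtPrime (S.presheaf.stalk (f x)) (hV.primeIdealOf ⟨f x, hfxV⟩).asIdeal :=
    hV.isLocalization_stalk ⟨f x, hfxV⟩
  letI := M1.stalkModule F hxW
  haveI : IsScalarTower Γ(X, W) (X.presheaf.stalk x) (F.presheaf.stalk x) :=
    IsScalarTower.of_algebraMap_smul fun _ _ => rfl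
  haveI := M1.isLocalizedModule_germ F hW hxW
  haveI : Module.Flat Γ(X, W) (X.presheaf.stalk x) := IsLocalization.flat _ q.primeCompl
  haveI : Module.Flat Γ(S, V) (LocalizedModule q.primeCompl Γ(F, W)) :=
    (FlatH4.isFlatOverAt_iff f F V hV W hW hWV hxW).1 h1
  have hp : q.comap (algebraMap Γ(S, V) Γ(X, W)) = (hV.primeIdealOf ⟨f x, hfxV⟩).asIdeal :=
    congr($(IsAffineOpen.comap_primeIdealOf_appLE V hV W hW hWV hxW).1)
  have hmS : ((q.comap (algebraMap Γ(S, V) Γ(X, W))).map (algebraMap Γ(S, V) Γ(X, W))).map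
        (algebraMap Γ(X, W) (X.presheaf.stalk x)) =
      Ideal.map (f.stalkMap x).hom (IsLocalRing.maximalIdeal (S.presheaf.stalk (f x))) := by
    rw [← IsLocalization.AtPrime.map_eq_maximalIdeal (hV.primeIdealOf ⟨f x, hfxV⟩).asIdeal
      (S.presheaf.stalk (f x)), hp, Ideal.map_map, Ideal.map_map]
    congr 1
    ext r
    show X.presheaf.germ W x hxW (f.appLE V W hWV r) = f.stalkMap x (S.presheaf.germ V (f x) hfxV r)
    rw [Scheme.Hom.germ_stalkMap_apply]
    exact X.presheaf.germ_res_apply (homOfLE hWV) x hxW _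
  have hfib : FlatH4.FibFlat Γ(X, W) Γ(F, W)
      ((q.comap (algebraMap Γ(S, V) Γ(X, W))).map (algebraMap Γ(S, V) Γ(X, W))) q := by
    refine FlatH4.fibFlat_of_flat_mod_localized (S' := X.presheaf.stalk x) _ q (M1.germₗ F hxW) ?_
    rw [hmS]
    exact h2
  haveI := FlatH4.flat_localized_of_fibFlat_ft (A := Γ(S, V)) (S := Γ(X, W)) q hfib
  have hX : FlatMod.IsFlatAt F x := by
    show Module.Flat (X.presheaf.stalk x) (F.presheaf.stalk x)
    haveI : Module.Flat Γ(X, W) (F.presheaf.stalk x) :=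
      Module.Flat.of_linearEquiv (IsLocalizedModule.iso q.primeCompl (M1.germₗ F hxW)).symm
    exact (Module.flat_iff_of_isLocalization (X.presheaf.stalk x) q.primeCompl _).2 inferInstance
  haveI := M1.free_stalk_of_flat hFp x hX
  exact M1.exists_freeMod_of_free_stalk hFp x

end Groth.Agent.S1393
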