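import Groth.Statements.S13934
import Groth.Agent.Lib.KS29.PosSub
import Groth.Agent.Lib.VB17.Proper
-- import your own Groth.Agent.* helpers here

set_option autoImplicit false
universe u
open CategoryTheory CategoryTheory.Limits AlgebraicGeometry
open W4c1limliniiii

namespace Groth.Agent.S13934

/-- On a smooth proper integral curve over an algebraically closed field (any characteristic), let 0 → L
→ E → M → 0 be a short exact sequence of O_X-modules with E finite locally free of rank 2 and degree
0, L and M invertible and deg L > 0 (so M is det E ⊗ L⁻¹). Then: every invertible sheaf N admitting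
a non-zero map N → E has deg N ≤ deg L, so L is the line bundle of maximal degree in E; every
invertible subsheaf N of E of positive degree with invertible quotient E/N coincides with L (some
isomorphism N ≅ L commutes with the inclusions); and E is not an extension of two invertible sheaves
of degree 0. Degrees are χ(−) minus rank times χ(O_X). (The published lemma is stated on a curve of
genus 2 in characteristic p; its argument uses neither, and this row assumes neither.) -/
theorem result (k : Type u) [Field k] [IsAlgClosed k] (X : Scheme.{u}) [X.Over (Spec (CommRingCat.of k))]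
    [IsIntegral X] [IsProper (X ↘ Spec (CommRingCat.of k))] [Smooth (X ↘ Spec (CommRingCat.of k))]
    (hdim : topologicalKrullDim X = 1)
    (S : ShortComplex X.Modules) (hS : S.ShortExact)
    (hE : FlatMod.IsFinLocFreeOfRank 2 S.X₂) (hE0 : Curv2.deg k X S.X₂ 2 = 0)
    (hL : PicF.IsInvertible S.X₁) (hM : PicF.IsInvertible S.X₃) (hpos : 0 < Curv2.deg k X S.X₁ 1) :
    (∀ (N : X.Modules), PicF.IsInvertible N → ∀ j : N ⟶ S.X₂, j ≠ 0 →
        Curv2.deg k X N 1 ≤ Curv2.deg k X S.X₁ 1) ∧
    (∀ (N : X.Modules), PicF.IsInvertible N → ∀ (j : N ⟶ S.X₂), Mono j →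
        PicF.IsInvertible (cokernel j) → 0 < Curv2.deg k X N 1 → ∃ φ : N ≅ S.X₁, φ.hom ≫ S.f = j) ∧
    (∀ (N N' : X.Modules), PicF.IsInvertible N → PicF.IsInvertible N' →
        Curv2.deg k X N 1 = 0 → Curv2.deg k X N' 1 = 0 →
        ∀ (a : N ⟶ S.X₂) (b : S.X₂ ⟶ N') (w : a ≫ b = 0), ¬ (ShortComplex.mk a b w).ShortExact) := by
  exact Groth.Agent.KS29.PosSub.main (Groth.Agent.VB17.regCurve' hdim) S hS hE hE0 hL hM hpos

end Groth.Agent.S13934
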