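import Groth.Statements.S13936
import Groth.Agent.Lib.PPSec29.Main

set_option autoImplicit false
universe u
open W4c1limliniiii

namespace Groth.Agent.S13936

/-- Let R be a commutative ring, S_Y → S_X a homomorphism of R-algebras (an affine piece of a morphism f
: X → Y of schemes over Spec R) and σ : S_X → R an R-algebra retraction (a section of X over the
base) with kernel I. For e ≥ 1 write T^{e−1} for the augmentation ideal of the ring of principal
parts of order e − 1 (the kernel of P^{e−1} → the algebra; for e = 2 this is the module of
differentials). Then the natural map T^{e−1}(S_Y/R) → T^{e−1}(S_X/R) takes values in I ·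
T^{e−1}(S_X/R) — that is, the induced map f^*T^{e−1}_Y → T^{e−1}_X vanishes at the section σ — if
and only if every element of S_Y whose image in S_X lies in I has image in I^e, which says that the
fibre of f through σ contains the e-th order thickening of σ. (The published statement is for a
morphism of separated schemes over a base and sections over an arbitrary base change; this row is
the affine computation it reduces to.) -/
theorem result (R SY SX : Type u)
    [CommRing R] [CommRing SY] [CommRing SX] [Algebra R SY] [Algebra R SX] [Algebra SY SX]
    [IsScalarTower R SY SX] (σ : SX →ₐ[R] R) (e : ℕ) (he : 1 ≤ e) :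
    (∀ y ∈ PP16.augIdeal (e - 1) R SY,
        PP16.map (e - 1) R SY R SX y ∈
          RingHom.ker σ.toRingHom • (PP16.augIdeal (e - 1) R SX).restrictScalars SX) ↔
      (∀ b : SY, algebraMap SY SX b ∈ RingHom.ker σ.toRingHom →
        algebraMap SY SX b ∈ RingHom.ker σ.toRingHom ^ e) := by
  obtain ⟨n, rfl⟩ : ∃ n, e = n + 1 := ⟨e - 1, by omega⟩
  rw [Nat.add_sub_cancel]
  exact PPSec29.kernel_vanishes_iff σ

end Groth.Agent.S13936
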