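import Groth.Statements.S13937
import Groth.Agent.Lib.RamP1_29.Schubert

set_option autoImplicit false
universe u
open W4c1limliniiii

namespace Groth.Agent.S13937

open Polynomial in
/-- Over an algebraically closed field of characteristic p (zero allowed), fix three distinct points
P_1, P_2, P_3 of the affine line and admissible indices (2 ≤ e_i ≤ d, e_i prime to p, ∑ (e_i − 1) =
2d − 2). The two-dimensional spaces V of polynomials of degree at most d that contain, for each i, a
non-zero member vanishing to order at least e_i at P_i (the intersection of the three Schubert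
cycles in the Grassmannian of pencils) form a projective space of some dimension m ≥ 0: there is a
non-zero linear space L of pairs of polynomials such that sending a non-zero pair (F, G) ∈ L to the
span of F and G is a surjection onto that set of spaces under which two non-zero pairs have the same
image exactly when they are proportional. -/
theorem result (k : Type u) [Field k]
    [IsAlgClosed k] (p : ℕ) [CharP k p] (d : ℕ) (P : Fin 3 → k) (hP : Function.Injective P)
    (e : Fin 3 → ℕ) (he : W4c1limliniiii.Admissible p d e) :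
    ∃ L : Submodule k (k[X] × k[X]), L ≠ ⊥ ∧
      (∀ v ∈ L, v ≠ 0 →
        Submodule.span k {v.1, v.2} ≤ Polynomial.degreeLE k d ∧
          Module.finrank k (Submodule.span k {v.1, v.2}) = 2 ∧
          ∀ i, ∃ s ∈ Submodule.span k {v.1, v.2}, s ≠ 0 ∧
            e i ≤ Polynomial.rootMultiplicity (P i) s) ∧
      (∀ V : Submodule k k[X], V ≤ Polynomial.degreeLE k d → Module.finrank k V = 2 →
        (∀ i, ∃ s ∈ V, s ≠ 0 ∧ e i ≤ Polynomial.rootMultiplicity (P i) s) →
          ∃ v ∈ L, v ≠ 0 ∧ Submodule.span k {v.1, v.2} = V) ∧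
      (∀ v ∈ L, ∀ w ∈ L, v ≠ 0 → w ≠ 0 →
        Submodule.span k {v.1, v.2} = Submodule.span k {w.1, w.2} → ∃ c : k, w = c • v) := by
  obtain ⟨x, hx, hx0⟩ := RamP129.triple_ne_bot (P := P) he
  refine ⟨RamP129.triple d P e, (Submodule.ne_bot_iff _).2 ⟨x, hx, hx0⟩, fun v hv hv0 => ?_,
    fun V h1 h2 h3 => RamP129.schubert_triple hP he ⟨h1, h2, h3⟩, fun v hv w hw hv0 hw0 heq => ?_⟩
  · exact (RamP129.triple_schubert hP he hv hv0).1
  · obtain ⟨⟨a1, a2⟩, ⟨b1, b2⟩, c1⟩ := hv
    obtain ⟨⟨a3, a4⟩, ⟨b3, b4⟩, c2⟩ := hw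
    have hv' : v ∈ RamP129.triple d P e := ⟨⟨a1, a2⟩, ⟨b1, b2⟩, c1⟩
    obtain ⟨-, -, hv1, hv2, -⟩ := RamP129.triple_schubert hP he hv' hv0
    have h1 : w.1 ∈ Submodule.span k {v.1, v.2} := heq ▸ Submodule.subset_span (by simp)
    have h2 : w.2 ∈ Submodule.span k {v.1, v.2} := heq ▸ Submodule.subset_span (by simp)
    obtain ⟨a, b, hab⟩ := Submodule.mem_span_pair.1 h1
    obtain ⟨a', b', hab'⟩ := Submodule.mem_span_pair.1 h2
    have hb : b • v.2 = 0 := RamP129.eq_zero_of_two_dvd hP he (by decide : (0 : Fin 3) ≠ 1)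
      (Submodule.smul_mem _ _ b1)
      (by
        have : b • v.2 = w.1 - a • v.1 := by rw [← hab]; abel
        rw [this]; exact dvd_sub a4 (by rw [Polynomial.smul_eq_C_mul]; exact a2.mul_left _))
      (by rw [Polynomial.smul_eq_C_mul]; exact b2.mul_left _)
    have ha' : a' • v.1 = 0 := RamP129.eq_zero_of_two_dvd hP he (by decide : (0 : Fin 3) ≠ 1)
      (Submodule.smul_mem _ _ a1)
      (by rw [Polynomial.smul_eq_C_mul]; exact a2.mul_left _)
      (by
        have : a' • v.1 = w.2 - b' • v.2 := by rw [← hab']; abel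
        rw [this]; exact dvd_sub b4 (by rw [Polynomial.smul_eq_C_mul]; exact b2.mul_left _))
    rw [hb, add_zero] at hab
    rw [ha', zero_add] at hab'
    have h3 : (a - b') • v.1 = 0 := RamP129.eq_zero_of_two_dvd hP he (by decide : (0 : Fin 3) ≠ 2)
      (Submodule.smul_mem _ _ a1)
      (by rw [Polynomial.smul_eq_C_mul]; exact a2.mul_left _)
      (by
        have : (a - b') • v.1 = (w.1 + w.2) - b' • (v.1 + v.2) := by
          rw [← hab, ← hab', smul_add, sub_smul]; abel
        rw [this]; exact dvd_sub c2 (by rw [Polynomial.smul_eq_C_mul]; exact c1.mul_left _))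
    have hab'' : a = b' := sub_eq_zero.1 ((smul_eq_zero.1 h3).resolve_right hv1)
    exact ⟨a, Prod.ext hab.symm (by rw [← hab', hab'']; rfl)⟩

end Groth.Agent.S13937
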