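import Groth.Statements.S1394
import Groth.Agent.Lib.QFQuot4.Basic

set_option autoImplicit false
universe u
open FlatMor

set_option backward.isDefEq.respectTransparency.types false

namespace Groth.Agent.S1394


theorem main {A B : Type u} [CommRing A] [CommRing B] [IsLocalRing A] [IsLocalRing B] [IsNoetherianRing A]
    [Algebra A B] [IsLocalHom (algebraMap A B)] [Algebra.EssFiniteType A B]
    [Module.Finite (IsLocalRing.ResidueField A) (IsLocalRing.ResidueField B)]
    (V : Set (PrimeSpectrum B)) (hV : IsOpen V) (q : PrimeSpectrum B) (hqV : q ∈ V)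
    (hq : q.asIdeal.comap (algebraMap A B) ≠ IsLocalRing.maximalIdeal A) :
    ∃ q ∈ V, q.asIdeal.comap (algebraMap A B) ≠ IsLocalRing.maximalIdeal A ∧
      Algebra.QuasiFinite A (B ⧸ q.asIdeal) := by
  haveI : IsNoetherianRing B := Algebra.EssFiniteType.isNoetherianRing A B
  suffices H : ∀ P : Ideal B, ∀ hP : P.IsPrime, (⟨P, hP⟩ : PrimeSpectrum B) ∈ V →
      P.comap (algebraMap A B) ≠ IsLocalRing.maximalIdeal A → ∃ q ∈ V,
      q.asIdeal.comap (algebraMap A B) ≠ IsLocalRing.maximalIdeal A ∧ Algebra.QuasiFinite A (B ⧸ q.asIdeal) from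
    H q.asIdeal q.2 hqV hq
  intro P
  induction P using WellFoundedGT.induction with
  | ind P ih =>
  intro hP hPV hPm
  let B' := B ⧸ P
  haveI : IsLocalRing B' := IsLocalRing.of_surjective' (Ideal.Quotient.mk P) Ideal.Quotient.mk_surjective
  haveI : IsLocalHom (Ideal.Quotient.mk P) := IsLocalHom.of_surjective _ Ideal.Quotient.mk_surjective
  haveI : IsLocalHom (algebraMap A B') := by
    rw [show algebraMap A B' = (Ideal.Quotient.mk P).comp (algebraMap A B) from rfl]
    exact RingHom.isLocalHom_comp _ _
  haveI : Module.Finite (IsLocalRing.ResidueField A) (IsLocalRing.ResidueField B') := by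
    let φ := IsLocalRing.ResidueField.map (Ideal.Quotient.mk P)
    let ψ : IsLocalRing.ResidueField B →ₗ[IsLocalRing.ResidueField A] IsLocalRing.ResidueField B' :=
      { toFun := φ
        map_add' := map_add φ
        map_smul' := fun c x => by
          obtain ⟨c, rfl⟩ := IsLocalRing.residue_surjective c
          obtain ⟨x, rfl⟩ := IsLocalRing.residue_surjective x
          rw [Algebra.smul_def, map_mul, RingHom.id_apply, Algebra.smul_def]
          rfl }
    refine Module.Finite.of_surjective ψ fun y => ?_
    obtain ⟨y, rfl⟩ := IsLocalRing.residue_surjective y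
    obtain ⟨y, rfl⟩ := Ideal.Quotient.mk_surjective y
    exact ⟨IsLocalRing.residue B y, rfl⟩
  let I := (IsLocalRing.maximalIdeal A).map (algebraMap A B')
  by_cases hart : IsArtinianRing (B' ⧸ I)
  · exact ⟨⟨P, hP⟩, hPV, hPm, Groth.Agent.QFQuot4.quasiFinite_of_artinian_closed_fibre hart⟩
  obtain ⟨_, ⟨g, rfl⟩, hgP, hsub⟩ :=
    PrimeSpectrum.isTopologicalBasis_basic_opens.exists_subset_of_mem_open hPV hV
  have hlem : IsLocalRing.maximalIdeal A ≤ P.comap (algebraMap A B) → False := fun hle =>
    hPm (((IsLocalRing.maximalIdeal.isMaximal A).eq_of_le (hP.comap (algebraMap A B)).ne_top hle).symm)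
  have hm : I ≠ ⊥ := fun h => hlem fun x hx => by
    rw [Ideal.mem_comap, ← Ideal.Quotient.eq_zero_iff_mem]
    exact (Ideal.mem_bot).1 (h ▸ Ideal.mem_map_of_mem (algebraMap A B') hx)
  obtain ⟨Q, hQ, hQ0, hgQ, hmQ⟩ := Groth.Agent.QFQuot4.exists_bigger (A := A) (B := B') hm hart
    (Ideal.Quotient.mk P g) (fun h => hgP (Ideal.Quotient.eq_zero_iff_mem.1 h))
  have hlt : P < Q.comap (Ideal.Quotient.mk P) := by
    refine lt_of_le_of_ne (fun x hx => ?_) fun h => hQ0 ?_
    · rw [Ideal.mem_comap, Ideal.Quotient.eq_zero_iff_mem.2 hx]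
      exact Q.zero_mem
    · rw [← Ideal.map_comap_of_surjective _ Ideal.Quotient.mk_surjective Q, ← h, Ideal.map_quotient_self]
  refine ih _ hlt (hQ.comap (Ideal.Quotient.mk P)) (hsub hgQ) fun h => hmQ ?_
  rw [Ideal.map_le_iff_le_comap, ← h, Ideal.comap_comap]
  exact le_rfl

/-- Let A → B be a local homomorphism of local rings with A Noetherian, B essentially of finite type
over A, and the residue field of B finite over that of A. Let V ⊆ Spec B be an open subset
containing some prime that does not lie over the maximal ideal of A. Then V contains a prime q, not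
lying over the maximal ideal of A, such that B/q is quasi-finite over A in the sense that every
fibre ring of A → B/q is finite over the corresponding residue field of A. (The published statement
is stronger: there B/q is moreover a localization of a quasi-finite A-algebra of finite type, which
implies this.) -/
theorem result {A B : Type u} [CommRing A] [CommRing B] [IsLocalRing A] [IsLocalRing B] [IsNoetherianRing A]
    [Algebra A B] [IsLocalHom (algebraMap A B)] [Algebra.EssFiniteType A B]
    [Module.Finite (IsLocalRing.ResidueField A) (IsLocalRing.ResidueField B)]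
    (V : Set (PrimeSpectrum B)) (hV : IsOpen V) (hne : ∃ q ∈ V, q.asIdeal.comap (algebraMap A B) ≠ IsLocalRing.maximalIdeal A) :
    ∃ q ∈ V, q.asIdeal.comap (algebraMap A B) ≠ IsLocalRing.maximalIdeal A ∧ Algebra.QuasiFinite A (B ⧸ q.asIdeal) := by
  obtain ⟨q, hqV, hq⟩ := hne
  exact main V hV q hqV hq

end Groth.Agent.S1394
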