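import Groth.Agent.Lib.CharExt23.Main
import Groth.Prelude.Def_CGrpSh2
import Mathlib.NumberTheory.LocalField.Basic
import Mathlib.AlgebraicGeometry.Morphisms.FiniteType
import Mathlib.GroupTheory.Finiteness
import Mathlib.Algebra.CharP.Defs
-- import your own Groth.Agent.* helpers here

set_option autoImplicit false
universe u
namespace TateLoc
end TateLoc
open TateLoc

namespace Groth.Agent.S13942

open CategoryTheory AlgebraicGeometry MonObj in
/-- For a non-archimedean local field k of characteristic p > 0 and an affine commutative k-group scheme
G of finite type, the group of characters of G defined over k (morphisms of abelian sheaves on the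
big fppf site of Spec k from the sheaf of points of G into the multiplicative group) is a finitely
generated abelian group. -/
theorem result (p : ℕ) [Fact p.Prime] (k : Type u) [Field k] [CharP k p]
    [ValuativeRel k] [TopologicalSpace k] [IsNonarchimedeanLocalField k]
    (G : Over (Spec (CommRingCat.of k))) [GrpObj G] [IsCommMonObj G] [IsAffine G.left] [LocallyOfFiniteType G.hom] :
    AddGroup.FG ((CGrpSh.pts Scheme.fppfPrecoverage G) ⟶ (CGrpSh2.Gm Scheme.fppfPrecoverage (Spec (CommRingCat.of k)))) := by
  obtain ⟨A, _, _, _, _, eA, _⟩ := CharExt23.exists_model G
  exact CharExt23.fg_characters eA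

end Groth.Agent.S13942
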