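import Groth.Statements.S1395
import Groth.Agent.Lib.ValPicTriv4.Sec
import Groth.Agent.Lib.Twist.Pullback
-- import your own Groth.Agent.* helpers here

set_option autoImplicit false
universe u
open FlatMor

namespace Groth.Agent.S1395

open AlgebraicGeometry CategoryTheory Limits in
/-- Over a valuation ring A consider a proper, flat morphism of finite presentation f : X → Spec A and
an invertible O_X-module L. If L is trivial on the generic fibre, the closed fibre is integral, and
the global functions of the generic fibre are just the fraction field (the residue field of the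
generic point), then L is trivial. -/
theorem result {A : Type u} [CommRing A] [IsDomain A] [ValuationRing A] {X : Scheme.{u}}
    (f : X ⟶ Spec (CommRingCat.of A)) [IsProper f] [Flat f] [LocallyOfFinitePresentation f] (L : X.Modules) (hL : PicF.IsInvertible L)
    (htriv : Nonempty ((Scheme.Modules.pullback (f.fiberι (genericPoint ↑(Spec (CommRingCat.of A))))).obj L ≅
      Coh.structureModule (f.fiber (genericPoint ↑(Spec (CommRingCat.of A))))))
    (hint : IsIntegral (f.fiber (IsLocalRing.closedPoint A)))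
    (h0 : Function.Bijective ((f.fiberToSpecResidueField (genericPoint ↑(Spec (CommRingCat.of A)))).appTop)) :
    Nonempty (L ≅ Coh.structureModule X) := by
  classical
  open Groth.Agent.M1 Groth.Agent.Twist Groth.Agent.ValPicTriv4 in
  haveI : Coh.IsQCoh L := Twist.isQCoh_of_isInvertible hL
  obtain ⟨s, hs⟩ := exists_section f L hL htriv
  let Good : X → X.Opens → A → Prop := fun x V c =>
    x ∈ V ∧ c ≠ 0 ∧ ∃ e : Γ(L, V), IsGen L V e ∧ mres L (le_top : V ≤ ⊤) s = alg f V c • e
  have unitGen : ∀ {V : X.Opens} {e : Γ(L, V)} {u : Γ(X, V)}, IsUnit u → IsGen L V e → IsGen L V (u • e) := by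
    intro V e u hu he W hW
    simp only [mres_smul, ← mul_smul]
    exact (he W hW).comp (Units.mulRight_bijective (hu.map (ores hW).hom).unit)
  -- local structure at the closed fibre
  have hgood : ∀ x : X, f x = IsLocalRing.closedPoint A → ∃ V c, Good x V c := by
    intro x hx
    letI : Algebra A (X.presheaf.stalk x) := (algSt f x).toAlgebra
    haveI : Module.Flat A (X.presheaf.stalk x) := stalk_flat f x
    haveI : Algebra.EssFiniteType A (X.presheaf.stalk x) := stalk_essFiniteType f x
    haveI : IsLocalHom (algebraMap A (X.presheaf.stalk x)) := stalk_isLocalHom f hx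
    obtain ⟨D, e₀, hxD, he₀⟩ := PicDesc21.exists_gen hL x
    obtain ⟨U, hU, hxU, hUD⟩ := exists_isAffineOpen_mem_and_subset hxD
    obtain ⟨b, hb⟩ := (he₀ U hUD).2 (mres L le_top s)
    have hbas : ∀ q : PrimeSpectrum Γ(X, U), q.asIdeal.comap (alg f U) = ⊥ → b ∉ q.asIdeal := by
      intro q hq
      have hqU : hU.fromSpec q ∈ U := hU.range_fromSpec.le ⟨q, rfl⟩
      have hη : f (hU.fromSpec q) = η A := by
        apply PrimeSpectrum.ext
        refine (?_ : _ = (⊥ : Ideal A)).trans η_asIdeal.symm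
        rw [← hq]
        show ((hU.fromSpec ≫ f) q).asIdeal = _
        rw [← specMap_alg f hU]
        rfl
      have h1 := hs U _ b (he₀.mres hUD) hb.symm (hU.fromSpec q) hqU hη
      have h2 : q ∈ hU.fromSpec ⁻¹ᵁ X.basicOpen b := h1
      rw [hU.fromSpec_preimage_basicOpen] at h2
      exact h2
    obtain ⟨d, hd, e', he'⟩ : ∃ (d : A) (_ : d ≠ 0) (e' : Γ(X, U)), b * e' = alg f U d := by
      by_contra hne
      simp only [not_exists] at hne
      let S : Submonoid Γ(X, U) := (nonZeroDivisors A).map (alg f U)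
      have hdisj : Disjoint (Ideal.span {b} : Set Γ(X, U)) S := Set.disjoint_left.2 fun z hz hz' => by
        obtain ⟨d, hd, rfl⟩ := hz'
        obtain ⟨e', he'⟩ := Ideal.mem_span_singleton.1 hz
        exact hne d (nonZeroDivisors.ne_zero hd) e' he'.symm
      obtain ⟨P, hP, hbP, hPS⟩ := Ideal.exists_le_prime_disjoint _ S hdisj
      refine hbas ⟨P, hP⟩ (eq_bot_iff.2 fun a ha => ?_) (hbP (Ideal.mem_span_singleton_self b))
      by_contra ha0
      exact Set.disjoint_left.1 hPS ha ⟨a, mem_nonZeroDivisors_of_ne_zero (fun h => ha0 h), rfl⟩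
    obtain ⟨c, hc, u, hu, hbu⟩ := exists_eq_mul_unit (A := A) (O := X.presheaf.stalk x) (stalk_isPrime f hx hint) hd
      (b := X.presheaf.germ U x hxU b) (e := X.presheaf.germ U x hxU e') (by
        rw [← map_mul, he', germ_alg f hxU]; rfl)
    obtain ⟨W, hxW, u₀, rfl⟩ := X.presheaf.exists_germ_eq u
    let W' := X.basicOpen u₀ ⊓ U
    have hxW' : x ∈ W' := ⟨(X.mem_basicOpen u₀ x hxW).2 hu, hxU⟩
    have hW'W : W' ≤ W := inf_le_left.trans (X.basicOpen_le u₀)
    have hgerm : X.presheaf.germ W' x hxW' (ores inf_le_right b) =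
        X.presheaf.germ W' x hxW' (alg f W' c * ores hW'W u₀) := by
      rw [TopCat.Presheaf.germ_res_apply, map_mul, germ_alg f hxW', TopCat.Presheaf.germ_res_apply]
      exact hbu
    obtain ⟨V, hxV, i₁, i₂, hV⟩ := X.presheaf.germ_eq x hxW' hxW' _ _ hgerm
    have hVU : V ≤ U := i₁.le.trans inf_le_right
    have hVW : V ≤ W := i₁.le.trans hW'W
    have hu' : IsUnit (ores hVW u₀) := by
      have h1 := (RingedSpace.isUnit_res_basicOpen (X := X.toRingedSpace) u₀).map
        (ores (i₁.le.trans inf_le_left : V ≤ X.basicOpen u₀)).hom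
      convert h1 using 1
      exact (ores_ores (X.basicOpen_le u₀) _ u₀).symm
    refine ⟨V, c, hxV, hc, ores hVW u₀ • mres L (hVU.trans hUD) e₀, unitGen hu' (he₀.mres _), ?_⟩
    have h2 := congrArg (mres L hVU) hb
    simp only [mres_smul, mres_mres] at h2
    rw [← mul_smul, ← h2]
    congr 1
    have h3 : ores i₁.le (ores inf_le_right b) = ores i₁.le (alg f W' c * ores hW'W u₀) := hV
    rw [ores_ores, map_mul, ores_ores] at h3
    rw [h3]
    congr 1
    exact res_alg f i₁.le c
  -- the generic point of the closed fibre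
  haveI := hint
  let ξ : X := f.fiberι (IsLocalRing.closedPoint A) (genericPoint (f.fiber (IsLocalRing.closedPoint A)))
  have hξ : f ξ = IsLocalRing.closedPoint A := (f.range_fiberι _).le ⟨_, rfl⟩
  obtain ⟨Vξ, c, hξV, hc, eξ, heξ, hsξ⟩ := hgood ξ hξ
  have hall : ∀ x : X, f x = IsLocalRing.closedPoint A → ∃ V, Good x V c := by
    intro x hx
    obtain ⟨V, c', hxV, hc', e, he, hse⟩ := hgood x hx
    obtain ⟨w, rfl⟩ : x ∈ Set.range (f.fiberι (IsLocalRing.closedPoint A)) := (f.range_fiberι _).symm.le hx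
    have hξV' : ξ ∈ V := (((genericPoint_spec _).specializes trivial).map
      (f.fiberι (IsLocalRing.closedPoint A)).continuous).mem_open V.2 hxV
    obtain ⟨r, hr⟩ := (he (V ⊓ Vξ) inf_le_left).2 (mres L inf_le_right eξ)
    obtain ⟨r', hr'⟩ := (heξ (V ⊓ Vξ) inf_le_right).2 (mres L inf_le_left e)
    have hrr : IsUnit r := by
      refine IsUnit.of_mul_eq_one r' ((he (V ⊓ Vξ) inf_le_left).1 ?_)
      show (r * r') • mres L inf_le_left e = (1 : Γ(X, V ⊓ Vξ)) • mres L inf_le_left e
      rw [one_smul, mul_comm, mul_smul, show r • mres L inf_le_left e = mres L inf_le_right eξ from hr]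
      exact hr'
    have h1 : alg f (V ⊓ Vξ) c' = alg f (V ⊓ Vξ) c * r := by
      refine (he (V ⊓ Vξ) inf_le_left).1 ?_
      show alg f (V ⊓ Vξ) c' • mres L inf_le_left e = (alg f (V ⊓ Vξ) c * r) • mres L inf_le_left e
      rw [mul_smul, show r • mres L inf_le_left e = mres L inf_le_right eξ from hr]
      have ha := congrArg (mres L (inf_le_left : V ⊓ Vξ ≤ V)) hse
      have hb := congrArg (mres L (inf_le_right : V ⊓ Vξ ≤ Vξ)) hsξ
      simp only [mres_smul, mres_mres, res_alg] at ha hb
      exact ha.symm.trans hb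
    letI : Algebra A (X.presheaf.stalk ξ) := (algSt f ξ).toAlgebra
    haveI : Module.Flat A (X.presheaf.stalk ξ) := stalk_flat f ξ
    haveI : IsLocalHom (algebraMap A (X.presheaf.stalk ξ)) := stalk_isLocalHom f hξ
    have hξ2 : ξ ∈ V ⊓ Vξ := ⟨hξV', hξV⟩
    have h2 := congrArg (X.presheaf.germ (V ⊓ Vξ) ξ hξ2) h1
    rw [map_mul, germ_alg f hξ2, germ_alg f hξ2] at h2
    obtain ⟨a, rfl⟩ := exists_unit_of_eq (O := X.presheaf.stalk ξ) hc hc'
      (hrr.map (X.presheaf.germ (V ⊓ Vξ) ξ hξ2).hom) h2
    refine ⟨V, hxV, hc, alg f V (a : A) • e, unitGen (a.isUnit.map _) he, ?_⟩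
    rw [← mul_smul, ← map_mul]
    exact hse
  -- glue
  let ι := {x : X // f x = IsLocalRing.closedPoint A}
  choose V hxV hcne e he hse using fun x : ι => hall x.1 x.2
  have hcov : (⊤ : X.Opens) ≤ ⨆ x, V x := by
    intro z _
    by_contra hz
    have hclosed : IsClosed (f '' ((⨆ x, V x : X.Opens) : Set X)ᶜ) :=
      f.isClosedMap _ (⨆ x, V x : X.Opens).2.isClosed_compl
    obtain ⟨y, hy, hfy⟩ : IsLocalRing.closedPoint A ∈ f '' ((⨆ x, V x : X.Opens) : Set X)ᶜ :=
      (IsLocalRing.specializes_closedPoint (f z)).mem_closed hclosed ⟨z, hz, rfl⟩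
    exact hy (TopologicalSpace.Opens.mem_iSup.2 ⟨⟨y, hfy⟩, hxV ⟨y, hfy⟩⟩)
  have hreg : ∀ (W : X.Opens) (r : Γ(X, W)), alg f W c * r = 0 → r = 0 := by
    intro W r hr
    refine TopCat.Presheaf.section_ext X.sheaf W r 0 fun x hx => ?_
    letI : Algebra A (X.presheaf.stalk x) := (algSt f x).toAlgebra
    haveI : Module.Flat A (X.presheaf.stalk x) := stalk_flat f x
    have h1 := congrArg (X.presheaf.germ W x hx) hr
    rw [map_mul, map_zero, germ_alg f hx] at h1
    exact (smul_eq_zero' (O := X.presheaf.stalk x) hc h1).trans (map_zero (X.presheaf.germ W x hx).hom).symm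
  obtain ⟨t, ht, -⟩ := TopCat.Sheaf.existsUnique_gluing' ⟨_, L.isSheaf⟩ V ⊤ (fun x => homOfLE le_top) hcov
    (fun x => (e x : Γ(L, V x))) fun x y => by
      show mres L (inf_le_left : V x ⊓ V y ≤ V x) (e x) = mres L (inf_le_right : V x ⊓ V y ≤ V y) (e y)
      obtain ⟨r, hr⟩ := (he x (V x ⊓ V y) inf_le_left).2 (mres L inf_le_right (e y))
      have hr' : r • mres L (inf_le_left : V x ⊓ V y ≤ V x) (e x) = mres L inf_le_right (e y) := hr
      have ha := congrArg (mres L (inf_le_left : V x ⊓ V y ≤ V x)) (hse x)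
      have hb := congrArg (mres L (inf_le_right : V x ⊓ V y ≤ V y)) (hse y)
      simp only [mres_smul, mres_mres, res_alg] at ha hb
      rw [hb, ← hr', ← mul_smul] at ha
      have h1 : r = 1 := by
        refine sub_eq_zero.1 (hreg _ _ ?_)
        rw [mul_sub, mul_one, sub_eq_zero]
        exact (he x (V x ⊓ V y) inf_le_left).1 ha
      rw [← hr', h1, one_smul]
  have ht' : IsGen L ⊤ t := isGen_of_stalk fun z hz => by
    obtain ⟨x, hx⟩ := TopologicalSpace.Opens.mem_iSup.1 (hcov hz)
    have hx' : mres L (le_top : V x ≤ ⊤) t = e x := ht x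
    have h1 := (he x).stalk hx
    rw [← hx'] at h1
    simpa only [germ_mres] using h1
  let U : PUnit.{u + 1} → X.Opens := fun _ => ⊤
  have hiso := isIso_glueHom U iSup_const (fun _ => (one ⊤ : Γ(Coh.structureModule X, ⊤))) (fun _ => t)
    (fun _ => ParaFDesc27.isGen_one) (fun _ => ht') fun i j V hi hj r hr => by
      have h1 : r = 1 := ((ParaFDesc27.isGen_one (X := X)) V hi).1
        (show r • mres (Coh.structureModule X) hi (one ⊤) = (1 : Γ(X, V)) • mres _ hi (one ⊤) by
          rw [one_smul]; exact hr.symm)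
      rw [h1, one_smul]
  exact ⟨(@asIso _ _ _ _ _ hiso).symm⟩

end Groth.Agent.S1395
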