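import Groth.Statements.S13951
import Groth.Agent.Lib.AlgSpDescent.RedNoeth
import Mathlib.AlgebraicGeometry.Morphisms.QuasiFinite
import Mathlib.Topology.Separation.Connected

set_option autoImplicit false
universe u
open TateLoc

namespace Groth.Agent.S13951


open CategoryTheory AlgebraicGeometry CategoryTheory.Limits MonObj CartesianMonoidalCategory in
theorem subsingleton_hom (S : Scheme.{u}) (I : Over S) [GrpObj I] [IsFinite I.hom]
    (hconn : ∀ s : S, ConnectedSpace ↥(I.hom.fiber s)) (T : Over S) [IsReduced T.left] : Subsingleton (T ⟶ I) := by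
  let e : S ⟶ I.left := η[I].left
  have he : e ≫ I.hom = 𝟙 S := Over.w η[I]
  haveI : IsClosedImmersion (e ≫ I.hom) := by rw [he]; infer_instance
  haveI : IsClosedImmersion e := IsClosedImmersion.of_comp e I.hom
  haveI : Surjective e := ⟨fun x => by
    haveI := hconn (I.hom x)
    haveI : Subsingleton ↥(I.hom.fiber (I.hom x)) := PreconnectedSpace.trivial_of_discrete
    refine ⟨I.hom x, ?_⟩
    have hx : x ∈ Set.range (I.hom.fiberι (I.hom x)) := by rw [Scheme.Hom.range_fiberι]; rfl
    have hy : e (I.hom x) ∈ Set.range (I.hom.fiberι (I.hom x)) := by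
      rw [Scheme.Hom.range_fiberι, Set.mem_preimage, Set.mem_singleton_iff, ← Scheme.Hom.comp_apply, he]
      rfl
    obtain ⟨a, ha⟩ := hx
    obtain ⟨b, hb⟩ := hy
    rw [← hb, Subsingleton.elim b a, ha]⟩
  refine ⟨fun g g' => Over.OverMorphism.ext ?_⟩
  suffices h : ∀ g : T ⟶ I, g.left = T.hom ≫ e by rw [h g, h g']
  intro g
  haveI : IsIso (pullback.fst g.left e) := isIso_of_isClosedImmersion_of_surjective _
  have hg : g.left = inv (pullback.fst g.left e) ≫ pullback.snd g.left e ≫ e := by
    rw [← pullback.condition, IsIso.inv_hom_id_assoc]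
  have h2 : inv (pullback.fst g.left e) ≫ pullback.snd g.left e = T.hom := by
    rw [← Over.w g]
    conv_rhs => rw [hg, Category.assoc, Category.assoc, he, Category.comp_id]
  rw [hg, ← Category.assoc, h2]

open CategoryTheory AlgebraicGeometry CategoryTheory.Limits in
/-- Let S be a reduced scheme and I a finite locally free commutative S-group scheme (finite, flat, of
finite presentation) whose fibres over all points of S are connected. Then the restriction of the
sheaf of points of I from the big fppf site of S to the small etale site of S is the zero sheaf. -/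
theorem result (S : Scheme.{u}) [IsReduced S]
    (I : Over S) [GrpObj I] [IsCommMonObj I] [IsFinite I.hom] [Flat I.hom] [LocallyOfFinitePresentation I.hom]
    (hconn : ∀ s : S, ConnectedSpace ↥(I.hom.fiber s)) :
    IsZero ((BigSite.resEt Scheme.fppfPrecoverage S).obj (CGrpSh.pts Scheme.fppfPrecoverage I)) := by
  refine Limits.IsZero.of_iso (Limits.isZero_zero _) ?_
  refine (IsZero.isoZero ?_)
  rw [IsZero.iff_id_eq_zero]
  apply ObjectProperty.hom_ext
  ext U x
  apply ULift.ext
  haveI : IsReduced ((EtFppf.a S).obj U.unop).left :=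
    Groth.Agent.AlgSpDescent.isReduced_up ((EtFppf.a S).obj U.unop).hom U.unop.prop inferInstance
  haveI := subsingleton_hom S I hconn ((EtFppf.a S).obj U.unop)
  exact Subsingleton.elim (α := Additive ((EtFppf.a S).obj U.unop ⟶ I)) _ _

end Groth.Agent.S13951
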