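import Groth.Statements.S13953

set_option autoImplicit false
universe u
open TateLoc

namespace Groth.Agent.S13953

/-- Let (R_i) be a family of local commutative rings and R = ∏ R_i. Any open cover of Spec R can be
refined by one coming from a finite partition of the index set: there is a map c from the index set
to a finite set such that, for each value m, the basic open subset of Spec R defined by the
idempotent which is 1 at the indices with c i = m and 0 elsewhere (this open is the spectrum of the
product of the R_i over that class) is contained in some member of the cover. -/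
theorem result {ι : Type u} (R : ι → Type u)
    [∀ i, CommRing (R i)] [∀ i, IsLocalRing (R i)] {J : Type u}
    (U : J → TopologicalSpace.Opens (PrimeSpectrum (∀ i, R i))) (hU : ⨆ j, U j = ⊤) :
    ∃ (n : ℕ) (c : ι → Fin n), ∀ m : Fin n, ∃ j : J,
      PrimeSpectrum.basicOpen (fun i => if c i = m then (1 : R i) else 0) ≤ U j := by
  classical
  have hcov : ⋃ j, (U j : Set (PrimeSpectrum (∀ i, R i))) = Set.univ := by
    rw [← TopologicalSpace.Opens.coe_iSup, hU]; rfl
  let B := {f : (∀ i, R i) // ∃ j, PrimeSpectrum.basicOpen f ≤ U j}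
  have hspan : Ideal.span (Set.range (Subtype.val : B → (∀ i, R i))) = ⊤ := by
    rw [← PrimeSpectrum.iSup_basicOpen_eq_top_iff, eq_top_iff]
    intro x _
    obtain ⟨j, hj⟩ := Set.mem_iUnion.1 ((Set.eq_univ_iff_forall.1 hcov) x)
    obtain ⟨_, ⟨f, rfl⟩, hxf, hfU⟩ :=
      PrimeSpectrum.isTopologicalBasis_basic_opens.exists_subset_of_mem_open hj (U j).2
    exact TopologicalSpace.Opens.mem_iSup.2 ⟨⟨f, j, hfU⟩, hxf⟩
  obtain ⟨g, hg⟩ := Finsupp.mem_span_range_iff_exists_finsupp.1
    ((Ideal.eq_top_iff_one _).1 hspan)
  let e := g.support.equivFin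
  have hex : ∀ i, ∃ b : g.support, IsUnit ((b.1 : ∀ i, R i) i) := by
    intro i
    by_contra hh
    push_neg at hh
    have : (1 : R i) ∈ IsLocalRing.maximalIdeal (R i) := by
      have h1 := congrFun hg i
      simp only [Finsupp.sum, Finset.sum_apply, Pi.smul_apply', smul_eq_mul, Pi.one_apply] at h1
      rw [← h1]
      exact sum_mem fun b hb => Ideal.mul_mem_left _ _ (hh ⟨b, hb⟩)
    exact (IsLocalRing.mem_maximalIdeal _).1 this isUnit_one
  choose b hb using hex
  refine ⟨g.support.card, fun i => e (b i), fun m => ?_⟩
  obtain ⟨j, hj⟩ := (e.symm m).1.2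
  refine ⟨j, le_trans ?_ hj⟩
  let h : ∀ i, R i := fun i => if hc : e (b i) = m then ((hb i).unit⁻¹ : (R i)ˣ) else 0
  have : (fun i => if e (b i) = m then (1 : R i) else 0) = (e.symm m).1.1 * h := by
    funext i
    simp only [Pi.mul_apply, h]
    split_ifs with hc
    · subst hc; simp
    · simp
  rw [this]
  exact PrimeSpectrum.basicOpen_mul_le_left _ _
end Groth.Agent.S13953
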