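import Groth.Statements.S13954
import Groth.Agent.Lib.PicAffSp12.Main
-- import your own Groth.Agent.* helpers here

set_option autoImplicit false
set_option backward.isDefEq.respectTransparency false
universe u
open TateLoc

namespace Groth.Agent.S13954

open Groth.Agent CategoryTheory AlgebraicGeometry in
/-- Let X be a reduced scheme whose invertible modules are all trivial (Pic X = 0), and n a natural
number. If for every point x of X all invertible modules on affine n-space over Spec of the local
ring of X at x are trivial, then all invertible modules on affine n-space over X are trivial. -/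
theorem result (X : Scheme.{u}) [IsReduced X] (n : ℕ)
    (hX : (∀ L : (X).Modules, PicF.IsInvertible L → Nonempty (L ≅ Coh.structureModule (X))))
    (hloc : ∀ x : X, (∀ L : (AffineSpace (ULift.{u} (Fin n)) (Spec (X.presheaf.stalk x))).Modules, PicF.IsInvertible L → Nonempty (L ≅ Coh.structureModule (AffineSpace (ULift.{u} (Fin n)) (Spec (X.presheaf.stalk x)))))) :
    (∀ L : (AffineSpace (ULift.{u} (Fin n)) X).Modules, PicF.IsInvertible L → Nonempty (L ≅ Coh.structureModule (AffineSpace (ULift.{u} (Fin n)) X))) := by
  intro L hL
  obtain ⟨t⟩ := hX _ (PicLoc.isInvertible_pullback (PicAffSp12.zeroSec (ULift.{u} (Fin n)) X) hL)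
  exact PicAffSp12.trivial_of_zero ⟨t⟩ fun x => PicAffSp12.exists_gen_near hL x
    (hloc x _ (PicLoc.isInvertible_pullback _ hL))

end Groth.Agent.S13954
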