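import Groth.Statements.S13955
import Mathlib.RingTheory.PicardGroup
import Mathlib.RingTheory.Polynomial.Content
import Mathlib.RingTheory.MvPolynomial.Homogeneous
import Mathlib.Algebra.MvPolynomial.NoZeroDivisors
import Mathlib.RingTheory.Valuation.ValuationRing
import Mathlib.RingTheory.PrincipalIdealDomain

set_option autoImplicit false
universe u
open TateLoc

namespace Groth.Agent.S13955

open TensorProduct MvPolynomial

/-- GCD domains are stable under ring isomorphisms. -/
theorem isGCDMonoid_of_equiv {α β : Type*} [CommRing α] [CommRing β] [IsDomain β] (e : α ≃+* β)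
    (h : IsGCDMonoid α) : IsGCDMonoid β := by
  refine isGCDMonoid_iff_exists_gcd.2 ⟨inferInstance, fun a b => ?_⟩
  obtain ⟨c, hc⟩ := (isGCDMonoid_iff_exists_gcd.1 h).2 (e.symm a) (e.symm b)
  refine ⟨e c, fun d => ?_⟩
  have h1 : ∀ x, d ∣ x ↔ e.symm d ∣ e.symm x := fun x => (map_dvd_iff e.symm).symm
  rw [h1, h1, h1, e.symm_apply_apply]
  exact hc _

/-- A polynomial ring in finitely many variables over a GCD domain is a GCD domain. -/
theorem isGCDMonoid_mvPolynomial (R : Type*) [CommRing R] [IsDomain R] [IsGCDMonoid R] :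
    ∀ n, IsGCDMonoid (MvPolynomial (Fin n) R)
  | 0 => isGCDMonoid_of_equiv (MvPolynomial.isEmptyAlgEquiv R (Fin 0)).symm.toRingEquiv inferInstance
  | n + 1 => by
    haveI := isGCDMonoid_mvPolynomial R n
    exact isGCDMonoid_of_equiv (MvPolynomial.finSuccEquiv R n).symm.toRingEquiv inferInstance

/-- The coordinates of a module whose base change is free of rank one. -/
theorem exists_rankOne {S T : Type u} [CommRing S] [CommRing T] [Algebra S T] {P : Type u}
    [AddCommGroup P] [Module S P] {m : ℕ} (s : Fin m → P →ₗ[S] S) (x : Fin m → P)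
    (hsx : ∀ p, ∑ a, s a p • x a = p) (φ : T ⊗[S] P ≃ₗ[T] T) :
    ∃ v w : Fin m → T, ∑ a, w a * v a = 1 ∧ ∀ a b, algebraMap S T (s a (x b)) = v a * w b := by
  let f : Fin m → T ⊗[S] P →ₗ[T] T := fun a =>
    (TensorProduct.AlgebraTensorModule.rid S T T).toLinearMap ∘ₗ (s a).baseChange T
  have hf : ∀ a p, f a (1 ⊗ₜ p) = algebraMap S T (s a p) := fun a p => by
    simp [f, Algebra.smul_def]
  set u := φ.symm 1 with hu
  have hu' : ∀ z, z = φ z • u := fun z => φ.injective (by simp [hu])
  have key : ∀ a p, algebraMap S T (s a p) = φ (1 ⊗ₜ p) * f a u := fun a p => by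
    conv_lhs => rw [← hf a p, hu' (1 ⊗ₜ p), map_smul, smul_eq_mul]
  refine ⟨fun a => f a u, fun b => φ (1 ⊗ₜ x b), ?_, fun a b => by rw [key]; ring⟩
  have h1 : ∀ z, (∑ a, φ (1 ⊗ₜ x a) * f a u - 1) * φ z = 0 := by
    intro z
    induction z using TensorProduct.induction_on with
    | add z z' hz hz' => rw [map_add, mul_add, hz, hz', add_zero]
    | zero => simp
    | tmul t p =>
      have e : (t ⊗ₜ[S] p) = t • ((1 : T) ⊗ₜ[S] p) := by simp [TensorProduct.smul_tmul']
      have e2 : φ (1 ⊗ₜ p) = ∑ a, algebraMap S T (s a p) * φ (1 ⊗ₜ x a) := by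
        conv_lhs => rw [← hsx p, TensorProduct.tmul_sum, map_sum]
        refine Finset.sum_congr rfl fun a _ => ?_
        rw [TensorProduct.tmul_smul, ← algebraMap_smul T (s a p) ((1 : T) ⊗ₜ[S] x a), map_smul,
          smul_eq_mul]
      rw [e, map_smul, smul_eq_mul, mul_left_comm, sub_mul, one_mul]
      have : (∑ a, φ (1 ⊗ₜ x a) * f a u) * φ (1 ⊗ₜ p) = φ (1 ⊗ₜ p) := by
        conv_rhs => rw [e2]
        rw [Finset.sum_mul]
        refine Finset.sum_congr rfl fun a _ => ?_
        rw [key]; ring
      rw [this, sub_self, mul_zero]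
  simpa [hu, sub_eq_zero] using h1 u

/-- Polynomials of bounded degree over the factors glue to a polynomial over the product. -/
theorem exists_map_eq {ι : Type u} {R : ι → Type u} [∀ i, CommRing (R i)] {n D : ℕ}
    (q : ∀ i, MvPolynomial (Fin n) (R i)) (hq : ∀ i, (q i).totalDegree ≤ D) :
    ∃ Q : MvPolynomial (Fin n) (∀ i, R i), ∀ i, map (Pi.evalRingHom R i) Q = q i := by
  classical
  have hfin : {d : Fin n →₀ ℕ | ∀ j, d j ≤ D}.Finite :=
    Set.Finite.of_finite_image (f := fun (d : Fin n →₀ ℕ) => (d : Fin n → ℕ))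
      (((Set.Finite.pi (fun _ : Fin n => Set.finite_Iic D))).subset
        (by rintro _ ⟨d, hd, rfl⟩ j -; exact hd j)) DFunLike.coe_injective.injOn
  refine ⟨∑ d ∈ hfin.toFinset, monomial d (fun i => coeff d (q i)), fun i => ?_⟩
  ext d
  simp only [map_sum, map_monomial, coeff_sum, coeff_monomial, Pi.evalRingHom_apply,
    Finset.sum_ite_eq']
  split_ifs with h
  · rfl
  · rw [Set.Finite.mem_toFinset] at h
    by_contra hne
    refine h fun j => le_trans ?_ (le_trans (le_totalDegree (mem_support_iff.2 (Ne.symm hne))) (hq i))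
    by_cases hj : d j = 0
    · omega
    · exact Finset.single_le_sum (f := fun j => d j) (fun _ _ => Nat.zero_le _)
        (Finsupp.mem_support_iff.2 hj)

/-- Polynomials over a product are determined componentwise. -/
theorem pi_ext {ι : Type u} {R : ι → Type u} [∀ i, CommRing (R i)] {n : ℕ}
    {f g : MvPolynomial (Fin n) (∀ i, R i)}
    (h : ∀ i, map (Pi.evalRingHom R i) f = map (Pi.evalRingHom R i) g) : f = g := by
  ext d i
  simpa [coeff_map] using congr(coeff d $(h i))

/-- For a family (R_i) of valuation rings with product A = ∏ R_i and any n, the Picard group of the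
polynomial ring in n variables over A is trivial. -/
theorem result {ι : Type u} (R : ι → Type u)
    [∀ i, CommRing (R i)] [∀ i, IsDomain (R i)] [∀ i, ValuationRing (R i)]
    (n : ℕ) : Subsingleton (CommRing.Pic (MvPolynomial (Fin n) (∀ i, R i))) := by
  classical
  refine CommRing.Pic.subsingleton_iff.2 fun P _ _ _ => ?_
  obtain ⟨m, π, hπ⟩ := Module.Finite.exists_fin' (MvPolynomial (Fin n) (∀ i, R i)) P
  obtain ⟨σ, hσ⟩ := Module.projective_lifting_property π LinearMap.id hπ
  let s : Fin m → P →ₗ[MvPolynomial (Fin n) (∀ i, R i)] MvPolynomial (Fin n) (∀ i, R i) :=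
    fun a => (LinearMap.proj a).comp σ
  let x : Fin m → P := fun a => π (Pi.single a 1)
  have hsx : ∀ p, ∑ a, s a p • x a = p := fun p => by
    have h1 : σ p = ∑ a, σ p a • (Pi.single a 1 : Fin m → MvPolynomial (Fin n) (∀ i, R i)) :=
      pi_eq_sum_univ' (σ p)
    have h2 := congr(π $h1)
    rw [map_sum] at h2
    simp only [map_smul] at h2
    exact h2.symm.trans (LinearMap.congr_fun hσ p)
  set D := (Finset.univ : Finset (Fin m × Fin m)).sup fun ab => (s ab.1 (x ab.2)).totalDegree
  have key : ∀ i, ∃ v w : Fin m → MvPolynomial (Fin n) (R i),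
      (∑ a, w a * v a = 1 ∧
        ∀ a b, map (Pi.evalRingHom R i) (s a (x b)) = v a * w b) ∧
      (∀ a, (v a).totalDegree ≤ D) ∧ ∀ a, (w a).totalDegree ≤ D := by
    intro i
    letI : Algebra (MvPolynomial (Fin n) (∀ i, R i)) (MvPolynomial (Fin n) (R i)) :=
      (map (Pi.evalRingHom R i)).toAlgebra
    haveI : IsGCDMonoid (MvPolynomial (Fin n) (R i)) := by
      haveI : IsBezout (R i) := inferInstance
      exact isGCDMonoid_mvPolynomial (R i) n
    haveI : Subsingleton (CommRing.Pic (MvPolynomial (Fin n) (R i))) := inferInstance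
    obtain ⟨φ⟩ : Nonempty ((MvPolynomial (Fin n) (R i)) ⊗[MvPolynomial (Fin n) (∀ i, R i)] P
        ≃ₗ[MvPolynomial (Fin n) (R i)] MvPolynomial (Fin n) (R i)) :=
      CommRing.Pic.mk_eq_one_iff.1 (Subsingleton.elim _ _)
    obtain ⟨v, w, hvw, he⟩ := exists_rankOne s x hsx φ
    have hD : ∀ a b, (v a * w b).totalDegree ≤ D := fun a b => by
      rw [← he]
      refine le_trans ?_ (Finset.le_sup (f := fun ab : Fin m × Fin m =>
        (s ab.1 (x ab.2)).totalDegree) (Finset.mem_univ (a, b)))
      exact Finset.sup_mono (support_map_subset _ _)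
    obtain ⟨c, hc⟩ : ∃ c, w c * v c ≠ 0 := by
      by_contra! h
      simp [h] at hvw
    refine ⟨v, w, ⟨hvw, he⟩, fun a => ?_, fun a => ?_⟩
    · by_cases ha : v a = 0
      · simp [ha]
      · have := hD a c
        rw [totalDegree_mul_of_isDomain ha (left_ne_zero_of_mul hc)] at this
        omega
    · by_cases ha : w a = 0
      · simp [ha]
      · have := hD c a
        rw [totalDegree_mul_of_isDomain (right_ne_zero_of_mul hc) ha] at this
        omega
  choose v w hvw hv hw using key
  choose V hV using fun a => exists_map_eq (fun i => v i a) (fun i => hv i a)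
  choose W hW using fun a => exists_map_eq (fun i => w i a) (fun i => hw i a)
  have hone : ∑ a, W a * V a = 1 := pi_ext fun i => by simp [hV, hW, (hvw i).1]
  have he : ∀ a b, s a (x b) = V a * W b := fun a b => pi_ext fun i => by
    simp [hV, hW, (hvw i).2]
  let ψ : P →ₗ[MvPolynomial (Fin n) (∀ i, R i)] MvPolynomial (Fin n) (∀ i, R i) :=
    ∑ a, W a • s a
  let e₀ : P := ∑ b, V b • x b
  have hψ : ψ e₀ = 1 := by
    simp only [ψ, e₀, LinearMap.sum_apply, LinearMap.smul_apply, map_sum, map_smul, he,
      smul_eq_mul]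
    calc _ = (∑ a, W a * V a) * (∑ b, W b * V b) := by
          rw [Finset.sum_mul_sum]
          refine Finset.sum_congr rfl fun a _ => ?_
          rw [Finset.mul_sum]
          exact Finset.sum_congr rfl fun b _ => by ring
      _ = 1 := by rw [hone, one_mul]
  have hs : ∀ a p, s a (ψ p • e₀) = s a p := fun a p => by
    have h1 : s a e₀ = V a := by
      simp only [e₀, map_sum, map_smul, he, smul_eq_mul]
      calc _ = V a * ∑ b, W b * V b := by
            rw [Finset.mul_sum]; exact Finset.sum_congr rfl fun b _ => by ring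
        _ = _ := by rw [hone, mul_one]
    have h2 : s a p = ∑ b, s b p * (V a * W b) := by
      conv_lhs => rw [← hsx p]
      simp [he]
    rw [map_smul, h1, h2, smul_eq_mul]
    simp only [ψ, LinearMap.sum_apply, LinearMap.smul_apply, smul_eq_mul, Finset.sum_mul]
    exact Finset.sum_congr rfl fun b _ => by ring
  exact Module.Free.of_equiv (LinearEquiv.ofLinearMap (LinearMap.toSpanSingleton _ P e₀) ψ
    (LinearMap.ext fun p => by
      change ψ p • e₀ = p
      rw [← hsx (ψ p • e₀)]
      conv_rhs => rw [← hsx p]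
      simp only [hs])
    (LinearMap.ext_ring (by simp [hψ])))

end Groth.Agent.S13955
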