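import Groth.Statements.S13956
import Groth.Agent.Lib.FieldH25.RatNormal

set_option autoImplicit false
universe u
open TateLoc

namespace Groth.Agent.S13956

open CategoryTheory AlgebraicGeometry in
/-- For a Noetherian normal scheme X (quasi-compact, locally Noetherian, all local rings integrally
closed domains), the cohomology of the constant sheaf ℚ on the small etale site of X vanishes in
every positive degree. -/
theorem result (X : Scheme.{u}) [IsLocallyNoetherian X] [CompactSpace X]
    (hN : ∀ x : X, IsDomain (X.presheaf.stalk x) ∧ IsIntegrallyClosed (X.presheaf.stalk x))
    (i : ℕ) (hi : 0 < i) :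
    Subsingleton (EtCoh.H X (EtCoh.const X ℚ) i) := by
  exact FieldH25.subsingleton_H_rat_normal X hN i hi

end Groth.Agent.S13956
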