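import Groth.Statements.S13958
import Mathlib

set_option autoImplicit false
universe u
open TateLoc

namespace Groth.Agent.S13958

open CategoryTheory in
/-- Let A' be a finitely generated abelian group (written multiplicatively, discrete) and A a subgroup.
If the image of x ∈ A' in the profinite completion of A' lies in the image of the profinite
completion of A under the map induced by the inclusion, then x ∈ A. (The published statement says
that the square formed by the two completion maps and the two inclusions is Cartesian; given the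
injectivity of the induced map on completions, which holds here, that amounts to this membership
criterion.) -/
theorem result (A' : Type u) [CommGroup A'] [Group.FG A']
    (A : Subgroup A') (x : A')
    (hx : ProfiniteGrp.ProfiniteCompletion.etaFn (GrpCat.of A') x ∈
      Set.range ⇑(ProfiniteGrp.profiniteCompletion.map (GrpCat.ofHom A.subtype)).hom) :
    x ∈ A := by
  classical
  by_contra hxA
  -- separate `x` from `A` by a finite index subgroup
  obtain ⟨H, hHfi, hAH, hxH⟩ : ∃ H : Subgroup A', H.FiniteIndex ∧ A ≤ H ∧ x ∉ H := by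
    let y : Additive (A' ⧸ A) := Additive.ofMul (QuotientGroup.mk x)
    have hy : y ≠ 0 := fun h => hxA ((QuotientGroup.eq_one_iff x).1 h)
    have : Group.FG (A' ⧸ A) := Group.fg_of_surjective (QuotientGroup.mk'_surjective A)
    have : Module.Finite ℤ (Additive (A' ⧸ A)) := Module.Finite.iff_addGroup_fg.2 inferInstance
    obtain ⟨m, hm, hle⟩ := Ideal.exists_le_maximal (Ideal.torsionOf ℤ _ y)
      (fun h => hy ((Ideal.torsionOf_eq_top_iff (R := ℤ) y).1 h))
    obtain ⟨p, rfl⟩ : ∃ p, m = Ideal.span {p} := ⟨_, (Ideal.span_singleton_generator m).symm⟩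
    obtain ⟨n, hn⟩ : ∃ n : ℕ, y ∉ (Ideal.span {p}) ^ n • (⊤ : Submodule ℤ (Additive (A' ⧸ A))) := by
      by_contra hh
      push_neg at hh
      obtain ⟨⟨r, hr⟩, hry⟩ := (Ideal.mem_iInf_smul_pow_eq_bot_iff _ y).1 (Submodule.mem_iInf _ |>.2 hh)
      have : (1 - r) ∈ Ideal.span {p} := hle (by
        rw [Ideal.mem_torsionOf_iff, sub_smul, one_smul]; exact sub_eq_zero.2 hry.symm)
      exact hm.ne_top ((Ideal.eq_top_iff_one _).2 (by simpa using add_mem this hr))
    have hp : p ≠ 0 := by
      rintro rfl
      have hb : (Ideal.span {(0 : ℤ)}) = ⊥ := Ideal.span_singleton_eq_bot.2 rfl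
      rw [hb] at hm
      exact Int.not_isField (Ring.isField_iff_maximal_bot.2 hm)
    let f : A' →* A' := powMonoidHom (p.natAbs ^ n)
    refine ⟨A ⊔ f.range, ?_, le_sup_left, fun hxH => hn ?_⟩
    · have : Group.FG (A' ⧸ (A ⊔ f.range)) :=
        Group.fg_of_surjective (QuotientGroup.mk'_surjective _)
      have : Finite (A' ⧸ (A ⊔ f.range)) := by
        refine CommGroup.finite_of_fg_isMulTorsion _ fun z => ?_
        obtain ⟨a, rfl⟩ := QuotientGroup.mk_surjective z
        rw [isOfFinOrder_iff_pow_eq_one]
        refine ⟨p.natAbs ^ n, pow_pos (Int.natAbs_pos.2 hp) n, ?_⟩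
        rw [← QuotientGroup.mk_pow, QuotientGroup.eq_one_iff]
        exact Subgroup.mem_sup_right ⟨a, rfl⟩
      exact Subgroup.finiteIndex_of_finite_quotient
    · obtain ⟨a, ha, b, ⟨c, rfl⟩, rfl⟩ := Subgroup.mem_sup.1 hxH
      have hya : y = (p.natAbs ^ n : ℕ) • Additive.ofMul (QuotientGroup.mk c : A' ⧸ A) := by
        show Additive.ofMul _ = _
        rw [← ofMul_pow, ← QuotientGroup.mk_pow, QuotientGroup.mk_mul,
          (QuotientGroup.eq_one_iff a).2 ha, one_mul]
        rfl
      rw [hya, ← natCast_zsmul]
      refine Submodule.smul_mem_smul ?_ trivial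
      rw [Ideal.span_singleton_pow, Ideal.mem_span_singleton, Nat.cast_pow]
      exact pow_dvd_pow_of_dvd (Int.dvd_natAbs.2 dvd_rfl) n
  obtain ⟨z, hz⟩ := hx
  let G := GrpCat.of A'
  let H' : FiniteIndexNormalSubgroup G :=
    letI : H.FiniteIndex := hHfi
    FiniteIndexNormalSubgroup.ofSubgroup H
  have key : ∀ w, ((ProfiniteGrp.profiniteCompletion.map (GrpCat.ofHom A.subtype)).hom w).val H' =
      (1 : G ⧸ H'.toSubgroup) := by
    intro w
    refine congrFun (DenseRange.equalizer
      (ProfiniteGrp.ProfiniteCompletion.denseRange (GrpCat.of A))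
      (g := fun w => ((ProfiniteGrp.profiniteCompletion.map (GrpCat.ofHom A.subtype)).hom w).val H')
      (h := fun _ => 1) ?_ continuous_const ?_) w
    · exact (continuous_apply H').comp (continuous_subtype_val.comp
        (ProfiniteGrp.profiniteCompletion.map (GrpCat.ofHom A.subtype)).hom.continuous_toFun)
    · funext a
      have := ConcreteCategory.congr_hom (ProfiniteGrp.ProfiniteCompletion.lift_eta
        (GrpCat.ofHom A.subtype ≫ ProfiniteGrp.ProfiniteCompletion.eta G)) a
      refine (congrArg (fun v : ProfiniteGrp.ProfiniteCompletion.completion G => v.val H') this).trans ?_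
      exact (QuotientGroup.eq_one_iff _).2 (hAH a.2)
  have h1 := key z
  rw [hz] at h1
  exact hxH ((QuotientGroup.eq_one_iff x).1 h1)
end Groth.Agent.S13958
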