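import Groth.Statements.S13959
import Groth.Agent.Lib.TorsorSch25.Field

set_option autoImplicit false
universe u
open TateLoc

namespace Groth.Agent.S13959

open CategoryTheory AlgebraicGeometry in
/-- Let k be a field, L an extension field of k which is separable over k in the sense that L ⊗_k L is
reduced (not necessarily algebraic), and I an infinitesimal k-group scheme (finite over k with
one-point underlying space). If a k-scheme E with an action of I is an fppf torsor under I and
acquires a point over L, then E already has a k-point. (The published statement is the injectivity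
of H^1(k, I) → H^1(L, I); this row is its torsor form.) -/
theorem result (k : Type u) [Field k] (L : Type u) [Field L] [Algebra k L]
    [IsReduced (TensorProduct k L L)]
    (I E : Over (Spec (CommRingCat.of k))) [GrpObj I] [IsFinite I.hom] [Subsingleton ↥(I.left)]
    (a : AlgGrp.Action I E) (hE : NonAbH1.IsTorsorFor Scheme.fppfPrecoverage a)
    (hL : NonAbH1.HasSectionOver E (Spec.map (CommRingCat.ofHom (algebraMap k L)))) :
    NonAbH1.HasSectionOver E (𝟙 (Spec (CommRingCat.of k))) := by
  have hE' : NonAbH1.IsTorsorFor Scheme.fpqcPrecoverage a := by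
    obtain ⟨h1, R, hR, h2⟩ := hE
    exact ⟨h1, R, Scheme.fppfPrecoverage_le_fpqcPrecoverage _ hR, h2⟩
  haveI : Nonempty ↥(I.left) := ⟨(MonObj.one (X := I)).left (IsLocalRing.closedPoint k)⟩
  haveI : ConnectedSpace ↥(I.left) := { isPreconnected_univ := Set.subsingleton_univ.isPreconnected, toNonempty := inferInstance }
  obtain ⟨M, _, _, π, hπ, hfin, hpi, -, huniv⟩ := TorsorSch25.exists_residue hE'
  obtain ⟨p, hp⟩ := hL
  obtain ⟨ψ, hψ⟩ := huniv L p
  have hψk : ∀ r : k, ψ (algebraMap k M r) = algebraMap k L r := by
    intro r
    rw [hψ, Category.assoc, hπ, ← Spec.map_comp] at hp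
    exact congr($(Spec.map_injective hp) r)
  let ψa : M →ₐ[k] L := { ψ with commutes' := hψk }
  have hsurj : Function.Surjective (algebraMap k M) := by
    intro x
    obtain ⟨q, hq⟩ := ExpChar.exists k
    haveI : ExpChar L q := expChar_of_injective_ringHom (algebraMap k L).injective q
    haveI : ExpChar (TensorProduct k L L) q := expChar_of_injective_ringHom
      (algebraMap k (TensorProduct k L L)).injective q
    obtain ⟨n, y, hy⟩ := IsPurelyInseparable.pow_mem k q x
    let z := ψ x
    have hz : z ^ q ^ n = algebraMap k L y := by rw [← map_pow, ← hy, hψk]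
    have hw : (TensorProduct.tmul k z (1 : L) - TensorProduct.tmul k (1 : L) z) ^ q ^ n = 0 := by
      rw [sub_pow_expChar_pow, Algebra.TensorProduct.tmul_pow, Algebra.TensorProduct.tmul_pow, hz,
        one_pow, sub_eq_zero, Algebra.algebraMap_eq_smul_one, TensorProduct.smul_tmul]
    have hw0 : TensorProduct.tmul k z (1 : L) - TensorProduct.tmul k (1 : L) z = 0 := IsReduced.eq_zero _ ⟨_, hw⟩
    by_contra hne
    have hzk : z ∉ (⊥ : Subalgebra k L) := by
      rintro ⟨r, hr⟩
      exact hne ⟨r, ψ.injective ((hψk r).trans hr)⟩
    have hli : LinearIndependent k ![(1 : L), z] := by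
      rw [LinearIndependent.pair_iff' one_ne_zero]
      intro r hr
      exact hzk ⟨r, by rw [← hr, Algebra.smul_def, mul_one]; rfl⟩
    obtain ⟨f, hf1, hfz⟩ : ∃ f : L →ₗ[k] k, f 1 = 0 ∧ f z = 1 := by
      let e : Fin 2 → k := ![0, 1]
      obtain ⟨f, hf⟩ := LinearMap.exists_extend ((Module.Basis.span hli).constr k e)
      have h : ∀ i, f (![(1 : L), z] i) = e i := fun i => by
        have h1 := LinearMap.congr_fun hf ((Module.Basis.span hli) i)
        rw [Module.Basis.constr_basis, LinearMap.comp_apply, Submodule.subtype_apply, Module.Basis.span_apply] at h1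
        exact h1
      exact ⟨f, h 0, h 1⟩
    have := congrArg (fun t => TensorProduct.lid k L (TensorProduct.map f LinearMap.id t)) hw0
    simp [TensorProduct.map_tmul, hf1, hfz] at this
  let r : M →+* k := (RingEquiv.ofBijective (algebraMap k M) ⟨(algebraMap k M).injective, hsurj⟩).symm.toRingHom
  refine ⟨Spec.map (CommRingCat.ofHom r) ≫ π, ?_⟩
  rw [Category.assoc, hπ, ← Spec.map_comp]
  refine (congrArg Spec.map (CommRingCat.hom_ext (RingHom.ext fun a => ?_))).trans (Spec.map_id _)
  exact (RingEquiv.ofBijective (algebraMap k M) ⟨(algebraMap k M).injective, hsurj⟩).symm_apply_apply a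

end Groth.Agent.S13959
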