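import Groth.Statements.S1396
import Groth.Agent.Lib.IndQA12.Calculus


set_option autoImplicit false
universe u
open FlatMor

namespace Groth.Agent.S1396

open AlgebraicGeometry CategoryTheory Limits in
/-- (1) ⇔ (4): a morphism f : X → Y is ind-quasi-affine (the preimage of every affine open is a scheme
all of whose quasi-compact opens are quasi-affine) if and only if for every quasi-compact
quasi-separated open V of Y and every quasi-compact open U of the preimage of V, the induced
morphism U → V is quasi-affine (quasi-compact with quasi-affine preimages of affine opens). -/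
theorem result {X Y : Scheme.{u}} (f : X ⟶ Y) :
    MoreMor.IsIndQuasiAffineHom f ↔ ∀ (V : Y.Opens), IsCompact (V : Set ↑Y) → IsQuasiSeparated (V : Set ↑Y) →
      ∀ (U : X.Opens) (hUV : U ≤ f ⁻¹ᵁ V), IsCompact (U : Set ↑X) → MoreMor.IsQuasiAffineHom (f.resLE V U hUV) := by
  refine ⟨fun hf V hVc hVq U hUV hU => ?_, fun h => IndQA12.of_cover f fun y => ?_⟩
  · have : CompactSpace U.toScheme := isCompact_iff_compactSpace.mp hU
    have : QuasiSeparatedSpace V.toScheme :=
      (isQuasiSeparated_iff_quasiSeparatedSpace _ V.2).mp hVq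
    refine IndQA12.isQuasiAffineHom_of_quasiCompact ?_
    refine IndQA12.of_comp (g := V.ι) ?_
    rw [Scheme.Hom.resLE_comp_ι]
    exact IndQA12.comp (IndQA12.of_isImmersion U.ι) hf
  · obtain ⟨V, hV, hy, -⟩ := exists_isAffineOpen_mem_and_subset (X := Y) (x := y) (U := ⊤) trivial
    refine ⟨V, hy, fun U hUV hU => ?_⟩
    haveI : IsAffine V.toScheme := hV
    have h1 := (h V hV.isCompact (hV.isQuasiSeparated) U hUV hU).2 ⊤ (isAffineOpen_top _)
    haveI : (⊤ : U.toScheme.Opens).toScheme.IsQuasiAffine := h1
    exact QA11.isQuasiAffine_of_iso U.toScheme.topIso.inv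

end Groth.Agent.S1396
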