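import Groth.Statements.S13963
import Mathlib.Topology.Algebra.Group.OpenMapping
import Mathlib.Topology.Baire.LocallyCompactRegular
-- import your own Groth.Agent.* helpers here

set_option autoImplicit false
universe u
open TateLoc

namespace Groth.Agent.S13963

/-- Let A' → A → A'' be continuous homomorphisms of locally compact, second-countable, Hausdorff abelian
topological groups which form a short exact sequence of abstract groups (the first injective, the
second surjective, image equal to kernel). If A' and A'' are compact, then A is compact. -/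
theorem result (A' A A'' : Type u)
    [AddCommGroup A'] [TopologicalSpace A'] [IsTopologicalAddGroup A'] [SecondCountableTopology A'] [T2Space A']
    [CompactSpace A']
    [AddCommGroup A] [TopologicalSpace A] [IsTopologicalAddGroup A] [LocallyCompactSpace A]
    [SecondCountableTopology A] [T2Space A]
    [AddCommGroup A''] [TopologicalSpace A''] [IsTopologicalAddGroup A''] [SecondCountableTopology A''] [T2Space A'']
    [CompactSpace A'']
    (f : A' →+ A) (g : A →+ A'') (hf : Continuous f) (hg : Continuous g)
    (hinj : Function.Injective f) (hsurj : Function.Surjective g) (hex : g.ker = f.range) :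
    CompactSpace A := by
  haveI : SigmaCompactSpace A := sigmaCompactSpace_of_locallyCompact_secondCountable
  have hopen : IsOpenMap g := AddMonoidHom.isOpenMap_of_sigmaCompact g hsurj hg
  obtain ⟨K, hK, hKn⟩ := exists_compact_mem_nhds (0 : A)
  obtain ⟨t, ht⟩ := compact_covered_by_add_left_translates (isCompact_univ (X := A''))
    (V := g '' K) ⟨0, mem_interior_iff_mem_nhds.2 (by simpa using hopen.image_mem_nhds hKn)⟩
  choose r hr using hsurj
  let L : Set A := ⋃ y ∈ t, (fun k => k - r y) '' K
  have hL : IsCompact L := t.finite_toSet.isCompact_biUnion fun y _ =>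
    hK.image (continuous_id.sub continuous_const)
  have hcov : ∀ a : A, ∃ l ∈ L, ∃ a' : A', l + f a' = a := by
    intro a
    obtain ⟨y, hy, hy'⟩ := Set.mem_iUnion₂.1 (ht (Set.mem_univ (g a)))
    obtain ⟨k, hk, hk'⟩ := hy'
    refine ⟨k - r y, Set.mem_iUnion₂.2 ⟨y, hy, k, hk, rfl⟩, ?_⟩
    have : a - (k - r y) ∈ g.ker := by
      rw [AddMonoidHom.mem_ker, map_sub, map_sub, hr, hk']
      simp
    rw [hex] at this
    obtain ⟨a', ha'⟩ := this
    exact ⟨a', by rw [ha']; abel⟩
  refine ⟨?_⟩
  have : (Set.univ : Set A) = (fun p : A × A' => p.1 + f p.2) '' (L ×ˢ Set.univ) := by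
    refine Set.eq_of_subset_of_subset (fun a _ => ?_) (Set.subset_univ _)
    obtain ⟨l, hl, a', ha'⟩ := hcov a
    exact ⟨(l, a'), ⟨hl, trivial⟩, ha'⟩
  rw [this]
  exact (hL.prod isCompact_univ).image (continuous_fst.add (hf.comp continuous_snd))

end Groth.Agent.S13963
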