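import Groth.Statements.S13964
import Groth.Agent.Lib.GaExt23.Main
import Groth.Agent.Lib.GaExt23.HExt
import Groth.Agent.Lib.PicAff14.Basic
import Mathlib.RingTheory.PicardGroup

set_option autoImplicit false
set_option linter.style.haveILetI false
set_option backward.isDefEq.respectTransparency false
set_option backward.isDefEq.respectTransparency.types false
set_option maxHeartbeats 800000
universe u
open TateLoc

namespace Groth.Agent.S13964

section
open CategoryTheory CategoryTheory.Limits AlgebraicGeometry Opposite CategoryTheory.Abelian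

theorem subsingleton_H1_pushGm {S S' : Scheme.{u}} (f : S' ⟶ S)
    (hPic : ∀ L : S'.Modules, PicF.IsInvertible L → Nonempty (L ≅ Coh.structureModule S')) :
    Subsingleton (BigSite.H Scheme.fppfPrecoverage S
      ((BigSite.pushBig Scheme.fppfPrecoverage f AddCommGrpCat.{u + 1}).obj (CGrpSh2.Gm Scheme.fppfPrecoverage S')) 1) := by
  let A := BigSite.Ab Scheme.fppfPrecoverage S'
  let P := BigSite.pushBig Scheme.fppfPrecoverage f AddCommGrpCat.{u + 1}
  let adj := BigSite.bigAdj Scheme.fppfPrecoverage f AddCommGrpCat.{u + 1}
  haveI : PreservesLimitsOfSize.{0, 0} P := adj.rightAdjoint_preservesLimits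
  haveI : P.Additive := inferInstance
  let i := Injective.ι (CGrpSh2.Gm Scheme.fppfPrecoverage S')
  let C : ShortComplex (BigSite.Ab Scheme.fppfPrecoverage S') := ShortComplex.mk i (cokernel.π i) (cokernel.condition i)
  have hC : C.ShortExact := { exact := ShortComplex.exact_cokernel i }
  let E : ShortComplex (BigSite.Ab Scheme.fppfPrecoverage S) :=
    ShortComplex.mk (P.map i) (cokernel.π (P.map i)) (cokernel.condition _)
  haveI : Mono (P.map i) := P.map_mono i
  have hE : E.ShortExact := { exact := ShortComplex.exact_cokernel _ }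
  let m : cokernel (P.map i) ⟶ P.obj (cokernel i) := cokernel.desc (P.map i) (P.map (cokernel.π i))
    (by rw [← P.map_comp, cokernel.condition, P.map_zero])
  have hker : (C.map P).Exact := hC.exact.map_of_mono_of_preservesKernel P hC.mono_f inferInstance
  haveI : Mono m := hker.mono_cokernelDesc
  haveI : (BigSite.pullBig Scheme.fppfPrecoverage f AddCommGrpCat.{u + 1}).PreservesMonomorphisms :=
    inferInstance
  haveI : Injective (P.obj (Injective.under (CGrpSh2.Gm Scheme.fppfPrecoverage S'))) :=
    Injective.injective_of_adjoint adj _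
  refine GaExt23.HX.subsingleton_H1_kernel hE (T := Over.mk (𝟙 S)) Over.mkIdTerminal ?_ ?_
  · exact subsingleton_of_forall_eq 0 fun z => Ext.eq_zero_of_injective z
  · intro s
    have hsurj : Function.Surjective (C.g.hom.app (op ((Over.pullback f).obj (Over.mk (𝟙 S))))) := fun y => by
      let j : (Over.pullback f).obj (Over.mk (𝟙 S)) ≅ Over.mk (𝟙 S') :=
        Over.isoMk (asIso (pullback.snd (𝟙 S) f)) (by simp)
      obtain ⟨x, hx⟩ := GaExt23.surjective_sections_of_pic hC (Iso.refl _) (Over.mk (𝟙 S')) hPic (C.X₃.obj.map j.inv.op y)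
      refine ⟨C.X₂.obj.map j.hom.op x, ?_⟩
      rw [NatTrans.naturality_apply C.g.hom, hx, ← ConcreteCategory.comp_apply, ← Functor.map_comp, ← op_comp,
        j.hom_inv_id, op_id, CategoryTheory.Functor.map_id]
      rfl
    obtain ⟨x, hx⟩ := hsurj (m.hom.app _ s)
    haveI : Mono m.hom := (sheafToPresheaf _ _).map_mono m
    have hm : Function.Injective (m.hom.app (op (Over.mk (𝟙 S)))) :=
      (AddCommGrpCat.mono_iff_injective _).1 inferInstance
    refine ⟨x, hm ?_⟩
    refine Eq.trans ?_ hx
    show (cokernel.π (P.map i) ≫ m).hom.app (op (Over.mk (𝟙 S))) x = _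
    rw [cokernel.π_desc]
    rfl

end

open CategoryTheory AlgebraicGeometry in
/-- Take fields k and k' with k' finite and separable over k. The Weil restriction of the multiplicative
group from k' to k, as an abelian sheaf on the big fppf site of Spec k, is the direct image of the
multiplicative group along Spec k' → Spec k; its first cohomology H^1(k, R_{k'/k}(𝔾_m)) vanishes.
(The published statement is for the Weil restriction of any split k'-torus, a finite product of
copies of this case.) -/
theorem result (k k' : Type u) [Field k] [Field k'] [Algebra k k']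
    [FiniteDimensional k k'] [Algebra.IsSeparable k k'] :
    Subsingleton (BigSite.H Scheme.fppfPrecoverage (Spec (CommRingCat.of k)) ((BigSite.pushBig Scheme.fppfPrecoverage (Spec.map (CommRingCat.ofHom (algebraMap k k'))) AddCommGrpCat.{u+1}).obj (CGrpSh2.Gm Scheme.fppfPrecoverage (Spec (CommRingCat.of k')))) 1) := by
  refine subsingleton_H1_pushGm _ fun L hL => ?_
  obtain ⟨P, hP, ⟨e⟩⟩ := Groth.Agent.PicAff14.exists_invertible_tilde hL
  haveI := hP
  haveI : IsGCDMonoid k' := inferInstance
  haveI : Module.Free (CommRingCat.of k') P := inferInstanceAs (Module.Free k' P)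
  obtain ⟨c⟩ := (Module.Invertible.free_iff_linearEquiv (R := CommRingCat.of k') (M := P)).1 inferInstance
  exact ⟨e ≪≫ Groth.Agent.PicAff14.tildeIsoOfEquiv (M := P) (N := ModuleCat.of _ (CommRingCat.of k')) c ≪≫ tildeSelf⟩

end Groth.Agent.S13964
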