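import Groth.Agent.S15383
import Mathlib.RingTheory.Norm.Basic
import Groth.Prelude.Def_CGrpSh3
import Mathlib.AlgebraicGeometry.Morphisms.Finite
import Mathlib.AlgebraicGeometry.Morphisms.Flat
import Mathlib.AlgebraicGeometry.Noetherian
-- import your own Groth.Agent.* helpers here

set_option autoImplicit false
set_option backward.isDefEq.respectTransparency.types false
universe u
namespace GmDual
end GmDual
open GmDual

namespace Groth.Agent.S15384

noncomputable section helpers

open CategoryTheory CategoryTheory.Limits AlgebraicGeometry Opposite TensorProduct MonObj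

theorem norm_baseChange {A S B B' : Type u} [CommRing A] [CommRing S] [CommRing B] [CommRing B']
    [Algebra A S] [Algebra A B] [Algebra A B'] [Algebra S B'] [Algebra B B'] [IsScalarTower A S B']
    [IsScalarTower A B B'] [Algebra.IsPushout A S B B'] [Module.Free A B] [Module.Finite A B] (x : B) :
    Algebra.norm S (algebraMap B B' x) = algebraMap A S (Algebra.norm A x) := by
  classical
  let bas := Module.Free.chooseBasis A B
  let e : S ⊗[A] B ≃ₗ[S] B' := (Algebra.IsPushout.out (R := A) (S := S) (R' := B) (S' := B')).equiv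
  let bas' := (Algebra.TensorProduct.basis S bas).map e
  have he : ∀ c : B, e ((1 : S) ⊗ₜ c) = algebraMap B B' c := fun c => by
    show IsBaseChange.equiv _ ((1 : S) ⊗ₜ c) = _
    rw [IsBaseChange.equiv_tmul, one_smul]
    rfl
  have hrepr : ∀ (c : B) i, bas'.repr (algebraMap B B' c) i = algebraMap A S (bas.repr c i) := fun c i => by
    rw [← he c]
    simp [bas', Algebra.TensorProduct.basis_repr_tmul, Algebra.algebraMap_eq_smul_one]
  rw [Algebra.norm_eq_matrix_det bas', Algebra.norm_eq_matrix_det bas, RingHom.map_det]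
  congr 1
  ext i j
  rw [RingHom.mapMatrix_apply, Matrix.map_apply, Algebra.leftMulMatrix_eq_repr_mul,
    Algebra.leftMulMatrix_eq_repr_mul, show bas' j = algebraMap B B' (bas j) by simp [bas', he],
    ← map_mul, hrepr]

variable {X X' : Scheme.{u}} (f : X' ⟶ X)

/-- The functions of the base change of a test object. -/
@[implicit_reducible] def alg (V : Over X) : Algebra Γ(V.left, ⊤) Γ(pullback V.hom f, ⊤) :=
  (pullback.fst V.hom f).appTop.hom.toAlgebra

/-- A chart: an affine test object with free functions on its inverse image. -/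
def Chart (V : Over X) : Prop :=
  IsAffine V.left ∧ (letI := alg f V; Module.Finite Γ(V.left, ⊤) Γ(pullback V.hom f, ⊤) ∧
    Module.Free Γ(V.left, ⊤) Γ(pullback V.hom f, ⊤))

/-- The norm of a point over a test object. -/
def nrmFn (V : Over X) (t : (Over.pullback f).obj V ⟶ Red.Gm X') : Γ(V.left, ⊤) :=
  letI := alg f V
  Algebra.norm Γ(V.left, ⊤) (show Γ(pullback V.hom f, ⊤) from Red.gmFn t)

/-- A point is the norm of a point. -/
def IsN (T : Over X) (t : (Over.pullback f).obj T ⟶ Red.Gm X') (p : T ⟶ Red.Gm X) : Prop :=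
  ∀ (V : Over X) (a : V ⟶ T), Chart f V → Red.gmFn (a ≫ p) = nrmFn f V ((Over.pullback f).map a ≫ t)

theorem IsN.comp {T T' : Over X} (b : T' ⟶ T) {t : (Over.pullback f).obj T ⟶ Red.Gm X'} {p : T ⟶ Red.Gm X}
    (h : IsN f T t p) : IsN f T' ((Over.pullback f).map b ≫ t) (b ≫ p) := fun V a hV => by
  have := h V (a ≫ b) hV
  rwa [Functor.map_comp, Category.assoc, Category.assoc] at this

theorem IsN.unique [IsFinite f] [Flat f] [LocallyOfFinitePresentation f] {T : Over X}
    {t : (Over.pullback f).obj T ⟶ Red.Gm X'} {p p' : T ⟶ Red.Gm X} (h : IsN f T t p) (h' : IsN f T t p') :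
    p = p' := by
  refine Over.OverMorphism.ext ?_
  choose Tv a hA hI hx hff using Groth.Agent.S15383.exists_chart f T
  let 𝒰 : T.left.OpenCover := Scheme.openCoverOfIsOpenCover _ (fun x => (a x).left.opensRange)
    (top_le_iff.1 fun x _ => TopologicalSpace.Opens.mem_iSup.2 ⟨x, hx x⟩)
  refine Scheme.Cover.hom_ext 𝒰 _ _ fun x => ?_
  have e : a x ≫ p = a x ≫ p' := GmPts.gmFn_injective
    ((h (Tv x) (a x) ⟨hA x, hff x⟩).trans (h' (Tv x) (a x) ⟨hA x, hff x⟩).symm)
  have e' := congrArg CommaMorphism.left e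
  simp only [Over.comp_left] at e'
  have := hI x
  rw [← (a x).left.isoOpensRange_hom_ι] at e'
  simp only [Category.assoc] at e'
  exact (cancel_epi (a x).left.isoOpensRange.hom).1 e'

theorem nrmFn_comp [IsFinite f] [Flat f] {V W : Over X} (a : W ⟶ V) (hV : Chart f V) (hW : Chart f W)
    (t : (Over.pullback f).obj V ⟶ Red.Gm X') :
    nrmFn f W ((Over.pullback f).map a ≫ t) = a.left.appTop (nrmFn f V t) := by
  obtain ⟨hVa, hVf, hVr⟩ := hV
  obtain ⟨hWa, -, -⟩ := hW
  let g : pullback W.hom f ⟶ pullback V.hom f := ((Over.pullback f).map a).left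
  have sq : IsPullback g (pullback.fst W.hom f) (pullback.fst V.hom f) a.left :=
    IsPullback.of_right (h₁₂ := pullback.snd V.hom f) (h₂₂ := V.hom) (v₁₃ := f)
      (by
        rw [show g ≫ pullback.snd V.hom f = pullback.snd W.hom f from Over.w ((Over.pullback f).map a), Over.w a]
        exact (IsPullback.of_hasPullback W.hom f).flip)
      (pullback.lift_fst _ _ _) (IsPullback.of_hasPullback V.hom f).flip
  let := alg f V
  let := alg f W
  let := a.left.appTop.hom.toAlgebra
  let : Algebra Γ(pullback V.hom f, ⊤) Γ(pullback W.hom f, ⊤) := g.appTop.hom.toAlgebra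
  let : Algebra Γ(V.left, ⊤) Γ(pullback W.hom f, ⊤) :=
    (a.left.appTop ≫ (pullback.fst W.hom f).appTop).hom.toAlgebra
  have : IsScalarTower Γ(V.left, ⊤) Γ(W.left, ⊤) Γ(pullback W.hom f, ⊤) := .of_algebraMap_eq' rfl
  have : IsScalarTower Γ(V.left, ⊤) Γ(pullback V.hom f, ⊤) Γ(pullback W.hom f, ⊤) := .of_algebraMap_eq' (by
    rw [RingHom.algebraMap_toAlgebra, RingHom.algebraMap_toAlgebra, RingHom.algebraMap_toAlgebra,
      ← CommRingCat.hom_comp, ← Scheme.Hom.comp_appTop, ← Scheme.Hom.comp_appTop, sq.w])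
  haveI : IsAffine (pullback V.hom f) := isAffine_of_isAffineHom (pullback.fst V.hom f)
  have : Algebra.IsPushout Γ(V.left, ⊤) Γ(W.left, ⊤) Γ(pullback V.hom f, ⊤) Γ(pullback W.hom f, ⊤) :=
    CommRingCat.isPushout_iff_isPushout.mp (isPushout_appTop_of_isPullback sq).flip
  have e : (show Γ(pullback W.hom f, ⊤) from Red.gmFn ((Over.pullback f).map a ≫ t)) =
      algebraMap Γ(pullback V.hom f, ⊤) Γ(pullback W.hom f, ⊤)
      (show Γ(pullback V.hom f, ⊤) from Red.gmFn t) := GmPts.gmFn_comp _ _
  refine (congrArg (Algebra.norm Γ(W.left, ⊤)) e).trans ?_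
  exact norm_baseChange (A := Γ(V.left, ⊤)) (S := Γ(W.left, ⊤)) (B := Γ(pullback V.hom f, ⊤)) _

theorem exists_isN_chart [IsFinite f] [Flat f] {V : Over X} (hV : Chart f V)
    (t : (Over.pullback f).obj V ⟶ Red.Gm X') : ∃ p, IsN f V t p := by
  let := alg f V
  have hu' : IsUnit (show Γ(pullback V.hom f, ⊤) from Red.gmFn t) := GmPts.isUnit_gmFn t
  have hu : IsUnit (nrmFn f V t) := hu'.map (Algebra.norm Γ(V.left, ⊤))
  refine ⟨GmPts.ptOfUnit hu.unit, fun W a hW => ?_⟩
  rw [GmPts.gmFn_comp, GmPts.gmFn_ptOfUnit, nrmFn_comp f a hV hW]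
  rfl

theorem exists_glue {J : Type u} {T Y : Over X} (Tv : J → Over X) (a : ∀ i, Tv i ⟶ T)
    [∀ i, IsOpenImmersion (a i).left] (hcov : ∀ z : T.left, ∃ i y, (a i).left y = z) (q : ∀ i, Tv i ⟶ Y)
    (hq : ∀ {W : Over X} (i j : J) (u : W ⟶ Tv i) (v : W ⟶ Tv j), u ≫ a i = v ≫ a j → u ≫ q i = v ≫ q j) :
    ∃ p : T ⟶ Y, ∀ i, a i ≫ p = q i := by
  let 𝒰 : T.left.OpenCover := Scheme.Cover.mkOfCovers J (fun i => (Tv i).left) (fun i => (a i).left) hcov
  have hG : ∀ x y : J, pullback.fst (a x).left (a y).left ≫ (q x).left =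
      pullback.snd (a x).left (a y).left ≫ (q y).left := fun x y => by
    let W : Over X := Over.mk (pullback.fst (a x).left (a y).left ≫ (Tv x).hom)
    let u' : W ⟶ Tv x := Over.homMk (pullback.fst (a x).left (a y).left) rfl
    let v' : W ⟶ Tv y := Over.homMk (pullback.snd (a x).left (a y).left) (by
      show _ = pullback.fst (a x).left (a y).left ≫ (Tv x).hom
      rw [← Over.w (a x), ← Over.w (a y), pullback.condition_assoc])
    exact congrArg (fun m => m.left) (hq x y u' v' (Over.OverMorphism.ext pullback.condition))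
  let p₀ := Scheme.Cover.glueMorphisms 𝒰 (fun i => (q i).left) hG
  have hp₀ : ∀ i, (a i).left ≫ p₀ = (q i).left := fun i => Scheme.Cover.ι_glueMorphisms 𝒰 _ hG i
  refine ⟨Over.homMk p₀ (Scheme.Cover.hom_ext 𝒰 _ _ fun i => ?_), fun i => Over.OverMorphism.ext (hp₀ i)⟩
  show (a i).left ≫ p₀ ≫ Y.hom = (a i).left ≫ T.hom
  rw [← Category.assoc, hp₀, Over.w, Over.w]

theorem existsUnique_isN [IsFinite f] [Flat f] [LocallyOfFinitePresentation f] (T : Over X)
    (t : (Over.pullback f).obj T ⟶ Red.Gm X') : ∃! p, IsN f T t p := by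
  choose Tv a hA hI hx hff using Groth.Agent.S15383.exists_chart f T
  choose q hq using fun x => exists_isN_chart f (V := Tv x) ⟨hA x, hff x⟩ ((Over.pullback f).map (a x) ≫ t)
  haveI := hI
  obtain ⟨p, hp⟩ := exists_glue Tv a (fun z => ⟨z, hx z⟩) q fun {W} x y u v e => by
    refine IsN.unique f ((hq x).comp f u) ?_
    rw [← Functor.map_comp_assoc, e, Functor.map_comp_assoc]
    exact (hq y).comp f v
  refine ⟨p, fun V b hV => ?_, fun p' hp' => IsN.unique f hp' fun V b hV => ?_⟩
  all_goals
    obtain ⟨r, hr⟩ := exists_isN_chart f hV ((Over.pullback f).map b ≫ t)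
    have h1 : b ≫ p = r := by
      refine Over.OverMorphism.ext ?_
      refine Scheme.Cover.hom_ext (Scheme.openCoverOfIsOpenCover _ (fun x => b.left ⁻¹ᵁ (a x).left.opensRange)
        (top_le_iff.1 fun z _ => TopologicalSpace.Opens.mem_iSup.2 ⟨b.left z, hx (b.left z)⟩)) _ _ fun x => ?_
      let U := b.left ⁻¹ᵁ (a x).left.opensRange
      let W : Over X := Over.mk (U.ι ≫ V.hom)
      let i : W ⟶ V := Over.homMk U.ι rfl
      let j₀ := IsOpenImmersion.lift (a x).left (U.ι ≫ b.left) (by
        rintro _ ⟨z, rfl⟩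
        exact z.2)
      let j : W ⟶ Tv x := Over.homMk j₀ (by
        show j₀ ≫ _ = U.ι ≫ V.hom
        rw [← Over.w (a x), ← Category.assoc, IsOpenImmersion.lift_fac, Category.assoc, Over.w b])
      have hij : i ≫ b = j ≫ a x := Over.OverMorphism.ext (IsOpenImmersion.lift_fac _ _ _).symm
      have e : i ≫ b ≫ p = i ≫ r := by
        rw [← Category.assoc, hij, Category.assoc, hp]
        refine IsN.unique f ((hq x).comp f j) ?_
        rw [← Functor.map_comp_assoc, ← hij, Functor.map_comp_assoc]
        exact hr.comp f i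
      exact congrArg (fun m => m.left) e
    have h2 := hr V (𝟙 V) hV
    rw [Category.id_comp, ← h1, CategoryTheory.Functor.map_id, Category.id_comp] at h2
    exact h2

theorem IsN.mul [IsFinite f] [Flat f] {T : Over X} {t t' : (Over.pullback f).obj T ⟶ Red.Gm X'}
    {p p' : T ⟶ Red.Gm X} (h : IsN f T t p) (h' : IsN f T t' p') : IsN f T (t * t') (p * p') := fun V a hV => by
  rw [MonObj.comp_mul, GmPts.gmFn_mul, h V a hV, h' V a hV, MonObj.comp_mul]
  letI := alg f V
  unfold nrmFn
  rw [GmPts.gmFn_mul]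
  exact (map_mul (Algebra.norm Γ(V.left, ⊤)) _ _).symm

theorem exists_norm (K : Precoverage Scheme.{u}) [(QuotSh.J K X).Subcanonical] [(QuotSh.J K X').Subcanonical]
    [IsFinite f] [Flat f] [LocallyOfFinitePresentation f] :
    ∃ N : CGrpSh3.pushGm K f ⟶ CGrpSh2.Gm K X, CGrpSh3.IsNormMap K f N := by
  choose n hn hu using existsUnique_isN f
  let N : CGrpSh3.pushGm K f ⟶ CGrpSh2.Gm K X := ⟨
    { app := fun T => AddCommGrpCat.ofHom (AddMonoidHom.mk'
        (fun s => ULift.up (Additive.ofMul (n (unop T) s.down.toMul))) fun s s' =>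
          ULift.ext _ _ (congrArg Additive.ofMul
            (hu _ _ _ (IsN.mul f (hn (unop T) s.down.toMul) (hn (unop T) s'.down.toMul))).symm))
      naturality := fun T T' b => AddCommGrpCat.ext fun s => ULift.ext _ _ (congrArg Additive.ofMul
        (hu _ _ _ (IsN.comp f b.unop (hn (unop T) s.down.toMul))).symm) }⟩
  refine ⟨N, fun T hT inst hfin hfree halg t => ?_⟩
  have hi : inst = alg f T := Algebra.algebra_ext _ _ halg
  subst hi
  have h := hn T t T (𝟙 T) ⟨hT, hfin, hfree⟩
  rw [Category.id_comp, CategoryTheory.Functor.map_id, Category.id_comp] at h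
  exact h

end helpers


open CategoryTheory AlgebraicGeometry in
/-- Let f : X' ⟶ X be a finite flat morphism of Noetherian schemes (so finite locally free). There is a
morphism of abelian sheaves N : f_* 𝔾_{m,X'} ⟶ 𝔾_{m,X} on the big fppf site of X which is a norm map
of f: on every affine test scheme T over X for which the functions of T ×_X X' form a finite free
algebra over those of T (structure map the pullback of functions along the projection), N sends an
invertible function on T ×_X X' to the determinant of multiplication by it. -/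
theorem result (X X' : Scheme.{u}) (f : X' ⟶ X) [IsFinite f] [Flat f]
    [AlgebraicGeometry.IsNoetherian X] :
    ∃ N : CGrpSh3.pushGm Scheme.fppfPrecoverage f ⟶ CGrpSh2.Gm Scheme.fppfPrecoverage X,
      CGrpSh3.IsNormMap Scheme.fppfPrecoverage f N := by
  have : LocallyOfFinitePresentation f :=
    { finitePresentation_appLE := fun {U} hU {V} hV le =>
        haveI := IsLocallyNoetherian.component_noetherian (X := X) ⟨U, hU⟩
        RingHom.FinitePresentation.of_finiteType.mp (f.finiteType_appLE hU hV le) }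
  exact exists_norm f Scheme.fppfPrecoverage

end Groth.Agent.S15384
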