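import Groth.Statements.S13965
import Groth.Agent.Lib.DualGm23.Main
import Groth.Agent.Lib.DualNorm23.Main
import Groth.Agent.S15384
import Mathlib.RingTheory.Etale.Field

set_option autoImplicit false
set_option linter.style.haveILetI false
set_option backward.isDefEq.respectTransparency false
set_option backward.isDefEq.respectTransparency.types false
set_option maxHeartbeats 800000
universe u
open TateLoc

namespace Groth.Agent.S13965

open CategoryTheory AlgebraicGeometry in
/-- Take a finite separable field extension k'/k, and let R be the Weil restriction of the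
multiplicative group from k' to k, i.e. the direct image of the multiplicative group along Spec k' →
Spec k as an abelian sheaf on the big fppf site of Spec k. Then the first cohomology H^1(k, R̂) of
the dual sheaf R̂ (internal Hom from R into the multiplicative group) vanishes. (The published
statement is for the Weil restriction of any split k'-torus, a finite product of copies of this
case.) -/
theorem result (k k' : Type u) [Field k] [Field k'] [Algebra k k']
    [FiniteDimensional k k'] [Algebra.IsSeparable k k'] :
    Subsingleton (BigSite.H Scheme.fppfPrecoverage (Spec (CommRingCat.of k)) (CGrpSh2.dualSh Scheme.fppfPrecoverage ((BigSite.pushBig Scheme.fppfPrecoverage (Spec.map (CommRingCat.ofHom (algebraMap k k'))) AddCommGrpCat.{u+1}).obj (CGrpSh2.Gm Scheme.fppfPrecoverage (Spec (CommRingCat.of k'))))) 1) := by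
  haveI : Algebra.FormallyEtale k k' := Algebra.FormallyEtale.of_isSeparable k k'
  haveI : Algebra.FinitePresentation k k' := Algebra.FinitePresentation.of_finiteType.1 inferInstance
  haveI : Algebra.Etale k k' := {}
  let f : Spec (CommRingCat.of k') ⟶ Spec (CommRingCat.of k) := Spec.map (CommRingCat.ofHom (algebraMap k k'))
  haveI : Etale f := (HasRingHomProperty.Spec_iff (P := @Etale)).2 (RingHom.etale_algebraMap.2 inferInstance)
  haveI : IsFinite f := (IsFinite.SpecMap_iff _).2 (RingHom.finite_algebraMap.2 inferInstance)
  obtain ⟨N, hN⟩ := Groth.Agent.S15384.result _ _ f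
  haveI := Groth.Agent.DualNorm23.isIso_dualNormMap f (CGrpSh2.Gm Scheme.fppfPrecoverage _) N hN
  let φ := CategoryTheory.asIso (CGrpSh3.dualNormMap Scheme.fppfPrecoverage f N (CGrpSh2.Gm Scheme.fppfPrecoverage _))
  have h := Groth.Agent.DualGm23.subsingleton_H1_push f _ (Groth.Agent.DualGm23.subsingleton_H_dualSh_gm (K := k'))
  refine subsingleton_of_forall_eq 0 fun z => ?_
  have key : (z.comp (Abelian.Ext.mk₀ φ.inv) (add_zero _)).comp (Abelian.Ext.mk₀ φ.hom) (add_zero _) = z := by
    rw [Abelian.Ext.comp_assoc_of_third_deg_zero, Abelian.Ext.mk₀_comp_mk₀, φ.inv_hom_id, Abelian.Ext.comp_mk₀_id]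
  rw [← key, h.elim (Abelian.Ext.comp z (Abelian.Ext.mk₀ φ.inv) (add_zero _)) 0, Abelian.Ext.zero_comp]

end Groth.Agent.S13965
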