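import Groth.Statements.S13971
import Mathlib
import Groth.Agent.Lib.ArtFun.PS
import Groth.Agent.Lib.H2Alg.PSHom
import Groth.Agent.S12732
import Groth.Agent.S12722

set_option autoImplicit false
universe u v
open CategoryTheory
open ArtFun

namespace Groth.Agent.S13971

open Polynomial ArtFun.Art

variable {k : Type u} [Field k]

theorem isLocalRing_of_res {A : Type u} [CommRing A] [Algebra k A] (res : A →ₐ[k] k)
    (h : ∀ a, res a = 0 → IsNilpotent a) : IsLocalRing A := by
  haveI : Nontrivial A := res.toRingHom.domain_nontrivial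
  refine IsLocalRing.of_isUnit_or_isUnit_one_sub_self fun a => ?_
  by_cases ha : res a = 0
  · exact Or.inr (IsNilpotent.isUnit_one_sub (h a ha))
  · left
    have h1 : IsNilpotent (a - algebraMap k A (res a)) := h _ (by simp)
    have h2 := h1.isUnit_add_left_of_commute (u := algebraMap k A (res a))
      ((isUnit_iff_ne_zero.2 ha).map _) (Commute.all _ _)
    simpa using h2

variable (k)

abbrev TR (n : ℕ) : Type u := AdjoinRoot ((X : k[X]) ^ (n + 1))
noncomputable abbrev mk (n : ℕ) : k[X] →+* TR k n := AdjoinRoot.mk _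

theorem mk_eq_zero {n : ℕ} {f : k[X]} : mk k n f = 0 ↔ X ^ (n + 1) ∣ f := AdjoinRoot.mk_eq_zero
theorem mk_eq_mk {n : ℕ} {f g : k[X]} : mk k n f = mk k n g ↔ X ^ (n + 1) ∣ f - g := AdjoinRoot.mk_eq_mk

instance (n : ℕ) : Module.Finite k (TR k n) := (monic_X_pow (n + 1)).finite_adjoinRoot

noncomputable def resT (n : ℕ) : TR k n →ₐ[k] k :=
  AdjoinRoot.liftAlgHom _ (Algebra.ofId k k) 0 (by simp)

theorem resT_mk (n : ℕ) (f : k[X]) : resT k n (mk k n f) = aeval (0 : k) f := AdjoinRoot.liftAlgHom_mk _ _ _ _ _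

noncomputable def t (n : ℕ) : TR k n := AdjoinRoot.root _

theorem t_pow (n m : ℕ) (h : n < m) : t k n ^ m = 0 := by
  rw [t, ← AdjoinRoot.mk_X, ← map_pow, AdjoinRoot.mk_eq_zero]
  exact pow_dvd_pow X h

theorem aeval_t (n : ℕ) (f : k[X]) : aeval (t k n) f = mk k n f := AdjoinRoot.aeval_eq f

theorem resT_t (n : ℕ) : resT k n (t k n) = 0 := AdjoinRoot.liftAlgHom_root _ _ _ _

theorem resT_nil (n : ℕ) (a : TR k n) (ha : resT k n a = 0) : IsNilpotent a := by
  obtain ⟨f, rfl⟩ := AdjoinRoot.mk_surjective a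
  have hX : X ∣ f := by
    rw [X_dvd_iff, coeff_zero_eq_aeval_zero, ← resT_mk]
    exact ha
  obtain ⟨g, rfl⟩ := hX
  refine ⟨n + 1, ?_⟩
  rw [← map_pow, AdjoinRoot.mk_eq_zero, mul_pow]
  exact dvd_mul_right _ _

noncomputable def T (n : ℕ) : Art k k :=
  haveI : IsLocalRing (TR k n) := isLocalRing_of_res (resT k n) (resT_nil k n)
  haveI : IsArtinianRing (TR k n) := IsArtinianRing.of_finite k _
  Art.of (TR k n) (resT k n) fun c => ⟨algebraMap k _ c, (resT k n).commutes c⟩

noncomputable def resD (n : ℕ) : DualNumber (TR k n) →ₐ[k] k :=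
  (resT k n).comp (TrivSqZeroExt.fstHom k (TR k n) (TR k n))

theorem resD_nil (n : ℕ) (a : DualNumber (TR k n)) (ha : resD k n a = 0) : IsNilpotent a := by
  obtain ⟨m, hm⟩ := resT_nil k n a.fst ha
  exact TrivSqZeroExt.isNilpotent_iff_isNilpotent_fst.2 ⟨m, hm⟩

noncomputable def D (n : ℕ) : Art k k :=
  haveI : Module.Finite k (DualNumber (TR k n)) := inferInstanceAs (Module.Finite k (TR k n × TR k n))
  haveI : IsLocalRing (DualNumber (TR k n)) := isLocalRing_of_res (resD k n) (resD_nil k n)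
  haveI : IsArtinianRing (DualNumber (TR k n)) := IsArtinianRing.of_finite k _
  Art.of (DualNumber (TR k n)) (resD k n) fun c => ⟨algebraMap k _ c, (resD k n).commutes c⟩

noncomputable abbrev J (n : ℕ) : Ideal (DualNumber (TR k n)) := Ideal.span {TrivSqZeroExt.inr (t k n ^ n)}

theorem fst_of_mem_J {n : ℕ} {a : DualNumber (TR k n)} (ha : a ∈ J k n) :
    a.fst = 0 ∧ ∃ c, a.snd = c * t k n ^ n := by
  obtain ⟨b, rfl⟩ := Ideal.mem_span_singleton'.1 ha
  exact ⟨by simp, b.fst, by simp [smul_eq_mul, mul_comm]⟩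

noncomputable def resD' (n : ℕ) : (DualNumber (TR k n) ⧸ J k n) →ₐ[k] k :=
  Ideal.Quotient.liftₐ (J k n) (resD k n) fun a ha => by
    show resT k n a.fst = 0
    rw [(fst_of_mem_J k ha).1, map_zero]

theorem resD'_nil (n : ℕ) (a : DualNumber (TR k n) ⧸ J k n) (ha : resD' k n a = 0) : IsNilpotent a := by
  obtain ⟨b, rfl⟩ := Ideal.Quotient.mk_surjective a
  exact (resD_nil k n b ha).map (Ideal.Quotient.mk (J k n))

noncomputable def D' (n : ℕ) : Art k k :=
  haveI : Module.Finite k (DualNumber (TR k n)) := inferInstanceAs (Module.Finite k (TR k n × TR k n))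
  haveI : IsLocalRing (DualNumber (TR k n) ⧸ J k n) :=
    isLocalRing_of_res (A := DualNumber (TR k n) ⧸ J k n) (resD' k n) (resD'_nil k n)
  haveI : IsArtinianRing (DualNumber (TR k n) ⧸ J k n) := IsArtinianRing.of_finite k _
  Art.of (DualNumber (TR k n) ⧸ J k n) (resD' k n) fun c => ⟨algebraMap k _ c, (resD' k n).commutes c⟩

noncomputable def τ (n : ℕ) : DualNumber (TR k n) := TrivSqZeroExt.inl (t k n) + TrivSqZeroExt.inr 1

theorem fst_aeval_τ (n : ℕ) (f : k[X]) : (aeval (τ k n) f).fst = mk k n f ∧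
    (aeval (τ k n) f).snd = mk k n (derivative f) := by
  have e : ∀ g : k[X], aeval (TrivSqZeroExt.inl (t k n) : DualNumber (TR k n)) g =
      TrivSqZeroExt.inl (mk k n g) := fun g => by
    rw [← aeval_t]
    exact aeval_algHom_apply (TrivSqZeroExt.inlAlgHom k (TR k n) (TR k n)) (t k n) g
  rw [τ, aeval_add_of_sq_eq_zero _ _ _ (by rw [pow_two, TrivSqZeroExt.inr_mul_inr]), e, e]
  constructor <;> simp

theorem mk_X_pow (n m : ℕ) : mk k n (X ^ m) = t k n ^ m := by
  rw [map_pow, AdjoinRoot.mk_X]; rfl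

noncomputable def projA (n : ℕ) : TR k (n + 1) →ₐ[k] TR k n :=
  AdjoinRoot.liftAlgHom _ (Algebra.ofId k _) (t k n) (by simp [t_pow k n (n + 1 + 1) (by omega)])

theorem projA_mk (n : ℕ) (f : k[X]) : projA k n (mk k (n + 1) f) = mk k n f :=
  (AdjoinRoot.liftAlgHom_mk _ _ _ _ _).trans (aeval_t k n f)

noncomputable def proj (n : ℕ) : T k (n + 1) ⟶ T k n :=
  homMk (projA k n) (AdjoinRoot.algHom_ext (by
    show resT k n (projA k n (AdjoinRoot.root _)) = resT k (n + 1) (t k (n + 1))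
    rw [show projA k n (AdjoinRoot.root _) = t k n from AdjoinRoot.liftAlgHom_root .., resT_t, resT_t]))

theorem resD_τ (n : ℕ) : resD k n (τ k n) = 0 := by simp [resD, τ, resT_t]

theorem aeval_τ_pow (n : ℕ) : aeval (τ k n) ((X : k[X]) ^ (n + 1 + 1)) = 0 :=
  TrivSqZeroExt.ext ((fst_aeval_τ k n _).1.trans (by rw [mk_X_pow, t_pow k n _ (by omega)]; rfl))
    ((fst_aeval_τ k n _).2.trans (by
      rw [derivative_X_pow, map_mul, mk_X_pow, t_pow k n _ (by omega), mul_zero]; rfl))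

noncomputable def twist (n : ℕ) : TR k (n + 1) →ₐ[k] DualNumber (TR k n) :=
  AdjoinRoot.liftAlgHom _ (Algebra.ofId k _) (τ k n) (aeval_τ_pow k n)

theorem twist_mk (n : ℕ) (f : k[X]) : twist k n (mk k (n + 1) f) = aeval (τ k n) f := AdjoinRoot.liftAlgHom_mk _ _ _ _ _

noncomputable def S (n : ℕ) : T k (n + 1) ⟶ D k n :=
  homMk (twist k n) (AdjoinRoot.algHom_ext (by
    show resD k n (twist k n (AdjoinRoot.root _)) = resT k (n + 1) (t k (n + 1))
    rw [show twist k n (AdjoinRoot.root _) = τ k n from AdjoinRoot.liftAlgHom_root .., resD_τ, resT_t]))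

noncomputable def q (n : ℕ) : D k n ⟶ D' k n :=
  homMk (A := D k n) (B := D' k n) (Ideal.Quotient.mkₐ k (J k n) : DualNumber (TR k n) →ₐ[k] _) (AlgHom.ext fun f => rfl)

theorem aeval_τ_mem (n : ℕ) : aeval (τ k n) ((X : k[X]) ^ (n + 1)) ∈ J k n := by
  refine Ideal.mem_span_singleton'.2 ⟨TrivSqZeroExt.inl ((n + 1 : ℕ) : TR k n), ?_⟩
  refine TrivSqZeroExt.ext ?_ ?_
  · rw [(fst_aeval_τ k n _).1, mk_X_pow, t_pow k n (n + 1) (Nat.lt_succ_self n)]; simp
  · rw [(fst_aeval_τ k n _).2, derivative_X_pow, map_mul, mk_X_pow]; simp [mul_comm]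

noncomputable def sA (n : ℕ) : TR k n →ₐ[k] DualNumber (TR k n) ⧸ J k n :=
  AdjoinRoot.liftAlgHom _ (Algebra.ofId k _) (Ideal.Quotient.mkₐ k (J k n) (τ k n)) (by
    have h := aeval_algHom_apply (Ideal.Quotient.mkₐ k (J k n)) (τ k n) ((X : k[X]) ^ (n + 1))
    exact h.trans (Ideal.Quotient.eq_zero_iff_mem.2 (aeval_τ_mem k n)))

theorem sA_mk (n : ℕ) (f : k[X]) : sA k n (mk k n f) = Ideal.Quotient.mk (J k n) (aeval (τ k n) f) :=
  (AdjoinRoot.liftAlgHom_mk _ _ _ _ _).trans (aeval_algHom_apply (Ideal.Quotient.mkₐ k (J k n)) (τ k n) f)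

noncomputable def s (n : ℕ) : T k n ⟶ D' k n :=
  homMk (sA k n) (AdjoinRoot.algHom_ext (by
    show resD' k n (sA k n (AdjoinRoot.root _)) = resT k n (t k n)
    rw [show sA k n (AdjoinRoot.root _) = Ideal.Quotient.mkₐ k (J k n) (τ k n) from AdjoinRoot.liftAlgHom_root ..,
      resT_t]
    exact resD_τ k n))

theorem isFibreProd_curve [CharZero k] (n : ℕ) : IsFibreProd (proj k n) (S k n) (s k n) (q k n) where
  w := hom_ext (AdjoinRoot.algHom_ext (by
    show sA k n (projA k n (AdjoinRoot.root _)) = Ideal.Quotient.mkₐ k (J k n) (twist k n (AdjoinRoot.root _))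
    simp [projA, sA, twist, t]))
  inj := by
    suffices h : ∀ b : TR k (n + 1), proj k n b = (0 : TR k n) → S k n b = (0 : DualNumber (TR k n)) → b = 0 by
      intro b₁ b₂ h₁ h₂
      refine sub_eq_zero.1 (h (b₁ - b₂) ?_ ?_)
      · show (proj k n).toAlgHom (b₁ - b₂) = 0
        rw [map_sub, sub_eq_zero]; exact h₁
      · show (S k n).toAlgHom (b₁ - b₂) = 0
        rw [map_sub, sub_eq_zero]; exact h₂
    intro b h₁ h₂
    obtain ⟨f, rfl⟩ := AdjoinRoot.mk_surjective b
    obtain ⟨g, rfl⟩ := (mk_eq_zero k).1 ((projA_mk k n f).symm.trans h₁)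
    have h3 : mk k n (derivative (X ^ (n + 1) * g)) = 0 := by
      rw [← (fst_aeval_τ k n _).2, ← twist_mk]
      exact congrArg TrivSqZeroExt.snd h₂
    rw [derivative_mul, derivative_X_pow, map_add, map_mul _ (X ^ (n + 1)), mk_X_pow k n (n + 1),
      t_pow k n _ (by omega), zero_mul, add_zero, mk_eq_zero, Nat.add_sub_cancel] at h3
    rw [AdjoinRoot.mk_eq_zero, pow_succ]
    refine mul_dvd_mul_left _ ?_
    rw [X_dvd_iff]
    have h4 := X_pow_dvd_iff.1 h3 n (by omega)
    rw [mul_assoc, coeff_C_mul, coeff_X_pow_mul', if_pos le_rfl, Nat.sub_self] at h4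
    exact (mul_eq_zero.1 h4).resolve_left (by exact_mod_cast Nat.succ_ne_zero n)
  surj := by
    intro a' a'' hw
    obtain ⟨f, rfl⟩ := AdjoinRoot.mk_surjective (a' : TR k n)
    change DualNumber (TR k n) at a''
    have hd : aeval (τ k n) f - a'' ∈ J k n :=
      Ideal.Quotient.eq.1 ((sA_mk k n f).symm.trans hw)
    obtain ⟨h1, c, hc⟩ := fst_of_mem_J k hd
    obtain ⟨c, rfl⟩ := AdjoinRoot.mk_surjective c
    rw [TrivSqZeroExt.fst_sub, (fst_aeval_τ k n f).1, sub_eq_zero] at h1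
    rw [TrivSqZeroExt.snd_sub, (fst_aeval_τ k n f).2] at hc
    refine ⟨mk k (n + 1) (f - C (c.coeff 0 / (n + 1)) * X ^ (n + 1)), ?_, ?_⟩
    · refine (projA_mk k n _).trans ?_
      show mk k n _ = mk k n f
      rw [map_sub, map_mul, mk_X_pow k n, t_pow k n _ (by omega), mul_zero, sub_zero]
    · refine (twist_mk k n _).trans ?_
      refine TrivSqZeroExt.ext ?_ ?_
      · rw [(fst_aeval_τ k n _).1, map_sub, map_mul, mk_X_pow k n, t_pow k n _ (by omega), mul_zero, sub_zero, h1]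
      · rw [(fst_aeval_τ k n _).2, map_sub derivative, derivative_C_mul, derivative_X_pow, map_sub]
        have h5 : mk k n (C (c.coeff 0 / (n + 1)) * (C ((n + 1 : ℕ) : k) * X ^ (n + 1 - 1))) =
            mk k n c * t k n ^ n := by
          have h6 : C (c.coeff 0 / (n + 1)) * (C ((n + 1 : ℕ) : k) * X ^ (n + 1 - 1)) = C (c.coeff 0) * X ^ n := by
            rw [← mul_assoc, ← C_mul, Nat.add_sub_cancel, Nat.cast_add, Nat.cast_one,
              div_mul_cancel₀ _ (by exact_mod_cast Nat.succ_ne_zero n)]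
          rw [h6, ← mk_X_pow k n, ← map_mul, mk_eq_mk, ← sub_mul,
            pow_succ', mul_comm X (X ^ n), mul_comm _ (X ^ n)]
          exact mul_dvd_mul_left _ (X_dvd_iff.2 (by simp))
        rw [h5, ← hc, sub_sub_cancel]

theorem ker_mul_ker_q (n : ℕ) (f : D' k n ⟶ T k n)
    (hf : ∀ a : DualNumber (TR k n), f (Ideal.Quotient.mk (J k n) a) = (a.fst : TR k n)) :
    RingHom.ker f.toAlgHom * RingHom.ker f.toAlgHom = ⊥ := by
  rw [eq_bot_iff, Ideal.mul_le]
  intro a ha b hb
  obtain ⟨a, rfl⟩ := Ideal.Quotient.mk_surjective (a : DualNumber (TR k n) ⧸ J k n)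
  obtain ⟨b, rfl⟩ := Ideal.Quotient.mk_surjective (b : DualNumber (TR k n) ⧸ J k n)
  have ha' : a.fst = 0 := (hf a).symm.trans ha
  have hb' : b.fst = 0 := (hf b).symm.trans hb
  rw [Ideal.mem_bot]
  show Ideal.Quotient.mk (J k n) a * Ideal.Quotient.mk (J k n) b = 0
  rw [← map_mul, show a * b = 0 from TrivSqZeroExt.ext (by simp [ha']) (by simp [ha', hb']), map_zero]



/-- Let k be a field of characteristic zero and F a deformation functor on Artinian local k-algebras
with residue field k — F(k) is a point and the comparison map F(A₁ ×_A A₂) → F(A₁) ×_{F(A)} F(A₂) is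
bijective whenever A₂ → A is surjective — whose tangent space F(k[ε]) is finite-dimensional. Suppose
that for every object A and every surjective morphism q : A'' → A' between split square-zero
extensions of A (A' and A'' come with retractions onto A whose kernels have square zero and with
sections from A, and q commutes with the retractions and the sections), the map F(q) : F(A'') →
F(A') is surjective. Then F is unobstructed: F(B) → F(A) is surjective for every surjective B → A.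
(The published statement is for deformation categories, with the hypothesis that, for every object
over A, the functor M ↦ {isomorphism classes of its liftings to A ⊕ M} on finite A-modules carries
surjections to surjections; this row is the case of a category fibred in sets, for which a split
square-zero extension of A is A ⊕ M with M the kernel, a finite A-module, and that hypothesis is the
displayed surjectivity.) -/
theorem result {k : Type u} [Field k] [CharZero k]
    (F : ArtFun.Art k k ⥤ Type v) [ArtFun.TangentStr F]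
    (h0 : ArtFun.H0 F)
    (hRS : (∀ ⦃B A A' A'' : ArtFun.Art k k⦄ (p' : B ⟶ A') (p'' : B ⟶ A'') (f' : A' ⟶ A) (f'' : A'' ⟶ A)
        (h : ArtFun.Art.IsFibreProd p' p'' f' f''), Function.Surjective f'' → Function.Bijective (ArtFun.cmp F h)))
    (hfin : ArtFun.Hfin F)
    (hT1 : ∀ ⦃A A' A'' : ArtFun.Art k k⦄ (π' : A' ⟶ A) (i' : A ⟶ A') (π'' : A'' ⟶ A) (i'' : A ⟶ A'')
        (q : A'' ⟶ A'), i' ≫ π' = 𝟙 A → i'' ≫ π'' = 𝟙 A →
        RingHom.ker π'.toAlgHom * RingHom.ker π'.toAlgHom = ⊥ →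
        RingHom.ker π''.toAlgHom * RingHom.ker π''.toAlgHom = ⊥ →
        q ≫ π' = π'' → i'' ≫ q = i' → Function.Surjective q → Function.Surjective (F.map q)) :
    ArtFun.IsSmoothFunctor F := by
  have hsurj : ∀ A : ArtFun.Art k k, Function.Surjective (toBase A) := fun A c => A.res_surjective c
  have hcurve : ∀ (n : ℕ) (y : F.obj (T k n)), ∃ w, F.map (proj k n) w = y := by
    intro n y
    let fstH : D k n ⟶ T k n := homMk (TrivSqZeroExt.fstHom k (TR k n) (TR k n)) rfl
    let inlH : T k n ⟶ D k n := homMk (TrivSqZeroExt.inlAlgHom k (TR k n) (TR k n)) (AlgHom.ext fun x => rfl)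
    let π' : D' k n ⟶ T k n := homMk (Ideal.Quotient.liftₐ (J k n) (TrivSqZeroExt.fstHom k (TR k n) (TR k n))
      fun a ha => (fst_of_mem_J k ha).1) (Ideal.Quotient.algHom_ext k (AlgHom.ext fun x => rfl))
    obtain ⟨z, hz⟩ := hT1 π' (inlH ≫ q k n) fstH inlH (q k n)
      (hom_ext (AlgHom.ext fun x => rfl)) (hom_ext (AlgHom.ext fun x => rfl))
      (ker_mul_ker_q k n π' fun a => rfl)
      (by
        rw [eq_bot_iff, Ideal.mul_le]
        intro (a : DualNumber (TR k n)) ha (b : DualNumber (TR k n)) hb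
        have ha' : a.fst = 0 := ha
        have hb' : b.fst = 0 := hb
        rw [Ideal.mem_bot]
        show (a * b : DualNumber (TR k n)) = 0
        exact TrivSqZeroExt.ext (by simp [ha']) (by simp [ha', hb']))
      (hom_ext (AlgHom.ext fun x => rfl)) rfl (Ideal.Quotient.mk_surjective (I := J k n)) (F.map (s k n) y)
    obtain ⟨w, hw⟩ := (hRS _ _ _ _ (isFibreProd_curve k n) (Ideal.Quotient.mk_surjective (I := J k n))).2
      ⟨(y, z), hz.symm⟩
    exact ⟨w, congrArg (fun x => x.1.1) hw⟩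
  have hder : Subsingleton (Derivation k k k) :=
    ⟨fun d₁ d₂ => Derivation.ext fun a => by
      rw [show a = algebraMap k k a from rfl, Derivation.map_algebraMap, Derivation.map_algebraMap]⟩
  obtain ⟨⟨R, ξ, hvers, -⟩⟩ := S12732.result hder F h0
    (fun B A A' A'' p' p'' f' f'' h hs => (hRS p' p'' f' f'' h hs).2)
    (fun B A' p' p'' h => hRS p' p'' _ _ h (hsurj _)) hfin
  suffices hR : IsSmoothFunctor (hR R.carrier R.res) by
    intro B A μ hμ x
    obtain ⟨φb, hφb⟩ : ∃ φ : HomSet R.carrier R.res (base k k), True := ⟨⟨R.res, AlgHom.id_comp _⟩, trivial⟩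
    obtain ⟨φ, -, hφ⟩ := hvers (toBase A) (hsurj A) φb x (h0.2.elim _ _)
    obtain ⟨ψ, hψ⟩ := hR μ hμ φ
    refine ⟨ξ.app B ψ, ?_⟩
    rw [← ξ.natural, ← hφ]
    exact congrArg (ξ.app A) hψ
  haveI : IsAdicComplete (IsLocalRing.maximalIdeal k) k := by
    rw [IsLocalRing.maximalIdeal_eq_bot]; infer_instance
  refine (S12722.result (Λ := k) (k := k) Function.surjective_id R).2 ?_
  let L : CRing k k :=
    { carrier := k, res := AlgHom.id k k, res_surjective := Function.surjective_id, isAdicComplete := inferInstance }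
  obtain ⟨N, G, hG, hGC, hGs, hker⟩ := ArtFunLib.exists_minimal_cover (R := L) (S := R)
    (Algebra.ofId k R.carrier) (AlgHom.ext fun r => R.res.commutes r)
  let G₀ : MvPowerSeries (Fin N) k →ₐ[k] R.carrier := G
  refine ⟨N, ⟨(AlgEquiv.ofBijective G₀ ⟨?_, hGs⟩).symm⟩⟩
  rw [injective_iff_map_eq_zero]
  intro g hg
  by_contra hg0
  let P := ArtFunLib.psRing L N
  have hmV : IsLocalRing.maximalIdeal (MvPowerSeries (Fin N) k) = H2Alg.PSHom.V N k := by
    refine Eq.trans ?_ (ArtFunLib.span_X_eq_ker (A := k) (n := N)).symm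
    ext x
    exact P.mem_maximalIdeal_iff x
  have hle2 : RingHom.ker G₀ ≤ H2Alg.PSHom.V N k ^ 2 := fun z hz => by
    rw [← hmV]
    have h' := hker z hz
    rw [show IsLocalRing.maximalIdeal L.carrier = ⊥ from IsLocalRing.maximalIdeal_eq_bot (R := k),
      Ideal.map_bot, bot_sup_eq] at h'
    exact h'
  obtain ⟨d, hd2, hdle, g₁, hg₁, hg₁'⟩ : ∃ d, 2 ≤ d ∧ RingHom.ker G₀ ≤ H2Alg.PSHom.V N k ^ d ∧
      ∃ g₁ ∈ RingHom.ker G₀, g₁ ∉ H2Alg.PSHom.V N k ^ (d + 1) := by
    classical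
    have hex : ∃ d, ¬ RingHom.ker G₀ ≤ H2Alg.PSHom.V N k ^ (d + 1) := by
      by_contra hcon
      push Not at hcon
      exact hg0 (MvPowerSeries.ext fun e => by
        rw [map_zero]
        exact H2Alg.PSHom.coeff_eq_zero_of_mem_pow (hcon e.degree hg) (Nat.lt_succ_self _))
    have h2 : 2 ≤ Nat.find hex := by
      by_contra hlt
      exact Nat.find_spec hex (hle2.trans (Ideal.pow_le_pow_right (by omega)))
    obtain ⟨g₁, h₁, h₁'⟩ := SetLike.not_le_iff_exists.1 (Nat.find_spec hex)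
    refine ⟨_, h2, ?_, g₁, h₁, h₁'⟩
    have := Nat.find_min hex (m := Nat.find hex - 1) (by omega)
    rw [not_not, Nat.sub_add_cancel (by omega)] at this
    exact this
  let p : MvPolynomial (Fin N) k := MvPowerSeries.truncTotal (d + 1) g₁
  have hp : ∀ e ∈ p.support, e.degree = d := fun e he => by
    rw [MvPolynomial.mem_support_iff] at he
    rcases lt_trichotomy e.degree d with h | h | h
    · refine absurd ?_ he
      rw [MvPowerSeries.coeff_truncTotal _ (by omega)]
      exact H2Alg.PSHom.coeff_eq_zero_of_mem_pow (hdle hg₁) h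
    · exact h
    · exact absurd (MvPowerSeries.coeff_truncTotal_eq_zero _ (by omega)) he
  have hrest : g₁ - (p : MvPowerSeries (Fin N) k) ∈ H2Alg.PSHom.V N k ^ (d + 1) :=
    H2Alg.PSHom.mem_pow fun e he => by
      rw [map_sub, MvPolynomial.coeff_coe, MvPowerSeries.coeff_truncTotal _ he, sub_self]
  have hp0 : p ≠ 0 := fun h => hg₁' (by simpa [h] using hrest)
  obtain ⟨c, hc⟩ : ∃ c : Fin N → k, MvPolynomial.eval c p ≠ 0 := by
    by_contra hcon
    push Not at hcon
    exact hp0 (MvPolynomial.funext fun c => by rw [hcon c, map_zero])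
  obtain ⟨e, rfl⟩ : ∃ e, d = e + 1 := ⟨d - 1, by omega⟩
  let g0 : HomSet L.carrier L.res (T k e) := ⟨Algebra.ofId k (TR k e), AlgHom.ext fun r => (resT k e).commutes r⟩
  have hmem : ∀ x : TR k e, resT k e x = 0 → x ∈ IsLocalRing.maximalIdeal (T k e) := fun x hx =>
    ((T k e).mem_maximalIdeal_iff x).2 hx
  obtain ⟨φ, hφC, hφX⟩ := ArtFunLib.exists_ps_point g0 (fun i => (c i • t k e : TR k e))
    fun i => hmem _ (by rw [map_smul, resT_t, smul_zero])
  let φ₀ : MvPowerSeries (Fin N) k →ₐ[k] TR k e := φ.1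
  have hVt : ∀ (m : ℕ) (φ₁ : MvPowerSeries (Fin N) k →ₐ[k] TR k m), (∀ i, t k m ∣ φ₁ (MvPowerSeries.X i)) →
      ∀ z ∈ H2Alg.PSHom.V N k ^ (m + 1), φ₁ z = 0 := by
    intro m φ₁ hX z hz
    have := Ideal.mem_map_of_mem φ₁ hz
    rw [Ideal.map_pow] at this
    have hle : (H2Alg.PSHom.V N k).map φ₁ ≤ Ideal.span {t k m} := by
      rw [H2Alg.PSHom.V, Ideal.map_span, Ideal.span_le]
      rintro _ ⟨_, ⟨i, rfl⟩, rfl⟩
      exact Ideal.mem_span_singleton.2 (hX i)
    have h2 := Ideal.pow_right_mono hle (m + 1) this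
    rw [Ideal.span_singleton_pow, t_pow k m _ (by omega)] at h2
    simpa using h2
  have hkill : ∀ z, G₀ z = 0 → φ₀ z = 0 := fun z hz =>
    hVt e φ₀ (fun i => ⟨algebraMap k _ (c i), by
      rw [show φ₀ (MvPowerSeries.X i) = c i • t k e from hφX i, Algebra.smul_def, mul_comm]⟩) z (hdle hz)
  let φR : R.carrier →ₐ[k] TR k e := AlgHom.liftOfSurjective G₀ hGs φ₀ hkill
  have hφR : ∀ z, φR (G₀ z) = φ₀ z := fun z => AlgHom.liftOfSurjective_apply _ _ _ _ z
  let φR' : HomSet R.carrier R.res (T k e) := ⟨φR, AlgHom.ext fun r => by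
    obtain ⟨z, rfl⟩ := hGs r
    show resT k e (φR (G₀ z)) = _
    rw [hφR]
    exact (ArtFunLib.homSet_res φ z).trans (AlgHom.congr_fun hG z).symm⟩
  obtain ⟨w, hw⟩ := hcurve e (ξ.app _ φR')
  obtain ⟨ψ, hψ, -⟩ := hvers (proj k e) (fun x => by
    obtain ⟨f, rfl⟩ := AdjoinRoot.mk_surjective (x : TR k e)
    exact ⟨mk k (e + 1) f, projA_mk k e f⟩) φR' w hw
  let ψ₀ : MvPowerSeries (Fin N) k →ₐ[k] TR k (e + 1) := AlgHom.comp ψ.1 G₀
  have hu : ∀ i, ∃ u, ψ₀ (MvPowerSeries.X i) = t k (e + 1) * u ∧ resT k (e + 1) u = c i := by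
    intro i
    obtain ⟨f, hf⟩ := AdjoinRoot.mk_surjective (ψ₀ (MvPowerSeries.X i))
    have h1 : mk k e f = c i • t k e := by
      refine Eq.trans ?_ (hφX i)
      refine Eq.trans ?_ (hφR _)
      refine Eq.trans ?_ (congrArg (fun χ : HomSet R.carrier R.res (T k e) => χ.1 (G₀ (MvPowerSeries.X i))) hψ)
      show _ = projA k e (ψ₀ (MvPowerSeries.X i))
      rw [← hf]; exact (projA_mk k e f).symm
    rw [t, ← AdjoinRoot.mk_X, AdjoinRoot.smul_mk, mk, AdjoinRoot.mk_eq_mk] at h1
    obtain ⟨h, hh⟩ := h1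
    refine ⟨mk k (e + 1) (C (c i) + X ^ e * h), ?_, ?_⟩
    · rw [← hf, t, ← AdjoinRoot.mk_X, ← map_mul]
      congr 1
      rw [eq_add_of_sub_eq hh, smul_eq_C_mul]; ring
    · rw [resT_mk]
      simp [zero_pow (show e ≠ 0 by omega)]
  choose u hu₁ hu₂ using hu
  have hg1 : ψ₀ g₁ = 0 := by
    show ψ.1 (G₀ g₁) = 0
    rw [show G₀ g₁ = 0 from hg₁, map_zero]
  have hrest0 := hVt (e + 1) ψ₀ (fun i => ⟨u i, hu₁ i⟩) _ hrest
  rw [map_sub, hg1, zero_sub, neg_eq_zero] at hrest0
  have h7 : ψ₀ (p : MvPowerSeries (Fin N) k) = t k (e + 1) ^ (e + 1) * MvPolynomial.aeval u p := by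
    have h8 : ψ₀ (p : MvPowerSeries (Fin N) k) = MvPolynomial.aeval (fun i => t k (e + 1) * u i) p := by
      have h9 : ψ₀.comp (MvPolynomial.coeToMvPowerSeries.algHom k) = MvPolynomial.aeval fun i => t k (e + 1) * u i :=
        MvPolynomial.algHom_ext fun i => by simp [hu₁]
      rw [← h9]; simp
    rw [h8, MvPolynomial.aeval_def, MvPolynomial.aeval_def, MvPolynomial.eval₂_eq', MvPolynomial.eval₂_eq',
      Finset.mul_sum]
    refine Finset.sum_congr rfl fun x hx => ?_
    rw [Finset.prod_congr rfl fun i _ => mul_pow (t k (e + 1)) (u i) (x i), Finset.prod_mul_distrib,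
      Finset.prod_pow_eq_pow_sum, ← Finsupp.degree_eq_sum, hp x hx]
    ring
  rw [h7] at hrest0
  obtain ⟨a, ha⟩ := AdjoinRoot.mk_surjective (MvPolynomial.aeval u p)
  rw [← ha, ← mk_X_pow, ← map_mul, AdjoinRoot.mk_eq_zero, pow_succ' X (e + 1), mul_comm X,
    mul_dvd_mul_iff_left (pow_ne_zero _ X_ne_zero), X_dvd_iff] at hrest0
  refine hc ?_
  have h10 : resT k (e + 1) (MvPolynomial.aeval u p) = MvPolynomial.eval c p := by
    rw [MvPolynomial.comp_aeval_apply]
    simp only [hu₂]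
    exact RingHom.congr_fun (MvPolynomial.coe_aeval_eq_eval c) p
  rw [← h10, ← ha, resT_mk]
  rw [← coeff_zero_eq_aeval_zero, hrest0]

end Groth.Agent.S13971
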