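import Groth.Statements.S13972
import Groth.Agent.Lib.CI2.NilLift
import Groth.Agent.Lib.CI2.Ops

set_option autoImplicit false
universe u
open LCI

namespace Groth.Agent.S13972
open LCI TensorProduct
open Groth.Agent.CanElt (KObj kd kmap kmap_kd k0)

theorem mem_smul_top_iff {R S : Type u} [CommRing R] [CommRing S] [Algebra R S] {M : Type u} [AddCommGroup M]
    [Module R M] [Module S M] [IsScalarTower R S M] (I : Ideal R) (x : M) :
    x ∈ I • (⊤ : Submodule R M) ↔ x ∈ I.map (algebraMap R S) • (⊤ : Submodule S M) := by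
  rw [← Submodule.restrictScalars_mem R (I.map (algebraMap R S) • (⊤ : Submodule S M)),
    Ideal.smul_restrictScalars, Submodule.restrictScalars_top]

theorem kmap_eq_zero {R : Type u} [CommRing R] (J : Ideal R)
    (ψ : R →ₛₗ[Ideal.Quotient.mk J] (R ⧸ J)) (hψ : ∀ x, ψ x = Ideal.Quotient.mk J x) :
    ∀ (l : List R) (n : ℕ) (x : KObj R R l n), kmap ψ l n x = 0 → x ∈ J • (⊤ : Submodule R (KObj R R l n))
  | [], 0, x, hx => by
    have key : ∀ y : R, ψ y = 0 → y ∈ J • (⊤ : Submodule R R) := fun y hy => by
      rw [smul_eq_mul, Ideal.mul_top]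
      rw [hψ] at hy
      exact Ideal.Quotient.eq_zero_iff_mem.1 hy
    exact key x hx
  | [], n + 1, x, _ => by
    rw [Subsingleton.elim (h := inferInstanceAs (Subsingleton PUnit)) x 0]
    exact zero_mem _
  | _ :: l, 0, x, hx => kmap_eq_zero J ψ hψ l 0 x hx
  | _ :: l, n + 1, (a, b), hx => by
    have ha := kmap_eq_zero J ψ hψ l (n + 1) a (congrArg Prod.fst hx)
    have hb := kmap_eq_zero J ψ hψ l n b (congrArg Prod.snd hx)
    have ha' := Submodule.mem_map_of_mem (f := LinearMap.inl R (KObj R R l (n + 1)) (KObj R R l n)) ha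
    have hb' := Submodule.mem_map_of_mem (f := LinearMap.inr R (KObj R R l (n + 1)) (KObj R R l n)) hb
    rw [Submodule.map_smul''] at ha' hb'
    have := add_mem (Submodule.smul_mono le_rfl le_top ha') (Submodule.smul_mono le_rfl le_top hb')
    rw [LinearMap.inl_apply, LinearMap.inr_apply, Prod.mk_add_mk, add_zero, zero_add] at this
    exact this

theorem kmap_of_mem {R : Type u} [CommRing R] (J : Ideal R)
    (ψ : R →ₛₗ[Ideal.Quotient.mk J] (R ⧸ J)) (l : List R) (n : ℕ) (x : KObj R R l n)
    (hx : x ∈ J • (⊤ : Submodule R (KObj R R l n))) : kmap ψ l n x = 0 := by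
  induction hx using Submodule.smul_induction_on' with
  | smul r hr m _ => rw [LinearMap.map_smulₛₗ, Ideal.Quotient.eq_zero_iff_mem.2 hr, zero_smul]
  | add a _ b _ ha hb => rw [map_add, ha, hb, add_zero]

theorem free_KObj {R : Type u} [CommRing R] : ∀ (l : List R) (n : ℕ), Module.Free R (KObj R R l n)
  | [], 0 => inferInstanceAs (Module.Free R R)
  | [], _ + 1 => inferInstanceAs (Module.Free R PUnit.{u + 1})
  | _ :: l, 0 => free_KObj l 0
  | _ :: l, n + 1 => by
    haveI := free_KObj l (n + 1)
    haveI := free_KObj l n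
    exact inferInstanceAs (Module.Free R (KObj R R l (n + 1) × KObj R R l n))

/-- Let A' be an Artinian local ring, I a proper ideal of A', A = A'/I, R' a Noetherian A'-algebra flat
over A' and R = R'/IR'. Let f₁, …, f_r ∈ R be a Koszul-regular sequence (its Koszul complex is
acyclic in nonzero degrees) such that R/(f₁, …, f_r) is flat over A. Then: (1) for every choice of
lifts f'₁, …, f'_r ∈ R' of the f_i, the quotient R'/(f'₁, …, f'_r) is flat over A' and f'₁, …, f'_r
is a Koszul-regular sequence in R'; (2) if J' ⊆ R' is an ideal with R'/J' flat over A' whose image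
in R is the ideal (f₁, …, f_r), then J' is generated by any lifts f'₁, …, f'_r ∈ J' of the f_i. (The
published statement takes R' = R₀ ⊗_Λ A' for a flat Λ-algebra R₀ and a surjection A' → A of Artinian
local Λ-algebras; this row assumes only that R' is Noetherian and flat over A' and that I is a
proper ideal, which is what its proof uses. Regularity of a sequence is taken there in every
localization at a prime containing the ideal it generates, which over a Noetherian ring is the
Koszul-acyclicity used in the proof and stated here.) -/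
theorem result
    {A' : Type u} [CommRing A'] [IsLocalRing A'] [IsArtinianRing A'] (I : Ideal A') (hI : I ≠ ⊤)
    {R' : Type u} [CommRing R'] [Algebra A' R'] [IsNoetherianRing R'] [Module.Flat A' R']
    (r : ℕ) (f : Fin r → R' ⧸ I.map (algebraMap A' R'))
    (hf : LCI.IsKoszulRegularSeq (R' ⧸ I.map (algebraMap A' R')) (List.ofFn f))
    [Module.Flat (A' ⧸ I) ((R' ⧸ I.map (algebraMap A' R')) ⧸ Ideal.span (Set.range f))] :
    (∀ f' : Fin r → R', (∀ i, Ideal.Quotient.mk (I.map (algebraMap A' R')) (f' i) = f i) →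
        Module.Flat A' (R' ⧸ Ideal.span (Set.range f')) ∧ LCI.IsKoszulRegularSeq R' (List.ofFn f')) ∧
    (∀ (J' : Ideal R'), Module.Flat A' (R' ⧸ J') →
        J'.map (Ideal.Quotient.mk (I.map (algebraMap A' R'))) = Ideal.span (Set.range f) →
        ∀ f' : Fin r → R', (∀ i, f' i ∈ J') →
          (∀ i, Ideal.Quotient.mk (I.map (algebraMap A' R')) (f' i) = f i) →
          J' = Ideal.span (Set.range f')) := by
  have hnil : IsNilpotent I := by
    obtain ⟨n, hn⟩ := IsArtinianRing.isNilpotent_jacobson_bot (R := A')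
    refine ⟨n, eq_bot_iff.2 ((Ideal.pow_right_mono ?_ n).trans hn.le)⟩
    rw [IsLocalRing.jacobson_eq_maximalIdeal ⊥ bot_ne_top]
    exact IsLocalRing.le_maximalIdeal hI
  let J := I.map (algebraMap A' R')
  have hspan : ∀ f' : Fin r → R', (∀ i, Ideal.Quotient.mk J (f' i) = f i) →
      (Ideal.span (Set.range f')).map (Ideal.Quotient.mk J) = Ideal.span (Set.range f) := fun f' hf' => by
    rw [Ideal.map_span, ← Set.range_comp]
    exact congrArg (fun g => Ideal.span (Set.range g)) (funext hf')
  refine ⟨fun f' hf' => ?_, fun J' hJ' hmap f' hfJ hf' => ?_⟩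
  · let l := List.ofFn f'
    let ψ : R' →ₛₗ[Ideal.Quotient.mk J] (R' ⧸ J) :=
      { toFun := Ideal.Quotient.mk J
        map_add' := map_add _
        map_smul' := fun a b => map_mul _ a b }
    have hl : l.map (Ideal.Quotient.mk J) = List.ofFn f := by
      rw [List.map_ofFn]
      exact congrArg List.ofFn (funext hf')
    have hex : Groth.Agent.CI2.Ex (R' ⧸ J) (R' ⧸ J) (l.map (Ideal.Quotient.mk J)) := by
      rw [hl]
      exact (Groth.Agent.CI2.isKoszulRegularSeq_iff_ex _).1 hf
    letI : ∀ n, Module A' (KObj R' R' l n) := fun n => Module.compHom _ (algebraMap A' R')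
    haveI hst : ∀ n, IsScalarTower A' R' (KObj R' R' l n) := fun n =>
      IsScalarTower.of_algebraMap_smul fun _ _ => rfl
    haveI : ∀ n, Module.Flat A' (KObj R' R' l n) := fun n =>
      haveI := free_KObj l n
      Module.Flat.trans A' R' (KObj R' R' l n)
    let d : ∀ n, KObj R' R' l (n + 1) →ₗ[A'] KObj R' R' l n := fun n => (kd R' R' l n).restrictScalars A'
    let Q := (R' ⧸ J) ⧸ Ideal.span (Set.range f)
    have hmk : ∀ x, (Ideal.Quotient.mk (Ideal.span (Set.range f))) (Ideal.Quotient.mk J x) = 0 ↔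
        x ∈ J ⊔ Ideal.span (Set.range f') := fun x => by
      rw [Ideal.Quotient.eq_zero_iff_mem, ← hspan f' hf', ← Ideal.mem_comap,
        Ideal.comap_map_of_surjective' _ Ideal.Quotient.mk_surjective, Ideal.mk_ker, sup_comm]
    have hrange : ∀ x, x ∈ LinearMap.range (d 0) ↔ k0 R' R' l x ∈ Ideal.span (Set.range f') := fun x => by
      have := Groth.Agent.CanElt.mem_range_kd_zero R' R' l x
      rw [Ideal.ofList, smul_eq_mul, Ideal.mul_top] at this
      refine Iff.trans (Iff.trans ?_ this) ?_
      · exact Iff.rfl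
      · simp [l, List.mem_ofFn', Set.range]
    haveI : Module.Flat (A' ⧸ I) ((A' ⧸ I) ⊗[A'] (KObj R' R' l 0 ⧸ LinearMap.range (d 0))) := by
      let φ₀ : KObj R' R' l 0 →ₗ[A'] Q :=
        ((Ideal.Quotient.mkₐ A' (Ideal.span (Set.range f))).toLinearMap ∘ₗ (Ideal.Quotient.mkₐ A' J).toLinearMap) ∘ₗ
          (k0 R' R' l).toLinearMap.restrictScalars A'
      let φ : (KObj R' R' l 0 ⧸ LinearMap.range (d 0)) →ₗ[A'] Q := (LinearMap.range (d 0)).liftQ φ₀ fun x hx =>
        LinearMap.mem_ker.2 ((hmk _).2 (Ideal.mem_sup_right ((hrange x).1 hx)))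
      haveI : IsScalarTower A' (A' ⧸ I) Q := IsScalarTower.of_algebraMap_smul fun a x => by
        obtain ⟨x, rfl⟩ := Ideal.Quotient.mk_surjective x
        obtain ⟨x, rfl⟩ := Ideal.Quotient.mk_surjective x
        rfl
      let Φ := φ.liftBaseChange (A' ⧸ I)
      refine Module.Flat.of_linearEquiv (LinearEquiv.ofBijective Φ ⟨?_, ?_⟩)
      · rw [injective_iff_map_eq_zero]
        intro y hy
        obtain ⟨x, rfl⟩ := Groth.Agent.CI2.exists_one_tmul y
        obtain ⟨z, rfl⟩ := Submodule.mkQ_surjective _ x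
        rw [LinearMap.liftBaseChange_tmul, one_smul] at hy
        obtain ⟨a, ha, b, hb, hab⟩ := Submodule.mem_sup.1 ((hmk _).1 hy)
        rw [Groth.Agent.CI2.one_tmul_eq_zero]
        have h1 : Submodule.mkQ (LinearMap.range (d 0)) z =
            Submodule.mkQ (LinearMap.range (d 0)) ((k0 R' R' l).symm a) := by
          rw [Submodule.mkQ_apply, Submodule.mkQ_apply, Submodule.Quotient.eq, hrange, map_sub,
            LinearEquiv.apply_symm_apply]
          have : (k0 R' R' l) z - a = b := by rw [sub_eq_iff_eq_add']; exact hab.symm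
          rw [this]
          exact hb
        rw [h1]
        have h0 : (k0 R' R' l).symm a ∈ I • (⊤ : Submodule A' (KObj R' R' l 0)) := by
          haveI := hst 0
          rw [mem_smul_top_iff (S := R') (M := KObj R' R' l 0)]
          have : (k0 R' R' l).symm a = a • (k0 R' R' l).symm 1 := by rw [← map_smul, smul_eq_mul, mul_one]
          rw [this]
          exact Submodule.smul_mem_smul ha trivial
        have h2 := Submodule.mem_map_of_mem (f := Submodule.mkQ (LinearMap.range (d 0))) h0
        rw [Submodule.map_smul''] at h2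
        exact Submodule.smul_mono le_rfl le_top h2
      · intro q
        obtain ⟨q, rfl⟩ := Ideal.Quotient.mk_surjective q
        obtain ⟨q, rfl⟩ := Ideal.Quotient.mk_surjective q
        refine ⟨1 ⊗ₜ Submodule.mkQ _ ((k0 R' R' l).symm q), ?_⟩
        rw [LinearMap.liftBaseChange_tmul, one_smul]
        show Ideal.Quotient.mk _ (Ideal.Quotient.mk J (k0 R' R' l ((k0 R' R' l).symm q))) = _
        rw [LinearEquiv.apply_symm_apply]
    obtain ⟨hE, hfl⟩ := Groth.Agent.CI2.exact_of_exact_mod_nilpotent hnil (fun n => (KObj R' R' l n : Type u)) d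
      (fun n z => Groth.Agent.CanElt.kd_kd R' R' l n z) fun n z hz => by
        haveI := hst n
        haveI := hst (n + 1)
        replace hz := (mem_smul_top_iff (S := R') (M := KObj R' R' l n) I _).1 hz
        have h0 : kd (R' ⧸ J) (R' ⧸ J) (l.map (Ideal.Quotient.mk J)) n (kmap ψ l (n + 1) z) = 0 := by
          rw [← kmap_kd]
          exact kmap_of_mem J ψ l n _ hz
        obtain ⟨w', hw'⟩ := hex n _ h0
        obtain ⟨w, rfl⟩ := Groth.Agent.CanElt.kmap_surjective ψ Ideal.Quotient.mk_surjective l (n + 2) w'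
        refine ⟨w, (mem_smul_top_iff (S := R') (M := KObj R' R' l (n + 1)) I _).2 ?_⟩
        refine kmap_eq_zero J ψ (fun _ => rfl) l (n + 1) _ ?_
        rw [map_sub, ← hw', ← kmap_kd, sub_eq_zero]
        rfl
    refine ⟨?_, (Groth.Agent.CI2.isKoszulRegularSeq_iff_ex _).2 hE⟩
    let g₀ : KObj R' R' l 0 →ₗ[A'] R' ⧸ Ideal.span (Set.range f') :=
      (Ideal.Quotient.mkₐ A' _).toLinearMap ∘ₗ (k0 R' R' l).toLinearMap.restrictScalars A'
    have hker : LinearMap.ker g₀ = LinearMap.range (d 0) := by
      ext x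
      rw [hrange]
      exact Ideal.Quotient.eq_zero_iff_mem
    refine Module.Flat.of_linearEquiv (LinearEquiv.symm ((Submodule.quotEquivOfEq _ _ hker.symm).trans (LinearMap.quotKerEquivOfSurjective g₀ ?_)))
    exact (Ideal.Quotient.mk_surjective).comp (k0 R' R' l).surjective
  · have hle : Ideal.span (Set.range f') ≤ J' := Ideal.span_le.2 (Set.range_subset_iff.2 hfJ)
    refine le_antisymm ?_ hle
    let q : (R' ⧸ Ideal.span (Set.range f')) →ₗ[A'] R' ⧸ J' := (Ideal.Quotient.factorₐ A' hle).toLinearMap
    have hq : Function.Injective q := by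
      haveI := hJ'
      refine Groth.Agent.CI2.injective_of_injective_mod_nilpotent hnil q (Ideal.Quotient.factor_surjective hle) ?_
      rw [injective_iff_map_eq_zero]
      intro y hy
      obtain ⟨x, rfl⟩ := Groth.Agent.CI2.exists_one_tmul y
      obtain ⟨z, rfl⟩ := Ideal.Quotient.mk_surjective x
      rw [LinearMap.lTensor_tmul, Groth.Agent.CI2.one_tmul_eq_zero, mem_smul_top_iff (S := R')] at hy
      rw [Groth.Agent.CI2.one_tmul_eq_zero, mem_smul_top_iff (S := R')]
      have key : ∀ K : Ideal R', (J • (⊤ : Submodule R' (R' ⧸ K))) =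
          Submodule.map K.mkQ J := fun K => by
        rw [← Submodule.range_mkQ K, LinearMap.range_eq_map, ← Submodule.map_smul'', smul_eq_mul, Ideal.mul_top]
      rw [key] at hy ⊢
      obtain ⟨a, ha, hab⟩ := hy
      have hz : z ∈ J' ⊔ J := by
        have : a - z ∈ J' := Ideal.Quotient.eq.1 hab
        have h2 : z = a - (a - z) := by abel
        rw [h2]
        exact sub_mem (Ideal.mem_sup_right ha) (Ideal.mem_sup_left this)
      have hz' : Ideal.Quotient.mk J z ∈ Ideal.span (Set.range f) := by
        rw [← hmap]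
        obtain ⟨b, hb, c, hc, rfl⟩ := Submodule.mem_sup.1 hz
        rw [map_add, Ideal.Quotient.eq_zero_iff_mem.2 hc, add_zero]
        exact Ideal.mem_map_of_mem _ hb
      rw [← hspan f' hf', ← Ideal.mem_comap, Ideal.comap_map_of_surjective' _ Ideal.Quotient.mk_surjective,
        Ideal.mk_ker, Submodule.mem_sup] at hz'
      obtain ⟨b, hb, c, hc, rfl⟩ := hz'
      refine ⟨c, hc, ?_⟩
      exact Ideal.Quotient.eq.2 (by rw [sub_add_cancel_right]; exact neg_mem hb)
    intro x hx
    rw [← Ideal.Quotient.eq_zero_iff_mem]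
    refine hq ?_
    rw [map_zero]
    exact Ideal.Quotient.eq_zero_iff_mem.2 hx

end Groth.Agent.S13972
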