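import Groth.Prelude.Def_Coh
import Groth.Prelude.Def_Omega2
import Mathlib.RingTheory.DualNumber
import Mathlib.AlgebraicGeometry.Pullbacks
import Mathlib.CategoryTheory.Limits.Shapes.Pullback.IsPullback.Basic
import Mathlib.AlgebraicGeometry.Noetherian
import Groth.Agent.Lib.InfAut3.Main
-- import your own Groth.Agent.* helpers here

namespace Deform
end Deform

set_option autoImplicit false
universe u
open CategoryTheory CategoryTheory.Limits AlgebraicGeometry
open Deform

namespace Groth.Agent.S13975

/-- Let k be a field and X₀ a locally Noetherian k-scheme, and let X_ε be the trivial first-order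
deformation X₀ ×_k Spec k[ε], presented by a cartesian square with projections q : X_ε → X₀ and p :
X_ε → Spec k[ε], together with the closed immersion i : X₀ → X_ε over ε = 0 which is a section of q.
Then the infinitesimal automorphisms of X₀ — automorphisms of X_ε over Spec k[ε] that restrict to
the identity of X₀ along i — form a group isomorphic to the additive group of derivations
Der_k(O_{X₀}, O_{X₀}) = Hom_{O_{X₀}}(Ω_{X₀/k}, O_{X₀}): there is a bijection taking composition to
addition. -/
theorem result (k : Type u) [Field k]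
    (X₀ : Scheme.{u}) [IsLocallyNoetherian X₀] (x : X₀ ⟶ Spec (CommRingCat.of k))
    (Xε : Scheme.{u}) (q : Xε ⟶ X₀) (p : Xε ⟶ Spec (CommRingCat.of (DualNumber k)))
    (hsq : IsPullback q p x (Spec.map (CommRingCat.ofHom (algebraMap k (DualNumber k)))))
    (i : X₀ ⟶ Xε) (hiq : i ≫ q = 𝟙 X₀)
    (hip : i ≫ p = x ≫ Spec.map (CommRingCat.ofHom (TrivSqZeroExt.fstHom k k k).toRingHom)) :
    ∃ e : {φ : Xε ≅ Xε // φ.hom ≫ p = p ∧ i ≫ φ.hom = i} ≃ (Omega.sheaf x ⟶ Coh.structureModule X₀),
      ∀ φ ψ χ : {φ : Xε ≅ Xε // φ.hom ≫ p = p ∧ i ≫ φ.hom = i},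
        φ.1 ≪≫ ψ.1 = χ.1 → e χ = e φ + e ψ := by
  haveI : QuasiSeparated x := QuasiSeparated.of_comp x (terminal.from _)
  exact Groth.Agent.InfAut3.exists_equiv (x := x) q p hsq i hiq hip

end Groth.Agent.S13975
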