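import Groth.Prelude.Def_ArtFun4
import Groth.Prelude.Def_Coh
import Groth.Prelude.Def_FlatMod2
import Mathlib.Algebra.Homology.DerivedCategory.Ext.Basic
import Mathlib.AlgebraicGeometry.Noetherian
import Groth.Agent.Lib.VecLift3.Qcoh
-- import your own Groth.Agent.* helpers here

set_option autoImplicit false
set_option linter.style.haveILetI false
set_option backward.isDefEq.respectTransparency false
set_option backward.isDefEq.respectTransparency.types false
universe u
open CategoryTheory CategoryTheory.Limits AlgebraicGeometry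
namespace Deform
end Deform
open Deform

namespace Groth.Agent.S13976

/-- Let k be a field, X a locally Noetherian k-scheme and E₀ a quasi-coherent O_X-module with
Ext²_{O_X}(E₀, E₀) = 0 (Ext in the category of O_X-modules). Let C' → C be a surjection of local
Artinian k-algebras with residue field k whose kernel is annihilated by the maximal ideal, X_C = X
×_k Spec C and X_{C'} = X ×_k Spec C' the trivial deformations (cartesian squares with projections
q, q'), g : X_C → X_{C'} the morphism induced by C' → C, and j : X → X_C the inclusion of the closed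
fibre. Then every quasi-coherent O_{X_C}-module E flat over Spec C with j^*E ≅ E₀ lifts: there is a
quasi-coherent O_{X_{C'}}-module E', flat over Spec C', with g^*E' ≅ E. (The published statement
gives an obstruction theory for deformations of E₀ with obstruction space Ext²(E₀, E₀); this row
states the lifting it yields when that space is zero.) -/
theorem result {k : Type u} [Field k]
    (X : Scheme.{u}) [IsLocallyNoetherian X] (x : X ⟶ Spec (CommRingCat.of k)) [HasExt.{u} X.Modules]
    (E₀ : X.Modules) (hE₀ : Coh.IsQCoh E₀) (hExt : Subsingleton (Abelian.Ext.{u} E₀ E₀ 2))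
    {C' C : ArtFun.Art k k} (π : C' ⟶ C) (hπ : ArtFun.Art.IsSemismallExt π)
    (XC : Scheme.{u}) (q : XC ⟶ X) (pC : XC ⟶ ArtFun.Art.spec C)
    (hC : IsPullback q pC x (ArtFun.Art.specMap (ArtFun.Art.ofBase C)))
    (XC' : Scheme.{u}) (q' : XC' ⟶ X) (pC' : XC' ⟶ ArtFun.Art.spec C')
    (hC' : IsPullback q' pC' x (ArtFun.Art.specMap (ArtFun.Art.ofBase C')))
    (g : XC ⟶ XC') (hgq : g ≫ q' = q) (hgp : g ≫ pC' = pC ≫ ArtFun.Art.specMap π)
    (j : X ⟶ XC) (hjq : j ≫ q = 𝟙 X) (hjp : j ≫ pC = x ≫ ArtFun.Art.specRes C)
    (E : XC.Modules) (hE : Coh.IsQCoh E) (hEfl : FlatMod.IsFlatOver pC E)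
    (hE0 : Nonempty ((Scheme.Modules.pullback j).obj E ≅ E₀)) :
    ∃ E' : XC'.Modules, Coh.IsQCoh E' ∧ FlatMod.IsFlatOver pC' E' ∧
      Nonempty ((Scheme.Modules.pullback g).obj E' ≅ E) := by
  obtain ⟨e₀⟩ := hE0
  haveI : Flat x := by
    haveI : Subsingleton (Spec (CommRingCat.of k)) := inferInstanceAs (Subsingleton (PrimeSpectrum k))
    infer_instance
  haveI : Flat pC' := MorphismProperty.of_isPullback hC' ‹Flat x›
  have hg : IsPullback g pC pC' (ArtFun.Art.specMap π) := IsPullback.of_right
    (by rw [hgq, ← ArtFun.Art.specMap_comp, VecLift3.ofBase_comp]; exact hC) hgp hC'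
  have hj : IsPullback j x pC (ArtFun.Art.specRes C) := VecLift3.isPullback_section hC hjq hjp
    (by rw [VecLift3.specRes_ofBase]; infer_instance) (by rw [VecLift3.specRes_ofBase]; exact Category.comp_id x)
  have hj' : IsPullback (j ≫ g) x pC' (ArtFun.Art.specRes C') := VecLift3.isPullback_section hC'
    (by rw [Category.assoc, hgq, hjq])
    (by rw [Category.assoc, hgp, ← Category.assoc, hjp, Category.assoc, ArtFun.Art.specRes_comp])
    (by rw [VecLift3.specRes_ofBase]; infer_instance) (by rw [VecLift3.specRes_ofBase]; exact Category.comp_id x)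
  exact VecLift3.exists_qcoh_flat_lift π hπ hExt hg hj hj' hE hEfl e₀

end Groth.Agent.S13976
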