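import Groth.Prelude.Def_Coh
import Mathlib.RingTheory.DualNumber
import Mathlib.AlgebraicGeometry.Pullbacks
import Mathlib.CategoryTheory.Limits.Shapes.Pullback.IsPullback.Basic
import Mathlib.AlgebraicGeometry.Noetherian
import Mathlib.AlgebraicGeometry.Modules.Sheaf
import Groth.Agent.Lib.InfAutMod3.Inst
-- import your own Groth.Agent.* helpers here

namespace Deform
end Deform

set_option autoImplicit false
universe u
open CategoryTheory CategoryTheory.Limits AlgebraicGeometry
open Deform

namespace Groth.Agent.S13977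

/-- Let k be a field, X₀ a locally Noetherian k-scheme and E₀ a quasi-coherent O_{X₀}-module. Let X_ε =
X₀ ×_k Spec k[ε] be the trivial first-order deformation, presented by a cartesian square with
projections q : X_ε → X₀ and p : X_ε → Spec k[ε], with the closed immersion i : X₀ → X_ε over ε = 0,
a section of q, and let E_ε = q^*E₀ be the trivial lifting of E₀. Then the infinitesimal
automorphisms of E₀ — the O_{X_ε}-linear automorphisms of E_ε whose pullback along i is the identity
— form a group isomorphic to the additive group Hom_{O_{X₀}}(E₀, E₀): there is a bijection taking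
composition to addition. -/
theorem result (k : Type u) [Field k]
    (X₀ : Scheme.{u}) [IsLocallyNoetherian X₀] (x : X₀ ⟶ Spec (CommRingCat.of k))
    (E₀ : X₀.Modules) (hE₀ : Coh.IsQCoh E₀)
    (Xε : Scheme.{u}) (q : Xε ⟶ X₀) (p : Xε ⟶ Spec (CommRingCat.of (DualNumber k)))
    (hsq : IsPullback q p x (Spec.map (CommRingCat.ofHom (algebraMap k (DualNumber k)))))
    (i : X₀ ⟶ Xε) (hiq : i ≫ q = 𝟙 X₀)
    (hip : i ≫ p = x ≫ Spec.map (CommRingCat.ofHom (TrivSqZeroExt.fstHom k k k).toRingHom)) :
    ∃ e : {φ : (Scheme.Modules.pullback q).obj E₀ ≅ (Scheme.Modules.pullback q).obj E₀ //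
            (Scheme.Modules.pullback i).map φ.hom = 𝟙 _} ≃ (E₀ ⟶ E₀),
      ∀ φ ψ χ : {φ : (Scheme.Modules.pullback q).obj E₀ ≅ (Scheme.Modules.pullback q).obj E₀ //
            (Scheme.Modules.pullback i).map φ.hom = 𝟙 _},
        φ.1 ≪≫ ψ.1 = χ.1 → e χ = e φ + e ψ := by
  obtain ⟨e, D, hi0, hie⟩ := Groth.Agent.InfAutMod3.exists_dual (x := x) q p hsq i hip
  haveI : Coh.IsQCoh E₀ := hE₀
  exact Groth.Agent.InfAutMod3.exists_equiv E₀ D i hiq (fun U h => hie _ _ h) hi0

end Groth.Agent.S13977
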