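import Groth.Statements.S13978
import Groth.Agent.Lib.ArtFun.Basic
import Mathlib.LinearAlgebra.TensorProduct.Basis

set_option autoImplicit false
universe u v
open CategoryTheory
open scoped TensorProduct
open ArtFun ArtFun.ObsTheory

namespace Groth.Agent.S13978

open ArtFun ArtFun.Art Groth.Agent.ArtFunLib in
/-- A nonzero functional on the kernel of a semismall extension is read off a small extension. -/
theorem coord_mem {k : Type u} [Field k]
    {F : ArtFun.Art k k ⥤ Type v} {V : Type u} [AddCommGroup V] [Module k V]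
    (T : ArtFun.ObsTheory F V) {C' C : ArtFun.Art k k} (p : C' ⟶ C) (hp : ArtFun.Art.IsSemismallExt p)
    (u : F.obj C) (lam : ↥(RingHom.ker p.toAlgHom) →ₗ[k] k) (hlam : Function.Surjective lam) :
    ∃ (B' B : ArtFun.Art k k) (t : B' ⟶ B) (ht : ArtFun.Art.IsSmallExt t)
      (w : F.obj B) (φ : ↥(RingHom.ker t.toAlgHom) ≃ₗ[k] k),
      TensorProduct.rid k V (LinearMap.lTensor V lam (T.obs p hp u)) =
        TensorProduct.rid k V (LinearMap.lTensor V φ.toLinearMap (T.obs t ht.isSemismallExt w)) := by
  have key : ∀ (c : C') (j : ↥(RingHom.ker p.toAlgHom)), c * (j : C') = C'.res c • (j : C') := by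
    intro c j
    have hc : c - algebraMap k C' (C'.res c) ∈ IsLocalRing.maximalIdeal C' := by
      rw [mem_maximalIdeal_iff, map_sub, AlgHom.commutes]
      exact sub_self _
    have h := Ideal.mul_mem_mul hc j.2
    rw [hp.2, Ideal.mem_bot, sub_mul, sub_eq_zero] at h
    rw [h, Algebra.smul_def]
  let K : Ideal C' :=
    { carrier := {a | ∃ h : a ∈ RingHom.ker p.toAlgHom, lam ⟨a, h⟩ = 0}
      add_mem' := fun {a b} ⟨ha, ha'⟩ ⟨hb, hb'⟩ => ⟨add_mem ha hb,
        (map_add lam ⟨a, ha⟩ ⟨b, hb⟩).trans (by rw [ha', hb', add_zero])⟩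
      zero_mem' := ⟨zero_mem _, map_zero lam⟩
      smul_mem' := fun c a ⟨ha, ha'⟩ => ⟨Ideal.mul_mem_left _ c ha, by
        rw [show (⟨c • a, Ideal.mul_mem_left _ c ha⟩ : ↥(RingHom.ker p.toAlgHom)) = C'.res c • ⟨a, ha⟩ from
          Subtype.ext (key c ⟨a, ha⟩), map_smul, ha', smul_zero]⟩ }
  have hKJ : K ≤ RingHom.ker p.toAlgHom := fun a ha => ha.1
  have hKm : K ≤ IsLocalRing.maximalIdeal C' := hKJ.trans (ker_le p)
  let g : ↥(RingHom.ker p.toAlgHom) →ₗ[k] ↥(RingHom.ker (quotFactor hKm p hKJ).toAlgHom) :=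
    (kerToQuot hKm p hKJ).restrictScalars k
  have hg : Function.Surjective g := by
    rintro ⟨y, hy⟩
    rw [ker_quotFactor] at hy
    obtain ⟨a, ha, rfl⟩ := (Ideal.mem_map_iff_of_surjective _ Ideal.Quotient.mk_surjective).1 hy
    exact ⟨⟨a, ha⟩, rfl⟩
  have hker : LinearMap.ker g = LinearMap.ker lam := by
    ext j
    rw [LinearMap.mem_ker, LinearMap.mem_ker, Subtype.ext_iff]
    change Ideal.Quotient.mk K (j : C') = 0 ↔ _
    rw [Ideal.Quotient.eq_zero_iff_mem]
    exact ⟨fun h => h.2, fun h => ⟨j.2, h⟩⟩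
  let φ : ↥(RingHom.ker (quotFactor hKm p hKJ).toAlgHom) ≃ₗ[k] k :=
    (g.quotKerEquivOfSurjective hg).symm.trans
      ((Submodule.quotEquivOfEq _ _ hker).trans (lam.quotKerEquivOfSurjective hlam))
  have hφ : ∀ j, φ (g j) = lam j := by
    intro j
    have : (g.quotKerEquivOfSurjective hg).symm (g j) = Submodule.Quotient.mk j :=
      (LinearEquiv.symm_apply_eq _).2 rfl
    change (lam.quotKerEquivOfSurjective hlam) (Submodule.quotEquivOfEq _ _ hker
      ((g.quotKerEquivOfSurjective hg).symm (g j))) = lam j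
    rw [this]
    rfl
  obtain ⟨j₀, hj₀⟩ := hlam 1
  have hne : g j₀ ≠ 0 := fun h => one_ne_zero (α := k) (by rw [← hj₀, ← hφ, h, map_zero])
  have hsemi : IsSemismallExt (quotFactor hKm p hKJ) := by
    refine ⟨quotFactor_surjective _ _ _ hp.1, eq_bot_iff.2 (Ideal.mul_le.2 fun r hr s hs => ?_)⟩
    obtain ⟨r', rfl⟩ := quotMk_surjective C' K hKm r
    obtain ⟨s', hs'⟩ := hg ⟨s, hs⟩
    have h := Ideal.mul_mem_mul (mem_of_map_mem (quotMk C' K hKm) hr) s'.2
    rw [hp.2, Ideal.mem_bot] at h
    obtain rfl : (g s').1 = s := congrArg Subtype.val hs'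
    rw [Ideal.mem_bot]
    exact (map_mul (Ideal.Quotient.mk K) r' (s' : C')).symm.trans (by rw [h, map_zero]; rfl)
  have ht : IsSmallExt (quotFactor hKm p hKJ) := by
    refine ⟨hsemi.1, fun h => ?_, ⟨(g j₀ : quot C' K hKm), le_antisymm (fun y hy => ?_)
      ((Submodule.span_singleton_le_iff_mem _ _).2 (g j₀).2)⟩, hsemi.2⟩
    · exact hne (Subtype.ext (Ideal.mem_bot.1 (h.le (g j₀).2)))
    · have e : (⟨y, hy⟩ : ↥(RingHom.ker (quotFactor hKm p hKJ).toAlgHom)) = φ ⟨y, hy⟩ • g j₀ := by
        apply φ.injective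
        rw [map_smul, hφ, hj₀, smul_eq_mul, mul_one]
      have e' := congrArg Subtype.val e
      exact Submodule.mem_span_singleton.2 ⟨algebraMap k _ (φ ⟨y, hy⟩), (Algebra.smul_def _ _).symm.trans e'.symm⟩
  refine ⟨_, _, _, ht, u, φ, ?_⟩
  rw [T.obs_quot p hp K hKm hKJ ht.isSemismallExt u, ← LinearMap.lTensor_comp_apply]
  change _ = TensorProduct.rid k V (LinearMap.lTensor V (φ.toLinearMap ∘ₗ g) (T.obs p hp u))
  rw [show φ.toLinearMap ∘ₗ g = lam from LinearMap.ext hφ]



/-- For obstruction theories of functors in the vector-space form, let k be a field, F a functor on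
Artinian local k-algebras with residue field k and (V, ω) an obstruction theory for F — for each
surjection p : C' → C whose kernel J is killed by the maximal ideal and each u ∈ F(C) an obstruction
ω(p, u) ∈ V ⊗_k J, zero exactly when u lifts, and compatible with replacing C' → C by C'/K → C for
ideals K ≤ J. Let Ω ⊆ V be the subspace spanned by the obstructions along tiny extensions (those p
whose kernel is one-dimensional), transported into V by the isomorphisms V ⊗ J ≅ V coming from
linear isomorphisms J ≅ k. Then for every p and u the obstruction ω(p, u) lies in the image of Ω ⊗_k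
J → V ⊗_k J. (The published statement is for deformation categories and obstruction theories
functorial along all morphisms of extensions; this row assumes functoriality along quotients C'/K
only, which is all its proof uses, and no condition on F.) -/
theorem result {k : Type u} [Field k]
    {F : ArtFun.Art k k ⥤ Type v} {V : Type u} [AddCommGroup V] [Module k V]
    (T : ArtFun.ObsTheory F V) {C' C : ArtFun.Art k k} (p : C' ⟶ C) (hp : ArtFun.Art.IsSemismallExt p)
    (u : F.obj C) :
    T.obs p hp u ∈ LinearMap.range (LinearMap.rTensor (↥(RingHom.ker p.toAlgHom))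
      (Submodule.span k {v : V | ∃ (B' B : ArtFun.Art k k) (t : B' ⟶ B) (ht : ArtFun.Art.IsSmallExt t)
          (w : F.obj B) (φ : ↥(RingHom.ker t.toAlgHom) ≃ₗ[k] k),
          v = TensorProduct.rid k V (LinearMap.lTensor V φ.toLinearMap (T.obs t ht.isSemismallExt w))}).subtype) := by
  classical
  let S : Submodule k V := Submodule.span k {v : V | ∃ (B' B : ArtFun.Art k k) (t : B' ⟶ B) (ht : ArtFun.Art.IsSmallExt t)
          (w : F.obj B) (φ : ↥(RingHom.ker t.toAlgHom) ≃ₗ[k] k),
          v = TensorProduct.rid k V (LinearMap.lTensor V φ.toLinearMap (T.obs t ht.isSemismallExt w))}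
  let b := Module.Basis.ofVectorSpace k ↥(RingHom.ker p.toAlgHom)
  let x := T.obs p hp u
  have hc : ∀ i, TensorProduct.equivFinsuppOfBasisRight b x i =
      TensorProduct.rid k V (LinearMap.lTensor V (b.coord i) x) := by
    intro i
    induction x using TensorProduct.induction_on with
    | zero => simp
    | tmul v j => simp
    | add z z' hz hz' => simp [map_add, hz, hz']
  have hmem : ∀ i, TensorProduct.equivFinsuppOfBasisRight b x i ∈ S := by
    intro i
    refine Submodule.subset_span ?_
    obtain ⟨B', B, t, ht, w, φ, h⟩ := coord_mem T p hp u (b.coord i) fun c => ⟨c • b i, by simp⟩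
    exact ⟨B', B, t, ht, w, φ, (hc i).trans h⟩
  have hx : x = (TensorProduct.equivFinsuppOfBasisRight b).symm (TensorProduct.equivFinsuppOfBasisRight b x) :=
    (LinearEquiv.symm_apply_apply _ _).symm
  rw [TensorProduct.equivFinsuppOfBasisRight_symm_apply] at hx
  refine ⟨(TensorProduct.equivFinsuppOfBasisRight b x).sum fun i v => if h : v ∈ S then (⟨v, h⟩ : S) ⊗ₜ[k] b i else 0, ?_⟩
  conv_rhs => rw [show T.obs p hp u = x from rfl, hx]
  simp only [Finsupp.sum, map_sum]
  refine Finset.sum_congr rfl fun i _ => ?_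
  rw [dif_pos (hmem i)]
  exact LinearMap.rTensor_tmul _ _ _ _

end Groth.Agent.S13978
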