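import Groth.Statements.S1398
import Groth.Agent.Lib.IndQA12.Calculus


set_option autoImplicit false
universe u
open FlatMor

namespace Groth.Agent.S1398

open AlgebraicGeometry CategoryTheory Limits in
/-- An immersion is ind-quasi-affine, and so is any quasi-affine morphism. -/
theorem result {X Y : Scheme.{u}} (f : X ⟶ Y) :
    (IsImmersion f → MoreMor.IsIndQuasiAffineHom f) ∧ (MoreMor.IsQuasiAffineHom f → MoreMor.IsIndQuasiAffineHom f) := ⟨fun _ => IndQA12.of_isImmersion f, IndQA12.of_isQuasiAffineHom⟩

end Groth.Agent.S1398
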