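import Groth.Statements.S13982
import Groth.Agent.Lib.NodalCrit14.GenericPt
import Groth.Agent.Lib.NodalCrit14.Locus
import Groth.Agent.Lib.NodalCrit14.Sub
import Groth.Agent.Lib.CurvOpen16.Loci
import Groth.Agent.Lib.SmoothCpl5.Main
import Groth.Agent.Lib.CanElt.Killer
import Groth.Agent.S2164
import Groth.Agent.S2768
import Groth.Agent.Lib.LimH13.ArrowModel
import Groth.Agent.Lib.FitSmooth14.Field

set_option autoImplicit false
universe u
open CategoryTheory CategoryTheory.Limits AlgebraicGeometry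
open Curves

namespace Groth.Agent.S13982

open CategoryTheory CategoryTheory.Limits AlgebraicGeometry IsLocalRing
open scoped TensorProduct

set_option linter.style.haveILetI false
set_option backward.isDefEq.respectTransparency.types false

theorem finrank_le_one_of_det {K M : Type*} [Field K] [AddCommGroup M] [Module K M] (s : Set M)
    (hs : Submodule.span K s = ⊤)
    (hdet : ∀ φ ψ : M →ₗ[K] K, ∀ v ∈ s, ∀ w ∈ s, φ v * ψ w = φ w * ψ v) : Module.finrank K M ≤ 1 := by
  by_cases h : ∀ v ∈ s, v = (0 : M)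
  · refine finrank_le_one 0 fun m => ⟨0, ?_⟩
    have hm : m ∈ Submodule.span K s := hs ▸ Submodule.mem_top
    have : Submodule.span K s ≤ ⊥ := Submodule.span_le.2 fun v hv => (Submodule.mem_bot K).2 (h v hv)
    rw [zero_smul, (Submodule.mem_bot K).1 (this hm)]
  push Not at h
  obtain ⟨v, hv, hv0⟩ := h
  obtain ⟨f, hf⟩ : ∃ f : M →ₗ[K] K, f v ≠ 0 := by
    by_contra hh
    push Not at hh
    exact hv0 ((Module.forall_dual_apply_eq_zero_iff K v).1 hh)
  refine finrank_le_one v fun m => ?_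
  have hle : Submodule.span K s ≤ Submodule.span K {v} := by
    refine Submodule.span_le.2 fun w hw => ?_
    have hz : f v • w - f w • v = 0 := (Module.forall_dual_apply_eq_zero_iff K _).1 fun ψ => by
      simp only [map_sub, map_smul, smul_eq_mul, hdet f ψ v hv w hw, sub_self]
    rw [SetLike.mem_coe, Submodule.mem_span_singleton]
    exact ⟨(f v)⁻¹ * f w, by rw [mul_smul, ← sub_eq_zero.1 hz, inv_smul_smul₀ hf]⟩
  exact Submodule.mem_span_singleton.1 (hle (hs ▸ Submodule.mem_top))

theorem exists_deriv {T R K : Type*} [CommRing T] [CommRing R] [Field K] [Algebra T R] (P : Ideal T) [P.IsPrime]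
    [IsLocalization.AtPrime R P] (θ : T →+* K) (ρ : R →+* K) (hρ : ∀ t, ρ (algebraMap T R t) = θ t)
    (hunit : ∀ y : P.primeCompl, IsUnit (θ y)) (d : T → K) (dmul : ∀ a b, d (a * b) = θ a * d b + θ b * d a)
    (dadd : ∀ a b, d (a + b) = d a + d b) (d1 : d 1 = 0) (d0 : d 0 = 0) (hd : ∀ x, d x ∈ ρ.range) :
    ∃ δ : R →+ ρ.range, (∀ x y, δ (x * y) = ρ.rangeRestrict x * δ y + ρ.rangeRestrict y * δ x) ∧
      ∀ x, (δ (algebraMap T R x) : K) = d x := by
  let g : T →+* TrivSqZeroExt K K :=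
    { toFun := fun x => TrivSqZeroExt.inl (θ x) + TrivSqZeroExt.inr (d x)
      map_one' := by ext <;> simp [d1]
      map_zero' := by ext <;> simp [d0]
      map_add' := fun x y => by ext <;> simp [dadd]
      map_mul' := fun x y => by
        refine TrivSqZeroExt.ext (by simp) ?_
        simp [dmul, mul_comm (d x)] }
  have hg : ∀ y : P.primeCompl, IsUnit (g y) := fun y => by
    rw [TrivSqZeroExt.isUnit_iff_isUnit_fst]
    simpa [g] using hunit y
  let G : R →+* TrivSqZeroExt K K := IsLocalization.lift (M := P.primeCompl) (g := g) hg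
  have hG : ∀ x, G (algebraMap T R x) = g x := fun x => IsLocalization.lift_eq _ x
  have hfst : ∀ r, (G r).fst = ρ r := by
    refine fun r => RingHom.congr_fun (IsLocalization.ringHom_ext P.primeCompl
      (j := (TrivSqZeroExt.fstHom K K K).toRingHom.comp G) (k := ρ) (RingHom.ext fun x => ?_)) r
    show (G (algebraMap T R x)).fst = ρ (algebraMap T R x)
    rw [hG, hρ]; simp [g]
  have hsnd : ∀ r, (G r).snd ∈ ρ.range := by
    intro r
    obtain ⟨⟨a, y⟩, h⟩ := IsLocalization.surj P.primeCompl r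
    have h' := congrArg (fun z => (G z).snd) h
    obtain ⟨v, hv⟩ := (IsLocalization.map_units R y)
    have hρv : ρ (v⁻¹ : Rˣ) * θ y = 1 := by rw [← hρ, ← hv, ← map_mul, Units.inv_mul, map_one]
    have e1 : (g a).snd = d a := by simp [g]
    have e2 : (g y).snd = d y := by simp [g]
    have e3 : (g y).fst = θ y := by simp [g]
    simp only [map_mul, hG, TrivSqZeroExt.snd_mul, e1, e2, e3, smul_eq_mul, MulOpposite.smul_eq_mul_unop,
      MulOpposite.unop_op] at h'
    have hy : (G r).snd = ρ (v⁻¹ : Rˣ) * (d a - (G r).fst * d y) := by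
      linear_combination ρ (v⁻¹ : Rˣ) * h' - (G r).snd * hρv
    rw [hy, hfst]
    exact mul_mem ⟨_, rfl⟩ (sub_mem (hd a) (mul_mem ⟨r, rfl⟩ (hd y)))
  let δ : R →+ ρ.range :=
    { toFun := fun r => ⟨(G r).snd, hsnd r⟩
      map_zero' := Subtype.ext (by simp)
      map_add' := fun r r' => Subtype.ext (by simp) }
  refine ⟨δ, fun x y => Subtype.ext ?_, fun x => ?_⟩
  · show (G (x * y)).snd = ρ x * (G y).snd + ρ y * (G x).snd
    rw [map_mul, TrivSqZeroExt.snd_mul, ← hfst, ← hfst]
    simp only [smul_eq_mul, MulOpposite.smul_eq_mul_unop, MulOpposite.unop_op]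
    ring
  · show (G (algebraMap T R x)).snd = d x
    rw [hG]
    simp [g]

/-- The differentials have rank at most one at a prime below a formal node, outside `c = 0`. -/
theorem finrank_kaehler_le_one {Λ A T R : Type u} [CommRing Λ] [IsLocalRing Λ] [CommRing A] [CommRing T]
    [CommRing R] [IsLocalRing R] [IsNoetherianRing R] [Algebra A T] [Algebra.FiniteType A T] [Algebra T R]
    (P : Ideal T) [P.IsPrime] [IsLocalization.AtPrime R P] (q : Ideal T) [q.IsPrime] (hqP : q ≤ P)
    (ι : Λ →+* R) (σ : Λ →+* A) (hι : ∀ a, ι a = algebraMap T R (algebraMap A T (σ a))) (c : Λ)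
    (e : AdicCompletion (maximalIdeal R) R ≃+* (MvPowerSeries (Fin 2) Λ ⧸
      Ideal.span {MvPowerSeries.X 0 * MvPowerSeries.X 1 - MvPowerSeries.C c}))
    (he : ∀ a, e (algebraMap R _ (ι a)) = Ideal.Quotient.mk _ (MvPowerSeries.C a))
    (hc : algebraMap A T (σ c) ∉ q) :
    Module.finrank q.ResidueField (q.ResidueField ⊗[T] Ω[T⁄A]) ≤ 1 := by
  classical
  let K := q.ResidueField
  let θ : T →+* K := algebraMap T K
  have hunit : ∀ y : P.primeCompl, IsUnit (θ y) := fun y => by
    rw [isUnit_iff_ne_zero, Ne, Ideal.algebraMap_residueField_eq_zero]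
    exact fun h => y.2 (hqP h)
  let ρ : R →+* K := IsLocalization.lift (M := P.primeCompl) (g := θ) hunit
  have hρ : ∀ t, ρ (algebraMap T R t) = θ t := fun t => IsLocalization.lift_eq _ t
  let D := ρ.range
  let π : R →+* D := ρ.rangeRestrict
  have hπ : Function.Surjective π := ρ.rangeRestrict_surjective
  haveI : IsNoetherianRing D := isNoetherianRing_of_surjective R D π hπ
  haveI : IsLocalRing D := IsLocalRing.of_surjective' π hπ
  have frac : ∀ k : K, ∃ b : T, θ b ≠ 0 ∧ θ b * k ∈ D := by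
    intro k
    obtain ⟨⟨a, b⟩, h⟩ := IsLocalization.surj (nonZeroDivisors (T ⧸ q)) k
    obtain ⟨a, rfl⟩ := Ideal.Quotient.mk_surjective a
    obtain ⟨⟨b, hb⟩, rfl⟩ : ∃ b' : { b' : T // Ideal.Quotient.mk q b' ∈ nonZeroDivisors (T ⧸ q) },
        (⟨Ideal.Quotient.mk q b'.1, b'.2⟩ : nonZeroDivisors (T ⧸ q)) = b := by
      obtain ⟨b0, hb0⟩ := Ideal.Quotient.mk_surjective b.1
      exact ⟨⟨b0, hb0 ▸ b.2⟩, Subtype.ext hb0⟩
    refine ⟨b, fun h0 => nonZeroDivisors.ne_zero hb
      (Ideal.Quotient.eq_zero_iff_mem.2 (Ideal.algebraMap_residueField_eq_zero.1 h0)), ?_⟩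
    refine ⟨algebraMap T R a, ?_⟩
    rw [hρ, mul_comm]
    simp only [θ, IsScalarTower.algebraMap_apply T (T ⧸ q) K] at h ⊢
    exact h.symm
  obtain ⟨S, hS⟩ := ‹Algebra.FiniteType A T›.out
  let W := q.ResidueField ⊗[T] Ω[T⁄A]
  have hspan : Submodule.span K (Set.range fun t : T => ((1 : K) ⊗ₜ[T] KaehlerDifferential.D A T t : W)) = ⊤ := by
    refine eq_top_iff.2 fun z _ => ?_
    induction z using TensorProduct.induction_on with
    | zero => exact zero_mem _
    | add a b ha hb => exact add_mem (ha trivial) (hb trivial)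
    | tmul k ω =>
      have h1' : Submodule.span T (Set.range (KaehlerDifferential.D A T)) ≤
          Submodule.comap (TensorProduct.mk T q.ResidueField Ω[T⁄A] (1 : K))
            ((Submodule.span K (Set.range fun t : T => ((1 : K) ⊗ₜ[T] KaehlerDifferential.D A T t : W))).restrictScalars T) :=
        Submodule.span_le.2 (by rintro _ ⟨t, rfl⟩; exact Submodule.subset_span ⟨t, rfl⟩)
      have h1 : ((1 : K) ⊗ₜ[T] ω : W) ∈
          Submodule.span K (Set.range fun t : T => ((1 : K) ⊗ₜ[T] KaehlerDifferential.D A T t : W)) :=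
        h1' (by rw [KaehlerDifferential.span_range_derivation]; trivial)
      have h2 : (k ⊗ₜ[T] ω : W) = k • ((1 : K) ⊗ₜ[T] ω) := by rw [TensorProduct.smul_tmul', smul_eq_mul, mul_one]
      rw [h2]
      exact Submodule.smul_mem _ _ h1
  refine finrank_le_one_of_det _ hspan ?_
  rintro φ ψ _ ⟨t, rfl⟩ _ ⟨s, rfl⟩
  let d : (W →ₗ[K] K) → T → K := fun χ x => χ ((1 : K) ⊗ₜ[T] KaehlerDifferential.D A T x)
  have dmul : ∀ χ a b, d χ (a * b) = θ a * d χ b + θ b * d χ a := fun χ a b => by
    simp only [d, Derivation.leibniz, TensorProduct.tmul_add, TensorProduct.tmul_smul, map_add]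
    rw [← IsScalarTower.algebraMap_smul K a, ← IsScalarTower.algebraMap_smul K b, map_smul, map_smul]
    rfl
  have dA : ∀ χ x, d χ (algebraMap A T x) = 0 := fun χ x => by
    simp only [d, Derivation.map_algebraMap, TensorProduct.tmul_zero, map_zero]
  have dadd : ∀ χ a b, d χ (a + b) = d χ a + d χ b := fun χ a b => by
    simp only [d, map_add, TensorProduct.tmul_add]
  have d1 : ∀ χ, d χ 1 = 0 := fun χ => by rw [← map_one (algebraMap A T)]; exact dA χ 1
  have d0 : ∀ χ, d χ 0 = 0 := fun χ => by rw [← map_zero (algebraMap A T)]; exact dA χ 0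
  -- a common denominator
  choose den hden hdenmem using frac
  let b : T := (∏ x ∈ S, den (d φ x)) * ∏ x ∈ S, den (d ψ x)
  have hb : θ b ≠ 0 := by
    simp only [b, map_mul, map_prod]
    exact mul_ne_zero (Finset.prod_ne_zero_iff.2 fun x _ => hden _) (Finset.prod_ne_zero_iff.2 fun x _ => hden _)
  have θD : ∀ x, θ x ∈ D := fun x => ⟨algebraMap T R x, hρ x⟩
  have hmem : ∀ χ : W →ₗ[K] K, (∀ x ∈ S, θ b * d χ x ∈ D) → ∀ x : T, θ b * d χ x ∈ D := by
    intro χ hχ x
    have hx : x ∈ Algebra.adjoin A (S : Set T) := hS ▸ Algebra.mem_top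
    induction hx using Algebra.adjoin_induction with
    | mem y hy => exact hχ y hy
    | algebraMap r => rw [dA, mul_zero]; exact zero_mem _
    | add y z _ _ hy hz => rw [dadd, mul_add]; exact add_mem hy hz
    | mul y z _ _ hy hz =>
      rw [dmul, mul_add, mul_left_comm, mul_left_comm (θ b)]
      exact add_mem (mul_mem (θD y) hz) (mul_mem (θD z) hy)
  have hφS : ∀ x ∈ S, θ b * d φ x ∈ D := fun x hx => by
    have : θ b * d φ x = (θ (∏ y ∈ S.erase x, den (d φ y)) * θ (∏ y ∈ S, den (d ψ y))) *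
        (θ (den (d φ x)) * d φ x) := by
      simp only [b, ← Finset.mul_prod_erase S (fun y => den (d φ y)) hx, map_mul]; ring
    rw [this]
    exact mul_mem (mul_mem (θD _) (θD _)) (hdenmem _)
  have hψS : ∀ x ∈ S, θ b * d ψ x ∈ D := fun x hx => by
    have : θ b * d ψ x = (θ (∏ y ∈ S, den (d φ y)) * θ (∏ y ∈ S.erase x, den (d ψ y))) *
        (θ (den (d ψ x)) * d ψ x) := by
      simp only [b, ← Finset.mul_prod_erase S (fun y => den (d ψ y)) hx, map_mul]; ring
    rw [this]
    exact mul_mem (mul_mem (θD _) (θD _)) (hdenmem _)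
  have mk : ∀ χ : W →ₗ[K] K, (∀ x, θ b * d χ x ∈ D) → ∃ δ : R →+ D,
      (∀ x y, δ (x * y) = π x * δ y + π y * δ x) ∧ (∀ x, δ (ι x) = 0) ∧
      ∀ x, (δ (algebraMap T R x) : K) = θ b * d χ x := by
    intro χ hχ
    obtain ⟨δ, h1, h2⟩ := exists_deriv P θ ρ hρ hunit (fun x => θ b * d χ x)
      (fun x y => by simp only [dmul]; ring) (fun x y => by simp only [dadd, mul_add])
      (by simp only [d1, mul_zero]) (by simp only [d0, mul_zero]) hχ
    exact ⟨δ, h1, fun x => Subtype.ext (by rw [hι, h2, dA, mul_zero]; rfl), h2⟩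
  obtain ⟨δ₁, a1, b1, c1⟩ := mk φ (hmem φ hφS)
  obtain ⟨δ₂, a2, b2, c2⟩ := mk ψ (hmem ψ hψS)
  have hπc : π (ι c) ≠ 0 := fun h0 => hc (by
    have : ρ (ι c) = 0 := congrArg Subtype.val h0
    rw [hι, hρ] at this
    exact Ideal.algebraMap_residueField_eq_zero.1 this)
  have h := congrArg Subtype.val (NodalCrit14.deriv_det_eq_zero ι c e π he hπ hπc δ₁ δ₂ a1 a2 b1 b2
    (algebraMap T R t) (algebraMap T R s))
  simp only [Subring.coe_mul, c1, c2] at h
  show d φ t * d ψ s = d φ s * d ψ t
  refine mul_left_cancel₀ (mul_ne_zero hb hb) ?_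
  linear_combination h

theorem toStalk_map {Λ : Type u} [CommRing Λ] [IsLocalRing Λ] {y : Spec (CommRingCat.of Λ)} (hy : y = closedPoint Λ) :
    Ideal.map (((Spec (CommRingCat.of Λ)).presheaf.germ ⊤ y trivial).hom.comp
      (Scheme.ΓSpecIso (CommRingCat.of Λ)).inv.hom) (maximalIdeal Λ) =
      maximalIdeal ((Spec (CommRingCat.of Λ)).presheaf.stalk y) := by
  subst hy
  refine IsLocalRing.map_maximalIdeal_of_surjective _ fun z => ⟨(stalkClosedPointIso (CommRingCat.of Λ)).hom z, ?_⟩
  have h : (Scheme.ΓSpecIso (CommRingCat.of Λ)).inv ≫ (Spec (CommRingCat.of Λ)).presheaf.germ ⊤ (closedPoint Λ) trivial =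
      (stalkClosedPointIso (CommRingCat.of Λ)).inv := (stalkClosedPointIso_inv (CommRingCat.of Λ)).symm
  exact (congrArg (fun m : CommRingCat.of Λ ⟶ _ => m ((stalkClosedPointIso (CommRingCat.of Λ)).hom z)) h).trans
    ((stalkClosedPointIso (CommRingCat.of Λ)).hom_inv_id_apply z)

theorem node_model (Λ : Type u) [CommRing Λ] [IsLocalRing Λ] [IsNoetherianRing Λ] {u : Λ} (hu : u ∈ maximalIdeal Λ) :
    Nonempty ((MvPowerSeries (Fin 2) Λ ⧸ ((maximalIdeal Λ).map (MvPowerSeries.C : Λ →+* MvPowerSeries (Fin 2) Λ) ⊔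
        Ideal.span {MvPowerSeries.X 0 * MvPowerSeries.X 1 - MvPowerSeries.C u})) ≃+*
      (MvPowerSeries (Fin 2) (ResidueField Λ) ⧸
        Ideal.span {(MvPowerSeries.X 0 * MvPowerSeries.X 1 : MvPowerSeries (Fin 2) (ResidueField Λ))})) := by
  let μ := MvPowerSeries.map (σ := Fin 2) (residue Λ)
  let χ := (Ideal.Quotient.mk (Ideal.span
    {(MvPowerSeries.X 0 * MvPowerSeries.X 1 : MvPowerSeries (Fin 2) (ResidueField Λ))})).comp μ
  have hμ : Function.Surjective μ := SmoothCpl5.surjective_map_coeff (residue Λ) residue_surjective 2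
  have hχ : Function.Surjective χ := Ideal.Quotient.mk_surjective.comp hμ
  refine ⟨(Ideal.quotEquivOfEq ?_).trans (RingHom.quotientKerEquivOfSurjective hχ)⟩
  have hk : RingHom.ker χ = Ideal.comap μ (Ideal.map μ (Ideal.span
      {MvPowerSeries.X 0 * MvPowerSeries.X 1 - MvPowerSeries.C u})) := by
    have hXY : Ideal.map μ (Ideal.span {MvPowerSeries.X 0 * MvPowerSeries.X 1 - MvPowerSeries.C u}) =
        Ideal.span {(MvPowerSeries.X 0 * MvPowerSeries.X 1 : MvPowerSeries (Fin 2) (ResidueField Λ))} := by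
      rw [Ideal.map_span, Set.image_singleton]
      simp [μ, MvPowerSeries.map_X, MvPowerSeries.map_C, (residue_eq_zero_iff u).2 hu]
    rw [hXY, ← RingHom.comap_ker, Ideal.mk_ker]
  rw [hk, Ideal.comap_map_of_surjective μ hμ, ← RingHom.ker_eq_comap_bot, SmoothCpl5.ker_map_residue, sup_comm]

theorem node_fibre {Λ R : Type u} [CommRing Λ] [IsLocalRing Λ] [IsNoetherianRing Λ] [CommRing R] [IsLocalRing R]
    [IsNoetherianRing R] (ι : Λ →+* R) {u : Λ} (hu : u ∈ maximalIdeal Λ)
    (e : AdicCompletion (maximalIdeal R) R ≃+* (MvPowerSeries (Fin 2) Λ ⧸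
      Ideal.span {MvPowerSeries.X 0 * MvPowerSeries.X 1 - MvPowerSeries.C u}))
    (he : ∀ a, e (algebraMap R _ (ι a)) = Ideal.Quotient.mk _ (MvPowerSeries.C a))
    {F : Type u} [CommRing F] [IsLocalRing F] [IsNoetherianRing F]
    (eF : (R ⧸ (maximalIdeal Λ).map ι) ≃+* F) :
    Pi1.IsCompleteIntersection F ∧ ringKrullDim F = 1 := by
  let I := (maximalIdeal Λ).map ι
  haveI : IsLocalRing (R ⧸ I) := eF.symm.isLocalRing
  suffices H : Pi1.IsCompleteIntersection (R ⧸ I) ∧ ringKrullDim (R ⧸ I) = 1 by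
    haveI : IsNoetherianRing (R ⧸ I) := inferInstance
    exact ⟨S2169.isCI_congr eF.symm H.1, (ringKrullDim_eq_of_ringEquiv eF).symm.trans H.2⟩
  let Cp := AdicCompletion (maximalIdeal R) R
  haveI : IsNoetherianRing Cp := Compl.isNoetherianRing_maximalIdeal_adicCompletion R
  haveI : Module.FaithfullyFlat R Cp := CplLocH7.faithfullyFlat_cpl (A := R)
  let Q := Cp ⧸ I.map (algebraMap R Cp)
  let PS := MvPowerSeries (Fin 2) Λ
  let J0 : Ideal PS := Ideal.span {MvPowerSeries.X 0 * MvPowerSeries.X 1 - MvPowerSeries.C u}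
  have hI : I.map (algebraMap R Cp) =
      Ideal.map (e.symm : (PS ⧸ J0) →+* Cp) (((maximalIdeal Λ).map (MvPowerSeries.C : Λ →+* PS)).map (Ideal.Quotient.mk J0)) := by
    rw [Ideal.map_map, Ideal.map_map, Ideal.map_map]
    refine congrArg (fun m : Λ →+* Cp => Ideal.map m (maximalIdeal Λ)) (RingHom.ext fun a => ?_)
    show algebraMap R Cp (ι a) = e.symm (Ideal.Quotient.mk J0 (MvPowerSeries.C a))
    rw [← he, RingEquiv.symm_apply_apply]
  obtain ⟨M⟩ := node_model Λ hu
  let E : Q ≃+* (MvPowerSeries (Fin 2) (ResidueField Λ) ⧸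
      Ideal.span {(MvPowerSeries.X 0 * MvPowerSeries.X 1 : MvPowerSeries (Fin 2) (ResidueField Λ))}) :=
    ((Ideal.quotientEquiv _ _ e.symm hI).symm.trans (DoubleQuot.quotQuotEquivQuotSup J0 _)).trans
      ((Ideal.quotEquivOfEq (sup_comm _ _)).trans M)
  haveI := ArtFunLib.isRegularLocalRing_mvPowerSeries (ResidueField Λ) 2
  let PK := MvPowerSeries (Fin 2) (ResidueField Λ)
  let g : PK := MvPowerSeries.X 0 * MvPowerSeries.X 1
  have hg : g ∈ maximalIdeal PK := by
    rw [IsLocalRing.mem_maximalIdeal, mem_nonunits_iff, MvPowerSeries.isUnit_iff_constantCoeff]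
    simp [g]
  have hg0 : g ≠ 0 := mul_ne_zero (NodeRed19.prime_X 0 _).ne_zero (NodeRed19.prime_X 1 _).ne_zero
  have hle : Ideal.span {g} ≤ maximalIdeal PK := (Ideal.span_singleton_le_iff_mem _).2 hg
  haveI : Nontrivial Q := E.toEquiv.nontrivial_congr.2 (Ideal.Quotient.nontrivial_iff.2 fun h =>
    (maximalIdeal.isMaximal PK).ne_top (top_le_iff.1 (h.ge.trans hle)))
  haveI : IsLocalRing Q := IsLocalRing.of_surjective' (Ideal.Quotient.mk _) Ideal.Quotient.mk_surjective
  haveI : IsNoetherianRing Q := inferInstance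
  have hQdim : ringKrullDim Q = 1 := by
    rw [ringKrullDim_eq_of_ringEquiv E]
    have h := ringKrullDim_quotient_span_singleton_succ_eq_ringKrullDim (R := PK) (x := g)
      (fun a b h => mul_left_cancel₀ hg0 h) hg
    have h2 : ringKrullDim PK = 2 := by
      have hle : ringKrullDim PK ≤ 2 := CanElt.ringKrullDim_powerSeries_le 2 (ResidueField Λ)
      have hge := Cohen.add_le_ringKrullDim (ResidueField Λ) 2
      rw [ringKrullDim_eq_zero_of_field] at hge
      exact le_antisymm hle (by simpa using hge)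
    rw [h2] at h
    obtain ⟨d, hd⟩ : ∃ d : ℕ∞, (d : WithBot ℕ∞) = ringKrullDim (PK ⧸ Ideal.span {g}) := by
      refine WithBot.ne_bot_iff_exists.1 fun hb => ?_
      rw [hb] at h; simp at h
    rw [← hd] at h ⊢
    have h3 : d + 1 = (1 : ℕ∞) + 1 := by
      rw [one_add_one_eq_two]
      exact WithBot.coe_inj.1 (by push_cast; exact h)
    lift d to ℕ using (fun hd' => by subst hd'; exact absurd h3 (by decide))
    have h4 : d + 1 = 1 + 1 := by exact_mod_cast h3
    obtain rfl : d = 1 := by omega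
    rfl
  have hQci : Pi1.IsCompleteIntersection Q := by
    haveI : IsLocalRing (PK ⧸ Ideal.span {g}) := E.isLocalRing
    refine S2169.isCI_congr E ((CI2.ci_iff_ker (Ideal.Quotient.mk (Ideal.span {g})) Ideal.Quotient.mk_surjective).2
      ⟨[g], DepthLib.isRegular_of_isWeaklyRegular
        ((RingTheory.Sequence.isWeaklyRegular_singleton_iff (M := PK) g).2 fun a b h => mul_left_cancel₀ hg0 h)
        (fun r hr => by rw [List.mem_singleton] at hr; exact hr ▸ hg)
        (DepthLib.smul_top_ne_top (maximalIdeal.isMaximal _).ne_top), by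
        rw [Ideal.ofList_singleton, Ideal.mk_ker]⟩)
  haveI : Module.Flat (R ⧸ I) Q := NodalCrit14.flat_quot I Cp
  have hmax : (maximalIdeal (R ⧸ I)).map (algebraMap (R ⧸ I) Q) = maximalIdeal Q := by
    have e1 := IsLocalRing.map_maximalIdeal_of_surjective (Ideal.Quotient.mk I) Ideal.Quotient.mk_surjective
    have e2 := IsLocalRing.map_maximalIdeal_of_surjective (Ideal.Quotient.mk (I.map (algebraMap R Cp)))
      Ideal.Quotient.mk_surjective
    have e3 : (maximalIdeal R).map (algebraMap R Cp) = maximalIdeal Cp := AdicCompletion.maximalIdeal_eq_map.symm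
    refine Eq.trans ?_ ((congrArg (Ideal.map (Ideal.Quotient.mk (I.map (algebraMap R Cp)))) e3).trans e2)
    rw [← e1]
    have hc : (algebraMap (R ⧸ I) Q).comp (Ideal.Quotient.mk I) =
        (Ideal.Quotient.mk (I.map (algebraMap R Cp))).comp (algebraMap R Cp) := RingHom.ext fun r => rfl
    refine (Ideal.map_map (Ideal.Quotient.mk I) (algebraMap (R ⧸ I) Q)).trans (Eq.trans ?_
      (Ideal.map_map (algebraMap R Cp) (Ideal.Quotient.mk (I.map (algebraMap R Cp)))).symm)
    exact congrArg (fun m => Ideal.map m (maximalIdeal R)) hc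
  haveI : IsLocalHom (algebraMap (R ⧸ I) Q) :=
    ((local_hom_TFAE (algebraMap (R ⧸ I) Q)).out 0 2).2 hmax.le
  haveI : IsLocalRing (Q ⧸ (maximalIdeal (R ⧸ I)).map (algebraMap (R ⧸ I) Q)) := by
    rw [hmax]
    exact IsLocalRing.of_surjective' (Ideal.Quotient.mk _) Ideal.Quotient.mk_surjective
  refine ⟨((S2164.result (A := R ⧸ I) (B := Q)).1 hQci).1, ?_⟩
  haveI : (maximalIdeal Q).LiesOver (maximalIdeal (R ⧸ I)) := ⟨(IsLocalRing.maximalIdeal_comap _).symm⟩
  have h := Ideal.height_eq_height_add_of_liesOver_of_hasGoingDown (maximalIdeal (R ⧸ I)) (maximalIdeal Q)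
  have h0 : (maximalIdeal Q).map (Ideal.Quotient.mk ((maximalIdeal (R ⧸ I)).map (algebraMap (R ⧸ I) Q))) = ⊥ :=
    Ideal.map_mk_eq_bot_of_le hmax.ge
  rw [h0, Ideal.height_bot, add_zero] at h
  rw [← maximalIdeal_height_eq_ringKrullDim, ← h, maximalIdeal_height_eq_ringKrullDim, hQdim]

theorem ciOne_of_node {X : Scheme.{u}} {Λ : Type u} [CommRing Λ] [IsLocalRing Λ] [IsNoetherianRing Λ]
    [IsLocallyNoetherian X] {u : Λ} (hu : u ∈ maximalIdeal Λ)
    (f : X ⟶ Spec (CommRingCat.of Λ)) [LocallyOfFiniteType f]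
    {p : X} (hp : f p = closedPoint Λ) (hpc : IsClosed ({p} : Set X))
    (e : AdicCompletion (maximalIdeal (X.presheaf.stalk p)) (X.presheaf.stalk p) ≃+*
        (MvPowerSeries (Fin 2) Λ ⧸ Ideal.span {MvPowerSeries.X 0 * MvPowerSeries.X 1 - MvPowerSeries.C u}))
    (he : ∀ c : Λ, e (algebraMap (X.presheaf.stalk p) _ (((X.presheaf.germ ⊤ p trivial).hom.comp (Coh.toGlobal f)) c)) =
        Ideal.Quotient.mk _ (MvPowerSeries.C c)) : NodalCrit14.CIOne f p := by
  let ι : Λ →+* X.presheaf.stalk p := (X.presheaf.germ ⊤ p trivial).hom.comp (Coh.toGlobal f)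
  have hI : (maximalIdeal ((Spec (CommRingCat.of Λ)).presheaf.stalk (f p))).map (f.stalkMap p).hom =
      (maximalIdeal Λ).map ι := by
    rw [← toStalk_map hp, Ideal.map_map]
    refine congrArg (fun m : Λ →+* X.presheaf.stalk p => Ideal.map m (maximalIdeal Λ)) (RingHom.ext fun a => ?_)
    exact Scheme.Hom.germ_stalkMap_apply f ⊤ p trivial _
  haveI : LocallyOfFiniteType (f.fiberToSpecResidueField (f p)) := inferInstanceAs (LocallyOfFiniteType (pullback.snd f _))
  haveI : IsLocallyNoetherian (f.fiber (f p)) := LocallyOfFiniteType.isLocallyNoetherian (f.fiberToSpecResidueField (f p))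
  obtain ⟨eF⟩ := Goren15.nonempty_asFiberEquiv f p
  obtain ⟨h1, h2⟩ := node_fibre ι hu e he
    (F := (f.fiber (f p)).presheaf.stalk (f.asFiber p)) ((Ideal.quotEquivOfEq hI.symm).trans eF)
  refine ⟨h1, ?_⟩
  have hz : IsClosed ({f.asFiber p} : Set ↥(f.fiber (f p))) := by
    have : ({f.asFiber p} : Set ↥(f.fiber (f p))) = f.fiberι (f p) ⁻¹' {p} := by
      ext z
      simp only [Set.mem_singleton_iff, Set.mem_preimage]
      exact ⟨fun h => h ▸ f.fiberι_asFiber p, fun h => (f.fiberι (f p)).isEmbedding.injective (h.trans (f.fiberι_asFiber p).symm)⟩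
    rw [this]
    exact hpc.preimage (f.fiberι (f p)).continuous
  rw [← f.fiberι_asFiber p, ← NodalCrit14.localDim_fiber f (f p) (f.asFiber p)]
  rw [← h2]
  exact (NodalCrit14.ringKrullDim_stalk_of_isClosed
    (L := (Spec (CommRingCat.of Λ)).residueField (f p))
    (show f.fiber (f p) ⟶ Spec (CommRingCat.of ((Spec (CommRingCat.of Λ)).residueField (f p))) from f.fiberToSpecResidueField (f p)) hz).symm


theorem germ_key {X S : Scheme.{u}} (f : X ⟶ S) (U : X.Opens) (y : (U : Scheme.{u}))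
    (hle : (⊤ : (U : Scheme.{u}).Opens) ≤ (U.ι ≫ f) ⁻¹ᵁ ⊤) (c : Γ(S, ⊤)) :
    (U.stalkIso y).hom ((U : Scheme.{u}).presheaf.germ ⊤ y trivial ((U.ι ≫ f).appLE ⊤ ⊤ hle c)) =
      X.presheaf.germ ⊤ y.1 trivial (f.appTop c) := by
  have h1 : (U.ι ≫ f).appLE ⊤ ⊤ hle c = U.ι.appTop (f.appTop c) := by
    have h0 : (U.ι ≫ f).appLE ⊤ ⊤ hle = (U.ι ≫ f).appTop := Scheme.Hom.appLE_eq_app _
    rw [h0, Scheme.Hom.comp_appTop]
    rfl
  rw [h1]
  have h2 : (U : Scheme.{u}).presheaf.germ ⊤ y trivial (U.ι.appTop (f.appTop c)) =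
      (U.stalkIso y).inv (X.presheaf.germ ⊤ y.1 trivial (f.appTop c)) := by
    rw [Scheme.Opens.stalkIso_inv]
    exact (Scheme.Hom.germ_stalkMap_apply U.ι ⊤ y trivial _).symm
  rw [h2, ← CommRingCat.comp_apply, Iso.inv_hom_id]
  rfl

theorem off_closed {X : Scheme.{u}} {Λ : Type u} [CommRing Λ] [IsLocalRing Λ] [IsNoetherianRing Λ]
    [IsLocallyNoetherian X] (u : Λ) (hu : (Ideal.span {u}).radical = maximalIdeal Λ)
    (f : X ⟶ Spec (CommRingCat.of Λ)) [Flat f] [LocallyOfFinitePresentation f]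
    {p q : X} (hqp : q ⤳ p) (hp : f p = closedPoint Λ) (hq : f q ≠ closedPoint Λ)
    (e : AdicCompletion (maximalIdeal (X.presheaf.stalk p)) (X.presheaf.stalk p) ≃+*
        (MvPowerSeries (Fin 2) Λ ⧸ Ideal.span {MvPowerSeries.X 0 * MvPowerSeries.X 1 - MvPowerSeries.C u}))
    (he : ∀ c : Λ, e (algebraMap (X.presheaf.stalk p) _ (((X.presheaf.germ ⊤ p trivial).hom.comp (Coh.toGlobal f)) c)) =
        Ideal.Quotient.mk _ (MvPowerSeries.C c))
    (hci : NodalCrit14.CIOne f p) :
    ∃ U : X.Opens, q ∈ U ∧ SmoothOfRelativeDimension 1 (U.ι ≫ f) := by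
  obtain ⟨U, hU, hpU, hd⟩ := NodalCrit14.exists_affine_ciOne f hci
  have hqU : q ∈ U := hqp.mem_open U.2 hpU
  haveI : IsAffine (U : Scheme.{u}) := hU
  let h := U.ι ≫ f
  haveI : QuasiSeparated h := QuasiSeparated.of_comp h (terminal.from _)
  haveI : IsLocallyNoetherian (U : Scheme.{u}) := inferInstance
  let V : (Spec (CommRingCat.of Λ)).Opens := ⊤
  have hle : (⊤ : (U : Scheme.{u}).Opens) ≤ h ⁻¹ᵁ V := le_top
  letI := (h.appLE V ⊤ hle).hom.toAlgebra
  haveI : Algebra.FiniteType Γ(Spec (CommRingCat.of Λ), V) Γ((U : Scheme.{u}), ⊤) :=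
    h.finiteType_appLE (isAffineOpen_top _) (isAffineOpen_top _) hle
  let qU : (U : Scheme.{u}) := ⟨q, hqU⟩
  have hs : qU ∈ h.smoothLocus := by
    rw [← FitSmooth14.notMem_support_iff_mem_smoothLocus h 1 (fun s T hT => NodalCrit14.components_of_fibreDimAt h hd s T hT) qU,
      Fitting26.mem_support_iff (Omega26.isQCoh h) (Omega26.isFT h) 1 (isAffineOpen_top (U : Scheme.{u})) (x := qU) trivial,
      ← FittingLib.ideal_congr (Omega26.sectEquiv h (isAffineOpen_top (U : Scheme.{u})) (isAffineOpen_top _) hle) 1,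
      FittingLib.not_le_iff_finrank_fiber_le]
    let y : (U : Scheme.{u}) := ⟨p, hpU⟩
    let st : (U : Scheme.{u}).presheaf.stalk y ≃+* X.presheaf.stalk p :=
      (U.stalkIso y).commRingCatIsoToRingEquiv
    letI := (((U : Scheme.{u}).presheaf.germ ⊤ y trivial) ≫ (U.stalkIso y).hom).hom.toAlgebra
    haveI : IsLocalization.AtPrime (X.presheaf.stalk p) ((isAffineOpen_top (U : Scheme.{u})).primeIdealOf ⟨y, trivial⟩).asIdeal := by
      letI := ((U : Scheme.{u}).presheaf.germ ⊤ y trivial).hom.toAlgebra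
      haveI := (isAffineOpen_top (U : Scheme.{u})).isLocalization_stalk ⟨y, trivial⟩
      let st' : (U : Scheme.{u}).presheaf.stalk y ≃ₐ[Γ((U : Scheme.{u}), ⊤)] X.presheaf.stalk p :=
        AlgEquiv.ofRingEquiv (f := st) fun _ => rfl
      exact IsLocalization.isLocalization_of_algEquiv _ st'
    refine finrank_kaehler_le_one (R := X.presheaf.stalk p)
      ((isAffineOpen_top (U : Scheme.{u})).primeIdealOf ⟨y, trivial⟩).asIdeal _ ?_
      ((X.presheaf.germ ⊤ p trivial).hom.comp (Coh.toGlobal f))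
      (Scheme.ΓSpecIso (CommRingCat.of Λ)).inv.hom (fun a => ?_) u e he ?_
    · refine (PrimeSpectrum.le_iff_specializes _ _).2 ?_
      refine (isAffineOpen_top (U : Scheme.{u})).fromSpec.isEmbedding.isInducing.specializes_iff.1 ?_
      rw [IsAffineOpen.fromSpec_primeIdealOf, IsAffineOpen.fromSpec_primeIdealOf]
      exact U.ι.isEmbedding.isInducing.specializes_iff.1 hqp
    · exact (germ_key f U y hle _).symm
    · intro hmem
      refine hq ?_
      have hprime : u ∈ (f q).asIdeal := by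
        by_contra hne
        have h1 : IsUnit (X.presheaf.germ ⊤ q trivial (Coh.toGlobal f u)) := by
          have h2 : IsUnit ((Spec (CommRingCat.of Λ)).presheaf.germ ⊤ (f q) trivial ((Scheme.ΓSpecIso (CommRingCat.of Λ)).inv u)) := by
            rw [← Scheme.mem_basicOpen_top, basicOpen_eq_of_affine]
            exact hne
          have h3 := h2.map (f.stalkMap q).hom
          rw [Scheme.Hom.germ_stalkMap_apply] at h3
          exact h3
        have h4 := (M1.isUnit_germ_iff (isAffineOpen_top (U : Scheme.{u})) (x := qU) trivial _).not.2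
          (not_not_intro hmem)
        refine h4 ?_
        refine (isUnit_map_iff (U.stalkIso qU).hom.hom _).1 ?_
        convert h1 using 1
        exact germ_key f U qU hle _
      refine PrimeSpectrum.ext ?_
      show (f q).asIdeal = maximalIdeal Λ
      refine le_antisymm (le_maximalIdeal (f q).isPrime.ne_top) ?_
      rw [← hu]
      exact (f q).isPrime.radical_le_iff.2 (by simpa [Ideal.span_le] using hprime)
  obtain ⟨W, hqW, hW⟩ := (SmoothPt12.smoothPt_iff_mem h _).2 hs
  obtain ⟨n, W', hqW', hW'⟩ := CurvOpen16.exists_relDim (h := h) (a := qU) ⟨W, hqW, hW⟩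
  haveI := hW'
  have hn := S2768.result n (W'.ι ≫ h) ⟨_, hqW'⟩
  rw [NodalCrit14.fibreDimAt_comp h W'.ι, hd] at hn
  obtain rfl : 1 = n := by exact_mod_cast hn
  refine ⟨U.ι ''ᵁ W', ⟨⟨q, hqU⟩, hqW', rfl⟩, ?_⟩
  have e1 : (U.ι ''ᵁ W').ι ≫ f = (U.ι.isoImage W').inv ≫ W'.ι ≫ U.ι ≫ f := by
    rw [Scheme.Hom.isoImage_inv_ι_assoc]
  rw [e1]
  have : SmoothOfRelativeDimension (0 + 1) ((U.ι.isoImage W').inv ≫ (W'.ι ≫ U.ι ≫ f)) := inferInstance
  exact this

/-- The implication its proof establishes. Let Λ be a complete Noetherian local ring of Krull dimension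
1 and u ∈ Λ an element whose radical ideal is the maximal ideal (a system of parameters). Let f : X
→ Spec Λ be proper and flat with X locally Noetherian, and let P be a finite set of points of X over
the closed point of Spec Λ such that: (a) at every point of the closed fibre outside P the morphism
f is smooth of relative dimension 1 on an open neighbourhood (the closed fibre is a curve, smooth
away from P), and (b) for every p ∈ P the completion of the local ring O_{X,p} is isomorphic,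
compatibly with the maps from Λ, to Λ[[x, y]]/(xy − u) (p is a node of the closed fibre deformed by
the parameter u). Then f is smooth of relative dimension 1 on an open neighbourhood of every point
of X that does not lie over the closed point. (The published statement asserts that a flat
projective family over Λ with a prescribed projective nodal closed fibre exists and that it is
smooth over the punctured spectrum away from the closed fibre; this row states the smoothness
implication for a given proper flat family, with smoothness of the closed fibre away from P put on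
f, which for flat f is equivalent to smoothness of the fibre there.) -/
theorem result
    (Λ : Type u) [CommRing Λ] [IsLocalRing Λ] [IsNoetherianRing Λ]
    [IsAdicComplete (IsLocalRing.maximalIdeal Λ) Λ] (hdim : ringKrullDim Λ = 1)
    (u : Λ) (hu : (Ideal.span {u}).radical = IsLocalRing.maximalIdeal Λ)
    (X : Scheme.{u}) [IsLocallyNoetherian X] (f : X ⟶ Spec (CommRingCat.of Λ)) [IsProper f] [Flat f]
    (P : Finset X) (hP : ∀ p ∈ P, f.base p = IsLocalRing.closedPoint Λ)
    (hsm : ∀ q : X, f.base q = IsLocalRing.closedPoint Λ → q ∉ P →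
      ∃ U : X.Opens, q ∈ U ∧ SmoothOfRelativeDimension 1 (U.ι ≫ f))
    (hnode : ∀ p ∈ P, ∃ e : AdicCompletion (IsLocalRing.maximalIdeal (X.presheaf.stalk p)) (X.presheaf.stalk p) ≃+*
        (MvPowerSeries (Fin 2) Λ ⧸ Ideal.span {MvPowerSeries.X 0 * MvPowerSeries.X 1 - MvPowerSeries.C u}),
      ∀ c : Λ, e (algebraMap (X.presheaf.stalk p) _ (((X.presheaf.germ ⊤ p trivial).hom.comp (Coh.toGlobal f)) c)) =
        Ideal.Quotient.mk _ (MvPowerSeries.C c)) :
    ∀ q : X, f.base q ≠ IsLocalRing.closedPoint Λ →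
      ∃ U : X.Opens, q ∈ U ∧ SmoothOfRelativeDimension 1 (U.ι ≫ f) := by
  haveI : LocallyOfFinitePresentation f := by
    haveI : IsNoetherianRing (CommRingCat.of Λ) := ‹IsNoetherianRing Λ›
    exact LimH13.locallyOfFinitePresentation_of_noetherian f
  haveI : CompactSpace X := QuasiCompact.compactSpace_of_compactSpace f
  have huM : u ∈ IsLocalRing.maximalIdeal Λ := hu ▸ Ideal.le_radical (Ideal.subset_span rfl)
  intro q hq
  obtain ⟨p₀, hqp₀, hp₀⟩ : ∃ p, q ⤳ p ∧ f p = IsLocalRing.closedPoint Λ := by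
    obtain ⟨p, hpm, hp⟩ : IsLocalRing.closedPoint Λ ∈ f '' closure {q} := by
      have hcl := f.isClosedMap _ (isClosed_closure (s := ({q} : Set X)))
      exact (IsLocalRing.specializes_closedPoint (f q)).mem_closed hcl ⟨q, subset_closure rfl, rfl⟩
    exact ⟨p, specializes_iff_mem_closure.2 hpm, hp⟩
  obtain ⟨p, hpm, hpc⟩ := IsClosed.exists_closed_singleton (isClosed_closure (s := ({p₀} : Set X)))
    ⟨p₀, subset_closure rfl⟩
  have hqp : q ⤳ p := hqp₀.trans (specializes_iff_mem_closure.2 hpm)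
  have hp : f p = IsLocalRing.closedPoint Λ := by
    have h1 := (specializes_iff_mem_closure.2 hpm).map f.continuous
    rw [hp₀] at h1
    exact (h1.antisymm (IsLocalRing.specializes_closedPoint (f p))).eq.symm
  by_cases hpP : p ∈ P
  · obtain ⟨e, he⟩ := hnode p hpP
    exact off_closed u hu f hqp hp hq e he (ciOne_of_node huM f hp hpc e he)
  · obtain ⟨U, hpU, hU⟩ := hsm p hp hpP
    exact ⟨U, hqp.mem_open U.2 hpU, hU⟩

end Groth.Agent.S13982
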