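import Groth.Statements.S17647
import Groth.Agent.Lib.ModM1.Push
import Groth.Agent.Lib.FormalH7.Nbhd
import Mathlib.CategoryTheory.Localization.Adjunction
import Mathlib.CategoryTheory.Adjunction.Restrict

set_option autoImplicit false
universe u
open CategoryTheory CategoryTheory.Limits AlgebraicGeometry
open QCohCat

namespace Groth.Agent.S17647

open CategoryTheory CategoryTheory.Limits AlgebraicGeometry

theorem support_subset_iff_isZero {X : Scheme.{u}} (U : X.Opens) (M : X.Modules) :
    CohB1.support M ⊆ (↑U : Set X)ᶜ ↔ IsZero (M.restrict U.ι) := by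
  refine ⟨fun h => Groth.Agent.FormalH7.isZero_restrict_of_disjoint_support U fun x hx hs => h hs hx,
    fun h x hs hx => ?_⟩
  have h1 : (⟨x, hx⟩ : (U : Scheme.{u})) ∈ CohB1.support (M.restrict U.ι) :=
    (M1.subsingleton_stalk_restrict_iff U.ι M _).mpr hs
  exact h1 (AddCommGrpCat.subsingleton_of_isZero ((M1.stalkAb (X := (U : Scheme.{u})) _).map_isZero h))

theorem result (X : Scheme.{u})
    (U : X.Opens) [QuasiCompact U.ι] :
    (ObjectProperty.lift (QCohCat.isQCoh (↑U : Scheme.{u}))
        (ObjectProperty.ι (QCohCat.isQCoh X) ⋙ Scheme.Modules.restrictFunctor U.ι)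
        (fun M => @Scheme.Modules.isQuasicoherent_restrictFunctor (↑U : Scheme.{u}) X U.ι
          inferInstance M.obj M.property)).IsLocalization
      (fun (A B : QCohCat.QCoh X) (f : A ⟶ B) =>
        CohB1.support (kernel f.hom) ⊆ (↑U : Set X)ᶜ ∧
          CohB1.support (cokernel f.hom) ⊆ (↑U : Set X)ᶜ) := by
  haveI : QuasiSeparated U.ι := inferInstance
  let F := ObjectProperty.lift (QCohCat.isQCoh (↑U : Scheme.{u}))
        (ObjectProperty.ι (QCohCat.isQCoh X) ⋙ Scheme.Modules.restrictFunctor U.ι)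
        (fun M => @Scheme.Modules.isQuasicoherent_restrictFunctor (↑U : Scheme.{u}) X U.ι
          inferInstance M.obj M.property)
  let G := ObjectProperty.lift (QCohCat.isQCoh X)
        (ObjectProperty.ι (QCohCat.isQCoh (↑U : Scheme.{u})) ⋙ Scheme.Modules.pushforward U.ι)
        (fun M => M1.isQCoh_push U.ι M.property)
  let adj : F ⊣ G := (Scheme.Modules.restrictAdjunction U.ι).restrictFullyFaithful
    (QCohCat.isQCoh X).fullyFaithfulι (QCohCat.isQCoh (↑U : Scheme.{u})).fullyFaithfulι (Iso.refl _) (Iso.refl _)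
  haveI hG1 : (Scheme.Modules.pushforward U.ι).Full :=
    (Scheme.Modules.restrictAdjunction U.ι).fullyFaithfulROfIsIsoCounit.full
  haveI hG2 : (Scheme.Modules.pushforward U.ι).Faithful :=
    (Scheme.Modules.restrictAdjunction U.ι).fullyFaithfulROfIsIsoCounit.faithful
  haveI hG3 : (ObjectProperty.ι (QCohCat.isQCoh (↑U : Scheme.{u})) ⋙ Scheme.Modules.pushforward U.ι).Full := Functor.Full.comp _ _
  haveI hG4 : (ObjectProperty.ι (QCohCat.isQCoh (↑U : Scheme.{u})) ⋙ Scheme.Modules.pushforward U.ι).Faithful := Functor.Faithful.comp _ _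
  haveI : G.Full := Functor.Full.of_comp_faithful_iso
    (ObjectProperty.liftCompιIso (QCohCat.isQCoh X)
      (ObjectProperty.ι (QCohCat.isQCoh (↑U : Scheme.{u})) ⋙ Scheme.Modules.pushforward U.ι) (fun (M : QCohCat.QCoh (↑U : Scheme.{u})) => M1.isQCoh_push U.ι M.property))
  haveI : G.Faithful := Functor.Faithful.of_comp_iso
    (ObjectProperty.liftCompιIso (QCohCat.isQCoh X)
      (ObjectProperty.ι (QCohCat.isQCoh (↑U : Scheme.{u})) ⋙ Scheme.Modules.pushforward U.ι) (fun (M : QCohCat.QCoh (↑U : Scheme.{u})) => M1.isQCoh_push U.ι M.property))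
  have key : (fun (A B : QCohCat.QCoh X) (f : A ⟶ B) =>
        CohB1.support (kernel f.hom) ⊆ (↑U : Set X)ᶜ ∧
          CohB1.support (cokernel f.hom) ⊆ (↑U : Set X)ᶜ) =
      (MorphismProperty.isomorphisms _).inverseImage F := by
    ext A B f
    rw [MorphismProperty.inverseImage_iff, MorphismProperty.isomorphisms.iff]
    have e1 : IsIso (F.map f) ↔ IsIso ((Scheme.Modules.restrictFunctor U.ι).map f.hom) :=
      ⟨fun h => (QCohCat.isQCoh (↑U : Scheme.{u})).ι.map_isIso (F.map f),
        fun h => by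
          haveI : IsIso ((QCohCat.isQCoh (↑U : Scheme.{u})).ι.map (F.map f)) := h
          exact isIso_of_fully_faithful (QCohCat.isQCoh (↑U : Scheme.{u})).ι _⟩
    rw [e1, support_subset_iff_isZero, support_subset_iff_isZero]
    set R := Scheme.Modules.restrictFunctor U.ι
    constructor
    · rintro ⟨h1, h2⟩
      haveI : Mono (R.map f.hom) := Preadditive.mono_of_kernel_zero
        (IsZero.eq_of_src (IsZero.of_iso h1 (PreservesKernel.iso R f.hom).symm) _ _)
      haveI : Epi (R.map f.hom) := Preadditive.epi_of_cokernel_zero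
        (IsZero.eq_of_tgt (IsZero.of_iso h2 (PreservesCokernel.iso R f.hom).symm) _ _)
      exact isIso_of_mono_of_epi _
    · intro h
      exact ⟨IsZero.of_iso (isZero_kernel_of_mono (R.map f.hom)) (PreservesKernel.iso R f.hom),
        IsZero.of_iso (isZero_cokernel_of_epi (R.map f.hom)) (PreservesCokernel.iso R f.hom)⟩
  rw [key]
  exact adj.isLocalization


end Groth.Agent.S17647
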