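import Groth.Statements.S13987
import Groth.Agent.S17647
import Groth.Agent.Lib.LocCrit19.Basic
import Groth.Agent.Lib.IdealMul.Generic
import Groth.Agent.Lib.ModM1.Extend
import Mathlib.CategoryTheory.Abelian.Basic
-- import your own Groth.Agent.* helpers here

set_option autoImplicit false
universe u
open CategoryTheory CategoryTheory.Limits AlgebraicGeometry
open CohGab

namespace Groth.Agent.S13987

set_option linter.style.haveILetI false
set_option backward.isDefEq.respectTransparency.types false

open IdealMulL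

theorem coh_pullback {X : Scheme.{u}} [IsNoetherian X] {A B C : X.Modules} (hA : Coh.IsCoh A) (hB : Coh.IsCoh B)
    (hC : Coh.IsCoh C) (f : A ⟶ C) (g : B ⟶ C) : Coh.IsCoh (pullback f g) := by
  let d : A ⊞ B ⟶ C := biprod.desc f (-g)
  have hK : Coh.IsCoh (kernel d) := M1.isCoh_kernel (M1.isCoh_biprod hA hB) hC.1 d
  let e : kernel d ≅ pullback f g := (limit.isLimit _).conePointUniqueUpToIso
    (Abelian.PullbackToBiproductIsKernel.isLimitPullbackToBiproduct f g)
  exact ⟨M1.isQCoh_of_isIso e hK.1, M1.isFT_of_isIso e hK.2⟩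

theorem exists_coh_extension {X : Scheme.{u}} [IsNoetherian X] (U : X.Opens)
    (G : (U : Scheme.{u}).Modules) (hG : Coh.IsCoh G) :
    ∃ M : X.Modules, Coh.IsCoh M ∧ Nonempty (M.restrict U.ι ≅ G) := by
  haveI : QuasiCompact U.ι := M1.quasiCompact_ι U fun V _ => TopologicalSpace.NoetherianSpace.isCompact _
  let P := (Scheme.Modules.pushforward U.ι).obj G
  haveI hP : Coh.IsQCoh P := M1.isQCoh_push U.ι hG.1
  haveI : IsIso ((Scheme.Modules.restrictAdjunction U.ι).counit.app G) := inferInstance
  let i : G ⟶ P.restrict U.ι := (asIso ((Scheme.Modules.restrictAdjunction U.ι).counit.app G)).inv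
  obtain ⟨p, hp, hq⟩ := M1.Sub.exists_initial i hG.1 hG.2
  obtain ⟨q, hq1, hq2, hag⟩ := M1.Sub.exists_extend_noetherian (hF := hP)
    (fun x => ⟨⊤, trivial, inferInstance⟩) p U hp
  obtain ⟨e, -⟩ := hq q hag
  exact ⟨q.P, ⟨hq1, hq2⟩, ⟨e⟩⟩

theorem isIso_kernel_ι_zero {C : Type*} [Category C] [Abelian C] {A B : C} (φ : A ⟶ B) (h : φ = 0) :
    IsIso (kernel.ι φ) := by
  subst h
  infer_instance

theorem isIso_map_kernel_ι {X : Scheme.{u}} (U : X.Opens) {A B : X.Modules} (f : A ⟶ B)
    (h : (Scheme.Modules.restrictFunctor U.ι).map f = 0) :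
    IsIso ((Scheme.Modules.restrictFunctor U.ι).map (kernel.ι f)) := by
  have e := kernelComparison_comp_ι f (Scheme.Modules.restrictFunctor U.ι)
  haveI : IsIso (kernel.ι ((Scheme.Modules.restrictFunctor U.ι).map f)) :=
    isIso_kernel_ι_zero _ h
  rw [← e]
  infer_instance


set_option linter.style.haveILetI false
set_option backward.isDefEq.respectTransparency.types false


/-- Let X be a Noetherian scheme, Z ⊆ X a closed subset and U = X ∖ Z. Then restriction to U induces an
equivalence between the quotient abelian category Coh(X)/Coh_Z(X) (coherent modules modulo those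
supported in Z) and Coh(U): the restriction functor Coh(X) ⥤ Coh(U) is a localization functor for
the class of morphisms of coherent O_X-modules whose kernel and cokernel (taken in O_X-modules) have
support contained in Z. The hypothesis that restriction to U preserves coherence always holds and is
carried only to form the functor between the full subcategories. (The published statement is about
coherent sheaves twisted by a class in the second etale cohomology group of the units of the
structure sheaf; this row is its case of the trivial class, ordinary coherent sheaves.) -/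
theorem result (X : Scheme.{u}) [IsNoetherian X]
    (U : X.Opens)
    (hres : ∀ M : X.Modules, Coh.IsCoh M → Coh.IsCoh ((Scheme.Modules.restrictFunctor U.ι).obj M)) :
    (ObjectProperty.lift (fun N : (↑U : Scheme.{u}).Modules => Coh.IsCoh N)
        (ObjectProperty.ι (fun M : X.Modules => Coh.IsCoh M) ⋙ Scheme.Modules.restrictFunctor U.ι)
        (fun M => hres M.obj M.property)).IsLocalization
      (fun (A B : ObjectProperty.FullSubcategory (fun M : X.Modules => Coh.IsCoh M)) (f : A ⟶ B) =>
        CohB1.support (kernel f.hom) ⊆ (↑U : Set X)ᶜ ∧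
          CohB1.support (cokernel f.hom) ⊆ (↑U : Set X)ᶜ) := by
  classical
let R := Scheme.Modules.restrictFunctor U.ι
let F := ObjectProperty.lift (fun N : (↑U : Scheme.{u}).Modules => Coh.IsCoh N)
      (ObjectProperty.ι (fun M : X.Modules => Coh.IsCoh M) ⋙ R) (fun M => hres M.obj M.property)
let P : ObjectProperty X.Modules := fun M => Coh.IsCoh M
let PU : ObjectProperty (↑U : Scheme.{u}).Modules := fun N => Coh.IsCoh N
let W : MorphismProperty P.FullSubcategory := (MorphismProperty.isomorphisms _).inverseImage F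
have hW : ∀ {A B : P.FullSubcategory} (f : A ⟶ B), W f ↔ IsIso (R.map f.hom) := fun {A B} f =>
  ⟨fun h => by
    haveI : IsIso (F.map f) := h
    exact PU.ι.map_isIso (F.map f), fun h => by
    haveI : IsIso (PU.ι.map (F.map f)) := h
    exact isIso_of_fully_faithful PU.ι _⟩
have key : (fun (A B : P.FullSubcategory) (f : A ⟶ B) =>
      CohB1.support (kernel f.hom) ⊆ (↑U : Set X)ᶜ ∧ CohB1.support (cokernel f.hom) ⊆ (↑U : Set X)ᶜ) = W := by
  ext A B f
  rw [hW f, S17647.support_subset_iff_isZero, S17647.support_subset_iff_isZero]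
  constructor
  · rintro ⟨h1, h2⟩
    haveI : Mono (R.map f.hom) := Preadditive.mono_of_kernel_zero
      (IsZero.eq_of_src (IsZero.of_iso h1 (PreservesKernel.iso R f.hom).symm) _ _)
    haveI : Epi (R.map f.hom) := Preadditive.epi_of_cokernel_zero
      (IsZero.eq_of_tgt (IsZero.of_iso h2 (PreservesCokernel.iso R f.hom).symm) _ _)
    exact isIso_of_mono_of_epi _
  · intro h
    exact ⟨IsZero.of_iso (isZero_kernel_of_mono (R.map f.hom)) (PreservesKernel.iso R f.hom),
      IsZero.of_iso (isZero_cokernel_of_epi (R.map f.hom)) (PreservesCokernel.iso R f.hom)⟩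
show F.IsLocalization (fun (A B : P.FullSubcategory) (f : A ⟶ B) =>
      CohB1.support (kernel f.hom) ⊆ (↑U : Set X)ᶜ ∧ CohB1.support (cokernel f.hom) ⊆ (↑U : Set X)ᶜ)
rw [key]
have hext : ∀ {A B : P.FullSubcategory} (f₁ f₂ : A ⟶ B), R.map f₁.hom = R.map f₂.hom →
    ∃ (A' : P.FullSubcategory) (t : A' ⟶ A) (_ : W t), t ≫ f₁ = t ≫ f₂ := by
  intro A B f₁ f₂ h
  let d : A.obj ⟶ B.obj := f₁.hom - f₂.hom
  haveI : IsIso (R.map (kernel.ι d)) := isIso_map_kernel_ι U d (by
    show R.map (f₁.hom - f₂.hom) = 0
    rw [R.map_sub, h, sub_self])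
  let A' : P.FullSubcategory := ⟨kernel d, M1.isCoh_kernel A.property B.property.1 d⟩
  let t : A' ⟶ A := ObjectProperty.homMk (kernel.ι d)
  refine ⟨A', t, (hW t).2 ‹_›, ?_⟩
  apply ObjectProperty.hom_ext
  exact sub_eq_zero.1 ((Preadditive.comp_sub _ _ _).symm.trans (kernel.condition d))
haveI : W.HasRightCalculusOfFractions :=
  { exists_rightFraction := fun A B φ => by
      haveI : IsIso (R.map φ.s.hom) := (hW φ.s).1 φ.hs
      let Z : P.FullSubcategory := ⟨pullback φ.f.hom φ.s.hom, coh_pullback A.property B.property φ.Y'.property _ _⟩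
      let a : Z ⟶ A := ObjectProperty.homMk (pullback.fst φ.f.hom φ.s.hom)
      let b : Z ⟶ B := ObjectProperty.homMk (pullback.snd φ.f.hom φ.s.hom)
      have ha : W a := (hW a).2 (by
        exact ((IsPullback.of_hasPullback φ.f.hom φ.s.hom).map R).isIso_fst_of_isIso)
      exact ⟨⟨a, ha, b⟩, ObjectProperty.hom_ext _ pullback.condition⟩
    ext := fun A B B' f₁ f₂ s hs h => by
      haveI : IsIso (R.map s.hom) := (hW s).1 hs
      refine hext f₁ f₂ ?_
      rw [← cancel_mono (R.map s.hom), ← R.map_comp, ← R.map_comp]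
      exact congrArg (fun m => R.map m) (congrArg (fun m : A ⟶ B' => m.hom) h) }
haveI : F.EssSurj := ⟨fun G => by
  obtain ⟨M, hM, ⟨e⟩⟩ := exists_coh_extension U G.obj G.property
  exact ⟨⟨M, hM⟩, ⟨PU.isoMk e⟩⟩⟩
refine LocCrit19.isLocalization F W (fun A B f h => h) (fun {A B} g => ?_)
  fun {A B} f₁ f₂ h => hext f₁ f₂ (congrArg (fun m => m.hom) h)
let J : X.IdealSheafData :=
  Scheme.IdealSheafData.vanishingIdeal ⟨(U : Set X)ᶜ, U.isOpen.isClosed_compl⟩
have hJ : (U : Set X) = (J.support : Set X)ᶜ := by
  rw [Scheme.IdealSheafData.coe_support_vanishingIdeal]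
  exact (compl_compl _).symm
obtain ⟨n, ψ, hψ⟩ := exists_extend B.property.1 A.property J hJ g.hom
haveI : Coh.IsQCoh A.obj := A.property.1
haveI : IsIso (R.map (Dual3.idealMulι (J ^ n) A.obj)) := isIso_restrict_map _ U fun x hx => by
  refine bijective_stL_idl _ fun hs => ?_
  have hx' : x ∉ (J.support : Set X) := by
    have : x ∈ (U : Set X) := hx
    rwa [hJ] at this
  rcases n with _ | m
  · simp [pow_zero] at hs
  · rw [Scheme.IdealSheafData.support_pow_succ] at hs
    exact hx' hs
let A' : P.FullSubcategory := ⟨(Dual3.idealMul (J ^ n)).obj A.obj,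
  M1.isCoh_of_mono (Dual3.idealMulι (J ^ n) A.obj) A.property (isQCoh_idl A.obj _ A.property.1)⟩
let s : A' ⟶ A := ObjectProperty.homMk (Dual3.idealMulι (J ^ n) A.obj)
refine ⟨A', s, (hW s).2 ‹_›, ObjectProperty.homMk ψ, ObjectProperty.hom_ext _ ?_⟩
exact hψ.symm

end Groth.Agent.S13987
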