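import Groth.Statements.S13989
import Groth.Agent.Lib.SerreFF13.Basic

set_option autoImplicit false
universe v u v' u' v'' u''
open CategoryTheory CategoryTheory.Limits
open CohGab

namespace Groth.Agent.S13989

/-- Let A be an abelian category, A' a full abelian subcategory (given as a fully faithful exact functor
i : A' ⥤ A) and J a Serre subcategory of A, with J' = J ∩ A' (the preimage of J under i, a Serre
subcategory of A'). Assume that every subobject and every quotient object, in A, of an object of A'
which belongs to J belongs to A' (lies in the essential image of i). Then the functor A'/J' ⥤ A/J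
induced between the quotient categories is fully faithful: for L : A ⥤ Q and L' : A' ⥤ Q'
localization functors at the morphisms whose kernel and cokernel lie in J, resp. J', every functor Φ
: Q' ⥤ Q with L' ⋙ Φ ≅ i ⋙ L is full and faithful. -/
theorem result
    {A A' : Type u} [Category.{v} A] [Abelian A] [Category.{v} A'] [Abelian A']
    (i : A' ⥤ A) [i.Full] [i.Faithful] [PreservesFiniteLimits i] [PreservesFiniteColimits i]
    (J : ObjectProperty A) [J.IsSerreClass] [(J.inverseImage i).IsSerreClass]
    (hsub : ∀ (M : A') (N : A) (f : N ⟶ i.obj M), Mono f → J N → i.essImage N)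
    (hquot : ∀ (M : A') (N : A) (p : i.obj M ⟶ N), Epi p → J N → i.essImage N)
    {Q : Type u'} [Category.{v'} Q] (L : A ⥤ Q) [L.IsLocalization J.isoModSerre]
    {Q' : Type u''} [Category.{v''} Q'] (L' : A' ⥤ Q') [L'.IsLocalization (J.inverseImage i).isoModSerre]
    (Φ : Q' ⥤ Q) (e : L' ⋙ Φ ≅ i ⋙ L) : Φ.Full ∧ Φ.Faithful := by
  exact SerreFF13.main i J hsub hquot L L' Φ e

end Groth.Agent.S13989
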