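import Groth.Statements.S13991
import Groth.Agent.Lib.CohGab13.Basic
-- import your own Groth.Agent.* helpers here

set_option autoImplicit false
universe u
open CategoryTheory AlgebraicGeometry
open CohGab

namespace Groth.Agent.S13991

set_option backward.isDefEq.respectTransparency false
set_option backward.isDefEq.respectTransparency.types false

/-- Let X be a Noetherian scheme and Z ⊆ X a closed subset. Then Z is irreducible (or empty) if and only
if Coh_Z(X), the coherent O_X-modules supported in Z, is an irreducible Serre subcategory of Coh(X),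
i.e. it is not generated as a Serre subcategory by two Serre subcategories properly contained in it:
whenever J₁, J₂ are Serre classes on coherent modules (middle term of a short exact sequence of
coherent modules belongs iff both outer terms do), both contained in Coh_Z, such that every Serre
class on coherent modules containing J₁ and J₂ contains Coh_Z, then J₁ or J₂ contains Coh_Z.
Consequently the points of X correspond to the irreducible Serre subcategories of finite type other
than the zero subcategory. (The published statement says 'Z is irreducible iff Coh_Z is irreducible'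
and deduces a bijection between the points of X and all irreducible Serre subcategories of finite
type; the zero subcategory Coh_∅ is irreducible in this sense while ∅ is not an irreducible space,
so irreducibility of Z is read here as 'irreducible or empty'. The published statement is also about
coherent sheaves twisted by a class in the second etale cohomology group of the units of the
structure sheaf; this row is its case of the trivial class.) -/
theorem result (X : Scheme.{u}) [IsNoetherian X]
    (Z : TopologicalSpace.Closeds X) :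
    IsPreirreducible (↑Z : Set X) ↔
    ∀ J₁ J₂ : ObjectProperty X.Modules, (∀ S : ShortComplex X.Modules, S.ShortExact → Coh.IsCoh S.X₁ → Coh.IsCoh S.X₂ →
        Coh.IsCoh S.X₃ → (J₁ S.X₂ ↔ J₁ S.X₁ ∧ J₁ S.X₃)) → (∀ S : ShortComplex X.Modules, S.ShortExact → Coh.IsCoh S.X₁ → Coh.IsCoh S.X₂ →
        Coh.IsCoh S.X₃ → (J₂ S.X₂ ↔ J₂ S.X₁ ∧ J₂ S.X₃)) →
      (∀ M : X.Modules, Coh.IsCoh M → J₁ M → CohB1.support M ⊆ (↑Z : Set X)) →
      (∀ M : X.Modules, Coh.IsCoh M → J₂ M → CohB1.support M ⊆ (↑Z : Set X)) →
      (∀ Q : ObjectProperty X.Modules, (∀ S : ShortComplex X.Modules, S.ShortExact → Coh.IsCoh S.X₁ → Coh.IsCoh S.X₂ →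
        Coh.IsCoh S.X₃ → (Q S.X₂ ↔ Q S.X₁ ∧ Q S.X₃)) →
        (∀ M : X.Modules, Coh.IsCoh M → J₁ M → Q M) → (∀ M : X.Modules, Coh.IsCoh M → J₂ M → Q M) →
        ∀ M : X.Modules, Coh.IsCoh M → CohB1.support M ⊆ (↑Z : Set X) → Q M) →
      (∀ M : X.Modules, Coh.IsCoh M → CohB1.support M ⊆ (↑Z : Set X) → J₁ M) ∨
        (∀ M : X.Modules, Coh.IsCoh M → CohB1.support M ⊆ (↑Z : Set X) → J₂ M) := by
  refine ⟨fun hirr J₁ J₂ hJ₁ hJ₂ h₁ h₂ hgen => ?_, fun h => ?_⟩
  · obtain ⟨G, hG, hGs⟩ := CohGab13.exists_coh_support_eq Z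
    have main : ∀ J : ObjectProperty X.Modules, CohGab13.SerreOn J → ∀ M, Coh.IsCoh M → J M →
        (Z : Set X) ⊆ CohB1.support M → ∀ N : X.Modules, Coh.IsCoh N → CohB1.support N ⊆ (Z : Set X) → J N :=
      fun J hJ M hM hJM hZM N hN hNs => CohGab13.mem_of_support_subset hJ hM hJM hN (hNs.trans hZM)
    by_cases hne : (Z : Set X).Nonempty
    · have hgp := IsIrreducible.isGenericPoint_genericPoint ⟨hne, hirr⟩ Z.isClosed
      generalize IsIrreducible.genericPoint (⟨hne, hirr⟩ : IsIrreducible (Z : Set X)) = ζ at hgp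
      have hsub : ∀ M : X.Modules, Coh.IsCoh M → ζ ∈ CohB1.support M → (Z : Set X) ⊆ CohB1.support M :=
        fun M hM hζ => (hgp.mem_closed_set_iff (Groth.Agent.M1.isClosed_support hM.2)).1 hζ
      by_contra hcon
      rw [not_or] at hcon
      refine hgen (fun M => ζ ∉ CohB1.support M) (CohGab13.serreOn_notMem ζ)
        (fun M hM hJ hζ => hcon.1 (main J₁ hJ₁ M hM hJ (hsub M hM hζ)))
        (fun M hM hJ hζ => hcon.2 (main J₂ hJ₂ M hM hJ (hsub M hM hζ))) G hG hGs.le (hGs ▸ hgp.mem)
    · rw [Set.not_nonempty_iff_eq_empty] at hne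
      by_contra hcon
      rw [not_or] at hcon
      exact hgen (fun _ => False) (fun _ _ _ _ _ => by simp)
        (fun M hM hJ => hcon.1 (main J₁ hJ₁ M hM hJ (hne ▸ Set.empty_subset _)))
        (fun M hM hJ => hcon.2 (main J₂ hJ₂ M hM hJ (hne ▸ Set.empty_subset _))) G hG hGs.le
  · rw [isPreirreducible_iff_isClosed_union_isClosed]
    intro Z₁ Z₂ hZ₁ hZ₂ hsub
    let A : TopologicalSpace.Closeds X := ⟨(Z : Set X) ∩ Z₁, Z.isClosed.inter hZ₁⟩
    let B : TopologicalSpace.Closeds X := ⟨(Z : Set X) ∩ Z₂, Z.isClosed.inter hZ₂⟩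
    obtain ⟨G, hG, hGs⟩ := CohGab13.exists_coh_support_eq Z
    rcases h (fun M => CohB1.support M ⊆ (A : Set X)) (fun M => CohB1.support M ⊆ (B : Set X))
      (CohGab13.serreOn_supp _) (CohGab13.serreOn_supp _)
      (fun M _ hM => hM.trans Set.inter_subset_left) (fun M _ hM => hM.trans Set.inter_subset_left)
      (fun Q hQ hQA hQB M hM hMs => by
        obtain ⟨GA, hGA, hGAs⟩ := CohGab13.exists_coh_support_eq A
        refine CohGab13.mem_of_cuts hQ hGA (hQA GA hGA hGAs.le) hM fun η hη => ⟨M, hM, hη, ?_⟩
        have hc : (closure {η} : Set X) ⊆ (Z : Set X) := Z.isClosed.closure_subset_iff.2 (by simpa using hMs hη)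
        have hs := CohGab13.support_cut ⟨closure {η}, isClosed_closure⟩ hM
        rcases hsub (hMs hη) with h1 | h2
        · exact hQA _ (CohGab13.isCoh_cut _ hM) (hs.trans_subset fun x hx =>
            ⟨hc hx.1, (hZ₁.closure_subset_iff.2 (Set.singleton_subset_iff.2 h1)) hx.1⟩)
        · exact hQB _ (CohGab13.isCoh_cut _ hM) (hs.trans_subset fun x hx =>
            ⟨hc hx.1, (hZ₂.closure_subset_iff.2 (Set.singleton_subset_iff.2 h2)) hx.1⟩)) with hA | hB
    · exact Or.inl fun x hx => (hA G hG hGs.le (hGs ▸ hx)).2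
    · exact Or.inr fun x hx => (hB G hG hGs.le (hGs ▸ hx)).2

end Groth.Agent.S13991
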