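import Groth.Statements.S13992
import Groth.Agent.Lib.CI2.Planar
import Groth.Agent.Lib.TorSymm3.Basic
import Mathlib

set_option autoImplicit false
universe u
open CategoryTheory
open CAlg

namespace Groth.Agent.S13992
open CategoryTheory IsLocalRing
open scoped TensorProduct

/-- Let S be a regular local ring of Krull dimension two, f a non-zero element of S and R the quotient
of S by f, assumed reduced (the local ring of a reduced planar curve singularity). Let M and N be
finitely generated R-modules, each admitting a non-zero-divisor in the maximal ideal of R,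
annihilated by ideals I and J respectively, where I + J contains a power of the maximal ideal. Then
Ext²_R(M, N) = 0. (The published statement is global: Ext²(F, F') = 0 for torsion-free coherent
sheaves F and F' on a reduced projective curve over a characteristic-zero algebraically closed
field, supported on subcurves with no common irreducible component that meet only at points with
planar singularities; this row is the vanishing on stalks to which it reduces, stated over an
arbitrary two-dimensional regular local ring.) -/
theorem result (S : Type u) [CommRing S] [IsRegularLocalRing S] (hS : ringKrullDim S = 2) (f : S) (hf : f ≠ 0) (R : Type u) [CommRing R] [IsLocalRing R] [IsReduced R] (π : S →+* R) (hπ : Function.Surjective π) (hker : RingHom.ker π = Ideal.span {f}) (I J : Ideal R) (n : ℕ) (hIJ : IsLocalRing.maximalIdeal R ^ n ≤ I ⊔ J) (M N : Type u) [AddCommGroup M] [Module R M] [Module.Finite R M] [AddCommGroup N] [Module R N] [Module.Finite R N] (hI : I ≤ Module.annihilator R M) (hJ : J ≤ Module.annihilator R N) (x : R) (hx : x ∈ IsLocalRing.maximalIdeal R) (hxM : IsSMulRegular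 M x) (y : R) (hy : y ∈ IsLocalRing.maximalIdeal R) (hyN : IsSMulRegular N y) : Subsingleton (Abelian.Ext (ModuleCat.of R M) (ModuleCat.of R N) 2) := by
  obtain ⟨a, b, p, q, hp, hpq, hχ⟩ := Groth.Agent.CI2.Planar.presentation hS π hπ x hx hxM
  let K := LinearMap.range q
  let T1 := ShortComplex.moduleCatMk K.subtype p (LinearMap.ext fun v => (hpq _).2 v.2)
  have hS1 : T1.ShortExact :=
    { exact := (ShortComplex.ShortExact.moduleCat_exact_iff_function_exact _).2 fun v => by
        refine (hpq v).trans ⟨fun h => ⟨⟨v, h⟩, rfl⟩, ?_⟩
        rintro ⟨w, rfl⟩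
        exact w.2
      mono_f := (ModuleCat.mono_iff_injective _).2 K.injective_subtype
      epi_g := (ModuleCat.epi_iff_surjective _).2 hp }
  let T2 := ShortComplex.moduleCatMk (LinearMap.ker q).subtype q.rangeRestrict
    (LinearMap.ext fun v => Subtype.ext v.2)
  have hS2 : T2.ShortExact :=
    { exact := (ShortComplex.ShortExact.moduleCat_exact_iff_function_exact _).2 fun v => by
        constructor
        · intro h
          exact ⟨⟨v, congrArg Subtype.val h⟩, rfl⟩
        · rintro ⟨w, rfl⟩
          exact Subtype.ext w.2
      mono_f := (ModuleCat.mono_iff_injective _).2 (LinearMap.ker q).injective_subtype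
      epi_g := (ModuleCat.epi_iff_surjective _).2 q.surjective_rangeRestrict }
  haveI : Projective T1.X₂ := (IsProjective.iff_projective _).1 (inferInstanceAs (Module.Projective R (Fin a → R)))
  haveI : Projective T2.X₂ := (IsProjective.iff_projective _).1 (inferInstanceAs (Module.Projective R (Fin b → R)))
  let Y := ModuleCat.of R N
  have h0 : ∀ z : Abelian.Ext T2.X₁ Y 0, z = 0 := by
    intro z
    obtain ⟨u, rfl⟩ := (Abelian.Ext.mk₀_bijective _ _).2 z
    suffices h : u = 0 by rw [h, Abelian.Ext.mk₀_zero]
    obtain ⟨i, hi, j, hj, hij⟩ := Groth.Agent.CI2.Planar.exists_decomp I J n hIJ hy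
    obtain ⟨χ, hχ'⟩ := hχ i (hI hi)
    refine ModuleCat.hom_ext (LinearMap.ext fun (v : LinearMap.ker q) => ?_)
    refine (hyN.pow n) ?_
    show y ^ n • (show N from u.hom v) = y ^ n • 0
    rw [smul_zero, ← hij, add_smul, Module.mem_annihilator.1 (hJ hj), add_zero]
    have hv : i • v = 0 := Subtype.ext (by
      rw [Submodule.coe_smul, ← hχ' v.1, show q v.1 = 0 from v.2, map_zero]; rfl)
    exact (map_smul u.hom i v).symm.trans ((congrArg u.hom hv).trans (map_zero _))
  refine subsingleton_of_forall_eq 0 fun z => ?_
  obtain ⟨z1, rfl⟩ := Abelian.Ext.contravariant_sequence_exact₃ hS1 Y z (Abelian.Ext.eq_zero_of_projective _) (rfl : 1 + 1 = 2)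
  obtain ⟨z0, hz0⟩ := Abelian.Ext.contravariant_sequence_exact₃ hS2 Y z1 (Abelian.Ext.eq_zero_of_projective _) (rfl : 1 + 0 = 1)
  have hz1 : z1 = 0 := by rw [← hz0, h0 z0, Abelian.Ext.comp_zero]; rfl
  rw [hz1, Abelian.Ext.comp_zero]
  rfl

end Groth.Agent.S13992
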