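import Groth.Statements.S13993
import Groth.Agent.Lib.ExtLoc27.Basic
import Groth.Agent.Lib.PSIdeal.Basic
import Mathlib

set_option autoImplicit false
universe u
open CategoryTheory
open CAlg

namespace Groth.Agent.S13993
open CategoryTheory

theorem finrank_ext {k R : Type u} [Field k] [CommRing R] [Algebra k R] (x y : R) (hxy : x * y = 0)
    (hann : ∀ r : R, r * y = 0 → r ∈ Ideal.span {x})
    (hsurj : ∀ r : R, ∃ c : k, r - algebraMap k R c ∈ Ideal.span {x, y})
    (hinj : ∀ c : k, algebraMap k R c ∈ Ideal.span {x, y} → c = 0) :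
    Module.finrank k (Abelian.Ext (ModuleCat.of R (R ⧸ Ideal.span {y})) (ModuleCat.of R (R ⧸ Ideal.span {x})) 1) = 1 := by
  let K : Submodule R R := Ideal.span {y}
  let N := R ⧸ Ideal.span {x}
  let T := ShortComplex.moduleCatMk K.subtype K.mkQ (LinearMap.ext fun v => (Submodule.Quotient.mk_eq_zero K).2 v.2)
  have hS : T.ShortExact :=
    { exact := (ShortComplex.ShortExact.moduleCat_exact_iff_function_exact _).2 (LinearMap.exact_subtype_mkQ K)
      mono_f := (ModuleCat.mono_iff_injective _).2 K.injective_subtype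
      epi_g := (ModuleCat.epi_iff_surjective _).2 K.mkQ_surjective }
  haveI : Projective T.X₂ := (IsProjective.iff_projective _).1 (inferInstanceAs (Module.Projective R R))
  let φ : R →ₗ[R] K := (LinearMap.toSpanSingleton R R y).codRestrict K fun r => Ideal.mem_span_singleton'.2 ⟨r, rfl⟩
  have hφs : Function.Surjective φ := fun v => by
    obtain ⟨r, hr⟩ := Ideal.mem_span_singleton'.1 v.2
    exact ⟨r, Subtype.ext hr⟩
  have hφk : LinearMap.ker φ = Ideal.span {x} := by
    ext r
    rw [LinearMap.mem_ker]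
    constructor
    · intro h; exact hann r (congrArg Subtype.val h)
    · intro h
      obtain ⟨s, rfl⟩ := Ideal.mem_span_singleton'.1 h
      exact Subtype.ext (show (s * x) * y = 0 by rw [mul_assoc, hxy, mul_zero])
  let u0 : K →ₗ[R] N := (Submodule.quotEquivOfEq _ _ hφk).toLinearMap ∘ₗ (φ.quotKerEquivOfSurjective hφs).symm.toLinearMap
  have hu0 : ∀ r, u0 (φ r) = Ideal.Quotient.mk _ r := fun r => by
    have : (φ.quotKerEquivOfSurjective hφs).symm (φ r) = Submodule.Quotient.mk r :=
      (LinearEquiv.symm_apply_eq _).2 rfl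
    show (Submodule.quotEquivOfEq _ _ hφk) ((φ.quotKerEquivOfSurjective hφs).symm (φ r)) = _
    rw [this]; rfl
  let e0 := Groth.Agent.ExtLoc.ext0 (R := R) K N
  let p := hS.extClass.precompOfLinear R (ModuleCat.of R N) (Nat.add_comm 1 0)
  let Φ : R →ₗ[R] Abelian.Ext T.X₃ (ModuleCat.of R N) (0 + 1) :=
    p ∘ₗ (LinearMap.toSpanSingleton R _ (e0.symm u0))
  have hΦ : ∀ r, Φ r = p (e0.symm (r • u0)) := fun r => by
    show p (r • e0.symm u0) = _
    rw [map_smul e0.symm]
  have hs : Function.Surjective Φ := by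
    intro z
    obtain ⟨z0, rfl⟩ := Abelian.Ext.contravariant_sequence_exact₃ hS (ModuleCat.of R N) z
      (Abelian.Ext.eq_zero_of_projective _) (Nat.add_comm 1 0)
    obtain ⟨u, rfl⟩ := e0.symm.surjective z0
    obtain ⟨r, hr⟩ := Ideal.Quotient.mk_surjective (u (φ 1))
    refine ⟨r, (hΦ r).trans (congrArg (fun t => p (e0.symm t)) (LinearMap.ext fun v => ?_))⟩
    obtain ⟨s, rfl⟩ := hφs v
    rw [LinearMap.smul_apply, hu0, show φ s = s • φ 1 by rw [← map_smul, smul_eq_mul, mul_one], map_smul, ← hr]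
    show Ideal.Quotient.mk _ (r * s) = Ideal.Quotient.mk _ (s * r)
    rw [mul_comm]
  have hk : ∀ r, Φ r = 0 ↔ r ∈ Ideal.span {x, y} := by
    intro r
    rw [hΦ]
    constructor
    · intro h0
      obtain ⟨w, hw⟩ := Abelian.Ext.contravariant_sequence_exact₁ hS (ModuleCat.of R N) (Abelian.Ext.mk₀ (ModuleCat.ofHom (r • u0)))
        (rfl : 1 + 0 = 1) h0
      obtain ⟨q, rfl⟩ := (Abelian.Ext.mk₀_bijective _ _).2 w
      rw [Abelian.Ext.mk₀_comp_mk₀] at hw
      have hq : q.hom.comp K.subtype = r • u0 := congrArg ModuleCat.Hom.hom ((Abelian.Ext.mk₀_bijective _ _).1 hw)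
      have h1 := LinearMap.congr_fun hq (φ 1)
      rw [LinearMap.smul_apply, hu0] at h1
      obtain ⟨c, hc⟩ := Ideal.Quotient.mk_surjective (I := Ideal.span {x}) (q.hom (1 : R))
      have h2 : q.hom.comp K.subtype (φ 1) = (1 * y) • q.hom (1 : R) := by
        refine Eq.trans ?_ (map_smul q.hom (1 * y) (1 : R))
        exact congrArg q.hom (show 1 * y = (1 * y) * 1 from (mul_one _).symm)
      have h3 : Ideal.Quotient.mk (Ideal.span {x}) (r * 1) = Ideal.Quotient.mk (Ideal.span {x}) (y * c) := by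
        refine Eq.trans h1.symm (h2.trans ?_)
        rw [one_mul, ← hc]; rfl
      rw [mul_one, Ideal.Quotient.eq] at h3
      obtain ⟨d, hd⟩ := Ideal.mem_span_singleton'.1 h3
      exact Ideal.mem_span_pair.2 ⟨d, c, by rw [hd]; ring⟩
    · intro h
      obtain ⟨a, b, rfl⟩ := Ideal.mem_span_pair.1 h
      have hu : (a * x + b * y) • u0 = ((b • (Ideal.span {x}).mkQ) : R →ₗ[R] N) ∘ₗ K.subtype := by
        refine LinearMap.ext fun v => ?_
        obtain ⟨s, rfl⟩ := hφs v
        rw [LinearMap.smul_apply, hu0]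
        show Ideal.Quotient.mk _ ((a * x + b * y) * s) = Ideal.Quotient.mk _ (b * (s * y))
        exact Ideal.Quotient.eq.2 (Ideal.mem_span_singleton'.2 ⟨a * s, by ring⟩)
      rw [hu]
      exact ((congrArg (fun t => hS.extClass.comp t (rfl : 1 + 0 = 1))
        (Abelian.Ext.mk₀_comp_mk₀ T.f (ModuleCat.ofHom ((b • (Ideal.span {x}).mkQ) : R →ₗ[R] N))).symm).trans
          ((Abelian.Ext.comp_assoc_of_third_deg_zero _ _ _ _).symm.trans
          ((congrArg (fun t => Abelian.Ext.comp t _ (add_zero 1)) hS.extClass_comp).trans (Abelian.Ext.zero_comp _ _ _ _ _))))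
  have hsmul : ∀ (c : k) (z : Abelian.Ext T.X₃ (ModuleCat.of R N) (0 + 1)), algebraMap k R c • z = c • z := by
    intro c z
    rw [Abelian.Ext.smul_eq_comp_mk₀, Abelian.Ext.smul_eq_comp_mk₀]
    congr 2
  refine finrank_eq_one (Φ 1) (fun h => one_ne_zero (hinj 1 ?_)) fun z => ?_
  · rw [map_one]; exact (hk 1).1 h
  · obtain ⟨r, rfl⟩ := hs z
    obtain ⟨c, hc⟩ := hsurj r
    refine ⟨c, ?_⟩
    have := (hk _).2 hc
    rw [map_sub, sub_eq_zero] at this
    refine ((hsmul c _).symm.trans (map_smul Φ (algebraMap k R c) 1).symm).trans ?_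
    rw [smul_eq_mul, mul_one]
    exact this.symm

/-- Let k be a field and A = k[[x,y]]/(xy) the complete local ring of a node, with branch rings A/(y)
and A/(x) viewed as A-modules. Then the first Ext group Ext¹_A(A/(y), A/(x)) has dimension one over
k. (The published statement is for the local ring at a node of a reduced curve over an algebraically
closed field of characteristic zero, a node being a point whose complete local ring is A; this row
states the case of the complete local ring A itself, over an arbitrary field.) -/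
theorem result (k : Type u) [Field k] : Module.finrank k (Abelian.Ext (ModuleCat.of (MvPowerSeries (Fin 2) k ⧸ Ideal.span {(MvPowerSeries.X (0 : Fin 2) : MvPowerSeries (Fin 2) k) * MvPowerSeries.X (1 : Fin 2)}) ((MvPowerSeries (Fin 2) k ⧸ Ideal.span {(MvPowerSeries.X (0 : Fin 2) : MvPowerSeries (Fin 2) k) * MvPowerSeries.X (1 : Fin 2)}) ⧸ Ideal.span {Ideal.Quotient.mk (Ideal.span {(MvPowerSeries.X (0 : Fin 2) : MvPowerSeries (Fin 2) k) * MvPowerSeries.X (1 : Fin 2)}) (MvPowerSeries.X (1 : Fin 2))})) (ModuleCat.of (MvPowerSeries (Fin 2) k ⧸ Ideal.span {(MvPowerSeries.X (0 : Fin 2) : MvPowerSeries (Fin 2) k) * MvPowerSeries.X (1 : Fin 2)}) ((MvPowerSeries (Fin 2) k ⧸ Ideal.span {(MvPowerSeries.X (0 : Fin 2) : MvPowerSeries (Fin 2) k) * MvPowerSeries.X (1 : Fin 2)}) ⧸ Ideal.span {Ideal.Quotient.mk (Ideal.span {(MvPowerSeries.X (0 : Fin 2) : MvPowerSeries (Fin 2) k) * MvPowerSeries.X (1 : Fin 2)}) (MvPowerSeries.X (0 : Fin 2))})) 1) = 1 := by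
  set P := MvPowerSeries (Fin 2) k
  set X0 : P := MvPowerSeries.X (0 : Fin 2) with hX0
  set X1 : P := MvPowerSeries.X (1 : Fin 2) with hX1
  have hX1z : X1 ≠ 0 := by
    intro h
    have := congrArg (MvPowerSeries.coeff (Finsupp.single (1 : Fin 2) 1)) h
    rw [hX1, MvPowerSeries.coeff_X, map_zero] at this
    simp at this
  have hmap : (Ideal.span {X0, X1}).map (Ideal.Quotient.mk (Ideal.span {X0 * X1})) =
      Ideal.span {Ideal.Quotient.mk (Ideal.span {X0 * X1}) X0, Ideal.Quotient.mk (Ideal.span {X0 * X1}) X1} := by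
    rw [Ideal.map_span, Set.image_insert_eq, Set.image_singleton]
  refine finrank_ext _ _ (by rw [← map_mul, Ideal.Quotient.eq_zero_iff_mem]; exact Ideal.mem_span_singleton_self _)
    (fun r hr => ?_) (fun r => ?_) (fun c hc => ?_)
  · obtain ⟨f, rfl⟩ := Ideal.Quotient.mk_surjective r
    rw [← map_mul, Ideal.Quotient.eq_zero_iff_mem, Ideal.mem_span_singleton'] at hr
    obtain ⟨g, hg⟩ := hr
    have : f = g * X0 := mul_right_cancel₀ hX1z (by rw [← hg, mul_assoc])
    exact Ideal.mem_span_singleton'.2 ⟨Ideal.Quotient.mk _ g, by rw [← map_mul, this]⟩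
  · obtain ⟨f, rfl⟩ := Ideal.Quotient.mk_surjective r
    refine ⟨MvPowerSeries.constantCoeff f, ?_⟩
    rw [← hmap]
    show Ideal.Quotient.mk _ f - Ideal.Quotient.mk _ (algebraMap k P (MvPowerSeries.constantCoeff f)) ∈ _
    rw [← map_sub]
    refine Ideal.mem_map_of_mem _ ?_
    obtain ⟨g, hg, -⟩ := Groth.Agent.PSIdeal.exists_eq_sum_X_mul
      (f := f - algebraMap k P (MvPowerSeries.constantCoeff f))
      (by rw [map_sub, MvPowerSeries.algebraMap_apply, Algebra.algebraMap_self, RingHom.id_apply,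
        MvPowerSeries.constantCoeff_C, sub_self])
    rw [hg, Fin.sum_univ_two]
    exact Ideal.mem_span_pair.2 ⟨g 0, g 1, by ring⟩
  · have hc' : algebraMap k P c ∈ (Ideal.span {X0, X1} ⊔ Ideal.span {X0 * X1}) := by
      have := Ideal.comap_map_of_surjective' (Ideal.Quotient.mk (Ideal.span {X0 * X1})) Ideal.Quotient.mk_surjective
        (Ideal.span {X0, X1})
      rw [Ideal.mk_ker] at this
      rw [← this, hmap]
      exact hc
    rw [sup_eq_left.2 ((Ideal.span_singleton_le_iff_mem _).2
      (Ideal.mul_mem_right _ _ (Ideal.subset_span (by simp))))] at hc'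
    obtain ⟨a, b, hab⟩ := Ideal.mem_span_pair.1 hc'
    have := congrArg MvPowerSeries.constantCoeff hab
    rw [show (algebraMap k P) c = MvPowerSeries.C c from rfl, MvPowerSeries.constantCoeff_C] at this
    simpa [hX0, hX1] using this.symm

end Groth.Agent.S13993
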