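import Groth.Statements.S13994
import Groth.Agent.Lib.CI2.Planar
import Groth.Agent.Lib.TorSymm3.Basic
import Mathlib

set_option autoImplicit false
universe u
open CategoryTheory
open CAlg

namespace Groth.Agent.S13994
open CategoryTheory IsLocalRing
open scoped TensorProduct

/-- Let S be a regular local ring of Krull dimension two, f a non-zero element of S and R the quotient
of S by f, assumed reduced. Let M and N be finitely generated R-modules, each admitting a
non-zero-divisor in the maximal ideal of R, annihilated by ideals I and J respectively, where I + J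
contains a power of the maximal ideal. Then Tor₁^R(M, Hom_R(N, R)) = 0. (The published claim is made
for the stalks at a common point of two subcurves without common component of a reduced projective
curve over a characteristic-zero algebraically closed field, the point being a planar singularity,
and the stalks of torsion-free sheaves supported on them; this row states it over an arbitrary
two-dimensional regular local ring. Tor is computed by resolving the second argument.) -/
theorem result (S : Type u) [CommRing S] [IsRegularLocalRing S] (hS : ringKrullDim S = 2) (f : S) (hf : f ≠ 0) (R : Type u) [CommRing R] [IsLocalRing R] [IsReduced R] (π : S →+* R) (hπ : Function.Surjective π) (hker : RingHom.ker π = Ideal.span {f}) (I J : Ideal R) (n : ℕ) (hIJ : IsLocalRing.maximalIdeal R ^ n ≤ I ⊔ J) (M N : Type u) [AddCommGroup M] [Module R M] [Module.Finite R M] [AddCommGroup N] [Module R N] [Module.Finite R N] (hI : I ≤ Module.annihilator R M) (hJ : J ≤ Module.annihilator R N) (x : R) (hx : x ∈ IsLocalRing.maximalIdeal R) (hxM : IsSMulRegular M x) (y : R) (hy : y ∈ IsLocalRing.maximalIdeal R) (hyN : IsSMulRegular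 N y) : Limits.IsZero (((Tor (ModuleCat.{u} R) 1).obj (ModuleCat.of R M)).obj (ModuleCat.of R (Module.Dual R N))) := by
  obtain ⟨a, b, p, q, hp, hpq, hχ⟩ := Groth.Agent.CI2.Planar.presentation hS π hπ x hx hxM
  rw [Groth.Agent.TorSymm3.isZero_tor_one_comm, Groth.Agent.TorSymm3.isZero_tor_one_iff (ModuleCat.of R M)
    (LinearMap.range q).subtype (LinearMap.range q).injective_subtype p (fun v => ?_) hp]
  · let L := Module.Dual R N
    show Function.Injective ((LinearMap.range q).subtype.lTensor L)
    obtain ⟨i, hi, j, hj, hij⟩ := Groth.Agent.CI2.Planar.exists_decomp I J n hIJ hy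
    obtain ⟨χ, hχ'⟩ := hχ i (hI hi)
    rw [injective_iff_map_eq_zero]
    intro z hz
    obtain ⟨w, rfl⟩ := LinearMap.lTensor_surjective L q.surjective_rangeRestrict z
    have h1 : q.lTensor L w = 0 := by
      rw [← hz, ← LinearMap.comp_apply, ← LinearMap.lTensor_comp]; rfl
    have h2 : i • w = 0 := by
      have : χ.lTensor L (q.lTensor L w) = i • w := by
        rw [← LinearMap.comp_apply, ← LinearMap.lTensor_comp,
          show χ ∘ₗ q = i • LinearMap.id from LinearMap.ext hχ', LinearMap.lTensor_smul, LinearMap.lTensor_id]
        rfl
      rw [← this, h1, map_zero]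
    let e := TensorProduct.piScalarRight R R L (Fin b)
    have h3 : e w = 0 := by
      funext c
      apply LinearMap.ext
      intro v
      have hL : i • e w c = 0 := by
        rw [← Pi.smul_apply, ← map_smul, h2, map_zero]; rfl
      have hz1 : i * (e w c) v = 0 := LinearMap.congr_fun hL v
      have hz2 : y ^ n * (e w c) v = 0 := by
        rw [← hij, add_mul, hz1, zero_add, ← smul_eq_mul, ← map_smul, Module.mem_annihilator.1 (hJ hj), map_zero]
      have hz3 : y * (e w c) v = 0 := by
        refine IsReduced.eq_zero _ ⟨n + 1, ?_⟩
        rw [mul_pow, pow_succ y, pow_succ ((e w c) v),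
          show y ^ n * y * (((e w c) v) ^ n * (e w c) v) = y * ((e w c) v) ^ n * (y ^ n * (e w c) v) by ring, hz2,
          mul_zero]
      have hz4 : (e w c) v • v = 0 := hyN.right_eq_zero_of_smul (by
        rw [← mul_smul, hz3, zero_smul])
      refine IsReduced.eq_zero _ ⟨2, ?_⟩
      rw [pow_two, ← smul_eq_mul, ← map_smul, hz4, map_zero]
    rw [e.map_eq_zero_iff.1 h3, map_zero]
  · refine (hpq v).trans ⟨fun h => ⟨⟨v, h⟩, rfl⟩, ?_⟩
    rintro ⟨w, rfl⟩
    exact w.2

end Groth.Agent.S13994
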