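import Groth.Statements.S13995
import Mathlib

set_option autoImplicit false
universe u
open CAlg

namespace Groth.Agent.S13995

/-- Let R be a reduced Noetherian ring, M a finitely generated R-module all of whose associated primes
are minimal primes of R and whose localization at each minimal prime p is one-dimensional over the
field R_p, and let g : M → Q be a surjection onto a finitely generated R-module Q all of whose
associated primes are minimal primes of R. Then the kernel of g is the intersection, over the
minimal primes p of R lying in the support of Q, of the kernels of the localization maps M → M_p.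
(The published statement is for a torsion-free coherent sheaf F of uniform rank one on a reduced
connected projective curve over a characteristic-zero algebraically closed field: its non-zero
torsion-free quotients are exactly the maximal torsion-free quotients F_D of the restrictions of F
to subcurves D; this row is the corresponding statement for modules over a reduced Noetherian ring,
a subcurve being a set of minimal primes, and identifies each torsion-free quotient with F_D for D
the set of generic points of its support.) -/
theorem result (R : Type u) [CommRing R] [IsNoetherianRing R] [IsReduced R] (M : Type u) [AddCommGroup M] [Module R M] [Module.Finite R M] (hM : associatedPrimes R M ⊆ minimalPrimes R) (hrk : ∀ p : PrimeSpectrum R, p.asIdeal ∈ minimalPrimes R → Module.finrank (Localization.AtPrime p.asIdeal) (LocalizedModule p.asIdeal.primeCompl M) = 1) (Q : Type u) [AddCommGroup Q] [Module R Q] [Module.Finite R Q] (hQ : associatedPrimes R Q ⊆ minimalPrimes R) (g : M →ₗ[R] Q) (hg : Function.Surjective g) : LinearMap.ker g = ⨅ p ∈ {p : PrimeSpectrum R | p.asIdeal ∈ minimalPrimes R ∧ p ∈ Module.support R Q}, LinearMap.ker (LocalizedModule.mkLinearMap p.asIdeal.primeCompl M) := by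
  ext x
  simp only [LinearMap.mem_ker, Submodule.mem_iInf, Set.mem_setOf_eq]
  constructor
  · rintro hx p ⟨hpmin, hpQ⟩
    haveI : IsReduced (Localization.AtPrime p.asIdeal) := inferInstance
    have hfield : IsField (Localization.AtPrime p.asIdeal) := by
      haveI : Ring.KrullDimLE 0 (Localization.AtPrime p.asIdeal) := by
        rw [Ring.krullDimLE_iff, IsLocalization.AtPrime.ringKrullDim_eq_height p.asIdeal (Localization.AtPrime p.asIdeal)]
        simp [Ideal.height_eq_zero_iff.2 hpmin]
      exact Ring.KrullDimLE.isField_of_isReduced
    letI := hfield.toField
    have hnt : Nontrivial (LocalizedModule p.asIdeal.primeCompl Q) := hpQ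
    let G := LocalizedModule.map p.asIdeal.primeCompl g
    have hG : Function.Surjective G := LocalizedModule.map_surjective _ g hg
    have hr := hrk p hpmin
    have hfin : Module.finrank (Localization.AtPrime p.asIdeal) (LocalizedModule p.asIdeal.primeCompl Q) = 1 := by
      have h1 : Module.finrank (Localization.AtPrime p.asIdeal) (LocalizedModule p.asIdeal.primeCompl Q) ≤
          Module.finrank (Localization.AtPrime p.asIdeal) (LocalizedModule p.asIdeal.primeCompl M) :=
        G.finrank_le_finrank_of_surjective hG
      have h2 : 0 < Module.finrank (Localization.AtPrime p.asIdeal) (LocalizedModule p.asIdeal.primeCompl Q) :=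
        Module.finrank_pos
      omega
    have hinj : Function.Injective G :=
      (LinearMap.injective_iff_surjective_of_finrank_eq_finrank (hr.trans hfin.symm)).2 hG
    refine hinj ?_
    rw [map_zero]
    simp [G, LocalizedModule.mkLinearMap_apply, LocalizedModule.map_mk, hx]
  · intro h
    by_contra hne
    obtain ⟨q, hq, hle⟩ := exists_le_isAssociatedPrime_of_isNoetherianRing R (g x) hne
    haveI := hq.isPrime
    have hqmin : q ∈ minimalPrimes R := hQ hq
    let p : PrimeSpectrum R := ⟨q, inferInstance⟩
    have hps : p ∈ Module.support R Q := Module.mem_support_iff_exists_annihilator.2 ⟨g x, by simpa [Submodule.bot_colon'] using hle⟩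
    have h0 := h p ⟨hqmin, hps⟩
    obtain ⟨s, hs⟩ := (IsLocalizedModule.eq_zero_iff p.asIdeal.primeCompl
      (LocalizedModule.mkLinearMap p.asIdeal.primeCompl M)).1 h0
    refine s.2 (hle ?_)
    rw [Submodule.mem_colon_singleton, Submodule.mem_bot]
    rw [← map_smul]
    rw [Submonoid.smul_def] at hs
    rw [hs, map_zero]

end Groth.Agent.S13995
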