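import Groth.Statements.S13996
import Mathlib.RingTheory.Ideal.AssociatedPrime.Finiteness
import Mathlib.RingTheory.Ideal.AssociatedPrime.Localization
import Mathlib.RingTheory.Regular.IsSMulRegular
import Mathlib.RingTheory.DiscreteValuationRing.TFAE
import Mathlib.RingTheory.Localization.FractionRing
import Mathlib.RingTheory.IntegralClosure.IntegrallyClosed
import Mathlib.RingTheory.Ideal.Height
import Mathlib.RingTheory.Ideal.KrullsHeightTheorem
import Mathlib.RingTheory.KrullDimension.Basic
import Mathlib.RingTheory.Localization.Integral
import Mathlib.RingTheory.IntegralClosure.Algebra.Basic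
import Mathlib.RingTheory.Localization.LocalizationLocalization
import Groth.Agent.Lib.H2Alg.NormalAss

set_option autoImplicit false
universe u
open CAlg

namespace Groth.Agent.S13996

/-- Let R be a reduced Noetherian local ring of Krull dimension one with maximal ideal m, and M a
non-zero finitely generated R-module. Then M is torsion-free in the sense that no element of m which
is a non-zero-divisor on R is a zero-divisor on M, if and only if M has depth one, i.e. some element
of m is a non-zero-divisor on M. (The published statement is for a non-zero coherent sheaf F on a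
connected reduced projective curve over a characteristic-zero algebraically closed field and asserts
the equivalence of: F torsion-free in the above sense at every closed point; F pure of dimension
one; depth of F_p equal to one at every closed point p. This row is the equivalence of the first and
third conditions at a single closed point p with F_p ≠ 0; at points outside the support the third
condition as published cannot hold, so the row assumes the stalk non-zero.) -/
theorem result (R : Type u) [CommRing R] [IsLocalRing R] [IsNoetherianRing R] [IsReduced R] (hdim : ringKrullDim R = 1) (M : Type u) [AddCommGroup M] [Module R M] [Module.Finite R M] [Nontrivial M] : (∀ r : R, r ∈ IsLocalRing.maximalIdeal R → IsSMulRegular R r → IsSMulRegular M r) ↔ (∃ x : R, x ∈ IsLocalRing.maximalIdeal R ∧ IsSMulRegular M x) := by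
  set m := IsLocalRing.maximalIdeal R
  have hmh : m.height = 1 := by
    have := IsLocalRing.maximalIdeal_height_eq_ringKrullDim (R := R)
    rw [hdim] at this
    exact_mod_cast this
  have hmin : m ∉ minimalPrimes R := fun h => by
    rw [← Ideal.height_eq_zero_iff, hmh] at h
    exact one_ne_zero h
  constructor
  · intro h
    by_contra! hc
    have hsub : (m : Set R) ⊆ ⋃ p ∈ associatedPrimes R R, (p : Set R) := fun x hx => by
      rw [biUnion_associatedPrimes_eq_compl_regular R R]
      exact fun hr => hc x hx (h x hx hr)
    obtain ⟨q, hq, hle⟩ := (Ideal.subset_union_prime_finite (associatedPrimes.finite R R) (f := id) 0 0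
      (fun p hp _ _ => hp.1)).1 hsub
    have hqm : q = m := le_antisymm (IsLocalRing.le_maximalIdeal hq.isPrime.ne_top) hle
    subst hqm
    obtain ⟨hp, y, hy⟩ := isAssociatedPrime_iff.1 hq
    have hy0 : y ≠ 0 := fun h0 => by
      apply hp.ne_top; rw [hy, eq_top_iff]; intro z _; rw [Groth.Agent.H2Alg.mem_colon_bot_singleton, h0, smul_zero]
    have hym : y ∈ m := by
      by_contra hu
      have hbot : m = ⊥ := eq_bot_iff.2 fun z hz => by
        rw [hy, Groth.Agent.H2Alg.mem_colon_bot_singleton, smul_eq_mul] at hz
        have hu' : IsUnit y := by simpa [m] using hu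
        rw [Ideal.mem_bot]; exact (hu'.mul_left_eq_zero).1 hz
      apply hmin
      exact ⟨⟨inferInstance, bot_le⟩, fun P hP _ => hbot ▸ bot_le⟩
    have := (SetLike.ext_iff.1 hy y).1 hym
    rw [Groth.Agent.H2Alg.mem_colon_bot_singleton, smul_eq_mul] at this
    exact hy0 (IsReduced.eq_zero y ⟨2, by rw [sq, this]⟩)
  · rintro ⟨x, hx, hxr⟩ r _ hrr
    by_contra hnr
    have := (Set.ext_iff.1 (biUnion_associatedPrimes_eq_compl_regular R M) r).2 hnr
    obtain ⟨q, hq, hrq⟩ := Set.mem_iUnion₂.1 this
    have hqne : q ≠ m := fun e => (Set.ext_iff.1 (biUnion_associatedPrimes_eq_compl_regular R M) x).1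
      (Set.mem_biUnion hq (e ▸ hx)) hxr
    have := hq.isPrime
    have hlt := Ideal.height_strict_mono_of_isPrime (lt_of_le_of_ne (IsLocalRing.le_maximalIdeal this.ne_top) hqne)
    rw [hmh] at hlt
    have hqmin : q ∈ minimalPrimes R := Ideal.height_eq_zero_iff.1 (ENat.lt_one_iff_eq_zero.1 hlt)
    exact Set.disjoint_left.1 (Ideal.disjoint_nonZeroDivisors_of_mem_minimalPrimes hqmin) hrq
      ((mem_nonZeroDivisors_iff_right).2 fun z hz => hrr (by simpa [mul_comm] using hz))

end Groth.Agent.S13996
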