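import Groth.Statements.S13997
-- import your own Groth.Agent.* helpers here

set_option autoImplicit false
universe u
open FlatMor

namespace Groth.Agent.S13997

open scoped Pointwise in
theorem finiteType_of_thickening {A B C : Type u} [CommRing A] [CommRing B] [CommRing C] (f : A →+* B) (q : B →+* C)
    (hq : Function.Surjective q) (hfg : (RingHom.ker q).FG) (hn : IsNilpotent (RingHom.ker q))
    (h : (q.comp f).FiniteType) : f.FiniteType := by
  classical
  algebraize [f, q.comp f]
  obtain ⟨s, hs⟩ := (show Algebra.FiniteType A C from h).1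
  obtain ⟨t, ht⟩ := hfg
  obtain ⟨g, hg⟩ := hq.hasRightInverse
  let qa : B →ₐ[A] C := { q with commutes' := fun _ => rfl }
  let S : Subalgebra A B := Algebra.adjoin A (↑(s.image g ∪ t) : Set B)
  have hS : ∀ c : C, ∃ b ∈ S, q b = c := by
    have : (⊤ : Subalgebra A C) ≤ S.map qa := by
      rw [← hs, Algebra.adjoin_le_iff]
      intro c hc
      exact ⟨g c, Algebra.subset_adjoin (by simpa using Or.inl ⟨c, hc, rfl⟩), hg c⟩
    exact fun c => this (Algebra.mem_top (x := c))
  have key : ∀ (m : ℕ) (b : B), ∃ b' ∈ S, b - b' ∈ RingHom.ker q ^ m := by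
    intro m
    induction m with
    | zero => exact fun b => ⟨0, S.zero_mem, by simp⟩
    | succ m ih =>
      cases m with
      | zero =>
        intro b
        obtain ⟨b', hb', e⟩ := hS (q b)
        exact ⟨b', hb', by simp [RingHom.mem_ker, e]⟩
      | succ m =>
        have hlift : ∀ y ∈ RingHom.ker q ^ (m + 1), ∃ b' ∈ S, y - b' ∈ RingHom.ker q ^ (m + 1 + 1) := by
          intro y hy
          have hpow : RingHom.ker q ^ (m + 1) = Ideal.span ((↑t : Set B) ^ (m + 1)) := by
            rw [← ht, Submodule.span_pow]
          rw [hpow, Ideal.span] at hy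
          induction hy using Submodule.span_induction with
          | mem x hx =>
            refine ⟨x, ?_, by simp⟩
            have : (↑t : Set B) ^ (m + 1) ⊆ (S : Set B) := by
              intro z hz
              obtain ⟨v, rfl⟩ := Set.mem_pow.1 hz
              rw [List.prod_ofFn]
              exact prod_mem fun i _ => Algebra.subset_adjoin (by simp)
            exact this hx
          | zero => exact ⟨0, S.zero_mem, by simp⟩
          | add x y _ _ hx hy =>
            obtain ⟨a, ha, ea⟩ := hx; obtain ⟨c, hc, ec⟩ := hy
            exact ⟨a + c, S.add_mem ha hc, by convert Ideal.add_mem _ ea ec using 1; ring⟩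
          | smul r x hx' hx =>
            obtain ⟨a, ha, ea⟩ := hx
            obtain ⟨r', hr', er⟩ := hS (q r)
            refine ⟨r' * a, S.mul_mem hr' ha, ?_⟩
            have h1 : r - r' ∈ RingHom.ker q := by simp [RingHom.mem_ker, er]
            have hx1 : x ∈ RingHom.ker q ^ (m + 1) := by rw [hpow]; exact hx'
            have h2 : (r - r') * x ∈ RingHom.ker q ^ (m + 1 + 1) := by
              rw [pow_succ']; exact Ideal.mul_mem_mul h1 hx1
            convert Ideal.add_mem _ h2 (Ideal.mul_mem_left _ r' ea) using 1
            rw [smul_eq_mul]; ring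
        intro b
        obtain ⟨b₁, hb₁, e₁⟩ := ih b
        obtain ⟨b₂, hb₂, e₂⟩ := hlift _ e₁
        exact ⟨b₁ + b₂, S.add_mem hb₁ hb₂, by convert e₂ using 1; ring⟩
  obtain ⟨N, hN⟩ := hn
  refine ⟨s.image g ∪ t, eq_top_iff.2 fun b _ => ?_⟩
  obtain ⟨b', hb', e⟩ := key N b
  rw [hN] at e
  have : b - b' = 0 := by simpa using e
  rw [sub_eq_zero.1 this]; exact hb'

open AlgebraicGeometry CategoryTheory in
/-- Consider a commutative square of schemes F₀ ≫ j = i ≫ F in which i : Y₀ ⟶ Y and j : X₀ ⟶ X are
closed immersions surjective on points whose ideals are locally nilpotent (nilpotent on every affine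
open), and suppose moreover that the ideal of i is of finite type (finitely generated on every
affine open of Y). Then F : Y ⟶ X is locally of finite type if and only if F₀ : Y₀ ⟶ X₀ is. The
square is not assumed cartesian and the ideal of j need not be of finite type. (The published
statement also asserts the version for morphisms of finite type; that version follows from this one,
because quasi-compactness of a morphism transfers along closed immersions surjective on points, and
it is not restated here.) -/
theorem result {X X₀ Y Y₀ : Scheme.{u}}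
    (F : Y ⟶ X) (F₀ : Y₀ ⟶ X₀) (i : Y₀ ⟶ Y) (j : X₀ ⟶ X)
    (hi : MoreMor.IsThickening i) (hj : MoreMor.IsThickening j)
    (hinil : ∀ U : Y.affineOpens, IsNilpotent (i.ker.ideal U))
    (hjnil : ∀ U : X.affineOpens, IsNilpotent (j.ker.ideal U))
    (hfg : ∀ U : Y.affineOpens, (i.ker.ideal U).FG)
    (w : F₀ ≫ j = i ≫ F) :
    LocallyOfFiniteType F ↔ LocallyOfFiniteType F₀ := by
  haveI : IsClosedImmersion i := hi.1
  haveI : IsClosedImmersion j := hj.1
  constructor
  · intro h
    haveI : LocallyOfFiniteType (F₀ ≫ j) := by rw [w]; infer_instance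
    exact locallyOfFiniteType_of_comp F₀ j
  · intro h
    haveI h' : LocallyOfFiniteType (i ≫ F) := by rw [← w]; infer_instance
    rw [HasRingHomProperty.iff_appLE (P := @LocallyOfFiniteType)]
    intro U V e
    have hV : IsAffineOpen (i ⁻¹ᵁ V.1) := V.2.preimage i
    have hcomp : (i ≫ F).appLE U.1 (i ⁻¹ᵁ V.1) (fun x hx => e hx) = F.appLE U.1 V.1 e ≫ i.app V.1 := by
      rw [Scheme.Hom.app_eq_appLE, Scheme.Hom.appLE_comp_appLE]
    have h2 := HasRingHomProperty.appLE (P := @LocallyOfFiniteType) (i ≫ F) h' U ⟨_, hV⟩ (fun x hx => e hx)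
    rw [hcomp] at h2
    exact finiteType_of_thickening (F.appLE U.1 V.1 e).hom (i.app V.1).hom
      (i.app_surjective V.1 V.2) (by rw [← i.ker_apply]; exact hfg V)
      (by rw [← i.ker_apply]; exact hinil V) h2

end Groth.Agent.S13997
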