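import Groth.Statements.S13998
import Groth.Agent.S0440
import Groth.Agent.S1304
import Groth.Agent.Lib.CI2.RImmBC

set_option autoImplicit false
universe u
open FlatMor

set_option backward.isDefEq.respectTransparency.types false

namespace Groth.Agent.S13998


open AlgebraicGeometry CategoryTheory Limits in
theorem aff_iff {X X' S S' : Scheme.{u}} (iX : X ⟶ X') (iS : S ⟶ S') (f : X ⟶ S) (f' : X' ⟶ S')
    (hX : MoreMor.IsThickening iX) (hS : MoreMor.IsThickening iS) (w : iX ≫ f' = f ≫ iS) :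
    IsAffineHom f ↔ IsAffineHom f' := by
  obtain ⟨_, _⟩ := hX
  obtain ⟨_, _⟩ := hS
  constructor
  · intro _
    refine ⟨fun V hV => ?_⟩
    have h1 : IsAffineOpen (iX ⁻¹ᵁ (f' ⁻¹ᵁ V)) := by
      rw [← Scheme.Hom.comp_preimage, w, Scheme.Hom.comp_preimage]
      exact (hV.preimage iS).preimage f
    haveI : IsAffine (iX ⁻¹ᵁ (f' ⁻¹ᵁ V) : X.Opens).toScheme := h1
    haveI : IsClosedImmersion (iX ∣_ (f' ⁻¹ᵁ V)) := IsZariskiLocalAtTarget.restrict (P := @IsClosedImmersion.{u}) inferInstance _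
    haveI : Surjective (iX ∣_ (f' ⁻¹ᵁ V)) := IsZariskiLocalAtTarget.restrict (P := @Surjective.{u}) inferInstance _
    exact Groth.Agent.S0440.result (iX ∣_ (f' ⁻¹ᵁ V)) (Surjective.surj)
  · intro _
    haveI : IsAffineHom (f ≫ iS) := by rw [← w]; infer_instance
    exact MorphismProperty.of_postcomp (W := @IsAffineHom) (W' := @IsSeparated) f iS inferInstance inferInstance
open AlgebraicGeometry CategoryTheory

open AlgebraicGeometry CategoryTheory in
/-- Consider a cartesian square of schemes F₀ ≫ j = i ≫ F (so Y₀ = Y ×_X X₀) in which i : Y₀ ⟶ Y and j :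
X₀ ⟶ X are closed immersions surjective on points whose ideals are locally nilpotent (nilpotent on
every affine open), and suppose moreover that the ideal of j is of finite type (finitely generated
on every affine open of X). Then F : Y ⟶ X is finite if and only if F₀ : Y₀ ⟶ X₀ is finite. -/
theorem result {X X₀ Y Y₀ : Scheme.{u}}
    (F : Y ⟶ X) (F₀ : Y₀ ⟶ X₀) (i : Y₀ ⟶ Y) (j : X₀ ⟶ X)
    (hi : MoreMor.IsThickening i) (hj : MoreMor.IsThickening j)
    (hinil : ∀ U : Y.affineOpens, IsNilpotent (i.ker.ideal U))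
    (hjnil : ∀ U : X.affineOpens, IsNilpotent (j.ker.ideal U))
    (hfg : ∀ U : X.affineOpens, (j.ker.ideal U).FG)
    (hc : IsPullback F₀ i j F) :
    IsFinite F ↔ IsFinite F₀ := by
  haveI := hi.1
  haveI := hj.1
  constructor
  · intro _
    exact MorphismProperty.of_isPullback (P := @IsFinite.{u}) hc.flip inferInstance
  · intro _
    haveI : IsAffineHom F := (aff_iff i j F₀ F hi hj hc.w.symm).1 inferInstance
    refine (isFinite_iff F).2 ⟨inferInstance, fun V hV => ?_⟩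
    have hW : IsAffineOpen (F ⁻¹ᵁ V) := hV.preimage F
    haveI : IsClosedImmersion (j ∣_ V) := IsZariskiLocalAtTarget.restrict (P := @IsClosedImmersion.{u}) inferInstance _
    have hk := CI2.ker_app_of_isPullback j F i F₀ hc hV hW le_rfl
    have h1 : ((i.app (F ⁻¹ᵁ V)).hom.comp (F.app V).hom).Finite := by
      have h2 : ((F₀ ≫ j).app V).hom.Finite := IsFinite.finite_app (F₀ ≫ j) V hV
      have e : (F₀ ≫ j) = i ≫ F := hc.w
      have h3 : ∀ (φ : Y₀ ⟶ X), φ = i ≫ F → (φ.app V).hom.Finite → ((i ≫ F).app V).hom.Finite := by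
        intro φ hφ h; subst hφ; exact h
      have h4 := h3 _ e h2
      rw [Scheme.Hom.comp_app] at h4
      exact h4
    letI := (F.app V).hom.toAlgebra
    letI : Algebra Γ(X, V) Γ(Y₀, i ⁻¹ᵁ (F ⁻¹ᵁ V)) := ((i.app (F ⁻¹ᵁ V)).hom.comp (F.app V).hom).toAlgebra
    let f : Γ(Y, F ⁻¹ᵁ V) →ₐ[Γ(X, V)] Γ(Y₀, i ⁻¹ᵁ (F ⁻¹ᵁ V)) :=
      { (i.app (F ⁻¹ᵁ V)).hom with commutes' := fun _ => rfl }
    haveI : Module.Finite Γ(X, V) Γ(Y₀, i ⁻¹ᵁ (F ⁻¹ᵁ V)) := h1
    refine Module.finite_of_surjective_of_ker_le_nilradical f (i.app_surjective _ hW) ?_ ?_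
    · intro x hx
      obtain ⟨n, hn⟩ := hinil ⟨F ⁻¹ᵁ V, hW⟩
      rw [Scheme.Hom.ker_apply] at hn
      refine mem_nilradical.2 ⟨n, ?_⟩
      have h5 := Ideal.pow_mem_pow (show x ∈ RingHom.ker (i.app (F ⁻¹ᵁ V)).hom from hx) n
      rw [hn] at h5
      exact h5
    · show (RingHom.ker (i.app (F ⁻¹ᵁ V)).hom).FG
      rw [hk]
      have h6 := hfg ⟨V, hV⟩
      rw [Scheme.Hom.ker_apply] at h6
      exact h6.map _

end Groth.Agent.S13998
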