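import Groth.Statements.S13999
import Mathlib
import Groth.Agent.Lib.RelFrobAlg28.Main
import Groth.Agent.Lib.RelFrobAlg28.Rank
import Groth.Agent.Lib.RelFrob23.Basic

set_option autoImplicit false
universe u
open FrobAlg TensorProduct

namespace Groth.Agent.S13999

theorem finrank_point (p : ℕ) [Fact p.Prime]
    (A : Type u) [CommRing A] [CharP A p] (B : Type u) [CommRing B] [Algebra A B] [CharP B p]
    [Algebra.Smooth A B] (r : ℕ)
    (hr : ∀ q : PrimeSpectrum B, Module.rankAtStalk (R := B) (KaehlerDifferential A B) q = r)
    (hfin : letI := (FrobAlg.relFrob p A B).toAlgebra; Module.Finite (FrobAlg.BaseChange p A B) B)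
    (K : Type u) [Field K] [CharP K p] [PerfectRing K p] [Algebra (FrobAlg.BaseChange p A B) K] :
    letI := (FrobAlg.relFrob p A B).toAlgebra
    Module.finrank K (K ⊗[FrobAlg.BaseChange p A B] B) = p ^ r := by
  letI := (FrobAlg.relFrob p A B).toAlgebra
  haveI := hfin
  haveI : ExpChar K p := ExpChar.prime Fact.out
  let f : A →+* FrobAlg.BaseChange p A B :=
    (algebraMap (FrobAlg.Twist p A) (FrobAlg.BaseChange p A B)).comp (FrobAlg.toTwist p A : A →+* FrobAlg.Twist p A)
  have hgf : (FrobAlg.relFrob p A B).comp f = algebraMap A B := by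
    refine RingHom.ext fun a => ?_
    show FrobAlg.relFrob p A B ((1 : B) ⊗ₜ[A] (FrobAlg.toTwist p A a)) = algebraMap A B a
    rw [RelFrob23.relFrob_one_tmul, RingEquiv.symm_apply_apply]
  let χ := algebraMap (FrobAlg.BaseChange p A B) K
  -- the `A`-linear point of `B` above the geometric point
  let s : B →+* K := (frobeniusEquiv K p).symm.toRingHom.comp (χ.comp Algebra.TensorProduct.includeLeftRingHom)
  have hs : ∀ b, s b ^ p = χ (b ⊗ₜ 1) := fun b => frobeniusEquiv_symm_pow_p K p _
  letI : Algebra B K := s.toAlgebra
  letI : Algebra A K := (s.comp (algebraMap A B)).toAlgebra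
  haveI : IsScalarTower A B K := IsScalarTower.of_algebraMap_eq fun _ => rfl
  have hsA : ∀ a : A, s (algebraMap A B a) = χ (f a) := by
    intro a
    apply frobenius_inj K p
    rw [frobenius_def, frobenius_def, hs, ← map_pow]
    congr 1
    show algebraMap A B a ⊗ₜ[A] (1 : FrobAlg.Twist p A) = ((1 : B) ⊗ₜ[A] FrobAlg.toTwist p A a) ^ p
    rw [Algebra.TensorProduct.tmul_pow, one_pow, Algebra.algebraMap_eq_smul_one, TensorProduct.smul_tmul,
      Algebra.smul_def, mul_one, FrobAlg.algebraMap_twist, map_pow]
  haveI : IsScalarTower (FrobAlg.BaseChange p A B) B K := IsScalarTower.of_algebraMap_eq fun x => by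
    show χ x = s (FrobAlg.relFrob p A B x)
    induction x using TensorProduct.induction_on with
    | zero => simp
    | add u v hu hv => simp only [map_add, hu, hv]
    | tmul b a =>
      rw [RelFrob23.relFrob_tmul, map_mul, map_pow, hs, hsA, ← map_mul]
      congr 1
      show b ⊗ₜ[A] a = (b ⊗ₜ[A] 1) * ((1 : B) ⊗ₜ[A] FrobAlg.toTwist p A ((FrobAlg.toTwist p A).symm a))
      rw [RingEquiv.apply_symm_apply, Algebra.TensorProduct.tmul_mul_tmul, mul_one, one_mul]
  refine RelFrobAlg28.finrank_eq_of_field p r K (A := A) (P := FrobAlg.BaseChange p A B) (B := B)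
    (fun a => ⟨f a, DFunLike.congr_fun hgf a⟩) (fun b => ⟨b ⊗ₜ 1, RelFrob23.relFrob_tmul_one p A B b⟩) (fun x => ?_) ?_
  · show FrobAlg.relFrob p A B x ∈ _
    induction x using TensorProduct.induction_on with
    | zero => simp
    | add u v hu hv => rw [map_add]; exact add_mem hu hv
    | tmul b a =>
      rw [RelFrob23.relFrob_tmul]
      exact mul_mem (Algebra.subset_adjoin ⟨b, rfl⟩) (Subalgebra.algebraMap_mem _ _)
  · haveI : Module.Free K (K ⊗[B] KaehlerDifferential A B) := Module.Free.of_divisionRing K _
    have h1 := Module.rankAtStalk_baseChange (M := KaehlerDifferential A B) (⊥ : PrimeSpectrum K) (R := B)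
    rw [Module.rankAtStalk_eq_finrank_of_free, hr] at h1
    simpa using h1

/-- Let p be a prime, A a commutative ring of characteristic p and B a smooth A-algebra (of
characteristic p) such that the Kähler differentials Ω_{B/A} have rank r at every prime of B, i.e. B
is smooth of relative dimension r over A. Regard B as an algebra over its Frobenius twist B^{(p)} =
B ⊗_{A,Frob} A through the relative Frobenius b ⊗ a ↦ b^p a. Then B is a finite projective
B^{(p)}-module whose rank at every prime of B^{(p)} is p^r: the relative Frobenius is finite and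
locally free of rank p^r. -/
theorem result (p : ℕ) [Fact p.Prime]
    (A : Type u) [CommRing A] [CharP A p] (B : Type u) [CommRing B] [Algebra A B] [CharP B p]
    [Algebra.Smooth A B] (r : ℕ)
    (hr : ∀ q : PrimeSpectrum B, Module.rankAtStalk (R := B) (KaehlerDifferential A B) q = r) :
    letI := (FrobAlg.relFrob p A B).toAlgebra
    Module.Finite (FrobAlg.BaseChange p A B) B ∧ Module.Projective (FrobAlg.BaseChange p A B) B ∧
      ∀ q : PrimeSpectrum (FrobAlg.BaseChange p A B),
        Module.rankAtStalk (R := FrobAlg.BaseChange p A B) B q = p ^ r := by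
  letI := (FrobAlg.relFrob p A B).toAlgebra
  have halg : algebraMap (FrobAlg.BaseChange p A B) B = FrobAlg.relFrob p A B := rfl
  have hflat : Module.Flat (FrobAlg.BaseChange p A B) B := RelFrobAlg28.flat_relFrob p
  let f : A →+* FrobAlg.BaseChange p A B :=
    (algebraMap (FrobAlg.Twist p A) (FrobAlg.BaseChange p A B)).comp (FrobAlg.toTwist p A : A →+* FrobAlg.Twist p A)
  have hgf : (FrobAlg.relFrob p A B).comp f = algebraMap A B := by
    refine RingHom.ext fun a => ?_
    show FrobAlg.relFrob p A B ((1 : B) ⊗ₜ[A] (FrobAlg.toTwist p A a)) = algebraMap A B a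
    rw [RelFrob23.relFrob_one_tmul, RingEquiv.symm_apply_apply]
  have hfP : ((FrobAlg.relFrob p A B).comp f).FinitePresentation := by
    rw [hgf]; exact RingHom.finitePresentation_algebraMap.mpr inferInstance
  have hf : f.FiniteType := by
    refine RingHom.FiniteType.comp ?_ (RingHom.FiniteType.of_surjective _ (FrobAlg.toTwist p A).surjective)
    rw [RingHom.finiteType_algebraMap]
    exact Algebra.FiniteType.equiv (inferInstance : Algebra.FiniteType (FrobAlg.Twist p A) (FrobAlg.Twist p A ⊗[A] B))
      (Algebra.TensorProduct.commRight A (FrobAlg.Twist p A) B)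
  have hfin : Module.Finite (FrobAlg.BaseChange p A B) B :=
    RingHom.IsIntegral.to_finite (RelFrob23.isIntegral_relFrob p A B)
      (RingHom.FiniteType.of_comp_finiteType (RingHom.FiniteType.of_finitePresentation hfP))
  haveI : Algebra.FinitePresentation (FrobAlg.BaseChange p A B) B :=
    RingHom.FinitePresentation.of_comp_finiteType f hfP hf
  haveI := hflat
  haveI := hfin
  haveI : Module.FinitePresentation (FrobAlg.BaseChange p A B) B :=
    Module.FinitePresentation.of_finite_of_finitePresentation _ _
  haveI hproj : Module.Projective (FrobAlg.BaseChange p A B) B := Module.Flat.projective_of_finitePresentation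
  refine ⟨hfin, hproj, fun q => ?_⟩
  let K := AlgebraicClosure q.asIdeal.ResidueField
  haveI : CharP K p := by
    rw [← CharP.charP_iff_prime_eq_zero (Fact.out : p.Prime) |>.symm]
    rw [← map_natCast (algebraMap (FrobAlg.BaseChange p A B) K) p, RelFrob23.natCast_baseChange, map_zero]
  haveI : ExpChar K p := ExpChar.prime Fact.out
  haveI : PerfectRing K p := inferInstance
  have hcomap : (⊥ : PrimeSpectrum K).comap (algebraMap (FrobAlg.BaseChange p A B) K) = q := by
    refine PrimeSpectrum.ext ?_
    show Ideal.comap _ ⊥ = _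
    rw [IsScalarTower.algebraMap_eq (FrobAlg.BaseChange p A B) q.asIdeal.ResidueField K, ← RingHom.ker_eq_comap_bot,
      RingHom.ker_comp_of_injective _ (algebraMap q.asIdeal.ResidueField K).injective, Ideal.ker_algebraMap_residueField]
  conv_lhs => rw [← hcomap, ← Module.rankAtStalk_baseChange, Module.rankAtStalk_eq_finrank_of_free, Pi.natCast_apply]
  simp only [Nat.cast_id]
  exact finrank_point p A B r hr hfin K

end Groth.Agent.S13999
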