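import Groth.Statements.S14000
import Mathlib.Algebra.Homology.ShortComplex.ModuleCat
import Mathlib.Algebra.BigOperators.Finprod
import Mathlib.RingTheory.LocalRing.Module
import Mathlib.RingTheory.LocalProperties.Projective
import Mathlib.Data.Int.Interval
-- import your own Groth.Agent.* helpers here

set_option autoImplicit false
universe u
open Perf

namespace Groth.Agent.S14000

section generic

variable {R : Type u} [CommRing R] [IsLocalRing R] {N : ℤ → Type u} [∀ i, AddCommGroup (N i)]
  [∀ i, Module R (N i)] [∀ i, Module.Finite R (N i)] [∀ i, Module.Projective R (N i)]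
  (f : ∀ i, N i →ₗ[R] N (i + 1))

theorem euler_eq_zero (s : Finset ℤ) (hs : ∀ i, i ∉ s → Subsingleton (N i))
    (hex : ∀ i, LinearMap.range (f i) = LinearMap.ker (f (i + 1))) :
    (∑ i ∈ s, ((i.negOnePow : ℤˣ) : ℤ) * (Module.finrank R (N i) : ℤ)) = 0 := by
  classical
  let K : ∀ i, Submodule R (N i) := fun i => LinearMap.ker (f i)
  have hsub : ∀ i, i ∉ s → Subsingleton ↥(K i) := fun i hi => by
    have := hs i hi
    infer_instance
  have step : ∀ i, Module.Finite R ↥(K (i + 1)) ∧ Module.Projective R ↥(K (i + 1)) →
      (Module.Finite R ↥(K i) ∧ Module.Projective R ↥(K i)) ∧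
        Module.finrank R (N i) = Module.finrank R ↥(K i) + Module.finrank R ↥(K (i + 1)) := by
    intro i ⟨h1, h2⟩
    let g : N i →ₗ[R] ↥(K (i + 1)) :=
      (f i).codRestrict (K (i + 1)) fun x => by
        change f i x ∈ LinearMap.ker (f (i + 1))
        rw [← hex]; exact LinearMap.mem_range_self _ x
    have hg : Function.Surjective g := by
      rintro ⟨y, hy⟩
      have hy' : y ∈ LinearMap.range (f i) := by rw [hex]; exact hy
      obtain ⟨x, hx⟩ := hy'
      exact ⟨x, Subtype.ext hx⟩
    obtain ⟨σ, hσ⟩ := Module.projective_lifting_property g LinearMap.id hg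
    have hσ' : ∀ y, f i (σ y) = (y : N (i + 1)) := fun y =>
      congrArg Subtype.val (LinearMap.congr_fun hσ y)
    let π : N i →ₗ[R] ↥(K i) := (LinearMap.id - σ ∘ₗ g).codRestrict (K i) fun x => by
      change f i (x - σ (g x)) = 0
      rw [map_sub, hσ']
      exact sub_self _
    have hπ : π ∘ₗ (K i).subtype = LinearMap.id := by
      ext ⟨x, hx⟩
      have : g x = 0 := Subtype.ext hx
      simp [π, this]
    have hfin : Module.Finite R ↥(K i) :=
      Module.Finite.of_surjective π fun x => ⟨x, LinearMap.congr_fun hπ x⟩
    have hproj : Module.Projective R ↥(K i) := Module.Projective.of_split _ π hπ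
    have : Module.Free R ↥(K i) := Module.free_of_flat_of_isLocalRing
    have : Module.Free R ↥(K (i + 1)) := Module.free_of_flat_of_isLocalRing
    refine ⟨⟨hfin, hproj⟩, ?_⟩
    let e : N i ≃ₗ[R] ↥(K i) × ↥(K (i + 1)) :=
      LinearEquiv.ofLinear (π.prod g) ((K i).subtype.coprod σ)
        (LinearMap.ext fun ⟨x, y⟩ => by
          have hgx : g (x : N i) = 0 := Subtype.ext x.2
          have hgy : g (σ y) = y := LinearMap.congr_fun hσ y
          refine Prod.ext (Subtype.ext ?_) ?_
          · simp [π, hgx, hgy]
          · simp [hgx, hgy])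
        (LinearMap.ext fun x => by simp [π])
    rw [e.finrank_eq, Module.finrank_prod]
  obtain ⟨b, hb⟩ : ∃ b : ℤ, ∀ i, b ≤ i → i ∉ s := by
    obtain ⟨b, hb⟩ := s.bddAbove
    exact ⟨b + 1, fun i hi his => by have := hb his; omega⟩
  have hproj : ∀ (n : ℕ) (i : ℤ), b - i ≤ n → Module.Finite R ↥(K i) ∧ Module.Projective R ↥(K i) := by
    intro n
    induction n with
    | zero =>
      intro i hi
      have := hsub i (hb i (by omega))
      exact ⟨inferInstance, inferInstance⟩
    | succ n ih => exact fun i hi => (step i (ih (i + 1) (by omega))).1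
  have hrank : ∀ i, Module.finrank R (N i) =
      Module.finrank R ↥(K i) + Module.finrank R ↥(K (i + 1)) :=
    fun i => (step i (hproj (b - (i + 1)).toNat (i + 1) (by omega))).2
  let g : ℤ → ℤ := fun i => ((i.negOnePow : ℤˣ) : ℤ) * (Module.finrank R ↥(K i) : ℤ)
  have hg : (Function.support g).Finite := by
    refine s.finite_toSet.subset fun i hi => ?_
    by_contra h
    have := hsub i h
    exact hi (by simp [g, Module.finrank_zero_of_subsingleton])
  have hg' : (Function.support fun i => g (i + 1)).Finite :=
    hg.preimage (fun i _ j _ h => by simpa using h)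
  have hterm : ∀ i, ((i.negOnePow : ℤˣ) : ℤ) * (Module.finrank R (N i) : ℤ) = g i - g (i + 1) := by
    intro i
    simp only [g, hrank i, Int.negOnePow_succ, Units.val_neg, Nat.cast_add]
    ring
  calc _ = ∑ᶠ i, ((i.negOnePow : ℤˣ) : ℤ) * (Module.finrank R (N i) : ℤ) :=
        (finsum_eq_sum_of_support_subset _ fun i hi => by
          by_contra h
          have := hs i h
          exact hi (by simp [Module.finrank_zero_of_subsingleton])).symm
    _ = ∑ᶠ i, (g i - g (i + 1)) := finsum_congr hterm
    _ = 0 := by
      rw [finsum_sub_distrib hg hg',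
        show (∑ᶠ i, g (i + 1)) = ∑ᶠ i, g i from finsum_comp_equiv (Equiv.addRight (1 : ℤ)), sub_self]

end generic


open CategoryTheory CategoryTheory.Limits in
/-- Let A be a commutative ring and P a strictly perfect complex over A, that is a cochain complex of
finitely generated projective A-modules which is zero outside a finite set s of degrees. Suppose the
cohomological support of P has positive codimension: for every minimal prime q of A and every degree
i the localization at q of the cohomology module H^i(P) is zero. Then the Euler characteristic of P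
vanishes identically: at every prime of A the alternating sum over i ∈ s of the ranks of the P^i is
zero. -/
theorem result {A : Type u} [CommRing A]
    (P : CochainComplex (ModuleCat.{u} A) ℤ) (s : Finset ℤ)
    (hP : ∀ i : ℤ, Module.Finite A (P.X i) ∧ Module.Projective A (P.X i))
    (hs : ∀ i : ℤ, i ∉ s → IsZero (P.X i))
    (hsupp : ∀ q : PrimeSpectrum A, q.asIdeal ∈ minimalPrimes A →
      ∀ i : ℤ, Subsingleton (LocalizedModule q.asIdeal.primeCompl (P.homology i))) :
    ∀ x : PrimeSpectrum A,
      (s.sum fun i => ((i.negOnePow : ℤˣ) : ℤ) * (Module.rankAtStalk (R := A) (P.X i) x : ℤ)) = 0 := by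
  intro x
  obtain ⟨q, hqmin, hqx⟩ := Ideal.exists_minimalPrimes_le (I := (⊥ : Ideal A)) (J := x.asIdeal) bot_le
  have hqmin' : q ∈ minimalPrimes A := hqmin
  let Q : PrimeSpectrum A := ⟨q, hqmin.1.1⟩
  have hQp : Q.asIdeal.IsPrime := hqmin.1.1
  have hspec : Q ⤳ x := (PrimeSpectrum.le_iff_specializes Q x).1 hqx
  have hrk : ∀ i, Module.rankAtStalk (R := A) (P.X i) x = Module.rankAtStalk (R := A) (P.X i) Q := by
    intro i
    have := (hP i).1; have := (hP i).2
    have : Module.FinitePresentation A (P.X i) := Module.finitePresentation_of_projective A (P.X i)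
    have hU := (Module.isLocallyConstant_rankAtStalk (R := A) (M := P.X i))
      {Module.rankAtStalk (R := A) (P.X i) x}
    exact (hspec.mem_open hU rfl : _).symm
  simp only [hrk]
  let S := Q.asIdeal.primeCompl
  let N : ℤ → Type u := fun i => LocalizedModule S (P.X i)
  have : ∀ i, Module.Finite A (P.X i) := fun i => (hP i).1
  have : ∀ i, Module.Projective A (P.X i) := fun i => (hP i).2
  let d : ∀ i, N i →ₗ[Localization.AtPrime Q.asIdeal] N (i + 1) := fun i =>
    LocalizedModule.map S (P.d i (i + 1)).hom
  refine euler_eq_zero (N := N) d s (fun i hi => ?_) (fun i => ?_)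
  · have : Subsingleton (P.X i) := ModuleCat.subsingleton_of_isZero (hs i hi)
    infer_instance
  · refine le_antisymm ?_ ?_
    · rintro _ ⟨z, rfl⟩
      induction z using LocalizedModule.induction_on with
      | h m t =>
        have hz : (P.d (i + 1) (i + 1 + 1)).hom ((P.d i (i + 1)).hom m) = 0 := by
          rw [← ModuleCat.comp_apply, P.d_comp_d]; rfl
        exact ((congrArg (d (i + 1)) (LocalizedModule.map_mk _ _ _ _)).trans
          (LocalizedModule.map_mk _ _ _ _)).trans (hz.symm ▸ LocalizedModule.zero_mk t)
    · intro z hz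
      induction z using LocalizedModule.induction_on with
      | h m t =>
        have hz' : LocalizedModule.mk ((P.d (i + 1) (i + 1 + 1)).hom m) t =
            (0 : LocalizedModule S (P.X (i + 1 + 1))) := by
          exact (LocalizedModule.map_mk _ _ _ _).symm.trans hz
        rw [← LocalizedModule.zero_mk t, LocalizedModule.mk_eq] at hz'
        obtain ⟨u, hu⟩ := hz'
        simp only [Submonoid.smul_def, smul_zero] at hu
        let T := P.sc' i (i + 1) (i + 1 + 1)
        have hiso : P.homology (i + 1) ≅ T.moduleCatLeftHomologyData.H :=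
          ShortComplex.homologyMapIso (P.isoSc' i (i + 1) (i + 1 + 1) (by simp) (by simp)) ≪≫
            T.moduleCatHomologyIso
        have hmem : (u : A) • (t : A) • m ∈ LinearMap.ker T.g.hom := by
          change (P.d (i + 1) (i + 1 + 1)).hom ((u : A) • (t : A) • m) = 0
          rw [map_smul, map_smul]; exact hu
        obtain ⟨v, hv, hv'⟩ := LocalizedModule.subsingleton_iff.1 (hsupp Q hqmin' (i + 1))
          (hiso.inv (Submodule.Quotient.mk ⟨_, hmem⟩))
        have hv'' := congrArg hiso.hom hv'
        simp only [map_smul, map_zero, Iso.inv_hom_id_apply] at hv''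
        obtain ⟨y, hy⟩ := (Submodule.Quotient.mk_eq_zero _).1
          ((Submodule.Quotient.mk_smul _ v _).trans hv'')
        have hy' : (P.d i (i + 1)).hom y = v • (u : A) • (t : A) • m := congrArg Subtype.val hy
        refine ⟨LocalizedModule.mk y (⟨v, hv⟩ * u * t * t), ?_⟩
        rw [show d i _ = _ from LocalizedModule.map_mk _ _ _ _, hy', LocalizedModule.mk_eq]
        exact ⟨1, by simp [Submonoid.smul_def, smul_smul, mul_comm, mul_left_comm, mul_assoc]⟩

end Groth.Agent.S14000
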