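import Groth.Statements.S14001
import Groth.Agent.Lib.TorBal.Perfect
import Groth.Agent.Lib.CI2.Bridge
import Groth.Agent.Lib.HilbSam.Poly
import Groth.Agent.Lib.K0Cat.Basic

set_option autoImplicit false
set_option linter.unusedSectionVars false
set_option linter.style.haveILetI false
universe u
open CategoryTheory
attribute [local instance] HasDerivedCategory.standard
open KZero

namespace Groth.Agent.S14001

open CategoryTheory.Limits CategoryTheory.Pretriangulated Groth.Agent.DMod Groth.Agent.DBaseChange

variable {R : Type u} [CommRing R] [IsLocalRing R]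

/-- Perfect and supported at the closed point. -/
abbrev Sup (R : Type u) [CommRing R] [IsLocalRing R] : ObjectProperty (Dual.D R) := fun K =>
  DRing.IsPerfect R K ∧ ∀ i : ℤ, Module.support R (Dual.HD R K i) ⊆ {IsLocalRing.closedPoint R}

theorem support_subsingleton {M : Type u} [AddCommGroup M] [Module R M] [Subsingleton M] :
    Module.support R M ⊆ {IsLocalRing.closedPoint R} := by
  rw [Module.support_eq_empty]
  exact Set.empty_subset _

theorem sup_of_isZero {K : Dual.D R} (hK : IsZero K) : Sup R K :=
  ⟨isPerfect_of_isZero hK, fun i =>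
    have := ModuleCat.subsingleton_of_isZero ((HH i).map_isZero hK)
    support_subsingleton⟩

theorem sup_of_iso {K L : Dual.D R} (e : K ≅ L) (h : Sup R K) : Sup R L :=
  ⟨isPerfect_of_iso e h.1, fun i => by
    rw [← LinearEquiv.support_eq ((HH i).mapIso e).toLinearEquiv]
    exact h.2 i⟩

theorem sup_shift {K : Dual.D R} (n : ℤ) (h : Sup R K) : Sup R (K⟦n⟧) :=
  ⟨isPerfect_shift n h.1, fun i =>
    (LinearEquiv.support_eq
      ((((DerivedCategory.homologyFunctor (ModuleCat.{u} R) 0).shiftIso n i (n + i) rfl).app K).toLinearEquiv)).trans_subset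
      (h.2 _)⟩

theorem sup_triangle₂ (T : Triangle (Dual.D R)) (hT : T ∈ distTriang _) (h₁ : Sup R T.obj₁) (h₃ : Sup R T.obj₃) :
    Sup R T.obj₂ := by
  refine ⟨isPerfect_triangle₂ T hT h₁.1 h₃.1, fun i p hp => ?_⟩
  have ex := (ShortComplex.ShortExact.moduleCat_exact_iff_function_exact _).1
    (DerivedCategory.HomologySequence.exact₂ T hT i)
  by_contra hne
  have e₁ := Module.notMem_support_iff'.1 (fun h => hne (h₁.2 i h))
  have e₃ := Module.notMem_support_iff'.1 (fun h => hne (h₃.2 i h))
  refine Module.notMem_support_iff'.2 (fun m => ?_) hp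
  obtain ⟨r, hr, hrm⟩ := e₃ (((HH i).map T.mor₂).hom m)
  obtain ⟨y, hy⟩ := (ex (r • m)).1 (by rw [map_smul]; exact hrm)
  obtain ⟨s, hs, hsy⟩ := e₁ y
  refine ⟨s * r, fun h => (p.isPrime.mem_or_mem h).elim hs hr, ?_⟩
  rw [mul_smul, ← hy, ← map_smul, hsy, map_zero]

/-- In the subgroup. -/
def Good (H : AddSubgroup (KZero.K0tr (Sup R))) (K : Dual.D R) : Prop :=
  Sup R K ∧ KZero.clTr (Sup R) K ∈ H

variable {H : AddSubgroup (KZero.K0tr (Sup R))}

theorem good_of_isZero {K : Dual.D R} (hK : IsZero K) : Good H K :=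
  ⟨sup_of_isZero hK, by rw [K0Cat.clTr_of_isZero hK (sup_of_isZero hK)]; exact H.zero_mem⟩

theorem good_of_iso {K L : Dual.D R} (e : K ≅ L) (h : Good H K) : Good H L :=
  ⟨sup_of_iso e h.1, by
    rw [← K0Cat.clTr_iso e (isZero_zero _) h.1 (sup_of_iso e h.1) (sup_of_isZero (isZero_zero _))]
    exact h.2⟩

theorem good_ext (T : Triangle (Dual.D R)) (hT : T ∈ distTriang _) (h₁ : Good H T.obj₁) (h₃ : Good H T.obj₃) :
    Good H T.obj₂ :=
  have h₂ := sup_triangle₂ T hT h₁.1 h₃.1
  ⟨h₂, by rw [K0Cat.clTr_tri T hT h₁.1 h₂ h₃.1]; exact H.add_mem h₁.2 h₃.2⟩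

theorem good_shift_one {K : Dual.D R} (h : Good H K) : Good H (K⟦(1 : ℤ)⟧) :=
  ⟨sup_shift 1 h.1, by
    rw [K0Cat.clTr_shift_one (isZero_zero _) h.1 (sup_shift 1 h.1) (sup_of_isZero (isZero_zero _))]
    exact H.neg_mem h.2⟩

theorem good_shift {K : Dual.D R} (n : ℤ) (h : Good H K) : Good H (K⟦n⟧) := by
  induction n using Int.induction_on with
  | zero => exact good_of_iso ((shiftFunctorZero (Dual.D R) ℤ).app K).symm h
  | succ n ih => exact good_of_iso ((shiftFunctorAdd (Dual.D R) (n : ℤ) 1).app K).symm (good_shift_one ih)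
  | pred n ih =>
    refine ⟨sup_shift _ h.1, ?_⟩
    have e : (K⟦(-(n : ℤ) - 1)⟧)⟦(1 : ℤ)⟧ ≅ K⟦(-(n : ℤ))⟧ :=
      ((shiftFunctorAdd' (Dual.D R) (-(n : ℤ) - 1) 1 (-(n : ℤ)) (by omega)).app K).symm
    have hs := sup_shift (1 : ℤ) (sup_shift (-(n : ℤ) - 1) h.1)
    have := K0Cat.clTr_iso e (isZero_zero _) hs (sup_shift _ h.1) (sup_of_isZero (isZero_zero _))
    rw [K0Cat.clTr_shift_one (isZero_zero _) (sup_shift _ h.1) hs (sup_of_isZero (isZero_zero _))] at this
    rw [← neg_neg (KZero.clTr _ _)]
    exact H.neg_mem (this ▸ ih.2)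

theorem good_module (hk : Good H ((single 0).obj (ModuleCat.of R (R ⧸ IsLocalRing.maximalIdeal R))))
    (M : Type u) [AddCommGroup M] [Module R M] (hM : IsFiniteLength R M) :
    Good H ((single 0).obj (ModuleCat.of R M)) := by
  induction hM with
  | of_subsingleton => exact good_of_isZero ((single 0).map_isZero (ModuleCat.isZero_of_subsingleton _))
  | @of_simple_quotient M _ _ N hs _ ih =>
    let S := ShortComplex.mk (ModuleCat.ofHom N.subtype) (ModuleCat.ofHom N.mkQ)
      (by ext x; simp)
    have hS : S.ShortExact :=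
      { exact := (ShortComplex.ShortExact.moduleCat_exact_iff_function_exact S).2 (LinearMap.exact_subtype_mkQ N)
        mono_f := (ModuleCat.mono_iff_injective _).2 N.injective_subtype
        epi_g := (ModuleCat.epi_iff_surjective _).2 N.mkQ_surjective }
    obtain ⟨J, hJ, ⟨e⟩⟩ := isSimpleModule_iff_quot_maximal.1 hs
    have e' := e.trans (Submodule.quotEquivOfEq _ _ (IsLocalRing.eq_maximalIdeal hJ))
    exact good_ext _ hS.singleTriangle_distinguished ih (good_of_iso ((single 0).mapIso e'.symm.toModuleIso) hk)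

theorem finite_KObj (l : List R) : ∀ n : ℕ, Module.Finite R (CanElt.KObj R R l n) := by
  induction l with
  | nil =>
    intro n
    cases n with
    | zero => exact Module.Finite.self R
    | succ n => exact (inferInstance : Module.Finite R PUnit.{u + 1})
  | cons f l ih =>
    intro n
    cases n with
    | zero => exact ih 0
    | succ n =>
      have := ih (n + 1)
      have := ih n
      exact inferInstanceAs (Module.Finite R (CanElt.KObj R R l (n + 1) × CanElt.KObj R R l n))

theorem isPerfect_koszul (l : List R) : DRing.IsPerfect R (DRing.toD (Koszul.koszul R l)) := by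
  refine ⟨Koszul.koszul R l, -(l.length : ℤ), 0, fun i hi => ?_, fun i => ?_, ⟨Iso.refl _⟩⟩
  · rcases hi with hi | hi
    · have := CanElt.subsingleton_KObj R R l (-i).toNat (by omega)
      have := (CI2.kEquiv R l (-i).toNat i (by omega)).toEquiv.subsingleton
      exact ModuleCat.isZero_of_subsingleton _
    · exact CI2.isZero_X_of_pos R l i hi
  · by_cases hi : 0 < i
    · have := ModuleCat.subsingleton_of_isZero (CI2.isZero_X_of_pos R l i hi)
      exact modClass_finiteProjective.subsingleton _
    · let e := CI2.kEquiv R l (-i).toNat i (by omega)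
      have := finite_KObj l (-i).toNat
      have := CanElt.projective_KObj R R l (-i).toNat
      exact ⟨Module.Finite.equiv e.symm, Module.Projective.of_equiv e.symm⟩

theorem reg_of_regular_reverse : ∀ l : List R, RingTheory.Sequence.IsWeaklyRegular R l.reverse →
    CanElt.Reg R R l
  | [], _ => trivial
  | f :: l, h => by
    rw [List.reverse_cons, RingTheory.Sequence.isWeaklyRegular_append_iff] at h
    refine ⟨reg_of_regular_reverse l h.1, fun m hm => ?_⟩
    have e : Ideal.ofList l.reverse = Ideal.ofList l := by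
      simp only [Ideal.ofList, List.mem_reverse]
    have h2 := (RingTheory.Sequence.isWeaklyRegular_singleton_iff _ f).1 h.2
    rw [← e] at hm ⊢
    refine (Submodule.Quotient.mk_eq_zero _).1 (h2 ?_)
    change f • Submodule.Quotient.mk m = f • (0 : R ⧸ (Ideal.ofList l.reverse • ⊤ : Submodule R R))
    rw [smul_zero, ← Submodule.Quotient.mk_smul, Submodule.Quotient.mk_eq_zero]
    exact hm

theorem nonempty_homology_zero (l : List R) :
    Nonempty ((Koszul.koszul R l).homology 0 ≅ ModuleCat.of R (R ⧸ Ideal.ofList l)) := by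
  let K := Koszul.koszul R l
  let S := K.sc' (-1) 0 1
  have hg : S.g = 0 := (CI2.isZero_X_of_pos R l 1 (by omega)).eq_of_tgt _ _
  let π : S.X₂ ⟶ ModuleCat.of R (R ⧸ Ideal.ofList l) :=
    ModuleCat.ofHom (X := S.X₂) ((Ideal.ofList l).mkQ ∘ₗ
      ((CI2.kEquiv R l 0 0 (by omega)).trans (CanElt.k0 R R l)).toLinearMap)
  have hex : Function.Exact S.f.hom π.hom := fun x => by
    have hd : ∀ w, CI2.kEquiv R l 0 0 (by omega) ((K.d (-1) 0).hom w) =
        CanElt.kd R R l 0 (CI2.kEquiv R l 1 (-1) (by omega) w) := fun w =>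
      CI2.kEquiv_d R l 0 (-1) (by omega) w
    have htop : Ideal.ofList l • (⊤ : Submodule R R) = Ideal.ofList l := by simp
    have hm := CanElt.mem_range_kd_zero R R l (CI2.kEquiv R l 0 0 (by omega) x)
    rw [htop] at hm
    refine ((Submodule.Quotient.mk_eq_zero _).trans hm.symm).trans ⟨?_, ?_⟩
    · rintro ⟨z, hz⟩
      refine ⟨(CI2.kEquiv R l 1 (-1) (by omega)).symm z, (CI2.kEquiv R l 0 0 (by omega)).injective ?_⟩
      exact (hd _).trans (by rw [LinearEquiv.apply_symm_apply]; exact hz)
    · rintro ⟨w, rfl⟩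
      exact ⟨_, (hd w).symm⟩
  have hπ : Function.Surjective π.hom :=
    (Submodule.mkQ_surjective _).comp ((CI2.kEquiv R l 0 0 (by omega)).trans (CanElt.k0 R R l)).surjective
  let T := ShortComplex.mk S.f π (ModuleCat.hom_ext (LinearMap.ext fun w => hex.apply_apply_eq_zero w))
  have hT : T.Exact := (ShortComplex.ShortExact.moduleCat_exact_iff_function_exact T).2 hex
  haveI : Epi T.g := (ModuleCat.epi_iff_surjective π).2 hπ
  let d := ShortComplex.LeftHomologyData.ofIsColimitCokernelCofork S hg
    (CokernelCofork.ofπ π T.zero) hT.gIsCokernel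
  exact ⟨(HomologicalComplex.homologyIsoSc' K (-1) 0 1 (by simp) (by simp)) ≪≫ d.homologyIso⟩

theorem nonempty_koszul_iso [IsNoetherianRing R] (fs : List R) (hreg : RingTheory.Sequence.IsRegular R fs)
    (hgen : Ideal.ofList fs = IsLocalRing.maximalIdeal R) :
    Nonempty (DRing.toD (Koszul.koszul R fs) ≅
      (single 0).obj (ModuleCat.of R (R ⧸ IsLocalRing.maximalIdeal R))) := by
  have hk : LCI.IsKoszulRegularSeq R fs := (CI2.isKoszulRegularSeq_iff R fs).2
    (CanElt.exact_of_reg R R fs (reg_of_regular_reverse fs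
      (IsLocalRing.isRegular_of_perm hreg (List.reverse_perm fs).symm).toIsWeaklyRegular))
  let K := DRing.toD (Koszul.koszul R fs)
  have hz : ∀ i : ℤ, i ≠ 0 → Subsingleton (Dual.HD R K i) := fun i hi =>
    (subsingleton_HD_toD_iff _ i).2 (ModuleCat.subsingleton_of_isZero (hk i hi))
  haveI : K.IsLE 0 := (isLE_iff K 0).2 fun i hi => hz i (by omega)
  haveI : K.IsGE 0 := (isGE_iff K 0).2 fun i hi => hz i (by omega)
  obtain ⟨Y, ⟨e⟩⟩ := DerivedCategory.exists_iso_singleFunctor_obj_of_isGE_of_isLE K 0
  obtain ⟨h0⟩ := nonempty_homology_zero fs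
  refine ⟨e ≪≫ (single 0).mapIso (((DerivedCategory.singleFunctorCompHomologyFunctorIso (ModuleCat.{u} R) 0).app Y).symm ≪≫
    (HH 0).mapIso e.symm ≪≫ (DerivedCategory.homologyFunctorFactors (ModuleCat.{u} R) 0).app _ ≪≫ h0 ≪≫
    (Submodule.quotEquivOfEq _ _ hgen).toModuleIso)⟩

omit [IsLocalRing R] in
theorem closure_good [IsLocalRing R] [IsNoetherianRing R] (fs : List R) (hreg : RingTheory.Sequence.IsRegular R fs)
    (hgen : Ideal.ofList fs = IsLocalRing.maximalIdeal R) (K : Dual.D R) (hK : Sup R K) :
    Good (AddSubgroup.closure {KZero.clTr (Sup R) (DRing.toD (Koszul.koszul R fs))}) K := by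
  obtain ⟨e⟩ := nonempty_koszul_iso fs hreg hgen
  have hks : Sup R ((single 0).obj (ModuleCat.of R (R ⧸ IsLocalRing.maximalIdeal R))) := by
    refine ⟨isPerfect_of_iso e (isPerfect_koszul fs), fun i => ?_⟩
    by_cases hi : i = 0
    · subst hi
      refine (LinearEquiv.support_eq
        ((DerivedCategory.singleFunctorCompHomologyFunctorIso (ModuleCat.{u} R) 0).app
          (ModuleCat.of R (R ⧸ IsLocalRing.maximalIdeal R))).toLinearEquiv).trans_subset ?_
      change Module.support R (R ⧸ IsLocalRing.maximalIdeal R) ⊆ _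
      rw [Module.support_eq_zeroLocus, Ideal.annihilator_quotient]
      intro p hp
      exact PrimeSpectrum.ext (IsLocalRing.eq_maximalIdeal
        ((IsLocalRing.maximalIdeal.isMaximal R).eq_of_le p.isPrime.ne_top hp ▸ IsLocalRing.maximalIdeal.isMaximal R))
    · have : Subsingleton (Dual.HD R ((single 0).obj (ModuleCat.of R (R ⧸ IsLocalRing.maximalIdeal R))) i) := by
        rcases lt_or_gt_of_ne hi with h | h
        · exact (isGE_iff _ 0).1 inferInstance i h
        · exact (isLE_iff _ 0).1 inferInstance i h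
      exact support_subsingleton
  have hk := good_of_iso (H := AddSubgroup.closure {KZero.clTr (Sup R) (DRing.toD (Koszul.koszul R fs))}) e
    ⟨sup_of_iso e.symm hks, AddSubgroup.subset_closure rfl⟩
  obtain ⟨a, b, hab⟩ := TorBal.homology_of_finiteTorDim (R := R) (K := K) (torAmp_of_isPerfect hK.1)
  refine prop_of_homology (Good _) (fun e => good_of_iso e) (fun L hL => good_of_isZero hL)
    (fun T hT => good_ext T hT) K a b hab fun i => ?_
  refine good_of_iso (singleShiftIso i _) (good_shift (-i) (good_module hk _ ?_))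
  haveI := TorBal.finite_HD_of_isPerfect hK.1 i
  exact HilbSam.isFiniteLength_of_support fun p hp => by
    rw [show p = IsLocalRing.closedPoint R from hK.2 i hp]
    exact IsLocalRing.maximalIdeal.isMaximal R


/-- Let R be a Noetherian local ring whose maximal ideal is generated by an R-regular sequence f_1, …,
f_n. Let K_0 be the Grothendieck group of the full triangulated subcategory of D(R) consisting of
the perfect complexes all of whose cohomology modules are supported at the closed point (the perfect
complexes acyclic off the closed point): the free abelian group on these objects modulo the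
relations of distinguished triangles with all three vertices in the subcategory. Then K_0 is
generated by the class of the Koszul complex of f_1, …, f_n. -/
theorem result (R : Type u) [CommRing R]
    [IsNoetherianRing R] [IsLocalRing R] (fs : List R) (hreg : RingTheory.Sequence.IsRegular R fs)
    (hgen : Ideal.ofList fs = IsLocalRing.maximalIdeal R) :
    AddSubgroup.closure
        {KZero.clTr (fun K : Dual.D R => DRing.IsPerfect R K ∧
            ∀ i : ℤ, Module.support R (Dual.HD R K i) ⊆ {IsLocalRing.closedPoint R})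
          (DRing.toD (Koszul.koszul R fs))} = ⊤ := by
  refine (AddSubgroup.eq_top_iff' _).2 fun x => ?_
  induction x using K0Cat.clTr_induction with
  | h0 => exact zero_mem _
  | hcl X hX => exact (closure_good fs hreg hgen X hX).2
  | hneg a h => exact neg_mem h
  | hadd a b ha hb => exact add_mem ha hb

end Groth.Agent.S14001
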