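import Groth.Statements.S14005
import Mathlib

set_option autoImplicit false
universe u
open CategoryTheory AlgebraicGeometry
open CohTop

namespace Groth.Agent.S14005

/-- Take a scheme X with a locally Noetherian underlying topological space, F a sheaf of abelian groups
on X, x a point of X and s an element of the stalk F_x. Then the following are equivalent: (i) s is
the germ of a section t over some open neighbourhood U of x whose support in U is contained in the
closure of {x} (that is, s belongs to the subgroup Γ_x(F) of F_x); (ii) for every generization y ≠ x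
of x the image of s under the cospecialisation map F_x → F_y is zero (that is, viewed as a global
section of the inverse image of F on Spec O_{X,x}, s is supported at the closed point). -/
theorem result {X : Scheme.{u}}
    (hX : ∀ x : X, ∃ U : X.Opens, x ∈ U ∧ TopologicalSpace.NoetherianSpace U)
    (F : TopCat.Sheaf AddCommGrpCat.{u} X.carrier) (x : X) (s : F.presheaf.stalk x) :
    (∃ (U : X.Opens) (hx : x ∈ U) (t : F.presheaf.obj (Opposite.op U)),
        F.presheaf.germ U x hx t = s ∧
          ∀ (u : X) (hu : u ∈ U), F.presheaf.germ U u hu t ≠ 0 → u ∈ closure ({x} : Set X)) ↔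
      ∀ (y : X) (h : y ⤳ x), y ≠ x → F.presheaf.stalkSpecializes h s = 0 := by
  constructor
  · rintro ⟨U, hx, t, rfl, ht⟩ y h hy
    have hyU : y ∈ U := h.mem_open U.isOpen hx
    rw [TopCat.Presheaf.germ_stalkSpecializes_apply]
    by_contra hne
    exact hy ((h.antisymm (specializes_iff_mem_closure.2 (ht y hyU hne))).eq)
  · intro hs
    obtain ⟨U₀, hx₀, hN⟩ := hX x
    obtain ⟨V, hxV, t₀, rfl⟩ := F.presheaf.germ_exist s
    let U : X.Opens := U₀ ⊓ V
    have hxU : x ∈ U := ⟨hx₀, hxV⟩
    let t := F.presheaf.map (homOfLE (inf_le_right : U ≤ V)).op t₀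
    have ht : F.presheaf.germ U x hxU t = F.presheaf.germ V x hxV t₀ := TopCat.Presheaf.germ_res_apply ..
    have : TopologicalSpace.NoetherianSpace (U₀ : Set X) := hN
    have : TopologicalSpace.NoetherianSpace U :=
      (Topology.IsEmbedding.inclusion (show (U : Set X) ⊆ U₀ from fun _ h => h.1)).isInducing.noetherianSpace
    have : QuasiSober U := U.isOpen.isOpenEmbedding_subtypeVal.quasiSober
    let Z : Set U := {u | F.presheaf.germ U u.1 u.2 t ≠ 0}
    have hZ : IsClosed Z := by
      rw [← isOpen_compl_iff, isOpen_iff_forall_mem_open]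
      intro u hu
      have h0 : F.presheaf.germ U u.1 u.2 t = F.presheaf.germ U u.1 u.2 0 := (not_not.1 hu).trans (map_zero _).symm
      obtain ⟨W, hW, i₁, i₂, hW0⟩ := F.presheaf.germ_eq u.1 u.2 u.2 t 0 h0
      refine ⟨Subtype.val ⁻¹' (W : Set X), fun v hv hne => hne ?_, W.isOpen.preimage continuous_subtype_val, hW⟩
      rw [← TopCat.Presheaf.germ_res_apply F.presheaf i₁ v.1 hv, hW0]
      simp
    obtain ⟨S, hSf, hSc, hSi, hSZ⟩ := TopologicalSpace.NoetherianSpace.exists_finite_set_isClosed_irreducible hZ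
    let B : Set U := ⋃ C ∈ {C ∈ S | (⟨x, hxU⟩ : U) ∉ C}, C
    have hB : IsClosed B := (hSf.subset fun _ h => h.1).isClosed_biUnion fun C hC => hSc C hC.1
    let U' : X.Opens := ⟨Subtype.val '' Bᶜ, U.isOpen.isOpenMap_subtype_val _ hB.isOpen_compl⟩
    have hle : U' ≤ U := by
      rintro _ ⟨u, -, rfl⟩
      exact u.2
    refine ⟨U', ⟨⟨x, hxU⟩, fun h => ?_, rfl⟩, F.presheaf.map (homOfLE hle).op t, ?_, fun u hu hne => ?_⟩
    · obtain ⟨C, hC, hxC⟩ := Set.mem_iUnion₂.1 h
      exact hC.2 hxC
    · rw [TopCat.Presheaf.germ_res_apply]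
      exact ht
    · obtain ⟨v, hv, rfl⟩ := hu
      rw [TopCat.Presheaf.germ_res_apply] at hne
      obtain ⟨C, hC, hvC⟩ := Set.mem_sUnion.1 (hSZ ▸ (show v ∈ Z from hne))
      have hxC : (⟨x, hxU⟩ : U) ∈ C := by_contra fun h => hv (Set.mem_iUnion₂.2 ⟨C, ⟨hC, h⟩, hvC⟩)
      obtain ⟨g, hg⟩ := QuasiSober.sober (hSi C hC) (hSc C hC)
      have hgx : g.1 ⤳ x := (hg.specializes hxC).map continuous_subtype_val
      have hgZ : g ∈ Z := hSZ ▸ Set.mem_sUnion.2 ⟨C, hC, hg.mem⟩
      have hgv : g.1 ⤳ v.1 := (hg.specializes hvC).map continuous_subtype_val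
      by_cases hgx' : g.1 = x
      · exact specializes_iff_mem_closure.1 (hgx' ▸ hgv)
      · refine absurd ?_ hgZ
        have := hs g.1 hgx hgx'
        rw [← ht, TopCat.Presheaf.germ_stalkSpecializes_apply] at this
        exact this

end Groth.Agent.S14005
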