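import Groth.Statements.S14008
import Groth.Agent.S13997
-- import your own Groth.Agent.* helpers here

set_option autoImplicit false
set_option backward.isDefEq.respectTransparency false
universe u
open FlatMor Groth.Agent

namespace Groth.Agent.S14008

open AlgebraicGeometry CategoryTheory in
/-- Consider a commutative square of schemes F₀ ≫ j = i ≫ F in which i : Y₀ ⟶ Y and j : X₀ ⟶ X are
closed immersions surjective on points whose ideals are nilpotent on every affine open, the ideal of
i being moreover finitely generated on every affine open of Y, and assume that X is locally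
Noetherian. Then F : Y ⟶ X is locally of finite presentation if and only if F₀ : Y₀ ⟶ X₀ is. The
square is not assumed cartesian. -/
theorem result
    {X X₀ Y Y₀ : Scheme.{u}} [IsLocallyNoetherian X]
    (F : Y ⟶ X) (F₀ : Y₀ ⟶ X₀) (i : Y₀ ⟶ Y) (j : X₀ ⟶ X)
    (hi : MoreMor.IsThickening i) (hj : MoreMor.IsThickening j)
    (hinil : ∀ U : Y.affineOpens, IsNilpotent (i.ker.ideal U))
    (hjnil : ∀ U : X.affineOpens, IsNilpotent (j.ker.ideal U))
    (hfg : ∀ U : Y.affineOpens, (i.ker.ideal U).FG)
    (w : F₀ ≫ j = i ≫ F) :
    LocallyOfFinitePresentation F ↔ LocallyOfFinitePresentation F₀ := by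
  haveI : IsClosedImmersion j := hj.1
  haveI : IsLocallyNoetherian X₀ := LocallyOfFiniteType.isLocallyNoetherian j
  rw [LocallyOfFinitePresentation.iff_locallyOfFiniteType, LocallyOfFinitePresentation.iff_locallyOfFiniteType]
  exact S13997.result F F₀ i j hi hj hinil hjnil hfg w

end Groth.Agent.S14008
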