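import Groth.Statements.S14013
import Groth.Agent.Lib.EtModEps19.ARMod
import Groth.Agent.Lib.EtModEps19.LimEpi
import Groth.Agent.Lib.EtModEps19.AdicP
import Groth.Agent.S13621
import Mathlib.CategoryTheory.Limits.Preserves.FunctorCategory
-- import your own Groth.Agent.* helpers here

set_option autoImplicit false
open CategoryTheory CategoryTheory.Limits AlgebraicGeometry Opposite
universe u
open EtModW

namespace Groth.Agent.S14013

set_option backward.isDefEq.respectTransparency false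
set_option backward.isDefEq.respectTransparency.types false

set_option linter.style.haveILetI false
set_option backward.isDefEq.respectTransparency.types false


/-- Let X be a Noetherian scheme, Λ a Noetherian commutative ring and I an ideal of Λ. Call a sheaf of
Λ-modules F on the small pro-étale site of X an I-adic pro-étale sheaf when it has a compatible
tower of quotient maps F ⟶ Q_n modulo I^(n+1), every Q_n being isomorphic to the pro-étale pullback
of a constructible étale sheaf of Λ-modules, and the canonical map F ⟶ lim_n Q_n is an isomorphism.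
Then for every morphism w : F ⟶ G between I-adic pro-étale sheaves, the kernel and the cokernel of w
computed among all sheaves of Λ-modules are again I-adic pro-étale sheaves. (The published statement
is that the I-adic pro-étale sheaves form an abelian subcategory of the category of all sheaves of
Λ-modules; this row states the closure under kernels and cokernels. Continuity of the inclusion of
the étale site into the pro-étale site is carried as a binder.) -/
theorem result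
    (Λ : Type (u + 1)) [CommRing Λ] [IsNoetherianRing Λ] (I : Ideal Λ)
    (X : Scheme.{u}) [IsNoetherian X] [ProEtS.EpsCont X]
    (F G : EtModW.ModP Λ X)
    (hF : (∃ (Q : ℕᵒᵖ ⥤ EtModW.ModP Λ X) (p : (Functor.const ℕᵒᵖ).obj F ⟶ Q),
        (∀ n : ℕ, ARSys.IsQuot (I ^ (n + 1)) (p.app (op n))) ∧
        (∀ n : ℕ, ∃ E : EtModW.Mod Λ X, EtModW.IsConstructible Λ E ∧
          Nonempty ((EtModW.epsPullMod Λ X).obj E ≅ Q.obj (op n))) ∧
        IsIso (limit.lift Q (Cone.mk F p))))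
    (hG : (∃ (Q : ℕᵒᵖ ⥤ EtModW.ModP Λ X) (p : (Functor.const ℕᵒᵖ).obj G ⟶ Q),
        (∀ n : ℕ, ARSys.IsQuot (I ^ (n + 1)) (p.app (op n))) ∧
        (∀ n : ℕ, ∃ E : EtModW.Mod Λ X, EtModW.IsConstructible Λ E ∧
          Nonempty ((EtModW.epsPullMod Λ X).obj E ≅ Q.obj (op n))) ∧
        IsIso (limit.lift Q (Cone.mk G p))))
    (w : F ⟶ G) :
    (∃ (Q : ℕᵒᵖ ⥤ EtModW.ModP Λ X) (p : (Functor.const ℕᵒᵖ).obj (kernel w) ⟶ Q),
      (∀ n : ℕ, ARSys.IsQuot (I ^ (n + 1)) (p.app (op n))) ∧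
      (∀ n : ℕ, ∃ E : EtModW.Mod Λ X, EtModW.IsConstructible Λ E ∧
        Nonempty ((EtModW.epsPullMod Λ X).obj E ≅ Q.obj (op n))) ∧
      IsIso (limit.lift Q (Cone.mk (kernel w) p))) ∧
    (∃ (Q : ℕᵒᵖ ⥤ EtModW.ModP Λ X) (p : (Functor.const ℕᵒᵖ).obj (cokernel w) ⟶ Q),
      (∀ n : ℕ, ARSys.IsQuot (I ^ (n + 1)) (p.app (op n))) ∧
      (∀ n : ℕ, ∃ E : EtModW.Mod Λ X, EtModW.IsConstructible Λ E ∧
        Nonempty ((EtModW.epsPullMod Λ X).obj E ≅ Q.obj (op n))) ∧
      IsIso (limit.lift Q (Cone.mk (cokernel w) p))) := by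
  classical
  have hI : I.FG := IsNoetherian.noetherian I
  obtain ⟨A, hA, hAc, ⟨eF⟩⟩ := (Groth.Agent.EtModEps19.isAdicP_iff hI F).1 hF
  obtain ⟨B, hB, hBc, ⟨eG⟩⟩ := (Groth.Agent.EtModEps19.isAdicP_iff hI G).1 hG
  let ε := EtModW.epsPullMod Λ X
  let W := (Functor.whiskeringRight ℕᵒᵖ (EtModW.Mod Λ X) (EtModW.ModP Λ X)).obj ε
  let L : ARSys.PS (EtModW.Mod Λ X) ⥤ EtModW.ModP Λ X := W ⋙ lim
  haveI : PreservesFiniteLimits W := ⟨fun J _ _ => inferInstance⟩
  haveI : PreservesFiniteLimits L := comp_preservesFiniteLimits _ _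
  haveI : L.Additive := Functor.additive_of_preserves_binary_products _
  haveI := (Groth.Agent.EtModEps19.full_faithful (Λ := Λ) (X := X) (I := I) hI).1
  let eF' : L.obj A ≅ F := eF
  let eG' : L.obj B ≅ G := eG
  let PA : ObjectProperty (ARSys.PS (EtModW.Mod Λ X)) := fun G => ARSys.IsAdic I G
  obtain ⟨u', hu'⟩ : ∃ f : (⟨A, hA⟩ : PA.FullSubcategory) ⟶ ⟨B, hB⟩, L.map f.hom = eF'.hom ≫ w ≫ eG'.inv :=
    have h : Function.Surjective (fun f : (⟨A, hA⟩ : PA.FullSubcategory) ⟶ ⟨B, hB⟩ => (PA.ι ⋙ W ⋙ lim).map f) :=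
      (PA.ι ⋙ W ⋙ lim).map_surjective
    h _
  let u : A ⟶ B := u'.hom
  have hu : L.map u = eF'.hom ≫ w ≫ eG'.inv := hu'
  obtain ⟨hK, hC⟩ := Groth.Agent.EtModEps19.kernel_cokernel_ARC hA hB hAc hBc u
  have mk : ∀ (E : ARSys.PS (EtModW.Mod Λ X)), Groth.Agent.EtModEps19.ARC I E → ∀ (H : EtModW.ModP Λ X),
      (L.obj E ≅ H) → ∃ (Q : ℕᵒᵖ ⥤ EtModW.ModP Λ X) (p : (Functor.const ℕᵒᵖ).obj H ⟶ Q),
        (∀ n : ℕ, ARSys.IsQuot (I ^ (n + 1)) (p.app (op n))) ∧
        (∀ n : ℕ, ∃ E : EtModW.Mod Λ X, EtModW.IsConstructible Λ E ∧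
          Nonempty ((EtModW.epsPullMod Λ X).obj E ≅ Q.obj (op n))) ∧
        IsIso (limit.lift Q (Cone.mk H p)) := by
    intro E ⟨_, Y, v, hY, hYc, hv⟩ H e
    haveI := Groth.Agent.S13621.result _ (Groth.Agent.EtModEps19.ARX.isARIso_map ε hv)
    exact (Groth.Agent.EtModEps19.isAdicP_iff hI H).2
      ⟨Y, hY, hYc, ⟨asIso (limMap (Functor.whiskerRight v ε)) ≪≫ e⟩⟩
  -- the image sequences
  have ar : ∀ {E : ARSys.PS (EtModW.Mod Λ X)}, ARSys.IsARAdic I E →
      (∀ n : ℕ, EtModW.IsConstructible Λ (E.obj (op n))) → ARSys.IsARAdicNoeth I E := fun h hc =>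
    ⟨h, fun n => Groth.Agent.EtModEps19.isNoetherianObject_of_isConstructible (hc n)⟩
  have hCc : ∀ n : ℕ, EtModW.IsConstructible Λ ((cokernel u).obj (op n)) := fun n =>
    Groth.Agent.EtModEps19.isConstructible_of_iso
      (PreservesCokernel.iso ((evaluation ℕᵒᵖ (EtModW.Mod Λ X)).obj (op n)) u).symm
      ((Groth.Agent.EtModEps19.constrP Λ X).prop_of_isColimit_cokernelCofork
        (k := CokernelCofork.ofπ _ (cokernel.condition (((evaluation ℕᵒᵖ (EtModW.Mod Λ X)).obj (op n)).map u)))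
        (cokernelIsCokernel _) (hAc n) (hBc n))
  have hBar : ARSys.IsARAdic I B := ⟨hB.1, B, 𝟙 B, hB,
    (Groth.Agent.AR.isARIso_iff (𝟙 B)).2 (Groth.Agent.AR.hasPInv_iso (𝟙 B))⟩
  have hIm : ARSys.IsARAdic I (Abelian.image u) := (Groth.Agent.S3163.result I (cokernel.π u) (ar hBar hBc)
    (ar (Groth.Agent.EtModEps19.isARAdic_of_ARC hC) hCc)).1.1
  let S₂ : ShortComplex (ARSys.PS (EtModW.Mod Λ X)) :=
    ShortComplex.mk (Abelian.image.ι u) (cokernel.π u) (kernel.condition _)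
  have hS₂ : S₂.ShortExact := ShortComplex.ShortExact.mk' (ShortComplex.exact_kernel _)
    (inferInstanceAs (Mono (Abelian.image.ι u))) (inferInstanceAs (Epi (cokernel.π u)))
  let S₁ : ShortComplex (ARSys.PS (EtModW.Mod Λ X)) :=
    ShortComplex.mk (kernel.ι u) (Abelian.factorThruImage u) (by
      rw [← cancel_mono (Abelian.image.ι u), Category.assoc, Abelian.image.fac, kernel.condition, zero_comp])
  have hS₁ : S₁.ShortExact := ShortComplex.ShortExact.mk'
    (ShortComplex.exact_of_f_is_kernel _ (KernelFork.IsLimit.ofι' _ _ fun {T} k hk => by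
      refine ⟨kernel.lift u k ?_, kernel.lift_ι _ _ _⟩
      rw [← Abelian.image.fac u, ← Category.assoc]
      exact (congrArg (· ≫ Abelian.image.ι u) hk).trans zero_comp))
    (inferInstanceAs (Mono (kernel.ι u))) (inferInstanceAs (Epi (Abelian.factorThruImage u)))
  have hK' := hK
  obtain ⟨-, Y₁, v₁, hY₁, -, hv₁⟩ := hK
  haveI : Epi (L.map (Abelian.factorThruImage u)) :=
    Groth.Agent.EtModEps19.epi_limMap hI S₁ hS₁ Y₁ v₁ hY₁ hv₁
  obtain ⟨-, Y₂, v₂, hY₂, hv₂⟩ := hIm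
  haveI : Epi (L.map (cokernel.π u)) := Groth.Agent.EtModEps19.epi_limMap hI S₂ hS₂ Y₂ v₂ hY₂ hv₂
  haveI := hS₂.mono_f
  have hex : (S₂.map L).Exact :=
    ShortComplex.exact_of_f_is_kernel _ (KernelFork.mapIsLimit _ hS₂.fIsKernel L)
  haveI : Epi (S₂.map L).g := inferInstanceAs (Epi (L.map (cokernel.π u)))
  have hcok := isCokernelEpiComp hex.gIsCokernel (L.map (Abelian.factorThruImage u))
    (show L.map u = L.map (Abelian.factorThruImage u) ≫ (S₂.map L).f by
      show L.map u = L.map _ ≫ L.map _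
      rw [← L.map_comp, Abelian.image.fac])
  refine ⟨mk _ hK' _ (PreservesKernel.iso L u ≪≫ kernel.mapIso _ _ eF' eG' ?_),
    mk _ hC _ ((hcok.coconePointUniqueUpToIso (cokernelIsCokernel _)) ≪≫ cokernel.mapIso _ _ eF' eG' ?_)⟩
  · rw [hu, Category.assoc, Category.assoc, Iso.inv_hom_id, Category.comp_id]
  · rw [hu, Category.assoc, Category.assoc, Iso.inv_hom_id, Category.comp_id]

end Groth.Agent.S14013
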