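import Groth.Statements.S14014
import Groth.Agent.Lib.EtModEps19.ARMod
import Groth.Agent.Lib.EtModEps19.LimEpi
import Groth.Agent.Lib.EtModEps19.AdicP
import Groth.Agent.Lib.ARSys.AdicNoeth
import Mathlib.CategoryTheory.Limits.Preserves.FunctorCategory
-- import your own Groth.Agent.* helpers here

set_option autoImplicit false
open CategoryTheory CategoryTheory.Limits AlgebraicGeometry Opposite
universe u
open EtModW

namespace Groth.Agent.S14014

set_option backward.isDefEq.respectTransparency false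
set_option backward.isDefEq.respectTransparency.types false

set_option linter.style.haveILetI false
set_option backward.isDefEq.respectTransparency.types false


/-- Let X be a Noetherian scheme, Λ a Noetherian commutative ring, I an ideal of Λ and F an I-adic
pro-étale sheaf of Λ-modules on X: F has a compatible tower of quotient maps F ⟶ Q_n modulo I^(n+1),
every Q_n isomorphic to the pro-étale pullback of a constructible étale sheaf of Λ-modules, and the
canonical map F ⟶ lim_n Q_n is an isomorphism. Then every increasing chain Z_0 ≤ Z_1 ≤ ⋯ of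
subobjects of F (subsheaves of Λ-modules on the small pro-étale site) all of whose underlying
sheaves are I-adic pro-étale sheaves becomes constant: Z_k = Z_(k₀) for all k ≥ k₀. (Continuity of
the inclusion of the étale site into the pro-étale site is carried as a binder.) -/
theorem result
    (Λ : Type (u + 1)) [CommRing Λ] [IsNoetherianRing Λ] (I : Ideal Λ)
    (X : Scheme.{u}) [IsNoetherian X] [ProEtS.EpsCont X]
    (F : EtModW.ModP Λ X)
    (hF : (∃ (Q : ℕᵒᵖ ⥤ EtModW.ModP Λ X) (p : (Functor.const ℕᵒᵖ).obj F ⟶ Q),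
        (∀ n : ℕ, ARSys.IsQuot (I ^ (n + 1)) (p.app (op n))) ∧
        (∀ n : ℕ, ∃ E : EtModW.Mod Λ X, EtModW.IsConstructible Λ E ∧
          Nonempty ((EtModW.epsPullMod Λ X).obj E ≅ Q.obj (op n))) ∧
        IsIso (limit.lift Q (Cone.mk F p))))
    (Z : ℕ →o Subobject F)
    (hZ : ∀ k : ℕ, (∃ (Q : ℕᵒᵖ ⥤ EtModW.ModP Λ X) (p : (Functor.const ℕᵒᵖ).obj (Subobject.underlying.obj (Z k)) ⟶ Q),
        (∀ n : ℕ, ARSys.IsQuot (I ^ (n + 1)) (p.app (op n))) ∧
        (∀ n : ℕ, ∃ E : EtModW.Mod Λ X, EtModW.IsConstructible Λ E ∧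
          Nonempty ((EtModW.epsPullMod Λ X).obj E ≅ Q.obj (op n))) ∧
        IsIso (limit.lift Q (Cone.mk (Subobject.underlying.obj (Z k)) p)))) :
    ∃ k₀ : ℕ, ∀ k : ℕ, k₀ ≤ k → Z k = Z k₀ := by
  classical
  have hI : I.FG := IsNoetherian.noetherian I
  obtain ⟨A, hA, hAc, ⟨eA⟩⟩ := (Groth.Agent.EtModEps19.isAdicP_iff hI F).1 hF
  choose B hB hBc eB using fun k => (Groth.Agent.EtModEps19.isAdicP_iff hI _).1 (hZ k)
  let ε := EtModW.epsPullMod Λ X
  let W := (Functor.whiskeringRight ℕᵒᵖ (EtModW.Mod Λ X) (EtModW.ModP Λ X)).obj ε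
  let L : ARSys.PS (EtModW.Mod Λ X) ⥤ EtModW.ModP Λ X := W ⋙ lim
  haveI : PreservesFiniteLimits W := ⟨fun J _ _ => inferInstance⟩
  haveI : PreservesFiniteLimits L := comp_preservesFiniteLimits _ _
  let PA : ObjectProperty (ARSys.PS (EtModW.Mod Λ X)) := fun G => ARSys.IsAdic I G
  haveI := (Groth.Agent.EtModEps19.full_faithful (Λ := Λ) (X := X) (I := I) hI).1
  let eA' : L.obj A ≅ F := eA
  let eB' : ∀ k, L.obj (B k) ≅ (Subobject.underlying.obj (Z k) : EtModW.ModP Λ X) := fun k => (eB k).some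
  have surj : ∀ (P Q : PA.FullSubcategory) (φ : L.obj P.obj ⟶ L.obj Q.obj), ∃ f : P.obj ⟶ Q.obj, L.map f = φ := by
    intro P Q φ
    have h : Function.Surjective (fun f : P ⟶ Q => (PA.ι ⋙ W ⋙ lim).map f) := (PA.ι ⋙ W ⋙ lim).map_surjective
    obtain ⟨f, hf⟩ := h φ
    exact ⟨f.hom, hf⟩
  haveI := (Groth.Agent.EtModEps19.full_faithful (Λ := Λ) (X := X) (I := I) hI).2
  have inj : ∀ (P Q : PA.FullSubcategory) (f g : P.obj ⟶ Q.obj), L.map f = L.map g → f = g := fun P Q f g h =>
    congrArg InducedCategory.Hom.hom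
      ((PA.ι ⋙ W ⋙ lim).map_injective (show (PA.ι ⋙ W ⋙ lim).map (ObjectProperty.homMk f : P ⟶ Q) =
        (PA.ι ⋙ W ⋙ lim).map (ObjectProperty.homMk g : P ⟶ Q) from h))
  choose u hu using fun k => surj ⟨B k, hB k⟩ ⟨A, hA⟩ ((eB' k).hom ≫ (Z k).arrow ≫ eA'.inv)
  let S : ℕ → Subobject A := fun k => imageSubobject (u k)
  have hS : Monotone S := fun k l hkl => by
    obtain ⟨t, ht⟩ := surj ⟨B k, hB k⟩ ⟨B l, hB l⟩
      ((eB' k).hom ≫ Subobject.ofLE _ _ (Z.monotone hkl) ≫ (eB' l).inv)
    have e : t ≫ u l = u k := inj ⟨B k, hB k⟩ ⟨A, hA⟩ _ _ (by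
      rw [Functor.map_comp, hu, ht, hu]
      simp)
    show imageSubobject (u k) ≤ imageSubobject (u l)
    rw [← e]
    exact imageSubobject_comp_le _ _
  have hSs : ∀ k, ARSys.IsStrict (Subobject.underlying.obj (S k) : ARSys.PS (EtModW.Mod Λ X)) := fun k =>
    Groth.Agent.AR.isStrict_of_epi (factorThruImageSubobject (u k)) (Groth.Agent.AR.isAdic_isStrict (hB k))
  obtain ⟨k₀, hk₀⟩ := Groth.Agent.AR.strict_chain_stationary (J := I)
    (⟨hA, fun n => Groth.Agent.EtModEps19.isNoetherianObject_of_isConstructible (hAc n)⟩ : ARSys.IsAdicNoeth I A)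
    ⟨S, hS⟩ hSs
  have hiso : ∀ k, IsIso (L.map (factorThruImageSubobject (u k))) := fun k => by
    obtain ⟨⟨-, Y, v, hY, -, hv⟩, -⟩ := Groth.Agent.EtModEps19.kernel_cokernel_ARC (hB k) hA (hBc k) hAc (u k)
    let T : ShortComplex (ARSys.PS (EtModW.Mod Λ X)) :=
      ShortComplex.mk (kernel.ι (u k)) (factorThruImageSubobject (u k)) (by
        rw [← cancel_mono (imageSubobject (u k)).arrow, Category.assoc, imageSubobject_arrow_comp,
          kernel.condition, zero_comp])
    have hT : T.ShortExact := ShortComplex.ShortExact.mk'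
      (ShortComplex.exact_of_f_is_kernel _ (KernelFork.IsLimit.ofι' _ _ fun {W} g hg => by
        refine ⟨kernel.lift (u k) g ?_, kernel.lift_ι _ _ _⟩
        rw [← imageSubobject_arrow_comp (u k), ← Category.assoc]
        exact (congrArg (· ≫ (imageSubobject (u k)).arrow) hg).trans zero_comp))
      (inferInstanceAs (Mono (kernel.ι (u k)))) (inferInstanceAs (Epi (factorThruImageSubobject (u k))))
    haveI : Epi (L.map (factorThruImageSubobject (u k))) :=
      Groth.Agent.EtModEps19.epi_limMap hI T hT Y v hY hv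
    haveI : Mono (L.map (factorThruImageSubobject (u k)) ≫ L.map (imageSubobject (u k)).arrow) := by
      rw [← L.map_comp, imageSubobject_arrow_comp, hu]
      infer_instance
    haveI := mono_of_mono (L.map (factorThruImageSubobject (u k))) (L.map (imageSubobject (u k)).arrow)
    exact isIso_of_mono_of_epi _
  refine ⟨k₀, fun k hk => le_antisymm ?_ (Z.monotone hk)⟩
  haveI := hiso k₀
  have hle : imageSubobject (u k) ≤ imageSubobject (u k₀) := (hk₀ k hk).le
  refine Subobject.le_of_comm ((eB' k).inv ≫ L.map (factorThruImageSubobject (u k)) ≫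
    L.map (Subobject.ofLE _ _ hle) ≫ inv (L.map (factorThruImageSubobject (u k₀))) ≫ (eB' k₀).hom) ?_
  have h0 : (eB' k₀).hom ≫ (Z k₀).arrow = L.map (u k₀) ≫ eA'.hom := by simp [hu]
  have h1 : inv (L.map (factorThruImageSubobject (u k₀))) ≫ L.map (u k₀) = L.map (imageSubobject (u k₀)).arrow := by
    rw [IsIso.inv_comp_eq, ← L.map_comp, imageSubobject_arrow_comp]
  have h2 : L.map (factorThruImageSubobject (u k)) ≫ L.map (Subobject.ofLE _ _ hle) ≫
      L.map (imageSubobject (u k₀)).arrow = L.map (u k) := by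
    rw [← L.map_comp (Subobject.ofLE _ _ hle), Subobject.ofLE_arrow, ← L.map_comp, imageSubobject_arrow_comp]
  simp only [Category.assoc, h0]
  rw [reassoc_of% h1, reassoc_of% h2, hu]
  simp

end Groth.Agent.S14014
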