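import Groth.Statements.S14015
import Groth.Agent.Lib.EtModEps19.AdicExt
import Groth.Agent.Lib.EtModEps19.ConstrM
import Groth.Agent.Lib.EtModEps19.AdicP
import Groth.Agent.S14013
import Groth.Agent.S14014
import Mathlib.CategoryTheory.Abelian.Exact
-- import your own Groth.Agent.* helpers here

set_option autoImplicit false
open CategoryTheory CategoryTheory.Limits AlgebraicGeometry Opposite
universe u
open EtModW

namespace Groth.Agent.S14015

set_option backward.isDefEq.respectTransparency false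
set_option backward.isDefEq.respectTransparency.types false

set_option linter.style.haveILetI false
set_option backward.isDefEq.respectTransparency.types false


/-- Let X be a Noetherian scheme, Λ a Noetherian commutative ring and I = (a) a principal ideal of Λ. In
a short exact sequence 0 ⟶ F ⟶ G ⟶ H ⟶ 0 of sheaves of Λ-modules on the small pro-étale site of X,
if F and H are I-adic pro-étale sheaves (each has a compatible tower of quotient maps modulo I^(n+1)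
whose targets are isomorphic to pro-étale pullbacks of constructible étale sheaves of Λ-modules, and
the canonical map to the limit of the tower is an isomorphism) then so is G: I-adic pro-étale
sheaves are stable under extensions. (The published statement allows an arbitrary ideal of the
Noetherian coefficient ring and reduces completeness to the principal case through a lemma on
completeness with respect to each of finitely many generators separately; this row states the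
principal case, for which the argument is self-contained. Continuity of the inclusion of the étale
site into the pro-étale site is carried as a binder.) -/
theorem result
    (Λ : Type (u + 1)) [CommRing Λ] [IsNoetherianRing Λ] (a : Λ)
    (X : Scheme.{u}) [IsNoetherian X] [ProEtS.EpsCont X]
    (S : ShortComplex (EtModW.ModP Λ X)) (hS : S.ShortExact)
    (h₁ : (∃ (Q : ℕᵒᵖ ⥤ EtModW.ModP Λ X) (p : (Functor.const ℕᵒᵖ).obj S.X₁ ⟶ Q),
        (∀ n : ℕ, ARSys.IsQuot ((Ideal.span {a}) ^ (n + 1)) (p.app (op n))) ∧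
        (∀ n : ℕ, ∃ E : EtModW.Mod Λ X, EtModW.IsConstructible Λ E ∧
          Nonempty ((EtModW.epsPullMod Λ X).obj E ≅ Q.obj (op n))) ∧
        IsIso (limit.lift Q (Cone.mk S.X₁ p))))
    (h₃ : (∃ (Q : ℕᵒᵖ ⥤ EtModW.ModP Λ X) (p : (Functor.const ℕᵒᵖ).obj S.X₃ ⟶ Q),
        (∀ n : ℕ, ARSys.IsQuot ((Ideal.span {a}) ^ (n + 1)) (p.app (op n))) ∧
        (∀ n : ℕ, ∃ E : EtModW.Mod Λ X, EtModW.IsConstructible Λ E ∧
          Nonempty ((EtModW.epsPullMod Λ X).obj E ≅ Q.obj (op n))) ∧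
        IsIso (limit.lift Q (Cone.mk S.X₃ p)))) :
    (∃ (Q : ℕᵒᵖ ⥤ EtModW.ModP Λ X) (p : (Functor.const ℕᵒᵖ).obj S.X₂ ⟶ Q),
      (∀ n : ℕ, ARSys.IsQuot ((Ideal.span {a}) ^ (n + 1)) (p.app (op n))) ∧
      (∀ n : ℕ, ∃ E : EtModW.Mod Λ X, EtModW.IsConstructible Λ E ∧
        Nonempty ((EtModW.epsPullMod Λ X).obj E ≅ Q.obj (op n))) ∧
      IsIso (limit.lift Q (Cone.mk S.X₂ p))) := by
  classical
  let I : Ideal Λ := Ideal.span {a}
  have hI : I.FG := IsNoetherian.noetherian I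
  let CP : EtModW.ModP Λ X → Prop := fun P => ∃ E : EtModW.Mod Λ X, EtModW.IsConstructible Λ E ∧
    Nonempty ((EtModW.epsPullMod Λ X).obj E ≅ P)
  let ε := EtModW.epsPullMod Λ X
  have cp_iso : ∀ {P P' : EtModW.ModP Λ X}, (P ≅ P') → CP P → CP P' := fun e ⟨E, hE, ⟨f⟩⟩ => ⟨E, hE, ⟨f ≪≫ e⟩⟩
  have cp_coker : ∀ {P P' : EtModW.ModP Λ X} (φ : P ⟶ P'), CP P → CP P' → CP (cokernel φ) := by
    intro P P' φ ⟨A, hA, ⟨eA⟩⟩ ⟨B, hB, ⟨eB⟩⟩
    obtain ⟨g, hg⟩ := ε.map_surjective (eA.hom ≫ φ ≫ eB.inv)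
    refine ⟨cokernel g, ?_, ⟨PreservesCokernel.iso _ g ≪≫ cokernel.mapIso _ _ eA eB (by rw [hg]; simp)⟩⟩
    exact (Groth.Agent.EtModEps19.constrP Λ X).prop_of_isColimit_cokernelCofork
      (k := CokernelCofork.ofπ _ (cokernel.condition g)) (cokernelIsCokernel g) hA hB
  have cp_ext : ∀ (T : ShortComplex (EtModW.ModP Λ X)), T.ShortExact → CP T.X₁ → CP T.X₃ → CP T.X₂ := by
    intro T hT ⟨A, hA, ⟨eA⟩⟩ ⟨B, hB, ⟨eB⟩⟩
    obtain ⟨E, ⟨eE⟩⟩ := (Groth.Agent.EtModEps19.weakSerre Λ).2 T hT ⟨A, ⟨eA⟩⟩ ⟨B, ⟨eB⟩⟩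
    obtain ⟨f, hf⟩ := ε.map_surjective (eA.hom ≫ T.f ≫ eE.inv)
    obtain ⟨g, hg⟩ := ε.map_surjective (eE.hom ≫ T.g ≫ eB.inv)
    have hfg : f ≫ g = 0 := ε.map_injective (by rw [Functor.map_comp, hf, hg]; simp)
    let R : ShortComplex (EtModW.Mod Λ X) := ShortComplex.mk f g hfg
    have hR' : (R.map ε).ShortExact := by
      refine ShortComplex.shortExact_of_iso (ShortComplex.isoMk eA eE eB ?_ ?_).symm hT
      · show eA.hom ≫ T.f = ε.map f ≫ eE.hom
        rw [hf]; simp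
      · show eE.hom ≫ T.g = ε.map g ≫ eB.hom
        rw [hg]; simp
    haveI : Mono f := ε.mono_of_mono_map hR'.mono_f
    haveI : Epi g := ε.epi_of_epi_map hR'.epi_g
    have hR : R.ShortExact := { exact := (R.exact_map_iff_of_faithful ε).1 hR'.exact }
    exact ⟨E, (Groth.Agent.EtModEps19.constrP Λ X).prop_X₂_of_shortExact hR hA hB, ⟨eE⟩⟩
  let AP : EtModW.ModP Λ X → Prop := fun H => ∃ (Q : ℕᵒᵖ ⥤ EtModW.ModP Λ X) (p : (Functor.const ℕᵒᵖ).obj H ⟶ Q),
      (∀ n : ℕ, ARSys.IsQuot (I ^ (n + 1)) (p.app (op n))) ∧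
      (∀ n : ℕ, ∃ E : EtModW.Mod Λ X, EtModW.IsConstructible Λ E ∧
        Nonempty ((EtModW.epsPullMod Λ X).obj E ≅ Q.obj (op n))) ∧
      IsIso (limit.lift Q (Cone.mk H p))
  have ap_iso : ∀ {H H' : EtModW.ModP Λ X}, (H ≅ H') → AP H → AP H' := fun e h => by
    obtain ⟨G, hG, hc, ⟨f⟩⟩ := (Groth.Agent.EtModEps19.isAdicP_iff hI _).1 h
    exact (Groth.Agent.EtModEps19.isAdicP_iff hI _).2 ⟨G, hG, hc, ⟨f ≪≫ e⟩⟩
  have hker : ∀ k : ℕ, AP (kernel (a ^ k • 𝟙 S.X₃)) := fun k =>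
    (Groth.Agent.S14013.result Λ I X S.X₃ S.X₃ h₃ h₃ (a ^ k • 𝟙 S.X₃)).1
  -- the torsion of the quotient is bounded
  have hsm : ∀ (k : ℕ) (T : EtModW.ModP Λ X) (z : T ⟶ S.X₃),
      z ≫ (a ^ k • 𝟙 S.X₃) = a ^ k • z := fun k T z => by rw [Linear.comp_smul, Category.comp_id]
  obtain ⟨N, hN⟩ : ∃ N, ∀ (k : ℕ) (T : EtModW.ModP Λ X) (z : T ⟶ S.X₃), a ^ k • z = 0 → a ^ N • z = 0 := by
    have hmono : Monotone fun k => kernelSubobject (a ^ k • 𝟙 S.X₃) := fun k l hkl => by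
      refine Subobject.le_of_comm (factorThruKernelSubobject _ (kernelSubobject (a ^ k • 𝟙 S.X₃)).arrow ?_)
        (factorThruKernelSubobject_comp_arrow _ _ _)
      obtain ⟨d, rfl⟩ := Nat.exists_eq_add_of_le hkl
      have h0 := kernelSubobject_arrow_comp (a ^ k • 𝟙 S.X₃)
      rw [hsm] at h0
      rw [hsm, pow_add, mul_comm, mul_smul, h0, smul_zero]
    obtain ⟨N, hN⟩ := Groth.Agent.S14014.result Λ I X S.X₃ h₃ ⟨_, hmono⟩ fun k =>
      ap_iso (kernelSubobjectIso _).symm (hker k)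
    refine ⟨N, fun k T z hz => ?_⟩
    rcases le_total N k with hk | hk
    · have e := hN k hk
      have hf : (kernelSubobject (a ^ N • 𝟙 S.X₃)).Factors z := by
        have : (kernelSubobject (a ^ k • 𝟙 S.X₃)).Factors z :=
          kernelSubobject_factors _ _ (by rw [hsm, hz])
        exact (show kernelSubobject (a ^ k • 𝟙 S.X₃) = kernelSubobject (a ^ N • 𝟙 S.X₃) from e) ▸ this
      rw [← hsm, ← Subobject.factorThru_arrow _ _ hf, Category.assoc, kernelSubobject_arrow_comp, comp_zero]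
    · obtain ⟨d, rfl⟩ := Nat.exists_eq_add_of_le hk
      rw [pow_add, mul_comm, mul_smul, hz, smul_zero]
  have outer : ∀ {E : EtModW.ModP Λ X}, AP E →
      (∀ n, CP (Groth.Agent.EtModEps19.Tw.q a E n)) ∧ IsIso (Groth.Agent.EtModEps19.Tw.toLim a E) := by
    intro E ⟨Q, p, hp, hc, hl⟩
    obtain ⟨e, he⟩ := Groth.Agent.EtModEps19.Tw.nonempty_iso a p hp
    haveI := hl
    exact ⟨fun n => cp_iso (e.symm.app (op n)) (hc n), Groth.Agent.EtModEps19.Tw.isIso_toLim_of_iso a p e he⟩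
  have hK : ∀ n : ℕ, CP (kernel (a ^ (n + 1) • 𝟙 S.X₃)) := fun n => by
    obtain ⟨Q, p, hp, hc, -⟩ := hker (n + 1)
    obtain ⟨ψ, hψ, -⟩ := (hp n).2 _ (𝟙 (kernel (a ^ (n + 1) • 𝟙 S.X₃))) fun b hb => by
      obtain ⟨r, rfl⟩ : ∃ r, b = r * a ^ (n + 1) := by
        rw [Ideal.span_singleton_pow, Ideal.mem_span_singleton'] at hb
        obtain ⟨r, hr⟩ := hb
        exact ⟨r, hr.symm⟩
      have h0 := kernel.condition (a ^ (n + 1) • 𝟙 S.X₃)
      rw [hsm] at h0
      rw [← cancel_mono (kernel.ι (a ^ (n + 1) • 𝟙 S.X₃)), zero_comp, Linear.smul_comp]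
      refine (congrArg ((r * a ^ (n + 1)) • ·) (Category.id_comp _)).trans ?_
      rw [mul_smul, h0, smul_zero]
    haveI := Groth.Agent.EtModEps19.epi_of_isQuot (hp n)
    refine cp_iso ⟨ψ, p.app (op n), ?_, hψ⟩ (hc n)
    rw [← cancel_epi (p.app (op n)), ← Category.assoc, hψ]
    exact (Category.id_comp _).trans (Category.comp_id _).symm
  obtain ⟨c1, i1⟩ := outer h₁
  obtain ⟨c3, i3⟩ := outer h₃
  haveI := i1
  haveI := i3
  refine ⟨Groth.Agent.EtModEps19.Tw.tw a S.X₂, Groth.Agent.EtModEps19.Tw.twP a S.X₂,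
    fun n => Groth.Agent.EtModEps19.Tw.isQuot_pr a S.X₂ n, fun n => ?_,
    Groth.Agent.EtModEps19.Tw.isIso_toLim_middle a S hS N hN⟩
  obtain ⟨δ, ⟨e⟩⟩ := Groth.Agent.EtModEps19.Tw.exists_cokernel_iso a S hS n
  haveI := hS.epi_g
  let tg : Groth.Agent.EtModEps19.Tw.q a S.X₂ n ⟶ Groth.Agent.EtModEps19.Tw.q a S.X₃ n :=
    (Groth.Agent.EtModEps19.Tw.twMap a S.g).app (op n)
  haveI : Epi tg := by
    have : Epi (S.g ≫ Groth.Agent.EtModEps19.Tw.pr a S.X₃ n) := epi_comp _ _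
    exact epi_of_epi_fac (Groth.Agent.EtModEps19.Tw.pr_twMap a S.g n)
  exact cp_ext (ShortComplex.mk (kernel.ι tg) tg (kernel.condition tg))
    { exact := ShortComplex.exact_kernel tg }
    (cp_iso (e ≪≫ PreservesKernel.iso ((evaluation ℕᵒᵖ (EtModW.ModP Λ X)).obj (op n))
      (Groth.Agent.EtModEps19.Tw.twMap a S.g)) (cp_coker δ (hK n) (c1 n))) (c3 n)

end Groth.Agent.S14015
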