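import Groth.Statements.S14018
import Mathlib.CategoryTheory.Sites.LocallySurjective
import Mathlib.CategoryTheory.Sites.Limits
import Mathlib.CategoryTheory.Limits.Types.Limits
import Mathlib.CategoryTheory.Functor.OfSequence

set_option autoImplicit false
open CategoryTheory CategoryTheory.Limits Opposite
universe w v u
open CohSite

namespace Groth.Agent.S14018
set_option linter.style.haveILetI false
set_option backward.isDefEq.respectTransparency false
set_option backward.isDefEq.respectTransparency.types false


/-- Let (C, J) be a site with enough weakly contractible objects — every object V has a covering sieve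
all of whose arrows factor through some weakly contractible object, an object U being weakly
contractible when every epimorphism of sheaves of sets (valued in a fixed universe) is surjective on
sections over U. Then the topos of sheaves of sets is replete: if (F_n) is an inverse system of
sheaves of sets indexed by ℕ with every transition map F_(n+1) ⟶ F_n an epimorphism, then each
projection lim_n F_n ⟶ F_n is an epimorphism; the limit is taken as any limit cone. (The small
pro-étale site of a scheme is such a site.) -/
theorem result
    {C : Type u} [Category.{v} C] (J : GrothendieckTopology C)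
    (hwc : ∀ V : C, ∃ S : Sieve V, S ∈ J V ∧ ∀ ⦃W : C⦄ (f : W ⟶ V), S.arrows f →
      ∃ (U : C) (g : W ⟶ U) (h : U ⟶ V), (∀ (A B : Sheaf J (Type w)) (ψ : A ⟶ B), Epi ψ → Function.Surjective (ψ.hom.app (op U))) ∧ g ≫ h = f)
    (F : ℕᵒᵖ ⥤ Sheaf J (Type w))
    (hF : ∀ n : ℕ, Epi (F.map (homOfLE (Nat.le_succ n)).op))
    (c : Cone F) (hc : IsLimit c) (n : ℕ) :
    Epi (c.π.app (op n)) := by
  haveI : Sheaf.IsLocallySurjective (c.π.app (op n)) := by
    refine ⟨fun {V} s => ?_⟩
    obtain ⟨R, hR, hfac⟩ := hwc V
    refine J.superset_covering ?_ hR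
    intro W f hf
    obtain ⟨U, g, k, hU, rfl⟩ := hfac f hf
    apply Sieve.downward_closed
    let E := sheafToPresheaf J (Type w) ⋙ (evaluation Cᵒᵖ (Type w)).obj (op U)
    have hEc := isLimitOfPreserves E hc
    have step : ∀ (m : ℕ) (x : (F.obj (op m)).obj.obj (op U)), ∃ y : (F.obj (op (m + 1))).obj.obj (op U),
        (F.map (homOfLE (Nat.le_succ m)).op).hom.app (op U) y = x :=
      fun m x => hU _ _ _ (hF m) x
    choose nxt hnxt using step
    let up : ∀ m : ℕ, n ≤ m → (F.obj (op m)).obj.obj (op U) := fun m h =>
      Nat.leRec (motive := fun m _ => (F.obj (op m)).obj.obj (op U))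
        ((F.obj (op n)).obj.map k.op s) (fun m _ x => nxt m x) h
    have hup : ∀ m (h : n ≤ m), (F.map (homOfLE (Nat.le_succ m)).op).hom.app (op U) (up (m + 1) (Nat.le_succ_of_le h)) = up m h := by
      intro m h
      simp only [up]
      rw [Nat.leRec_succ]
      exact hnxt m _
    let v : ∀ m : ℕ, (E.obj (F.obj (op m))) := fun m =>
      (E.map (F.map (homOfLE (Nat.le_max_left m n)).op)) (up (max m n) (Nat.le_max_right m n))
    have hvm : ∀ (m l : ℕ) (h : n ≤ l) (hml : m ≤ l), (E.map (F.map (homOfLE hml).op)) (up l h) = v m := by
      intro m l h hml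
      have hl : max m n ≤ l := max_le hml h
      induction l, hl using Nat.le_induction with
      | base => rfl
      | succ l hl ih =>
        rw [← ih (le_trans (Nat.le_max_right m n) hl) (le_trans (Nat.le_max_left m n) hl),
          ← hup l (le_trans (Nat.le_max_right m n) hl)]
        rw [show (homOfLE hml).op = (homOfLE (Nat.le_succ l)).op ≫ (homOfLE (le_trans (Nat.le_max_left m n) hl)).op from rfl,
          F.map_comp, E.map_comp]
        rfl
    let sec : (F ⋙ E).sections := ⟨fun i => v i.unop, fun {i j} φ => by
      show (E.map (F.map φ)) (v i.unop) = v j.unop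
      rw [← hvm j.unop (max i.unop n) (Nat.le_max_right _ _) (le_trans (leOfHom φ.unop) (Nat.le_max_left _ _))]
      simp only [v]
      rw [show (homOfLE (le_trans (leOfHom φ.unop) (Nat.le_max_left i.unop n))).op =
        (homOfLE (Nat.le_max_left i.unop n)).op ≫ φ from rfl, F.map_comp, E.map_comp]
      rfl⟩
    refine ⟨(Types.isLimitEquivSections hEc).symm sec, ?_⟩
    refine (Types.isLimitEquivSections_symm_apply hEc sec (op n)).trans ?_
    show v n = _
    rw [← hvm n n le_rfl le_rfl]
    show (E.map (F.map (𝟙 (op n)))) (up n le_rfl) = _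
    rw [F.map_id, E.map_id]
    simp [up, Nat.leRec_self]
  infer_instance

end Groth.Agent.S14018
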