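import Groth.Statements.S1402
import Mathlib.AlgebraicGeometry.ZariskisMainTheorem
import Mathlib.AlgebraicGeometry.QuasiAffine

set_option autoImplicit false
universe u
open FlatMor

namespace Groth.Agent.S1402

open AlgebraicGeometry CategoryTheory Limits in
/-- A separated, locally quasi-finite morphism is ind-quasi-affine. -/
theorem result {X Y : Scheme.{u}} (f : X ⟶ Y) [IsSeparated f] [LocallyQuasiFinite f] [LocallyOfFiniteType f] :
    MoreMor.IsIndQuasiAffineHom f := by
  intro V hV W hW
  have : IsAffine (V : Scheme.{u}) := hV
  have : CompactSpace (W : Scheme.{u}) := isCompact_iff_compactSpace.mp hW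
  let q : (W : Scheme.{u}) ⟶ (V : Scheme.{u}) := W.ι ≫ (f ∣_ V)
  have : IsSeparated q := MorphismProperty.comp_mem _ W.ι (f ∣_ V) inferInstance inferInstance
  have : LocallyOfFiniteType q := MorphismProperty.comp_mem _ W.ι (f ∣_ V) inferInstance inferInstance
  have : LocallyQuasiFinite q := MorphismProperty.comp_mem _ W.ι (f ∣_ V) inferInstance inferInstance
  have : QuasiCompact q := (quasiCompact_iff_compactSpace q).mpr ‹_›
  have : IsAffine q.normalization := isAffine_of_isAffineHom q.fromNormalization
  exact Scheme.IsQuasiAffine.of_isImmersion q.toNormalization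

end Groth.Agent.S1402
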