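import Groth.Statements.S14023
import Mathlib.CategoryTheory.Functor.OfSequence

set_option autoImplicit false
open CategoryTheory CategoryTheory.Limits Opposite
universe v u
open ARSys

namespace Groth.Agent.S14023

/-- For an abelian category A, the category of inverse systems (A_n)_n indexed by ℕ, i.e. of functors
ℕᵒᵖ ⥤ A, has enough injectives if and only if A has enough injectives. (The second assertion of the
published proposition, describing the injective systems, is not part of this row.) -/
theorem result
    (A : Type u) [Category.{v} A] [Abelian A] :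
    EnoughInjectives (ℕᵒᵖ ⥤ A) ↔ EnoughInjectives A := by
  constructor
  · intro _
    refine ⟨fun X => ?_⟩
    let J := Injective.under ((Functor.const ℕᵒᵖ).obj X)
    have hinj : Injective (J.obj (op 0)) := by
      refine ⟨fun {P Q} g f hf => ?_⟩
      obtain ⟨Z, hZ⟩ := (inferInstance : HasZeroObject A).zero
      let L : A → ℕ → A := fun T n => match n with
        | 0 => T
        | _ + 1 => Z
      let LT : A → (ℕᵒᵖ ⥤ A) := fun T => Functor.ofOpSequence (X := L T) (fun n => 0)
      have hz : ∀ (T : A) n, IsZero (L T (n + 1)) := fun T n => hZ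
      let Lf : LT P ⟶ LT Q := NatTrans.ofOpSequence
        (fun n => match n with | 0 => f | _ + 1 => 0) (fun n => (hz P n).eq_of_src _ _)
      have : Mono Lf := by
        have : ∀ j, Mono (Lf.app j) := by
          rintro ⟨_ | n⟩
          · exact hf
          · exact ⟨fun _ _ _ => (hz P n).eq_of_tgt _ _⟩
        exact NatTrans.mono_of_mono_app _
      let Lg : LT P ⟶ J := NatTrans.ofOpSequence
        (fun n => match n with | 0 => g | _ + 1 => 0) (fun n => (hz P n).eq_of_src _ _)
      refine ⟨(Injective.factorThru Lg Lf).app (op 0), ?_⟩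
      exact NatTrans.congr_app (Injective.comp_factorThru Lg Lf) (op 0)
    have : Mono ((Injective.ι ((Functor.const ℕᵒᵖ).obj X)).app (op 0)) :=
      inferInstanceAs (Mono (((evaluation ℕᵒᵖ A).obj (op 0)).map (Injective.ι _)))
    exact ⟨{ J := J.obj (op 0), injective := hinj, f := (Injective.ι ((Functor.const ℕᵒᵖ).obj X)).app (op 0) }⟩
  · intro _
    refine ⟨fun F => ?_⟩
    let I : ℕ → A := fun n => Injective.under (F.obj (op n))
    let J : ℕᵒᵖ ⥤ A :=
      { obj := fun d => ∏ᶜ fun n : Fin (d.unop + 1) => I n
        map := fun {d e} φ => Pi.lift fun n =>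
          Pi.π (fun n : Fin (d.unop + 1) => I n) ⟨n, by have := leOfHom φ.unop; have := n.2; omega⟩
        map_id := fun d => Pi.hom_ext _ _ fun n => by simp
        map_comp := fun φ ψ => Pi.hom_ext _ _ fun n => by simp }
    let toI : ∀ (d : ℕᵒᵖ) (n : Fin (d.unop + 1)), d ⟶ op (n : ℕ) := fun d n =>
      (homOfLE (Nat.lt_succ_iff.1 n.2)).op
    let mk : ∀ (Y : ℕᵒᵖ ⥤ A) (h : ∀ n, Y.obj (op n) ⟶ I n), Y ⟶ J := fun Y h =>
      { app := fun d => Pi.lift fun n => Y.map (toI d n) ≫ h n
        naturality := fun d e φ => Pi.hom_ext _ _ fun n => by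
          simp only [Category.assoc, Pi.lift_π, J, ← Y.map_comp_assoc]
          congr 1 }
    have hinj : Injective J := by
      refine ⟨fun {X Y} g f hf => ?_⟩
      have : ∀ j, Mono (f.app j) := fun j => inferInstanceAs (Mono (((evaluation ℕᵒᵖ A).obj j).map f))
      let h : ∀ n, Y.obj (op n) ⟶ I n := fun n =>
        Injective.factorThru (g.app (op n) ≫ Pi.π (fun m : Fin (n + 1) => I m) ⟨n, n.lt_succ_self⟩)
          (f.app (op n))
      refine ⟨mk Y h, ?_⟩
      ext d n
      simp only [mk, NatTrans.comp_app, Category.assoc, Pi.lift_π]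
      rw [← f.naturality_assoc, Injective.comp_factorThru, g.naturality_assoc]
      simp [J]
    let ι := mk F fun n => Injective.ι (F.obj (op n))
    have : ∀ d, Mono (ι.app d) := fun d => by
      have h1 : ι.app d ≫ Pi.π (fun n : Fin (d.unop + 1) => I n) ⟨d.unop, d.unop.lt_succ_self⟩ =
          Injective.ι (F.obj d) := by
        simp [ι, mk, toI]
      exact mono_of_mono_fac h1
    have : Mono ι := NatTrans.mono_of_mono_app _
    exact ⟨{ J := J, injective := hinj, f := ι }⟩

end Groth.Agent.S14023
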