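import Groth.Statements.S14025
import Groth.Agent.Lib.EtModEps19.ConstrLoc
-- import your own Groth.Agent.* helpers here

set_option autoImplicit false
open CategoryTheory CategoryTheory.Limits AlgebraicGeometry Opposite
universe u
open EtModW

namespace Groth.Agent.S14025

set_option backward.isDefEq.respectTransparency false
set_option backward.isDefEq.respectTransparency.types false

set_option linter.style.haveILetI false
set_option backward.isDefEq.respectTransparency.types false


/-- Let X be a scheme, Λ a Noetherian commutative ring and F a sheaf of Λ-modules on the small pro-étale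
site of X. Then F is constructible — isomorphic to the pro-étale pullback ε⁻¹E of a constructible
sheaf E of Λ-modules on the small étale site — exactly when each affine open U ⊆ X can be split into
finitely many constructible locally closed strata, the images of immersions g_i : T_i ⟶ X, such that
for each i the pullback of F to the small pro-étale site of T_i is isomorphic to the pro-étale
pullback of a finite-type locally constant sheaf of Λ-modules on the small étale site of T_i.
(Continuity of the inclusions of étale into pro-étale sites and of the base-change functors between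
pro-étale sites is carried as binders.) -/
theorem result
    (Λ : Type (u + 1)) [CommRing Λ] [IsNoetherianRing Λ]
    (X : Scheme.{u}) [∀ T : Scheme.{u}, ProEtS.EpsCont T]
    [∀ (T : Scheme.{u}) (g : T ⟶ X), ProEtS.PCont g]
    (F : EtModW.ModP Λ X) :
    (∃ E : EtModW.Mod Λ X, EtModW.IsConstructible Λ E ∧ Nonempty ((EtModW.epsPullMod Λ X).obj E ≅ F)) ↔
      ∀ U : X.Opens, IsAffineOpen U →
        ∃ (m : ℕ) (T : Fin m → Scheme.{u}) (g : ∀ i, T i ⟶ X),
          (∀ i, IsImmersion (g i)) ∧
          (∀ i, Topology.IsConstructible ((Subtype.val : ↥(U : Set X) → X) ⁻¹' Set.range (fun t => (g i).base t))) ∧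
          Pairwise (fun i j => Disjoint (Set.range (fun t => (g i).base t)) (Set.range (fun t => (g j).base t))) ∧
          (⋃ i, Set.range (fun t => (g i).base t)) = (U : Set X) ∧
          ∀ i, ∃ E : EtModW.Mod Λ (T i), EtModW.IsFTLocConst Λ E ∧
            Nonempty ((EtModW.epsPullMod Λ (T i)).obj E ≅ (((ProEtS.bcP (g i)).sheafPullback (ModuleCat.{u + 1} Λ) (Scheme.ProEt.topology X) (Scheme.ProEt.topology (T i)))).obj F) := by
  classical
  have main : ∀ {T : Scheme.{u}} (g : T ⟶ X) (E : EtModW.Mod Λ X),
      (EtModW.epsPullMod Λ T).obj ((EtModW.pull Λ g).obj E) ≅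
        (Groth.Agent.EtModEps19.pullR Λ g).obj ((EtModW.epsPullMod Λ X).obj E) := fun g E =>
    (Groth.Agent.EtModEps19.pullEpsR Λ g).app E
  constructor
  · rintro ⟨E, hE, ⟨e⟩⟩ U hU
    obtain ⟨m, T, g, h1, h2, h3, h4, h5⟩ := hE U hU
    exact ⟨m, T, g, h1, h2, h3, h4, fun i => ⟨_, h5 i, ⟨main (g i) E ≪≫
      (Groth.Agent.EtModEps19.pullR Λ (g i)).mapIso e⟩⟩⟩
  intro h
  haveI hjc : ∀ U : X.Opens, ProEtS.JPCont U.ι := fun U => Groth.Agent.EtModEps19.jPCont U.ι
  have hloc : ∀ U : X.Opens, IsAffineOpen U →
      Groth.Agent.EtModEps19.ClsM ((Groth.Agent.EtModEps19.restrR Λ U.ι).obj F) := by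
    intro U hU
    obtain ⟨m, T, g, h1, h2, h3, h4, h5⟩ := h U hU
    have hle : ∀ i, Set.range (g i) ⊆ Set.range U.ι := fun i => by
      rw [U.range_ι, ← h4]
      exact Set.subset_iUnion (fun i => Set.range (fun t => (g i).base t)) i
    let g' : ∀ i, T i ⟶ U.toScheme := fun i => IsOpenImmersion.lift U.ι (g i) (hle i)
    have hg' : ∀ i, g' i ≫ U.ι = g i := fun i => IsOpenImmersion.lift_fac _ _ _
    have hr : ∀ i, Set.range (g' i).base = (Subtype.val : ↥(U : Set X) → X) ⁻¹' Set.range (fun t => (g i).base t) :=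
      fun i => by
        ext x
        constructor
        · rintro ⟨t, rfl⟩
          refine ⟨t, ?_⟩
          show (g i).base t = (U.ι).base ((g' i).base t)
          rw [← Scheme.Hom.comp_apply, hg']
        · rintro ⟨t, ht⟩
          refine ⟨t, U.ι.isOpenEmbedding.injective ?_⟩
          show (U.ι).base ((g' i).base t) = (U.ι).base x
          rw [← Scheme.Hom.comp_apply, hg']
          exact ht
    haveI : CompactSpace U.toScheme := isCompact_iff_compactSpace.1 hU.isCompact
    haveI : QuasiSeparatedSpace U.toScheme := Groth.Agent.EtModEps19.Strata.quasiSeparated_affine hU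
    haveI : ∀ i, ProEtS.PCont (g' i) := fun i => Groth.Agent.ProEtWC.pCont (g' i)
    suffices hE : Groth.Agent.EtModEps19.EssP ((Groth.Agent.EtModEps19.restrR Λ U.ι).obj F) from @Groth.Agent.EtModEps19.EssP.clsM _ _ _ _ _ hE
    refine (Groth.Agent.EtModEps19.essP_of_iso ((Groth.Agent.EtModEps19.restrPullR Λ U.ι).app F).symm
      (Groth.Agent.EtModEps19.essP_of_strata g' (fun i => ?_) (fun i => ?_) ?_ _ fun i => ?_))
    · haveI := h1 i
      haveI : IsImmersion (g' i ≫ U.ι) := by rw [hg']; infer_instance
      exact IsImmersion.of_comp (g' i) U.ι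
    · rw [hr]
      exact h2 i
    · simp only [hr]
      rw [← Set.preimage_iUnion, h4]
      exact Subtype.coe_preimage_self _
    · obtain ⟨E, -, ⟨e⟩⟩ := h5 i
      have key : ∀ (q : T i ⟶ X) [ProEtS.PCont q], q = g' i ≫ U.ι →
          Groth.Agent.EtModEps19.EssP ((Groth.Agent.EtModEps19.pullR Λ q).obj F) →
          Groth.Agent.EtModEps19.EssP ((Groth.Agent.EtModEps19.pullR Λ (g' i)).obj
            ((Groth.Agent.EtModEps19.pullR Λ U.ι).obj F)) := fun q _ hq hq' => by
        subst hq
        exact Groth.Agent.EtModEps19.essP_of_iso ((Groth.Agent.EtModEps19.pullRComp Λ (g' i) U.ι).app F) hq'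
      exact key (g i) (hg' i).symm ⟨E, ⟨e⟩⟩
  have hcls : Groth.Agent.EtModEps19.ClsM F :=
    Groth.Agent.EtModEps19.clsM_of_opens (fun U : X.affineOpens => (U : X.Opens)) (iSup_affineOpens_eq_top X)
      fun U => hloc _ U.2
  haveI := Groth.Agent.EtModEps19.isIso_counit_of_clsM @hcls
  let eF := asIso ((Groth.Agent.EtModEps19.epsAdjMod (X := X) Λ).counit.app F)
  refine ⟨_, fun U hU => ?_, ⟨eF⟩⟩
  obtain ⟨m, T, g, h1, h2, h3, h4, h5⟩ := h U hU
  refine ⟨m, T, g, h1, h2, h3, h4, fun i => ?_⟩
  obtain ⟨E, hE, ⟨e⟩⟩ := h5 i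
  exact Groth.Agent.EtModEps19.isFTLocConst_of_iso
    ((Functor.FullyFaithful.ofFullyFaithful (EtModW.epsPullMod Λ (T i))).preimageIso
      (main (g i) _ ≪≫ (Groth.Agent.EtModEps19.pullR Λ (g i)).mapIso eF ≪≫ e.symm)).symm hE

end Groth.Agent.S14025
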