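import Groth.Statements.S14028
import Groth.Agent.Lib.EtModEps19.AdicMap
import Groth.Agent.Lib.EtModEps19.QuotSect
import Groth.Agent.Lib.ProEtWC.PushExact
import Groth.Agent.S0720
import Groth.Agent.S0717
import Mathlib.CategoryTheory.Abelian.RightDerived
-- import your own Groth.Agent.* helpers here

set_option autoImplicit false
open CategoryTheory CategoryTheory.Limits AlgebraicGeometry Opposite
universe u
open EtModW

namespace Groth.Agent.S14028

set_option backward.isDefEq.respectTransparency false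
set_option backward.isDefEq.respectTransparency.types false

set_option linter.style.haveILetI false
set_option backward.isDefEq.respectTransparency.types false


/-- Let X be a scheme, Λ a commutative ring, I an ideal of Λ and i : Z ⟶ X a closed immersion whose open
complement is retrocompact in X (its inclusion is quasi-compact). Assume that the étale direct image
along i sends constructible sheaves of Λ-modules on Z to constructible sheaves on X (a standard
fact, carried here as a hypothesis). Let F be an I-adic pro-étale sheaf of Λ-modules on Z: F has a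
compatible tower of quotient maps F ⟶ Q_n modulo I^(n+1), each Q_n isomorphic to the pro-étale
pullback of a constructible étale sheaf, and the canonical map F ⟶ lim_n Q_n is an isomorphism. Then
the direct image i_*F on the small pro-étale site of X is again an I-adic pro-étale sheaf.
(Continuity of the inclusions of étale into pro-étale sites and of the base-change functor along i
is carried as binders.) -/
theorem result
    (Λ : Type (u + 1)) [CommRing Λ] (I : Ideal Λ)
    {Z X : Scheme.{u}} (i : Z ⟶ X) [IsClosedImmersion i]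
    (hret : IsRetrocompact (Set.range (fun z => i.base z))ᶜ)
    [ProEtS.EpsCont Z] [ProEtS.EpsCont X] [ProEtS.PCont i]
    (hpush : ∀ E : EtModW.Mod Λ Z, EtModW.IsConstructible Λ E →
      EtModW.IsConstructible Λ ((EtModW.push Λ i).obj E))
    (F : EtModW.ModP Λ Z)
    (hF : (∃ (Q : ℕᵒᵖ ⥤ EtModW.ModP Λ Z) (p : (Functor.const ℕᵒᵖ).obj F ⟶ Q),
        (∀ n : ℕ, ARSys.IsQuot (I ^ (n + 1)) (p.app (op n))) ∧
        (∀ n : ℕ, ∃ E : EtModW.Mod Λ Z, EtModW.IsConstructible Λ E ∧
          Nonempty ((EtModW.epsPullMod Λ Z).obj E ≅ Q.obj (op n))) ∧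
        IsIso (limit.lift Q (Cone.mk F p)))) :
    (∃ (Q : ℕᵒᵖ ⥤ EtModW.ModP Λ X) (p : (Functor.const ℕᵒᵖ).obj (((ProEtS.bcP i).sheafPushforwardContinuous (ModuleCat.{u + 1} Λ) (Scheme.ProEt.topology X) (Scheme.ProEt.topology Z)).obj F) ⟶ Q),
      (∀ n : ℕ, ARSys.IsQuot (I ^ (n + 1)) (p.app (op n))) ∧
      (∀ n : ℕ, ∃ E : EtModW.Mod Λ X, EtModW.IsConstructible Λ E ∧
        Nonempty ((EtModW.epsPullMod Λ X).obj E ≅ Q.obj (op n))) ∧
      IsIso (limit.lift Q (Cone.mk (((ProEtS.bcP i).sheafPushforwardContinuous (ModuleCat.{u + 1} Λ) (Scheme.ProEt.topology X) (Scheme.ProEt.topology Z)).obj F) p))) := by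
  classical
  obtain ⟨Q, p, hp, hc, hl⟩ := hF
  haveI := hl
  let R := (ProEtS.bcP i).sheafPushforwardContinuous (ModuleCat.{u + 1} Λ) (Scheme.ProEt.topology X) (Scheme.ProEt.topology Z)
  haveI : R.IsRightAdjoint := ((ProEtS.bcP i).sheafAdjunctionContinuous (ModuleCat.{u + 1} Λ) (Scheme.ProEt.topology X) (Scheme.ProEt.topology Z)).isRightAdjoint
  haveI : R.Additive := { map_add := fun {_ _ _ _} => rfl }
  haveI : R.Linear Λ := { map_smul := fun {_ _} _ _ => rfl }
  have hwc : ∀ V : X.ProEt, IsAffine V.left → EtPBC.IsWContractible ↥(Γ(V.left, ⊤)) →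
      IsAffine ((ProEtS.bcP i).obj V).left ∧ ProEtS.IsWC ((ProEtS.bcP i).obj V) := fun V hV hW => by
    haveI := hV
    let q : ((ProEtS.bcP i).obj V).left ⟶ V.left := pullback.fst V.hom i
    haveI : IsClosedImmersion q :=
      MorphismProperty.pullback_fst (P := @IsClosedImmersion) _ _ ‹IsClosedImmersion i›
    exact ⟨isAffine_of_isAffineHom q, Groth.Agent.ProEtWC.isWC_bcP_of_closedImmersion i hret V hW⟩
  refine ⟨Q ⋙ R, _, fun n => ?_, fun n => ?_, Groth.Agent.EtModEps19.isIso_lift_map R p⟩
  · let J := I ^ (n + 1)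
    have hp' := hp n
    haveI := Groth.Agent.EtModEps19.epi_of_isQuot hp'
    haveI : Epi (R.map (p.app (op n))) := ⟨fun {Y} a b h => by
      refine Groth.Agent.EtModEps19.hom_ext_affine_wc a b fun V hV hW x => ?_
      obtain ⟨y, rfl⟩ := Groth.Agent.EtModEps19.wc_surjective (hwc V hV hW).2 (p.app (op n)) x
      exact congr($(h).hom.app (op V) y)⟩
    refine ⟨fun a ha => ?_, fun Y φ hφ => ?_⟩
    · show a • 𝟙 (R.obj (Q.obj (op n))) = 0
      rw [← CategoryTheory.Functor.map_id, ← Functor.map_smul, hp'.1 a ha, Functor.map_zero]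
    have hk : kernel.ι (R.map (p.app (op n))) ≫ φ = 0 := by
      refine Groth.Agent.EtModEps19.hom_ext_affine_wc _ _ fun V hV hW x => ?_
      let y := (kernel.ι (R.map (p.app (op n)))).hom.app (op V) x
      have hy : (p.app (op n)).hom.app (op ((ProEtS.bcP i).obj V)) y = 0 :=
        congr($(kernel.condition (R.map (p.app (op n)))).hom.app (op V) x)
      haveI := (hwc V hV hW).1
      have hmem := Groth.Agent.EtModEps19.mem_smul_of_app_eq_zero (p.app (op n)) hp'
        ((Groth.Agent.ProEtWC.isWC_iff_hasSections _).1 (hwc V hV hW).2) y hy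
      have hle : J • (⊤ : Submodule Λ (F.obj.obj (op ((ProEtS.bcP i).obj V)))) ≤ LinearMap.ker (φ.hom.app (op V)).hom :=
        Submodule.smul_le.2 fun a ha z _ => by
          show φ.hom.app (op V) (a • z) = 0
          rw [map_smul]
          exact congr($(hφ a ha).hom.app (op V) z)
      exact hle hmem
    obtain ⟨ψ, hψ⟩ : ∃ ψ, R.map (p.app (op n)) ≫ ψ = φ := ⟨Abelian.epiDesc _ φ hk, Abelian.comp_epiDesc _ _ _⟩
    exact ⟨ψ, hψ, fun y hy => (cancel_epi (R.map (p.app (op n)))).1 (hy.trans hψ.symm)⟩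
  · obtain ⟨E, hE, ⟨e⟩⟩ := hc n
    let ε := EtModW.epsPullMod Λ Z
    let A := Groth.Agent.EtModEps19.epsAdjMod (X := X) Λ
    let M : EtModW.ModP Λ X := R.obj (ε.obj E)
    let e₁ : (EtModW.push Λ i).obj E ≅ (Groth.Agent.EtModEps19.epsPushMod Λ).obj M :=
      (EtModW.push Λ i).mapIso (asIso ((Groth.Agent.EtModEps19.epsAdjMod (X := Z) Λ).unit.app E))
    haveI : IsIso (A.counit.app M) := by
      obtain ⟨eR⟩ := Groth.Agent.S0720.result i ((Groth.Agent.EtModEps19.fgE Λ Z).obj E) 0
      haveI : (ProEtS.pushP i).IsRightAdjoint := (ProEtS.pullPushAdjP i).isRightAdjoint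
      let eM : (Groth.Agent.EtModEps19.fgP Λ X).obj M ≅ (ProEtS.epsPull X).obj ((EtCoh.Rpush i 0).obj ((Groth.Agent.EtModEps19.fgE Λ Z).obj E)) :=
        (ProEtS.pushP i).mapIso ((Groth.Agent.EtModEps19.cmpIso Λ).app E).symm ≪≫
          ((ProEtS.pushP i).rightDerivedZeroIsoSelf.app _).symm ≪≫ eR
      haveI : IsIso ((ProEtS.epsAdj X).counit.app ((Groth.Agent.EtModEps19.fgP Λ X).obj M)) := by
        refine (NatTrans.isIso_app_iff_of_iso _ eM).2 ?_
        haveI := Groth.Agent.S0717.result X ((EtCoh.Rpush i 0).obj ((Groth.Agent.EtModEps19.fgE Λ Z).obj E))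
        exact IsIso.of_isIso_fac_left ((ProEtS.epsAdj X).left_triangle_components _)
      have h : (Groth.Agent.EtModEps19.cmp Λ).app ((Groth.Agent.EtModEps19.epsPushMod Λ).obj M) ≫
          (Groth.Agent.EtModEps19.fgP Λ X).map (A.counit.app M) =
          (ProEtS.epsAdj X).counit.app ((Groth.Agent.EtModEps19.fgP Λ X).obj M) := by
        refine ((ProEtS.epsAdj X).homEquiv _ _).injective ?_
        have hl : ((ProEtS.epsAdj X).homEquiv _ _) ((Groth.Agent.EtModEps19.cmp Λ).app ((Groth.Agent.EtModEps19.epsPushMod Λ).obj M)) =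
            (Groth.Agent.EtModEps19.fgE Λ X).map (A.unit.app ((Groth.Agent.EtModEps19.epsPushMod Λ).obj M)) ≫
              (Groth.Agent.EtModEps19.pushFg Λ).hom.app _ := Equiv.apply_symm_apply _ _
        rw [Adjunction.homEquiv_naturality_right, hl]
        let N := (Groth.Agent.EtModEps19.fgP Λ X).obj M
        have hr : (ProEtS.epsAdj X).homEquiv ((ProEtS.epsPush X).obj N) N ((ProEtS.epsAdj X).counit.app N) = 𝟙 _ :=
          ((ProEtS.epsAdj X).homEquiv_unit _ _ _).trans ((ProEtS.epsAdj X).right_triangle_components N)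
        refine Eq.trans ?_ hr.symm
        ext V z
        exact congr($(A.right_triangle_components M).hom.app V z)
      haveI : IsIso ((Groth.Agent.EtModEps19.fgP Λ X).map (A.counit.app M)) := IsIso.of_isIso_fac_left h
      exact isIso_of_reflects_iso _ (Groth.Agent.EtModEps19.fgP Λ X)
    exact ⟨_, hpush E hE, ⟨(EtModW.epsPullMod Λ X).mapIso e₁ ≪≫ asIso (A.counit.app M) ≪≫ R.mapIso e⟩⟩

end Groth.Agent.S14028
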