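import Groth.Statements.S1403
import Mathlib
import Groth.Agent.Lib.DimClosedH1.Core

set_option autoImplicit false
universe u
open FlatMor

namespace Groth.Agent.S1403

/-- Let A → B be an injective local homomorphism of local domains with B essentially of finite type and
flat over A. Then dim(B / m_A B) + trdeg_{κ(A)} κ(B) = trdeg_A B; all three quantities are finite
here, and the statement gives them as natural numbers d, e with d + e the transcendence degree of B
over A. -/
theorem result {A B : Type u} [CommRing A] [CommRing B] [IsDomain A] [IsDomain B] [IsLocalRing A] [IsLocalRing B]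
    [Algebra A B] [IsLocalHom (algebraMap A B)] [FaithfulSMul A B] [Algebra.EssFiniteType A B] [Module.Flat A B] :
    ∃ d e : ℕ, ringKrullDim (B ⧸ Ideal.map (algebraMap A B) (IsLocalRing.maximalIdeal A)) = d ∧
      Algebra.trdeg (IsLocalRing.ResidueField A) (IsLocalRing.ResidueField B) = e ∧ Algebra.trdeg A B = (d + e : ℕ) := by
  letI : Algebra (IsLocalRing.ResidueField A) (B ⧸ Ideal.map (algebraMap A B) (IsLocalRing.maximalIdeal A)) :=
    (Ideal.Quotient.lift (IsLocalRing.maximalIdeal A)
      ((Ideal.Quotient.mk (Ideal.map (algebraMap A B) (IsLocalRing.maximalIdeal A))).comp (algebraMap A B))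
      (fun a ha => Ideal.Quotient.eq_zero_iff_mem.mpr (Ideal.mem_map_of_mem _ ha))).toAlgebra
  let m := IsLocalRing.maximalIdeal A
  let I := Ideal.map (algebraMap A B) m
  let k := IsLocalRing.ResidueField A
  haveI : IsScalarTower A k (B ⧸ I) := IsScalarTower.of_algebraMap_eq fun a => rfl
  have hIm : I ≤ IsLocalRing.maximalIdeal B := IsLocalRing.map_maximalIdeal_le _
  haveI : Nontrivial (B ⧸ I) := Ideal.Quotient.nontrivial_iff.mpr
    (fun h => (IsLocalRing.maximalIdeal.isMaximal B).ne_top (top_le_iff.mp (h ▸ hIm)))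
  haveI : IsLocalRing (B ⧸ I) := IsLocalRing.of_surjective' (Ideal.Quotient.mk I) Ideal.Quotient.mk_surjective
  haveI : Algebra.EssFiniteType A (B ⧸ I) := Algebra.EssFiniteType.comp A B (B ⧸ I)
  haveI : Algebra.EssFiniteType k (B ⧸ I) := Algebra.EssFiniteType.of_comp A k (B ⧸ I)
  haveI : IsNoetherianRing (B ⧸ I) := Algebra.EssFiniteType.isNoetherianRing k _
  let m0 := IsLocalRing.maximalIdeal (B ⧸ I)
  obtain ⟨s, hs, hcard⟩ := m0.exists_finset_card_eq_height_of_isNoetherianRing
  have hdim : ringKrullDim (B ⧸ I) = (s.card : ℕ) := by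
    rw [← IsLocalRing.maximalIdeal_height_eq_ringKrullDim, ← hcard]; rfl
  obtain ⟨l, hl, hlen⟩ := Order.exists_series_of_le_height (⟨m0, inferInstance⟩ : PrimeSpectrum (B ⧸ I))
    (n := s.card) (by rw [← PrimeSpectrum.height_eq_orderHeight]; exact hcard.le)
  let P := l.head
  let C := (B ⧸ I) ⧸ P.asIdeal
  haveI : IsDomain C := Ideal.Quotient.isDomain _
  haveI : IsLocalRing C := IsLocalRing.of_surjective' (Ideal.Quotient.mk P.asIdeal) Ideal.Quotient.mk_surjective
  haveI : Algebra.EssFiniteType k C := Algebra.EssFiniteType.comp k (B ⧸ I) C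
  have hdimC : ringKrullDim C = (s.card : ℕ) := by
    refine le_antisymm ((ringKrullDim_quotient_le _).trans hdim.le) ?_
    rw [ringKrullDim_quotient]
    have h := Order.length_le_coheight_head (p := l)
    rw [hlen] at h
    calc ((s.card : ℕ) : WithBot ℕ∞) ≤ (Order.coheight P : WithBot ℕ∞) := by exact_mod_cast h
      _ = _ := by
        rw [Order.coheight_eq_krullDim_Ici]
        exact Order.krullDim_eq_of_orderIso (OrderIso.setCongr _ _ (by ext q; rfl))
  let res0 : (B ⧸ I) →+* IsLocalRing.ResidueField B :=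
    Ideal.Quotient.lift I (IsLocalRing.residue B) fun a ha => (IsLocalRing.residue_eq_zero_iff a).mpr (hIm ha)
  have hres0 : Function.Surjective res0 := fun c => by
    obtain ⟨b, rfl⟩ := IsLocalRing.residue_surjective c
    exact ⟨Ideal.Quotient.mk I b, rfl⟩
  have hPker : ∀ a ∈ P.asIdeal, res0 a = 0 := fun a ha => by
    have h := IsLocalRing.le_maximalIdeal P.isPrime.ne_top ha
    rwa [← IsLocalRing.eq_maximalIdeal (RingHom.ker_isMaximal_of_surjective res0 hres0)] at h
  let π : C →ₐ[k] IsLocalRing.ResidueField B :=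
    { Ideal.Quotient.lift P.asIdeal res0 hPker with
      commutes' := fun r => by
        obtain ⟨a, rfl⟩ := IsLocalRing.residue_surjective r
        rfl }
  obtain ⟨d', e, hd', he, hC⟩ := Groth.Agent.DimClosedH1.dim_add_trdeg_local π (fun c => by
    obtain ⟨b, rfl⟩ := hres0 c
    exact ⟨Ideal.Quotient.mk _ b, rfl⟩)
  have hdd : d' = s.card := by rw [hdimC] at hd'; exact_mod_cast hd'.symm
  subst hdd
  refine ⟨s.card, e, hdim, he, le_antisymm ?_ ?_⟩
  · classical
    obtain ⟨ι, y, hy⟩ := exists_isTranscendenceBasis' k (IsLocalRing.ResidueField B)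
    have hι : Cardinal.mk ι = e := hy.cardinalMk_eq_trdeg.trans he
    let lift0 := Function.surjInv (Ideal.Quotient.mk_surjective (I := I))
    let lifty := Function.surjInv (IsLocalRing.residue_surjective (R := B))
    let X : Set B := lift0 '' (s : Set (B ⧸ I))
    let Y : Set B := Set.range (lifty ∘ y)
    have hXI : ∀ z, Ideal.Quotient.mk I (lift0 z) = z := Function.surjInv_eq _
    have hsm : ∀ z ∈ s, z ∈ m0 := fun z hz => hs.1.2 (Ideal.subset_span hz)
    have hYimg : IsLocalRing.residue B '' Y = Set.range y := by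
      rw [← Set.range_comp]
      congr 1
      funext i
      exact Function.surjInv_eq _ _
    haveI : Finite ι := Cardinal.lt_aleph0_iff_finite.mp (hι ▸ Cardinal.natCast_lt_aleph0)
    have hcore := Groth.Agent.DimClosedH1.exists_integral_fraction (A := A) X Y (s.finite_toSet.image _) (Set.finite_range _) ?_ ?_ ?_
    · haveI := Groth.Agent.DimClosedH1.isAlgebraic_core hcore
      refine (Algebra.IsAlgebraic.trdeg_le_cardinalMk A (X ∪ Y)).trans ?_
      refine (Cardinal.mk_union_le _ _).trans ?_
      rw [Nat.cast_add]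
      refine add_le_add ?_ ?_
      · exact Cardinal.mk_image_le.trans_eq Cardinal.mk_coe_finset
      · exact Cardinal.mk_range_le.trans hι.le
    · intro b hb
      have hb' : Ideal.Quotient.mk I b ∈ m0 := fun hu => by
        apply (IsLocalRing.mem_maximalIdeal b).mp hb
        haveI : IsLocalHom (Ideal.Quotient.mk I) := IsLocalHom.of_surjective _ Ideal.Quotient.mk_surjective
        exact isUnit_of_map_unit _ _ hu
      have hrad : m0 ≤ (Ideal.span (s : Set (B ⧸ I))).radical := by
        rw [Ideal.radical_eq_sInf]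
        refine le_sInf fun Q hQ => ?_
        haveI := hQ.2
        exact hs.2 ⟨hQ.2, hQ.1⟩ (IsLocalRing.le_maximalIdeal hQ.2.ne_top)
      obtain ⟨n, hn⟩ := hrad hb'
      refine ⟨n, ?_⟩
      have hmap : (I ⊔ Ideal.span X).map (Ideal.Quotient.mk I) = Ideal.span (s : Set (B ⧸ I)) := by
        rw [Ideal.map_sup, Ideal.map_quotient_self, bot_sup_eq, Ideal.map_span, Set.image_image]
        simp [hXI]
      rw [← hmap, ← map_pow] at hn
      have := Ideal.mem_comap.mpr hn
      rwa [Ideal.comap_map_of_surjective _ Ideal.Quotient.mk_surjective, ← RingHom.ker_eq_comap_bot,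
        Ideal.mk_ker, sup_eq_left.mpr le_sup_left] at this
    · rintro _ ⟨z, hz, rfl⟩
      intro hu
      exact (IsLocalRing.mem_maximalIdeal z).mp (hsm z hz) (hXI z ▸ hu.map (Ideal.Quotient.mk I))
    · intro a
      rw [hYimg]
      exact hy.isAlgebraic.isAlgebraic _
  · rw [← hC]
    obtain ⟨ι, w, hw⟩ := exists_isTranscendenceBasis' k C
    rw [← hw.cardinalMk_eq_trdeg]
    let φ : B →ₐ[A] C := (IsScalarTower.toAlgHom A (B ⧸ I) C).comp (Ideal.Quotient.mkₐ A I)
    have hφ : Function.Surjective φ := fun c => by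
      obtain ⟨c', rfl⟩ := Ideal.Quotient.mk_surjective c
      obtain ⟨b, rfl⟩ := Ideal.Quotient.mk_surjective c'
      exact ⟨b, rfl⟩
    refine (Groth.Agent.DimClosedH1.algebraicIndependent_of_flat φ (Function.surjInv hφ ∘ w) ?_).cardinalMk_le_trdeg
    rw [show φ ∘ Function.surjInv hφ ∘ w = w from funext fun i => Function.surjInv_eq hφ (w i)]
    exact hw.1

end Groth.Agent.S1403
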