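import Groth.Statements.S14030
import Groth.Agent.Lib.EtModEps19.AdicMap
import Groth.Agent.S0731
import Mathlib.CategoryTheory.Adjunction.Unique
-- import your own Groth.Agent.* helpers here

set_option autoImplicit false
open CategoryTheory CategoryTheory.Limits AlgebraicGeometry Opposite
universe u
open EtModW

namespace Groth.Agent.S14030

set_option backward.isDefEq.respectTransparency false
set_option backward.isDefEq.respectTransparency.types false

set_option linter.style.haveILetI false
set_option backward.isDefEq.respectTransparency.types false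


/-- Let X be a scheme, Λ a commutative ring, I an ideal of Λ and j : U ⟶ X a quasi-compact open
immersion. Assume that extension by zero along j on the small étale sites sends constructible
sheaves of Λ-modules on U to constructible sheaves on X (a standard fact, carried here as a
hypothesis). Let F be an I-adic pro-étale sheaf of Λ-modules on U: F has a compatible tower of
quotient maps F ⟶ Q_n modulo I^(n+1), each Q_n isomorphic to the pro-étale pullback of a
constructible étale sheaf, and the canonical map F ⟶ lim_n Q_n is an isomorphism. Then the extension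
by zero j_!F on the small pro-étale site of X is again an I-adic pro-étale sheaf. (Continuity of the
inclusions of étale into pro-étale sites and of composition with j on both sites, and the existence
of the étale extension by zero as a left adjoint, are carried as binders.) -/
theorem result
    (Λ : Type (u + 1)) [CommRing Λ] (I : Ideal Λ)
    {U X : Scheme.{u}} (j : U ⟶ X) [IsOpenImmersion j] [QuasiCompact j] [hje : Etale j] [WeaklyEtale j]
    [ProEtS.EpsCont U] [ProEtS.EpsCont X] [ProEtS.JPCont j]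
    [(MorphismProperty.Over.map (P := EtCoh.etaleMP.{u}) ⊤ (f := j) hje).IsContinuous U.smallEtaleTopology X.smallEtaleTopology]
    [((MorphismProperty.Over.map (P := EtCoh.etaleMP.{u}) ⊤ (f := j) hje).sheafPushforwardContinuous (ModuleCat.{u + 1} Λ) U.smallEtaleTopology X.smallEtaleTopology).IsRightAdjoint]
    (hext : ∀ E : EtModW.Mod Λ U, EtModW.IsConstructible Λ E →
      EtModW.IsConstructible Λ (((MorphismProperty.Over.map (P := EtCoh.etaleMP.{u}) ⊤ (f := j) hje).sheafPullback (ModuleCat.{u + 1} Λ) U.smallEtaleTopology X.smallEtaleTopology).obj E))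
    (F : EtModW.ModP Λ U)
    (hF : (∃ (Q : ℕᵒᵖ ⥤ EtModW.ModP Λ U) (p : (Functor.const ℕᵒᵖ).obj F ⟶ Q),
        (∀ n : ℕ, ARSys.IsQuot (I ^ (n + 1)) (p.app (op n))) ∧
        (∀ n : ℕ, ∃ E : EtModW.Mod Λ U, EtModW.IsConstructible Λ E ∧
          Nonempty ((EtModW.epsPullMod Λ U).obj E ≅ Q.obj (op n))) ∧
        IsIso (limit.lift Q (Cone.mk F p)))) :
    (∃ (Q : ℕᵒᵖ ⥤ EtModW.ModP Λ X) (p : (Functor.const ℕᵒᵖ).obj (((ProEtS.compP j).sheafPullback (ModuleCat.{u + 1} Λ) (Scheme.ProEt.topology U) (Scheme.ProEt.topology X)).obj F) ⟶ Q),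
      (∀ n : ℕ, ARSys.IsQuot (I ^ (n + 1)) (p.app (op n))) ∧
      (∀ n : ℕ, ∃ E : EtModW.Mod Λ X, EtModW.IsConstructible Λ E ∧
        Nonempty ((EtModW.epsPullMod Λ X).obj E ≅ Q.obj (op n))) ∧
      IsIso (limit.lift Q (Cone.mk (((ProEtS.compP j).sheafPullback (ModuleCat.{u + 1} Λ) (Scheme.ProEt.topology U) (Scheme.ProEt.topology X)).obj F) p))) := by
  classical
  obtain ⟨Q, p, hp, hc, hl⟩ := hF
  haveI := hl
  let R := (ProEtS.compP j).sheafPushforwardContinuous (ModuleCat.{u + 1} Λ) (Scheme.ProEt.topology U) (Scheme.ProEt.topology X)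
  let L := (ProEtS.compP j).sheafPullback (ModuleCat.{u + 1} Λ) (Scheme.ProEt.topology U) (Scheme.ProEt.topology X)
  let adj : L ⊣ R := (ProEtS.compP j).sheafAdjunctionContinuous _ _ _
  haveI : R.Additive := { map_add := fun {_ _ _ _} => rfl }
  haveI : R.Linear Λ := { map_smul := fun {_ _} _ _ => rfl }
  haveI : PreservesLimitsOfShape ℕᵒᵖ L := by
    haveI := Groth.Agent.S0731.result j (AsSmall.{u} ℕᵒᵖ)
    haveI : PreservesLimitsOfShape ℕᵒᵖ (ProEtS.extZeroP j) :=
      preservesLimitsOfShape_of_equiv (AsSmall.equiv (C := ℕᵒᵖ)).symm _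
    haveI : PreservesLimitsOfShape ℕᵒᵖ (Groth.Agent.EtModEps19.fgP Λ U ⋙ ProEtS.extZeroP j) :=
      comp_preservesLimitsOfShape _ _
    haveI : PreservesLimitsOfShape ℕᵒᵖ (L ⋙ Groth.Agent.EtModEps19.fgP Λ X) :=
      preservesLimitsOfShape_of_natIso (Groth.Agent.EtModEps19.extPForget Λ j).symm
    haveI : ReflectsLimitsOfShape ℕᵒᵖ (Groth.Agent.EtModEps19.fgP Λ X) :=
      reflectsLimitsOfShape_of_reflectsIsomorphisms
    exact preservesLimitsOfShape_of_reflects_of_preserves L (Groth.Agent.EtModEps19.fgP Λ X)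
  refine ⟨Q ⋙ L, _, fun n => Groth.Agent.EtModEps19.isQuot_of_adj adj (hp n), fun n => ?_,
    Groth.Agent.EtModEps19.isIso_lift_map L p⟩
  obtain ⟨E, hE, ⟨e⟩⟩ := hc n
  refine ⟨_, hext E hE, ⟨?_ ≪≫ L.mapIso e⟩⟩
  let M := MorphismProperty.Over.map (P := EtCoh.etaleMP.{u}) ⊤ (f := j) hje
  let a1 := (M.sheafAdjunctionContinuous (ModuleCat.{u + 1} Λ) U.smallEtaleTopology X.smallEtaleTopology).comp
    (Groth.Agent.EtModEps19.epsAdjMod (X := X) Λ)
  let a2 := (Groth.Agent.EtModEps19.epsAdjMod (X := U) Λ).comp adj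
  exact (Adjunction.leftAdjointUniq a1 (a2.ofNatIsoRight (Iso.refl _))).app E

end Groth.Agent.S14030
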