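import Groth.Statements.S14031
import Groth.Agent.Lib.EtModEps19.RecollMod
import Groth.Agent.Lib.EtModEps19.AdicP
import Groth.Agent.S14015
import Groth.Agent.S14028
import Groth.Agent.S14030
import Mathlib.CategoryTheory.Adjunction.Unique
-- import your own Groth.Agent.* helpers here

set_option autoImplicit false
open CategoryTheory CategoryTheory.Limits AlgebraicGeometry Opposite
universe u
open EtModW

namespace Groth.Agent.S14031

set_option backward.isDefEq.respectTransparency false
set_option backward.isDefEq.respectTransparency.types false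

set_option linter.style.haveILetI false
set_option backward.isDefEq.respectTransparency.types false


/-- Let X be a Noetherian scheme, Λ a Noetherian commutative ring and I = (a) a principal ideal of Λ;
let j : U ⟶ X be an open immersion and i : Z ⟶ X a closed immersion with complementary images.
Assume that étale extension by zero along j and étale direct image along i send constructible
sheaves of Λ-modules to constructible sheaves (standard facts, carried as hypotheses). If F is a
sheaf of Λ-modules on the small pro-étale site of X whose pullbacks to the small pro-étale sites of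
U and of Z are both I-adic pro-étale sheaves (each has a compatible tower of quotient maps modulo
I^(n+1) with targets isomorphic to pro-étale pullbacks of constructible étale sheaves and is the
limit of its tower by the canonical map), then F itself is an I-adic pro-étale sheaf. (The published
statement allows an arbitrary ideal; this row states the case of a principal ideal I = (a).
Continuity of the site functors involved and existence of the étale extension by zero are carried as
binders.) -/
theorem result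
    (Λ : Type (u + 1)) [CommRing Λ] [IsNoetherianRing Λ] (a : Λ)
    {U Z X : Scheme.{u}} [IsNoetherian X]
    (j : U ⟶ X) [IsOpenImmersion j] [QuasiCompact j] [hje : Etale j] [WeaklyEtale j]
    (i : Z ⟶ X) [IsClosedImmersion i]
    (hUZ : Set.range (fun z => i.base z) = (Set.range (fun t => j.base t))ᶜ)
    [ProEtS.EpsCont U] [ProEtS.EpsCont Z] [ProEtS.EpsCont X]
    [ProEtS.JPCont j] [ProEtS.PCont j] [ProEtS.PCont i]
    [(MorphismProperty.Over.map (P := EtCoh.etaleMP.{u}) ⊤ (f := j) hje).IsContinuous U.smallEtaleTopology X.smallEtaleTopology]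
    [((MorphismProperty.Over.map (P := EtCoh.etaleMP.{u}) ⊤ (f := j) hje).sheafPushforwardContinuous (ModuleCat.{u + 1} Λ) U.smallEtaleTopology X.smallEtaleTopology).IsRightAdjoint]
    (hext : ∀ E : EtModW.Mod Λ U, EtModW.IsConstructible Λ E →
      EtModW.IsConstructible Λ (((MorphismProperty.Over.map (P := EtCoh.etaleMP.{u}) ⊤ (f := j) hje).sheafPullback (ModuleCat.{u + 1} Λ) U.smallEtaleTopology X.smallEtaleTopology).obj E))
    (hpush : ∀ E : EtModW.Mod Λ Z, EtModW.IsConstructible Λ E →
      EtModW.IsConstructible Λ ((EtModW.push Λ i).obj E))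
    (F : EtModW.ModP Λ X)
    (hU : (∃ (Q : ℕᵒᵖ ⥤ EtModW.ModP Λ U) (p : (Functor.const ℕᵒᵖ).obj (((ProEtS.bcP j).sheafPullback (ModuleCat.{u + 1} Λ) (Scheme.ProEt.topology X) (Scheme.ProEt.topology U)).obj F) ⟶ Q),
        (∀ n : ℕ, ARSys.IsQuot ((Ideal.span {a}) ^ (n + 1)) (p.app (op n))) ∧
        (∀ n : ℕ, ∃ E : EtModW.Mod Λ U, EtModW.IsConstructible Λ E ∧
          Nonempty ((EtModW.epsPullMod Λ U).obj E ≅ Q.obj (op n))) ∧
        IsIso (limit.lift Q (Cone.mk (((ProEtS.bcP j).sheafPullback (ModuleCat.{u + 1} Λ) (Scheme.ProEt.topology X) (Scheme.ProEt.topology U)).obj F) p))))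
    (hZ : (∃ (Q : ℕᵒᵖ ⥤ EtModW.ModP Λ Z) (p : (Functor.const ℕᵒᵖ).obj (((ProEtS.bcP i).sheafPullback (ModuleCat.{u + 1} Λ) (Scheme.ProEt.topology X) (Scheme.ProEt.topology Z)).obj F) ⟶ Q),
        (∀ n : ℕ, ARSys.IsQuot ((Ideal.span {a}) ^ (n + 1)) (p.app (op n))) ∧
        (∀ n : ℕ, ∃ E : EtModW.Mod Λ Z, EtModW.IsConstructible Λ E ∧
          Nonempty ((EtModW.epsPullMod Λ Z).obj E ≅ Q.obj (op n))) ∧
        IsIso (limit.lift Q (Cone.mk (((ProEtS.bcP i).sheafPullback (ModuleCat.{u + 1} Λ) (Scheme.ProEt.topology X) (Scheme.ProEt.topology Z)).obj F) p)))) :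
    (∃ (Q : ℕᵒᵖ ⥤ EtModW.ModP Λ X) (p : (Functor.const ℕᵒᵖ).obj F ⟶ Q),
      (∀ n : ℕ, ARSys.IsQuot ((Ideal.span {a}) ^ (n + 1)) (p.app (op n))) ∧
      (∀ n : ℕ, ∃ E : EtModW.Mod Λ X, EtModW.IsConstructible Λ E ∧
        Nonempty ((EtModW.epsPullMod Λ X).obj E ≅ Q.obj (op n))) ∧
      IsIso (limit.lift Q (Cone.mk F p))) := by
  classical
  let I : Ideal Λ := Ideal.span {a}
  have hI : I.FG := IsNoetherian.noetherian I
  obtain ⟨G, hG, hGc, ⟨eU⟩⟩ := (Groth.Agent.EtModEps19.isAdicP_iff hI _).1 hU
  let eres : (Groth.Agent.EtModEps19.pullR Λ j) ≅ Groth.Agent.EtModEps19.restrR Λ j :=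
    Adjunction.leftAdjointUniq (Groth.Agent.EtModEps19.pullPushR Λ j) (Groth.Agent.EtModEps19.restrPushR Λ j)
  have hU' := (Groth.Agent.EtModEps19.isAdicP_iff hI ((Groth.Agent.EtModEps19.restrR Λ j).obj F)).2
    ⟨G, hG, hGc, ⟨eU ≪≫ eres.app F⟩⟩
  have h₁ := Groth.Agent.S14030.result Λ I j hext _ hU'
  have hret : IsRetrocompact (Set.range (fun z => i.base z))ᶜ :=
    fun _ _ _ => TopologicalSpace.NoetherianSpace.isCompact _
  have h₃ := Groth.Agent.S14028.result Λ I i hret hpush _ hZ
  have hc : Set.range j.base = (Set.range i.base)ᶜ := by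
    rw [show Set.range i.base = (Set.range j.base)ᶜ from hUZ, compl_compl]
  obtain ⟨h, hS⟩ := Groth.Agent.EtModEps19.shortExact_recollementR Λ i j hc F
  exact Groth.Agent.S14015.result Λ a X (ShortComplex.mk _ _ h) hS h₁ h₃

end Groth.Agent.S14031
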