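import Groth.Statements.S14032
import Mathlib
import Groth.Prelude.Def_W4c1frobunstivaNR

set_option autoImplicit false
universe u v
open W4c1frobunstiva

namespace Groth.Agent.S14032

open TensorProduct in
/-- Let R be a commutative Noetherian ring with nilradical n, M an R-module and r a natural number. Then
M is NR-free of rank r — generated by r elements such that every linear relation among them has
nilpotent coefficients — if and only if (R/n) ⊗_R M is free of rank r over R/n, in the sense of
admitting a basis indexed by r elements. (The published statement assumes M finitely generated and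
also gives the converse when R is local; over a Noetherian ring the nilradical is nilpotent, the
case used here, and finite generation is not needed.) -/
theorem result (R : Type u) [CommRing R]
    [IsNoetherianRing R] (M : Type v) [AddCommGroup M] [Module R M] (r : ℕ) :
    W4c1frobunstiva.IsNRFree R M r ↔
      Nonempty (Module.Basis (Fin r) (R ⧸ nilradical R) ((R ⧸ nilradical R) ⊗[R] M)) := by
  classical
  let e := TensorProduct.quotTensorEquivQuotSMul M (nilradical R)
  have hspanN : ∀ n : Fin r → M, Submodule.span R (Set.range n) ⊔ nilradical R • (⊤ : Submodule R M) = ⊤ →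
      Submodule.span R (Set.range n) = ⊤ := by
    intro n hn
    set S := Submodule.span R (Set.range n)
    obtain ⟨k, hk⟩ := IsNoetherianRing.isNilpotent_nilradical R
    have : ∀ j : ℕ, S ⊔ nilradical R ^ j • (⊤ : Submodule R M) = ⊤ := by
      intro j
      induction j with
      | zero => simp
      | succ j ih =>
        refine eq_top_iff.2 (hn.symm.le.trans (sup_le le_sup_left ?_))
        conv_lhs => rw [← ih]
        rw [Submodule.smul_sup, ← mul_smul, ← pow_succ']
        exact sup_le_sup_right Submodule.smul_le_right _
    simpa [hk] using this k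
  constructor
  · rintro ⟨m, hm, hind⟩
    let b : Fin r → (R ⧸ nilradical R) ⊗[R] M := fun i => 1 ⊗ₜ m i
    refine ⟨Module.Basis.mk (v := b) ?_ ?_⟩
    · rw [Fintype.linearIndependent_iff]
      intro g hg i
      choose a ha using fun i => Ideal.Quotient.mk_surjective (g i)
      have h0 : Submodule.Quotient.mk (p := nilradical R • (⊤ : Submodule R M)) (∑ i, a i • m i) = 0 := by
        have h1 : (1 : R ⧸ nilradical R) ⊗ₜ[R] (∑ i, a i • m i) = 0 := by
          rw [← hg, TensorProduct.tmul_sum]
          refine Finset.sum_congr rfl fun i _ => ?_
          rw [TensorProduct.tmul_smul, ← ha i]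
          rfl
        have h2 := congrArg e h1
        rw [map_zero] at h2
        rw [← h2]
        simp [e]
      rw [Submodule.Quotient.mk_eq_zero, ← hm] at h0
      all_goals
        obtain ⟨c, hc⟩ : ∃ c : Fin r → R, (∀ i, c i ∈ nilradical R) ∧ ∑ i, c i • m i = ∑ i, a i • m i := by
          obtain ⟨c, hc, hcs⟩ := (Submodule.mem_ideal_smul_span_iff_exists_sum (nilradical R) m _).1 (by
            first | exact h0 | (rw [hm]; exact h0))
          refine ⟨c, hc, ?_⟩
          rw [← hcs, Finsupp.sum_fintype]
          simp
        have := hind (fun i => a i - c i) (by simp [sub_smul, Finset.sum_sub_distrib, hc.2]) i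
        have hai : a i ∈ nilradical R := by
          have := (nilradical R).add_mem (show a i - c i ∈ nilradical R from this) (hc.1 i)
          simpa using this
        rw [← ha i, Ideal.Quotient.eq_zero_iff_mem]
        exact hai
    · rintro x -
      induction x using TensorProduct.induction_on with
      | zero => exact Submodule.zero_mem _
      | add x y hx hy => exact Submodule.add_mem _ hx hy
      | tmul q y =>
        obtain ⟨a, ha⟩ := (Submodule.mem_span_range_iff_exists_fun R).1 (hm ▸ Submodule.mem_top : y ∈ Submodule.span R (Set.range m))
        rw [← ha, TensorProduct.tmul_sum]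
        refine Submodule.sum_mem _ fun i _ => ?_
        have : q ⊗ₜ[R] (a i • m i) = (Ideal.Quotient.mk (nilradical R) (a i) * q) • b i := by
          rw [TensorProduct.tmul_smul]
          show _ = ((Ideal.Quotient.mk (nilradical R) (a i) * q) * 1) ⊗ₜ[R] m i
          rw [mul_one]
          rfl
        rw [this]
        exact Submodule.smul_mem _ _ (Submodule.subset_span ⟨i, rfl⟩)
  · rintro ⟨b⟩
    choose m hm using fun i => TensorProduct.mk_surjective R M (R ⧸ nilradical R) Ideal.Quotient.mk_surjective (b i)
    refine ⟨m, hspanN m (eq_top_iff.2 fun x _ => ?_), fun a ha i => ?_⟩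
    · choose a ha using fun i => Ideal.Quotient.mk_surjective (b.repr ((1 : R ⧸ nilradical R) ⊗ₜ[R] x) i)
      have h1 : (1 : R ⧸ nilradical R) ⊗ₜ[R] (x - ∑ i, a i • m i) = 0 := by
        rw [TensorProduct.tmul_sub, sub_eq_zero, TensorProduct.tmul_sum]
        refine (b.sum_repr _).symm.trans (Finset.sum_congr rfl fun i _ => ?_)
        rw [← ha i, ← hm i, TensorProduct.tmul_smul]
        rfl
      have h2 := congrArg e h1
      rw [map_zero] at h2
      have h3 : x - ∑ i, a i • m i ∈ nilradical R • (⊤ : Submodule R M) := by
        rw [← Submodule.Quotient.mk_eq_zero, ← h2]; simp [e]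
      refine Submodule.mem_sup.2 ⟨∑ i, a i • m i, Submodule.sum_mem _ fun i _ => Submodule.smul_mem _ (a i) (Submodule.subset_span ⟨i, rfl⟩), _, h3, ?_⟩
      abel
    · have h1 := congrArg (fun y => (1 : R ⧸ nilradical R) ⊗ₜ[R] y) ha
      simp only [TensorProduct.tmul_sum, TensorProduct.tmul_zero] at h1
      have h2 := Fintype.linearIndependent_iff.1 b.linearIndependent (fun i => Ideal.Quotient.mk _ (a i)) (by
        rw [← h1]
        refine Finset.sum_congr rfl fun i _ => ?_
        rw [TensorProduct.tmul_smul, ← hm i]
        rfl) i
      exact Ideal.Quotient.eq_zero_iff_mem.1 h2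

end Groth.Agent.S14032
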