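import Groth.Statements.S14033
import Mathlib
import Groth.Prelude.Def_W4c1frobunstivaNR

set_option autoImplicit false
universe u v
open W4c1frobunstiva

namespace Groth.Agent.S14033

open DualNumber Pointwise in
/-- Let R be a commutative ring, R[ε] its ring of dual numbers (ε² = 0), M an R[ε]-module and r a
natural number. Then M is free of rank r over R[ε] (admits a basis of r elements) if and only if the
R-modules M/εM and εM are both free of rank r. (The published statement concerns a coherent sheaf on
the product of a scheme S with Spec ℤ[ε] and local freeness of rank r; that assertion is local, and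
this row is its form over one ring, with no finiteness assumption on M and no hypothesis on R.) -/
theorem result (R : Type u) [CommRing R] (M : Type v)
    [AddCommGroup M] [Module R[ε] M] [Module R M] [IsScalarTower R R[ε] M] (r : ℕ) :
    Nonempty (Module.Basis (Fin r) R[ε] M) ↔
      (Nonempty (Module.Basis (Fin r) R (M ⧸ ((ε : R[ε]) • (⊤ : Submodule R[ε] M)))) ∧
        Nonempty (Module.Basis (Fin r) R (((ε : R[ε]) • (⊤ : Submodule R[ε] M)).restrictScalars R))) := by
  classical
  let E : DualNumber R := DualNumber.eps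
  let Z := (E • (⊤ : Submodule (DualNumber R) M))
  have hE : E * E = 0 := DualNumber.eps_mul_eps
  have hmemZ : ∀ x, x ∈ Z ↔ ∃ y : M, x = E • y := fun x =>
    ⟨fun ⟨y, _, hy⟩ => ⟨y, hy.symm⟩, fun ⟨y, hy⟩ => ⟨y, trivial, hy.symm⟩⟩
  have hsm : ∀ (d : DualNumber R) (x : M), d • x = d.fst • x + d.snd • (E • x) := by
    intro d x
    have : d = algebraMap R (DualNumber R) d.fst + algebraMap R (DualNumber R) d.snd * E := by
      apply TrivSqZeroExt.ext <;> simp only [TrivSqZeroExt.algebraMap_eq_inl, TrivSqZeroExt.fst_add, TrivSqZeroExt.snd_add, TrivSqZeroExt.fst_mul, TrivSqZeroExt.snd_mul, DualNumber.fst_eps, DualNumber.snd_eps, TrivSqZeroExt.fst_inl, TrivSqZeroExt.snd_inl, E, smul_eq_mul, MulOpposite.smul_eq_mul_unop, MulOpposite.unop_op, mul_zero, zero_mul, add_zero, zero_add, mul_one]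
    conv_lhs => rw [this]
    rw [add_smul, mul_smul, algebraMap_smul, algebraMap_smul]
  have hq : ∀ (f : Fin r → M), (Submodule.Quotient.mk (∑ i, f i) : M ⧸ Z) = ∑ i, Submodule.Quotient.mk (f i) :=
    fun f => map_sum (Submodule.mkQ Z) f _
  constructor
  · rintro ⟨b⟩
    have hrep : ∀ x : M, x = ∑ i, (b.repr x i).fst • b i + ∑ i, (b.repr x i).snd • (E • b i) := fun x => by
      conv_lhs => rw [← b.sum_repr x]
      rw [← Finset.sum_add_distrib]
      exact Finset.sum_congr rfl fun i _ => hsm _ _
    have hind : ∀ a c : Fin r → R, ∑ i, a i • b i + ∑ i, c i • (E • b i) = 0 → a = 0 ∧ c = 0 := by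
      intro a c h
      have h1 : ∑ i, (algebraMap R (DualNumber R) (a i) + algebraMap R (DualNumber R) (c i) * E) • b i = 0 := by
        simpa [add_smul, mul_smul, algebraMap_smul, Finset.sum_add_distrib] using h
      have h2 := Fintype.linearIndependent_iff.1 b.linearIndependent _ h1
      constructor <;> funext i
      · have := congrArg TrivSqZeroExt.fst (h2 i); simp only [TrivSqZeroExt.algebraMap_eq_inl, TrivSqZeroExt.fst_add, TrivSqZeroExt.snd_add, TrivSqZeroExt.fst_mul, TrivSqZeroExt.snd_mul, DualNumber.fst_eps, DualNumber.snd_eps, TrivSqZeroExt.fst_inl, TrivSqZeroExt.snd_inl, E, smul_eq_mul, MulOpposite.smul_eq_mul_unop, MulOpposite.unop_op, mul_zero, zero_mul, add_zero, zero_add, mul_one, TrivSqZeroExt.fst_zero] at this; simpa using this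
      · have := congrArg TrivSqZeroExt.snd (h2 i); simp only [TrivSqZeroExt.algebraMap_eq_inl, TrivSqZeroExt.fst_add, TrivSqZeroExt.snd_add, TrivSqZeroExt.fst_mul, TrivSqZeroExt.snd_mul, DualNumber.fst_eps, DualNumber.snd_eps, TrivSqZeroExt.fst_inl, TrivSqZeroExt.snd_inl, E, smul_eq_mul, MulOpposite.smul_eq_mul_unop, MulOpposite.unop_op, mul_zero, zero_mul, add_zero, zero_add, mul_one, TrivSqZeroExt.snd_zero] at this; simpa using this
    refine ⟨⟨Module.Basis.mk (v := fun i => (Submodule.Quotient.mk (b i) : M ⧸ Z)) ?_ ?_⟩, ⟨Module.Basis.mk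
      (v := fun i => (⟨E • b i, (hmemZ _).2 ⟨_, rfl⟩⟩ : Z.restrictScalars R)) ?_ ?_⟩⟩
    · rw [Fintype.linearIndependent_iff]
      intro a ha i
      have h0 : (Submodule.Quotient.mk (∑ i, a i • b i) : M ⧸ Z) = 0 := by
        rw [← ha, hq]
        exact Finset.sum_congr rfl fun i _ => rfl
      obtain ⟨y, hy⟩ := (hmemZ _).1 ((Submodule.Quotient.mk_eq_zero Z).1 h0)
      have h1 : ∑ i, a i • b i + ∑ i, (-(b.repr y i).fst) • (E • b i) = 0 := by
        have hEy : E • y = ∑ i, (b.repr y i).fst • (E • b i) := by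
          conv_lhs => rw [hrep y]
          simp only [smul_add, Finset.smul_sum, smul_comm E (_ : R), smul_smul E E, hE, zero_smul, smul_zero,
            Finset.sum_const_zero, add_zero]
        rw [hy, hEy]
        simp only [neg_smul, Finset.sum_neg_distrib, add_neg_cancel]
      exact congrFun (hind _ _ h1).1 i
    · rintro x -
      obtain ⟨x, rfl⟩ := Submodule.Quotient.mk_surjective Z x
      have : (Submodule.Quotient.mk x : M ⧸ Z) = ∑ i, (b.repr x i).fst • (Submodule.Quotient.mk (b i) : M ⧸ Z) := by
        conv_lhs => rw [hrep x]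
        rw [Submodule.Quotient.mk_add]
        rw [(Submodule.Quotient.mk_eq_zero Z).2 (Submodule.sum_mem _ fun i _ => Submodule.smul_of_tower_mem _ _ ((hmemZ _).2 ⟨_, rfl⟩)), add_zero, hq]
        exact Finset.sum_congr rfl fun i _ => rfl
      rw [this]
      exact Submodule.sum_mem _ fun i _ => Submodule.smul_mem _ _ (Submodule.subset_span ⟨i, rfl⟩)
    · rw [Fintype.linearIndependent_iff]
      intro c hc i
      have h1 : ∑ i, (0 : Fin r → R) i • b i + ∑ i, c i • (E • b i) = 0 := by
        have := congrArg Subtype.val hc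
        simpa using this
      exact congrFun (hind _ _ h1).2 i
    · rintro ⟨x, hx⟩ -
      obtain ⟨y, rfl⟩ := (hmemZ _).1 hx
      have : (⟨E • y, hx⟩ : Z.restrictScalars R) = ∑ i, (b.repr y i).fst • (⟨E • b i, (hmemZ _).2 ⟨_, rfl⟩⟩ : Z.restrictScalars R) := by
        apply Subtype.ext
        rw [AddSubmonoidClass.coe_finsetSum]
        show E • y = _
        conv_lhs => rw [hrep y]
        simp [smul_add, Finset.smul_sum, smul_comm E (_ : R), smul_smul E E, hE]
      rw [this]
      exact Submodule.sum_mem _ fun i _ => Submodule.smul_mem _ _ (Submodule.subset_span ⟨i, rfl⟩)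
  · rintro ⟨⟨b₁⟩, ⟨b₂⟩⟩
    choose m hm using fun i => Submodule.Quotient.mk_surjective Z (b₁ i)
    have hdec : ∀ x : M, ∃ a : Fin r → R, x - ∑ i, a i • m i ∈ Z := fun x => ⟨fun i => b₁.repr (Submodule.Quotient.mk x) i, by
      rw [← Submodule.Quotient.eq, hq]
      refine (b₁.sum_repr _).symm.trans (Finset.sum_congr rfl fun i _ => ?_)
      rw [← hm i]; rfl⟩
    have hspan : ∀ x, x ∈ Z → ∃ c : Fin r → R, x = ∑ i, c i • (E • m i) := fun x hx => by
      obtain ⟨y, rfl⟩ := (hmemZ _).1 hx
      obtain ⟨a, ha⟩ := hdec y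
      obtain ⟨z, hz⟩ := (hmemZ _).1 ha
      refine ⟨a, ?_⟩
      have := congrArg (fun t => E • t) hz
      simp only [smul_sub, Finset.smul_sum, smul_comm E (_ : R), smul_smul E E, hE, zero_smul, sub_eq_zero] at this
      exact this
    let v : Fin r → Z.restrictScalars R := fun i => ⟨E • m i, (hmemZ _).2 ⟨_, rfl⟩⟩
    let φ : (Fin r → R) →ₗ[R] Z.restrictScalars R := Fintype.linearCombination R v
    have hφ : Function.Surjective φ := fun x => by
      obtain ⟨c, hc⟩ := hspan x x.2
      refine ⟨c, Subtype.ext ?_⟩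
      rw [hc]
      simp [φ, v, Fintype.linearCombination_apply]
    have hinj : Function.Injective φ := by
      have := OrzechProperty.injective_of_surjective_endomorphism ((b₂.equivFun.toLinearMap).comp φ)
        (b₂.equivFun.surjective.comp hφ)
      exact Function.Injective.of_comp (f := b₂.equivFun) (g := φ) this
    refine ⟨Module.Basis.mk (v := m) ?_ ?_⟩
    · rw [Fintype.linearIndependent_iff]
      intro d hd
      rw [Finset.sum_congr rfl (fun i _ => hsm (d i) (m i)), Finset.sum_add_distrib] at hd
      have hfst : ∀ i, (d i).fst = 0 := by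
        refine Fintype.linearIndependent_iff.1 b₁.linearIndependent _ ?_
        have h0 : (Submodule.Quotient.mk (∑ i, (d i).fst • m i) : M ⧸ Z) = 0 := by
          rw [Submodule.Quotient.mk_eq_zero, eq_neg_of_add_eq_zero_left hd]
          exact Submodule.neg_mem _ (Submodule.sum_mem _ fun i _ => Submodule.smul_of_tower_mem _ _ ((hmemZ _).2 ⟨_, rfl⟩))
        rw [← h0, hq]
        exact Finset.sum_congr rfl fun i _ => by rw [← hm i]; rfl
      simp only [hfst, zero_smul, Finset.sum_const_zero, zero_add] at hd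
      have hsnd : (fun i => (d i).snd) = 0 := hinj (by
        rw [map_zero]; exact Subtype.ext (by simpa [φ, v, Fintype.linearCombination_apply] using hd))
      exact fun i => TrivSqZeroExt.ext (hfst i) (congrFun hsnd i)
    · rintro x -
      obtain ⟨a, ha⟩ := hdec x
      obtain ⟨c, hc⟩ := hspan _ ha
      rw [sub_eq_iff_eq_add.1 hc]
      refine Submodule.add_mem _ (Submodule.sum_mem _ fun i _ => ?_) (Submodule.sum_mem _ fun i _ => ?_)
      · exact Submodule.smul_of_tower_mem _ _ (Submodule.smul_mem _ _ (Submodule.subset_span ⟨i, rfl⟩))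
      · exact Submodule.smul_of_tower_mem _ _ (Submodule.subset_span ⟨i, rfl⟩)

end Groth.Agent.S14033
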