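import Groth.Statements.S14034
import Mathlib
import Groth.Prelude.Def_W4c1frobunstivaNR

set_option autoImplicit false
universe u
open W4c1frobunstiva

namespace Groth.Agent.S14034

/-- Let R be a Noetherian local ring and f an element of R whose annihilator consists of nilpotent
elements (a f = 0 forces a nilpotent), r, s and l ≤ s natural numbers, N the quotient of the free
module R^s by the submodule spanned by f e_1, …, f e_l (e_i the standard basis vectors), and φ : R^r
→ N a surjective linear map. Then the kernel of φ is NR-free of rank r + l − s: it is generated by r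
+ l − s elements every linear relation among which has nilpotent coefficients; and when l = 0 the
kernel is free of rank r − s. (The published statement takes R Noetherian with irreducible spectrum
and R_red a domain, not necessarily local, and f arbitrary. Over the coordinate ring of the real
2-sphere the kernel of (x, y, z) : R³ → R is not free, and over k[x, y]/(y², xy) localised at (x, y)
with f = y the kernel of R → R/(y) is spanned by y with the non-nilpotent relation x·y = 0. The
published argument uses that the kernel of a surjection of free modules is free, true over a local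
ring, and that a f = 0 forces a nilpotent, which is the hypothesis taken here; it holds when R_red
is a domain and f is not nilpotent, and also for f = ε in A[ε] with A a domain, so primality of the
nilradical is not assumed.) -/
theorem result (R : Type u)
    [CommRing R] [IsNoetherianRing R] [IsLocalRing R] (f : R)
    (hann : ∀ a : R, a * f = 0 → IsNilpotent a) (r s l : ℕ) (hls : l ≤ s)
    (φ : (Fin r → R) →ₗ[R]
      ((Fin s → R) ⧸ Submodule.span R (Set.range fun i : Fin l => (Pi.single (Fin.castLE hls i) f : Fin s → R))))
    (hφ : Function.Surjective φ) :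
    W4c1frobunstiva.IsNRFree R (LinearMap.ker φ) (r + l - s) ∧
      (l = 0 → Nonempty (Module.Basis (Fin (r - s)) R (LinearMap.ker φ))) := by
  classical
  let ι : (Fin l → R) →ₗ[R] (Fin s → R) := Fintype.linearCombination R fun i => (Pi.single (Fin.castLE hls i) f : Fin s → R)
  revert φ
  generalize hV' : Submodule.span R (Set.range fun i : Fin l => (Pi.single (Fin.castLE hls i) f : Fin s → R)) = V
  intro φ hφ
  have hV : LinearMap.range ι = V := (Fintype.range_linearCombination R _).trans hV'
  obtain ⟨ψ, hψ⟩ := Module.projective_lifting_property V.mkQ φ V.mkQ_surjective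
  let Ψ : (Fin r → R) × (Fin l → R) →ₗ[R] (Fin s → R) := ψ.coprod ι
  have hψ' : ∀ x, (Submodule.Quotient.mk (ψ x) : (Fin s → R) ⧸ V) = φ x := fun x => LinearMap.congr_fun hψ x
  have hΨ : Function.Surjective Ψ := fun z => by
    obtain ⟨x, hx⟩ := hφ (Submodule.Quotient.mk z)
    rw [← hψ', eq_comm, Submodule.Quotient.eq, ← hV] at hx
    obtain ⟨y, hy⟩ := hx
    exact ⟨(x, y), by simp [Ψ, hy]⟩
  obtain ⟨σ, hσ⟩ := Module.projective_lifting_property Ψ LinearMap.id hΨ
  let K := LinearMap.ker Ψ
  have hσ' : ∀ z, Ψ (σ z) = z := fun z => LinearMap.congr_fun hσ z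
  let e : ((Fin r → R) × (Fin l → R)) ≃ₗ[R] K × (Fin s → R) :=
    LinearEquiv.ofLinear
      (LinearMap.prod ((LinearMap.id - σ ∘ₗ Ψ).codRestrict K fun x => by simp [K, hσ']) Ψ)
      (K.subtype.coprod σ)
      (LinearMap.ext fun ⟨k, z⟩ => by
        have hk : Ψ k = 0 := k.2
        refine Prod.ext (Subtype.ext ?_) ?_ <;> simp [hσ', hk])
      (LinearMap.ext fun x => by simp)
  haveI : Module.Finite R K := Module.Finite.iff_fg.2 (IsNoetherian.noetherian K)
  haveI : Module.Projective R K := Module.Projective.of_split (e.symm.toLinearMap.comp (LinearMap.inl R K (Fin s → R)))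
    ((LinearMap.fst R K (Fin s → R)).comp e.toLinearMap) (LinearMap.ext fun x => by simp)
  haveI : Module.Free R K := Module.free_of_flat_of_isLocalRing
  have hrank : Module.finrank R K = r + l - s := by
    have := e.finrank_eq
    simp only [Module.finrank_prod, Module.finrank_fintype_fun_eq_card, Fintype.card_fin] at this
    omega
  let b := Module.finBasisOfFinrankEq R K hrank
  let pr : K →ₗ[R] LinearMap.ker φ := ((LinearMap.fst R _ _).comp K.subtype).codRestrict _ fun k => by
    have hk : ψ k.1.1 + ι k.1.2 = 0 := k.2
    rw [LinearMap.mem_ker]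
    show φ k.1.1 = 0
    rw [← hψ', Submodule.Quotient.mk_eq_zero, eq_neg_of_add_eq_zero_left hk]
    exact V.neg_mem (hV ▸ ⟨_, rfl⟩)
  have hpr : Function.Surjective pr := fun x => by
    have hx := (hψ' x.1).trans x.2
    rw [Submodule.Quotient.mk_eq_zero] at hx
    have hx' : ψ x.1 ∈ LinearMap.range ι := (SetLike.ext_iff.1 hV _).2 hx
    obtain ⟨y, hy⟩ := hx'
    exact ⟨⟨(x.1, -y), by simp [K, Ψ, hy]⟩, rfl⟩
  have hspan : Submodule.span R (Set.range fun i => pr (b i)) = ⊤ := by
    rw [show (fun i => pr (b i)) = pr ∘ b from rfl, Set.range_comp, Submodule.span_image, b.span_eq, Submodule.map_top,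
      LinearMap.range_eq_top.2 hpr]
  have hker : ∀ k : K, pr k = 0 → k.1.1 = 0 ∧ ∀ i, IsNilpotent (k.1.2 i) := fun k hk => by
    have h1 : k.1.1 = 0 := congrArg Subtype.val hk
    refine ⟨h1, fun i => ?_⟩
    have h2 : ψ k.1.1 + ι k.1.2 = 0 := k.2
    rw [h1, map_zero, zero_add] at h2
    have h3 := congrFun h2 (Fin.castLE hls i)
    simp only [ι, Fintype.linearCombination_apply, Finset.sum_apply, Pi.smul_apply, Pi.single_apply, smul_eq_mul,
      Pi.zero_apply, mul_ite, mul_zero] at h3
    rw [Finset.sum_eq_single i (fun j _ hji => if_neg fun e => hji (Fin.castLE_injective hls e).symm)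
      (fun h => absurd (Finset.mem_univ i) h), if_pos rfl] at h3
    exact hann _ h3
  refine ⟨⟨fun i => pr (b i), hspan, fun a ha i => ?_⟩, ?_⟩
  · set k : K := ∑ i, a i • b i
    have hk : pr k = 0 := by rw [← ha]; simp [k, map_sum]
    obtain ⟨h1, h2⟩ := hker k hk
    have hrepr : a i = b.repr k i := by
      simp only [k]; rw [b.repr_sum_self]
    rw [hrepr]
    -- the coordinate is a linear function of the entries
    let c : ((Fin r → R) × (Fin l → R)) →ₗ[R] R := (b.coord i).comp ((LinearMap.fst R K (Fin s → R)).comp e.toLinearMap)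
    have hc : b.repr k i = c k.1 := by
      have : (e k.1).1 = k := by
        have hk0 : Ψ k = 0 := k.2
        apply Subtype.ext
        simp [e, hk0]
      simp [c, this]
    rw [hc, show k.1 = (0, k.1.2) from Prod.ext h1 rfl]
    have : c ((0 : Fin r → R), k.1.2) = ∑ j, k.1.2 j * c ((0 : Fin r → R), Pi.single j 1) := by
      show (c.comp (LinearMap.inr R _ _)) k.1.2 = _
      conv_lhs => rw [pi_eq_sum_univ' k.1.2, map_sum]
      exact Finset.sum_congr rfl fun j _ => by rw [map_smul]; rfl
    rw [this]
    exact isNilpotent_sum fun j _ => (Commute.all _ _).isNilpotent_mul_right (h2 j)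
  · rintro rfl
    have hinj : Function.Injective pr := by
      rw [injective_iff_map_eq_zero]
      intro k hk
      refine Subtype.ext (Prod.ext (hker k hk).1 ?_)
      exact Subsingleton.elim _ _
    exact ⟨(b.map (LinearEquiv.ofBijective pr ⟨hinj, hpr⟩)).reindex (finCongr (by omega))⟩

end Groth.Agent.S14034
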