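import Groth.Statements.S14035
import Mathlib
import Groth.Prelude.Def_W4c1frobunstivaNR

set_option autoImplicit false
universe u v
open W4c1frobunstiva

namespace Groth.Agent.S14035

open TensorProduct in
/-- Let A → B be a ring homomorphism with B Noetherian. If B modulo its nilradical is flat over A and
every fibre ring κ(p) ⊗_A B, p a prime of A, is reduced, then B is reduced. (This is the affine form
of the statement for a morphism of schemes X → Y all of whose fibres are reduced and whose
restriction to the reduced closed subscheme X_red is flat. The published statement does not say X is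
locally Noetherian, but its proof applies Nakayama's lemma to the nilradical as a finitely generated
ideal; without it the square-zero extension of a discrete valuation ring A by Frac(A)/A is a
counterexample.) -/
theorem result (A : Type u) (B : Type v)
    [CommRing A] [CommRing B] [Algebra A B] [IsNoetherianRing B]
    [Module.Flat A (B ⧸ nilradical B)]
    (hfib : ∀ p : PrimeSpectrum A, IsReduced (p.asIdeal.ResidueField ⊗[A] B)) :
    IsReduced B := by
  classical
  let N : Ideal B := nilradical B
  suffices hN : N = ⊥ by
    exact ⟨fun x hx => by
      have : x ∈ N := hx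
      rw [hN] at this
      exact this⟩
  by_contra hne
  obtain ⟨Q, hQ, hAnn⟩ := Ideal.exists_le_maximal (N.annihilator) (fun h => hne (Submodule.annihilator_eq_top_iff.1 h))
  haveI := hQ.isPrime
  set p : PrimeSpectrum A := ⟨Q.comap (algebraMap A B), inferInstance⟩
  let k := p.asIdeal.ResidueField
  let g : N →ₗ[A] B := (N.subtype).restrictScalars A
  let f : B →ₗ[A] B ⧸ N := (Submodule.mkQ N).restrictScalars A
  have hexact : Function.Exact g f := LinearMap.exact_subtype_mkQ N
  have hinj := LinearMap.lTensor_injective_of_exact_of_flat f (Submodule.mkQ_surjective N) g Subtype.val_injective hexact k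
  have hzero : ∀ x : N, (1 : k) ⊗ₜ[A] x = 0 := fun x => hinj (by
    rw [map_zero, LinearMap.lTensor_tmul]
    haveI := hfib p
    exact (IsNilpotent.map (mem_nilradical.1 x.2) (Algebra.TensorProduct.includeRight : B →ₐ[A] k ⊗[A] B)).eq_zero)
  -- push to the residue field of Q
  let φ : k →+* Q.ResidueField := Ideal.ResidueField.map p.asIdeal Q (algebraMap A B) rfl
  have hφ : ∀ (a : A) (c : k), φ (a • c) = algebraMap B Q.ResidueField (algebraMap A B a) * φ c := fun a c => by
    rw [Algebra.smul_def, map_mul]
    congr 1
    exact Ideal.ResidueField.map_algebraMap p.asIdeal Q (algebraMap A B) rfl a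
  let Φ : k ⊗[A] N →+ Q.ResidueField ⊗[B] N :=
    TensorProduct.liftAddHom
      (AddMonoidHom.mk' (fun c => AddMonoidHom.mk' (fun x => φ c ⊗ₜ[B] x) fun x y => TensorProduct.tmul_add _ _ _)
        fun c d => AddMonoidHom.ext fun x => by simp [TensorProduct.add_tmul])
      fun a c x => by
        show φ (a • c) ⊗ₜ[B] x = φ c ⊗ₜ[B] (a • x)
        rw [hφ, ← algebraMap_smul B a x, ← TensorProduct.smul_tmul, Algebra.smul_def]
  have hall : Subsingleton (Q.ResidueField ⊗[B] N) := by
    refine subsingleton_of_forall_eq 0 fun z => ?_
    induction z using TensorProduct.induction_on with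
    | zero => rfl
    | add a b ha hb => rw [ha, hb, add_zero]
    | tmul c x =>
      have h1 : (1 : Q.ResidueField) ⊗ₜ[B] x = 0 := by
        have := congrArg Φ (hzero x)
        rw [map_zero] at this
        rw [← this]
        show _ = φ 1 ⊗ₜ[B] x
        rw [map_one]
      calc c ⊗ₜ[B] x = c • ((1 : Q.ResidueField) ⊗ₜ[B] x) := by rw [TensorProduct.smul_tmul', smul_eq_mul, mul_one]
        _ = 0 := by rw [h1, smul_zero]
  haveI : Module.Finite B N := Module.Finite.iff_fg.2 (IsNoetherian.noetherian _)
  have hsupp : (⟨Q, inferInstance⟩ : PrimeSpectrum B) ∈ Module.support B N := by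
    rw [Module.support_eq_zeroLocus]
    exact hAnn
  rw [Module.mem_support_iff_nontrivial_residueField_tensorProduct] at hsupp
  exact not_nontrivial_iff_subsingleton.2 hall hsupp

end Groth.Agent.S14035
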