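import Groth.Statements.S14039
import Mathlib
import Groth.Prelude.Def_W4c1frobunstivaNR

set_option autoImplicit false
open W4c1frobunstiva

namespace Groth.Agent.S14039

/-- For natural numbers p, n ≥ 1 and s, the number of monomials of degree s in n variables in which
every variable occurs with a positive exponent strictly less than p — that is, of exponent vectors
(e_1, …, e_n) with sum s and 1 ≤ e_i ≤ p − 1 — equals the inclusion–exclusion sum over i from 0 to n
of (−1)^i · C(n, i) · C(s − i(p − 1) − 1, n − 1), the last factor counting monomials of degree s −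
i(p − 1) − n in n variables and read as 0 when s < i(p − 1) + n. (A companion count, by how many
exponents lie below p/2, and a remark on polynomiality in s and p are not part of this row.) -/
theorem result (p n s : ℕ)
    (hn : 1 ≤ n) :
    (Fintype.card {e : Fin n → Fin p // (∀ i, 1 ≤ (e i : ℕ)) ∧ ∑ i, (e i : ℕ) = s} : ℤ) =
      ∑ i ∈ Finset.range (n + 1),
        (-1 : ℤ) ^ i * (n.choose i : ℤ) *
          (if i * (p - 1) + n ≤ s then (((s - i * (p - 1) - 1).choose (n - 1) : ℕ) : ℤ) else 0) := by
  classical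
  open PowerSeries in
  let X' : PowerSeries ℤ := PowerSeries.X
  let P : PowerSeries ℤ := ∑ a : Fin p, if 1 ≤ (a : ℕ) then X' ^ (a : ℕ) else 0
  have h1 : PowerSeries.coeff s (P ^ n) = (Fintype.card {e : Fin n → Fin p // (∀ i, 1 ≤ (e i : ℕ)) ∧ ∑ i, (e i : ℕ) = s} : ℤ) := by
    have : P ^ n = ∑ e : Fin n → Fin p, if ∀ i, 1 ≤ (e i : ℕ) then X' ^ (∑ i, (e i : ℕ)) else 0 := by
      rw [← Fin.prod_const, Fintype.prod_sum]
      refine Finset.sum_congr rfl fun e _ => ?_
      split_ifs with h
      · rw [Finset.prod_congr rfl fun i _ => if_pos (h i), Finset.prod_pow_eq_pow_sum]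
      · push Not at h
        obtain ⟨i, hi⟩ := h
        exact Finset.prod_eq_zero (Finset.mem_univ i) (if_neg (by omega))
    rw [this, map_sum, Fintype.card_subtype, Finset.card_filter, Nat.cast_sum]
    refine Finset.sum_congr rfl fun e _ => ?_
    by_cases h : ∀ i, 1 ≤ (e i : ℕ)
    · simp only [X', if_pos h, PowerSeries.coeff_X_pow]
      simp [h, eq_comm]
    · simp [h]
  have h2 : P * (1 - X') = X' * (1 - X' ^ (p - 1)) := by
    rcases p with _ | q
    · simp [P]
    · have h0 : ¬ (1 ≤ ((0 : Fin (q + 1)) : ℕ)) := by simp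
      simp only [P, Fin.sum_univ_succ, if_neg h0, Fin.val_succ, Nat.le_add_left, if_true, add_tsub_cancel_right]
      rw [zero_add, Fin.sum_univ_eq_sum_range (fun a => X' ^ (a + 1)) q]
      simp only [pow_succ', ← Finset.mul_sum, mul_assoc, geom_sum_mul_neg]
  have h3 : P ^ n = ∑ i ∈ Finset.range (n + 1),
      ((-1 : ℤ) ^ i * (n.choose i : ℤ)) • (X' ^ (i * (p - 1) + n) * (PowerSeries.invOneSubPow ℤ n).val) := by
    have h4 : P ^ n = X' ^ n * (1 - X' ^ (p - 1)) ^ n * (PowerSeries.invOneSubPow ℤ n).val := by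
      have hinv : (1 - X') ^ n * (PowerSeries.invOneSubPow ℤ n).val = 1 := by
        rw [← PowerSeries.invOneSubPow_inv_eq_one_sub_pow]
        exact (PowerSeries.invOneSubPow ℤ n).inv_mul
      rw [← mul_pow, ← h2, mul_pow, mul_assoc, hinv, mul_one]
    rw [h4, sub_eq_neg_add, add_pow, Finset.mul_sum, Finset.sum_mul]
    refine Finset.sum_congr rfl fun i _ => ?_
    rw [zsmul_eq_mul, one_pow, mul_one, neg_pow, ← pow_mul, pow_add, mul_comm (p - 1) i]
    push_cast; ring
  rw [← h1, h3, map_sum]
  refine Finset.sum_congr rfl fun i _ => ?_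
  rw [map_zsmul, smul_eq_mul, PowerSeries.coeff_X_pow_mul']
  congr 1
  split_ifs with h
  · rw [PowerSeries.invOneSubPow_val_eq_mk_sub_one_add_choose_of_pos ℤ n (by omega), PowerSeries.coeff_mk]
    congr 2; omega
  · rfl

end Groth.Agent.S14039
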