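import Groth.Statements.S14042
import Groth.Agent.Lib.FibRank28.Main

set_option autoImplicit false
universe u
open CategoryTheory CategoryTheory.Limits AlgebraicGeometry
open W4c1frobunstiva

namespace Groth.Agent.S14042

/-- Let k be a field, X and Y integral schemes of finite type over k of the same dimension whose local
rings are all regular, and f : X → Y a dominant and separated k-morphism; let d be the degree of the
residue field of the generic point of X over that of the generic point of Y, a finite extension.
Then for every point y of Y, either the fibre X_y has positive dimension — it is not finite over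
κ(y) — or its ring of global sections has dimension at most d over κ(y). (The published statement
speaks of length; the κ(y)-rank used here is at least the length, so this form implies the printed
one. The published statement does not mention separatedness: for the affine line with doubled origin
mapping to the affine line — regular, dominant, degree 1 — the fibre over the origin is two reduced
points, of rank 2; the étale-local splitting of a quasi-finite morphism used in the published proof
needs f separated, so f is taken separated here.) -/
theorem result (k : Type u) [Field k] {X Y : Scheme.{u}}
    [X.Over (Spec (CommRingCat.of k))] [Y.Over (Spec (CommRingCat.of k))]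
    [LocallyOfFiniteType (X ↘ Spec (CommRingCat.of k))] [QuasiCompact (X ↘ Spec (CommRingCat.of k))]
    [LocallyOfFiniteType (Y ↘ Spec (CommRingCat.of k))] [QuasiCompact (Y ↘ Spec (CommRingCat.of k))]
    [IsIntegral X] [IsIntegral Y] (f : X ⟶ Y) [IsDominant f]
    (hf : f ≫ (Y ↘ Spec (CommRingCat.of k)) = X ↘ Spec (CommRingCat.of k))
    (hdim : topologicalKrullDim ↥X = topologicalKrullDim ↥Y)
    [IsSeparated f] (hX : ∀ x : X, IsRegularLocalRing (X.presheaf.stalk x))
    (hY : ∀ y : Y, IsRegularLocalRing (Y.presheaf.stalk y)) (y : Y)
    (hy : IsFinite (pullback.snd f (Y.fromSpecResidueField y))) :
    (letI := ((Scheme.ΓSpecIso (CommRingCat.of (Y.residueField y))).inv ≫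
            (pullback.snd f (Y.fromSpecResidueField y)).appTop).hom.toAlgebra;
          Module.finrank (Y.residueField y) ↑(Γ(pullback f (Y.fromSpecResidueField y), ⊤))) ≤
      (letI := (f.residueFieldMap (genericPoint ↥X)).hom.toAlgebra;
          Module.finrank (Y.residueField (f.base (genericPoint ↥X))) (X.residueField (genericPoint ↥X))) := by
  haveI : LocallyOfFiniteType (f ≫ (Y ↘ Spec (CommRingCat.of k))) := by rw [hf]; infer_instance
  haveI : LocallyOfFiniteType f := locallyOfFiniteType_of_comp f (Y ↘ Spec (CommRingCat.of k))
  exact Groth.Agent.FibRank28.main (Y ↘ Spec (CommRingCat.of k)) f hdim hX hY y hy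

end Groth.Agent.S14042
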