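import Groth.Statements.S14043
import Mathlib
import Groth.Prelude.Def_W4c1frobunstivaNR

set_option autoImplicit false
universe u v
open W4c1frobunstiva

namespace Groth.Agent.S14043

/-- Let R be a commutative Noetherian ring, M an R-module that is NR-free of rank r — generated by some
r elements all of whose linear relations have nilpotent coefficients — and m, m' two generating
families of M, each indexed by the same finite set of size r. Then some invertible r × r matrix T
over R expresses m' in terms of m, m'_j = Σ_i T_{ji} m_i; reducing modulo the nilradical n, such a T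
induces the change-of-basis matrix between the bases of M/nM given by the images of m and m' (an
r-element generating family of M is itself an NR-basis), so only the existence of an invertible T is
asserted here. (T is not unique.) -/
theorem result (R : Type u) [CommRing R]
    [IsNoetherianRing R] (M : Type v) [AddCommGroup M] [Module R M] (r : ℕ)
    (hM : W4c1frobunstiva.IsNRFree R M r) (m m' : Fin r → M)
    (hm : Submodule.span R (Set.range m) = ⊤) (hm' : Submodule.span R (Set.range m') = ⊤) :
    ∃ T : Matrix (Fin r) (Fin r) R, IsUnit T ∧ ∀ j, m' j = ∑ i, T j i • m i := by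
  classical
  obtain ⟨m₀, hm₀, hind⟩ := hM
  have key : ∀ n : Fin r → M, Submodule.span R (Set.range n) = ⊤ →
      ∃ A : Matrix (Fin r) (Fin r) R, IsUnit A ∧ ∀ j, n j = ∑ i, A j i • m₀ i := by
    intro n hn
    have hA : ∀ j, ∃ a : Fin r → R, ∑ i, a i • m₀ i = n j := fun j =>
      (Submodule.mem_span_range_iff_exists_fun R).1 (hm₀ ▸ Submodule.mem_top)
    have hB : ∀ j, ∃ a : Fin r → R, ∑ i, a i • n i = m₀ j := fun j =>
      (Submodule.mem_span_range_iff_exists_fun R).1 (hn ▸ Submodule.mem_top)
    choose A hA using hA
    choose B hB using hB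
    refine ⟨Matrix.of A, ?_, fun j => (hA j).symm⟩
    have hnil : ∀ j i, IsNilpotent ((Matrix.of B * Matrix.of A - 1) j i) := by
      intro j
      refine hind _ ?_
      simp only [Matrix.sub_apply, sub_smul, Finset.sum_sub_distrib, Matrix.mul_apply, Finset.sum_smul, mul_smul,
        Matrix.of_apply]
      rw [Finset.sum_comm]
      simp only [← Finset.smul_sum, hA, hB]
      simp [Matrix.one_apply]
    have hu : IsUnit (Matrix.of B * Matrix.of A) := by
      rw [Matrix.isUnit_iff_isUnit_det]
      have h1 : (Ideal.Quotient.mk (nilradical R)).mapMatrix (Matrix.of B * Matrix.of A) = 1 := by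
        ext j i
        have h2 : Ideal.Quotient.mk (nilradical R) ((Matrix.of B * Matrix.of A - 1) j i) = 0 :=
          Ideal.Quotient.eq_zero_iff_mem.2 (hnil j i)
        rw [Matrix.sub_apply, map_sub, sub_eq_zero] at h2
        rw [RingHom.mapMatrix_apply, Matrix.map_apply, h2]
        by_cases h : j = i <;> simp [Matrix.one_apply, h]
      have h3 := congrArg Matrix.det h1
      rw [← RingHom.map_det, Matrix.det_one, ← map_one (Ideal.Quotient.mk (nilradical R)), Ideal.Quotient.eq] at h3
      have := IsNilpotent.isUnit_add_one (r := (Matrix.of B * Matrix.of A).det - 1) h3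
      simpa using this
    rw [Matrix.isUnit_iff_isUnit_det, Matrix.det_mul] at hu
    exact (Matrix.isUnit_iff_isUnit_det _).2 (isUnit_of_mul_isUnit_right hu)
  obtain ⟨A, hA, hmA⟩ := key m hm
  obtain ⟨A', hA', hmA'⟩ := key m' hm'
  obtain ⟨U, rfl⟩ := hA
  refine ⟨A' * (U⁻¹ : (Matrix (Fin r) (Fin r) R)ˣ), hA'.mul (Units.isUnit _), fun j => ?_⟩
  rw [hmA']
  simp only [hmA, Finset.smul_sum, smul_smul]
  rw [Finset.sum_comm]
  refine Finset.sum_congr rfl fun i _ => ?_
  rw [← Finset.sum_smul]
  congr 1
  rw [← Matrix.mul_apply, Matrix.mul_assoc, Units.inv_mul, Matrix.mul_one]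

end Groth.Agent.S14043
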