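import Groth.Statements.S14044
import Mathlib
import Groth.Agent.Lib.Hermite.Basic

set_option autoImplicit false
universe u
open W4c1frobunstiva

namespace Groth.Agent.S14044

/-- Let k be a field, p a prime number and M a square matrix of size r over k[[t]] with non-zero
determinant. Allowing, besides invertible row operations over k[[t]], invertible column operations
by matrices with entries in k[[t^p]] (power series whose coefficients vanish in all degrees not
divisible by p), M can be brought to a row-reduced form — upper triangular, diagonal entries
t^{e_i}, entries above the diagonal in column j polynomials of degree less than e_j — in which in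
addition the (i, j) entry (i < j) has no term in a degree that is at least e_i and congruent to e_i
modulo p. (Existence only; the form is not unique. The published statement asks that no term in any
degree congruent to e_i modulo p remain; the published reduction — adding k[[t^p]]-multiples of
column i to column j — removes exactly the terms of degree at least e_i, which is what is asserted
here. The published statement takes k algebraically closed of characteristic p, where k[[t^p]] is
the ring of p-th powers; neither assumption is used.) -/
theorem result (k : Type u)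
    [Field k] (p : ℕ) [Fact p.Prime] (r : ℕ) (M : Matrix (Fin r) (Fin r) (PowerSeries k))
    (hM : M.det ≠ 0) :
    ∃ (N P : Matrix (Fin r) (Fin r) (PowerSeries k)) (e : Fin r → ℕ), IsUnit N ∧ IsUnit P ∧
      (∀ i j n, ¬ p ∣ n → PowerSeries.coeff n (P i j) = 0) ∧
      (∀ i, (N * M * P) i i = PowerSeries.X ^ e i) ∧ (∀ i j, j < i → (N * M * P) i j = 0) ∧
      (∀ i j, i < j → ∀ n, (e j ≤ n ∨ (e i ≤ n ∧ n % p = e i % p)) →
        PowerSeries.coeff n ((N * M * P) i j) = 0) := by
  obtain ⟨N, H, e, hN, hNM, hH⟩ := Groth.Agent.Hermite.exists_isRed M hM
  obtain ⟨U, P, R, hU, hP, hPc, hHP, hRd, hRl, hRu⟩ := Groth.Agent.Hermite.exists_congruent_red p hH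
  have hU' : IsUnit U := (Matrix.isUnit_iff_isUnit_det U).2 (hU ▸ isUnit_one)
  have hR : hU'.unit⁻¹.val * N * M * P = R := by
    rw [Matrix.mul_assoc _ N M, hNM, Matrix.mul_assoc, hHP, ← Matrix.mul_assoc, hU'.val_inv_mul, Matrix.one_mul]
  refine ⟨hU'.unit⁻¹.val * N, P, e, hU'.unit⁻¹.isUnit.mul hN, (Matrix.isUnit_iff_isUnit_det P).2 (hP ▸ isUnit_one), hPc, ?_⟩
  rw [hR]
  exact ⟨hRd, hRl, hRu⟩

end Groth.Agent.S14044
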