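import Groth.Statements.S14046
import Mathlib
import Groth.Prelude.Def_W4c1frobunstivaNR

set_option autoImplicit false
universe u v w
open W4c1frobunstiva

namespace Groth.Agent.S14046

open TensorProduct in
/-- Let R → A be a homomorphism of commutative rings and I, J ideals of A with I ∩ J = 0 — so that A is
the fibre product of A/I and A/J over A/(I + J), i.e. Spec A is the union of the two closed
subschemes in the strong sense — and suppose A/(I + J) is flat over R. Then this persists under
every base change: for every commutative R-algebra R', the ideals generated by I and J in R' ⊗_R A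
again meet in 0. (This is the ideal-theoretic, affine form of the base-change step; the exact
sequence of unit sheaves deduced from it in the published statement — restriction of units to a
closed subscheme being surjective locally — is not restated. Without flatness of A/(I + J) the
conclusion fails: for A = k[x, y]/(xy) over R = k[u] with u ↦ x + y, I = (x) and J = (y), the base
change to R/(u) gives k[x]/(x²), in which both ideals become (x).) -/
theorem result (R : Type u) (A : Type v)
    [CommRing R] [CommRing A] [Algebra R A] (I J : Ideal A) (hIJ : I ⊓ J = ⊥)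
    [Module.Flat R (A ⧸ (I ⊔ J))] (R' : Type w) [CommRing R'] [Algebra R R'] :
    I.map (Algebra.TensorProduct.includeRight : A →ₐ[R] R' ⊗[R] A) ⊓
      J.map (Algebra.TensorProduct.includeRight : A →ₐ[R] R' ⊗[R] A) = ⊥ := by
  classical
  let g : A →ₗ[R] (A ⧸ I) × (A ⧸ J) := (Ideal.Quotient.mkₐ R I).toLinearMap.prod (Ideal.Quotient.mkₐ R J).toLinearMap
  let f : (A ⧸ I) × (A ⧸ J) →ₗ[R] A ⧸ (I ⊔ J) :=
    (Ideal.Quotient.factorₐ R (le_sup_left : I ≤ I ⊔ J)).toLinearMap.coprod (-(Ideal.Quotient.factorₐ R (le_sup_right : J ≤ I ⊔ J)).toLinearMap)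
  have hg : Function.Injective g := by
    rw [← LinearMap.ker_eq_bot, eq_bot_iff]
    intro x hx
    simp only [LinearMap.mem_ker, g, LinearMap.prod_apply, Pi.prod, Prod.mk_eq_zero, AlgHom.toLinearMap_apply,
      Ideal.Quotient.mkₐ_eq_mk, Ideal.Quotient.eq_zero_iff_mem] at hx
    have h1 := congrArg Prod.fst hx
    have h2 := congrArg Prod.snd hx
    have : x ∈ I ⊓ J := ⟨Ideal.Quotient.eq_zero_iff_mem.1 h1, Ideal.Quotient.eq_zero_iff_mem.1 h2⟩
    rw [hIJ] at this
    exact this
  have hfs : Function.Surjective f := fun z => by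
    obtain ⟨z, rfl⟩ := Ideal.Quotient.mk_surjective z
    exact ⟨(Ideal.Quotient.mk I z, 0), by simp [f]⟩
  have hexact : Function.Exact g f := by
    rintro ⟨x, y⟩
    obtain ⟨x, rfl⟩ := Ideal.Quotient.mk_surjective x
    obtain ⟨y, rfl⟩ := Ideal.Quotient.mk_surjective y
    constructor
    · intro h
      have h' : x - y ∈ I ⊔ J := by
        have h2 : Ideal.Quotient.mk (I ⊔ J) x + - Ideal.Quotient.mk (I ⊔ J) y = 0 := h
        rw [← sub_eq_add_neg, sub_eq_zero, Ideal.Quotient.eq] at h2
        exact h2
      obtain ⟨a, ha, b, hb, hab⟩ := Submodule.mem_sup.1 h'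
      refine ⟨x - a, Prod.ext ?_ ?_⟩
      · show Ideal.Quotient.mk I (x - a) = _
        rw [Ideal.Quotient.eq]; simpa using ha
      · show Ideal.Quotient.mk J (x - a) = _
        rw [Ideal.Quotient.eq, show x - a - y = b by linear_combination hab.symm]; exact hb
    · rintro ⟨a, ha⟩
      rw [← ha]
      simp [f, g]
  have hinj := LinearMap.lTensor_injective_of_exact_of_flat f hfs g hg hexact R'
  rw [eq_bot_iff]
  rintro z ⟨hzI, hzJ⟩
  refine (Submodule.mem_bot _).2 (hinj ?_)
  rw [map_zero]
  have hk : ∀ (K : Ideal A) (w : R' ⊗[R] A), w ∈ K.map (Algebra.TensorProduct.includeRight : A →ₐ[R] R' ⊗[R] A) →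
      (Ideal.Quotient.mkₐ R K).toLinearMap.lTensor R' w = 0 := by
    intro K w hw
    have hle : K.map (Algebra.TensorProduct.includeRight : A →ₐ[R] R' ⊗[R] A) ≤
        RingHom.ker (Algebra.TensorProduct.map (AlgHom.id R R') (Ideal.Quotient.mkₐ R K)) := by
      rw [Ideal.map_le_iff_le_comap]
      intro a ha
      simp [RingHom.mem_ker, Ideal.Quotient.eq_zero_iff_mem.2 ha]
    exact hle hw
  apply (TensorProduct.prodRight R R R' (A ⧸ I) (A ⧸ J)).injective
  rw [map_zero]
  have hfac : ∀ w, TensorProduct.prodRight R R R' (A ⧸ I) (A ⧸ J) (g.lTensor R' w) =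
      ((Ideal.Quotient.mkₐ R I).toLinearMap.lTensor R' w, (Ideal.Quotient.mkₐ R J).toLinearMap.lTensor R' w) := by
    intro w
    induction w using TensorProduct.induction_on with
    | zero => simp only [map_zero, Prod.zero_eq_mk]
    | add a b ha hb => simp [ha, hb]
    | tmul a b => simp [g]
  rw [hfac, hk I z hzI, hk J z hzJ]
  rfl

end Groth.Agent.S14046
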