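import Groth.Statements.S14047
import Groth.Agent.Lib.NodalSing14.Scheme

set_option autoImplicit false
universe u
open CategoryTheory AlgebraicGeometry
open W4c1frobunstiva

namespace Groth.Agent.S14047

noncomputable def appEquiv {X : Scheme.{u}} {F G : X.Modules} (e : F ≅ G) (U : X.Opens) :
    Γ(F, U) ≃ₗ[Γ(X, U)] Γ(G, U) where
  toFun := e.hom.app U
  invFun := e.inv.app U
  left_inv x := by rw [← CategoryTheory.comp_apply, ← Scheme.Modules.Hom.comp_app, e.hom_inv_id]; rfl
  right_inv x := by rw [← CategoryTheory.comp_apply, ← Scheme.Modules.Hom.comp_app, e.inv_hom_id]; rfl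
  map_add' := map_add _
  map_smul' r x := Scheme.Modules.Hom.app_smul e.hom r x

theorem sheafIdeal_iso {X : Scheme.{u}} {F G : X.Modules} (e : F ≅ G) (r : ℕ) :
    Fitt.sheafIdeal F r = Fitt.sheafIdeal G r := by
  unfold Fitt.sheafIdeal
  congr 1
  funext U
  exact le_antisymm (NodalSing14.fitt_ideal_congr (appEquiv e U.1) r)
    (NodalSing14.fitt_ideal_congr (appEquiv e U.1).symm r)


/-- Let f : X → B be a proper family of nodal curves — flat, locally of finite presentation, each fibre
having all its irreducible components of dimension one and at worst nodes as singularities. Let Ω be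
an O_X-module equipped with a universal B-derivation (a sheaf of relative differentials of X over B)
and let Z be the closed subscheme of X cut out by the first Fitting ideal sheaf of Ω, the singular
locus of f. Then the composite Z → X → B is finite and formally unramified, so unramified. -/
theorem result {X B : Scheme.{u}}
    (f : X ⟶ B) (hf : Curv2.IsNodalFamily f) [IsProper f] (Ω : X.Modules) (d : OmegaSh.Der f Ω)
    (hd : OmegaSh.IsUniversal d) :
    IsFinite ((Fitt.sheafIdeal Ω 1).subschemeι ≫ f) ∧
      FormallyUnramified ((Fitt.sheafIdeal Ω 1).subschemeι ≫ f) := by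
  haveI : LocallyOfFinitePresentation f := hf.2.1
  obtain ⟨e, -⟩ := Omega12.exists_iso_sheaf f hd
  rw [← sheafIdeal_iso e 1]
  haveI := NodalSing14.formallyUnramified_of_famGood f (Nodal27.famGood_of_isNodalFamily f hf)
  haveI : LocallyQuasiFinite ((Fitt.sheafIdeal (Omega.sheaf f) 1).subschemeι ≫ f) :=
    EtBase.locallyQuasiFinite_of_formallyUnramified _
  exact ⟨IsFinite.of_isProper_of_locallyQuasiFinite _, inferInstance⟩

end Groth.Agent.S14047
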