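import Groth.Statements.S14048
import Mathlib

set_option autoImplicit false
universe u
open TensorProduct
open CAlg

namespace Groth.Agent.S14048
open Polynomial TensorProduct

/-- Rationals whose denominator is prime to `p`. -/
def intAt (p : ℕ) (hp : p.Prime) : Subring ℚ where
  carrier := {q | ¬ p ∣ q.den}
  mul_mem' {a b} ha hb h := by
    rcases hp.dvd_mul.1 (h.trans (Rat.mul_den_dvd a b)) with h | h
    exacts [ha h, hb h]
  one_mem' h := hp.one_lt.ne' (Nat.dvd_one.1 (by simpa using h))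
  add_mem' {a b} ha hb h := by
    rcases hp.dvd_mul.1 (h.trans (Rat.add_den_dvd a b)) with h | h
    exacts [ha h, hb h]
  zero_mem' h := hp.one_lt.ne' (Nat.dvd_one.1 (by simpa using h))
  neg_mem' {a} ha h := ha (by simpa using h)

/-- Let A be an integral domain in which 2 is invertible and let t be an element of A, so that Spec A is
a scheme over the affine line Spec ℤ[1/2][t]. Assume that (1) the ℚ-algebra map ℚ[X] → ℚ ⊗_ℤ A
sending X to 1 ⊗ t is bijective (the map Spec A → Spec ℤ[1/2][t] becomes an isomorphism after base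
change to ℚ); (2) every prime number is invertible in A/(t) (the fibre over t = 0 is of pure
characteristic zero); and (3) there is a ring homomorphism s : A → ℤ[1/2] with s(t) = 1 (the fibre
over t = 1 admits a section). Then A is not Noetherian. -/
theorem result (A : Type u) [CommRing A]
    [IsDomain A] (h2 : IsUnit (2 : A)) (t : A)
    (h1 : Function.Bijective (Polynomial.aeval (R := ℚ) ((1 : ℚ) ⊗ₜ[ℤ] t : ℚ ⊗[ℤ] A)))
    (h0 : ∀ p : ℕ, p.Prime → IsUnit ((p : ℕ) : A ⧸ Ideal.span ({t} : Set A)))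
    (s : A →+* Localization.Away (2 : ℤ)) (hs : s t = 1) :
    ¬ IsNoetherianRing A := by
  classical
  intro hN
  let E := AlgEquiv.ofBijective _ h1
  let ι : A →+* ℚ[X] := E.symm.toAlgHom.toRingHom.comp
    (Algebra.TensorProduct.includeRight : A →ₐ[ℤ] ℚ ⊗[ℤ] A).toRingHom
  have hιt : ι t = X := by
    show E.symm ((1 : ℚ) ⊗ₜ[ℤ] t) = X
    rw [AlgEquiv.symm_apply_eq]
    exact (Polynomial.aeval_X _).symm
  let toQ : Localization.Away (2 : ℤ) →+* ℚ :=
    IsLocalization.Away.lift (2 : ℤ) (g := Int.castRingHom ℚ) (by simp)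
  let σ : ℚ ⊗[ℤ] A →ₐ[ℚ] ℚ :=
    Algebra.TensorProduct.lift (AlgHom.id ℚ ℚ) (toQ.comp s).toIntAlgHom fun _ _ => Commute.all _ _
  have hσ : ∀ f : A, σ ((1 : ℚ) ⊗ₜ[ℤ] f) = toQ (s f) := fun f => by simp [σ]
  have hev : ∀ f : A, (ι f).eval 1 = toQ (s f) := by
    intro f
    have h : σ.comp E.toAlgHom = Polynomial.aeval (1 : ℚ) := by
      apply Polynomial.algHom_ext
      show σ (E X) = _
      rw [show E X = (1 : ℚ) ⊗ₜ[ℤ] t from Polynomial.aeval_X _, hσ, hs, map_one, Polynomial.aeval_X]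
    rw [← hσ, ← Polynomial.coe_aeval_eq_eval, ← h]
    show σ (E (E.symm _)) = _
    rw [E.apply_symm_apply]
    rfl
  let toA : Localization.Away (2 : ℤ) →+* A :=
    IsLocalization.Away.lift (2 : ℤ) (g := Int.castRingHom A) (by simpa using h2)
  have hsA : s.comp toA = RingHom.id _ := IsLocalization.ringHom_ext (Submonoid.powers (2 : ℤ)) (RingHom.ext_int _ _)
  have hιA : ∀ z, ι (toA z) = C (toQ z) := fun z => RingHom.congr_fun
    (show ι.comp toA = C.comp toQ from
      IsLocalization.ringHom_ext (Submonoid.powers (2 : ℤ)) (RingHom.ext_int _ _)) z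
  obtain ⟨G, hG⟩ := IsNoetherian.noetherian (RingHom.ker s)
  let D : ℕ := max 2 (G.sup fun g => (ι g).support.sup fun i => ((ι g).coeff i).den)
  obtain ⟨p, hpD, hp⟩ := Nat.exists_infinite_primes (D + 1)
  have hp2 : 2 < p := lt_of_le_of_lt (le_max_left _ _) (Nat.lt_of_succ_le hpD)
  let O := intAt p hp
  have hO2 : ∀ z, toQ z ∈ O := by
    intro z
    obtain ⟨n, ⟨_, k, rfl⟩, rfl⟩ := IsLocalization.exists_mk'_eq (Submonoid.powers (2 : ℤ)) z
    have he := congrArg toQ (IsLocalization.mk'_spec (Localization.Away (2 : ℤ)) n (⟨2 ^ k, k, rfl⟩ : Submonoid.powers (2 : ℤ)))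
    simp only [map_mul, map_pow, toQ, IsLocalization.Away.lift_eq] at he
    simp only [eq_intCast, Int.cast_ofNat] at he
    intro hdvd
    have h3 : (toQ (IsLocalization.mk' (Localization.Away (2 : ℤ)) n (⟨2 ^ k, k, rfl⟩ : Submonoid.powers (2 : ℤ)))) =
        Rat.divInt n (2 ^ k) := by
      rw [Rat.divInt_eq_div, eq_div_iff (by push_cast; exact pow_ne_zero _ two_ne_zero)]
      push_cast
      exact he
    rw [h3] at hdvd
    have h4 : p ∣ 2 ^ k := by
      have := Rat.den_dvd n (2 ^ k)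
      exact_mod_cast (Int.natCast_dvd_natCast.2 hdvd).trans this
    exact absurd (Nat.le_of_dvd two_pos (hp.dvd_of_dvd_pow h4)) (not_le.2 hp2)
  let R₀ : Subring ℚ[X] := (Polynomial.mapRingHom O.subtype).range
  have hR₀ : ∀ P : ℚ[X], P ∈ R₀ ↔ ∀ i, P.coeff i ∈ O := by
    intro P
    refine ⟨?_, fun h => ?_⟩
    · rintro ⟨Q, rfl⟩ i
      rw [Polynomial.coe_mapRingHom, Polynomial.coeff_map]
      exact (Q.coeff i).2
    · have : P ∈ Polynomial.lifts O.subtype := (Polynomial.lifts_iff_coeff_lifts P).2 fun i => ⟨⟨_, h i⟩, rfl⟩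
      obtain ⟨Q, hQ⟩ := (Polynomial.mem_lifts P).1 this
      exact ⟨Q, hQ⟩
  let B : Subring ℚ[X] := Subring.closure (Set.range ι ∪ C '' (O : Set ℚ))
  have hιB : ∀ f, ι f ∈ B := fun f => Subring.subset_closure (Or.inl ⟨f, rfl⟩)
  have hCB : ∀ c ∈ O, C c ∈ B := fun c hc => Subring.subset_closure (Or.inr ⟨c, hc, rfl⟩)
  have hXB : (X : ℚ[X]) ∈ B := hιt ▸ hιB t
  have hRB : R₀ ≤ B := by
    intro P hP
    rw [P.as_sum_range_C_mul_X_pow]
    exact B.sum_mem fun i _ => B.mul_mem (hCB _ ((hR₀ P).1 hP i)) (B.pow_mem hXB i)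
  have hgen : ∀ g ∈ G, ∃ h ∈ R₀, ι g = (X - 1) * h := by
    intro g hg
    have hg0 : (ι g).eval 1 = 0 := by
      rw [hev, show s g = 0 from (hG ▸ Submodule.subset_span hg : g ∈ RingHom.ker s), map_zero]
    have hgR : ι g ∈ R₀ := (hR₀ _).2 fun i => by
      by_cases hi : i ∈ (ι g).support
      · intro hdvd
        have h1' := Finset.le_sup (f := fun i => ((ι g).coeff i).den) hi
        have h2' := Finset.le_sup (f := fun g => (ι g).support.sup fun i => ((ι g).coeff i).den) hg
        have h3 := Nat.le_of_dvd (Rat.den_pos _) hdvd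
        have h4 := le_max_right 2 (G.sup fun g => (ι g).support.sup fun i => ((ι g).coeff i).den)
        replace h1' : ((ι g).coeff i).den ≤ (ι g).support.sup fun i => ((ι g).coeff i).den := h1'
        replace h2' : ((ι g).support.sup fun i => ((ι g).coeff i).den) ≤
          G.sup fun g => (ι g).support.sup fun i => ((ι g).coeff i).den := h2'
        omega
      · rw [notMem_support_iff.1 hi]; exact O.zero_mem
    obtain ⟨Q, hQ⟩ := hgR
    have hQ1 : Q.IsRoot 1 := by
      apply (Subtype.val_injective : Function.Injective (Subtype.val : O → ℚ))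
      show O.subtype (Q.eval 1) = ((0 : O) : ℚ)
      rw [ZeroMemClass.coe_zero, ← hg0, ← hQ, Polynomial.coe_mapRingHom, Polynomial.eval_one_map]
    obtain ⟨Q', hQ'⟩ := Polynomial.dvd_iff_isRoot.2 hQ1
    refine ⟨Polynomial.mapRingHom O.subtype Q', ⟨Q', rfl⟩, ?_⟩
    rw [← hQ, hQ', map_mul]
    simp
  have hB : ∀ P ∈ B, P.eval 1 ∈ O ∧ ∃ P₁ ∈ B, P = C (P.eval 1) + (X - 1) * P₁ := by
    intro P hP
    induction hP using Subring.closure_induction with
    | mem P hP =>
      rcases hP with ⟨f, rfl⟩ | ⟨c, hc, rfl⟩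
      · refine ⟨hev f ▸ hO2 _, ?_⟩
        have hk : f - toA (s f) ∈ RingHom.ker s := by
          rw [RingHom.mem_ker, map_sub, show s (toA (s f)) = s f from RingHom.congr_fun hsA (s f), sub_self]
        rw [← hG] at hk
        have key : ∀ z ∈ Submodule.span A (G : Set A), ∃ P₁ ∈ B, ι z = (X - 1) * P₁ := by
          intro z hz
          induction hz using Submodule.span_induction with
          | mem g hg => obtain ⟨h, hh, he⟩ := hgen g hg; exact ⟨h, hRB hh, he⟩
          | zero => exact ⟨0, B.zero_mem, by simp⟩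
          | add a b _ _ ha hb =>
            obtain ⟨a', ha', ea⟩ := ha
            obtain ⟨b', hb', eb⟩ := hb
            exact ⟨a' + b', B.add_mem ha' hb', by rw [map_add, ea, eb, mul_add]⟩
          | smul r a _ ha =>
            obtain ⟨a', ha', ea⟩ := ha
            exact ⟨ι r * a', B.mul_mem (hιB r) ha', by rw [smul_eq_mul, map_mul, ea]; ring⟩
        obtain ⟨P₁, hP₁, he⟩ := key _ hk
        refine ⟨P₁, hP₁, ?_⟩
        rw [map_sub, hιA, ← hev] at he
        rw [← he]; ring
      · exact ⟨by rwa [eval_C], 0, B.zero_mem, by simp⟩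
    | zero => exact ⟨by rw [eval_zero]; exact O.zero_mem, 0, B.zero_mem, by simp⟩
    | one => exact ⟨by rw [eval_one]; exact O.one_mem, 0, B.zero_mem, by simp⟩
    | add a b _ _ ha hb =>
      obtain ⟨ha0, a', ha', ea⟩ := ha
      obtain ⟨hb0, b', hb', eb⟩ := hb
      refine ⟨by rw [eval_add]; exact O.add_mem ha0 hb0, a' + b', B.add_mem ha' hb', ?_⟩
      rw [eval_add, map_add]
      linear_combination ea + eb
    | neg a _ ha =>
      obtain ⟨ha0, a', ha', ea⟩ := ha
      refine ⟨by rw [eval_neg]; exact O.neg_mem ha0, -a', B.neg_mem ha', ?_⟩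
      rw [eval_neg, map_neg]
      linear_combination -ea
    | mul a b hA hB' ha hb =>
      obtain ⟨ha0, a', ha', ea⟩ := ha
      obtain ⟨hb0, b', hb', eb⟩ := hb
      refine ⟨by rw [eval_mul]; exact O.mul_mem ha0 hb0, a' * b + C (a.eval 1) * b',
        B.add_mem (B.mul_mem ha' hB') (B.mul_mem (hCB _ ha0) hb'), ?_⟩
      rw [eval_mul, map_mul]
      linear_combination b * ea + C (a.eval 1) * eb
  have hfin : ∀ (n : ℕ), ∀ P ∈ B, P.natDegree ≤ n → P ∈ R₀ := by
    intro n
    induction n with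
    | zero =>
      intro P hP hd
      rw [Polynomial.eq_C_of_natDegree_le_zero hd]
      have := (hB P hP).1
      rw [Polynomial.eq_C_of_natDegree_le_zero hd, eval_C] at this
      exact ⟨C ⟨_, this⟩, by rw [Polynomial.coe_mapRingHom, Polynomial.map_C]; rfl⟩
    | succ n ih =>
      intro P hP hd
      obtain ⟨h0', P₁, hP₁, e⟩ := hB P hP
      rw [e]
      refine R₀.add_mem ⟨C ⟨_, h0'⟩, by rw [Polynomial.coe_mapRingHom, Polynomial.map_C]; rfl⟩
        (R₀.mul_mem ⟨X - 1, by simp⟩ (ih P₁ hP₁ ?_))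
      by_cases hP0 : P₁ = 0
      · simp [hP0]
      have h5 : ((X - 1 : ℚ[X]) * P₁).natDegree = 1 + P₁.natDegree := by
        rw [← C_1, natDegree_mul (X_sub_C_ne_zero 1) hP0, natDegree_X_sub_C]
      have h6 : (X - 1 : ℚ[X]) * P₁ = P - C (P.eval 1) := by linear_combination -e
      rw [h6, natDegree_sub_C] at h5
      omega
  obtain ⟨u, hu⟩ := (h0 p hp).exists_left_inv
  obtain ⟨a, rfl⟩ := Ideal.Quotient.mk_surjective u
  rw [← map_natCast (Ideal.Quotient.mk (Ideal.span ({t} : Set A))), ← map_mul, ← map_one (Ideal.Quotient.mk _),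
    Ideal.Quotient.eq, Ideal.mem_span_singleton] at hu
  obtain ⟨b, hb⟩ := hu
  have h7 := congrArg (fun z => (ι z).coeff 0) hb
  simp only [map_sub, map_mul, map_natCast, map_one, hιt, coeff_sub, coeff_one, coeff_X_mul_zero,
    coeff_mul_natCast] at h7
  have h8 : (ι a).coeff 0 ∈ O := (hR₀ _).1 (hfin _ _ (hιB a) le_rfl) 0
  have h9 : (ι a).coeff 0 = (p : ℚ)⁻¹ := by
    refine eq_inv_of_mul_eq_one_left ?_
    simpa [sub_eq_zero] using h7
  rw [h9] at h8
  refine h8 ?_
  rw [Rat.inv_natCast_den_of_pos hp.pos]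

end Groth.Agent.S14048
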