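import Groth.Statements.S14049
-- import your own Groth.Agent.* helpers here

set_option autoImplicit false
set_option backward.isDefEq.respectTransparency.types false
universe u
open CategoryTheory AlgebraicGeometry
open LocStr

namespace Groth.Agent.S14049

theorem surjective_of_nilpotent {A B : Type*} [CommRing A] [CommRing B] (φ : A →+* B) (N : Ideal B)
    {n : ℕ} (hN : N ^ n = ⊥) (h : ∀ b, ∃ a, b - φ a ∈ N ^ 2) : Function.Surjective φ := by
  have key : ∀ k : ℕ, ∀ b ∈ N ^ k, ∃ a, φ a ∈ N ^ k ∧ b - φ a ∈ N ^ (k + 1) := by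
    intro k
    induction k with
    | zero =>
      intro b _
      obtain ⟨a, ha⟩ := h b
      exact ⟨a, by simp, Ideal.pow_le_pow_right (by omega) ha⟩
    | succ k ih =>
      intro b hb
      rw [pow_succ] at hb
      refine Submodule.mul_induction_on hb (fun x hx y hy => ?_) (fun x y ⟨a, ha, ha'⟩ ⟨c, hc, hc'⟩ => ?_)
      · obtain ⟨a, ha, ha'⟩ := ih x hx
        obtain ⟨c, hc⟩ := h y
        have hcN : φ c ∈ N := by
          have := N.sub_mem hy (Ideal.pow_le_self two_ne_zero hc)
          rwa [sub_sub_cancel] at this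
        refine ⟨a * c, ?_, ?_⟩
        · rw [map_mul, pow_succ]
          exact Ideal.mul_mem_mul ha hcN
        · have e : x * y - φ (a * c) = (x - φ a) * y + φ a * (y - φ c) := by rw [map_mul]; ring
          rw [e]
          refine add_mem ?_ ?_
          · rw [pow_succ]
            exact Ideal.mul_mem_mul ha' hy
          · rw [show k + 1 + 1 = k + 2 from rfl, pow_add]
            exact Ideal.mul_mem_mul ha hc
      · refine ⟨a + c, by rw [map_add]; exact add_mem ha hc, ?_⟩
        rw [map_add, add_sub_add_comm]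
        exact add_mem ha' hc'
  intro b
  have all : ∀ k : ℕ, ∃ a, b - φ a ∈ N ^ k := by
    intro k
    induction k with
    | zero => exact ⟨0, by simp⟩
    | succ k ih =>
      obtain ⟨a, ha⟩ := ih
      obtain ⟨c, -, hc⟩ := key k _ ha
      exact ⟨a + c, by rwa [map_add, ← sub_sub]⟩
  obtain ⟨a, ha⟩ := all n
  rw [hN, Submodule.mem_bot, sub_eq_zero] at ha
  exact ⟨a, ha.symm⟩

theorem ker_stalkMap_le {X Z : Scheme.{u}} (i : Z ⟶ X) [IsClosedImmersion i] (z : Z)
    {U : X.Opens} (hU : IsAffineOpen U) (hxU : i z ∈ U)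
    (r : X.presheaf.stalk (i z)) (hr : i.stalkMap z r = 0) :
    r ∈ (i.ker.ideal ⟨U, hU⟩).map (X.presheaf.germ U (i z) hxU).hom := by
  let := TopCat.Presheaf.algebra_section_stalk X.presheaf (⟨i z, hxU⟩ : U)
  have := hU.isLocalization_stalk ⟨i z, hxU⟩
  obtain ⟨⟨b, c₂⟩, hb⟩ := IsLocalization.surj (hU.primeIdealOf ⟨i z, hxU⟩).asIdeal.primeCompl r
  have hb' : r * X.presheaf.germ U (i z) hxU c₂.1 = X.presheaf.germ U (i z) hxU b := hb
  have hzU : z ∈ i ⁻¹ᵁ U := hxU
  let := TopCat.Presheaf.algebra_section_stalk Z.presheaf (⟨z, hzU⟩ : (i ⁻¹ᵁ U : Z.Opens))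
  have := (hU.preimage i).isLocalization_stalk ⟨z, hzU⟩
  have hb0 : algebraMap Γ(Z, i ⁻¹ᵁ U) (Z.presheaf.stalk z) (i.app U b) = 0 := by
    change Z.presheaf.germ (i ⁻¹ᵁ U) z hzU (i.app U b) = 0
    rw [← Scheme.Hom.germ_stalkMap_apply i U z hxU, ← hb', map_mul, hr, zero_mul]
  obtain ⟨d, hd⟩ := (IsLocalization.map_eq_zero_iff
    ((hU.preimage i).primeIdealOf ⟨z, hzU⟩).asIdeal.primeCompl (Z.presheaf.stalk z) _).mp hb0
  obtain ⟨c, hc⟩ := i.app_surjective U hU d.1
  have hcu : IsUnit (X.presheaf.germ U (i z) hxU c) := by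
    refine isUnit_of_map_unit (i.stalkMap z).hom _ ?_
    rw [Scheme.Hom.germ_stalkMap_apply, hc]
    exact IsLocalization.map_units (Z.presheaf.stalk z) d
  have hker : c * b ∈ i.ker.ideal ⟨U, hU⟩ := by
    rw [Scheme.Hom.ker_apply, RingHom.mem_ker, map_mul, hc]
    exact hd
  have h1 := Ideal.mem_map_of_mem (X.presheaf.germ U (i z) hxU).hom hker
  rw [map_mul, ← hb', mul_comm r, ← mul_assoc] at h1
  exact (Ideal.unit_mul_mem_iff_mem _ (hcu.mul (IsLocalization.map_units (X.presheaf.stalk (i z)) c₂))).mp h1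

/-- For schemes. Let f : X → Y be a morphism of schemes and let I be a quasi-coherent sheaf of ideals on
X which is nilpotent (some power of I is zero). Let X₁ ⊆ X be the closed subscheme defined by I².
Then f is a closed immersion as soon as the composite X₁ → X → Y is one. (The published statement is
the same assertion for a morphism of algebraic stacks; it is stated here for schemes.) -/
theorem result (X Y : Scheme.{u}) (f : X ⟶ Y)
    (I : X.IdealSheafData) (hI : IsNilpotent I)
    (h : IsClosedImmersion ((I ^ 2).subschemeι ≫ f)) :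
    IsClosedImmersion f := by
  haveI := h
  obtain ⟨n, hn⟩ := hI
  have hsupp : ((I ^ 2).support : Set X) = Set.univ := by
    rw [Scheme.IdealSheafData.support_pow _ 2 two_ne_zero]
    rcases eq_or_ne n 0 with rfl | h0
    · have h1 : (⊤ : X.IdealSheafData).support = (⊥ : X.IdealSheafData).support :=
        congrArg Scheme.IdealSheafData.support ((pow_zero I).symm.trans hn)
      have h2 : ((⊤ : X.IdealSheafData).support : Set X) = ∅ := by simp
      have h3 : ((⊥ : X.IdealSheafData).support : Set X) = Set.univ := by simp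
      have h4 : IsEmpty X := Set.univ_eq_empty_iff.1 (by rw [← h3, ← h1, h2])
      exact Set.eq_univ_of_forall fun x => (IsEmpty.false x).elim
    · rw [← Scheme.IdealSheafData.support_pow I n h0, hn]
      simp
  have hsur : Function.Surjective (I ^ 2).subschemeι := by
    rw [← Set.range_eq_univ, Scheme.IdealSheafData.range_subschemeι, hsupp]
  have hhom : IsHomeomorph (I ^ 2).subschemeι :=
    isHomeomorph_iff_isEmbedding_surjective.2 ⟨(I ^ 2).subschemeι.isEmbedding, hsur⟩
  have hemb : Topology.IsClosedEmbedding f := by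
    have hc : Topology.IsClosedEmbedding ((I ^ 2).subschemeι ≫ f) :=
      Scheme.Hom.isClosedEmbedding _
    have e : (f : X → Y) = ((I ^ 2).subschemeι ≫ f) ∘ hhom.homeomorph.symm := by
      funext x
      simp only [Function.comp_apply, Scheme.Hom.comp_apply]
      exact congrArg f (hhom.homeomorph.apply_symm_apply x).symm
    rw [e]
    exact hc.comp hhom.homeomorph.symm.isClosedEmbedding
  rw [IsClosedImmersion.iff_isPreimmersion]
  suffices hs : SurjectiveOnStalks f from
    ⟨{ toSurjectiveOnStalks := hs, isEmbedding := hemb.isEmbedding }, hemb.isClosed_range⟩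
  constructor
  intro x
  obtain ⟨z, rfl⟩ := hsur x
  obtain ⟨U, hU, hxU, -⟩ :=
    exists_isAffineOpen_mem_and_subset (x := (I ^ 2).subschemeι z) (U := ⊤) trivial
  let N := (I.ideal ⟨U, hU⟩).map (X.presheaf.germ U _ hxU).hom
  have hN : N ^ n = ⊥ := by
    rw [← Ideal.map_pow, ← Pi.pow_apply, ← Scheme.IdealSheafData.ideal_pow, hn]
    simp
  refine surjective_of_nilpotent _ N hN fun b => ?_
  obtain ⟨a, ha⟩ := ((I ^ 2).subschemeι ≫ f).stalkMap_surjective z ((I ^ 2).subschemeι.stalkMap z b)
  refine ⟨a, ?_⟩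
  have hker : ∀ r, (I ^ 2).subschemeι.stalkMap z r = 0 → r ∈ N ^ 2 := fun r hr => by
    have := ker_stalkMap_le (I ^ 2).subschemeι z hU hxU r hr
    rwa [Scheme.IdealSheafData.ker_subschemeι, Scheme.IdealSheafData.ideal_pow, Pi.pow_apply,
      Ideal.map_pow] at this
  refine hker _ ?_
  rw [Scheme.Hom.stalkMap_comp] at ha
  rw [map_sub, sub_eq_zero]
  exact ha.symm

end Groth.Agent.S14049
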