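import Groth.Statements.S1405
import Groth.Agent.Lib.FibDim14.BaseChange
import Groth.Agent.Lib.NormFin18.Apps
import Groth.Agent.Lib.FlatH4.PullChart
import Groth.Agent.Lib.Pinch4.BaseChange
import Groth.Agent.Lib.Hens.Noetherian

set_option autoImplicit false
universe u
open FlatMor

set_option backward.isDefEq.respectTransparency.types false

namespace Groth.Agent.S1405


open AlgebraicGeometry CategoryTheory Limits TensorProduct

set_option backward.isDefEq.respectTransparency.types false

theorem isNoetherianRing_bc_iff {R L K T : CommRingCat.{u}} {φ : R ⟶ L} {ψ : R ⟶ K} {f : L ⟶ T} {h : K ⟶ T}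
    (hpo : IsPushout φ ψ f h) (hψ : ψ.hom.EssFiniteType) (hR : IsField R) (hK : IsField K) :
    IsNoetherianRing L ↔ IsNoetherianRing T := by
  obtain ⟨e, he, -⟩ := Pinch4.exists_bij hpo
  letI := φ.hom.toAlgebra
  letI := ψ.hom.toAlgebra
  haveI : Algebra.EssFiniteType R K := hψ
  haveI : IsLocalRing R := let _ := hR.toField; inferInstance
  haveI : IsLocalRing K := let _ := hK.toField; inferInstance
  haveI : IsLocalHom (algebraMap R K) := ⟨fun a ha => by
    haveI := hK.nontrivial
    have ha0 : a ≠ 0 := fun h => ha.ne_zero (by rw [h, map_zero])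
    obtain ⟨b, hb⟩ := hR.mul_inv_cancel ha0
    exact IsUnit.of_mul_eq_one b hb⟩
  haveI : Module.Flat R K := let _ := hR.toField; inferInstance
  haveI : Module.FaithfullyFlat R K := Module.FaithfullyFlat.of_flat_of_isLocalHom
  constructor
  · intro _
    haveI := Algebra.EssFiniteType.isNoetherianRing L (L ⊗[R] K)
    exact isNoetherianRing_of_ringEquiv _ (RingEquiv.ofBijective e he)
  · intro _
    haveI : IsNoetherianRing (L ⊗[R] K) := isNoetherianRing_of_ringEquiv _ (RingEquiv.ofBijective e he).symm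
    exact Hens.isNoetherianRing_of_faithfullyFlat L (L ⊗[R] K)

theorem isLocallyNoetherian_bc_iff {k k' : CommRingCat.{u}} (hk : IsField k) (hk' : IsField k') (ρ : k ⟶ k')
    (hρ : ρ.hom.EssFiniteType) {F F' : Scheme.{u}} {pr : F' ⟶ F} {a' : F' ⟶ Spec k'} {a : F ⟶ Spec k}
    (sq : IsPullback pr a' a (Spec.map ρ)) : IsLocallyNoetherian F ↔ IsLocallyNoetherian F' := by
  haveI : IsAffineHom pr := MorphismProperty.of_isPullback sq.flip inferInstance
  have hψ : ((Spec.map ρ).appLE ⊤ ⊤ le_top).hom.EssFiniteType := by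
    have e : (Spec.map ρ).appLE ⊤ ⊤ le_top = (Scheme.ΓSpecIso k).hom ≫ ρ ≫ (Scheme.ΓSpecIso k').inv := by
      rw [← Category.assoc, Iso.eq_comp_inv, ← Scheme.ΓSpecIso_naturality]
      simp [Scheme.Hom.appLE]
    rw [e, CommRingCat.hom_comp, CommRingCat.hom_comp]
    refine RingHom.EssFiniteType.comp ?_ (RingHom.EssFiniteType.comp hρ ?_)
    · exact (RingHom.FiniteType.of_surjective _ (Scheme.ΓSpecIso k).commRingCatIsoToRingEquiv.surjective).essFiniteType
    · exact (RingHom.FiniteType.of_surjective _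
        (Scheme.ΓSpecIso k').symm.commRingCatIsoToRingEquiv.surjective).essFiniteType
  have key : ∀ U : F.affineOpens, IsNoetherianRing Γ(F, U.1) ↔ IsNoetherianRing Γ(F', pr ⁻¹ᵁ U.1) := fun U => by
    refine isNoetherianRing_bc_iff (FlatH4.isPushout_sections sq (US := ⊤) (UT := ⊤) (UX := U.1)
      (UY := pr ⁻¹ᵁ U.1) le_top le_top ?_ (isAffineOpen_top _) (isAffineOpen_top _) U.2) hψ ?_ ?_
    · simp
    · exact (Scheme.ΓSpecIso k).commRingCatIsoToRingEquiv.toMulEquiv.isField hk
    · exact (Scheme.ΓSpecIso k').commRingCatIsoToRingEquiv.toMulEquiv.isField hk'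
  constructor
  · intro _
    refine isLocallyNoetherian_of_affine_cover (S := fun U : F.affineOpens => ⟨pr ⁻¹ᵁ U.1, U.2.preimage pr⟩) ?_
      fun U => (key U).1 (IsLocallyNoetherian.component_noetherian U)
    rw [← Scheme.Hom.preimage_iSup, iSup_affineOpens_eq_top]
    rfl
  · intro _
    exact ⟨fun U => (key U).2 (IsLocallyNoetherian.component_noetherian ⟨pr ⁻¹ᵁ U.1, U.2.preimage pr⟩)⟩


open AlgebraicGeometry CategoryTheory Limits in
/-- Let Y' → Y be flat, locally of finite presentation and surjective and f' the base change of f : X →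
Y. Then all fibres of f are locally Noetherian if and only if all fibres of f' are. -/
theorem result {X Y X' Y' : Scheme.{u}} (f : X ⟶ Y) (f' : X' ⟶ Y') (g' : X' ⟶ X) (g : Y' ⟶ Y) [Flat g] [LocallyOfFinitePresentation g] [Surjective g]
    (hc : IsPullback g' f' f g) :
    (∀ y : Y, IsLocallyNoetherian (f.fiber y)) ↔ ∀ y' : Y', IsLocallyNoetherian (f'.fiber y') := by
  have key : ∀ y', IsLocallyNoetherian (f.fiber (g y')) ↔ IsLocallyNoetherian (f'.fiber y') := fun y' => by
    obtain ⟨pr, -, sq⟩ := FibDim14.exists_fibre_square hc y'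
    exact isLocallyNoetherian_bc_iff (Field.toIsField (Y.residueField (g y'))) (Field.toIsField (Y'.residueField y'))
      (g.residueFieldMap y') (NormFin18.essFiniteType_residueFieldMap g y') sq
  refine ⟨fun h y' => (key y').1 (h _), fun h y => ?_⟩
  obtain ⟨y', rfl⟩ := g.surjective y
  exact (key y').2 (h y')

end Groth.Agent.S1405
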