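import Groth.Statements.S14050
import Groth.Agent.Lib.ArtinApproxH7.Functor
import Groth.Agent.S0597
import Groth.Agent.Lib.GRing6.Completion

set_option autoImplicit false
universe u
open CategoryTheory CategoryTheory.Limits
open Hensel

namespace Groth.Agent.S14050

/-- Let A be a G-ring, that is a Noetherian ring whose local rings have regular completion maps (for
instance a quasi-excellent ring), let I be an ideal such that (A, I) is a henselian pair, and let Â
be the I-adic completion of A. Let F be a functor from A-algebras (commutative rings under A) to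
sets which preserves filtered colimits, let ξ ∈ F(Â) and n ≥ 0. Then there is η ∈ F(A) such that η
and ξ have the same image in F(A/I^(n+1)). Here π is the A-algebra map Â → A/I^(n+1), pinned by its
underlying ring map, and ρ is the structure map A → A/I^(n+1). (The published statement is for a
limit-preserving contravariant functor on all schemes over Spec A; only its values on affine schemes
enter, and those form a functor on A-algebras preserving filtered colimits, which is the form stated
here.) -/
theorem result (A : Type u) [CommRing A]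
    (I : Ideal A) [HenselianRing A I] (hG : CAlg.IsGRing A)
    (F : Under (CommRingCat.of A) ⥤ Type u)
    (hF : ∀ (J : Type u) [SmallCategory J] [IsFiltered J], PreservesColimitsOfShape J F)
    (n : ℕ)
    (π : Under.mk (CommRingCat.ofHom (algebraMap A (AdicCompletion I A))) ⟶
      Under.mk (CommRingCat.ofHom (algebraMap A (A ⧸ I ^ (n + 1)))))
    (hπ : π.right = CommRingCat.ofHom
      (AdicCompletion.evalₐ I (n + 1) : AdicCompletion I A →ₐ[A] A ⧸ I ^ (n + 1)).toRingHom)
    (ρ : Under.mk (𝟙 (CommRingCat.of A)) ⟶
      Under.mk (CommRingCat.ofHom (algebraMap A (A ⧸ I ^ (n + 1)))))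
    (ξ : F.obj (Under.mk (CommRingCat.ofHom (algebraMap A (AdicCompletion I A))))) :
    ∃ η : F.obj (Under.mk (𝟙 (CommRingCat.of A))), F.map ρ η = F.map π ξ := by
  haveI := hG.1
  let p : AdicCompletion I A →ₐ[A] A ⧸ I ^ (n + 1) := AdicCompletion.evalₐ I (n + 1)
  let r : A →ₐ[A] A ⧸ I ^ (n + 1) := Algebra.ofId A _
  obtain ⟨η, hη⟩ := Groth.Agent.ArtinApproxH7.exists_eq_map (R := CommRingCat.of A) F hF
    (AdicCompletion I A) (A ⧸ I ^ (n + 1)) A p r (fun k s x hx => by
      obtain ⟨b, hb, hcong⟩ := Groth.Agent.S0597.result A I (Groth.Agent.GRing6.isRegularHom_adicCompletion A hG I) k s.card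
        (fun i => (s.equivFin.symm i).1) x (fun j => by rw [MvPolynomial.eval_map]; exact hx _ (s.equivFin.symm j).2) (n + 1)
      refine ⟨b, fun q hq => ?_, fun j => ?_⟩
      · have h1 := hb (s.equivFin ⟨q, hq⟩)
        rw [Equiv.symm_apply_apply] at h1
        exact h1
      · have h := (Groth.Agent.ArtinApproxH7.mem_map_pow_iff I (IsNoetherian.noetherian _) (n + 1) _).1 (hcong j)
        rw [map_sub, AlgHom.commutes, sub_eq_zero] at h
        exact h.symm) ξ
  refine ⟨η, ?_⟩
  have e1 : π = AlgHom.toUnder (R := CommRingCat.of A) p := Under.UnderMorphism.ext hπ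
  have e2 : ρ = AlgHom.toUnder (R := CommRingCat.of A) r := Under.UnderMorphism.ext (by
    have h := Under.w ρ
    exact (Category.id_comp _).symm.trans h)
  rw [e1, e2]
  exact hη

end Groth.Agent.S14050
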