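import Groth.Statements.S14051
import Groth.Statements.S14864
import Groth.Statements.S9658
import Groth.Statements.S15329
import Groth.Statements.S14418
import Mathlib.RingTheory.WittVector.Identities
import Mathlib.RingTheory.WittVector.Domain
import Mathlib.RingTheory.WittVector.Truncated
import Mathlib.RingTheory.Nakayama
import Mathlib.Algebra.Homology.ShortComplex.ModuleCat
import Mathlib.Algebra.Homology.ShortComplex.ShortExact
import Mathlib.Algebra.Category.ModuleCat.EpiMono
import Mathlib.RingTheory.Ideal.AssociatedPrime.Finiteness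

set_option autoImplicit false
universe u
open CAlg

namespace Groth.Agent.S14051
open CAlg

open scoped Pointwise

/-- Let A be a commutative ℕ-graded algebra over a base ring R which is generated by A_1 as an
A_0-algebra, written as A_{n+1} = A_1 · A_n for every n, and let M be a graded A-module: an A-module
with R-submodules M_n giving a direct-sum decomposition and A_i · M_j ⊆ M_{i+j}. If M is spanned
over A by a set of homogeneous elements all of degree at most n₀, then for every n ≥ n₀ and every k
≥ 0 the degree-(n+k) part of M is A_k · M_n. -/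
theorem result
    (R : Type u) [CommRing R] (A : Type u) [CommRing A] [Algebra R A]
    (𝒜 : ℕ → Submodule R A) [GradedAlgebra 𝒜]
    (hA : ∀ n : ℕ, 𝒜 (n + 1) = 𝒜 1 * 𝒜 n)
    (M : Type u) [AddCommGroup M] [Module R M] [Module A M] [IsScalarTower R A M]
    (ℳ : ℕ → Submodule R M) [DirectSum.Decomposition ℳ] [SetLike.GradedSMul 𝒜 ℳ]
    (s : Set M) (n₀ : ℕ) (hs : ∀ y ∈ s, ∃ d : ℕ, d ≤ n₀ ∧ y ∈ ℳ d)
    (hspan : Submodule.span A s = ⊤)
    (n k : ℕ) (hn : n₀ ≤ n) :
    ℳ (n + k) = 𝒜 k • ℳ n := by
  classical
  have hsm : ∀ {i j : ℕ} {a : A} {x : M}, a ∈ 𝒜 i → x ∈ ℳ j → a • x ∈ ℳ (i + j) := fun ha hx =>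
    SetLike.GradedSMul.smul_mem ha hx
  have hmul : ∀ i j : ℕ, 𝒜 (i + 1 + j) ≤ 𝒜 (i + 1) * 𝒜 j := by
    intro i
    induction i with
    | zero => intro j; rw [show 0 + 1 + j = j + 1 by omega, hA, zero_add]
    | succ i ih =>
      intro j
      rw [show i + 1 + 1 + j = (i + 1 + j) + 1 by omega, hA, hA (i + 1), mul_assoc]
      exact mul_le_mul' le_rfl (ih j)
  refine le_antisymm ?_ (Submodule.smul_le.2 fun a ha x hx => add_comm n k ▸ hsm ha hx)
  intro x hx
  have key : ∀ (a : A) (y : M), y ∈ s → (DirectSum.decompose ℳ (a • y) (n + k) : M) ∈ 𝒜 k • ℳ n := by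
    intro a y hy
    obtain ⟨d, hd, hyd⟩ := hs y hy
    induction a using DirectSum.Decomposition.inductionOn 𝒜 with
    | zero => simp
    | add a b ha hb =>
      rw [add_smul, DirectSum.decompose_add]
      exact add_mem ha hb
    | @homogeneous i a =>
      by_cases hid : i + d = n + k
      · rw [← hid, DirectSum.decompose_of_mem_same ℳ (hsm a.2 hyd)]
        rcases k with _ | k
        · rw [← one_smul A ((a : A) • y)]
          refine Submodule.smul_mem_smul (SetLike.one_mem_graded 𝒜) ?_
          have := hsm a.2 hyd
          rwa [hid, add_zero] at this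
        · have ha' : (a : A) ∈ 𝒜 (k + 1) * 𝒜 (n - d) := hmul k (n - d) (by
            rw [show k + 1 + (n - d) = i by omega]; exact a.2)
          refine Submodule.mul_induction_on ha' (fun p hp q hq => ?_) fun p q hp hq => ?_
          · rw [mul_smul]
            refine Submodule.smul_mem_smul hp ?_
            have := hsm hq hyd
            rwa [show n - d + d = n by omega] at this
          · rw [add_smul]; exact add_mem hp hq
      · rw [DirectSum.decompose_of_mem_ne ℳ (hsm a.2 hyd) hid]
        exact zero_mem _
  have hx' : ∀ z ∈ Submodule.span A s, ∀ a : A, (DirectSum.decompose ℳ (a • z) (n + k) : M) ∈ 𝒜 k • ℳ n := by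
    intro z hz
    induction hz using Submodule.span_induction with
    | mem y hy => exact fun a => key a y hy
    | zero => intro a; simp
    | add y z _ _ hy hz => intro a; rw [smul_add, DirectSum.decompose_add]; exact add_mem (hy a) (hz a)
    | smul b y _ hy => intro a; rw [smul_smul]; exact hy _
  have := hx' x (hspan ▸ Submodule.mem_top) 1
  rwa [one_smul, DirectSum.decompose_of_mem_same ℳ hx] at this

end Groth.Agent.S14051
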