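import Groth.Statements.S14052
import Mathlib.RingTheory.GradedAlgebra.Basic
import Mathlib.Algebra.Module.BigOperators
import Mathlib.Algebra.Algebra.Operations

set_option autoImplicit false
universe u
open CAlg

namespace Groth.Agent.S14052

/-- Let A be a commutative ℕ-graded algebra over a base ring R with A_{n+1} = A_1 · A_n for every n (A
is generated by A_1 over A_0), and let S be a commutative ℕ-graded A-algebra, the structure map
sending A_i into S_i, which is a finite A-module. Let s be a finite set of homogeneous elements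
spanning S as an A-module, all of degree at most n₀, with n₀ > 0. Then (1) S_{n+k} = S_k · S_n for
all n ≥ n₀ and k ≥ 0, and (2) for every d ≥ n₀ the d-th Veronese subring of S is generated by S_d
over S_0, that is S_{md} = (S_d)^m for every m > 0. -/
theorem result
    (R : Type u) [CommRing R] (A : Type u) [CommRing A] [Algebra R A]
    (𝒜 : ℕ → Submodule R A) [GradedAlgebra 𝒜] (hA : ∀ n : ℕ, 𝒜 (n + 1) = 𝒜 1 * 𝒜 n)
    (S : Type u) [CommRing S] [Algebra R S] [Algebra A S] [IsScalarTower R A S]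
    (𝒮 : ℕ → Submodule R S) [GradedAlgebra 𝒮]
    (hAS : ∀ (i : ℕ) (a : A), a ∈ 𝒜 i → algebraMap A S a ∈ 𝒮 i)
    [Module.Finite A S]
    (s : Set S) (hsfin : s.Finite) (n₀ : ℕ) (hn₀ : 0 < n₀)
    (hs : ∀ y ∈ s, ∃ d : ℕ, d ≤ n₀ ∧ y ∈ 𝒮 d) (hspan : Submodule.span A s = ⊤) :
    (∀ n k : ℕ, n₀ ≤ n → 𝒮 (n + k) = 𝒮 k * 𝒮 n) ∧
      (∀ d : ℕ, n₀ ≤ d → ∀ m : ℕ, 0 < m → 𝒮 (m * d) = 𝒮 d ^ m) := by
  classical
  let φ : A →ₗ[R] S := (IsScalarTower.toAlgHom R A S).toLinearMap
  let A' : ℕ → Submodule R S := fun i => (𝒜 i).map φ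
  have hA' : ∀ i, A' i ≤ 𝒮 i := fun i => Submodule.map_le_iff_le_comap.2 fun a ha => hAS i a ha
  have hmul : ∀ i j, 𝒮 i * 𝒮 j ≤ 𝒮 (i + j) := fun i j =>
    Submodule.mul_le.2 fun x hx y hy => SetLike.GradedMul.mul_mem hx hy
  have hAle : ∀ k m, 𝒜 (k + m) ≤ 𝒜 k * 𝒜 m := by
    intro k
    induction k with
    | zero =>
      intro m a ha
      rw [zero_add] at ha
      rw [← one_mul a]
      exact Submodule.mul_mem_mul SetLike.GradedOne.one_mem ha
    | succ k ih =>
      intro m
      rw [show k + 1 + m = k + m + 1 by omega, hA (k + m), hA k, mul_assoc]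
      exact mul_le_mul' le_rfl (ih m)
  let T : ℕ → Submodule R S := fun n => ⨆ d : {d : ℕ // d ≤ n ∧ d ≤ n₀}, A' (n - d) * 𝒮 d
  have hT : ∀ n, T n ≤ 𝒮 n := fun n => iSup_le fun d =>
    (mul_le_mul' (hA' _) le_rfl).trans ((hmul _ _).trans (by rw [Nat.sub_add_cancel d.2.1]))
  have htop : ∀ x : S, x ∈ ⨆ n, T n := by
    intro x
    suffices ∀ a : A, a • x ∈ ⨆ n, T n by simpa using this 1
    have hx : x ∈ Submodule.span A s := hspan ▸ Submodule.mem_top
    induction hx using Submodule.span_induction with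
    | mem y hy =>
      intro a
      obtain ⟨d, hd, hyd⟩ := hs y hy
      rw [← DirectSum.sum_support_decompose 𝒜 a, Finset.sum_smul]
      refine sum_mem fun i _ => ?_
      refine Submodule.mem_iSup_of_mem (i + d) (Submodule.mem_iSup_of_mem ⟨d, by omega, hd⟩ ?_)
      rw [Algebra.smul_def]
      refine Submodule.mul_mem_mul ?_ hyd
      simp only [Nat.add_sub_cancel]
      exact ⟨_, SetLike.coe_mem _, rfl⟩
    | zero => simp
    | add x y _ _ hx hy => intro a; rw [smul_add]; exact add_mem (hx a) (hy a)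
    | smul c x _ hx => intro a; rw [smul_smul]; exact hx _
  have hST : ∀ n, 𝒮 n ≤ T n := by
    intro n x hx
    have h : ((DirectSum.decompose 𝒮 x n : 𝒮 n) : S) ∈ T n := by
      refine Submodule.iSup_induction (motive := fun y => ((DirectSum.decompose 𝒮 y n : 𝒮 n) : S) ∈ T n) T
        (htop x) (fun m y hy => ?_) (by simp) (fun y z hy hz => ?_)
      · by_cases h : m = n
        · subst h; rwa [DirectSum.decompose_of_mem_same 𝒮 (hT m hy)]
        · rw [DirectSum.decompose_of_mem_ne 𝒮 (hT m hy) h]; exact zero_mem _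
      · rw [DirectSum.decompose_add, DirectSum.add_apply, Submodule.coe_add]
        exact add_mem hy hz
    rwa [DirectSum.decompose_of_mem_same 𝒮 hx] at h
  have h1 : ∀ n k : ℕ, n₀ ≤ n → 𝒮 (n + k) = 𝒮 k * 𝒮 n := by
    intro n k hn
    refine le_antisymm ((hST _).trans (iSup_le fun d => ?_)) ((hmul k n).trans (by rw [add_comm]))
    have hd := d.2.2
    have e : A' (n + k - d) ≤ A' k * A' (n - d) := by
      rw [show n + k - (d : ℕ) = k + (n - d) by omega]
      refine (Submodule.map_mono (hAle _ _)).trans ?_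
      exact (Submodule.map_mul _ _ (IsScalarTower.toAlgHom R A S)).le
    refine (mul_le_mul' e le_rfl).trans ?_
    rw [mul_assoc]
    refine mul_le_mul' (hA' k) ((mul_le_mul' (hA' _) le_rfl).trans ((hmul _ _).trans ?_))
    rw [Nat.sub_add_cancel (by omega)]
  refine ⟨h1, fun d hd m hm => ?_⟩
  induction m with
  | zero => omega
  | succ m ih =>
    rcases Nat.eq_zero_or_pos m with rfl | hm'
    · simp
    · rw [show (m + 1) * d = d + m * d by ring, h1 d (m * d) hd, ih hm', pow_succ]

end Groth.Agent.S14052
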