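import Groth.Statements.S14053
import Mathlib

set_option autoImplicit false
universe u
open CAlg

namespace Groth.Agent.S14053
open DirectSum

/-- Let k be a field and R a commutative ℕ-graded k-algebra with R_0 = k · 1 which is generated as a
k-algebra by R_1, R_2 and R_3, each a finite-dimensional k-vector space, of dimensions d_1, d_2,
d_3. Then for every natural number e ≥ 5 d_1 + 4 d_2 + 3 d_3 the (6e)-th Veronese subring of R is
generated in degree one over k: R_{6em} = (R_{6e})^m for every m > 0. -/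
theorem result
    (k : Type u) [Field k] (R : Type u) [CommRing R] [Algebra k R]
    (ℛ : ℕ → Submodule k R) [GradedAlgebra ℛ]
    (h0 : ℛ 0 = 1)
    (hgen : Algebra.adjoin k ((ℛ 1 : Set R) ∪ (ℛ 2 : Set R) ∪ (ℛ 3 : Set R)) = ⊤)
    [Module.Finite k (ℛ 1)] [Module.Finite k (ℛ 2)] [Module.Finite k (ℛ 3)]
    (e : ℕ) (he : 5 * Module.finrank k (ℛ 1) + 4 * Module.finrank k (ℛ 2) + 3 * Module.finrank k (ℛ 3) ≤ e)
    (m : ℕ) (hm : 0 < m) :
    ℛ (m * (6 * e)) = ℛ (6 * e) ^ m := by
  classical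
  have hmul : ∀ a b, ℛ a * ℛ b ≤ ℛ (a + b) := fun a b =>
    Submodule.mul_le.2 fun x hx y hy => SetLike.mul_mem_graded hx hy
  have hpow : ∀ a n, ℛ a ^ n ≤ ℛ (n * a) := by
    intro a n
    induction n with
    | zero => rw [pow_zero, zero_mul, h0]
    | succ n ih => rw [pow_succ, Nat.succ_mul]; exact (mul_le_mul' ih le_rfl).trans (hmul _ _)
  let M : ℕ → ℕ → ℕ → Submodule k R := fun a b c => ℛ 1 ^ a * ℛ 2 ^ b * ℛ 3 ^ c
  have hMle : ∀ a b c, M a b c ≤ ℛ (a + 2 * b + 3 * c) := fun a b c => by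
    have h := mul_le_mul' (mul_le_mul' (hpow 1 a) (hpow 2 b)) (hpow 3 c)
    refine h.trans (((mul_le_mul' (hmul _ _) le_rfl).trans (hmul _ _)).trans (le_of_eq ?_))
    congr 1; ring
  have hMmul : ∀ a b c a' b' c', M (a + a') (b + b') (c + c') = M a b c * M a' b' c' := fun a b c a' b' c' => by
    simp only [M, pow_add]; ac_rfl
  let T : ℕ → Submodule k R := fun n => ⨆ (a : ℕ) (b : ℕ) (c : ℕ) (_ : a + 2 * b + 3 * c = n), M a b c
  have hTle : ∀ n, T n ≤ ℛ n := fun n =>
    iSup_le fun a => iSup_le fun b => iSup_le fun c => iSup_le fun h => (hMle a b c).trans_eq (by rw [h])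
  have hMT : ∀ a b c, M a b c ≤ T (a + 2 * b + 3 * c) := fun a b c =>
    le_iSup_of_le a (le_iSup_of_le b (le_iSup_of_le c (le_iSup_of_le rfl le_rfl)))
  have hTmul : ∀ n n', T n * T n' ≤ T (n + n') := fun n n' => by
    simp only [T, Submodule.iSup_mul, Submodule.mul_iSup]
    refine iSup_le fun a => iSup_le fun b => iSup_le fun c => iSup_le fun h =>
      iSup_le fun a' => iSup_le fun b' => iSup_le fun c' => iSup_le fun h' => ?_
    rw [← hMmul]
    exact le_iSup_of_le _ (le_iSup_of_le _ (le_iSup_of_le _ (le_iSup_of_le (by omega) le_rfl)))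
  have hT : ∀ n, ℛ n = T n := by
    intro n
    refine le_antisymm (fun x hx => ?_) (hTle n)
    have hxs : x ∈ Submodule.span k ((Submonoid.closure ((ℛ 1 : Set R) ∪ (ℛ 2 : Set R) ∪ (ℛ 3 : Set R)) : Submonoid R) : Set R) := by
      rw [← Algebra.adjoin_eq_span, hgen]
      trivial
    have key : GradedAlgebra.proj ℛ n x ∈ T n := by
      have hle : Submodule.span k ((Submonoid.closure ((ℛ 1 : Set R) ∪ (ℛ 2 : Set R) ∪ (ℛ 3 : Set R)) : Submonoid R) : Set R) ≤
          (T n).comap (GradedAlgebra.proj ℛ n) := by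
        rw [Submodule.span_le]
        intro y hy
        have hy' : ∃ d, y ∈ T d := by
          induction hy using Submonoid.closure_induction with
          | mem y hy =>
            rcases hy with (hy | hy) | hy
            · exact ⟨1, hMT 1 0 0 (by simpa [M] using hy)⟩
            · exact ⟨2, hMT 0 1 0 (by simpa [M] using hy)⟩
            · exact ⟨3, hMT 0 0 1 (by simpa [M] using hy)⟩
          | one => exact ⟨0, hMT 0 0 0 (by simp only [M, pow_zero, mul_one]; exact Submodule.mem_one.2 ⟨1, map_one _⟩)⟩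
          | mul y z _ _ hy hz =>
            obtain ⟨d, hd⟩ := hy
            obtain ⟨d', hd'⟩ := hz
            exact ⟨d + d', hTmul d d' (Submodule.mul_mem_mul hd hd')⟩
        obtain ⟨d, hd⟩ := hy'
        show GradedAlgebra.proj ℛ n y ∈ T n
        rw [GradedAlgebra.proj_apply]
        by_cases hdn : d = n
        · subst hdn
          rwa [DirectSum.decompose_of_mem_same ℛ (hTle d hd)]
        · rw [DirectSum.decompose_of_mem_ne ℛ (hTle d hd) hdn]
          exact Submodule.zero_mem _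
      exact hle hxs
    rwa [GradedAlgebra.proj_apply, DirectSum.decompose_of_mem_same ℛ hx] at key
  have hstep : ∀ j, ℛ (6 * j + 12) = ℛ 6 * ℛ (6 * j + 6) := by
    intro j
    refine le_antisymm ?_ ((hmul 6 (6 * j + 6)).trans_eq (by congr 1; omega))
    rw [hT]
    refine iSup_le fun a => iSup_le fun b => iSup_le fun c => iSup_le fun h => ?_
    have key : ∀ a₁ b₁ c₁ : ℕ, a₁ ≤ a → b₁ ≤ b → c₁ ≤ c → a₁ + 2 * b₁ + 3 * c₁ = 6 →
        M a b c ≤ ℛ 6 * ℛ (6 * j + 6) := by
      intro a₁ b₁ c₁ ha hb hc h6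
      obtain ⟨a₂, rfl⟩ := Nat.exists_eq_add_of_le ha
      obtain ⟨b₂, rfl⟩ := Nat.exists_eq_add_of_le hb
      obtain ⟨c₂, rfl⟩ := Nat.exists_eq_add_of_le hc
      rw [hMmul]
      exact mul_le_mul' ((hMle _ _ _).trans_eq (by rw [h6])) ((hMle _ _ _).trans_eq (by congr 1; omega))
    by_cases ha : 6 ≤ a
    · exact key 6 0 0 ha (Nat.zero_le _) (Nat.zero_le _) rfl
    by_cases hb : 3 ≤ b
    · exact key 0 3 0 (Nat.zero_le _) hb (Nat.zero_le _) rfl
    by_cases hc : 2 ≤ c
    · exact key 0 0 2 (Nat.zero_le _) (Nat.zero_le _) hc rfl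
    exact key 1 1 1 (by omega) (by omega) (by omega) rfl
  have hall : ∀ j, ℛ (6 * j) = ℛ 6 ^ j := by
    intro j
    induction j using Nat.strong_induction_on with
    | _ j ih =>
      match j with
      | 0 => rw [mul_zero, pow_zero, h0]
      | 1 => rw [pow_one]
      | j + 2 =>
        rw [show 6 * (j + 2) = 6 * j + 12 by ring, hstep, pow_succ', ← ih (j + 1) (by omega)]
        rw [show 6 * (j + 1) = 6 * j + 6 by ring]
  rw [hall e, ← pow_mul, show m * (6 * e) = 6 * (e * m) by ring, hall]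

end Groth.Agent.S14053
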