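import Groth.Statements.S14054
import Groth.Agent.Lib.CMReg18.OfInv

set_option autoImplicit false
universe u
open CategoryTheory CategoryTheory.Limits AlgebraicGeometry TopologicalSpace
open Variety

open Groth.Agent Groth.Agent.CMReg18
namespace Groth.Agent.S14054

/-- Let X be a proper scheme over a field k, L a globally generated invertible O_X-module with tensor
inverse M, r = dim_k H⁰(X, L), and b ≥ 1 an integer such that H^q(X, L^{⊗(b−q)}) = 0 whenever 1 ≤ q
≤ r − 1, where for q > b the module L^{⊗(b−q)} is the tensor power M^{⊗(q−b)}. Then the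
multiplication map H⁰(X, L^{⊗b}) ⊗ H⁰(X, L) → H⁰(X, L^{⊗(b+1)}) is surjective. The map is written as
the canonical map from the global sections of the sectionwise tensor product presheaf of L^{⊗b} and
L (these are H⁰(L^{⊗b}) ⊗ H⁰(L), tensor over the global functions) to the global sections of its
sheafification L^{⊗b} ⊗ L = L^{⊗(b+1)}. The base field is arbitrary. -/
theorem result (k : Type u) [Field k]
    (X : Scheme.{u}) [X.Over (Spec (CommRingCat.of k))] [IsProper (X ↘ (Spec (CommRingCat.of k)))]
    (L : X.Modules) (hL : PicF.IsInvertible L) (hgg : Curv2.IsGloballyGenerated L)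
    (M : X.Modules) (hM : ClSub.IsInverseOf M L)
    (b : ℕ) (hb : 1 ≤ b)
    (hvan₁ : ∀ q : ℕ, 1 ≤ q → q ≤ b → q < Module.finrank k (Coh.HH X L 0) →
      Subsingleton (Coh.HH X (CohB1.tensorPow L (b - q)) q))
    (hvan₂ : ∀ q : ℕ, b < q → q < Module.finrank k (Coh.HH X L 0) →
      Subsingleton (Coh.HH X (CohB1.tensorPow M (q - b)) q)) :
    Function.Surjective
      ((toSheafify (Opens.grothendieckTopology X) (CohB1.tensorPre (CohB1.tensorPow L b) L).presheaf).app
        (Opposite.op ⊤)) := by
  obtain ⟨e⟩ := hM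
  let e' : CohB1.tensorMod L M ≅ Coh.structureModule X := M2.tensorComm L M ≪≫ e
  have hMi : PicF.IsInvertible M := M2.isInvertible_of_tensor_iso hL e
  obtain ⟨s, hs⟩ := exists_basis_gen k hL hgg
  let D := ofInv e' hL hMi s hs
  let A := CohB1.tensorPow L b
  let i1 : D.O 1 ≅ L := intPowNat 1 ≪≫ M2.tensorPowOne L
  let ψ : CohB1.tensorMod A (D.O 1) ≅ CohB1.tensorMod A L := M2.tensorIso (Iso.refl A) i1
  refine TwistData.prods_surjective fun y => ?_
  rw [← show ψ.hom.app ⊤ (ψ.inv.app ⊤ y) = y from congrArg (fun f => f.app ⊤ y) ψ.inv_hom_id]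
  have hy := D.mem_prods_one k A (fun l hl => ?_) (ψ.inv.app ⊤ y)
  · revert hy
    generalize ψ.inv.app ⊤ y = z
    intro hy
    induction hy using AddSubgroup.closure_induction with
    | mem z hz =>
      obtain ⟨⟨a, t⟩, rfl⟩ := hz
      rw [show ψ = M2.tensorIso (Iso.refl A) i1 from rfl, TwistData.tensorIso_hom_tsec]
      exact TwistData.tsec_mem_prods _ _
    | zero => rw [map_zero]; exact zero_mem _
    | add z w _ _ hz hw => rw [map_add]; exact add_mem hz hw
    | neg z _ hz => rw [map_neg]; exact neg_mem hz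
  · let i : tpow D.down (CohB1.tensorMod A (D.O 1)) (2 + l) ≅
        D.tw (Coh.structureModule X) ((b : ℤ) + 1 - (2 + l : ℕ)) :=
      tpowMap D.down ((M2.tensorR (D.O 1)).mapIso ((intPowNat b).symm ≪≫ (M2.tensorLUnit (D.O (b : ℤ))).symm) ≪≫
        D.twTwist (Coh.structureModule X) (b : ℤ) 1) (2 + l) ≪≫ D.tpowIso _ _ _
    refine van_iso k i.symm (van_iso k (M2.tensorLUnit _).symm ?_)
    have hlr : 1 + l < Module.finrank k (Coh.HH X L 0) := by
      have : 2 + l ≤ Module.finrank k (Coh.HH X L 0) := hl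
      omega
    by_cases hq : 1 + l ≤ b
    · exact van_iso k ((intPowNat (b - (1 + l))).symm ≪≫ eqToIso (congrArg D.O (by omega)))
        (hvan₁ _ (by omega) hq hlr)
    · exact van_iso k ((intPowNeg (1 + l - b)).symm ≪≫ eqToIso (congrArg D.O (by omega)))
        (hvan₂ _ (by omega) hlr)

end Groth.Agent.S14054
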