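import Groth.Statements.S14056
import Groth.Agent.Lib.SurfRR10.Curves

set_option autoImplicit false
set_option linter.style.haveILetI false
set_option maxHeartbeats 2000000
set_option backward.isDefEq.respectTransparency false
set_option backward.isDefEq.respectTransparency.types false
universe u
open CategoryTheory CategoryTheory.Limits AlgebraicGeometry TopologicalSpace
open Surf

namespace Groth.Agent.S14056

noncomputable local instance instLawS14056 (Y : Scheme.{u}) : PicGrp.Law Y := M2.law Y

/-- Let k be an algebraically closed field and X a smooth surface over k: an integral scheme, proper and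
smooth over k, of dimension 2; let W be its canonical module, a second exterior power of Ω_{X/k}.
For an invertible module L and an integral closed one-dimensional subscheme C ⊆ X write (L·C) =
χ(O_C ⊗ L) − χ(O_C). Suppose that X has non-negative Kodaira dimension, that is some tensor power
W^{⊗m} with m > 0 has a nonzero global section, and that X is minimal: it contains no (−1)-curve,
where a (−1)-curve is taken, through its numerical characterization, to be an integral closed
one-dimensional subscheme E with H¹(E, O_E) = 0 and (O_X(E)·E) = −1, O_X(E) being a tensor inverse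
of the ideal sheaf of E. Then W is nef: (W·C) ≥ 0 for every integral closed one-dimensional C ⊆ X.
(Together with the first assertion: under non-negative Kodaira dimension, X is minimal if and only
if W is nef.) -/
theorem result (k : Type u) [Field k] [IsAlgClosed k] (X : Scheme.{u})
    [X.Over (Spec (CommRingCat.of k))] [IsProper (X ↘ (Spec (CommRingCat.of k)))] [Smooth (X ↘ (Spec (CommRingCat.of k)))]
    [IsIntegral X] (hdim : topologicalKrullDim X = 2)
    (W : X.Modules) (hW : ExtPow.IsExtPow 2 (Omega.sheaf (X ↘ (Spec (CommRingCat.of k)))) W)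
    (m : ℕ) (hm : 0 < m) (hsec : Nontrivial (Coh.HH X (CohB1.tensorPow W m) 0))
    (hmin : (∀ (E : X.IdealSheafData) (N : X.Modules), IsIntegral E.subscheme →
      topologicalKrullDim (E.support : Set X) = 1 → ClSub.IsInverseOf N (ClSub.idealMod E) →
      Subsingleton (Coh.HH E.subscheme (Coh.structureModule E.subscheme) 1) →
      Curv2.euler k X (CohB1.tensorMod (ClSub.quotMod E) N) - Curv2.euler k X (ClSub.quotMod E) ≠ -1)) :
    (∀ C : X.IdealSheafData, IsIntegral C.subscheme → topologicalKrullDim (C.support : Set X) = 1 →
      0 ≤ Curv2.euler k X (CohB1.tensorMod (ClSub.quotMod C) W) - Curv2.euler k X (ClSub.quotMod C)) := by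
  have hWi : PicF.IsInvertible W := SurfRR10.isInvertible_canonical hdim hW
  have hd := SurfRR10.dim_eq (k := k) hdim
  intro C hC hC1
  obtain ⟨ξ, rfl, hξ⟩ := SurfR.exists_eq_ptIdeal C hC hC1
  rw [SurfRR10.cdeg_quot (k := k) hdim hξ hWi]
  by_contra hneg
  push Not at hneg
  have hP := M2.isInvertible_tensorPow hWi m
  obtain ⟨φ, hφ⟩ := SurfRR10.exists_sec_of_nontrivial (k := k) hdim hP hsec
  have hpow : PicGrp.cls _ hP = PicGrp.cls W hWi ^ m := Subtype.ext (by rw [PicGrp.cls_pow_val, PicGrp.cls_val])
  have hself := SurfRR10.self_neg_of_section (k := k) hdim hξ hP φ hφ (by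
    rw [hpow, SymSq10.sdot_comm, SurfRR10.sdot_pow_left (k := k) hdim, SymSq10.sdot_comm]
    exact mul_neg_of_pos_of_neg (by exact_mod_cast hm) hneg)
  obtain ⟨g, hadj, -, hg0⟩ := SurfRR10.exists_genus hdim hW hWi hξ
  have hI := M2.isInvertible_idealMod _ (Goodman10.isEffCartier_pt (k := k) (SurfRR10.regular (k := k)) hd hξ)
  obtain ⟨N, hNi, ⟨e⟩⟩ := M2.exists_inverse hI
  have hN : ClSub.IsInverseOf N (ClSub.idealMod (NumPoly18.ptIdeal ξ)) := ⟨M2.tensorComm _ _ ≪≫ e⟩
  obtain ⟨hN', hc⟩ := SurfRR10.cls_of_isInverse (k := k) hdim hξ hN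
  refine hmin (NumPoly18.ptIdeal ξ) N hC hC1 hN (hg0.1 (by omega)) ?_
  rw [SurfRR10.cdeg_quot (k := k) hdim hξ hN', hc]
  omega

end Groth.Agent.S14056
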