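import Groth.Statements.S14057
import Groth.Agent.Lib.SurfRR10.Curves
import Groth.Agent.S11344

set_option autoImplicit false
set_option linter.style.haveILetI false
set_option maxHeartbeats 2000000
set_option backward.isDefEq.respectTransparency false
set_option backward.isDefEq.respectTransparency.types false
universe u
open CategoryTheory CategoryTheory.Limits AlgebraicGeometry TopologicalSpace
open Surf

namespace Groth.Agent.S14057

noncomputable local instance instLawS14057 (Y : Scheme.{u}) : PicGrp.Law Y := M2.law Y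

/-- Let k be an algebraically closed field and X a smooth surface over k: an integral scheme, proper and
smooth over k, of dimension 2; let W be its canonical module, a second exterior power of Ω_{X/k}.
For an invertible module L and an integral closed one-dimensional subscheme C ⊆ X write (L·C) =
χ(O_C ⊗ L) − χ(O_C), and (W·W) for the self-intersection number of W (the alternating sum χ(O_X) −
2χ(W) + χ(W ⊗ W)). Suppose W is nef and (W·W) > 0. Then W is ample if and only if X contains no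
(−2)-curve, where a (−2)-curve is taken, through its numerical characterization, to be an integral
closed one-dimensional subscheme E with H¹(E, O_E) = 0 and (O_X(E)·E) = −2, O_X(E) being a tensor
inverse of the ideal sheaf of E. (The published statement is for a minimal surface of general type;
its proof uses exactly that the canonical module is nef with positive self-intersection, which is
how the hypothesis is written here.) -/
theorem result (k : Type u) [Field k] [IsAlgClosed k] (X : Scheme.{u})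
    [X.Over (Spec (CommRingCat.of k))] [IsProper (X ↘ (Spec (CommRingCat.of k)))] [Smooth (X ↘ (Spec (CommRingCat.of k)))]
    [IsIntegral X] (hdim : topologicalKrullDim X = 2)
    (W : X.Modules) (hW : ExtPow.IsExtPow 2 (Omega.sheaf (X ↘ (Spec (CommRingCat.of k)))) W)
    (hnef : (∀ C : X.IdealSheafData, IsIntegral C.subscheme → topologicalKrullDim (C.support : Set X) = 1 →
      0 ≤ Curv2.euler k X (CohB1.tensorMod (ClSub.quotMod C) W) - Curv2.euler k X (ClSub.quotMod C)))
    (hpos : 0 < FGA.intNum k X 2 ![W, W] (Coh.structureModule X)) :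
    CohB1.IsAmple W ↔
    (∀ (E : X.IdealSheafData) (N : X.Modules), IsIntegral E.subscheme →
      topologicalKrullDim (E.support : Set X) = 1 → ClSub.IsInverseOf N (ClSub.idealMod E) →
      Subsingleton (Coh.HH E.subscheme (Coh.structureModule E.subscheme) 1) →
      Curv2.euler k X (CohB1.tensorMod (ClSub.quotMod E) N) - Curv2.euler k X (ClSub.quotMod E) ≠ -2) := by
  have hWi : PicF.IsInvertible W := SurfRR10.isInvertible_canonical hdim hW
  have hd := SurfRR10.dim_eq (k := k) hdim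
  have hw : ∀ (ξ : X) (hξ : topologicalKrullDim (closure ({ξ} : Set X)) = 1),
      0 ≤ SymSq10.sdot k (SurfRR10.ncl (k := k) hdim hξ) (PicGrp.cls W hWi) := fun ξ hξ => by
    have := hnef (NumPoly18.ptIdeal ξ) (NumPoly18.isIntegral_pt ξ).1
      (by rw [Scheme.IdealSheafData.coe_support_vanishingIdeal]; exact hξ)
    rwa [SurfRR10.cdeg_quot (k := k) hdim hξ hWi] at this
  constructor
  · intro hA E N hE hE1 hN hH1 heq
    obtain ⟨ξ, rfl, hξ⟩ := SurfR.exists_eq_ptIdeal E hE hE1
    obtain ⟨g, hadj, -, hg0⟩ := SurfRR10.exists_genus hdim hW hWi hξ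
    obtain rfl : g = 0 := hg0.2 hH1
    obtain ⟨hNi, hc⟩ := SurfRR10.cls_of_isInverse (k := k) hdim hξ hN
    rw [SurfRR10.cdeg_quot (k := k) hdim hξ hNi, hc] at heq
    have := SurfRR10.pos_of_isAmple (k := k) hdim hξ hA
    omega
  intro hno
  obtain ⟨H, hH⟩ := SurfRR10.exists_ample (k := k) hdim
  haveI : IsNoetherian X := CohFound.isNoetherian_of_isProper (X ↘ Spec (CommRingCat.of k))
  rw [SymSq10.intNum_eq' hd.le hWi hWi] at hpos
  have hwh : 0 ≤ SymSq10.sdot k (PicGrp.cls W hWi) (PicGrp.cls H hH.1) := by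
    obtain ⟨n₀, hn₀⟩ := NumPoly18.eventually_hasMonoSec k hH (PicLoc.isInvertible_structureModule X)
    have hT := M2.isInvertible_tensorPow hH.1 (n₀ + 1)
    have h := NumPoly18.dot_nonneg_of_hasMonoSec (k := k) hd.le hH hT
      ((hn₀ (n₀ + 1) (Nat.le_succ _)).of_iso (M2.tensorLUnit _)) hWi
      (fun ξ hξ => by
        have h := Goodman10.cdeg_eq_sdot (k := k) (SurfRR10.regular (k := k)) hd hξ hWi
        exact (Int.cast_nonneg (R := ℚ) (hw ξ hξ)).trans_eq h.symm)
    rw [SurfRR10.dot_eq_sdot (k := k) hdim hT hWi, show PicGrp.cls _ hT = PicGrp.cls H hH.1 ^ (n₀ + 1) from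
      Subtype.ext (by rw [PicGrp.cls_pow_val, PicGrp.cls_val]), SurfRR10.sdot_pow_left (k := k) hdim, SymSq10.sdot_comm] at h
    exact le_of_mul_le_mul_left (by rw [mul_zero]; exact_mod_cast h) (by positivity : (0 : ℤ) < (n₀ + 1 : ℕ))
  obtain ⟨m, ψ, hm, hψ⟩ := NumPoly18.big_of_dot_pos (k := k) hd hH hWi
    (by rw [SurfRR10.dot_eq_sdot (k := k) hdim hWi hWi]; exact_mod_cast hpos)
    (by rw [SurfRR10.dot_eq_sdot (k := k) hdim hWi hH.1]; exact_mod_cast hwh)
  haveI := hψ
  have hwh' : 0 < SymSq10.sdot k (PicGrp.cls W hWi) (PicGrp.cls H hH.1) := by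
    have h := NumPoly18.dot_pos_of_mono (k := k) hd hH hWi ψ
    rw [SurfRR10.dot_eq_sdot (k := k) hdim hWi hH.1] at h
    exact_mod_cast h
  have hnef' : ∀ (ξ : X) (hξ : topologicalKrullDim (closure ({ξ} : Set X)) = 1),
      0 < SymSq10.sdot k (SurfRR10.ncl (k := k) hdim hξ) (PicGrp.cls W hWi) := by
    intro ξ hξ
    refine (hw ξ hξ).lt_of_ne fun h0 => ?_
    obtain ⟨g, hadj, -, hg0⟩ := SurfRR10.exists_genus hdim hW hWi hξ
    have hnh := SurfRR10.pos_of_isAmple (k := k) hdim hξ hH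
    obtain ⟨a, ha⟩ : ∃ a : ℕ, (a : ℤ) = SymSq10.sdot k (SurfRR10.ncl (k := k) hdim hξ) (PicGrp.cls H hH.1) :=
      ⟨_, Int.toNat_of_nonneg hnh.le⟩
    obtain ⟨b, hb⟩ : ∃ b : ℕ, (b : ℤ) = SymSq10.sdot k (PicGrp.cls W hWi) (PicGrp.cls H hH.1) :=
      ⟨_, Int.toNat_of_nonneg hwh⟩
    let T := HypSq10.rep (PicGrp.cls W hWi ^ a * (SurfRR10.ncl (k := k) hdim hξ ^ b)⁻¹)
    have hT : PicF.IsInvertible T := HypSq10.rep_inv _
    have h2 := NumPoly18.hodge_index (k := k) hd hH hT (by
      rw [SurfRR10.dot_eq_sdot (k := k) hdim hT hH.1, HypSq10.cls_rep, SymSq10.sdot_mul hd.le, SurfRR10.sdot_inv_left (k := k) hdim,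
        SurfRR10.sdot_pow_left (k := k) hdim, SurfRR10.sdot_pow_left (k := k) hdim, ← ha, ← hb]
      push_cast; ring)
    rw [SurfRR10.dot_eq_sdot (k := k) hdim hT hT, HypSq10.cls_rep] at h2
    have h3 : SymSq10.sdot k (PicGrp.cls W hWi ^ a * (SurfRR10.ncl (k := k) hdim hξ ^ b)⁻¹)
        (PicGrp.cls W hWi ^ a * (SurfRR10.ncl (k := k) hdim hξ ^ b)⁻¹) =
        (a : ℤ) ^ 2 * SymSq10.sdot k (PicGrp.cls W hWi) (PicGrp.cls W hWi) +
          (b : ℤ) ^ 2 * SymSq10.sdot k (SurfRR10.ncl (k := k) hdim hξ) (SurfRR10.ncl (k := k) hdim hξ) := by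
      have e : ∀ c, SymSq10.sdot k (PicGrp.cls W hWi ^ a * (SurfRR10.ncl (k := k) hdim hξ ^ b)⁻¹) c =
          (a : ℤ) * SymSq10.sdot k (PicGrp.cls W hWi) c - (b : ℤ) * SymSq10.sdot k (SurfRR10.ncl (k := k) hdim hξ) c := fun c => by
        rw [SymSq10.sdot_mul hd.le, SurfRR10.sdot_inv_left (k := k) hdim, SurfRR10.sdot_pow_left (k := k) hdim,
          SurfRR10.sdot_pow_left (k := k) hdim]; ring
      rw [e, SymSq10.sdot_comm (PicGrp.cls W hWi), SymSq10.sdot_comm (SurfRR10.ncl (k := k) hdim hξ), e, e,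
        SymSq10.sdot_comm (PicGrp.cls W hWi) (SurfRR10.ncl (k := k) hdim hξ), ← h0]
      ring
    have h4 : (a : ℤ) ^ 2 * SymSq10.sdot k (PicGrp.cls W hWi) (PicGrp.cls W hWi) +
          (b : ℤ) ^ 2 * SymSq10.sdot k (SurfRR10.ncl (k := k) hdim hξ) (SurfRR10.ncl (k := k) hdim hξ) ≤ 0 := by
      rw [← h3]; exact_mod_cast h2
    have hnn : SymSq10.sdot k (SurfRR10.ncl (k := k) hdim hξ) (SurfRR10.ncl (k := k) hdim hξ) < 0 := by
      by_contra hnn
      push Not at hnn
      have : (0 : ℤ) < (a : ℤ) ^ 2 * SymSq10.sdot k (PicGrp.cls W hWi) (PicGrp.cls W hWi) :=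
        mul_pos (pow_pos (ha ▸ hnh) 2) hpos
      have := mul_nonneg (sq_nonneg (b : ℤ)) hnn
      linarith
    have hI := M2.isInvertible_idealMod _ (Goodman10.isEffCartier_pt (k := k) (SurfRR10.regular (k := k)) hd hξ)
    obtain ⟨N, hNi, ⟨e⟩⟩ := M2.exists_inverse hI
    have hN : ClSub.IsInverseOf N (ClSub.idealMod (NumPoly18.ptIdeal ξ)) := ⟨M2.tensorComm _ _ ≪≫ e⟩
    obtain ⟨hN', hc⟩ := SurfRR10.cls_of_isInverse (k := k) hdim hξ hN
    refine hno (NumPoly18.ptIdeal ξ) N (NumPoly18.isIntegral_pt ξ).1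
      (by rw [Scheme.IdealSheafData.coe_support_vanishingIdeal]; exact hξ) hN (hg0.1 (by omega)) ?_
    rw [SurfRR10.cdeg_quot (k := k) hdim hξ hN', hc]
    omega
  obtain ⟨N, hN⟩ := Groth.Agent.S11344.result k X hdim (SurfRR10.regular (k := k)) (SurfRR10.exists_proj (k := k) hdim) H hH W hWi
    (by rw [SymSq10.intNum_eq' hd.le hWi hH.1]; exact hwh')
    (by rw [SymSq10.intNum_eq' hd.le hWi hWi]; exact hpos)
  obtain ⟨φ, hφ⟩ := SurfRR10.exists_sec_of_nontrivial (k := k) hdim (M2.isInvertible_tensorPow hWi (N + 1))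
    (hN (N + 1) (Nat.le_succ N))
  exact SurfRR10.isAmple_of_strictlyNef_section (k := k) hdim hWi hnef' φ hφ

end Groth.Agent.S14057
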