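import Groth.Statements.S14058
import Groth.Agent.Lib.RatSingEuler13.Basic
import Groth.Agent.Lib.RefHull26.Closed
import Groth.Agent.Lib.FibDim14.Res
import Groth.Agent.Lib.RelMin32.Basic
import Groth.Agent.Lib.RelMin32.Factor
import Groth.Agent.Lib.ArithLW25.SchemeZ

set_option autoImplicit false
set_option linter.style.haveILetI false
set_option backward.isDefEq.respectTransparency false
set_option backward.isDefEq.respectTransparency.types false
set_option maxHeartbeats 800000
universe u
open CategoryTheory CategoryTheory.Limits AlgebraicGeometry TopologicalSpace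
open Surf

namespace Groth.Agent.S14058

/-- Let k be an algebraically closed field and X a normal surface over k: an integral normal scheme,
proper over k, of dimension 2. Let π : S → X be a resolution of X: S is an integral scheme of
dimension 2 smooth over k, π is proper, the map O_X → π_*O_S is an isomorphism, and π restricts to
an isomorphism over the open subset of regular points of X. Then R¹π_*O_S = 0 if and only if χ(S,
O_S) = χ(X, O_X). Here R¹π_* is the first right derived functor of the direct image on abelian
sheaves, applied to the abelian sheaf underlying O_S. -/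
theorem result (k : Type u) [Field k] [IsAlgClosed k]
    (X : Scheme.{u}) [X.Over (Spec (CommRingCat.of k))] [IsProper (X ↘ (Spec (CommRingCat.of k)))] [IsIntegral X]
    (hdimX : topologicalKrullDim X = 2) (hnorm : Pi1.IsNormalScheme X)
    (S : Scheme.{u}) (π : S ⟶ X) [IsProper π] [IsIntegral S] (hdimS : topologicalKrullDim S = 2)
    [Smooth (π ≫ (X ↘ (Spec (CommRingCat.of k))))]
    (hO : IsIso (ClSub.unitToPush π))
    (U : X.Opens) (hU : ∀ x : X, x ∈ U ↔ IsRegularLocalRing (X.presheaf.stalk x)) (hiso : IsIso (π ∣_ U)) :
    letI : S.Over (Spec (CommRingCat.of k)) := ⟨π ≫ (X ↘ (Spec (CommRingCat.of k)))⟩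
    IsZero ((Coh.RpushAb π 1).obj (Coh.toAb (Coh.structureModule S))) ↔
      Curv2.euler k S (Coh.structureModule S) = Curv2.euler k X (Coh.structureModule X) := by
  letI : S.Over (Spec (CommRingCat.of k)) := ⟨π ≫ (X ↘ (Spec (CommRingCat.of k)))⟩
  haveI : IsProper (S ↘ Spec (CommRingCat.of k)) :=
    inferInstanceAs (IsProper (π ≫ (X ↘ (Spec (CommRingCat.of k)))))
  haveI : IsLocallyNoetherian X := LocallyOfFiniteType.isLocallyNoetherian (X ↘ Spec (CommRingCat.of k))
  have hcl : ∀ x ∈ (U : Set X)ᶜ, IsClosed ({x} : Set X) := fun x hx => by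
    refine closure_subset_iff_isClosed.1 fun z hz => ?_
    by_contra hne
    have hs : x ⤳ z := specializes_iff_mem_closure.2 hz
    have hlt := FibDim14.stalk_dim_lt (X ↘ Spec (CommRingCat.of k)) hs (fun e => hne (e ▸ rfl))
    have h2 := RelMin.ringKrullDim_stalk_le (RelMin.noChain_of_dim hdimX.le) z
    have h1 : ringKrullDim (X.presheaf.stalk x) ≤ 1 :=
      ENat.WithBot.lt_add_one_iff.1 (show _ < ((1 : ℕ) + 1 : WithBot ℕ∞) from by
        norm_num; exact hlt.trans_le h2)
    haveI := RH26.isPrincipalIdealRing_stalk hnorm h1
    haveI := (hnorm x).1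
    exact hx ((hU x).2 inferInstance)
  have hne : (U : Set X).Nonempty :=
    ⟨genericPoint X, (hU _).2 (show IsRegularLocalRing X.functionField from inferInstance)⟩
  refine RatSingEuler13.main k π rfl hO (U : Set X)ᶜ U.2.isClosed_compl hcl (fun x => ?_) (fun x hx => ?_)
  · by_cases hx : x ∈ U
    · exact (RatSingEuler13.dim_le_zero hiso hx).trans zero_le_one
    · refine (ArithLW25.dim_closed_lt ((hcl x hx).preimage π.continuous) (fun h => ?_) (s := 1) ?_).trans (by simp)
      · obtain ⟨u, hu⟩ := hne
        haveI := hiso
        obtain ⟨s, hs⟩ := (π ∣_ U).homeomorph.surjective ⟨u, hu⟩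
        have hsu : π s.1 = u := (morphismRestrict_base_coe π U s).symm.trans (congrArg Subtype.val hs)
        have : π s.1 = x := Set.eq_univ_iff_forall.1 h s.1
        exact hx (this.symm.trans hsu ▸ hu)
      · rw [hdimS]; norm_num
  · exact RatSingEuler13.dim_le_zero hiso (not_not.1 hx)

end Groth.Agent.S14058
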