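import Groth.Statements.S14059
import Groth.Agent.Lib.GrpField.Etale0

set_option autoImplicit false
universe u
open CategoryTheory MonoidalCategory CartesianMonoidalCategory MonObj GrpObj AlgebraicGeometry
open GrpSch

namespace Groth.Agent.S14059

/-- Let k be an algebraically closed field and G a group scheme of finite type over k, with unit point e
(the image of the unit section). Then the tangent space of G at e is zero, that is the cotangent
space m_e/m_e² of the local ring O_{G,e} vanishes, if and only if G is isomorphic over k to a finite
disjoint union of copies of Spec k, stated as: the underlying space of G is finite and discrete and
the structure map k → O_{G,g} is bijective for every point g. (The published statement is over an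
arbitrary field; the group scheme of cube roots of unity over the rationals has zero tangent space
at the unit but a point with residue field larger than the base field, and the printed argument
translates by rational points, so the base field is taken algebraically closed here.) -/
theorem result (k : Type u) [Field k] [IsAlgClosed k]
    (G : Over (Spec (CommRingCat.of k))) [GrpObj G] [LocallyOfFiniteType G.hom] [QuasiCompact G.hom]
    (e : G.left) (he : e ∈ Set.range (η[G]).left.base) :
    letI : G.left.Over (Spec (CommRingCat.of k)) := ⟨G.hom⟩
    Subsingleton (IsLocalRing.CotangentSpace (G.left.presheaf.stalk e)) ↔
      (Finite G.left ∧ DiscreteTopology G.left ∧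
        ∀ g : G.left, Function.Bijective (Curv2.stalkMap k G.left g)) := by
  have he' : e = GrpField.unitPoint G := by
    obtain ⟨p, rfl⟩ := he
    exact congrArg _ (Subsingleton.elim (α := Spec (CommRingCat.of k)) _ _)
  subst he'
  refine ⟨fun h => GrpField.finite_discrete_of_cotangent G h, fun h => GrpField.cotangent_of_bijective G h.2.2⟩

end Groth.Agent.S14059
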