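import Groth.Statements.S1406
import Groth.Agent.Lib.AlgSpDescent.RedNoeth

set_option autoImplicit false
universe u
open FlatMor

namespace Groth.Agent.S1406

open AlgebraicGeometry CategoryTheory Limits

open AlgebraicGeometry CategoryTheory Limits in
/-- Let a : X' → X be flat, locally of finite presentation and surjective. Then all fibres of f : X → Y
are locally Noetherian if and only if all fibres of a ≫ f are. -/
theorem result {X X' Y : Scheme.{u}} (f : X ⟶ Y) (a : X' ⟶ X) [Flat a] [LocallyOfFinitePresentation a] [Surjective a] :
    (∀ y : Y, IsLocallyNoetherian (f.fiber y)) ↔ ∀ y : Y, IsLocallyNoetherian ((a ≫ f).fiber y) := by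
  have key : ∀ y : Y, ∃ g : (a ≫ f).fiber y ⟶ f.fiber y,
      Flat g ∧ LocallyOfFinitePresentation g ∧ Surjective g := fun y => by
    let e := pullbackRightPullbackFstIso f (Y.fromSpecResidueField y) a
    refine ⟨e.inv ≫ pullback.snd a (pullback.fst f (Y.fromSpecResidueField y)),
      MorphismProperty.comp_mem @Flat _ _ inferInstance (MorphismProperty.pullback_snd _ _ inferInstance),
      MorphismProperty.comp_mem @LocallyOfFinitePresentation _ _ inferInstance
        (MorphismProperty.pullback_snd _ _ inferInstance),
      MorphismProperty.comp_mem @Surjective _ _ inferInstance (MorphismProperty.pullback_snd _ _ inferInstance)⟩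
  constructor
  · intro h y
    obtain ⟨g, -, hg, -⟩ := key y
    haveI := h y
    exact LocallyOfFiniteType.isLocallyNoetherian g
  · intro h y
    obtain ⟨g, _, _, _⟩ := key y
    haveI := h y
    exact AlgSpDescent.isLocallyNoetherian_of_fppf g

end Groth.Agent.S1406
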