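import Groth.Statements.S14060
import Groth.Agent.Lib.CohFound.Bridge

set_option autoImplicit false
universe u
open CategoryTheory CategoryTheory.Limits TopologicalSpace
open CohTop

namespace Groth.Agent.S14060
set_option linter.style.haveILetI false
set_option backward.isDefEq.respectTransparency false
set_option backward.isDefEq.respectTransparency.types false
open CategoryTheory CategoryTheory.Limits TopologicalSpace Groth.Agent.CohFound in


/-- Let X be a topological space, r ≥ 1 an integer and 0 → F_r → ⋯ → F_2 → F_1 → F_0 → 0 an exact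
sequence of sheaves of abelian groups on X, presented as a chain complex F of abelian sheaves
indexed by the natural numbers whose differential F_r → F_{r−1} is a monomorphism, whose
differential F_1 → F_0 is an epimorphism of sheaves, and which is exact at F_j for 1 ≤ j ≤ r − 1
(for r = 1 the single map F_1 → F_0 is mono and epi). Assume the sheaf cohomology groups H^{j−1}(X,
F_j) vanish for 2 ≤ j ≤ r. Then the map on global sections F_1(X) → F_0(X) is surjective. (The
instance hypothesis that the category of abelian sheaves on X has Ext groups in the universe of X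
holds for every X, abelian sheaves on a space forming a Grothendieck abelian category; it is the
setting in which sheaf cohomology is defined.) -/
theorem result (X : TopCat.{u})
    [HasExt.{u} (Sheaf (Opens.grothendieckTopology X) AddCommGrpCat.{u})]
    (r : ℕ) (hr : 1 ≤ r)
    (F : ChainComplex (Sheaf (Opens.grothendieckTopology X) AddCommGrpCat.{u}) ℕ)
    (hmono : Mono (F.d r (r - 1))) (hepi : Epi (F.d 1 0))
    (hex : ∀ j : ℕ, 1 ≤ j → j < r → F.ExactAt j)
    (hvan : ∀ j : ℕ, 2 ≤ j → j ≤ r → Subsingleton (Sheaf.H (F.X j) (j - 1))) :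
    Function.Surjective ((F.d 1 0).hom.app (Opposite.op ⊤)) := by
  let K : ℕ → CohTop.Ab X := fun j => kernel (F.d j (j - 1))
  have hv : ∀ j, 2 ≤ j → j ≤ r → Subsingleton (Hc (F.X j) (j - 1) (⊤ : Opens X)) := fun j h1 h2 =>
    (subsingleton_H_iff (F.X j) (j - 1)).1 (hvan j h1 h2)
  let g : ∀ j, F.X (j + 1) ⟶ K j := fun j => kernel.lift (F.d j (j - 1)) (F.d (j + 1) j) (F.d_comp_d _ _ _)
  let S : ℕ → ShortComplex (CohTop.Ab X) := fun j =>
    ShortComplex.mk (kernel.ι (F.d (j + 1) j) : K (j + 1) ⟶ F.X (j + 1)) (g j) (by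
      rw [← cancel_mono (kernel.ι (F.d j (j - 1))), Category.assoc, zero_comp, kernel.lift_ι, kernel.condition])
  have hS : ∀ j, 1 ≤ j → j < r → (S j).ShortExact := fun j h1 h2 => by
    have hepi : Epi (g j) := by
      have hsc := (HomologicalComplex.exactAt_iff' F (j + 1) j (j - 1) (by simp) (by
        obtain ⟨i, rfl⟩ := Nat.exists_eq_add_of_le h1
        simp [Nat.add_comm 1 i])).1 (hex j h1 h2)
      exact (ShortComplex.exact_iff_epi_kernel_lift _).1 hsc
    refine { exact := ?_, mono_f := inferInstanceAs (Mono (kernel.ι _)), epi_g := hepi }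
    refine ShortComplex.exact_of_f_is_kernel _ (KernelFork.IsLimit.ofι _ _ (fun {W} k hk => kernel.lift _ k (by
      have := congrArg (· ≫ kernel.ι (F.d j (j - 1))) hk
      simpa [S, g] using this)) (fun k hk => kernel.lift_ι _ _ _) (fun k hk m hm => ?_))
    rw [← cancel_mono (kernel.ι (F.d (j + 1) j)), kernel.lift_ι]
    exact hm
  have main : ∀ k j, j + k = r → 1 ≤ j → Subsingleton (Hc (K j) j (⊤ : Opens X)) := by
    intro k
    induction k with
    | zero =>
      intro j hj h1
      have e : j = r := hj
      subst e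
      haveI := hmono
      refine ⟨fun x y => ?_⟩
      have h0 : (𝟙 (K j)) = 0 := (isZero_kernel_of_mono _).eq_of_src _ _
      rw [← mp_id (K j) j ⊤ x, ← mp_id (K j) j ⊤ y, h0, mp_zero, mp_zero]
    | succ k ih =>
      intro j hj h1
      haveI := ih (j + 1) (by omega) (by omega)
      refine subsingleton_of_forall_eq 0 fun x => ?_
      obtain ⟨y, hy⟩ := exact₃ (hS j h1 (by omega)) j ⊤ x (Subsingleton.elim (α := Hc (K (j + 1)) (j + 1) _) _ _)
      haveI : Subsingleton (Hc (S j).X₂ j (⊤ : Opens X)) := hv (j + 1) (by omega) (by omega)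
      rw [← hy, Subsingleton.elim y 0, map_zero]
  let T : ShortComplex (CohTop.Ab X) := ShortComplex.mk (kernel.ι (F.d 1 0)) (F.d 1 0) (kernel.condition _)
  have hT : T.ShortExact :=
    { exact := ShortComplex.exact_of_f_is_kernel _ (kernelIsKernel _), mono_f := inferInstanceAs (Mono (kernel.ι _)),
      epi_g := hepi }
  intro t
  obtain ⟨c, hc⟩ := (hc0 T.X₃ ⊤).surjective t
  haveI : Subsingleton (Hc T.X₁ 1 (⊤ : Opens X)) := main (r - 1) 1 (by omega) le_rfl
  obtain ⟨y, rfl⟩ := exact₃ hT 0 ⊤ c (Subsingleton.elim _ _)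
  refine ⟨hc0 T.X₂ ⊤ y, ?_⟩
  rw [← hc, hc0_mp]

end Groth.Agent.S14060
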