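import Groth.Statements.S14064
import Groth.Agent.Lib.InvTriv15.Basic
import Groth.Agent.Lib.TensorMod.InvCrit
import Groth.Agent.Lib.RankTwo11.Proj
import Groth.Agent.Lib.CMReg18.PullVan
-- import your own Groth.Agent.* helpers here

set_option autoImplicit false
universe u
open CategoryTheory CategoryTheory.Limits AlgebraicGeometry TopologicalSpace
open Surf

namespace Groth.Agent.S14064

set_option backward.isDefEq.respectTransparency false in
set_option backward.isDefEq.respectTransparency.types false in
theorem comp_ne_zero8 {X : Scheme.{u}} [IsIntegral X] [IsLocallyNoetherian X] {A B C : X.Modules}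
    (hA : PicF.IsInvertible A) (hB : PicF.IsInvertible B) (hC : PicF.IsInvertible C)
    {f : A ⟶ B} (hf : f ≠ 0) {g : B ⟶ C} (hg : g ≠ 0) : f ≫ g ≠ 0 := fun h0 => by
  have rA := (M2.isInvertible_iff_isFinLocFreeOfRank_one A).1 hA
  have rB := (M2.isInvertible_iff_isFinLocFreeOfRank_one B).1 hB
  have rC := (M2.isInvertible_iff_isFinLocFreeOfRank_one C).1 hC
  refine hg (RankTwo11.eq_zero_of_stalk_eq_zero rB rC g fun z => ?_)
  obtain ⟨q, hq⟩ := Classical.not_forall.1 fun hz => RankTwo11.stalk_ne_zero rA rB f hf (genericPoint _)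
    (LinearMap.ext hz)
  obtain ⟨ε⟩ := CurveCoh17.nonempty_stalk_equiv rB (genericPoint X)
  obtain ⟨v, hv⟩ := (RH26.isField_η (X := X)).mul_inv_cancel
    (a := ε (CurveCoh17.stalkLin f _ q) 0)
    (fun h => hq (ε.injective (funext fun i => by rw [Subsingleton.elim i 0, h]; simp)))
  have hz : z = (ε z 0 * v) • CurveCoh17.stalkLin f _ q := ε.injective (funext fun i => by
    rw [Subsingleton.elim i 0, map_smul, Pi.smul_apply, smul_eq_mul, mul_assoc, mul_comm v, hv, mul_one])
  have hmg : CurveCoh17.stalkLin g _ (CurveCoh17.stalkLin f _ q) = 0 := by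
    rw [CurveCoh17.stalkLin_apply, CurveCoh17.stalkLin_apply, ← ConcreteCategory.comp_apply, ← Functor.map_comp,
      h0, Functor.map_zero]
    rfl
  rw [← CurveCoh17.stalkLin_apply, hz, map_smul, hmg, smul_zero]

/-- Fix a field k, an integral proper k-scheme X, and an invertible O_X-module L with tensor inverse M.
Suppose that L^{⊗j} has a nonzero global section for every j ≥ 4 and that no tensor power L^{⊗j}
with j ≥ 1 is isomorphic to O_X. Then H⁰(X, M^{⊗i}) = 0 for every i ≥ 1: the negative powers of L
have no nonzero global sections. (The published statement is for the canonical module of a minimal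
surface of general type over an algebraically closed field, where the fourth and higher powers are
globally generated by a deep result quoted without proof, and non-triviality of the positive powers
comes from bigness; the published deduction of this part uses exactly the two hypotheses carried
here, on an integral proper X.) -/
theorem result (k : Type u) [Field k]
    (X : Scheme.{u}) [X.Over (Spec (CommRingCat.of k))] [IsProper (X ↘ (Spec (CommRingCat.of k)))] [IsIntegral X]
    (L M : X.Modules) (hL : PicF.IsInvertible L) (hM : ClSub.IsInverseOf M L)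
    (hsec : ∀ j : ℕ, 4 ≤ j → Nontrivial (Coh.HH X (CohB1.tensorPow L j) 0))
    (hnt : ∀ j : ℕ, 1 ≤ j → IsEmpty (CohB1.tensorPow L j ≅ Coh.structureModule X))
    (i : ℕ) (hi : 1 ≤ i) :
    Subsingleton (Coh.HH X (CohB1.tensorPow M i) 0) := by
  classical
  let p := X ↘ Spec (CommRingCat.of k)
  haveI : IsNoetherian X := CohFound.isNoetherian_of_isProper p
  obtain ⟨e⟩ := hM
  have hMi : PicF.IsInvertible M := M2.isInvertible_of_tensor_iso_unit M L e
  refine not_nontrivial_iff_subsingleton.1 fun hnon => ?_
  obtain ⟨x, hx⟩ := exists_ne (0 : Coh.HH X (CohB1.tensorPow M i) 0)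
  let A := CohB1.tensorPow M i
  let B := CohB1.tensorPow L i
  have hA := M2.isInvertible_tensorPow hMi i
  have hB := M2.isInvertible_tensorPow hL i
  let e' : CohB1.tensorMod L M ≅ Coh.structureModule X := M2.tensorComm L M ≪≫ e
  let eBA : CohB1.tensorMod B A ≅ Coh.structureModule X :=
    (M2.tensorPowMul L M i).symm ≪≫ M2.tensorPowIso e' i ≪≫ CMReg18.tensorPowUnit X i
  let eAB : CohB1.tensorMod A B ≅ Coh.structureModule X := M2.tensorComm A B ≪≫ eBA
  have hs : M1.secHom (CurveCoh17.hh0 A x) ≠ 0 :=
    RankTwo11.secHom_ne_zero fun h => hx ((CurveCoh17.hh0 A).injective (h.trans (map_zero _).symm))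
  obtain ⟨c, hc⟩ : ∃ c : B ⟶ Coh.structureModule X, c ≠ 0 :=
    ⟨_, RankTwo11.iso_comp_ne_zero (RankTwo11.comp_iso_ne_zero (RankTwo11.tensor_ne_zero eBA hs) eAB)
      (M2.tensorLUnit B).symm⟩
  have hpow : ∀ n : ℕ, ∃ cn : CohB1.tensorPow L (i * (n + 1)) ⟶ Coh.structureModule X, cn ≠ 0 := by
    intro n
    induction n with
    | zero =>
      rw [show i * (0 + 1) = i by ring]
      exact ⟨c, hc⟩
    | succ n ih =>
      obtain ⟨cn, hcn⟩ := ih
      let j : CohB1.tensorPow L (i * (n + 1 + 1)) ≅ CohB1.tensorMod (CohB1.tensorPow L (i * (n + 1))) B :=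
        eqToIso (by rw [Nat.mul_succ]) ≪≫ M2.tensorPowAdd L (i * (n + 1)) i
      have h1 := RankTwo11.iso_comp_ne_zero (RankTwo11.comp_iso_ne_zero (RankTwo11.tensor_ne_zero eBA hcn)
        (M2.tensorLUnit B)) j
      exact ⟨_, comp_ne_zero8 (M2.isInvertible_tensorPow hL _) hB
        (PicLoc.isInvertible_structureModule X) h1 hc⟩
  obtain ⟨c4, hc4⟩ := hpow 3
  haveI := hsec (i * (3 + 1)) (by omega)
  obtain ⟨y, hy⟩ := exists_ne (0 : Coh.HH X (CohB1.tensorPow L (i * (3 + 1))) 0)
  have hs4 : M1.secHom (CurveCoh17.hh0 _ y) ≠ 0 :=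
    RankTwo11.secHom_ne_zero fun h => hy ((CurveCoh17.hh0 _).injective (h.trans (map_zero _).symm))
  obtain ⟨w⟩ := InvTriv15.nonempty_iso (isField_of_universallyClosed k p) (M2.isInvertible_tensorPow hL _)
    _ hs4 c4 hc4
  exact (hnt (i * (3 + 1)) (by omega)).false w

end Groth.Agent.S14064
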