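import Groth.Statements.S14066
import Groth.Agent.Lib.Cyc26.LinSub
import Groth.Agent.Lib.LefPen13.Chart
import Groth.Agent.Lib.VeryAmple11.BundleSum
-- import your own Groth.Agent.* helpers here

set_option autoImplicit false
set_option backward.isDefEq.respectTransparency false
universe u
open CategoryTheory CategoryTheory.Limits AlgebraicGeometry TopologicalSpace
open Variety Groth.Agent

namespace Groth.Agent.S14066

/-- Let k be a field, and let X₁ and X₂ be k-schemes with closed immersions i₁ : X₁ → P^n_k and i₂ : X₂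
→ P^m_k over k. Then there is a closed immersion of the disjoint union X₁ ⨿ X₂ into P^{n+m+1}_k over
k, that is, compatible with the structure morphism of the coproduct induced by those of X₁ and X₂.
(Stated as the step of the published proof showing that a disjoint union of two projective k-schemes
is projective.) -/
theorem result (k : Type u) [Field k] (n m : ℕ)
    (X₁ X₂ : Scheme.{u}) [X₁.Over (Spec (CommRingCat.of k))] [X₂.Over (Spec (CommRingCat.of k))]
    (i₁ : X₁ ⟶ CohB1.ProjSpace n k) [IsClosedImmersion i₁] (h₁ : i₁ ≫ CohB1.ProjSpace.toSpec n k = X₁ ↘ (Spec (CommRingCat.of k)))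
    (i₂ : X₂ ⟶ CohB1.ProjSpace m k) [IsClosedImmersion i₂] (h₂ : i₂ ≫ CohB1.ProjSpace.toSpec m k = X₂ ↘ (Spec (CommRingCat.of k))) :
    ∃ j : X₁ ⨿ X₂ ⟶ CohB1.ProjSpace (n + m + 1) k, IsClosedImmersion j ∧
      j ≫ CohB1.ProjSpace.toSpec (n + m + 1) k = coprod.desc (X₁ ↘ (Spec (CommRingCat.of k))) (X₂ ↘ (Spec (CommRingCat.of k))) := by
  classical
  let e₁ : Fin (m + 1) → Fin (n + m + 1 + 1) := fun l => ⟨n + 1 + l.1, by omega⟩
  let e₂ : Fin (n + 1) → Fin (n + m + 1 + 1) := fun l => ⟨l.1, by omega⟩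
  have he₁ : Function.Injective e₁ := fun a b h => Fin.ext (by
    have := congrArg Fin.val h
    simp only [e₁] at this
    omega)
  have he₂ : Function.Injective e₂ := fun a b h => Fin.ext (by
    have := congrArg Fin.val h
    simpa [e₂] using this)
  let mk : ∀ {c : ℕ}, (Fin c → Fin (n + m + 1 + 1)) → Fin c → LefPen.Form (n + m + 1) k 1 :=
    fun e l => ⟨MvPolynomial.X (e l), LefPen.X_mem (n + m + 1) k (e l)⟩
  have hli : ∀ {c : ℕ} (e : Fin c → Fin (n + m + 1 + 1)), Function.Injective e → LinearIndependent k (mk e) := by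
    intro c e he
    refine LinearIndependent.of_comp (Submodule.subtype _) ?_
    exact (MvPolynomial.linearIndependent_X (σ := Fin (n + m + 1 + 1)) (R := k)).comp e he
  obtain ⟨a₁, ha₁, hk₁, hs₁, -⟩ :=
    Cyc26Lin.exists_linearEmb (n := n + m + 1) (m := n) (mk e₁) (hli e₁ he₁) (by omega)
  obtain ⟨a₂, ha₂, hk₂, hs₂, -⟩ :=
    Cyc26Lin.exists_linearEmb (n := n + m + 1) (m := m) (mk e₂) (hli e₂ he₂) (by omega)
  haveI := ha₁
  haveI := ha₂
  have key : ∀ {p c : ℕ} (a : CohB1.ProjSpace p k ⟶ CohB1.ProjSpace (n + m + 1) k) [IsClosedImmersion a]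
      (e : Fin c → Fin (n + m + 1 + 1)), a.ker = LefPen.ciIdeal (a := fun _ : Fin c => 1) (mk e) →
      ∀ (z : CohB1.ProjSpace p k) (l : Fin c), a z ∉ LefPen.chart (n + m + 1) k (e l) := by
    intro p c a _ e hk z l hz
    let U : (CohB1.ProjSpace (n + m + 1) k).affineOpens :=
      ⟨LefPen.chart (n + m + 1) k (e l), ProjDim18.isAffineOpen_chart (e l)⟩
    have h1 : (1 : Γ(CohB1.ProjSpace (n + m + 1) k, U.1)) ∈ a.ker.ideal U := by
      rw [hk, LefPen.ciIdeal, Scheme.IdealSheafData.ideal_iSup, iSup_apply]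
      refine Ideal.mem_iSup_of_mem l ?_
      rw [LefPen13.hypIdeal_chart]
      refine Ideal.mem_span_singleton.2 (dvd_of_eq ?_)
      show LefPen.dehom (mk e l) (e l) = 1
      rw [LefPen13.dehom_eq_dh]
      exact LefPen13.dh_X_self (k := k) (r := n + m + 1) _
    have h0 := RingHom.mem_ker.1 (a.ideal_ker_le U h1)
    have hb : z ∈ a ⁻¹ᵁ (CohB1.ProjSpace (n + m + 1) k).basicOpen (U := U.1) 1 := by
      rw [Scheme.basicOpen_of_isUnit _ isUnit_one]
      exact hz
    rw [Scheme.preimage_basicOpen, h0, Scheme.basicOpen_zero] at hb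
    exact hb
  refine ⟨coprod.desc (i₁ ≫ a₁) (i₂ ≫ a₂), VA11.isClosedImmersion_coprod_desc _ _ ?_, ?_⟩
  · intro x y hxy
    obtain ⟨i, hi⟩ : ∃ i, (i₁ ≫ a₁) x ∈ LefPen.chart (n + m + 1) k i :=
      TopologicalSpace.Opens.mem_iSup.1
        ((Groth.Agent.ProjSpace.iSup_basicOpen (n + m + 1) k).ge (Set.mem_univ ((i₁ ≫ a₁) x)))
    by_cases h : i.1 < n + 1
    · rw [hxy, show i = e₂ ⟨i.1, h⟩ from rfl, Scheme.Hom.comp_apply] at hi
      exact key a₂ e₂ hk₂ (i₂ y) _ hi
    · rw [show i = e₁ ⟨i.1 - (n + 1), by omega⟩ from Fin.ext (by simp only [e₁]; omega),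
        Scheme.Hom.comp_apply] at hi
      exact key a₁ e₁ hk₁ (i₁ x) _ hi
  · apply coprod.hom_ext
    · rw [coprod.inl_desc_assoc, coprod.inl_desc, Category.assoc, hs₁, h₁]
    · rw [coprod.inr_desc_assoc, coprod.inr_desc, Category.assoc, hs₂, h₂]

end Groth.Agent.S14066
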