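import Groth.Statements.S14067
import Groth.Agent.Lib.EtSlice1.Immersion

set_option autoImplicit false
universe u
open CategoryTheory AlgebraicGeometry
open FamCyc

namespace Groth.Agent.S14067

/-- Let p : X ⟶ S be a smooth morphism of schemes. The family of all immersions j : Z ⟶ X such that Z is
étale over S is schematically dominant: if t is a section of the structure sheaf of X over an open V
whose pullback along every such j is zero, then t = 0. -/
theorem result {X S : Scheme.{u}} (p : X ⟶ S) [Smooth p]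
    (V : X.Opens) (t : Γ(X, V))
    (h : ∀ (Z : Scheme.{u}) (j : Z ⟶ X), IsImmersion j → Etale (j ≫ p) → j.app V t = 0) : t = 0 := by
  refine TopCat.Presheaf.section_ext X.sheaf V _ _ fun x hx => ?_
  refine Eq.trans ?_ (map_zero (X.presheaf.germ V x hx).hom).symm
  show X.presheaf.germ V x hx t = 0
  obtain ⟨U, hU, W, hW, hxW, e, hsm⟩ := Smooth.exists_isStandardSmooth (V.ι ≫ p) ⟨x, hx⟩
  let o : Spec Γ(V.toScheme, W) ⟶ X := hW.fromSpec ≫ V.ι
  have hle : (⊤ : (Spec Γ(V.toScheme, W)).Opens) ≤ o ⁻¹ᵁ V := fun y _ => (hW.fromSpec y).2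
  let t' : Γ(V.toScheme, W) := (Scheme.ΓSpecIso Γ(V.toScheme, W)).hom (o.appLE V ⊤ hle t)
  have ht' : t' = 0 := by
    by_contra hne
    letI : Algebra Γ(S, U) Γ(V.toScheme, W) := ((V.ι ≫ p).appLE U W e).hom.toAlgebra
    haveI : Algebra.IsStandardSmooth Γ(S, U) Γ(V.toScheme, W) := hsm
    obtain ⟨Z, _, _, π, hZ, hi, hπ⟩ :=
      Groth.Agent.EtSlice1.exists_immersion Γ(S, U) Γ(V.toScheme, W) hne
    let k := Spec.map (CommRingCat.ofHom π.toRingHom)
    have hkimm : IsImmersion k := hi
    have hj : IsImmersion (k ≫ o) := inferInstance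
    have hU' : k ≫ o ≫ p = Spec.map (CommRingCat.ofHom (algebraMap Γ(S, U) Z)) ≫ hU.fromSpec := by
      show Spec.map _ ≫ (hW.fromSpec ≫ V.ι) ≫ p = _
      rw [Category.assoc, ← hU.SpecMap_appLE_fromSpec (V.ι ≫ p) hW e, ← Spec.map_comp_assoc]
      congr 2
      ext r
      exact π.commutes r
    have het : Etale ((k ≫ o) ≫ p) := by
      rw [Category.assoc, hU']
      haveI : Etale (Spec.map (CommRingCat.ofHom (algebraMap Γ(S, U) Z))) :=
        (HasRingHomProperty.Spec_iff (P := @Etale)).2 (RingHom.etale_algebraMap.2 hZ)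
      infer_instance
    have h0 := h _ (k ≫ o) hj het
    apply hπ
    have h1 : (k ≫ o).appLE V ⊤ (fun y _ => hle (Set.mem_univ _)) t = 0 := by
      show ((k ≫ o).app V ≫ (Spec (CommRingCat.of Z)).presheaf.map _) t = 0
      rw [ConcreteCategory.comp_apply, h0]
      exact map_zero _
    rw [← Scheme.Hom.appLE_comp_appLE k o V ⊤ ⊤ hle (fun _ _ => Set.mem_univ _), ConcreteCategory.comp_apply] at h1
    have h2 := ConcreteCategory.congr_hom (Scheme.ΓSpecIso_naturality (CommRingCat.ofHom π.toRingHom)) (o.appLE V ⊤ hle t)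
    simp only [ConcreteCategory.comp_apply] at h2
    refine Eq.trans ?_ (Eq.trans h2.symm ?_)
    · rfl
    · have e1 : k.appTop = k.appLE ⊤ ⊤ (fun _ _ => Set.mem_univ _) := by
        simp [Scheme.Hom.appLE]
      change (Scheme.ΓSpecIso (CommRingCat.of Z)).hom (k.appTop (o.appLE V ⊤ hle t)) = 0
      rw [e1, h1, map_zero]
  have h3 : o.appLE V ⊤ hle t = 0 := by
    have := congrArg (Scheme.ΓSpecIso Γ(V.toScheme, W)).inv ht'
    simpa [t'] using this
  obtain ⟨y, hy⟩ : ∃ y, hW.fromSpec y = ⟨x, hx⟩ := by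
    have : (⟨x, hx⟩ : V.toScheme) ∈ Set.range hW.fromSpec := by rw [hW.range_fromSpec]; exact hxW
    exact this
  obtain rfl : o y = x := by
    show V.ι (hW.fromSpec y) = x
    rw [hy]; rfl
  apply (ConcreteCategory.bijective_of_isIso (o.stalkMap y)).injective
  rw [map_zero]
  change o.stalkMap y (X.presheaf.germ V (o y) hx t) = 0
  rw [Scheme.Hom.germ_stalkMap_apply]
  have := congrArg ((Spec Γ(V.toScheme, W)).presheaf.germ ⊤ y trivial) h3
  rw [map_zero, Scheme.Hom.appLE, ConcreteCategory.comp_apply, TopCat.Presheaf.germ_res_apply] at this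
  exact this

end Groth.Agent.S14067
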