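import Groth.Statements.S14068
import Groth.Agent.S14067
import Groth.Agent.S4875

set_option backward.isDefEq.respectTransparency false

set_option autoImplicit false
universe u
open CategoryTheory AlgebraicGeometry
open FamCyc

namespace Groth.Agent.S14068

/-- Let g : S' ⟶ S be a smooth morphism and q : B' ⟶ S' a flat morphism locally of finite presentation.
Then the family of base changes Z ×_{S'} B' ⟶ B' of all immersions j : Z ⟶ S' with Z étale over S is
schematically dominant: a section of the structure sheaf of B' over an open V whose pullback along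
every member of the family is zero is itself zero. -/
theorem result {S S' B' : Scheme.{u}} (g : S' ⟶ S) [Smooth g]
    (q : B' ⟶ S') [Flat q] [LocallyOfFinitePresentation q] (V : B'.Opens) (t : Γ(B', V))
    (h : ∀ (Z : Scheme.{u}) (j : Z ⟶ S'), IsImmersion j → Etale (j ≫ g) →
      (Limits.pullback.snd j q).app V t = 0) : t = 0 := by
  classical
  let I := Σ W : S'.Opens, {s : Γ(S', W) // s ≠ 0}
  have hex : ∀ i : I, ∃ (Z : Scheme.{u}) (j : Z ⟶ S'), IsImmersion j ∧ Etale (j ≫ g) ∧ j.app i.1 i.2.1 ≠ 0 := by
    intro i
    by_contra hne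
    refine i.2.2 (Groth.Agent.S14067.result g i.1 i.2.1 fun Z j hj he => ?_)
    by_contra hs
    exact hne ⟨Z, j, hj, he, hs⟩
  choose Z j hj he hne using hex
  refine Groth.Agent.S4875.result Z j q ?_ V t fun i => h (Z i) (j i) (hj i) (he i)
  intro W s hs
  by_contra h0
  exact hne ⟨W, s, h0⟩ (hs ⟨W, s, h0⟩)

end Groth.Agent.S14068
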