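import Groth.Statements.S14069
import Mathlib
import Groth.Agent.Lib.EtNhdH1.Basic

set_option autoImplicit false
universe u
open CategoryTheory AlgebraicGeometry
open FamCyc

namespace Groth.Agent.S14069




/-- Let i : S₀ ⟶ S be a closed immersion, p : X ⟶ S a scheme over S, q : Y ⟶ S a smooth morphism, X₀ = X
×_S S₀, x₀ a point of X₀ and f₀ : X₀ ⟶ Y a morphism over S. Then there are a scheme U, an étale
morphism e : U ⟶ X whose base change U ×_X X₀ ⟶ X₀ is an open immersion whose image contains x₀, and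
a morphism f : U ⟶ Y over S whose restriction to U ×_X X₀ equals the restriction of f₀. -/
theorem result {S S₀ X Y : Scheme.{u}} (i : S₀ ⟶ S) [IsClosedImmersion i]
    (p : X ⟶ S) (q : Y ⟶ S) [Smooth q] (f₀ : Limits.pullback p i ⟶ Y)
    (hf₀ : f₀ ≫ q = Limits.pullback.fst p i ≫ p) (x₀ : ↥(Limits.pullback p i)) :
    ∃ (U : Scheme.{u}) (e : U ⟶ X) (f : U ⟶ Y), Etale e ∧ f ≫ q = e ≫ p ∧
      IsOpenImmersion (Limits.pullback.snd e (Limits.pullback.fst p i)) ∧
      x₀ ∈ Set.range (Limits.pullback.snd e (Limits.pullback.fst p i)).base ∧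
      Limits.pullback.snd e (Limits.pullback.fst p i) ≫ f₀ =
        Limits.pullback.fst e (Limits.pullback.fst p i) ≫ f := by
  let gm := Limits.pullback.fst p i
  obtain ⟨W, hW, V, hV, hyV, eVW, hsm⟩ := Smooth.exists_isStandardSmooth q (f₀.base x₀)
  have hxW : gm.base x₀ ∈ p ⁻¹ᵁ W := by
    show (gm ≫ p).base x₀ ∈ W
    rw [← hf₀]
    exact eVW hyV
  have hemb : Topology.IsEmbedding gm.base := gm.isClosedEmbedding.isEmbedding
  obtain ⟨O', hO', hO'eq⟩ := hemb.isInducing.isOpen_iff.1 (f₀ ⁻¹ᵁ V).2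
  obtain ⟨X'', hX'', hxX'', hX''le⟩ : ∃ X'' : X.Opens, IsAffineOpen X'' ∧ gm.base x₀ ∈ X'' ∧
      X'' ≤ (⟨O', hO'⟩ : X.Opens) ⊓ p ⁻¹ᵁ W :=
    exists_isAffineOpen_mem_and_subset (U := (⟨O', hO'⟩ : X.Opens) ⊓ p ⁻¹ᵁ W)
      ⟨(Set.ext_iff.1 hO'eq x₀).2 hyV, hxW⟩
  let Z := gm ⁻¹ᵁ X''
  have hZ : IsAffineOpen Z := hX''.preimage gm
  have eZV : Z ≤ f₀ ⁻¹ᵁ V := fun z hz => (Set.ext_iff.1 hO'eq z).1 (hX''le hz).1
  have eXW : X'' ≤ p ⁻¹ᵁ W := fun z hz => (hX''le hz).2
  let π := gm.appLE X'' Z le_rfl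
  have hπ : Function.Surjective π := by
    show Function.Surjective (gm.appLE X'' (gm ⁻¹ᵁ X'') le_rfl)
    rw [← Scheme.Hom.app_eq_appLE]
    exact gm.app_surjective X'' hX''
  obtain ⟨R₁, _, ε, σ, ψ, hε, hσε, hψa, hσψ, hkerσ⟩ := EtNhdH1.key (q.appLE W V eVW).hom (p.appLE W X'' eXW).hom
    (f₀.appLE V Z eZV).hom π.hom hπ (by
      rw [← CommRingCat.hom_comp, ← CommRingCat.hom_comp, Scheme.Hom.appLE_comp_appLE, Scheme.Hom.appLE_comp_appLE]
      congr 2) hsm
  let U : Scheme.{u} := Spec (CommRingCat.of R₁)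
  let e : U ⟶ X := Spec.map (CommRingCat.ofHom ε) ≫ hX''.fromSpec
  let f : U ⟶ Y := Spec.map (CommRingCat.ofHom ψ) ≫ hV.fromSpec
  let j₀ := hZ.fromSpec
  let a := Spec.map (CommRingCat.ofHom σ)
  have hπeq : CommRingCat.ofHom ε ≫ CommRingCat.ofHom σ = π := CommRingCat.hom_ext hσε
  have hpush : IsPushout (CommRingCat.ofHom ε) π (CommRingCat.ofHom σ) (𝟙 _) :=
    ⟨⟨by rw [hπeq, Category.comp_id]⟩, ⟨Limits.PushoutCocone.IsColimit.mk _
      (fun s => s.inr)
      (fun s => by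
        refine CommRingCat.hom_ext (RingHom.ext fun z => ?_)
        show s.inr.hom (σ z) = s.inl.hom z
        obtain ⟨y, hy⟩ := hπ (σ z)
        have hc : ∀ w, s.inl.hom (ε w) = s.inr.hom (π.hom w) := fun w =>
          RingHom.congr_fun (congrArg CommRingCat.Hom.hom s.condition) w
        have hmem : z - ε y ∈ RingHom.ker σ := by
          rw [RingHom.mem_ker, map_sub, sub_eq_zero]
          exact hy.symm.trans (RingHom.congr_fun hσε y).symm
        have hle : (RingHom.ker π.hom).map ε ≤ RingHom.ker s.inl.hom :=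
          Ideal.map_le_iff_le_comap.2 fun w hw => by
            rw [Ideal.mem_comap, RingHom.mem_ker, hc, RingHom.mem_ker.1 hw, map_zero]
        have h0 := hle (hkerσ hmem)
        rw [RingHom.mem_ker, map_sub, sub_eq_zero, hc] at h0
        rw [h0]
        exact congrArg s.inr.hom hy.symm)
      (fun s => Category.id_comp _)
      (fun s m _ hm => by simpa using hm)⟩⟩
  have hsq : IsPullback a (Spec.map (𝟙 _)) (Spec.map (CommRingCat.ofHom ε)) (Spec.map π) :=
    isPullback_SpecMap_of_isPushout _ _ _ _ hpush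
  have hZsq : IsPullback (Spec.map π) j₀ hX''.fromSpec gm :=
    IsOpenImmersion.isPullback _ _ _ _ (IsAffineOpen.SpecMap_appLE_fromSpec gm hX'' hZ le_rfl).symm
      (by rw [IsAffineOpen.opensRange_fromSpec, IsAffineOpen.opensRange_fromSpec])
  have hbig : IsPullback a j₀ e gm := by
    have := hsq.paste_vert hZsq
    rwa [Spec.map_id, Category.id_comp] at this
  have hsnd : Limits.pullback.snd e gm = hbig.isoPullback.inv ≫ j₀ := by
    rw [Iso.eq_inv_comp, hbig.isoPullback_hom_snd]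
  have hfst : Limits.pullback.fst e gm = hbig.isoPullback.inv ≫ a := by
    rw [Iso.eq_inv_comp, hbig.isoPullback_hom_fst]
  refine ⟨U, e, f, ?_, ?_, ?_, ?_, ?_⟩
  · haveI : Etale (Spec.map (CommRingCat.ofHom ε)) := HasRingHomProperty.Spec_iff.2 hε
    infer_instance
  · show (_ ≫ hV.fromSpec) ≫ q = (_ ≫ hX''.fromSpec) ≫ p
    rw [Category.assoc, Category.assoc, ← IsAffineOpen.SpecMap_appLE_fromSpec q hW hV eVW,
      ← IsAffineOpen.SpecMap_appLE_fromSpec p hW hX'' eXW, ← Spec.map_comp_assoc, ← Spec.map_comp_assoc]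
    congr 2
    exact CommRingCat.hom_ext hψa
  · rw [hsnd]; infer_instance
  · obtain ⟨w, hw⟩ : x₀ ∈ Set.range j₀.base := by rw [hZ.range_fromSpec]; exact hxX''
    exact ⟨hbig.isoPullback.hom.base w, by
      rw [← hw, ← Scheme.Hom.comp_apply, hbig.isoPullback_hom_snd]⟩
  · rw [hsnd, hfst, Category.assoc, Category.assoc]
    congr 1
    show j₀ ≫ f₀ = Spec.map (CommRingCat.ofHom σ) ≫ Spec.map (CommRingCat.ofHom ψ) ≫ hV.fromSpec
    rw [← IsAffineOpen.SpecMap_appLE_fromSpec f₀ hV hZ eZV, ← Spec.map_comp_assoc]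
    congr 2
    exact (CommRingCat.hom_ext hσψ).symm

end Groth.Agent.S14069
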