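import Groth.Statements.S14070
import Groth.Agent.Lib.Unibr4.GoDown
import Groth.Agent.Lib.EquidimAt4
import Groth.Agent.Lib.OpenEt4
import Groth.Agent.Lib.GeomIntUnibr4

set_option autoImplicit false
open CategoryTheory AlgebraicGeometry
universe u
open FamCyc

namespace Groth.Agent.S14070

theorem generic_unique {S : Scheme.{u}} {y g₁ g₂ : S} (hu : CAlg2.IsUnibranch (S.presheaf.stalk y))
    (h₁ : g₁ ⤳ y) (h₂ : g₂ ⤳ y) (m₁ : ∀ z, z ⤳ g₁ → z = g₁) (m₂ : ∀ z, z ⤳ g₂ → z = g₂) : g₁ = g₂ := by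
  haveI : (nilradical (S.presheaf.stalk y)).IsPrime := (Ideal.Quotient.isDomain_iff_prime _).1 hu.1
  let k : Spec (S.presheaf.stalk y) := ⟨_, this⟩
  have key : ∀ g : S, g ⤳ y → (∀ z, z ⤳ g → z = g) → g = S.fromSpecStalk y k := by
    intro g hg hm
    obtain ⟨q, rfl⟩ : g ∈ Set.range (S.fromSpecStalk y) := by rw [Scheme.range_fromSpecStalk]; exact hg
    haveI : q.asIdeal.IsPrime := q.2
    exact (hm _ (((PrimeSpectrum.le_iff_specializes k q).1 (nilradical_le_prime q.asIdeal)).map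
      (S.fromSpecStalk y).continuous)).symm
  rw [key g₁ h₁ m₁, key g₂ h₂ m₂]

theorem exists_irreducible_nhd {S : Scheme.{u}} (hfin : (irreducibleComponents (S : Type u)).Finite) (y : S)
    (hu : CAlg2.IsUnibranch (S.presheaf.stalk y)) : ∃ V : S.Opens, y ∈ V ∧ IrreducibleSpace (V : Scheme.{u}) := by
  let C : Set (Set S) := {Z ∈ irreducibleComponents (S : Type u) | y ∉ Z}
  have hC : IsClosed (⋃ Z ∈ C, Z) :=
    (hfin.subset fun Z hZ => hZ.1).isClosed_biUnion fun Z hZ => isClosed_of_mem_irreducibleComponents Z hZ.1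
  refine ⟨⟨(⋃ Z ∈ C, Z)ᶜ, hC.isOpen_compl⟩, ?_, ?_⟩
  · simp [C]
  · have hVy : y ∈ (⋃ Z ∈ C, Z)ᶜ := by simp [C]
    obtain ⟨g, hg, hgm⟩ := VarDim.exists_generic_of_mem_irreducibleComponents
      (irreducibleComponent_mem_irreducibleComponents y)
    have hsub : (⋃ Z ∈ C, Z)ᶜ ⊆ closure {g} := by
      intro z hz
      obtain ⟨g', hg', hgm'⟩ := VarDim.exists_generic_of_mem_irreducibleComponents
        (irreducibleComponent_mem_irreducibleComponents z)
      have hy' : y ∈ irreducibleComponent z := by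
        by_contra h
        exact hz (Set.mem_biUnion (show irreducibleComponent z ∈ C from
          ⟨irreducibleComponent_mem_irreducibleComponents z, h⟩) mem_irreducibleComponent)
      have e : g' = g := generic_unique hu (specializes_iff_mem_closure.2 (hg' ▸ hy'))
        (specializes_iff_mem_closure.2 (hg ▸ mem_irreducibleComponent)) hgm' hgm
      rw [← e, hg']
      exact mem_irreducibleComponent
    have hpre : IsPreirreducible (⋃ Z ∈ C, Z)ᶜ :=
      isIrreducible_singleton.closure.2.open_subset hC.isOpen_compl hsub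
    have hp := (Subtype.preirreducibleSpace hpre).1
    exact { isPreirreducible_univ := hp, toNonempty := ⟨⟨y, hVy⟩⟩ }

theorem isUnivOpenAt_of_nhd {X S : Scheme.{u}} (f : X ⟶ S) [LocallyOfFiniteType f]
    (hS : ∀ s : S, CAlg2.IsGeomUnibranch (S.presheaf.stalk s))
    (hfin : (irreducibleComponents (S : Type u)).Finite) (x t : X) (htx : t ⤳ x)
    (hmax : ∀ y, y ⤳ f t → y = f t) (hdim : FlatMor.fibreDimAt f x ≤ (FibDim14.rd f t : WithBot ℕ∞)) :
    EGA43.IsUnivOpenAt f x := by
  obtain ⟨V, hyV, hV⟩ := exists_irreducible_nhd hfin (f x) (hS _).1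
  have hxV : x ∈ f ⁻¹ᵁ V := hyV
  let x' : (f ⁻¹ᵁ V : X.Opens) := ⟨x, hxV⟩
  let t' : (f ⁻¹ᵁ V : X.Opens) := ⟨t, htx.mem_open (f ⁻¹ᵁ V).2 hxV⟩
  have hcomp : (f ∣_ V) ≫ V.ι = (f ⁻¹ᵁ V).ι ≫ f := morphismRestrict_ι f V
  have himg : ∀ a : (f ⁻¹ᵁ V).toScheme, V.ι ((f ∣_ V) a) = f ((f ⁻¹ᵁ V).ι a) := fun a => by
    rw [← Scheme.Hom.comp_apply, hcomp, Scheme.Hom.comp_apply]
  have hgu : ∀ a : V.toScheme, CAlg2.IsGeomUnibranch (V.toScheme.presheaf.stalk a) := fun a => by
    have hb := ConcreteCategory.bijective_of_isIso (V.ι.stalkMap a)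
    refine GeomIntUnibr4.isGeomUnibranch_of_surjective (V.ι.stalkMap a).hom hb.2 ?_ (hS _)
    rw [(RingHom.injective_iff_ker_eq_bot _).1 hb.1]
    exact bot_le
  have h1 : EGA43.IsUnivOpenAt (f ∣_ V) x' := by
    refine Unibr4.isUnivOpenAt (f ∣_ V) x' t' (Or.inr hV) (hgu _)
      (EquidimAt4.opens_specializes_iff.2 htx) ?_ ?_
    · intro y hy
      refine V.ι.isOpenEmbedding.injective ?_
      rw [himg]
      refine hmax _ ?_
      have := hy.map V.ι.continuous
      rwa [himg] at this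
    · have e : ∀ a : (f ⁻¹ᵁ V).toScheme, FibDim14.rd (f ∣_ V) a = FibDim14.rd f ((f ⁻¹ᵁ V).ι a) := by
        intro a
        rw [← EquidimAt4.rd_openImmersion f, ← hcomp, FibDim14.rd_comp, FibDim14.rd_of_surjectiveOnStalks V.ι,
          zero_add]
      obtain ⟨w, hw, hfw, hwm, hd⟩ := FibGen4.exists_isMaxFib (f ∣_ V) x'
      rw [← hd, FibGen4.fibreDimAt_eq_rd_of_isMaxFib _ hwm, e, e]
      refine le_trans ?_ hdim
      refine FibDim14.rd_le_fibreDimAt f (EquidimAt4.opens_specializes_iff.1 hw) ?_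
      have := congrArg V.ι hfw
      rwa [himg, himg] at this
  have h2 : EGA43.IsUnivOpenAt ((f ⁻¹ᵁ V).ι ≫ f) x' := hcomp ▸
    EGA43Top.isUnivOpenAt_comp h1 (Unibr4.isUnivOpenAt_of_universallyOpen V.ι _)
  exact EGA43Top.isUnivOpenAt_of_comp h2



/-- Let S be a scheme all of whose local rings are geometrically unibranch and which has only finitely
many irreducible components, and let f : X ⟶ S be a morphism locally of finite type such that every
point x of X lies on an irreducible component W of X (given its reduced subscheme structure) with W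
⟶ S equidimensional at x. Then f is universally open. (No Noetherian hypothesis on S: finiteness of
its set of irreducible components is what is used, and the statement fails without it.) -/
theorem result {X S : Scheme.{u}}
    (hS : ∀ s : S, CAlg2.IsGeomUnibranch (S.presheaf.stalk s))
    (hfin : (irreducibleComponents (S : Type u)).Finite)
    (f : X ⟶ S) [LocallyOfFiniteType f]
    (hT : ∀ x : X, ∃ W : TopologicalSpace.Closeds X, (W : Set X) ∈ irreducibleComponents (X : Type u) ∧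
      ∃ w : ↥((Scheme.IdealSheafData.vanishingIdeal W).subscheme),
        (Scheme.IdealSheafData.vanishingIdeal W).subschemeι.base w = x ∧
        EGA43.IsEquidimAt ((Scheme.IdealSheafData.vanishingIdeal W).subschemeι ≫ f) w) :
    UniversallyOpen f := by
  refine Unibr4.universallyOpen_of_forall f fun x => ?_
  obtain ⟨W, -, x, rfl, e, U, hxU, hcomp, hdim⟩ := hT x
  refine EGA43Top.isUnivOpenAt_of_comp ?_
  generalize hq : (Scheme.IdealSheafData.vanishingIdeal W).subschemeι ≫ f = q at hcomp hdim ⊢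
  haveI : LocallyOfFiniteType q := hq ▸ inferInstance
  obtain ⟨t, htx, ht⟩ := Unibr4.exists_max x
  have htU : t ∈ U := htx.mem_open U.2 hxU
  let t' : (U : Scheme.{u}) := ⟨t, htU⟩
  have ht' : ∀ y, y ⤳ t' → y = t' := (EquidimAt4.max_opens_iff t').2 ht
  obtain ⟨W', hW, -, hWeq⟩ := hcomp _ ((VarDim.maximal_iff_mem_irreducibleComponents (X := (U : Scheme.{u})) t').1 ht')
  rw [closure_image_closure (U.ι ≫ q).continuous, Set.image_singleton] at hWeq
  subst hWeq
  have hrd : ∀ w : (U : Scheme.{u}), FibDim14.IsMaxFib (U.ι ≫ q) w → FibDim14.rd q (U.ι w) = e := by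
    intro w hw
    have hz := (FibDim14.isMaxFib_fiberι (U.ι ≫ q) _ ((U.ι ≫ q).asFiber w)).1 (by rwa [Scheme.Hom.fiberι_asFiber])
    have h3 := hdim w _ ((VarDim.maximal_iff_mem_irreducibleComponents (X := (U.ι ≫ q).fiber _) _).1 hz)
    rw [VarDim.dim_closure_singleton (FibDim14.toPt (U.ι ≫ q) _), ← FibDim14.rd_fiberι,
      Scheme.Hom.fiberι_asFiber, EquidimAt4.rd_openImmersion] at h3
    exact_mod_cast h3
  refine isUnivOpenAt_of_nhd q hS hfin x t htx
    ((VarDim.maximal_iff_mem_irreducibleComponents (X := S) (q t)).2 hW) ?_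
  obtain ⟨w, hw, -, hmax, hd⟩ := FibGen4.exists_isMaxFib q x
  have hwU : w ∈ U := hw.mem_open U.2 hxU
  rw [← hd, FibGen4.fibreDimAt_eq_rd_of_isMaxFib q hmax]
  have h1 : FibDim14.rd q w = e := hrd ⟨w, hwU⟩ ((EquidimAt4.isMaxFib_opens_iff q ⟨w, hwU⟩).2 hmax)
  have h2 : FibDim14.rd q t = e := hrd t' fun y hy _ => ht' y hy
  rw [h1, h2]

end Groth.Agent.S14070
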