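import Groth.Statements.S14073
import Mathlib

set_option autoImplicit false
universe u
open FamCyc

namespace Groth.Agent.S14073

open Polynomial

variable {R : Type u} [CommRing R]

theorem charpoly_eq_mul {V : Type u} [AddCommGroup V] [Module R V] [Module.Free R V] [Module.Finite R V]
    (W : Submodule R V) [Module.Free R W] [Module.Finite R W] [Module.Free R (V ⧸ W)]
    (e : V →ₗ[R] V) (he : W ≤ W.comap e) :
    e.charpoly = (e.restrict he).charpoly * (W.mapQ W e he).charpoly := by
  let m := Module.Free.ChooseBasisIndex R W
  let bW : Module.Basis m R W := Module.Free.chooseBasis R W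
  let n := Module.Free.ChooseBasisIndex R (V ⧸ W)
  let bQ : Module.Basis n R (V ⧸ W) := Module.Free.chooseBasis R (V ⧸ W)
  let b := Module.Basis.sumQuot bW bQ
  let M₁ : Matrix m m R := LinearMap.toMatrix bW bW (e.restrict he)
  let M₂ : Matrix m n R := Matrix.of fun i l ↦ (b.repr (e (b (Sum.inr l)))) (Sum.inl i)
  let M₃ : Matrix n n R := LinearMap.toMatrix bQ bQ (W.mapQ W e he)
  suffices LinearMap.toMatrix b b e = Matrix.fromBlocks M₁ M₂ 0 M₃ by
    rw [← LinearMap.charpoly_toMatrix e b, this, ← LinearMap.charpoly_toMatrix _ bW,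
      ← LinearMap.charpoly_toMatrix _ bQ, Matrix.charpoly_fromBlocks_zero₂₁]
  ext u v
  cases u with
  | inl i =>
    cases v with
    | inl k =>
      simp only [b, Module.Basis.sumQuot_inl, Matrix.fromBlocks_apply₁₁, M₁, LinearMap.toMatrix_apply]
      apply Module.Basis.sumQuot_repr_inl_of_mem
    | inr l => simp [b, LinearMap.toMatrix_apply, Matrix.fromBlocks_apply₁₂, M₂]
  | inr j =>
    cases v with
    | inl k =>
      suffices W.mkQ (e (bW k)) = 0 by simp [LinearMap.toMatrix_apply, b, this]
      rw [← LinearMap.mem_ker, Submodule.ker_mkQ]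
      exact he (Submodule.coe_mem (bW k))
    | inr l =>
      simp only [LinearMap.toMatrix_apply, Module.Basis.sumQuot_repr_inr, Matrix.fromBlocks_apply₂₂, b, M₃]
      rw [← Module.Basis.sumQuot_inr bW bQ l, W.mapQ_apply]
      simp

theorem charpoly_exact {K F Q : Type u} [AddCommGroup K] [Module R K] [AddCommGroup F] [Module R F]
    [AddCommGroup Q] [Module R Q] [Module.Free R K] [Module.Finite R K] [Module.Free R F] [Module.Finite R F]
    [Module.Free R Q] [Module.Finite R Q] (i : K →ₗ[R] F) (q : F →ₗ[R] Q) (hi : Function.Injective i)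
    (hq : Function.Surjective q) (hex : Function.Exact i q) (ψ' : K →ₗ[R] K) (ψ : F →ₗ[R] F) (φ : Q →ₗ[R] Q)
    (h1 : ψ ∘ₗ i = i ∘ₗ ψ') (h2 : q ∘ₗ ψ = φ ∘ₗ q) : ψ.charpoly = ψ'.charpoly * φ.charpoly := by
  let eK : K ≃ₗ[R] LinearMap.range i := LinearEquiv.ofInjective i hi
  let eQ : (F ⧸ LinearMap.range i) ≃ₗ[R] Q :=
    (Submodule.quotEquivOfEq _ _ hex.linearMap_ker_eq.symm).trans (LinearMap.quotKerEquivOfSurjective q hq)
  haveI : Module.Free R (LinearMap.range i) := Module.Free.of_equiv eK
  haveI : Module.Finite R (LinearMap.range i) := Module.Finite.equiv eK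
  haveI : Module.Free R (F ⧸ LinearMap.range i) := Module.Free.of_equiv eQ.symm
  have he : LinearMap.range i ≤ (LinearMap.range i).comap ψ := by
    rintro _ ⟨x, rfl⟩
    exact ⟨ψ' x, (LinearMap.congr_fun h1 x).symm⟩
  rw [charpoly_eq_mul (LinearMap.range i) ψ he, ← eK.charpoly_conj ψ', ← eQ.symm.charpoly_conj φ]
  congr 1
  · congr 1
    refine LinearMap.ext fun y => ?_
    obtain ⟨x, rfl⟩ := eK.surjective y
    refine Subtype.ext ?_
    simpa [LinearEquiv.conj_apply, eK] using LinearMap.congr_fun h1 x
  · congr 1
    refine LinearMap.ext fun y => ?_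
    induction y using Submodule.Quotient.induction_on with
    | _ x =>
      apply eQ.injective
      simpa [LinearEquiv.conj_apply, eQ] using LinearMap.congr_fun h2 x

variable {A : Type u} [CommRing A] (p : Ideal A) [p.IsPrime]

theorem free_ker_of_free {K F Q : Type u} [AddCommGroup K] [Module R K] [AddCommGroup F] [Module R F]
    [AddCommGroup Q] [Module R Q] [IsLocalRing R] [IsNoetherianRing R] [Module.Free R F] [Module.Finite R F]
    [Module.Projective R Q] (i : K →ₗ[R] F) (q : F →ₗ[R] Q) (hi : Function.Injective i)
    (hq : Function.Surjective q) (hex : Function.Exact i q) : Module.Free R K := by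
  haveI : Module.Finite R K := Module.Finite.of_injective i hi
  obtain ⟨s, hs⟩ := Module.projective_lifting_property q LinearMap.id hq
  obtain ⟨r, hr⟩ : ∃ l, l ∘ₗ i = LinearMap.id :=
    ((Function.Exact.split_tfae hex hi hq).out 0 1 : (∃ l, q ∘ₗ l = LinearMap.id) ↔ ∃ l, l ∘ₗ i = LinearMap.id).1 ⟨s, hs⟩
  haveI : Module.Projective R K := Module.Projective.of_split i r hr
  exact Module.free_of_flat_of_isLocalRing

theorem free_of_depth_zero {K F Q : Type u} [AddCommGroup K] [Module R K] [AddCommGroup F] [Module R F]
    [AddCommGroup Q] [Module R Q] [IsLocalRing R] [IsNoetherianRing R] [Module.Free R F] [Module.Finite R F]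
    [Module.Free R K] (i : K →ₗ[R] F) (q : F →ₗ[R] Q) (hi : Function.Injective i)
    (hq : Function.Surjective q) (hex : Function.Exact i q) (z : R) (hz0 : z ≠ 0)
    (hz : ∀ a ∈ IsLocalRing.maximalIdeal R, a * z = 0) : Module.Free R Q := by
  classical
  haveI : Module.Finite R K := Module.Finite.of_injective i hi
  haveI : Module.Finite R Q := Module.Finite.of_surjective q hq
  obtain ⟨r, hr⟩ := (IsLocalRing.split_injective_iff_lTensor_residueField_injective i).2 (by
    rw [injective_iff_map_eq_zero]
    intro t ht
    obtain ⟨v, rfl⟩ := TensorProduct.mk_surjective R K (IsLocalRing.ResidueField R) IsLocalRing.residue_surjective t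
    simp only [TensorProduct.mk_apply, LinearMap.lTensor_tmul] at ht ⊢
    let bF := Module.Free.chooseBasis R F
    let bK := Module.Free.chooseBasis R K
    have h1 : z • i v = 0 := by
      rw [← bF.sum_repr (i v), Finset.smul_sum]
      refine Finset.sum_eq_zero fun j _ => ?_
      rw [smul_smul, mul_comm, hz _ ?_, zero_smul]
      have := congrArg (fun w => (bF.baseChange (IsLocalRing.ResidueField R)).repr w j) ht
      simpa [Algebra.smul_def, IsLocalRing.residue_eq_zero_iff] using this
    rw [← map_smul, map_eq_zero_iff _ hi] at h1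
    rw [← bK.sum_repr v, TensorProduct.tmul_sum]
    refine Finset.sum_eq_zero fun j _ => ?_
    have hm : bK.repr v j ∈ IsLocalRing.maximalIdeal R := by
      intro hu
      have := congrArg (fun w => bK.repr w j) h1
      simp only [map_smul, Finsupp.smul_apply, smul_eq_mul, map_zero, Finsupp.zero_apply] at this
      exact hz0 (hu.mul_left_eq_zero.1 this)
    rw [← TensorProduct.smul_tmul, Algebra.smul_def, mul_one]
    rw [show algebraMap R (IsLocalRing.ResidueField R) (bK.repr v j) = 0 from
      (IsLocalRing.residue_eq_zero_iff _).2 hm, TensorProduct.zero_tmul])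
  obtain ⟨s, hs⟩ : ∃ l, q ∘ₗ l = LinearMap.id :=
    ((Function.Exact.split_tfae hex hi hq).out 1 0 : (∃ l, l ∘ₗ i = LinearMap.id) ↔ ∃ l, q ∘ₗ l = LinearMap.id).1 ⟨r, hr⟩
  haveI : Module.Projective R Q := Module.Projective.of_split s q hs
  exact Module.free_of_flat_of_isLocalRing

theorem free_loc (M : Type u) [AddCommGroup M] [Module A M] [Module.Free A M] :
    Module.Free (Localization.AtPrime p) (LocalizedModule p.primeCompl M) :=
  Module.Free.of_basis ((Module.Free.chooseBasis A M).ofIsLocalizedModule (Localization.AtPrime p) p.primeCompl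
    (LocalizedModule.mkLinearMap p.primeCompl M))

theorem exact_loc {M N P : Type u} [AddCommGroup M] [Module A M] [AddCommGroup N] [Module A N]
    [AddCommGroup P] [Module A P] (g : M →ₗ[A] N) (h : N →ₗ[A] P) (e : Function.Exact g h) :
    Function.Exact (LocalizedModule.map p.primeCompl g) (LocalizedModule.map p.primeCompl h) :=
  LocalizedModule.map_exact p.primeCompl g h e

theorem charpoly_map_loc (M : Type u) [AddCommGroup M] [Module A M] [Module.Free A M] [Module.Finite A M]
    [Module.Free (Localization.AtPrime p) (LocalizedModule p.primeCompl M)]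
    (φ : M →ₗ[A] M) :
    (LocalizedModule.map p.primeCompl φ).charpoly = φ.charpoly.map (algebraMap A (Localization.AtPrime p)) := by
  classical
  let b := Module.Free.chooseBasis A M
  let bp := b.ofIsLocalizedModule (Localization.AtPrime p) p.primeCompl (LocalizedModule.mkLinearMap p.primeCompl M)
  rw [← LinearMap.charpoly_toMatrix φ b, ← LinearMap.charpoly_toMatrix _ bp, ← Matrix.charpoly_map]
  congr 1
  ext i j
  simp only [Matrix.map_apply, LinearMap.toMatrix_apply, bp, Module.Basis.ofIsLocalizedModule_apply,
    LocalizedModule.mkLinearMap_apply, LocalizedModule.map_mk]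
  exact Module.Basis.ofIsLocalizedModule_repr_apply (Localization.AtPrime p) p.primeCompl
    (LocalizedModule.mkLinearMap p.primeCompl M) b (φ (b j)) i

theorem ffr_finite : ∀ (n : ℕ) (M : Type u) [AddCommGroup M] [Module A M],
    FamCyc.HasFiniteFreeResolutionLE A n M → Module.Finite A M
  | 0, M, _, _, h => h.2
  | n + 1, M, _, _, ⟨k, f, hf, _⟩ => Module.Finite.of_surjective f hf

variable [IsNoetherianRing A]

theorem free_at_ass {x : A} (hx : p = (Submodule.span A {x}).annihilator) :
    ∀ (n : ℕ) (M : Type u) [AddCommGroup M] [Module A M],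
    FamCyc.HasFiniteFreeResolutionLE A n M →
      Module.Free (Localization.AtPrime p) (LocalizedModule p.primeCompl M)
  | 0, M, _, _, h => by
    haveI := h.1
    exact free_loc p M
  | n + 1, M, _, _, ⟨k, f, hf, hK⟩ => by
    haveI := free_at_ass hx n _ hK
    haveI := free_loc p (Fin k → A)
    have hann : ∀ a, a ∈ p ↔ a * x = 0 := fun a => by
      rw [hx, Submodule.mem_annihilator_span_singleton]; rfl
    have hinj := LocalizedModule.map_injective p.primeCompl _ (Submodule.injective_subtype (LinearMap.ker f))
    let I : LocalizedModule p.primeCompl (LinearMap.ker f) →ₗ[Localization.AtPrime p] LocalizedModule p.primeCompl (Fin k → A) :=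
      LocalizedModule.map p.primeCompl (LinearMap.ker f).subtype
    have hexl := exact_loc p _ _ (LinearMap.exact_subtype_ker_map f)
    refine free_of_depth_zero (R := Localization.AtPrime p) (K := LocalizedModule p.primeCompl (LinearMap.ker f))
      (F := LocalizedModule p.primeCompl (Fin k → A)) (Q := LocalizedModule p.primeCompl M) I
      (LocalizedModule.map p.primeCompl f) hinj
      (LocalizedModule.map_surjective _ _ hf) hexl
      (algebraMap A _ x) ?_ ?_
    · intro h0
      rw [IsLocalization.map_eq_zero_iff p.primeCompl] at h0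
      obtain ⟨s, hs⟩ := h0
      exact s.2 ((hann _).2 hs)
    · intro a ha
      obtain ⟨b, s, rfl⟩ := IsLocalization.exists_mk'_eq p.primeCompl a
      rw [IsLocalization.AtPrime.mk'_mem_maximal_iff (Localization.AtPrime p) p] at ha
      have h := IsLocalization.mk'_spec (Localization.AtPrime p) b s
      refine (IsLocalization.map_units (Localization.AtPrime p) s).mul_left_eq_zero.1 ?_
      rw [mul_right_comm, h, ← map_mul, (hann b).1 ha, map_zero]

theorem exists_num_den : ∀ (n : ℕ) (M : Type u) [AddCommGroup M] [Module A M] [Module.Finite A M],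
    FamCyc.HasFiniteFreeResolutionLE A n M → ∀ φ : M →ₗ[A] M, ∃ N D : A[X], N.Monic ∧ D.Monic ∧
      ∀ (p : Ideal A) [p.IsPrime] [Module.Free (Localization.AtPrime p) (LocalizedModule p.primeCompl M)],
        N.map (algebraMap A (Localization.AtPrime p)) =
          (LocalizedModule.map p.primeCompl φ).charpoly * D.map (algebraMap A (Localization.AtPrime p))
  | 0, M, _, _, _, h, φ => by
    haveI := h.1
    exact ⟨φ.charpoly, 1, φ.charpoly_monic, monic_one, fun p _ _ => by
      rw [charpoly_map_loc, Polynomial.map_one, mul_one]⟩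
  | n + 1, M, _, _, _, ⟨k, f, hf, hK⟩, φ => by
    obtain ⟨ψ, hψ⟩ := Module.projective_lifting_property f (φ ∘ₗ f) hf
    have hker : ∀ v ∈ LinearMap.ker f, ψ v ∈ LinearMap.ker f := fun v hv => by
      rw [LinearMap.mem_ker] at hv ⊢
      rw [← LinearMap.comp_apply, hψ, LinearMap.comp_apply, hv, map_zero]
    obtain ⟨N, D, hN, hD, hND⟩ := exists_num_den n _ hK (ψ.restrict hker)
    refine ⟨ψ.charpoly * D, N, ψ.charpoly_monic.mul hD, hN, fun p _ _ => ?_⟩
    haveI := free_loc p (Fin k → A)
    have hinj := LocalizedModule.map_injective p.primeCompl _ (Submodule.injective_subtype (LinearMap.ker f))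
    let I : LocalizedModule p.primeCompl (LinearMap.ker f) →ₗ[Localization.AtPrime p] LocalizedModule p.primeCompl (Fin k → A) :=
      LocalizedModule.map p.primeCompl (LinearMap.ker f).subtype
    have hexl := exact_loc p _ _ (LinearMap.exact_subtype_ker_map f)
    haveI := free_ker_of_free (R := Localization.AtPrime p) (K := LocalizedModule p.primeCompl (LinearMap.ker f))
      (F := LocalizedModule p.primeCompl (Fin k → A)) (Q := LocalizedModule p.primeCompl M) I
      (LocalizedModule.map p.primeCompl f) hinj
      (LocalizedModule.map_surjective _ _ hf) hexl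
    rw [Polynomial.map_mul, hND p, ← charpoly_map_loc,
      charpoly_exact (R := Localization.AtPrime p) (K := LocalizedModule p.primeCompl (LinearMap.ker f))
      (F := LocalizedModule p.primeCompl (Fin k → A)) (Q := LocalizedModule p.primeCompl M) I
      (LocalizedModule.map p.primeCompl f) hinj
      (LocalizedModule.map_surjective _ _ hf) hexl
      (LocalizedModule.map p.primeCompl (ψ.restrict hker)) _ (LocalizedModule.map p.primeCompl φ)
      (LinearMap.ext fun v => by
        induction v using LocalizedModule.induction_on with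
        | _ m s => simp [I, LocalizedModule.map_mk])
      (LinearMap.ext fun v => by
        induction v using LocalizedModule.induction_on with
        | _ m s =>
          simp only [LinearMap.comp_apply, LocalizedModule.map_mk]
          rw [← LinearMap.comp_apply, hψ]; rfl)]
    ring

omit [p.IsPrime] in
theorem eq_zero_of_forall_ass (r : A)
    (h : ∀ (p : Ideal A) [p.IsPrime], (∃ x : A, p = (Submodule.span A {x}).annihilator) →
      algebraMap A (Localization.AtPrime p) r = 0) : r = 0 := by
  by_contra hr
  obtain ⟨P, hP, hle⟩ := exists_le_isAssociatedPrime_of_isNoetherianRing A r hr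
  obtain ⟨hPp, x, hx⟩ := isAssociatedPrime_iff.1 hP
  haveI := hPp
  have := h P ⟨x, by rw [hx]; ext a; simp [Submodule.mem_colon_singleton, Submodule.mem_annihilator_span_singleton]⟩
  rw [IsLocalization.map_eq_zero_iff P.primeCompl] at this
  obtain ⟨s, hs⟩ := this
  exact s.2 (hle (by simp [Submodule.mem_colon_singleton, hs]))



/-- Let A be a Noetherian ring, M an A-module with a finite resolution by finite free modules, and φ an
endomorphism of M. Then there is a unique element of A (the determinant of φ) whose image in A_p is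
the determinant of the localized endomorphism φ_p of the free A_p-module M_p, for every prime p of A
at which M_p is free. -/
theorem result (A : Type u) [CommRing A] [IsNoetherianRing A]
    (M : Type u) [AddCommGroup M] [Module A M] (n : ℕ) (hM : FamCyc.HasFiniteFreeResolutionLE A n M)
    (φ : M →ₗ[A] M) :
    ∃! a : A, ∀ (p : Ideal A) [p.IsPrime],
      Module.Free (Localization.AtPrime p) (LocalizedModule p.primeCompl M) →
        algebraMap A (Localization.AtPrime p) a =
          LinearMap.det (LocalizedModule.map p.primeCompl φ) := by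
  haveI := ffr_finite n M hM
  obtain ⟨N, D, hN, hD, hND⟩ := exists_num_den n M hM φ
  have hrem : N %ₘ D = 0 := by
    ext j
    rw [coeff_zero]
    refine eq_zero_of_forall_ass _ fun p _ ⟨x, hx⟩ => ?_
    haveI := free_at_ass p hx n M hM
    rw [← coeff_map, map_modByMonic _ hD, hND p, (modByMonic_eq_zero_iff_dvd (hD.map _)).2 (dvd_mul_left _ _),
      coeff_zero]
  set q := N /ₘ D with hq
  have hNq : D * q = N := by simpa [hrem] using modByMonic_add_div N D
  have hqm : q.Monic := hD.of_mul_monic_left (hNq ▸ hN)
  have key : ∀ (p : Ideal A) [p.IsPrime], Module.Free (Localization.AtPrime p) (LocalizedModule p.primeCompl M) →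
      algebraMap A (Localization.AtPrime p) ((-1) ^ q.natDegree * q.coeff 0) =
        LinearMap.det (LocalizedModule.map p.primeCompl φ) := by
    intro p _ _
    have hc : (LocalizedModule.map p.primeCompl φ).charpoly = q.map (algebraMap A (Localization.AtPrime p)) := by
      have h := hND p
      rw [← hNq, Polynomial.map_mul, mul_comm] at h
      exact (hD.map _).isRegular.right h.symm
    rw [LinearMap.det_eq_sign_charpoly_coeff, ← LinearMap.charpoly_natDegree, hc, hqm.natDegree_map,
      coeff_map, map_mul, map_pow, map_neg, map_one]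
  refine ⟨_, key, fun b hb => sub_eq_zero.1 (eq_zero_of_forall_ass _ fun p _ ⟨x, hx⟩ => ?_)⟩
  haveI := free_at_ass p hx n M hM
  rw [map_sub, hb p inferInstance, key p inferInstance, sub_self]

end Groth.Agent.S14073
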