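import Groth.Statements.S14074
import Groth.Agent.Lib.TorSmooth9.Basic
import Groth.Agent.Lib.RelPCS8.SmoothAmp
-- import your own Groth.Agent.* helpers here

set_option autoImplicit false
open CategoryTheory AlgebraicGeometry
universe u
attribute [local instance] HasDerivedCategory.standard
open FamCyc

namespace Groth.Agent.S14074

/-- Let h : B ⟶ S be a smooth morphism, φ : X ⟶ B a morphism locally of finite type and F a
quasi-coherent O_X-module of pointwise finite tor dimension over S, i.e. at every point x of X the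
stalk F_x is, over the local ring of S below x, isomorphic in the derived category to a bounded
complex of flat modules. Then F has finite tor dimension over B pointwise in the same sense. -/
theorem result {X B S : Scheme.{u}} (h : B ⟶ S) [Smooth h]
    (φ : X ⟶ B) [LocallyOfFiniteType φ] (F : X.Modules) (hF : Coh.IsQCoh F)
    (hS : ∀ x : X, ∃ a b : ℤ,
      DerSch.HasTorAmplitudeAt (φ ≫ h) a b ((HomologicalComplex.single X.Modules (ComplexShape.up ℤ) 0).obj F) x) :
    ∀ x : X, ∃ a b : ℤ,
      DerSch.HasTorAmplitudeAt φ a b ((HomologicalComplex.single X.Modules (ComplexShape.up ℤ) 0).obj F) x := by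
  intro x
  obtain ⟨a, b, hab⟩ := hS x
  let y := φ.base x
  obtain ⟨V, hV, U, hU, hyU, e, hf⟩ := Smooth.exists_isStandardSmooth h y
  letI algU : Algebra Γ(B, U) (B.presheaf.stalk y) := B.presheaf.algebra_section_stalk ⟨y, hyU⟩
  haveI := hU.isLocalization_stalk ⟨y, hyU⟩
  letI algV : Algebra Γ(S, V) (S.presheaf.stalk (h.base y)) := S.presheaf.algebra_section_stalk ⟨h.base y, e hyU⟩
  haveI := hV.isLocalization_stalk ⟨h.base y, e hyU⟩
  obtain ⟨n, hn⟩ := TorSmooth9.exists_torDim_of_smooth_local (A' := S.presheaf.stalk (h.base y))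
    (B := B.presheaf.stalk y) (hV.primeIdealOf ⟨h.base y, e hyU⟩).asIdeal.primeCompl
    (hU.primeIdealOf ⟨y, hyU⟩).asIdeal.primeCompl (h.appLE V U e).hom hf (h.stalkMap y).hom (by
    rw [show algebraMap Γ(S, V) (S.presheaf.stalk (h.base y)) = (S.presheaf.germ V (h.base y) (e hyU)).hom from rfl,
      show algebraMap Γ(B, U) (B.presheaf.stalk y) = (B.presheaf.germ U y hyU).hom from rfl,
      ← CommRingCat.hom_comp, ← CommRingCat.hom_comp,
      Scheme.Hom.germ_stalkMap, Scheme.Hom.appLE, Category.assoc, TopCat.Presheaf.germ_res])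
  refine ⟨a - n, b, RelPCS8.SmoothTor.amplitude_of_restrict (h.stalkMap y).hom (Flat.stalkMap h y) n
    (fun M hM => ?_) _ a b ?_⟩
  · letI : Module (S.presheaf.stalk (h.base y)) M := Module.compHom M (h.stalkMap y).hom
    haveI : Module.Flat (S.presheaf.stalk (h.base y)) M := hM
    simpa using hn 0 M ((TorBal.flat_iff_hasTorDimLE_zero _).2 this)
  · exact RelPCS8.StalkTor.hasTorAmplitudeIn_congr (DerivedCategory.Q.mapIso
      ((NatIso.mapHomologicalComplex (RelPCS8.StalkTor.stalkCompIso φ h x) (ComplexShape.up ℤ)).app _) ≪≫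
      ((ModuleCat.restrictScalars.{u} (h.stalkMap y).hom).mapDerivedCategoryFactors.app
        ((DerSch.stalkCxOver φ x).obj _)).symm) hab

end Groth.Agent.S14074
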