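import Groth.Statements.S14076
import Groth.Agent.Lib.CondT.Equi

set_option autoImplicit false
open CategoryTheory AlgebraicGeometry
universe u
open FamCyc

namespace Groth.Agent.S14076

/-- Let f : X ⟶ S be locally of finite type and equidimensional at every point of X. Then every point x
of X lies on an irreducible component W of X, given its reduced subscheme structure, such that W ⟶ S
is equidimensional at x. -/
theorem result {X S : Scheme.{u}} (f : X ⟶ S) [LocallyOfFiniteType f]
    (h : ∀ x : X, EGA43.IsEquidimAt f x) (x : X) :
    ∃ W : TopologicalSpace.Closeds X, (W : Set X) ∈ irreducibleComponents (X : Type u) ∧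
      ∃ w : ↥((Scheme.IdealSheafData.vanishingIdeal W).subscheme),
        (Scheme.IdealSheafData.vanishingIdeal W).subschemeι.base w = x ∧
        EGA43.IsEquidimAt ((Scheme.IdealSheafData.vanishingIdeal W).subschemeι ≫ f) w := by
  exact CondT.condT_of_isEquidimAt f (h x)

end Groth.Agent.S14076
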