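import Groth.Statements.S14077
import Groth.Agent.Lib.FamCyc14.Main
import Groth.Agent.Lib.Descend.PointLocal

set_option autoImplicit false
open CategoryTheory CategoryTheory.Limits AlgebraicGeometry
universe u
open FamCyc

namespace Groth.Agent.S14077

section Aux
open FamCyc14

set_option backward.isDefEq.respectTransparency false
set_option linter.style.haveILetI false

theorem main {S X P : Scheme.{u}} (p : X ⟶ S) [LocallyOfFinitePresentation p] (q : P ⟶ X)
    [IsProper q] [Smooth q] [GeometricallyConnected q] (W : P.IdealSheafData) [Flat (W.subschemeι ≫ q ≫ p)]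
    [LocallyOfFinitePresentation (W.subschemeι ≫ q ≫ p)]
    (Z₀ : (pullback p S.nilradical.subschemeι).IdealSheafData)
    (m : pullback (q ≫ p) S.nilradical.subschemeι ⟶ pullback p S.nilradical.subschemeι)
    (hm₁ : m ≫ pullback.fst p S.nilradical.subschemeι = pullback.fst (q ≫ p) S.nilradical.subschemeι ≫ q)
    (hm₂ : m ≫ pullback.snd p S.nilradical.subschemeι = pullback.snd (q ≫ p) S.nilradical.subschemeι)
    (hW : W.comap (pullback.fst (q ≫ p) S.nilradical.subschemeι) = Z₀.comap m) :
    ∃! Z : X.IdealSheafData, Flat (Z.subschemeι ≫ p) ∧ LocallyOfFinitePresentation (Z.subschemeι ≫ p) ∧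
      Z.comap (pullback.fst p S.nilradical.subschemeι) = Z₀ ∧ Z.comap q = W := by
  have hloc : ∀ x : X, ∃ (A B : CommRingCat.{u}) (v : Spec A ⟶ S) (_ : IsOpenImmersion v) (j : Spec B ⟶ X)
      (_ : IsOpenImmersion j) (φ : A ⟶ B), j ≫ p = Spec.map φ ≫ v ∧ x ∈ Set.range j := by
    intro x
    obtain ⟨V, hV, hxV, -⟩ := exists_isAffineOpen_mem_and_subset (X := S) (x := p x) (U := ⊤) trivial
    obtain ⟨U, hU, hxU, hUV⟩ := exists_isAffineOpen_mem_and_subset (X := X) (x := x) (U := p ⁻¹ᵁ V) hxV
    refine ⟨_, _, hV.fromSpec, inferInstance, hU.fromSpec, inferInstance, p.appLE V U hUV, ?_, ?_⟩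
    · exact (IsAffineOpen.SpecMap_appLE_fromSpec p hV hU hUV).symm
    · rw [hU.range_fromSpec]
      exact hxU
  choose A B v hv j hj φ hφ hx using hloc
  choose I hI hIW using fun x => exists_local_ideal p q W Z₀ m hm₁ hm₂ hW (v x) (j x) (φ x) (hφ x)
  let c : X.OpenCover := Scheme.Cover.mkOfCovers X (fun x => Spec (B x)) j
    (fun x => ⟨x, hx x⟩) hj
  have hfst : ∀ {T : Scheme.{u}} (z : T ⟶ P) (x : X) (y : T ⟶ Spec (B x)) (_ : z ≫ q = y ≫ j x),
      W.comap z = (FSch.idealSpec (B x) (I x)).comap y := by
    intro T z x y hzy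
    rw [← pullback.lift_fst z y hzy, Scheme.IdealSheafData.comap_comp, ← hIW x, ← Scheme.IdealSheafData.comap_comp,
      pullback.lift_snd]
  have hagree : W.comap (pullback.fst q q) = W.comap (pullback.snd q q) := by
    refine GrpQuot.SubDesc.ext_openCover (c.pullback₁ (pullback.fst q q ≫ q)) fun x => ?_
    let z := pullback.fst (pullback.fst q q ≫ q) (j x)
    let y := pullback.snd (pullback.fst q q ≫ q) (j x)
    show (W.comap (pullback.fst q q)).comap z = (W.comap (pullback.snd q q)).comap z
    rw [← Scheme.IdealSheafData.comap_comp, ← Scheme.IdealSheafData.comap_comp,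
      hfst (z ≫ pullback.fst q q) x y (by rw [Category.assoc]; exact pullback.condition),
      hfst (z ≫ pullback.snd q q) x y (by rw [Category.assoc, ← pullback.condition]; exact pullback.condition)]
  haveI : QuasiCompact q := inferInstance
  have hg : Presieve.ofArrows (fun _ : PUnit.{u + 1} => P) (fun _ => q) ∈ Scheme.fpqcPrecoverage X := by
    rw [Presieve.ofArrows_pUnit]
    exact Scheme.fppfPrecoverage_le_fpqcPrecoverage _ q.singleton_mem_fppfPrecoverage
  obtain ⟨Z, hZ, huniq⟩ := IdealDesc12.existsUnique_of_fpqc (fun _ : PUnit.{u + 1} => q) (fun _ => W)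
    (fun _ _ => hagree) hg
  have hZq : Z.comap q = W := hZ PUnit.unit
  have hsq : IsPullback (pullback.fst (q ≫ p) S.nilradical.subschemeι) m q
      (pullback.fst p S.nilradical.subschemeι) := by
    refine IsPullback.of_bot ?_ hm₁.symm (IsPullback.of_hasPullback p S.nilradical.subschemeι)
    rw [hm₂]
    exact IsPullback.of_hasPullback (q ≫ p) S.nilradical.subschemeι
  haveI : Flat m := MorphismProperty.of_isPullback hsq inferInstance
  haveI : Surjective m := MorphismProperty.of_isPullback hsq inferInstance
  have hZ₀ : Z.comap (pullback.fst p S.nilradical.subschemeι) = Z₀ := by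
    refine GrpQuot.SubDesc.comap_injective m ?_
    show (Z.comap _).comap m = Z₀.comap m
    rw [← Scheme.IdealSheafData.comap_comp, hm₁, Scheme.IdealSheafData.comap_comp, hZq, hW]
  let r := (Z.comapIso q).hom ≫ pullback.snd q Z.subschemeι
  have hr : r ≫ Z.subschemeι = (Z.comap q).subschemeι ≫ q := by
    rw [← Z.comapIso_hom_fst q, Category.assoc, Category.assoc, pullback.condition]
  have hflat : Flat (Z.subschemeι ≫ p) := by
    haveI : Flat (r ≫ Z.subschemeι ≫ p) := by
      rw [← Category.assoc r, hr, Category.assoc, hZq]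
      infer_instance
    refine Flat.of_stalkMap _ fun z => ?_
    obtain ⟨w, rfl⟩ := r.surjective z
    exact Descend.flat_stalkMap_of_comp r _ w (Flat.stalkMap r w) (Flat.stalkMap (r ≫ Z.subschemeι ≫ p) w)
  have hlfp : LocallyOfFinitePresentation (Z.subschemeι ≫ p) := by
    refine (IsZariskiLocalAtSource.iff_of_openCover (P := @LocallyOfFinitePresentation)
      (c.pullback₁ Z.subschemeι)).2 fun x => ?_
    show LocallyOfFinitePresentation (pullback.fst Z.subschemeι (j x) ≫ Z.subschemeι ≫ p)
    haveI : Surjective (pullback.snd q (j x)) := inferInstance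
    have hJ : Z.comap (j x) = FSch.idealSpec (B x) (I x) := by
      refine GrpQuot.SubDesc.comap_injective (pullback.snd q (j x)) ?_
      show (Z.comap (j x)).comap (pullback.snd q (j x)) = (FSch.idealSpec (B x) (I x)).comap (pullback.snd q (j x))
      rw [hIW x, ← hZq, ← Scheme.IdealSheafData.comap_comp, ← Scheme.IdealSheafData.comap_comp, pullback.condition]
    obtain ⟨e, he, hh⟩ := exists_iso (B x) (I x) (Z.comap (j x)) (by rw [hJ, idl_idealSpec])
    let E := e ≫ (Z.comapIso (j x)).hom ≫ (pullbackSymmetry (j x) Z.subschemeι).hom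
    haveI : IsIso E := inferInstance
    rw [← MorphismProperty.cancel_left_of_respectsIso @LocallyOfFinitePresentation E]
    have hE : E ≫ pullback.fst Z.subschemeι (j x) ≫ Z.subschemeι ≫ p =
        Spec.map (φ x ≫ CommRingCat.ofHom (Ideal.Quotient.mk (I x))) ≫ v x := by
      rw [pullback.condition_assoc, hφ x, Spec.map_comp, Category.assoc, ← hh, ← Z.comapIso_hom_fst (j x)]
      simp only [E, Category.assoc, pullbackSymmetry_hom_comp_snd_assoc]
    rw [hE]
    haveI : LocallyOfFinitePresentation (Spec.map (φ x ≫ CommRingCat.ofHom (Ideal.Quotient.mk (I x)))) := by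
      haveI : LocallyOfFinitePresentation (Spec.map (φ x) ≫ v x) := by
        rw [← hφ x]
        infer_instance
      refine (LocallyOfFinitePresentation.SpecMap_iff _).2 (RingHom.FinitePresentation.comp
        (RingHom.FinitePresentation.of_surjective _ Ideal.Quotient.mk_surjective ?_)
        ((LocallyOfFinitePresentation.SpecMap_iff _).1 (SchBasic.locallyOfFinitePresentation_of_comp _ (v x))))
      exact (Ideal.mk_ker (I := I x)).symm ▸ hI x
    infer_instance
  exact ⟨Z, ⟨hflat, hlfp, hZ₀, hZq⟩, fun Z' hZ' => huniq Z' fun _ => hZ'.2.2.2⟩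

end Aux


/-- Let p : X ⟶ S be flat and locally of finite presentation and g : G ⟶ S proper and smooth with
geometrically connected fibres. Let S₀ ⟶ S be the closed subscheme defined by the nilradical, X₀ = X
×_S S₀, and Z₀ a closed subscheme of X₀, locally of finite presentation and flat over S₀. Let W be a
closed subscheme of X ×_S G, flat and locally of finite presentation over G, whose preimage in (X
×_S G) ×_S S₀ coincides with the preimage of Z₀. Then there is exactly one closed subscheme Z of X,
flat and locally of finite presentation over S, whose preimage in X₀ is Z₀ and whose preimage in X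
×_S G is W. (The published statement allows locally closed subschemes and asks W ⟶ G to be flat and
finitely presented only over a schematically dense open subset containing all points of relative
codimension one over Z₀; this row states the case where that open subset is all of W and the
subschemes are closed.) -/
theorem result {S X G : Scheme.{u}}
    (p : X ⟶ S) [Flat p] [LocallyOfFinitePresentation p]
    (g : G ⟶ S) [IsProper g] [Smooth g] [GeometricallyConnected g]
    (Z₀ : (pullback p S.nilradical.subschemeι).IdealSheafData)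
    [Flat (Z₀.subschemeι ≫ pullback.snd p S.nilradical.subschemeι)]
    [LocallyOfFinitePresentation (Z₀.subschemeι ≫ pullback.snd p S.nilradical.subschemeι)]
    (W : (pullback p g).IdealSheafData)
    [Flat (W.subschemeι ≫ pullback.snd p g)] [LocallyOfFinitePresentation (W.subschemeι ≫ pullback.snd p g)]
    (hW : W.comap (pullback.fst (pullback.fst p g ≫ p) S.nilradical.subschemeι) =
      Z₀.comap (pullback.map (pullback.fst p g ≫ p) S.nilradical.subschemeι p S.nilradical.subschemeι
        (pullback.fst p g) (𝟙 _) (𝟙 S) (Category.comp_id _)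
        ((Category.comp_id _).trans (Category.id_comp _).symm))) :
    ∃! Z : X.IdealSheafData, Flat (Z.subschemeι ≫ p) ∧ LocallyOfFinitePresentation (Z.subschemeι ≫ p) ∧
      Z.comap (pullback.fst p S.nilradical.subschemeι) = Z₀ ∧ Z.comap (pullback.fst p g) = W := by
  have hc := pullback.condition (f := p) (g := g)
  haveI : Flat (W.subschemeι ≫ pullback.fst p g ≫ p) := by
    rw [hc, ← Category.assoc]
    infer_instance
  haveI : LocallyOfFinitePresentation (W.subschemeι ≫ pullback.fst p g ≫ p) := by
    rw [hc, ← Category.assoc]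
    infer_instance
  exact main p (pullback.fst p g) W Z₀ _ (pullback.lift_fst _ _ _)
    ((pullback.lift_snd _ _ _).trans (Category.comp_id _)) hW

end Groth.Agent.S14077
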