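import Groth.Statements.S14078
import Groth.Agent.Lib.EtNhd13.Basic
-- import your own Groth.Agent.* helpers here

set_option autoImplicit false
set_option linter.style.haveILetI false
set_option backward.isDefEq.respectTransparency false
set_option backward.isDefEq.respectTransparency.types false
open CategoryTheory CategoryTheory.Limits AlgebraicGeometry
universe u
open FamCyc

namespace Groth.Agent.S14078

theorem isIso_residueFieldMap' {T S : Scheme.{u}} (τ : T ⟶ S) [IsPreimmersion τ]
    (t : T) : IsIso (τ.residueFieldMap t) := by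
  rw [ConcreteCategory.isIso_iff_bijective]
  refine ⟨(τ.residueFieldMap t).hom.injective, fun x => ?_⟩
  obtain ⟨x, rfl⟩ := T.residue_surjective t x
  obtain ⟨y, rfl⟩ := τ.stalkMap_surjective t x
  exact ⟨S.residue _ y, congrArg (fun m => m y) (Scheme.residue_residueFieldMap τ t)⟩

/-- Let f : X ⟶ S be a morphism of schemes locally of finite type, i : Z ⟶ X an immersion such that Z ⟶
S is locally quasi-finite, and z a point of Z. Then there are an étale morphism g : T ⟶ S and an
open subscheme U of X ×_S T such that the preimage U ×_X Z of Z in U is finite over T and contains a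
point u over z whose residue field extension κ(z) → κ(u) is an isomorphism, u being moreover the
only point of U ×_X Z in its fibre over T. (The published statement covers algebraic spaces X, with
U ⟶ X ×_S T étale in general and an open subspace when X is a scheme; this row is the scheme case.) -/
theorem result {Z X S : Scheme.{u}} (f : X ⟶ S)
    [LocallyOfFiniteType f] (i : Z ⟶ X) [IsImmersion i] [LocallyQuasiFinite (i ≫ f)] (z : Z) :
    ∃ (T : Scheme.{u}) (g : T ⟶ S) (U : (pullback f g).Opens)
      (u : ↥(pullback (U.ι ≫ pullback.fst f g) i)),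
      Etale g ∧
      IsFinite (pullback.fst (U.ι ≫ pullback.fst f g) i ≫ U.ι ≫ pullback.snd f g) ∧
      (pullback.snd (U.ι ≫ pullback.fst f g) i).base u = z ∧
      IsIso ((pullback.snd (U.ι ≫ pullback.fst f g) i).residueFieldMap u) ∧
      ∀ u' : ↥(pullback (U.ι ≫ pullback.fst f g) i),
        (pullback.fst (U.ι ≫ pullback.fst f g) i ≫ U.ι ≫ pullback.snd f g).base u' =
          (pullback.fst (U.ι ≫ pullback.fst f g) i ≫ U.ι ≫ pullback.snd f g).base u → u' = u := by
  obtain ⟨T, g, V, w, hg, hfin, hw, hwV, huniq⟩ :=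
    Groth.Agent.EtNhd13.exists_nhd (i ≫ f) z ((i ≫ f).quasiFiniteAt z)
  let j : pullback (i ≫ f) g ⟶ pullback f g :=
    pullback.map _ _ _ _ i (𝟙 _) (𝟙 _) (by simp) (by simp)
  have hj : IsPullback j (pullback.fst (i ≫ f) g) (pullback.fst f g) i := by
    refine (IsPullback.of_bot ?_ (pullback.lift_fst _ _ _).symm (IsPullback.of_hasPullback f g)).flip
    rw [show j ≫ pullback.snd f g = pullback.snd (i ≫ f) g by simp [j]]
    exact IsPullback.of_hasPullback (i ≫ f) g
  haveI : IsImmersion j := MorphismProperty.of_isPullback hj.flip ‹IsImmersion i›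
  obtain ⟨U₀, hU₀, hU₀V⟩ := j.isEmbedding.isInducing.isOpen_iff.1 V.isOpen
  let U : (pullback f g).Opens := ⟨U₀, hU₀⟩
  have hVU : j ⁻¹ᵁ U = V := TopologicalSpace.Opens.ext hU₀V
  subst hVU
  have hsq : IsPullback (j ∣_ U) ((j ⁻¹ᵁ U).ι ≫ pullback.fst (i ≫ f) g) (U.ι ≫ pullback.fst f g) i :=
    (isPullback_morphismRestrict j U).paste_vert hj
  let e := hsq.isoPullback
  have hcomm : e.hom ≫ (pullback.fst (U.ι ≫ pullback.fst f g) i ≫ U.ι ≫ pullback.snd f g) =
      (j ⁻¹ᵁ U).ι ≫ pullback.snd (i ≫ f) g := by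
    rw [IsPullback.isoPullback_hom_fst_assoc, morphismRestrict_ι_assoc]
    simp [j]
  have hsnd : e.hom ≫ pullback.snd (U.ι ≫ pullback.fst f g) i = (j ⁻¹ᵁ U).ι ≫ pullback.fst (i ≫ f) g :=
    hsq.isoPullback_hom_snd
  let pt := IsLocalRing.closedPoint (Z.residueField z)
  have hr : Set.range w ⊆ Set.range (j ⁻¹ᵁ U).ι := by
    rintro _ ⟨q, rfl⟩
    rw [Scheme.Opens.range_ι, Subsingleton.elim (α := PrimeSpectrum (Z.residueField z)) q pt]
    exact hwV
  let w' := IsOpenImmersion.lift (j ⁻¹ᵁ U).ι w hr ≫ e.hom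
  have hw's : w' ≫ pullback.snd (U.ι ≫ pullback.fst f g) i = Z.fromSpecResidueField z := by
    simp only [w', Category.assoc, hsnd, IsOpenImmersion.lift_fac_assoc, hw]
  refine ⟨T, g, U, w' pt, hg, ?_, ?_, ?_, fun u' hu' => ?_⟩
  · exact (MorphismProperty.cancel_left_of_respectsIso @IsFinite e.hom _).1 (hcomm ▸ hfin)
  · exact (Scheme.Hom.comp_apply w' _ pt).symm.trans
      ((congrArg (fun m : Spec (Z.residueField z) ⟶ Z => m pt) hw's).trans (Scheme.fromSpecResidueField_apply z _))
  · haveI : IsIso ((Z.fromSpecResidueField z).residueFieldMap pt) :=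
      isIso_residueFieldMap' (Z.fromSpecResidueField z) pt
    have h1 : IsIso ((w' ≫ pullback.snd (U.ι ≫ pullback.fst f g) i).residueFieldMap pt) := by
      rw [Scheme.Hom.residueFieldMap_congr hw's]; infer_instance
    rw [Scheme.residueFieldMap_comp] at h1
    haveI := h1
    haveI : Mono (w'.residueFieldMap pt) := ConcreteCategory.mono_of_injective _ (RingHom.injective _)
    haveI : IsSplitEpi (w'.residueFieldMap pt) := IsSplitEpi.mk'
      ⟨inv ((pullback.snd (U.ι ≫ pullback.fst f g) i).residueFieldMap (w' pt) ≫ w'.residueFieldMap pt) ≫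
        (pullback.snd (U.ι ≫ pullback.fst f g) i).residueFieldMap (w' pt), by rw [Category.assoc, IsIso.inv_hom_id]⟩
    haveI : IsIso (w'.residueFieldMap pt) := isIso_of_mono_of_isSplitEpi _
    exact IsIso.of_isIso_comp_right _ (w'.residueFieldMap pt)
  · obtain ⟨v, rfl⟩ := e.hom.surjective u'
    rw [← Scheme.Hom.comp_apply, hcomm, ← Scheme.Hom.comp_apply w'] at hu'
    simp only [w', Category.assoc, hcomm, IsOpenImmersion.lift_fac_assoc] at hu'
    rw [Scheme.Hom.comp_apply, Scheme.Hom.comp_apply] at hu'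
    have h2 : v.1 = w pt := huniq v.1 v.2 hu'
    show e.hom v = _
    rw [show v = IsOpenImmersion.lift (j ⁻¹ᵁ U).ι w hr pt from Subtype.ext (h2.trans (congrArg (fun m : Spec (Z.residueField z) ⟶ pullback (i ≫ f) g => m pt)
        (IsOpenImmersion.lift_fac (j ⁻¹ᵁ U).ι w hr)).symm)]
    exact (Scheme.Hom.comp_apply (IsOpenImmersion.lift (j ⁻¹ᵁ U).ι w hr) e.hom _).symm

end Groth.Agent.S14078
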