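import Groth.Statements.S14080
import Mathlib

set_option autoImplicit false
universe u
open ArSing

namespace Groth.Agent.S14080

section
open PowerSeries
variable {k : Type u} [Field k]

theorem aux_cc (ψ : PowerSeries k →+* PowerSeries k) (hC : ∀ c, ψ (C c) = C c) :
    constantCoeff (ψ X) = 0 := by
  by_contra h
  have hu : IsUnit (X - C (constantCoeff (ψ X)) : PowerSeries k) := by
    rw [PowerSeries.isUnit_iff_constantCoeff]
    simp [h]
  have := hu.map ψ
  rw [map_sub, hC, PowerSeries.isUnit_iff_constantCoeff] at this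
  simp at this

theorem aux_ext (ψ₁ ψ₂ : PowerSeries k →+* PowerSeries k) (hC₁ : ∀ c, ψ₁ (C c) = C c)
    (hC₂ : ∀ c, ψ₂ (C c) = C c) (hX : ψ₁ X = ψ₂ X) : ψ₁ = ψ₂ := by
  have hpoly : ∀ q : Polynomial k, ψ₁ (q : PowerSeries k) = ψ₂ (q : PowerSeries k) := by
    intro q
    induction q using Polynomial.induction_on with
    | C c => rw [Polynomial.coe_C, hC₁, hC₂]
    | add p q hp hq => simp [hp, hq]
    | monomial n c _ => simp [hC₁, hC₂, hX]
  refine RingHom.ext fun f => ?_
  refine PowerSeries.ext fun n => ?_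
  obtain ⟨g, hg⟩ : X ^ (n + 1) ∣ f - ((trunc (n + 1) f : Polynomial k) : PowerSeries k) := by
    rw [X_pow_dvd_iff]
    intro m hm
    simp [coeff_trunc, hm]
  have key : ∀ ψ : PowerSeries k →+* PowerSeries k, (∀ c, ψ (C c) = C c) →
      coeff n (ψ f) = coeff n (ψ ((trunc (n + 1) f : Polynomial k) : PowerSeries k)) := by
    intro ψ hψ
    obtain ⟨w, hw⟩ := X_dvd_iff.2 (aux_cc ψ hψ)
    conv_lhs => rw [eq_add_of_sub_eq hg, map_add, map_add, map_mul, map_pow, hw, mul_pow, mul_assoc, coeff_X_pow_mul', if_neg (by omega : ¬ n + 1 ≤ n), zero_add]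
  rw [key ψ₁ hC₁, key ψ₂ hC₂, hpoly]

end

/-- Let k be a field in which 2 is invertible and σ an involutive k-algebra automorphism of the power
series ring k[[t]], with ξ the coefficient of t in σ(t). Then ξ^2 = 1, the k-algebra endomorphism φ
with φ(t) = (t + ξ σ(t))/2 is an automorphism, and φ⁻¹ σ φ is the automorphism t ↦ ξ t. (The
published statement is over an algebraically closed field of characteristic prime to 2; only the
invertibility of 2 is used, so any field with 2 ≠ 0 is allowed here.) -/
theorem result (k : Type u) [Field k] (h2 : (2 : k) ≠ 0)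
    (σ : PowerSeries k ≃ₐ[k] PowerSeries k) (hσ : ∀ f, σ (σ f) = f) :
    (PowerSeries.coeff 1 (σ PowerSeries.X)) ^ 2 = 1 ∧
    ∃ φ : PowerSeries k ≃ₐ[k] PowerSeries k,
      φ PowerSeries.X = PowerSeries.C (2⁻¹ : k) *
        (PowerSeries.X + PowerSeries.C (PowerSeries.coeff 1 (σ PowerSeries.X)) * σ PowerSeries.X) ∧
      ∀ f, φ.symm (σ (φ f)) = PowerSeries.rescale (PowerSeries.coeff 1 (σ PowerSeries.X)) f := by
  set ξ := PowerSeries.coeff 1 (σ PowerSeries.X) with hξ
  have hC : ∀ (e : PowerSeries k →ₐ[k] PowerSeries k) c, e (PowerSeries.C c) = PowerSeries.C c := fun e c => e.commutes c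
  have hσC : ∀ c, σ (PowerSeries.C c) = PowerSeries.C c := fun c => σ.commutes c
  have h0 : PowerSeries.constantCoeff (σ PowerSeries.X) = 0 := aux_cc (σ : PowerSeries k →+* PowerSeries k) hσC
  obtain ⟨w, hw⟩ := PowerSeries.X_dvd_iff.2 h0
  have hξw : ξ = PowerSeries.constantCoeff w := by
    rw [hξ, hw]
    simp
  have hσcc : ∀ f, PowerSeries.constantCoeff (σ f) = PowerSeries.constantCoeff f := by
    intro f
    obtain ⟨g, hg⟩ : PowerSeries.X ∣ f - PowerSeries.C (PowerSeries.constantCoeff f) := by simp [PowerSeries.X_dvd_iff]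
    conv_lhs => rw [eq_add_of_sub_eq hg, map_add, map_mul, hσC, map_add, map_mul, h0, zero_mul, zero_add]
    simp
  have hsq : ξ ^ 2 = 1 := by
    have h := congrArg (PowerSeries.coeff 1) (hσ PowerSeries.X)
    rw [hw, map_mul, hw, mul_assoc] at h
    simp [hσcc, ← hξw] at h
    rw [pow_two]; exact h
  refine ⟨hsq, ?_⟩
  set u : PowerSeries k := PowerSeries.C (2⁻¹ : k) * (PowerSeries.X + PowerSeries.C ξ * σ PowerSeries.X) with hu
  have hu0 : PowerSeries.constantCoeff u = 0 := by simp [hu, h0]
  have hu1 : PowerSeries.coeff 1 u = 1 := by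
    simp only [hu, PowerSeries.coeff_C_mul, map_add, PowerSeries.coeff_one_X, ← hξ]
    rw [← pow_two, hsq]
    field_simp
    norm_num
  let : Invertible (PowerSeries.coeff 1 u) := invertibleOfNonzero (by rw [hu1]; exact one_ne_zero)
  have hsu : PowerSeries.HasSubst u := PowerSeries.HasSubst.of_constantCoeff_zero' hu0
  have hsv : PowerSeries.HasSubst u.substInv := PowerSeries.HasSubst.substInv u
  have hsubC : ∀ {a : PowerSeries k} (ha : PowerSeries.HasSubst a) c, PowerSeries.substAlgHom ha (PowerSeries.C c : PowerSeries k) = PowerSeries.C c := fun ha c => (PowerSeries.substAlgHom ha).commutes c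
  let φ : PowerSeries k ≃ₐ[k] PowerSeries k := AlgEquiv.ofAlgHom (PowerSeries.substAlgHom hsu) (PowerSeries.substAlgHom hsv)
    (by
      refine AlgHom.coe_ringHom_injective (aux_ext _ _ ?_ (fun _ => rfl) ?_)
      · intro c; exact ((PowerSeries.substAlgHom hsu).comp (PowerSeries.substAlgHom hsv)).commutes c
      · show PowerSeries.substAlgHom hsu (PowerSeries.substAlgHom hsv PowerSeries.X) = PowerSeries.X
        rw [PowerSeries.substAlgHom_X, PowerSeries.coe_substAlgHom]
        exact PowerSeries.subst_substInv_left u hu0)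
    (by
      refine AlgHom.coe_ringHom_injective (aux_ext _ _ ?_ (fun _ => rfl) ?_)
      · intro c; exact ((PowerSeries.substAlgHom hsv).comp (PowerSeries.substAlgHom hsu)).commutes c
      · show PowerSeries.substAlgHom hsv (PowerSeries.substAlgHom hsu PowerSeries.X) = PowerSeries.X
        rw [PowerSeries.substAlgHom_X, PowerSeries.coe_substAlgHom]
        exact PowerSeries.subst_substInv_right u hu0)
  have hφX : φ PowerSeries.X = u := PowerSeries.substAlgHom_X hsu
  refine ⟨φ, hφX, fun f => ?_⟩
  have hcomp := aux_ext ((φ.trans (σ.trans φ.symm) : PowerSeries k ≃ₐ[k] PowerSeries k) : PowerSeries k →+* PowerSeries k) (PowerSeries.rescale ξ)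
    (fun c => AlgEquiv.commutes _ c) (fun c => by
      ext n
      rw [PowerSeries.coeff_rescale, PowerSeries.coeff_C]
      split_ifs with h <;> simp [h]) (by
      show φ.symm (σ (φ PowerSeries.X)) = _
      have hc : φ (PowerSeries.C ξ * PowerSeries.X) = PowerSeries.C ξ * u := by
        rw [map_mul, hφX]; congr 1; exact φ.commutes ξ
      rw [PowerSeries.rescale_X, AlgEquiv.symm_apply_eq, hc, hφX, hu]
      simp only [map_mul, map_add, hσC, hσ]
      have : PowerSeries.C ξ * PowerSeries.C ξ = (1 : PowerSeries k) := by rw [← map_mul, ← pow_two, hsq, map_one]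
      linear_combination (- PowerSeries.C (2⁻¹ : k) * σ PowerSeries.X) * this)
  exact RingHom.congr_fun hcomp f

end Groth.Agent.S14080
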