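import Groth.Statements.S14081
import Groth.Agent.Lib.ArSing29.Roots
import Groth.Agent.Lib.ArSing29.Even
import Groth.Agent.S14080

set_option autoImplicit false
universe u
open ArSing

namespace Groth.Agent.S14081

/-- Over an algebraically closed field k of characteristic prime to 2 and to r+1, with r even, every
non-trivial k-algebra involution σ of A_r = k[[x,y]]/(y^2 - x^(r+1)) is conjugate, by a k-algebra
automorphism φ of A_r, to the involution x ↦ x, y ↦ -y (that is, φ⁻¹σφ fixes the class of x and
negates the class of y). -/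
theorem result (k : Type u) [Field k] [IsAlgClosed k] (r : ℕ)
    (h2 : (2 : k) ≠ 0) (hr : ((r + 1 : ℕ) : k) ≠ 0) (hev : Even r)
    (σ : ArSing.ring k r ≃ₐ[k] ArSing.ring k r) (hσ : ∀ a, σ (σ a) = a) (hne : σ ≠ AlgEquiv.refl) :
    ∃ φ : ArSing.ring k r ≃ₐ[k] ArSing.ring k r,
      φ.symm (σ (φ (ArSing.x k r))) = ArSing.x k r ∧
      φ.symm (σ (φ (ArSing.y k r))) = -ArSing.y k r := by
  rcases Nat.eq_zero_or_pos r with rfl | hpos
  · obtain ⟨E, hEx, hEy⟩ : ∃ E : ring k 0 ≃ₐ[k] PowerSeries k,
        E (x k 0) = PowerSeries.X ^ 2 ∧ E (y k 0) = PowerSeries.X := by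
      let ev : ring k 0 →ₐ[k] PowerSeries k :=
        { toFun := fun a => ArSing29.sq2 k (ArSing29.p1 a) + PowerSeries.X * ArSing29.sq2 k (ArSing29.p2 a)
          map_one' := by
            rw [show (1 : ring k 0) = algebraMap k _ 1 from (map_one _).symm, (ArSing29.p_algebraMap 1).1, (ArSing29.p_algebraMap 1).2]
            simp
          map_zero' := by
            rw [show (0 : ring k 0) = algebraMap k _ 0 from (map_zero _).symm, (ArSing29.p_algebraMap 0).1, (ArSing29.p_algebraMap 0).2]
            simp
          map_add' := fun a b => by simp only [(ArSing29.p_add a b).1, (ArSing29.p_add a b).2, map_add]; ring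
          map_mul' := fun a b => by
            simp only [(ArSing29.p_mul a b).1, (ArSing29.p_mul a b).2, map_add, map_mul, map_pow, PowerSeries.expand_X]
            ring
          commutes' := fun c => by
            show ArSing29.sq2 k (ArSing29.p1 (algebraMap k (ring k 0) c)) + _ = _
            rw [(ArSing29.p_algebraMap c).1, (ArSing29.p_algebraMap c).2, map_zero, mul_zero, add_zero, PowerSeries.expand_C]
            rfl }
      have hb : Function.Bijective ev := by
        refine ⟨fun a b h => ?_, fun f => ?_⟩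
        · obtain ⟨h1, h2⟩ := ArSing29.split_inj k h
          rw [← ArSing29.p_spec a, ← ArSing29.p_spec b, h1, h2]
        · obtain ⟨a, b, h⟩ := ArSing29.exists_split k f
          refine ⟨xMap k 0 a + xMap k 0 b * y k 0, ?_⟩
          show ArSing29.sq2 k (ArSing29.p1 _) + _ * ArSing29.sq2 k (ArSing29.p2 _) = f
          rw [(ArSing29.p_rep a b).1, (ArSing29.p_rep a b).2, h]
      refine ⟨AlgEquiv.ofBijective ev hb, ?_, ?_⟩
      · show ArSing29.sq2 k (ArSing29.p1 (x k 0)) + _ * ArSing29.sq2 k (ArSing29.p2 (x k 0)) = _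
        rw [ArSing29.p_x.1, ArSing29.p_x.2, map_zero, mul_zero, add_zero, PowerSeries.expand_X]
      · show ArSing29.sq2 k (ArSing29.p1 (y k 0)) + _ * ArSing29.sq2 k (ArSing29.p2 (y k 0)) = _
        rw [ArSing29.p_y.1, ArSing29.p_y.2, map_zero, map_one, zero_add, mul_one]
    let τ : PowerSeries k ≃ₐ[k] PowerSeries k := (E.symm.trans σ).trans E
    obtain ⟨hsq, ψ, -, hψ⟩ := S14080.result k h2 τ (fun f => by simp [τ, hσ])
    rcases sq_eq_one_iff.1 hsq with hξ | hξ
    · exfalso
      refine hne (AlgEquiv.ext fun c => ?_)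
      have := hψ (ψ.symm (E c))
      rw [hξ, PowerSeries.rescale_one, AlgEquiv.apply_symm_apply] at this
      simpa [τ] using congrArg ψ this
    · refine ⟨(E.trans ψ).trans E.symm, ?_, ?_⟩
      · have := hψ (E (x k 0))
        rw [hξ, hEx, map_pow (PowerSeries.rescale (-1 : k)), PowerSeries.rescale_X] at this
        apply E.injective
        simp only [AlgEquiv.symm_trans_apply, AlgEquiv.trans_apply, AlgEquiv.apply_symm_apply, AlgEquiv.symm_symm]
        rw [hEx]
        simpa [τ, mul_pow] using this
      · have := hψ (E (y k 0))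
        rw [hξ, hEy, PowerSeries.rescale_X] at this
        apply E.injective
        simp only [AlgEquiv.symm_trans_apply, AlgEquiv.trans_apply, AlgEquiv.apply_symm_apply, AlgEquiv.symm_symm]
        rw [map_neg, hEy]
        simpa [τ] using this
  · obtain ⟨φ, α, δ, e1, -, e3, hid, hX, hY⟩ := ArSing29.exists_conj h2 (by obtain ⟨l, hl⟩ := hev; omega) σ hσ hne
    have ha : α = 1 := by
      obtain ⟨l, rfl⟩ := hev
      rw [show l + l + 1 = 2 * l + 1 by ring, pow_succ, pow_mul, e1, one_pow, one_mul] at e3
      exact e3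
    rw [ha, map_one, one_mul] at hX
    rw [hid ha, map_neg, map_one] at hY
    exact ⟨φ, hX, hY.trans (by ring)⟩

end Groth.Agent.S14081
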