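import Groth.Statements.S14083
import Groth.Agent.Lib.ArSing29.Auto
import Groth.Agent.Lib.ArSing29.Node

set_option autoImplicit false
set_option maxHeartbeats 400000
universe u
open ArSing

namespace Groth.Agent.S14083

open ArSing29 in
theorem branch_lin {k : Type u} [Field k] (a : ring k 1) :
    PowerSeries.coeff 1 (brP k a) = lx a + ly a ∧ PowerSeries.coeff 1 (brM k a) = lx a - ly a := by
  obtain ⟨f, g, rfl⟩ := exists_rep k 1 a
  rw [brP, brM, branch_rep, branch_rep, lx, ly, (p_rep f g).1, (p_rep f g).2]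
  constructor <;> simp [PowerSeries.coeff_succ_X_mul, mul_assoc, sub_eq_add_neg]

open ArSing29 in
theorem lin_x {k : Type u} [Field k] : lx (x k 1) = 1 ∧ ly (x k 1) = 0 ∧ lx (y k 1) = 0 ∧ ly (y k 1) = 1 := by
  simp [lx, ly, p_x.1, p_x.2, p_y.1, p_y.2]

open ArSing29 in
theorem lin_neg {k : Type u} [Field k] (a : ring k 1) : lx (-a) = -lx a ∧ ly (-a) = -ly a := by
  have h : -a = algebraMap k (ring k 1) (-1) * a := by rw [map_neg, map_one]; ring
  rw [h, lx_mul le_rfl, ly_mul, lx_algebraMap, ly_algebraMap, c0_algebraMap]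
  simp

/-- Over an algebraically closed field k of characteristic different from 2, every non-trivial k-algebra
involution σ of the node algebra A_1 = k[[x,y]]/(y^2 - x^2) is conjugate, by a k-algebra
automorphism φ of A_1, to one of the three involutions (x, y) ↦ (x, -y), (x, y) ↦ (-x, -y), (x, y) ↦
(y, x). -/
theorem result (k : Type u) [Field k] [IsAlgClosed k]
    (h2 : (2 : k) ≠ 0)
    (σ : ArSing.ring k 1 ≃ₐ[k] ArSing.ring k 1) (hσ : ∀ a, σ (σ a) = a) (hne : σ ≠ AlgEquiv.refl) :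
    ∃ φ : ArSing.ring k 1 ≃ₐ[k] ArSing.ring k 1,
      (φ.symm (σ (φ (ArSing.x k 1))) = ArSing.x k 1 ∧ φ.symm (σ (φ (ArSing.y k 1))) = -ArSing.y k 1) ∨
      (φ.symm (σ (φ (ArSing.x k 1))) = -ArSing.x k 1 ∧ φ.symm (σ (φ (ArSing.y k 1))) = -ArSing.y k 1) ∨
      (φ.symm (σ (φ (ArSing.x k 1))) = ArSing.y k 1 ∧ φ.symm (σ (φ (ArSing.y k 1))) = ArSing.x k 1) := by
  have hhalf : algebraMap k (ring k 1) 2⁻¹ * 2 = 1 := by
    rw [← map_ofNat (algebraMap k (ring k 1)) 2, ← map_mul, inv_mul_cancel₀ h2, map_one]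
  set u := x k 1 + y k 1 with hu
  set v := y k 1 - x k 1 with hv
  have huP : ArSing29.brM k u = 0 := by simp [hu, ArSing29.brM, ArSing29.branch_x, ArSing29.branch_y]
  have hvP : ArSing29.brP k v = 0 := by simp [hv, ArSing29.brP, ArSing29.branch_x, ArSing29.branch_y]
  have hzero : ∀ p q, ArSing29.brM k p = 0 → ArSing29.brP k q = 0 → p * q = 0 := fun p q h1 h3 =>
    ArSing29.branches_inj k h2 (by rw [map_mul, h3, mul_zero, map_zero]) (by rw [map_mul, h1, zero_mul, map_zero])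
  have hune : u ≠ 0 := fun h => h2 (by
    have := (branch_lin u).1
    rw [h, map_zero, map_zero, ← h, hu, ArSing29.lx_add, ArSing29.ly_add, lin_x.1, lin_x.2.1, lin_x.2.2.1, lin_x.2.2.2] at this
    linear_combination -this)
  have hvne : v ≠ 0 := fun h => h2 (by
    have := (branch_lin v).2
    rw [h, map_zero, map_zero, ← h, hv, sub_eq_add_neg (y k 1), ArSing29.lx_add, ArSing29.ly_add, (lin_neg _).1,
      (lin_neg _).2, lin_x.1, lin_x.2.1, lin_x.2.2.1, lin_x.2.2.2] at this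
    linear_combination this)
  set a := σ u with ha
  set b := σ v with hb
  have hab : a * b = 0 := by rw [ha, hb, ← map_mul, hzero u v huP hvP, map_zero]
  have hane : a ≠ 0 := (map_ne_zero_iff σ σ.injective).2 hune
  have hbne : b ≠ 0 := (map_ne_zero_iff σ σ.injective).2 hvne
  have ha0 : ArSing29.c0 a = 0 := by rw [ha, ArSing29.c0_map, hu, ArSing29.c0_add]; simp
  have hb0 : ArSing29.c0 b = 0 := by
    rw [hb, ArSing29.c0_map, hv, show y k 1 - x k 1 = y k 1 + algebraMap k _ (-1) * x k 1 by rw [map_neg, map_one]; ring,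
      ArSing29.c0_add, ArSing29.c0_mul]
    simp
  have hLu : ArSing29.lx u = 1 ∧ ArSing29.ly u = 1 := by
    rw [hu, ArSing29.lx_add, ArSing29.ly_add, lin_x.1, lin_x.2.1, lin_x.2.2.1, lin_x.2.2.2]; simp
  have hLv : ArSing29.lx v = -1 ∧ ArSing29.ly v = 1 := by
    rw [hv, sub_eq_add_neg, ArSing29.lx_add, ArSing29.ly_add, (lin_neg _).1, (lin_neg _).2, lin_x.1, lin_x.2.1,
      lin_x.2.2.1, lin_x.2.2.2]; simp
  clear_value u v
  have hσa : ∀ w : ring k 1, ArSing29.c0 w = 0 → ∀ L : ring k 1 → k, (L = ArSing29.lx ∨ L = ArSing29.ly) →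
      2 * L (σ w) = (ArSing29.lx w + ArSing29.ly w) * L a - (ArSing29.lx w - ArSing29.ly w) * L b := by
    intro w hw L hL
    have hadd : σ (x k 1) + σ (y k 1) = a ∧ σ (y k 1) + -σ (x k 1) = b := by
      constructor
      · rw [ha, hu, map_add]
      · rw [hb, hv, map_sub, sub_eq_add_neg]
    obtain ⟨hl1, hl2⟩ := ArSing29.lin_map le_rfl σ w hw
    rcases hL with rfl | rfl
    · rw [hl1, ← hadd.1, ← hadd.2, ArSing29.lx_add, ArSing29.lx_add, (lin_neg _).1]; ring
    · rw [hl2, ← hadd.1, ← hadd.2, ArSing29.ly_add, ArSing29.ly_add, (lin_neg _).2]; ring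
  have hσσ : σ a = u ∧ σ b = v := ⟨hσ u, hσ v⟩
  have hrel : ∀ U V : ring k 1, U * V = 0 →
      (algebraMap k _ 2⁻¹ * (U + V)) ^ 2 = (algebraMap k _ 2⁻¹ * (U - V)) ^ (1 + 1) := fun U V h => by
    linear_combination (4 * algebraMap k (ring k 1) 2⁻¹ * algebraMap k (ring k 1) 2⁻¹) * h
  have mk : ∀ X' Y' : ring k 1, ArSing29.c0 X' = 0 → ArSing29.c0 Y' = 0 →
      ArSing29.lx X' * ArSing29.ly Y' - ArSing29.ly X' * ArSing29.lx Y' ≠ 0 → Y' ^ 2 = X' ^ (1 + 1) →
      ∀ A B : ring k 1, ∃ φ : ring k 1 ≃ₐ[k] ring k 1, φ (x k 1) = X' ∧ φ (y k 1) = Y' ∧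
        (σ X' = φ A → φ.symm (σ (φ (x k 1))) = A) ∧ (σ Y' = φ B → φ.symm (σ (φ (y k 1))) = B) := by
    intro X' Y' h1 h3 h4 h5 A B
    obtain ⟨φ, hx', hy'⟩ := ArSing29.exists_auto X' Y' h1 h3 h4 h5
    exact ⟨φ, hx', hy', fun h => by rw [hx', AlgEquiv.symm_apply_eq, h], fun h => by rw [hy', AlgEquiv.symm_apply_eq, h]⟩
  have hLc : ∀ (c : k) (w : ring k 1), ArSing29.lx (algebraMap k _ c * w) = c * ArSing29.lx w ∧
      ArSing29.ly (algebraMap k _ c * w) = c * ArSing29.ly w ∧ ArSing29.c0 (algebraMap k _ c * w) = c * ArSing29.c0 w := fun c w => by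
    rw [ArSing29.lx_mul le_rfl, ArSing29.ly_mul, ArSing29.c0_mul, ArSing29.lx_algebraMap, ArSing29.ly_algebraMap,
      ArSing29.c0_algebraMap]
    simp
  have hneg1 : ∀ w : ring k 1, -w = algebraMap k _ (-1) * w := fun w => by rw [map_neg, map_one]; ring
  have hσh : σ (algebraMap k (ring k 1) 2⁻¹) = algebraMap k (ring k 1) 2⁻¹ := σ.commutes _
  by_cases hI : ArSing29.brM k a = 0
  · have hbP : ArSing29.brP k b = 0 := by
      refine ((mul_eq_zero.1 (by rw [← map_mul, hab, map_zero] : ArSing29.brP k a * ArSing29.brP k b = 0))).resolve_left fun h => hane ?_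
      exact ArSing29.branches_inj k h2 (h.trans (map_zero _).symm) (hI.trans (map_zero _).symm)
    have la : ArSing29.ly a = ArSing29.lx a := by
      have := (branch_lin a).2
      rw [hI, map_zero] at this; linear_combination this
    have lb : ArSing29.lx b = -ArSing29.ly b := by
      have := (branch_lin b).1
      rw [hbP, map_zero] at this; linear_combination -this
    set s := ArSing29.lx a with hs
    set q := ArSing29.ly b with hq
    have hs2 : s ^ 2 = 1 := by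
      have := hσa a ha0 _ (Or.inl rfl)
      rw [hσσ.1, hLu.1, la, ← hs] at this
      exact mul_left_cancel₀ h2 (by linear_combination -this)
    have hq2 : q ^ 2 = 1 := by
      have := hσa b hb0 _ (Or.inr rfl)
      rw [hσσ.2, hLv.2, la, lb, ← hq] at this
      exact mul_left_cancel₀ h2 (by linear_combination -this)
    set u' := algebraMap k (ring k 1) 2⁻¹ * (u + algebraMap k _ s * a) with hu'
    set v' := algebraMap k (ring k 1) 2⁻¹ * (v + algebraMap k _ q * b) with hv'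
    have hu'v' : u' * v' = 0 := hzero _ _
      (by rw [hu', map_mul, map_add, map_mul, huP, hI, mul_zero, add_zero, mul_zero])
      (by rw [hv', map_mul, map_add, map_mul, hvP, hbP, mul_zero, add_zero, mul_zero])
    have hσu' : σ u' = algebraMap k _ s * u' := by
      have e : algebraMap k (ring k 1) s * algebraMap k (ring k 1) s = 1 := by rw [← map_mul, ← pow_two, hs2, map_one]
      simp only [hu', map_mul, map_add, hσh, AlgEquiv.commutes, ← ha, hσσ.1]
      linear_combination (- algebraMap k (ring k 1) 2⁻¹ * a) * e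
    have hσv' : σ v' = algebraMap k _ q * v' := by
      have e : algebraMap k (ring k 1) q * algebraMap k (ring k 1) q = 1 := by rw [← map_mul, ← pow_two, hq2, map_one]
      simp only [hv', map_mul, map_add, hσh, AlgEquiv.commutes, ← hb, hσσ.2]
      linear_combination (- algebraMap k (ring k 1) 2⁻¹ * b) * e
    set X' := algebraMap k (ring k 1) 2⁻¹ * (u' - v') with hX'
    set Y' := algebraMap k (ring k 1) 2⁻¹ * (u' + v') with hY'
    have hLu' : ArSing29.lx u' = 1 ∧ ArSing29.ly u' = 1 ∧ ArSing29.c0 u' = 0 := by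
      have hu0 : ArSing29.c0 u = 0 := by rw [hu, ArSing29.c0_add]; simp
      rw [hu', (hLc _ _).1, (hLc _ _).2.1, (hLc _ _).2.2, ArSing29.lx_add, ArSing29.ly_add, ArSing29.c0_add, (hLc _ _).1,
        (hLc _ _).2.1, (hLc _ _).2.2, ha0, hu0, hLu.1, hLu.2, la, ← hs, ← pow_two, hs2]
      norm_num [inv_mul_cancel₀ h2]
    have hLv' : ArSing29.lx v' = -1 ∧ ArSing29.ly v' = 1 ∧ ArSing29.c0 v' = 0 := by
      have hv0 : ArSing29.c0 v = 0 := by
        have := hb0; rwa [hb, ArSing29.c0_map] at this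
      rw [hv', (hLc _ _).1, (hLc _ _).2.1, (hLc _ _).2.2, ArSing29.lx_add, ArSing29.ly_add, ArSing29.c0_add, (hLc _ _).1,
        (hLc _ _).2.1, (hLc _ _).2.2, hb0, hv0, hLv.1, hLv.2, lb, ← hq, mul_neg q, ← pow_two, hq2]
      norm_num [inv_mul_cancel₀ h2]
    clear_value u' v'
    have hLX : ArSing29.lx X' = 1 ∧ ArSing29.ly X' = 0 ∧ ArSing29.c0 X' = 0 := by
      rw [hX', sub_eq_add_neg, hneg1, (hLc _ _).1, (hLc _ _).2.1, (hLc _ _).2.2, ArSing29.lx_add, ArSing29.ly_add,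
        ArSing29.c0_add, (hLc _ _).1, (hLc _ _).2.1, (hLc _ _).2.2, hLu'.1, hLu'.2.1, hLu'.2.2, hLv'.1, hLv'.2.1, hLv'.2.2]
      norm_num [inv_mul_cancel₀ h2]
    have hLY : ArSing29.lx Y' = 0 ∧ ArSing29.ly Y' = 1 ∧ ArSing29.c0 Y' = 0 := by
      rw [hY', (hLc _ _).1, (hLc _ _).2.1, (hLc _ _).2.2, ArSing29.lx_add, ArSing29.ly_add, ArSing29.c0_add, hLu'.1,
        hLu'.2.1, hLu'.2.2, hLv'.1, hLv'.2.1, hLv'.2.2]
      norm_num [inv_mul_cancel₀ h2]
    have hrel' : Y' ^ 2 = X' ^ (1 + 1) := hrel u' v' hu'v'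
    have hσX : σ X' = algebraMap k _ 2⁻¹ * (algebraMap k _ s * u' - algebraMap k _ q * v') := by
      simp only [hX', map_mul, map_sub, hσh, hσu', hσv']
    have hσY : σ Y' = algebraMap k _ 2⁻¹ * (algebraMap k _ s * u' + algebraMap k _ q * v') := by
      simp only [hY', map_mul, map_add, hσh, hσu', hσv']
    rcases sq_eq_one_iff.1 hs2 with h1 | h1 <;> rcases sq_eq_one_iff.1 hq2 with h3 | h3
    · exfalso
      rw [h1, h3, map_one, one_mul, one_mul, ← hX'] at hσX
      rw [h1, h3, map_one, one_mul, one_mul, ← hY'] at hσY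
      obtain ⟨φ, hx', hy', hA, hB⟩ := mk X' Y' hLX.2.2 hLY.2.2 (by rw [hLX.1, hLX.2.1, hLY.1, hLY.2.1]; simp) hrel' (x k 1) (y k 1)
      refine hne (AlgEquiv.ext fun c => ?_)
      obtain ⟨f, g, hfg⟩ := ArSing29.exists_rep k 1 (φ.symm c)
      have key := ArSing29.map_rep k 1 ((φ.trans σ).trans φ.symm).toAlgHom 1
        (by show φ.symm (σ (φ (x k 1))) = _; rw [hA (hσX.trans hx'.symm), map_one, one_mul]) f g
      rw [PowerSeries.rescale_one, show ((φ.trans σ).trans φ.symm).toAlgHom (y k 1) = y k 1 from hB (hσY.trans hy'.symm)] at key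
      have key' : φ.symm (σ (φ (xMap k 1 f + xMap k 1 g * y k 1))) = xMap k 1 f + xMap k 1 g * y k 1 := key
      rw [hfg] at key'
      simpa using congrArg φ key'
    · rw [h1, h3, map_one, map_neg, map_one, one_mul] at hσX hσY
      obtain ⟨φ, hx', hy', hA, hB⟩ := mk X' Y' hLX.2.2 hLY.2.2 (by rw [hLX.1, hLX.2.1, hLY.1, hLY.2.1]; simp) hrel' (y k 1) (x k 1)
      exact ⟨φ, Or.inr (Or.inr ⟨hA (by rw [hσX, hy', hY']; ring), hB (by rw [hσY, hx', hX']; ring)⟩)⟩
    · rw [h1, h3, map_one, map_neg, map_one, one_mul] at hσX hσY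
      obtain ⟨φ, hx', hy', hA, hB⟩ := mk X' (-Y') hLX.2.2 (by rw [hneg1, (hLc _ _).2.2, hLY.2.2, mul_zero])
        (by rw [hLX.1, hLX.2.1, (lin_neg _).1, (lin_neg _).2, hLY.1, hLY.2.1]; simp) (by linear_combination hrel') (y k 1) (x k 1)
      exact ⟨φ, Or.inr (Or.inr ⟨hA (by rw [hσX, hy', hY']; ring), hB (by rw [map_neg, hσY, hx', hX']; ring)⟩)⟩
    · rw [h1, h3, map_neg, map_one] at hσX hσY
      obtain ⟨φ, hx', hy', hA, hB⟩ := mk X' Y' hLX.2.2 hLY.2.2 (by rw [hLX.1, hLX.2.1, hLY.1, hLY.2.1]; simp) hrel' (-x k 1) (-y k 1)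
      exact ⟨φ, Or.inr (Or.inl ⟨hA (by rw [map_neg, hσX, hx', hX']; ring), hB (by rw [map_neg, hσY, hy', hY']; ring)⟩)⟩
  · have hbM : ArSing29.brM k b = 0 :=
      ((mul_eq_zero.1 (by rw [← map_mul, hab, map_zero] : ArSing29.brM k a * ArSing29.brM k b = 0))).resolve_left hI
    have haP : ArSing29.brP k a = 0 := by
      refine ((mul_eq_zero.1 (by rw [← map_mul, hab, map_zero] : ArSing29.brP k a * ArSing29.brP k b = 0))).resolve_right fun h => hbne ?_
      exact ArSing29.branches_inj k h2 (h.trans (map_zero _).symm) (hbM.trans (map_zero _).symm)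
    have la : ArSing29.lx a = -ArSing29.ly a := by
      have := (branch_lin a).1
      rw [haP, map_zero] at this; linear_combination -this
    set q := ArSing29.ly a with hq
    have hqne : q ≠ 0 := by
      intro h
      have := hσa a ha0 _ (Or.inl rfl)
      rw [hσσ.1, hLu.1, la, ← hq, h] at this
      exact h2 (by linear_combination this)
    have hu0 : ArSing29.c0 u = 0 := by rw [hu, ArSing29.c0_add]; simp
    set X' := algebraMap k (ring k 1) 2⁻¹ * (u + a) with hX'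
    set Y' := algebraMap k (ring k 1) 2⁻¹ * (u - a) with hY'
    have hrel' : Y' ^ 2 = X' ^ (1 + 1) := (hrel u a (hzero u a huP haP)).symm
    have hdet : ArSing29.lx X' * ArSing29.ly Y' - ArSing29.ly X' * ArSing29.lx Y' ≠ 0 := by
      rw [hX', hY', sub_eq_add_neg u a, (hLc _ _).1, (hLc _ _).2.1, (hLc _ _).1, (hLc _ _).2.1, ArSing29.lx_add,
        ArSing29.ly_add, ArSing29.lx_add, ArSing29.ly_add, (lin_neg _).1, (lin_neg _).2, hLu.1, hLu.2, la, ← hq]
      intro h
      have e : (2⁻¹ : k) * 2 = 1 := inv_mul_cancel₀ h2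
      exact hqne (by linear_combination -h - (q * 2⁻¹ * 2 + q) * e)
    obtain ⟨φ, hx', hy', hA, hB⟩ := mk X' Y' (by rw [hX', (hLc _ _).2.2, ArSing29.c0_add, hu0, ha0]; simp)
      (by rw [hY', (hLc _ _).2.2, sub_eq_add_neg, ArSing29.c0_add, hneg1, (hLc _ _).2.2, hu0, ha0]; simp) hdet hrel' (x k 1) (-y k 1)
    refine ⟨φ, Or.inl ⟨hA ?_, hB ?_⟩⟩
    · rw [hx', hX', map_mul, map_add, hσh, hσσ.1, ← ha]; ring
    · rw [map_neg, hy', hY', map_mul, map_sub, hσh, hσσ.1, ← ha]; ring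

end Groth.Agent.S14083
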