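import Groth.Statements.S14086
import Groth.Agent.Lib.Flat14.RingPullback

set_option autoImplicit false
universe u
open FlatMor

namespace Groth.Agent.S14086


set_option backward.isDefEq.respectTransparency.types false

/-- Let R be a ring, A and B flat R-algebras, I an ideal of A, B → A/I an injective finite flat map of
R-algebras and P = B ×_{A/I} A the fibre product ring (pairs in B × A with equal image in A/I). For
any R-algebra R' the base change R' ⊗_R P maps injectively to R' ⊗_R A, and any b' in R' ⊗_R B and
a' in R' ⊗_R A with the same image in R' ⊗_R (A/I) are the two components of some element of R' ⊗_R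
P; that is, R' ⊗_R P is the fibre product of R' ⊗_R B and R' ⊗_R A over R' ⊗_R (A/I). -/
theorem result (R A B R' : Type u) [CommRing R] [CommRing A]
    [CommRing B] [CommRing R'] [Algebra R A] [Algebra R B] [Algebra R R'] [Module.Flat R A] [Module.Flat R B]
    (I : Ideal A) [Algebra B (A ⧸ I)] [IsScalarTower R B (A ⧸ I)] [Module.Finite B (A ⧸ I)] [Module.Flat B (A ⧸ I)]
    (hinj : Function.Injective (algebraMap B (A ⧸ I))) :
    Function.Injective (Algebra.TensorProduct.map (AlgHom.id R' R')
        ((AlgHom.snd R B A).comp (AlgHom.equalizer ((IsScalarTower.toAlgHom R B (A ⧸ I)).comp (AlgHom.fst R B A))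
          ((Ideal.Quotient.mkₐ R I).comp (AlgHom.snd R B A))).val)) ∧
    ∀ (b : TensorProduct R R' B) (a : TensorProduct R R' A),
      Algebra.TensorProduct.map (AlgHom.id R' R') (IsScalarTower.toAlgHom R B (A ⧸ I)) b =
        Algebra.TensorProduct.map (AlgHom.id R' R') (Ideal.Quotient.mkₐ R I) a →
      ∃ x : TensorProduct R R' ↥(AlgHom.equalizer ((IsScalarTower.toAlgHom R B (A ⧸ I)).comp (AlgHom.fst R B A))
          ((Ideal.Quotient.mkₐ R I).comp (AlgHom.snd R B A))),
        Algebra.TensorProduct.map (AlgHom.id R' R') ((AlgHom.fst R B A).comp (AlgHom.equalizer ((IsScalarTower.toAlgHom R B (A ⧸ I)).comp (AlgHom.fst R B A))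
          ((Ideal.Quotient.mkₐ R I).comp (AlgHom.snd R B A))).val) x = b ∧
        Algebra.TensorProduct.map (AlgHom.id R' R') ((AlgHom.snd R B A).comp (AlgHom.equalizer ((IsScalarTower.toAlgHom R B (A ⧸ I)).comp (AlgHom.fst R B A))
          ((Ideal.Quotient.mkₐ R I).comp (AlgHom.snd R B A))).val) x = a := by
  obtain ⟨h1, h2⟩ := Flat14.pullbackAlg_baseChange R A B I hinj R'
  exact ⟨h1, fun b a h => h2 b a h⟩

end Groth.Agent.S14086
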