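import Groth.Statements.S14087
import Groth.Agent.Lib.Curvilinear

set_option autoImplicit false
universe u
open ArSing

namespace Groth.Agent.S14087

open Polynomial in
/-- Over an algebraically closed field k, if B = k[t]/(t^n) with n ≥ 1 is flat over a k-subalgebra A ⊆ B
(a finite flat extension of pointed finite algebras with curvilinear top), then A is curvilinear
too: A is isomorphic as a k-algebra to k[t]/(t^m) for some m. -/
theorem result (k : Type u) [Field k] [IsAlgClosed k]
    (n : ℕ) (hn : 0 < n)
    (A : Subalgebra k (Polynomial k ⧸ Ideal.span {(X : Polynomial k) ^ n}))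
    [Module.Flat A (Polynomial k ⧸ Ideal.span {(X : Polynomial k) ^ n})] :
    ∃ m : ℕ, Nonempty (A ≃ₐ[k] (Polynomial k ⧸ Ideal.span {(X : Polynomial k) ^ m})) := by
  set B := Polynomial k ⧸ Ideal.span {(X : Polynomial k) ^ n}
  have : IsLocalRing B := Groth.Agent.Curvilinear.truncPoly_isLocalRing hn
  have : Module.Finite k B := (Polynomial.monic_X_pow n).finite_quotient
  have : IsNoetherianRing B := IsNoetherianRing.of_finite k B
  have : IsArtinianRing B := IsArtinianRing.of_finite k B
  have : Module.Finite k A := .of_injective A.val.toLinearMap Subtype.val_injective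
  have : IsArtinianRing A := IsArtinianRing.of_finite k A
  have hu : ∀ a : A, IsUnit (a : B) → IsUnit a := fun a ha =>
    IsArtinianRing.isUnit_of_mem_nonZeroDivisors (mem_nonZeroDivisors_iff.2 ⟨fun x hx =>
      Subtype.ext (ha.mul_right_eq_zero.1 (congrArg Subtype.val hx)), fun x hx =>
      Subtype.ext (ha.mul_left_eq_zero.1 (congrArg Subtype.val hx))⟩)
  have : IsLocalRing A := IsLocalRing.of_isUnit_or_isUnit_one_sub_self fun a => by
    rcases IsLocalRing.isUnit_or_isUnit_one_sub_self (a : B) with h | h
    · exact .inl (hu a h)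
    · exact .inr (hu (1 - a) h)
  have : IsLocalHom (algebraMap A B) := ⟨fun a ha => hu a ha⟩
  have hflat : @Module.Flat A B _ _ Algebra.toModule := ‹Module.Flat A B›
  have := Module.FaithfullyFlat.of_flat_of_isLocalHom (A := A) (B := B)
  let S : Set (Ideal B) := {I | ∃ a ∈ IsLocalRing.maximalIdeal A, I = Ideal.span {(a : B)}}
  obtain ⟨I, ⟨a, ha, rfl⟩, hmax⟩ := set_has_maximal_iff_noetherian.2 ‹_› S ⟨_, 0, zero_mem _, rfl⟩
  have hmap : (IsLocalRing.maximalIdeal A).map (algebraMap A B) = (Ideal.span {a}).map (algebraMap A B) := by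
    refine le_antisymm (Ideal.map_le_iff_le_comap.2 fun b hb => ?_) (Ideal.map_mono ((Ideal.span_singleton_le_iff_mem _).2 ha))
    rw [Ideal.mem_comap, Ideal.map_span, Set.image_singleton]
    show (b : B) ∈ Ideal.span {(a : B)}
    obtain ⟨i, hi⟩ := Groth.Agent.Curvilinear.truncPoly_ideal n (Ideal.span {(a : B)})
    obtain ⟨j, hj⟩ := Groth.Agent.Curvilinear.truncPoly_ideal n (Ideal.span {(b : B)})
    rcases le_total i j with hij | hij
    · have : Ideal.span {(b : B)} ≤ Ideal.span {(a : B)} := by
        rw [hi, hj, Ideal.span_singleton_le_span_singleton]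
        exact pow_dvd_pow _ hij
      exact this (Ideal.mem_span_singleton_self _)
    · have : Ideal.span {(a : B)} ≤ Ideal.span {(b : B)} := by
        rw [hi, hj, Ideal.span_singleton_le_span_singleton]
        exact pow_dvd_pow _ hij
      rcases this.lt_or_eq with h | h
      · exact absurd h (hmax _ ⟨b, hb, rfl⟩)
      · rw [h]; exact Ideal.mem_span_singleton_self _
  have hm : IsLocalRing.maximalIdeal A = Ideal.span {a} := by
    rw [← Ideal.comap_map_eq_self_of_faithfullyFlat (B := B) (IsLocalRing.maximalIdeal A), hmap,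
      Ideal.comap_map_eq_self_of_faithfullyFlat]
  exact ⟨_, Groth.Agent.Curvilinear.exists_algEquiv_of_span_singleton a hm⟩

end Groth.Agent.S14087
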