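import Groth.Statements.S14088
import Mathlib.Data.Nat.Cast.Basic
import Mathlib.Tactic.Ring
import Mathlib.Tactic.LinearCombination
import Mathlib.Algebra.BigOperators.Ring.Finset

set_option autoImplicit false
universe u
open ArSing

namespace Groth.Agent.S14088

/-- The identity behind the torus-equivariant classes h_i = h_0 + i τ of the coordinate hyperplanes of a
projective space of binary forms, stated in an arbitrary commutative ring: for n ≤ m, (h_0 ⋯
h_(n-1))^2 · h_n ⋯ h_(m-1) equals the sum over s = 0, …, n of (-1)^s s! (n choose s) (m choose s)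
τ^s h_0 ⋯ h_(m+n-s-1), where h_i = h + i τ. (The published statement is in the equivariant Chow ring
of that projective space; only the relations h_i = h_j + (j - i) τ are used, so it holds in any
commutative ring.) -/
theorem result (A : Type u) [CommRing A] (h τ : A) (n m : ℕ) (hnm : n ≤ m) :
    (∏ i ∈ Finset.range n, (h + (i : A) * τ) ^ 2) * ∏ i ∈ Finset.Ico n m, (h + (i : A) * τ) =
      ∑ s ∈ Finset.range (n + 1), (-1 : A) ^ s * (Nat.factorial s : A) * (Nat.choose n s : A) *
        (Nat.choose m s : A) * τ ^ s * ∏ i ∈ Finset.range (m + n - s), (h + (i : A) * τ) := by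
  let a : ℕ → ℕ → ℕ := fun n s => Nat.factorial s * Nat.choose n s * Nat.choose m s
  let P : ℕ → A := fun j => ∏ i ∈ Finset.range j, (h + (i : A) * τ)
  suffices hmain : (∏ i ∈ Finset.range n, (h + (i : A) * τ) ^ 2) * ∏ i ∈ Finset.Ico n m, (h + (i : A) * τ) =
      ∑ s ∈ Finset.range (n + 1), (-1 : A) ^ s * (a n s : A) * τ ^ s * P (m + n - s) by
    rw [hmain]; refine Finset.sum_congr rfl fun s _ => ?_
    simp only [a, P, Nat.cast_mul]; ring
  induction n with
  | zero => simp [a, P]
  | succ n ih =>
    have hn : n < m := by omega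
    have ih' := ih (by omega)
    rw [← Finset.insert_Ico_succ_left_eq_Ico hn, Finset.prod_insert (by simp), Order.succ_eq_add_one] at ih'
    rw [Finset.prod_range_succ]
    calc _ = ((∏ i ∈ Finset.range n, (h + (i : A) * τ) ^ 2) * ((h + (n : A) * τ) * ∏ i ∈ Finset.Ico (n + 1) m, (h + (i : A) * τ))) * (h + (n : A) * τ) := by ring
    _ = (∑ s ∈ Finset.range (n + 1), (-1 : A) ^ s * (a n s : A) * τ ^ s * P (m + n - s)) * (h + (n : A) * τ) := by rw [ih']
    _ = ∑ s ∈ Finset.range (n + 1), ((-1 : A) ^ s * (a n s : A) * τ ^ s * P (m + (n + 1) - s) + (-1 : A) ^ (s + 1) * (((m - s) * a n s : ℕ) : A) * τ ^ (s + 1) * P (m + (n + 1) - (s + 1))) := by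
      rw [Finset.sum_mul]; refine Finset.sum_congr rfl fun s hs => ?_
      have hsn : s ≤ n := Nat.lt_succ_iff.1 (Finset.mem_range.1 hs)
      have e1 : m + (n + 1) - s = (m + n - s) + 1 := by omega
      have e2 : m + (n + 1) - (s + 1) = m + n - s := by omega
      rw [e1, e2, show P (m + n - s + 1) = P (m + n - s) * (h + ((m + n - s : ℕ) : A) * τ) from Finset.prod_range_succ _ _,
        Nat.cast_sub (by omega : s ≤ m + n), Nat.cast_mul (m - s), Nat.cast_sub (by omega : s ≤ m), Nat.cast_add]
      ring
    _ = _ := by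
      rw [Finset.sum_range_succ' _ (n + 1), Finset.sum_add_distrib]
      have hz : ∑ s ∈ Finset.range (n + 1), (-1 : A) ^ s * (a n s : A) * τ ^ s * P (m + (n + 1) - s)
          = (∑ s ∈ Finset.range (n + 1), (-1 : A) ^ (s + 1) * (a n (s + 1) : A) * τ ^ (s + 1) * P (m + (n + 1) - (s + 1))) + (-1 : A) ^ 0 * (a n 0 : A) * τ ^ 0 * P (m + (n + 1) - 0) := by
        rw [← Finset.sum_range_succ' (fun s => (-1 : A) ^ s * (a n s : A) * τ ^ s * P (m + (n + 1) - s)) (n + 1), Finset.sum_range_succ _ (n + 1)]
        simp [a, Nat.choose_succ_self]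
      rw [hz, add_right_comm, ← Finset.sum_add_distrib]
      congr 1
      · refine Finset.sum_congr rfl fun s hs => ?_
        have : a (n + 1) (s + 1) = a n (s + 1) + (m - s) * a n s := by
          have hc := Nat.choose_succ_right_eq m s
          simp only [a, Nat.choose_succ_succ', Nat.factorial_succ]
          linear_combination (Nat.factorial s * Nat.choose n s) * hc
        rw [this, Nat.cast_add]; ring
      · simp [a]

end Groth.Agent.S14088
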