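import Groth.Prelude.Def_BlowUp2
import Mathlib.AlgebraicGeometry.Morphisms.Flat
import Mathlib.AlgebraicGeometry.Morphisms.Proper
import Mathlib.AlgebraicGeometry.Morphisms.FinitePresentation
import Mathlib.AlgebraicGeometry.IdealSheaf.Subscheme
import Mathlib.CategoryTheory.Limits.Shapes.Pullback.IsPullback.Defs
import Groth.Agent.Lib.BlowUpBC3.Global
-- import your own Groth.Agent.* helpers here

set_option autoImplicit false
set_option linter.style.haveILetI false
universe u
open CategoryTheory AlgebraicGeometry
open BlowUp

namespace Groth.Agent.S14089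

/-- Let f : X → S be flat, proper and of finite presentation, 𝓘 a quasi-coherent ideal of finite type on
X with V(𝓘^m) flat over S for all m ≥ 1, and b : X' → X a blowing up of X in 𝓘. Then X' is flat and
proper over S, and blowing up commutes with every base change T → S: if X_T = X ×_S T and X'_T = X'
×_X X_T, the projection X'_T → X_T is a blowing up of X_T in the inverse image of 𝓘. (The published
statement puts no finiteness condition on the ideal; for S = X the spectrum of an infinite product
of fields and 𝓘 the ideal of finitely supported sequences every V(𝓘^m) is flat, yet the blow-up is a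
non-quasi-compact open subscheme, not proper — so the ideal is taken of finite type here, and finite
presentation of X' over S is not asserted.) -/
theorem result {X X' S T XT XT' : Scheme.{u}}
    (f : X ⟶ S) [Flat f] [IsProper f] [LocallyOfFinitePresentation f]
    (𝓘 : X.IdealSheafData) (hft : BlowUp.IsFiniteTypeIdeal 𝓘)
    (hfl : ∀ m : ℕ, 1 ≤ m → Flat ((𝓘 ^ m).subschemeι ≫ f))
    (b : X' ⟶ X) (hb : BlowUp.IsBlowUp b 𝓘)
    (g : T ⟶ S) (pX : XT ⟶ X) (fT : XT ⟶ T) (hX : IsPullback pX fT f g)
    (pX' : XT' ⟶ X') (bT : XT' ⟶ XT) (hX' : IsPullback pX' bT b pX) :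
    Flat (b ≫ f) ∧ IsProper (b ≫ f) ∧ BlowUp.IsBlowUp bT (𝓘.comap pX) := by
  haveI : IsProper b := BlowUpExist.isProper hft hb
  exact ⟨BlowUpBC3.flat_blowUp_comp f 𝓘 hft hfl b hb, inferInstance,
    BlowUpBC3.isBlowUp_baseChange f 𝓘 hfl b hb g pX fT hX pX' bT hX'⟩

end Groth.Agent.S14089
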