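import Groth.Statements.S1409
import Mathlib.RingTheory.Ideal.GoingDown
import Mathlib.RingTheory.Flat.FaithfullyFlat.Algebra
import Mathlib.RingTheory.Flat.Basic
import Mathlib.Algebra.Colimit.Ring
import Mathlib.RingTheory.Ideal.MinimalPrime.Basic

set_option autoImplicit false
universe u
open FlatMor

namespace Groth.Agent.S1409


lemma gd_of_ff {R S : Type u} [CommRing R] [CommRing S] (g : R →+* S)
    (hg : letI := g.toAlgebra; Module.FaithfullyFlat R S) (P : Ideal S) [P.IsPrime] (q : Ideal R) [q.IsPrime]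
    (hle : q ≤ P.comap g) : ∃ Q : Ideal S, Q ≤ P ∧ Q.IsPrime ∧ Q.comap g = q := by
  letI := g.toAlgebra
  have := hg
  have : P.LiesOver (P.comap g) := ⟨rfl⟩
  obtain ⟨Q, hQ, hQp, hQo⟩ := P.exists_ideal_le_liesOver_of_le (p := q) (q := P.comap g) hle
  exact ⟨Q, hQ, hQp, hQo.over.symm⟩

lemma surj_of_ff {R S : Type u} [CommRing R] [CommRing S] (g : R →+* S)
    (hg : letI := g.toAlgebra; Module.FaithfullyFlat R S) (q : Ideal R) [q.IsPrime] :
    ∃ Q : Ideal S, Q.IsPrime ∧ Q.comap g = q := by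
  letI := g.toAlgebra
  have := hg
  obtain ⟨Q, hQ⟩ := PrimeSpectrum.comap_surjective_of_faithfullyFlat (B := S) ⟨q, inferInstance⟩
  exact ⟨Q.asIdeal, Q.isPrime, congrArg PrimeSpectrum.asIdeal hQ⟩

section

variable {ι : Type u} [Preorder ι] [IsDirected ι (· ≤ ·)] [Nonempty ι] {G : ι → Type u} [∀ i, CommRing (G i)]
    (f : ∀ i j, i ≤ j → G i →+* G j) [DirectedSystem G fun i j h => f i j h]

omit [IsDirected ι (· ≤ ·)] [Nonempty ι] [DirectedSystem G fun i j h => f i j h] in
lemma c_f {i j} (h : i ≤ j) : ((Ring.DirectLimit.of G fun i j h => ⇑(f i j h)) j).comp (f i j h) = (Ring.DirectLimit.of G fun i j h => ⇑(f i j h)) i :=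
  RingHom.ext fun x => Ring.DirectLimit.of_f h x

/-- A prime of a stage with compatible primes over it avoiding `W` extends to the limit avoiding `W`. -/
lemma exists_prime_limit {i₀ : ι} (q : Ideal (G i₀)) [hq : q.IsPrime] (W : Submonoid (Ring.DirectLimit G fun i j h => ⇑(f i j h)))
    (H : ∀ k (h : i₀ ≤ k), ∃ Q : Ideal (G k), Q.IsPrime ∧ Q.comap (f i₀ k h) = q ∧ ∀ x ∈ Q, (Ring.DirectLimit.of G fun i j h => ⇑(f i j h)) k x ∉ W) :
    ∃ P : Ideal (Ring.DirectLimit G fun i j h => ⇑(f i j h)), P.IsPrime ∧ P.comap ((Ring.DirectLimit.of G fun i j h => ⇑(f i j h)) i₀) = q ∧ ∀ x ∈ P, x ∉ W := by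
  have hmap : ∀ z ∈ q.map ((Ring.DirectLimit.of G fun i j h => ⇑(f i j h)) i₀), ∃ (k : ι) (h : i₀ ≤ k) (x : G k), x ∈ q.map (f i₀ k h) ∧ (Ring.DirectLimit.of G fun i j h => ⇑(f i j h)) k x = z := by
    intro z hz
    induction hz using Submodule.span_induction with
    | mem z hz =>
      obtain ⟨x, hx, rfl⟩ := hz
      exact ⟨i₀, le_rfl, f i₀ i₀ le_rfl x, Ideal.mem_map_of_mem _ hx, Ring.DirectLimit.of_f le_rfl x⟩
    | zero => exact ⟨i₀, le_rfl, 0, Submodule.zero_mem _, map_zero _⟩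
    | add a b _ _ ha hb =>
      obtain ⟨k, hk, x, hx, rfl⟩ := ha
      obtain ⟨l, hl, y, hy, rfl⟩ := hb
      obtain ⟨m, hkm, hlm⟩ := exists_ge_ge k l
      refine ⟨m, hk.trans hkm, f k m hkm x + f l m hlm y, Ideal.add_mem _ ?_ ?_, ?_⟩
      · have := Ideal.mem_map_of_mem (f k m hkm) hx
        rwa [Ideal.map_map, show (f k m hkm).comp (f i₀ k hk) = f i₀ m (hk.trans hkm) from
          RingHom.ext fun t => DirectedSystem.map_map' (f := f) hk hkm t] at this
      · have := Ideal.mem_map_of_mem (f l m hlm) hy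
        rwa [Ideal.map_map, show (f l m hlm).comp (f i₀ l hl) = f i₀ m (hl.trans hlm) from
          RingHom.ext fun t => DirectedSystem.map_map' (f := f) hl hlm t] at this
      · rw [map_add, Ring.DirectLimit.of_f, Ring.DirectLimit.of_f]
    | smul a b _ hb =>
      obtain ⟨k, hk, x, hx, rfl⟩ := hb
      obtain ⟨l, y, rfl⟩ := Ring.DirectLimit.exists_of a
      obtain ⟨m, hkm, hlm⟩ := exists_ge_ge k l
      refine ⟨m, hk.trans hkm, f l m hlm y * f k m hkm x, Ideal.mul_mem_left _ _ ?_, ?_⟩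
      · have := Ideal.mem_map_of_mem (f k m hkm) hx
        rwa [Ideal.map_map, show (f k m hkm).comp (f i₀ k hk) = f i₀ m (hk.trans hkm) from
          RingHom.ext fun t => DirectedSystem.map_map' (f := f) hk hkm t] at this
      · rw [map_mul, Ring.DirectLimit.of_f, Ring.DirectLimit.of_f, smul_eq_mul]
  let T : Submonoid (Ring.DirectLimit G fun i j h => ⇑(f i j h)) := q.primeCompl.map ((Ring.DirectLimit.of G fun i j h => ⇑(f i j h)) i₀ : G i₀ →* (Ring.DirectLimit G fun i j h => ⇑(f i j h))) ⊔ W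
  have hdisj : Disjoint (q.map ((Ring.DirectLimit.of G fun i j h => ⇑(f i j h)) i₀) : Set (Ring.DirectLimit G fun i j h => ⇑(f i j h))) (T : Set (Ring.DirectLimit G fun i j h => ⇑(f i j h))) := by
    rw [Set.disjoint_left]
    intro z hz hT
    obtain ⟨_, ⟨a, ha, rfl⟩, b, hb, rfl⟩ := Submonoid.mem_sup.1 hT
    obtain ⟨k, hk, x, hx, hxz⟩ := hmap _ hz
    obtain ⟨l, b', rfl⟩ := Ring.DirectLimit.exists_of b
    obtain ⟨m, hkm, hlm⟩ := exists_ge_ge k l
    have e : (Ring.DirectLimit.of G fun i j h => ⇑(f i j h)) m (f k m hkm x - f i₀ m (hk.trans hkm) a * f l m hlm b') = 0 := by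
      rw [map_sub, map_mul, Ring.DirectLimit.of_f, Ring.DirectLimit.of_f, Ring.DirectLimit.of_f, hxz, sub_eq_zero]
      rfl
    obtain ⟨n, hmn, hn⟩ := Ring.DirectLimit.of.zero_exact e
    obtain ⟨Q, hQ, hQq, hQW⟩ := H n ((hk.trans hkm).trans hmn)
    have hxQ : f m n hmn (f k m hkm x) ∈ Q := by
      rw [DirectedSystem.map_map' (f := f) hkm hmn]
      have : q.map (f i₀ k hk) ≤ Q.comap (f k n (hkm.trans hmn)) := by
        rw [Ideal.map_le_iff_le_comap, Ideal.comap_comap,
          show (f k n (hkm.trans hmn)).comp (f i₀ k hk) = f i₀ n ((hk.trans hkm).trans hmn) from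
          RingHom.ext fun t => DirectedSystem.map_map' (f := f) hk (hkm.trans hmn) t, hQq]
      exact this hx
    rw [map_sub, map_mul, sub_eq_zero] at hn
    rw [hn] at hxQ
    rcases hQ.mem_or_mem hxQ with h | h
    · rw [DirectedSystem.map_map' (f := f)] at h
      exact ha (hQq ▸ h : a ∈ q)
    · exact hQW _ h (by rw [Ring.DirectLimit.of_f, Ring.DirectLimit.of_f]; exact hb)
  obtain ⟨P, hP, hle, hd⟩ := Ideal.exists_le_prime_disjoint _ T hdisj
  refine ⟨P, hP, le_antisymm (fun x hx => by_contra fun hxq => Set.disjoint_left.1 hd hx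
    (Submonoid.mem_sup_left ⟨x, hxq, rfl⟩)) (Ideal.map_le_iff_le_comap.1 hle),
    fun x hx hW => Set.disjoint_left.1 hd hx (Submonoid.mem_sup_right hW)⟩

variable (hf : ∀ i j (h : i ≤ j), letI := (f i j h).toAlgebra; Module.FaithfullyFlat (G i) (G j))

include hf in
lemma comap_mem_minimalPrimes {P : Ideal (Ring.DirectLimit G fun i j h => ⇑(f i j h))} (hP : P ∈ minimalPrimes (Ring.DirectLimit G fun i j h => ⇑(f i j h))) (i : ι) :
    P.comap ((Ring.DirectLimit.of G fun i j h => ⇑(f i j h)) i) ∈ minimalPrimes (G i) := by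
  have : P.IsPrime := hP.1.1
  refine ⟨⟨inferInstance, bot_le⟩, fun q hq hqP => ?_⟩
  have : q.IsPrime := hq.1
  obtain ⟨P', hP', hPq, hW⟩ := exists_prime_limit f q P.primeCompl fun k hk => by
    obtain ⟨Q, hQP, hQ, hQq⟩ := gd_of_ff (f i k hk) (hf i k hk) (P.comap ((Ring.DirectLimit.of G fun i j h => ⇑(f i j h)) k)) q
      (by rw [Ideal.comap_comap, c_f]; exact hqP)
    exact ⟨Q, hQ, hQq, fun x hx h => h (hQP hx)⟩
  have hle : P' ≤ P := fun x hx => by_contra fun h => hW x hx h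
  rw [← le_antisymm hle (hP.2 ⟨hP', bot_le⟩ hle), hPq]

include hf in
lemma exists_minimalPrimes_over (i : ι) {q : Ideal (G i)} (hq : q ∈ minimalPrimes (G i)) :
    ∃ P ∈ minimalPrimes (Ring.DirectLimit G fun i j h => ⇑(f i j h)), P.comap ((Ring.DirectLimit.of G fun i j h => ⇑(f i j h)) i) = q := by
  have : q.IsPrime := hq.1.1
  obtain ⟨P', hP', hPq, -⟩ := exists_prime_limit f q ⊥ fun k hk => by
    obtain ⟨Q, hQ, hQq⟩ := surj_of_ff (f i k hk) (hf i k hk) q
    refine ⟨Q, hQ, hQq, fun x hx h => ?_⟩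
    rw [Submonoid.mem_bot] at h
    obtain ⟨n, hkn, hn⟩ := Ring.DirectLimit.of.zero_exact (show (Ring.DirectLimit.of G fun i j h => ⇑(f i j h)) k (x - 1) = 0 by rw [map_sub, h, map_one, sub_self])
    obtain ⟨Q', hQ', hQ'q⟩ := surj_of_ff (f k n hkn) (hf k n hkn) Q
    refine hQ'.ne_top ((Ideal.eq_top_iff_one _).2 ?_)
    rw [map_sub, map_one, sub_eq_zero] at hn
    rw [← hn]
    exact hQ'q.ge hx
  obtain ⟨P, hP, hle⟩ := Ideal.exists_minimalPrimes_le (I := ⊥) (J := P') bot_le
  refine ⟨P, hP, le_antisymm (hPq ▸ Ideal.comap_mono hle) (hq.2 ⟨?_, bot_le⟩ (hPq ▸ Ideal.comap_mono hle))⟩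
  have := hP.1.1
  infer_instance

end


/-- Let (R_i) be a directed system of commutative rings whose transition maps are faithfully flat, with
colimit R. Then, counting in the extended natural numbers, the minimal primes of R are exactly as
numerous as the supremum over i of the count of minimal primes of R_i. -/
theorem result {ι : Type u} [Preorder ι] [IsDirected ι (· ≤ ·)] [Nonempty ι] (G : ι → Type u) [∀ i, CommRing (G i)]
    (f : ∀ i j, i ≤ j → G i →+* G j) [DirectedSystem G fun i j h => f i j h]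
    (hf : ∀ i j (h : i ≤ j), letI := (f i j h).toAlgebra
      Module.FaithfullyFlat (G i) (G j)) :
    (minimalPrimes (Ring.DirectLimit G fun i j h => ⇑(f i j h))).encard = ⨆ i, (minimalPrimes (G i)).encard := by
  classical
  refine le_antisymm ?_ (iSup_le fun i => ?_)
  · by_contra hlt
    rw [not_le] at hlt
    obtain ⟨n, hn⟩ := ENat.ne_top_iff_exists.1 hlt.ne_top
    rw [← hn] at hlt
    obtain ⟨T, hT, hTc⟩ := Set.exists_subset_encard_eq (Order.add_one_le_of_lt hlt)
    have hfin : T.Finite := Set.finite_of_encard_eq_coe (hTc.trans (Nat.cast_succ n).symm)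
    have hsep : ∀ x : Ideal _ × Ideal _, ∃ j : ι, ∀ k, j ≤ k → x.1 ≠ x.2 →
        x.1.comap (Ring.DirectLimit.of G (fun i j h => ⇑(f i j h)) k) ≠ x.2.comap (Ring.DirectLimit.of G (fun i j h => ⇑(f i j h)) k) := by
      intro ⟨P, P'⟩
      by_cases he : P = P'
      · exact ⟨Classical.arbitrary ι, fun k _ h => absurd he h⟩
      obtain ⟨z, hz⟩ : ∃ z, ¬ (z ∈ P ↔ z ∈ P') := by
        by_contra! h
        exact he (Ideal.ext h)
      obtain ⟨j, x, rfl⟩ := Ring.DirectLimit.exists_of z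
      refine ⟨j, fun k hk _ hPP => hz ?_⟩
      rw [← Ring.DirectLimit.of_f (f := fun i j h => ⇑(f i j h)) hk x]
      exact iff_of_eq (congrArg (fun I : Ideal (G k) => f j k hk x ∈ I) hPP)
    choose j hj using hsep
    obtain ⟨k, hk⟩ := Finset.exists_le ((hfin.prod hfin).toFinset.image j)
    have hinj : Set.InjOn (fun P => Ideal.comap (Ring.DirectLimit.of G (fun i j h => ⇑(f i j h)) k) P) T :=
      fun P hP P' hP' he => by_contra fun hne =>
        hj (P, P') k (hk _ (Finset.mem_image_of_mem j ((hfin.prod hfin).mem_toFinset.2 ⟨hP, hP'⟩))) hne he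
    have h1 : T.encard ≤ (minimalPrimes (G k)).encard := by
      rw [← hinj.encard_image]
      exact Set.encard_le_encard fun x ⟨P, hP, hx⟩ => hx ▸ comap_mem_minimalPrimes f hf (hT hP) k
    have h2 := h1.trans (le_iSup (fun i => (minimalPrimes (G i)).encard) k)
    rw [hTc, ← hn] at h2
    exact absurd h2 (not_le.2 (by exact_mod_cast Nat.lt_succ_self n))
  · refine le_trans (Set.encard_le_encard ?_) (Set.encard_image_le (Ideal.comap (Ring.DirectLimit.of G (fun i j h => ⇑(f i j h)) i)) _)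
    intro q hq
    obtain ⟨P, hP, hPq⟩ := exists_minimalPrimes_over f hf i hq
    exact ⟨P, hP, hPq⟩

end Groth.Agent.S1409
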