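import Groth.Statements.S14090
import Groth.Agent.Lib.BlowUpExist.Chart
import Groth.Agent.Lib.EffCartier.Mul

set_option autoImplicit false
universe u
open CategoryTheory AlgebraicGeometry
open BlowUp

namespace Groth.Agent.S14090

/-- Let A → B be an injective ring homomorphism and I an ideal of A such that the ideal I·B of B is
contained in the image of I (so I is an ideal of B as well) and I·B is generated by one
nonzerodivisor of B (I is free of rank one over B). Then Spec B → Spec A is a blowing up of Spec A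
in I. (This is the affine statement behind recovering a pair (X̃, D̃), D̃ an effective Cartier
divisor finite flat over D, as the blow-up of the pushout X̃ ⨿_D̃ D along D.) -/
theorem result (A B : Type u) [CommRing A] [CommRing B] [Algebra A B]
    (hinj : Function.Injective (algebraMap A B)) (I : Ideal A)
    (hIB : (Ideal.map (algebraMap A B) I : Set B) ⊆ algebraMap A B '' (I : Set A))
    (f : B) (hf : f ∈ nonZeroDivisors B) (hgen : Ideal.map (algebraMap A B) I = Ideal.span {f}) :
    BlowUp.IsBlowUp (Spec.map (CommRingCat.ofHom (algebraMap A B))) (Curv2.idealSheaf A I) := by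
  classical
  let S := Spec (CommRingCat.of A)
  let J := Curv2.idealSheaf A I
  let e := (Scheme.ΓSpecIso (CommRingCat.of A))
  obtain ⟨a₀, ha₀, hfa⟩ := hIB (hgen.ge (Ideal.mem_span_singleton_self f))
  let c : Γ(S, ⊤) := e.inv.hom a₀
  let U : S.affineOpens := ⟨⊤, isAffineOpen_top S⟩
  have hJ : J.ideal U = I.map e.inv.hom := by
    simp only [J, Curv2.idealSheaf, Scheme.IdealSheafData.ofIdealTop_ideal]
    erw [CategoryTheory.Functor.map_id]
    rw [CommRingCat.hom_id, Ideal.map_id]
  have hP : (BlowUpExist.principal c).ideal U = Ideal.span {c} := by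
    simp only [BlowUpExist.principal, Scheme.IdealSheafData.ofIdealTop_ideal]
    erw [CategoryTheory.Functor.map_id]
    rw [CommRingCat.hom_id, Ideal.map_id]
  have hc : c ∈ J.ideal U := by rw [hJ]; exact Ideal.mem_map_of_mem _ ha₀
  have hα : Function.Injective (algebraMap A B ∘ e.hom.hom) :=
    hinj.comp e.commRingCatIsoToRingEquiv.injective
  let α : Γ(S, ⊤) →+* B := (algebraMap A B).comp e.hom.hom
  have hαc : α c = f := by
    show algebraMap A B (e.hom.hom (e.inv.hom a₀)) = f
    rw [show e.hom.hom (e.inv.hom a₀) = a₀ from e.commRingCatIsoToRingEquiv.apply_symm_apply a₀, hfa]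
  have hαI : (J.ideal U).map α = Ideal.span {α c} := by
    rw [hαc, ← hgen, hJ, Ideal.map_map]
    exact congrArg (fun φ => I.map φ) (RingHom.ext fun a =>
      congrArg (algebraMap A B) (e.commRingCatIsoToRingEquiv.apply_symm_apply a))
  obtain ⟨ψ, hψ, -⟩ := BlowUpExist.existsUnique_lift (J.ideal U) c α (hαc ▸ hf) hαI.le
  have hsurj : Function.Surjective ψ := fun b => by
    obtain ⟨a, ha, hab⟩ := hIB (Ideal.mul_mem_right b _ (hgen.ge (Ideal.mem_span_singleton_self f)))
    refine ⟨⟨IsLocalization.mk' (Localization.Away c) (e.inv.hom a) ⟨c, Submonoid.mem_powers c⟩,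
      Algebra.subset_adjoin ⟨e.inv.hom a, by rw [hJ]; exact Ideal.mem_map_of_mem _ ha, rfl⟩⟩, ?_⟩
    refine (mul_cancel_left_mem_nonZeroDivisors hf).1 ?_
    rw [← hab, ← hαc, ← RingHom.congr_fun hψ c, RingHom.comp_apply, ← map_mul]
    refine Eq.trans ?_ ((RingHom.congr_fun hψ (e.inv.hom a)).trans
      (congrArg (algebraMap A B) (e.commRingCatIsoToRingEquiv.apply_symm_apply a)))
    exact congrArg ψ (Subtype.ext (IsLocalization.mk'_spec' (Localization.Away c) (e.inv.hom a) ⟨c, Submonoid.mem_powers c⟩))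
  have hψinj : Function.Injective ψ := (injective_iff_map_eq_zero ψ).2 fun q hq => by
    obtain ⟨n, a, ha⟩ := IsLocalization.Away.surj c q.1
    have h1 : α a = 0 := by
      refine (RingHom.congr_fun hψ a).symm.trans ?_
      rw [RingHom.comp_apply, show algebraMap Γ(S, ⊤) (BlowUp.affineAlgebra _ (J.ideal U) c) a =
        q * algebraMap _ _ c ^ n from Subtype.ext ha.symm, map_mul, hq, zero_mul]
    have h2 : a = 0 := hα (h1.trans (map_zero α).symm)
    rw [h2, map_zero] at ha
    exact Subtype.ext ((((IsLocalization.Away.algebraMap_isUnit c).pow n).mul_left_eq_zero).1 ha)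
  let E := RingEquiv.ofBijective ψ ⟨hψinj, hsurj⟩
  let k : Spec (CommRingCat.of B) ≅ BlowUpExist.chart J c := Scheme.Spec.mapIso E.toCommRingCatIso.op
  have hk : k.hom ≫ BlowUpExist.chartπ J c = Spec.map (CommRingCat.ofHom (algebraMap A B)) := by
    show Spec.map (CommRingCat.ofHom ψ) ≫ Spec.map _ ≫ (Spec (CommRingCat.of A)).isoSpec.inv = _
    rw [Scheme.isoSpec_Spec_inv, ← Spec.map_comp, ← Spec.map_comp]
    congr 1
    refine CommRingCat.hom_ext (RingHom.ext fun a => ?_)
    exact (RingHom.congr_fun hψ (e.inv.hom a)).trans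
      (congrArg (algebraMap A B) (e.commRingCatIsoToRingEquiv.apply_symm_apply a))
  have hsq : J * J ≤ BlowUpExist.principal c * J := by
    refine EffCartier.le_of_forall_exists fun x => ⟨U, trivial, ?_⟩
    rw [Scheme.IdealSheafData.ideal_mul, Scheme.IdealSheafData.ideal_mul, Pi.mul_apply, Pi.mul_apply, hP, hJ]
    refine Ideal.mul_le.2 fun y hy z hz => ?_
    obtain ⟨y', hy₀, rfl⟩ := (Ideal.mem_map_iff_of_surjective (I := I) e.inv.hom e.commRingCatIsoToRingEquiv.symm.surjective).1 hy
    obtain ⟨z', hz₀, rfl⟩ := (Ideal.mem_map_iff_of_surjective (I := I) e.inv.hom e.commRingCatIsoToRingEquiv.symm.surjective).1 hz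
    have hy' := hgen.le (Ideal.mem_map_of_mem (algebraMap A B) hy₀)
    have hz' := hgen.le (Ideal.mem_map_of_mem (algebraMap A B) hz₀)
    obtain ⟨u, hu⟩ := Ideal.mem_span_singleton'.1 hy'
    obtain ⟨v, hv⟩ := Ideal.mem_span_singleton'.1 hz'
    obtain ⟨w, hw, hwe⟩ := hIB (Ideal.mul_mem_left _ (u * v) (hgen.ge (Ideal.mem_span_singleton_self f)))
    have hyz : y' * z' = a₀ * w := hinj (by rw [map_mul, map_mul, hfa, hwe, ← hu, ← hv]; ring)
    rw [← map_mul, hyz, map_mul]
    exact Ideal.mul_mem_mul (Ideal.mem_span_singleton_self c) (Ideal.mem_map_of_mem _ hw)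
  have hcond : ∀ (Y : Scheme.{u}) (g : Y ⟶ S), BlowUp.IsEffCartierIdeal (J.comap g) →
      BlowUpExist.ChartCond J c g := fun Y g hg => ⟨hg, le_antisymm
    (Scheme.IdealSheafData.comap_mono g (EffCartier.le_of_forall_exists fun x => ⟨U, trivial, by
      rw [hP, Ideal.span_singleton_le_iff_mem]; exact hc⟩))
    (EffCartier.le_of_mul_le_mul_right hg (by
      rw [← EffCartier.comap_mul, ← EffCartier.comap_mul]; exact Scheme.IdealSheafData.comap_mono g hsq))⟩
  refine ⟨?_, fun Y g hg => ?_⟩
  · rw [← hk, Scheme.IdealSheafData.comap_comp]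
    exact BlowUpExist.isEffCartierIdeal_comap_of_isOpenImmersion (BlowUpExist.chartCond_chartπ J c hc).1 k.hom
  · obtain ⟨h, hh, huniq⟩ := BlowUpExist.existsUnique_chart_lift J c g (hcond Y g hg)
    refine ⟨h ≫ k.inv, ?_, fun h' hh' => ?_⟩
    · show (h ≫ k.inv) ≫ _ = g
      rw [← hk, Category.assoc, Iso.inv_hom_id_assoc, hh]
    · rw [← huniq (h' ≫ k.hom) (by show (h' ≫ k.hom) ≫ _ = g; rw [Category.assoc, hk]; exact hh'),
        Category.assoc, Iso.hom_inv_id, Category.comp_id]

end Groth.Agent.S14090
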