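import Groth.Statements.S14091
import Groth.Agent.Lib.Curvilinear

set_option autoImplicit false
universe u
open ArSing

namespace Groth.Agent.S14091

open Polynomial in
/-- Over an algebraically closed field k, a finite local k-algebra B whose cotangent space m/m^2 has
dimension at most one over the residue field is isomorphic, as a k-algebra, to k[t]/(t^n) with n =
dim_k B (curvilinear pointed algebras of degree n have a single isomorphism class). -/
theorem result (k B : Type u) [Field k] [IsAlgClosed k]
    [CommRing B] [IsLocalRing B] [Algebra k B] [Module.Finite k B]
    (hcurv : Module.finrank (IsLocalRing.ResidueField B) (IsLocalRing.CotangentSpace B) ≤ 1) :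
    Nonempty (B ≃ₐ[k] (Polynomial k ⧸ Ideal.span {(X : Polynomial k) ^ Module.finrank k B})) := by
  have : IsNoetherianRing B := IsNoetherianRing.of_finite k B
  obtain ⟨t, ht⟩ := (IsLocalRing.finrank_cotangentSpace_le_one_iff.1 hcurv).principal
  exact Groth.Agent.Curvilinear.exists_algEquiv_of_span_singleton t ht

end Groth.Agent.S14091
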