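import Groth.Statements.S14092
import Groth.Agent.Lib.CurveH1Min27.Apps
-- import your own Groth.Agent.* helpers here

set_option autoImplicit false
universe u
open CategoryTheory CategoryTheory.Limits AlgebraicGeometry TopologicalSpace
open Curv2

namespace Groth.Agent.S14092

/-- Fix an algebraically closed field k and a genus-0 nodal curve Z over k (connected, reduced, proper,
one-dimensional, at-worst-nodal singularities, h^1(O_Z) = 0) and L an invertible O_Z-module whose
pullback to every irreducible component (integral closed subscheme of dimension one) has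
non-negative degree. Then L is generated by global sections and H^1(Z, L) = 0. (The published
statement also includes converse and weaker implications — a section vanishing identically on no
component forces non-negative degrees, and global generation is equivalent to non-negative degrees;
only the two implications from non-negative degrees are asserted here.) -/
theorem result (k : Type u) [Field k] [IsAlgClosed k]
    (Z : Scheme.{u}) [Z.Over (Spec (CommRingCat.of k))] [IsProper (Z ↘ (Spec (CommRingCat.of k)))] [IsReduced Z]
    [ConnectedSpace Z] (hdim : topologicalKrullDim Z = 1) (hnod : Curv2.AtWorstNodal k Z)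
    (hg : Curv2.genus k Z = 0) (L : Z.Modules) (hL : PicF.IsInvertible L)
    (hdeg : ∀ C : Z.IdealSheafData, IsIntegral C.subscheme → topologicalKrullDim (C.support : Set Z) = 1 →
      0 ≤ @Curv2.deg k _ C.subscheme ⟨C.subschemeι ≫ (Z ↘ Spec (CommRingCat.of k))⟩
        ((Scheme.Modules.pullback C.subschemeι).obj L) 1) :
    Curv2.IsGloballyGenerated L ∧ Subsingleton (Coh.HH Z L 1) := by
  have hd0 : ∀ (T : Set Z) (hT : IsClosed T), 0 ≤ TFOne27.delta k L 1 (TFOne27.OT T hT) :=
    CurveH1Min27.delta_nonneg_of_comp (k := k) hdim.le hL hdeg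
  haveI := CohFound.isNoetherian_of_isProper (Z ↘ (Spec (CommRingCat.of k)))
  refine ⟨CurveH1Min27.globallyGenerated_of_degBig (k := k) hdim hL fun T hT _ _ _ => ?_, ?_⟩
  · have h1 := CurveH1Min27.h1_OT_le (k := k) hdim.le T hT
    rw [hg, Nat.le_zero] at h1
    letI : (VecSt.subsch Z T hT).Over (Spec (CommRingCat.of k)) := ⟨VecSt.subschι Z T hT ≫ (Z ↘ Spec (CommRingCat.of k))⟩
    rw [h1]
    simpa using hd0 T hT
  · by_contra hne
    obtain ⟨T, hT, -, hconn, hdimT, hle⟩ :=
      CurveH1Min27.exists_deg_le_of_h1 (k := k) hdim hL (not_subsingleton_iff_nontrivial.mp hne)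
    letI : (VecSt.subsch Z T hT).Over (Spec (CommRingCat.of k)) := ⟨VecSt.subschι Z T hT ≫ (Z ↘ Spec (CommRingCat.of k))⟩
    haveI : IsProper ((VecSt.subsch Z T hT) ↘ Spec (CommRingCat.of k)) :=
      inferInstanceAs (IsProper (VecSt.subschι Z T hT ≫ (Z ↘ Spec (CommRingCat.of k))))
    haveI := hconn
    have h1 := CurveH1Min27.h1_OT_le (k := k) hdim.le T hT
    have h2 := CurveH1Min27.euler_OT_eq (k := k) hT hdim.le
    have h3 := CurveH1Min27.h0_structure_pos (CurveAmple18.curveLike k (VecSt.subsch Z T hT) hdimT.le)
    have h4 := hd0 T hT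
    rw [hg] at h1
    omega

end Groth.Agent.S14092
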