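import Groth.Statements.S14093
import Groth.Agent.Lib.ArSing29.Basic
import Mathlib.RingTheory.Flat.EquationalCriterion
-- import your own Groth.Agent.* helpers here

set_option autoImplicit false
universe u
open ArSing

namespace Groth.Agent.S14093

/-- For an algebraically closed field k of characteristic prime to 2 and to r+1 and the involution σ of
A_r = k[[x,y]]/(y^2 - x^(r+1)) with σ(x) = x, σ(y) = -y: the invariant subalgebra is k[[x]] (the
image of t ↦ x from k[[t]]), the inclusion k[[x]] → A_r is faithfully flat (flat, and the maximal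
ideal of k[[t]] does not generate the unit ideal of A_r), and the fixed locus (the closed subscheme
cut out by all σ(a) - a) is a Cartier divisor of length r + 1, i.e. its ideal is generated by one
nonzerodivisor and the quotient has length r + 1. -/
theorem result (k : Type u) [Field k] [IsAlgClosed k] (r : ℕ)
    (h2 : (2 : k) ≠ 0) (hr : ((r + 1 : ℕ) : k) ≠ 0)
    (σ : ArSing.ring k r ≃ₐ[k] ArSing.ring k r) (hx : σ (ArSing.x k r) = ArSing.x k r)
    (hy : σ (ArSing.y k r) = -ArSing.y k r) :
    (∀ a : ArSing.ring k r, σ a = a ↔ a ∈ (ArSing.xMap k r).range) ∧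
    ((ArSing.xMap k r).toRingHom.Flat ∧
      Ideal.map (ArSing.xMap k r) (IsLocalRing.maximalIdeal (PowerSeries k)) ≠ ⊤) ∧
    (∃ g : ArSing.ring k r, g ∈ nonZeroDivisors (ArSing.ring k r) ∧
      Ideal.span (Set.range fun a : ArSing.ring k r => σ a - a) = Ideal.span {g}) ∧
    Module.length (ArSing.ring k r)
      (ArSing.ring k r ⧸ Ideal.span (Set.range fun a : ArSing.ring k r => σ a - a)) = r + 1 := by
  have hσ : ∀ f g, σ (xMap k r f + xMap k r g * y k r) = xMap k r f + xMap k r (-g) * y k r := fun f g => by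
    have := ArSing29.map_rep k r σ.toAlgHom 1 (by simp [hx]) f g
    simp only [PowerSeries.rescale_one, RingHom.id_apply] at this
    rw [show σ (xMap k r f + xMap k r g * y k r) = _ from this]
    show _ + xMap k r g * σ (y k r) = _
    rw [hy, map_neg]; ring
  have h2u : IsUnit (2 : PowerSeries k) := by
    rw [PowerSeries.isUnit_iff_constantCoeff, map_ofNat, isUnit_iff_ne_zero]; exact h2
  have hI : Ideal.span (Set.range fun a : ring k r => σ a - a) = Ideal.span {y k r} := by
    refine le_antisymm (Ideal.span_le.2 ?_) (Ideal.span_le.2 ?_)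
    · rintro _ ⟨a, rfl⟩
      obtain ⟨f, g, rfl⟩ := ArSing29.exists_rep k r a
      rw [SetLike.mem_coe, Ideal.mem_span_singleton]
      exact ⟨-(xMap k r g) - xMap k r g, by simp only [hσ, map_neg]; ring⟩
    · rw [Set.singleton_subset_iff, SetLike.mem_coe]
      have : σ (y k r) - y k r ∈ Ideal.span (Set.range fun a : ring k r => σ a - a) := Ideal.subset_span ⟨_, rfl⟩
      rw [hy, show -y k r - y k r = -(xMap k r 2 * y k r) by rw [map_ofNat]; ring, neg_mem_iff] at this
      exact (Ideal.unit_mul_mem_iff_mem _ (h2u.map (xMap k r))).1 this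
  have hsplit : ∀ (f g a b : PowerSeries k), (xMap k r f + xMap k r g * y k r) * y k r = xMap k r a + xMap k r b * y k r →
      g * PowerSeries.X ^ (r + 1) = a ∧ f = b := fun f g a b h => by
    refine ArSing29.rep_inj k r (Eq.trans ?_ h)
    rw [map_mul]
    linear_combination (- xMap k r g) * ArSing29.y_mul_y k r
  refine ⟨fun a => ?_, ⟨ArSing29.flat_xMap k r, fun htop => ?_⟩, ⟨y k r, ?_, hI⟩, ?_⟩
  · obtain ⟨f, g, rfl⟩ := ArSing29.exists_rep k r a
    constructor
    · intro h
      rw [hσ] at h
      have h' := (ArSing29.rep_inj k r h).2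
      have : g = 0 := (h2u.mul_right_eq_zero).1 (by linear_combination -h')
      exact ⟨f, by simp [this]⟩
    · rintro ⟨f', hf⟩
      have hf' : xMap k r f' + xMap k r 0 * y k r = xMap k r f + xMap k r g * y k r := by
        rw [map_zero, zero_mul, add_zero]; exact hf
      obtain ⟨-, rfl⟩ := ArSing29.rep_inj k r hf'
      rw [hσ, neg_zero]
  · refine (ArSing29.span_xy_isMaximal k r).ne_top (top_le_iff.1 (htop ▸ ?_))
    rw [PowerSeries.maximalIdeal_eq_span_X, Ideal.map_span, Set.image_singleton, ArSing29.xMap_X]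
    exact Ideal.span_mono (by simp)
  · rw [mem_nonZeroDivisors_iff_right]
    intro a ha
    obtain ⟨f, g, rfl⟩ := ArSing29.exists_rep k r a
    obtain ⟨h1, h2'⟩ := hsplit f g 0 0 (by simpa using ha)
    rw [h2', (mul_eq_zero.1 h1).resolve_right (pow_ne_zero _ PowerSeries.X_ne_zero)]
    simp
  · rw [hI]
    let ψ : PowerSeries k →+* ring k r ⧸ Ideal.span {y k r} := (Ideal.Quotient.mk _).comp (xMap k r).toRingHom
    have hψ : Function.Surjective ψ := fun q => by
      obtain ⟨a, rfl⟩ := Ideal.Quotient.mk_surjective q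
      obtain ⟨f, g, rfl⟩ := ArSing29.exists_rep k r a
      exact ⟨f, Ideal.Quotient.eq.2 (Ideal.mem_span_singleton.2 ⟨-xMap k r g, by show xMap k r f - _ = _; ring⟩)⟩
    have hker : RingHom.ker ψ = IsLocalRing.maximalIdeal (PowerSeries k) ^ (r + 1) := by
      ext f
      rw [RingHom.mem_ker, PowerSeries.maximalIdeal_eq_span_X, Ideal.span_singleton_pow, Ideal.mem_span_singleton]
      show Ideal.Quotient.mk _ (xMap k r f) = 0 ↔ _
      rw [Ideal.Quotient.eq_zero_iff_mem, Ideal.mem_span_singleton]
      constructor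
      · rintro ⟨a, ha⟩
        obtain ⟨p, q, rfl⟩ := ArSing29.exists_rep k r a
        obtain ⟨h1, -⟩ := hsplit p q f 0 (by rw [map_zero, zero_mul, add_zero, ha]; ring)
        exact ⟨q, by rw [← h1, mul_comm]⟩
      · rintro ⟨q, rfl⟩
        exact ⟨xMap k r q * y k r, by rw [map_mul, ← ArSing29.y_mul_y]; ring⟩
    letI alg : Algebra (PowerSeries k) (ring k r ⧸ Ideal.span {y k r}) := @RingHom.toAlgebra (PowerSeries k) (ring k r ⧸ Ideal.span {y k r}) _ _ ψ
    letI : Module (PowerSeries k) (ring k r ⧸ Ideal.span {y k r}) := @Algebra.toModule (PowerSeries k) (ring k r ⧸ Ideal.span {y k r}) _ _ alg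
    rw [Module.length_eq_of_surjective (R := ring k r ⧸ Ideal.span {y k r}) (S := ring k r) Ideal.Quotient.mk_surjective,
      ← Module.length_eq_of_surjective (R := ring k r ⧸ Ideal.span {y k r}) (S := PowerSeries k) hψ]
    let e : (PowerSeries k ⧸ IsLocalRing.maximalIdeal (PowerSeries k) ^ (r + 1)) ≃ₗ[PowerSeries k]
        ring k r ⧸ Ideal.span {y k r} :=
      (Submodule.quotEquivOfEq _ _ (by rw [← hker]; rfl)).trans
        (LinearMap.quotKerEquivOfSurjective (Algebra.linearMap (PowerSeries k) (ring k r ⧸ Ideal.span {y k r})) hψ)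
    rw [← e.length_eq, IsDiscreteValuationRing.length_quotient_pow_maximalIdeal]
    norm_num

end Groth.Agent.S14093
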