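import Groth.Statements.S14094
import Groth.Agent.Lib.ArSing29.Even
import Mathlib.RingTheory.Flat.EquationalCriterion
-- import your own Groth.Agent.* helpers here

set_option autoImplicit false
set_option maxHeartbeats 400000
universe u
open ArSing

namespace Groth.Agent.S14094

/-- K algebraically closed of characteristic prime to 2 and to r+1, r = 2m - 1 with m ≥ 2, σ the
involution x ↦ -x, y ↦ y of A_r = k[[x,y]]/(y^2 - x^(r+1)), and φ : A_(m-1) → A_r the k-algebra map
x ↦ x^2, y ↦ y. Then the invariant subalgebra of σ is the image of φ (so A_r^σ ≅ A_(m-1)), φ is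
faithfully flat (flat, and the maximal ideal of A_(m-1) does not generate the unit ideal), and the
fixed locus of σ is a Cartier divisor of length 2: its ideal, generated by the elements σ(a) - a, is
generated by one nonzerodivisor and has quotient of length 2. -/
theorem result (k : Type u) [Field k] [IsAlgClosed k] (m r : ℕ)
    (hm : 2 ≤ m) (hr : r = 2 * m - 1) (h2 : (2 : k) ≠ 0) (hr1 : ((r + 1 : ℕ) : k) ≠ 0)
    (σ : ArSing.ring k r ≃ₐ[k] ArSing.ring k r) (hx : σ (ArSing.x k r) = -ArSing.x k r)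
    (hy : σ (ArSing.y k r) = ArSing.y k r)
    (φ : ArSing.ring k (m - 1) →ₐ[k] ArSing.ring k r) (hφx : φ (ArSing.x k (m - 1)) = ArSing.x k r ^ 2)
    (hφy : φ (ArSing.y k (m - 1)) = ArSing.y k r) :
    (∀ a : ArSing.ring k r, σ a = a ↔ a ∈ φ.range) ∧
    (φ.toRingHom.Flat ∧ ∀ I : Ideal (ArSing.ring k (m - 1)), I.IsMaximal → Ideal.map φ I ≠ ⊤) ∧
    (∃ g : ArSing.ring k r, g ∈ nonZeroDivisors (ArSing.ring k r) ∧ Ideal.span (Set.range fun a : ArSing.ring k r => σ a - a) = Ideal.span {g}) ∧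
    Module.length (ArSing.ring k r) (ArSing.ring k r ⧸ Ideal.span (Set.range fun a : ArSing.ring k r => σ a - a)) = 2 := by
  obtain ⟨m, rfl⟩ : ∃ l, m = l + 1 := ⟨m - 1, by omega⟩
  obtain rfl : r = 2 * m + 1 := by omega
  revert φ
  rw [Nat.add_sub_cancel]
  intro φ hφx hφy
  have hσ : ∀ f g, σ (xMap k _ f + xMap k _ g * y k _) =
      xMap k (2 * m + 1) (PowerSeries.rescale (-1) f) + xMap k _ (PowerSeries.rescale (-1) g) * y k _ := fun f g => by
    have := ArSing29.map_rep k _ σ.toAlgHom (-1) (by show σ (x k _) = _; rw [hx, map_neg, map_one]; ring) f g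
    rw [show σ.toAlgHom (y k (2 * m + 1)) = y k _ from hy] at this
    exact this
  have hφ : ∀ a b, φ (xMap k m a + xMap k m b * y k m) =
      xMap k (2 * m + 1) (ArSing29.sq2 k a) + xMap k _ (ArSing29.sq2 k b) * y k _ := fun a b => by
    rw [map_add, map_mul, ArSing29.map_xMap_sq k _ _ φ hφx, ArSing29.map_xMap_sq k _ _ φ hφx, hφy]
  have hφ2 : ∀ a b a' b', φ (xMap k m a + xMap k m b * y k m) + φ (xMap k m a' + xMap k m b' * y k m) * x k _ =
      xMap k (2 * m + 1) (ArSing29.sq2 k a + PowerSeries.X * ArSing29.sq2 k a') +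
        xMap k _ (ArSing29.sq2 k b + PowerSeries.X * ArSing29.sq2 k b') * y k _ := fun a b a' b' => by
    simp only [hφ, map_add (xMap k (2 * m + 1)), map_mul (xMap k (2 * m + 1)), ArSing29.xMap_X]; ring
  have hinj : ∀ c c' d d', φ c + φ c' * x k _ = φ d + φ d' * x k _ → c = d ∧ c' = d' := by
    intro c c' d d' h
    obtain ⟨a, b, rfl⟩ := ArSing29.exists_rep k m c
    obtain ⟨a', b', rfl⟩ := ArSing29.exists_rep k m c'
    obtain ⟨p, q, rfl⟩ := ArSing29.exists_rep k m d
    obtain ⟨p', q', rfl⟩ := ArSing29.exists_rep k m d'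
    rw [hφ2, hφ2] at h
    obtain ⟨h1, h2⟩ := ArSing29.rep_inj k _ h
    obtain ⟨rfl, rfl⟩ := ArSing29.split_inj k h1
    obtain ⟨rfl, rfl⟩ := ArSing29.split_inj k h2
    exact ⟨rfl, rfl⟩
  have hsurj : ∀ a : ring k (2 * m + 1), ∃ c c', φ c + φ c' * x k _ = a := by
    intro a
    obtain ⟨f, g, rfl⟩ := ArSing29.exists_rep k _ a
    obtain ⟨a, a', rfl⟩ := ArSing29.exists_split k f
    obtain ⟨b, b', rfl⟩ := ArSing29.exists_split k g
    exact ⟨_, _, hφ2 a b a' b'⟩
  have hI : Ideal.span (Set.range fun a : ring k (2 * m + 1) => σ a - a) = Ideal.span {x k (2 * m + 1)} := by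
    refine le_antisymm (Ideal.span_le.2 ?_) (Ideal.span_le.2 ?_)
    · rintro _ ⟨a, rfl⟩
      obtain ⟨f, g, rfl⟩ := ArSing29.exists_rep k _ a
      obtain ⟨p, hp⟩ := ArSing29.X_dvd_rescale_sub k (-1) f
      obtain ⟨q, hq⟩ := ArSing29.X_dvd_rescale_sub k (-1) g
      rw [SetLike.mem_coe, Ideal.mem_span_singleton]
      refine ⟨xMap k _ p + xMap k _ q * y k _, ?_⟩
      simp only [hσ]
      rw [sub_eq_iff_eq_add.1 hp, sub_eq_iff_eq_add.1 hq]
      simp only [map_add, map_mul, ArSing29.xMap_X]; ring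
    · rw [Set.singleton_subset_iff, SetLike.mem_coe]
      have : σ (x k _) - x k (2 * m + 1) ∈ Ideal.span (Set.range fun a : ring k (2 * m + 1) => σ a - a) := Ideal.subset_span ⟨_, rfl⟩
      rw [hx, show -x k (2 * m + 1) - x k (2 * m + 1) = -(xMap k (2 * m + 1) 2 * x k (2 * m + 1)) by rw [map_ofNat]; ring, neg_mem_iff] at this
      exact (Ideal.unit_mul_mem_iff_mem _ ((ArSing29.isUnit_two k h2).map (xMap k _))).1 this
  have hsplit : ∀ f g : PowerSeries k, (xMap k (2 * m + 1) f + xMap k _ g * y k _) * x k _ =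
      xMap k _ (PowerSeries.X * f) + xMap k _ (PowerSeries.X * g) * y k _ := fun f g => by
    simp only [map_mul, ArSing29.xMap_X]; ring
  refine ⟨fun a => ?_, ⟨?_, fun I hImax htop => ?_⟩, ⟨x k _, ?_, hI⟩, ?_⟩
  · obtain ⟨f, g, rfl⟩ := ArSing29.exists_rep k _ a
    constructor
    · intro h
      rw [hσ] at h
      obtain ⟨h1, h3⟩ := ArSing29.rep_inj k _ h
      obtain ⟨a, rfl⟩ := (ArSing29.rescale_eq_iff k h2 f).1 h1
      obtain ⟨b, rfl⟩ := (ArSing29.rescale_eq_iff k h2 g).1 h3
      exact ⟨_, hφ a b⟩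
    · rintro ⟨c, hc⟩
      obtain ⟨a, b, rfl⟩ := ArSing29.exists_rep k m c
      have hc' := (hφ a b).symm.trans hc
      obtain ⟨rfl, rfl⟩ := ArSing29.rep_inj k _ hc'
      rw [hσ, ArSing29.rescale_sq2, ArSing29.rescale_sq2]
  · letI := φ.toRingHom.toAlgebra
    have hb : Function.Bijective (Fintype.linearCombination (ring k m) ![(1 : ring k (2 * m + 1)), x k _]) := by
      have happ : ∀ c : Fin 2 → ring k m, Fintype.linearCombination (ring k m) ![(1 : ring k (2 * m + 1)), x k _] c =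
          φ (c 0) + φ (c 1) * x k _ := fun c => by
        simp only [Fintype.linearCombination_apply, Fin.sum_univ_two, Algebra.smul_def, Matrix.cons_val_zero,
          Matrix.cons_val_one, mul_one]
        rfl
      refine ⟨fun c c' h => ?_, fun a => ?_⟩
      · rw [happ, happ] at h
        obtain ⟨h0, h1⟩ := hinj _ _ _ _ h
        funext i; fin_cases i <;> assumption
      · obtain ⟨c, c', h⟩ := hsurj a
        exact ⟨![c, c'], by rw [happ]; exact h⟩
    haveI : Module.Free (ring k m) (ring k (2 * m + 1)) := Module.Free.of_equiv (LinearEquiv.ofBijective _ hb)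
    exact Module.Flat.of_free
  · have key : ∀ a ∈ Ideal.map φ I, ∃ c ∈ I, ∃ c' ∈ I, φ c + φ c' * x k _ = a := by
      intro a ha
      induction ha using Submodule.span_induction with
      | mem a ha => obtain ⟨c, hc, rfl⟩ := ha; exact ⟨c, hc, 0, zero_mem _, by rw [map_zero, zero_mul, add_zero]⟩
      | zero => exact ⟨0, zero_mem _, 0, zero_mem _, by rw [map_zero, zero_mul, add_zero]⟩
      | add a b _ _ iha ihb =>
        obtain ⟨c, hc, c', hc', rfl⟩ := iha
        obtain ⟨d, hd, d', hd', rfl⟩ := ihb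
        exact ⟨c + d, add_mem hc hd, c' + d', add_mem hc' hd', by rw [map_add, map_add]; ring⟩
      | smul t a _ iha =>
        obtain ⟨c, hc, c', hc', rfl⟩ := iha
        obtain ⟨d, d', rfl⟩ := hsurj t
        refine ⟨d * c + d' * c' * x k m, add_mem (I.mul_mem_left _ hc) (I.mul_mem_right _ (I.mul_mem_left _ hc')),
          d * c' + d' * c, add_mem (I.mul_mem_left _ hc') (I.mul_mem_left _ hc), ?_⟩
        simp only [map_add, map_mul, hφx, smul_eq_mul]; ring
    obtain ⟨c, hc, c', -, h⟩ := key 1 (htop ▸ Submodule.mem_top)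
    obtain ⟨rfl, -⟩ := hinj c c' 1 0 (by rw [h, map_one, map_zero, zero_mul, add_zero])
    exact hImax.ne_top ((Ideal.eq_top_iff_one I).2 hc)
  · rw [mem_nonZeroDivisors_iff_right]
    intro a ha
    obtain ⟨f, g, rfl⟩ := ArSing29.exists_rep k _ a
    rw [hsplit] at ha
    obtain ⟨h1, h3⟩ := ArSing29.rep_eq_zero k _ ha
    rw [(mul_eq_zero.1 h1).resolve_left PowerSeries.X_ne_zero, (mul_eq_zero.1 h3).resolve_left PowerSeries.X_ne_zero]
    simp
  · rw [hI]; exact ArSing29.length_quot_x k _ (by omega)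

end Groth.Agent.S14094
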