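import Groth.Statements.S14095
import Groth.Agent.Lib.ArSing29.Even
import Mathlib.RingTheory.Flat.EquationalCriterion
-- import your own Groth.Agent.* helpers here

set_option autoImplicit false
set_option maxHeartbeats 400000
universe u
open ArSing

namespace Groth.Agent.S14095

/-- K algebraically closed of characteristic prime to 2 and to r+1, r = 2m - 1 with m ≥ 1, σ the
involution x ↦ -x, y ↦ -y of A_r = k[[x,y]]/(y^2 - x^(r+1)), and φ : A_m → A_r the k-algebra map x ↦
x^2, y ↦ xy. Then the invariant subalgebra of σ is the image of φ and φ is injective (so A_r^σ ≅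
A_m), φ is not flat, and the fixed locus of σ is the reduced closed point and is not a Cartier
divisor: the ideal generated by the elements σ(a) - a has quotient of length 1 and is not generated
by one nonzerodivisor. -/
theorem result (k : Type u) [Field k] [IsAlgClosed k] (m r : ℕ)
    (hm : 1 ≤ m) (hr : r = 2 * m - 1) (h2 : (2 : k) ≠ 0) (hr1 : ((r + 1 : ℕ) : k) ≠ 0)
    (σ : ArSing.ring k r ≃ₐ[k] ArSing.ring k r) (hx : σ (ArSing.x k r) = -ArSing.x k r)
    (hy : σ (ArSing.y k r) = -ArSing.y k r)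
    (φ : ArSing.ring k m →ₐ[k] ArSing.ring k r) (hφx : φ (ArSing.x k m) = ArSing.x k r ^ 2)
    (hφy : φ (ArSing.y k m) = ArSing.x k r * ArSing.y k r) :
    (∀ a : ArSing.ring k r, σ a = a ↔ a ∈ φ.range) ∧ Function.Injective φ ∧
    ¬ φ.toRingHom.Flat ∧
    Module.length (ArSing.ring k r) (ArSing.ring k r ⧸ Ideal.span (Set.range fun a : ArSing.ring k r => σ a - a)) = 1 ∧
    ¬ (∃ g : ArSing.ring k r, g ∈ nonZeroDivisors (ArSing.ring k r) ∧ Ideal.span (Set.range fun a : ArSing.ring k r => σ a - a) = Ideal.span {g}) := by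
  obtain ⟨m, rfl⟩ : ∃ l, m = l + 1 := ⟨m - 1, by omega⟩
  obtain rfl : r = 2 * m + 1 := by omega
  have hσ : ∀ f g, σ (xMap k _ f + xMap k _ g * y k _) =
      xMap k (2 * m + 1) (PowerSeries.rescale (-1) f) + xMap k _ (-PowerSeries.rescale (-1) g) * y k _ := fun f g => by
    have := ArSing29.map_rep k _ σ.toAlgHom (-1) (by show σ (x k _) = _; rw [hx, map_neg, map_one]; ring) f g
    refine this.trans ?_
    rw [show σ.toAlgHom (y k (2 * m + 1)) = -y k _ from hy, map_neg]
    ring
  have hφ : ∀ a b, φ (xMap k (m + 1) a + xMap k (m + 1) b * y k (m + 1)) =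
      xMap k (2 * m + 1) (ArSing29.sq2 k a) + xMap k _ (PowerSeries.X * ArSing29.sq2 k b) * y k _ := fun a b => by
    rw [map_add, map_mul, ArSing29.map_xMap_sq k _ _ φ hφx, ArSing29.map_xMap_sq k _ _ φ hφx, hφy, map_mul, ArSing29.xMap_X]
    ring
  have hI : Ideal.span (Set.range fun a : ring k (2 * m + 1) => σ a - a) = Ideal.span {x k (2 * m + 1), y k (2 * m + 1)} := by
    refine le_antisymm (Ideal.span_le.2 ?_) (Ideal.span_le.2 ?_)
    · rintro _ ⟨a, rfl⟩
      obtain ⟨f, g, rfl⟩ := ArSing29.exists_rep k _ a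
      obtain ⟨p, hp⟩ := ArSing29.X_dvd_rescale_sub k (-1) f
      rw [SetLike.mem_coe, Ideal.mem_span_pair]
      refine ⟨xMap k _ p, xMap k _ (-PowerSeries.rescale (-1) g - g), ?_⟩
      simp only [hσ]
      rw [sub_eq_iff_eq_add.1 hp]
      simp only [map_add, map_sub, map_mul, map_neg, ArSing29.xMap_X]; ring
    · have key : ∀ z : ring k (2 * m + 1), σ z = -z → z ∈ Ideal.span (Set.range fun a : ring k (2 * m + 1) => σ a - a) := fun z hz => by
        have : σ z - z ∈ Ideal.span (Set.range fun a : ring k (2 * m + 1) => σ a - a) := Ideal.subset_span ⟨_, rfl⟩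
        rw [hz, show -z - z = -(xMap k (2 * m + 1) 2 * z) by rw [map_ofNat]; ring, neg_mem_iff] at this
        exact (Ideal.unit_mul_mem_iff_mem _ ((ArSing29.isUnit_two k h2).map (xMap k _))).1 this
      rintro _ (rfl | rfl)
      · exact key _ hx
      · exact key _ hy
  refine ⟨fun a => ?_, ?_, fun hflat => ?_, ?_, ?_⟩
  · obtain ⟨f, g, rfl⟩ := ArSing29.exists_rep k _ a
    constructor
    · intro h
      rw [hσ] at h
      obtain ⟨h1, h3⟩ := ArSing29.rep_inj k _ h
      obtain ⟨a, rfl⟩ := (ArSing29.rescale_eq_iff k h2 f).1 h1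
      obtain ⟨b, rfl⟩ := (ArSing29.rescale_eq_neg_iff k h2 g).1 h3
      exact ⟨_, hφ a b⟩
    · rintro ⟨c, hc⟩
      obtain ⟨a, b, rfl⟩ := ArSing29.exists_rep k _ c
      have hc' := (hφ a b).symm.trans hc
      obtain ⟨rfl, rfl⟩ := ArSing29.rep_inj k _ hc'
      rw [hσ, ArSing29.rescale_sq2, (ArSing29.rescale_eq_neg_iff k h2 _).2 ⟨b, rfl⟩]
  · rw [injective_iff_map_eq_zero]
    intro c hc
    obtain ⟨a, b, rfl⟩ := ArSing29.exists_rep k _ c
    rw [hφ] at hc
    obtain ⟨h1, h3⟩ := ArSing29.rep_eq_zero k _ hc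
    have e : ∀ z, ArSing29.sq2 k z = 0 → z = 0 := fun z hz => by
      have := ArSing29.split_inj k (a := z) (b := 0) (a' := 0) (b' := 0) (by simp [hz])
      exact this.1
    rw [e a h1, e b ((mul_eq_zero.1 h3).resolve_left PowerSeries.X_ne_zero)]
    simp
  · letI := φ.toRingHom.toAlgebra
    haveI : Module.Flat (ring k (m + 1)) (ring k (2 * m + 1)) := hflat
    obtain ⟨l, a, z, hz, ha⟩ := Module.Flat.isTrivialRelation_of_sum_smul_eq_zero (R := ring k (m + 1))
      (f := ![x k (m + 1), -y k (m + 1)]) (x := ![y k (2 * m + 1), x k (2 * m + 1)]) (by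
        simp only [Fin.sum_univ_two, Matrix.cons_val_zero, Matrix.cons_val_one, Algebra.smul_def]
        show φ (x k (m + 1)) * y k (2 * m + 1) + φ (-y k (m + 1)) * x k (2 * m + 1) = 0
        rw [map_neg, hφx, hφy]; ring)
    let S : Submodule (ring k (2 * m + 1)) (ring k (2 * m + 1)) := Ideal.span {x k (2 * m + 1) ^ 2, x k (2 * m + 1) * y k (2 * m + 1)}
    have hmem : y k (2 * m + 1) ∈ S := by
      have h0 := hz 0
      rw [show (![y k (2 * m + 1), x k (2 * m + 1)] : Fin 2 → ring k (2 * m + 1)) 0 = y k (2 * m + 1) from rfl] at h0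
      rw [h0]
      refine Submodule.sum_mem _ fun j _ => ?_
      rw [Algebra.smul_def]
      refine Ideal.mul_mem_right _ _ ?_
      show φ (a 0 j) ∈ S
      have hj := ha j
      simp only [Fin.sum_univ_two, Matrix.cons_val_zero, Matrix.cons_val_one] at hj
      obtain ⟨p, q, hpq⟩ := ArSing29.exists_rep k (m + 1) (a 0 j)
      obtain ⟨s, t, hst⟩ := ArSing29.exists_rep k (m + 1) (a 1 j)
      rw [← hpq, ← hst] at hj
      have e : xMap k (m + 1) (PowerSeries.X * p - t * PowerSeries.X ^ (m + 1 + 1)) +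
          xMap k (m + 1) (PowerSeries.X * q - s) * y k (m + 1) = 0 := by
        rw [← hj]
        simp only [map_sub, map_mul, ArSing29.xMap_X]
        linear_combination (xMap k (m + 1) t) * ArSing29.y_mul_y k (m + 1)
      have hp : p = t * PowerSeries.X ^ (m + 1) := by
        have h1 := (ArSing29.rep_eq_zero k _ e).1
        exact mul_left_cancel₀ PowerSeries.X_ne_zero (by linear_combination h1)
      rw [← hpq, hp, map_add, map_mul, map_mul, map_mul, hφy, map_pow, map_pow φ, ArSing29.xMap_X, hφx]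
      refine add_mem (Ideal.mul_mem_left _ _ ?_) (Ideal.mul_mem_left _ _ (Ideal.subset_span (Set.mem_insert_of_mem _ rfl)))
      exact Ideal.pow_mem_of_mem _ (Ideal.subset_span (Set.mem_insert _ _)) _ (by omega)
    obtain ⟨c, d, hcd⟩ := Ideal.mem_span_pair.1 hmem
    obtain ⟨f, g, rfl⟩ := ArSing29.exists_rep k _ c
    obtain ⟨f', g', rfl⟩ := ArSing29.exists_rep k _ d
    have e : xMap k (2 * m + 1) 0 + xMap k _ 1 * y k _ =
        xMap k _ (f * PowerSeries.X ^ 2 + g' * PowerSeries.X * PowerSeries.X ^ (2 * m + 1 + 1)) +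
          xMap k _ (g * PowerSeries.X ^ 2 + f' * PowerSeries.X) * y k _ := by
      rw [map_zero, map_one]
      simp only [map_add, map_mul, map_pow (xMap k (2 * m + 1)) PowerSeries.X 2, ArSing29.xMap_X]
      linear_combination (-1 : ring k (2 * m + 1)) * hcd + (xMap k _ g' * x k _) * ArSing29.y_mul_y k (2 * m + 1)
    simpa using congrArg PowerSeries.constantCoeff (ArSing29.rep_inj k _ e).2
  · rw [hI]; exact ArSing29.length_quot_xy k _
  · rintro ⟨g, -, hg⟩
    rw [hI] at hg
    obtain ⟨p, q, rfl⟩ := ArSing29.exists_rep k _ g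
    obtain ⟨a, ha⟩ := Ideal.mem_span_singleton.1 (hg.le (Ideal.subset_span (Set.mem_insert _ _)))
    obtain ⟨b, hb⟩ := Ideal.mem_span_singleton.1 (hg.le (Ideal.subset_span (Set.mem_insert_of_mem _ rfl)))
    obtain ⟨a0, a1, rfl⟩ := ArSing29.exists_rep k _ a
    obtain ⟨b0, b1, rfl⟩ := ArSing29.exists_rep k _ b
    rw [ArSing29.rep_mul] at ha hb
    obtain ⟨hx0, hx1⟩ := ArSing29.rep_inj k _ (Eq.trans (show xMap k _ PowerSeries.X + xMap k _ 0 * y k _ = x k _ by simp) ha)
    obtain ⟨-, hy1⟩ := ArSing29.rep_inj k _ (Eq.trans (show xMap k _ 0 + xMap k _ 1 * y k _ = y k _ by simp) hb)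
    have hp : PowerSeries.constantCoeff p = 0 := by
      have h : xMap k (2 * m + 1) p + xMap k _ q * y k _ ∈ Ideal.span {x k (2 * m + 1), y k (2 * m + 1)} := hg.ge (Ideal.mem_span_singleton_self _)
      by_contra hp
      refine (ArSing29.span_xy_isMaximal k (2 * m + 1)).ne_top (Ideal.eq_top_of_isUnit_mem _ ?_
        ((PowerSeries.isUnit_iff_constantCoeff.2 (isUnit_iff_ne_zero.2 hp)).map (xMap k (2 * m + 1))))
      have hy' : xMap k (2 * m + 1) q * y k (2 * m + 1) ∈ Ideal.span {x k (2 * m + 1), y k (2 * m + 1)} :=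
        Ideal.mem_span_pair.2 ⟨0, xMap k (2 * m + 1) q, by ring⟩
      have h' := Submodule.sub_mem _ h hy'
      rwa [add_sub_cancel_right] at h'
    have c1 : (1 : k) = PowerSeries.coeff 1 p * PowerSeries.constantCoeff a0 := by
      have := congrArg (PowerSeries.coeff 1) hx0
      rw [PowerSeries.coeff_one_X, map_add, mul_comm (q * a1), pow_succ, mul_assoc] at this
      simpa [PowerSeries.coeff_one_mul, hp] using this
    have c2 := congrArg PowerSeries.constantCoeff hx1
    have c3 := congrArg PowerSeries.constantCoeff hy1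
    simp only [map_zero, map_one, map_add, map_mul, hp, zero_mul, zero_add] at c2 c3
    have hα : PowerSeries.constantCoeff a0 ≠ 0 := fun h => by rw [h, mul_zero] at c1; exact one_ne_zero c1
    rw [(mul_eq_zero.1 c2.symm).resolve_right hα, zero_mul] at c3
    exact one_ne_zero c3

end Groth.Agent.S14095
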