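import Groth.Statements.S14096
import Groth.Agent.Lib.ArSing29.Node
import Mathlib.RingTheory.Flat.EquationalCriterion
-- import your own Groth.Agent.* helpers here

set_option autoImplicit false
set_option maxHeartbeats 400000
universe u
open ArSing

namespace Groth.Agent.S14096

/-- K algebraically closed of characteristic ≠ 2, σ the involution of the node algebra A_1 =
k[[x,y]]/(y^2 - x^2) exchanging x and y, and φ : A_1 → A_1 the k-algebra map with φ(x + y) = x + y
and φ(y - x) = (y - x)^2 (in the branch coordinates u = x + y, v = y - x with uv = 0: u ↦ u, v ↦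
v^2). Then the invariant subalgebra of σ is the image of φ and φ is injective (so A_1^σ ≅ A_1), and
the fixed locus of σ is the branch v = 0: the ideal generated by the elements σ(a) - a is the ideal
(y - x), a minimal prime ideal generated by a zero-divisor (so not a Cartier divisor). Moreover φ is
not flat. (The published statement asserts that this extension is faithfully flat; it is not: as a
module over the invariant subalgebra B = k[[u,w]]/(uw), w = v^2, A_1 is B ⊕ (B/uB)·v, and B/uB is
not flat over B — equivalently the fibre length jumps from 1 on the branch w = 0 to 2 at the closed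
point.) -/
theorem result (k : Type u) [Field k] [IsAlgClosed k]
    (h2 : (2 : k) ≠ 0)
    (σ : ArSing.ring k 1 ≃ₐ[k] ArSing.ring k 1) (hx : σ (ArSing.x k 1) = ArSing.y k 1)
    (hy : σ (ArSing.y k 1) = ArSing.x k 1)
    (φ : ArSing.ring k 1 →ₐ[k] ArSing.ring k 1) (hφu : φ (ArSing.x k 1 + ArSing.y k 1) = ArSing.x k 1 + ArSing.y k 1)
    (hφv : φ (ArSing.y k 1 - ArSing.x k 1) = (ArSing.y k 1 - ArSing.x k 1) ^ 2) :
    (∀ a : ArSing.ring k 1, σ a = a ↔ a ∈ φ.range) ∧ Function.Injective φ ∧
    Ideal.span (Set.range fun a : ArSing.ring k 1 => σ a - a) = Ideal.span {ArSing.y k 1 - ArSing.x k 1} ∧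
    (ArSing.y k 1 - ArSing.x k 1) ∉ nonZeroDivisors (ArSing.ring k 1) ∧
    Ideal.span {ArSing.y k 1 - ArSing.x k 1} ∈ minimalPrimes (ArSing.ring k 1) ∧
    ¬ φ.toRingHom.Flat := by
  have hu2 : IsUnit (2 : PowerSeries k) := ArSing29.isUnit_two k h2
  have hv : ArSing29.brP k (y k 1 - x k 1) = 0 ∧ ArSing29.brM k (y k 1 - x k 1) = -2 * PowerSeries.X := by
    constructor <;> simp only [ArSing29.brP, ArSing29.brM, map_sub, ArSing29.branch_x, ArSing29.branch_y] <;> ring
  have hu : ArSing29.brP k (x k 1 + y k 1) = 2 * PowerSeries.X ∧ ArSing29.brM k (x k 1 + y k 1) = 0 := by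
    constructor <;> simp only [ArSing29.brP, ArSing29.brM, map_add, ArSing29.branch_x, ArSing29.branch_y] <;> ring
  -- composites with `xMap` and with `y`
  have hP : ∀ a, ArSing29.brP k (σ a) = ArSing29.brP k a := by
    intro a
    have e := ArSing29.ps_ext k ((ArSing29.brP k).comp (σ.toAlgHom.comp (xMap k 1))) (AlgHom.id k _)
      (by show ArSing29.brP k (σ (xMap k 1 PowerSeries.X)) = PowerSeries.X
          rw [ArSing29.xMap_X, hx, ArSing29.brP, ArSing29.branch_y, one_mul])
      (by show PowerSeries.X ∣ ArSing29.brP k (σ (xMap k 1 PowerSeries.X))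
          rw [ArSing29.xMap_X, hx, ArSing29.brP, ArSing29.branch_y, one_mul])
    obtain ⟨f, g, rfl⟩ := ArSing29.exists_rep k 1 a
    simp only [map_add, map_mul, hy]
    rw [show ArSing29.brP k (σ (xMap k 1 f)) = f from AlgHom.congr_fun e f, show ArSing29.brP k (σ (xMap k 1 g)) = g from AlgHom.congr_fun e g]
    simp [ArSing29.brP, ArSing29.branch_x, ArSing29.branch_y, ArSing29.branch_xMap]
  let R1 : PowerSeries k →ₐ[k] PowerSeries k :=
    { PowerSeries.rescale (-1 : k) with
      commutes' := fun a => by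
        show PowerSeries.rescale (-1 : k) (algebraMap k (PowerSeries k) a) = _
        ext n; simp [PowerSeries.algebraMap_apply, PowerSeries.coeff_rescale, PowerSeries.coeff_C]
        split_ifs with hn <;> simp [hn] }
  have hM : ∀ a, ArSing29.brM k (σ a) = PowerSeries.rescale (-1 : k) (ArSing29.brM k a) := by
    intro a
    have e := ArSing29.ps_ext k ((ArSing29.brM k).comp (σ.toAlgHom.comp (xMap k 1))) R1
      (by show ArSing29.brM k (σ (xMap k 1 PowerSeries.X)) = PowerSeries.rescale (-1 : k) PowerSeries.X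
          rw [ArSing29.xMap_X, hx, ArSing29.brM, ArSing29.branch_y, PowerSeries.rescale_X]; simp)
      (by show PowerSeries.X ∣ ArSing29.brM k (σ (xMap k 1 PowerSeries.X))
          rw [ArSing29.xMap_X, hx, ArSing29.brM, ArSing29.branch_y]; exact dvd_mul_left _ _)
    obtain ⟨f, g, rfl⟩ := ArSing29.exists_rep k 1 a
    simp only [map_add, map_mul, hy]
    rw [show ArSing29.brM k (σ (xMap k 1 f)) = _ from AlgHom.congr_fun e f, show ArSing29.brM k (σ (xMap k 1 g)) = _ from AlgHom.congr_fun e g]
    simp [R1, ArSing29.brM, ArSing29.branch_x, ArSing29.branch_y, ArSing29.branch_xMap, PowerSeries.rescale_X]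
  obtain ⟨uh, huh⟩ := hu2.exists_right_inv
  have hxeq : x k 1 = xMap k 1 uh * ((x k 1 + y k 1) - (y k 1 - x k 1)) := by
    have : xMap k 1 2 * xMap k 1 uh = 1 := by rw [← map_mul, huh, map_one]
    rw [map_ofNat] at this
    linear_combination (- x k 1) * this
  have hyeq : y k 1 = xMap k 1 uh * ((x k 1 + y k 1) + (y k 1 - x k 1)) := by
    have : xMap k 1 2 * xMap k 1 uh = 1 := by rw [← map_mul, huh, map_one]
    rw [map_ofNat] at this
    linear_combination (- y k 1) * this
  let R2 : PowerSeries k →ₐ[k] PowerSeries k :=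
    { PowerSeries.rescale (-2 : k) with
      commutes' := fun a => by
        show PowerSeries.rescale (-2 : k) (algebraMap k (PowerSeries k) a) = _
        ext n; simp [PowerSeries.algebraMap_apply, PowerSeries.coeff_rescale, PowerSeries.coeff_C]
        split_ifs with hn <;> simp [hn] }
  let θ : PowerSeries k →ₐ[k] PowerSeries k := (ArSing29.sq2 k).comp R2
  have hθX : θ PowerSeries.X = -2 * PowerSeries.X ^ 2 := by
    show ArSing29.sq2 k (PowerSeries.rescale (-2 : k) PowerSeries.X) = _
    rw [PowerSeries.rescale_X, map_mul, PowerSeries.expand_C, PowerSeries.expand_X, map_neg, map_ofNat]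
  have hC : ∀ (ψ : ring k 1 →ₐ[k] PowerSeries k) (e : PowerSeries k →ₐ[k] PowerSeries k), e uh = uh ∧ ψ (φ (xMap k 1 uh)) = uh := by
    intro ψ e
    obtain ⟨c, hc⟩ : ∃ c : k, PowerSeries.C c = uh := ⟨2⁻¹, hu2.mul_left_cancel (by
      rw [huh, ← map_ofNat PowerSeries.C, ← map_mul, mul_inv_cancel₀ h2, map_one])⟩
    subst hc
    exact ⟨e.commutes c, ((ψ.comp φ).comp (xMap k 1)).commutes c⟩
  have hφP : ∀ c, ArSing29.brP k (φ c) = ArSing29.brP k c := by
    intro c
    have ex : ArSing29.brP k (φ (x k 1)) = PowerSeries.X := by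
      rw [hxeq, map_mul, map_sub, hφu, hφv, map_mul, (hC _ (AlgHom.id k _)).2, map_sub, map_pow, hu.1, hv.1]
      linear_combination PowerSeries.X * huh
    have ey : ArSing29.brP k (φ (y k 1)) = PowerSeries.X := by
      rw [hyeq, map_mul, map_add, hφu, hφv, map_mul, (hC _ (AlgHom.id k _)).2, map_add, map_pow, hu.1, hv.1]
      linear_combination PowerSeries.X * huh
    have e := ArSing29.ps_ext k ((ArSing29.brP k).comp (φ.comp (xMap k 1))) (AlgHom.id k _)
      (by show ArSing29.brP k (φ (xMap k 1 PowerSeries.X)) = PowerSeries.X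
          rw [ArSing29.xMap_X, ex])
      (by show PowerSeries.X ∣ ArSing29.brP k (φ (xMap k 1 PowerSeries.X))
          rw [ArSing29.xMap_X, ex])
    obtain ⟨f, g, rfl⟩ := ArSing29.exists_rep k 1 c
    simp only [map_add, map_mul, ey]
    rw [show ArSing29.brP k (φ (xMap k 1 f)) = f from AlgHom.congr_fun e f, show ArSing29.brP k (φ (xMap k 1 g)) = g from AlgHom.congr_fun e g]
    simp [ArSing29.brP, ArSing29.branch_y, ArSing29.branch_xMap]
  have hφM : ∀ c, ArSing29.brM k (φ c) = θ (ArSing29.brM k c) := by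
    intro c
    have ex : ArSing29.brM k (φ (x k 1)) = -2 * PowerSeries.X ^ 2 := by
      rw [hxeq, map_mul, map_sub, hφu, hφv, map_mul, (hC _ θ).2, map_sub, map_pow, hu.2, hv.2]
      linear_combination (-2 * PowerSeries.X ^ 2) * huh
    have ey : ArSing29.brM k (φ (y k 1)) = 2 * PowerSeries.X ^ 2 := by
      rw [hyeq, map_mul, map_add, hφu, hφv, map_mul, (hC _ θ).2, map_add, map_pow, hu.2, hv.2]
      linear_combination (2 * PowerSeries.X ^ 2) * huh
    have e := ArSing29.ps_ext k ((ArSing29.brM k).comp (φ.comp (xMap k 1))) θ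
      (by show ArSing29.brM k (φ (xMap k 1 PowerSeries.X)) = θ PowerSeries.X
          rw [ArSing29.xMap_X, ex, hθX])
      (by show PowerSeries.X ∣ ArSing29.brM k (φ (xMap k 1 PowerSeries.X))
          rw [ArSing29.xMap_X, ex]; exact (dvd_pow_self _ two_ne_zero).mul_left _)
    obtain ⟨f, g, rfl⟩ := ArSing29.exists_rep k 1 c
    simp only [map_add, map_mul, ey]
    rw [show ArSing29.brM k (φ (xMap k 1 f)) = θ f from AlgHom.congr_fun e f, show ArSing29.brM k (φ (xMap k 1 g)) = θ g from AlgHom.congr_fun e g]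
    simp [ArSing29.brM, ArSing29.branch_y, ArSing29.branch_xMap, hθX]
  have hR2inj : ∀ a b : PowerSeries k, R2 a = R2 b → a = b := fun a b h => by
    ext n
    have := congrArg (PowerSeries.coeff n) (show PowerSeries.rescale (-2 : k) a = PowerSeries.rescale (-2 : k) b from h)
    rw [PowerSeries.coeff_rescale, PowerSeries.coeff_rescale] at this
    exact mul_left_cancel₀ (pow_ne_zero n (neg_ne_zero.2 h2)) this
  have hθinj : Function.Injective θ := fun a b h => hR2inj a b
    (ArSing29.split_inj k (b := 0) (b' := 0) (by simpa [θ] using h)).1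
  have hXne : (2 : PowerSeries k) * PowerSeries.X ≠ 0 := mul_ne_zero hu2.ne_zero PowerSeries.X_ne_zero
  have hvne : ArSing29.brM k (y k 1 - x k 1) ≠ 0 := by
    rw [hv.2, neg_mul]; exact neg_ne_zero.2 hXne
  have hker : Ideal.span {y k 1 - x k 1} = RingHom.ker (ArSing29.brP k).toRingHom := by
    refine le_antisymm (Ideal.span_le.2 (by rw [Set.singleton_subset_iff]; exact hv.1)) fun a ha => ?_
    obtain ⟨f, g, rfl⟩ := ArSing29.exists_rep k 1 a
    have ha' : ArSing29.brP k (xMap k 1 f + xMap k 1 g * y k 1) = 0 := ha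
    rw [ArSing29.brP, ArSing29.branch_rep, one_mul] at ha'
    rw [eq_neg_of_add_eq_zero_left ha', map_neg, map_mul, ArSing29.xMap_X, Ideal.mem_span_singleton]
    exact ⟨xMap k 1 g, by ring⟩
  refine ⟨fun a => ?_, fun a b h => ArSing29.branches_inj k h2 (by rw [← hφP, h, hφP]) (hθinj (by rw [← hφM, h, hφM])), ?_, ?_, ?_, fun hflat => ?_⟩
  · constructor
    · intro h
      have h' := hM a
      rw [h] at h'
      obtain ⟨b, hb⟩ := (ArSing29.rescale_eq_iff k h2 _).1 h'.symm
      have hb' : R2 (PowerSeries.rescale (-2⁻¹ : k) b) = b := by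
        show PowerSeries.rescale (-2 : k) (PowerSeries.rescale (-2⁻¹ : k) b) = b
        rw [PowerSeries.rescale_rescale, show (-2⁻¹ : k) * -2 = 1 by field_simp, PowerSeries.rescale_one, RingHom.id_apply]
      have hQ : θ (PowerSeries.rescale (-2⁻¹ : k) b) = ArSing29.brM k a := by
        rw [← hb]; exact congrArg (ArSing29.sq2 k) hb'
      obtain ⟨c, hc1, hc2⟩ := ArSing29.branches_surj k h2 (ArSing29.brP k a) (PowerSeries.rescale (-2⁻¹ : k) b) (by
        rw [ArSing29.constantCoeff_branch, ← hb, PowerSeries.constantCoeff_expand,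
          ← PowerSeries.coeff_zero_eq_constantCoeff_apply, ← PowerSeries.coeff_zero_eq_constantCoeff_apply,
          PowerSeries.coeff_rescale, pow_zero, one_mul])
      exact ⟨c, ArSing29.branches_inj k h2 ((hφP c).trans hc1) (by show ArSing29.brM k (φ c) = _; rw [hφM, hc2, hQ])⟩
    · rintro ⟨c, rfl⟩
      refine ArSing29.branches_inj k h2 (hP _) ((hM _).trans ?_)
      show PowerSeries.rescale (-1 : k) (ArSing29.brM k (φ c)) = ArSing29.brM k (φ c)
      rw [hφM]
      exact ArSing29.rescale_sq2 k _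
  · refine le_antisymm (Ideal.span_le.2 ?_) (Ideal.span_le.2 ?_)
    · rintro _ ⟨a, rfl⟩
      rw [hker]
      show ArSing29.brP k (σ a - a) = 0
      rw [map_sub, hP, sub_self]
    · rw [Set.singleton_subset_iff, SetLike.mem_coe]
      have : σ (x k 1) - x k 1 ∈ Ideal.span (Set.range fun a : ring k 1 => σ a - a) := Ideal.subset_span ⟨_, rfl⟩
      rwa [hx] at this
  · intro h
    have h0 : x k 1 + y k 1 = 0 := (mem_nonZeroDivisors_iff_right.1 h) _ (ArSing29.branches_inj k h2 (by rw [map_mul, hv.1, mul_zero, map_zero]) (by rw [map_mul, hu.2, zero_mul, map_zero]))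
    exact hXne (by rw [← hu.1, h0, map_zero])
  · haveI : (RingHom.ker (ArSing29.brP k).toRingHom).IsPrime := RingHom.ker_isPrime _
    rw [hker]
    refine ⟨⟨inferInstance, bot_le⟩, fun Q hQ hle => ?_⟩
    rw [← hker, Ideal.span_le, Set.singleton_subset_iff]
    have h0 : (x k 1 + y k 1) * (y k 1 - x k 1) = 0 :=
      ArSing29.branches_inj k h2 (by rw [map_mul, hv.1, mul_zero, map_zero]) (by rw [map_mul, hu.2, zero_mul, map_zero])
    refine (hQ.1.mem_or_mem (h0 ▸ zero_mem Q)).resolve_left fun h => hXne ?_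
    rw [← hu.1]; exact hle h
  · obtain ⟨l, a, z, hz, ha⟩ := ArSing29.exists_of_flat_annihilator φ.toRingHom hflat (x k 1 + y k 1) (y k 1 - x k 1) (by
      show φ (x k 1 + y k 1) * (y k 1 - x k 1) = 0
      rw [hφu]
      exact ArSing29.branches_inj k h2 (by rw [map_mul, hv.1, mul_zero, map_zero]) (by rw [map_mul, hu.2, zero_mul, map_zero]))
    have hd : PowerSeries.X ^ 2 ∣ ArSing29.brM k (y k 1 - x k 1) := by
      rw [hz, map_sum]
      refine Finset.dvd_sum fun j _ => ?_
      rw [map_mul]
      refine Dvd.dvd.mul_right ?_ _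
      have hj' := congrArg (ArSing29.brP k) (ha j)
      rw [map_mul, hu.1, map_zero] at hj'
      have hc : PowerSeries.constantCoeff (ArSing29.brM k (a j)) = 0 := by
        rw [← ArSing29.constantCoeff_branch, (mul_eq_zero.1 hj').resolve_left hXne, map_zero]
      obtain ⟨q, hq⟩ := PowerSeries.X_dvd_iff.2 hc
      show PowerSeries.X ^ 2 ∣ ArSing29.brM k (φ (a j))
      rw [hφM, hq, map_mul, hθX]
      exact ((dvd_mul_left _ _).mul_right _)
    rw [hv.2, PowerSeries.X_pow_dvd_iff] at hd
    have h1 := hd 1 (by omega)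
    rw [← map_ofNat PowerSeries.C, ← map_neg, PowerSeries.coeff_C_mul, PowerSeries.coeff_one_X, mul_one] at h1
    exact h2 (neg_eq_zero.1 h1)

end Groth.Agent.S14096
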