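import Groth.Statements.S14097
import Mathlib.Tactic.Ring
import Mathlib.Tactic.Abel
import Mathlib.Tactic.LinearCombination

set_option autoImplicit false
universe u
open ArSing

namespace Groth.Agent.S14097

/-- In any commutative ring, if h_0, …, h_(k-1) (k ≥ 2) and τ satisfy h_i^2 + τ h_i = 0, then ∏_(i ≤
k-2) (h_i + h_(i+1) + τ) = Σ_(j ≤ k-1) τ^(k-1-j) e_j(h), e_j the elementary symmetric functions.
(The published statement is the resulting formula for the class of the small diagonal in the Chow
ring of (P^1)^k, where the h_i are the hyperplane classes of the factors and satisfy these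
relations; only the ring identity is asserted here.) -/
theorem result (A : Type u) [CommRing A] (k : ℕ) (hk : 2 ≤ k) (τ : A)
    (h : ℕ → A) (hrel : ∀ i, i < k → h i ^ 2 + τ * h i = 0) :
    ∏ i ∈ Finset.range (k - 1), (h i + h (i + 1) + τ) =
      ∑ j ∈ Finset.range k, τ ^ (k - 1 - j) * (((Finset.range k).val.map h).esymm j) := by
  let e : ℕ → ℕ → A := fun m j => ((Finset.range m).val.map h).esymm j
  have e0 : ∀ m, e m 0 = 1 := fun m => by simp [e, Multiset.esymm]
  have erec : ∀ m j, e (m + 1) (j + 1) = e m (j + 1) + h m * e m j := fun m j => by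
    simp [e, Multiset.esymm, Finset.range_add_one, Multiset.powersetCard_cons, Multiset.map_map, Function.comp_def, Multiset.sum_map_mul_left]
  have etop : ∀ m, (∀ j, m < j → e m j = 0) ∧ e m m = ∏ i ∈ Finset.range m, h i := by
    intro m
    induction m with
    | zero => exact ⟨fun j hj => by obtain ⟨j, rfl⟩ : ∃ i, j = i + 1 := ⟨j - 1, by omega⟩
                                    simp [e, Multiset.esymm, Multiset.powersetCard_zero_right],
                    by simp [e0]⟩
    | succ m ih =>
      refine ⟨fun j hj => ?_, ?_⟩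
      · obtain ⟨j, rfl⟩ : ∃ i, j = i + 1 := ⟨j - 1, by omega⟩
        rw [erec, ih.1 _ (by omega), ih.1 _ (by omega), mul_zero, add_zero]
      · rw [erec, ih.1 _ (by omega), ih.2, zero_add, Finset.prod_range_succ, mul_comm]
  let E : ℕ → A := fun m => ∑ j ∈ Finset.range m, τ ^ (m - 1 - j) * e m j
  have Erec : ∀ m, E (m + 1) = τ * E m + (∏ i ∈ Finset.range m, h i) + h m * E m := by
    intro m
    have h1 : E (m + 1) = (τ ^ m + ∑ j ∈ Finset.range m, τ ^ (m - 1 - j) * e m (j + 1)) + h m * E m := by
      simp only [E]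
      rw [Finset.sum_range_succ', e0, Finset.mul_sum]
      have : ∀ j, m - (j + 1) = m - 1 - j := fun j => by omega
      simp only [Nat.add_sub_cancel]
      rw [Finset.sum_congr rfl (fun j (_ : j ∈ Finset.range m) => show τ ^ (m - (j + 1)) * e (m + 1) (j + 1) = τ ^ (m - 1 - j) * e m (j + 1) + τ ^ (m - 1 - j) * (h m * e m j) by rw [this j, erec, mul_add]), Finset.sum_add_distrib, Nat.sub_zero, mul_one]
      rw [show (∑ j ∈ Finset.range m, τ ^ (m - 1 - j) * (h m * e m j)) = ∑ j ∈ Finset.range m, h m * (τ ^ (m - 1 - j) * e m j) from Finset.sum_congr rfl fun j _ => mul_left_comm _ _ _]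
      abel
    have h2 : τ ^ m + ∑ j ∈ Finset.range m, τ ^ (m - 1 - j) * e m (j + 1) = τ * E m + e m m := by
      have s1 := Finset.sum_range_succ (fun j => τ ^ (m - j) * e m j) m
      have s2 := Finset.sum_range_succ' (fun j => τ ^ (m - j) * e m j) m
      have s3 : ∑ j ∈ Finset.range m, τ ^ (m - 1 - j) * e m (j + 1) = ∑ j ∈ Finset.range m, τ ^ (m - (j + 1)) * e m (j + 1) :=
        Finset.sum_congr rfl fun j _ => by rw [Nat.add_comm j 1, Nat.sub_sub]
      simp only [e0, Nat.sub_zero, mul_one, Nat.sub_self, pow_zero, one_mul] at s1 s2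
      rw [s3, add_comm, ← s2, s1]
      congr 1
      simp only [E, Finset.mul_sum]
      refine Finset.sum_congr rfl fun j hj => ?_
      rw [← mul_assoc, ← pow_succ']
      congr 2
      have := Finset.mem_range.1 hj
      omega
    rw [h1, h2, (etop m).2]
  have key : ∀ m, m + 1 ≤ k → E (m + 1) = ∏ i ∈ Finset.range m, (h i + h (i + 1) + τ) ∧
      h m * E (m + 1) = ∏ i ∈ Finset.range (m + 1), h i := by
    intro m
    induction m with
    | zero => intro _; rw [Erec 0]; simp [E]
    | succ m ih =>
      intro hm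
      obtain ⟨i1, i2⟩ := ih (by omega)
      have hrec := Erec (m + 1)
      rw [← i2] at hrec
      refine ⟨?_, ?_⟩
      · rw [Finset.prod_range_succ, ← i1, hrec]; ring
      · rw [Finset.prod_range_succ _ (m + 1), ← i2, hrec]
        linear_combination E (m + 1) * hrel (m + 1) (by omega)
  obtain ⟨m, rfl⟩ : ∃ m, k = m + 1 := ⟨k - 1, by omega⟩
  rw [Nat.add_sub_cancel, ← (key m le_rfl).1]
  simp [E, e]

end Groth.Agent.S14097
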