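import Groth.Prelude.Def_BlowUp2
import Mathlib.AlgebraicGeometry.Morphisms.Flat
import Mathlib.AlgebraicGeometry.Morphisms.Finite
import Mathlib.AlgebraicGeometry.Morphisms.ClosedImmersion
import Mathlib.AlgebraicGeometry.IdealSheaf.Subscheme
import Mathlib.CategoryTheory.Limits.Shapes.Pullback.IsPullback.Defs
import Groth.Agent.Lib.PinchBlowUp3.Main
-- import your own Groth.Agent.* helpers here

set_option autoImplicit false
set_option linter.style.haveILetI false
set_option backward.isDefEq.respectTransparency.types false
universe u
open CategoryTheory AlgebraicGeometry
open BlowUp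

namespace Groth.Agent.S14099

/-- Let ι : D̃ → X̃ be a closed immersion whose ideal is effective Cartier, h : D̃ → D finite flat
surjective, all flat over a scheme S, and let (ι, h, b : X̃ → X, j : D → X) be a pushout of schemes
with b affine and j a closed immersion, X carrying the induced morphism to S. Then the closed
subschemes of X defined by the powers I_D^n, n ≥ 1, are flat over S (so blowing up X in I_D commutes
with base change), b is a blowing up of X in I_D, and the inverse image ideal of I_D along b is the
ideal of D̃: the pair (X̃, D̃) is recovered from (X, D) by blowing up. (The published statement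
assumes all three schemes proper, flat and finitely presented over S and D̃ → D only finite flat,
takes for X the pushout built affine-locally from fibre products of rings — for which X̃ → X is
affine and D → X a closed immersion — and also asserts that X is proper and finitely presented over
S; this row assumes only flatness over S and D̃ → D surjective, takes such a pushout as given, and
does not assert properness or finite presentation of X. The affineness of X̃ → X cannot be dropped:
the affine line with doubled origin, with its two origins pinched to one point, has the affine line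
itself as pushout in the category of schemes, and the line is its own blowing up at the origin.) -/
theorem result {S Xt Dt D X : Scheme.{u}}
    (ι : Dt ⟶ Xt) [IsClosedImmersion ι] (hι : BlowUp.IsEffCartierIdeal ι.ker)
    (h : Dt ⟶ D) [IsFinite h] [Flat h] [Surjective h]
    (b : Xt ⟶ X) [IsAffineHom b] (j : D ⟶ X) [IsClosedImmersion j] (hP : IsPushout ι h b j)
    (sX : X ⟶ S) [Flat (b ≫ sX)] [Flat (j ≫ sX)] [Flat (ι ≫ b ≫ sX)] :
    (∀ n : ℕ, 1 ≤ n → Flat ((j.ker ^ n).subschemeι ≫ sX)) ∧
    BlowUp.IsBlowUp b j.ker ∧ j.ker.comap b = ι.ker := by
  have hc : Pinch4.Cond ι h := Pinch4.cond_of_integral fun y => by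
    obtain ⟨O, hO, hyO, -⟩ := exists_isAffineOpen_mem_and_subset (X := X) (x := j y) (U := ⊤) trivial
    refine ⟨b ⁻¹ᵁ O, hO.preimage b, fun z hz => ?_⟩
    show b (ι z) ∈ O
    rw [← Scheme.Hom.comp_apply, hP.w, Scheme.Hom.comp_apply, show h z = y from hz]
    exact hyO
  have H := Pinch4.isPinch_of_cond hc hP
  have hcomap := PinchBlowUp3.comap_ker_eq H
  refine ⟨fun n hn => PinchBlowUp3.flat_pow_pushout sX H hι hn, ⟨?_, fun Y g hg => ?_⟩, hcomap⟩
  · rw [hcomap]; exact hι
  · exact PinchBlowUp3.existsUnique_lift H g hg

end Groth.Agent.S14099
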