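import Groth.Statements.S1410
import Groth.Agent.Lib.FibH1_18.ChartSec

set_option autoImplicit false
set_option linter.style.haveILetI false
set_option maxHeartbeats 1000000
set_option backward.isDefEq.respectTransparency false
set_option backward.isDefEq.respectTransparency.types false
-- import your own Groth.Agent.* helpers here

set_option autoImplicit false
universe u
open FlatMor

namespace Groth.Agent.S1410

open AlgebraicGeometry CategoryTheory Limits in
/-- Let f : X → Y be proper with every fibre of dimension at most 1 and with H^1(X_y, O) = 0 for all y,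
and assume O_Y → f_* O_X is surjective (checked on affine opens). Then for every base change f' : X'
→ Y' of f, O_{Y'} → f'_* O_{X'} is surjective on every affine open of Y'. -/
theorem result {X Y : Scheme.{u}} (f : X ⟶ Y) [IsProper f]
    (hdim : ∀ y : Y, topologicalKrullDim ↑(f.fiber y) ≤ 1) (hH1 : ∀ y : Y, Subsingleton (Coh.HH (f.fiber y) (Coh.structureModule (f.fiber y)) 1))
    (hsurj : ∀ U : Y.Opens, IsAffineOpen U → Function.Surjective (f.app U))
    {X' Y' : Scheme.{u}} (f' : X' ⟶ Y') (g' : X' ⟶ X) (g : Y' ⟶ Y) (hc : IsPullback g' f' f g) :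
    ∀ U' : Y'.Opens, IsAffineOpen U' → Function.Surjective (f'.app U') := by
  haveI : IsProper f' := MorphismProperty.of_isPullback (P := @IsProper) hc inferInstance
  have hd : ∀ (V : Y.Opens), ∀ w ∈ V, topologicalKrullDim ↥(f ⁻¹' {w} : Set X) ≤ 1 := fun V w _ => by
    rw [← Groth.Agent.VanFib13.dim_fiber]; exact hdim w
  have loc : ∀ (V : Y.Opens) (hV : IsAffineOpen V) (W : Y'.Opens) (hW : IsAffineOpen W) (e : W ≤ g ⁻¹ᵁ V),
      Function.Surjective (f'.app W) := by
    intro V hV W hW e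
    obtain ⟨c⟩ := Groth.Agent.FibH1_18.nonempty_cov (A := Γ(Y, V)) (pullback.snd f hV.fromSpec)
    have hO := Groth.Agent.M1.isCoh_structureModule (pullback f hV.fromSpec)
    have hA := Groth.Agent.FibH1_18.vanH_self (A := Γ(Y, V)) _ (Groth.Agent.FibH1_18.dim_chart f hV (hd V)) c
      hO.1 hO.2 fun q _ => by
        have hy : hV.fromSpec ⟨q, ‹_›⟩ ∈ V := hV.range_fromSpec.le ⟨_, rfl⟩
        have hq : hV.primeIdealOf ⟨_, hy⟩ = ⟨q, ‹_›⟩ :=
          hV.fromSpec.isOpenEmbedding.injective (hV.fromSpec_primeIdealOf ⟨_, hy⟩)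
        have h := Groth.Agent.FibH1_18.vanH_prime_of_fibre f hV (hd V) c hy (hH1 _)
        have hp : (hV.primeIdealOf ⟨_, hy⟩).asIdeal = q := congrArg PrimeSpectrum.asIdeal hq
        exact Groth.Agent.FibH1_18.vanH_residueField (A := Γ(Y, V)) _ (Groth.Agent.FibH1_18.dim_chart f hV (hd V)) c
          hO.1 q _ ((Ideal.ker_algebraMap_residueField (I := (hV.primeIdealOf ⟨_, hy⟩).asIdeal)).trans hp) h
    letI : Algebra Γ(Y, V) Γ(Y', W) := (g.appLE V W e).hom.toAlgebra
    have hw : (pullback.fst f' hW.fromSpec ≫ g') ≫ f =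
        (pullback.snd f' hW.fromSpec ≫ Spec.map (g.appLE V W e)) ≫ hV.fromSpec := by
      rw [Category.assoc, hc.w, ← Category.assoc, pullback.condition, Category.assoc, Category.assoc,
        IsAffineOpen.SpecMap_appLE_fromSpec g hV hW e]
    let k : pullback f' hW.fromSpec ⟶ pullback f hV.fromSpec := pullback.lift _ _ hw
    have hk : IsPullback k (pullback.snd f' hW.fromSpec) (pullback.snd f hV.fromSpec) (Spec.map (g.appLE V W e)) := by
      refine IsPullback.of_right (h₁₂ := pullback.fst f hV.fromSpec) (v₁₃ := f) ?_ (pullback.lift_snd _ _ _)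
        (IsPullback.of_hasPullback f hV.fromSpec)
      rw [pullback.lift_fst, IsAffineOpen.SpecMap_appLE_fromSpec g hV hW e]
      exact (IsPullback.of_hasPullback f' hW.fromSpec).paste_horiz hc
    exact (Groth.Agent.FibH1_18.surjective_chart_iff f' hW).1
      (Groth.Agent.FibH1_18.toGlobal_surjective (A := Γ(Y, V)) _ (Groth.Agent.FibH1_18.dim_chart f hV (hd V)) c hA
        ((Groth.Agent.FibH1_18.surjective_chart_iff f hV).2 (hsurj V hV)) (B := Γ(Y', W)) hk)
  intro U' hU' σ
  let I : Ideal Γ(Y', U') :=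
    { carrier := {r | ∃ a, f'.app U' a = f'.app U' r * σ}
      add_mem' := fun {r s} ⟨a, ha⟩ ⟨b, hb⟩ => ⟨a + b, by rw [map_add, map_add, ha, hb, add_mul]⟩
      zero_mem' := ⟨0, by simp⟩
      smul_mem' := fun c r ⟨a, ha⟩ => ⟨c * a, by rw [map_mul, ha, smul_eq_mul, map_mul, mul_assoc]⟩ }
  by_contra hσ
  have hne : I ≠ ⊤ := fun h => hσ (by
    obtain ⟨a, ha⟩ : (1 : Γ(Y', U')) ∈ I := h ▸ Submodule.mem_top
    exact ⟨a, by rw [ha, map_one, one_mul]⟩)
  obtain ⟨m, hm, hle⟩ := Ideal.exists_le_maximal I hne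
  let y' : Y' := hU'.fromSpec ⟨m, hm.isPrime⟩
  have hy' : y' ∈ U' := hU'.range_fromSpec.le ⟨_, rfl⟩
  obtain ⟨V, hV, hgV, -⟩ := exists_isAffineOpen_mem_and_subset (X := Y) (x := g y') (U := ⊤) trivial
  obtain ⟨s, hsle, hys⟩ := hU'.exists_basicOpen_le (V := g ⁻¹ᵁ V) ⟨y', hgV⟩ hy'
  have hsm : s ∉ m := by
    have h : (⟨m, hm.isPrime⟩ : PrimeSpectrum Γ(Y', U')) ∈ PrimeSpectrum.basicOpen s := by
      rw [← hU'.fromSpec_preimage_basicOpen s]
      exact hys
    exact h
  have hD := hU'.basicOpen s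
  obtain ⟨b, hb⟩ := loc V hV (Y'.basicOpen s) hD hsle
    (X'.presheaf.map (homOfLE (f'.preimage_mono (Y'.basicOpen_le s))).op σ)
  haveI := hU'.isLocalization_basicOpen s
  obtain ⟨n, a, ha⟩ := IsLocalization.Away.surj s b
  let F := f'.app U' s
  have hF : X'.basicOpen F = f' ⁻¹ᵁ Y'.basicOpen s := (Scheme.preimage_basicOpen f' s).symm
  have hcomp : ∀ r : Γ(Y', U'), X'.presheaf.map (homOfLE (f'.preimage_mono (Y'.basicOpen_le s))).op (f'.app U' r) =
      f'.app (Y'.basicOpen s) (algebraMap Γ(Y', U') Γ(Y', Y'.basicOpen s) r) := fun r =>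
    (ConcreteCategory.congr_hom (f'.naturality (homOfLE (Y'.basicOpen_le s)).op) r).symm
  have h0 : (F ^ n * σ - f'.app U' a) |_ (X'.basicOpen F) = 0 := by
    have : X'.presheaf.map (homOfLE (f'.preimage_mono (Y'.basicOpen_le s))).op (F ^ n * σ - f'.app U' a) = 0 := by
      rw [map_sub, map_mul, map_pow, hcomp, hcomp, ← hb, ← map_pow, ← map_mul, ← ha, mul_comm, sub_self]
    have h2 := congrArg (X'.presheaf.map (homOfLE hF.le).op) this
    rw [map_zero, ← ConcreteCategory.comp_apply, ← Functor.map_comp] at h2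
    exact h2
  obtain ⟨l, hl⟩ := exists_pow_mul_eq_zero_of_res_basicOpen_eq_zero_of_isCompact X'
    (QuasiCompact.isCompact_preimage (f := f') U'.1 U'.2 hU'.isCompact) _ _ h0
  refine hsm (hm.isPrime.mem_of_pow_mem (l + n) (hle ?_))
  exact ⟨s ^ l * a, by
    rw [mul_sub, sub_eq_zero] at hl
    rw [map_mul, map_pow, pow_add, map_mul, map_pow, map_pow, mul_assoc]
    exact hl.symm⟩

end Groth.Agent.S1410
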