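import Groth.Statements.S14100
import Groth.Agent.Lib.DerTrunc.Basic
-- import your own Groth.Agent.* helpers here

set_option autoImplicit false
universe w v u
open DCoh

open CategoryTheory CategoryTheory.Limits CategoryTheory.Pretriangulated CategoryTheory.Triangulated
open DerivedCategory.TStructure in
theorem Groth.Agent.S14100.aux.{w', v', u'} {C : Type u'} [Category.{v'} C] [Abelian C] [HasDerivedCategory.{w'} C]
    (n : ℕ) : ∀ (a : ℤ) (K : ℕ ⥤ DerivedCategory C),
    (∀ i : ℕ, i ≤ n + 1 → (K.obj i).IsGE a) → (∀ i : ℕ, i ≤ n + 1 → (K.obj i).IsLE (a + n)) →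
    (∀ i : ℕ, i ≤ n → ∀ q : ℤ,
      (DerivedCategory.homologyFunctor C q).map (K.map (homOfLE (Nat.le_succ i))) = 0) →
    K.map (homOfLE (Nat.zero_le (n + 1))) = 0 := by
  induction n with
  | zero =>
    intro a K hGE hLE hz
    have := hGE 1 le_rfl
    have : (K.obj 0).IsLE a := by simpa using hLE 0 (Nat.zero_le _)
    exact Groth.Agent.DerTrunc.hom_eq_zero_of_isLE_of_isGE a _ (hz 0 le_rfl a)
  | succ n ih =>
    intro a K hGE hLE hz
    obtain ⟨b, hb⟩ : ∃ b : ℤ, a + (n + 1 : ℕ) = b := ⟨_, rfl⟩
    rw [hb] at hLE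
    let s : ℕ ⥤ ℕ := Monotone.functor (f := fun i => i + 1) (fun i j h => Nat.add_le_add_right h 1)
    let K' : ℕ ⥤ DerivedCategory C := s ⋙ K ⋙ t.truncLT b
    have h0 : K'.map (homOfLE (Nat.zero_le (n + 1))) = 0 := by
      refine ih a K' (fun i hi => ?_) (fun i hi => ?_) (fun i hi q => ?_)
      · have := hGE (i + 1) (by omega)
        exact (inferInstanceAs (t.IsGE ((t.truncLT b).obj (K.obj (i + 1))) a))
      · exact t.isLE_truncLT_obj (K.obj (i + 1)) b (a + n) (by lia)
      · have hgen : ∀ {X Y : DerivedCategory C} (f : X ⟶ Y),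
            (DerivedCategory.homologyFunctor C q).map f = 0 →
            (DerivedCategory.homologyFunctor C q).map ((t.truncLT b).map f) = 0 := by
          intro X Y f hf
          by_cases hq : q < b
          · have := Groth.Agent.DerTrunc.isIso_homology_truncLTι Y b q hq
            rw [← cancel_mono ((DerivedCategory.homologyFunctor C q).map ((t.truncLTι b).app Y)),
              zero_comp, ← Functor.map_comp]
            erw [(t.truncLTι b).naturality f]
            rw [Functor.map_comp]
            exact (congrArg (_ ≫ ·) hf).trans comp_zero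
          · have : DerivedCategory.IsLE ((t.truncLT b).obj X) (a + n) :=
              t.isLE_truncLT_obj X b (a + n) (by lia)
            exact (DerivedCategory.isZero_of_isLE _ (a + n) q (by lia)).eq_of_src _ _
        exact hgen _ (hz (i + 1) (by omega) q)
    have := hLE 0 (Nat.zero_le _)
    have h1 : K.map (homOfLE (Nat.le_succ 0)) ≫ (t.truncGEπ b).app (K.obj 1) = 0 := by
      have : DerivedCategory.IsGE ((t.truncGE b).obj (K.obj 1)) b :=
        (inferInstance : t.IsGE ((t.truncGE b).obj (K.obj 1)) b)
      refine Groth.Agent.DerTrunc.hom_eq_zero_of_isLE_of_isGE b _ ?_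
      rw [Functor.map_comp, hz 0 (Nat.zero_le _) b]
      exact zero_comp
    obtain ⟨g, hg⟩ := Triangle.coyoneda_exact₂ _ (t.triangleLTGE_distinguished b (K.obj 1))
      (K.map (homOfLE (Nat.le_succ 0))) h1
    have hcomp : K.map (homOfLE (Nat.zero_le (n + 1 + 1))) = K.map (homOfLE (Nat.le_succ 0)) ≫
        K.map (homOfLE (Nat.le_add_left 1 (n + 1) : (1:ℕ) ≤ n + 1 + 1)) := by
      rw [← Functor.map_comp]; rfl
    rw [hcomp, hg]
    refine (Category.assoc _ _ _).trans ?_
    refine (congrArg (g ≫ ·) ((t.truncLTι b).naturality _).symm).trans ?_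
    refine (congrArg (g ≫ ·) ((congrArg (· ≫ _) h0).trans zero_comp)).trans comp_zero

namespace Groth.Agent.S14100

open CategoryTheory in
/-- Let C be an abelian category, a an integer and n a natural number, and let K_0 → K_1 → ⋯ → K_{n+1}
be composable morphisms in the derived category of C such that each K_i has cohomology concentrated
in degrees a, …, a+n and each map K_i → K_{i+1} induces zero on every cohomology object. Then the
composite K_0 → K_{n+1} is zero. (The chain is given as a functor from the ordered set of natural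
numbers; only its values on 0, …, n+1 matter.) -/
theorem result
    (C : Type u) [Category.{v} C] [Abelian C] [HasDerivedCategory.{w} C]
    (a : ℤ) (n : ℕ) (K : ℕ ⥤ DerivedCategory C)
    (hGE : ∀ i : ℕ, i ≤ n + 1 → (K.obj i).IsGE a)
    (hLE : ∀ i : ℕ, i ≤ n + 1 → (K.obj i).IsLE (a + n))
    (hzero : ∀ i : ℕ, i ≤ n → ∀ q : ℤ,
      (DerivedCategory.homologyFunctor C q).map (K.map (homOfLE (Nat.le_succ i))) = 0) :
    K.map (homOfLE (Nat.zero_le (n + 1))) = 0 := Groth.Agent.S14100.aux n a K hGE hLE hzero

end Groth.Agent.S14100
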