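import Groth.Statements.S14101
import Mathlib

set_option autoImplicit false
universe u
open CAlg

namespace Groth.Agent.S14101
open Polynomial

lemma finite_zero_divisor_primes {A : Type u} [CommRing A] [IsNoetherianRing A] (I : Ideal A) :
    {p : ℕ | p.Prime ∧ ∃ a : A, a ∉ I ∧ (p : A) * a ∈ I}.Finite := by
  classical
  have hfin : (associatedPrimes A (A ⧸ I)).Finite := associatedPrimes.finite A _
  refine (hfin.biUnion (t := fun P => {p : ℕ | p.Prime ∧ (p : A) ∈ P}) fun P hP => ?_).subset ?_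
  · refine Set.Subsingleton.finite fun p hp q hq => ?_
    by_contra hne
    obtain ⟨u, v, huv⟩ := ((Nat.coprime_primes hp.1 hq.1).mpr hne).isCoprime.map (Int.castRingHom A)
    simp only [eq_intCast, Int.cast_natCast] at huv
    exact hP.1.ne_top ((Ideal.eq_top_iff_one _).mpr (huv ▸ add_mem (P.mul_mem_left u hp.2) (P.mul_mem_left v hq.2)))
  · rintro p ⟨hp, a, ha, hpa⟩
    have : (p : A) ∈ ⋃ P ∈ associatedPrimes A (A ⧸ I), (P : Set A) := by
      rw [biUnion_associatedPrimes_eq_zero_divisors]
      refine ⟨Ideal.Quotient.mk I a, fun h => ha (Ideal.Quotient.eq_zero_iff_mem.mp h), ?_⟩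
      rw [Algebra.smul_def, Ideal.Quotient.algebraMap_eq, ← map_mul, Ideal.Quotient.eq_zero_iff_mem]
      exact hpa
    simp only [Set.mem_iUnion] at this ⊢
    obtain ⟨P, hP, hpP⟩ := this
    exact ⟨P, hP, hp, hpP⟩

lemma exists_model (A : Type u) [CommRing A] [Algebra.FiniteType ℤ A] [IsDomain A] [CharZero A] :
    ∃ (ι : Type u) (_ : Algebra (MvPolynomial ι ℤ) A) (θ : A) (g : (MvPolynomial ι ℤ)[X]),
      Function.Injective (algebraMap (MvPolynomial ι ℤ) A) ∧ g.Monic ∧ aeval θ g = 0 ∧
      (∀ q : (MvPolynomial ι ℤ)[X], aeval θ q = 0 → g ∣ q) ∧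
      (∃ d : MvPolynomial ι ℤ, d ≠ 0 ∧ C d ∈ Ideal.span {g, derivative g}) ∧
      ∃ s : MvPolynomial ι ℤ, s ≠ 0 ∧ ∀ a : A, ∃ n : ℕ, s ^ n • a ∈ (aeval (R := MvPolynomial ι ℤ) θ).range := by
  classical
  haveI : FaithfulSMul ℤ A := (faithfulSMul_iff_algebraMap_injective ℤ A).mpr Int.cast_injective
  obtain ⟨S, hS⟩ := exists_isTranscendenceBasis ℤ A
  let R₀ := MvPolynomial S ℤ
  letI : Algebra R₀ A := (MvPolynomial.aeval ((↑) : S → A)).toRingHom.toAlgebra
  have hinj : Function.Injective (algebraMap R₀ A) := algebraicIndependent_iff_injective_aeval.mp hS.1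
  haveI : FaithfulSMul R₀ A := (faithfulSMul_iff_algebraMap_injective _ _).mpr hinj
  haveI : Algebra.IsAlgebraic R₀ A := ⟨fun a => by
    obtain ⟨q, hq0, hq⟩ := hS.isAlgebraic.isAlgebraic a
    refine ⟨q.map hS.1.aevalEquiv.symm.toRingHom,
      (Polynomial.map_ne_zero_iff (AlgEquiv.injective _)).mpr hq0, ?_⟩
    rw [aeval_def, eval₂_map, ← hq, aeval_def]
    congr 1
    ext z
    show MvPolynomial.aeval _ (hS.1.aevalEquiv.symm z) = _
    conv_rhs => rw [← hS.1.aevalEquiv.apply_symm_apply z]
    exact (hS.1.algebraMap_aevalEquiv _).symm⟩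
  let F := FractionRing R₀
  let K := FractionRing A
  letI : Algebra F K := FractionRing.liftAlgebra R₀ K
  haveI : IsScalarTower R₀ F K := FractionRing.isScalarTower_liftAlgebra R₀ K
  haveI : CharZero R₀ := inferInstance
  haveI : CharZero F := charZero_of_injective_algebraMap (IsFractionRing.injective R₀ F)
  have halg : ∀ a : A, IsAlgebraic F (algebraMap A K a) := fun a =>
    (IsFractionRing.isAlgebraic_iff R₀ F K).mp ((Algebra.IsAlgebraic.isAlgebraic (R := R₀) a).algebraMap (A := K))
  obtain ⟨gens, hgens⟩ := Algebra.FiniteType.out (R := ℤ) (A := A)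
  let T : Set K := algebraMap A K '' (gens : Set A)
  haveI : Finite T := ((gens.finite_toSet).image _).to_subtype
  haveI : FiniteDimensional F (IntermediateField.adjoin F T) :=
    IntermediateField.finiteDimensional_adjoin (fun x ⟨a, _, hx⟩ => hx ▸ (halg a).isIntegral)
  obtain ⟨α, hα⟩ := Field.exists_primitive_element F (IntermediateField.adjoin F T)
  have hαalg : IsAlgebraic F α := Algebra.IsAlgebraic.isAlgebraic α
  obtain ⟨⟨a, b⟩, hab⟩ := IsLocalization.surj (nonZeroDivisors A) (α : K)
  obtain ⟨r, hr, c, hc⟩ := (Algebra.IsAlgebraic.isAlgebraic (R := R₀) (b : A)).exists_nonzero_dvd b.2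
  let a1 : A := c * a
  obtain ⟨y, hy, hint⟩ := (Algebra.IsAlgebraic.isAlgebraic (R := R₀) a1).exists_integral_multiple
  set θ : A := y • a1 with hθdef
  have hθα : algebraMap A K θ = algebraMap R₀ K (y * r) * (α : K) := by
    rw [hθdef, Algebra.smul_def, map_mul, map_mul (algebraMap R₀ K), IsScalarTower.algebraMap_apply R₀ A K y,
      IsScalarTower.algebraMap_apply R₀ A K r, hc]
    simp only [a1, map_mul, ← hab]
    ring
  set g := minpoly R₀ θ
  have hgF : g.map (algebraMap R₀ F) = minpoly F (algebraMap A K θ) := by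
    rw [← minpoly.isIntegrallyClosed_eq_field_fractions F K hint]
  have hθint : IsIntegral F (algebraMap A K θ) := (halg θ).isIntegral
  have hsep : (g.map (algebraMap R₀ F)).Separable := by
    rw [hgF]; exact (minpoly.irreducible hθint).separable
  refine ⟨S, inferInstance, θ, g, hinj, minpoly.monic hint, minpoly.aeval _ _,
    fun q hq => minpoly.isIntegrallyClosed_dvd hint hq, ?_, ?_⟩
  · rw [separable_def, derivative_map] at hsep
    obtain ⟨u, v, huv⟩ := hsep
    obtain ⟨b1, hb1, hu⟩ := IsLocalization.integerNormalization_spec (nonZeroDivisors R₀) u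
    obtain ⟨b2, hb2, hv⟩ := IsLocalization.integerNormalization_spec (nonZeroDivisors R₀) v
    refine ⟨b1 * b2, mul_ne_zero (nonZeroDivisors.ne_zero hb1) (nonZeroDivisors.ne_zero hb2),
      Ideal.mem_span_pair.mpr ⟨C b2 * IsLocalization.integerNormalization (nonZeroDivisors R₀) u,
        C b1 * IsLocalization.integerNormalization (nonZeroDivisors R₀) v, ?_⟩⟩
    apply Polynomial.map_injective (algebraMap R₀ F) (IsFractionRing.injective R₀ F)
    simp only [Polynomial.map_add, Polynomial.map_mul, map_C, hu, hv, map_mul]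
    simp only [Algebra.smul_def, Polynomial.algebraMap_apply]
    linear_combination (C (algebraMap R₀ F b1) * C (algebraMap R₀ F b2)) * huv
  · have hc0 : algebraMap R₀ F (y * r) ≠ 0 :=
      (map_ne_zero_iff _ (IsFractionRing.injective R₀ F)).mpr (mul_ne_zero hy hr)
    have hαmem : (α : K) ∈ Algebra.adjoin F {algebraMap A K θ} := by
      have : (α : K) = algebraMap F K (algebraMap R₀ F (y * r))⁻¹ * algebraMap A K θ := by
        rw [hθα, IsScalarTower.algebraMap_apply R₀ F K, ← mul_assoc, ← map_mul, inv_mul_cancel₀ hc0,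
          map_one, one_mul]
      rw [this]
      exact mul_mem (Subalgebra.algebraMap_mem _ _) (Algebra.subset_adjoin rfl)
    have hgen : ∀ a ∈ gens, ∃ d : R₀, d ≠ 0 ∧ d • a ∈ (aeval (R := R₀) θ).range := by
      intro a ha
      have h1 : (⟨algebraMap A K a, IntermediateField.subset_adjoin F T ⟨a, ha, rfl⟩⟩ :
          IntermediateField.adjoin F T) ∈ Algebra.adjoin F {α} := by
        rw [← IntermediateField.adjoin_simple_toSubalgebra_of_isAlgebraic hαalg, hα]
        trivial
      have h2 : algebraMap A K a ∈ Algebra.adjoin F {(α : K)} := by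
        have : algebraMap A K a ∈ (Algebra.adjoin F {α}).map (IntermediateField.adjoin F T).val :=
          Subalgebra.mem_map.mpr ⟨_, h1, rfl⟩
        rwa [AlgHom.map_adjoin, Set.image_singleton] at this
      have h3 : algebraMap A K a ∈ Algebra.adjoin F {algebraMap A K θ} :=
        Algebra.adjoin_le (Set.singleton_subset_iff.mpr hαmem) h2
      rw [Algebra.adjoin_singleton_eq_range_aeval] at h3
      obtain ⟨q, hq⟩ := h3
      obtain ⟨d, hd, hq'⟩ := IsLocalization.integerNormalization_spec (nonZeroDivisors R₀) q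
      refine ⟨d, nonZeroDivisors.ne_zero hd, IsLocalization.integerNormalization (nonZeroDivisors R₀) q, ?_⟩
      apply IsFractionRing.injective A K
      show algebraMap A K (aeval θ _) = _
      rw [← aeval_algebraMap_apply, ← aeval_map_algebraMap F, hq', Algebra.smul_def d a, map_mul,
        ← IsScalarTower.algebraMap_apply, ← hq, ← IsScalarTower.algebraMap_smul F d q, map_smul,
        Algebra.smul_def, ← IsScalarTower.algebraMap_apply]
      rfl
    choose d hd0 hd using hgen
    refine ⟨∏ a ∈ gens.attach, d a.1 a.2, Finset.prod_ne_zero_iff.mpr fun a _ => hd0 a.1 a.2, fun a => ?_⟩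
    have ha : a ∈ Algebra.adjoin ℤ (gens : Set A) := hgens ▸ Algebra.mem_top
    induction ha using Algebra.adjoin_induction with
    | mem x hx =>
      refine ⟨1, ?_⟩
      obtain ⟨e, he⟩ := Finset.dvd_prod_of_mem (fun a : gens => d a.1 a.2) (Finset.mem_attach gens ⟨x, hx⟩)
      rw [pow_one, he, mul_comm, mul_smul]
      exact Subalgebra.smul_mem _ (hd x hx) e
    | algebraMap z => exact ⟨0, by rw [pow_zero, one_smul]; exact ⟨(z : R₀[X]), by simp⟩⟩
    | add x y _ _ hx hy =>
      obtain ⟨n, hn⟩ := hx; obtain ⟨m, hm⟩ := hy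
      refine ⟨n + m, ?_⟩
      rw [smul_add]
      refine add_mem ?_ ?_
      · rw [add_comm, pow_add, mul_smul]; exact Subalgebra.smul_mem _ hn _
      · rw [pow_add, mul_smul]; exact Subalgebra.smul_mem _ hm _
    | mul x y _ _ hx hy =>
      obtain ⟨n, hn⟩ := hx; obtain ⟨m, hm⟩ := hy
      refine ⟨n + m, ?_⟩
      rw [pow_add, ← smul_mul_smul_comm]
      exact mul_mem hn hm

lemma domain_case (A : Type u) [CommRing A] [Algebra.FiniteType ℤ A] [IsDomain A] :
    {p : ℕ | p.Prime ∧ ∃ a : A, (p : A) ∣ a ^ 2 ∧ ¬ (p : A) ∣ a}.Finite := by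
  classical
  haveI : IsNoetherianRing A := Algebra.FiniteType.isNoetherianRing ℤ A
  obtain ⟨q, hq⟩ := CharP.exists A
  rcases (CharP.char_is_prime_or_zero A q) with hqp | rfl
  · refine (Set.finite_singleton q).subset ?_
    rintro p ⟨hp, a, -, ha⟩
    by_contra hne
    obtain ⟨u, v, huv⟩ := ((Nat.coprime_primes hp hqp).mpr hne).isCoprime.map (Int.castRingHom A)
    simp only [eq_intCast, Int.cast_natCast, CharP.cast_eq_zero, mul_zero, add_zero] at huv
    exact ha ((IsUnit.of_mul_eq_one _ ((mul_comm _ _).trans huv)).dvd)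
  haveI : CharZero A := CharP.charP_to_charZero A
  obtain ⟨ι, _, θ, g, hinj, hgm, hg0, hgdvd, ⟨d, hd0, hd⟩, s, hs0, hs⟩ := exists_model A
  obtain ⟨m, hm⟩ := MvPolynomial.ne_zero_iff.mp hd0
  refine (((finite_zero_divisor_primes (Ideal.span {algebraMap _ A s})).union
    (Set.finite_Iic (MvPolynomial.coeff m d).natAbs))).subset ?_
  rintro p ⟨hp, a, ha2, ha⟩
  by_contra hbad
  simp only [Set.mem_union, Set.mem_ofPred_eq, Set.mem_Iic, not_or, not_le, not_and, not_exists] at hbad
  obtain ⟨hnzd, hlt⟩ := hbad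
  haveI := Fact.mk hp
  have key : ∀ (n : ℕ) (b : A), (p : A) ∣ s ^ n • b → (p : A) ∣ b := by
    intro n
    induction n with
    | zero => intro b hb; simpa using hb
    | succ n ih =>
      intro b hb
      rw [pow_succ, mul_smul] at hb
      obtain ⟨c, hc⟩ := ih _ hb
      rw [Algebra.smul_def] at hc
      obtain ⟨e, he⟩ := Ideal.mem_span_singleton.mp (by_contra fun h => hnzd hp c h
        (Ideal.mem_span_singleton.mpr (Dvd.intro b hc)))
      refine ⟨e, mul_left_cancel₀ ((map_ne_zero_iff _ hinj).mpr hs0) ?_⟩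
      rw [hc, he]; ring
  obtain ⟨c, hc⟩ := ha2
  obtain ⟨n, h, hh⟩ := hs a
  obtain ⟨k, h', hh'⟩ := hs c
  replace hh : aeval θ h = s ^ n • a := hh
  replace hh' : aeval θ h' = s ^ k • c := hh'
  obtain ⟨q, hq⟩ := hgdvd (C (s ^ k) * h ^ 2 - C (p : MvPolynomial ι ℤ) * (C (s ^ (2 * n)) * h')) (by
    simp only [map_sub, map_mul, map_pow, aeval_C, hh, hh', Algebra.smul_def, map_natCast]
    ring_nf; linear_combination (algebraMap (MvPolynomial ι ℤ) A s) ^ k * (algebraMap (MvPolynomial ι ℤ) A s) ^ (n * 2) * hc)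
  let π : MvPolynomial ι ℤ →+* MvPolynomial ι (ZMod p) := MvPolynomial.map (Int.castRingHom (ZMod p))
  let L := FractionRing (MvPolynomial ι (ZMod p))
  let φ : MvPolynomial ι ℤ →+* L := (algebraMap _ L).comp π
  have hdL : φ d ≠ 0 := by
    refine (map_ne_zero_iff _ (IsFractionRing.injective (MvPolynomial ι (ZMod p)) L)).mpr fun h => ?_
    have := congrArg (MvPolynomial.coeff m) h
    change MvPolynomial.coeff m (MvPolynomial.map (Int.castRingHom (ZMod p)) d) = _ at this
    rw [MvPolynomial.coeff_map, MvPolynomial.coeff_zero, eq_intCast, ZMod.intCast_zmod_eq_zero_iff_dvd,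
      Int.natCast_dvd] at this
    exact absurd (Nat.le_of_dvd (Int.natAbs_pos.mpr hm) this) (not_le.mpr hlt)
  have hsepL : (g.map φ).Separable := by
    rw [separable_def, derivative_map]
    obtain ⟨u, v, huv⟩ := Ideal.mem_span_pair.mp hd
    refine ⟨C (φ d)⁻¹ * u.map φ, C (φ d)⁻¹ * v.map φ, ?_⟩
    rw [mul_assoc, mul_assoc, ← mul_add, ← Polynomial.map_mul, ← Polynomial.map_mul, ← Polynomial.map_add,
      huv, map_C, ← map_mul, inv_mul_cancel₀ hdL, map_one]
  have hpL : φ (p : MvPolynomial ι ℤ) = 0 := by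
    simp only [φ, π, RingHom.comp_apply, map_natCast]
    simp [CharP.cast_eq_zero]
  have h1 : (g.map φ) ∣ (C (s ^ k) * h).map φ := by
    refine hsepL.squarefree.isRadical 2 _ ⟨C (φ (s ^ k)) * q.map φ, ?_⟩
    have h2 := congrArg (Polynomial.map φ) hq
    simp only [Polynomial.map_mul, Polynomial.map_sub, Polynomial.map_pow, map_C, hpL, map_zero, zero_mul,
      sub_zero] at h2 ⊢
    linear_combination C (φ (s ^ k)) * h2
  have h3 : g.map π ∣ (C (s ^ k) * h).map π := by
    rw [← map_dvd_map _ (IsFractionRing.injective (MvPolynomial ι (ZMod p)) L) (hgm.map π),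
      Polynomial.map_map, Polynomial.map_map]
    exact h1
  obtain ⟨q', hq'⟩ := h3
  obtain ⟨q'', rfl⟩ := Polynomial.map_surjective π
    (MvPolynomial.map_surjective _ (ZMod.ringHom_surjective _)) q'
  have h4 : C (p : MvPolynomial ι ℤ) ∣ C (s ^ k) * h - g * q'' := by
    rw [C_dvd_iff_dvd_coeff]
    intro i
    rw [← map_natCast (MvPolynomial.C : ℤ →+* _), MvPolynomial.C_dvd_iff_zmod]
    show π _ = 0
    rw [← coeff_map, Polynomial.map_sub, hq', Polynomial.map_mul, sub_self, coeff_zero]
  obtain ⟨w, hw⟩ := h4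
  refine ha (key (k + n) a ⟨aeval θ w, ?_⟩)
  have h5 := congrArg (aeval θ) hw
  simp only [map_sub, map_mul, aeval_C, hg0, hh, zero_mul, sub_zero, map_natCast] at h5
  rw [← h5, Algebra.smul_def, Algebra.smul_def, map_pow, map_pow, map_pow, pow_add, mul_assoc]

/-- Affine form — let A be a reduced commutative ring of finite type over ℤ. Then for all but finitely
many prime numbers p the reduction A/pA is reduced. (The published statement is for a reduced scheme
of finite type over ℤ; such a scheme has a finite affine open cover, so the affine form carries the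
same content.) -/
theorem result
    (A : Type u) [CommRing A] [Algebra.FiniteType ℤ A] [IsReduced A] :
    {p : ℕ | p.Prime ∧ ¬ IsReduced (A ⧸ Ideal.span {(p : A)})}.Finite := by
  classical
  haveI : IsNoetherianRing A := Algebra.FiniteType.isNoetherianRing ℤ A
  let bad : Ideal A → Set ℕ := fun I =>
    {p : ℕ | p.Prime ∧ ∃ a, a ^ 2 ∈ I ⊔ Ideal.span {(p : A)} ∧ a ∉ I ⊔ Ideal.span {(p : A)}}
  have hprime : ∀ P : Ideal A, P.IsPrime → (bad P).Finite := by
    intro P hP
    haveI : @Algebra.FiniteType ℤ (A ⧸ P) _ _ (Ring.toIntAlgebra _) :=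
      Algebra.FiniteType.of_surjective (Ideal.Quotient.mk P).toIntAlgHom Ideal.Quotient.mk_surjective
    refine (@domain_case (A ⧸ P) _ this _).subset ?_
    rintro p ⟨hp, a, h1, h2⟩
    have key : ∀ x : A, x ∈ P ⊔ Ideal.span {(p : A)} ↔ (p : A ⧸ P) ∣ Ideal.Quotient.mk P x := by
      intro x
      rw [← Ideal.mem_span_singleton, ← map_natCast (Ideal.Quotient.mk P),
        show Ideal.span {Ideal.Quotient.mk P (p : A)} = (Ideal.span {(p : A)}).map (Ideal.Quotient.mk P) by
          rw [Ideal.map_span, Set.image_singleton],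
        Ideal.mem_quotient_iff_mem_sup, sup_comm]
    rw [key] at h1 h2
    rw [map_pow] at h1
    exact ⟨hp, _, h1, h2⟩
  have hind : ∀ s : Finset (Ideal A), (∀ P ∈ s, P.IsPrime) → (bad (s.inf id)).Finite := by
    intro s
    induction s using Finset.induction_on with
    | empty => exact fun _ => Set.Finite.subset Set.finite_empty fun p ⟨_, a, _, h2⟩ => by simp at h2
    | insert P s _ ih =>
      intro h
      set J := s.inf id
      refine (((hprime P (h P (Finset.mem_insert_self _ _))).union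
        (ih fun Q hQ => h Q (Finset.mem_insert_of_mem hQ))).union (finite_zero_divisor_primes (P ⊔ J))).subset ?_
      rintro p ⟨hp, a, h1, h2⟩
      rw [Finset.inf_insert, id] at h1 h2
      change a ^ 2 ∈ (P ⊓ J) ⊔ _ at h1
      change a ∉ (P ⊓ J) ⊔ _ at h2
      by_cases haP : a ∈ P ⊔ Ideal.span {(p : A)}
      swap
      · exact Or.inl (Or.inl ⟨hp, a, (sup_le_sup_right (inf_le_left : P ⊓ J ≤ P) _) h1, haP⟩)
      by_cases haJ : a ∈ J ⊔ Ideal.span {(p : A)}
      swap
      · exact Or.inl (Or.inr ⟨hp, a, (sup_le_sup_right (inf_le_right : P ⊓ J ≤ J) _) h1, haJ⟩)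
      refine Or.inr ⟨hp, ?_⟩
      obtain ⟨x, hx, y, hy, hxy⟩ := Submodule.mem_sup.mp haP
      obtain ⟨x', hx', y', hy', hxy'⟩ := Submodule.mem_sup.mp haJ
      obtain ⟨y, rfl⟩ := Ideal.mem_span_singleton.mp hy
      obtain ⟨y', rfl⟩ := Ideal.mem_span_singleton.mp hy'
      refine ⟨y - y', fun hmem => h2 ?_, ?_⟩
      · obtain ⟨i, hi, j, hj, hij⟩ := Submodule.mem_sup.mp hmem
        refine Submodule.mem_sup.mpr ⟨x + (p : A) * i, ⟨add_mem hx (P.mul_mem_left _ hi), ?_⟩,
          (p : A) * (y - i), Ideal.mem_span_singleton.mpr (Dvd.intro _ rfl), by rw [← hxy]; ring⟩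
        rw [show x + (p : A) * i = x' - (p : A) * j by
          linear_combination hxy - hxy' + (p : A) * hij]
        exact sub_mem hx' (J.mul_mem_left _ hj)
      · rw [show (p : A) * (y - y') = x' - x by linear_combination hxy - hxy']
        exact sub_mem (Submodule.mem_sup_right hx') (Submodule.mem_sup_left hx)
  have hfin : (minimalPrimes A).Finite := Ideal.finite_minimalPrimes_of_isNoetherianRing A ⊥
  refine (hind hfin.toFinset fun P hP => (hfin.mem_toFinset.mp hP).1.1).subset ?_
  have h0 : hfin.toFinset.inf id = ⊥ := by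
    rw [Finset.inf_id_eq_sInf, Set.Finite.coe_toFinset]
    show sInf (⊥ : Ideal A).minimalPrimes = ⊥
    rw [Ideal.sInf_minimalPrimes]; exact nilradical_eq_zero A
  rintro p ⟨hp, hred⟩
  rw [← Ideal.isRadical_iff_quotient_reduced, Ideal.isRadical_iff_pow_one_lt 2 one_lt_two] at hred
  push Not at hred
  obtain ⟨a, h1, h2⟩ := hred
  exact ⟨hp, a, by rw [h0, bot_sup_eq]; exact h1, by rw [h0, bot_sup_eq]; exact h2⟩

end Groth.Agent.S14101
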