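import Groth.Statements.S14102
import Groth.Agent.S14100
import Mathlib.RingTheory.Filtration
import Mathlib.Data.Int.Interval
import Mathlib.RingTheory.Flat.Basic
import Mathlib.Algebra.Homology.ShortComplex.ModuleCat
-- import your own Groth.Agent.* helpers here

set_option autoImplicit false
universe w u
open DCoh

namespace Groth.Agent.S14102

open CategoryTheory MonoidalCategory

variable {A : Type u} [CommRing A]

/-- The complex `J^n ⊗ K`. -/
noncomputable abbrev cx (K : CochainComplex (ModuleCat.{u} A) ℤ) (J : Ideal A) (n : ℕ) :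
    CochainComplex (ModuleCat.{u} A) ℤ :=
  (((curriedTensor (ModuleCat.{u} A)).obj (ModuleCat.of A ↥(J ^ n))).mapHomologicalComplex
    (ComplexShape.up ℤ)).obj K

/-- The transition map `J^p ⊗ K ⟶ J^p' ⊗ K`. -/
noncomputable abbrev tr (K : CochainComplex (ModuleCat.{u} A) ℤ) (J : Ideal A) (p p' : ℕ)
    (h : p' ≤ p) : cx K J p ⟶ cx K J p' :=
  (NatTrans.mapHomologicalComplex
    ((curriedTensor (ModuleCat.{u} A)).map
      (ModuleCat.ofHom (Submodule.inclusion (p := J ^ p) (p' := J ^ p') (Ideal.pow_le_pow_right h))))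
    (ComplexShape.up ℤ)).app K

/-- The multiplication map `J^n ⊗ M → M`. -/
noncomputable def mul (J : Ideal A) (n : ℕ) (M : Type u) [AddCommGroup M] [Module A M] :
    TensorProduct A ↥(J ^ n) M →ₗ[A] M :=
  (TensorProduct.lid A M).toLinearMap ∘ₗ (Submodule.subtype (J ^ n)).rTensor M

theorem mul_tmul (J : Ideal A) (n : ℕ) {M : Type u} [AddCommGroup M] [Module A M] (j : ↥(J ^ n))
    (x : M) : mul J n M (j ⊗ₜ x) = (j : A) • x := by simp [mul]

theorem mul_injective (J : Ideal A) (n : ℕ) (M : Type u) [AddCommGroup M] [Module A M]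
    [Module.Flat A M] : Function.Injective (mul J n M) :=
  (TensorProduct.lid A M).injective.comp
    (Module.Flat.rTensor_preserves_injective_linearMap _ (Submodule.injective_subtype _))

theorem range_mul (J : Ideal A) (n : ℕ) (M : Type u) [AddCommGroup M] [Module A M] :
    LinearMap.range (mul J n M) = (J ^ n) • (⊤ : Submodule A M) := by
  refine le_antisymm ?_ (Submodule.smul_le.2 fun r hr x _ => ⟨⟨r, hr⟩ ⊗ₜ x, mul_tmul J n _ x⟩)
  rintro _ ⟨z, rfl⟩
  induction z using TensorProduct.induction_on with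
  | zero => simp
  | tmul j x => rw [mul_tmul]; exact Submodule.smul_mem_smul j.2 trivial
  | add a b ha hb => rw [map_add]; exact add_mem ha hb

/-- A map of complexes of modules sending cycles to boundaries is zero on homology. -/
theorem homologyMap_eq_zero {K L : CochainComplex (ModuleCat.{u} A) ℤ} (f : K ⟶ L) (q₀ q q₁ : ℤ)
    (h₀ : (ComplexShape.up ℤ).prev q = q₀) (h₁ : (ComplexShape.up ℤ).next q = q₁)
    (hf : ∀ z : K.X q, K.d q q₁ z = 0 → ∃ y : L.X q₀, L.d q₀ q y = f.f q z) :
    HomologicalComplex.homologyMap f q = 0 := by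
  rw [← cancel_epi (K.homologyπ q), HomologicalComplex.homologyπ_naturality, Limits.comp_zero]
  ext z
  have hz : K.d q q₁ (K.iCycles q z) = 0 := by
    rw [← ModuleCat.comp_apply, K.iCycles_d]; rfl
  obtain ⟨y, hy⟩ := hf _ hz
  have hinj : Function.Injective (L.iCycles q) :=
    (ModuleCat.mono_iff_injective _).1 inferInstance
  have he : HomologicalComplex.cyclesMap f q z = L.toCycles q₀ q y := by
    apply hinj
    rw [← ModuleCat.comp_apply, ← ModuleCat.comp_apply, HomologicalComplex.cyclesMap_i,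
      HomologicalComplex.toCycles_i, ModuleCat.comp_apply, hy]
  rw [ModuleCat.comp_apply, he, ← ModuleCat.comp_apply, HomologicalComplex.toCycles_comp_homologyπ]
  rfl

variable [IsNoetherianRing A]

theorem exists_uniform_bound (K : CochainComplex (ModuleCat.{u} A) ℤ)
    (hfin : ∀ q : ℤ, Module.Finite A (K.X q)) (hproj : ∀ q : ℤ, Module.Projective A (K.X q))
    (J : Ideal A) (hJ : ∀ q : ℤ, ∀ x ∈ J, ∀ c : ↑(K.homology q), x • c = 0) (q : ℤ) :
    ∃ c : ℕ, ∀ (p p' : ℕ) (h : p' ≤ p), p' + c + 1 ≤ p →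
      HomologicalComplex.homologyMap (tr K J p p' h) q = 0 := by
  obtain ⟨q₀, rfl⟩ : ∃ q₀, q₀ + 1 = q := ⟨q - 1, by omega⟩
  let Z : Submodule A (K.X (q₀ + 1)) := LinearMap.ker (K.d (q₀ + 1) (q₀ + 1 + 1)).hom
  let B : Submodule A (K.X (q₀ + 1)) := LinearMap.range (K.d q₀ (q₀ + 1)).hom
  have hJZ : J • Z ≤ B := by
    rw [Submodule.smul_le]
    intro x hx z hz
    let T := K.sc' q₀ (q₀ + 1) (q₀ + 1 + 1)
    let hiso : K.homology (q₀ + 1) ≅ T.moduleCatLeftHomologyData.H :=
      ShortComplex.homologyMapIso (K.isoSc' q₀ (q₀ + 1) (q₀ + 1 + 1) (by simp) (by simp)) ≪≫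
        T.moduleCatHomologyIso
    have hv := congrArg hiso.hom (hJ _ x hx (hiso.inv (Submodule.Quotient.mk ⟨z, hz⟩)))
    simp only [map_smul, map_zero, Iso.inv_hom_id_apply] at hv
    obtain ⟨y, hy⟩ := (Submodule.Quotient.mk_eq_zero _).1
      ((Submodule.Quotient.mk_smul _ x _).trans hv)
    exact ⟨y, congrArg Subtype.val hy⟩
  have := hfin (q₀ + 1)
  obtain ⟨k, hk⟩ := Ideal.exists_pow_inf_eq_pow_smul J Z
  refine ⟨k, fun p p' h hp => homologyMap_eq_zero _ q₀ (q₀ + 1) (q₀ + 1 + 1) (by simp) (by simp)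
    fun w hw => ?_⟩
  have := hproj (q₀ + 1)
  have := hproj (q₀ + 1 + 1)
  have hd : ∀ (n : ℕ) (i j : ℤ) (v : (cx K J n).X i),
      mul J n (K.X j) ((cx K J n).d i j v) = K.d i j (mul J n (K.X i) v) := by
    intro n i j v
    have h : mul J n (K.X j) ∘ₗ ((cx K J n).d i j).hom = (K.d i j).hom ∘ₗ mul J n (K.X i) :=
      TensorProduct.ext' fun a x => (mul_tmul J n a _).trans
        ((map_smul (K.d i j).hom (a : A) x).symm.trans
          (congrArg (K.d i j) (mul_tmul J n a x).symm))
    exact LinearMap.congr_fun h v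
  have htr : ∀ (i : ℤ) (v : (cx K J p).X i),
      mul J p' (K.X i) ((tr K J p p' h).f i v) = mul J p (K.X i) v := by
    intro i v
    have h' : mul J p' (K.X i) ∘ₗ ((tr K J p p' h).f i).hom = mul J p (K.X i) :=
      TensorProduct.ext' fun a x =>
        (mul_tmul (M := K.X i) J p' ⟨(a : A), Ideal.pow_le_pow_right h a.2⟩ x).trans
          (mul_tmul J p a x).symm
    exact LinearMap.congr_fun h' v
  have hwZ : mul J p (K.X (q₀ + 1)) w ∈ J ^ p • (⊤ : Submodule A (K.X (q₀ + 1))) ⊓ Z := by
    refine ⟨range_mul J p (K.X (q₀ + 1)) ▸ LinearMap.mem_range_self (mul J p (K.X (q₀ + 1))) w, ?_⟩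
    change K.d (q₀ + 1) (q₀ + 1 + 1) (mul J p (K.X (q₀ + 1)) w) = 0
    rw [← hd, hw]
    exact map_zero (mul J p (K.X (q₀ + 1 + 1)))
  have h1 : mul J p (K.X (q₀ + 1)) w ∈ J ^ p' • B := by
    rw [hk p (by omega)] at hwZ
    have h2 : J ^ (p - k) • (J ^ k • ⊤ ⊓ Z) ≤ J ^ p' • B :=
      calc J ^ (p - k) • (J ^ k • ⊤ ⊓ Z) ≤ J ^ (p' + 1) • Z :=
            Submodule.smul_mono (Ideal.pow_le_pow_right (by omega)) inf_le_right
        _ = J ^ p' • (J • Z) := by rw [pow_succ, mul_smul]
        _ ≤ J ^ p' • B := Submodule.smul_mono le_rfl hJZ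
    exact h2 hwZ
  rw [show B = Submodule.map (K.d q₀ (q₀ + 1)).hom ⊤ from (LinearMap.range_eq_map _),
    ← Submodule.map_smul'', ← range_mul] at h1
  obtain ⟨_, ⟨y, rfl⟩, hy⟩ := h1
  refine ⟨y, mul_injective J p' _ ?_⟩
  rw [hd, htr]
  exact hy



open CategoryTheory MonoidalCategory in
/-- Affine form — let A be a Noetherian commutative ring, K a bounded cochain complex of finitely
generated projective A-modules and J an ideal of A that annihilates every cohomology module of K.
Then for some natural number n and every positive integer m, the map J^(n+m) ⊗_A K → J^m ⊗_A K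
induced by the inclusion of ideals is zero in the derived category of A-modules. (The published
statement is for a perfect complex on a noetherian scheme or formal scheme with the derived tensor
product; over an affine scheme a perfect complex is represented by a bounded complex of finitely
generated projective modules, for which the derived tensor product with J^m is the termwise tensor
product used here.) -/
theorem result
    (A : Type u) [CommRing A] [IsNoetherianRing A] [HasDerivedCategory.{w} (ModuleCat.{u} A)]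
    (K : CochainComplex (ModuleCat.{u} A) ℤ) (a b : ℤ)
    (hK : ∀ q : ℤ, q < a ∨ b < q → Limits.IsZero (K.X q))
    (hfin : ∀ q : ℤ, Module.Finite A (K.X q)) (hproj : ∀ q : ℤ, Module.Projective A (K.X q))
    (J : Ideal A) (hJ : ∀ q : ℤ, ∀ x ∈ J, ∀ c : ↑(K.homology q), x • c = 0) :
    ∃ n : ℕ, ∀ m : ℕ, 0 < m →
      DerivedCategory.Q.map
        ((NatTrans.mapHomologicalComplex
          ((curriedTensor (ModuleCat.{u} A)).map
            (ModuleCat.ofHom (Submodule.inclusion (p := J ^ (n + m)) (p' := J ^ m)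
              (Ideal.pow_le_pow_right (Nat.le_add_left m n)))))
          (ComplexShape.up ℤ)).app K) = 0 := by
  choose c hc using exists_uniform_bound K hfin hproj J hJ
  let C := (Finset.Icc a b).sup c + 1
  let N := (b - a).toNat
  have hz : ∀ (n : ℕ) (q : ℤ), q < a ∨ b < q → Limits.IsZero ((cx K J n).X q) := fun n q hq =>
    Functor.map_isZero ((curriedTensor (ModuleCat.{u} A)).obj (ModuleCat.of A ↥(J ^ n))) (hK q hq)
  refine ⟨(N + 1) * C, fun m _ => ?_⟩
  let e : ℕ → ℕ := fun i => (N + 1 - i) * C + m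
  have he : ∀ i j, i ≤ j → e j ≤ e i := fun i j h =>
    Nat.add_le_add_right (Nat.mul_le_mul_right C (by omega)) m
  have tr_comp : ∀ p p' p'' (h : p' ≤ p) (h' : p'' ≤ p'),
      tr K J p p' h ≫ tr K J p' p'' h' = tr K J p p'' (h'.trans h) := by
    intro p p' p'' h h'
    ext i : 1
    apply ModuleCat.MonoidalCategory.tensor_ext
    intro x y
    rfl
  have tr_id : ∀ p, tr K J p p le_rfl = 𝟙 _ := by
    intro p
    ext i : 1
    apply ModuleCat.MonoidalCategory.tensor_ext
    intro x y
    rfl
  let F : ℕ ⥤ DerivedCategory (ModuleCat.{u} A) :=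
    { obj := fun i => DerivedCategory.Q.obj (cx K J (e i))
      map := fun {i j} f => DerivedCategory.Q.map (tr K J (e i) (e j) (he i j (leOfHom f)))
      map_id := fun i => by rw [tr_id, CategoryTheory.Functor.map_id]
      map_comp := fun f g => by rw [← Functor.map_comp, tr_comp] }
  have hGE : ∀ i, (cx K J (e i)).IsStrictlyGE a := fun i =>
    (CochainComplex.isStrictlyGE_iff _ _).2 fun q hq => hz _ q (Or.inl hq)
  have hLE : ∀ i, (cx K J (e i)).IsStrictlyLE (a + N) := fun i =>
    (CochainComplex.isStrictlyLE_iff _ _).2 fun q hq => hz _ q (Or.inr (by omega))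
  have key : F.map (homOfLE (Nat.zero_le (N + 1))) = 0 := by
    refine Groth.Agent.S14100.result (ModuleCat.{u} A) a N F
      (fun i _ => ?_) (fun i _ => ?_) (fun i hi q => ?_)
    · have := hGE i; exact (inferInstance : (DerivedCategory.Q.obj (cx K J (e i))).IsGE a)
    · have := hLE i; exact (inferInstance : (DerivedCategory.Q.obj (cx K J (e i))).IsLE (a + N))
    · refine Groth.Agent.DerTrunc.homology_map_Q_eq_zero _ q ?_
      by_cases hq : q ∈ Finset.Icc a b
      · refine hc q (e i) (e (i + 1)) (he _ _ (Nat.le_succ i)) ?_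
        have h1 : c q + 1 ≤ C := Nat.add_le_add_right (Finset.le_sup hq) 1
        have h2 : (N + 1 - i) * C = (N + 1 - (i + 1)) * C + C := by
          rw [← Nat.succ_mul]; congr 1; omega
        simp only [e]
        omega
      · rw [Finset.mem_Icc] at hq
        refine homologyMap_eq_zero _ _ q _ rfl rfl fun z _ => ⟨0, ?_⟩
        have hzq := ModuleCat.subsingleton_of_isZero (hz (e (i + 1)) q (by omega))
        exact Subsingleton.elim _ _
  have hfin' : ∀ p p' (h : p' ≤ p), p = e 0 → p' = e (N + 1) →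
      DerivedCategory.Q.map (tr K J p p' h) = 0 := by
    rintro p p' h rfl rfl
    exact key
  exact hfin' _ _ (Nat.le_add_left m _) (by simp [e]) (by simp [e])

end Groth.Agent.S14102
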