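import Groth.Statements.S14105
import Groth.Agent.Lib.FibCodim11.Basic

set_option autoImplicit false
universe u
open CategoryTheory CategoryTheory.Limits AlgebraicGeometry Opposite TopologicalSpace
open CInt

namespace Groth.Agent.S14105

/-- Let f : X → S be a morphism and g : S' → S a base change, with X, S, S' and X' = X ×_S S' locally
Noetherian, and let Y be a closed subset of X with preimage Y' under the projection X' → X. Writing
the codimension of a closed subset relative to a morphism as the infimum, over its points, of the
Krull dimension of the local ring of the fibre through that point: the codimension of Y' relative to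
X' → S' is at least the codimension of Y relative to f, and the two are equal when the projection X'
→ X maps Y' onto Y. -/
theorem result {X S S' : Scheme.{u}} (f : X ⟶ S) (g : S' ⟶ S)
    [IsLocallyNoetherian X] [IsLocallyNoetherian S] [IsLocallyNoetherian S']
    [IsLocallyNoetherian (pullback f g)] (Y : Set ↥X) (hY : IsClosed Y) :
    ((⨅ y : Y, ringKrullDim ↑(CInt.fiberStalk f y.1)) ≤
      ⨅ y' : (fun x' => (pullback.fst f g) x') ⁻¹' Y,
        ringKrullDim ↑(CInt.fiberStalk (pullback.snd f g) y'.1)) ∧
    (Y ⊆ Set.range (pullback.fst f g).base →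
      (⨅ y' : (fun x' => (pullback.fst f g) x') ⁻¹' Y,
        ringKrullDim ↑(CInt.fiberStalk (pullback.snd f g) y'.1)) =
        ⨅ y : Y, ringKrullDim ↑(CInt.fiberStalk f y.1)) := by
  have hle : (⨅ y : Y, ringKrullDim ↑(CInt.fiberStalk f y.1)) ≤
      ⨅ y' : (fun x' => (pullback.fst f g) x') ⁻¹' Y,
        ringKrullDim ↑(CInt.fiberStalk (pullback.snd f g) y'.1) := by
    refine le_iInf fun y' => ?_
    haveI := FibCodim11.flat_fibreMap_pullback f g (pullback.snd f g y'.1)
    exact iInf_le_of_le (⟨pullback.fst f g y'.1, y'.2⟩ : Y)
      (FibCodim11.fiberStalk_dim_le_of_flat f (pullback.snd f g) (pullback.fst f g) g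
        pullback.condition.symm y'.1)
  refine ⟨hle, fun hY' => le_antisymm (le_iInf fun y => ?_) hle⟩
  obtain ⟨x', hx'⟩ := hY' y.2
  obtain ⟨y', hy', hle'⟩ := FibCodim11.exists_fiberStalk_dim_le f (pullback.snd f g) (pullback.fst f g) g
    pullback.condition.symm x'
  change pullback.fst f g x' = y.1 at hx'
  rw [hx'] at hy' hle'
  exact iInf_le_of_le ⟨y', show pullback.fst f g y' ∈ Y by rw [hy']; exact y.2⟩ hle'

end Groth.Agent.S14105
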