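import Groth.Statements.S14106
import Groth.Agent.Lib.FlatDepth.FibreStalk
import Groth.Agent.Lib.SmoothReg17.Basic
import Groth.Agent.Lib.RegLoc.Sop
import Groth.Agent.Lib.Goren15.LCIFibre
import Groth.Agent.Lib.WeilExt.Apply
import Groth.Agent.Lib.EGA43Top.DimLift

set_option autoImplicit false
set_option maxHeartbeats 800000
set_option backward.isDefEq.respectTransparency false
universe u
open CategoryTheory CategoryTheory.Limits AlgebraicGeometry Opposite TopologicalSpace
open CInt

namespace Groth.Agent.S14106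

/-- Let S be a locally Noetherian scheme, f : X → S a smooth morphism and i : Y → X a closed immersion
whose composite with f is smooth. Then the codimension of the image of i relative to f (the infimum
over its points y of the Krull dimension of the local ring at y of the fibre of f through y) equals
its codimension in X (the infimum over the same points of the Krull dimension of O_{X,y}). -/
theorem result {X Y S : Scheme.{u}} [IsLocallyNoetherian X]
    [IsLocallyNoetherian S] (f : X ⟶ S) [Smooth f] (i : Y ⟶ X) [IsClosedImmersion i] [Smooth (i ≫ f)] :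
    (⨅ y : Set.range i.base, ringKrullDim ↑(CInt.fiberStalk f y.1)) =
      ⨅ y : Set.range i.base, ringKrullDim ↑(X.presheaf.stalk y.1) := by
  haveI : IsLocallyNoetherian Y := LocallyOfFiniteType.isLocallyNoetherian i
  refine le_antisymm (le_iInf fun y => iInf_le_of_le y ?_) (le_iInf fun y => ?_)
  · rw [(FlatDepth.stalk_invariants f y.1).2]
    exact le_add_of_nonneg_left ringKrullDim_nonneg_of_nontrivial
  obtain ⟨x, t, rfl⟩ := y
  let R := S.presheaf.stalk (f (i t))
  let A := X.presheaf.stalk (i t)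
  let B := Y.presheaf.stalk t
  let φ : R →+* A := (f.stalkMap (i t)).hom
  let σ : A →+* B := (i.stalkMap t).hom
  have hσ : Function.Surjective σ := i.stalkMap_surjective t
  have hcomp : ((i ≫ f).stalkMap t).hom = σ.comp φ :=
    congrArg CommRingCat.Hom.hom (Scheme.Hom.stalkMap_comp i f t)
  letI : Algebra R A := φ.toAlgebra
  let I : Ideal A := RingHom.ker σ
  have hI : I ≠ ⊤ := RingHom.ker_ne_top σ
  haveI : Module.Flat R (A ⧸ I) := by
    letI : Algebra R B := (σ.comp φ).toAlgebra
    haveI : Module.Flat R B := by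
      have h := Flat.stalkMap (i ≫ f) t
      rw [hcomp] at h
      exact h
    let e : (A ⧸ I) ≃ₐ[R] B := AlgEquiv.ofRingEquiv (f := RingHom.quotientKerEquivOfSurjective hσ) fun r => rfl
    exact Module.Flat.of_linearEquiv e.toLinearEquiv
  let J : Ideal A := (IsLocalRing.maximalIdeal R).map φ
  obtain ⟨eF⟩ := FlatDepth.nonempty_fiberStalkEquiv f (i t)
  haveI : IsRegularLocalRing (A ⧸ J) := by
    haveI : Smooth (f.fiberToSpecResidueField (f (i t))) := MorphismProperty.pullback_snd _ _ inferInstance
    haveI : IsRegularLocalRing (CInt.fiberStalk f (i t)) :=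
      SmoothReg17.isRegularLocalRing_stalk (f.fiberToSpecResidueField (f (i t))) (f.asFiber (i t))
    exact IsRegularLocalRing.of_ringEquiv eF.symm
  haveI hB : IsRegularLocalRing ((A ⧸ J) ⧸ I.map (Ideal.Quotient.mk J)) := by
    obtain ⟨eG⟩ := FlatDepth.nonempty_fiberStalkEquiv (i ≫ f) t
    haveI : Smooth ((i ≫ f).fiberToSpecResidueField ((i ≫ f) t)) :=
      MorphismProperty.pullback_snd _ _ inferInstance
    haveI : IsRegularLocalRing (CInt.fiberStalk (i ≫ f) t) :=
      SmoothReg17.isRegularLocalRing_stalk ((i ≫ f).fiberToSpecResidueField ((i ≫ f) t)) ((i ≫ f).asFiber t)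
    let JB : Ideal B := (IsLocalRing.maximalIdeal R).map (σ.comp φ)
    haveI : IsRegularLocalRing (B ⧸ JB) :=
      IsRegularLocalRing.of_ringEquiv ((Ideal.quotEquivOfEq (by
        show JB = (IsLocalRing.maximalIdeal R).map ((i ≫ f).stalkMap t).hom
        rw [hcomp])).trans eG).symm
    have hs : Function.Surjective ((Ideal.Quotient.mk JB).comp σ) := Ideal.Quotient.mk_surjective.comp hσ
    have hk : RingHom.ker ((Ideal.Quotient.mk JB).comp σ) = J ⊔ I := by
      rw [← RingHom.comap_ker, Ideal.mk_ker, show JB = J.map σ from (Ideal.map_map φ σ).symm,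
        Ideal.comap_map_of_surjective σ hσ, ← RingHom.ker_eq_comap_bot]
    exact IsRegularLocalRing.of_ringEquiv ((DoubleQuot.quotQuotEquivQuotSup J I).trans
      ((Ideal.quotEquivOfEq hk.symm).trans (RingHom.quotientKerEquivOfSurjective hs))).symm
  obtain ⟨z, c, hc, -, hz⟩ := RegLoc.exists_generators_of_regular_quotient
    (IsLocalRing.maximalIdeal (A ⧸ J)).spanFinrank (A ⧸ J) (I.map (Ideal.Quotient.mk J)) rfl
  have hmem : ∀ j : Fin c, ∃ a ∈ I, Ideal.Quotient.mk J a = z (Fin.castLE hc j) := fun j =>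
    (Ideal.mem_map_iff_of_surjective _ Ideal.Quotient.mk_surjective).1
      (hz ▸ Ideal.subset_span ⟨j, rfl⟩)
  choose g hgI hg using hmem
  have hspan : I = Ideal.span (Set.range g) := by
    refine le_antisymm ?_ (Ideal.span_le.2 (by rintro _ ⟨j, rfl⟩; exact hgI j))
    refine Submodule.le_of_le_smul_of_le_jacobson_bot (IsNoetherian.noetherian I)
      (I := J) ((Ideal.map_le_iff_le_comap.2 (IsLocalRing.maximalIdeal_comap φ).ge).trans
        (IsLocalRing.maximalIdeal_le_jacobson _)) fun a ha => ?_
    have h1 : Ideal.Quotient.mk J a ∈ (Ideal.span (Set.range g)).map (Ideal.Quotient.mk J) := by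
      rw [Ideal.map_span, ← Set.range_comp, show Ideal.Quotient.mk J ∘ g = fun j => z (Fin.castLE hc j)
        from funext hg, ← hz]
      exact Ideal.mem_map_of_mem _ ha
    obtain ⟨b, hb, hab⟩ := (Ideal.mem_map_iff_of_surjective _ Ideal.Quotient.mk_surjective).1 h1
    have hbI : b ∈ I := (Ideal.span_le.2 (by rintro _ ⟨j, rfl⟩; exact hgI j) :
      Ideal.span (Set.range g) ≤ I) hb
    have h2 : a - b ∈ J * I := Goren15.inf_map_eq I (IsLocalRing.maximalIdeal R)
      ⟨I.sub_mem ha hbI, Ideal.Quotient.eq.1 hab.symm⟩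
    rw [smul_eq_mul, ← sub_add_cancel a b]
    exact add_mem (Ideal.mem_sup_right h2) (Ideal.mem_sup_left hb)
  obtain ⟨P, hP⟩ := Ideal.nonempty_minimalPrimes hI
  haveI := hP.1.1
  have hPh : P.height ≤ (c : ℕ∞) := by
    classical
    refine (Ideal.height_le_card_of_mem_minimalPrimes_span_finset (s := Finset.univ.image g) ?_).trans
      (by exact_mod_cast Finset.card_image_le.trans (by simp))
    rw [Finset.coe_image, Finset.coe_univ, Set.image_univ, ← hspan]
    exact hP
  obtain ⟨p, hp⟩ : (⟨P, hP.1.1⟩ : PrimeSpectrum A) ∈ Set.range (PrimeSpectrum.comap σ) := by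
    rw [range_comap_of_surjective _ _ hσ]
    exact hP.1.2
  have hx0 : X.fromSpecStalk (i t) ⟨P, hP.1.1⟩ ∈ Set.range i.base := by
    refine ⟨Y.fromSpecStalk t p, ?_⟩
    rw [← hp]
    exact (EGA43Top.stalkMap_comap_apply i t p).symm
  refine iInf_le_of_le ⟨_, hx0⟩ ?_
  show ringKrullDim (X.presheaf.stalk (X.fromSpecStalk (i t) ⟨P, hP.1.1⟩)) ≤ _
  refine (WeilExt.ringKrullDim_stalk_fromSpecStalk (i t) _).le.trans ?_
  refine (WithBot.coe_le_coe.2 hPh).trans ?_
  rw [← ringKrullDim_eq_of_ringEquiv eF, ← IsRegularLocalRing.spanFinrank_maximalIdeal]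
  exact_mod_cast hc

end Groth.Agent.S14106
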