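import Groth.Statements.S14107
import Mathlib
import Groth.Agent.Lib.FlatDepth.FibreStalk
-- import your own Groth.Agent.* helpers here

set_option autoImplicit false
universe u
open CategoryTheory CategoryTheory.Limits AlgebraicGeometry Opposite TopologicalSpace
open CInt

namespace Groth.Agent.S14107

/-- Let f : X → S be a Cohen–Macaulay morphism of locally Noetherian schemes (flat, and every local ring
of every fibre is a Cohen–Macaulay local ring), Y a closed subset of X and d a natural number such
that the codimension of Y relative to f is at least d, i.e. for every y ∈ Y the local ring at y of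
the fibre of f through y has Krull dimension at least d. Then the depth of O_X along Y is at least
d: every local ring O_{X,y}, y ∈ Y, has depth at least d. (The published statement adds that the
local cohomology sheaves of every vector bundle along Y vanish below d; that consequence is not part
of this row.) -/
theorem result {X S : Scheme.{u}} [IsLocallyNoetherian X]
    [IsLocallyNoetherian S] (f : X ⟶ S) [Flat f]
    (hCM : ∀ x : ↥X, LocCoh.IsCohenMacaulayLocalRing ↑(CInt.fiberStalk f x))
    (Y : Set ↥X) (hY : IsClosed Y) (d : ℕ)
    (hcodim : ∀ y : ↥X, y ∈ Y → (d : WithBot ℕ∞) ≤ ringKrullDim ↑(CInt.fiberStalk f y)) :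
    ∀ y : ↥X, y ∈ Y → (d : ℕ∞) ≤ LocCoh.depth ↑(X.presheaf.stalk y) ↑(X.presheaf.stalk y) := by
  intro y hy
  rw [(FlatDepth.stalk_invariants f y).1]
  refine le_trans ?_ le_add_self
  have hfib := (((Module.supportDim_self_eq_ringKrullDim (R := CInt.fiberStalk f y)).symm.trans
    (hCM y).supportDim_eq_depth))
  exact WithBot.coe_le_coe.1 (hfib ▸ hcodim y hy)

end Groth.Agent.S14107
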