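import Groth.Statements.S14110
import Mathlib
import Groth.Agent.Lib.FlatDepth.FibreStalk
-- import your own Groth.Agent.* helpers here

set_option autoImplicit false
universe u
open CategoryTheory CategoryTheory.Limits AlgebraicGeometry Opposite TopologicalSpace
open CInt

namespace Groth.Agent.S14110

/-- Let f : X → S and g : X' → X be morphisms of locally Noetherian schemes with f a Cohen–Macaulay
morphism (flat, every local ring of every fibre a Cohen–Macaulay local ring) and g flat, Y a closed
subset of X and Y' its preimage under g. Then the codimension of Y relative to f (the infimum over y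
∈ Y of the Krull dimension of the local ring at y of the fibre of f through y) is at most the
codimension of Y' relative to the composite X' → S. -/
theorem result {X X' S : Scheme.{u}} [IsLocallyNoetherian X]
    [IsLocallyNoetherian X'] [IsLocallyNoetherian S] (f : X ⟶ S) [Flat f]
    (hCM : ∀ x : ↥X, LocCoh.IsCohenMacaulayLocalRing ↑(CInt.fiberStalk f x)) (g : X' ⟶ X) [Flat g]
    (Y : Set ↥X) (hY : IsClosed Y) :
    (⨅ y : Y, ringKrullDim ↑(CInt.fiberStalk f y.1)) ≤
      ⨅ y' : (fun x' => g x') ⁻¹' Y, ringKrullDim ↑(CInt.fiberStalk (g ≫ f) y'.1) := by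
  refine le_iInf fun y' => (iInf_le _ (⟨g y'.1, y'.2⟩ : Y)).trans ?_
  obtain ⟨x, hx⟩ := y'
  change ringKrullDim (CInt.fiberStalk f (g x)) ≤ _
  have h1 := (FlatDepth.stalk_invariants g x).2
  have h2 := (FlatDepth.stalk_invariants f (g x)).2
  have h3 := (FlatDepth.stalk_invariants (g ≫ f) x).2
  haveI : IsNoetherianRing (CInt.fiberStalk f (g x)) := inferInstance
  obtain ⟨d, hd⟩ := DepthLib.exists_supportDim_eq_natCast (R := S.presheaf.stalk (f (g x)))
    (M := S.presheaf.stalk (f (g x)))
  rw [Module.supportDim_self_eq_ringKrullDim] at hd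
  rw [hd] at h2
  have hd' : ringKrullDim (S.presheaf.stalk ((g ≫ f) x)) = d := hd
  rw [hd'] at h3
  refine DepthLib.withBot_add_coe_cancel d ?_
  rw [add_comm _ (d : WithBot ℕ∞), add_comm _ (d : WithBot ℕ∞), ← h2, ← h3, h1]
  exact le_add_of_nonneg_right ringKrullDim_nonneg_of_nontrivial

end Groth.Agent.S14110
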