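import Groth.Statements.S14112
import Groth.Agent.Lib.DQC9.AffineHom

set_option autoImplicit false
set_option linter.style.haveILetI false
set_option backward.isDefEq.respectTransparency false
universe u
open CategoryTheory CategoryTheory.Limits AlgebraicGeometry Opposite TopologicalSpace
attribute [local instance] HasDerivedCategory.standard
open DCoh

namespace Groth.Agent.S14112

/-- Let X be an affine scheme, E a bounded above cochain complex of finite locally free O_X-modules (a
strictly pseudo-coherent complex) and F a cochain complex of quasi-coherent O_X-modules. Then the
canonical map from morphisms E → F in the homotopy category K(O_X) to morphisms E → F in the derived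
category D(O_X) is bijective. (The published statement allows F to be any complex of O_X-modules
with quasi-coherent cohomology sheaves; that is false already for E = O_X on the affine line over a
field, taking for F the two-term complex given by multiplication by x - 1 on the extension by zero
of the structure sheaf of the complement of the origin, whose only cohomology sheaf is the
skyscraper at the point 1 while it has no nonzero global sections; the published proof first
replaces F by a complex of quasi-coherent modules, and this row takes F of that form.) -/
theorem result {X : Scheme.{u}} [IsAffine X]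
    (E F : CochainComplex X.Modules ℤ) (b : ℤ) (hEb : ∀ i : ℤ, b < i → IsZero (E.X i))
    (hE : ∀ i : ℤ, FlatMod.IsFinLocFree (E.X i)) (hF : ∀ i : ℤ, Coh.IsQCoh (F.X i)) :
    Function.Bijective (fun φ : (HomotopyCategory.quotient X.Modules (ComplexShape.up ℤ)).obj E ⟶
        (HomotopyCategory.quotient X.Modules (ComplexShape.up ℤ)).obj F =>
      (DerivedCategory.Qh (C := X.Modules)).map φ) := by
  obtain ⟨hinj, hsurj⟩ := DQC9.hom_affine E F b hEb hE hF
  let e := DerivedCategory.quotientCompQhIso X.Modules
  let q := HomotopyCategory.quotient X.Modules (ComplexShape.up ℤ)
  refine ⟨fun φ ψ h => ?_, fun g => ?_⟩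
  · obtain ⟨a, rfl⟩ := q.map_surjective φ
    obtain ⟨a', rfl⟩ := q.map_surjective ψ
    have h1 : DerivedCategory.Q.map (a - a') = 0 := by
      rw [Functor.map_sub, sub_eq_zero, ← cancel_epi (e.hom.app E)]
      refine (e.hom.naturality a).symm.trans ((congrArg (· ≫ _) h).trans (e.hom.naturality a'))
    obtain ⟨H⟩ := hinj _ h1
    exact HomotopyCategory.eq_of_homotopy a a' (Homotopy.equivSubZero.symm H)
  · obtain ⟨a, ha⟩ := hsurj (e.inv.app E ≫ g ≫ e.hom.app F)
    refine ⟨q.map a, ?_⟩
    rw [← cancel_mono (e.hom.app F)]
    refine (e.hom.naturality a).trans ?_
    rw [ha, Iso.hom_inv_id_app_assoc]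

end Groth.Agent.S14112
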