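import Groth.Statements.S14113
import Groth.Agent.Lib.DQC9.AffineHom
import Groth.Agent.Lib.KInj.Acyclic

set_option autoImplicit false
set_option linter.style.haveILetI false
set_option backward.isDefEq.respectTransparency false
universe u
open CategoryTheory CategoryTheory.Limits AlgebraicGeometry Opposite TopologicalSpace
attribute [local instance] HasDerivedCategory.standard
open DCoh

namespace Groth.Agent.S14113

/-- Let X be an affine scheme and E a bounded above cochain complex of finite locally free O_X-modules
(a strictly pseudo-coherent complex). Then E is acyclic if and only if the identity of E is null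
homotopic. -/
theorem result {X : Scheme.{u}} [IsAffine X]
    (E : CochainComplex X.Modules ℤ) (b : ℤ) (hEb : ∀ i : ℤ, b < i → IsZero (E.X i))
    (hE : ∀ i : ℤ, FlatMod.IsFinLocFree (E.X i)) :
    E.Acyclic ↔ Nonempty (Homotopy (𝟙 E) 0) := by
  refine ⟨fun h => ?_, fun ⟨h⟩ => Groth.Agent.KInjLib.acyclic_of_contractible h⟩
  refine (DQC9.hom_affine E E b hEb hE fun i => M2.isQCoh_of_isFinLocFree (hE i)).1 _ ?_
  haveI : QuasiIso (0 : E ⟶ E) := ⟨fun i => by
    rw [quasiIsoAt_iff_isIso_homologyMap]
    have hz : IsZero (E.homology i) := (h i).isZero_homology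
    exact ⟨0, hz.eq_of_src _ _, hz.eq_of_src _ _⟩⟩
  have h0 : IsIso (DerivedCategory.Q.map (0 : E ⟶ E)) := inferInstance
  rw [Functor.map_zero] at h0
  rw [CategoryTheory.Functor.map_id]
  exact (cancel_mono (0 : DerivedCategory.Q.obj E ⟶ DerivedCategory.Q.obj E)).1 (by simp)

end Groth.Agent.S14113
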