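import Groth.Statements.S6029
import Groth.Agent.Lib.LocCohZ.Flasque
import Groth.Agent.Lib.SpObj.Grothendieck

set_option autoImplicit false
universe u
open CategoryTheory CategoryTheory.Limits TopologicalSpace
open LocCohZ

namespace Groth.Agent.S6029

open Groth.Agent Opposite


/-- For a closed subset Z = X − U of a topological space X and an abelian sheaf F on X: there is an E₂
spectral sequence of abelian groups with E₂^{p,q} ≅ H^p(X, ℋ^q_Z(F)) for p, q ≥ 0 (and 0 otherwise),
bounded, abutting with finite filtrations to H^n_Z(X, F) (n ≥ 0; 0 for n < 0). (Existence only: the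
E₂ identifications and the abutment isomorphisms are some isomorphisms, not the canonical maps of a
construction, so edge maps and low-degree exact sequences are not part of this statement.) -/
theorem result {X : TopCat.{u}} (F : CohTop.Ab X) (U : Opens X) :
    ∃ (E : E₂CohomologicalSpectralSequence AddCommGrpCat.{u})
      (a : SpSeq.Abutment E (fun n : ℤ =>
        if 0 ≤ n then AddCommGrpCat.of (LocCohZ.HZc F n.toNat U) else AddCommGrpCat.of PUnit.{u + 1})),
      (∀ n : ℤ, a.IsFinite n) ∧ SpSeq.IsBounded E ∧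
      ∀ p q : ℤ, Nonempty ((E.page 2 le_rfl).X (p, q) ≅
        (if 0 ≤ p ∧ 0 ≤ q then AddCommGrpCat.of (CohTop.HU ((LocCohZ.HZsh U q.toNat).obj F) p.toNat ⊤)
          else AddCommGrpCat.of PUnit.{u + 1})) := by
  letI := HasDerivedCategory.standard (CohTop.Ab X)
  letI := HasDerivedCategory.standard AddCommGrpCat.{u}
  let T := LocCohZ.sectSuppF U
  let S := preadditiveCoyoneda.obj (op (CohCx.freeSheaf (Opens.grothendieckTopology X) (⊤ : Opens X)))
  obtain ⟨E, a, ha, hb, hE, hz⟩ := SpObj.grothendieck_spectralSequence' T S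
    (fun Q hQ q hq => LocCohZ.isZero_rightDerived_free_sectSupp U Q ⊤ q hq) F
    (fun n : ℤ => if 0 ≤ n then AddCommGrpCat.of (_root_.LocCohZ.HZc F n.toNat U)
      else AddCommGrpCat.of PUnit.{u + 1})
    (fun n => ⟨(ExtDerived.nonempty_rightDerived_iso_of_iso n (LocCohZ.sectSuppCompIso U) F).some ≪≫
      ExtDerived.rightDerivedCoyonedaIso _ n F ≪≫ eqToIso (by simp)⟩)
    (fun n hn => by simp only [if_neg (not_le.2 hn)]; exact AddCommGrpCat.isZero_of_subsingleton _)
  refine ⟨E, a, ha, hb, fun p q => ?_⟩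
  by_cases hpq : 0 ≤ p ∧ 0 ≤ q
  · obtain ⟨m, rfl⟩ := Int.eq_ofNat_of_zero_le hpq.1
    obtain ⟨k, rfl⟩ := Int.eq_ofNat_of_zero_le hpq.2
    exact ⟨(hE m k).some ≪≫ LocCohZ.rightDerivedFreeIso ⊤ m _ ≪≫
      (CohFound.huExt _ m ⊤).symm.toAddCommGrpIso ≪≫ eqToIso (by simp [hpq]; rfl)⟩
  · exact ⟨(hz p q hpq).iso (by rw [if_neg hpq]; exact AddCommGrpCat.isZero_of_subsingleton _)⟩


end Groth.Agent.S6029
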