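import Groth.Statements.S14116
import Groth.Agent.S6029
import Groth.Agent.Lib.SpSeqEasy8.Basic
import Groth.Agent.Lib.CxOX1.SectDepth

set_option autoImplicit false
universe u
open CategoryTheory CategoryTheory.Limits AlgebraicGeometry Opposite TopologicalSpace
open LocCohZ

namespace Groth.Agent.S14116


open Groth.Agent Opposite



/-- Let X be a locally Noetherian scheme, U ⊆ X open with closed complement Y, d a natural number such
that the depth of O_X along Y is at least d (every local ring O_{X,y}, y ∈ Y, has depth at least d),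
and M a finite locally free O_X-module. Then Γ(X, ℋ^d_Y(M)) is isomorphic to H^d_Y(X, M), where
ℋ^d_Y is the d-th right derived functor of the sheaf of sections with support in Y (applied to the
underlying abelian sheaf of M) and H^d_Y(X, M) is cohomology with support in Y. Existence of an
additive isomorphism only; the published statement asserts a canonical functorial isomorphism that
is linear over the global functions Γ(X, O_X) (obtained in its proof as the edge map of the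
local-to-global spectral sequence), and adds that U ↦ H^d_{Y∩U}(U, M), U ⊆ X open, is a sheaf; none
of this is part of this row. (The published statement assumes a flat morphism X → S with
Cohen–Macaulay fibres and relative codimension of Y at least d; these enter only through the depth
bound, which is the hypothesis of this row.) -/
theorem result (X : Scheme.{u}) [IsLocallyNoetherian X]
    (U : X.Opens) (d : ℕ)
    (hdepth : ∀ x : ↥X, x ∉ (U : Set ↥X) → (d : ℕ∞) ≤ LocCoh.depth ↑(X.presheaf.stalk x) ↑(X.presheaf.stalk x))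
    (M : X.Modules) (hM : FlatMod.IsFinLocFree M) :
    Nonempty (↑(((LocCohZ.HZsh (X := X.carrier) U d).obj (Coh.toAb M)).obj.obj (op ⊤)) ≃+ LocCohZ.HZM X M d U) := by
  have hvan : ∀ i : ℕ, i < d → IsZero ((LocCohZ.HZsh (X := X.carrier) U i).obj (Coh.toAb M)) :=
    (LocCohZQ.vanish_iff_depth U M (CohFound.isCoh_of_isFinLocFree hM) d).2
      (CxOX1.depth_stalk ‹_› U hdepth M hM)
  obtain ⟨E, a, hfin, -, hE⟩ := Groth.Agent.S6029.result (X := X.carrier) (Coh.toAb M) U
  have hz : ∀ p q : ℤ, (p < 0 ∨ q < (d : ℤ)) → IsZero ((E.page 2 le_rfl).X (p, q)) := fun p q h => by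
    obtain ⟨e⟩ := hE p q
    refine IsZero.of_iso ?_ e
    by_cases hpq : 0 ≤ p ∧ 0 ≤ q
    · rw [if_pos hpq]
      obtain ⟨k, rfl⟩ := Int.eq_ofNat_of_zero_le hpq.2
      have hk : IsZero ((LocCohZ.HZsh (X := X.carrier) U ((k : ℤ)).toNat).obj (Coh.toAb M)) := hvan _ (by omega)
      haveI : Subsingleton (CohTop.HU ((LocCohZ.HZsh (X := X.carrier) U ((k : ℤ)).toNat).obj (Coh.toAb M)) p.toNat ⊤) := by
        refine (CohFound.huExt _ p.toNat ⊤).toEquiv.subsingleton_congr.2 ⟨fun x y => ?_⟩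
        rw [← Abelian.Ext.comp_mk₀_id x, ← Abelian.Ext.comp_mk₀_id y, hk.eq_of_src (𝟙 _) 0,
          Abelian.Ext.mk₀_zero, Abelian.Ext.comp_zero, Abelian.Ext.comp_zero]
      exact AddCommGrpCat.isZero_of_subsingleton _
    · rw [if_neg hpq]
      exact AddCommGrpCat.isZero_of_subsingleton _
  have hstat : SpSeq.StationaryAt E ((0 : ℤ), (d : ℤ)) 2 := by
    refine ⟨le_rfl, fun r h₀ hr => ⟨?_, ?_⟩⟩
    · exact (SpSeqEasy8.isZero_page (E := E) 2 le_rfl _ (hz _ _ (Or.inl (by omega))) r h₀ hr).eq_of_src _ _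
    · exact (SpSeqEasy8.isZero_page (E := E) 2 le_rfl _ (hz _ _ (Or.inr (by omega))) r h₀ hr).eq_of_tgt _ _
  have hstep : ∀ p : ℤ, p ≠ 0 → a.fil (d : ℤ) p = a.fil (d : ℤ) (p + 1) := fun p hp =>
    SpSeqEasy8.fil_eq_succ a (d : ℤ) p 2 le_rfl (hz _ _ (by omega))
  obtain ⟨⟨A, hA⟩, B, hB⟩ := hfin (d : ℤ)
  change a.fil _ A = ⊤ at hA
  change a.fil _ B = ⊥ at hB
  have htop : a.fil (d : ℤ) 0 = ⊤ := by
    rcases le_total A 0 with h | h
    · rw [← hA, SpSeqEasy8.eq_of_steps (a.fil (d : ℤ)) h fun i _ hi => hstep i (by omega)]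
    · exact top_le_iff.1 (hA.ge.trans (a.anti (d : ℤ) h))
  have hbot : a.fil (d : ℤ) (0 + 1) = ⊥ := by
    rcases le_total (0 + 1) B with h | h
    · rw [← hB, SpSeqEasy8.eq_of_steps (a.fil (d : ℤ)) h fun i hi _ => hstep i (by omega)]
    · exact le_bot_iff.1 ((a.anti (d : ℤ) h).trans hB.le)
  obtain ⟨e₁⟩ := SpSeqEasy8.nonempty_page_iso (E := E) ((0 : ℤ), (d : ℤ)) hstat (a.stat _)
  obtain ⟨e₂⟩ := hE 0 (d : ℤ)
  have e₃ : (E.page (a.rk ((0 : ℤ), (d : ℤ))) (a.stat _).1).X ((0 : ℤ), (d : ℤ)) ≅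
      SpSeq.grPiece (a.fil (d : ℤ)) (a.anti (d : ℤ)) 0 := by
    have key : ∀ (n : ℤ) (hn : n = (d : ℤ)),
        Nonempty (SpSeq.grPiece (a.fil n) (a.anti n) 0 ≅ SpSeq.grPiece (a.fil (d : ℤ)) (a.anti (d : ℤ)) 0) := by
      rintro n rfl; exact ⟨Iso.refl _⟩
    exact a.β ((0 : ℤ), (d : ℤ)) ≪≫ (key _ (zero_add _)).some
  obtain ⟨e₄⟩ := SpSeqEasy8.nonempty_gr_iso (a.fil (d : ℤ)) (a.anti (d : ℤ)) 0 htop hbot
  have h1 : (0 : ℤ) ≤ 0 ∧ (0 : ℤ) ≤ (d : ℤ) := ⟨le_rfl, Int.natCast_nonneg d⟩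
  rw [if_pos h1] at e₂
  let e₅ := e₄ ≪≫ eqToIso (if_pos (Int.natCast_nonneg d))
  let E' := (e₂.symm ≪≫ e₁ ≪≫ e₃ ≪≫ e₅).addCommGroupIsoToAddEquiv
  simp only [Int.toNat_natCast, Int.toNat_zero] at E'
  exact ⟨((CohFree.homEquivSect (Opens.grothendieckTopology X.carrier) (⊤ : X.Opens) _).symm.trans
    (Abelian.Ext.addEquiv₀.symm.trans (CohFound.huExt _ 0 ⊤).symm)).trans E'⟩

end Groth.Agent.S14116
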