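import Groth.Statements.S14119
import Groth.Agent.Lib.EffCartier.Dense
import Groth.Agent.Lib.HartConn6.Codim
import Mathlib

set_option autoImplicit false
universe u
open CategoryTheory CategoryTheory.Limits AlgebraicGeometry Opposite TopologicalSpace
open BlowUp

namespace Groth.Agent.S14119

open IsLocalRing Order in
theorem dim_eq_add_one {A : Type u} [CommRing A] [IsNoetherianRing A] [IsLocalRing A]
    (hcat : CAlg.IsCatenary A) (hu : Subsingleton (minimalPrimes A)) (P : Ideal A) [P.IsPrime] (f : A)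
    (hf : f ∉ P) (hfm : f ∈ maximalIdeal A)
    (hmin : ∀ q : Ideal A, q.IsPrime → P ≤ q → f ∈ q → q = maximalIdeal A) :
    ringKrullDim A = (P.height : WithBot ℕ∞) + 1 := by
  have heq : EGA4.IsEquidim A := by
    intro p hp
    refine le_antisymm (ringKrullDim_quotient_le p) ?_
    rw [ringKrullDim_quotient]
    refine Order.krullDim_le_of_strictMono (fun x => ⟨x, ?_⟩) fun a b h => h
    intro a ha
    obtain ⟨q, hq, hqx⟩ := Ideal.exists_minimalPrimes_le (J := x.asIdeal) (bot_le : (⊥ : Ideal A) ≤ _)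
    have hpq : p = q := congrArg Subtype.val (hu.elim ⟨p, hp⟩ ⟨q, hq⟩)
    exact hqx (hpq ▸ ha)
  have hm : maximalIdeal A ∈ (P ⊔ Ideal.span {f}).minimalPrimes := by
    refine ⟨⟨(maximalIdeal.isMaximal A).isPrime, sup_le (le_maximalIdeal (Ideal.IsPrime.ne_top ‹_›))
      ((Ideal.span_singleton_le_iff_mem _).2 hfm)⟩, fun q hq _ => ?_⟩
    exact (hmin q hq.1 (le_sup_left.trans hq.2) (hq.2 (Ideal.mem_sup_right (Ideal.mem_span_singleton_self f)))).ge
  have h1 := Ideal.map_height_le_one_of_mem_minimalPrimes hm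
  let P' : PrimeSpectrum A := ⟨P, ‹_›⟩
  have hcov : P' ⋖ IsLocalRing.closedPoint A := by
    refine ⟨lt_of_le_of_ne (le_maximalIdeal (Ideal.IsPrime.ne_top ‹_›)) fun h => hf ?_, fun Q hPQ hQm => ?_⟩
    · show f ∈ P'.asIdeal
      rw [h]; exact hfm
    · let φ := Ideal.Quotient.mk P
      have hcm : ∀ J : Ideal A, P ≤ J → (J.map φ).comap φ = J := fun J hJ => by
        rw [Ideal.comap_map_of_surjective _ Ideal.Quotient.mk_surjective, sup_eq_left]
        exact (Ideal.mk_ker (I := P)).le.trans hJ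
      haveI : (Q.asIdeal.map φ).IsPrime :=
        Ideal.map_isPrime_of_surjective Ideal.Quotient.mk_surjective (Ideal.mk_ker.trans_le hPQ.le)
      have h2 : Q.asIdeal.map φ < (maximalIdeal A).map φ := by
        refine lt_of_le_of_ne (Ideal.map_mono hQm.le) fun h => hQm.ne ?_
        refine PrimeSpectrum.ext ((hcm _ hPQ.le).symm.trans (h ▸ hcm _ ?_))
        exact le_maximalIdeal (Ideal.IsPrime.ne_top ‹_›)
      have h3 : (⊥ : Ideal (A ⧸ P)) < Q.asIdeal.map φ := by
        refine bot_lt_iff_ne_bot.2 fun h => hPQ.not_ge fun a ha => ?_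
        have : φ a ∈ Q.asIdeal.map φ := Ideal.mem_map_of_mem φ ha
        rw [h, Submodule.mem_bot] at this
        exact Ideal.Quotient.eq_zero_iff_mem.1 this
      have h4 := Ideal.height_strict_mono_of_isPrime h3
      have h5 := Ideal.height_strict_mono_of_isPrime h2
      rw [Ideal.height_bot] at h4
      exact not_lt.2 (Order.one_le_iff_pos.2 h4) (h5.trans_le h1)
  have h2 := Hironaka.coheight_eq_add_one hcat hcov
  have h6 : coheight (IsLocalRing.closedPoint A) = 0 := Order.coheight_eq_zero.2 fun Q hQ => le_maximalIdeal Q.2.ne_top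
  rw [h6, zero_add] at h2
  obtain ⟨n, hn⟩ := ENat.ne_top_iff_exists.1 (P.height_ne_top (Ideal.IsPrime.ne_top ‹_›))
  have hn' : height P' = n := ((PrimeSpectrum.height_eq_orderHeight P').symm.trans hn.symm)
  rw [← HartConn6.height_add_coheight heq hcat n P' hn', hn', h2, ← hn]
  rfl

theorem dim_stalk {X : Scheme.{u}} {U : X.Opens} (hU : IsAffineOpen U) (Q : Spec Γ(X, U)) (h : hU.fromSpec Q ∈ U) :
    ringKrullDim (X.presheaf.stalk (hU.fromSpec Q)) = (Q.asIdeal.height : WithBot ℕ∞) := by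
  letI : Algebra Γ(X, U) (X.presheaf.stalk (hU.fromSpec Q)) :=
    TopCat.Presheaf.algebra_section_stalk X.presheaf (⟨hU.fromSpec Q, h⟩ : U)
  haveI : IsLocalization.AtPrime (X.presheaf.stalk (hU.fromSpec Q)) Q.asIdeal := hU.isLocalization_stalk' Q h
  exact IsLocalization.AtPrime.ringKrullDim_eq_height Q.asIdeal _

theorem one_le_dim {X : Scheme.{u}} {𝓘 : X.IdealSheafData} (hY : BlowUp.IsEffCartierIdeal 𝓘) (y : X)
    (hy : y ∈ 𝓘.support) : 1 ≤ ringKrullDim (X.presheaf.stalk y) := by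
  obtain ⟨⟨U, hU⟩, hyU, f, hf, hI⟩ := hY y
  obtain ⟨Q, rfl⟩ := hU.range_fromSpec.ge hyU
  rw [dim_stalk hU Q hyU]
  refine WithBot.coe_le_coe.2 (Order.one_le_iff_pos.2 (pos_iff_ne_zero.2 fun h0 => ?_))
  have hm := Ideal.height_eq_zero_iff.1 h0
  have hfQ : f ∈ Q.asIdeal := by
    rw [𝓘.mem_support_iff_of_mem (U := ⟨U, hU⟩) hyU, hI, Scheme.zeroLocus_span, Scheme.zeroLocus_singleton] at hy
    by_contra hfQ
    apply hy
    show Q ∈ hU.fromSpec ⁻¹ᵁ X.basicOpen f
    rw [hU.fromSpec_preimage_basicOpen]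
    exact hfQ
  exact Set.disjoint_left.1 (Ideal.disjoint_nonZeroDivisors_of_mem_minimalPrimes hm) hfQ hf

/-- Let X be a locally Noetherian scheme, Y an effective Cartier divisor on X (a quasi-coherent ideal
sheaf which, near every point, is generated on some affine open by one nonzerodivisor; Y is its
support) and Z a closed integral subscheme (a closed immersion i from an integral scheme with
generic point ξ). Assume X irreducible with all local rings catenary (the first of the two printed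
sufficient conditions), and assume that the inverse image ideal sheaf of Y on Z is the ideal of an
effective Cartier divisor on Z. Then Y and Z intersect properly: every point ζ of Y ∩ Z that is
maximal under generization inside Y ∩ Z satisfies dim O_{X,ζ} = codim(Y,X) + codim(Z,X), where
codim(Y,X) is the infimum over y ∈ Y of dim O_{X,y} and codim(Z,X) = dim O_{X,i(ξ)}. (The published
statement also has a second sufficient condition, X biequidimensional, and a fourth equivalent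
condition, vanishing of the higher Tor sheaves of O_Y against O_Z; neither is included in this row.) -/
theorem result {X Z : Scheme.{u}}
    [IsLocallyNoetherian X] [IrreducibleSpace ↥X] (hcat : ∀ x : ↥X, CAlg.IsCatenary ↑(X.presheaf.stalk x))
    (𝓘 : X.IdealSheafData) (hY : BlowUp.IsEffCartierIdeal 𝓘)
    (i : Z ⟶ X) [IsClosedImmersion i] [IsIntegral Z] (hc : BlowUp.IsEffCartierIdeal (𝓘.comap i)) :
    (∀ ζ : ↥X, ζ ∈ (𝓘.support : Set ↥X) ∩ Set.range i.base →
        (∀ ζ' : ↥X, ζ' ∈ (𝓘.support : Set ↥X) ∩ Set.range i.base → ζ' ⤳ ζ → ζ' = ζ) →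
        ringKrullDim ↑(X.presheaf.stalk ζ) =
          (⨅ y : (𝓘.support : Set ↥X), ringKrullDim ↑(X.presheaf.stalk y.1)) +
            ringKrullDim ↑(X.presheaf.stalk (i (genericPoint ↥Z)))) := by
  intro ζ hζ hζmin
  obtain ⟨⟨U, hU⟩, hζU, f, hf, hI⟩ := hY ζ
  dsimp only at hζU f hf hI
  let ξ := i (genericPoint Z)
  have hrange : ∀ y, y ∈ Set.range i.base ↔ ξ ⤳ y := by
    intro y
    refine ⟨?_, fun h => ?_⟩
    · rintro ⟨z, rfl⟩; exact (genericPoint_specializes z).map i.continuous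
    · exact h.mem_closed i.isClosedEmbedding.isClosed_range ⟨_, rfl⟩
  have hξI : ξ ∉ 𝓘.support := by
    intro h
    obtain ⟨z, hz, hzg⟩ := EffCartier.exists_specializes_cmpl hc (genericPoint Z)
    have : z = genericPoint Z := (hzg.antisymm (genericPoint_specializes z)).eq
    subst this
    apply hz
    show genericPoint Z ∈ (𝓘.comap i).support
    rw [Scheme.IdealSheafData.support_comap]
    exact h
  have hξU : ξ ∈ U := ((hrange ζ).1 hζ.2).mem_open U.2 hζU
  let F := hU.fromSpec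
  have hspec : ∀ Q Q' : Spec Γ(X, U), F Q ⤳ F Q' ↔ Q.asIdeal ≤ Q'.asIdeal := by
    intro Q Q'
    rw [F.isOpenEmbedding.isInducing.specializes_iff]
    exact (PrimeSpectrum.le_iff_specializes Q Q').symm
  have hFU : ∀ Q, F Q ∈ U := fun Q => hU.range_fromSpec.le ⟨Q, rfl⟩
  have hsupp : ∀ Q, F Q ∈ 𝓘.support ↔ f ∈ Q.asIdeal := by
    intro Q
    rw [𝓘.mem_support_iff_of_mem (U := ⟨U, hU⟩) (hFU Q), hI, Scheme.zeroLocus_span, Scheme.zeroLocus_singleton]
    show F Q ∉ X.basicOpen f ↔ _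
    have : F ⁻¹ᵁ X.basicOpen f = PrimeSpectrum.basicOpen f := hU.fromSpec_preimage_basicOpen f
    rw [show F Q ∈ X.basicOpen f ↔ Q ∈ F ⁻¹ᵁ X.basicOpen f from Iff.rfl, this]
    exact not_not
  have hsurj : ∀ y ∈ U, ∃ Q, F Q = y := fun y hy => hU.range_fromSpec.ge hy
  obtain ⟨Qζ, rfl⟩ := hsurj ζ hζU
  obtain ⟨Qξ, hQξ⟩ := hsurj ξ hξU
  have hle : Qξ.asIdeal ≤ Qζ.asIdeal := (hspec _ _).1 (hQξ.symm ▸ (hrange _).1 hζ.2)
  haveI : IsNoetherianRing Γ(X, U) := IsLocallyNoetherian.component_noetherian ⟨U, hU⟩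
  -- the local ring
  let A := X.presheaf.stalk (F Qζ)
  letI : Algebra Γ(X, U) A := TopCat.Presheaf.algebra_section_stalk X.presheaf (⟨F Qζ, hFU Qζ⟩ : U)
  haveI hloc : IsLocalization.AtPrime A Qζ.asIdeal := hU.isLocalization_stalk' Qζ (hFU Qζ)
  have hgen : ∀ Q Q' : Ideal Γ(X, U), Q ∈ minimalPrimes Γ(X, U) → Q' ∈ minimalPrimes Γ(X, U) → Q = Q' := by
    intro Q Q' hQ hQ'
    obtain ⟨η, hη⟩ := hsurj (genericPoint X) ((genericPoint_specializes (F Qζ)).mem_open U.2 (hFU Qζ))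
    have h1 := (hspec η ⟨Q, hQ.1.1⟩).1 (hη.symm ▸ genericPoint_specializes _)
    have h2 := (hspec η ⟨Q', hQ'.1.1⟩).1 (hη.symm ▸ genericPoint_specializes _)
    exact ((hQ.2 ⟨η.2, bot_le⟩ h1).trans h2).antisymm ((hQ'.2 ⟨η.2, bot_le⟩ h2).trans h1)
  have huniq : Subsingleton (minimalPrimes A) := by
    refine ⟨fun ⟨P, hP⟩ ⟨P', hP'⟩ => Subtype.ext ?_⟩
    show P = P'
    haveI := hP.1.1
    haveI := hP'.1.1
    rw [← IsLocalization.map_comap Qζ.asIdeal.primeCompl A P, ← IsLocalization.map_comap Qζ.asIdeal.primeCompl A P']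
    congr 1
    refine hgen _ _ ?_ ?_
    all_goals
      refine ⟨⟨Ideal.comap_isPrime _ _, bot_le⟩, fun q hq hqP => ?_⟩
      haveI := hq.1
      have hd : Disjoint (Qζ.asIdeal.primeCompl : Set Γ(X, U)) q := by
        refine Set.disjoint_left.2 fun a ha haq => ha ?_
        have h : algebraMap Γ(X, U) A a ∈ IsLocalRing.maximalIdeal A :=
          IsLocalRing.le_maximalIdeal (Ideal.IsPrime.ne_top inferInstance) (hqP haq)
        exact (IsLocalization.AtPrime.to_map_mem_maximal_iff A Qζ.asIdeal a).1 h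
      haveI := IsLocalization.isPrime_of_isPrime_disjoint Qζ.asIdeal.primeCompl A q ‹_› hd
      first
        | exact (Ideal.comap_mono (hP.2 ⟨this, bot_le⟩ (Ideal.map_le_iff_le_comap.2 hqP))).trans
            (IsLocalization.comap_map_of_isPrime_disjoint Qζ.asIdeal.primeCompl A ‹q.IsPrime› hd).le
        | exact (Ideal.comap_mono (hP'.2 ⟨this, bot_le⟩ (Ideal.map_le_iff_le_comap.2 hqP))).trans
            (IsLocalization.comap_map_of_isPrime_disjoint Qζ.asIdeal.primeCompl A ‹q.IsPrime› hd).le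
  have hd : Disjoint (Qζ.asIdeal.primeCompl : Set Γ(X, U)) Qξ.asIdeal :=
    Set.disjoint_left.2 fun a ha haq => ha (hle haq)
  let P : Ideal A := Qξ.asIdeal.map (algebraMap Γ(X, U) A)
  haveI hPp : P.IsPrime := IsLocalization.isPrime_of_isPrime_disjoint Qζ.asIdeal.primeCompl A Qξ.asIdeal Qξ.2 hd
  have hPc : P.under Γ(X, U) = Qξ.asIdeal :=
    IsLocalization.comap_map_of_isPrime_disjoint Qζ.asIdeal.primeCompl A Qξ.2 hd
  have hdim := dim_eq_add_one (hcat (F Qζ)) huniq P (algebraMap Γ(X, U) A f)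
    (fun h => hξI (hQξ ▸ (hsupp Qξ).2 (hPc.le h)))
    ((IsLocalization.AtPrime.to_map_mem_maximal_iff A Qζ.asIdeal f).2 ((hsupp Qζ).1 hζ.1))
    (by
      intro q hq hPq hfq
      have hqc : q.comap (algebraMap Γ(X, U) A) ≤ Qζ.asIdeal := fun a ha =>
        (IsLocalization.AtPrime.to_map_mem_maximal_iff A Qζ.asIdeal a).1
          (IsLocalRing.le_maximalIdeal hq.ne_top ha)
      let Q : Spec Γ(X, U) := ⟨q.comap (algebraMap Γ(X, U) A), Ideal.comap_isPrime _ _⟩
      have h := hζmin (F Q) ⟨(hsupp Q).2 hfq, (hrange _).2 (hQξ ▸ (hspec Qξ Q).2 (Ideal.map_le_iff_le_comap.1 hPq))⟩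
        ((hspec Q Qζ).2 hqc)
      have hQ : Q = Qζ := F.isOpenEmbedding.injective h
      rw [← IsLocalization.map_comap Qζ.asIdeal.primeCompl A q]
      show Q.asIdeal.map _ = _
      rw [hQ, IsLocalization.AtPrime.map_eq_maximalIdeal Qζ.asIdeal A])
  have hξdim : ringKrullDim (X.presheaf.stalk ξ) = (P.height : WithBot ℕ∞) := by
    rw [← IsLocalization.height_under Qζ.asIdeal.primeCompl P, hPc, ← hQξ]
    exact dim_stalk hU Qξ (hFU Qξ)
  obtain ⟨Q₁, hQ₁, hQ₁ζ⟩ := Ideal.exists_minimalPrimes_le (J := Qζ.asIdeal)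
    (I := Ideal.span {f}) ((Ideal.span_singleton_le_iff_mem _).2 ((hsupp Qζ).1 hζ.1))
  haveI := hQ₁.1.1
  have hmem₁ : F ⟨Q₁, hQ₁.1.1⟩ ∈ (𝓘.support : Set X) :=
    (hsupp ⟨Q₁, hQ₁.1.1⟩).2 ((Ideal.span_singleton_le_iff_mem _).1 hQ₁.1.2)
  have hinf : (⨅ y : (𝓘.support : Set ↥X), ringKrullDim ↑(X.presheaf.stalk y.1)) = 1 := by
    refine le_antisymm ((iInf_le _ ⟨_, hmem₁⟩).trans ?_) (le_iInf fun y => ?_)
    · rw [dim_stalk hU ⟨Q₁, hQ₁.1.1⟩ (hFU _)]
      exact WithBot.coe_le_coe.2 (Ideal.height_le_one_of_isPrincipal_of_mem_minimalPrimes _ _ hQ₁)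
    · exact one_le_dim hY y.1 y.2
  show ringKrullDim A = _
  rw [hinf, hξdim, hdim, add_comm]

end Groth.Agent.S14119
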