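import Groth.Statements.S14121
import Groth.Agent.Lib.ExcDVR6.Criterion

set_option autoImplicit false
universe u
open CategoryTheory AlgebraicGeometry
open ValCrit

namespace Groth.Agent.S14121

/-- For schemes, let every affine open of the base `S` have excellent coordinate ring, let `g : Y ⟶ S`
be locally of finite type and `f : X ⟶ Y` quasi-compact and locally of finite type. Then the
uniqueness part of the valuative criterion for `f` over discrete valuation rings (every commutative
square `Spec K ⟶ X`, `Spec R ⟶ Y` with `R` a discrete valuation ring and `K` its fraction field has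
at most one lift `Spec R ⟶ X`) holds as soon as it holds for the squares whose ring `R` is
essentially of finite type over `S`, i.e. `Spec R ⟶ Y ⟶ S` factors through some affine open `U` of
`S` by a ring map `Γ(S, U) ⟶ R` that is essentially of finite type; and conversely. (The published
statement is for algebraic spaces and treats existence and uniqueness together; this row is the
uniqueness half for schemes.) -/
theorem result (S : Scheme.{u})
    (hS : ∀ U : S.affineOpens, EGA4.IsExcellent Γ(S, U.1))
    {X Y : Scheme.{u}} (f : X ⟶ Y) (g : Y ⟶ S)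
    [QuasiCompact f] [LocallyOfFiniteType f] [LocallyOfFiniteType g] :
    (∀ sq : ValuativeCommSq f, IsDiscreteValuationRing sq.R → Subsingleton sq.commSq.LiftStruct) ↔
    (∀ sq : ValuativeCommSq f, IsDiscreteValuationRing sq.R →
      (∃ (U : S.affineOpens) (φ : Γ(S, U.1) ⟶ CommRingCat.of sq.R),
        Spec.map φ ≫ U.2.fromSpec = sq.i₂ ≫ g ∧ φ.hom.EssFiniteType) →
      Subsingleton sq.commSq.LiftStruct) := by
  refine ⟨fun h sq hd _ => h sq hd, fun h sq _ => ⟨fun a b => ?_⟩⟩
  haveI := Groth.Agent.ExcDVR.quasiCompact_diagonal hS f g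
  have H : Groth.Agent.ExcDVR.EssExistence (Limits.pullback.diagonal f) (Limits.pullback.fst f f ≫ f ≫ g) := by
    intro A _ _ hA K _ _ _ x y hxy he
    have hy1 : Spec.map (CommRingCat.ofHom (algebraMap A K)) ≫ y ≫ Limits.pullback.fst f f = x := by
      rw [← Category.assoc, ← hxy, Category.assoc, Limits.pullback.diagonal_fst, Category.comp_id]
    have hy2 : Spec.map (CommRingCat.ofHom (algebraMap A K)) ≫ y ≫ Limits.pullback.snd f f = x := by
      rw [← Category.assoc, ← hxy, Category.assoc, Limits.pullback.diagonal_snd, Category.comp_id]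
    let sq' : ValuativeCommSq f := ⟨A, K, x, y ≫ Limits.pullback.fst f f ≫ f,
      ⟨by rw [← hy1]; simp [Category.assoc]⟩⟩
    haveI := h sq' hA (by simpa [sq', Groth.Agent.ExcDVR.EssOver] using he)
    let l₁ : sq'.commSq.LiftStruct := ⟨y ≫ Limits.pullback.fst f f, hy1, Category.assoc _ _ _⟩
    let l₂ : sq'.commSq.LiftStruct := ⟨y ≫ Limits.pullback.snd f f, hy2, by
      show (y ≫ Limits.pullback.snd f f) ≫ f = y ≫ Limits.pullback.fst f f ≫ f
      rw [Category.assoc, Limits.pullback.condition]⟩
    have hl : y ≫ Limits.pullback.fst f f = y ≫ Limits.pullback.snd f f :=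
      congrArg CommSq.LiftStruct.l (Subsingleton.elim l₁ l₂)
    refine ⟨y ≫ Limits.pullback.fst f f, ?_, hy1⟩
    apply Limits.pullback.hom_ext
    · simp
    · simp [hl]
  haveI := H.universallyClosed hS
  let sqd : ValuativeCommSq (Limits.pullback.diagonal f) :=
    ⟨sq.R, sq.K, sq.i₁, Limits.pullback.lift a.l b.l (a.fac_right.trans b.fac_right.symm), ⟨by
      apply Limits.pullback.hom_ext
      · rw [Category.assoc, Category.assoc, Limits.pullback.diagonal_fst, Limits.pullback.lift_fst, a.fac_left, Category.comp_id]
      · rw [Category.assoc, Category.assoc, Limits.pullback.diagonal_snd, Limits.pullback.lift_snd, b.fac_left, Category.comp_id]⟩⟩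
  obtain ⟨⟨⟨l, h1, h2⟩⟩⟩ := Groth.Agent.ExcDVR.existence_of_universallyClosed sqd
  have ha := congrArg (fun t => t ≫ Limits.pullback.fst f f) h2
  have hb := congrArg (fun t => t ≫ Limits.pullback.snd f f) h2
  simp [sqd] at ha hb
  exact CommSq.LiftStruct.ext ((Limits.pullback.lift_fst _ _ _).symm.trans ((ha.symm.trans hb).trans (Limits.pullback.lift_snd _ _ _)))

end Groth.Agent.S14121
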