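import Groth.Statements.S14122
import Mathlib.Algebra.Module.Lattice
import Mathlib.LinearAlgebra.Matrix.Basis

set_option autoImplicit false
universe u
open ValCrit

namespace Groth.Agent.S14122

/-- Let `R` be a discrete valuation ring with fraction field `K` and `g ∈ GL_N(K)` an element of finite
order. Then after passing to a finite extension `K'` of `K` and a discrete valuation ring `R'` of
`K'` dominating `R`, the element `g` becomes conjugate in `GL_N(K')` to an element of `GL_N(R')`.
(The published statement is that the classifying stack of `GL_N` over the integers satisfies a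
valuative condition, for discrete valuation rings essentially of finite type over the integers, on
extending finite-order generic automorphisms along nearby modifications; since vector bundles over a
discrete valuation ring are trivial, that condition is this conjugacy statement for such rings, and
this row states it for every discrete valuation ring, as the printed argument gives.) -/
theorem result
    (R : Type u) [CommRing R] [IsDomain R] [IsDiscreteValuationRing R]
    (K : Type u) [Field K] [Algebra R K] [IsFractionRing R K]
    (N : ℕ) (g : GL (Fin N) K) (hg : IsOfFinOrder g) :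
    ∃ (R' : Type u) (_ : CommRing R') (_ : IsDomain R') (_ : IsDiscreteValuationRing R')
      (K' : Type u) (_ : Field K') (_ : Algebra R' K') (_ : IsFractionRing R' K')
      (_ : Algebra R R') (_ : Algebra K K') (_ : Algebra R K')
      (_ : IsScalarTower R R' K') (_ : IsScalarTower R K K')
      (_ : Module.Finite K K') (_ : IsLocalHom (algebraMap R R'))
      (h : GL (Fin N) K') (g' : GL (Fin N) R'),
      h * Matrix.GeneralLinearGroup.map (algebraMap K K') g * h⁻¹ =
        Matrix.GeneralLinearGroup.map (algebraMap R' K') g' := by
  classical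
  obtain ⟨n, hn, hgn⟩ := isOfFinOrder_iff_pow_eq_one.mp hg
  let e : Fin N → Fin N → K := fun j => Pi.single j 1
  let v : Fin n × Fin N → Fin N → K := fun p => ((g ^ (p.1 : ℕ) : GL (Fin N) K) : Matrix (Fin N) (Fin N) K).mulVec (e p.2)
  let M : Submodule R (Fin N → K) := Submodule.span R (Set.range v)
  haveI hM : Submodule.IsLattice K M := by
    refine ⟨Submodule.fg_span (Set.finite_range v), ?_⟩
    refine eq_top_iff.mpr ?_
    rw [← (Pi.basisFun K (Fin N)).span_eq]
    refine Submodule.span_mono ?_
    rintro _ ⟨j, rfl⟩
    exact Submodule.subset_span ⟨(⟨0, hn⟩, j), by ext i; simp [v, e, Matrix.one_apply, Pi.single_apply]⟩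
  have hgM : ∀ x ∈ M, (g : Matrix (Fin N) (Fin N) K).mulVec x ∈ M := by
    intro x hx
    induction hx using Submodule.span_induction with
    | mem x hx =>
      obtain ⟨⟨i, j⟩, rfl⟩ := hx
      refine Submodule.subset_span ⟨(⟨((i : ℕ) + 1) % n, Nat.mod_lt _ hn⟩, j), ?_⟩
      simp only [v]
      rw [Matrix.mulVec_mulVec, ← Units.val_mul, ← pow_succ', pow_eq_pow_mod ((i : ℕ) + 1) hgn]
    | zero => simp
    | add x y _ _ hx hy => rw [Matrix.mulVec_add]; exact M.add_mem hx hy
    | smul r x _ hx => rw [Matrix.mulVec_smul]; exact M.smul_mem r hx
  haveI := Module.IsTorsionFree.of_smul_eq_zero (R := R) (M := K) (fun r x h => by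
    rw [Algebra.smul_def] at h
    exact (mul_eq_zero.mp h).imp_left fun h' => IsFractionRing.injective R K (h'.trans (map_zero _).symm))
  haveI : Module.Free R M := Submodule.IsLattice.free M (K := K)
  haveI : Module.Finite R M := Submodule.IsLattice.finite (A := K) M
  let b : Module.Basis (Fin N) R M := Module.finBasisOfFinrankEq R M
    (by rw [Submodule.IsLattice.finrank_of_pi (K := K) M, Fintype.card_fin])
  let bK : Module.Basis (Fin N) K (Fin N → K) := b.extendOfIsLattice K
  have hbK : ∀ i, bK i = (b i : Fin N → K) := fun i => Module.Basis.extendOfIsLattice_apply K b i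
  let P : Matrix (Fin N) (Fin N) K := (Pi.basisFun K (Fin N)).toMatrix bK
  haveI : Invertible P := (Pi.basisFun K (Fin N)).invertibleToMatrix bK
  let Pu : GL (Fin N) K := unitOfInvertible P
  let A : Matrix (Fin N) (Fin N) R := Matrix.of fun i j => b.repr ⟨_, hgM _ (b j).2⟩ i
  have hP : (g : Matrix (Fin N) (Fin N) K) * P = P * A.map (algebraMap R K) := by
    ext i j
    have h1 := congrArg (fun x : M => (x : Fin N → K) i) (b.sum_repr ⟨_, hgM _ (b j).2⟩)
    simp only [AddSubmonoidClass.coe_finset_sum, SetLike.val_smul, Finset.sum_apply, Pi.smul_apply] at h1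
    simp only [Matrix.mul_apply, P, Module.Basis.toMatrix_apply, Pi.basisFun_repr, hbK, Matrix.map_apply, A,
      Matrix.of_apply]
    refine Eq.trans h1.symm (Finset.sum_congr rfl fun l _ => ?_)
    rw [Algebra.smul_def, mul_comm]
  have hA : IsUnit A.det := by
    have hd : (g : Matrix (Fin N) (Fin N) K).det = algebraMap R K A.det := by
      have := congrArg Matrix.det hP
      rw [Matrix.det_mul, Matrix.det_mul, mul_comm P.det] at this
      rw [RingHom.map_det]
      exact mul_right_cancel₀ (Matrix.isUnit_det_of_invertible P).ne_zero this
    refine IsUnit.of_mul_eq_one (A.det ^ (n - 1)) (IsFractionRing.injective R K ?_)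
    rw [← pow_succ', Nat.sub_add_cancel hn, map_pow, ← hd, ← Matrix.det_pow, ← Units.val_pow_eq_pow_val, hgn,
      Units.val_one, Matrix.det_one, map_one]
  refine ⟨R, inferInstance, inferInstance, inferInstance, K, inferInstance, inferInstance, inferInstance,
    Algebra.id R, Algebra.id K, inferInstance, inferInstance, inferInstance, inferInstance,
    ⟨fun a ha => ha⟩, Pu⁻¹, Matrix.GeneralLinearGroup.mk'' A hA, ?_⟩
  have hg' : Matrix.GeneralLinearGroup.map (algebraMap K K) g = g := by
    rw [Algebra.algebraMap_self, Matrix.GeneralLinearGroup.map_id]; rfl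
  rw [hg', inv_inv, mul_assoc]
  refine inv_mul_eq_iff_eq_mul.mpr (Units.ext ?_)
  exact hP

end Groth.Agent.S14122
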