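import Groth.Statements.S14123
import Mathlib.RingTheory.AdjoinRoot
import Mathlib.RingTheory.Polynomial.Eisenstein.Basic
import Mathlib.RingTheory.DiscreteValuationRing.TFAE
import Mathlib.RingTheory.GradedAlgebra.Basic
import Mathlib.RingTheory.Localization.Finiteness
-- import your own Groth.Agent.* helpers here

set_option autoImplicit false
universe u v
open GmQuot

namespace Groth.Agent.S14123

open Polynomial

set_option linter.style.haveILetI false
set_option backward.isDefEq.respectTransparency.types false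


/-- Let `A = ⊕_{d ∈ ℤ} A_d` be a graded commutative ring whose ideal `I₊` generated by the homogeneous
elements of positive degree is finitely generated, `R` a discrete valuation ring with fraction field
`K`, and `φ : A → R` a ring map with `φ(I₊) ≠ 0` and `φ(I₊)` inside the maximal ideal. Then after a
finite extension `K'/K` and a discrete valuation ring `R'` of `K'` dominating `R` there are a
nonzero non-unit `ϖ ∈ R'` and a ring map `g : A → R'` with `g(a) ϖ^d = φ(a)` for every homogeneous
`a` of degree `d` (so `g` is `φ` rescaled through the grading by `ϖ`), such that `g(I₊) R' = R'`.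
(The published statement is phrased for the quotient stack of `Spec A` by the multiplicative group
and its closed substack cut out by `I₊`, in a setting where `A` is Noetherian, being of finite type
over a Noetherian base: an `R`-point whose closed point lies in that substack and whose generic
point does not admits, after a finite extension, an elementary modification avoiding the substack;
this row is the graded-ring statement the printed argument proves, assuming only that `I₊` is
finitely generated, which is all that argument uses, and with `ϖ` not required to be a uniformizer.) -/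
theorem result
    {A : Type u} [CommRing A] (𝒜 : ℤ → AddSubgroup A) [GradedRing 𝒜]
    (hfg : (Ideal.span {a : A | ∃ d : ℤ, 0 < d ∧ a ∈ 𝒜 d}).FG)
    (R : Type v) [CommRing R] [IsDomain R] [IsDiscreteValuationRing R]
    (K : Type v) [Field K] [Algebra R K] [IsFractionRing R K]
    (φ : A →+* R)
    (hle : Ideal.map φ (Ideal.span {a : A | ∃ d : ℤ, 0 < d ∧ a ∈ 𝒜 d}) ≤ IsLocalRing.maximalIdeal R)
    (hne : Ideal.map φ (Ideal.span {a : A | ∃ d : ℤ, 0 < d ∧ a ∈ 𝒜 d}) ≠ ⊥) :
    ∃ (R' : Type v) (_ : CommRing R') (_ : IsDomain R') (_ : IsDiscreteValuationRing R')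
      (K' : Type v) (_ : Field K') (_ : Algebra R' K') (_ : IsFractionRing R' K')
      (_ : Algebra R R') (_ : Algebra K K') (_ : Algebra R K')
      (_ : IsScalarTower R R' K') (_ : IsScalarTower R K K')
      (_ : Module.Finite K K') (_ : IsLocalHom (algebraMap R R'))
      (ϖ : R') (g : A →+* R'),
      ϖ ≠ 0 ∧ ϖ ∈ IsLocalRing.maximalIdeal R' ∧
      (∀ (d : ℤ) (a : A), a ∈ 𝒜 d →
        algebraMap R' K' (g a) * algebraMap R' K' ϖ ^ d = algebraMap R K' (φ a)) ∧
      Ideal.map g (Ideal.span {a : A | ∃ d : ℤ, 0 < d ∧ a ∈ 𝒜 d}) = ⊤ := by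
  classical
  obtain ⟨π, hπ⟩ := IsDiscreteValuationRing.exists_irreducible R
  obtain ⟨F, hFsub, hFspan⟩ := (Submodule.fg_span_iff_fg_span_finset_subset _).1 hfg
  replace hFspan : Ideal.span (F : Set A) = Ideal.span {a : A | ∃ d : ℤ, 0 < d ∧ a ∈ 𝒜 d} := hFspan.symm
  have hdeg : ∀ a ∈ F, ∃ d : ℤ, 0 < d ∧ a ∈ 𝒜 d := fun a ha => hFsub ha
  choose! D hD using hdeg
  let F0 := F.filter fun a => φ a ≠ 0
  have hF0 : F0.Nonempty := by
    by_contra hc
    refine hne ?_
    rw [← hFspan, Ideal.map_span, Ideal.span_eq_bot]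
    rintro _ ⟨a, ha, rfl⟩
    by_contra h
    exact hc ⟨a, Finset.mem_filter.2 ⟨ha, h⟩⟩
  have hval : ∀ a ∈ F0, ∃ v : ℕ, ∃ u : Rˣ, φ a = u * π ^ v :=
    fun a ha => IsDiscreteValuationRing.eq_unit_mul_pow_irreducible (Finset.mem_filter.1 ha).2 hπ
  choose! v uu huv using hval
  obtain ⟨a0, ha0, hmin⟩ := F0.exists_min_image (fun a => (v a : ℚ) / (D a : ℚ)) hF0
  have ha0F : a0 ∈ F := (Finset.mem_filter.1 ha0).1
  let e : ℕ := (D a0).toNat
  let m : ℕ := v a0
  have he : (e : ℤ) = D a0 := Int.toNat_of_nonneg (hD a0 ha0F).1.le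
  have he0 : e ≠ 0 := fun h => by have := (hD a0 ha0F).1; omega
  have hm : m ≠ 0 := fun h => by
    have h1 : φ a0 ∈ IsLocalRing.maximalIdeal R :=
      hle (Ideal.mem_map_of_mem φ (hFspan ▸ Ideal.subset_span ha0F))
    rw [huv a0 ha0, show v a0 = 0 from h, pow_zero, mul_one] at h1
    exact ((IsLocalRing.mem_maximalIdeal _).1 h1) (uu a0).isUnit
  have hineq : ∀ a ∈ F0, (m : ℤ) * D a ≤ (v a : ℤ) * e := fun a ha => by
    have h1 := hmin a ha
    have hda : (0 : ℚ) < D a := by exact_mod_cast (hD a (Finset.mem_filter.1 ha).1).1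
    have hd0 : (0 : ℚ) < D a0 := by exact_mod_cast (hD a0 ha0F).1
    rw [div_le_div_iff₀ hd0 hda] at h1
    rw [he]
    exact_mod_cast h1
  -- the root extension
  let f : R[X] := X ^ e - C π
  have hmax : IsLocalRing.maximalIdeal R = Ideal.span {π} := (IsDiscreteValuationRing.irreducible_iff_uniformizer π).1 hπ
  have hfmon : f.Monic := monic_X_pow_sub_C π he0
  have hfdeg : f.natDegree = e := natDegree_X_pow_sub_C
  have hfirr : Irreducible f := by
    refine IsEisensteinAt.irreducible (𝓟 := IsLocalRing.maximalIdeal R) ⟨?_, fun {n} hn => ?_, ?_⟩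
      (IsLocalRing.maximalIdeal.isMaximal R).isPrime hfmon.isPrimitive (by omega)
    · rw [hfmon.leadingCoeff]
      exact fun h => (IsLocalRing.mem_maximalIdeal _).1 h isUnit_one
    · rw [hfdeg] at hn
      rw [hmax, Ideal.mem_span_singleton]
      simp only [f, coeff_sub, coeff_X_pow, if_neg hn.ne, zero_sub, coeff_C]
      split <;> simp
    · intro h
      simp only [f, coeff_sub, coeff_X_pow, if_neg he0.symm, zero_sub, coeff_C_zero, neg_mem_iff, hmax,
        Ideal.span_singleton_pow, Ideal.mem_span_singleton] at h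
      obtain ⟨c, hc⟩ := h
      exact hπ.not_isUnit (IsUnit.of_mul_eq_one c (mul_left_cancel₀ hπ.ne_zero (by rw [← mul_assoc, ← sq, ← hc, mul_one])))
  haveI : Fact (Prime f) := ⟨hfirr.prime⟩
  let R' := AdjoinRoot f
  haveI hdom : IsDomain R' := AdjoinRoot.isDomain_of_prime hfirr.prime
  haveI hfin : Module.Finite R R' := Module.Finite.of_basis (AdjoinRoot.powerBasis' hfmon).basis
  haveI : IsNoetherianRing R' := IsNoetherianRing.of_finite R R'
  let ρ : R' := AdjoinRoot.root f
  have hρ : ρ ^ e = algebraMap R R' π := by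
    have := AdjoinRoot.eval₂_root f
    simp only [f, eval₂_sub, eval₂_X_pow, eval₂_C, sub_eq_zero] at this
    exact this
  have hinj : Function.Injective (algebraMap R R') :=
    AdjoinRoot.of.injective_of_degree_ne_zero (by rw [degree_eq_natDegree hfmon.ne_zero, hfdeg]; exact_mod_cast he0)
  have hρ0 : ρ ≠ 0 := fun h => by
    rw [h, zero_pow he0] at hρ
    exact hπ.ne_zero (hinj (hρ.symm.trans (map_zero _).symm))
  have hρM : ∀ M : Ideal R', M.IsMaximal → ρ ∈ M ∧ M.comap (algebraMap R R') = IsLocalRing.maximalIdeal R := by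
    intro M hM
    haveI := hM
    have h1 : (M.comap (algebraMap R R')).IsMaximal :=
      Ideal.isMaximal_comap_of_isIntegral_of_isMaximal M
    have h2 := IsLocalRing.eq_maximalIdeal h1
    refine ⟨hM.isPrime.mem_of_pow_mem e ?_, h2⟩
    rw [hρ, ← Ideal.mem_comap, h2, hmax]
    exact Ideal.mem_span_singleton_self π
  have hnon : ∀ x : R', ¬ IsUnit x → x ∈ Ideal.span {ρ} := fun x hx => by
    obtain ⟨p, rfl⟩ := AdjoinRoot.mk_surjective x
    obtain ⟨M, hM, hxM⟩ := exists_max_ideal_of_mem_nonunits hx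
    have hdiv : AdjoinRoot.mk f p = algebraMap R R' (p.coeff 0) + ρ * AdjoinRoot.mk f p.divX := by
      conv_lhs => rw [← X_mul_divX_add p, map_add, map_mul, AdjoinRoot.mk_X, AdjoinRoot.mk_C]
      rw [add_comm]
      rfl
    have h1 : p.coeff 0 ∈ IsLocalRing.maximalIdeal R := by
      rw [← (hρM M hM).2, Ideal.mem_comap]
      have h3 : ρ * AdjoinRoot.mk f p.divX ∈ M := M.mul_mem_right _ (hρM M hM).1
      rw [hdiv] at hxM
      simpa using M.sub_mem hxM h3
    rw [hmax, Ideal.mem_span_singleton] at h1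
    obtain ⟨c, hc⟩ := h1
    rw [hdiv, hc, map_mul, ← hρ]
    exact Ideal.add_mem _ (Ideal.mul_mem_right _ _ (Ideal.pow_mem_of_mem _ (Ideal.mem_span_singleton_self ρ) e (by omega)))
      (Ideal.mul_mem_right _ _ (Ideal.mem_span_singleton_self ρ))
  have hρu : ¬ IsUnit ρ := fun h => by
    obtain ⟨M, hM⟩ := Ideal.exists_maximal R'
    exact hM.ne_top (Ideal.eq_top_of_isUnit_mem _ (hρM M hM).1 h)
  haveI : IsLocalRing R' := IsLocalRing.of_nonunits_add fun a b ha hb hab => by
    have := Ideal.mem_span_singleton.1 (Ideal.add_mem _ (hnon a ha) (hnon b hb))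
    exact hρu (isUnit_of_dvd_unit this hab)
  have hmax' : IsLocalRing.maximalIdeal R' = Ideal.span {ρ} := le_antisymm (fun x hx => hnon x hx)
    ((Ideal.span_singleton_le_iff_mem _).2 ((IsLocalRing.mem_maximalIdeal _).2 hρu))
  haveI hdvr : IsDiscreteValuationRing R' := by
    refine ((IsDiscreteValuationRing.TFAE R' fun h => ?_).out 0 4 : IsDiscreteValuationRing R' ↔ (IsLocalRing.maximalIdeal R').IsPrincipal).2 ⟨⟨ρ, hmax'⟩⟩
    exact hρu ((h.mul_inv_cancel hρ0).elim fun y hy => IsUnit.of_mul_eq_one y hy)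
  haveI hloc : IsLocalHom (algebraMap R R') := ⟨fun r hr => by
    by_contra h
    have h1 : r ∈ IsLocalRing.maximalIdeal R := h
    rw [hmax, Ideal.mem_span_singleton] at h1
    obtain ⟨c, rfl⟩ := h1
    rw [map_mul, ← hρ] at hr
    exact hρu ((isUnit_pow_iff he0).1 (isUnit_of_mul_isUnit_left hr))⟩
  let K' := FractionRing R'
  have hinjK : Function.Injective (algebraMap R K') := by
    rw [IsScalarTower.algebraMap_eq R R' K']
    exact (IsFractionRing.injective R' K').comp hinj
  letI algK : Algebra K K' := (IsFractionRing.lift hinjK : K →+* K').toAlgebra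
  haveI tow : IsScalarTower R K K' := IsScalarTower.of_algebraMap_eq fun r => by
    rw [RingHom.algebraMap_toAlgebra]
    exact (IsFractionRing.lift_algebraMap hinjK r).symm
  have hρirr : Irreducible ρ := (IsDiscreteValuationRing.irreducible_iff_uniformizer ρ).2 hmax'
  haveI : IsLocalization (Algebra.algebraMapSubmonoid R' (nonZeroDivisors R)) K' := by
    refine { map_units := ?_, surj := fun x => ?_, exists_of_eq := ?_ }
    · rintro ⟨y, hy⟩
      obtain ⟨r, hr, rfl⟩ := hy
      exact isUnit_iff_ne_zero.2 fun h => nonZeroDivisors.ne_zero hr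
        (hinjK ((IsScalarTower.algebraMap_apply R R' K' r).trans (h.trans (map_zero _).symm)))
    · obtain ⟨a, b, hb, rfl⟩ := IsFractionRing.div_surjective R' x
      obtain ⟨n, u, rfl⟩ := IsDiscreteValuationRing.eq_unit_mul_pow_irreducible (nonZeroDivisors.ne_zero hb) hρirr
      refine ⟨(a * (↑u⁻¹ * ρ ^ ((e - 1) * n)), ⟨algebraMap R R' (π ^ n), π ^ n,
        mem_nonZeroDivisors_of_ne_zero (pow_ne_zero n hπ.ne_zero), rfl⟩), ?_⟩
      have h1 : algebraMap R R' (π ^ n) = (↑u * ρ ^ n) * (↑u⁻¹ * ρ ^ ((e - 1) * n)) := by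
        rw [map_pow, ← hρ, ← pow_mul, mul_mul_mul_comm, Units.mul_inv, one_mul, ← pow_add]
        congr 1
        rw [Nat.sub_mul, one_mul, Nat.add_sub_cancel' (Nat.le_mul_of_pos_left n (Nat.pos_of_ne_zero he0))]
      have hb0 : algebraMap R' K' (↑u * ρ ^ n) ≠ 0 :=
        (map_ne_zero_iff _ (IsFractionRing.injective R' K')).2 (nonZeroDivisors.ne_zero hb)
      show _ / _ * algebraMap R' K' (algebraMap R R' (π ^ n)) = algebraMap R' K' _
      rw [congrArg (algebraMap R' K') h1, map_mul _ (↑u * ρ ^ n), ← mul_assoc, div_mul_cancel₀ _ hb0, ← map_mul]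
    · intro x y h
      exact ⟨1, by rw [IsFractionRing.injective R' K' h]⟩
  haveI hfinK : Module.Finite K K' := Module.Finite.of_isLocalization R R' (nonZeroDivisors R)
  -- the rescaled map
  let jm : A →+* K' := (algebraMap R K').comp φ
  let ϖ : K' := algebraMap R' K' (ρ ^ m)
  have hϖ : ϖ ≠ 0 := (map_ne_zero_iff _ (IsFractionRing.injective R' K')).2 (pow_ne_zero _ hρ0)
  let ψ : ∀ d : ℤ, 𝒜 d →+ K' := fun d =>
    ((AddMonoidHom.mulRight (ϖ ^ (-d))).comp jm.toAddMonoidHom).comp (AddSubgroupClass.subtype (𝒜 d))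
  have hψ : ∀ d (a : 𝒜 d), ψ d a = jm (a : A) * ϖ ^ (-d) := fun d a => rfl
  have hone : ψ 0 (GradedMonoid.GOne.one (A := fun i => 𝒜 i)) = 1 := by
    rw [hψ]
    simp [SetLike.coe_gOne]
  have hmul : ∀ {i j : ℤ} (ai : 𝒜 i) (aj : 𝒜 j), ψ (i + j) (GradedMonoid.GMul.mul (A := fun i => 𝒜 i) ai aj) = ψ i ai * ψ j aj := by
    intro i j ai aj
    rw [hψ, hψ, hψ, SetLike.coe_gMul, map_mul, neg_add, zpow_add₀ hϖ]
    ring
  let G : A →+* K' := (DirectSum.toSemiring ψ hone hmul).comp (DirectSum.decomposeRingEquiv 𝒜).toRingHom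
  have hG : ∀ d, ∀ a ∈ 𝒜 d, G a = jm a * ϖ ^ (-d) := fun d a ha => by
    show DirectSum.toSemiring ψ hone hmul (DirectSum.decompose 𝒜 a) = _
    rw [DirectSum.decompose_of_mem _ ha, DirectSum.toSemiring_of]
    exact hψ d ⟨a, ha⟩
  let W : Subring K' := (algebraMap R' K').range
  have hϖW : ϖ ∈ W := ⟨_, rfl⟩
  have hR : ∀ r : R, algebraMap R K' r ∈ W := fun r =>
    ⟨algebraMap R R' r, (IsScalarTower.algebraMap_apply R R' K' r).symm⟩
  have hfm : ∀ a ∈ F0, ∀ n : ℕ, (v a : ℤ) * e - m * D a = n →
      G a = algebraMap R' K' (algebraMap R R' (uu a) * ρ ^ n) := fun a ha n hn => by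
    rw [hG _ a (hD a (Finset.mem_filter.1 ha).1).2]
    show algebraMap R K' (φ a) * _ = _
    rw [huv a ha, IsScalarTower.algebraMap_apply R R' K', map_mul (algebraMap R R'), map_pow (algebraMap R R'), ← hρ,
      map_mul, map_mul, map_pow, map_pow, mul_assoc]
    congr 1
    have hρK : algebraMap R' K' ρ ≠ 0 := (map_ne_zero_iff _ (IsFractionRing.injective R' K')).2 hρ0
    simp only [ϖ, map_pow, ← zpow_natCast, ← zpow_mul, ← zpow_add₀ hρK]
    congr 1
    rw [← hn]
    ring
  have hFW : ∀ a ∈ F, G a ∈ W := fun a ha => by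
    by_cases h0 : φ a = 0
    · rw [hG _ a (hD a ha).2]
      simp [jm, h0, W.zero_mem]
    · have ha' : a ∈ F0 := Finset.mem_filter.2 ⟨ha, h0⟩
      rw [hfm a ha' _ (Int.toNat_of_nonneg (sub_nonneg.2 (hineq a ha'))).symm]
      exact ⟨_, rfl⟩
  have hmain : ∀ n : ℕ, ∀ d : ℤ, d ≤ n → ∀ a ∈ 𝒜 d, G a ∈ W := by
    intro n
    induction n using Nat.strong_induction_on with
    | _ n ih =>
      intro d hd a ha
      rcases le_or_gt d 0 with h0 | h0
      · rw [hG d a ha]
        refine W.mul_mem (hR _) ?_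
        obtain ⟨l, hl⟩ : ∃ l : ℕ, -d = (l : ℤ) := ⟨(-d).toNat, by omega⟩
        rw [hl, zpow_natCast]
        exact W.pow_mem hϖW _
      · have hI : a ∈ Ideal.span (F : Set A) := by
          rw [hFspan]; exact Ideal.subset_span ⟨d, h0, ha⟩
        rw [← DirectSum.decompose_of_mem_same 𝒜 ha]
        suffices ∀ x ∈ Submodule.span A (F : Set A), G (DirectSum.decompose 𝒜 x d : A) ∈ W from this a hI
        intro x hx
        induction hx using Submodule.closure_induction with
        | zero => simp [W.zero_mem]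
        | add y z _ _ hy hz =>
          rw [DirectSum.decompose_add, DirectSum.add_apply, AddMemClass.coe_add, map_add]
          exact W.add_mem hy hz
        | smul_mem c b hb =>
          have h1 := hD b hb
          rw [smul_eq_mul, show d = (d - D b) + D b by ring,
            DirectSum.coe_decompose_mul_add_of_right_mem 𝒜 h1.2, map_mul]
          exact W.mul_mem (ih (n - 1) (by omega) (d - D b) (by omega) _ (SetLike.coe_mem _)) (hFW b hb)
  have hall : ∀ a, G a ∈ W := fun a => by
    rw [← DirectSum.sum_support_decompose 𝒜 a, map_sum]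
    exact W.sum_mem fun d _ => hmain d.toNat d (Int.self_le_toNat d) _ (SetLike.coe_mem _)
  choose g₀ hg₀ using hall
  have hinj' := IsFractionRing.injective R' K'
  let g : A →+* R' :=
    { toFun := g₀
      map_one' := hinj' (by rw [hg₀, map_one, map_one])
      map_mul' := fun a b => hinj' (by rw [hg₀, map_mul, map_mul, hg₀, hg₀])
      map_zero' := hinj' (by rw [hg₀, map_zero, map_zero])
      map_add' := fun a b => hinj' (by rw [hg₀, map_add, map_add, hg₀, hg₀]) }
  refine ⟨R', inferInstance, hdom, hdvr, K', inferInstance, inferInstance, inferInstance, inferInstance, algK,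
    inferInstance, inferInstance, tow, hfinK, hloc, ρ ^ m, g, pow_ne_zero _ hρ0, ?_, fun d a ha => ?_, ?_⟩
  · rw [hmax']
    exact Ideal.pow_mem_of_mem _ (Ideal.mem_span_singleton_self ρ) m (by omega)
  · show algebraMap R' K' (g₀ a) * ϖ ^ d = _
    rw [hg₀, hG d a ha, mul_assoc, ← zpow_add₀ hϖ, neg_add_cancel, zpow_zero, mul_one,
      ]
    rfl
  · refine Ideal.eq_top_of_isUnit_mem _ (Ideal.mem_map_of_mem g (hFspan ▸ Ideal.subset_span ha0F)) ?_
    have h1 : algebraMap R' K' (g a0) = algebraMap R' K' (algebraMap R R' (uu a0) * ρ ^ 0) := by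
      rw [← hfm a0 ha0 0 (by simp only [m, he]; push_cast; ring)]
      exact hg₀ a0
    rw [hinj' h1, pow_zero, mul_one]
    exact (uu a0).isUnit.map _

end Groth.Agent.S14123
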