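import Groth.Statements.S14124
import Groth.Agent.Lib.MumVan22.AmpleVan
import Groth.Agent.Lib.AbRigid.SmoothGI

set_option autoImplicit false
universe u
open CategoryTheory CategoryTheory.Limits MonoidalCategory CartesianMonoidalCategory MonObj GrpObj AlgebraicGeometry
open AbVar

namespace Groth.Agent.S14124

/-- Let k be an algebraically closed field, A an abelian variety over k (a proper smooth k-group scheme
with geometrically connected fibres) and L an ample invertible O_A-module. Then the cohomology
groups H^j(A, L) vanish for all j > 0, and H^0(A, L) is non-zero. -/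
theorem result (k : Type u) [Field k] [IsAlgClosed k]
    (A : Over (Spec (CommRingCat.of k))) [GrpObj A] [IsProper A.hom] [Smooth A.hom] [GeometricallyConnected A.hom]
    (L : A.left.Modules) (hLa : CohB1.IsAmple L) :
    (∀ j : ℕ, 0 < j → Subsingleton (Coh.HH A.left L j)) ∧ Nontrivial (Coh.HH A.left L 0) := by
  haveI := Groth.Agent.AbRigid.geometricallyIntegral_of_smooth A
  exact ⟨fun j hj => Groth.Agent.MumVan22.subsingleton_of_isAmple hLa hj, Groth.Agent.MumVan22.nontrivial_of_isAmple hLa⟩

end Groth.Agent.S14124
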