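import Groth.Statements.S14126
import Groth.Agent.Lib.FMBase13.Inversion
import Groth.Agent.Lib.DMV.Perfect

set_option autoImplicit false
set_option backward.isDefEq.respectTransparency false
set_option backward.isDefEq.respectTransparency.types false
set_option linter.style.haveILetI false
universe u
open CategoryTheory CategoryTheory.Limits MonoidalCategory CartesianMonoidalCategory MonObj GrpObj AlgebraicGeometry
attribute [local instance] HasDerivedCategory.standard
open AbVar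

namespace Groth.Agent.S14126

attribute [local instance] DBC9.hasRpush

/-- An involution of a variety followed by a shift restricts to an equivalence of quasi-coherent derived categories. -/
theorem isEquivalence_lP_shift {X : Scheme.{u}} {i : X ⟶ X} (hi : i ≫ i = 𝟙 X) (n : ℤ)
    (F : (DCoh.IsQCohD (X := X)).FullSubcategory ⥤ (DCoh.IsQCohD (X := X)).FullSubcategory)
    (e : F ⋙ ObjectProperty.ι _ ≅ ObjectProperty.ι _ ⋙ DMon9.lP i ⋙ shiftFunctor (DCoh.D X) n) :
    F.IsEquivalence := by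
  let ii : DMon9.lP i ⋙ DMon9.lP i ≅ 𝟭 (DCoh.D X) := DMon9.lPComp i i hi ≪≫ DBC9.lPId X
  haveI : (DMon9.lP i).IsEquivalence :=
    (CategoryTheory.Equivalence.mk (DMon9.lP i) (DMon9.lP i) ii.symm ii).isEquivalence_functor
  haveI : F.Faithful := Functor.Faithful.of_comp_iso e
  haveI : F.Full := Functor.Full.of_comp_faithful_iso e
  haveI : F.EssSurj := ⟨fun N => by
    let G := DMon9.lP i ⋙ shiftFunctor (DCoh.D X) n
    refine ⟨⟨(DMon9.lP i).obj (N.obj⟦-n⟧), DMon9.isQCohD_lP i (DMV.isQCohD_shift _ N.property _)⟩, ⟨?_⟩⟩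
    exact (ObjectProperty.ι _).preimageIso (e.app _ ≪≫
      (shiftFunctor (DCoh.D X) n).mapIso (ii.app (N.obj⟦-n⟧)) ≪≫
      (shiftFunctorCompIsoId (DCoh.D X) (-n) n (by simp)).app N.obj)⟩
  exact { }

/-- Let k be a field, A an abelian variety over k (a proper smooth k-group scheme with geometrically
connected fibres), (A^t, φ) a given dual abelian variety of A for the fppf topology with A^t itself
an abelian variety, and P an invertible module on A ×_k A^t whose class is a Poincaré class. Assume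
the derived functors Lpr_1^*, − ⊗^L P and Rpr_{2,*} exist and that Φ_P = Rpr_{2,*}(Lpr_1^*(−) ⊗^L P)
sends objects of D(O_A) with quasi-coherent cohomology sheaves to objects of D(O_{A^t}) with
quasi-coherent cohomology sheaves. Then the induced functor D_QCoh(O_A) → D_QCoh(O_{A^t}) is an
equivalence of categories. -/
theorem result (k : Type u) [Field k]
    (A At : Over (Spec (CommRingCat.of k))) [GrpObj A] [IsProper A.hom] [Smooth A.hom] [GeometricallyConnected A.hom]
    [GrpObj At] [IsProper At.hom] [Smooth At.hom] [GeometricallyConnected At.hom]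
    (φ : ∀ T : Over (Spec (CommRingCat.of k)), PicF.Cl (PicF.XT A.hom T) → (T ⟶ At))
    (hφ : AbDual.IsDualAV Scheme.fppfPrecoverage A At φ)
    (P : (pullback A.hom At.hom).Modules) (hP : PicF.IsInvertible P)
    (hPξ : AbDual.IsPoincareCl A At φ (PicF.cl P))
    [DCoh.HasLpull (pullback.fst A.hom At.hom)] [DCoh.HasLTensorMod P] [DCoh.HasRpush (pullback.snd A.hom At.hom)]
    (h : ∀ M : DCoh.D A.left, DCoh.IsQCohD M → DCoh.IsQCohD ((DCoh.Lpull (pullback.fst A.hom At.hom) ⋙ DCoh.LTensorMod P ⋙ DCoh.Rpush (pullback.snd A.hom At.hom)).obj M)) :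
    (ObjectProperty.lift (DCoh.IsQCohD (X := At.left))
        (ObjectProperty.ι (DCoh.IsQCohD (X := A.left)) ⋙ (DCoh.Lpull (pullback.fst A.hom At.hom) ⋙ DCoh.LTensorMod P ⋙ DCoh.Rpush (pullback.snd A.hom At.hom)))
        (fun M => h M.obj M.property)).IsEquivalence := by
  haveI : GeometricallyIntegral A.hom := AbRigid.geometricallyIntegral_of_smooth A
  haveI : IsIntegral A.left := GeometricallyIntegral.isIntegral_of_subsingleton A.hom
  obtain ⟨g, hg⟩ : ∃ g : ℕ, topologicalKrullDim A.left = g := ⟨_, VarDim.dim_eq_sdim_genericPoint A.hom⟩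
  obtain ⟨a⟩ := FMBase13.nonempty_phiK (pullback.fst A.hom At.hom) (pullback.snd A.hom At.hom) hP
  haveI : IsProper (fst At A).left := inferInstanceAs (IsProper (pullback.fst At.hom A.hom))
  haveI : IsProper (snd At A).left := inferInstanceAs (IsProper (pullback.snd At.hom A.hom))
  let ιA := ObjectProperty.ι (DCoh.IsQCohD (X := A.left))
  let ιT := ObjectProperty.ι (DCoh.IsQCohD (X := At.left))
  let P' := FMBase13.swP P
  have hP' : PicF.IsInvertible P' := PicLoc.isInvertible_pullback _ hP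
  let F := ObjectProperty.lift (DCoh.IsQCohD (X := At.left))
        (ιA ⋙ (DCoh.Lpull (pullback.fst A.hom At.hom) ⋙ DCoh.LTensorMod P ⋙ DCoh.Rpush (pullback.snd A.hom At.hom)))
        (fun M => h M.obj M.property)
  let G := ObjectProperty.lift (DCoh.IsQCohD (X := A.left))
        (ιT ⋙ FMBase13.phiK (fst At A).left (snd At A).left P')
        (fun M => DPush.isQCohD_rpush _ _ (TwistBC9.isQCohD_tenF _ (Twist.isQCoh_of_isInvertible hP')
          (DMon9.isQCohD_lP _ M.property)))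
  obtain ⟨i1⟩ := FMBase13.nonempty_inversion hφ hP hPξ hg
  obtain ⟨i2⟩ := FMBase13.nonempty_inversion_swP hφ hP hPξ hg
  have hA : ((𝟙 A)⁻¹ : A ⟶ A).left ≫ ((𝟙 A)⁻¹ : A ⟶ A).left = 𝟙 A.left := by
    rw [← Over.comp_left, show ((𝟙 A)⁻¹ : A ⟶ A) ≫ (𝟙 A)⁻¹ = 𝟙 A by simp [GrpObj.comp_inv], Over.id_left]
  have hT : ((𝟙 At)⁻¹ : At ⟶ At).left ≫ ((𝟙 At)⁻¹ : At ⟶ At).left = 𝟙 At.left := by
    rw [← Over.comp_left, show ((𝟙 At)⁻¹ : At ⟶ At) ≫ (𝟙 At)⁻¹ = 𝟙 At by simp [GrpObj.comp_inv], Over.id_left]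
  let e1 : (F ⋙ G) ⋙ ιA ≅ ιA ⋙ (DCoh.Lpull (pullback.fst A.hom At.hom) ⋙ DCoh.LTensorMod P ⋙
      DCoh.Rpush (pullback.snd A.hom At.hom)) ⋙ FMBase13.phiK (fst At A).left (snd At A).left P' :=
    NatIso.ofComponents (fun M => Iso.refl _) (fun f => by simp; rfl)
  let e2 : (G ⋙ F) ⋙ ιT ≅ ιT ⋙ FMBase13.phiK (fst At A).left (snd At A).left P' ⋙
      (DCoh.Lpull (pullback.fst A.hom At.hom) ⋙ DCoh.LTensorMod P ⋙ DCoh.Rpush (pullback.snd A.hom At.hom)) :=
    NatIso.ofComponents (fun M => Iso.refl _) (fun f => by simp; rfl)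
  haveI h1 : (F ⋙ G).IsEquivalence := isEquivalence_lP_shift hA (-(g : ℤ)) _
    (e1 ≪≫ Functor.isoWhiskerLeft ιA (Functor.isoWhiskerRight a _) ≪≫ i1)
  haveI h2 : (G ⋙ F).IsEquivalence := isEquivalence_lP_shift hT (-(g : ℤ)) _
    (e2 ≪≫ Functor.isoWhiskerLeft ιT (Functor.isoWhiskerLeft _ a) ≪≫ i2)
  haveI : F.Faithful := Functor.Faithful.of_comp F G
  haveI : G.Faithful := Functor.Faithful.of_comp G F
  haveI : F.Full := Functor.Full.of_comp_faithful F G
  haveI : F.EssSurj := ⟨fun N => ⟨G.obj ((G ⋙ F).objPreimage N), ⟨(G ⋙ F).objObjPreimageIso N⟩⟩⟩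
  exact ({ } : F.IsEquivalence)

end Groth.Agent.S14126
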