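import Mathlib.Algebra.Homology.ShortComplex.HomologicalComplex
import Mathlib.Algebra.Homology.QuasiIso
import Mathlib.Algebra.Category.ModuleCat.Abelian
import Mathlib.RingTheory.FiniteLength
import Mathlib.RingTheory.RegularLocalRing.Defs
import Mathlib.RingTheory.KrullDimension.Basic
import Mathlib.LinearAlgebra.FreeModule.Basic
import Mathlib.RingTheory.Finiteness.Defs
import Groth.Agent.Lib.CanElt.AcyclicityApply

set_option autoImplicit false
universe u
open CategoryTheory CategoryTheory.Limits
namespace LocAlg
end LocAlg
open LocAlg

namespace Groth.Agent.S14128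

/-- Let R be a regular local ring of Krull dimension g and M = (M^0 → M^1 → ⋯ → M^g) a perfect complex
over R, here a cochain complex of finitely generated free R-modules indexed by ℕ with M^i = 0 for i
> g, such that every cohomology module H^i(M) has finite length. Then H^i(M) = 0 for all i < g, so
that M has cohomology at most in degree g. -/
theorem result (R : Type u) [CommRing R]
    [IsRegularLocalRing R] (g : ℕ) (hg : ringKrullDim R = g) (M : CochainComplex (ModuleCat.{u} R) ℕ)
    (hbd : ∀ i, g < i → IsZero (M.X i)) (hfree : ∀ i, Module.Free R (M.X i) ∧ Module.Finite R (M.X i))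
    (hfl : ∀ i, IsFiniteLength R (M.homology i)) (i : ℕ) (hi : i < g) :
    IsZero (M.homology i) := by
  refine Groth.Agent.CanElt.cochain_homology_isZero M g (fun i => (hfree i).1) hfl hbd (le_of_eq ?_) i hi
  have h := (Groth.Agent.DepthLib.isCohenMacaulayLocalRing_of_isRegularLocalRing (R := R)).supportDim_eq_depth
  rw [Module.supportDim_self_eq_ringKrullDim, hg] at h
  exact_mod_cast h

end Groth.Agent.S14128
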