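import Groth.Statements.S1413
import Groth.Agent.Lib.Descend.BaseChangeAt
import Mathlib.AlgebraicGeometry.Morphisms.Flat

set_option autoImplicit false
universe u
open FlatMor

set_option backward.isDefEq.respectTransparency.types false

namespace Groth.Agent.S1413

open AlgebraicGeometry CategoryTheory Limits in
/-- Let X → Y → Z be morphisms with X → Y flat and surjective and with the diagonal of X over Z flat.
Then the diagonal of Y over Z is flat. -/
theorem result {X Y Z : Scheme.{u}} (f : X ⟶ Y) (g : Y ⟶ Z) [Flat f] [Surjective f] [Flat (pullback.diagonal (f ≫ g))] :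
    Flat (pullback.diagonal g) := by
  haveI : Flat (pullback.map (f ≫ g) (f ≫ g) g g f f (𝟙 Z) (by simp) (by simp)) :=
    MorphismProperty.pullbackMap (P := @Flat) ‹_› ‹_› rfl rfl
  have e : f ≫ pullback.diagonal g = pullback.diagonal (f ≫ g) ≫
      pullback.map (f ≫ g) (f ≫ g) g g f f (𝟙 Z) (by simp) (by simp) := by
    apply pullback.hom_ext
    · simp only [Category.assoc, pullback.diagonal_fst, Category.comp_id, pullback.map]
      erw [pullback.lift_fst, pullback.diagonal_fst_assoc]
    · simp only [Category.assoc, pullback.diagonal_snd, Category.comp_id, pullback.map]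
      erw [pullback.lift_snd, pullback.diagonal_snd_assoc]
  have h1 : Flat (f ≫ pullback.diagonal g) := by rw [e]; infer_instance
  refine Flat.of_stalkMap _ fun y => ?_
  obtain ⟨x, rfl⟩ := f.surjective y
  exact Groth.Agent.Descend.flat_stalkMap_of_comp f _ x (Flat.stalkMap f x) (Flat.stalkMap _ x)

end Groth.Agent.S1413
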