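import Groth.Statements.S14132
import Groth.Agent.Lib.FMBase13.Functors
import Groth.Agent.Lib.FMBase13.Classes
import Groth.Agent.Lib.DualSeq22.Basic

set_option autoImplicit false
set_option backward.isDefEq.respectTransparency false
set_option backward.isDefEq.respectTransparency.types false
set_option linter.style.haveILetI false
universe u
open CategoryTheory CategoryTheory.Limits MonoidalCategory CartesianMonoidalCategory MonObj GrpObj AlgebraicGeometry
attribute [local instance] HasDerivedCategory.standard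
open AbVar

namespace Groth.Agent.S14132

attribute [local instance] DBC9.hasRpush

noncomputable local instance (Y : Scheme.{u}) : PicGrp.Law Y := M2.law Y

/-- Let k be a field, A and B abelian varieties over k (proper smooth k-group schemes with geometrically
connected fibres), f : A → B a homomorphism, (A^t, φ_A) and (B^t, φ_B) given dual abelian varieties
for the fppf topology (both abelian varieties), P_A on A ×_k A^t and P_B on B ×_k B^t invertible
modules whose classes are Poincaré classes, and f^t : B^t → A^t the transpose of f with respect to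
these duals. Write Φ_{P_A} = Rpr_{2,*}(Lpr_1^*(−) ⊗^L P_A) : D(O_A) → D(O_{A^t}) and similarly
Φ_{P_B}; the derived functors involved are assumed to exist. Then, restricted to objects of D(O_A)
with quasi-coherent cohomology sheaves, Φ_{P_B} ∘ Rf_* is isomorphic to L(f^t)^* ∘ Φ_{P_A}
(existence of an isomorphism of functors). -/
theorem result (k : Type u) [Field k]
    (A At B Bt : Over (Spec (CommRingCat.of k))) [GrpObj A] [IsProper A.hom] [Smooth A.hom] [GeometricallyConnected A.hom]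
    [GrpObj At] [IsProper At.hom] [Smooth At.hom] [GeometricallyConnected At.hom]
    [GrpObj B] [IsProper B.hom] [Smooth B.hom] [GeometricallyConnected B.hom]
    [GrpObj Bt] [IsProper Bt.hom] [Smooth Bt.hom] [GeometricallyConnected Bt.hom]
    (φA : ∀ T : Over (Spec (CommRingCat.of k)), PicF.Cl (PicF.XT A.hom T) → (T ⟶ At))
    (hφA : AbDual.IsDualAV Scheme.fppfPrecoverage A At φA)
    (φB : ∀ T : Over (Spec (CommRingCat.of k)), PicF.Cl (PicF.XT B.hom T) → (T ⟶ Bt))
    (hφB : AbDual.IsDualAV Scheme.fppfPrecoverage B Bt φB)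
    (PA : (pullback A.hom At.hom).Modules) (hPA : PicF.IsInvertible PA)
    (hPAξ : AbDual.IsPoincareCl A At φA (PicF.cl PA))
    (PB : (pullback B.hom Bt.hom).Modules) (hPB : PicF.IsInvertible PB)
    (hPBξ : AbDual.IsPoincareCl B Bt φB (PicF.cl PB))
    (f : A ⟶ B) [IsMonHom f] (ft : Bt ⟶ At) (hft : AbDual.IsTranspose f φA φB ft)
    [DCoh.HasLpull (pullback.fst A.hom At.hom)] [DCoh.HasLTensorMod PA] [DCoh.HasRpush (pullback.snd A.hom At.hom)]
    [DCoh.HasLpull (pullback.fst B.hom Bt.hom)] [DCoh.HasLTensorMod PB] [DCoh.HasRpush (pullback.snd B.hom Bt.hom)]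
    [DCoh.HasRpush f.left] [DCoh.HasLpull ft.left] :
    Nonempty (ObjectProperty.ι (DCoh.IsQCohD (X := A.left)) ⋙ DCoh.Rpush f.left ⋙ (DCoh.Lpull (pullback.fst B.hom Bt.hom) ⋙ DCoh.LTensorMod PB ⋙ DCoh.Rpush (pullback.snd B.hom Bt.hom)) ≅
      ObjectProperty.ι (DCoh.IsQCohD (X := A.left)) ⋙ (DCoh.Lpull (pullback.fst A.hom At.hom) ⋙ DCoh.LTensorMod PA ⋙ DCoh.Rpush (pullback.snd A.hom At.hom)) ⋙ DCoh.Lpull ft.left) := by
  haveI : GeometricallyIntegral A.hom := AbRigid.geometricallyIntegral_of_smooth A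
  haveI : GeometricallyIntegral B.hom := AbRigid.geometricallyIntegral_of_smooth B
  haveI : IsProper f.left := by
    haveI : IsProper (f.left ≫ B.hom) := by rw [Over.w f]; infer_instance
    exact IsProper.of_comp f.left B.hom
  haveI : Flat (fst B Bt).left := inferInstanceAs (Flat (pullback.fst B.hom Bt.hom))
  haveI : IsProper (snd A At).left := inferInstanceAs (IsProper (pullback.snd A.hom At.hom))
  haveI : Flat (snd A At).left := inferInstanceAs (Flat (pullback.snd A.hom At.hom))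
  -- the square of `f × 1`
  have hsq : IsPullback (fst A Bt).left (f ▷ Bt).left f.left (fst B Bt).left := by
    refine IsPullback.flip ?_
    refine IsPullback.of_right (h₁₂ := (snd B Bt).left) (h₂₂ := B.hom) (v₁₃ := Bt.hom) ?_ ?_ ?_
    · rw [← Over.comp_left, whiskerRight_snd, Over.w f]
      exact (IsPullback.of_hasPullback A.hom Bt.hom).flip
    · rw [← Over.comp_left, whiskerRight_fst, Over.comp_left]
    · exact (IsPullback.of_hasPullback B.hom Bt.hom).flip
  obtain ⟨fb⟩ := FMBase13.nonempty_flatBC hsq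
  obtain ⟨pt⟩ := FMBase13.nonempty_pushTwist (f ▷ Bt).left hPB
  obtain ⟨c⟩ := FMBase13.nonempty_phiK_BC (fst A At).left (snd A At).left (FMBase13.isPullback_whisker A ft) hPA
  obtain ⟨a⟩ := FMBase13.nonempty_phiK (pullback.fst A.hom At.hom) (pullback.snd A.hom At.hom) hPA
  obtain ⟨b⟩ := FMBase13.nonempty_phiK (pullback.fst B.hom Bt.hom) (pullback.snd B.hom Bt.hom) hPB
  obtain ⟨g⟩ := DMon9.nonempty_lpull_natIso_lP ft.left
  obtain ⟨eK⟩ : Nonempty ((Scheme.Modules.pullback (f ▷ Bt).left).obj PB ≅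
      (Scheme.Modules.pullback (A ◁ ft).left).obj PA) := by
    refine FMBase13.nonempty_iso_of_cls (hL := PicLoc.isInvertible_pullback _ hPB)
      (hM := PicLoc.isInvertible_pullback _ hPA) ?_
    have h := DualSeq22.ev_transpose hφA hPAξ hPBξ f hft (fst A Bt) (snd A Bt)
    rw [FMBase13.ev_eq_cls hPA hPAξ, FMBase13.ev_eq_cls hPB hPBξ] at h
    have e1 : lift (fst A Bt) (snd A Bt ≫ ft) = A ◁ ft := by
      apply CartesianMonoidalCategory.hom_ext <;> simp
    have e2 : lift (fst A Bt ≫ f) (snd A Bt) = f ▷ Bt := by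
      apply CartesianMonoidalCategory.hom_ext <;> simp
    apply Subtype.ext
    have h' := congrArg Subtype.val h
    rw [PicGrp.cls_val, PicGrp.cls_val] at h' ⊢
    rw [e1, e2] at h'
    exact h'.symm
  have h2 : (f ▷ Bt).left ≫ (snd B Bt).left = (snd A Bt).left := by
    rw [← Over.comp_left, whiskerRight_snd]
  have h3 : (A ◁ ft).left ≫ (fst A At).left = (fst A Bt).left := by
    rw [← Over.comp_left, whiskerLeft_fst]
  let ιA := ObjectProperty.ι (DCoh.IsQCohD (X := A.left))
  let s1 : ιA ⋙ DCoh.Rpush f.left ⋙ FMBase13.phiK (fst B Bt).left (snd B Bt).left PB ≅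
      ιA ⋙ DMon9.lP (fst A Bt).left ⋙
        (DCoh.Rpush (f ▷ Bt).left ⋙ TwistBC9.tenF PB) ⋙ DCoh.Rpush (snd B Bt).left :=
    Functor.isoWhiskerRight fb (TwistBC9.tenF PB ⋙ DCoh.Rpush (snd B Bt).left)
  let s2 : ιA ⋙ DMon9.lP (fst A Bt).left ⋙
        (DCoh.Rpush (f ▷ Bt).left ⋙ TwistBC9.tenF PB) ⋙ DCoh.Rpush (snd B Bt).left ≅
      ιA ⋙ DMon9.lP (fst A Bt).left ⋙
        TwistBC9.tenF ((Scheme.Modules.pullback (f ▷ Bt).left).obj PB) ⋙
          (DCoh.Rpush (f ▷ Bt).left ⋙ DCoh.Rpush (snd B Bt).left) :=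
    Functor.isoWhiskerLeft ιA (Functor.isoWhiskerLeft _ (Functor.isoWhiskerRight pt _))
  let s3 : ιA ⋙ DMon9.lP (fst A Bt).left ⋙
        TwistBC9.tenF ((Scheme.Modules.pullback (f ▷ Bt).left).obj PB) ⋙
          (DCoh.Rpush (f ▷ Bt).left ⋙ DCoh.Rpush (snd B Bt).left) ≅
      ιA ⋙ FMBase13.phiK ((A ◁ ft).left ≫ (fst A At).left) (snd A Bt).left
        ((Scheme.Modules.pullback (A ◁ ft).left).obj PA) :=
    Functor.isoWhiskerLeft ιA
      (Functor.isoWhiskerLeft (DMon9.lP (fst A Bt).left) (Functor.isoWhiskerRight (FMBase13.tenIso eK) _ ≪≫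
          Functor.isoWhiskerLeft _ (FMBase13.rpushComp (f ▷ Bt).left (snd B Bt).left h2)) ≪≫
        FMBase13.phiKCongr (fst A Bt).left (snd A Bt).left h3.symm _)
  exact ⟨Functor.isoWhiskerLeft _ (Functor.isoWhiskerLeft _ b) ≪≫ s1 ≪≫ s2 ≪≫ s3 ≪≫ c.symm ≪≫
    Functor.isoWhiskerLeft _ (Functor.isoWhiskerLeft _ g.symm ≪≫ Functor.isoWhiskerRight a.symm _)⟩

end Groth.Agent.S14132
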