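import Groth.Statements.S14134
import Groth.Agent.Lib.FMBase13.Kernel
import Groth.Agent.Lib.FMBase13.Classes

set_option autoImplicit false
set_option backward.isDefEq.respectTransparency false
set_option backward.isDefEq.respectTransparency.types false
set_option linter.style.haveILetI false
universe u
open CategoryTheory CategoryTheory.Limits MonoidalCategory CartesianMonoidalCategory MonObj GrpObj AlgebraicGeometry
attribute [local instance] HasDerivedCategory.standard
open AbVar

namespace Groth.Agent.S14134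

noncomputable local instance (Y : Scheme.{u}) : PicGrp.Law Y := M2.law Y

/-- Let k be a field, A an abelian variety over k (a proper smooth k-group scheme with geometrically
connected fibres), (A^t, φ) a given dual abelian variety of A for the fppf topology with A^t an
abelian variety, P an invertible module on A ×_k A^t whose class is a Poincaré class, and x a
k-rational point of A^t. Let M_x be the restriction of P along A = A × {x} → A ×_k A^t, and t_x :
A^t → A^t the translation by x (the product of the identity and the constant map x in the group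
Hom(A^t, A^t)). Write Φ_P = Rpr_{2,*}(Lpr_1^*(−) ⊗^L P) : D(O_A) → D(O_{A^t}); the derived functors
involved are assumed to exist. Then, restricted to objects of D(O_A) with quasi-coherent cohomology
sheaves, the functor F ↦ Φ_P(F ⊗^L M_x) is isomorphic to F ↦ Lt_x^*Φ_P(F) (existence of an
isomorphism of functors). -/
theorem result (k : Type u) [Field k]
    (A At : Over (Spec (CommRingCat.of k))) [GrpObj A] [IsProper A.hom] [Smooth A.hom] [GeometricallyConnected A.hom]
    [GrpObj At] [IsProper At.hom] [Smooth At.hom] [GeometricallyConnected At.hom]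
    (φ : ∀ T : Over (Spec (CommRingCat.of k)), PicF.Cl (PicF.XT A.hom T) → (T ⟶ At))
    (hφ : AbDual.IsDualAV Scheme.fppfPrecoverage A At φ)
    (P : (pullback A.hom At.hom).Modules) (hP : PicF.IsInvertible P)
    (hPξ : AbDual.IsPoincareCl A At φ (PicF.cl P))
    (x : 𝟙_ (Over (Spec (CommRingCat.of k))) ⟶ At)
    [DCoh.HasLpull (pullback.fst A.hom At.hom)] [DCoh.HasLTensorMod P] [DCoh.HasRpush (pullback.snd A.hom At.hom)]
    [DCoh.HasLTensorMod ((Scheme.Modules.pullback (CartesianMonoidalCategory.lift (𝟙 A) (toUnit A ≫ x)).left).obj P)]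
    [DCoh.HasLpull (𝟙 At * (toUnit At ≫ x)).left] :
    Nonempty (ObjectProperty.ι (DCoh.IsQCohD (X := A.left)) ⋙
        DCoh.LTensorMod ((Scheme.Modules.pullback (CartesianMonoidalCategory.lift (𝟙 A) (toUnit A ≫ x)).left).obj P) ⋙
        (DCoh.Lpull (pullback.fst A.hom At.hom) ⋙ DCoh.LTensorMod P ⋙ DCoh.Rpush (pullback.snd A.hom At.hom)) ≅
      ObjectProperty.ι (DCoh.IsQCohD (X := A.left)) ⋙ (DCoh.Lpull (pullback.fst A.hom At.hom) ⋙ DCoh.LTensorMod P ⋙ DCoh.Rpush (pullback.snd A.hom At.hom)) ⋙
        DCoh.Lpull (𝟙 At * (toUnit At ≫ x)).left) := by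
  obtain ⟨e⟩ := FMBase13.nonempty_phiK (pullback.fst A.hom At.hom) (pullback.snd A.hom At.hom) hP
  obtain ⟨g⟩ := DMon9.nonempty_lpull_natIso_lP (𝟙 At * (toUnit At ≫ x)).left
  obtain ⟨c⟩ := FMBase13.nonempty_phiK_BC (pullback.fst A.hom At.hom) (pullback.snd A.hom At.hom)
    (FMBase13.isPullback_whisker A (𝟙 At * (toUnit At ≫ x))) hP
  have hM := PicLoc.isInvertible_pullback (CartesianMonoidalCategory.lift (𝟙 A) (toUnit A ≫ x)).left hP
  obtain ⟨m⟩ := FMBase13.nonempty_LT_tenF _ hM
  obtain ⟨tw⟩ := FMBase13.nonempty_twist_phiK (pullback.fst A.hom At.hom) (pullback.snd A.hom At.hom) hM hP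
  obtain ⟨i⟩ := FMBase13.nonempty_translate_right hP hPξ hφ x
  have h1 : (A ◁ (𝟙 At * (toUnit At ≫ x))).left ≫ pullback.fst A.hom At.hom = pullback.fst A.hom At.hom :=
    (Over.comp_left _ _ _ _ _).symm.trans (congrArg Over.Hom.left (whiskerLeft_fst A (𝟙 At * (toUnit At ≫ x))))
  exact ⟨Functor.isoWhiskerLeft _ (Functor.isoWhiskerRight m _ ≪≫ Functor.isoWhiskerLeft _ e ≪≫ tw ≪≫
      FMBase13.phiKIso _ _ i.symm ≪≫ FMBase13.phiKCongr _ _ h1.symm _) ≪≫ c.symm ≪≫
    Functor.isoWhiskerLeft _ (Functor.isoWhiskerLeft _ g.symm ≪≫ Functor.isoWhiskerRight e.symm _)⟩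

end Groth.Agent.S14134
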