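import Groth.Statements.S14135
import Groth.Agent.Lib.FMBase13.Kernel
import Groth.Agent.Lib.FMBase13.Classes

set_option autoImplicit false
set_option backward.isDefEq.respectTransparency false
set_option backward.isDefEq.respectTransparency.types false
set_option linter.style.haveILetI false
universe u
open CategoryTheory CategoryTheory.Limits MonoidalCategory CartesianMonoidalCategory MonObj GrpObj AlgebraicGeometry
attribute [local instance] HasDerivedCategory.standard
open AbVar

namespace Groth.Agent.S14135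

noncomputable local instance (Y : Scheme.{u}) : PicGrp.Law Y := M2.law Y

/-- Let k be a field, A an abelian variety over k (a proper smooth k-group scheme with geometrically
connected fibres), (A^t, φ) a given dual abelian variety of A for the fppf topology with A^t an
abelian variety, P an invertible module on A ×_k A^t whose class is a Poincaré class, and x a
k-rational point of A with translation t_x : A → A. Let N_{−x} be the restriction of P along A^t =
{−x} × A^t → A ×_k A^t, the line bundle on A^t attached to the point −x. Write Φ_P =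
Rpr_{2,*}(Lpr_1^*(−) ⊗^L P) : D(O_A) → D(O_{A^t}); the derived functors involved are assumed to
exist. Then, restricted to objects of D(O_A) with quasi-coherent cohomology sheaves, the functor F ↦
Φ_P(Lt_x^*F) is isomorphic to F ↦ Φ_P(F) ⊗^L N_{−x} (existence of an isomorphism of functors). -/
theorem result (k : Type u) [Field k]
    (A At : Over (Spec (CommRingCat.of k))) [GrpObj A] [IsProper A.hom] [Smooth A.hom] [GeometricallyConnected A.hom]
    [GrpObj At] [IsProper At.hom] [Smooth At.hom] [GeometricallyConnected At.hom]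
    (φ : ∀ T : Over (Spec (CommRingCat.of k)), PicF.Cl (PicF.XT A.hom T) → (T ⟶ At))
    (hφ : AbDual.IsDualAV Scheme.fppfPrecoverage A At φ)
    (P : (pullback A.hom At.hom).Modules) (hP : PicF.IsInvertible P)
    (hPξ : AbDual.IsPoincareCl A At φ (PicF.cl P))
    (x : 𝟙_ (Over (Spec (CommRingCat.of k))) ⟶ A)
    [DCoh.HasLpull (pullback.fst A.hom At.hom)] [DCoh.HasLTensorMod P] [DCoh.HasRpush (pullback.snd A.hom At.hom)]
    [DCoh.HasLpull (𝟙 A * (toUnit A ≫ x)).left]
    [DCoh.HasLTensorMod ((Scheme.Modules.pullback (CartesianMonoidalCategory.lift (toUnit At ≫ x⁻¹) (𝟙 At)).left).obj P)] :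
    Nonempty (ObjectProperty.ι (DCoh.IsQCohD (X := A.left)) ⋙ DCoh.Lpull (𝟙 A * (toUnit A ≫ x)).left ⋙ (DCoh.Lpull (pullback.fst A.hom At.hom) ⋙ DCoh.LTensorMod P ⋙ DCoh.Rpush (pullback.snd A.hom At.hom)) ≅
      ObjectProperty.ι (DCoh.IsQCohD (X := A.left)) ⋙ (DCoh.Lpull (pullback.fst A.hom At.hom) ⋙ DCoh.LTensorMod P ⋙ DCoh.Rpush (pullback.snd A.hom At.hom)) ⋙
        DCoh.LTensorMod ((Scheme.Modules.pullback (CartesianMonoidalCategory.lift (toUnit At ≫ x⁻¹) (𝟙 At)).left).obj P)) := by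
  obtain ⟨e⟩ := FMBase13.nonempty_phiK (pullback.fst A.hom At.hom) (pullback.snd A.hom At.hom) hP
  obtain ⟨g⟩ := DMon9.nonempty_lpull_natIso_lP (𝟙 A * (toUnit A ≫ x)).left
  obtain ⟨l⟩ := FMBase13.nonempty_lP_phiK (pullback.fst A.hom At.hom) (pullback.snd A.hom At.hom)
    (𝟙 A * (toUnit A ≫ x)).left P
  have hN := PicLoc.isInvertible_pullback
    (CartesianMonoidalCategory.lift (toUnit At ≫ x⁻¹) (𝟙 At)).left hP
  obtain ⟨m⟩ := FMBase13.nonempty_LT_tenF _ hN
  obtain ⟨tw⟩ := FMBase13.nonempty_phiK_twist (pullback.fst A.hom At.hom) (pullback.snd A.hom At.hom) hN P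
  have hs : IsIso ((𝟙 A * (toUnit A ≫ x)) ▷ At).left := by
    have h : ∀ a b : 𝟙_ (Over (Spec (CommRingCat.of k))) ⟶ A, a * b = 1 →
        (𝟙 A * (toUnit A ≫ a)) ≫ (𝟙 A * (toUnit A ≫ b)) = 𝟙 A := fun a b hab => by
      rw [MonObj.comp_mul, Category.comp_id, ← Category.assoc, toUnit_unique (_ ≫ toUnit A) (toUnit A),
        _root_.mul_assoc, ← MonObj.comp_mul, hab, MonObj.comp_one, _root_.mul_one]
    haveI : IsIso (𝟙 A * (toUnit A ≫ x)) :=
      ⟨𝟙 A * (toUnit A ≫ x⁻¹), h x x⁻¹ (mul_inv_cancel x), h x⁻¹ x (inv_mul_cancel x)⟩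
    exact inferInstanceAs (IsIso ((Over.forget _).map ((𝟙 A * (toUnit A ≫ x)) ▷ At)))
  have h1 : ((𝟙 A * (toUnit A ≫ x)) ▷ At).left ≫ pullback.fst A.hom At.hom =
      pullback.fst A.hom At.hom ≫ (𝟙 A * (toUnit A ≫ x)).left :=
    (Over.comp_left _ _ _ _ _).symm.trans
      ((congrArg Over.Hom.left (whiskerRight_fst (𝟙 A * (toUnit A ≫ x)) At)).trans (Over.comp_left _ _ _ _ _))
  have h2 : ((𝟙 A * (toUnit A ≫ x)) ▷ At).left ≫ pullback.snd A.hom At.hom = pullback.snd A.hom At.hom :=
    (Over.comp_left _ _ _ _ _).symm.trans (congrArg Over.Hom.left (whiskerRight_snd (𝟙 A * (toUnit A ≫ x)) At))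
  obtain ⟨sh⟩ := FMBase13.nonempty_phiK_shear (pullback.fst A.hom At.hom) (pullback.snd A.hom At.hom)
    ((𝟙 A * (toUnit A ≫ x)) ▷ At).left h2
    (M2.isInvertible_tensor hP (PicLoc.isInvertible_pullback (pullback.snd A.hom At.hom) hN))
  obtain ⟨i⟩ := FMBase13.nonempty_translate_left hP hPξ hφ x
  exact ⟨Functor.isoWhiskerLeft _ (Functor.isoWhiskerRight g _ ≪≫ Functor.isoWhiskerLeft _ e ≪≫ l ≪≫
      FMBase13.phiKIso _ _ i.symm ≪≫ FMBase13.phiKCongr _ _ h1.symm _) ≪≫ sh.symm ≪≫
    Functor.isoWhiskerLeft _ (tw.symm ≪≫ Functor.isoWhiskerLeft _ m.symm ≪≫ Functor.isoWhiskerRight e.symm _)⟩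

end Groth.Agent.S14135
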