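import Groth.Statements.S14137
import Groth.Agent.Lib.VB17.Proper

set_option autoImplicit false
universe u
open CategoryTheory CategoryTheory.Limits AlgebraicGeometry
open VBCurve

namespace Groth.Agent.S14137

open CategoryTheory CategoryTheory.Limits AlgebraicGeometry Groth.Agent.VB17

/-- Let C be a smooth proper geometrically connected curve over a field k (proper, smooth and
geometrically connected over k, of dimension one), and E a finite locally free O_C-module of rank r
≥ 1 which is stable: for every finite locally free submodule G of E of rank r' ≥ 1 whose inclusion
is not an isomorphism one has deg G · r < deg E · r', the degree of a rank-n locally free module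
being χ(G) − n·χ(O_C) (stability tested on proper submodules, equivalent to the definition through
quotient bundles). Then every nonzero endomorphism of E is an isomorphism, i.e. End(E) is a division
ring. (Over an algebraically closed field it follows that End(E) = k; that consequence is not
restated.) -/
theorem result (k : Type u) [Field k] (X : Scheme.{u}) [X.Over (Spec (CommRingCat.of k))]
    [IsProper (X ↘ Spec (CommRingCat.of k))] [Smooth (X ↘ Spec (CommRingCat.of k))]
    [GeometricallyConnected (X ↘ Spec (CommRingCat.of k))] (hdim : topologicalKrullDim ↥X = 1)
    (r : ℕ) (hr : 0 < r) (E : X.Modules) (hE : FlatMod.IsFinLocFreeOfRank r E)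
    (hEst : (∀ (G : X.Modules) (r' : ℕ) (i : G ⟶ E), Mono i → 0 < r' → FlatMod.IsFinLocFreeOfRank r' G → (¬ IsIso i) →
      Curv2.deg k X G r' * (r : ℤ) < Curv2.deg k X E r * (r' : ℤ)))
    (f : E ⟶ E) (hf : f ≠ 0) : IsIso f := by
  have hX := regCurve (k := k) hdim
  haveI := hX.integral
  exact isIso_endo_of_st hX hr hE
    (fun G r' i hi h0 hlt hG => hEst G r' i hi h0 hG fun hiso =>
      hlt.ne (rank_unique hG (Groth.Agent.M2.isFinLocFreeOfRank_of_iso (asIso i).symm hE))) f hf

end Groth.Agent.S14137
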