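import Groth.Statements.S14138
-- import your own Groth.Agent.* helpers here
import Groth.Agent.Lib.VB17.ExtVanish
import Groth.Agent.Lib.VB17.Bound
import Groth.Agent.Lib.VB17.Saturate
import Groth.Agent.Lib.VB17.Setup
import Groth.Agent.Lib.CurveCoh17.DegTwo
import Groth.Agent.Lib.GeomRed18.Smooth
import Groth.Agent.S1536

set_option autoImplicit false
universe u
open CategoryTheory CategoryTheory.Limits AlgebraicGeometry
open VBCurve

namespace Groth.Agent.S14138

/-- Let C be a smooth proper geometrically connected curve over a field k (proper, smooth and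
geometrically connected over k, of dimension one) of genus one, i.e. dim_k H^1(C, O_C) = 1, and E a
finite locally free O_C-module of rank r ≥ 1 which is indecomposable: E is nonzero and whenever E ≅
E₁ ⊕ E₂ one of the summands is zero. Then E is semistable: for every finite locally free submodule G
of E of rank r' ≥ 1 one has deg G · r ≤ deg E · r', the degree of a rank-n locally free module being
χ(G) − n·χ(O_C). (The published statement is for an elliptic curve; its proof, that the
Harder–Narasimhan filtration splits, uses only genus one, so no rational point is assumed here.) -/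
theorem result (k : Type u) [Field k] (X : Scheme.{u}) [X.Over (Spec (CommRingCat.of k))]
    [IsProper (X ↘ Spec (CommRingCat.of k))] [Smooth (X ↘ Spec (CommRingCat.of k))]
    [GeometricallyConnected (X ↘ Spec (CommRingCat.of k))] (hdim : topologicalKrullDim ↥X = 1)
    (hg : Curv2.genus k X = 1)
    (r : ℕ) (hr : 0 < r) (E : X.Modules) (hE : FlatMod.IsFinLocFreeOfRank r E)
    (hind : ¬ IsZero E ∧ ∀ (E₁ E₂ : X.Modules), Nonempty (E ≅ E₁ ⊞ E₂) → IsZero E₁ ∨ IsZero E₂) :
    (∀ (G : X.Modules) (r' : ℕ) (i : G ⟶ E), Mono i → 0 < r' → FlatMod.IsFinLocFreeOfRank r' G →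
      Curv2.deg k X G r' * (r : ℤ) ≤ Curv2.deg k X E r * (r' : ℤ)) := by
  classical
  haveI : IsIntegral X := Groth.Agent.VB17.isIntegral_of_smooth (k := k)
  haveI : GeometricallyReduced (X ↘ Spec (CommRingCat.of k)) := Groth.Agent.GeomRed.geometricallyReduced_of_smooth
  have h0 : Module.finrank k (Coh.HH X (Coh.structureModule X) 0) = 1 := Groth.Agent.S1536.result k X
  have hX : Groth.Agent.VB17.RegCurve k X := Groth.Agent.VB17.regCurve' hdim
  haveI := hX.like.noetherian
  have hbig := Groth.Agent.CurveCoh17.hasBigDeg_of_regCurve hX hdim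
  obtain ⟨E₁, r₁, i₁, hi₁, hpos, hE₁, hmax, hrk, hss₁⟩ := Groth.Agent.VB17.exists_max_slope hX hr hE
  haveI := hi₁
  have hlf : FlatMod.IsFinLocFree (cokernel i₁) :=
    Groth.Agent.VB17.isFinLocFree_cokernel hX hE hE₁ i₁ fun P j hj hP =>
      le_of_mul_le_mul_right (hmax P r₁ j hj hpos hP) (by exact_mod_cast hpos)
  obtain ⟨s, hQ⟩ := Groth.Agent.VB17.exists_rank_of_isFinLocFree hlf
  have hQlt : ∀ (G : X.Modules) (r' : ℕ) (j : G ⟶ cokernel i₁), Mono j → 0 < r' → FlatMod.IsFinLocFreeOfRank r' G →
      Curv2.deg k X G r' * (r₁ : ℤ) < Curv2.deg k X E₁ r₁ * (r' : ℤ) := fun G r' j hj hr' hG => by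
    haveI := hj
    obtain ⟨P, l, hl, hP, hd⟩ := Groth.Agent.VB17.exists_preimage hX hE hE₁ i₁ hG j
    have h1 := hmax P _ l hl (by omega) hP
    have h2 : Curv2.deg k X P (r₁ + r') * (r₁ : ℤ) ≠ Curv2.deg k X E₁ r₁ * ((r₁ + r' : ℕ) : ℤ) := fun h => by
      have := hrk P _ l hl (by omega) hP h
      omega
    have h3 := lt_of_le_of_ne h1 h2
    rw [hd] at h3
    push_cast at h3
    linarith
  let T : ShortComplex X.Modules := ShortComplex.mk i₁ (cokernel.π i₁) (cokernel.condition i₁)
  have hT : T.ShortExact := { exact := T.exact_of_g_is_cokernel (cokernelIsCokernel i₁) }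
  haveI hsplit : IsSplitEpi T.g := Groth.Agent.VB17.isSplitEpi_of_hom_zero hX h0 hbig hg hT hE₁ hlf
    (fun f => Groth.Agent.VB17.hom_eq_zero_of_forall_lt hX hE₁ hQ hss₁ hQlt f)
  let sp := ShortComplex.Splitting.ofExactOfSection T hT.exact (section_ T.g) (IsSplitEpi.id T.g) hT.mono_f
  intro G r' j hj hr' hG
  rcases hind.2 _ _ ⟨sp.isoBinaryBiproduct⟩ with hz | hz
  · exfalso
    obtain ⟨e⟩ := Groth.Agent.CurveCoh17.nonempty_stalk_equiv hE₁ (genericPoint X)
    have hzero : ∀ a : E₁.presheaf.stalk (genericPoint X), a = 0 := fun a => by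
      have h1 : (Groth.Agent.M1.stalkAb (genericPoint X)).map (𝟙 E₁) = 0 := by
        rw [hz.eq_of_src (𝟙 E₁) 0, Functor.map_zero]
      rw [CategoryTheory.Functor.map_id] at h1
      exact congrArg (fun f => f a) h1
    have h2 := congrFun (congrArg e (hzero (e.symm 1))) ⟨0, hpos⟩
    rw [LinearEquiv.apply_symm_apply, map_zero] at h2
    exact one_ne_zero h2
  · haveI : Epi i₁ := Preadditive.epi_of_isZero_cokernel i₁ hz
    haveI : IsIso i₁ := isIso_of_mono_of_epi i₁
    have hE' := Groth.Agent.M2.isFinLocFreeOfRank_of_iso (asIso i₁) hE₁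
    obtain rfl := Groth.Agent.VB17.rank_unique hE' hE
    rw [← Groth.Agent.CurveCoh17.deg_iso (asIso i₁)]
    exact hmax G r' j hj hr' hG

end Groth.Agent.S14138
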