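import Groth.Statements.S1414


set_option autoImplicit false
universe u
open FlatMor

namespace Groth.Agent.S1414

open AlgebraicGeometry CategoryTheory Limits in
/-- Let f : X → Y and g : Y → Z with f ≫ g smooth and g étale. Then f is smooth. -/
theorem result {X Y Z : Scheme.{u}} (f : X ⟶ Y) (g : Y ⟶ Z) [Smooth (f ≫ g)] [Etale g] : Smooth f := by
  let l : X ⟶ pullback (f ≫ g) g := pullback.lift (𝟙 X) f (Category.id_comp _)
  have h : f = l ≫ pullback.snd (f ≫ g) g := (pullback.lift_snd _ _ _).symm
  have : Etale (l ≫ pullback.fst (f ≫ g) g) := by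
    rw [show l ≫ pullback.fst (f ≫ g) g = 𝟙 X from pullback.lift_fst _ _ _]; infer_instance
  have : Etale l := Etale.of_comp l (pullback.fst (f ≫ g) g)
  rw [h]
  infer_instance

end Groth.Agent.S1414
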