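import Groth.Statements.S14140
import Groth.Agent.Lib.MumVan22.Apps
import Groth.Agent.Lib.AbRigid.SmoothGI

set_option autoImplicit false
universe u
open CategoryTheory CategoryTheory.Limits MonoidalCategory CartesianMonoidalCategory MonObj GrpObj AlgebraicGeometry
open AbVar

namespace Groth.Agent.S14140

/-- Let k be an algebraically closed field, A an abelian variety over k (a proper smooth k-group scheme
with geometrically connected fibres), L an ample invertible O_A-module with an inverse L' (L ⊗ L' ≅
O_A), and M an invertible O_A-module in Pic⁰(A), meaning that t_x^*M ≅ M for every k-rational point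
x of A, where t_x : A → A is the translation by x (the product of the identity and the constant map
x in the group Hom(A, A)). Then there is a k-rational point x of A with M ≅ t_x^*L ⊗ L'. -/
theorem result (k : Type u) [Field k] [IsAlgClosed k]
    (A : Over (Spec (CommRingCat.of k))) [GrpObj A] [IsProper A.hom] [Smooth A.hom] [GeometricallyConnected A.hom]
    (L L' : A.left.Modules) (hLa : CohB1.IsAmple L) (hLL' : Nonempty (CohB1.tensorMod L L' ≅ Coh.structureModule A.left))
    (M : A.left.Modules) (hM : PicF.IsInvertible M)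
    (hM0 : ∀ x : 𝟙_ (Over (Spec (CommRingCat.of k))) ⟶ A, Nonempty ((Scheme.Modules.pullback (𝟙 A * (toUnit A ≫ x)).left).obj M ≅ M)) :
    ∃ x : 𝟙_ (Over (Spec (CommRingCat.of k))) ⟶ A,
      Nonempty (M ≅ CohB1.tensorMod ((Scheme.Modules.pullback (𝟙 A * (toUnit A ≫ x)).left).obj L) L') := by
  haveI := Groth.Agent.AbRigid.geometricallyIntegral_of_smooth A
  obtain ⟨a, ⟨e⟩⟩ := Groth.Agent.MumVan22.exists_translate_tensor hLa.1 hM (Groth.Agent.MumVan22.inv_of_statement hM hM0)
    (Groth.Agent.AlgEquiv22.finite_fixing hLa)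
  exact ⟨a, ⟨(Groth.Agent.M2.tensorRUnit M).symm ≪≫ Groth.Agent.M2.tensorIso (Iso.refl M) hLL'.some.symm ≪≫
    (Groth.Agent.M2.tensorAssoc M L L').symm ≪≫ Groth.Agent.M2.tensorIso e (Iso.refl L')⟩⟩

end Groth.Agent.S14140
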