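import Groth.Statements.S14141
import Groth.Agent.Lib.RigidRel.Collapse

set_option autoImplicit false
universe u
open CategoryTheory CategoryTheory.Limits AlgebraicGeometry
open AbSch

namespace Groth.Agent.S14141

/-- Let S be a connected Noetherian scheme, f : X → S a proper flat morphism such that for every point s
of S the natural map κ(s) → H^0(X_s, O_{X_s}) on global sections of the fibre is bijective, g : Y →
S a separated morphism and π : X → Y a morphism over S. If for some point s of S the restriction of
π to the fibre X_s is constant, i.e. factors through the projection X_s → Spec κ(s), then π is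
constant over all of S: it factors as f followed by a section S → Y of g. (The published statement
is for arbitrary Noetherian S with the conclusion over the connected component of s; this row
assumes S connected, the reduction made in the first line of the printed proof.) -/
theorem result {X Y S : Scheme.{u}} [IsNoetherian S] [ConnectedSpace ↥S]
    (f : X ⟶ S) [IsProper f] [Flat f]
    (hfib : ∀ s : ↥S, Function.Bijective (algebraMap (S.residueField s) Γ(f.fiber s, ⊤)))
    (g : Y ⟶ S) [IsSeparated g] (π : X ⟶ Y) (hπ : π ≫ g = f) (s : ↥S)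
    (hs : ∃ y : Spec (S.residueField s) ⟶ Y, f.fiberι s ≫ π = f.fiberToSpecResidueField s ≫ y) :
    ∃ σ : S ⟶ Y, σ ≫ g = 𝟙 S ∧ π = f ≫ σ := by
  haveI : LocallyOfFinitePresentation f :=
    LocallyOfFinitePresentation.iff_locallyOfFiniteType.mpr inferInstance
  have hne : ∀ t : S, Nonempty (f.fiber t) := fun t => by
    by_contra hne
    rw [not_nonempty_iff] at hne
    haveI : Subsingleton Γ(f.fiber t, ⊤) := CommRingCat.subsingleton_of_isTerminal
      (Scheme.sheaf _ |>.isTerminalOfEqEmpty (Subsingleton.elim _ _))
    haveI : Subsingleton (S.residueField t) := (hfib t).1.subsingleton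
    exact not_subsingleton (S.residueField t) inferInstance
  haveI : Surjective f := ⟨fun t => ⟨f.fiberι t (hne t).some, by
    have : f.fiberι t (hne t).some ∈ Set.range (f.fiberι t) := ⟨_, rfl⟩
    rw [Scheme.Hom.range_fiberι] at this
    exact this⟩⟩
  have hc : Groth.Agent.RigidRel.ConstFibres f := Groth.Agent.RigidRel.constFibres_of_fibre f fun t => by
    intro z
    obtain ⟨c, hc⟩ := (hfib t).2 z
    exact ⟨(Scheme.ΓSpecIso _).inv c, hc⟩
  have h0 := fun U (hU : IsAffineOpen U) => Groth.Agent.RigidRel.bijective_app f hc hU
  have hmem : s ∈ Groth.Agent.RigidRel.collapsed f π := by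
    obtain ⟨y, hy⟩ := hs
    refine ⟨y (IsLocalRing.closedPoint _), fun x hx => ?_⟩
    have hx' : x ∈ Set.range (f.fiberι s) := by rw [Scheme.Hom.range_fiberι]; exact hx
    obtain ⟨z, rfl⟩ := hx'
    show (f.fiberι s ≫ π) z = _
    rw [hy, Scheme.Hom.comp_apply]
    exact congrArg y (f.fiberToSpecResidueField_apply s z)
  have hall : ∀ t : S, (𝟙 S : S ⟶ S).base t ∈ Groth.Agent.RigidRel.collapsed f π := by
    have h := IsClopen.eq_univ (s := Groth.Agent.RigidRel.collapsed f π)
      ⟨Groth.Agent.RigidRel.isClosed_collapsed f h0 π g hπ, Groth.Agent.RigidRel.isOpen_collapsed f h0 π⟩ ⟨s, hmem⟩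
    intro t; rw [h]; trivial
  obtain ⟨r, hr1, hr2⟩ := (Groth.Agent.RigidRel.exists_factor_iff f h0 π g hπ S (𝟙 S)).mpr hall
  refine ⟨r, hr1, ?_⟩
  have h := congrArg (fun a => pullback.lift (𝟙 X) f (by simp) ≫ a) hr2
  simp only [pullback.lift_fst_assoc, pullback.lift_snd_assoc] at h
  exact (Category.id_comp _).symm.trans h

end Groth.Agent.S14141
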