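import Groth.Statements.S14142
import Groth.Agent.Lib.AVPRank22.PRank
import Groth.Agent.Lib.AbRigid.SmoothGI

set_option autoImplicit false
universe u
open CategoryTheory CategoryTheory.Limits MonoidalCategory CartesianMonoidalCategory MonObj GrpObj AlgebraicGeometry
open AbVar

namespace Groth.Agent.S14142

/-- Let k be an algebraically closed field of characteristic p > 0 and A an abelian variety over k (a
proper smooth k-group scheme with geometrically connected fibres) of dimension g. Then there is an
integer i with 0 ≤ i ≤ g, the p-rank of A, such that for every m ≥ 0 the group A[p^m](k) of
k-rational points of A killed by p^m is isomorphic to (ℤ/p^m)^i (existence of a group isomorphism;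
the group of k-points is written multiplicatively). (The published statement of this part assumes
only that k has characteristic p and does not assume k algebraically closed; it is false without
that assumption — for an elliptic curve over the prime field with exactly p rational points the
rational p-torsion is cyclic of order p while the rational p²-torsion has only p elements — and this
row assumes k algebraically closed, which the printed proof's divisibility argument requires.) -/
theorem result (k : Type u) [Field k] [IsAlgClosed k] (p : ℕ) [Fact p.Prime] [CharP k p]
    (A : Over (Spec (CommRingCat.of k))) [GrpObj A] [IsProper A.hom] [Smooth A.hom] [GeometricallyConnected A.hom] [IsCommMonObj A]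
    (g : ℕ) (hg : topologicalKrullDim ↥A.left = g) :
    ∃ i : ℕ, i ≤ g ∧ ∀ m : ℕ,
      Nonempty (AbDual.torsPts A (p ^ m) (𝟙_ (Over (Spec (CommRingCat.of k)))) ≃* Multiplicative (Fin i → ZMod (p ^ m))) := by
  haveI : GeometricallyIntegral A.hom := Groth.Agent.AbRigid.geometricallyIntegral_of_smooth A
  obtain ⟨i, hi, h⟩ := AVPRank22.exists_pRank (A := A) p hg
  exact ⟨i, hi, fun m => (h m).2⟩

end Groth.Agent.S14142
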