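import Groth.Statements.S14143
import Groth.Agent.Lib.MumVan22.Apps
import Groth.Agent.Lib.AbRigid.SmoothGI

set_option autoImplicit false
universe u
open CategoryTheory CategoryTheory.Limits MonoidalCategory CartesianMonoidalCategory MonObj GrpObj AlgebraicGeometry
open AbVar

namespace Groth.Agent.S14143

/-- Let k be an algebraically closed field, A an abelian variety over k (a proper smooth k-group scheme
with geometrically connected fibres), L an invertible O_A-module which is non-degenerate, i.e. only
finitely many k-rational points x satisfy t_x^*L ≅ L (t_x the translation by x), M an invertible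
O_A-module lying in Pic⁰(A), i.e. t_x^*M ≅ M for every k-rational point x, and L' an O_A-module
isomorphic to L ⊗ M. Then L' ≅ t_x^*L for some k-rational point x of A; consequently L and L' have
isomorphic cohomology and equal index. (The published statement assumes L and L' algebraically
equivalent non-degenerate line bundles and concludes equality of indices; its proof reduces to L' ⊗
L^{-1} ∈ Pic⁰ and proves the displayed isomorphism, which is what is stated here.) -/
theorem result (k : Type u) [Field k] [IsAlgClosed k]
    (A : Over (Spec (CommRingCat.of k))) [GrpObj A] [IsProper A.hom] [Smooth A.hom] [GeometricallyConnected A.hom]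
    (L : A.left.Modules) (hL : PicF.IsInvertible L) (hnd : (Set.Finite {x : 𝟙_ (Over (Spec (CommRingCat.of k))) ⟶ A |
      Nonempty ((Scheme.Modules.pullback (𝟙 A * (toUnit A ≫ x)).left).obj L ≅ L)}))
    (M : A.left.Modules) (hM : PicF.IsInvertible M)
    (hM0 : ∀ x : 𝟙_ (Over (Spec (CommRingCat.of k))) ⟶ A, Nonempty ((Scheme.Modules.pullback (𝟙 A * (toUnit A ≫ x)).left).obj M ≅ M))
    (L' : A.left.Modules) (hL' : Nonempty (L' ≅ CohB1.tensorMod L M)) :
    ∃ x : 𝟙_ (Over (Spec (CommRingCat.of k))) ⟶ A, Nonempty (L' ≅ (Scheme.Modules.pullback (𝟙 A * (toUnit A ≫ x)).left).obj L) := by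
  haveI := Groth.Agent.AbRigid.geometricallyIntegral_of_smooth A
  obtain ⟨a, ⟨e⟩⟩ := Groth.Agent.MumVan22.exists_translate_tensor hL hM (Groth.Agent.MumVan22.inv_of_statement hM hM0)
    (Groth.Agent.MumVan22.finite_of_statement hL hnd)
  exact ⟨a, ⟨hL'.some ≪≫ Groth.Agent.M2.tensorComm L M ≪≫ e⟩⟩

end Groth.Agent.S14143
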