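import Groth.Statements.S14146
import Groth.Agent.Lib.FMBase13.Lambda

set_option autoImplicit false
set_option backward.isDefEq.respectTransparency false
set_option backward.isDefEq.respectTransparency.types false
set_option linter.style.haveILetI false
universe u
open CategoryTheory CategoryTheory.Limits MonoidalCategory CartesianMonoidalCategory MonObj GrpObj AlgebraicGeometry
attribute [local instance] HasDerivedCategory.standard
open AbVar

namespace Groth.Agent.S14146

noncomputable local instance (Y : Scheme.{u}) : PicGrp.Law Y := M2.law Y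

/-- Let k be an algebraically closed field, A an abelian variety over k (a proper smooth k-group scheme
with geometrically connected fibres) with structure map a : A → Spec k, (A^t, φ) a given dual
abelian variety for the fppf topology with A^t an abelian variety, P an invertible module on A ×_k
A^t whose class is a Poincaré class, L an invertible O_A-module with an inverse L', and Λ a module
on A ×_k A isomorphic to the Mumford module m^*L ⊗ pr_1^*L' ⊗ pr_2^*L', whose class is assumed
algebraically trivial on every geometric fibre of the second projection. Let φ_L = φ(Λ) : A → A^t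
and assume L non-degenerate in the sense that φ_L is finite and flat. Write Φ_P =
Rpr_{2,*}(Lpr_1^*(−) ⊗^L P); the derived functors involved are assumed to exist. Then Lφ_L^*(Φ_P(L))
is isomorphic in D(O_A) to La^*(Ra_*L) ⊗^L L', that is, to RΓ(A, L) ⊗_k L^{-1} (existence of an
isomorphism). -/
theorem result (k : Type u) [Field k] [IsAlgClosed k]
    (A At : Over (Spec (CommRingCat.of k))) [GrpObj A] [IsProper A.hom] [Smooth A.hom] [GeometricallyConnected A.hom]
    [GrpObj At] [IsProper At.hom] [Smooth At.hom] [GeometricallyConnected At.hom]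
    (φ : ∀ T : Over (Spec (CommRingCat.of k)), PicF.Cl (PicF.XT A.hom T) → (T ⟶ At))
    (hφ : AbDual.IsDualAV Scheme.fppfPrecoverage A At φ)
    (P : (pullback A.hom At.hom).Modules) (hP : PicF.IsInvertible P)
    (hPξ : AbDual.IsPoincareCl A At φ (PicF.cl P))
    (L : A.left.Modules) (hL : PicF.IsInvertible L) (L' : A.left.Modules) (hL' : Nonempty (CohB1.tensorMod L L' ≅ Coh.structureModule A.left))
    (Λ : (PicF.XT A.hom A).Modules)
    (hΛ : Nonempty (Λ ≅ CohB1.tensorMod (CohB1.tensorMod ((Scheme.Modules.pullback μ[A].left).obj L)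
      ((Scheme.Modules.pullback (fst A A).left).obj L')) ((Scheme.Modules.pullback (snd A A).left).obj L')))
    (hΛ0 : AbDual.IsPicZeroCl A.hom A (PicF.cl Λ))
    [IsFinite (φ A (PicF.cl Λ)).left] [Flat (φ A (PicF.cl Λ)).left]
    [DCoh.HasLpull (pullback.fst A.hom At.hom)] [DCoh.HasLTensorMod P] [DCoh.HasRpush (pullback.snd A.hom At.hom)]
    [DCoh.HasLpull (φ A (PicF.cl Λ)).left] [DCoh.HasRpush A.hom] [DCoh.HasLpull A.hom] [DCoh.HasLTensorMod L'] :
    Nonempty ((DCoh.Lpull (φ A (PicF.cl Λ)).left).obj ((DCoh.Lpull (pullback.fst A.hom At.hom) ⋙ DCoh.LTensorMod P ⋙ DCoh.Rpush (pullback.snd A.hom At.hom)).obj (DCoh.inD A.left L)) ≅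
      (DCoh.LTensorMod L').obj ((DCoh.Lpull A.hom).obj ((DCoh.Rpush A.hom).obj (DCoh.inD A.left L)))) := by
  obtain ⟨e⟩ := FMBase13.nonempty_phiK (pullback.fst A.hom At.hom) (pullback.snd A.hom At.hom) hP
  obtain ⟨g⟩ := DMon9.nonempty_lpull_natIso_lP (φ A (PicF.cl Λ)).left
  obtain ⟨a⟩ := DMon9.nonempty_lpull_natIso_lP A.hom
  obtain ⟨eL⟩ := hL'
  obtain ⟨m⟩ := FMBase13.nonempty_LT_tenF L' (FMBase13.isInvertible_of_inverse hL eL)
  obtain ⟨c⟩ := FMBase13.nonempty_pull_lambda hφ hP hPξ hL ⟨eL⟩ hΛ hΛ0
  exact ⟨(DCoh.Lpull (φ A (PicF.cl Λ)).left).mapIso (e.app _) ≪≫ g.app _ ≪≫ c ≪≫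
    (m.app _).symm ≪≫ (DCoh.LTensorMod L').mapIso (a.app _).symm⟩

end Groth.Agent.S14146
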