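import Groth.Statements.S14147
import Groth.Agent.Lib.FMBase13.Kernel
import Groth.Agent.Lib.FMBase13.Classes

set_option autoImplicit false
set_option backward.isDefEq.respectTransparency false
set_option backward.isDefEq.respectTransparency.types false
set_option linter.style.haveILetI false
universe u
open CategoryTheory CategoryTheory.Limits MonoidalCategory CartesianMonoidalCategory MonObj GrpObj AlgebraicGeometry
attribute [local instance] HasDerivedCategory.standard
open AbVar

namespace Groth.Agent.S14147

noncomputable local instance (Y : Scheme.{u}) : PicGrp.Law Y := M2.law Y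

/-- Let k be a field, A an abelian variety over k (a proper smooth k-group scheme with geometrically
connected fibres) with structure map a : A → Spec k, (A^t, φ) a given dual abelian variety for the
fppf topology with A^t an abelian variety, P an invertible module on A ×_k A^t whose class is a
Poincaré class, x : Spec k → A^t a k-rational point and M_x the restriction of P along A = A × {x} →
A ×_k A^t. Write Φ_P = Rpr_{2,*}(Lpr_1^*(−) ⊗^L P); the derived functors involved are assumed to
exist. Then, restricted to objects of D(O_A) with quasi-coherent cohomology sheaves, the functor F ↦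
Ra_*(F ⊗^L M_x) (global sections RΓ(A, F ⊗ M_x) as an object over Spec k) is isomorphic to F ↦
Lx^*(Φ_P(F)) (existence of an isomorphism of functors). -/
theorem result (k : Type u) [Field k]
    (A At : Over (Spec (CommRingCat.of k))) [GrpObj A] [IsProper A.hom] [Smooth A.hom] [GeometricallyConnected A.hom]
    [GrpObj At] [IsProper At.hom] [Smooth At.hom] [GeometricallyConnected At.hom]
    (φ : ∀ T : Over (Spec (CommRingCat.of k)), PicF.Cl (PicF.XT A.hom T) → (T ⟶ At))
    (hφ : AbDual.IsDualAV Scheme.fppfPrecoverage A At φ)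
    (P : (pullback A.hom At.hom).Modules) (hP : PicF.IsInvertible P)
    (hPξ : AbDual.IsPoincareCl A At φ (PicF.cl P))
    (x : 𝟙_ (Over (Spec (CommRingCat.of k))) ⟶ At)
    [DCoh.HasLpull (pullback.fst A.hom At.hom)] [DCoh.HasLTensorMod P] [DCoh.HasRpush (pullback.snd A.hom At.hom)]
    [DCoh.HasLTensorMod ((Scheme.Modules.pullback (CartesianMonoidalCategory.lift (𝟙 A) (toUnit A ≫ x)).left).obj P)]
    [DCoh.HasRpush A.hom] [DCoh.HasLpull x.left] :
    Nonempty (ObjectProperty.ι (DCoh.IsQCohD (X := A.left)) ⋙
        DCoh.LTensorMod ((Scheme.Modules.pullback (CartesianMonoidalCategory.lift (𝟙 A) (toUnit A ≫ x)).left).obj P) ⋙ DCoh.Rpush A.hom ≅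
      ObjectProperty.ι (DCoh.IsQCohD (X := A.left)) ⋙ (DCoh.Lpull (pullback.fst A.hom At.hom) ⋙ DCoh.LTensorMod P ⋙ DCoh.Rpush (pullback.snd A.hom At.hom)) ⋙ DCoh.Lpull x.left) := by
  haveI := AbRigid.geometricallyReduced_of_smooth A.hom
  obtain ⟨e⟩ := FMBase13.nonempty_phiK (pullback.fst A.hom At.hom) (pullback.snd A.hom At.hom) hP
  obtain ⟨g⟩ := DMon9.nonempty_lpull_natIso_lP x.left
  haveI : Flat (pullback.snd A.hom At.hom) := inferInstance
  obtain ⟨c⟩ := FMBase13.nonempty_phiK_BC (pullback.fst A.hom At.hom) (pullback.snd A.hom At.hom)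
    (FMBase13.isPullback_section (A := A) x) hP
  obtain ⟨m⟩ := FMBase13.nonempty_LT_tenF
    ((Scheme.Modules.pullback (CartesianMonoidalCategory.lift (𝟙 A) (toUnit A ≫ x)).left).obj P)
    (PicLoc.isInvertible_pullback _ hP)
  have h1 : (CartesianMonoidalCategory.lift (𝟙 A) (toUnit A ≫ x)).left ≫ pullback.fst A.hom At.hom = 𝟙 A.left :=
    (Over.comp_left _ _ _ _ _).symm.trans (congrArg Over.Hom.left (lift_fst (𝟙 A) (toUnit A ≫ x)))
  exact ⟨Functor.isoWhiskerLeft _ (Functor.isoWhiskerRight m (DCoh.Rpush A.hom) ≪≫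
      (Functor.leftUnitor _).symm ≪≫ Functor.isoWhiskerRight (DBC9.lPId A.left).symm _ ≪≫
      FMBase13.phiKCongr _ _ h1.symm _) ≪≫ c.symm ≪≫
    Functor.isoWhiskerLeft _ (Functor.isoWhiskerLeft _ g.symm ≪≫ Functor.isoWhiskerRight e.symm _)⟩

end Groth.Agent.S14147
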