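import Groth.Statements.S14148
import Groth.Agent.Lib.SuppFin13.Curve
import Groth.Agent.Lib.RR22.Mumford
import Groth.Agent.Lib.RosTrace22.Lambda
import Groth.Agent.Lib.CubeField.AmpleExists
import Groth.Agent.Lib.PnKoszul9.TwistD

set_option autoImplicit false
set_option backward.isDefEq.respectTransparency false
set_option backward.isDefEq.respectTransparency.types false
set_option linter.style.haveILetI false
universe u
open CategoryTheory CategoryTheory.Limits MonoidalCategory CartesianMonoidalCategory MonObj GrpObj AlgebraicGeometry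
attribute [local instance] HasDerivedCategory.standard
open AbVar

namespace Groth.Agent.S14148

noncomputable local instance (Y : Scheme.{u}) : PicGrp.Law Y := M2.law Y

/-- Cohomology sheaves of a twist. -/
theorem nonempty_hd_twist {X : Scheme.{u}} {M : X.Modules} (hM : PicF.IsInvertible M) [DCoh.HasLTensorMod M]
    (G : DCoh.D X) (i : ℤ) :
    Nonempty (DCoh.HD ((DCoh.LTensorMod M).obj G) i ≅ CohB1.tensorMod (DCoh.HD G i) M) := by
  haveI := PnKoszul9.preservesFiniteLimits_tensorRightMod M hM
  obtain ⟨t⟩ := PnKoszul9.nonempty_ltensorMod_twD M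
  let T := DCoh.tensorRightMod M
  let K := DerivedCategory.Q.objPreimage G
  let e : DerivedCategory.Q.obj K ≅ G := DerivedCategory.Q.objObjPreimageIso G
  let H := DerivedCategory.homologyFunctor X.Modules i
  exact ⟨H.mapIso (t.app G ≪≫ (PnKoszul9.twD M).mapIso e.symm ≪≫ T.mapDerivedCategoryFactors.app K) ≪≫
    (DerivedCategory.homologyFunctorFactors X.Modules i).app _ ≪≫
    ShortComplex.mapHomologyIso (K.sc i) T ≪≫
    T.mapIso (((DerivedCategory.homologyFunctorFactors X.Modules i).app K).symm ≪≫ H.mapIso e)⟩

/-- Let k be an algebraically closed field, A an abelian variety over k (a proper smooth k-group scheme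
with geometrically connected fibres), (A^t, φ) a given dual abelian variety for the fppf topology
with A^t an abelian variety, P an invertible module on A ×_k A^t whose class is a Poincaré class,
and for a k-rational point x of A^t let M_x denote the restriction of P along A = A × {x} → A ×_k
A^t (these are the degree-zero line bundles on A). Let G be an object of D(O_A) which is bounded
with coherent cohomology sheaves and invariant under tensoring with degree-zero line bundles: G ⊗^L
M_x ≅ G for every x (the derived tensor functors are assumed to exist). Then every cohomology sheaf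
H^i(G) has finite support. -/
theorem result (k : Type u) [Field k] [IsAlgClosed k]
    (A At : Over (Spec (CommRingCat.of k))) [GrpObj A] [IsProper A.hom] [Smooth A.hom] [GeometricallyConnected A.hom]
    [GrpObj At] [IsProper At.hom] [Smooth At.hom] [GeometricallyConnected At.hom]
    (φ : ∀ T : Over (Spec (CommRingCat.of k)), PicF.Cl (PicF.XT A.hom T) → (T ⟶ At))
    (hφ : AbDual.IsDualAV Scheme.fppfPrecoverage A At φ)
    (P : (pullback A.hom At.hom).Modules) (hP : PicF.IsInvertible P)
    (hPξ : AbDual.IsPoincareCl A At φ (PicF.cl P))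
    [∀ x : 𝟙_ (Over (Spec (CommRingCat.of k))) ⟶ At,
      DCoh.HasLTensorMod ((Scheme.Modules.pullback (CartesianMonoidalCategory.lift (𝟙 A) (toUnit A ≫ x)).left).obj P)]
    (G : DCoh.D A.left) (hG : DCoh.IsCohD G) (m n : ℤ) (hGm : DerivedCategory.IsGE G m) (hGn : DerivedCategory.IsLE G n)
    (hinv : ∀ x : 𝟙_ (Over (Spec (CommRingCat.of k))) ⟶ At,
      Nonempty ((DCoh.LTensorMod ((Scheme.Modules.pullback (CartesianMonoidalCategory.lift (𝟙 A) (toUnit A ≫ x)).left).obj P)).obj G ≅ G))
    (i : ℤ) : (CohB1.support (DCoh.HD G i)).Finite := by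
  haveI : GeometricallyIntegral A.hom := AbRigid.geometricallyIntegral_of_smooth A
  haveI := isCommMonObj_of_isProper_of_geometricallyIntegral A
  obtain ⟨L, hL⟩ := CubeField.exists_isAmple A
  obtain ⟨Λ, hΛi, hΛc⟩ := PicGrp.exists_eq_cls (RR22.mumC (PicGrp.cls L hL.1))
  have hΛc' : PicF.cl Λ = (RR22.mumC (PicGrp.cls L hL.1)).1 := by rw [hΛc]; rfl
  have hΛ0 : AbDual.IsPicZeroCl A.hom A (PicF.cl Λ) := by
    rw [hΛc']; exact RosTrace22.picZero_mumC _
  refine SuppFin13.support_finite (hG i) hL fun a => ?_
  let x := a ≫ φ A (PicF.cl Λ)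
  let M := (Scheme.Modules.pullback (CartesianMonoidalCategory.lift (𝟙 A) (toUnit A ≫ x)).left).obj P
  have hM : PicF.IsInvertible M := PicLoc.isInvertible_pullback _ hP
  refine ⟨M, hM, ?_, ?_⟩
  · rw [← RR22.pb_sl_mumC]
    apply Subtype.ext
    rw [PicGrp.cls_val]
    show PicF.cl M = PicF.pullCl (AlgEquiv22.sl A a).left (RR22.mumC (PicGrp.cls L hL.1)).1
    rw [← hΛc', RR22.cl_eq_pull_poincare hφ hΛ0 hΛc' hPξ, PicDesc21.pullCl_pullCl, ← Over.comp_left,
      show AlgEquiv22.sl A a ≫ A ◁ φ A (PicF.cl Λ) = CartesianMonoidalCategory.lift (𝟙 A) (toUnit A ≫ x) by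
        apply CartesianMonoidalCategory.hom_ext <;> simp [AlgEquiv22.sl, x]]
    rfl
  · obtain ⟨e⟩ := hinv x
    obtain ⟨t⟩ := nonempty_hd_twist hM G i
    exact ⟨t.symm ≪≫ (DerivedCategory.homologyFunctor _ i).mapIso e⟩

end Groth.Agent.S14148
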