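import Groth.Statements.S1415
import Groth.Agent.Lib.FlatH4.QFBound

set_option autoImplicit false
universe u
open FlatMor

namespace Groth.Agent.S1415

theorem irr_eq_conn (α : Type*) [TopologicalSpace α] [DiscreteTopology α] :
    (irreducibleComponents α).encard = ENat.card (_root_.ConnectedComponents α) := by
  have h1 : irreducibleComponents α = Set.range fun a : α => ({a} : Set α) := by
    ext s
    constructor
    · intro hs
      obtain ⟨a, ha⟩ := hs.1.nonempty
      refine ⟨a, ?_⟩
      have := isPreirreducible_iff_subsingleton.mp hs.1.isPreirreducible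
      exact Set.ext fun b => ⟨fun hb => hb ▸ ha, fun hb => this hb ha⟩
    · rintro ⟨a, rfl⟩
      refine ⟨isIrreducible_singleton, fun t ht hsub b hb => ?_⟩
      exact isPreirreducible_iff_subsingleton.mp ht.isPreirreducible hb (hsub rfl)
  rw [h1, ← Set.image_univ, Set.singleton_injective.encard_image, Set.encard_univ]
  refine ENat.card_congr (Equiv.ofBijective (_root_.ConnectedComponents.mk : α → _) ⟨fun a b h => ?_, fun c => ?_⟩)
  · have h1 : a ∈ connectedComponent b := ConnectedComponents.coe_eq_coe'.mp h
    rwa [totallyDisconnectedSpace_iff_connectedComponent_singleton.mp inferInstance b] at h1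
  · exact c.exists_rep

open AlgebraicGeometry CategoryTheory Limits

theorem discrete_geomFiber {X Y : Scheme.{u}} (f : X ⟶ Y) [LocallyQuasiFinite f] (y : Y) :
    DiscreteTopology ↥(MoreMor.geomFiber f y) := by
  let K := SeparableClosure (Y.residueField y)
  let k := Spec.map (CommRingCat.ofHom (algebraMap (Y.residueField y) K))
  have : LocallyQuasiFinite (f.fiberToSpecResidueField y) :=
    inferInstanceAs (LocallyQuasiFinite (pullback.snd f (Y.fromSpecResidueField y)))
  let s := pullback.snd (f.fiberToSpecResidueField y) k
  have : LocallyQuasiFinite s := inferInstanceAs (LocallyQuasiFinite (pullback.snd (f.fiberToSpecResidueField y) k))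
  have hd := s.isDiscrete_preimage_singleton (IsLocalRing.closedPoint K)
  have hu : ∀ z, s z = IsLocalRing.closedPoint K :=
    fun z => Subsingleton.elim (α := PrimeSpectrum K) (s z) _
  exact isDiscrete_univ_iff.mp (hd.mono fun z _ => hu z)

open AlgebraicGeometry CategoryTheory Limits in
/-- Let f : X → Y be locally quasi-finite. Then (1) for every y the number of irreducible components and
the number of connected components of the geometric fibre over y agree, and (2) if X is
quasi-compact these numbers are bounded by some natural number. -/
theorem result {X Y : Scheme.{u}} (f : X ⟶ Y) [LocallyQuasiFinite f] [LocallyOfFiniteType f] :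
    (∀ y : Y, MoreMor.nGeomIrredComp f y = MoreMor.nGeomConnComp f y) ∧
      (CompactSpace ↑X → ∃ d : ℕ, ∀ y : Y, MoreMor.nGeomConnComp f y ≤ d) := by
  refine ⟨fun y => ?_, fun _ => ?_⟩
  · have := discrete_geomFiber f y
    exact irr_eq_conn _
  · obtain ⟨d, hd⟩ := Groth.Agent.FlatH4.exists_fibLE f
    refine ⟨d, fun y => ?_⟩
    refine le_trans ?_ (hd (SeparableClosure (Y.residueField y))
      (Spec.map (CommRingCat.ofHom (algebraMap (Y.residueField y) (SeparableClosure (Y.residueField y)))) ≫
        Y.fromSpecResidueField y))
    refine (ENat.card_le_card_of_injective (Function.injective_surjInv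
      (f := (_root_.ConnectedComponents.mk : ↥(MoreMor.geomFiber f y) → _)) (fun c => c.exists_rep))).trans ?_
    exact (ENat.card_congr (pullbackLeftPullbackSndIso f (Y.fromSpecResidueField y)
      (Spec.map (CommRingCat.ofHom (algebraMap (Y.residueField y) (SeparableClosure (Y.residueField y)))))).hom.homeomorph.toEquiv).le

end Groth.Agent.S1415
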