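import Groth.Statements.S14151
import Groth.Agent.Lib.VB17.Proper

set_option autoImplicit false
universe u
open CategoryTheory CategoryTheory.Limits AlgebraicGeometry
open VBCurve

namespace Groth.Agent.S14151

open CategoryTheory CategoryTheory.Limits AlgebraicGeometry Groth.Agent.VB17 Groth.Agent.CurveCoh17

/-- Let C be a smooth proper geometrically connected curve over a field k (proper, smooth and
geometrically connected over k, of dimension one) and E a finite locally free O_C-module of rank r ≥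
1; degrees of rank-n locally free modules are χ − n·χ(O_C) and slopes are compared by
cross-multiplication. Then: E is semistable in the sense of quotients (μ(E) ≤ μ(F) for every locally
free quotient E ↠ F of rank s ≥ 1) if and only if μ(G) ≤ μ(E) for every finite locally free
submodule G of E of rank r' ≥ 1; and E is stable in the sense of quotients (μ(E) < μ(F) for every
such quotient map which is not an isomorphism) if and only if μ(G) < μ(E) for every such submodule
whose inclusion is not an isomorphism. (The printed lemma says every nonzero subsheaf; for the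
strict inequalities the subsheaf and the quotient must be proper, as its proof uses.) -/
theorem result (k : Type u) [Field k] (X : Scheme.{u}) [X.Over (Spec (CommRingCat.of k))]
    [IsProper (X ↘ Spec (CommRingCat.of k))] [Smooth (X ↘ Spec (CommRingCat.of k))]
    [GeometricallyConnected (X ↘ Spec (CommRingCat.of k))] (hdim : topologicalKrullDim ↥X = 1)
    (r : ℕ) (hr : 0 < r) (E : X.Modules) (hE : FlatMod.IsFinLocFreeOfRank r E) :
    ((∀ (F : X.Modules) (s : ℕ) (p : E ⟶ F), Epi p → 0 < s → FlatMod.IsFinLocFreeOfRank s F →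
      Curv2.deg k X E r * (s : ℤ) ≤ Curv2.deg k X F s * (r : ℤ)) ↔
      (∀ (G : X.Modules) (r' : ℕ) (i : G ⟶ E), Mono i → 0 < r' → FlatMod.IsFinLocFreeOfRank r' G →
      Curv2.deg k X G r' * (r : ℤ) ≤ Curv2.deg k X E r * (r' : ℤ))) ∧
    ((∀ (F : X.Modules) (s : ℕ) (p : E ⟶ F), Epi p → 0 < s → FlatMod.IsFinLocFreeOfRank s F → (¬ IsIso p) →
      Curv2.deg k X E r * (s : ℤ) < Curv2.deg k X F s * (r : ℤ)) ↔
      (∀ (G : X.Modules) (r' : ℕ) (i : G ⟶ E), Mono i → 0 < r' → FlatMod.IsFinLocFreeOfRank r' G → (¬ IsIso i) →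
      Curv2.deg k X G r' * (r : ℤ) < Curv2.deg k X E r * (r' : ℤ))) := by
  have hX := regCurve (k := k) hdim
  haveI := hX.integral
  have fwd : ∀ (F : X.Modules) (s : ℕ) (p : E ⟶ F), Epi p → FlatMod.IsFinLocFreeOfRank s F →
      ∃ (rK : ℕ) (dK : ℤ), r = rK + s ∧ Curv2.deg k X E r = dK + Curv2.deg k X F s ∧ (rK = 0 → dK = 0) ∧
        FlatMod.IsFinLocFreeOfRank rK (kernel p) ∧ dK = Curv2.deg k X (kernel p) rK ∧ (rK = 0 → IsIso p) := by
    intro F s p hp hF
    obtain ⟨rK, rI, dK, dI, hK, hI, hdK, hdI, hd, hsum, -, -, hm, hK0, -, -⟩ := map_data hX hE hF p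
    haveI : IsIso (Abelian.image.ι p) := by
      haveI : Epi (Abelian.factorThruImage p ≫ Abelian.image.ι p) := by rw [Abelian.image.fac]; exact hp
      haveI := epi_of_epi (Abelian.factorThruImage p) (Abelian.image.ι p)
      exact isIso_of_mono_of_epi _
    have hI' := Groth.Agent.M2.isFinLocFreeOfRank_of_iso (asIso (Abelian.image.ι p)) hI
    obtain rfl := rank_unique hI' hF
    refine ⟨rK, dK, hsum, ?_, hK0, hK, hdK, fun h => ?_⟩
    · rw [hd, hdI, deg_iso (asIso (Abelian.image.ι p))]
    · haveI := hm.1 h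
      exact isIso_of_mono_of_epi p
  have bwd : ∀ (G : X.Modules) (r' : ℕ) (i : G ⟶ E), Mono i → FlatMod.IsFinLocFreeOfRank r' G →
      ∃ (Q : X.Modules) (s : ℕ) (p : E ⟶ Q), Epi p ∧ FlatMod.IsFinLocFreeOfRank s Q ∧ r = r' + s ∧
        Curv2.deg k X G r' + Curv2.deg k X Q s ≤ Curv2.deg k X E r := by
    intro G r' i hi hG
    obtain ⟨N, hN⟩ := deg_sub_bdd hX hE
    obtain ⟨d, ⟨P, j, hj, hP, hd⟩, hmax⟩ := Int.exists_greatest_of_bdd
      (P := fun d => ∃ (P : X.Modules) (j : P ⟶ E), Mono j ∧ FlatMod.IsFinLocFreeOfRank r' P ∧ Curv2.deg k X P r' = d)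
      ⟨N, fun z hz => by obtain ⟨P, j, hj, hP, rfl⟩ := hz; exact hN P r' j hj hP⟩
      ⟨_, G, i, hi, hG, rfl⟩
    haveI := hj
    obtain ⟨s, hQ⟩ := exists_rank_of_isFinLocFree (isFinLocFree_cokernel hX hE hP j
      fun P' j' hj' hP' => hd ▸ hmax _ ⟨P', j', hj', hP', rfl⟩)
    have hS : (ShortComplex.mk j (cokernel.π j) (cokernel.condition j)).ShortExact :=
      { exact := ShortComplex.exact_of_g_is_cokernel _ (cokernelIsCokernel _) }
    refine ⟨_, s, cokernel.π j, inferInstance, hQ, rank_add hS hP hE hQ, ?_⟩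
    have h1 := deg_add hX.like hS hP hE hQ
    have h2 := hmax _ ⟨G, i, hi, hG, rfl⟩
    dsimp only at h1
    linarith
  have zero : ∀ (Q : X.Modules), FlatMod.IsFinLocFreeOfRank 0 Q → Curv2.deg k X Q 0 = 0 :=
    fun Q hQ => deg_rank_zero hX.like hQ
  refine ⟨⟨fun hq G r' i hi h0 hG => ?_, fun hs F s p hp h0 hF => ?_⟩,
    ⟨fun hq G r' i hi h0 hG hniso => ?_, fun hs F s p hp h0 hF hniso => ?_⟩⟩
  · obtain ⟨Q, s, p, hp, hQ, hsum, hd⟩ := bwd G r' i hi hG
    have hrr := mul_le_mul_of_nonneg_right hd (show (0 : ℤ) ≤ r by positivity)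
    rcases Nat.eq_zero_or_pos s with rfl | hs
    · rw [zero Q hQ] at hd
      obtain rfl : r = r' := by omega
      exact mul_le_mul_of_nonneg_right (by linarith) (by positivity)
    · have h1 := hq Q s p hp hs hQ
      subst hsum
      push_cast at h1 hrr ⊢
      linarith
  · obtain ⟨rK, dK, hsum, hd, hK0, hK, hdK, -⟩ := fwd F s p hp hF
    rw [hd]
    subst hsum
    rcases Nat.eq_zero_or_pos rK with h | h
    · rw [hK0 h, h]; simp
    · have h1 := hs _ rK (kernel.ι p) inferInstance h hK
      rw [← hdK, hd] at h1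
      push_cast at h1 ⊢
      linarith
  · haveI := hi
    obtain ⟨Q, s, p, hp, hQ, hsum, hd⟩ := bwd G r' i hi hG
    have hrr := mul_le_mul_of_nonneg_right hd (show (0 : ℤ) ≤ r by positivity)
    rcases Nat.eq_zero_or_pos s with rfl | hs
    · obtain rfl : r = r' := by omega
      obtain ⟨hle, heq⟩ := deg_le_of_mono hX.like hG hE i
      exact mul_lt_mul_of_pos_right (lt_of_le_of_ne hle fun h => hniso (heq h)) (by exact_mod_cast hr)
    · have h1 := hq Q s p hp hs hQ fun hiso => by
        have := rank_unique hQ (Groth.Agent.M2.isFinLocFreeOfRank_of_iso (asIso p) hE)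
        omega
      subst hsum
      push_cast at h1 hrr ⊢
      linarith
  · obtain ⟨rK, dK, hsum, hd, hK0, hK, hdK, hiso⟩ := fwd F s p hp hF
    have h := Nat.pos_of_ne_zero fun h => hniso (hiso h)
    have h1 := hs _ rK (kernel.ι p) inferInstance h hK fun hi' => by
      have := rank_unique hK (Groth.Agent.M2.isFinLocFreeOfRank_of_iso (asIso (kernel.ι p)).symm hE)
      omega
    rw [← hdK, hd] at h1
    rw [hd]
    subst hsum
    push_cast at h1 ⊢
    linarith

end Groth.Agent.S14151
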