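import Groth.Statements.S14153
import Groth.Agent.Lib.IrrDiv13.Power
import Groth.Agent.Lib.IrrDiv13.Section
import Groth.Agent.Lib.RR22.Mumford
import Groth.Agent.Lib.MumVan22.Surj
import Groth.Agent.Lib.AbDual21.Phi
import Groth.Agent.Lib.AVDegree22.MulDeg
import Groth.Agent.Lib.Index22.Index
import Groth.Agent.Lib.RegLoc.UFD
import Groth.Agent.Lib.WeilExt.Apply
import Groth.Agent.Lib.RedSep.Basic
import Groth.Agent.Lib.FGA3.TorsionLift

set_option autoImplicit false
universe u
open CategoryTheory CategoryTheory.Limits MonoidalCategory CartesianMonoidalCategory MonObj GrpObj AlgebraicGeometry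
open AbVar

namespace Groth.Agent.S14153

open CategoryTheory.Limits Groth.Agent.AlgEquiv22 TopologicalSpace

noncomputable local instance instLawS14153 (Y : Scheme.{u}) : PicGrp.Law Y := M2.law Y

/-- Let k be an algebraically closed field of characteristic 0, A an abelian variety over k (a proper
smooth k-group scheme with geometrically connected fibres), (A^t, φ) a given dual abelian variety
for the fppf topology with A^t an abelian variety, L an ample invertible O_A-module with an inverse
L', and Λ a module on A ×_k A isomorphic to the Mumford module m^*L ⊗ pr_1^*L' ⊗ pr_2^*L', whose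
class is assumed algebraically trivial on every geometric fibre of the second projection. Assume
that φ_L = φ(Λ) : A → A^t is an isomorphism, i.e. L defines a principal polarization, and let s be a
nonzero global section of L with zero scheme Θ ⊆ A (the theta divisor). If Θ is irreducible then Θ
is reduced. -/
theorem result (k : Type u) [Field k] [IsAlgClosed k] [CharZero k]
    (A At : Over (Spec (CommRingCat.of k))) [GrpObj A] [IsProper A.hom] [Smooth A.hom] [GeometricallyConnected A.hom]
    [GrpObj At] [IsProper At.hom] [Smooth At.hom] [GeometricallyConnected At.hom]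
    (φ : ∀ T : Over (Spec (CommRingCat.of k)), PicF.Cl (PicF.XT A.hom T) → (T ⟶ At))
    (hφ : AbDual.IsDualAV Scheme.fppfPrecoverage A At φ)
    (L : A.left.Modules) (hLa : CohB1.IsAmple L) (L' : A.left.Modules) (hL' : Nonempty (CohB1.tensorMod L L' ≅ Coh.structureModule A.left))
    (Λ : (PicF.XT A.hom A).Modules)
    (hΛ : Nonempty (Λ ≅ CohB1.tensorMod (CohB1.tensorMod ((Scheme.Modules.pullback μ[A].left).obj L)
      ((Scheme.Modules.pullback (fst A A).left).obj L')) ((Scheme.Modules.pullback (snd A A).left).obj L')))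
    (hΛ0 : AbDual.IsPicZeroCl A.hom A (PicF.cl Λ))
    [IsIso (φ A (PicF.cl Λ))]
    (s : Coh.structureModule A.left ⟶ L) (hs : s ≠ 0)
    [IrreducibleSpace ↥(PicF2.zeroScheme L s).subscheme] :
    IsReduced (PicF2.zeroScheme L s).subscheme := by
  haveI : GeometricallyIntegral A.hom := AbRigid.geometricallyIntegral_of_smooth A
  haveI := isCommMonObj_of_isProper_of_geometricallyIntegral A
  haveI : IsIntegral A.left := GeometricallyIntegral.isIntegral_of_subsingleton A.hom
  haveI : IsLocallyNoetherian A.left := LocallyOfFiniteType.isLocallyNoetherian A.hom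
  have hufd : ∀ x : A.left, UniqueFactorizationMonoid (A.left.presheaf.stalk x) := fun x =>
    haveI := WeilExt.isRegularLocalRing_stalk_of_smooth A.hom x
    RegLoc.ufd_of_isRegularLocalRing _
  have hL : PicF.IsInvertible L := hLa.1
  set I := PicF2.zeroScheme L s with hIdef
  have hI : BlowUp.IsEffCartierIdeal I := IrrDiv13.isEffCartier_zeroScheme hL s hs
  have hirr : IsIrreducible (I.support : Set A.left) := by
    rw [← I.range_subschemeι, ← Set.image_univ]
    exact (IrreducibleSpace.isIrreducible_univ _).image _ I.subschemeι.continuous.continuousOn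
  obtain ⟨hR, m, hm, hpow⟩ := IrrDiv13.exists_eq_pow I hufd hI hirr
  by_cases hm1 : m = 1
  · rw [hm1, pow_one] at hpow
    rw [hpow, ← Scheme.IdealSheafData.vanishingIdeal_support]
    exact RedSepLib.isReduced_vanishingIdeal_subscheme _
  exfalso
  -- the class of `L` is an `m`-th power
  obtain ⟨D, hD, ⟨ε⟩⟩ := M2.exists_inverse hL
  obtain ⟨i⟩ := IrrDiv13.nonempty_inverse_iso_zeroScheme hL hD ε s hs
  obtain ⟨i'⟩ := CurveCoh17.nonempty_idealMod_pow hR m
  have hr := M2.isInvertible_idealMod _ hR
  set c := PicGrp.cls L hL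
  set d := (PicGrp.cls (ClSub.idealMod I.radical) hr)⁻¹ with hd
  have hcd : c = d ^ m := by
    have h1 : c * PicGrp.cls D hD = 1 := by
      apply Subtype.ext
      rw [PicGrp.mul_val, PicGrp.cls_val, PicGrp.cls_val, PicGrp.mulCl_cl, PicGrp.one_val]
      exact (PicGrp.cl_eq_cl_iff _ _).2 ⟨ε⟩
    have h2 : PicGrp.cls D hD = PicGrp.cls (ClSub.idealMod I.radical) hr ^ m := by
      rw [← FGA3.cls_tensorPow hr m]
      exact (PicGrp.cls_eq_cls_iff _ _).2 ⟨i ≪≫ eqToIso (congrArg _ hpow) ≪≫ i'.symm⟩
    rw [hd, inv_pow, ← h2, eq_inv_iff_mul_eq_one]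
    exact h1
  clear_value d
  let θ : (𝟙_ (Over (Spec (CommRingCat.of k))) ⟶ A) → PicLoc.PicSet A.left := fun a =>
    pb (𝟙 A * (toUnit A ≫ a)) d * d⁻¹
  have hθone : θ 1 = 1 := by
    simp only [θ]
    rw [MonObj.comp_one, _root_.mul_one, pb_id, mul_inv_cancel]
  have hθmul : ∀ a b, θ (a * b) = θ a * θ b := fun a b => by
    have h := MumVan22.inv_translate_div d a b
    rw [map_mul, map_inv, pb_pb, MonObj.comp_mul, Category.comp_id, ← Category.assoc,
      toUnit_unique ((𝟙 A * (toUnit A ≫ b)) ≫ toUnit A) (toUnit A), _root_.mul_assoc, ← MonObj.comp_mul,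
      mul_comm b a] at h
    show pb (𝟙 A * (toUnit A ≫ (a * b))) d * d⁻¹ = pb (𝟙 A * (toUnit A ≫ a)) d * d⁻¹ * (pb (𝟙 A * (toUnit A ≫ b)) d * d⁻¹)
    rw [← h]
    group
  have hθpow : ∀ a (n : ℕ), θ (a ^ n) = θ a ^ n := fun a n => by
    induction n with
    | zero => rw [pow_zero, pow_zero]; exact hθone
    | succ n ih => rw [pow_succ, pow_succ, hθmul, ih]
  let lam := φ A (PicF.cl Λ)
  have hkill : ∀ a : 𝟙_ (Over (Spec (CommRingCat.of k))) ⟶ A, a ^ m = 1 → a ≫ lam = 1 := fun a ha => by
    have h1 : pb (sl A a) (RR22.mumC c) = 1 := by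
      rw [RR22.pb_sl_mumC, hcd, map_pow, ← inv_pow, ← mul_pow]
      show θ a ^ m = 1
      rw [← hθpow, ha, hθone]
    have hw : A ◁ a = fst A (𝟙_ _) ≫ sl A a := by
      apply CartesianMonoidalCategory.hom_ext
      · rw [whiskerLeft_fst, Category.assoc, show sl A a ≫ fst A A = 𝟙 A from lift_fst _ _, Category.comp_id]
      · rw [whiskerLeft_snd, Category.assoc, show sl A a ≫ snd A A = toUnit A ≫ a from lift_snd _ _,
          ← Category.assoc, toUnit_unique (fst A (𝟙_ _) ≫ toUnit A) (snd A (𝟙_ _))]
    have h2 : pb (A ◁ a) (RR22.mumC c) = 1 := by rw [hw, ← pb_pb, h1, map_one]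
    have h3 := congrArg Subtype.val h2
    rw [pb, PicGrp.pullHom_apply_val, ← RR22.cl_mumford hL hL' hΛ, PicGrp.one_val] at h3
    rw [← AbDual21.phi_natural hφ a hΛ0, h3]
    exact AbDual21.phi_one hφ _
  -- a non-trivial `m`-torsion point
  obtain ⟨g, hg⟩ := Index22.exists_dim (A := A)
  have hg0 : g ≠ 0 := by
    rintro rfl
    have hnot : genericPoint A.left ∉ I.support := fun h => by
      obtain ⟨U, -, -, a, hU, -, -, -, ha, hIU⟩ := IrrDiv13.exists_chart hL hL s hs (genericPoint A.left)
      rw [Scheme.IdealSheafData.mem_support_iff_of_mem (U := U) hU, hIdef] at h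
      rw [hIU, Scheme.zeroLocus_span, Scheme.mem_zeroLocus_iff] at h
      refine h a rfl ((genericPoint_spec A.left).mem_open_set_iff (A.left.basicOpen a).isOpen |>.2 ?_)
      rw [Set.univ_inter]
      haveI : Nonempty ↥U.1 := ⟨⟨_, hU⟩⟩
      by_contra hempty
      haveI : IsDomain Γ(A.left, U.1) := @IsIntegral.component_integral A.left _ U.1 ⟨⟨_, hU⟩⟩
      exact nonZeroDivisors.ne_zero ha ((basicOpen_eq_bot_iff a).1
        (Opens.ext (Set.not_nonempty_iff_eq_empty.1 hempty)))
    have hlt : (⟨I.support, hirr, I.support.isClosed⟩ : IrreducibleCloseds A.left) <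
        ⟨Set.univ, IrreducibleSpace.isIrreducible_univ _, isClosed_univ⟩ :=
      (Set.ssubset_univ_iff.2 fun h => hnot (Set.eq_univ_iff_forall.1 h _))
    have h0 : Order.krullDim (IrreducibleCloseds A.left) ≤ 0 := by
      have := hg
      rw [topologicalKrullDim] at this
      rw [this]
      rfl
    exact (Order.krullDim_nonpos_iff_forall_isMax.1 h0 _).not_lt hlt
  have hcard := AVDegree22.card_torsPts (A := A) hg (N := m) (Nat.cast_ne_zero.2 (Nat.pos_iff_ne_zero.1 hm))
  have hone : 1 < m ^ (2 * g) := Nat.one_lt_pow (by omega) (by omega)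
  obtain ⟨⟨a, ha⟩, hne⟩ : ∃ a : AbDual.torsPts A m (Over.mk (𝟙 (Spec (CommRingCat.of k)))), a ≠ 1 := by
    by_contra! h
    haveI : Subsingleton (AbDual.torsPts A m (Over.mk (𝟙 (Spec (CommRingCat.of k))))) :=
      ⟨fun a b => (h a).trans (h b).symm⟩
    rw [← hcard] at hone
    exact absurd (Finite.card_le_one_iff_subsingleton.2 inferInstance) (not_le.2 hone)
  refine hne (Subtype.ext ?_)
  exact (cancel_mono lam).1 ((hkill a ha).trans (hkill 1 (one_pow m)).symm)

end Groth.Agent.S14153
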