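import Groth.Statements.S14155
-- import your own Groth.Agent.* helpers here
import Groth.Agent.Lib.VB17.Euclid
import Groth.Agent.Lib.VB17.GenusOne

set_option autoImplicit false
universe u
open CategoryTheory CategoryTheory.Limits AlgebraicGeometry
open VBCurve

namespace Groth.Agent.S14155

/-- Let k be an algebraically closed field, X a smooth proper integral curve over k (proper and smooth
over k, integral, of dimension one) of genus one, i.e. dim_k H^1(X, O_X) = 1 (an elliptic curve once
a base point is chosen), and F a finite locally free O_X-module of rank r ≥ 1 which is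
indecomposable (nonzero, and in any decomposition F ≅ F₁ ⊕ F₂ one summand is zero), of degree d =
χ(F) − r·χ(O_X). Then F is stable — deg G · r < d · r' for every finite locally free submodule G of
F of rank r' ≥ 1 whose inclusion is not an isomorphism — if and only if gcd(d, r) = 1. (The
published corollary also identifies stability with simplicity in two senses; those equivalences are
not restated.) -/
theorem result (k : Type u) [Field k] [IsAlgClosed k]
    (X : Scheme.{u}) [X.Over (Spec (CommRingCat.of k))] [IsIntegral X]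
    [IsProper (X ↘ Spec (CommRingCat.of k))] [Smooth (X ↘ Spec (CommRingCat.of k))]
    (hdim : topologicalKrullDim ↥X = 1) (hg : Curv2.genus k X = 1)
    (r : ℕ) (hr : 0 < r) (F : X.Modules) (hF : FlatMod.IsFinLocFreeOfRank r F)
    (hind : ¬ IsZero F ∧ ∀ (F₁ F₂ : X.Modules), Nonempty (F ≅ F₁ ⊞ F₂) → IsZero F₁ ∨ IsZero F₂) :
    (∀ (G : X.Modules) (r' : ℕ) (i : G ⟶ F), Mono i → 0 < r' → FlatMod.IsFinLocFreeOfRank r' G → (¬ IsIso i) →
      Curv2.deg k X G r' * (r : ℤ) < Curv2.deg k X F r * (r' : ℤ)) ↔ Int.gcd (Curv2.deg k X F r) (r : ℤ) = 1 := by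
  obtain ⟨hX, h0, hbig⟩ := VB17.setup (k := k) (X := X) hdim
  rw [← Int.isCoprime_iff_gcd_eq_one]
  refine ⟨fun h => VB17.isCoprime_of_st hdim hg r hr hF fun G r' i hi hr' hlt hG => h G r' i hi hr' hG fun hiso => ?_,
    fun hcop G r' i hi hr' hG hniso => ?_⟩
  · haveI := hiso
    have := VB17.rank_unique (Groth.Agent.M2.isFinLocFreeOfRank_of_iso (asIso i) hG) hF
    omega
  · haveI := hi
    rcases (VB17.rank_le_of_mono hX hF hG i).lt_or_eq with hlt | heq
    · refine lt_of_le_of_ne (VB17.ss_of_indecomposable hX h0 hbig hg hr hF hind.2 G r' i hi hr' hG) fun he => ?_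
      have hdvd : (r : ℤ) ∣ (r' : ℤ) := hcop.symm.dvd_of_dvd_mul_left ⟨Curv2.deg k X G r', by rw [← he, mul_comm]⟩
      have := Nat.le_of_dvd hr' (Int.natCast_dvd_natCast.1 hdvd)
      omega
    · subst heq
      have hd := VB17.deg_le_of_mono hX.like hG hF i
      exact mul_lt_mul_of_pos_right (lt_of_le_of_ne hd.1 fun he => hniso (hd.2 he)) (by exact_mod_cast hr)

end Groth.Agent.S14155
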