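import Groth.Statements.S14156
-- import your own Groth.Agent.* helpers here
import Groth.Agent.Lib.VB17.Euclid
import Groth.Agent.Lib.VB17.GenusOne

set_option autoImplicit false
universe u
open CategoryTheory CategoryTheory.Limits AlgebraicGeometry
open VBCurve

namespace Groth.Agent.S14156

/-- Let k be an algebraically closed field and X a smooth proper integral curve over k (proper and
smooth over k, integral, of dimension one) of genus one, i.e. dim_k H^1(X, O_X) = 1. Then for every
r ≥ 1 and every integer d there is a finite locally free O_X-module F of rank r and degree d = χ(F)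
− r·χ(O_X) which is semistable: deg G · r ≤ d · r' for every finite locally free submodule G of F of
rank r' ≥ 1. (The published result identifies semistable bundles of a fixed slope with torsion
coherent sheaves, a bundle of rank r and degree d corresponding to a torsion sheaf of length gcd(d,
r); this row states the resulting existence for every rank r ≥ 1 and every degree d; the
classification itself is not restated.) -/
theorem result (k : Type u) [Field k] [IsAlgClosed k]
    (X : Scheme.{u}) [X.Over (Spec (CommRingCat.of k))] [IsIntegral X]
    [IsProper (X ↘ Spec (CommRingCat.of k))] [Smooth (X ↘ Spec (CommRingCat.of k))]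
    (hdim : topologicalKrullDim ↥X = 1) (hg : Curv2.genus k X = 1)
    (r : ℕ) (hr : 0 < r) (d : ℤ) :
    ∃ F : X.Modules, FlatMod.IsFinLocFreeOfRank r F ∧ Curv2.deg k X F r = d ∧
      (∀ (G : X.Modules) (r' : ℕ) (i : G ⟶ F), Mono i → 0 < r' → FlatMod.IsFinLocFreeOfRank r' G →
      Curv2.deg k X G r' * (r : ℤ) ≤ Curv2.deg k X F r * (r' : ℤ)) := by
  exact VB17.exists_ss hdim hg hr d

end Groth.Agent.S14156
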