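import Groth.Statements.S1416
import Groth.Agent.Lib.SuppDim4.Basic

set_option autoImplicit false
universe u
open FlatMor

set_option backward.isDefEq.respectTransparency.types false

namespace Groth.Agent.S1416

open AlgebraicGeometry CategoryTheory Limits in
/-- Let f : X → S be locally of finite type with S irreducible with generic point η, and F a
quasi-coherent O_X-module of finite type which is flat over S. If the support of F in the fibre over
η has dimension ≤ r then the support of F in every fibre has dimension ≤ r (supports in fibres taken
as subspaces of X: the points of the fibre where the stalk of F is nonzero). -/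
theorem result {X S : Scheme.{u}} (f : X ⟶ S) [LocallyOfFiniteType f] [IrreducibleSpace ↑S]
    (F : X.Modules) (hF : Coh.IsCoh F) (hfl : FlatMod.IsFlatOver f F) (r : WithBot ℕ∞)
    (h : topologicalKrullDim ↑(f ⁻¹' {genericPoint ↑S} ∩ CohB1.support F) ≤ r) (s : S) :
    topologicalKrullDim ↑(f ⁻¹' {s} ∩ CohB1.support F) ≤ r := by
  have hclosed := Groth.Agent.M1.isClosed_support hF.2
  let C : TopologicalSpace.Closeds X := ⟨CohB1.support F, hclosed⟩
  let i := (Scheme.IdealSheafData.vanishingIdeal C).subschemeι
  have hrange : Set.range i = CohB1.support F := by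
    rw [Scheme.IdealSheafData.range_subschemeι, Scheme.IdealSheafData.coe_support_vanishingIdeal]
    rfl
  rw [Set.inter_comm] at h ⊢
  rw [Groth.Agent.FibSub4.dim_inter_preimage i f hrange] at h ⊢
  rw [Groth.Agent.FibGen4.dim_fiber_le_iff] at h ⊢
  intro x hx
  obtain ⟨x', hx', hle⟩ := Groth.Agent.SuppDim4.exists_fibreDimAt_le f F hF.1 hF.2 hfl i hrange x
    (s' := genericPoint S) (genericPoint_specializes _)
  exact hle.trans (h x' hx')

end Groth.Agent.S1416
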