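import Groth.Statements.S14160
import Groth.Agent.Lib.AgPol22.Poincare
import Groth.Agent.S7788

set_option autoImplicit false
universe u
open CategoryTheory CategoryTheory.Limits MonoidalCategory CartesianMonoidalCategory MonObj AlgebraicGeometry
open AgPol

namespace Groth.Agent.S14160

/-- Let S be a locally Noetherian scheme, A a projective abelian scheme over S of relative dimension g
with commutative group law, (At, φ) a commutative group scheme with data presenting it as the dual
of A for the fppf topology, ξ a Poincaré class on A ×_S At, and k ≥ 1. If lam₁, lam₂ : A ⟶ At are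
polarisations such that ξ pulls back to the same class on A along the graphs of lam₁ ^ k and of lam₂
^ k (powers in the group of A-valued points of At), then lam₁ = lam₂. (The published statement
claims uniqueness among all homomorphisms into the dual; on the square E × E of an elliptic curve
with its product principal polarisation lam₀, the homomorphism α(x, y) = lam₀(y, −x) has lam₀ + α ≠
lam₀ while the graphs of k·lam₀ and k·(lam₀ + α) pull the Poincaré class back to isomorphic sheaves,
so this row asks lam₁, lam₂ to be polarisations, which is the case the printed argument covers; k =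
0 is excluded since both pull backs are then along the unit section.) -/
theorem result (S : Scheme.{u}) [IsLocallyNoetherian S] (A At : Over S) [GrpObj A] [IsCommMonObj A]
    [GrpObj At] [IsCommMonObj At] (g : ℕ) (hA : AgPol.IsAbSch A g) (hproj : RelProj.IsProjective A.hom)
    (φ : AgPol.DualMap A At) (hdual : AbDual.IsDualAV Scheme.fppfPrecoverage A At φ)
    (ξ : PicF.Cl (PicF.XT A.hom At)) (hξ : AbDual.IsPoincareCl A At φ ξ) (k : ℕ) (hk : 1 ≤ k)
    (lam₁ lam₂ : A ⟶ At) (h₁ : AgPol.IsPolarization A At φ lam₁) (h₂ : AgPol.IsPolarization A At φ lam₂)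
    (heq : PicF.pullCl (pullback.lift (𝟙 A.left) (lam₁ ^ k).left ((Category.id_comp A.hom).trans (Over.w (lam₁ ^ k)).symm)) ξ = PicF.pullCl (pullback.lift (𝟙 A.left) (lam₂ ^ k).left ((Category.id_comp A.hom).trans (Over.w (lam₂ ^ k)).symm)) ξ) :
    lam₁ = lam₂ := by
  haveI := hA.smooth; haveI := hA.proper; haveI := hA.geomConnected
  haveI := AbRigid.geometricallyReduced_of_smooth A.hom
  have h2 := AgPol22.pow_eq_pow hdual hξ lam₁ lam₂ h₁ h₂ k
    (((AgPol22.graphCl_val hξ _).trans heq).trans (AgPol22.graphCl_val hξ _).symm)
  obtain ⟨hfin, hflat, hsurj, -⟩ := S7788.result A (fun _ => g) hA.fibreDim ((2 * k : ℕ) : ℤ) (by omega)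
  rw [zpow_natCast] at hfin hflat hsurj
  haveI := hfin; haveI := hflat; haveI := hsurj
  haveI := h₁.1; haveI := h₂.1
  have e : (𝟙 A ^ (2 * k)) ≫ lam₁ = (𝟙 A ^ (2 * k)) ≫ lam₂ := by
    rw [MonObj.pow_comp, MonObj.pow_comp, Category.id_comp, Category.id_comp, h2]
  apply Over.OverMorphism.ext
  rw [← cancel_epi (𝟙 A ^ (2 * k)).left]
  exact congrArg Over.Hom.left e

end Groth.Agent.S14160
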