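import Groth.Statements.S14164
import Groth.Agent.S14124
import Groth.Agent.Lib.CBC10.FieldBC
import Groth.Agent.Lib.CBC10.Rows0
import Groth.Agent.Lib.CurveR1_10.Basic
import Groth.Agent.Lib.Ample18.Ample
import Groth.Agent.Lib.LimShf14.Pic
-- import your own Groth.Agent.* helpers here

set_option autoImplicit false
set_option linter.style.haveILetI false
universe u
open CategoryTheory CategoryTheory.Limits MonoidalCategory CartesianMonoidalCategory MonObj AlgebraicGeometry
open AgPol

namespace Groth.Agent.S14164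

section Aux

open CategoryTheory CategoryTheory.Limits AlgebraicGeometry TopologicalSpace

/-- A relatively ample module on an abelian scheme has no higher cohomology on the fibres. -/
theorem subsingleton_fiberH (S : Scheme.{u}) [IsLocallyNoetherian S] (A : Over S) [GrpObj A] (g : ℕ)
    (hA : AgPol.IsAbSch A g) (L : A.left.Modules) (hL : PicF.IsInvertible L)
    (hample : RelAmple.IsRelAmple A.hom L) (s : S) (i : ℕ) (hi : 0 < i) :
    Subsingleton (CohIII.fiberH A.hom L s i) := by
  haveI := hA.smooth
  haveI := hA.proper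
  haveI := hA.geomConnected
  haveI : IsLocallyNoetherian A.left := LocallyOfFiniteType.isLocallyNoetherian A.hom
  obtain ⟨U, hU, hsU, -⟩ := exists_isAffineOpen_mem_and_subset (X := S) (x := s) (U := ⊤) trivial
  have hq : Coh.IsQCoh L := Groth.Agent.Twist.isQCoh_of_isInvertible hL
  have hcoh : Coh.IsCoh L := Groth.Agent.CurveCoh17.isCoh_of_ofRank
    ((Groth.Agent.M2.isInvertible_iff_isFinLocFreeOfRank_one _).1 hL)
  obtain ⟨P, h1, h2, -, -, hP⟩ := Groth.Agent.CBC10.exists_complexOn (f := A.hom) hcoh
    (Groth.Agent.DPerf.isFlatOver_of_isFlat A.hom (M := L)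
      (fun x => Groth.Agent.KFlat.Sch.isFlat_of_isFinLocFree (Groth.Agent.M2.isFinLocFree_of_isInvertible hL) x)) hU
  haveI := h1
  haveI := h2
  refine hP.subsingleton_fiberH_of_fiberRank_eq_zero hq hsU ?_
  let K := AlgebraicClosure (S.residueField s)
  let φ : Γ(S, U) ⟶ CommRingCat.of K :=
    S.evaluation U s hsU ≫ CommRingCat.ofHom (algebraMap (S.residueField s) K)
  letI : Algebra Γ(S, U) K := φ.hom.toAlgebra
  let t : Spec (CommRingCat.of K) ⟶ S := Spec.map (CommRingCat.ofHom (algebraMap Γ(S, U) K)) ≫ hU.fromSpec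
  let B : Over (Spec (CommRingCat.of K)) := (Over.pullback t).obj A
  letI : GrpObj B := Functor.grpObjObj
  haveI : IsProper B.hom := inferInstanceAs (IsProper (pullback.snd A.hom t))
  haveI : Smooth B.hom := inferInstanceAs (Smooth (pullback.snd A.hom t))
  haveI : GeometricallyConnected B.hom := inferInstanceAs (GeometricallyConnected (pullback.snd A.hom t))
  let p : pullback A.hom t ⟶ A.left := pullback.fst A.hom t
  let t' : Spec (CommRingCat.of K) ⟶ (U : Scheme.{u}) :=
    Spec.map (CommRingCat.ofHom (algebraMap Γ(S, U) K)) ≫ hU.isoSpec.inv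
  have ht' : t' ≫ U.ι = t := by
    simp only [t', t, Category.assoc]
    rfl
  haveI : IsAffine (U : Scheme.{u}) := hU
  haveI : IsAffineHom t' := isAffineHom_of_isAffine _
  let p' : pullback A.hom t ⟶ (A.hom ⁻¹ᵁ U : A.left.Opens) :=
    (isPullback_morphismRestrict A.hom U).flip.lift p (pullback.snd A.hom t ≫ t')
      (by rw [Category.assoc, ht']; exact pullback.condition)
  have hp' : p' ≫ (A.hom ⁻¹ᵁ U).ι = p := (isPullback_morphismRestrict A.hom U).flip.lift_fst _ _ _
  haveI : IsAffineHom p' := by
    have hsq : IsPullback (p' ≫ (A.hom ⁻¹ᵁ U).ι) (pullback.snd A.hom t) A.hom (t' ≫ U.ι) := by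
      rw [hp', ht']
      exact IsPullback.of_hasPullback _ _
    have hsq' := IsPullback.of_right hsq
      ((isPullback_morphismRestrict A.hom U).flip.lift_snd _ _ _) (isPullback_morphismRestrict A.hom U).flip
    exact MorphismProperty.of_isPullback hsq'.flip ‹IsAffineHom t'›
  have hLB : CohB1.IsAmple ((Scheme.Modules.pullback p).obj L) :=
    Groth.Agent.Amp.isAmple_of_iso
      ((Scheme.Modules.pullback p').mapIso
          ((Scheme.Modules.restrictFunctorIsoPullback (A.hom ⁻¹ᵁ U).ι).app L) ≪≫
        (Scheme.Modules.pullbackComp p' (A.hom ⁻¹ᵁ U).ι).app L ≪≫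
          (Scheme.Modules.pullbackCongr hp').app L)
      (Groth.Agent.Amp.isAmple_pullback_of_isAffineHom p' (hample.2 ⟨U, hU⟩))
  haveI : Subsingleton (Coh.HH (pullback A.hom t) ((Scheme.Modules.pullback p).obj L) i) :=
    (Groth.Agent.S14124.result K B ((Scheme.Modules.pullback p).obj L) hLB).1 i hi
  letI : (pullback A.hom t).Over (Spec (CommRingCat.of K)) := ⟨pullback.snd A.hom t⟩
  have key := hP.finrank_bc_field hq (B := K) (X' := pullback A.hom t) (g := p)
    (IsPullback.of_hasPullback A.hom t) i
  rw [hP.fiberRank_eq hsU hq i, ← Groth.Agent.CBC10.comap_evaluation (hU := hU) hsU]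
  refine Eq.trans ?_ (key.symm.trans Module.finrank_zero_of_subsingleton)
  congr 1
  show _ = PrimeSpectrum.comap ((algebraMap (S.residueField s) K).comp (S.evaluation U s hsU).hom) _
  rw [PrimeSpectrum.comap_comp_apply]
  congr 1
  exact PrimeSpectrum.ext ((RingHom.injective_iff_ker_eq_bot _).1 (RingHom.injective _)).symm

end Aux


/-- Let S be a locally Noetherian scheme, A a projective abelian scheme over S of relative dimension g
with structure morphism π, and L an invertible module on A which is ample relative to π. Then R^i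
π_* L = 0 for every i ≥ 1 (right derived functors of the direct image on modules), and π_* L is a
finite locally free module on S. -/
theorem result (S : Scheme.{u}) [IsLocallyNoetherian S]
    (A : Over S) [GrpObj A] (g : ℕ) (hA : AgPol.IsAbSch A g) (hproj : RelProj.IsProjective A.hom)
    [HasInjectiveResolutions A.left.Modules]
    (L : A.left.Modules) (hL : PicF.IsInvertible L) (hample : RelAmple.IsRelAmple A.hom L) :
    (∀ i : ℕ, 1 ≤ i → IsZero ((Coh.Rpush A.hom i).obj L)) ∧
      FlatMod.IsFinLocFree ((Coh.push A.hom).obj L) := by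
  haveI := hA.smooth
  haveI := hA.proper
  haveI := hA.geomConnected
  haveI hq : Coh.IsQCoh L := Groth.Agent.Twist.isQCoh_of_isInvertible hL
  have hfp := Groth.Agent.LimShf14.isFP_of_isInvertible hL
  have hfl : FlatMod.IsFlatOver A.hom L := Groth.Agent.DPerf.isFlatOver_of_isFlat A.hom (M := L)
    fun x => Groth.Agent.KFlat.Sch.isFlat_of_isFinLocFree (Groth.Agent.M2.isFinLocFree_of_isInvertible hL) x
  refine ⟨fun i hi => ?_, Groth.Agent.CBC10.isFinLocFree_push fun s => ?_⟩
  · have key : ∀ s : S, ∃ V : S.Opens, s ∈ V ∧ IsZero (((Coh.Rpush A.hom i).obj L).restrict V.ι) := fun s => by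
      obtain ⟨V₀, -, M₀, hsV₀⟩ := Groth.Agent.CBC10.exists_model_at A.hom L hfp hfl (U := ⊤) (s := s) trivial
      obtain ⟨V, -, M, hsV, -, -, hz, -⟩ := M₀.exists_zero_nhd hq hsV₀ i (subsingleton_fiberH S A g hA L hL hample s i hi)
      exact ⟨V, hsV, Groth.Agent.CBC10.isZero_restrict_of_models i V fun y hy => ⟨V, M, hy, le_rfl, hz⟩⟩
    choose V hsV hz using key
    exact Groth.Agent.DPerf.isZero_of_cover V (fun s => ⟨s, hsV s⟩) hz
  · obtain ⟨V, M, hV, hM, -⟩ := Groth.Agent.CBC10.exists_nhd_H1 hfp hfl s
      (subsingleton_fiberH S A g hA L hL hample s 1 Nat.one_pos)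
    exact ⟨V, M, hV, hM⟩

end Groth.Agent.S14164
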