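import Groth.Statements.S14170
import Groth.Agent.Lib.FinReg12.Main
-- import your own Groth.Agent.* helpers here

set_option autoImplicit false
set_option backward.isDefEq.respectTransparency false
universe u
open CategoryTheory CategoryTheory.Limits AlgebraicGeometry
open Variety

open Groth.Agent
set_option linter.style.haveILetI false

namespace Groth.Agent.S14170

/-- Let k be an algebraically closed field of characteristic zero (the published statement is over the
complex numbers; this row allows any algebraically closed field of characteristic zero), N ≥ 0, and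
i : X → P^N_k a closed immersion with X finite as a set, say with t points (a zero-dimensional
closed subscheme supported at t distinct points). Suppose μ : X → ℕ is such that for every point x
the maximal ideal of the local ring O_{X,x} satisfies m_x^(μ(x)+1) = 0 (so μ(x) bounds the largest
exponent with a nonzero power). Then H^1(P^N_k, I_X(j)) = 0 for every integer j ≥ Σ_x μ(x) + t - 1,
where I_X is the ideal sheaf of i viewed as an O-module; and I_X is (Σ_x μ(x) + t)-regular. -/
theorem result (k : Type u) [Field k] [IsAlgClosed k] [CharZero k]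
    (N : ℕ) (X : Scheme.{u}) (i : X ⟶ CohB1.ProjSpace N k) [IsClosedImmersion i] [Finite X]
    (μ : X → ℕ) (hμ : ∀ x : X, IsLocalRing.maximalIdeal (X.presheaf.stalk x) ^ (μ x + 1) = ⊥) :
    (∀ j : ℤ, (∑ᶠ x : X, (μ x : ℤ)) + (Nat.card X : ℤ) - 1 ≤ j →
      Subsingleton (Coh.HH (CohB1.ProjSpace N k)
        (CohB1.tensorMod (ClSub.idealMod i.ker) (Twist.twistProjSpace N k j)) 1)) ∧
    Curv2.IsMRegular k N (ClSub.idealMod i.ker) ((∑ᶠ x : X, (μ x : ℤ)) + (Nat.card X : ℤ)) := by
  classical
  haveI := Fintype.ofFinite ↥X
  have hsum : (∑ᶠ x : X, (μ x : ℤ)) + (Nat.card X : ℤ) = ∑ y, ((μ y + 1 : ℕ) : ℤ) := by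
    rw [finsum_eq_sum_of_fintype, Nat.card_eq_fintype_card]
    push_cast
    rw [Finset.sum_add_distrib]
    simp
  have hreg := FinReg12.isReg_idealMod i μ hμ
  refine ⟨fun j hj => ?_, by rw [hsum]; exact hreg⟩
  let D := CMReg18.projData k N
  have hI : Coh.IsQCoh (ClSub.idealMod i.ker) := M2.isQCoh_idealMod i.ker
  have h' : D.IsReg (ClSub.idealMod i.ker) (j + 1) :=
    ((CMReg18.isMRegular_iff k hI).1 hreg).of_le k (by omega)
  have h1 := h' 1 le_rfl
  exact CMReg18.van_iso k (D.twIso _ (by simp)) h1

end Groth.Agent.S14170
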