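import Groth.Statements.S14173
import Groth.Agent.Lib.CurveCoh17.LES
import Groth.Agent.Lib.CurveCoh17.Twist
import Groth.Agent.Lib.Twist.ProjSpace

set_option autoImplicit false
universe u
open CategoryTheory CategoryTheory.Limits AlgebraicGeometry
open Variety

namespace Groth.Agent.S14173

/-- Let k be an algebraically closed field of characteristic zero (the published statement is over the
complex numbers; this row allows any algebraically closed field of characteristic zero) and 0 → F₁ →
F₂ → F₃ → 0 a short exact sequence of coherent modules on P^n_k. If F₁ and F₃ are m-regular then so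
is F₂; equivalently reg F₂ ≤ max(reg F₁, reg F₃). -/
theorem result (k : Type u) [Field k] [IsAlgClosed k] [CharZero k]
    (n : ℕ) (S : ShortComplex (CohB1.ProjSpace n k).Modules) (hS : S.ShortExact)
    (h₁ : Coh.IsCoh S.X₁) (h₂ : Coh.IsCoh S.X₂) (h₃ : Coh.IsCoh S.X₃) (m : ℤ)
    (hreg₁ : Curv2.IsMRegular k n S.X₁ m) (hreg₃ : Curv2.IsMRegular k n S.X₃ m) :
    Curv2.IsMRegular k n S.X₂ m := by
  intro i h1 hn
  letI : (CohB1.ProjSpace n k).Over (Spec (CommRingCat.of k)) := ⟨CohB1.ProjSpace.toSpec n k⟩
  let L := _root_.Twist.twistProjSpace n k (m - i)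
  have hL : PicF.IsInvertible L := Groth.Agent.Twist.isInvertible_twistProjSpace n k _
  have hS' := Groth.Agent.CurveCoh17.shortExact_tensorR hS L fun x =>
    Module.Flat.of_linearEquiv (Groth.Agent.CurveCoh17.nonempty_stalk_equiv
      ((Groth.Agent.M2.isInvertible_iff_isFinLocFreeOfRank_one L).1 hL) x).some
  haveI := hreg₁ i h1 hn
  haveI := hreg₃ i h1 hn
  refine subsingleton_of_forall_eq 0 fun x => ?_
  haveI : Subsingleton (Coh.HH (CohB1.ProjSpace n k) (S.map (Groth.Agent.M2.tensorR L)).X₁ i) :=
    hreg₁ i h1 hn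
  haveI : Subsingleton (Coh.HH (CohB1.ProjSpace n k) (S.map (Groth.Agent.M2.tensorR L)).X₃ i) :=
    hreg₃ i h1 hn
  obtain ⟨y, hy⟩ := (Groth.Agent.CurveCoh17.exact_hmap_hmap k hS' i x).1 (Subsingleton.elim _ _)
  rw [Subsingleton.elim y 0, map_zero] at hy
  exact hy.symm

end Groth.Agent.S14173
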