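import Groth.Statements.S14175
-- import your own Groth.Agent.* helpers here

set_option autoImplicit false
universe u v w
open GalCoh

namespace Groth.Agent.S14175

/-- Let G be a finite cyclic group generated by t, let m be a natural number dividing the order of G,
and let ρ be a linear representation of G on a module V over a commutative ring k such that m·V = 0
and every element of G whose m-th power is the identity acts trivially on V. Then evaluating a
crossed homomorphism at t induces a bijection from the first cohomology of G with values in V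
(crossed homomorphisms f, i.e. f(gh) = ρ(g)f(h) + f(g), modulo the principal ones g ↦ ρ(g)x − x)
onto the coinvariants V_G (the quotient of V by the span of all ρ(g)v − v): the class of f(t) in V_G
vanishes exactly when f is principal, and every class of V_G is the class of f(t) for some crossed
homomorphism f. The bijection depends on the choice of the generator t. -/
theorem result
    {k : Type u} {G : Type v} {V : Type w} [CommRing k] [Group G] [Finite G]
    [AddCommGroup V] [Module k V] (ρ : Representation k G V)
    (t : G) (ht : ∀ g : G, g ∈ Subgroup.zpowers t)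
    (m : ℕ) (hm : m ∣ Nat.card G) (htors : ∀ v : V, m • v = 0)
    (htriv : ∀ g : G, g ^ m = 1 → ∀ v : V, ρ g v = v) :
    (∀ f : G → V, (∀ g h : G, f (g * h) = ρ g (f h) + f g) →
        (Representation.Coinvariants.mk ρ (f t) = 0 ↔ ∃ x : V, ∀ g : G, f g = ρ g x - x)) ∧
    (∀ v : V, ∃ f : G → V, (∀ g h : G, f (g * h) = ρ g (f h) + f g) ∧
        Representation.Coinvariants.mk ρ (f t) = Representation.Coinvariants.mk ρ v) := by
  classical
  set n := Nat.card G with hn
  have hn0 : 0 < n := Nat.card_pos
  let F : V → ℕ → V := fun v j => ∑ i ∈ Finset.range j, ρ (t ^ i) v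
  have hadd : ∀ v a b, F v (a + b) = ρ (t ^ a) (F v b) + F v a := by
    intro v a b
    simp only [F, Finset.sum_range_add, map_sum]
    rw [add_comm]
    congr 1
    refine Finset.sum_congr rfl fun i _ => ?_
    rw [pow_add, map_mul, Module.End.mul_apply]
  have hgen : ∀ g : G, ∃ j : ℕ, t ^ j = g := fun g => by
    obtain ⟨j, hj⟩ := (isOfFinOrder_of_finite t).mem_zpowers_iff_mem_range_orderOf.1 (ht g) |>
      Finset.mem_image.1
    exact ⟨j, hj.2⟩
  have hord : orderOf t = n := by
    rw [← Nat.card_zpowers, Subgroup.eq_top_iff' _ |>.2 ht, Subgroup.card_top]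
  have hFn : ∀ v, F v n = 0 := by
    intro v
    obtain ⟨d, hd⟩ := hm
    have hper : ∀ a, ρ (t ^ (a + d)) v = ρ (t ^ a) v := by
      intro a
      rw [pow_add, map_mul, Module.End.mul_apply, htriv (t ^ d)]
      rw [← pow_mul, mul_comm, ← hd, ← hord, pow_orderOf_eq_one]
    have : ∀ c, F v (d * c) = c • F v d := by
      intro c
      induction c with
      | zero => simp [F]
      | succ c ih =>
        rw [Nat.mul_succ, add_comm, hadd, ih, succ_nsmul, htriv (t ^ d)]
        rw [← pow_mul, mul_comm, ← hd, ← hord, pow_orderOf_eq_one]
    have hd' : n = d * m := by rw [hd, mul_comm]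
    rw [hd', this, htors]
  have hFmod : ∀ v a, F v a = F v (a % n) := by
    intro v a
    have : ∀ c, F v (n * c) = 0 := by
      intro c
      induction c with
      | zero => simp [F]
      | succ c ih => rw [Nat.mul_succ, add_comm, hadd, ih, hFn, map_zero, add_zero]
    conv_lhs => rw [← Nat.mod_add_div a n, hadd, this, map_zero, zero_add]
  have heq : ∀ v a b, t ^ a = t ^ b → F v a = F v b := by
    intro v a b h
    rw [hFmod v a, hFmod v b]
    rw [pow_eq_pow_iff_modEq, hord] at h
    rw [show a % n = b % n from h]
  choose J hJ using hgen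
  let c : V → G → V := fun v g => F v (J g)
  have hc : ∀ v g h, c v (g * h) = ρ g (c v h) + c v g := by
    intro v g h
    show F v _ = ρ g (F v _) + F v _
    rw [heq v (J (g * h)) (J g + J h) (by rw [pow_add, hJ, hJ, hJ]), hadd, hJ]
  have hct : ∀ v, c v t = v := by
    intro v
    show F v _ = v
    rw [heq v (J t) 1 (by rw [hJ, pow_one])]
    simp [F]
  refine ⟨fun f hf => ⟨fun h0 => ?_, ?_⟩, fun v => ⟨c v, hc v, by rw [hct]⟩⟩
  · have hmem : f t ∈ LinearMap.range (ρ t - 1) := by
      have h1 : f t ∈ Representation.Coinvariants.ker ρ :=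
        (Submodule.Quotient.mk_eq_zero _).1 h0
      refine (Submodule.span_le.2 ?_) h1
      rintro _ ⟨⟨g, x⟩, rfl⟩
      refine ⟨F x (J g), ?_⟩
      have h2 := hadd x 1 (J g)
      rw [add_comm, hadd x (J g) 1, hJ, pow_one] at h2
      simp only [F, Finset.sum_range_one, pow_zero, map_one, Module.End.one_apply] at h2
      simp only [LinearMap.sub_apply, Module.End.one_apply, F]
      rw [sub_eq_sub_iff_add_eq_add]
      exact h2.symm
    obtain ⟨x, hx⟩ := hmem
    refine ⟨x, fun g => ?_⟩
    rw [← hJ g]
    have hf1 : f 1 = 0 := by simpa using hf 1 1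
    induction J g with
    | zero => simp [hf1]
    | succ j ih =>
      rw [pow_succ, hf, ih, ← hx, map_mul]
      simp only [LinearMap.sub_apply, Module.End.one_apply, map_sub, Module.End.mul_apply]
      abel
  · rintro ⟨x, hx⟩
    rw [hx]
    exact (Submodule.Quotient.mk_eq_zero _).2 (Representation.Coinvariants.sub_mem_ker t x)

end Groth.Agent.S14175
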