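import Groth.Statements.S14176
import Mathlib.GroupTheory.FiniteAbelian.Duality
import Mathlib.GroupTheory.Schreier
import Mathlib.Topology.Algebra.Group.Quotient

set_option autoImplicit false
universe u
open Pi1

namespace Groth.Agent.S14176

open W4c1etcurveeff2

variable {G : Type u} [Group G] [TopologicalSpace G] [IsTopologicalGroup G]

/-- the group of values -/
local notation "μ" n => Multiplicative (ZMod n)

lemma pow_mem (n : ℕ) (g : G) : g ^ n ∈ powCommClosure G n :=
  Subgroup.le_topologicalClosure _ (Subgroup.mem_sup_left (Subgroup.subset_closure ⟨g, rfl⟩))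

lemma commutator_le_T (n : ℕ) : commutator G ≤ powCommClosure G n :=
  le_sup_right.trans (Subgroup.le_topologicalClosure _)

lemma T_normal (n : ℕ) : (powCommClosure G n).Normal :=
  ⟨fun x hx g => by
    have h1 : g * x * g⁻¹ * x⁻¹ ∈ powCommClosure G n :=
      commutator_le_T n (Subgroup.commutator_mem_commutator (Subgroup.mem_top g) (Subgroup.mem_top x))
    simpa using (powCommClosure G n).mul_mem h1 hx⟩

lemma T_le (n : ℕ) (H : Subgroup G) (hH : IsClosed (H : Set G)) (hp : ∀ g, g ^ n ∈ H)
    (hc : ∀ a b : G, a * b * a⁻¹ * b⁻¹ ∈ H) : powCommClosure G n ≤ H := by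
  refine Subgroup.topologicalClosure_minimal _ (sup_le ((Subgroup.closure_le _).2 ?_) ?_) hH
  · rintro _ ⟨g, rfl⟩
    exact hp g
  · rw [commutator_def, Subgroup.commutator_le]
    exact fun a _ b _ => hc a b

lemma enough (n : ℕ) [NeZero n] : HasEnoughRootsOfUnity (μ n) n where
  prim := ⟨Multiplicative.ofAdd 1, by
    have : orderOf (Multiplicative.ofAdd (1 : ZMod n)) = n := by
      rw [orderOf_ofAdd_eq_addOrderOf, ZMod.addOrderOf_one]
    exact IsPrimitiveRoot.iff_orderOf.2 this⟩
  cyc := by
    haveI : IsCyclic (μ n)ˣ :=
      isCyclic_of_surjective (toUnits (G := μ n)).toMonoidHom (toUnits (G := μ n)).surjective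
    infer_instance

lemma finite_quotient (s : Finset G) (hs : Dense ((Subgroup.closure (s : Set G) : Subgroup G) : Set G))
    (n : ℕ) [NeZero n] [(powCommClosure G n).Normal] :
    Finite (G ⧸ powCommClosure G n) ∧ IsOpen (powCommClosure G n : Set G) := by
  classical
  set T := powCommClosure G n
  letI : CommGroup (G ⧸ T) :=
    { mul_comm := by
        intro a b
        induction a using QuotientGroup.induction_on with | _ a =>
        induction b using QuotientGroup.induction_on with | _ b =>
        rw [← QuotientGroup.mk_mul, ← QuotientGroup.mk_mul, QuotientGroup.eq]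
        refine commutator_le_T n ?_
        have e : (a * b)⁻¹ * (b * a) = b⁻¹ * a⁻¹ * b⁻¹⁻¹ * a⁻¹⁻¹ := by simp [mul_assoc]
        rw [e]
        exact Subgroup.commutator_mem_commutator (Subgroup.mem_top _) (Subgroup.mem_top _) }
  have hT : IsClosed (T : Set G) := Subgroup.isClosed_topologicalClosure _
  have : T1Space (G ⧸ T) := by
    haveI : IsClosed (T : Set G) := hT
    infer_instance
  let π := QuotientGroup.mk' T
  let K := Subgroup.closure ((s.image π : Finset (G ⧸ T)) : Set (G ⧸ T))
  have hKfin : (K : Set (G ⧸ T)).Finite := by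
    haveI : Group.FG K := (Group.fg_iff_subgroup_fg K).2 ⟨s.image π, rfl⟩
    have htors : Monoid.IsTorsion K := fun x => by
      rw [← Submonoid.isOfFinOrder_coe, isOfFinOrder_iff_pow_eq_one]
      refine ⟨n, NeZero.pos n, ?_⟩
      obtain ⟨g, hg⟩ := QuotientGroup.mk_surjective (x : G ⧸ T)
      rw [← hg, ← QuotientGroup.mk_pow, QuotientGroup.eq_one_iff]
      exact pow_mem n g
    haveI : Finite K := CommGroup.finite_of_fg_torsion K htors
    exact Set.toFinite _
  have hKdense : Dense (K : Set (G ⧸ T)) := by
    refine Dense.mono ?_ ((QuotientGroup.mk_surjective (s := T)).denseRange.dense_image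
      QuotientGroup.continuous_mk hs)
    rintro _ ⟨x, hx, rfl⟩
    have h1 : π x ∈ (Subgroup.closure (s : Set G)).map π := ⟨x, hx, rfl⟩
    rw [MonoidHom.map_closure] at h1
    simp only [K, Finset.coe_image, SetLike.mem_coe]
    exact h1
  have huniv : (K : Set (G ⧸ T)) = Set.univ := by
    rw [← hKdense.closure_eq, hKfin.isClosed.closure_eq]
  haveI hfin : Finite (G ⧸ T) := Set.finite_univ_iff.1 (huniv ▸ hKfin)
  refine ⟨hfin, ?_⟩
  have h1 : IsOpen ({(1 : G ⧸ T)} : Set (G ⧸ T)) := isOpen_discrete _
  have h2 := h1.preimage (QuotientGroup.continuous_mk (N := T))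
  convert h2 using 1
  ext x
  simp [QuotientGroup.eq_one_iff]


open W4c1etcurveeff2 in
/-- Let G be a topological group in which some finite subset generates a dense subgroup, let n ≥ 1, and
let S be the closure of the subgroup generated by all n-th powers and all commutators. Write D for
the group of continuous homomorphisms from G to the discrete cyclic group ℤ/n, that is,
homomorphisms with open kernel (the first cohomology of G with coefficients in the trivial module
ℤ/n), and D^∨ for its ℤ/n-dual, the group of homomorphisms D → ℤ/n. Then: S is carried onto itself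
by every group automorphism of G that is a homeomorphism; an element g of G lies in S exactly when
every element of D kills g, and every element of D^∨ is evaluation at some element of G, so that
evaluation identifies G/S with D^∨; and S is the only closed normal subgroup H of G with G/H
isomorphic to D^∨. (The published statement is for a topologically finitely generated group, calls S
characteristic and does not restrict the competing subgroups H; this row asks the automorphisms to
be homeomorphisms and H to be closed, which is what the argument uses: for the integers with the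
p-adic topology times a cyclic group of prime order q ≠ p, the subgroup qℤ × ℤ/q is normal, not
closed, and has quotient isomorphic to D^∨ ≅ ℤ/q, while S = ℤ × 0.) -/
theorem result
    {G : Type u} [Group G] [TopologicalSpace G] [IsTopologicalGroup G]
    (s : Finset G) (hs : Dense ((Subgroup.closure (s : Set G) : Subgroup G) : Set G))
    (n : ℕ) [NeZero n] (S : Subgroup G) (hS : S = powCommClosure G n) :
    (∀ φ : G ≃* G, Continuous φ → Continuous φ.symm → S.map φ.toMonoidHom = S) ∧
    (∀ g : G, g ∈ S ↔
        ∀ χ : G →* Multiplicative (ZMod n), IsOpen ((χ.ker : Subgroup G) : Set G) → χ g = 1) ∧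
    (∀ F : ContChar G n →* Multiplicative (ZMod n), ∃ g : G,
        ∀ χ : ContChar G n, F χ = (χ.1 : G →* Multiplicative (ZMod n)) g) ∧
    (∀ (H : Subgroup G) [H.Normal], IsClosed (H : Set G) →
        Nonempty (G ⧸ H ≃* (ContChar G n →* Multiplicative (ZMod n))) → H = S) := by
  classical
  subst hS
  haveI := T_normal (G := G) n
  obtain ⟨hfin, hopen⟩ := finite_quotient s hs n
  set T := powCommClosure G n with hTdef
  letI : CommGroup (G ⧸ T) :=
    { mul_comm := by
        intro a b
        induction a using QuotientGroup.induction_on with | _ a =>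
        induction b using QuotientGroup.induction_on with | _ b =>
        rw [← QuotientGroup.mk_mul, ← QuotientGroup.mk_mul, QuotientGroup.eq]
        refine commutator_le_T n ?_
        have e : (a * b)⁻¹ * (b * a) = b⁻¹ * a⁻¹ * b⁻¹⁻¹ * a⁻¹⁻¹ := by simp [mul_assoc]
        rw [e]
        exact Subgroup.commutator_mem_commutator (Subgroup.mem_top _) (Subgroup.mem_top _) }
  have hexp : Monoid.exponent (G ⧸ T) ∣ n := by
    refine Monoid.exponent_dvd_of_forall_pow_eq_one fun x => ?_
    obtain ⟨g, rfl⟩ := QuotientGroup.mk_surjective x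
    rw [← QuotientGroup.mk_pow, QuotientGroup.eq_one_iff]
    exact pow_mem n g
  haveI := enough n
  haveI : HasEnoughRootsOfUnity (μ n) (Monoid.exponent (G ⧸ T)) :=
    HasEnoughRootsOfUnity.of_dvd (μ n) hexp
  let u : (μ n) ≃* (μ n)ˣ := toUnits
  have hker : ∀ χ : ContChar G n, T ≤ (χ.1 : G →* μ n).ker := by
    intro χ
    refine T_le n _ (Subgroup.isClosed_of_isOpen _ χ.2) (fun g => ?_) (fun a b => ?_)
    · rw [MonoidHom.mem_ker, map_pow]
      apply Multiplicative.toAdd.injective
      simp [toAdd_pow, ZModModule.char_nsmul_eq_zero n]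
    · rw [MonoidHom.mem_ker]
      simp only [map_mul, map_inv]
      rw [mul_comm ((χ.1 : G →* μ n) a)]
      simp
  have hpush : ∀ φ : G ⧸ T →* μ n, φ.comp (QuotientGroup.mk' T) ∈ ContChar G n := by
    intro φ
    refine Subgroup.isOpen_mono (H₁ := T) (fun x hx => ?_) hopen
    simp [MonoidHom.mem_ker, (QuotientGroup.eq_one_iff x).2 hx]
  -- characters of the quotient
  let e : (G ⧸ T →* (μ n)ˣ) ≃* ContChar G n :=
    { toFun := fun φ => ⟨(u.symm.toMonoidHom.comp φ).comp (QuotientGroup.mk' T), hpush _⟩
      invFun := fun χ => u.toMonoidHom.comp (QuotientGroup.lift T χ.1 (hker χ))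
      left_inv := fun φ => by
        apply QuotientGroup.monoidHom_ext
        ext g
        simp
      right_inv := fun χ => by
        apply Subtype.ext
        ext g
        simp
      map_mul' := fun φ ψ => by
        apply Subtype.ext
        ext g
        simp }
  have he : ∀ φ g, ((e φ).1 : G →* μ n) g = u.symm (φ (g : G ⧸ T)) := fun _ _ => rfl
  refine ⟨?_, ?_, ?_, ?_⟩
  · have key : ∀ φ : G ≃* G, Continuous φ → T.map φ.toMonoidHom ≤ T := by
      intro φ hφ
      rw [Subgroup.map_le_iff_le_comap]
      refine T_le n _ ((Subgroup.isClosed_topologicalClosure _).preimage hφ) (fun g => ?_)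
        (fun a b => ?_)
      · rw [Subgroup.mem_comap, map_pow]
        exact pow_mem n _
      · rw [Subgroup.mem_comap]
        simp only [map_mul, map_inv]
        exact commutator_le_T n
          (Subgroup.commutator_mem_commutator (Subgroup.mem_top _) (Subgroup.mem_top _))
    intro φ h1 h2
    refine le_antisymm (key φ h1) fun x hx => ⟨φ.symm x, key φ.symm h2 ⟨x, hx, rfl⟩, ?_⟩
    exact φ.apply_symm_apply x
  · intro g
    refine ⟨fun hg χ hχ => MonoidHom.mem_ker.1 (hker ⟨χ, hχ⟩ hg), fun h => ?_⟩
    rw [← QuotientGroup.eq_one_iff, ← CommGroup.forall_apply_eq_apply_iff (G ⧸ T) (M := μ n)]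
    intro φ
    rw [map_one]
    apply u.symm.injective
    rw [map_one, ← he]
    exact h _ (e φ).2
  · intro F
    let η : (G ⧸ T →* (μ n)ˣ) →* (μ n)ˣ := u.toMonoidHom.comp (F.comp e.toMonoidHom)
    obtain ⟨g, hg⟩ := QuotientGroup.mk_surjective (CommGroup.monoidHomMonoidHomEquiv (G ⧸ T) (μ n) η)
    refine ⟨g, fun χ => ?_⟩
    obtain ⟨φ, rfl⟩ := e.surjective χ
    rw [he, hg, CommGroup.apply_monoidHomMonoidHomEquiv]
    simp [η]
  · intro H hN hH ⟨iso⟩
    let D : (ContChar G n →* μ n) ≃* G ⧸ T :=
      ((MulEquiv.monoidHomCongrLeft e.symm).trans (MulEquiv.monoidHomCongrRight u)).trans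
        (CommGroup.monoidHomMonoidHomEquiv (G ⧸ T) (μ n))
    have j : G ⧸ H ≃* G ⧸ T := iso.trans D
    have hle : T ≤ H := by
      refine T_le n H hH (fun g => ?_) (fun a b => ?_)
      · rw [← QuotientGroup.eq_one_iff]
        apply j.injective
        rw [QuotientGroup.mk_pow, map_pow, map_one]
        obtain ⟨x, hx⟩ := QuotientGroup.mk_surjective (j (g : G ⧸ H))
        rw [← hx, ← QuotientGroup.mk_pow, QuotientGroup.eq_one_iff]
        exact pow_mem n x
      · rw [← QuotientGroup.eq_one_iff]
        apply j.injective
        simp only [QuotientGroup.mk_mul, QuotientGroup.mk_inv, map_mul, map_inv, map_one]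
        rw [mul_comm (j _)]
        simp
    have hidx : H.index = T.index := Nat.card_congr j.toEquiv
    have h0 : T.index ≠ 0 := Nat.card_pos.ne'
    have h1 : T.relIndex H * H.index = T.index := Subgroup.relIndex_mul_index hle
    rw [hidx] at h1
    have h2 : T.relIndex H = 1 := Nat.eq_of_mul_eq_mul_right (Nat.pos_of_ne_zero h0) (by rw [h1, one_mul])
    exact le_antisymm (Subgroup.relIndex_eq_one.1 h2) hle

end Groth.Agent.S14176
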