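import Groth.Statements.S14177
import Mathlib.RingTheory.DedekindDomain.Different
import Mathlib.RingTheory.Smooth.Fiber
import Mathlib.RingTheory.Unramified.Locus
import Mathlib.FieldTheory.Separable
import Mathlib.FieldTheory.KummerExtension
import Mathlib.RingTheory.Flat.TorsionFree

set_option autoImplicit false
universe u v w
open scoped nonZeroDivisors
open EtAlg

namespace Groth.Agent.S14177

/-- Let A be a Dedekind domain with fraction field K, let n be a natural number invertible in A, let f
be a nonzero element of K whose principal fractional ideal is the n-th power of a fractional ideal I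
(the divisor of f is n times a divisor), and let L = K(α) be a field extension of K generated by a
single element α with α^n = f. Then the integral closure of A in L is finite and étale over A. (The
published statement is for the normalisation of an integral smooth curve over a perfect field in
such an extension of its function field; this row states the same for any Dedekind domain, the case
the local argument covers.) -/
theorem result
    {A : Type u} {K : Type v} {L : Type w} [CommRing A] [IsDedekindDomain A]
    [Field K] [Algebra A K] [IsFractionRing A K]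
    [Field L] [Algebra K L] [Algebra A L] [IsScalarTower A K L]
    (n : ℕ) (hn : IsUnit (n : A)) (f : K) (hf : f ≠ 0)
    (I : FractionalIdeal A⁰ K) (hI : FractionalIdeal.spanSingleton A⁰ f = I ^ n)
    (α : L) (hα : α ^ n = algebraMap K L f) (hgen : IntermediateField.adjoin K {α} = ⊤) :
    Algebra.Etale A (integralClosure A L) ∧ Module.Finite A (integralClosure A L) := by
  classical
  have hnA : n ≠ 0 := by rintro rfl; simp at hn
  have hnK : (n : K) ≠ 0 := by
    rw [← map_natCast (algebraMap A K)]
    exact (hn.map (algebraMap A K)).ne_zero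
  have hroot : Polynomial.aeval α (Polynomial.X ^ n - Polynomial.C f) = 0 := by simp [hα]
  have hint : IsIntegral K α := ⟨_, Polynomial.monic_X_pow_sub_C f hnA, hroot⟩
  haveI hfd : FiniteDimensional K L := by
    have := IntermediateField.adjoin.finiteDimensional hint
    rw [hgen] at this
    exact LinearEquiv.finiteDimensional (IntermediateField.topEquiv (F := K) (E := L)).toLinearEquiv
  haveI hsep : Algebra.IsSeparable K L := by
    have hs : IsSeparable K α := (Polynomial.separable_X_pow_sub_C f hnK hf).of_dvd (minpoly.dvd K α hroot)
    have h2 := (IntermediateField.isSeparable_adjoin_simple_iff_isSeparable K L).2 hs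
    rw [hgen] at h2
    exact AlgEquiv.Algebra.isSeparable (IntermediateField.topEquiv (F := K) (E := L))
  let B := integralClosure A L
  haveI : IsDedekindDomain B := IsIntegralClosure.isDedekindDomain A K L B
  haveI : Module.Finite A B := IsIntegralClosure.finite A K L B
  haveI : IsFractionRing B L := IsIntegralClosure.isFractionRing_of_finite_extension A K L B
  have hinjAL : Function.Injective (algebraMap A L) := by
    rw [IsScalarTower.algebraMap_eq A K L]
    exact (algebraMap K L).injective.comp (IsFractionRing.injective A K)
  haveI : FaithfulSMul A B := (faithfulSMul_iff_algebraMap_injective A B).2 fun x y h => hinjAL (congrArg Subtype.val h)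
  haveI : Module.IsTorsionFree A B := inferInstance
  letI : Algebra (FractionRing A) (FractionRing B) := FractionRing.liftAlgebra A (FractionRing B)
  haveI : Algebra.IsSeparable (FractionRing A) (FractionRing B) := by
    refine Algebra.IsSeparable.of_equiv_equiv (FractionRing.algEquiv A K).symm.toRingEquiv (FractionRing.algEquiv B L).symm.toRingEquiv ?_
    refine IsLocalization.ringHom_ext A⁰ (RingHom.ext fun a => ?_)
    simp only [RingHom.comp_apply, RingHom.coe_coe]
    rw [show (FractionRing.algEquiv A K).symm.toRingEquiv (algebraMap A K a) = algebraMap A (FractionRing A) a from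
      (FractionRing.algEquiv A K).symm.commutes a]
    rw [← IsScalarTower.algebraMap_apply A (FractionRing A) (FractionRing B),
      ← IsScalarTower.algebraMap_apply A K L, IsScalarTower.algebraMap_apply A B L,
      IsScalarTower.algebraMap_apply A B (FractionRing B)]
    exact ((FractionRing.algEquiv B L).symm.commutes _).symm
  have hI0 : I ≠ 0 := by
    rintro rfl
    rw [zero_pow hnA, FractionalIdeal.spanSingleton_eq_zero_iff] at hI
    exact hf hI
  have hα0 : α ≠ 0 := fun h => hf ((algebraMap K L).injective (by rw [← hα, h, zero_pow hnA, map_zero]))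
  have key : ∀ (P : Ideal B) [P.IsPrime], Algebra.IsUnramifiedAt A P := by
    intro P hP
    obtain ⟨γ, hγ, hJ⟩ : ∃ γ ∈ I⁻¹, ∃ i ∈ I, ∃ a : A, algebraMap A K a = γ * i ∧ a ∉ P.comap (algebraMap A B) := by
      by_contra hcon
      simp only [not_exists, not_and, not_not] at hcon
      have hle : I⁻¹ * I ≤ ((P.comap (algebraMap A B) : Ideal A) : FractionalIdeal A⁰ K) := by
        rw [FractionalIdeal.mul_le]
        intro γ hγ i hi
        have h1 : γ * i ∈ (1 : FractionalIdeal A⁰ K) := by
          rw [← inv_mul_cancel₀ hI0]
          exact FractionalIdeal.mul_mem_mul hγ hi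
        obtain ⟨a, ha⟩ := (FractionalIdeal.mem_one_iff A⁰).1 h1
        exact (FractionalIdeal.mem_coeIdeal A⁰).2 ⟨a, hcon γ hγ i hi a ha, ha⟩
      rw [inv_mul_cancel₀ hI0, ← FractionalIdeal.coeIdeal_top, FractionalIdeal.coeIdeal_le_coeIdeal] at hle
      exact (Ideal.IsPrime.ne_top (hP.comap (algebraMap A B))) (top_le_iff.1 hle)
    obtain ⟨i, hi, a, hai, haP⟩ := hJ
    have hJle : FractionalIdeal.spanSingleton A⁰ γ * I ≤ 1 := by
      refine le_trans (mul_le_mul_left ((FractionalIdeal.spanSingleton_le_iff_mem).2 hγ) I) ?_
      rw [inv_mul_cancel₀ hI0]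
    obtain ⟨J, hJ⟩ := FractionalIdeal.le_one_iff_exists_coeIdeal.1 hJle
    have haJ : a ∈ J := by
      have : γ * i ∈ (J : FractionalIdeal A⁰ K) := hJ.symm ▸ FractionalIdeal.mul_mem_mul (FractionalIdeal.mem_spanSingleton_self _ γ) hi
      obtain ⟨b, hb, hb'⟩ := (FractionalIdeal.mem_coeIdeal A⁰).1 this
      exact IsFractionRing.injective A K (hai.trans hb'.symm) ▸ hb
    have hpow : ((J ^ n : Ideal A) : FractionalIdeal A⁰ K) = FractionalIdeal.spanSingleton A⁰ (γ ^ n * f) := by
      rw [FractionalIdeal.coeIdeal_pow, hJ, mul_pow, FractionalIdeal.spanSingleton_pow, ← hI,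
        FractionalIdeal.spanSingleton_mul_spanSingleton]
    obtain ⟨u, huJ, hu⟩ : ∃ u ∈ J ^ n, algebraMap A K u = γ ^ n * f := by
      have h := FractionalIdeal.mem_spanSingleton_self A⁰ (γ ^ n * f)
      rw [← hpow] at h
      obtain ⟨u, hu1, hu2⟩ := (FractionalIdeal.mem_coeIdeal A⁰).1 h
      exact ⟨u, hu1, hu2⟩
    have huP : algebraMap A B u ∉ P := by
      intro huP
      have hle : J ^ n ≤ P.comap (algebraMap A B) := by
        intro x hx
        have h := FractionalIdeal.mem_coeIdeal_of_mem A⁰ (P := K) hx
        rw [hpow] at h
        obtain ⟨c, hc⟩ := (FractionalIdeal.mem_spanSingleton A⁰).1 h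
        have : x = c * u := IsFractionRing.injective A K (by
          rw [map_mul, hu, ← hc, Algebra.smul_def])
        rw [this]
        exact Ideal.mul_mem_left _ c huP
      exact haP ((hP.comap (algebraMap A B)).le_of_pow_le hle haJ)
    have hβpow : (algebraMap K L γ * α) ^ n = algebraMap A L u := by
      rw [mul_pow, hα, ← map_pow, ← map_mul, ← hu, ← IsScalarTower.algebraMap_apply]
    have hβint : IsIntegral A (algebraMap K L γ * α) := by
      refine IsIntegral.of_pow (Nat.pos_of_ne_zero hnA) ?_
      rw [hβpow]
      exact isIntegral_algebraMap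
    let β : B := ⟨algebraMap K L γ * α, hβint⟩
    have hγ0 : γ ≠ 0 := by
      rintro rfl
      rw [zero_mul] at hai
      exact haP ((IsFractionRing.injective A K (hai.trans (map_zero _).symm)) ▸ zero_mem _)
    have hx : Algebra.adjoin K {algebraMap B L β} = ⊤ := by
      have hαmem : α ∈ Algebra.adjoin K {algebraMap B L β} := by
        have h1 : γ⁻¹ • algebraMap B L β ∈ Algebra.adjoin K {algebraMap B L β} :=
          Subalgebra.smul_mem _ (Algebra.self_mem_adjoin_singleton K _) _
        have e : γ⁻¹ • algebraMap B L β = α := by
          show γ⁻¹ • (algebraMap K L γ * α) = α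
          rw [Algebra.smul_def, ← mul_assoc, ← map_mul, inv_mul_cancel₀ hγ0, map_one, one_mul]
        rwa [e] at h1
      rw [eq_top_iff, ← IntermediateField.top_toSubalgebra, ← hgen,
        IntermediateField.adjoin_simple_toSubalgebra_of_isAlgebraic hint.isAlgebraic]
      exact Algebra.adjoin_le (Set.singleton_subset_iff.2 hαmem)
    have hmem := aeval_derivative_mem_differentIdeal A K L β hx
    rw [← not_dvd_differentIdeal_iff]
    intro hdvd
    have hqP := Ideal.dvd_iff_le.1 hdvd hmem
    have hβu : β ^ n = algebraMap A B u := Subtype.ext hβpow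
    obtain ⟨r, hr⟩ := minpoly.isIntegrallyClosed_dvd (IsIntegralClosure.isIntegral A L β)
      (p := Polynomial.X ^ n - Polynomial.C u) (by simp [hβu])
    have hder := congrArg (fun q => Polynomial.aeval β (Polynomial.derivative q)) hr
    simp only [Polynomial.derivative_sub, Polynomial.derivative_X_pow, Polynomial.derivative_C, sub_zero,
      Polynomial.derivative_mul, map_add, map_mul, minpoly.aeval, zero_mul, add_zero, map_natCast,
      Polynomial.aeval_X, map_pow, Polynomial.C_eq_natCast, Polynomial.aeval_natCast] at hder
    have h1 : (n : B) * β ^ (n - 1) ∈ P := hder ▸ P.mul_mem_right _ hqP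
    have h2 : (n : B) * β ^ n ∈ P := by
      obtain ⟨k, rfl⟩ := Nat.exists_eq_succ_of_ne_zero hnA
      rw [pow_succ, ← mul_assoc]
      exact P.mul_mem_right _ h1
    rcases hP.mem_or_mem h2 with h3 | h3
    · exact hP.ne_top (Ideal.eq_top_of_isUnit_mem _ h3 (by rw [← map_natCast (algebraMap A B)]; exact hn.map _))
    · exact huP (hβu ▸ h3)
  haveI : Algebra.FinitePresentation A B := Algebra.FinitePresentation.of_finiteType.1 inferInstance
  haveI : Algebra.FormallyUnramified A B := Algebra.formallyUnramified_iff_forall.2 fun q => key q.asIdeal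
  exact ⟨Algebra.Etale.of_formallyUnramified_of_flat, inferInstance⟩

end Groth.Agent.S14177
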