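import Groth.Statements.S14178
import Mathlib.FieldTheory.KummerExtension
import Mathlib.RingTheory.DedekindDomain.Factorization
import Mathlib.RingTheory.ClassGroup.Basic

set_option autoImplicit false
universe u v w
open scoped nonZeroDivisors
open EtAlg

namespace Groth.Agent.S14178

/-- Let A be a Dedekind domain with fraction field K, let n be a natural number invertible in A such
that K contains a primitive n-th root of unity, let f be a nonzero element of K and I an invertible
fractional ideal of A with (f) = I^n whose class in the ideal class group of A has order exactly n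
(the divisor of f is n times a divisor whose class has order n), and let L = K(α) be a field
extension of K generated by a single element α with α^n = f. Then L is Galois over K of degree n
with cyclic Galois group. (The published statement is for an integral smooth curve over a perfect
field containing a primitive n-th root of unity, with the Picard group of the curve in place of the
class group; this row states it for any Dedekind domain.) -/
theorem result
    {A : Type u} {K : Type v} {L : Type w} [CommRing A] [IsDedekindDomain A]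
    [Field K] [Algebra A K] [IsFractionRing A K]
    [Field L] [Algebra K L]
    (n : ℕ) (hn : IsUnit (n : A)) (ζ : K) (hζ : IsPrimitiveRoot ζ n) (f : K) (hf : f ≠ 0)
    (I : (FractionalIdeal A⁰ K)ˣ) (hI : FractionalIdeal.spanSingleton A⁰ f = (I : FractionalIdeal A⁰ K) ^ n)
    (hord : orderOf (ClassGroup.mk K I) = n)
    (α : L) (hα : α ^ n = algebraMap K L f) (hgen : IntermediateField.adjoin K {α} = ⊤) :
    IsGalois K L ∧ IsCyclic (L ≃ₐ[K] L) ∧ Module.finrank K L = n := by
  classical
  have hnA : n ≠ 0 := by rintro rfl; simp at hn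
  haveI : NeZero n := ⟨hnA⟩
  have hnK : (n : K) ≠ 0 := by
    rw [← map_natCast (algebraMap A K)]
    exact (hn.map (algebraMap A K)).ne_zero
  have hroot : Polynomial.aeval α (Polynomial.X ^ n - Polynomial.C f) = 0 := by simp [hα]
  have hint : IsIntegral K α := ⟨_, Polynomial.monic_X_pow_sub_C f hnA, hroot⟩
  haveI hfd : FiniteDimensional K L := by
    have := IntermediateField.adjoin.finiteDimensional hint
    rw [hgen] at this
    exact LinearEquiv.finiteDimensional (IntermediateField.topEquiv (F := K) (E := L)).toLinearEquiv
  have hsplit : Polynomial.IsSplittingField K L (Polynomial.X ^ n - Polynomial.C f) := by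
    constructor
    · rw [Polynomial.map_sub, Polynomial.map_pow, Polynomial.map_C, Polynomial.map_X]
      exact X_pow_sub_C_splits_of_isPrimitiveRoot (hζ.map_of_injective (algebraMap K L).injective) hα
    · rw [eq_top_iff, ← IntermediateField.top_toSubalgebra, ← hgen,
        IntermediateField.adjoin_simple_toSubalgebra_of_isAlgebraic hint.isAlgebraic]
      refine Algebra.adjoin_mono ?_
      rw [Set.singleton_subset_iff, Polynomial.mem_rootSet_of_ne (Polynomial.X_pow_sub_C_ne_zero (Nat.pos_of_ne_zero hnA) f)]
      exact hroot
  haveI hgal : IsGalois K L := IsGalois.of_separable_splitting_field (Polynomial.separable_X_pow_sub_C f hnK hf)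
  have hα0 : α ≠ 0 := fun h => hf ((algebraMap K L).injective (by rw [← hα, h, zero_pow hnA, map_zero]))
  have hσ : ∀ σ : L ≃ₐ[K] L, ∃ c : K, σ α = algebraMap K L c * α ∧ c ^ n = 1 := by
    intro σ
    have h1 : (σ α / α) ^ n = 1 := by
      rw [div_pow, ← map_pow, hα, AlgEquiv.commutes, ← hα, div_self (pow_ne_zero n hα0)]
    obtain ⟨i, -, hi⟩ := (hζ.map_of_injective (algebraMap K L).injective).eq_pow_of_pow_eq_one h1
    exact ⟨ζ ^ i, by rw [map_pow, hi, div_mul_cancel₀ _ hα0], by rw [← pow_mul, mul_comm, pow_mul, hζ.pow_eq_one, one_pow]⟩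
  choose c hc hcn using hσ
  let χ : (L ≃ₐ[K] L) →* K :=
    { toFun := c
      map_one' := (algebraMap K L).injective (mul_right_cancel₀ hα0 (by rw [← hc, map_one, one_mul]; rfl))
      map_mul' := fun σ τ => (algebraMap K L).injective (mul_right_cancel₀ hα0 (by
        rw [← hc, AlgEquiv.mul_apply, hc τ, map_mul, AlgEquiv.commutes, hc σ, map_mul]
        ring)) }
  have hχinj : Function.Injective χ := by
    intro σ τ h
    have hα' : σ α = τ α := by rw [hc, hc, show c σ = c τ from h]
    refine AlgEquiv.ext fun x => ?_
    have hx : x ∈ IntermediateField.adjoin K {α} := hgen ▸ IntermediateField.mem_top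
    induction hx using IntermediateField.adjoin_induction with
    | mem y hy => rw [Set.mem_singleton_iff.1 hy, hα']
    | algebraMap y => rw [AlgEquiv.commutes, AlgEquiv.commutes]
    | add y z _ _ hy hz => rw [map_add, map_add, hy, hz]
    | inv y _ hy => rw [map_inv₀, map_inv₀, hy]
    | mul y z _ _ hy hz => rw [map_mul, map_mul, hy, hz]
  have hcyc : IsCyclic (L ≃ₐ[K] L) := isCyclic_of_subgroup_isDomain χ hχinj
  refine ⟨hgal, hcyc, ?_⟩
  let d := Nat.card (L ≃ₐ[K] L)
  obtain ⟨g, hg⟩ : ∃ g : K, algebraMap K L g = α ^ d := by
    refine (IsGalois.mem_range_algebraMap_iff_fixed (α ^ d)).2 fun σ => ?_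
    rw [map_pow, hc, mul_pow, ← map_pow, show c σ ^ d = χ (σ ^ d) from (map_pow χ σ d).symm,
      show σ ^ d = 1 from pow_card_eq_one', map_one, map_one, one_mul]
  have hg0 : g ≠ 0 := fun h => hα0 (eq_zero_of_pow_eq_zero (by rw [← hg, h, map_zero]))
  have hgn : g ^ n = f ^ d := (algebraMap K L).injective (by
    rw [map_pow, map_pow, hg, ← hα, ← pow_mul, ← pow_mul, mul_comm])
  have hpow : (FractionalIdeal.spanSingleton A⁰ g) ^ n = (((I ^ d : (FractionalIdeal A⁰ K)ˣ)) : FractionalIdeal A⁰ K) ^ n := by
    rw [FractionalIdeal.spanSingleton_pow, hgn, ← FractionalIdeal.spanSingleton_pow, hI, Units.val_pow_eq_pow_val,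
      ← pow_mul, ← pow_mul, mul_comm]
  have heq : FractionalIdeal.spanSingleton A⁰ g = ((I ^ d : (FractionalIdeal A⁰ K)ˣ) : FractionalIdeal A⁰ K) := by
    have h1 : FractionalIdeal.spanSingleton A⁰ g ≠ 0 := by
      rwa [ne_eq, FractionalIdeal.spanSingleton_eq_zero_iff]
    rw [← FractionalIdeal.finprod_heightOneSpectrum_factorization' (K := K) h1,
      ← FractionalIdeal.finprod_heightOneSpectrum_factorization' (K := K) (Units.ne_zero (I ^ d))]
    refine finprod_congr fun v => congrArg _ ?_
    have := congrArg (FractionalIdeal.count K v) hpow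
    rw [FractionalIdeal.count_pow, FractionalIdeal.count_pow] at this
    exact mul_left_cancel₀ (Nat.cast_ne_zero.2 hnA) this
  have hdvd : n ∣ d := by
    rw [← hord]
    refine orderOf_dvd_of_pow_eq_one ?_
    rw [← map_pow, ClassGroup.mk_eq_one_iff]
    exact ⟨g, by rw [← heq, FractionalIdeal.coe_spanSingleton]⟩
  have hle : Module.finrank K L ≤ n := by
    rw [← IntermediateField.finrank_top', ← hgen, IntermediateField.adjoin.finrank hint]
    refine le_trans (Polynomial.natDegree_le_of_dvd (minpoly.dvd K α hroot) (Polynomial.monic_X_pow_sub_C f hnA).ne_zero) ?_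
    rw [Polynomial.natDegree_X_pow_sub_C]
  have hcard : d = Module.finrank K L := IsGalois.card_aut_eq_finrank K L
  exact le_antisymm hle (hcard ▸ Nat.le_of_dvd (Nat.card_pos) hdvd)

end Groth.Agent.S14178
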