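import Groth.Statements.S14180
import Groth.Agent.Lib.OneNode19.Main
-- import your own Groth.Agent.* helpers here

set_option autoImplicit false
universe u
open CategoryTheory CategoryTheory.Limits AlgebraicGeometry
open EtCore

namespace Groth.Agent.S14180

set_option linter.style.haveILetI false
set_option backward.isDefEq.respectTransparency.types false


/-- Let k be an algebraically closed field and n ≥ 1 an integer invertible in k; let X be an integral
proper curve over k (separated and of finite type, of dimension one) whose closed points are all
smooth points or nodes, with exactly one node, and let ν : X^ν ⟶ X be its normalization. Then the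
pullback map H¹(X, μ_n) → H¹(X^ν, ν⁻¹μ_n) on étale cohomology is surjective and its kernel has
exactly n elements (it is the image of (μ_n(k) × μ_n(k))/μ_n(k)). (The published statement is for
the base change to an algebraic closure of a projective nodal curve with one node over a perfect
field and records the Galois-module structure of the short exact sequence; this row keeps the part
over the algebraically closed field. Exactness of pullback and the quasi-compactness and
quasi-separatedness of Spec K(X) ⟶ X always hold; the binders only serve to form the map and the
normalization.) -/
theorem result
    (k : Type u) [Field k] [IsAlgClosed k] (X : Scheme.{u}) [X.Over (Spec (CommRingCat.of k))]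
    [IsProper (X ↘ Spec (CommRingCat.of k))] [IsIntegral X]
    (hdim : topologicalKrullDim X = 1)
    (hnodal : Curv2.AtWorstNodal k X) (hone : Nat.card {x : X // Curv2.IsNode k X x} = 1)
    [QuasiCompact (X.fromSpecStalk (genericPoint X))] [QuasiSeparated (X.fromSpecStalk (genericPoint X))]
    [PreservesFiniteLimits (EtCoh.pull (Curv2.normalizationι X))]
    (n : ℕ) (hn : 1 ≤ n) (hnk : (n : k) ≠ 0) :
    Function.Surjective (EtCore.Hpull (Curv2.normalizationι X) (EtCoh.mu X n) 1) ∧
    Nat.card (EtCore.Hpull (Curv2.normalizationι X) (EtCoh.mu X n) 1).ker = n := by
  exact OneNode19.main hdim hnodal hone n hn hnk

end Groth.Agent.S14180
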