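import Groth.Statements.S14181
-- import your own Groth.Agent.* helpers here

set_option autoImplicit false
universe u
open CategoryTheory
open GalCoh

namespace Groth.Agent.S14181

/-- Let G be a group with a finite normal subgroup P, k a commutative ring and A a k-linear
representation of G such that multiplication by the order of P is a bijection of A. Then the
inflation map on 1-cocycles (crossed homomorphisms) Z¹(G/P, A^P) → Z¹(G, A) has a k-linear left
inverse. (The published statement is for the inertia group of a Galois cover of smooth curves at a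
point, its normal Sylow p-subgroup P and a module of n-torsion with n prime to p; the argument uses
only that the order of P acts invertibly, which is the hypothesis taken here.) -/
theorem result
    {k G : Type u} [CommRing k] [Group G] (A : Rep.{u} k G) (P : Subgroup G) [P.Normal] [Finite P]
    (hP : Function.Bijective fun a : A => (Nat.card P : k) • a) :
    ∃ r : ModuleCat.of k (groupCohomology.cocycles₁ A) ⟶
        ModuleCat.of k (groupCohomology.cocycles₁ (A.quotientToInvariants P)),
      (groupCohomology.mapCocycles₁ (QuotientGroup.mk' P) (Rep.ofHom (A.ρ.quotientToInvariants_lift P)) :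
          ModuleCat.of k (groupCohomology.cocycles₁ (A.quotientToInvariants P)) ⟶
            ModuleCat.of k (groupCohomology.cocycles₁ A)) ≫ r = 𝟙 _ := by
  classical
  letI : Fintype P := Fintype.ofFinite P
  let n : k := (Nat.card P : k)
  let N : A →ₗ[k] A := LinearMap.lsmul k A n
  let e : A ≃ₗ[k] A := LinearEquiv.ofBijective N hP
  -- the element killing `f` on `P`
  let X : groupCohomology.cocycles₁ A →ₗ[k] A :=
    { toFun := fun f => -e.symm (∑ p : P, f.1 (p : G))
      map_add' := fun f g => by
        simp only [Submodule.coe_add, Pi.add_apply, Finset.sum_add_distrib, map_add, neg_add]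
      map_smul' := fun c f => by
        simp only [SetLike.val_smul, Pi.smul_apply, ← Finset.smul_sum, map_smul, RingHom.id_apply,
          smul_neg] }
  have hzero : ∀ (f : groupCohomology.cocycles₁ A) (q : P),
      f.1 (q : G) - (A.ρ (q : G) (X f) - X f) = 0 := by
    intro f q
    apply e.injective
    have hcoc := (groupCohomology.mem_cocycles₁_iff f.1).1 f.2
    set S := ∑ p : P, f.1 (p : G) with hS
    have h1 : S = A.ρ (q : G) S + n • f.1 (q : G) := by
      conv_lhs => rw [hS, ← Equiv.sum_comp (Equiv.mulLeft q) (fun p : P => f.1 (p : G))]
      simp only [Equiv.coe_mulLeft, Subgroup.coe_mul, hcoc, Finset.sum_add_distrib, ← map_sum,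
        Finset.sum_const, Finset.card_univ]
      rw [← hS, ← Nat.card_eq_fintype_card, ← Nat.cast_smul_eq_nsmul k]
    have he : ∀ a, e a = n • a := fun a => rfl
    have hX : e (X f) = -S := by
      show e (-e.symm S) = -S
      rw [map_neg, e.apply_symm_apply]
    rw [map_zero, map_sub, map_sub, hX, he, he, ← map_smul, show n • X f = -S from hX, map_neg]
    nth_rewrite 2 [h1]
    abel
  -- the normalised cocycle
  let D : groupCohomology.cocycles₁ A → G → A := fun f g => f.1 g - (A.ρ g (X f) - X f)
  have hD : ∀ f g h, D f (g * h) = A.ρ g (D f h) + D f g := by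
    intro f g h
    simp only [D, (groupCohomology.mem_cocycles₁_iff f.1).1 f.2 g h, map_mul,
      Module.End.mul_apply, map_sub]
    abel
  have hDr : ∀ f g (q : P), D f (g * q) = D f g := fun f g q => by
    rw [hD, show D f (q : G) = 0 from hzero f q, map_zero, zero_add]
  have hDinv : ∀ f g (q : P), A.ρ (q : G) (D f g) = D f g := by
    intro f g q
    have h1 := hD f (q : G) g
    rw [show D f (q : G) = 0 from hzero f q, add_zero] at h1
    rw [← h1]
    have h2 : (q : G) * g = g * (⟨g⁻¹ * q * g, by
        simpa using ‹P.Normal›.conj_mem (q : G) q.2 g⁻¹⟩ : P) := by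
      simp [mul_assoc]
    rw [h2, hDr]
  have hwd : ∀ f (a b : G), (a : G ⧸ P) = b → D f a = D f b := by
    intro f a b h
    rw [QuotientGroup.eq] at h
    have := hDr f a ⟨_, h⟩
    simpa using this.symm
  let R : groupCohomology.cocycles₁ A → (G ⧸ P) → A.quotientToInvariants P := fun f x =>
    ⟨D f x.out, fun q => hDinv f x.out q⟩
  have hR : ∀ f, R f ∈ groupCohomology.cocycles₁ (A.quotientToInvariants P) := by
    intro f
    rw [groupCohomology.mem_cocycles₁_iff]
    intro x y
    induction x using QuotientGroup.induction_on with | _ a =>
    induction y using QuotientGroup.induction_on with | _ b =>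
    apply Subtype.ext
    show D f _ = A.ρ a (D f _) + D f _
    rw [hwd f _ (a * b) (by simp), hwd f ((a : G ⧸ P).out) a (by simp),
      hwd f ((b : G ⧸ P).out) b (by simp), hD]
  let rl : groupCohomology.cocycles₁ A →ₗ[k] groupCohomology.cocycles₁ (A.quotientToInvariants P) :=
    { toFun := fun f => ⟨R f, hR f⟩
      map_add' := fun f g => by
        apply Subtype.ext; funext x; apply Subtype.ext
        show D (f + g) x.out = D f x.out + D g x.out
        simp only [D, map_add, Submodule.coe_add, Pi.add_apply]
        abel
      map_smul' := fun c f => by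
        apply Subtype.ext; funext x; apply Subtype.ext
        show D (c • f) x.out = c • D f x.out
        simp only [D, map_smul, SetLike.val_smul, Pi.smul_apply, smul_sub] }
  refine ⟨ModuleCat.ofHom rl, ?_⟩
  refine ModuleCat.hom_ext (LinearMap.ext fun f => ?_)
  apply Subtype.ext; funext x; apply Subtype.ext
  set F : groupCohomology.cocycles₁ A :=
    (groupCohomology.mapCocycles₁ (QuotientGroup.mk' P)
      (Rep.ofHom (A.ρ.quotientToInvariants_lift P))) f with hF
  show D F x.out = (f.1 x).1
  have hval : ∀ g : G, F.1 g = (f.1 (g : G ⧸ P)).1 := fun g => rfl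
  have hX0 : X F = 0 := by
    show -e.symm (∑ p : P, F.1 (p : G)) = 0
    have : ∀ p : P, F.1 (p : G) = 0 := fun p => by
      rw [hval, (QuotientGroup.eq_one_iff (p : G)).2 p.2]
      exact congrArg Subtype.val (groupCohomology.cocycles₁_map_one f)
    simp [this]
  simp only [D, hX0, map_zero, sub_zero, hval, QuotientGroup.out_eq']

end Groth.Agent.S14181
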