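import Groth.Statements.S14183
import Groth.Agent.Lib.LocSymB.PicModExact

set_option autoImplicit false
universe u
open CategoryTheory AlgebraicGeometry
open LocSym

namespace Groth.Agent.S14183

open W4c1etcurveeff2 in
/-- Let k be an algebraically closed field, X a smooth proper integral curve over k (structure morphism
c, dimension one), m a reduced modulus (every multiplicity at most 1) whose support S has s points,
and n ≥ 1 an integer invertible in k. Let Pic be the group of divisors on k-points modulo divisors
of nonzero rational functions and Pic_m the group of divisors vanishing on S modulo divisors of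
nonzero rational functions congruent to 1 modulo m. Then every n-torsion class of Pic is the image
of an n-torsion class of Pic_m, and the n-torsion classes of Pic_m that map to zero in Pic are
exactly n^(s−1) in number (they form μ_n(k)^S modulo the diagonal μ_n(k)): the short exact sequence
0 → μ_n^S/μ_n → Pic_m[n] → Pic[n] → 0. (The published statement is for the degree-zero parts;
n-torsion classes have degree zero, so this is the same sequence. For s = 0 the two groups coincide
and the count is 1.) -/
theorem result
    (k : Type u) [Field k] [IsAlgClosed k] (X : Scheme.{u}) [IsIntegral X]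
    (c : X ⟶ Spec (CommRingCat.of k)) [IsProper c] [Smooth c] (hdim : topologicalKrullDim X = 1)
    (m : LocSym.Pt c →₀ ℕ) (hm : ∀ x : LocSym.Pt c, m x ≤ 1)
    (s : ℕ) (hs : m.support.card = s) (n : ℕ) (hn : 1 ≤ n) (hnk : (n : k) ≠ 0) :
    (∀ y : Pic c, n • y = 0 → ∃ x : PicMod c m, n • x = 0 ∧ picModToPic c m x = y) ∧
    Nat.card {x : PicMod c m // n • x = 0 ∧ picModToPic c m x = 0} = n ^ (s - 1) := by
  subst hs
  exact ⟨fun y hy => LocSymB.exists_torsion_lift hdim hm n hn y hy,
    LocSymB.card_ker_torsion hdim hm n hn hnk⟩

end Groth.Agent.S14183
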