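import Groth.Statements.S14184
import Groth.Agent.Lib.LocSymB.Reciprocity

set_option autoImplicit false
universe u
open CategoryTheory AlgebraicGeometry
open LocSym

namespace Groth.Agent.S14184

/-- Let k be an algebraically closed field and X a smooth proper integral curve over k (structure
morphism c, dimension one); points are k-points and ord_x is the valuation at x. Let n ≥ 1, let Z be
a finite set of points, let f₁, f₂ be nonzero rational functions and D₁, D₁′, D₂ divisors (finitely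
supported integer-valued functions on points) with n·D₁ = div(f₁) + D₁′, D₁′ supported on Z, n·D₂ =
div(f₂), f₂ taking the value 1 at every point of Z, and div(f₁) and D₂ with disjoint supports. Let
v₁(x) ∈ kˣ be the value of f₁ at each point of the support of D₂ and v₂(x) ∈ kˣ the value of f₂ at
each point of the support of D₁. Then the quotient of ∏_x v₁(x)^{D₂(x)} by ∏_x v₂(x)^{D₁(x)} is an
n-th root of unity: its n-th power is 1. (This quotient f₁(D₂)/f₂(D₁) is the generalised Weil
pairing of the classes of (D₁, D₁′, f₁) and D₂; the published statement also normalises f₁, f₂ at a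
base point, which is not needed for this assertion.) -/
theorem result
    (k : Type u) [Field k] [IsAlgClosed k] (X : Scheme.{u}) [IsIntegral X]
    (c : X ⟶ Spec (CommRingCat.of k)) [IsProper c] [Smooth c] (hdim : topologicalKrullDim X = 1)
    (n : ℕ) (hn : 1 ≤ n) (Z : Finset (LocSym.Pt c))
    (f₁ f₂ : X.functionField) (hf₁ : f₁ ≠ 0) (hf₂ : f₂ ≠ 0)
    (D₁ D₁' D₂ : LocSym.Pt c →₀ ℤ)
    (hD₁ : ∀ x : LocSym.Pt c, (n : ℤ) * D₁ x = x.ord f₁ + D₁' x) (hD₁' : D₁'.support ⊆ Z)
    (hD₂ : ∀ x : LocSym.Pt c, (n : ℤ) * D₂ x = x.ord f₂)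
    (hf₂Z : ∀ x ∈ Z, LocSym.HasValueAt x f₂ 1)
    (hdisj : ∀ x : LocSym.Pt c, x.ord f₁ = 0 ∨ D₂ x = 0)
    (v₁ v₂ : LocSym.Pt c → kˣ)
    (hv₁ : ∀ x ∈ D₂.support, LocSym.HasValueAt x f₁ (v₁ x : k))
    (hv₂ : ∀ x ∈ D₁.support, LocSym.HasValueAt x f₂ (v₂ x : k)) :
    ((D₂.prod fun x e => v₁ x ^ e) / (D₁.prod fun x e => v₂ x ^ e)) ^ n = 1 := by
  classical
  have hord₂ : ∀ x : LocSym.Pt c, D₂ x = 0 → x.ord f₂ = 0 := fun x h => by rw [← hD₂ x, h, mul_zero]
  have hrec := LocSymB.finprod_value_zpow_comm hdim f₁ f₂ hf₁ hf₂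
    (fun x => (hdisj x).imp id (hord₂ x)) (LocSymB.valueFun f₁) (LocSymB.valueFun f₂)
    (fun x h => LocSymB.valueFun_spec hdim hf₁ h) (fun x h => LocSymB.valueFun_spec hdim hf₂ h)
  have hZ : ∀ x : LocSym.Pt c, LocSymB.valueFun f₂ x ^ D₁' x = 1 := fun x => by
    by_cases h : x ∈ D₁'.support
    · rw [LocSymB.valueFun_eq hdim (a := 1) (by simpa using hf₂Z x (hD₁' h)), one_zpow]
    · rw [Finsupp.notMem_support_iff.mp h, zpow_zero]
  have e1 : (D₂.prod fun x e => v₁ x ^ e) ^ n = ∏ᶠ x : LocSym.Pt c, LocSymB.valueFun f₁ x ^ x.ord f₂ := by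
    rw [finprod_eq_prod_of_mulSupport_subset (s := D₂.support) _ (fun x hx => by
      rw [Finset.mem_coe, Finsupp.mem_support_iff]
      exact fun h => hx (by simp [hord₂ x h])), Finsupp.prod, ← Finset.prod_pow]
    refine Finset.prod_congr rfl fun x hx => ?_
    rw [LocSymB.valueFun_eq hdim (hv₁ x hx), ← zpow_natCast, ← zpow_mul, ← hD₂ x, mul_comm]
  have e2 : (D₁.prod fun x e => v₂ x ^ e) ^ n = ∏ᶠ x : LocSym.Pt c, LocSymB.valueFun f₂ x ^ x.ord f₁ := by
    rw [finprod_eq_prod_of_mulSupport_subset (s := D₁.support ∪ D₁'.support) _ (fun x hx => by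
      rw [Finset.mem_coe, Finset.mem_union, Finsupp.mem_support_iff, Finsupp.mem_support_iff]
      by_contra h
      rw [not_or, not_not, not_not] at h
      have := hD₁ x
      rw [h.1, h.2, mul_zero, add_zero] at this
      exact hx (by simp [← this])), Finsupp.prod, ← Finset.prod_pow]
    refine Finset.prod_subset_one_on_sdiff Finset.subset_union_left (fun x hx => ?_) (fun x hx => ?_)
    · have h0 : D₁ x = 0 := Finsupp.notMem_support_iff.mp (Finset.mem_sdiff.mp hx).2
      have := hD₁ x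
      rw [h0, mul_zero] at this
      rw [show x.ord f₁ = -D₁' x by omega, zpow_neg, hZ x, inv_one]
    · rw [← LocSymB.valueFun_eq hdim (hv₂ x hx), ← zpow_natCast, ← zpow_mul, mul_comm (D₁ x), hD₁ x,
        zpow_add, hZ x, mul_one]
  rw [div_pow, e1, e2, hrec, div_self']

end Groth.Agent.S14184
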