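import Groth.Statements.S14186
import Groth.Agent.Lib.CurveOpen24.Main
import Groth.Agent.Lib.BCInj6.DepthRestr

set_option autoImplicit false
universe u
open CategoryTheory CategoryTheory.Limits AlgebraicGeometry
open EtDual

namespace Groth.Agent.S14186

set_option backward.isDefEq.respectTransparency.types false
set_option linter.style.haveILetI false
open CategoryTheory.Abelian Groth.Agent.EtStalk Groth.Agent.FieldBr3

/-- Let k be an algebraically closed field, X an integral curve over k (separated and of finite type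
over k, of dimension one), z a closed point of X and j : U ⟶ X an open immersion with image X ∖ {z};
let n ≥ 1 be invertible in k and F a finite locally constant abelian sheaf on the small étale site
of U killed by n (a lisse sheaf of ℤ/n-modules). Then, for cohomology with support in z: H⁰_z(X,
j_!F) vanishes, H⁰_z(X, j_*F) and H¹_z(X, j_*F) vanish, and H^i_z(X, j_!F) and H^i_z(X, j_*F) vanish
for every i ≥ 3. (The published statement also identifies H¹_z(X, j_!F) with H⁰(z, F) and H²_z(X,
j_!F) with H²_z(X, j_*F); this row states only the vanishing assertions. No regularity of X at z is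
assumed.) -/
theorem result
    (k : Type u) [Field k] [IsAlgClosed k] (X : Scheme.{u}) (f : X ⟶ Spec (CommRingCat.of k))
    [IsSeparated f] [LocallyOfFiniteType f] [QuasiCompact f] [IsIntegral X]
    (hdim : topologicalKrullDim X = 1)
    (z : X) (hz : IsClosed ({z} : Set X))
    {U : Scheme.{u}} (j : U ⟶ X) [IsOpenImmersion j] [EtCoh.BCCont j] [EtShriek.JCont j]
    (hU : Set.range j.base = {z}ᶜ)
    (n : ℕ) (hn : 1 ≤ n) (hnk : (n : k) ≠ 0)
    (F : EtCoh.Ab U) (hF : EtCoh.IsFiniteLocallyConstant F) (hFn : EtCoh.KilledBy n F) :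
    Subsingleton ((EtDual.HY j 0).obj ((EtShriek.extZero j).obj F)) ∧
    Subsingleton ((EtDual.HY j 0).obj ((EtCoh.push j).obj F)) ∧
    Subsingleton ((EtDual.HY j 1).obj ((EtCoh.push j).obj F)) ∧
    (∀ i : ℕ, 3 ≤ i →
      Subsingleton ((EtDual.HY j i).obj ((EtShriek.extZero j).obj F)) ∧
      Subsingleton ((EtDual.HY j i).obj ((EtCoh.push j).obj F))) := by
  haveI : AlgebraicGeometry.Etale j := inferInstance
  haveI : IsLocallyNoetherian X := LocallyOfFiniteType.isLocallyNoetherian f
  haveI : CompactSpace X := QuasiCompact.compactSpace_of_compactSpace f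
  haveI : AlgebraicGeometry.IsNoetherian X := ⟨⟩
  haveI : QuasiCompact j := inferInstance
  haveI := EtStalk.preservesFiniteLimits_pull j
  have hHY : ∀ (G : EtCoh.Ab X) (p : ℕ), Subsingleton (Ext (BCInj6.zQuot j) G p) →
      Subsingleton ((EtDual.HY j p).obj G) := fun G p h => by
    haveI := h
    exact (ConcreteCategory.bijective_of_isIso (BCInj6.zQuotExtIso j G p).inv).1.subsingleton
  have htorU : EtCoh.IsTorsion F := isTorsion_of_stalk F fun Ω _ _ ξ p => by
    obtain ⟨V, v, s, rfl⟩ := germ_surjective _ _ p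
    exact isOfFinAddOrder_iff_nsmul_eq_zero.2 ⟨n, hn, by rw [← map_nsmul, hFn, map_zero]⟩
  have htorp : EtCoh.IsTorsion ((EtCoh.push j).obj F) := isTorsion_push' j htorU
  have htore : EtCoh.IsTorsion ((EtShriek.extZero j).obj F) := isTorsion_of_stalk _ fun Ω _ _ ξ p => by
    by_cases h : ξ (default : Spec (CommRingCat.of Ω)) ∈ Set.range j
    · obtain ⟨ζ, rfl⟩ := exists_lift_point_open j ξ h
      haveI := isIso_extZero_unit j
      let e : F ≅ (EtCoh.pull j).obj ((EtShriek.extZero j).obj F) :=
        asIso ((EtShriek.extZeroAdj j).unit.app F) ≪≫ (restrPullIso j).app _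
      obtain ⟨q, hq⟩ := (ConcreteCategory.bijective_of_isIso
        (((EtCoh.stalk ζ).mapIso e).hom ≫ inv (stalkPull j ζ ((EtShriek.extZero j).obj F)))).2 p
      rw [← hq]
      exact AddMonoidHom.isOfFinAddOrder _ (isOfFinAddOrder_stalk F htorU ζ q)
    · haveI := AddCommGrpCat.subsingleton_of_isZero (stalk_extZero_isZero j F ξ h)
      rw [Subsingleton.elim p 0]
      exact IsOfFinAddOrder.zero
  have hbig : ∀ (G : EtCoh.Ab X), EtCoh.IsTorsion G → ∀ i, 3 ≤ i → Subsingleton ((EtDual.HY j i).obj G) := by
    intro G hG i hi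
    refine hHY G i (subsingleton_of_forall_eq 0 fun y => ?_)
    obtain ⟨p, rfl⟩ : ∃ p, i = p + 1 := ⟨i - 1, by omega⟩
    have hS := BCInj6.zQuot_shortExact j
    obtain ⟨z, hz'⟩ := Ext.contravariant_sequence_exact₃ hS G y
      (@Subsingleton.elim _ (subsingleton_H_curve f hdim.le G hG (q := p + 1) hi) _ _) (add_comm 1 p)
    have hsurj : Function.Surjective (EtCore.Hpull j G p) := by
      rcases Nat.lt_or_ge p 3 with h | h
      · obtain rfl : p = 2 := by omega
        exact CurveOpen24.surjective_Hpull_two j f hdim.le G hG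
      · haveI := subsingleton_H_curve (j ≫ f) (X := U)
          ((j.isOpenEmbedding.isInducing.topologicalKrullDim_le).trans hdim.le) _
          (isTorsion_pull' j hG) h
        exact fun w => ⟨0, Subsingleton.elim _ _⟩
    obtain ⟨x, hx⟩ := hsurj (extCohEquiv j G p z)
    rw [← extCohEquiv_counit j G p x] at hx
    rw [← hz', ← (extCohEquiv j G p).injective hx, ← Ext.comp_assoc_of_second_deg_zero]
    rw [hS.extClass_comp, Ext.zero_comp]
  refine ⟨hHY _ 0 ?_, hHY _ 0 ?_, hHY _ 1 ?_, fun i hi => ⟨hbig _ htore i hi, hbig _ htorp i hi⟩⟩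
  · refine (BCInj6.subsingleton_ext_zQuot_iff j _ 1).2 ⟨fun p hp => absurd hp (by omega), fun p hp => ?_⟩ 0 one_pos
    obtain rfl : p = 0 := by omega
    refine (injective_iff_map_eq_zero _).2 fun x hx => ?_
    obtain ⟨a, rfl⟩ := (Ext.mk₀_bijective _ _).2 x
    have ha : (EtCoh.pull j).map a = 0 := by
      rw [EtCore.Hpull] at hx
      replace hx : (Ext.mk₀ (EtCore.pullConst j ℤ).inv).comp ((Ext.mk₀ a).mapExactFunctor (EtCoh.pull j)) (zero_add 0) = 0 := hx
      rw [Ext.mapExactFunctor_mk₀, Ext.mk₀_comp_mk₀, Ext.mk₀_eq_zero_iff] at hx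
      exact (cancel_epi (EtCore.pullConst j ℤ).inv).1 (hx.trans comp_zero.symm)
    suffices h0 : a = 0 by rw [h0, Ext.mk₀_zero]
    haveI : (EtCoh.pull j).Additive := (EtCoh.pullPushAdj j).left_adjoint_additive
    apply Sheaf.hom_ext
    refine NatTrans.ext (funext fun V => AddCommGrpCat.hom_ext (AddMonoidHom.ext fun s => ?_))
    show a.hom.app V s = 0
    refine eq_of_agree _ fun v => ?_
    obtain ⟨φ, hφ⟩ := exists_fib V.unop v
    refine hφ ▸ (mem_agree_iff_germ _ φ _ _).2 ?_
    rw [map_zero, ← germ_nat]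
    let ξ := geomPt X (V.unop.hom v)
    by_cases h : ξ default ∈ Set.range j
    · obtain ⟨ζ, hζ⟩ := exists_lift_point_open j ξ h
      have hmap : (EtCoh.stalk (ζ ≫ j)).map a = 0 := by
        rw [← cancel_mono (stalkPull j ζ ((EtShriek.extZero j).obj F)), ← stalkPull_nat, ha,
          Functor.map_zero, comp_zero, zero_comp]
      have hmap' : (EtCoh.stalk ξ).map a = 0 := hζ ▸ hmap
      exact (ConcreteCategory.congr_hom hmap' _).trans rfl
    · exact @Subsingleton.elim _ (AddCommGrpCat.subsingleton_of_isZero (stalk_extZero_isZero j F ξ h)) _ _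
  all_goals
    have hH : ∀ p, (p = 0 → Function.Bijective (EtCore.Hpull j ((EtCoh.push j).obj F) p)) ∧
        (p = 1 → Function.Injective (EtCore.Hpull j ((EtCoh.push j).obj F) p)) := fun p => by
      haveI := isIso_pullPush_counit j
      have hb := EtAcyc24.bijective_comp_iso (asIso ((EtCoh.pullPushAdj j).counit.app F)) p
      constructor
      · rintro rfl
        exact (Function.Bijective.of_comp_iff' hb _).1 (EtAcyc24.HofPush_zero_bijective j F)
      · rintro rfl
        exact (hb.1.of_comp_iff _).1 (EtAcyc24.injective_HofPush_one j F)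
    exact (BCInj6.subsingleton_ext_zQuot_iff j _ 2).2
      ⟨fun p hp => (hH p).1 (by omega), fun p hp => (hH p).2 (by omega)⟩ _ (by omega)

end Groth.Agent.S14186
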