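import Groth.Statements.S14187
import Groth.Agent.Lib.CurvePair32.Iso

set_option autoImplicit false
universe u
open CategoryTheory CategoryTheory.Limits AlgebraicGeometry
open LocSym

namespace Groth.Agent.S14187

open W4c1etcurveeff2 in
/-- Let k be an algebraically closed field, X a smooth integral curve over k (separated and of finite
type over k, of dimension one, affine or not; structure morphism c, points the k-points with
valuations ord_x), and n ≥ 1 an integer invertible in k. Then the étale cohomology group H¹(X, μ_n)
is isomorphic to the group of pairs (D, f) consisting of a divisor D on the points and a nonzero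
rational function f with n·D = div(f), modulo the pairs whose f is an n-th power. (Existence of an
isomorphism of groups only; the published isomorphism is canonical, sending (D, f) to the line
bundle O(D) with the trivialisation of its n-th power given by f.) -/
theorem result
    (k : Type u) [Field k] [IsAlgClosed k] (X : Scheme.{u}) [IsIntegral X]
    (c : X ⟶ Spec (CommRingCat.of k)) [IsSeparated c] [LocallyOfFiniteType c] [QuasiCompact c] [Smooth c]
    (hdim : topologicalKrullDim X = 1)
    (n : ℕ) (hn : 1 ≤ n) (hnk : (n : k) ≠ 0) :
    Nonempty (EtCoh.H X (EtCoh.mu X n) 1 ≃+ KummerPairGrp c n) := by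
  haveI : IsLocallyNoetherian X := LocallyOfFiniteType.isLocallyNoetherian c
  haveI : CompactSpace X := QuasiCompact.compactSpace_of_compactSpace c
  haveI : IsNoetherian X := {}
  exact Groth.Agent.CurvePair32.nonempty_H1_equiv c hdim hn hnk

end Groth.Agent.S14187
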