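import Groth.Statements.S14188
import Mathlib.AlgebraicGeometry.Morphisms.SchemeTheoreticallyDominant
import Mathlib.AlgebraicGeometry.FunctionField

set_option autoImplicit false
universe u
open CategoryTheory CategoryTheory.Limits AlgebraicGeometry
open FlatMor

set_option backward.isDefEq.respectTransparency.types false

namespace Groth.Agent.S14188


open AlgebraicGeometry CategoryTheory Limits

/-- Let T be an integral scheme with generic point η, let Y and Z be schemes flat over T with Z
separated over T, and let ψ : Y_η → Z be a T-morphism from the generic fibre Y_η = Y ×_T Spec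
O_{T,η} (equivalently, an η-morphism Y_η → Z_η). Let gr : Y_η → Y ×_T Z be the graph of ψ, the
morphism whose components are the projection Y_η → Y and ψ, and let Γ ⊆ Y ×_T Z be the
scheme-theoretic image of gr (the schematic closure of the graph). Then ψ extends to a T-morphism φ
: Y → Z, meaning that the composite Y_η → Y → Z is ψ, if and only if the composite of the inclusion
Γ → Y ×_T Z with the first projection is an isomorphism Γ ≅ Y. -/
theorem result (T Y Z : Scheme.{u}) [IsIntegral T]
    (pY : Y ⟶ T) (pZ : Z ⟶ T) [Flat pY] [Flat pZ] [IsSeparated pZ]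
    (ψ : pullback pY (T.fromSpecStalk (genericPoint T)) ⟶ Z)
    (hψ : ψ ≫ pZ = pullback.fst pY (T.fromSpecStalk (genericPoint T)) ≫ pY)
    (gr : pullback pY (T.fromSpecStalk (genericPoint T)) ⟶ pullback pY pZ)
    (hgr₁ : gr ≫ pullback.fst pY pZ = pullback.fst pY (T.fromSpecStalk (genericPoint T)))
    (hgr₂ : gr ≫ pullback.snd pY pZ = ψ) :
    (∃ φ : Y ⟶ Z, φ ≫ pZ = pY ∧ pullback.fst pY (T.fromSpecStalk (genericPoint T)) ≫ φ = ψ) ↔
      IsIso (gr.imageι ≫ pullback.fst pY pZ) := by
  haveI : IsSeparated (pullback.fst pY pZ) := inferInstance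
  haveI hsub : Subsingleton ↥(Spec (T.presheaf.stalk (genericPoint T))) := by
    let _ : Field (T.presheaf.stalk (genericPoint T)) := inferInstanceAs (Field T.functionField)
    exact inferInstanceAs (Subsingleton (PrimeSpectrum (T.presheaf.stalk (genericPoint T))))
  haveI : QuasiCompact (T.fromSpecStalk (genericPoint T)) :=
    ⟨fun U _ _ => (Set.subsingleton_of_subsingleton).isCompact⟩
  haveI : IsDominant (T.fromSpecStalk (genericPoint T)) := ⟨by
    rw [DenseRange, Scheme.range_fromSpecStalk]
    exact fun x => closure_mono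
      (Set.singleton_subset_iff.2 (specializes_rfl : genericPoint T ⤳ genericPoint T))
        (by rw [(genericPoint_spec T).def]; trivial)⟩
  haveI : IsSchemeTheoreticallyDominant (T.fromSpecStalk (genericPoint T)) := .of_isDominant _
  haveI : IsSchemeTheoreticallyDominant (pullback.fst pY (T.fromSpecStalk (genericPoint T))) := inferInstance
  constructor
  · rintro ⟨φ, hφ, hjφ⟩
    let γ : Y ⟶ pullback pY pZ := pullback.lift (𝟙 Y) φ (by rw [Category.id_comp, hφ])
    have hγ : γ ≫ pullback.fst pY pZ = 𝟙 Y := pullback.lift_fst _ _ _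
    haveI : IsClosedImmersion (γ ≫ pullback.fst pY pZ) := by rw [hγ]; infer_instance
    haveI : IsClosedImmersion γ := .of_comp γ (pullback.fst pY pZ)
    have hgr : gr = pullback.fst pY (T.fromSpecStalk (genericPoint T)) ≫ γ := by
      refine pullback.hom_ext ?_ ?_
      · rw [hgr₁, Category.assoc, hγ, Category.comp_id]
      · rw [hgr₂, Category.assoc, pullback.lift_snd, hjφ]
    have hker : gr.imageι.ker = γ.ker := by
      rw [Scheme.IdealSheafData.ker_subschemeι, hgr, Scheme.Hom.ker_comp, Scheme.Hom.ker_eq_bot,
        Scheme.IdealSheafData.map_bot]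
    haveI := IsClosedImmersion.isIso_lift gr.imageι γ hker
    have h : IsClosedImmersion.lift gr.imageι γ hker.le ≫ (gr.imageι ≫ pullback.fst pY pZ) = 𝟙 Y := by
      rw [← Category.assoc, IsClosedImmersion.lift_fac, hγ]
    haveI : IsIso (IsClosedImmersion.lift gr.imageι γ hker.le ≫ (gr.imageι ≫ pullback.fst pY pZ)) := by
      rw [h]; infer_instance
    exact IsIso.of_isIso_comp_left (IsClosedImmersion.lift gr.imageι γ hker.le) _
  · intro _
    have h : pullback.fst pY (T.fromSpecStalk (genericPoint T)) ≫ inv (gr.imageι ≫ pullback.fst pY pZ) =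
        gr.toImage := by
      rw [IsIso.comp_inv_eq, ← Category.assoc, Scheme.Hom.toImage_imageι, hgr₁]
    refine ⟨inv (gr.imageι ≫ pullback.fst pY pZ) ≫ gr.imageι ≫ pullback.snd pY pZ, ?_, ?_⟩
    · simp only [Category.assoc, ← pullback.condition]
      rw [← Category.assoc gr.imageι, IsIso.inv_hom_id_assoc]
    · rw [← Category.assoc, h, ← Category.assoc, Scheme.Hom.toImage_imageι, hgr₂]

end Groth.Agent.S14188
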