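import Groth.Statements.S14189
import Groth.Agent.Lib.SchDom.Basic
import Mathlib.AlgebraicGeometry.Sites.Fpqc
import Mathlib.AlgebraicGeometry.FunctionField
import Mathlib.AlgebraicGeometry.Morphisms.ClosedImmersion
import Mathlib.AlgebraicGeometry.Morphisms.Separated

set_option autoImplicit false
universe u
open CategoryTheory CategoryTheory.Limits AlgebraicGeometry
open FlatMor

set_option backward.isDefEq.respectTransparency.types false

namespace Groth.Agent.S14189


open TensorProduct AlgebraicGeometry CategoryTheory Limits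

/-- Maps from a flat scheme over an integral base to a separated one agree if they agree on the generic fibre. -/
theorem ext_of_flat_generic {W Z T : Scheme.{u}} [IsIntegral T] (p : W ⟶ T) [Flat p] (pZ : Z ⟶ T) [IsSeparated pZ]
    (a b : W ⟶ Z) (hab : a ≫ pZ = b ≫ pZ)
    (h : pullback.fst p (T.fromSpecStalk (genericPoint T)) ≫ a = pullback.fst p (T.fromSpecStalk (genericPoint T)) ≫ b) :
    a = b := by
  let j := T.fromSpecStalk (genericPoint T)
  let d : W ⟶ pullback pZ pZ := pullback.lift a b hab
  have hd1 : d ≫ pullback.fst pZ pZ = a := pullback.lift_fst _ _ _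
  have hd2 : d ≫ pullback.snd pZ pZ = b := pullback.lift_snd _ _ _
  let ι := pullback.fst d (pullback.diagonal pZ)
  haveI : IsClosedImmersion ι := inferInstanceAs (IsClosedImmersion (pullback.fst d (pullback.diagonal pZ)))
  let q : pullback p j ⟶ pullback d (pullback.diagonal pZ) :=
    pullback.lift (pullback.fst p j) (pullback.fst p j ≫ a) (by
      apply pullback.hom_ext
      · rw [Category.assoc, hd1, Category.assoc, pullback.diagonal_fst, Category.comp_id]
      · rw [Category.assoc, hd2, Category.assoc, pullback.diagonal_snd, Category.comp_id]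
        exact h.symm)
  have hq : q ≫ ι = pullback.fst p j := pullback.lift_fst _ _ _
  have hiso : IsIso ι := by
    rw [IsClosedImmersion.isIso_iff_ker_eq_bot]
    have hcov : ∀ x : W, ∃ U : W.affineOpens, x ∈ U.1 ∧ ∃ V : T.affineOpens, U.1 ≤ p ⁻¹ᵁ V.1 := by
      intro x
      obtain ⟨_, ⟨V, hV, rfl⟩, hxV, -⟩ := T.isBasis_affineOpens.exists_subset_of_mem_open (Set.mem_univ (p x)) isOpen_univ
      obtain ⟨_, ⟨U, hU, rfl⟩, hxU, hUV⟩ := W.isBasis_affineOpens.exists_subset_of_mem_open
        (show x ∈ ((p ⁻¹ᵁ V : W.Opens) : Set W) from hxV) (p ⁻¹ᵁ V).2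
      exact ⟨⟨U, hU⟩, hxU, ⟨V, hV⟩, hUV⟩
    choose U hxU V hUV using hcov
    refine Scheme.IdealSheafData.ext_of_iSup_eq_top U (eq_top_iff.2 fun x _ => TopologicalSpace.Opens.mem_iSup.2 ⟨x, hxU x⟩) fun x => ?_
    rw [Scheme.Hom.ker_apply, Scheme.IdealSheafData.ideal_bot, Pi.bot_apply, eq_bot_iff]
    intro t ht
    rw [RingHom.mem_ker] at ht
    rw [Ideal.mem_bot]
    have hη : genericPoint T ∈ (V x).1 :=
      ((genericPoint_spec T).mem_open_set_iff (V x).1.2).mpr ⟨p x, Set.mem_univ _, hUV x (hxU x)⟩
    haveI : Nonempty (V x).1 := ⟨⟨genericPoint T, hη⟩⟩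
    let K := T.presheaf.stalk (genericPoint T)
    letI : Algebra Γ(T, (V x).1) K := (T.presheaf.germ (V x).1 (genericPoint T) hη).hom.toAlgebra
    letI : Algebra Γ(T, (V x).1) Γ(W, (U x).1) := (p.appLE (V x).1 (U x).1 (hUV x)).hom.toAlgebra
    haveI : Module.Flat Γ(T, (V x).1) Γ(W, (U x).1) :=
      HasRingHomProperty.appLE @Flat p inferInstance (V x) (U x) (hUV x)
    let P := CommRingCat.of (K ⊗[Γ(T, (V x).1)] Γ(W, (U x).1))
    let iK : K ⟶ P := CommRingCat.ofHom (R := K)
      (Algebra.TensorProduct.includeLeftRingHom (R := Γ(T, (V x).1)) (A := K) (B := Γ(W, (U x).1)))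
    let iU : Γ(W, (U x).1) ⟶ P := CommRingCat.ofHom (Algebra.TensorProduct.includeRight (R := Γ(T, (V x).1))).toRingHom
    have hcomm : (Spec.map iU ≫ (U x).2.fromSpec) ≫ p = Spec.map iK ≫ j := by
      rw [show j = (V x).2.fromSpecStalk hη from ((V x).2.fromSpecStalk_eq_fromSpecStalk hη).symm, IsAffineOpen.fromSpecStalk,
        Category.assoc, ← IsAffineOpen.SpecMap_appLE_fromSpec p (V x).2 (U x).2 (hUV x), ← Category.assoc, ← Category.assoc,
        ← Spec.map_comp, ← Spec.map_comp]
      refine congrArg (Spec.map · ≫ _) ?_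
      ext r
      exact ((Algebra.TensorProduct.includeRight (R := Γ(T, (V x).1)) (A := K) (B := Γ(W, (U x).1))).commutes r).trans
        (IsScalarTower.algebraMap_apply Γ(T, (V x).1) K (K ⊗[Γ(T, (V x).1)] Γ(W, (U x).1)) r)
    let L := pullback.lift (Spec.map iU ≫ (U x).2.fromSpec) (Spec.map iK) hcomm ≫ q
    have hL : L ≫ ι = Spec.map iU ≫ (U x).2.fromSpec := by
      simp only [L, Category.assoc, hq]
      exact pullback.lift_fst _ _ _
    have hle : (⊤ : (Spec P).Opens) ≤ (L ≫ ι) ⁻¹ᵁ (U x).1 := by
      rw [hL]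
      intro y _
      exact ((U x).2.range_fromSpec).le ⟨_, rfl⟩
    have h0 : (L ≫ ι).appLE (U x).1 ⊤ hle t = 0 := Groth.Agent.SchDom.appLE_comp_eq_zero ι L hle t ht
    have h1 : iU t = 0 := by
      simp only [hL] at h0
      rw [Groth.Agent.SchDom.appLE_specMap_fromSpec (U x).2 iU _ t] at h0
      exact (Scheme.ΓSpecIso P).commRingCatIsoToRingEquiv.symm.injective (h0.trans (map_zero _).symm)
    have hinj : Function.Injective ((Algebra.linearMap Γ(T, (V x).1) K).rTensor Γ(W, (U x).1)) :=
      Module.Flat.rTensor_preserves_injective_linearMap _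
        (germ_injective_of_isIntegral T (genericPoint T) hη)
    have h2 : ((1 : Γ(T, (V x).1)) ⊗ₜ[Γ(T, (V x).1)] t) = 0 := hinj (by
      rw [map_zero, LinearMap.rTensor_tmul, Algebra.linearMap_apply, map_one]
      exact h1)
    simpa using congrArg (TensorProduct.lid Γ(T, (V x).1) Γ(W, (U x).1)) h2
  have hd : ι ≫ d = pullback.snd d (pullback.diagonal pZ) ≫ pullback.diagonal pZ := pullback.condition
  have ha : ι ≫ a = pullback.snd d (pullback.diagonal pZ) := by
    have := hd =≫ pullback.fst pZ pZ
    rw [Category.assoc, hd1, Category.assoc, pullback.diagonal_fst, Category.comp_id] at this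
    exact this
  have hb : ι ≫ b = pullback.snd d (pullback.diagonal pZ) := by
    have := hd =≫ pullback.snd pZ pZ
    rw [Category.assoc, hd2, Category.assoc, pullback.diagonal_snd, Category.comp_id] at this
    exact this
  exact (cancel_epi ι).1 (ha.trans hb.symm)


/-- Let T be an integral scheme with generic point η, let Y and Z be schemes flat over T with Z
separated over T, and let ψ : Y_η → Z be a T-morphism from the generic fibre Y_η = Y ×_T Spec
O_{T,η}. Let g : T' → T be flat, surjective and quasi-compact, and let φ' : Y_{T'} → Z_{T'} be a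
T'-morphism which agrees with ψ over T' ×_T η, in the sense that on Y_{T'} ×_Y Y_η = Y ×_T T' ×_T
Spec O_{T,η} the composite of the first projection with φ' and with Z_{T'} → Z equals the composite
of the second projection with ψ. Then ψ extends to a T-morphism φ : Y → Z, one whose composite with
Y_η → Y is ψ. (The published statement is an equivalence and also records that an extension, when it
exists, is unique; the converse direction, that an extension over T base-changes to such a φ' over
any such T', is immediate, and this row states the existence direction only.) -/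
theorem result (T Y Z T' : Scheme.{u}) [IsIntegral T]
    (pY : Y ⟶ T) (pZ : Z ⟶ T) [Flat pY] [Flat pZ] [IsSeparated pZ]
    (ψ : pullback pY (T.fromSpecStalk (genericPoint T)) ⟶ Z)
    (hψ : ψ ≫ pZ = pullback.fst pY (T.fromSpecStalk (genericPoint T)) ≫ pY)
    (g : T' ⟶ T) [Flat g] [Surjective g] [QuasiCompact g]
    (φ' : pullback pY g ⟶ pullback pZ g) (hφ' : φ' ≫ pullback.snd pZ g = pullback.snd pY g)
    (hagree : pullback.fst (pullback.fst pY g) (pullback.fst pY (T.fromSpecStalk (genericPoint T))) ≫ φ' ≫ pullback.fst pZ g =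
      pullback.snd (pullback.fst pY g) (pullback.fst pY (T.fromSpecStalk (genericPoint T))) ≫ ψ) :
    ∃ φ : Y ⟶ Z, φ ≫ pZ = pY ∧ pullback.fst pY (T.fromSpecStalk (genericPoint T)) ≫ φ = ψ := by
  intros
  let j := T.fromSpecStalk (genericPoint T)
  let π := pullback.fst pY g
  let h := φ' ≫ pullback.fst pZ g
  have hh : h ≫ pZ = π ≫ pY := by
    simp only [h, π, Category.assoc, pullback.condition]
    rw [← Category.assoc, hφ']
  haveI : Flat π := inferInstanceAs (Flat (pullback.fst pY g))
  haveI : Surjective π := inferInstanceAs (Surjective (pullback.fst pY g))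
  haveI : QuasiCompact π := inferInstanceAs (QuasiCompact (pullback.fst pY g))
  have key : ∀ {W : Scheme.{u}} (g1 g2 : W ⟶ pullback pY g), g1 ≫ π = g2 ≫ π → g1 ≫ h = g2 ≫ h := by
    intro W g1 g2 hg
    suffices pullback.fst π π ≫ h = pullback.snd π π ≫ h by
      calc g1 ≫ h = (pullback.lift g1 g2 hg ≫ pullback.fst π π) ≫ h := by rw [pullback.lift_fst]
        _ = (pullback.lift g1 g2 hg ≫ pullback.snd π π) ≫ h := by rw [Category.assoc, this, ← Category.assoc]
        _ = g2 ≫ h := by rw [pullback.lift_snd]
    haveI : Flat ((pullback.fst π π ≫ π) ≫ pY) := inferInstance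
    refine ext_of_flat_generic ((pullback.fst π π ≫ π) ≫ pY) pZ _ _
      (by simp only [Category.assoc, hh]; rw [← Category.assoc, pullback.condition, Category.assoc]) ?_
    let Wη := pullback ((pullback.fst π π ≫ π) ≫ pY) j
    let toY : Wη ⟶ pullback pY j := pullback.lift (pullback.fst _ _ ≫ pullback.fst π π ≫ π) (pullback.snd _ _)
      (by
        rw [Category.assoc, ← pullback.condition])
    have e : ∀ g0 : pullback π π ⟶ pullback pY g, g0 ≫ π = pullback.fst π π ≫ π →
        pullback.fst ((pullback.fst π π ≫ π) ≫ pY) j ≫ g0 ≫ h = toY ≫ ψ := by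
      intro g0 hg0
      let L : Wη ⟶ pullback π (pullback.fst pY j) := pullback.lift (pullback.fst _ _ ≫ g0) toY
        (by simp only [toY, Category.assoc, pullback.lift_fst, hg0])
      have hL1 : L ≫ pullback.fst π (pullback.fst pY j) = pullback.fst _ _ ≫ g0 := pullback.lift_fst _ _ _
      have hL2 : L ≫ pullback.snd π (pullback.fst pY j) = toY := pullback.lift_snd _ _ _
      calc pullback.fst ((pullback.fst π π ≫ π) ≫ pY) j ≫ g0 ≫ h
          = L ≫ pullback.fst π (pullback.fst pY j) ≫ h := ((Category.assoc _ _ _).symm.trans (congrArg (· ≫ h) hL1.symm)).trans (Category.assoc _ _ _)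
        _ = L ≫ pullback.snd π (pullback.fst pY j) ≫ ψ := congrArg (L ≫ ·) hagree
        _ = toY ≫ ψ := (Category.assoc _ _ _).symm.trans (congrArg (· ≫ ψ) hL2)
    rw [e _ rfl, e _ pullback.condition.symm]
  let φ := EffectiveEpi.desc π h fun g1 g2 hg => key g1 g2 hg
  have hφ : π ≫ φ = h := EffectiveEpi.fac π h _
  refine ⟨φ, ?_, ?_⟩
  · rw [← cancel_epi π, ← Category.assoc, hφ, hh]
  · let s := pullback.snd π (pullback.fst pY j)
    haveI : Flat s := inferInstanceAs (Flat (pullback.snd π (pullback.fst pY j)))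
    haveI : Surjective s := inferInstanceAs (Surjective (pullback.snd π (pullback.fst pY j)))
    haveI : QuasiCompact s := inferInstanceAs (QuasiCompact (pullback.snd π (pullback.fst pY j)))
    rw [← cancel_epi s, ← Category.assoc, show s ≫ pullback.fst pY j = pullback.fst π (pullback.fst pY j) ≫ π from
      pullback.condition.symm, Category.assoc, hφ]
    exact hagree

end Groth.Agent.S14189
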