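import Groth.Statements.S14190
import Groth.Agent.Lib.CurveCoh17.Skyscraper
import Groth.Agent.Lib.AffStratVan4.Support
import Groth.Agent.Lib.RefHull26.Extend
import Groth.Agent.Lib.Curve17.ExtendInvMain
import Groth.Agent.Lib.ModM1.Push
import Groth.Agent.Lib.ModM1.FibreProd
import Groth.Agent.Lib.ZConn5.Connected

set_option autoImplicit false
set_option backward.isDefEq.respectTransparency false
universe u
open CategoryTheory CategoryTheory.Limits AlgebraicGeometry Opposite
open Models

namespace Groth.Agent.S14190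

theorem germ_notUnit_of_closed {R : Type u} [CommRing R] [IsLocalRing R] {X : Scheme.{u}}
    [X.Over (Spec (CommRingCat.of R))] [IsProper (X ↘ Spec (CommRingCat.of R))] {x : X}
    (hx : IsClosed ({x} : Set X)) {a : R} (ha : a ∈ IsLocalRing.maximalIdeal R) :
    x ∉ X.basicOpen (show Γ(X, ⊤) from Coh.toGlobal (X ↘ Spec (CommRingCat.of R)) a) := by
  rw [ZConn5.basicOpen_toGlobal]
  have h1 := (X ↘ Spec (CommRingCat.of R)).isClosedMap _ hx
  rw [Set.image_singleton] at h1
  haveI := (PrimeSpectrum.isClosed_singleton_iff_isMaximal _).1 h1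
  intro h
  exact h (by rw [IsLocalRing.eq_maximalIdeal ((PrimeSpectrum.isClosed_singleton_iff_isMaximal _).1 h1)]; exact ha)

theorem exists_ne_zero_smul_eq_zero {R : Type u} [CommRing R] [IsDomain R] [IsDiscreteValuationRing R]
    {X : Scheme.{u}} [X.Over (Spec (CommRingCat.of R))] {Q : X.Modules} (hQq : Coh.IsQCoh Q) {S : Finset X}
    (hQ : CurveCoh17.SuppIn Q S)
    (hS : ∀ x ∈ S, ∀ a ∈ IsLocalRing.maximalIdeal R,
      x ∉ X.basicOpen (show Γ(X, ⊤) from Coh.toGlobal (X ↘ Spec (CommRingCat.of R)) a))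
    (q : Coh.HH X Q 0) : ∃ c : R, c ≠ 0 ∧ c • q = 0 := by
  haveI := hQq
  obtain ⟨ϖ, hϖ⟩ := IsDiscreteValuationRing.exists_irreducible R
  have hϖm : ϖ ∈ IsLocalRing.maximalIdeal R := (IsLocalRing.mem_maximalIdeal ϖ).2 hϖ.not_isUnit
  let g : Γ(X, ⊤) := Coh.toGlobal (X ↘ Spec (CommRingCat.of R)) ϖ
  have hpow : ∀ x ∈ S, ∀ a : Q.presheaf.stalk x, ∃ n : ℕ, X.presheaf.germ ⊤ x trivial g ^ n • a = 0 := by
    intro x hx a
    obtain ⟨W, hxW, s, rfl⟩ := Q.presheaf.exists_germ_eq a
    obtain ⟨V, hV, hxV, hVW⟩ := exists_isAffineOpen_mem_and_subset (x := x) (U := W ⊓ hQ.compl (some x))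
      ⟨hxW, hQ.mem_compl_self x⟩
    have hVW' : V ≤ W := fun y hy => (hVW hy).1
    obtain ⟨n, hn⟩ := M1.exists_pow_smul_eq_zero_affine Q hV (M1.ores le_top g) (M1.mres Q hVW' s) (by
      refine hQ.section_ext _ _ fun y hyS hy => ?_
      exfalso
      have hy' : y ∈ X.basicOpen g := by
        have := hy
        rw [X.basicOpen_res g (homOfLE le_top).op] at this
        exact this.2
      exact hS y hyS ϖ hϖm hy')
    refine ⟨n, ?_⟩
    have h2 := congrArg (Q.presheaf.germ V x hxV) hn
    rw [map_zero, M1.germ_smul, map_pow, TopCat.Presheaf.germ_res_apply, M1.germ_mres] at h2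
    exact h2
  classical
  letI : ∀ x : X, Module R (Q.presheaf.stalk x) := fun x => CurveCoh17.stalkMod R Q x
  choose n hn using fun (x : S) => hpow x.1 x.2 (CurveCoh17.h0germ R Q x.1 q)
  refine ⟨ϖ ^ (∑ x, n x), pow_ne_zero _ hϖ.ne_zero, (hQ.h0Equiv R).injective (funext fun x => ?_)⟩
  rw [map_smul, map_zero]
  obtain ⟨m, hm⟩ := Nat.exists_eq_add_of_le (Finset.single_le_sum (fun i _ => Nat.zero_le (n i)) (Finset.mem_univ x))
  show X.presheaf.germ ⊤ (x : X) trivial (Coh.toGlobal (X ↘ Spec (CommRingCat.of R)) (ϖ ^ (∑ x, n x))) •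
    CurveCoh17.h0germ R Q (x : X) q = 0
  rw [map_pow, map_pow, hm, pow_add, mul_comm, mul_smul]
  show _ • (X.presheaf.germ ⊤ (x : X) trivial g ^ n x • _) = 0
  rw [hn, smul_zero]


/-- Let R be a discrete valuation ring with fraction field K, let C be a proper K-curve which is smooth
of relative dimension 1 and geometrically connected over K, and let X be a model of C over R (flat
and of finite type over R with generic fibre C) which is proper over R and normal; so X is a proper
relative curve over R, integral of dimension 2. Let (ω, tr) be a 1-dualizing pair for X over R: ω is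
a quasi-coherent O_X-module and tr : H¹(X, ω) → R an R-linear map such that φ ↦ tr ∘ H¹(φ) is a
bijection from Hom(F, ω) onto Hom_R(H¹(X, F), R) for every quasi-coherent F (such a pair is a
relative dualizing sheaf of X over R with its trace, and is unique up to isomorphism). Let U ⊆ X be
an open subscheme whose complement is a finite set of closed points of X (these lie in the closed
fibre and have codimension 2). Then the canonical map from ω to the direct image of its restriction
to U is an isomorphism: for every open V ⊆ X the restriction map ω(V) → ω(V ∩ U) is bijective. (The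
published statement is for a relative curve which need not be proper and for the relative dualizing
sheaf of duality theory; this row takes X proper over R, where a 1-dualizing pair in the above
global-sections sense determines that sheaf up to isomorphism.) -/
theorem result (R : Type u) [CommRing R] [IsDomain R] [IsDiscreteValuationRing R]
    (X C : Scheme.{u}) [X.Over (Spec (CommRingCat.of R))]
    (f : C ⟶ Spec (CommRingCat.of (FractionRing R)))
    [SmoothOfRelativeDimension 1 f] [IsProper f] [GeometricallyConnected f]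
    (hX : Models.IsModel R X (X ↘ Spec (CommRingCat.of R)) C f)
    [IsProper (X ↘ Spec (CommRingCat.of R))] (hn : Pi1.IsNormalScheme X)
    (ω : X.Modules) (tr : Coh.HH X ω 1 →ₗ[R] R) (hω : Canon.IsRDualOver R X 1 ω tr)
    (U : X.Opens) (hfin : ((U : Set X)ᶜ).Finite) (hcl : ∀ x : X, x ∉ U → IsClosed ({x} : Set X))
    (V : X.Opens) :
    Function.Bijective (ω.presheaf.map (homOfLE (inf_le_left : V ⊓ U ≤ V)).op).hom := by
  let p := X ↘ Spec (CommRingCat.of R)
  haveI : IsLocallyNoetherian X := LocallyOfFiniteType.isLocallyNoetherian p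
  haveI : CompactSpace X := QuasiCompact.compactSpace_of_compactSpace p
  haveI : IsNoetherian X := {}
  have hωq : Coh.IsQCoh ω := hω.1
  let η : ω ⟶ (Scheme.Modules.pushforward U.ι).obj (ω.restrict U.ι) :=
    (Scheme.Modules.restrictAdjunction U.ι).unit.app ω
  let M := (Scheme.Modules.pushforward U.ι).obj (ω.restrict U.ι)
  have hMq : Coh.IsQCoh M := M1.isQCoh_push U.ι (M1.isQCoh_restrict hωq U.ι)
  let S : Finset X := hfin.toFinset
  have hSU : ∀ x : X, x ∉ S → x ∈ U := fun x hx => by
    by_contra h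
    exact hx (hfin.mem_toFinset.2 h)
  have hK : CurveCoh17.SuppIn (kernel η) S := ⟨fun x hx => hcl x (hfin.mem_toFinset.1 hx), fun x hx a => by
    exact @Subsingleton.elim _ (AddCommGrpCat.subsingleton_of_isZero
      (AffStratVan4.stalk_kernel_coker_unit U.ι ω ⟨x, hSU x hx⟩).1) a 0⟩
  have hQ : CurveCoh17.SuppIn (cokernel η) S := ⟨fun x hx => hcl x (hfin.mem_toFinset.1 hx), fun x hx a => by
    exact @Subsingleton.elim _ (AddCommGrpCat.subsingleton_of_isZero
      (AffStratVan4.stalk_kernel_coker_unit U.ι ω ⟨x, hSU x hx⟩).2) a 0⟩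
  have hdual : ∀ (F : X.Modules) (φ : F ⟶ ω) (z : Coh.HH X F 1),
      Canon.dualityMap R X 1 ω tr F φ z = tr (CurveCoh17.hmap R φ 1 z) := fun _ _ _ => rfl
  haveI : Mono η := by
    refine Preadditive.mono_of_kernel_zero ((hω.2 _ (M1.isQCoh_kernel hωq hMq η)).1 ?_)
    haveI := hK.subsingleton_HH 0
    refine LinearMap.ext fun z => ?_
    rw [hdual, hdual, Subsingleton.elim z 0]
    simp only [map_zero]
  have hS : (ShortComplex.mk η (cokernel.π η) (cokernel.condition η)).ShortExact :=
    { exact := ShortComplex.exact_cokernel η }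
  haveI := hQ.subsingleton_HH 0
  have hsurj : Function.Surjective (CurveCoh17.hmap R η 1) := fun z =>
    (CurveCoh17.exact_hmap_hmap R hS 1 z).1 (Subsingleton.elim _ _)
  have hker : LinearMap.ker (CurveCoh17.hmap R η 1) ≤ LinearMap.ker tr := fun z hz => by
    obtain ⟨q, rfl⟩ := (CurveCoh17.exact_hdelta_hmap R hS 0 z).1 hz
    obtain ⟨c, hc, hcq⟩ := exists_ne_zero_smul_eq_zero (R := R) (M1.isQCoh_cokernel hωq hMq η) hQ
      (fun x hx a ha => germ_notUnit_of_closed (hcl x (hfin.mem_toFinset.1 hx)) ha) q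
    have h1 : c • tr (CurveCoh17.hdelta R hS 0 q) = 0 := by
      rw [← map_smul, ← map_smul, hcq, map_zero, map_zero]
    rcases smul_eq_zero.1 h1 with h | h
    · exact absurd h hc
    · exact LinearMap.mem_ker.2 h
  obtain ⟨L, hL⟩ : ∃ L : Coh.HH X M 1 →ₗ[R] R, ∀ z, L (CurveCoh17.hmap R η 1 z) = tr z :=
    ⟨((LinearMap.ker (CurveCoh17.hmap R η 1)).liftQ tr hker).comp
      ((CurveCoh17.hmap R η 1).quotKerEquivOfSurjective hsurj).symm.toLinearMap, fun z => by
        rw [LinearMap.comp_apply]
        have : ((CurveCoh17.hmap R η 1).quotKerEquivOfSurjective hsurj).symm (CurveCoh17.hmap R η 1 z) =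
            Submodule.Quotient.mk z := (LinearEquiv.symm_apply_eq _).2 rfl
        erw [this]
        rfl⟩
  obtain ⟨r, hr⟩ := (hω.2 M hMq).2 L
  have hηr : η ≫ r = 𝟙 ω := by
    refine (hω.2 ω hωq).1 (LinearMap.ext fun z => ?_)
    rw [hdual, hdual, CurveCoh17.hmap_id, CurveCoh17.hmap_comp]
    exact (LinearMap.congr_fun hr _).trans (hL z)
  have hrη : r ≫ η = 𝟙 M := by
    refine ((Scheme.Modules.restrictAdjunction U.ι).homEquiv M (ω.restrict U.ι)).symm.injective ?_
    have h1 : (Scheme.Modules.restrictFunctor U.ι).map (r ≫ η) =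
        (Scheme.Modules.restrictFunctor U.ι).map (𝟙 M) := by
      have hi : IsIso ((Scheme.Modules.restrictFunctor U.ι).map η) := M1.isIso_restrict_unit U.ι ω
      refine (@IsIso.epi_of_iso _ _ _ _ _ hi).left_cancellation _ _ ?_
      exact ((Functor.map_comp _ η (r ≫ η)).symm.trans
        ((congrArg _ ((Category.assoc η r η).symm.trans ((congrArg (fun q => q ≫ η) hηr).trans
          ((Category.id_comp η).trans (Category.comp_id η).symm)))).trans (Functor.map_comp _ η (𝟙 M))))
    simp only [Adjunction.homEquiv_counit]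
    exact congrArg (fun q => q ≫ _) h1
  have hiso : IsIso η := ⟨r, hηr, hrη⟩
  have hb := (RH26.isIso_unit_iff U).1 hiso V
  have hle : V ⊓ U ≤ U.ι ''ᵁ (U.ι ⁻¹ᵁ V) := fun y hy => (RH26.mem_image_preimage U V).2 hy
  have hge : U.ι ''ᵁ (U.ι ⁻¹ᵁ V) ≤ V ⊓ U := fun y hy => (RH26.mem_image_preimage U V).1 hy
  have hfun : (ω.presheaf.map (homOfLE (inf_le_left : V ⊓ U ≤ V)).op).hom =
      (M1.mres ω hle).hom.comp (M1.mres ω (U.ι.image_preimage_le V)).hom :=
    AddMonoidHom.ext fun s => (M1.mres_mres ω (U.ι.image_preimage_le V) hle s).symm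
  rw [hfun]
  exact (Curve17.mres_bijective_of_le ω hle hge).comp hb


end Groth.Agent.S14190
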