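import Groth.Statements.S14191
import Groth.Agent.Lib.DlzCurve17.DvrWitness
import Groth.Agent.Lib.AbDual21.Phi
import Groth.Agent.Lib.AbRigid.SmoothGI
import Groth.Agent.Lib.HdgLef1.Geo
import Groth.Agent.Lib.ArInter.ModelInt

set_option autoImplicit false
set_option linter.style.haveILetI false
set_option backward.isDefEq.respectTransparency false
set_option backward.isDefEq.respectTransparency.types false
set_option maxHeartbeats 1000000
universe u
open CategoryTheory CategoryTheory.Limits AlgebraicGeometry Opposite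
open Models

namespace Groth.Agent.S14191

open Groth.Agent.M1 Groth.Agent.CurveCoh17 Groth.Agent.CohFound

/-- The trace of a dualizing pair is injective once `H¹(O)` is free and the constants are the base. -/
theorem injective_trace {R : Type u} [CommRing R] [IsDomain R] [IsPrincipalIdealRing R] [IsNoetherianRing R]
    {X : Scheme.{u}} [X.Over (Spec (CommRingCat.of R))] [IsProper (X ↘ Spec (CommRingCat.of R))]
    {ω : X.Modules} {tr : Coh.HH X ω 1 →ₗ[R] R} (hω : Canon.IsRDualOver R X 1 ω tr)
    (hcf : Module.Free R (Coh.HH X (Coh.structureModule X) 1))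
    (hsurj : Function.Surjective (Coh.toGlobal (X ↘ Spec (CommRingCat.of R)))) : Function.Injective tr := by
  haveI : IsNoetherian X := CohFound.isNoetherian_of_isProper (X ↘ Spec (CommRingCat.of R))
  haveI : X.IsSeparated := ⟨by
    have e : terminal.from X = (X ↘ Spec (CommRingCat.of R)) ≫ terminal.from _ := terminal.hom_ext _ _
    rw [e]; infer_instance⟩
  rw [← LinearMap.ker_eq_bot, eq_bot_iff]
  intro w hw
  rw [Submodule.mem_bot]
  obtain ⟨P, e, he, hPq, hP1⟩ := DlzCurve17.exists_mono_h1_zero R hω.1
  haveI := he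
  let S : ShortComplex X.Modules := ShortComplex.mk e (cokernel.π e) (cokernel.condition e)
  have hS : S.ShortExact := { exact := ShortComplex.exact_of_g_is_cokernel _ (cokernelIsCokernel e) }
  obtain ⟨z, hz⟩ := (exact_hdelta_hmap R hS 0 w).1 (Subsingleton.elim (h := hP1) _ _)
  let c : Γ(cokernel e, ⊤) := hh0 _ z
  let D : P ⊞ Coh.structureModule X ⟶ cokernel e :=
    biprod.desc (cokernel.π e) (-(M1.secHom c))
  have hO := (M1.isCoh_structureModule X).1
  have hE : Coh.IsQCoh (kernel D) :=
    M1.isQCoh_kernel (M1.isQCoh_biprod hPq hO) (M1.isQCoh_cokernel hω.1 hPq e) D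
  let u : ω ⟶ kernel D := kernel.lift D (e ≫ biprod.inl) (by simp [D])
  let v : kernel D ⟶ Coh.structureModule X := kernel.ι D ≫ biprod.snd
  let a : kernel D ⟶ P := kernel.ι D ≫ biprod.fst
  have hav : a ≫ cokernel.π e = v ≫ M1.secHom c := by
    have h1 : kernel.ι D ≫ (biprod.fst ≫ cokernel.π e + biprod.snd ≫ (-(M1.secHom c))) = 0 := by
      rw [← biprod.desc_eq]; exact kernel.condition D
    simp only [Preadditive.comp_add, Preadditive.comp_neg, add_neg_eq_zero] at h1
    simpa [a, v] using h1
  have huv : u ≫ v = 0 := by simp [u, v]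
  let T : ShortComplex X.Modules := ShortComplex.mk u v huv
  haveI hu : Mono u := by
    haveI : Mono (u ≫ a) := by
      rw [show u ≫ a = e by simp [u, a]]
      exact he
    exact mono_of_mono u a
  haveI hv : Epi v := by
    rw [epi_iff_surjective_up_to_refinements]
    intro A y
    obtain ⟨A', q, hq, x0, hx0⟩ := surjective_up_to_refinements_of_epi (cokernel.π e) (y ≫ M1.secHom c)
    refine ⟨A', q, hq, kernel.lift D (biprod.lift x0 (q ≫ y)) ?_, ?_⟩
    · rw [biprod.lift_desc, Preadditive.comp_neg, Category.assoc, hx0, add_neg_cancel]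
    · simp [v]
  have hT : T.ShortExact :=
    { exact := by
        rw [ShortComplex.exact_iff_exact_up_to_refinements]
        intro A y hy
        have h1 : (y ≫ a) ≫ cokernel.π e = 0 := by
          rw [Category.assoc, hav, ← Category.assoc, show y ≫ v = 0 from hy, zero_comp]
        obtain ⟨A', q, hq, b, hb⟩ := (ShortComplex.exact_iff_exact_up_to_refinements _).1 hS.exact (y ≫ a) h1
        refine ⟨A', q, hq, b, ?_⟩
        rw [← cancel_mono (kernel.ι D)]
        apply biprod.hom_ext
        · simp only [Category.assoc]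
          refine hb.trans ?_
          simp [T, u, S]
        · simp only [Category.assoc]
          rw [show y ≫ kernel.ι D ≫ biprod.snd = 0 from hy]
          simp [T, u] }
  let one' : Coh.HH X (Coh.structureModule X) 0 := (hh0 _).symm (one ⊤)
  have hone : hmap R (M1.secHom c) 0 one' = z := by
    refine (hh0 _).injective ((hh0_hmap R (M1.secHom c) one').trans ?_)
    rw [AddEquiv.apply_symm_apply, secHom_app_one]
  let φ : T ⟶ S := { τ₁ := 𝟙 _, τ₂ := a, τ₃ := M1.secHom c, comm₁₂ := by simp [T, S, u, a], comm₂₃ := hav }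
  have hnat : ∀ x, hdelta R hT 0 x = hdelta R hS 0 (hmap R (M1.secHom c) 0 x) := fun x =>
    (hmap_id R ω 1 _).symm.trans (DVRTriv4.hdelta_natural R hT hS φ 0 x)
  have hker : LinearMap.ker (hmap R u 1) ≤ LinearMap.ker tr := fun x hx => by
    obtain ⟨b, rfl⟩ := (exact_hdelta_hmap R hT 0 x).1 hx
    obtain ⟨r, hr⟩ := hsurj (show Γ(X, ⊤) from hh0 _ b)
    have hb : b = r • one' := by
      refine (hh0 _).injective (Eq.trans ?_ (hh0_smul (M := Coh.structureModule X) _ one').symm)
      rw [AddEquiv.apply_symm_apply]
      exact hr.symm.trans (mul_one (show Γ(X, ⊤) from Coh.toGlobal (X ↘ Spec (CommRingCat.of R)) r)).symm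
    rw [LinearMap.mem_ker, hnat, hb, map_smul, map_smul, map_smul, hone, hz, LinearMap.mem_ker.1 hw, smul_zero]
  haveI : Module.Finite R (Coh.HH X (Coh.structureModule X) 1) :=
    CohFound.finite_HH_of_isProper _ (M1.isCoh_structureModule X) 1
  haveI : Module.Finite R (LinearMap.range (hmap R v 1)) :=
    Module.Finite.iff_fg.2 (IsNoetherian.noetherian _)
  haveI : Module.IsTorsionFree R (LinearMap.range (hmap R v 1)) :=
    Function.Injective.moduleIsTorsionFree (LinearMap.range (hmap R v 1)).subtype Subtype.val_injective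
      fun _ _ => rfl
  haveI : Module.Free R (LinearMap.range (hmap R v 1)) := Module.free_of_finite_type_torsion_free'
  haveI : Module.Projective R (LinearMap.range (hmap R v 1)) := Module.Projective.of_free
  obtain ⟨s, hs⟩ := (hmap R v 1).rangeRestrict.exists_rightInverse_of_surjective
    (hmap R v 1).range_rangeRestrict
  let pr : Coh.HH X (kernel D) 1 →ₗ[R] LinearMap.range (hmap R u 1) :=
    (LinearMap.id - s.comp (hmap R v 1).rangeRestrict).codRestrict _ fun y => by
      refine (exact_hmap_hmap R hT 1 _).1 ?_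
      have h1 := congrArg Subtype.val (LinearMap.congr_fun hs ((hmap R v 1).rangeRestrict y))
      simp only [LinearMap.sub_apply, LinearMap.id_apply, LinearMap.comp_apply, map_sub]
      exact sub_eq_zero.2 h1.symm
  let Tr : Coh.HH X (kernel D) 1 →ₗ[R] R :=
    ((LinearMap.ker (hmap R u 1)).liftQ tr hker).comp
      ((hmap R u 1).quotKerEquivRange.symm.toLinearMap.comp pr)
  obtain ⟨ρ, hρ⟩ := (hω.2 (kernel D) hE).2 Tr
  have hTr : ∀ x, Tr (hmap R u 1 x) = tr x := fun x => by
    have h0 : hmap R v 1 (hmap R u 1 x) = 0 := (exact_hmap_hmap R hT 1).apply_apply_eq_zero x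
    have h1 : pr (hmap R u 1 x) = ⟨hmap R u 1 x, LinearMap.mem_range_self _ x⟩ := Subtype.ext (by
      show hmap R u 1 x - s ((hmap R v 1).rangeRestrict (hmap R u 1 x)) = _
      rw [show (hmap R v 1).rangeRestrict (hmap R u 1 x) = 0 from Subtype.ext h0, map_zero, sub_zero])
    show ((LinearMap.ker (hmap R u 1)).liftQ tr hker) ((hmap R u 1).quotKerEquivRange.symm (pr (hmap R u 1 x))) = _
    rw [h1, LinearMap.quotKerEquivRange_symm_apply_image]
    rfl
  have hret : u ≫ ρ = 𝟙 ω := by
    refine (hω.2 ω hω.1).1 (LinearMap.ext fun x => ?_)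
    refine Eq.trans ?_ ((hTr x).trans ?_)
    · rw [← hρ]
      exact congrArg tr (hmap_comp R u ρ 1 x)
    · exact congrArg tr (hmap_id R ω 1 x).symm
  have hinj : Function.Injective (hmap R u 1) := fun x y hxy => by
    have h1 := congrArg (hmap R ρ 1) hxy
    rwa [← hmap_comp, ← hmap_comp, hret, hmap_id, hmap_id] at h1
  refine hinj ?_
  rw [map_zero, ← hz, ← hone, ← hnat]
  exact (exact_hdelta_hmap R hT 0).apply_apply_eq_zero one'

/-- Let R be a discrete valuation ring with fraction field K, let C be a proper K-curve which is smooth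
of relative dimension 1 and geometrically connected over K, and let X be a model of C over R (flat
and of finite type over R with generic fibre C) which is proper over R and normal; so X is a proper
relative curve over R. Let (ω, tr) be a 1-dualizing pair for X over R: ω is a quasi-coherent
O_X-module and tr : H¹(X, ω) → R an R-linear map such that φ ↦ tr ∘ H¹(φ) is a bijection from Hom(F,
ω) onto Hom_R(H¹(X, F), R) for every quasi-coherent F. Suppose that H¹(X, O_X) is a free R-module,
which for such X says that X → Spec R is cohomologically flat in dimension 0. Then H¹(X, ω) is a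
free R-module and its rank equals the rank of the free R-module H⁰(X, O_X); that is, H¹(X, ω) is
R-dual to H⁰(X, O_X) up to isomorphism. (The published statement is phrased for the relative
dualizing sheaf of duality theory and its higher direct image R¹f_*; over the affine base Spec R a
1-dualizing pair in the above global-sections sense determines that sheaf up to isomorphism, and
local freeness of R¹f_* is freeness of H¹.) -/
theorem result (R : Type u) [CommRing R] [IsDomain R] [IsDiscreteValuationRing R]
    (X C : Scheme.{u}) [X.Over (Spec (CommRingCat.of R))]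
    (f : C ⟶ Spec (CommRingCat.of (FractionRing R)))
    [SmoothOfRelativeDimension 1 f] [IsProper f] [GeometricallyConnected f]
    (hX : Models.IsModel R X (X ↘ Spec (CommRingCat.of R)) C f)
    [IsProper (X ↘ Spec (CommRingCat.of R))] (hn : Pi1.IsNormalScheme X)
    (ω : X.Modules) (tr : Coh.HH X ω 1 →ₗ[R] R) (hω : Canon.IsRDualOver R X 1 ω tr)
    (hcf : Module.Free R (Coh.HH X (Coh.structureModule X) 1)) :
    Module.Free R (Coh.HH X ω 1) ∧
      Module.finrank R (Coh.HH X ω 1) = Module.finrank R (Coh.HH X (Coh.structureModule X) 0) := by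
  haveI : Smooth f := SmoothOfRelativeDimension.smooth 1 f
  haveI := AbRigid.geometricallyReduced_of_smooth f
  have hfb := AbDual21.bijective_appTop f
  haveI : IsIntegral C := ArInter.isIntegral_of_smooth_constants f hfb
  have hdim : topologicalKrullDim C = ((1 : ℕ) : WithBot ℕ∞) :=
    HdgLef1.dim_eq_of_smoothOfRelativeDimension (FractionRing R) f 1
  obtain ⟨hflat, hlft, -, g, hg⟩ := hX
  haveI : ∀ x : X, _root_.IsReduced (X.presheaf.stalk x) := fun x =>
    haveI := (hn x).1
    inferInstance
  haveI : AlgebraicGeometry.IsReduced X := isReduced_of_isReduced_stalk X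
  have hgen : IsGenericPoint (g.base (genericPoint C)) (Set.univ : Set X) :=
    Set.eq_univ_of_forall fun x => specializes_iff_mem_closure.mp (ArInter.genericPoint_eq_image hflat hlft hg x)
  haveI : IrreducibleSpace X := (irreducibleSpace_def X).mpr hgen.isIrreducible
  haveI : IsIntegral X := isIntegral_of_irreducibleSpace_of_isReduced X
  let p := X ↘ Spec (CommRingCat.of R)
  let ψ : FractionRing R →+* Γ(C, ⊤) := Coh.toGlobal f
  have hψ : Function.Bijective ψ := hfb.comp
    (ConcreteCategory.bijective_of_isIso (Scheme.ΓSpecIso (CommRingCat.of (FractionRing R))).inv)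
  have hcomm : g.appTop.hom.comp (Coh.toGlobal p) = ψ.comp (algebraMap R (FractionRing R)) := by
    ext r
    have h2 := congrArg (fun π => ((Scheme.ΓSpecIso (CommRingCat.of R)).inv ≫ π.appTop).hom r) hg.w
    simp only [Scheme.Hom.comp_appTop] at h2
    rw [← Scheme.ΓSpecIso_inv_naturality_assoc] at h2
    exact h2
  have hginj := ArInter.appTop_injective_of_generic g (ArInter.genericPoint_eq_image hflat hlft hg)
  let j : Γ(X, ⊤) →+* FractionRing R := ((RingEquiv.ofBijective ψ hψ).symm : _ →+* _).comp g.appTop.hom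
  have hj : Function.Injective j := (RingEquiv.ofBijective ψ hψ).symm.injective.comp hginj
  have hjφ : j.comp (Coh.toGlobal p) = algebraMap R (FractionRing R) := by
    rw [RingHom.comp_assoc, hcomm]
    ext r
    exact (RingEquiv.ofBijective ψ hψ).symm_apply_apply _
  have hφ : Function.Bijective (Coh.toGlobal p) := by
    refine ⟨fun a b hab => IsFractionRing.injective R (FractionRing R) ?_, fun a => ?_⟩
    · rw [← hjφ]
      exact congrArg j hab
    · letI : Algebra R Γ(X, ⊤) := RingHom.toAlgebra (show R →+* Γ(X, ⊤) from Coh.toGlobal p)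
      haveI : Module.Finite R Γ(X, ⊤) := HensProper6.finite_toGlobal p
      let jA : Γ(X, ⊤) →ₐ[R] FractionRing R := { j with commutes' := RingHom.congr_fun hjφ }
      obtain ⟨r, hr⟩ := IsIntegrallyClosed.algebraMap_eq_of_integral
        ((IsIntegral.of_finite R (show Γ(X, ⊤) from a)).map jA)
      exact ⟨r, hj (((RingHom.congr_fun hjφ r)).trans hr)⟩
  have hinj : Function.Injective tr := injective_trace hω hcf hφ.2
  -- two closed points on the generic fibre
  haveI : JacobsonSpace C := LocallyOfFiniteType.jacobsonSpace f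
  obtain ⟨Q₁, -, hQ₁⟩ := nonempty_inter_closedPoints (Z := (Set.univ : Set C)) Set.univ_nonempty
    isOpen_univ.isLocallyClosed
  rw [mem_closedPoints_iff] at hQ₁
  have hη : genericPoint C ≠ Q₁ := fun h => by
    have huniv : (Set.univ : Set C) = {Q₁} := by
      rw [← (genericPoint_spec C).def, h, hQ₁.closure_eq]
    haveI : Subsingleton C := ⟨fun a b => (show a ∈ ({Q₁} : Set C) from huniv ▸ Set.mem_univ a).trans
      (show b ∈ ({Q₁} : Set C) from huniv ▸ Set.mem_univ b).symm⟩
    have h01 : topologicalKrullDim C ≤ 0 := Order.krullDim_nonpos_iff_forall_isMax.2 fun Z W hWZ y _ => by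
      obtain ⟨z, hz⟩ := Z.isIrreducible'.nonempty
      rw [Subsingleton.elim y z]
      exact hz
    rw [hdim] at h01
    exact absurd h01 (by decide)
  obtain ⟨Q₂, hQ₂', hQ₂⟩ := nonempty_inter_closedPoints (Z := ({Q₁} : Set C)ᶜ) ⟨genericPoint C, hη⟩
    hQ₁.isOpen_compl.isLocallyClosed
  rw [mem_closedPoints_iff] at hQ₂
  obtain ⟨F, hF, θ, hθ⟩ := DlzCurve17.exists_functional hg hQ₁ hQ₂ (fun h => hQ₂' h.symm) hφ.2
  have htr : tr ≠ 0 := fun h0 => by
    obtain ⟨φ', hφ'⟩ := (hω.2 F hF.1).2 θ
    refine hθ (hφ'.symm.trans (LinearMap.ext fun x => ?_))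
    show tr _ = 0
    rw [h0]; rfl
  obtain ⟨d, hd⟩ := (IsPrincipalIdealRing.principal (LinearMap.range tr)).principal
  have hd0 : d ≠ 0 := fun h => htr (LinearMap.range_eq_bot.1 (by rw [hd, h]; simp))
  let eω : Coh.HH X ω 1 ≃ₗ[R] R := (LinearEquiv.ofInjective tr hinj).trans
    ((LinearEquiv.ofEq _ _ hd).trans (LinearEquiv.toSpanNonzeroSingleton R R d hd0).symm)
  refine ⟨Module.Free.of_equiv eω.symm, ?_⟩
  let one' : Coh.HH X (Coh.structureModule X) 0 := (hh0 _).symm (one ⊤)
  have hb : Function.Bijective (LinearMap.toSpanSingleton R _ one') := by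
    have key : ∀ r : R, hh0 _ (r • one') = (show Γ(Coh.structureModule X, ⊤) from Coh.toGlobal p r) := fun r => by
      refine (hh0_smul (M := Coh.structureModule X) _ one').trans ?_
      rw [AddEquiv.apply_symm_apply]
      exact mul_one (show Γ(X, ⊤) from Coh.toGlobal p r)
    refine ⟨fun r r' h => hφ.1 ?_, fun b => ?_⟩
    · exact (key r).symm.trans ((congrArg (hh0 _) h).trans (key r'))
    · obtain ⟨r, hr⟩ := hφ.2 (show Γ(X, ⊤) from hh0 _ b)
      exact ⟨r, (hh0 _).injective ((key r).trans hr)⟩
  rw [eω.finrank_eq, ← (LinearEquiv.ofBijective _ hb).finrank_eq]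

end Groth.Agent.S14191
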