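import Groth.Statements.S14192
import Mathlib.RingTheory.PowerSeries.Derivative
import Mathlib.RingTheory.PowerSeries.Exp

set_option autoImplicit false
open PowerSeries
open StackCount

namespace Groth.Agent.S14192

open PowerSeries

lemma eq_of_derivative_eq_mul {f g h : PowerSeries ℚ} (hf : d⁄dX ℚ f = h * f) (hg : d⁄dX ℚ g = h * g)
    (h0 : constantCoeff f = constantCoeff g) : f = g := by
  ext n
  induction n using Nat.strong_induction_on with
  | _ n ih =>
    cases n with
    | zero => simpa using h0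
    | succ m =>
      have e1 := congrArg (coeff m) hf
      have e2 := congrArg (coeff m) hg
      rw [coeff_derivative, coeff_mul] at e1 e2
      have hs : ∑ ij ∈ Finset.HasAntidiagonal.antidiagonal m, coeff ij.1 h * coeff ij.2 f = ∑ ij ∈ Finset.HasAntidiagonal.antidiagonal m, coeff ij.1 h * coeff ij.2 g := by
        refine Finset.sum_congr rfl fun ij hij => ?_
        rw [ih ij.2 (by have := Finset.HasAntidiagonal.mem_antidiagonal.mp hij; omega)]
      have e3 := e1.trans (hs.trans e2.symm)
      have : (m : ℚ) + 1 ≠ 0 := by positivity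
      exact mul_right_cancel₀ this e3

noncomputable def geom (a : ℚ) : PowerSeries ℚ := mk fun v => a ^ (v + 1)

lemma geom_mul (a : ℚ) : geom a * (1 - C a * X) = C a := by
  ext n
  cases n with
  | zero => simp [geom]
  | succ m =>
    simp [geom, mul_sub, ← mul_assoc, coeff_C]
    ring

lemma derivative_one_sub_pow (a : ℚ) (m : ℕ) :
    d⁄dX ℚ ((1 - C a * X) ^ m) = (-(m : PowerSeries ℚ) * geom a) * (1 - C a * X) ^ m := by
  cases m with
  | zero => simp
  | succ k =>
    rw [derivative_pow, map_sub, Derivation.map_one_eq_zero, Derivation.leibniz, derivative_C, derivative_X]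
    simp only [smul_eq_mul, mul_zero, add_zero, mul_one, zero_sub, Nat.add_sub_cancel, pow_succ]
    have h := geom_mul a
    calc ((k + 1 : ℕ) : PowerSeries ℚ) * (1 - C a * X) ^ k * -C a
        = -((k + 1 : ℕ) : PowerSeries ℚ) * (1 - C a * X) ^ k * (geom a * (1 - C a * X)) := by rw [h]; ring
      _ = _ := by ring

lemma derivative_prod_one_sub {ι : Type*} (s : Finset ι) (a : ι → ℚ) (m : ι → ℕ) :
    d⁄dX ℚ (∏ i ∈ s, (1 - C (a i) * X) ^ m i) =
      (∑ i ∈ s, -(m i : PowerSeries ℚ) * geom (a i)) * ∏ i ∈ s, (1 - C (a i) * X) ^ m i := by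
  classical
  induction s using Finset.induction_on with
  | empty => simp
  | insert i s hi ih =>
    rw [Finset.prod_insert hi, Finset.sum_insert hi, Derivation.leibniz, ih, derivative_one_sub_pow]
    simp only [smul_eq_mul]; ring


/-- Let R = Σ_n r_n X^n be a Laurent polynomial with integer coefficients and q > 1 an integer. In the
ring of formal power series in t over ℚ, the exponential of Σ_{v ≥ 1} R(q^v) t^v / v equals the
finite product Π_n (1 - q^n t)^(-r_n). Stated here with denominators cleared: the exponential series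
multiplied by Π_{n : r_n > 0} (1 - q^n t)^(r_n) equals Π_{n : r_n < 0} (1 - q^n t)^(-r_n) (each
factor 1 - q^n t is a unit, so this is equivalent). -/
theorem result (R : LaurentPolynomial ℤ) (q : ℤ) (hq : 1 < q) :
    (PowerSeries.exp ℚ).subst
        (PowerSeries.mk fun v : ℕ => if v = 0 then (0 : ℚ)
          else (R.coeff.sum fun (n : ℤ) (r : ℤ) => (r : ℚ) * (q : ℚ) ^ (n * (v : ℤ))) / (v : ℚ))
      * ∏ n ∈ R.coeff.support, (1 - PowerSeries.C ((q : ℚ) ^ n) * PowerSeries.X) ^ (R.coeff n).toNat
    = ∏ n ∈ R.coeff.support, (1 - PowerSeries.C ((q : ℚ) ^ n) * PowerSeries.X) ^ (-(R.coeff n)).toNat := by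
  set f : PowerSeries ℚ := PowerSeries.mk fun v : ℕ => if v = 0 then (0 : ℚ)
      else (R.coeff.sum fun (n : ℤ) (r : ℤ) => (r : ℚ) * (q : ℚ) ^ (n * (v : ℤ))) / (v : ℚ) with hf
  have hf0 : PowerSeries.constantCoeff f = 0 := by simp [hf]
  have hs : PowerSeries.HasSubst f := PowerSeries.HasSubst.of_constantCoeff_zero' hf0
  set S := R.coeff.support
  have hdf : d⁄dX ℚ f = ∑ n ∈ S, (R.coeff n : PowerSeries ℚ) * geom ((q : ℚ) ^ n) := by
    ext v
    rw [PowerSeries.coeff_derivative, map_sum]
    have hv : ((v + 1 : ℕ) : ℚ) ≠ 0 := by positivity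
    simp only [hf, PowerSeries.coeff_mk, Nat.succ_ne_zero, if_false, Finsupp.sum]
    rw [show ((v : ℚ) + 1) = ((v + 1 : ℕ) : ℚ) by push_cast; ring, div_mul_cancel₀ _ hv]
    refine Finset.sum_congr rfl fun n _ => ?_
    rw [← map_intCast (PowerSeries.C : ℚ →+* PowerSeries ℚ), PowerSeries.coeff_C_mul, geom, PowerSeries.coeff_mk]
    rw [zpow_mul, zpow_natCast]
  refine eq_of_derivative_eq_mul (h := ∑ n ∈ S, -((-(R.coeff n)).toNat : PowerSeries ℚ) * geom ((q : ℚ) ^ n)) ?_ (derivative_prod_one_sub _ _ _) ?_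
  · rw [Derivation.leibniz, derivative_prod_one_sub, PowerSeries.derivative_subst hs, PowerSeries.derivative_exp, hdf]
    simp only [smul_eq_mul]
    have key : (∑ n ∈ S, (R.coeff n : PowerSeries ℚ) * geom ((q : ℚ) ^ n)) + ∑ n ∈ S, -((R.coeff n).toNat : PowerSeries ℚ) * geom ((q : ℚ) ^ n) =
        ∑ n ∈ S, -((-(R.coeff n)).toNat : PowerSeries ℚ) * geom ((q : ℚ) ^ n) := by
      rw [← Finset.sum_add_distrib]
      refine Finset.sum_congr rfl fun n _ => ?_
      conv_lhs => enter [1, 1]; rw [← Int.toNat_sub_toNat_neg (R.coeff n)]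
      push_cast; ring
    rw [← key]; ring
  · rw [map_mul, map_prod, map_prod]
    have : PowerSeries.constantCoeff ((PowerSeries.exp ℚ).subst f) = 1 := by
      have h1 : PowerSeries.exp ℚ = (PowerSeries.exp ℚ - 1) + 1 := by ring
      rw [h1, PowerSeries.subst_add hs, map_add]
      have h2 : PowerSeries.constantCoeff ((PowerSeries.exp ℚ - 1).subst f) = 0 :=
        PowerSeries.constantCoeff_subst_eq_zero hf0 _ (by simp)
      rw [h2, ← map_one (PowerSeries.C : ℚ →+* PowerSeries ℚ), PowerSeries.subst_C]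
      simp [PowerSeries.constantCoeff, MvPowerSeries.constantCoeff_C]
    simp [this]

end Groth.Agent.S14192
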