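import Groth.Statements.S14193
import Mathlib.Analysis.Complex.Polynomial.Basic
import Mathlib.RingTheory.PowerSeries.Exp
import Mathlib.RingTheory.PowerSeries.Derivative
import Mathlib.Analysis.Complex.Norm

set_option autoImplicit false
open PowerSeries
open StackCount

namespace Groth.Agent.S14193

open Polynomial in
theorem good {F : RatFunc ℚ} (hF : F ∈ Subring.closure
      (({RatFunc.X, (RatFunc.X : RatFunc ℚ)⁻¹} : Set (RatFunc ℚ)) ∪
        Set.range fun n : ℕ => ((RatFunc.X : RatFunc ℚ) ^ (n + 1) - 1)⁻¹)) :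
    ∃ A B : Polynomial ℤ, B.Monic ∧ (∀ z : ℂ, aeval z B = 0 → z = 0 ∨ ‖z‖ = 1) ∧
      F * algebraMap (Polynomial ℚ) (RatFunc ℚ) (B.map (Int.castRingHom ℚ)) =
        algebraMap (Polynomial ℚ) (RatFunc ℚ) (A.map (Int.castRingHom ℚ)) := by
  induction hF using Subring.closure_induction with
  | mem x hx =>
    rcases hx with (rfl | rfl) | ⟨n, rfl⟩
    · exact ⟨Polynomial.X, 1, monic_one, fun z hz => by simp at hz, by simp⟩
    · exact ⟨1, Polynomial.X, monic_X, fun z hz => by simpa using Or.inl hz, by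
        simp [RatFunc.X_ne_zero]⟩
    · refine ⟨1, Polynomial.X ^ (n + 1) - 1, ?_, fun z hz => ?_, ?_⟩
      · simpa using monic_X_pow_sub_C (1 : ℤ) (Nat.succ_ne_zero n)
      · right
        have : z ^ (n + 1) = 1 := by simpa [sub_eq_zero] using hz
        exact Complex.norm_eq_one_of_pow_eq_one this (Nat.succ_ne_zero n)
      · have hne : (RatFunc.X : RatFunc ℚ) ^ (n + 1) - 1 ≠ 0 := by
          intro h
          have h2 : algebraMap (Polynomial ℚ) (RatFunc ℚ) (Polynomial.X ^ (n + 1) - Polynomial.C 1) = 0 := by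
            simpa using h
          rw [FaithfulSMul.algebraMap_eq_zero_iff] at h2
          exact X_pow_sub_C_ne_zero (Nat.succ_pos n) 1 h2
        simp [Polynomial.map_sub, Polynomial.map_pow, inv_mul_cancel₀ hne]
  | zero => exact ⟨0, 1, monic_one, fun z hz => by simp at hz, by simp⟩
  | one => exact ⟨1, 1, monic_one, fun z hz => by simp at hz, by simp⟩
  | add x y _ _ hx hy =>
    obtain ⟨A, B, hB, hr, h⟩ := hx
    obtain ⟨A', B', hB', hr', h'⟩ := hy
    refine ⟨A * B' + A' * B, B * B', hB.mul hB', fun z hz => ?_, ?_⟩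
    · rw [map_mul, mul_eq_zero] at hz
      exact hz.elim (hr z) (hr' z)
    · simp only [Polynomial.map_add, Polynomial.map_mul, map_add, map_mul, ← h, ← h']
      ring
  | neg x _ hx =>
    obtain ⟨A, B, hB, hr, h⟩ := hx
    exact ⟨-A, B, hB, hr, by rw [Polynomial.map_neg, map_neg, neg_mul, h]⟩
  | mul x y _ _ hx hy =>
    obtain ⟨A, B, hB, hr, h⟩ := hx
    obtain ⟨A', B', hB', hr', h'⟩ := hy
    refine ⟨A * A', B * B', hB.mul hB', fun z hz => ?_, ?_⟩
    · rw [map_mul, mul_eq_zero] at hz
      exact hz.elim (hr z) (hr' z)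
    · simp only [Polynomial.map_mul, map_mul, ← h, ← h']
      ring

/-- The linear recurrence from rationality of the exponential. -/
theorem recurrence (a : ℕ → ℚ) {P Q : Polynomial ℚ} (hQ : Q ≠ 0)
    (h : (PowerSeries.exp ℚ).subst (PowerSeries.mk fun v : ℕ => if v = 0 then (0 : ℚ) else a v / (v : ℚ))
        * (Q : PowerSeries ℚ) = (P : PowerSeries ℚ)) :
    ∃ (e : ℕ) (c : ℕ → ℚ), c 0 ≠ 0 ∧ ∃ M, ∀ m ≥ M, ∑ i ∈ Finset.range (e + 1), c i * a (m + i) = 0 := by
  set g : PowerSeries ℚ := PowerSeries.mk fun v : ℕ => if v = 0 then (0 : ℚ) else a v / (v : ℚ)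
  have hg : HasSubst g := HasSubst.of_constantCoeff_zero' (by simp [g])
  set E := (PowerSeries.exp ℚ).subst g
  have hE : E ≠ 0 := by
    intro h0
    have h1 : PowerSeries.constantCoeff E = 1 := by
      rw [show E = (PowerSeries.exp ℚ).subst g from rfl]
      rw [← PowerSeries.coeff_zero_eq_constantCoeff_apply, coeff_subst' hg,
        finsum_eq_single _ 0]
      · simp
      · intro d hd
        simp [g, zero_pow hd]
    simp [h0] at h1
  have hQ' : (Q : PowerSeries ℚ) ≠ 0 := by simpa using hQ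
  have hP : P ≠ 0 := by
    intro h0; rw [h0, Polynomial.coe_zero] at h; exact mul_ne_zero hE hQ' h
  have hdE : d⁄dX ℚ E = E * d⁄dX ℚ g := by
    rw [show E = (PowerSeries.exp ℚ).subst g from rfl, derivative_subst hg, derivative_exp]
  have hd := congrArg (d⁄dX ℚ) h
  rw [Derivation.leibniz, derivative_coe, derivative_coe, hdE, smul_eq_mul, smul_eq_mul] at hd
  have key : d⁄dX ℚ g * ((P * Q : Polynomial ℚ) : PowerSeries ℚ) =
      ((Polynomial.derivative P * Q - P * Polynomial.derivative Q : Polynomial ℚ) : PowerSeries ℚ) := by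
    push_cast
    rw [← h, ← hd]
    ring
  set D := P * Q with hDdef
  have hD : D ≠ 0 := mul_ne_zero hP hQ
  refine ⟨D.natDegree, fun i => D.coeff (D.natDegree - i), by simpa using Polynomial.leadingCoeff_ne_zero.2 hD,
    (Polynomial.derivative P * Q - P * Polynomial.derivative Q).natDegree + 2, fun m hm => ?_⟩
  obtain ⟨w, rfl⟩ : ∃ w, m = w + 1 := ⟨m - 1, by omega⟩
  have hc := congrArg (PowerSeries.coeff (w + D.natDegree)) key
  rw [Polynomial.coeff_coe, Polynomial.coeff_eq_zero_of_natDegree_lt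
    (by omega : (Polynomial.derivative P * Q - P * Polynomial.derivative Q).natDegree < w + D.natDegree),
    mul_comm, PowerSeries.coeff_mul, Finset.Nat.sum_antidiagonal_eq_sum_range_succ_mk] at hc
  refine Eq.trans ?_ hc
  rw [← Finset.sum_range_reflect]
  rw [← Finset.sum_subset (s₁ := Finset.range (D.natDegree + 1))
    (s₂ := Finset.range (w + D.natDegree).succ) (by intro i hi; simp at hi ⊢; omega)
    (fun i _ hi => by
      rw [Finset.mem_range] at hi
      rw [Polynomial.coeff_coe, Polynomial.coeff_eq_zero_of_natDegree_lt (by omega), zero_mul])]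
  refine Finset.sum_congr rfl fun j hj => ?_
  rw [Finset.mem_range] at hj
  simp only [Polynomial.coeff_coe, g, PowerSeries.coeff_derivative, PowerSeries.coeff_mk, Nat.add_eq_zero_iff, one_ne_zero,
    and_false, if_false]
  rw [show D.natDegree - (D.natDegree + 1 - 1 - j) = j by omega,
    show w + 1 + (D.natDegree + 1 - 1 - j) = w + D.natDegree - j + 1 by omega]
  push_cast
  field_simp

open Polynomial in
theorem root_num_of_recurrence (N d : Polynomial ℚ) (q : ℚ) (hq : 1 < q)
    (hd : ∀ z : ℂ, aeval z d = 0 → z = 0 ∨ ‖z‖ = 1)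
    (e : ℕ) (c : ℕ → ℚ) (hc : c 0 ≠ 0) (M : ℕ)
    (hrec : ∀ m ≥ M, ∑ i ∈ Finset.range (e + 1), c i * (N.eval (q ^ (m + i)) / d.eval (q ^ (m + i))) = 0)
    (z : ℂ) (hz : z ≠ 0) (hdz : aeval z d = 0) : aeval z N = 0 := by
  classical
  let s : ℕ → Polynomial ℚ := fun i => Polynomial.C (q ^ i) * Polynomial.X
  let R : Polynomial ℚ := ∑ i ∈ Finset.range (e + 1),
    Polynomial.C (c i) * N.comp (s i) * ∏ l ∈ (Finset.range (e + 1)).erase i, d.comp (s l)
  have hne : ∀ v : ℕ, 1 ≤ v → d.eval (q ^ v) ≠ 0 := by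
    intro v hv h0
    have h1 : aeval ((algebraMap ℚ ℂ) (q ^ v)) d = 0 := by
      rw [aeval_algebraMap_apply, ← coe_aeval_eq_eval] at *
      simp [h0]
    have h2 : (1 : ℚ) < q ^ v := one_lt_pow₀ hq (by omega)
    rcases hd _ h1 with h | h
    · have : q ^ v = 0 := (algebraMap ℚ ℂ).injective (h.trans (map_zero _).symm)
      linarith
    · have h3 : ‖((q ^ v : ℚ) : ℂ)‖ = 1 := by simpa using h
      rw [show ((q ^ v : ℚ) : ℂ) = (((q ^ v : ℚ) : ℝ) : ℂ) by norm_cast, Complex.norm_real,
        Real.norm_eq_abs, abs_of_pos (by exact_mod_cast (by linarith : (0 : ℚ) < q ^ v))] at h3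
      have : q ^ v = 1 := by exact_mod_cast h3
      linarith
  have hR0 : R = 0 := by
    refine Polynomial.eq_zero_of_infinite_isRoot R (Set.Infinite.mono ?_
      ((Set.Ici_infinite (M + 1)).image (f := fun m : ℕ => q ^ m) fun a _ b _ h => pow_right_injective₀ (by linarith) (by linarith) h))
    rintro _ ⟨m, hm, rfl⟩
    show R.eval (q ^ m) = 0
    simp only [R, s, eval_finsetSum, eval_mul, eval_C, eval_comp, eval_X, eval_prod, ← pow_add]
    have hP : ∀ l ∈ Finset.range (e + 1), d.eval (q ^ (l + m)) ≠ 0 := fun l _ => hne _ (by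
      have : M + 1 ≤ m := hm
      omega)
    calc ∑ i ∈ Finset.range (e + 1), c i * N.eval (q ^ (i + m)) *
          ∏ l ∈ (Finset.range (e + 1)).erase i, d.eval (q ^ (l + m))
        = ∑ i ∈ Finset.range (e + 1), (c i * (N.eval (q ^ (m + i)) / d.eval (q ^ (m + i)))) *
          ∏ l ∈ Finset.range (e + 1), d.eval (q ^ (l + m)) := by
          refine Finset.sum_congr rfl fun i hi => ?_
          rw [← Finset.mul_prod_erase _ _ hi, Nat.add_comm m i]
          field_simp [hP i hi]
      _ = 0 := by rw [← Finset.sum_mul, hrec m (by have : M + 1 ≤ m := hm; omega), zero_mul]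
  have h := congrArg (aeval z) hR0
  simp only [R, s, map_sum, map_mul, map_prod, aeval_comp, aeval_C, aeval_X, map_zero] at h
  rw [Finset.sum_eq_single 0] at h
  · simp only [pow_zero, map_one, one_mul, mul_eq_zero, Finset.prod_eq_zero_iff] at h
    rcases h with (h | h) | ⟨l, hl, h⟩
    · exact absurd ((algebraMap ℚ ℂ).injective (h.trans (map_zero _).symm)) hc
    · exact h
    · rw [Finset.mem_erase] at hl
      exfalso
      have hzn : ‖z‖ = 1 := (hd z hdz).resolve_left hz
      have hq0 : (algebraMap ℚ ℂ) (q ^ l) ≠ 0 := by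
        rw [_root_.map_ne_zero]; exact pow_ne_zero _ (by linarith)
      rcases hd _ h with h' | h'
      · exact mul_ne_zero hq0 hz h'
      · rw [norm_mul, hzn, mul_one] at h'
        have h3 : ‖((q ^ l : ℚ) : ℂ)‖ = 1 := by simpa using h'
        have h2 : (1 : ℚ) < q ^ l := one_lt_pow₀ hq hl.1
        rw [show ((q ^ l : ℚ) : ℂ) = (((q ^ l : ℚ) : ℝ) : ℂ) by norm_cast, Complex.norm_real,
          Real.norm_eq_abs, abs_of_pos (by exact_mod_cast (by linarith : (0 : ℚ) < q ^ l))] at h3
        have : q ^ l = 1 := by exact_mod_cast h3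
        linarith
  · intro i hi hi0
    rw [mul_eq_zero]
    right
    refine Finset.prod_eq_zero (i := 0) (by simp [Ne.symm hi0]) ?_
    simpa using hdz
  · simp

/-- Let q > 1 be an integer and let F be an element of the subring of the rational function field ℚ(X)
generated by X, X^(-1) and the fractions 1/(X^n - 1) for n ≥ 1 (so F(q^v) is defined for every v ≥
1). If the formal power series exp(Σ_{v ≥ 1} F(q^v) t^v / v) in ℚ⟦t⟧ is the expansion of a rational
function, i.e. its product with some non-zero polynomial in t is a polynomial, then F is a Laurent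
polynomial with integer coefficients: F · X^a is the image of a polynomial with integer coefficients
for some a. (The published statement also assumes that the series defines a meromorphic function on
the complex plane; that is implied by rationality and is omitted here.) -/
theorem result (q : ℤ) (hq : 1 < q) (F : RatFunc ℚ)
    (hF : F ∈ Subring.closure
      (({RatFunc.X, (RatFunc.X : RatFunc ℚ)⁻¹} : Set (RatFunc ℚ)) ∪
        Set.range fun n : ℕ => ((RatFunc.X : RatFunc ℚ) ^ (n + 1) - 1)⁻¹))
    (hrat : ∃ P Q : Polynomial ℚ, Q ≠ 0 ∧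
      (PowerSeries.exp ℚ).subst
          (PowerSeries.mk fun v : ℕ => if v = 0 then (0 : ℚ)
            else F.eval (RingHom.id ℚ) ((q : ℚ) ^ v) / (v : ℚ))
        * (Q : PowerSeries ℚ) = (P : PowerSeries ℚ)) :
    ∃ (P : Polynomial ℤ) (a : ℕ),
      F * RatFunc.X ^ a = algebraMap (Polynomial ℚ) (RatFunc ℚ) (P.map (Int.castRingHom ℚ)) := by
  obtain ⟨A, B, hB, hBr, hAB⟩ := good hF
  obtain ⟨P, Q, hQ, hPQ⟩ := hrat
  obtain ⟨e, c, hc, M, hrec⟩ := recurrence (fun v => F.eval (RingHom.id ℚ) ((q : ℚ) ^ v)) hQ hPQ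
  have hBm : (B.map (Int.castRingHom ℚ)).Monic := hB.map _
  have hdvd : F.denom ∣ B.map (Int.castRingHom ℚ) := by
    rw [RatFunc.denom_dvd hBm.ne_zero]
    refine ⟨A.map (Int.castRingHom ℚ), ?_⟩
    rw [eq_div_iff (by simpa using RatFunc.algebraMap_ne_zero hBm.ne_zero), hAB]
  have hd : ∀ z : ℂ, Polynomial.aeval z F.denom = 0 → z = 0 ∨ ‖z‖ = 1 := by
    intro z hz
    refine hBr z ?_
    obtain ⟨r, hr⟩ := hdvd
    have := congrArg (Polynomial.aeval z) hr
    rw [map_mul, hz, zero_mul, show Int.castRingHom ℚ = algebraMap ℤ ℚ from rfl,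
      Polynomial.aeval_map_algebraMap] at this
    exact this
  have h0 : ∀ z : ℂ, Polynomial.aeval z F.denom = 0 → z = 0 := by
    intro z hz
    by_contra hne
    have hN := root_num_of_recurrence F.num F.denom (q : ℚ) (by exact_mod_cast hq) hd e c hc M
      (fun m hm => hrec m hm) z hne hz
    obtain ⟨u, v, huv⟩ := RatFunc.isCoprime_num_denom F
    have := congrArg (Polynomial.aeval z) huv
    simp [hN, hz] at this
  have hden : F.denom = Polynomial.X ^ F.denom.natDegree := by
    apply Polynomial.map_injective (algebraMap ℚ ℂ) (algebraMap ℚ ℂ).injective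
    have hm : (F.denom.map (algebraMap ℚ ℂ)).Monic := (RatFunc.monic_denom F).map _
    have hs : (F.denom.map (algebraMap ℚ ℂ)).Splits := IsAlgClosed.splits _
    rw [Polynomial.Splits.eq_prod_roots_of_monic hs hm, Polynomial.map_pow, Polynomial.map_X]
    rw [show (F.denom.map (algebraMap ℚ ℂ)).roots = Multiset.replicate F.denom.natDegree 0 from
      Multiset.eq_replicate.2 ⟨by rw [← hs.natDegree_eq_card_roots, Polynomial.natDegree_map],
        fun z hz => h0 z (by
          rw [Polynomial.mem_roots hm.ne_zero, Polynomial.IsRoot, Polynomial.eval_map_algebraMap] at hz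
          exact hz)⟩]
    simp
  set a := F.denom.natDegree
  have hFnum : F * RatFunc.X ^ a = algebraMap _ _ F.num := by
    conv_lhs => rw [← RatFunc.num_div_denom F]
    rw [hden, map_pow, RatFunc.algebraMap_X,
      div_mul_cancel₀ _ (pow_ne_zero _ RatFunc.X_ne_zero)]
  refine ⟨(Polynomial.X ^ a * A) /ₘ B, a, ?_⟩
  rw [hFnum]
  congr 1
  rw [Polynomial.map_divByMonic _ hB]
  have he : (Polynomial.X ^ a * A).map (Int.castRingHom ℚ) = B.map (Int.castRingHom ℚ) * F.num := by
    apply RatFunc.algebraMap_injective ℚ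
    rw [Polynomial.map_mul, Polynomial.map_pow, Polynomial.map_X, map_mul, map_mul, map_pow,
      RatFunc.algebraMap_X, ← hAB, ← hFnum]
    ring
  rw [he, Polynomial.mul_divByMonic_cancel_left _ hBm]

end Groth.Agent.S14193
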