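import Groth.Statements.S14194
import Groth.Agent.Lib.Chain19.Flag

set_option autoImplicit false
universe u
open W4c1btstackcounts
open StackCount

namespace Groth.Agent.S14194

open Module Groth.Agent.Chain19

variable {k : Type u} [Field k] {d : ℕ → ℕ}

/-- The image in `k^{d j}`, absolute indexing. -/
def im (f : (i : ℕ) → Matrix (Fin (d (i + 1))) (Fin (d i)) k) (i : ℕ) :
    (j : ℕ) → Submodule k (Fin (d j) → k)
  | 0 => ⊤
  | j + 1 => if j + 1 ≤ i then ⊤ else (im f i j).map (Matrix.toLin' (f j))

variable (f : (i : ℕ) → Matrix (Fin (d (i + 1))) (Fin (d i)) k)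

theorem im_self (i : ℕ) : im f i i = ⊤ := by
  cases i with
  | zero => rfl
  | succ i => simp [im]

theorem im_succ {i j : ℕ} (h : i ≤ j) : im f i (j + 1) = (im f i j).map (Matrix.toLin' (f j)) := by
  rw [im, if_neg (by omega)]

theorem im_add (i n : ℕ) : im f i (i + n) = iterImage f i n := by
  induction n with
  | zero => exact im_self f i
  | succ n ih => rw [show iterImage f i (n + 1) = (iterImage f i n).map (Matrix.toLin' (f (i + n))) from rfl, ← ih]
                 exact im_succ f (Nat.le_add_right i n)

theorem rankArray_eq {i j : ℕ} (h : i ≤ j) : rankArray f i j = finrank k (im f i j) := by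
  obtain ⟨n, rfl⟩ := Nat.exists_eq_add_of_le h
  rw [rankArray, if_pos h, im_add, Nat.add_sub_cancel_left]

theorem im_mono {i i' : ℕ} (h : i ≤ i') (j : ℕ) : im f i j ≤ im f i' j := by
  induction j with
  | zero => exact le_rfl
  | succ j ih =>
    rcases Nat.lt_or_ge j i' with h' | h'
    · conv_rhs => rw [im, if_pos (by omega)]
      exact le_top
    · rw [im_succ f (h.trans h'), im_succ f h']
      exact Submodule.map_mono ih

theorem isRankArray_rankArray (r : ℕ) : IsRankArray d r (rankArray f) := by
  refine ⟨fun j _ _ => ?_, fun i j _ hij _ => ?_, fun i j _ hij _ => ?_, fun i j hi hij _ => ?_⟩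
  · rw [rankArray_eq f le_rfl, im_self, finrank_top, finrank_fin_fun]
  · rw [rankArray_eq f hij.le, rankArray_eq f hij]
    exact Submodule.finrank_mono (im_mono f (Nat.le_succ i) j)
  · rw [rankArray_eq f (hij.trans (Nat.le_succ j)), rankArray_eq f hij, im_succ f hij]
    exact Submodule.finrank_map_le _ _
  · rw [rankArray_eq f (hij.trans (Nat.le_succ j)), rankArray_eq f hij, rankArray_eq f (by omega : i - 1 ≤ j),
      rankArray_eq f (by omega : i - 1 ≤ j + 1), im_succ f hij, im_succ f (by omega : i - 1 ≤ j)]
    have h1 := finrank_map_add_inf (Matrix.toLin' (f j)) (im f i j)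
    have h2 := finrank_map_add_inf (Matrix.toLin' (f j)) (im f (i - 1) j)
    have h3 : finrank k (im f (i - 1) j ⊓ LinearMap.ker (Matrix.toLin' (f j)) : Submodule k _) ≤
        finrank k (im f i j ⊓ LinearMap.ker (Matrix.toLin' (f j)) : Submodule k _) :=
      Submodule.finrank_mono (inf_le_inf_right _ (im_mono f (Nat.sub_le i 1) j))
    linarith

theorem rankArray_conj (g : (j : ℕ) → Matrix.GeneralLinearGroup (Fin (d j)) k) {i j : ℕ} (h : i ≤ j) :
    rankArray (conj g f) i j = rankArray f i j := by
  let G : ∀ j, (Fin (d j) → k) →ₗ[k] (Fin (d j) → k) := fun j => Matrix.toLin' (g j).1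
  have hG : ∀ j, Function.Bijective (G j) := fun j => by
    refine Function.bijective_iff_has_inverse.2 ⟨Matrix.toLin' ((g j)⁻¹).1, fun v => ?_, fun v => ?_⟩
    · show Matrix.toLin' _ (Matrix.toLin' _ v) = v
      rw [← LinearMap.comp_apply, ← Matrix.toLin'_mul, ← Units.val_mul, inv_mul_cancel, Units.val_one,
        Matrix.toLin'_one, LinearMap.id_apply]
    · show Matrix.toLin' _ (Matrix.toLin' _ v) = v
      rw [← LinearMap.comp_apply, ← Matrix.toLin'_mul, ← Units.val_mul, mul_inv_cancel, Units.val_one,
        Matrix.toLin'_one, LinearMap.id_apply]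
  have key : ∀ j, im (conj g f) i j = (im f i j).map (G j) := by
    intro j
    induction j with
    | zero => rw [im, im, Submodule.map_top, LinearMap.range_eq_top.2 (hG 0).2]
    | succ j ih =>
      rcases Nat.lt_or_ge j i with h' | h'
      · rw [im, im, if_pos (by omega), if_pos (by omega), Submodule.map_top, LinearMap.range_eq_top.2 (hG _).2]
      · rw [im_succ _ h', im_succ f h', ih, ← Submodule.map_comp, ← Submodule.map_comp]
        congr 1
        show Matrix.toLin' _ ∘ₗ Matrix.toLin' _ = Matrix.toLin' _ ∘ₗ Matrix.toLin' _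
        rw [← Matrix.toLin'_mul, ← Matrix.toLin'_mul]
        congr 1
        rw [conj, Matrix.mul_assoc, ← Units.val_mul, inv_mul_cancel, Units.val_one, Matrix.mul_one]
  rw [rankArray_eq _ h, rankArray_eq f h, key]
  exact ((Submodule.equivMapOfInjective (G j) (hG j).1 _).finrank_eq).symm

/-- The flag on `k^{d n}`. -/
def flag (n i : ℕ) : Submodule k (Fin (d n) → k) := if i = 0 then ⊥ else im f i n

theorem flag_mono (n i : ℕ) : flag f n i ≤ flag f n (i + 1) := by
  rcases i.eq_zero_or_pos with rfl | hi
  · simp [flag]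
  · rw [flag, flag, if_neg (by omega), if_neg (by omega)]
    exact im_mono f (Nat.le_succ i) n

theorem exists_conj_of_eq (f f' : (i : ℕ) → Matrix (Fin (d (i + 1))) (Fin (d i)) k) (r : ℕ)
    (h : ∀ i j : ℕ, 1 ≤ i → i ≤ j → j ≤ r → rankArray f i j = rankArray f' i j) :
    ∃ g : (j : ℕ) → Matrix.GeneralLinearGroup (Fin (d j)) k,
      ∀ i : ℕ, 1 ≤ i → i + 1 ≤ r → conj g f i = f' i := by
  classical
  have hdim : ∀ n ≤ r, ∀ i ≤ n, finrank k (flag f n i) = finrank k (flag f' n i) := by
    intro n hn i hi
    rcases i.eq_zero_or_pos with rfl | hi'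
    · rw [flag, flag, if_pos rfl, if_pos rfl, finrank_bot]
    · rw [flag, flag, if_neg (by omega), if_neg (by omega), ← rankArray_eq f hi, ← rankArray_eq f' hi]
      exact h i n hi' hi hn
  have key : ∀ n, n ≤ r → ∀ φ : (Fin (d n) → k) ≃ₗ[k] (Fin (d n) → k),
      (∀ i ≤ n, (flag f n i).map (φ : (Fin (d n) → k) →ₗ[k] (Fin (d n) → k)) = flag f' n i) →
      ∃ g : (j : ℕ) → (Fin (d j) → k) ≃ₗ[k] (Fin (d j) → k), g n = φ ∧
        ∀ i, 1 ≤ i → i + 1 ≤ n → ∀ v, g (i + 1) (Matrix.toLin' (f i) v) = Matrix.toLin' (f' i) (g i v) := by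
    intro n
    induction n with
    | zero =>
      intro _ φ _
      exact ⟨Function.update (fun j => LinearEquiv.refl k _) 0 φ, Function.update_self _ _ _, fun i _ h2 => by omega⟩
    | succ m ih =>
      intro hm φ hφ
      rcases m.eq_zero_or_pos with rfl | hm0
      · exact ⟨Function.update (fun j => LinearEquiv.refl k _) 1 φ, Function.update_self _ _ _,
          fun i h1 h2 => by omega⟩
      have hmap : ∀ F : (i : ℕ) → Matrix (Fin (d (i + 1))) (Fin (d i)) k, ∀ i ≤ m,
          (flag F m i).map (Matrix.toLin' (F m)) = flag F (m + 1) i := by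
        intro F i hi
        rcases i.eq_zero_or_pos with rfl | hi'
        · simp [flag]
        · rw [flag, flag, if_neg (by omega), if_neg (by omega), im_succ F hi]
      obtain ⟨ψ, hψ, hψF⟩ := exists_flag_lift (Matrix.toLin' (f m)) (Matrix.toLin' (f' m)) φ m (flag f m) (flag f' m)
        (by simp [flag]) (by simp [flag]) (by simp [flag, hm0.ne', im_self]) (by simp [flag, hm0.ne', im_self])
        (fun i _ => flag_mono f m i) (fun i _ => flag_mono f' m i) (hdim m (by omega))
        (fun i hi => by rw [hmap f i hi, hmap f' i hi]; exact hφ i (by omega))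
      obtain ⟨g, hgm, hg⟩ := ih (by omega) ψ hψF
      refine ⟨Function.update g (m + 1) φ, Function.update_self _ _ _, fun i h1 h2 v => ?_⟩
      rcases Nat.lt_or_ge i m with hlt | hge
      · rw [Function.update_of_ne (by omega), Function.update_of_ne (by omega)]
        exact hg i h1 (by omega) v
      · obtain rfl : i = m := by omega
        rw [Function.update_self, Function.update_of_ne (by omega), hgm]
        exact (hψ v).symm
  rcases r.eq_zero_or_pos with rfl | hr
  · exact ⟨fun _ => 1, fun i _ h2 => by omega⟩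
  obtain ⟨φ, -, hφ⟩ := exists_flag_lift (0 : (Fin (d r) → k) →ₗ[k] (Fin 0 → k))
    (0 : (Fin (d r) → k) →ₗ[k] (Fin 0 → k)) (LinearEquiv.refl k _) r (flag f r) (flag f' r)
    (by simp [flag]) (by simp [flag]) (by simp [flag, hr.ne', im_self]) (by simp [flag, hr.ne', im_self])
    (fun i _ => flag_mono f r i) (fun i _ => flag_mono f' r i) (hdim r le_rfl)
    (fun i _ => by simp [Submodule.map_zero])
  obtain ⟨g, -, hg⟩ := key r le_rfl φ hφ
  let M : (j : ℕ) → Matrix.GeneralLinearGroup (Fin (d j)) k := fun j =>
    ⟨LinearMap.toMatrix' (g j).toLinearMap, LinearMap.toMatrix' (g j).symm.toLinearMap,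
      by rw [← LinearMap.toMatrix'_comp, LinearEquiv.comp_symm, LinearMap.toMatrix'_id],
      by rw [← LinearMap.toMatrix'_comp, LinearEquiv.symm_comp, LinearMap.toMatrix'_id]⟩
  refine ⟨M, fun i h1 h2 => Matrix.toLin'.injective (LinearMap.ext fun v => ?_)⟩
  show Matrix.toLin' (LinearMap.toMatrix' (g (i + 1)).toLinearMap * f i * LinearMap.toMatrix' (g i).symm.toLinearMap) v = _
  rw [Matrix.toLin'_mul, Matrix.toLin'_mul, Matrix.toLin'_toMatrix', Matrix.toLin'_toMatrix']
  show g (i + 1) (Matrix.toLin' (f i) ((g i).symm v)) = _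
  rw [hg i h1 h2, LinearEquiv.apply_symm_apply]

theorem exists_realisation (r : ℕ) (a : ℕ → ℕ → ℕ) (ha : IsRankArray d r a) :
    ∃ f : (i : ℕ) → Matrix (Fin (d (i + 1))) (Fin (d i)) k,
      ∀ i j : ℕ, 1 ≤ i → i ≤ j → j ≤ r → rankArray f i j = a i j := by
  classical
  obtain ⟨hd, hmono, hdec, hineq⟩ := ha
  let a' : ℕ → ℕ → ℕ := fun i j => if i = 0 then 0 else a i j
  let R : ℕ → ℕ → ℕ → Prop := fun j p q => ∃ i, 1 ≤ i ∧ i ≤ j ∧ a' (i - 1) j ≤ p ∧ p < a' i j ∧
    q < a' i (j + 1) ∧ q + a' (i - 1) j = p + a' (i - 1) (j + 1)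
  let f : (i : ℕ) → Matrix (Fin (d (i + 1))) (Fin (d i)) k :=
    fun j => Matrix.of fun q p => if R j p.1 q.1 then 1 else 0
  have hmono' : ∀ j ≤ r, ∀ i i', i ≤ i' → i' ≤ j → a' i j ≤ a' i' j := by
    intro j hj i i' hii hij
    induction i', hii using Nat.le_induction with
    | base => exact le_rfl
    | succ m hm ihm =>
      refine (ihm (by omega)).trans ?_
      rcases m.eq_zero_or_pos with rfl | hm'
      · simp [a']
      · simp only [a', if_neg hm'.ne', Nat.succ_ne_zero, if_false]
        exact hmono m j hm' (by omega) hj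
  have huniq : ∀ j ≤ r, ∀ p q q', R j p q → R j p q' → q = q' := by
    rintro j hj p q q' ⟨i, h1, h2, h3, h4, h5, h6⟩ ⟨i', h1', h2', h3', h4', h5', h6'⟩
    have : i = i' := by
      rcases lt_trichotomy i i' with hlt | heq | hgt
      · have := hmono' j hj i (i' - 1) (by omega) (by omega); omega
      · exact heq
      · have := hmono' j hj i' (i - 1) (by omega) (by omega); omega
    subst this
    omega
  let cs : ∀ j, ℕ → Submodule k (Fin (d j) → k) := fun j t =>
    Submodule.span k ((fun p : Fin (d j) => (Pi.single p (1 : k) : Fin (d j) → k)) '' {p | p.1 < t})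
  have hcs : ∀ j t, t ≤ d j → finrank k (cs j t) = t := by
    intro j t ht
    have hli : LinearIndependent k (fun p : {p : Fin (d j) // p.1 < t} => (Pi.single p.1 (1 : k) : Fin (d j) → k)) := by
      have := (Pi.basisFun k (Fin (d j))).linearIndependent.comp
        (Subtype.val : {p : Fin (d j) // p.1 < t} → Fin (d j)) Subtype.val_injective
      simpa [Function.comp_def] using this
    have := finrank_span_eq_card hli
    rw [show cs j t = Submodule.span k (Set.range fun p : {p : Fin (d j) // p.1 < t} =>
      (Pi.single p.1 (1 : k) : Fin (d j) → k)) from by rw [Set.range_comp' (g := fun p : Fin (d j) => (Pi.single p (1:k) : Fin (d j) → k)), Subtype.range_coe_subtype]]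
    rw [this, Fintype.card_congr ⟨fun p => (⟨p.1.1, p.2⟩ : Fin t), fun p => ⟨⟨p.1, by omega⟩, p.2⟩,
      fun p => rfl, fun p => rfl⟩, Fintype.card_fin]
  have hcol : ∀ j ≤ r, ∀ p : Fin (d j), Matrix.toLin' (f j) (Pi.single p 1) =
      if hq : ∃ q : Fin (d (j + 1)), R j p.1 q.1 then Pi.single hq.choose 1 else 0 := by
    intro j hj p
    funext q
    rw [Matrix.toLin'_apply, Matrix.mulVec_single_one]
    split_ifs with hq
    · show (if R j p.1 q.1 then (1 : k) else 0) = _
      rw [Pi.single_apply]
      by_cases hR : R j p.1 q.1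
      · rw [if_pos hR, if_pos (Fin.ext (huniq j hj _ _ _ hR hq.choose_spec))]
      · rw [if_neg hR, if_neg (fun e : q = hq.choose => hR (by rw [e]; exact hq.choose_spec))]
    · show (if R j p.1 q.1 then (1 : k) else 0) = _
      rw [if_neg (fun hR => hq ⟨q, hR⟩)]
      rfl
  have main : ∀ j, j ≤ r → ∀ i, 1 ≤ i → i ≤ j → im f i j = cs j (a i j) := by
    intro j
    induction j with
    | zero => intro _ i h1 h2; omega
    | succ j ih =>
      intro hj i h1 h2
      rcases Nat.lt_or_ge j i with hlt | hge
      · obtain rfl : i = j + 1 := by omega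
        rw [im_self, hd (j + 1) (by omega) hj, eq_comm, eq_top_iff]
        intro v _
        rw [pi_eq_sum_univ v]
        refine Submodule.sum_mem _ fun p _ => Submodule.smul_mem _ _ (Submodule.subset_span ⟨p, p.2, ?_⟩)
        funext q
        simp [Pi.single_apply, eq_comm]
      · rw [im_succ f hge, ih (by omega) i h1 hge, Submodule.map_span]
        refine le_antisymm (Submodule.span_le.2 ?_) (Submodule.span_le.2 ?_)
        · rintro _ ⟨_, ⟨p, hp, rfl⟩, rfl⟩
          rw [hcol j (by omega)]
          split_ifs with hq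
          · obtain ⟨i', h1', h2', h3', h4', h5', h6'⟩ := hq.choose_spec
            refine Submodule.subset_span ⟨hq.choose, ?_, rfl⟩
            show hq.choose.1 < a i (j + 1)
            have hp' : p.1 < a' i j := by
              rw [show a' i j = a i j from if_neg (by omega)]
              exact hp
            have hle : i' ≤ i := by
              by_contra hcon
              have := hmono' j (by omega) i (i' - 1) (by omega) (by omega); omega
            have := hmono' (j + 1) hj i' i hle (by omega)
            have e : a' i (j + 1) = a i (j + 1) := if_neg (by omega)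
            omega
          · exact zero_mem _
        · rintro _ ⟨q, hq, rfl⟩
          have hq' : q.1 < a' i (j + 1) := by
            rw [show a' i (j + 1) = a i (j + 1) from if_neg (by omega)]
            exact hq
          have hex : ∃ i', q.1 < a' i' (j + 1) ∧ i' ≤ i := ⟨i, hq', le_rfl⟩
          obtain ⟨hi₀, hi₀le⟩ := Nat.find_spec hex
          set i₀ := Nat.find hex
          have hpos : 1 ≤ i₀ := by
            by_contra hc
            simp [a', (by omega : i₀ = 0)] at hi₀
          have hlow : a' (i₀ - 1) (j + 1) ≤ q.1 := by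
            by_contra hc
            exact Nat.find_min hex (by omega : i₀ - 1 < i₀) ⟨by omega, by omega⟩
          have hkey : a' i₀ (j + 1) + a' (i₀ - 1) j ≤ a' i₀ j + a' (i₀ - 1) (j + 1) := by
            rcases Nat.lt_or_ge 1 i₀ with h' | h'
            · simp only [a', if_neg (by omega : i₀ ≠ 0), if_neg (by omega : i₀ - 1 ≠ 0)]
              exact hineq i₀ j h' (by omega) (by omega)
            · obtain h'' : i₀ = 1 := by omega
              simp only [a', h'', Nat.sub_self, if_true, Nat.one_ne_zero, if_false, add_zero]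
              exact hdec 1 j le_rfl (by omega) (by omega)
          let p := q.1 - a' (i₀ - 1) (j + 1) + a' (i₀ - 1) j
          have hp1 : p < a' i₀ j := by omega
          have hp2 : a' i₀ j ≤ a' i j := hmono' j (by omega) i₀ i hi₀le hge
          have hp3 : a' i j ≤ d j := by
            have := hmono' j (by omega) i j hge le_rfl
            have e : a' j j = d j := by rw [show a' j j = a j j from if_neg (by omega), hd j (by omega) (by omega)]
            omega
          have hR : R j p q.1 := ⟨i₀, hpos, by omega, by omega, hp1, hi₀, by omega⟩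
          refine Submodule.subset_span ⟨_, ⟨⟨p, by omega⟩, ?_, rfl⟩, ?_⟩
          · show p < a i j
            have e : a' i j = a i j := if_neg (by omega)
            omega
          · rw [hcol j (by omega)]
            have hex' : ∃ q' : Fin (d (j + 1)), R j p q'.1 := ⟨q, hR⟩
            rw [dif_pos hex']
            congr 1
            exact Fin.ext (huniq j (by omega) p _ _ hex'.choose_spec hR)
  refine ⟨f, fun i j h1 h2 h3 => ?_⟩
  rw [rankArray_eq f h2, main j h3 i h1 h2, hcs]
  have := hmono' j h3 i j h2 le_rfl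
  simp only [a', if_neg (by omega : i ≠ 0), if_neg (by omega : j ≠ 0)] at this
  rwa [hd j (by omega) h3] at this


/-- Let k be a field and d_1, …, d_r sizes (given as a function d on the naturals; only d_1, …, d_r
matter). The group Π_j GL_{d_j}(k) acts on chains of matrices f_i of size d_{i+1} × d_i (1 ≤ i < r)
by f_i ↦ g_{i+1} f_i g_i^(-1). Sending a chain to the array a_{i,j} = dim (f_{j-1} ⋯ f_i)(k^{d_i})
(1 ≤ i ≤ j ≤ r) is constant on orbits, takes values in the set of admissible arrays (a_{j,j} = d_j;
a_{i,j} ≤ a_{i+1,j} for i < j; a_{i,j+1} ≤ a_{i,j} for j < r; a_{i,j} - a_{i-1,j} ≥ a_{i,j+1} -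
a_{i-1,j+1} for 1 < i ≤ j < r), separates orbits, and reaches every admissible array: it is a
bijection from the orbit set onto the admissible arrays. (The published statement also asserts that,
when k is Galois over a subfield, the bijection is compatible with the Galois group acting entrywise
on matrices and trivially on arrays; this row omits that clause.) -/
theorem result (k : Type u) [Field k] (d : ℕ → ℕ) (r : ℕ) :
    (∀ (g : (j : ℕ) → Matrix.GeneralLinearGroup (Fin (d j)) k)
        (f : (i : ℕ) → Matrix (Fin (d (i + 1))) (Fin (d i)) k) (i j : ℕ),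
        1 ≤ i → i ≤ j → j ≤ r → rankArray (conj g f) i j = rankArray f i j) ∧
    (∀ f : (i : ℕ) → Matrix (Fin (d (i + 1))) (Fin (d i)) k, IsRankArray d r (rankArray f)) ∧
    (∀ f f' : (i : ℕ) → Matrix (Fin (d (i + 1))) (Fin (d i)) k,
        (∀ i j : ℕ, 1 ≤ i → i ≤ j → j ≤ r → rankArray f i j = rankArray f' i j) →
        ∃ g : (j : ℕ) → Matrix.GeneralLinearGroup (Fin (d j)) k,
          ∀ i : ℕ, 1 ≤ i → i + 1 ≤ r → conj g f i = f' i) ∧
    (∀ a : ℕ → ℕ → ℕ, IsRankArray d r a →
        ∃ f : (i : ℕ) → Matrix (Fin (d (i + 1))) (Fin (d i)) k,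
          ∀ i j : ℕ, 1 ≤ i → i ≤ j → j ≤ r → rankArray f i j = a i j) := by
  exact ⟨fun g f i j _ h _ => rankArray_conj f g h, fun f => isRankArray_rankArray f r,
    fun f f' h => exists_conj_of_eq f f' r h, fun a ha => exists_realisation r a ha⟩

end Groth.Agent.S14194
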