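import Groth.Statements.S14196
import Groth.Agent.Lib.Quot16.Basic
import Groth.Agent.Lib.FinCondH13.Points

set_option autoImplicit false
universe u
open CategoryTheory MonoidalCategory CartesianMonoidalCategory AlgebraicGeometry
open StackCount

namespace Groth.Agent.S14196

open Groth.Agent.Quot16 MonObj

theorem exists_pt {S : Scheme.{u}} {K : Type u} [Field K] [IsAlgClosed K] {G X : Over S} [GrpObj G]
    {aX : AlgGrp.Action G X} (A : AlgSt.QuotObj Scheme.etalePrecoverage G aX)
    {f : Spec (CommRingCat.of K) ⟶ S} (e : (Over.mk f : Over S) ≅ A.base) :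
    ∃ t : (Over.mk f : Over S) ⟶ A.P, t ≫ A.π = e.hom := by
  obtain ⟨R, hR, hs⟩ := A.loc
  have hR' : R.preZeroHypercover.presieve₀ ∈ Scheme.etalePrecoverage A.base.left := by
    rw [Presieve.presieve₀_preZeroHypercover]; exact hR
  obtain ⟨hsurj, het⟩ := (Scheme.presieve₀_mem_precoverage_iff _).1 hR'
  obtain ⟨i, hi⟩ := hsurj (e.hom.left (IsLocalRing.closedPoint K))
  haveI := het i
  haveI : Etale (R.preZeroHypercover.f i ≫ e.inv.left) := inferInstance
  haveI : Nonempty (R.preZeroHypercover.X i) := ⟨hi.choose⟩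
  obtain ⟨σ, hσ⟩ := FinCondH13.exists_section (R.preZeroHypercover.f i ≫ e.inv.left)
  obtain ⟨s, hs'⟩ := hs (R.preZeroHypercover.f i) i.2
  have h : (σ ≫ s) ≫ A.π.left = e.hom.left := by
    rw [← cancel_mono e.inv.left]
    refine Eq.trans ?_ (congrArg CommaMorphism.left e.hom_inv_id).symm
    simp only [Category.assoc]
    erw [reassoc_of% hs', hσ]
    rfl
  refine ⟨Over.homMk (σ ≫ s) ?_, Over.OverMorphism.ext h⟩
  rw [← Over.w A.π, ← Category.assoc, h, Over.w e.hom]

theorem eq_translate {S : Scheme.{u}} {K : Precoverage Scheme.{u}} {G X : Over S} [GrpObj G]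
    {aX : AlgGrp.Action G X} (A : AlgSt.QuotObj K G aX) {W : Over S} (p q : W ⟶ A.P)
    (h : p ≫ A.π = q ≫ A.π) : ∃ g : W ⟶ G, lift g p ≫ A.act.act = q := by
  refine ⟨A.cart.lift q p h.symm ≫ fst G A.P, ?_⟩
  have h2 := A.cart.lift_snd q p h.symm
  conv_lhs => arg 1; rw [show lift (A.cart.lift q p h.symm ≫ fst G A.P) p =
    A.cart.lift q p h.symm from by
      apply CartesianMonoidalCategory.hom_ext <;> simp [h2]]
  exact A.cart.lift_fst _ _ _

theorem translate_φ {S : Scheme.{u}} {K : Precoverage Scheme.{u}} {G X : Over S} [GrpObj G]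
    {aX : AlgGrp.Action G X} (A : AlgSt.QuotObj K G aX) {W : Over S} (g : W ⟶ G) (p : W ⟶ A.P) :
    (lift g p ≫ A.act.act) ≫ A.φ = lift g (p ≫ A.φ) ≫ aX.act := by
  rw [Category.assoc, A.eqv, lift_whiskerLeft_assoc]

/-- Let k be a finite field with algebraic closure k̄, G a smooth affine algebraic group over k acting
on a variety X over k (reduced, of finite type), and [X/G] the quotient stack whose objects over a
k-scheme T are G-torsors P → T, locally trivial for the étale topology and taken to be schemes, with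
a G-equivariant morphism P → X. Write T̄ = Spec k̄ over Spec k. Then: every object of the fibre
category of [X/G] over T̄ admits a section T̄ → P of its torsor; for objects A, B over T̄ with
chosen sections t_A, t_B, A and B are isomorphic in the fibre over T̄ if and only if the k̄-points
t_B φ_B and t_A φ_A of X lie in one G(k̄)-orbit (there is g ∈ G(T̄) with g · (t_A φ_A) = t_B φ_B);
and every k̄-point of X is of the form t φ_A. Hence the isomorphism classes of [X/G](k̄) correspond
bijectively to the G(k̄)-orbits in X(k̄). (The published statement allows any smooth algebraic group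
G; this row takes G affine, so that every torsor is a scheme.) -/
theorem result (k : Type u) [Field k] [Finite k]
    (G : Over (Spec (CommRingCat.of k))) [GrpObj G] [Smooth G.hom] [IsAffineHom G.hom]
    (X : Over (Spec (CommRingCat.of k))) [LocallyOfFiniteType X.hom] [QuasiCompact X.hom]
    [IsReduced X.left] (aX : AlgGrp.Action G X) :
    (∀ A : (AlgSt.QuotObj.forget Scheme.etalePrecoverage G aX).Fiber (Over.mk (Spec.map (CommRingCat.ofHom (algebraMap k (AlgebraicClosure k)))) : Over (Spec (CommRingCat.of k))),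
        ∃ t : (Over.mk (Spec.map (CommRingCat.ofHom (algebraMap k (AlgebraicClosure k)))) : Over (Spec (CommRingCat.of k))) ⟶ A.1.P, t ≫ A.1.π = eqToHom A.2.symm) ∧
    (∀ (A B : (AlgSt.QuotObj.forget Scheme.etalePrecoverage G aX).Fiber (Over.mk (Spec.map (CommRingCat.ofHom (algebraMap k (AlgebraicClosure k)))) : Over (Spec (CommRingCat.of k))))
        (tA : (Over.mk (Spec.map (CommRingCat.ofHom (algebraMap k (AlgebraicClosure k)))) : Over (Spec (CommRingCat.of k))) ⟶ A.1.P) (tB : (Over.mk (Spec.map (CommRingCat.ofHom (algebraMap k (AlgebraicClosure k)))) : Over (Spec (CommRingCat.of k))) ⟶ B.1.P),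
        tA ≫ A.1.π = eqToHom A.2.symm → tB ≫ B.1.π = eqToHom B.2.symm →
        (Nonempty (A ≅ B) ↔
          ∃ g : (Over.mk (Spec.map (CommRingCat.ofHom (algebraMap k (AlgebraicClosure k)))) : Over (Spec (CommRingCat.of k))) ⟶ G,
            CartesianMonoidalCategory.lift g (tA ≫ A.1.φ) ≫ aX.act = tB ≫ B.1.φ)) ∧
    (∀ x : (Over.mk (Spec.map (CommRingCat.ofHom (algebraMap k (AlgebraicClosure k)))) : Over (Spec (CommRingCat.of k))) ⟶ X,
        ∃ (A : (AlgSt.QuotObj.forget Scheme.etalePrecoverage G aX).Fiber (Over.mk (Spec.map (CommRingCat.ofHom (algebraMap k (AlgebraicClosure k)))) : Over (Spec (CommRingCat.of k)))) (t : (Over.mk (Spec.map (CommRingCat.ofHom (algebraMap k (AlgebraicClosure k)))) : Over (Spec (CommRingCat.of k))) ⟶ A.1.P),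
          t ≫ A.1.π = eqToHom A.2.symm ∧ t ≫ A.1.φ = x) := by
  refine ⟨fun A => exists_pt A.1 (eqToIso A.2.symm), fun A B tA tB hA hB => ⟨?_, ?_⟩, fun x => ?_⟩
  · rintro ⟨e⟩
    have hb : e.hom.1.base = eqToHom A.2 ≫ eqToHom B.2.symm := by
      have := @IsHomLift.fac' _ _ _ _ (AlgSt.QuotObj.forget Scheme.etalePrecoverage G aX) _ _ _ _ (𝟙 _) e.hom.1 e.hom.2
      simpa [AlgSt.QuotObj.forget] using this
    have hp : (tA ≫ e.hom.1.top) ≫ B.1.π = tB ≫ B.1.π := by
      rw [Category.assoc, e.hom.1.cart.w, reassoc_of% hA, hb, hB]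
      exact (eqToHom_trans_assoc _ _ _).trans (Category.id_comp _)
    obtain ⟨g, hg⟩ := eq_translate B.1 _ _ hp
    refine ⟨g, ?_⟩
    rw [← hg, translate_φ, Category.assoc, e.hom.1.wφ]
  · rintro ⟨g, hg⟩
    have hσ : (lift g tA ≫ A.1.act.act) ≫ A.1.φ = tB ≫ B.1.φ := by rw [translate_φ, hg]
    let α := homOfPt A.1 (lift g tA ≫ A.1.act.act) hσ
    let β := homOfPt B.1 tB (x := tB ≫ B.1.φ) rfl
    have hα : α.base = eqToHom A.2.symm := by
      show (lift g tA ≫ A.1.act.act) ≫ A.1.π = _
      rw [Category.assoc, act_π, lift_snd_assoc, hA]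
    have hβ : β.base = eqToHom B.2.symm := hB
    haveI : IsIso α.base := by rw [hα]; exact (eqToIso A.2.symm).isIso_hom
    haveI : IsIso β.base := by rw [hβ]; exact (eqToIso B.2.symm).isIso_hom
    haveI := isIso_of_isIso_base α
    haveI := isIso_of_isIso_base β
    have hbase : (inv α ≫ β).base = eqToHom A.2 ≫ eqToHom B.2.symm := by
      rw [AlgSt.QuotObj.comp_base, hβ]
      congr 1
      have : α.base ≫ (inv α).base = 𝟙 _ := by rw [← AlgSt.QuotObj.comp_base, IsIso.hom_inv_id]; rfl
      rw [hα] at this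
      have h' := congrArg (fun m => eqToHom A.2 ≫ m) this
      exact ((eqToHom_trans_assoc _ _ _).trans (Category.id_comp _)).symm.trans (h'.trans (Category.comp_id _))
    haveI hl : (AlgSt.QuotObj.forget Scheme.etalePrecoverage G aX).IsHomLift (𝟙 (Over.mk (Spec.map (CommRingCat.ofHom (algebraMap k (AlgebraicClosure k)))) : Over (Spec (CommRingCat.of k)))) (inv α ≫ β) :=
      IsHomLift.of_fac' _ _ _ A.2 B.2 (by simpa [AlgSt.QuotObj.forget] using hbase)
    haveI : (AlgSt.QuotObj.forget Scheme.etalePrecoverage G aX).IsHomLift (𝟙 (Over.mk (Spec.map (CommRingCat.ofHom (algebraMap k (AlgebraicClosure k)))) : Over (Spec (CommRingCat.of k)))) (inv (inv α ≫ β)) :=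
      IsHomLift.lift_id_inv_isIso _ _ _
    exact ⟨⟨⟨inv α ≫ β, inferInstance⟩, ⟨inv (inv α ≫ β), inferInstance⟩,
      Functor.Fiber.hom_ext (IsIso.hom_inv_id _), Functor.Fiber.hom_ext (IsIso.inv_hom_id _)⟩⟩
  · refine ⟨⟨triv Scheme.etalePrecoverage aX x, rfl⟩, unitSec _, ?_, ?_⟩
    · exact unitSec_snd _
    · exact unitSec_whisker_act aX x

end Groth.Agent.S14196
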