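import Groth.Statements.S14197
import Groth.Agent.Lib.StackGal23.FiniteGrp
import Groth.Agent.Lib.StackGal23.FrobCoc
import Groth.Agent.Lib.Zeta25.PointCount
import Groth.Agent.Lib.Quot16.Basic
import Mathlib.FieldTheory.Finite.Basic
-- import your own Groth.Agent.* helpers here

set_option autoImplicit false
set_option linter.style.haveILetI false
set_option backward.isDefEq.respectTransparency false
set_option backward.isDefEq.respectTransparency.types false
universe u
open CategoryTheory MonoidalCategory CartesianMonoidalCategory AlgebraicGeometry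
open StackCount

namespace Groth.Agent.S14197

open CategoryTheory AlgebraicGeometry MonObj CartesianMonoidalCategory in
/-- A twisted fixed point relation holding at Frobenius holds everywhere. -/
theorem fix_of_frob {k : Type u} [Field k] [Finite k] {k' : Type u} [Field k'] [Algebra k k'] [Finite k']
    {kb : Type u} [Field kb] [Algebra k kb] [Algebra k' kb] [IsScalarTower k k' kb] [IsAlgClosure k' kb]
    {G X : Over (Spec (CommRingCat.of k))} [GrpObj G] [LocallyOfFiniteType G.hom] [LocallyOfFiniteType X.hom]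
    (aX : AlgGrp.Action G X) {z : (kb ≃ₐ[k'] kb) → (SGA7.pt (K := k) kb ⟶ G)}
    (hz : StackGal23.IsCoc kb z) (x : SGA7.pt (K := k) kb ⟶ X)
    (π : kb ≃ₐ[k'] kb) (hπ : ∀ c, π c = c ^ Nat.card k')
    (hx : lift (z π) (StackGal23.galPt k k' kb π ≫ x) ≫ aX.act = x) (σ : kb ≃ₐ[k'] kb) :
    lift (z σ) (StackGal23.galPt k k' kb σ ≫ x) ≫ aX.act = x := by
  have hz1 : z 1 = 1 := by
    have := hz.1 1 1
    rw [_root_.mul_one, StackGal23.gal_one, Category.id_comp] at this
    exact mul_eq_left.1 this.symm
  let S : Set (kb ≃ₐ[k'] kb) := {σ | lift (z σ) (StackGal23.galPt k k' kb σ ≫ x) ≫ aX.act = x}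
  have hmul : ∀ a b, a ∈ S → b ∈ S → a * b ∈ S := fun a b ha hb => by
    show lift (z (a * b)) (StackGal23.galPt k k' kb (a * b) ≫ x) ≫ aX.act = x
    rw [hz.1, StackGal23.gal_mul, Category.assoc, AlgGrpBasic19.act_mul, ← comp_lift_assoc]
    rw [show lift (z b) (StackGal23.galPt k k' kb b ≫ x) ≫ aX.act = x from hb]
    exact ha
  obtain ⟨E, hE, hEU⟩ := (krullTopology_mem_nhds_one_iff k' kb _).1
    (Filter.inter_mem ((hz.2.isOpen_fiber 1).mem_nhds hz1)
      ((StackGal23.isOpen_setOf_gal_eq (k' := k') x).mem_nhds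
        (show StackGal23.galPt k k' kb 1 ≫ x = x by rw [StackGal23.gal_one, Category.id_comp])))
  haveI : FiniteDimensional k' E := hE
  obtain ⟨n, hn⟩ := (StackGal23.exists_eq_frob_pow hπ E).1 σ
  have hpow : ∀ m : ℕ, π ^ m ∈ S := fun m => by
    induction m with
    | zero =>
      show lift (z 1) (StackGal23.galPt k k' kb 1 ≫ x) ≫ aX.act = x
      rw [hz1, StackGal23.gal_one, Category.id_comp, AlgGrpBasic19.act_one]
    | succ m ih =>
      rw [pow_succ]
      exact hmul _ _ ih hx
  have hmem : (π ^ n)⁻¹ * σ ∈ E.fixingSubgroup := (IntermediateField.mem_fixingSubgroup_iff E _).2 fun a ha => by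
    rw [AlgEquiv.mul_apply, hn a ha]
    exact (π ^ n).symm_apply_apply a
  have h2 : (π ^ n)⁻¹ * σ ∈ S := by
    obtain ⟨e1, e2⟩ := hEU hmem
    show lift (z _) (StackGal23.galPt k k' kb _ ≫ x) ≫ aX.act = x
    rw [show z ((π ^ n)⁻¹ * σ) = 1 from e1, show StackGal23.galPt k k' kb ((π ^ n)⁻¹ * σ) ≫ x = x from e2,
      AlgGrpBasic19.act_one]
  have h3 := hmul _ _ (hpow n) h2
  rwa [mul_inv_cancel_left] at h3

open CategoryTheory AlgebraicGeometry MonObj CartesianMonoidalCategory in
/-- Every point of a group lies in a finite Galois stable subgroup. -/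
theorem exists_finite_subgroup {k : Type u} [Field k] [Finite k] {k' : Type u} [Field k'] [Algebra k k'] [Finite k']
    {kb : Type u} [Field kb] [Algebra k kb] [Algebra k' kb] [IsScalarTower k k' kb] [IsAlgClosure k' kb]
    {G : Over (Spec (CommRingCat.of k))} [GrpObj G] [LocallyOfFiniteType G.hom] [QuasiCompact G.hom]
    (a : SGA7.pt (K := k) kb ⟶ G) :
    ∃ H : Subgroup (SGA7.pt (K := k) kb ⟶ G), (H : Set (SGA7.pt (K := k) kb ⟶ G)).Finite ∧ a ∈ H ∧
      ∀ (σ : kb ≃ₐ[k'] kb), ∀ x ∈ H, StackGal23.galPt k k' kb σ ≫ x ∈ H := by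
  obtain ⟨L, hL, aL, haL⟩ := StackGal23.exists_factor (k' := k') a
  haveI : Finite L := Module.finite_of_finite k'
  haveI : Finite ((SGA7.pt (K := k) L).left ⟶ G.left) := Zeta25.finite_points G.hom L
  haveI : Finite (SGA7.pt (K := k) L ⟶ G) :=
    Finite.of_injective (fun f => f.left) fun _ _ h => Over.OverMorphism.ext h
  let r : (SGA7.pt (K := k) L ⟶ G) →* (SGA7.pt (K := k) kb ⟶ G) :=
    MonoidHom.mk' (fun y => StackGal23.incl k k' kb L ≫ y) fun y y' => MonObj.comp_mul _ y y'
  refine ⟨r.range, (Set.finite_range r), ⟨aL, haL⟩, ?_⟩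
  rintro σ _ ⟨y, rfl⟩
  refine ⟨StackGal23.galPt k k' L (AlgEquiv.restrictNormalHom L σ) ≫ y, ?_⟩
  show StackGal23.incl k k' kb L ≫ _ ≫ y = StackGal23.galPt k k' kb σ ≫ StackGal23.incl k k' kb L ≫ y
  rw [← Category.assoc, ← StackGal23.gal_incl, Category.assoc]

/-- Let k be a finite field with algebraic closure k̄, G a smooth affine algebraic group over k acting
on a variety X over k, [X/G] the quotient stack of G-torsors (schemes, locally trivial for the étale
topology) with an equivariant morphism to X, and k' ⊆ k̄ a subfield finite over k; write T̄ = Spec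
k̄ and T' = Spec k' over Spec k, with ι : T̄ → T' the structure map. Let A be an object of [X/G]
over T̄, t a section of its torsor and x = t φ_A the corresponding k̄-point of X. Then A has a model
over k' — there are an object B of [X/G] over T' and a morphism A → B of [X/G] lying over ι (so A is
the pull-back of B) — if and only if the G(k̄)-orbit of x is fixed by Gal(k̄/k'): for every
k'-algebra automorphism σ of k̄, with s : T̄ → T̄ the induced morphism, there is g ∈ G(T̄) with g ·
x = s x. (The published statement allows any smooth algebraic group G; this row takes G affine, so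
that torsors are schemes. Together with the classification of the isomorphism classes over k̄ by
G(k̄)-orbits of k̄-points, this says that the class of A in G(k̄)∖X(k̄) has a representative defined
over k' exactly when it is Galois-fixed.) -/
theorem result (k : Type u) [Field k] [Finite k]
    (G : Over (Spec (CommRingCat.of k))) [GrpObj G] [Smooth G.hom] [IsAffineHom G.hom]
    (X : Over (Spec (CommRingCat.of k))) [LocallyOfFiniteType X.hom] [QuasiCompact X.hom]
    [IsReduced X.left] (aX : AlgGrp.Action G X)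
    (k' : IntermediateField k (AlgebraicClosure k)) [FiniteDimensional k k']
    (ι : (Over.mk (Spec.map (CommRingCat.ofHom (algebraMap k (AlgebraicClosure k)))) : Over (Spec (CommRingCat.of k))) ⟶ (Over.mk (Spec.map (CommRingCat.ofHom (algebraMap k k'))) : Over (Spec (CommRingCat.of k))))
    (hι : ι.left = Spec.map (CommRingCat.ofHom (algebraMap k' (AlgebraicClosure k))))
    (A : (AlgSt.QuotObj.forget Scheme.etalePrecoverage G aX).Fiber (Over.mk (Spec.map (CommRingCat.ofHom (algebraMap k (AlgebraicClosure k)))) : Over (Spec (CommRingCat.of k)))) (t : (Over.mk (Spec.map (CommRingCat.ofHom (algebraMap k (AlgebraicClosure k)))) : Over (Spec (CommRingCat.of k))) ⟶ A.1.P) (ht : t ≫ A.1.π = eqToHom A.2.symm) :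
    (∃ (B : AlgSt.QuotObj Scheme.etalePrecoverage G aX) (hB : B.base = (Over.mk (Spec.map (CommRingCat.ofHom (algebraMap k k'))) : Over (Spec (CommRingCat.of k))))
        (h : A.1 ⟶ B), h.base = eqToHom A.2 ≫ ι ≫ eqToHom hB.symm) ↔
    (∀ (σ : AlgebraicClosure k ≃ₐ[k'] AlgebraicClosure k) (s : (Over.mk (Spec.map (CommRingCat.ofHom (algebraMap k (AlgebraicClosure k)))) : Over (Spec (CommRingCat.of k))) ⟶ (Over.mk (Spec.map (CommRingCat.ofHom (algebraMap k (AlgebraicClosure k)))) : Over (Spec (CommRingCat.of k)))),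
        s.left = Spec.map (CommRingCat.ofHom σ.toRingEquiv.toRingHom) →
        ∃ g : (Over.mk (Spec.map (CommRingCat.ofHom (algebraMap k (AlgebraicClosure k)))) : Over (Spec (CommRingCat.of k))) ⟶ G,
          CartesianMonoidalCategory.lift g (t ≫ A.1.φ) ≫ aX.act = s ≫ t ≫ A.1.φ) := by
  haveI : Finite k' := Module.finite_of_finite k
  haveI : Algebra.IsAlgebraic k' (AlgebraicClosure k) := Algebra.IsAlgebraic.tower_top (K := k) k'
  haveI : IsAlgClosure k' (AlgebraicClosure k) := ⟨inferInstance, inferInstance⟩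
  have hι' : ι = StackGal23.cov k k' (AlgebraicClosure k) := Over.OverMorphism.ext hι
  have hs : ∀ (σ : AlgebraicClosure k ≃ₐ[k'] AlgebraicClosure k) (s : (Over.mk (Spec.map (CommRingCat.ofHom (algebraMap k (AlgebraicClosure k)))) : Over (Spec (CommRingCat.of k))) ⟶ (Over.mk (Spec.map (CommRingCat.ofHom (algebraMap k (AlgebraicClosure k)))) : Over (Spec (CommRingCat.of k)))),
      s.left = Spec.map (CommRingCat.ofHom σ.toRingEquiv.toRingHom) →
        s = StackGal23.galPt k k' (AlgebraicClosure k) σ :=
    fun σ s h => Over.OverMorphism.ext h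
  open CategoryTheory.MonObj in
    constructor
    · rintro ⟨B, hB, h, hb⟩ σ s hσ
      rw [hs σ s hσ]
      let B' : StackGal23.Obj (k := k) k' aX := ⟨B, hB⟩
      have hov : (t ≫ h.top) ≫ (StackGal23.tors B').m = StackGal23.cov k k' (AlgebraicClosure k) := by
        show (t ≫ h.top) ≫ B.π ≫ eqToHom hB = _
        rw [Category.assoc, reassoc_of% h.cart.w, reassoc_of% ht, hb, ← hι']
        simp
      obtain ⟨z, -, hR⟩ := StackGal23.exists_rep_of_pt B' (t ≫ h.top) hov
      have hx : (t ≫ h.top) ≫ B'.1.φ = t ≫ A.1.φ := by rw [Category.assoc, h.wφ]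
      have hf := hR.fix σ
      rw [hx] at hf
      refine ⟨(z σ)⁻¹, ?_⟩
      conv_lhs => rw [← hf]
      rw [← AlgGrpBasic19.act_mul, inv_mul_cancel, AlgGrpBasic19.act_one]
    · intro hyp
      haveI := Fintype.ofFinite k'
      let π := FiniteField.frobeniusAlgEquivOfAlgebraic k' (AlgebraicClosure k)
      have hπ : ∀ c, π c = c ^ Nat.card k' := fun c => by
        rw [Nat.card_eq_fintype_card]
        rfl
      let x : SGA7.pt (K := k) (AlgebraicClosure k) ⟶ X := t ≫ A.1.φ
      obtain ⟨g, hg⟩ := hyp π (StackGal23.galPt k k' (AlgebraicClosure k) π) rfl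
      letI : MulDistribMulAction (AlgebraicClosure k ≃ₐ[k'] AlgebraicClosure k)
          (SGA7.pt (K := k) (AlgebraicClosure k) ⟶ G) := StackGal23.galAction k' _ G
      obtain ⟨hbij, -⟩ := StackGal23.frobValue_bijective π hπ (SGA7.pt (K := k) (AlgebraicClosure k) ⟶ G)
        (fun a => StackGal23.isOpen_setOf_gal_eq a) (fun a => exists_finite_subgroup a)
      obtain ⟨w, hw⟩ := hbij.2 (show SGA7.pt (K := k) (AlgebraicClosure k) ⟶ G from g)⁻¹
      have hz : StackGal23.IsCoc (AlgebraicClosure k) (fun σ => w.1.1 σ) := ⟨w.1.2, w.2⟩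
      have hπx : lift (w.1.1 π) (StackGal23.galPt k k' (AlgebraicClosure k) π ≫ x) ≫ aX.act = x := by
        have hw' : w.1.1 π = (show SGA7.pt (K := k) (AlgebraicClosure k) ⟶ G from g)⁻¹ := hw
        have hg' : lift (show SGA7.pt (K := k) (AlgebraicClosure k) ⟶ G from g) x ≫ aX.act =
            StackGal23.galPt k k' (AlgebraicClosure k) π ≫ x := hg
        rw [hw', ← hg', ← AlgGrpBasic19.act_mul, inv_mul_cancel, AlgGrpBasic19.act_one]
      obtain ⟨B, t', hR⟩ := StackGal23.exists_rep hz x (fix_of_frob aX hz x π hπ hπx)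
      let qA := Quot16.homOfPt A.1 t (x := x) rfl
      let qB := Quot16.homOfPt B.1 t' hR.img
      have hA : qA.base = eqToHom A.2.symm := ht
      haveI : IsIso qA.base := by rw [hA]; exact (eqToIso A.2.symm).isIso_hom
      haveI := Quot16.isIso_of_isIso_base qA
      refine ⟨B.1, B.2, inv qA ≫ qB, ?_⟩
      have hB : qB.base ≫ eqToHom B.2 = StackGal23.cov k k' (AlgebraicClosure k) :=
        (Category.assoc _ _ _).trans hR.hov
      have hinv : (inv qA).base = eqToHom A.2 := by
        have h1 : qA.base ≫ (inv qA).base = 𝟙 _ := by rw [← AlgSt.QuotObj.comp_base, IsIso.hom_inv_id]; rfl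
        rw [hA] at h1
        have h2 := congrArg (fun m => eqToHom A.2 ≫ m) h1
        exact ((eqToHom_trans_assoc _ _ _).trans (Category.id_comp _)).symm.trans (h2.trans (Category.comp_id _))
      show (inv qA).base ≫ qB.base = _
      rw [hinv, hι', ← hB]
      simp

end Groth.Agent.S14197
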