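import Groth.Statements.S14198
import Groth.Agent.Lib.KS29.SBClass
-- import your own Groth.Agent.* helpers here

set_option autoImplicit false
universe u
open CategoryTheory CategoryTheory.Limits AlgebraicGeometry
open ASBun

namespace Groth.Agent.S14198

/-- Let A be a central simple algebra of degree n ≥ 1 over a field k (of dimension n² over k), X a
proper k-scheme which is the Severi–Brauer scheme of A (for every commutative k-algebra R its
R-points over k are, naturally in R, the left ideals of R ⊗_k A with projective quotient of rank n²
− n), K an algebraic closure of k and e a K-isomorphism X_K ≅ P^{n−1}_K, along which O_e(j) denotes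
the pullback of the twisting sheaf O(j); let W be an indecomposable finite locally free O_X-module
(nonzero, and in any decomposition as a direct sum one summand is zero) with W_K ≅ O_e(j)^{⊕r}, r ≥
1, for an integer j. Then r equals the index of the |j|-fold tensor power of A over k: that tensor
power is isomorphic over k to a matrix algebra of positive size over a division ring of dimension r²
over k. (For j = 0 the tensor power is k and r = 1.) -/
theorem result (k : Type u) [Field k] (A : Type u) [Ring A] [Algebra k A]
    [Algebra.IsCentral k A] [IsSimpleRing A] (n : ℕ) (hn : 0 < n)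
    (hA : Module.finrank k A = n * n) {X : Scheme.{u}} (f : X ⟶ Spec (CommRingCat.of k))
    [IsProper f] (hX : BrSev.IsSBOf k A (n * n - n) f)
    (K : Type u) [Field K] [Algebra k K] [IsAlgClosure k K] (e : BrSev.Splitting f K (n - 1))
    (W : X.Modules) (hW : FlatMod.IsFinLocFree W)
    (hWi : (¬ IsZero W ∧ ∀ M₁ M₂ : X.Modules, Nonempty (W ≅ M₁ ⊞ M₂) → IsZero M₁ ∨ IsZero M₂))
    (j : ℤ) (r : ℕ) (hr : 0 < r) (hWt : BrSev.IsTwPow e j r W) :
    CSAGal.IsIndex k (CSAGal.tpow k A j.natAbs) r := by
  haveI := KS29.finite_of_finrank hn hA
  rw [Brauer25.isIndex_iff, Brauer25.cls_tensorPower]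
  exact (KS29.multiplicity_eq hn hA hX e hW hWi hr hWt).symm

end Groth.Agent.S14198
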