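import Groth.Statements.S14204
import Groth.Agent.Lib.TwPow29.Basic
-- import your own Groth.Agent.* helpers here

set_option autoImplicit false
universe u
open CategoryTheory CategoryTheory.Limits AlgebraicGeometry
open ASBun

namespace Groth.Agent.S14204

/-- Let X be a scheme over a field k, K a field extension of k, e a K-isomorphism X_K ≅ P^n_K with
O_e(j) the pullback of O(j) along e, and W, W' two O_X-modules with W_K ≅ O_e(j)^{⊕r} and W'_K ≅
O_e(l)^{⊕s} for integers j, l and natural numbers r, s. Then the tensor product W ⊗_{O_X} W'
satisfies (W ⊗ W')_K ≅ O_e(j + l)^{⊕rs}: the tensor product of absolutely rank-one-isotypical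
modules of twisting types O(j) and O(l) is absolutely rank-one-isotypical of type O(j + l), in
particular absolutely split. (The published statement is for the indecomposable modules of types
O(j) and O(l) on a Severi–Brauer variety with K an algebraic closure; the argument uses only the
displayed decompositions.) -/
theorem result (k : Type u) [Field k] {X : Scheme.{u}}
    (f : X ⟶ Spec (CommRingCat.of k)) (n : ℕ)
    (K : Type u) [Field K] [Algebra k K] (e : BrSev.Splitting f K n) (j l : ℤ) (r s : ℕ)
    (W W' : X.Modules) (hWt : BrSev.IsTwPow e j r W) (hW't : BrSev.IsTwPow e l s W') :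
    BrSev.IsTwPow e (j + l) (r * s) (CohB1.tensorMod W W') := by
  exact Groth.Agent.TwPow29.isTwPow_tensorMod e j l r s W W' hWt hW't

end Groth.Agent.S14204
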