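import Groth.Statements.S14208
import Groth.Agent.Lib.KS29.SBClass
-- import your own Groth.Agent.* helpers here

set_option autoImplicit false
universe u
open CategoryTheory CategoryTheory.Limits AlgebraicGeometry
open ASBun

namespace Groth.Agent.S14208

/-- Let A and B be central simple algebras of degrees n, n' ≥ 1 over a field k which generate the same
subgroup of the Brauer group: for some i a matrix algebra of positive size over the i-fold tensor
power of A is k-isomorphic to a matrix algebra of positive size over B, and symmetrically for some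
i'. Let X and Y be proper k-schemes which are the Severi–Brauer schemes of A and of B (R-points =
left ideals of R ⊗_k A, resp. R ⊗_k B, with projective quotient of rank n² − n, resp. n'² − n'), K
an algebraic closure of k with K-isomorphisms e : X_K ≅ P^{n−1}_K and e' : Y_K ≅ P^{n'−1}_K, and j
an integer. If W on X and W' on Y are indecomposable finite locally free modules (nonzero, and in
any decomposition as a direct sum one summand is zero) with W_K ≅ O_e(j)^{⊕r} and W'_K ≅
O_{e'}(j)^{⊕r'}, r, r' ≥ 1, then r = r' (for every integer j the indecomposable modules of type O(j)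
on X and on Y have the same multiplicity). In particular this holds when A and B are Brauer
equivalent. -/
theorem result (k : Type u) [Field k]
    (A : Type u) [Ring A] [Algebra k A] [Algebra.IsCentral k A] [IsSimpleRing A]
    (B : Type u) [Ring B] [Algebra k B] [Algebra.IsCentral k B] [IsSimpleRing B]
    (n n' : ℕ) (hn : 0 < n) (hn' : 0 < n')
    (hA : Module.finrank k A = n * n) (hB : Module.finrank k B = n' * n')
    (i i' m₁ m₂ m₁' m₂' : ℕ) (hm₁ : 0 < m₁) (hm₂ : 0 < m₂) (hm₁' : 0 < m₁') (hm₂' : 0 < m₂')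
    (h₁ : Nonempty (Matrix (Fin m₁) (Fin m₁) (CSAGal.tpow k A i) ≃ₐ[k] Matrix (Fin m₂) (Fin m₂) B))
    (h₂ : Nonempty (Matrix (Fin m₁') (Fin m₁') (CSAGal.tpow k B i') ≃ₐ[k] Matrix (Fin m₂') (Fin m₂') A))
    {X Y : Scheme.{u}} (f : X ⟶ Spec (CommRingCat.of k)) (g : Y ⟶ Spec (CommRingCat.of k))
    [IsProper f] [IsProper g]
    (hX : BrSev.IsSBOf k A (n * n - n) f) (hY : BrSev.IsSBOf k B (n' * n' - n') g)
    (K : Type u) [Field K] [Algebra k K] [IsAlgClosure k K]
    (e : BrSev.Splitting f K (n - 1)) (e' : BrSev.Splitting g K (n' - 1)) (j : ℤ)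
    (W : X.Modules) (W' : Y.Modules) (hW : FlatMod.IsFinLocFree W) (hW' : FlatMod.IsFinLocFree W')
    (hWi : (¬ IsZero W ∧ ∀ M₁ M₂ : X.Modules, Nonempty (W ≅ M₁ ⊞ M₂) → IsZero M₁ ∨ IsZero M₂))
    (hW'i : (¬ IsZero W' ∧ ∀ M₁ M₂ : Y.Modules, Nonempty (W' ≅ M₁ ⊞ M₂) → IsZero M₁ ∨ IsZero M₂))
    (r r' : ℕ) (hr : 0 < r) (hr' : 0 < r')
    (hWt : BrSev.IsTwPow e j r W) (hW't : BrSev.IsTwPow e' j r' W') : r = r' := by
  haveI := KS29.finite_of_finrank hn hA
  haveI := KS29.finite_of_finrank hn' hB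
  rw [KS29.multiplicity_eq hn hA hX e hW hWi hr hWt, KS29.multiplicity_eq hn' hB hY e' hW' hW'i hr' hW't]
  have e1 : Brauer25.cls (k := k) B = Brauer25.cls (k := k) A ^ i := by
    rw [← Brauer25.cls_tensorPower]
    exact (Brauer25.cls_eq_iff.2 ⟨m₁, m₂, hm₁.ne', hm₂.ne', h₁⟩).symm
  have e2 : Brauer25.cls (k := k) A = Brauer25.cls (k := k) B ^ i' := by
    rw [← Brauer25.cls_tensorPower]
    exact (Brauer25.cls_eq_iff.2 ⟨m₁', m₂', hm₁'.ne', hm₂'.ne', h₂⟩).symm
  refine Nat.dvd_antisymm ?_ ?_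
  · rw [e2, ← pow_mul, mul_comm, pow_mul]
    exact Brauer25.ind_pow_dvd _ _
  · rw [e1, ← pow_mul, mul_comm, pow_mul]
    exact Brauer25.ind_pow_dvd _ _

end Groth.Agent.S14208
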