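import Groth.Statements.S1421
import Groth.Agent.Lib.Weight4.MultRank

set_option autoImplicit false
universe u
open FlatMor

namespace Groth.Agent.S1421

open AlgebraicGeometry CategoryTheory Limits in
theorem wt_isWeighting {X Y : Scheme.{u}} (f : X ⟶ Y) [LocallyQuasiFinite f] [Flat f] [LocallyOfFinitePresentation f] :
    MoreMor.IsWeighting f (Groth.Agent.Weight.wt f) ∧ ∀ x, 0 < Groth.Agent.Weight.wt f x := by
  refine ⟨?_, fun x => Groth.Agent.Weight.wt_pos f x (f.quasiFiniteAt x)⟩
  intro V g _ U hU
  haveI := hU
  let π := U.ι ≫ pullback.snd f g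
  have h : MoreMor.fibreIntegral π (fun u => Groth.Agent.Weight.wt f (pullback.fst f g (U.ι u))) =
      fun v => (π.finrank v : ℤ) := funext fun v => by
    rw [← Groth.Agent.Weight.fibreIntegral_wt_eq_finrank π v]
    exact Groth.Agent.Weight.fibreIntegral_congr _ _ _ _ fun z _ =>
      (Groth.Agent.Weight.wt_of_commSq (f := f) (f' := π) (j := U.ι ≫ pullback.fst f g) (g := g)
        (by rw [Category.assoc, Category.assoc, pullback.condition]) z).symm
  show IsLocallyConstant _
  rw [h]
  exact (π.isLocallyConstant_finrank).comp _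

open AlgebraicGeometry CategoryTheory Limits in
/-- Let f : X → Y be flat, locally quasi-finite and locally of finite presentation. Then the function w
sending a point x over y to length(O_{X,x} / m_y O_{X,x}) · [κ(x) : κ(y)]_i (inseparable degree) is
a weighting of f with positive values. -/
theorem result {X Y : Scheme.{u}} (f : X ⟶ Y) [LocallyQuasiFinite f] [Flat f] [LocallyOfFinitePresentation f] :
    let w : ↑X → ℤ := fun x =>
      (Module.length ↑(X.presheaf.stalk x) (↑(X.presheaf.stalk x) ⧸ Ideal.map (f.stalkMap x).hom (IsLocalRing.maximalIdeal ↑(Y.presheaf.stalk (f x))))).toNat *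
      (letI := (f.residueFieldMap x).hom.toAlgebra
       (Field.finInsepDegree (Y.residueField (f x)) (X.residueField x) : ℤ))
    MoreMor.IsWeighting f w ∧ ∀ x, 0 < w x := by
  exact wt_isWeighting f

end Groth.Agent.S1421
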