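import Groth.Statements.S14210
import Groth.Agent.Lib.KS29.GenIndexApp
-- import your own Groth.Agent.* helpers here

set_option autoImplicit false
universe u
open CategoryTheory CategoryTheory.Limits AlgebraicGeometry
open ASBun

namespace Groth.Agent.S14210

/-- For positive integers p, i, d with p ∣ i ∣ d such that every prime dividing i divides p, some field
k carries a central simple k-algebra A of dimension d² with period p (the least p ≥ 1 for which the
p-fold tensor power of A is a full matrix algebra over k) and index i (A is a matrix algebra over a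
division ring of dimension i² over k), together with a k-scheme X which is the Severi–Brauer scheme
of A (for every commutative k-algebra R, the R-points of X over k are identified, naturally in R,
with the left ideals of R ⊗_k A whose quotient is projective of rank d² − d); that is, X is a
Severi–Brauer variety over k of type (p, i, d). -/
theorem result (p i d : ℕ) (hp : 0 < p) (hi : 0 < i) (hd : 0 < d)
    (hpi : p ∣ i) (hid : i ∣ d) (hprimes : ∀ q : ℕ, q.Prime → q ∣ i → q ∣ p) :
    ∃ (k : Type u) (_ : Field k) (A : Type u) (_ : Ring A) (_ : Algebra k A),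
      Algebra.IsCentral k A ∧ IsSimpleRing A ∧ Module.finrank k A = d * d ∧
      CSAGal.IsPeriod k A p ∧ CSAGal.IsIndex k A i ∧
      ∃ (X : Scheme.{u}) (f : X ⟶ Spec (CommRingCat.of k)), BrSev.IsSBOf k A (d * d - d) f := by
  obtain ⟨t, rfl⟩ := hpi
  have ht : 0 < t := Nat.pos_of_mul_pos_left hi
  obtain ⟨k, _, -, D, _, _, _, _, hD, ho⟩ := Groth.Agent.KS29.exists_period_index.{u} p hp t ht
    (fun q hq hqt => hprimes q hq (hqt.mul_left p))
  obtain ⟨m, rfl⟩ := hid
  have hm : 0 < m := Nat.pos_of_mul_pos_left hd
  haveI : NeZero m := ⟨hm.ne'⟩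
  haveI : IsSimpleRing D := inferInstance
  haveI : IsSimpleRing (Matrix (Fin m) (Fin m) D) := IsSimpleRing.matrix (Fin m) D
  haveI : Algebra.IsCentral k (Matrix (Fin m) (Fin m) D) := inferInstance
  have hfin : Module.finrank k (Matrix (Fin m) (Fin m) D) = p * t * m * (p * t * m) := by
    rw [Module.finrank_matrix, Fintype.card_fin, hD]; ring
  obtain ⟨X, f, hX⟩ := Groth.Agent.KS29.exists_isSBOf k (Matrix (Fin m) (Fin m) D)
    (p * t * m * (p * t * m) - p * t * m)
  refine ⟨k, _, Matrix (Fin m) (Fin m) D, inferInstance, inferInstance, inferInstance, inferInstance, hfin,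
    Groth.Agent.Brauer25.isPeriod_iff.2 ?_, ⟨hi, m, D, _, _, hm, by rw [hD, sq], ⟨AlgEquiv.refl⟩⟩, X, f, hX⟩
  rw [Groth.Agent.Brauer25.cls_of_matrix hm.ne' AlgEquiv.refl]
  exact ho

end Groth.Agent.S14210
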