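import Groth.Statements.S14211
import Groth.Agent.Lib.Brauer25.Quaternion

set_option autoImplicit false
universe u v
open scoped TensorProduct
open Brauer

namespace Groth.Agent.S14211

/-- Let k be a field in which 2 ≠ 0 and A a finite-dimensional central simple k-algebra. Then A has
period 2 and index 2 (its Severi–Brauer variety has type (2, 2, 2m)) if and only if A is isomorphic
over k to a matrix algebra M_m(Q), m ≥ 1, over a quaternion algebra Q = (a, b)_k (the k-algebra with
basis 1, i, j, ij, i² = a, j² = b, ij = −ji) which is a division ring; moreover such a quaternion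
algebra is unique up to k-isomorphism. -/
theorem result (k : Type u) [Field k] (h2 : (2 : k) ≠ 0)
    (A : Type v) [Ring A] [Algebra k A] [Algebra.IsCentral k A] [IsSimpleRing A]
    [FiniteDimensional k A] :
    ((CSAGal.IsPeriod k A 2 ∧ CSAGal.IsIndex k A 2) ↔
      ∃ (a b : k) (m : ℕ), 0 < m ∧ (∀ x : QuaternionAlgebra k a 0 b, x ≠ 0 → IsUnit x) ∧
        Nonempty (A ≃ₐ[k] Matrix (Fin m) (Fin m) (QuaternionAlgebra k a 0 b))) ∧
    (∀ (a b a' b' : k) (m m' : ℕ),
      (∀ x : QuaternionAlgebra k a 0 b, x ≠ 0 → IsUnit x) →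
      (∀ x : QuaternionAlgebra k a' 0 b', x ≠ 0 → IsUnit x) →
      Nonempty (A ≃ₐ[k] Matrix (Fin m) (Fin m) (QuaternionAlgebra k a 0 b)) →
      Nonempty (A ≃ₐ[k] Matrix (Fin m') (Fin m') (QuaternionAlgebra k a' 0 b')) →
      Nonempty (QuaternionAlgebra k a 0 b ≃ₐ[k] QuaternionAlgebra k a' 0 b')) := by
  classical
  have key : ∀ (a b : k) (m : ℕ), (∀ x : QuaternionAlgebra k a 0 b, x ≠ 0 → IsUnit x) →
      Nonempty (A ≃ₐ[k] Matrix (Fin m) (Fin m) (QuaternionAlgebra k a 0 b)) →
      Brauer25.ind (Brauer25.cls (k := k) A) = 2 ∧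
        orderOf (Brauer25.cls (k := k) A) = 2 := by
    intro a b m hdiv ⟨e⟩
    letI := Brauer25.quatDivisionRing hdiv
    haveI := Brauer25.quat_isCentral hdiv h2
    have hd : Module.finrank k (QuaternionAlgebra k a 0 b) = 2 ^ 2 := by
      rw [QuaternionAlgebra.finrank_eq_four]; norm_num
    have hind := Brauer25.ind_cls_of_matrix e hd
    refine ⟨hind, ?_⟩
    haveI := Fact.mk Nat.prime_two
    refine orderOf_eq_prime ?_ fun h => by simp [h, Brauer25.ind_one] at hind
    rw [Brauer25.cls_of_matrix (Brauer25.size_ne_zero e) e, pow_two]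
    conv_lhs => arg 2; rw [Brauer25.cls_congr (QuaternionAlgebra.starAe (c₁ := a) (c₂ := 0) (c₃ := b)),
      Brauer25.cls_op]
    exact mul_inv_cancel _
  refine ⟨⟨fun h => ?_, fun h => ?_⟩, ?_⟩
  · obtain ⟨-, m, D, _, _, hm, hdim, ⟨e⟩⟩ := h.2
    haveI : FiniteDimensional k D := .of_finrank_pos (by rw [hdim]; norm_num)
    haveI : NeZero m := ⟨hm.ne'⟩
    haveI : Algebra.IsCentral k (Matrix (Fin m) (Fin m) D) := Algebra.IsCentral.of_algEquiv k _ _ e
    haveI : Algebra.IsCentral k D := CSAlg.isCentral_of_matrix m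
    obtain ⟨a, b, ⟨f⟩⟩ := Brauer25.exists_quat_equiv h2 D (by rw [hdim]; norm_num)
    refine ⟨a, b, m, hm, fun x hx => ?_, ⟨e.trans f.symm.mapMatrix⟩⟩
    have h1 : IsUnit (f x) := isUnit_iff_ne_zero.2 fun h0 => hx (f.injective (by rw [h0, map_zero]))
    simpa using h1.map f.symm
  · obtain ⟨a, b, m, -, hdiv, he⟩ := h
    obtain ⟨h1, h3⟩ := key a b m hdiv he
    exact ⟨Brauer25.isPeriod_iff.2 h3, Brauer25.isIndex_iff.2 h1⟩
  · intro a b a' b' m m' hd hd' ⟨e⟩ ⟨e'⟩
    letI := Brauer25.quatDivisionRing hd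
    letI := Brauer25.quatDivisionRing hd'
    haveI := Brauer25.quat_isCentral hd h2
    haveI := Brauer25.quat_isCentral hd' h2
    exact Brauer25.nonempty_algEquiv_of_cls_eq
      ((Brauer25.cls_of_matrix (Brauer25.size_ne_zero e) e).symm.trans
        (Brauer25.cls_of_matrix (Brauer25.size_ne_zero e') e'))

end Groth.Agent.S14211
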