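import Groth.Statements.S14216
import Groth.Agent.Lib.KS29.SBClass
-- import your own Groth.Agent.* helpers here

set_option autoImplicit false
universe u
open CategoryTheory CategoryTheory.Limits AlgebraicGeometry
open ASBun

namespace Groth.Agent.S14216

/-- Let A be a central simple algebra of degree n ≥ 1 over a field k (of dimension n² over k), X a
proper k-scheme which is the Severi–Brauer scheme of A (for every commutative k-algebra R its
R-points over k are, naturally in R, the left ideals of R ⊗_k A with projective quotient of rank n²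
− n), K an algebraic closure of k and e a K-isomorphism X_K ≅ P^{n−1}_K, along which O_e(j) denotes
the pullback of the twisting sheaf O(j); suppose A has index 2 (A is a matrix algebra over a
division ring of dimension 4 over k). Let E be a finite locally free O_X-module which is absolutely
split: E_K is isomorphic to a finite direct sum of invertible O_{X_K}-modules. Then E ≅ (L_1 ⊕ ⋯ ⊕
L_s) ⊕ (M_1 ⊕ ⋯ ⊕ M_t) where each L_i is an invertible O_X-module with (L_i)_K ≅ O_e(2a_i) and each
M_i is an indecomposable finite locally free O_X-module (nonzero, and in any decomposition as a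
direct sum one summand is zero) of rank 2 with (M_i)_K ≅ O_e(2b_i + 1)^{⊕2}, for integers a_i, b_i.
(The published statement also records that s, t and the a_i, b_j are unique, which is the
Krull–Schmidt uniqueness and is not restated here.) -/
theorem result (k : Type u) [Field k] (A : Type u) [Ring A] [Algebra k A]
    [Algebra.IsCentral k A] [IsSimpleRing A] (n : ℕ) (hn : 0 < n)
    (hA : Module.finrank k A = n * n) {X : Scheme.{u}} (f : X ⟶ Spec (CommRingCat.of k))
    [IsProper f] (hX : BrSev.IsSBOf k A (n * n - n) f)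
    (K : Type u) [Field K] [Algebra k K] [IsAlgClosure k K] (e : BrSev.Splitting f K (n - 1))
    (hi : CSAGal.IsIndex k A 2) (E : X.Modules) (hE : FlatMod.IsFinLocFree E)
    (s₀ : ℕ) (Ns : Fin s₀ → (BrSev.bc f K).Modules) (hNs : ∀ i, PicF.IsInvertible (Ns i))
    (hsplit : Nonempty (BrSev.bcMod f K E ≅ ∐ Ns)) :
    ∃ (s t : ℕ) (Ls : Fin s → X.Modules) (Ms : Fin t → X.Modules) (a : Fin s → ℤ) (b : Fin t → ℤ),
      (∀ i, PicF.IsInvertible (Ls i) ∧ BrSev.IsTwPow e (2 * a i) 1 (Ls i)) ∧
      (∀ i, FlatMod.IsFinLocFree (Ms i) ∧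
        (¬ IsZero (Ms i) ∧ ∀ M₁ M₂ : X.Modules, Nonempty ((Ms i) ≅ M₁ ⊞ M₂) → IsZero M₁ ∨ IsZero M₂) ∧
        BrSev.IsTwPow e (2 * b i + 1) 2 (Ms i)) ∧
      Nonempty (E ≅ (∐ Ls) ⊞ (∐ Ms)) := by
  classical
  haveI := KS29.finite_of_finrank hn hA
  have h2 := Brauer25.isIndex_iff.1 hi
  have hx2 : Brauer25.cls (k := k) A ^ 2 = 1 := h2 ▸ Brauer25.pow_ind_eq_one _
  obtain ⟨N, Gs, js, rs, hG, ⟨θ⟩⟩ := KS29.exists_decomposition_twPow e hE hNs hsplit
  have hrs : ∀ i, rs i = if Even (js i) then 1 else 2 := fun i => by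
    rw [KS29.multiplicity_eq hn hA hX e (hG i).1 (hG i).2.1 (hG i).2.2.1 (hG i).2.2.2, ← KS29.ind_zpow]
    rcases Int.even_or_odd' (js i) with ⟨a, ha | ha⟩
    · rw [if_pos ⟨a, by omega⟩, ha, zpow_mul]
      rw [show (2 : ℤ) = ((2 : ℕ) : ℤ) from rfl, zpow_natCast, hx2, one_zpow, Brauer25.ind_one]
    · rw [if_neg fun ⟨b, hb⟩ => by omega, ha, zpow_add, zpow_mul]
      rw [show (2 : ℤ) = ((2 : ℕ) : ℤ) from rfl, zpow_natCast, hx2, one_zpow, zpow_one, one_mul]
      exact h2
  let σe := (Fintype.equivFin {i : Fin N // Even (js i)}).symm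
  let σo := (Fintype.equivFin {i : Fin N // ¬ Even (js i)}).symm
  let σ : _ ⊕ _ ≃ Fin N := (Equiv.sumCongr σe σo).trans (Equiv.sumCompl fun i => Even (js i))
  have hb : ∀ l, js (σo l).1 = 2 * (js (σo l).1 / 2) + 1 := fun l => by
    obtain ⟨b, hb⟩ := Int.not_even_iff_odd.1 (σo l).2
    omega
  have ha : ∀ l, js (σe l).1 = 2 * (js (σe l).1 / 2) := fun l => by
    obtain ⟨b, hb⟩ := (σe l).2
    omega
  refine ⟨_, _, fun l => Gs (σe l).1, fun l => Gs (σo l).1, fun l => js (σe l).1 / 2, fun l => js (σo l).1 / 2,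
    fun l => ?_, fun l => ?_, ?_⟩
  · have h := (hG (σe l).1).2.2.2
    rw [hrs, if_pos (σe l).2] at h
    refine ⟨KS29.isInvertible_of_twPow_one f e (hG _).1 h, ?_⟩
    rw [← ha]
    exact h
  · have h := (hG (σo l).1).2.2.2
    rw [hrs, if_neg (σo l).2] at h
    refine ⟨(hG _).1, ⟨(hG _).2.1.1, (hG _).2.1.2⟩, ?_⟩
    rw [← hb]
    exact h
  · haveI := Abelian.hasFiniteBiproducts (C := X.Modules)
    let dE : KS29.Dec E Gs := KS29.Dec.ofCoproduct.trans θ.symm
    let d1 := (dE.reindex σ).congr (F' := Sum.elim (fun l => Gs (σe l).1) fun l => Gs (σo l).1) fun x => by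
      cases x <;> exact Iso.refl _
    exact ⟨d1.isoBiproduct ≪≫ (KS29.Dec.ofBiprod KS29.Dec.ofCoproduct KS29.Dec.ofCoproduct).isoBiproduct.symm⟩

end Groth.Agent.S14216
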