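import Groth.Statements.S14217
import Groth.Agent.S14216
import Groth.Agent.Lib.P1Split17.Main
import Groth.Agent.Lib.RankLoc10.Triv
-- import your own Groth.Agent.* helpers here

set_option autoImplicit false
universe u
open CategoryTheory CategoryTheory.Limits AlgebraicGeometry
open ASBun

namespace Groth.Agent.S14217

/-- Let A be a non-split central simple algebra of degree 2 over a field k (of dimension 4 and not
isomorphic to the 2 × 2 matrices over k), X a proper k-scheme which is the Severi–Brauer scheme of A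
(for every commutative k-algebra R its R-points over k are, naturally in R, the left ideals of R ⊗_k
A with projective quotient of rank 2), so that X is a conic without rational point, K an algebraic
closure of k and e a K-isomorphism X_K ≅ P^1_K, with O_e(j) the pullback of O(j) along e. Then every
finite locally free O_X-module E decomposes as E ≅ (L_1 ⊕ ⋯ ⊕ L_s) ⊕ (M_1 ⊕ ⋯ ⊕ M_t) with each L_i
invertible and (L_i)_K ≅ O_e(2a_i), and each M_i indecomposable finite locally free (nonzero, and in
any decomposition as a direct sum one summand is zero) of rank 2 with (M_i)_K ≅ O_e(2b_i + 1)^{⊕2},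
for integers a_i, b_i. (The published statement writes the invertible summands as tensor powers of
the canonical module, which is such an L with (L)_K ≅ O(−2), and records uniqueness of the summands,
which is Krull–Schmidt and not restated here.) -/
theorem result (k : Type u) [Field k] (A : Type u) [Ring A]
    [Algebra k A] [Algebra.IsCentral k A] [IsSimpleRing A] (hA : Module.finrank k A = 4)
    (hns : ¬ Curves.Splits k A k) {X : Scheme.{u}} (f : X ⟶ Spec (CommRingCat.of k))
    [IsProper f] (hX : BrSev.IsSBOf k A 2 f)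
    (K : Type u) [Field K] [Algebra k K] [IsAlgClosure k K] (e : BrSev.Splitting f K 1)
    (E : X.Modules) (hE : FlatMod.IsFinLocFree E) :
    ∃ (s t : ℕ) (Ls : Fin s → X.Modules) (Ms : Fin t → X.Modules) (a : Fin s → ℤ) (b : Fin t → ℤ),
      (∀ i, PicF.IsInvertible (Ls i) ∧ BrSev.IsTwPow e (2 * a i) 1 (Ls i)) ∧
      (∀ i, FlatMod.IsFinLocFree (Ms i) ∧
        (¬ IsZero (Ms i) ∧ ∀ M₁ M₂ : X.Modules, Nonempty ((Ms i) ≅ M₁ ⊞ M₂) → IsZero M₁ ∨ IsZero M₂) ∧
        BrSev.IsTwPow e (2 * b i + 1) 2 (Ms i)) ∧
      Nonempty (E ≅ (∐ Ls) ⊞ (∐ Ms)) := by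
  have hA' : Module.finrank k A = 2 * 2 := hA
  haveI := KS29.finite_of_finrank two_pos hA'
  have hne : Brauer25.cls (k := k) A ≠ 1 := fun h => hns (Brauer25.cls_eq_one_iff_splits.1 h)
  have hi : CSAGal.IsIndex k A 2 := Brauer25.isIndex_iff.2
    (((Nat.dvd_prime Nat.prime_two).1 (KS29.ind_dvd_degree hA')).resolve_left fun h =>
      hne (Brauer25.ind_eq_one_iff.1 h))
  let E' := (Scheme.Modules.pullback e.iso.inv).obj (BrSev.bcMod f K E)
  have hE' : FlatMod.IsFinLocFree E' :=
    M2.isFinLocFree_pullback e.iso.inv (M2.isFinLocFree_pullback (BrSev.proj f K) hE)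
  haveI : IsIntegral (CohB1.ProjSpace 1 K) := RegExt.isIntegral_projSpace 1 K
  let x₀ : CohB1.ProjSpace 1 K := Classical.arbitrary _
  have hrk : FlatMod.IsFinLocFreeOfRank (RankLoc10.rk E' x₀) E' :=
    RankLoc10.isFinLocFreeOfRank_of_rk hE' fun x =>
      (RankLoc10.isLocallyConstant_rk hE').apply_eq_of_preconnectedSpace x x₀
  obtain ⟨d, -, ⟨φ⟩⟩ := P1Split.exists_splitting (k := K) E' hrk
  haveI := Abelian.hasFiniteBiproducts (C := (CohB1.ProjSpace 1 K).Modules)
  haveI := Abelian.hasFiniteBiproducts (C := (BrSev.bc f K).Modules)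
  haveI : (Scheme.Modules.pullback e.iso.hom).Additive :=
    (Scheme.Modules.pullbackPushforwardAdjunction e.iso.hom).left_adjoint_additive
  let d0 : KS29.Dec E' (fun i => Twist.twistProjSpace 1 K (d i)) := KS29.Dec.ofCoproduct.trans φ.symm
  exact Groth.Agent.S14216.result k A 2 two_pos hA' f hX K e hi E hE (RankLoc10.rk E' x₀)
    (fun i => e.twist (d i)) (fun i => KS29.isInvertible_twist e (d i))
    ⟨((d0.map (Scheme.Modules.pullback e.iso.hom)).trans
      ((Scheme.Modules.pullbackComp e.iso.hom e.iso.inv).app _ ≪≫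
        (Scheme.Modules.pullbackCongr e.iso.hom_inv_id).app _ ≪≫
        (Scheme.Modules.pullbackId _).app _)).isoCoproduct⟩

end Groth.Agent.S14217
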