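import Groth.Statements.S14233
import Groth.Agent.Lib.RootCh.Parabolic
-- import your own Groth.Agent.* helpers here

set_option autoImplicit false
universe u v w x
open RootCh RootCh.Facet

namespace Groth.Agent.S14233

/-- For a finite reduced crystallographic root system over a linearly ordered field, a facet F and a
corner m of F, there is a facet whose corners are exactly the corners of F other than m. -/
theorem result {ι : Type u} {R : Type v} {M : Type w} {N : Type x}
    [Field R] [LinearOrder R] [IsStrictOrderedRing R]
    [AddCommGroup M] [Module R M] [AddCommGroup N] [Module R N] [Finite ι]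
    (P : RootPairing ι R M N) [P.IsRootSystem] [P.IsCrystallographic] [P.IsReduced] (F : RootCh.Facet P) (m : M) (hm : m ∈ F.corners) :
    ∃ G : RootCh.Facet P, G.corners = F.corners \ {m} := by
  classical
  obtain ⟨b, hb⟩ := Groth.Agent.RootChLib.exists_cham F
  rw [Groth.Agent.RootChLib.corners_eq hb] at hm
  obtain ⟨i, hi, rfl⟩ := hm
  obtain ⟨G, -, -, hG⟩ :=
    Groth.Agent.RootChLib.exists_facet b (insert i ({j | F.sgn j = 0} : Set b.support))
  refine ⟨G, ?_⟩
  rw [hG, Groth.Agent.RootChLib.corners_eq hb, ← Set.image_singleton,
    ← Set.image_sdiff (Groth.Agent.RootChLib.fundWeight_injective b)]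
  congr 1
  ext j
  simp only [Set.mem_compl_iff, Set.mem_sdiff, Set.mem_setOf_eq, Set.mem_singleton_iff, Set.mem_insert_iff]
  tauto

end Groth.Agent.S14233
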