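import Groth.Statements.S14243
import Groth.Agent.Lib.RootCh.Parabolic
-- import your own Groth.Agent.* helpers here

set_option autoImplicit false
universe u v w x
open RootCh

namespace Groth.Agent.S14243

/-- For a finite reduced crystallographic root system over a linearly ordered field with a complementary
convex solid d (a vector d(b) of N for every Weyl chamber b, subject to (B1): a common corner of two
chambers pairs equally with their d-values, and (B2): across a wall, the root that changes sign from
positive to negative does not pair more with d on the positive side) and a facet F with dual facet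
F̌ in N and dual solid F(F), the convex hull of the d(b) over the chambers b adjacent to F: the two
conditions (S1) for every corner m of F the numerical invariant n(F, m), the sum of ⟨α, d(b)⟩ over
the elementary set of roots Ψ(F, m) for b adjacent to F, is positive, and (S2) F(F) meets the linear
span of F̌ (equivalently, the reduced root system with convex solid attached to F is semi-stable),
hold together if and only if F̌ itself meets F(F). (The published text takes (S1) and (S2), the
latter through the reduced system, as the definition of a special facet; this row states their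
equivalence with the condition F̌ ∩ F(F) ≠ ∅, the form in which specialness is expressed in the
companion results.) -/
theorem result {ι : Type u} {R : Type v} {M : Type w} {N : Type x}
    [Field R] [LinearOrder R] [IsStrictOrderedRing R]
    [AddCommGroup M] [Module R M] [AddCommGroup N] [Module R N] [Finite ι]
    (P : RootPairing ι R M N) [P.IsRootSystem] [P.IsCrystallographic] [P.IsReduced] (d : P.Base → N) (hd : RootCh.IsCCS d) (F : RootCh.Facet P) :
    ((∀ m ∈ F.corners, ∀ b ∈ F.cham, 0 < F.numInv d m b) ∧
        (RootCh.dualSolid d F ∩ (Submodule.span R F.dualCarrier : Set N)).Nonempty) ↔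
      RootCh.IsSpecial d F := by
  classical
  obtain ⟨b, hb⟩ := Groth.Agent.RootChLib.exists_cham F
  have key : ∀ y ∈ RootCh.dualSolid d F, y ∈ Submodule.span R F.dualCarrier →
      ∀ i : b.support, F.sgn i ≠ 0 → ∀ b' ∈ F.cham,
        ∃ n : ℕ, 0 < n ∧ F.numInv d (RootCh.fundWeight b i) b' = n * P.root' i y := by
    intro y hy hys i hi b' hb'
    refine ⟨(Set.toFinite (F.Psi (RootCh.fundWeight b i))).toFinset.card, Finset.card_pos.2 ⟨i, ?_⟩, ?_⟩
    · rw [Set.Finite.mem_toFinset, Groth.Agent.RootChLib.mem_Psi_iff hb hi]
      exact ⟨RootCh.root'_fundCoweight_self b i,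
        fun l _ hne => RootCh.root'_fundCoweight_of_ne b l i hne.symm⟩
    · have hm : RootCh.fundWeight b i ∈ F.corners :=
        Groth.Agent.RootChLib.fundWeight_mem_corners hb hi
      rw [Groth.Agent.RootChLib.numInv_eq, ← Groth.Agent.RootChLib.pairing_eq_of_mem_dualSolid hd hb' hy
        (Groth.Agent.RootChLib.sum_psi_mem_span F hm), map_sum, LinearMap.sum_apply, ← nsmul_eq_mul,
        ← Finset.sum_const]
      refine Finset.sum_congr rfl fun k hk => ?_
      rw [Set.Finite.mem_toFinset, Groth.Agent.RootChLib.mem_Psi_iff hb hi] at hk
      change P.root' k y = P.root' i y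
      rw [Groth.Agent.RootChLib.root'_eq_sum_coweights b y, Finset.sum_eq_single i, hk.1, mul_one]
      · intro l _ hne
        by_cases hl : F.sgn l = 0
        · rw [Groth.Agent.RootChLib.root'_eq_zero_of_mem_span hys hl, zero_mul]
        · rw [hk.2 l hl hne, mul_zero]
      · simp
  constructor
  · rintro ⟨hpos, y, hy, hys⟩
    refine ⟨y, (Groth.Agent.RootChLib.mem_dualCarrier_iff hb y).2 fun i =>
      ⟨Groth.Agent.RootChLib.root'_eq_zero_of_mem_span hys, fun hi => ?_⟩, hy⟩
    obtain ⟨n, -, hn⟩ := key y hy hys i hi b hb
    have := hpos _ (Groth.Agent.RootChLib.fundWeight_mem_corners hb hi) b hb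
    rw [hn] at this
    exact pos_of_mul_pos_right this (Nat.cast_nonneg n)
  · rintro ⟨y, hy, hy'⟩
    refine ⟨fun m hm b' hb' => ?_, y, hy', Submodule.subset_span hy⟩
    rw [Groth.Agent.RootChLib.corners_eq hb] at hm
    obtain ⟨i, hi, rfl⟩ := hm
    obtain ⟨n, hn, hn'⟩ := key y hy' (Submodule.subset_span hy) i hi b' hb'
    rw [hn']
    exact mul_pos (Nat.cast_pos.2 hn) (((Groth.Agent.RootChLib.mem_dualCarrier_iff hb y).1 hy i).2 hi)

end Groth.Agent.S14243
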