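import Groth.Agent.Lib.PerfTor23.Basic
import Mathlib.CategoryTheory.Abelian.Projective.Resolution
import Mathlib.Algebra.Category.ModuleCat.Projective
import Mathlib.Algebra.Homology.ShortComplex.ModuleCat
import Mathlib.Algebra.Category.ModuleCat.Monoidal.Basic
import Mathlib.Algebra.Category.ModuleCat.Projective
import Mathlib.Algebra.Category.ModuleCat.Abelian
import Mathlib.CategoryTheory.Monoidal.Tor
import Mathlib.Algebra.CharP.Defs
-- import your own Groth.Agent.* helpers here

set_option autoImplicit false
universe u
open CategoryTheory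
namespace FrobAlg
end FrobAlg
open FrobAlg

namespace Groth.Agent.S14252

/-- Let p be a prime, A a commutative ring with p = 0 whose p-th power map is bijective, and B, C two
commutative A-algebras whose p-th power maps are bijective (a diagram C ← A → B of perfect rings of
characteristic p). Then Tor_i^A(B, C) vanishes for all i > 0. -/
theorem result (p : ℕ) [Fact p.Prime] (A B C : Type u) [CommRing A] [CommRing B] [CommRing C]
    [CharP A p] [Algebra A B] [Algebra A C]
    (hA : Function.Bijective fun a : A => a ^ p) (hB : Function.Bijective fun b : B => b ^ p)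
    (hC : Function.Bijective fun c : C => c ^ p) (i : ℕ) (hi : 0 < i) :
    Limits.IsZero (((Tor (ModuleCat.{u} A) i).obj (ModuleCat.of A B)).obj (ModuleCat.of A C)) := by
  obtain ⟨n, rfl⟩ : ∃ n, i = n + 1 := ⟨i - 1, by omega⟩
  let R := projectiveResolution (ModuleCat.of.{u} A C)
  let F := (MonoidalCategory.tensoringLeft (ModuleCat.{u} A)).obj (ModuleCat.of A B)
  refine Limits.IsZero.of_iso ?_ (R.isoLeftDerivedObj F (n + 1))
  refine (HomologicalComplex.exactAt_iff_isZero_homology _ _).1 ?_
  rw [HomologicalComplex.exactAt_iff' _ (n + 2) (n + 1) n (by simp) (by simp), ShortComplex.moduleCat_exact_iff]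
  have hA' : Groth.Agent.PerfTor23.Perf p A := ⟨CharP.cast_eq_zero A p, hA⟩
  have hch : ∀ (D : Type u) [CommRing D] [Algebra A D], (p : D) = 0 := fun D _ _ => by
    rw [← map_natCast (algebraMap A D), CharP.cast_eq_zero, map_zero]
  haveI : ∀ m, Module.Flat A (R.complex.X m) := fun m => by
    haveI : Module.Projective A (R.complex.X m) := (IsProjective.iff_projective (R := A) _).2 (R.projective m)
    exact Module.Flat.of_projective
  let d : ∀ m, (R.complex.X (m + 1) : Type u) →ₗ[A] R.complex.X m := fun m => (R.complex.d (m + 1) m).hom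
  have hd : ∀ m, Function.Exact (d (m + 1)) (d m) := fun m => by
    have h := R.complex_exactAt_succ m
    rw [HomologicalComplex.exactAt_iff' _ (m + 2) (m + 1) m (by simp) (by simp)] at h
    exact (ShortComplex.ShortExact.moduleCat_exact_iff_function_exact _).1 h
  have hε := (ShortComplex.ShortExact.moduleCat_exact_iff_function_exact _).1 R.exact₀
  have hεs : Function.Surjective (R.π.f 0).hom := (ModuleCat.epi_iff_surjective _).1 inferInstance
  let ε : (R.complex.X 0 : Type u) →ₗ[A] C := (R.π.f 0).hom
  have H := Groth.Agent.PerfTor23.acyclic_of_perf (A := A) (C := C) (P := fun m => (R.complex.X m : Type u)) d ε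
    hd hε hεs hA' ⟨hch C, hC⟩ B ⟨hch B, hB⟩
  exact fun x hx => H n x hx


end Groth.Agent.S14252
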