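import Groth.Statements.S14253
import Groth.Agent.Lib.PerfUH12.Basic


set_option autoImplicit false
universe u
set_option linter.style.haveILetI false
open CategoryTheory AlgebraicGeometry
open PerfSch

namespace Groth.Agent.S14253

/-- A universal homeomorphism f : X ⟶ Y between perfect schemes of prime characteristic p (on every open
of X and of Y, p = 0 in the ring of sections and the p-th power map is bijective) is an isomorphism. -/
theorem result (p : ℕ) [Fact p.Prime] {X Y : Scheme.{u}} (f : X ⟶ Y)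
    (hX : PerfSch.IsPerfect p X) (hY : PerfSch.IsPerfect p Y) (hf : FlatMor.IsUnivHomeo f) : IsIso f := by
  haveI := ((Groth.Agent.S0415.result f).1 hf).1
  rw [← MorphismProperty.isomorphisms.iff, IsZariskiLocalAtTarget.iff_of_iSup_eq_top
    (P := MorphismProperty.isomorphisms Scheme.{u}) _ (iSup_affineOpens_eq_top Y)]
  intro U
  haveI : FlatMor.IsUnivHomeo.{u}.IsStableUnderBaseChange := by
    unfold FlatMor.IsUnivHomeo; infer_instance
  haveI : FlatMor.IsUnivHomeo.{u}.RespectsIso := by
    unfold FlatMor.IsUnivHomeo; infer_instance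
  haveI : IsAffine (U.1 : Scheme) := U.2
  haveI : IsAffine (f ⁻¹ᵁ U.1).toScheme := U.2.preimage f
  have hres : FlatMor.IsUnivHomeo (f ∣_ U.1) :=
    MorphismProperty.of_isPullback (P := FlatMor.IsUnivHomeo) (isPullback_morphismRestrict f U.1).flip hf
  have hspec : FlatMor.IsUnivHomeo (Spec.map (f ∣_ U.1).appTop) :=
    (MorphismProperty.arrow_mk_iso_iff FlatMor.IsUnivHomeo
      (arrowIsoSpecΓOfIsAffine (f ∣_ U.1))).1 hres
  have e : ∀ (Z : Scheme.{u}) (V : Z.Opens), PerfSch.IsPerfect p Z →
      ((p : Γ(V.toScheme, ⊤)) = 0 ∧ Function.Bijective fun s : Γ(V.toScheme, ⊤) => s ^ p) := by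
    intro Z V hZ
    obtain ⟨h1, h2⟩ := hZ V
    let i := V.topIso.commRingCatIsoToRingEquiv
    refine ⟨i.injective (by rw [map_natCast, map_zero]; exact h1), ?_⟩
    have : (fun s : Γ(V.toScheme, ⊤) => s ^ p) = i.symm ∘ (fun s : Γ(Z, V) => s ^ p) ∘ i := by
      funext s
      simp [Function.comp]
    rw [this]
    exact i.symm.bijective.comp (h2.comp i.bijective)
  obtain ⟨h0, hA⟩ := e Y U.1 hY
  obtain ⟨-, hB⟩ := e X (f ⁻¹ᵁ U.1) hX
  refine (MorphismProperty.arrow_mk_iso_iff (MorphismProperty.isomorphisms Scheme.{u})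
    (arrowIsoSpecΓOfIsAffine (f ∣_ U.1))).2 ?_
  haveI : IsIso (f ∣_ U.1).appTop := by
    rw [ConcreteCategory.isIso_iff_bijective]
    exact PerfUH12.bijective_of_perfect p Fact.out _ h0 hA hB hspec
  exact (inferInstance : IsIso (Spec.map (f ∣_ U.1).appTop))


end Groth.Agent.S14253
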