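import Groth.Statements.S14254
import Groth.Agent.Lib.PerfUH12.Basic
import Mathlib.FieldTheory.IsPerfectClosure


set_option autoImplicit false
universe u
set_option linter.style.haveILetI false
open CategoryTheory AlgebraicGeometry
open FrobAlg

namespace Groth.Agent.S14254

/-- Let p be a prime, φ : A → B a map of commutative rings of characteristic p, i : A → A' and j : B →
B' perfect closures (A' and B' are perfect rings of characteristic p, every element of A' resp. B'
has a p^n-th power in the image of i resp. j, and the kernels of i and j consist of nilpotent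
elements), and φ' : A' → B' the induced map, φ' ∘ i = j ∘ φ. Then Spec φ : Spec B ⟶ Spec A is a
universal homeomorphism if and only if φ' is bijective. (The published statement is for an arbitrary
morphism of schemes over the prime field and its perfection; this row is the case of affine schemes,
the perfection of Spec A being Spec of the perfect closure of A.) -/
theorem result (p : ℕ) [Fact p.Prime]
    {A B A' B' : Type u} [CommRing A] [CommRing B] [CommRing A'] [CommRing B']
    [CharP A p] [CharP B p] [CharP A' p] [CharP B' p] [PerfectRing A' p] [PerfectRing B' p]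
    (φ : A →+* B) (i : A →+* A') (j : B →+* B') [IsPerfectClosure i p] [IsPerfectClosure j p]
    (φ' : A' →+* B') (hφ : φ'.comp i = j.comp φ) :
    FlatMor.IsUnivHomeo (Spec.map (CommRingCat.ofHom φ)) ↔ Function.Bijective φ' := by
  have hpr : p.Prime := Fact.out
  have huh : ∀ {R R' : Type u} [CommRing R] [CommRing R'] [CharP R p] [CharP R' p] (k : R →+* R'),
      IsPRadical k p → FlatMor.IsUnivHomeo (Spec.map (CommRingCat.ofHom k)) := by
    intro R R' _ _ _ _ k hk
    have haway : Function.Bijective (Localization.awayMap k (p : R)) := by
      haveI : Subsingleton (Localization.Away (p : R)) :=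
        IsLocalization.subsingleton (M := Submonoid.powers (p : R)) ⟨1, by simp⟩
      haveI : Subsingleton (Localization.Away (k (p : R))) :=
        IsLocalization.subsingleton (M := Submonoid.powers (k (p : R))) ⟨1, by simp⟩
      exact ⟨fun x y _ => Subsingleton.elim x y, fun y => ⟨0, Subsingleton.elim _ _⟩⟩
    refine (UH.isUnivHomeo_Spec_iff_away k p hpr haway).2 ⟨fun a ha => ?_, fun b => ?_⟩
    · exact pNilradical_le_nilradical (hk.ker_le' ha)
    · obtain ⟨n, y, hy⟩ := hk.pow_mem' b
      refine ⟨n + 1, ?_, ⟨y ^ p, by rw [map_pow, hy, ← pow_mul, ← pow_succ]⟩⟩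
      rw [CharP.cast_eq_zero R' p, zero_pow (Nat.succ_ne_zero n), zero_mul]
      exact zero_mem _
  have hi := huh i inferInstance
  have hj := huh j inferInstance
  have hcomp : Spec.map (CommRingCat.ofHom j) ≫ Spec.map (CommRingCat.ofHom φ) =
      Spec.map (CommRingCat.ofHom φ') ≫ Spec.map (CommRingCat.ofHom i) := by
    rw [← Spec.map_comp, ← Spec.map_comp, ← CommRingCat.ofHom_comp, ← CommRingCat.ofHom_comp, hφ]
  constructor
  · intro h
    have h' : FlatMor.IsUnivHomeo (Spec.map (CommRingCat.ofHom φ')) :=
      UH.of_comp_right (hcomp ▸ UH.isUnivHomeo_comp hj h) hi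
    exact PerfUH12.bijective_of_perfect p hpr φ' (CharP.cast_eq_zero A' p)
      (PerfectRing.bijective_frobenius (R := A') (p := p))
      (PerfectRing.bijective_frobenius (R := B') (p := p)) h'
  · intro h
    haveI : IsIso (Spec.map (CommRingCat.ofHom φ')) := by
      haveI : IsIso (CommRingCat.ofHom φ') := (ConcreteCategory.isIso_iff_bijective _).2 h
      infer_instance
    have h' : FlatMor.IsUnivHomeo (Spec.map (CommRingCat.ofHom φ')) :=
      UH.isUnivHomeo_of_isImmersion _
    exact UH.of_comp_left (hcomp.symm ▸ UH.isUnivHomeo_comp h' hi) hj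


end Groth.Agent.S14254
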