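import Groth.Statements.S14256
import Groth.Agent.Lib.PerfClosure23.Basic

set_option autoImplicit false
universe u
open FrobAlg

namespace Groth.Agent.S14256

/-- Let p be a prime, φ : A → B a map of commutative rings of characteristic p, i : A → A' and j : B →
B' perfect closures (A', B' perfect rings of characteristic p, every element of A' resp. B' has a
p^n-th power in the image of i resp. j, the kernels of i and j consist of nilpotent elements), and
φ' : A' → B' the induced map, φ' ∘ i = j ∘ φ. Then φ is integral if and only if φ' is integral. (The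
published statement is that a morphism of schemes over the prime field is integral exactly when its
perfection is; this row is its affine case, to which the published proof reduces.) -/
theorem result (p : ℕ) [Fact p.Prime]
    {A B A' B' : Type u} [CommRing A] [CommRing B] [CommRing A'] [CommRing B']
    [CharP A p] [CharP B p] [CharP A' p] [CharP B' p] [PerfectRing A' p] [PerfectRing B' p]
    (φ : A →+* B) (i : A →+* A') (j : B →+* B') [IsPerfectClosure i p] [IsPerfectClosure j p]
    (φ' : A' →+* B') (hφ : φ'.comp i = j.comp φ) : φ.IsIntegral ↔ φ'.IsIntegral := by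

  constructor
  · intro h y
    obtain ⟨n, b, hb⟩ := IsPRadical.pow_mem j p y
    obtain ⟨f, hf, hfb⟩ := h b
    have hcomp : Polynomial.eval₂ φ' (y ^ p ^ n) (f.map i) = 0 := by
      rw [Polynomial.eval₂_map, hφ, ← hb, ← Polynomial.hom_eval₂, hfb, map_zero]
    letI := φ'.toAlgebra
    exact (IsIntegral.of_pow (pow_pos (Fact.out : p.Prime).pos n)
      ⟨f.map i, hf.map i, hcomp⟩ : IsIntegral A' y)
  · intro h b
    have hii : i.IsIntegral := fun y => by
      obtain ⟨n, a, ha⟩ := IsPRadical.pow_mem i p y
      exact ⟨Polynomial.X ^ p ^ n - Polynomial.C a,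
        Polynomial.monic_X_pow_sub_C _ (pow_ne_zero n (Fact.out : p.Prime).ne_zero), by simp [ha]⟩
    obtain ⟨f, hf, hfb⟩ := (RingHom.IsIntegral.trans i φ' hii h) (j b)
    rw [hφ, ← Polynomial.hom_eval₂] at hfb
    obtain ⟨n, hn⟩ := mem_pNilradical.mp (IsPRadical.ker_le j p hfb)
    exact ⟨f ^ p ^ n, hf.pow _, by rw [Polynomial.eval₂_pow, hn]⟩


end Groth.Agent.S14256
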