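import Groth.Statements.S14257
import Groth.Agent.Lib.RelFrob23.Basic
import Mathlib.FieldTheory.IsPerfectClosure

set_option autoImplicit false
universe u
open TensorProduct
open FrobAlg

namespace Groth.Agent.S14257

open scoped TensorProduct

/-- Let p be a prime, A a commutative ring of characteristic p, B an etale A-algebra of characteristic
p, A → A' and B → B' perfect closures (A', B' perfect rings of characteristic p, every element of A'
resp. B' has a p^n-th power in the image of A resp. B, and the structure maps have kernels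
consisting of nilpotent elements), B' viewed as an A-algebra through B, and φ' : A' → B' a map of
A-algebras. Then the natural map A' ⊗_A B → B', a ⊗ b ↦ φ'(a) b, is bijective. (The published
statement is for an etale morphism X → Y of schemes over the prime field, where X_perf → X ×_Y
Y_perf is an isomorphism; this row is the affine case.) -/
theorem result (p : ℕ) [Fact p.Prime]
    (A B A' B' : Type u) [CommRing A] [CommRing B] [CommRing A'] [CommRing B']
    [CharP A p] [CharP B p] [CharP A' p] [CharP B' p] [PerfectRing A' p] [PerfectRing B' p]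
    [Algebra A B] [Algebra.Etale A B] [Algebra A A'] [Algebra B B'] [Algebra A B'] [IsScalarTower A B B']
    [IsPerfectClosure (algebraMap A A') p] [IsPerfectClosure (algebraMap B B') p]
    (φ' : A' →ₐ[A] B') :
    Function.Bijective (Algebra.TensorProduct.lift φ' (IsScalarTower.toAlgHom A B B')
      (fun a b => Commute.all (φ' a) (IsScalarTower.toAlgHom A B B' b))) := by

  set φ := Algebra.TensorProduct.lift φ' (IsScalarTower.toAlgHom A B B')
      (fun a b => Commute.all (φ' a) (IsScalarTower.toAlgHom A B B' b)) with hφ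
  have hφ1 : ∀ b : B, φ (1 ⊗ₜ[A] b) = algebraMap B B' b := fun b => by simp [hφ]
  have hA' : (p : A' ⊗[A] B) = 0 := by
    rw [← map_natCast (algebraMap A' (A' ⊗[A] B)) p, CharP.cast_eq_zero A' p, map_zero]
  have hp := (Fact.out : p.Prime)
  -- elements have `p ^ n`-th powers coming from `B`
  have hpow : ∀ z : A' ⊗[A] B, ∃ (n : ℕ) (b : B), z ^ p ^ n = 1 ⊗ₜ[A] b := by
    have hstep : ∀ (z : A' ⊗[A] B) (n m : ℕ) (b : B), z ^ p ^ n = 1 ⊗ₜ[A] b →
        z ^ p ^ (n + m) = 1 ⊗ₜ[A] (b ^ p ^ m) := by
      intro z n m b h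
      rw [pow_add, pow_mul, h, Algebra.TensorProduct.tmul_pow, one_pow]
    have hadd : ∀ (n : ℕ) (x y : A' ⊗[A] B), (x + y) ^ p ^ n = x ^ p ^ n + y ^ p ^ n := by
      intro n
      induction n with
      | zero => simp
      | succ n ih =>
        intro x y
        rw [pow_succ, pow_mul, pow_mul, pow_mul, ih, Groth.Agent.RelFrob23.add_pow_p p hA']
    intro z
    induction z using TensorProduct.induction_on with
    | zero => exact ⟨0, 0, by simp⟩
    | add z w hz hw =>
      obtain ⟨n, b, hb⟩ := hz
      obtain ⟨m, c, hc⟩ := hw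
      refine ⟨n + m, b ^ p ^ m + c ^ p ^ n, ?_⟩
      have h2 := hstep w m n c hc
      rw [add_comm m n] at h2
      rw [hadd, hstep z n m b hb, h2, TensorProduct.tmul_add]
    | tmul a b =>
      obtain ⟨n, a₀, ha₀⟩ := IsPRadical.pow_mem (algebraMap A A') p a
      refine ⟨n, a₀ • b ^ p ^ n, ?_⟩
      rw [Algebra.TensorProduct.tmul_pow, ← ha₀, TensorProduct.tmul_smul, TensorProduct.smul_tmul',
        Algebra.algebraMap_eq_smul_one]
  haveI : Nontrivial B' := CharP.nontrivial_of_char_ne_one hp.ne_one
  haveI : Nontrivial (A' ⊗[A] B) := φ.toRingHom.domain_nontrivial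
  haveI : CharP (A' ⊗[A] B) p := (CharP.charP_iff_prime_eq_zero hp).mpr hA'
  have hbij := Groth.Agent.RelFrob23.bijective_of_etale p A' (A' ⊗[A] B)
  have hinj : Function.Injective (frobenius (A' ⊗[A] B) p) :=
    Groth.Agent.RelFrob23.frobenius_injective p A' (A' ⊗[A] B) hbij.1
  have hsurj : Function.Surjective (frobenius (A' ⊗[A] B) p) := by
    intro w
    obtain ⟨x, rfl⟩ := hbij.2 w
    induction x using TensorProduct.induction_on with
    | zero => exact ⟨0, by simp⟩
    | add x y hx hy =>
      obtain ⟨x', hx'⟩ := hx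
      obtain ⟨y', hy'⟩ := hy
      exact ⟨x' + y', by simp only [map_add, hx', hy']⟩
    | tmul c a =>
      refine ⟨c * algebraMap A' (A' ⊗[A] B)
        ((frobeniusEquiv A' p).symm ((FrobAlg.toTwist p A').symm a)), ?_⟩
      rw [Groth.Agent.RelFrob23.relFrob_tmul, frobenius_def, mul_pow, ← map_pow,
        frobeniusEquiv_symm_pow_p]
  constructor
  · rw [injective_iff_map_eq_zero]
    intro z hz
    obtain ⟨n, b, hb⟩ := hpow z
    have h0 : algebraMap B B' b = 0 := by
      rw [← hφ1, ← hb, map_pow, hz, zero_pow (pow_ne_zero n hp.ne_zero)]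
    obtain ⟨m, hm⟩ := (mem_pNilradical.mp (IsPRadical.ker_le (algebraMap B B') p h0))
    apply hinj.iterate (n + m)
    rw [iterate_frobenius, iterate_frobenius, pow_add, pow_mul, hb, Algebra.TensorProduct.tmul_pow,
      one_pow, hm, TensorProduct.tmul_zero]
    exact (zero_pow (mul_ne_zero (pow_ne_zero n hp.ne_zero) (pow_ne_zero m hp.ne_zero))).symm
  · intro y
    obtain ⟨n, b, hb⟩ := IsPRadical.pow_mem (algebraMap B B') p y
    obtain ⟨z, hz⟩ := hsurj.iterate n (1 ⊗ₜ[A] b)
    refine ⟨z, (bijective_frobenius B' p).1.iterate n ?_⟩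
    rw [iterate_frobenius] at hz
    rw [iterate_frobenius, iterate_frobenius, ← map_pow, hz, hφ1, hb]


end Groth.Agent.S14257
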