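import Groth.Statements.S14258
import Groth.Agent.Lib.HTop26.BlowUpAway
import Groth.Agent.Lib.BlowUpExist.Proper
-- import your own Groth.Agent.* helpers here

set_option autoImplicit false
universe u
open HTop

namespace Groth.Agent.S14258

open CategoryTheory CategoryTheory.Limits AlgebraicGeometry Opposite in
/-- Let S be a scheme and F a sheaf of sets on the big h site of S. Let Y be an affine scheme over S, f
: X ⟶ Y a proper surjective morphism of finite presentation over S which is an isomorphism over the
open complement U of a closed subscheme i : Z ⟶ Y of finite presentation, and E = X ×_Y Z with its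
projections e : E ⟶ X and π : E ⟶ Z. Then the square of sets of sections F(Y) → F(X), F(Z) → F(E) is
cartesian: a section over Z and a section over X with the same restriction to E come from exactly
one section over Y. (The published statement is for quasi-compact quasi-separated schemes of finite
presentation over a quasi-compact quasi-separated S and sheaves on those; this row works on all
S-schemes; with Y affine and f proper the four schemes are quasi-compact and quasi-separated.) -/
theorem result (S : Scheme.{u}) (F : HTop.ShH S)
    {E Z X Y : Over S} (e : E ⟶ X) (π : E ⟶ Z) (f : X ⟶ Y) (i : Z ⟶ Y) [IsAffine Y.left]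
    [IsProper f.left] [Surjective f.left] [LocallyOfFinitePresentation f.left]
    [IsClosedImmersion i.left] [LocallyOfFinitePresentation i.left]
    (hsq : IsPullback e.left π.left f.left i.left)
    (U : Y.left.Opens) (hU : (U : Set Y.left) = (Set.range i.left.base)ᶜ) (hiso : IsIso (f.left ∣_ U))
    (t : F.obj.obj (op Z)) (s' : F.obj.obj (op X)) (hts : F.obj.map π.op t = F.obj.map e.op s') :
    ∃! s : F.obj.obj (op Y), F.obj.map i.op s = t ∧ F.obj.map f.op s = s' := by
  have hF : Presieve.IsSheaf (HTop.Jh S) F.obj := (isSheaf_iff_isSheaf_of_type _ _).mp F.property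
  have hcov : ∀ y : Y.left, y ∈ Set.range i.left ∨ y ∈ Set.range f.left := fun y => Or.inr (Surjective.surj y)
  refine HTop26.existsUnique_of_proper f i hF e π hsq (fun G hi hf => HTop26.h_pair_mem i f hcov G hi hf) (fun hP G hd hj => ?_) (fun W a b hab hW => ?_) t s' hts
  · have : LocallyOfFinitePresentation (pullback.diagonal f.left) := by
      have : LocallyOfFinitePresentation (pullback.diagonal f.left ≫ pullback.fst f.left f.left) := by
        rw [pullback.diagonal_fst]; infer_instance
      exact SchBasic.locallyOfFinitePresentation_of_comp _ (pullback.fst f.left f.left)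
    have : LocallyOfFinitePresentation (HTop26.diag f).left := this
    have : IsProper (HTop26.diag f).left := inferInstanceAs (IsProper (pullback.diagonal f.left))
    have : IsProper (HTop26.overZι f i).left := inferInstanceAs (IsProper (pullback.fst (pullback.fst f.left f.left ≫ f.left) i.left))
    have : LocallyOfFinitePresentation (HTop26.overZι f i).left := inferInstanceAs (LocallyOfFinitePresentation (pullback.fst (pullback.fst f.left f.left ≫ f.left) i.left))
    exact HTop26.h_pair_mem _ _ hP G hd hj
  · have hmem : ∀ c : W ⟶ X.left, (∀ w, f.left (c w) ∉ Set.range i.left) → Set.range c ⊆ Set.range (f.left ⁻¹ᵁ U).ι := by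
      intro c hc
      rw [Scheme.Opens.range_ι]
      rintro _ ⟨w, rfl⟩
      show f.left (c w) ∈ (U : Set Y.left)
      rw [hU]; exact hc w
    let a' := IsOpenImmersion.lift (f.left ⁻¹ᵁ U).ι a (hmem a hW)
    let b' := IsOpenImmersion.lift (f.left ⁻¹ᵁ U).ι b (hmem b fun w => by
      rw [← Scheme.Hom.comp_apply, ← hab, Scheme.Hom.comp_apply]; exact hW w)
    have : a' = b' := by
      rw [← cancel_mono (f.left ∣_ U), ← cancel_mono U.ι, Category.assoc, Category.assoc, morphismRestrict_ι]
      simp [a', b', IsOpenImmersion.lift_fac_assoc, hab]
    calc a = a' ≫ (f.left ⁻¹ᵁ U).ι := (IsOpenImmersion.lift_fac _ _ _).symm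
      _ = b' ≫ (f.left ⁻¹ᵁ U).ι := by rw [this]
      _ = b := IsOpenImmersion.lift_fac _ _ _

end Groth.Agent.S14258
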