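import Groth.Statements.S14262
import Mathlib.RingTheory.Flat.EquationalCriterion
import Mathlib.FieldTheory.Perfect

set_option autoImplicit false
universe u
open FrobAlg

namespace Groth.Agent.S14262

/-- Let p be a prime, A a perfect ring of characteristic p and f ∈ A. The radical of the principal ideal
(f) — equivalently the ideal generated by all p^n-th roots of f, n ≥ 0 — is a flat A-module. -/
theorem result (p : ℕ) [Fact p.Prime] (A : Type u) [CommRing A]
    [CharP A p] [PerfectRing A p] (f : A) :
    Module.Flat A ((Ideal.span {f}).radical) := by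

  refine Module.Flat.of_forall_isTrivialRelation fun {l} {a} {x} hsum => ?_
  -- successive roots of `f`
  let g : ℕ → A := fun n => ((frobeniusEquiv A p).symm)^[n] f
  have hg : ∀ n, g (n + 1) ^ p = g n := fun n => by
    simp only [g, Function.iterate_succ_apply', frobeniusEquiv_symm_pow_p]
  have hgf : ∀ n, g n ^ p ^ n = f := by
    intro n
    induction n with
    | zero => simp [g]
    | succ n ih => rw [pow_succ', pow_mul, hg, ih]
  have hgmem : ∀ n, g n ∈ (Ideal.span {f}).radical :=
    fun n => ⟨p ^ n, by rw [hgf]; exact Ideal.mem_span_singleton_self f⟩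
  have hdvd : ∀ {n m : ℕ}, n ≤ m → g m ∣ g n := by
    intro n m h
    induction m, h using Nat.le_induction with
    | base => rfl
    | succ m _ ih =>
      refine dvd_trans ?_ ih
      rw [← hg m]
      exact dvd_pow_self _ (Fact.out : p.Prime).ne_zero
  have hx : ∀ i, ∃ n, g n ∣ (x i : A) := by
    intro i
    obtain ⟨m, hm⟩ := (x i).2
    obtain ⟨c, hc⟩ := Ideal.mem_span_singleton.mp hm
    have hle : m ≤ p ^ m := (Nat.lt_pow_self (Fact.out : p.Prime).one_lt).le
    refine ⟨m, ((frobeniusEquiv A p).symm)^[m] (c * (x i : A) ^ (p ^ m - m)), ?_⟩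
    have hinj := (bijective_frobenius A p).1.iterate m
    apply hinj
    rw [iterate_frobenius, iterate_frobenius, mul_pow, hgf,
      iterate_frobeniusEquiv_symm_pow_p_pow, ← mul_assoc, ← hc, ← pow_add, Nat.add_sub_cancel' hle]
  choose n hn using hx
  let N := ∑ i, n i
  choose c hc using fun i => (hdvd (Finset.single_le_sum (fun j _ => Nat.zero_le (n j))
    (Finset.mem_univ i)) : g N ∣ g (n i)).trans (hn i)
  have hsum' : (∑ i, a i * c i) * g N = 0 := by
    have := congrArg (fun z : (Ideal.span {f}).radical => (z : A)) hsum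
    simp only [AddSubmonoidClass.coe_finsetSum, SetLike.val_smul, smul_eq_mul, ZeroMemClass.coe_zero,
      hc] at this
    rw [Finset.sum_mul, ← this]
    exact Finset.sum_congr rfl fun i _ => by ring
  obtain ⟨q, hq⟩ := Nat.exists_eq_add_of_le (Fact.out : p.Prime).two_le
  refine ⟨1, fun i _ => c i * g (N + 1) ^ (p - 1), fun _ => ⟨g (N + 1), hgmem _⟩, fun i => ?_,
    fun _ => ?_⟩
  · apply Subtype.ext
    simp only [Fintype.sum_unique, SetLike.val_smul, smul_eq_mul]
    rw [hc, mul_assoc, ← pow_succ, Nat.sub_add_cancel (Fact.out : p.Prime).one_le, hg]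
    ring
  · -- annihilators of the roots agree
    have key : ∀ u : A, u * g N = 0 → u * g (N + 1) = 0 := by
      intro u hu
      apply (bijective_frobenius A p).1
      rw [map_zero, frobenius_def, mul_pow, hg, hq, show 2 + q = (1 + q) + 1 by omega, pow_succ,
        mul_assoc, hu, mul_zero]
    have h1 := key _ hsum'
    calc ∑ i, a i * (c i * g (N + 1) ^ (p - 1))
        = (∑ i, a i * c i) * g (N + 1) * g (N + 1) ^ q := by
          rw [Finset.sum_mul, Finset.sum_mul, hq, show 2 + q - 1 = q + 1 by omega]
          exact Finset.sum_congr rfl fun i _ => by rw [pow_succ]; ring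
      _ = 0 := by rw [h1, zero_mul]


end Groth.Agent.S14262
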