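import Groth.Statements.S14264
import Groth.Agent.Lib.KFlat.BcCases
-- import your own Groth.Agent.* helpers here

set_option autoImplicit false
universe u
open CategoryTheory CategoryTheory.Limits MonoidalCategory
attribute [local instance] HasDerivedCategory.standard
open DTen

namespace Groth.Agent.S14264

/-- For a map of commutative rings `φ : R → R'` and objects `K`, `M` of `D(R)` with `K` perfect, the
base change morphism `RHom_R(K, M) ⊗^L_R R' ⟶ RHom_{R'}(K ⊗^L_R R', M ⊗^L_R R')` in `D(R')` — the
adjunct, for derived base change, of `RHom_R(K, M) ⟶ RHom_R(K, (M ⊗^L_R R')|_R)` (induced by the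
unit) followed by the inverse of the canonical comparison `RHom_{R'}(K ⊗^L_R R', M ⊗^L_R R')|_R ⟶
RHom_R(K, (M ⊗^L_R R')|_R)` — is an isomorphism. The invertibility of that comparison, through which
the morphism is defined, is carried as a hypothesis. (The existence of the derived tensor products
on `D(R)` and `D(R')`, of the internal homs `RHom`, of derived base change and of the
restriction-of-scalars comparison for the derived tensor product, with the invertibility of the
latter's second leg, are assumed as hypotheses; they hold for every ring map.) -/
theorem result (R R' : Type u) [CommRing R] [CommRing R'] (φ : R →+* R')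
    [DTen.HasLTen R] [DTen.HasLTen R'] [DTen.HasRHom R] [DTen.HasRHom R'] [DTen.HasLBase φ]
    [DTen.HasResTen φ] [DTen.ResLegIso φ] (K M : Dual.D R)
    [IsIso (DTen.rhomBC φ K ((DTen.LBase φ).obj M))]
    (hK : DRing.IsPerfect R K) :
    IsIso (DTen.bcRHom φ K M) := by
  exact Groth.Agent.KFlat.Bc.isIso_bcRHom_of_isPerfect φ K M hK

end Groth.Agent.S14264
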