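import Groth.Statements.S14269
import Groth.Agent.Lib.PiOne25.Vdim
import Mathlib.AlgebraicGeometry.Morphisms.Flat
-- import your own Groth.Agent.* helpers here

set_option autoImplicit false
universe u
open Pi1

namespace Groth.Agent.S14269

open AlgebraicGeometry CategoryTheory CategoryTheory.Limits

variable {A : Type u} [CommRing A] [IsNoetherianRing A] [IsLocalRing A]

/-- Primes of the completion over the maximal ideal are maximal. -/
theorem eq_maximalIdeal_of_comap (Q : Ideal (AdicCompletion (IsLocalRing.maximalIdeal A) A)) [Q.IsPrime]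
    (h : Q.comap (algebraMap A (AdicCompletion (IsLocalRing.maximalIdeal A) A)) = IsLocalRing.maximalIdeal A) : Q = IsLocalRing.maximalIdeal (AdicCompletion (IsLocalRing.maximalIdeal A) A) := by
  refine le_antisymm (IsLocalRing.le_maximalIdeal (Ideal.IsPrime.ne_top inferInstance)) ?_
  rw [AdicCompletion.maximalIdeal_eq_map, Ideal.map_le_iff_le_comap, h]

theorem comap_maximalIdeal :
    (IsLocalRing.maximalIdeal (AdicCompletion (IsLocalRing.maximalIdeal A) A)).comap (algebraMap A (AdicCompletion (IsLocalRing.maximalIdeal A) A)) = IsLocalRing.maximalIdeal A := by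
  refine ((IsLocalRing.maximalIdeal.isMaximal A).eq_of_le (Ideal.comap_ne_top _
    (IsLocalRing.maximalIdeal.isMaximal _).ne_top) ?_).symm
  rw [← Ideal.map_le_iff_le_comap, AdicCompletion.maximalIdeal_eq_map]

/-- The residue field of the completion is a quotient of the ring. -/
theorem surjective_residue :
    Function.Surjective ((IsLocalRing.residue (AdicCompletion (IsLocalRing.maximalIdeal A) A)).comp (algebraMap A (AdicCompletion (IsLocalRing.maximalIdeal A) A))) := by
  intro y
  obtain ⟨x, rfl⟩ := IsLocalRing.residue_surjective y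
  obtain ⟨a, ha⟩ := Ideal.Quotient.mk_surjective (AdicCompletion.evalOneₐ (IsLocalRing.maximalIdeal A) x)
  refine ⟨a, ?_⟩
  have hk : AdicCompletion.evalOneₐ (IsLocalRing.maximalIdeal A) (algebraMap A (AdicCompletion (IsLocalRing.maximalIdeal A) A) a - x) = 0 := by
    rw [map_sub, AlgHom.commutes, ← ha]
    exact sub_self _
  have hmem : algebraMap A (AdicCompletion (IsLocalRing.maximalIdeal A) A) a - x ∈ IsLocalRing.maximalIdeal (AdicCompletion (IsLocalRing.maximalIdeal A) A) := by
    rw [AdicCompletion.maximalIdeal_eq_map,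
      ← AdicCompletion.ker_evalOneₐ_eq_map _ (IsLocalRing.maximalIdeal A).fg_of_isNoetherianRing]
    exact hk
  rw [RingHom.comp_apply, ← sub_eq_zero, ← map_sub]
  exact Ideal.Quotient.eq_zero_iff_mem.2 hmem

variable (S : Type u) [CommRing S] [IsRegularLocalRing S] [IsAdicComplete (IsLocalRing.maximalIdeal S) S]
  (d : ℕ) (hd : ringKrullDim S = d) (s : Finset S) (hs : s.card + 2 ≤ d)
  (e : (AdicCompletion (IsLocalRing.maximalIdeal A) A) ≃+* S ⧸ Ideal.span (s : Set S))

include e in
theorem mem_maximal : ∀ x ∈ s, x ∈ IsLocalRing.maximalIdeal S := by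
  haveI : Nontrivial (S ⧸ Ideal.span (s : Set S)) := e.symm.toEquiv.nontrivial
  exact fun x hx => IsLocalRing.le_maximalIdeal (Ideal.Quotient.nontrivial_iff.1 inferInstance)
    (Ideal.subset_span hx)

include hd hs e in
/-- The punctured spectrum is nonempty. -/
theorem nonempty_punctured : ∃ x : Spec (CommRingCat.of A), x ≠ IsLocalRing.closedPoint A := by
  haveI : IsDomain S := RegLoc.isDomain S
  have hI : Ideal.span (s : Set S) ≠ ⊤ :=
    ne_top_of_le_ne_top (IsLocalRing.maximalIdeal.isMaximal S).ne_top (Ideal.span_le.2 (mem_maximal S s e))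
  obtain ⟨Q, hQI, hQm⟩ := (Groth.Agent.S17758.result S d hd s.card hs (fun i => (s.equivFin.symm i : S))
    (Ideal.span (s : Set S)) hI (by
      congr 2
      ext y
      constructor
      · exact fun hy => ⟨s.equivFin ⟨y, hy⟩, by simp⟩
      · rintro ⟨i, rfl⟩; exact (s.equivFin.symm i).2)).1
  let g := Ideal.Quotient.mk (Ideal.span (s : Set S))
  obtain ⟨Q', hQ'⟩ : Q ∈ Set.range (PrimeSpectrum.comap g) := by
    rw [range_comap_of_surjective _ _ Ideal.Quotient.mk_surjective, Ideal.mk_ker]
    exact hQI
  let P := PrimeSpectrum.comap (e : (AdicCompletion (IsLocalRing.maximalIdeal A) A) →+* S ⧸ Ideal.span (s : Set S)) Q'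
  refine ⟨PrimeSpectrum.comap (algebraMap A (AdicCompletion (IsLocalRing.maximalIdeal A) A)) P, fun hP => hQm ?_⟩
  have hmax := eq_maximalIdeal_of_comap P.asIdeal (congrArg PrimeSpectrum.asIdeal hP)
  haveI : Q'.asIdeal.IsMaximal := by
    have h1 : Q'.asIdeal = P.asIdeal.map (e : (AdicCompletion (IsLocalRing.maximalIdeal A) A) →+* S ⧸ Ideal.span (s : Set S)) :=
      (Ideal.map_comap_of_surjective _ e.surjective _).symm
    rw [h1, hmax]
    exact Ideal.IsMaximal.map_bijective _ e.bijective (IsLocalRing.maximalIdeal.isMaximal _)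
  rw [← hQ']
  exact IsLocalRing.eq_maximalIdeal (Ideal.comap_isMaximal_of_surjective _ Ideal.Quotient.mk_surjective)

include hd hs e in
/-- Clopen subsets of covers of the punctured spectrum extend. -/
theorem exists_clopen {Z : Scheme.{u}} (h : Z ⟶ Spec (CommRingCat.of A)) [IsFinite h] [Etale h]
    (C C' : Set Z) (hC : IsOpen C) (hC' : IsOpen C')
    (hcompl : ∀ z : Z, h z ≠ IsLocalRing.closedPoint A → (z ∈ C' ↔ z ∉ C)) :
    ∃ D : Set Z, IsClopen D ∧ ∀ z : Z, h z ≠ IsLocalRing.closedPoint A → (z ∈ D ↔ z ∈ C) := by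
  haveI : HenselianLocalRing S := Hens.henselianLocalRing_iff.2 inferInstance
  let π : Spec (CommRingCat.of (AdicCompletion (IsLocalRing.maximalIdeal A) A)) ⟶ Spec (CommRingCat.of A) := Spec.map (CommRingCat.ofHom (algebraMap A (AdicCompletion (IsLocalRing.maximalIdeal A) A)))
  haveI : Flat π := by
    rw [Flat.SpecMap_iff]
    exact RingHom.flat_algebraMap_iff.2 (AdicCompletion.flat_of_isNoetherian _)
  haveI : Surjective π := by
    haveI : Module.Flat A (AdicCompletion (IsLocalRing.maximalIdeal A) A) := AdicCompletion.flat_of_isNoetherian _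
    haveI : IsLocalHom (algebraMap A (AdicCompletion (IsLocalRing.maximalIdeal A) A)) :=
      ((IsLocalRing.local_hom_TFAE (algebraMap A (AdicCompletion (IsLocalRing.maximalIdeal A) A))).out 4 0 :).1 comap_maximalIdeal
    haveI : Module.FaithfullyFlat A (AdicCompletion (IsLocalRing.maximalIdeal A) A) := Module.FaithfullyFlat.of_flat_of_isLocalHom
    exact ⟨PrimeSpectrum.comap_surjective_of_faithfullyFlat⟩
  let W := pullback h π
  let w : W ⟶ Spec (CommRingCat.of (AdicCompletion (IsLocalRing.maximalIdeal A) A)) := pullback.snd h π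
  let p : W ⟶ Z := pullback.fst h π
  haveI : IsFinite w := MorphismProperty.pullback_snd h π inferInstance
  haveI : Etale w := MorphismProperty.pullback_snd h π inferInstance
  have hsq : ∀ x, h (p x) = π (w x) := fun x => by
    rw [← Scheme.Hom.comp_apply, ← Scheme.Hom.comp_apply, pullback.condition]
  have hcl : ∀ x, w x = IsLocalRing.closedPoint _ ↔ h (p x) = IsLocalRing.closedPoint A := by
    intro x
    rw [hsq]
    constructor
    · intro hx
      rw [hx]
      exact PrimeSpectrum.ext comap_maximalIdeal
    · intro hx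
      exact PrimeSpectrum.ext (eq_maximalIdeal_of_comap _ (congrArg PrimeSpectrum.asIdeal hx))
  obtain ⟨D', hD', hD'C⟩ := PiOne25.exists_clopen_extension d hd s (mem_maximal S s e) hs e.symm w
    (p ⁻¹' C) (p ⁻¹' C') (hC.preimage p.continuous) (hC'.preimage p.continuous)
    (fun x hx => hcompl _ fun hh => hx ((hcl x).2 hh))
  -- the closed fibres agree
  let k := IsLocalRing.ResidueField (AdicCompletion (IsLocalRing.maximalIdeal A) A)
  let σ : Spec (CommRingCat.of k) ⟶ Spec (CommRingCat.of (AdicCompletion (IsLocalRing.maximalIdeal A) A)) := Spec.map (CommRingCat.ofHom (IsLocalRing.residue (AdicCompletion (IsLocalRing.maximalIdeal A) A)))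
  haveI : IsClosedImmersion (σ ≫ π) := by
    rw [← Spec.map_comp]
    exact IsClosedImmersion.spec_of_surjective _ surjective_residue
  let Φ : pullback h (σ ≫ π) ⟶ W :=
    pullback.lift (pullback.fst _ _) (pullback.snd _ _ ≫ σ) (by rw [Category.assoc, pullback.condition])
  have hΦp : Φ ≫ p = pullback.fst h (σ ≫ π) := pullback.lift_fst _ _ _
  have hinj : ∀ x y : W, p x = p y → w x = IsLocalRing.closedPoint _ → w y = IsLocalRing.closedPoint _ → x = y := by
    have hlift : ∀ x : W, w x = IsLocalRing.closedPoint _ → ∃ v, Φ v = x := by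
      intro x hx
      have hpb : IsPullback Φ (pullback.snd h (σ ≫ π)) w σ := by
        refine IsPullback.of_right ?_ (pullback.lift_snd _ _ _) (IsPullback.of_hasPullback h π)
        rw [hΦp]
        exact IsPullback.of_hasPullback h (σ ≫ π)
      obtain ⟨v, hv, -⟩ := Scheme.exists_preimage_of_isPullback hpb x (IsLocalRing.closedPoint k)
        (hx.trans (PrimeSpectrum.ext (IsLocalRing.eq_maximalIdeal
          (Ideal.comap_isMaximal_of_surjective _ IsLocalRing.residue_surjective))).symm)
      exact ⟨v, hv⟩
    intro x y hxy hx hy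
    obtain ⟨v, rfl⟩ := hlift x hx
    obtain ⟨v', rfl⟩ := hlift y hy
    rw [← Scheme.Hom.comp_apply, ← Scheme.Hom.comp_apply, hΦp] at hxy
    rw [(pullback.fst h (σ ≫ π)).isClosedEmbedding.injective hxy]
  have hsat : p ⁻¹' (p '' D') = D' := by
    refine Set.Subset.antisymm ?_ (Set.subset_preimage_image _ _)
    rintro y ⟨x, hx, hxy⟩
    by_cases hy : w y = IsLocalRing.closedPoint _
    · have hx' : w x = IsLocalRing.closedPoint _ := (hcl x).2 (hxy ▸ (hcl y).1 hy)
      exact hinj x y hxy hx' hy ▸ hx
    · have hx' : w x ≠ IsLocalRing.closedPoint _ := fun hh => hy ((hcl y).2 (hxy ▸ (hcl x).1 hh))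
      have h1 : p x ∈ C := (hD'C x hx').1 hx
      exact (hD'C y hy).2 (show p y ∈ C from hxy ▸ h1)
  haveI : Flat p := MorphismProperty.pullback_fst h π inferInstance
  haveI : Surjective p := MorphismProperty.pullback_fst h π inferInstance
  haveI : QuasiCompact p := MorphismProperty.pullback_fst h π inferInstance
  have hq := Flat.isQuotientMap_of_surjective p
  refine ⟨p '' D', ⟨hq.isClosed_preimage.1 (hsat.symm ▸ hD'.1), hq.isOpen_preimage.1 (hsat.symm ▸ hD'.2)⟩,
    fun z hz => ?_⟩
  obtain ⟨x, rfl⟩ := p.surjective z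
  rw [← Set.mem_preimage, hsat]
  exact hD'C x fun hh => hz ((hcl x).1 hh)

open AlgebraicGeometry CategoryTheory CategoryTheory.Limits in
/-- Let A be a Noetherian local ring of virtual dimension at least 2, the virtual dimension being
expressed through a presentation of the adic completion of A as a quotient S/I of a complete regular
local ring S of Krull dimension d by an ideal I generated by a finite set of at most d - 2 elements.
Then the restriction functor from finite etale covers of Spec A to finite etale covers of the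
punctured spectrum is fully faithful, and the punctured spectrum is connected. (The published
statement also records the surjectivity of the induced map on etale fundamental groups, which is the
usual reformulation of full faithfulness and is not restated here.) -/
theorem result (A : Type u) [CommRing A] [IsNoetherianRing A] [IsLocalRing A]
    (S : Type u) [CommRing S] [IsRegularLocalRing S] [IsAdicComplete (IsLocalRing.maximalIdeal S) S]
    (d : ℕ) (hd : ringKrullDim S = d) (s : Finset S) (hs : s.card + 2 ≤ d)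
    (e : AdicCompletion (IsLocalRing.maximalIdeal A) A ≃+* S ⧸ Ideal.span (s : Set S)) :
    ((FEt.restrict (FEt.puncturedSpec A).ι).Full ∧ (FEt.restrict (FEt.puncturedSpec A).ι).Faithful) ∧
      ConnectedSpace ↥(FEt.puncturedSpec A : Scheme.{u}) := by
  let X := Spec (CommRingCat.of A)
  let U := FEt.puncturedSpec A
  have hU : ∀ x : X, x ∈ U ↔ x ≠ IsLocalRing.closedPoint A := fun x => Iff.rfl
  obtain ⟨x₀, hx₀⟩ := nonempty_punctured (A := A) S d hd s hs e
  have hclopen : ∀ T : Set X, IsClopen T → T = ∅ ∨ T = Set.univ := by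
    intro T hT
    by_cases hm : IsLocalRing.closedPoint A ∈ T
    · exact Or.inr (Set.eq_univ_of_forall fun x => (IsLocalRing.specializes_closedPoint x).mem_open hT.2 hm)
    · refine Or.inl (Set.eq_empty_of_forall_notMem fun x hx => ?_)
      exact (IsLocalRing.specializes_closedPoint x).mem_open hT.compl.2 hm hx
  have hT : ∀ T : Set X, IsClopen T → T.Nonempty → (T ∩ Set.range U.ι).Nonempty := by
    intro T hT hne
    rcases hclopen T hT with rfl | rfl
    · exact absurd hne Set.not_nonempty_empty
    · exact ⟨x₀, trivial, by rw [Scheme.Opens.range_ι]; exact hx₀⟩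
  have hclop : ∀ {Z : Scheme.{u}} (h : Z ⟶ X), FEt.prop h → ∀ C : Set ↥(pullback h U.ι), IsClopen C →
      ∃ D : Set Z, IsClopen D ∧ pullback.fst h U.ι ⁻¹' D = C := by
    intro Z h hh C hC
    haveI : IsFinite h := hh.1
    haveI : Etale h := hh.2
    haveI : IsOpenImmersion (pullback.fst h U.ι) := MorphismProperty.pullback_fst h U.ι inferInstance
    let f := pullback.fst h U.ι
    have hr : ∀ z : Z, h z ≠ IsLocalRing.closedPoint A → z ∈ Set.range f := fun z hz => by
      rw [Scheme.Pullback.range_fst, Scheme.Opens.range_ι]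
      exact hz
    obtain ⟨D, hD, hDC⟩ := exists_clopen (A := A) S d hd s hs e h (f '' C) (f '' Cᶜ)
      (f.isOpenEmbedding.isOpenMap _ hC.2) (f.isOpenEmbedding.isOpenMap _ hC.compl.2) fun z hz => by
        obtain ⟨v, rfl⟩ := hr z hz
        rw [f.isOpenEmbedding.injective.mem_set_image, f.isOpenEmbedding.injective.mem_set_image]
        rfl
    refine ⟨D, hD, Set.ext fun v => ?_⟩
    have hv : h (f v) ≠ IsLocalRing.closedPoint A := by
      have : f v ∈ Set.range f := ⟨v, rfl⟩
      rw [Scheme.Pullback.range_fst, Scheme.Opens.range_ι] at this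
      exact this
    rw [Set.mem_preimage, hDC _ hv, f.isOpenEmbedding.injective.mem_set_image]
  refine ⟨⟨FEtEq25.full_restrict _ hT hclop, FEtEq25.faithful_restrict _ hT⟩, ?_⟩
  refine { toNonempty := ⟨⟨x₀, hx₀⟩⟩, isPreconnected_univ := ?_ }
  rw [← preconnectedSpace_iff_univ, preconnectedSpace_iff_clopen]
  intro C hC
  let q := pullback.snd (𝟙 X) U.ι
  obtain ⟨D, hD, hDC⟩ := hclop (𝟙 X) ⟨inferInstance, inferInstance⟩ (q ⁻¹' C) (hC.preimage q.continuous)
  have hq : Function.Surjective q := q.surjective
  have key : ∀ v, v ∈ q ⁻¹' C ↔ pullback.fst (𝟙 X) U.ι v ∈ D := fun v => by rw [← hDC]; rfl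
  rcases hclopen D hD with rfl | rfl
  · refine Or.inl (Set.eq_empty_of_forall_notMem fun z hz => ?_)
    obtain ⟨v, rfl⟩ := hq z
    exact (key v).1 hz
  · refine Or.inr (Set.eq_univ_of_forall fun z => ?_)
    obtain ⟨v, rfl⟩ := hq z
    exact (key v).2 trivial

end Groth.Agent.S14269
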