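import Groth.Statements.S14271
import Mathlib.AlgebraicGeometry.Morphisms.Separated
import Mathlib.AlgebraicGeometry.Morphisms.QuasiCompact
import Mathlib.AlgebraicGeometry.IdealSheaf.Subscheme
import Mathlib.AlgebraicGeometry.Morphisms.ClosedImmersion
import Mathlib.RingTheory.Ideal.MinimalPrime.Localization
import Groth.Agent.Lib.H2Alg.WeakAss

set_option autoImplicit false
universe u
open FlatPur

namespace Groth.Agent.S14271


open AlgebraicGeometry CategoryTheory CategoryTheory.Limits in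
lemma ker_opens_ι_eq_bot (X : Scheme.{u}) (U : X.Opens) [QuasiCompact U.ι]
    (hZ : ∀ z : X, z ∉ U → ∃ a ∈ IsLocalRing.maximalIdeal (X.presheaf.stalk z), IsSMulRegular (X.presheaf.stalk z) a) :
    U.ι.ker = ⊥ := by
  refine Scheme.IdealSheafData.ext (funext fun V => eq_bot_iff.2 fun s hs => ?_)
  rw [Scheme.Hom.ker_apply, RingHom.mem_ker] at hs
  rw [Ideal.mem_bot]
  by_contra hne
  obtain ⟨p, hp, -⟩ := Groth.Agent.H2Alg.exists_mem_weakAss (R := Γ(X, V.1)) hne
  obtain ⟨m, hm⟩ := id hp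
  obtain ⟨p, hp0, hmin⟩ : ∃ p : PrimeSpectrum Γ(X, V.1), Groth.Agent.H2Alg.annEl Γ(X, V.1) s ≤ p.asIdeal ∧
      ∀ a ∈ p.asIdeal, ∃ n : ℕ, ∃ u, u ∉ p.asIdeal ∧ u * a ^ n ∈ Groth.Agent.H2Alg.annEl Γ(X, V.1) s := by
    have h : Groth.Agent.H2Alg.annEl Γ(X, V.1) s ≠ ⊤ := fun h => hne (by
      simpa using Groth.Agent.H2Alg.mem_annEl.1 (h.symm ▸ Submodule.mem_top : (1 : Γ(X, V.1)) ∈ _))
    obtain ⟨q, hq, hle⟩ := Ideal.exists_le_maximal _ h
    have := hq.isPrime
    obtain ⟨p, hp, -⟩ := Ideal.exists_minimalPrimes_le hle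
    have := hp.1.1
    exact ⟨⟨p, hp.1.1⟩, Groth.Agent.H2Alg.mem_minimalPrimes_iff_exists_mul_pow_mem.1 hp⟩
  let z := V.2.fromSpec p
  have hzV : z ∈ V.1 := V.2.range_fromSpec.le ⟨_, rfl⟩
  have hprime : V.2.primeIdealOf ⟨z, hzV⟩ = p :=
    V.2.fromSpec.isOpenEmbedding.injective (V.2.fromSpec_primeIdealOf ⟨z, hzV⟩)
  letI := TopCat.Presheaf.algebra_section_stalk X.presheaf (⟨z, hzV⟩ : V.1)
  have hloc : IsLocalization.AtPrime (X.presheaf.stalk z) p.asIdeal := by
    have := V.2.isLocalization_stalk ⟨z, hzV⟩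
    rwa [hprime] at this
  have key : ∀ c : Γ(X, V.1), algebraMap Γ(X, V.1) (X.presheaf.stalk z) c = 0 →
      ∃ t, t ∉ p.asIdeal ∧ t * c = 0 := fun c hc => by
    obtain ⟨⟨t, ht⟩, e⟩ := (IsLocalization.map_eq_zero_iff p.asIdeal.primeCompl (X.presheaf.stalk z) c).1 hc
    exact ⟨t, ht, e⟩
  have hs0 : algebraMap Γ(X, V.1) (X.presheaf.stalk z) s ≠ 0 := fun h => by
    obtain ⟨t, ht, e⟩ := key s h
    exact ht (hp0 (Groth.Agent.H2Alg.mem_annEl.2 e))
  by_cases hzU : z ∈ U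
  · refine hs0 ((injective_iff_map_eq_zero (U.ι.stalkMap ⟨z, hzU⟩).hom).1
      (ConcreteCategory.bijective_of_isIso (U.ι.stalkMap ⟨z, hzU⟩)).1 _ ?_)
    exact (Scheme.Hom.germ_stalkMap_apply U.ι V.1 ⟨z, hzU⟩ hzV s).trans (by
      rw [show (U.ι.app V.1) s = 0 from hs, map_zero])
  · obtain ⟨a, ha, hreg⟩ := hZ z hzU
    obtain ⟨a0, t, rfl⟩ := IsLocalization.exists_mk'_eq p.asIdeal.primeCompl a
    have ha0 : a0 ∈ p.asIdeal := (IsLocalization.AtPrime.mk'_mem_maximal_iff (X.presheaf.stalk z) p.asIdeal a0 t).1 ha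
    obtain ⟨n, u, hu, hun⟩ := hmin a0 ha0
    refine hs0 ((hreg.pow n).eq_iff.1 ?_)
    rw [smul_zero, smul_eq_mul, ← IsLocalization.mk'_pow, mul_comm, IsLocalization.mul_mk'_eq_mk'_of_mul,
      IsLocalization.mk'_eq_zero_iff]
    refine ⟨⟨u, hu⟩, ?_⟩
    have := Groth.Agent.H2Alg.mem_annEl.1 hun
    rw [smul_eq_mul] at this
    simpa [mul_assoc, mul_comm, mul_left_comm] using this

open AlgebraicGeometry CategoryTheory CategoryTheory.Limits in
/-- Let X be a scheme and U an open subscheme whose inclusion is quasi-compact, such that for every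
point z of X outside U the maximal ideal of O_{X,z} contains an element that is regular (a
nonzerodivisor) on that local ring. Then for every separated X-scheme Y the restriction map from
X-sections of Y to U-sections of Y is injective: two sections of Y -> X that agree on U are equal. -/
theorem result (X : Scheme.{u}) (U : X.Opens) [QuasiCompact U.ι]
    (hZ : ∀ z : X, z ∉ U → ∃ a ∈ IsLocalRing.maximalIdeal (X.presheaf.stalk z), IsSMulRegular (X.presheaf.stalk z) a)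
    (Y : Scheme.{u}) (f : Y ⟶ X) [IsSeparated f] (s₁ s₂ : X ⟶ Y) (h₁ : s₁ ≫ f = 𝟙 X) (h₂ : s₂ ≫ f = 𝟙 X)
    (hU : U.ι ≫ s₁ = U.ι ≫ s₂) : s₁ = s₂ := by
  let S := pullback (pullback.diagonal f) (pullback.lift s₁ s₂ (h₁.trans h₂.symm))
  let i : S ⟶ X := pullback.snd _ _
  let j : (U : Scheme.{u}) ⟶ S := pullback.lift (U.ι ≫ s₁) U.ι (by
    apply pullback.hom_ext <;> simp [hU]
    · exact (congrArg (U.ι ≫ ·) (pullback.lift_fst s₁ s₂ _)).trans hU |>.symm
    · exact (congrArg (U.ι ≫ ·) (pullback.lift_snd s₁ s₂ _)).symm)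
  have hj : j ≫ i = U.ι := pullback.lift_snd ..
  have hk : i.ker = ⊥ := by
    have := j.le_ker_comp i
    rw [hj, ker_opens_ι_eq_bot X U hZ] at this
    exact eq_bot_iff.2 this
  have : IsIso i := IsClosedImmersion.isIso_iff_ker_eq_bot.2 hk
  have e := pullback.condition (f := pullback.diagonal f) (g := pullback.lift s₁ s₂ (h₁.trans h₂.symm))
  have e1 := congrArg (fun m => m ≫ pullback.fst f f) e
  have e2 := congrArg (fun m => m ≫ pullback.snd f f) e
  simp at e1 e2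
  rw [← cancel_epi i]
  exact ((congrArg (i ≫ ·) (pullback.lift_fst s₁ s₂ _)).symm.trans (e1.symm.trans e2)).trans (congrArg (i ≫ ·) (pullback.lift_snd s₁ s₂ _))

end Groth.Agent.S14271
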