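import Groth.Statements.S14272
import Groth.Agent.Lib.Pinch4.Exists
import Mathlib.RingTheory.Regular.RegularSequence
import Mathlib.AlgebraicGeometry.Morphisms.QuasiSeparated
import Mathlib.RingTheory.Localization.AtPrime.Basic

set_option autoImplicit false
universe u
open FlatPur

set_option backward.isDefEq.respectTransparency.types false

namespace Groth.Agent.S14272


open AlgebraicGeometry CategoryTheory Opposite TopologicalSpace

/-- A ring map which is bijective on an open covered by finitely many principal opens is bijective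
if the complement has depth at least two in the elementary sense. -/
theorem bijective_of_regular_off {R S : Type u} [CommRing R] [CommRing S] (ψ : R →+* S) {ι : Type u} [Fintype ι]
    (f : ι → R) (T : ι → Type u) [∀ i, CommRing (T i)] [∀ i, Algebra R (T i)]
    [∀ i, IsLocalization.Away (f i) (T i)]
    (ρ : ∀ i, S →+* T i) (hρ : ∀ i, (ρ i).comp ψ = algebraMap R (T i))
    (hker : ∀ i s, ρ i s = 0 → ∃ k, ψ (f i) ^ k * s = 0) (hinj : ∀ s, (∀ i, ρ i s = 0) → s = 0)
    (hreg : ∀ (p : Ideal R) [p.IsPrime], (∀ i, f i ∈ p) → ∃ (A : Type u) (_ : CommRing A) (_ : IsLocalRing A)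
      (_ : Algebra R A) (_ : IsLocalization.AtPrime A p) (a b : A), a ∈ IsLocalRing.maximalIdeal A ∧
      b ∈ IsLocalRing.maximalIdeal A ∧ (∀ x, a * x = 0 → x = 0) ∧ ∀ x y, b * x = a * y → ∃ w, x = a * w) :
    Function.Bijective ψ := by
  classical
  have hmax : ∀ (I p : Ideal R) [p.IsPrime] (_ : p ∈ I.minimalPrimes) (A : Type u) [CommRing A] [IsLocalRing A]
      [Algebra R A] [IsLocalization.AtPrime A p], IsLocalRing.maximalIdeal A ≤ (I.map (algebraMap R A)).radical := by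
    intro I p _ hp A _ _ _ _ a ha
    rw [Ideal.radical_eq_sInf, Submodule.mem_sInf]
    rintro (P : Ideal A) ⟨hIP, hP⟩
    haveI := hP
    have hle : P.comap (algebraMap R A) ≤ p := by
      rw [← IsLocalization.AtPrime.under_maximalIdeal A p]
      exact Ideal.comap_mono (IsLocalRing.le_maximalIdeal hP.ne_top)
    have heq : P.comap (algebraMap R A) = p :=
      le_antisymm hle (hp.2 ⟨inferInstance, Ideal.map_le_iff_le_comap.1 hIP⟩ hle)
    have : P = IsLocalRing.maximalIdeal A := by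
      rw [← IsLocalization.map_comap p.primeCompl A P, Ideal.under_def, heq, ← IsLocalization.AtPrime.map_eq_maximalIdeal p A]
    rw [this]; exact ha
  have hmk : ∀ (p : Ideal R) [p.IsPrime] (A : Type u) [CommRing A] [Algebra R A] [IsLocalization.AtPrime A p] (z : R),
      algebraMap R A z = 0 → ∃ c, c ∉ p ∧ c * z = 0 := fun p _ A _ _ _ z h => by
    obtain ⟨⟨c, hc⟩, h'⟩ := (IsLocalization.map_eq_zero_iff p.primeCompl A z).1 h
    exact ⟨c, hc, h'⟩
  have hker0 : Function.Injective ψ := by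
    rw [injective_iff_map_eq_zero]
    intro x hx
    by_contra hne
    let I : Ideal R := LinearMap.ker (LinearMap.toSpanSingleton R R x)
    have hI : ∀ r, r ∈ I ↔ r * x = 0 := fun r => by simp [I]
    obtain ⟨p, hp⟩ := Ideal.nonempty_minimalPrimes (I := I) (fun h => hne (by simpa [hI] using (Ideal.eq_top_iff_one I).1 h))
    haveI := hp.1.1
    have hf : ∀ i, f i ∈ p := fun i => by
      have h0 : algebraMap R (T i) x = 0 := by rw [← hρ i, RingHom.comp_apply, hx, map_zero]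
      obtain ⟨⟨_, k, rfl⟩, hk⟩ := (IsLocalization.map_eq_zero_iff (Submonoid.powers (f i)) (T i) x).1 h0
      exact hp.1.1.mem_of_pow_mem k (hp.1.2 ((hI _).2 hk))
    obtain ⟨A, _, _, _, _, a, b, ha, -, hareg, -⟩ := hreg p hf
    obtain ⟨n, hn⟩ := hmax I p hp A ha
    obtain ⟨⟨⟨r, hr⟩, ⟨c, hc⟩⟩, hrc⟩ := (IsLocalization.mem_map_algebraMap_iff p.primeCompl A).1 hn
    have h1 : a ^ n * algebraMap R A x * algebraMap R A c = 0 := by
      rw [mul_right_comm, hrc, ← map_mul, (hI r).1 hr, map_zero]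
    rw [(IsLocalization.map_units A (⟨c, hc⟩ : p.primeCompl)).mul_left_eq_zero] at h1
    have h2 : ∀ m y, a ^ m * y = 0 → y = 0 := fun m => by
      induction m with
      | zero => simp
      | succ m ih => intro y hy; exact hareg _ (ih _ (by rw [← mul_assoc, ← pow_succ]; exact hy))
    obtain ⟨d, hd, hdx⟩ := hmk p A x (h2 n _ h1)
    exact hd (hp.1.2 ((hI d).2 hdx))
  refine ⟨hker0, fun s => ?_⟩
  let I : Ideal R := {
    carrier := {r | ψ r * s ∈ Set.range ψ}
    add_mem' := fun ⟨x, hx⟩ ⟨y, hy⟩ => ⟨x + y, by rw [map_add, map_add, hx, hy, add_mul]⟩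
    zero_mem' := ⟨0, by simp⟩
    smul_mem' := fun c r ⟨x, hx⟩ => ⟨c * x, by rw [map_mul, hx, smul_eq_mul, map_mul, mul_assoc]⟩ }
  by_contra hne
  obtain ⟨p, hp⟩ := Ideal.nonempty_minimalPrimes (I := I) (fun h => hne (by
    obtain ⟨x, hx⟩ := (Ideal.eq_top_iff_one I).1 h
    exact ⟨x, by simpa using hx⟩))
  haveI := hp.1.1
  have hf : ∀ i, f i ∈ p := fun i => by
    obtain ⟨⟨r, ⟨_, k, rfl⟩⟩, hk⟩ := IsLocalization.surj (Submonoid.powers (f i)) (ρ i s)
    have h0 : ρ i (ψ (f i ^ k) * s - ψ r) = 0 := by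
      rw [map_sub, map_mul, ← RingHom.comp_apply, ← RingHom.comp_apply, hρ, mul_comm, hk, sub_self]
    obtain ⟨l, hl⟩ := hker i _ h0
    refine hp.1.1.mem_of_pow_mem (l + k) (hp.1.2 ⟨f i ^ l * r, ?_⟩)
    rw [map_mul, map_pow, map_pow, pow_add, mul_assoc]
    rw [map_pow, mul_sub, sub_eq_zero] at hl
    exact hl.symm
  obtain ⟨A, _, _, _, _, a, b, ha, hb, hareg, hbreg⟩ := hreg p hf
  obtain ⟨n, hn⟩ := hmax I p hp A ha
  obtain ⟨m, hm⟩ := hmax I p hp A hb
  have ha2 : ∀ m y, a ^ m * y = 0 → y = 0 := fun m => by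
    induction m with
    | zero => simp
    | succ m ih => intro y hy; exact hareg _ (ih _ (by rw [← mul_assoc, ← pow_succ]; exact hy))
  have hb1 : ∀ m x y, b ^ m * x = a * y → ∃ w, x = a * w := fun m => by
    induction m with
    | zero => intro x y h; exact ⟨y, by simpa using h⟩
    | succ m ih =>
      intro x y h
      obtain ⟨w, hw⟩ := hbreg (b ^ m * x) y (by rw [← mul_assoc, ← pow_succ']; exact h)
      exact ih x w hw
  have hb2 : ∀ n m x y, b ^ m * x = a ^ n * y → ∃ w, x = a ^ n * w := fun n => by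
    induction n with
    | zero => intro m x y _; exact ⟨x, by simp⟩
    | succ n ih =>
      intro m x y h
      obtain ⟨x₁, rfl⟩ := hb1 m x (a ^ n * y) (by rw [← mul_assoc, ← pow_succ']; exact h)
      obtain ⟨w, rfl⟩ := ih m x₁ y (sub_eq_zero.1 (hareg _ (by
        rw [mul_sub, mul_left_comm, h, ← mul_assoc, ← pow_succ', sub_self])))
      exact ⟨w, by rw [← mul_assoc, ← pow_succ']⟩
  obtain ⟨⟨⟨r, hr⟩, ⟨c, hc⟩⟩, hrc⟩ := (IsLocalization.mem_map_algebraMap_iff p.primeCompl A).1 hn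
  obtain ⟨⟨⟨r', hr'⟩, ⟨c', hc'⟩⟩, hrc'⟩ := (IsLocalization.mem_map_algebraMap_iff p.primeCompl A).1 hm
  simp only at hrc hrc'
  obtain ⟨x₀, hx₀⟩ := hr
  obtain ⟨y₀, hy₀⟩ := hr'
  have hxy : r' * x₀ = r * y₀ := hker0 (by rw [map_mul, map_mul, hx₀, hy₀, mul_left_comm])
  have hu : IsUnit (algebraMap R A c) := IsLocalization.map_units A (⟨c, hc⟩ : p.primeCompl)
  have hu' : IsUnit (algebraMap R A c') := IsLocalization.map_units A (⟨c', hc'⟩ : p.primeCompl)
  obtain ⟨w, hw⟩ := hb2 n m (algebraMap R A (c' * x₀)) (algebraMap R A (c * y₀)) (by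
    rw [map_mul, map_mul, ← mul_assoc, ← mul_assoc, hrc, hrc', ← map_mul, ← map_mul, hxy])
  obtain ⟨⟨w₀, ⟨e, he⟩⟩, hwe⟩ := IsLocalization.surj p.primeCompl w
  simp only at hwe
  have h1 : algebraMap R A (c' * c * x₀ * e - r * w₀) = 0 := by
    rw [map_sub, show c' * c * x₀ * e = (c' * x₀) * c * e by ring, map_mul, map_mul, hw, map_mul _ r w₀, ← hwe, ← hrc]
    ring
  obtain ⟨d, hd, hdz⟩ := hmk p A _ h1
  let c₃ := d * (c' * c * e)
  have hc₃ : c₃ ∉ p := p.primeCompl.mul_mem hd (p.primeCompl.mul_mem (p.primeCompl.mul_mem hc' hc) he)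
  have heq : c₃ * x₀ = r * (d * w₀) := by linear_combination hdz
  let t := ψ c₃ * s - ψ (d * w₀)
  have ht : ψ r * t = 0 := by
    have := congrArg ψ heq
    rw [map_mul, map_mul ψ r, hx₀] at this
    simp only [t]
    linear_combination this
  have hkill : ∀ i, ∃ cc, cc ∉ p ∧ algebraMap R (T i) cc * ρ i t = 0 := fun i => by
    obtain ⟨⟨v, ⟨_, k, rfl⟩⟩, hk⟩ := IsLocalization.surj (Submonoid.powers (f i)) (ρ i t)
    simp only at hk
    have h0 : algebraMap R (T i) (r * v) = 0 := by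
      rw [map_mul, ← hk, ← mul_assoc, show algebraMap R (T i) r = ρ i (ψ r) from congr($((hρ i).symm) r), ← map_mul,
        ht, map_zero, zero_mul]
    obtain ⟨⟨_, l, rfl⟩, hl⟩ := (IsLocalization.map_eq_zero_iff (Submonoid.powers (f i)) (T i) _).1 h0
    have h3 : algebraMap R A (f i ^ l * v) = 0 := by
      refine ha2 n _ ?_
      rw [← hu.mul_left_eq_zero, mul_right_comm, hrc, ← map_mul, show r * (f i ^ l * v) = f i ^ l * (r * v) by ring, hl,
        map_zero]
    obtain ⟨cc, hcc, hz⟩ := hmk p A _ h3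
    refine ⟨cc, hcc, ?_⟩
    have hu1 : IsUnit (algebraMap R (T i) (f i ^ l) * 1) := by
      rw [mul_one, map_pow]
      exact (IsLocalization.Away.algebraMap_isUnit (f i)).pow l
    have hu2 : IsUnit (algebraMap R (T i) (f i ^ k)) := by
      rw [map_pow]
      exact (IsLocalization.Away.algebraMap_isUnit (f i)).pow k
    rw [mul_one] at hu1
    rw [← hu2.mul_left_eq_zero, mul_assoc, hk, ← hu1.mul_left_eq_zero, ← map_mul, ← map_mul,
      show cc * v * f i ^ l = cc * (f i ^ l * v) by ring, hz, map_zero]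
  choose cc hcc hz using hkill
  have hcp : ∏ i, cc i ∉ p := fun h => by
    obtain ⟨i, -, hi⟩ := (Ideal.IsPrime.prod_mem_iff).1 h
    exact hcc i hi
  have htz : ψ (∏ i, cc i) * t = 0 := hinj _ fun i => by
    rw [map_mul, ← RingHom.comp_apply, hρ, ← Finset.mul_prod_erase _ _ (Finset.mem_univ i), map_mul, mul_right_comm,
      hz, zero_mul]
  refine p.primeCompl.mul_mem hcp hc₃ (hp.1.2 ⟨(∏ i, cc i) * (d * w₀), ?_⟩)
  simp only [t] at htz
  rw [map_mul, map_mul ψ (∏ i, cc i) c₃]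
  linear_combination -htz

/-- Sections extend uniquely across a closed subset of depth at least two. -/
theorem res_bijective {X : Scheme.{u}} (U : X.Opens) [QuasiCompact U.ι]
    (hZ : ∀ z : X, z ∉ U → ∃ a b : X.presheaf.stalk z, a ∈ IsLocalRing.maximalIdeal (X.presheaf.stalk z) ∧
      b ∈ IsLocalRing.maximalIdeal (X.presheaf.stalk z) ∧ RingTheory.Sequence.IsWeaklyRegular (X.presheaf.stalk z) [a, b])
    {V : X.Opens} (hV : IsAffineOpen V) :
    Function.Bijective (X.presheaf.map (homOfLE (inf_le_left : V ⊓ U ≤ V)).op) := by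
  classical
  let W := V ⊓ U
  have hWc : IsCompact (W : Set X) := by
    have := (U.ι.isCompact_preimage hV.isCompact).image U.ι.continuous
    change IsCompact (U.ι '' (U.ι ⁻¹' (V : Set X))) at this
    rw [Set.image_preimage_eq_inter_range, Scheme.Opens.range_ι] at this
    exact this
  have hbo : ∀ x : W, ∃ f : Γ(X, V), X.basicOpen f ≤ W ∧ (x : X) ∈ X.basicOpen f := fun x => by
    obtain ⟨f, hf1, hf2⟩ := hV.exists_basicOpen_le x x.2.1
    exact ⟨f, hf1, hf2⟩
  choose f hf1 hf2 using hbo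
  obtain ⟨F, hF⟩ := hWc.elim_finite_subcover (fun x : W => (X.basicOpen (f x) : Set X)) (fun x => (X.basicOpen (f x)).2)
    (fun x hx => Set.mem_iUnion.2 ⟨⟨x, hx⟩, hf2 _⟩)
  let T : F → Type u := fun i => Γ(X, X.basicOpen (f i.1))
  letI : ∀ i : F, Algebra Γ(X, V) (T i) := fun i => (X.presheaf.map (homOfLE (X.basicOpen_le (f i.1))).op).hom.toAlgebra
  haveI : ∀ i : F, IsLocalization.Away (f i.1) (T i) := fun i => hV.isLocalization_basicOpen (f i.1)
  refine bijective_of_regular_off (R := Γ(X, V)) (S := Γ(X, W)) (X.presheaf.map (homOfLE (inf_le_left : W ≤ V)).op).hom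
    (fun i : F => f i.1) T (fun i => (X.presheaf.map (homOfLE (hf1 i.1)).op).hom) (fun i => ?_) (fun i s hs => ?_)
    (fun s hs => ?_) (fun p _ hp => ?_)
  · rw [← CommRingCat.hom_comp, ← Functor.map_comp]
    rfl
  · let g := X.presheaf.map (homOfLE (inf_le_left : W ≤ V)).op (f i.1)
    have hg : X.basicOpen g ≤ X.basicOpen (f i.1) := by
      rw [Scheme.basicOpen_res]; exact inf_le_right
    obtain ⟨n, hn⟩ := exists_pow_mul_eq_zero_of_res_basicOpen_eq_zero_of_isCompact X hWc s g (by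
      have := congrArg (X.presheaf.map (homOfLE hg).op) hs
      rw [map_zero, ← CommRingCat.comp_apply, ← Functor.map_comp] at this
      exact this)
    exact ⟨n, hn⟩
  · refine X.sheaf.eq_of_locally_eq' (fun i : F => X.basicOpen (f i.1)) W (fun i => homOfLE (hf1 i.1)) ?_ s 0
      fun i => (hs i).trans (map_zero _).symm
    intro x hx
    obtain ⟨y, hyF, hy⟩ := Set.mem_iUnion₂.1 (hF hx)
    exact Opens.mem_iSup.2 ⟨⟨y, hyF⟩, hy⟩
  · let y : PrimeSpectrum Γ(X, V) := ⟨p, inferInstance⟩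
    have hyV : hV.fromSpec y ∈ V := (hV.range_fromSpec).le ⟨y, rfl⟩
    have hyU : hV.fromSpec y ∉ U := fun hU => by
      obtain ⟨x, hxF, hx⟩ := Set.mem_iUnion₂.1 (hF (show hV.fromSpec y ∈ (W : Set X) from ⟨hyV, hU⟩))
      have h0 : y ∈ hV.fromSpec ⁻¹ᵁ X.basicOpen (f x) := hx
      rw [hV.fromSpec_preimage_basicOpen] at h0
      exact h0 (hp ⟨x, hxF⟩)
    obtain ⟨a, b, ha, hb, hreg⟩ := hZ _ hyU
    letI : Algebra Γ(X, V) (X.presheaf.stalk (hV.fromSpec y)) := X.presheaf.algebra_section_stalk ⟨_, hyV⟩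
    refine ⟨X.presheaf.stalk (hV.fromSpec y), inferInstance, inferInstance, inferInstance,
      hV.isLocalization_stalk' y hyV, a, b, ha, hb, ?_, ?_⟩
    · intro x hx
      exact ((RingTheory.Sequence.isWeaklyRegular_cons_iff _ a [b]).1 hreg).1 (by simpa using hx)
    · intro x z hxz
      have h2 := (RingTheory.Sequence.isWeaklyRegular_cons_iff _ b []).1
        ((RingTheory.Sequence.isWeaklyRegular_cons_iff _ a [b]).1 hreg).2
      have h3 : (Submodule.Quotient.mk x : QuotSMulTop a (X.presheaf.stalk (hV.fromSpec y))) = 0 := h2.1 (by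
        show b • (Submodule.Quotient.mk x : QuotSMulTop a _) = b • 0
        rw [smul_zero, ← Submodule.Quotient.mk_smul, Submodule.Quotient.mk_eq_zero]
        exact (Submodule.mem_smul_pointwise_iff_exists _ _ _).2 ⟨z, trivial, hxz.symm⟩)
      obtain ⟨w, -, hw⟩ := (Submodule.mem_smul_pointwise_iff_exists _ _ _).1 ((Submodule.Quotient.mk_eq_zero _).1 h3)
      exact ⟨w, hw.symm⟩

/-- Maps into an affine scheme extend uniquely across a closed subset of depth at least two. -/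
theorem extend_affine {X Z : Scheme.{u}} [IsAffine Z] (U : X.Opens) {V : X.Opens}
    (hbij : Function.Bijective (X.presheaf.map (homOfLE (inf_le_left : V ⊓ U ≤ V)).op)) :
    Function.Bijective fun v : (V : Scheme.{u}) ⟶ Z => X.homOfLE (inf_le_left : V ⊓ U ≤ V) ≫ v := by
  let i := X.homOfLE (inf_le_left : V ⊓ U ≤ V)
  haveI : IsIso (X.presheaf.map (homOfLE (inf_le_left : V ⊓ U ≤ V)).op) := (ConcreteCategory.isIso_iff_bijective _).2 hbij
  have hi : IsIso i.appTop := by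
    have hsq : X.presheaf.map (homOfLE (inf_le_left : V ⊓ U ≤ V)).op ≫ (V ⊓ U).topIso.inv = V.topIso.inv ≫ i.appTop := by
      rw [Scheme.homOfLE_appTop]
      simp only [Scheme.Opens.topIso, Functor.mapIso_inv, Iso.op_inv, eqToIso.inv]
      exact (X.presheaf.map_comp _ _).symm.trans ((congrArg X.presheaf.map (Subsingleton.elim _ _)).trans (X.presheaf.map_comp _ _))
    rw [(Iso.inv_comp_eq _).1 hsq.symm]
    infer_instance
  refine ⟨fun v v' h => ext_of_isAffine ?_, fun w => ?_⟩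
  · have := congrArg Scheme.Hom.appTop h
    simp only [Scheme.Hom.comp_appTop] at this
    exact (cancel_mono i.appTop).1 this
  · refine ⟨(V : Scheme.{u}).toSpecΓ ≫ Spec.map (w.appTop ≫ inv i.appTop) ≫ Z.isoSpec.inv, ?_⟩
    show i ≫ _ = w
    rw [Scheme.toSpecΓ_naturality_assoc, ← Spec.map_comp_assoc, Category.assoc, IsIso.inv_hom_id, Category.comp_id,
      ← Scheme.toSpecΓ_naturality_assoc, ← Scheme.isoSpec_hom, Iso.hom_inv_id, Category.comp_id]


open AlgebraicGeometry CategoryTheory CategoryTheory.Limits in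
/-- Let X be a scheme and U an open subscheme whose inclusion is quasi-compact, such that for every
point z of X outside U the maximal ideal of O_{X,z} contains two elements forming a weakly regular
sequence on that local ring. Then for every X-scheme Y that is affine and of finite presentation
over X, the restriction map from X-sections of Y to U-sections of Y is bijective: every morphism U
-> Y over X extends uniquely to a section X -> Y. -/
theorem result (X : Scheme.{u}) (U : X.Opens) [QuasiCompact U.ι]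
    (hZ : ∀ z : X, z ∉ U → ∃ a b : X.presheaf.stalk z, a ∈ IsLocalRing.maximalIdeal (X.presheaf.stalk z) ∧
      b ∈ IsLocalRing.maximalIdeal (X.presheaf.stalk z) ∧ RingTheory.Sequence.IsWeaklyRegular (X.presheaf.stalk z) [a, b])
    (Y : Scheme.{u}) (f : Y ⟶ X) [IsAffineHom f] [LocallyOfFinitePresentation f]
    (t : (U : Scheme.{u}) ⟶ Y) (ht : t ≫ f = U.ι) :
    ∃! s : X ⟶ Y, s ≫ f = 𝟙 X ∧ U.ι ≫ s = t := by
  intros
  have aff : ∀ {V : X.Opens}, IsAffineOpen V → ∀ (w : ((V ⊓ U : X.Opens) : Scheme.{u}) ⟶ Y),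
      w ≫ f = (V ⊓ U).ι → ∃! v : (V : Scheme.{u}) ⟶ Y, v ≫ f = V.ι ∧ X.homOfLE (inf_le_left : V ⊓ U ≤ V) ≫ v = w := by
    intro V hV w hw
    haveI : IsAffine (f ⁻¹ᵁ V).toScheme := hV.preimage f
    haveI : IsAffine V.toScheme := hV
    let i := X.homOfLE (inf_le_left : V ⊓ U ≤ V)
    have hwr : Set.range w ⊆ Set.range (f ⁻¹ᵁ V).ι := by
      rw [Scheme.Opens.range_ι]
      rintro _ ⟨x, rfl⟩
      show f (w x) ∈ V
      rw [← Scheme.Hom.comp_apply, hw]
      exact x.2.1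
    let w' := IsOpenImmersion.lift (f ⁻¹ᵁ V).ι w hwr
    obtain ⟨v, hv : i ≫ v = w'⟩ := (extend_affine U (res_bijective U hZ hV)).2 w'
    have hvf : v ≫ f ∣_ V = 𝟙 _ := (extend_affine (Z := V.toScheme) U (res_bijective U hZ hV)).1 (by
      show i ≫ v ≫ f ∣_ V = i ≫ 𝟙 _
      rw [← Category.assoc, hv, Category.comp_id, ← cancel_mono V.ι, Category.assoc, morphismRestrict_ι,
        IsOpenImmersion.lift_fac_assoc, hw, Scheme.homOfLE_ι])
    refine ⟨v ≫ (f ⁻¹ᵁ V).ι, ⟨?_, ?_⟩, ?_⟩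
    · rw [Category.assoc, ← morphismRestrict_ι, ← Category.assoc, hvf, Category.id_comp]
    · rw [← Category.assoc, hv, IsOpenImmersion.lift_fac]
    · rintro v₂ ⟨h1, h2⟩
      have hr : Set.range v₂ ⊆ Set.range (f ⁻¹ᵁ V).ι := by
        rw [Scheme.Opens.range_ι]
        rintro _ ⟨x, rfl⟩
        show f (v₂ x) ∈ V
        rw [← Scheme.Hom.comp_apply, h1]
        exact x.2
      rw [← IsOpenImmersion.lift_fac (f ⁻¹ᵁ V).ι v₂ hr]
      refine congrArg (· ≫ (f ⁻¹ᵁ V).ι) ((extend_affine U (res_bijective U hZ hV)).1 ?_)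
      show i ≫ _ = i ≫ v
      rw [hv, ← cancel_mono (f ⁻¹ᵁ V).ι, Category.assoc, IsOpenImmersion.lift_fac, IsOpenImmersion.lift_fac]
      exact h2
  let tt : ∀ V : X.Opens, ((V ⊓ U : X.Opens) : Scheme.{u}) ⟶ Y := fun V => X.homOfLE inf_le_right ≫ t
  have htt : ∀ V, tt V ≫ f = (V ⊓ U).ι := fun V => by rw [Category.assoc, ht, Scheme.homOfLE_ι]
  choose v hv huv using fun V : X.affineOpens => aff V.2 (tt V.1) (htt V.1)
  have hres : ∀ (W V : X.affineOpens) (h : W.1 ≤ V.1), X.homOfLE h ≫ v V = v W := fun W V h => huv W _ ⟨by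
    rw [Category.assoc, (hv V).1, Scheme.homOfLE_ι], by
    rw [Scheme.homOfLE_homOfLE_assoc, ← X.homOfLE_homOfLE (show W.1 ⊓ U ≤ V.1 ⊓ U from inf_le_inf_right U h) inf_le_left,
      Category.assoc, (hv V).2, ← Category.assoc, Scheme.homOfLE_homOfLE]⟩
  obtain ⟨s, hs⟩ := Groth.Agent.Pinch4.exists_glue_opens (fun V : X.affineOpens => V.1) (iSup_affineOpens_eq_top X) v
    fun p q x hp hq => by
      obtain ⟨_, ⟨W, hW, rfl⟩, hxW, hWle⟩ := X.isBasis_affineOpens.exists_subset_of_mem_open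
        (show x ∈ ((p.1 ⊓ q.1 : X.Opens) : Set X) from ⟨hp, hq⟩) (p.1 ⊓ q.1).2
      exact ⟨W, hxW, fun y hy => (hWle hy).1, fun y hy => (hWle hy).2,
        (hres ⟨W, hW⟩ p _).trans (hres ⟨W, hW⟩ q _).symm⟩
  have hext : ∀ {Z : Scheme.{u}} (g g' : X ⟶ Z), (∀ V : X.affineOpens, V.1.ι ≫ g = V.1.ι ≫ g') → g = g' :=
    fun g g' h => Scheme.hom_ext_of_forall g g' fun x => by
      obtain ⟨_, ⟨W, hW, rfl⟩, hxW, -⟩ := X.isBasis_affineOpens.exists_subset_of_mem_open (Set.mem_univ x) isOpen_univ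
      exact ⟨W, hxW, h ⟨W, hW⟩⟩
  refine ⟨s, ⟨hext _ _ fun V => by rw [← Category.assoc, hs, (hv V).1, Category.comp_id], ?_⟩, ?_⟩
  · refine Scheme.hom_ext_of_forall _ _ fun x => ?_
    obtain ⟨_, ⟨W₀, hW, rfl⟩, hxW, hWU⟩ := X.isBasis_affineOpens.exists_subset_of_mem_open (show U.ι x ∈ (U : Set X) from x.2) U.2
    let W : X.Opens := W₀
    refine ⟨U.ι ⁻¹ᵁ W, hxW, ?_⟩
    let a : (U.ι ⁻¹ᵁ W).toScheme ⟶ (W ⊓ U : X.Opens).toScheme := IsOpenImmersion.lift (W ⊓ U).ι ((U.ι ⁻¹ᵁ W).ι ≫ U.ι) (by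
      rw [Scheme.Opens.range_ι]
      rintro _ ⟨z, rfl⟩
      exact ⟨z.2, z.1.2⟩)
    have h3 : a ≫ X.homOfLE inf_le_right = (U.ι ⁻¹ᵁ W).ι := by
      rw [← cancel_mono U.ι, Category.assoc, Scheme.homOfLE_ι, IsOpenImmersion.lift_fac]
    calc (U.ι ⁻¹ᵁ W).ι ≫ U.ι ≫ s = a ≫ (W ⊓ U).ι ≫ s := by rw [← Category.assoc, ← Category.assoc, IsOpenImmersion.lift_fac]
      _ = a ≫ X.homOfLE inf_le_left ≫ W.ι ≫ s := by rw [Scheme.homOfLE_ι_assoc]
      _ = a ≫ X.homOfLE inf_le_left ≫ v ⟨W, hW⟩ := by rw [hs ⟨W, hW⟩]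
      _ = (U.ι ⁻¹ᵁ W).ι ≫ t := by rw [(hv ⟨W, hW⟩).2, ← Category.assoc, h3]
  · rintro s' ⟨h1, h2⟩
    refine hext _ _ fun V => ?_
    rw [hs]
    refine huv V _ ⟨by rw [Category.assoc, h1, Category.comp_id], ?_⟩
    rw [Scheme.homOfLE_ι_assoc, ← Scheme.homOfLE_ι X (inf_le_right : V.1 ⊓ U ≤ U), Category.assoc, h2]

end Groth.Agent.S14272
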