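import Groth.Statements.S14274
import Groth.Agent.S14272
import Groth.Agent.Lib.TorsorSch25.Transfer
import Groth.Agent.Lib.TorsorSch25.Normal
import Groth.Agent.Lib.Pur25.Regular
import Groth.Agent.Lib.Depth.More
import Mathlib.RingTheory.Regular.Flat
import Mathlib.AlgebraicGeometry.Morphisms.LocalFlatDescent
import Mathlib.AlgebraicGeometry.Restrict

set_option autoImplicit false
universe u
open scoped CategoryTheory.Obj
open NonAbH1

namespace Groth.Agent.S14274

section aux

open AlgebraicGeometry CategoryTheory CategoryTheory.Limits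

set_option backward.isDefEq.respectTransparency false

theorem exists_pair_weaklyRegular {R R' : Type u} [CommRing R] [IsRegularLocalRing R] [CommRing R'] [IsLocalRing R']
    (φ : R →+* R') [IsLocalHom φ] (hφ : φ.Flat) (h : (2 : WithBot ℕ∞) ≤ ringKrullDim R) :
    ∃ a b : R', a ∈ IsLocalRing.maximalIdeal R' ∧ b ∈ IsLocalRing.maximalIdeal R' ∧
      RingTheory.Sequence.IsWeaklyRegular R' [a, b] := by
  have hd : (2 : ℕ∞) ≤ LocCoh.depth R R := by
    refine le_trans ?_ (Pur25.le_depth_of_regular rfl)
    rw [← IsRegularLocalRing.spanFinrank_maximalIdeal] at h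
    exact_mod_cast h
  have hne : IsLocalRing.maximalIdeal R • (⊤ : Submodule R R) ≠ ⊤ := by
    rw [Ideal.smul_eq_mul, Ideal.mul_top]; exact (IsLocalRing.maximalIdeal.isMaximal R).ne_top
  obtain ⟨rs, hr, hm, hl⟩ := DepthLib.exists_isWeaklyRegular_of_le_idealDepth hne (n := 2) hd
  obtain ⟨a, b, rfl⟩ := List.length_eq_two.1 hl
  letI := φ.toAlgebra
  haveI : Module.Flat R R' := hφ
  refine ⟨φ a, φ b, ?_, ?_, hr.of_flat⟩
  · rw [IsLocalRing.mem_maximalIdeal]; exact fun hu => hm a (by simp) ((isUnit_map_iff φ a).1 hu)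
  · rw [IsLocalRing.mem_maximalIdeal]; exact fun hu => hm b (by simp) ((isUnit_map_iff φ b).1 hu)

theorem existsUnique_extend {X : Scheme.{u}} (U : X.Opens) [QuasiCompact U.ι]
    (hZ : ∀ z : X, z ∉ U → IsRegularLocalRing (X.presheaf.stalk z) ∧ (2 : WithBot ℕ∞) ≤ ringKrullDim (X.presheaf.stalk z))
    (P Q : Over X) [Flat P.hom] [IsAffineHom Q.hom] [LocallyOfFinitePresentation Q.hom]
    (h' : (Over.pullback U.ι).obj P ⟶ (Over.pullback U.ι).obj Q) :
    ∃! h : P ⟶ Q, (Over.pullback U.ι).map h = h' := by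
  let U' := P.hom ⁻¹ᵁ U
  let e := pullbackRestrictIsoRestrict P.hom U
  have he : e.inv ≫ pullback.fst P.hom U.ι = U'.ι := pullbackRestrictIsoRestrict_inv_fst _ _
  haveI : QuasiCompact (pullback.fst P.hom U.ι) := MorphismProperty.pullback_fst _ _ inferInstance
  haveI : QuasiCompact U'.ι := by rw [← he]; infer_instance
  haveI : IsAffineHom (pullback.fst P.hom Q.hom) := MorphismProperty.pullback_fst _ _ inferInstance
  haveI : LocallyOfFinitePresentation (pullback.fst P.hom Q.hom) := MorphismProperty.pullback_fst _ _ inferInstance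
  let k : pullback P.hom U.ι ⟶ pullback Q.hom U.ι := h'.left
  have hk : k ≫ pullback.snd Q.hom U.ι = pullback.snd P.hom U.ι := Over.w h'
  let t : (U' : Scheme.{u}) ⟶ pullback P.hom Q.hom := pullback.lift U'.ι (e.inv ≫ k ≫ pullback.fst Q.hom U.ι) (by
    rw [← he, Category.assoc, Category.assoc, Category.assoc, pullback.condition, pullback.condition,
      reassoc_of% hk])
  obtain ⟨s, ⟨hs1, hs2⟩, huniq⟩ := Groth.Agent.S14272.result P.left U' (fun z hz => by
    obtain ⟨hr, hd⟩ := hZ (P.hom z) hz
    haveI := hr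
    exact exists_pair_weaklyRegular (P.hom.stalkMap z).hom (Flat.stalkMap P.hom z) hd)
    _ (pullback.fst P.hom Q.hom) t (pullback.lift_fst _ _ _)
  have key : ∀ h : P ⟶ Q, (Over.pullback U.ι).map h = h' ↔ U'.ι ≫ h.left = t ≫ pullback.snd P.hom Q.hom := by
    intro h
    rw [pullback.lift_snd, ← he, Category.assoc, cancel_epi]
    constructor
    · intro hh
      have h2 := congrArg (fun q => q.left ≫ pullback.fst Q.hom U.ι) hh
      simpa [k] using h2
    · intro hh
      ext : 1
      apply pullback.hom_ext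
      · simpa [k] using hh
      · exact (Over.w ((Over.pullback U.ι).map h)).trans hk.symm
  refine ⟨Over.homMk (s ≫ pullback.snd P.hom Q.hom) ?_, (key _).2 ?_, fun h hh => ?_⟩
  · rw [Category.assoc, ← pullback.condition, ← Category.assoc, hs1, Category.id_comp]
  · show U'.ι ≫ s ≫ _ = _
    rw [reassoc_of% hs2]
  · have hs := huniq (pullback.lift (𝟙 _) h.left (by rw [Category.id_comp, Over.w])) ⟨pullback.lift_fst _ _ _, by
      apply pullback.hom_ext
      · rw [Category.assoc, pullback.lift_fst, Category.comp_id, pullback.lift_fst]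
      · rw [Category.assoc, pullback.lift_snd]; exact (key h).1 hh⟩
    ext : 1
    show h.left = s ≫ pullback.snd P.hom Q.hom
    rw [← hs, pullback.lift_snd]

end aux

open AlgebraicGeometry CategoryTheory CategoryTheory.Limits MonoidalCategory in
/-- Let X be a scheme, G a finite locally free X-group scheme (finite, flat and locally of finite
presentation over X, not necessarily commutative), and U an open subscheme of X whose inclusion is
quasi-compact, such that for every point z of X outside U the local ring of X at z is regular of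
Krull dimension at least 2. Let Q₁ and Q₂ be fppf G-torsors over X. Then every U-morphism between
their base changes to U that is equivariant for the base-changed group is the base change of a
unique G-equivariant X-morphism Q₁ -> Q₂. (With the essential-surjectivity row this is the statement
that pullback is an equivalence from G-torsors over X to torsors over U under the base change of G.) -/
theorem result {X : Scheme.{u}} (G : Over X) [GrpObj G]
    [IsFinite G.hom] [Flat G.hom] [LocallyOfFinitePresentation G.hom]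
    (U : X.Opens) [QuasiCompact U.ι]
    (hZ : ∀ z : X, z ∉ U → IsRegularLocalRing (X.presheaf.stalk z) ∧ (2 : WithBot ℕ∞) ≤ ringKrullDim (X.presheaf.stalk z))
    (Q₁ Q₂ : Over X) (a₁ : AlgGrp.Action G Q₁) (a₂ : AlgGrp.Action G Q₂)
    (h₁ : NonAbH1.IsTorsorFor Scheme.fppfPrecoverage a₁) (h₂ : NonAbH1.IsTorsorFor Scheme.fppfPrecoverage a₂)
    (h' : (Over.pullback U.ι).obj Q₁ ⟶ (Over.pullback U.ι).obj Q₂)
    (hh' : (Functor.LaxMonoidal.μ (Over.pullback U.ι) G Q₁ ≫ (Over.pullback U.ι).map a₁.act) ≫ h' =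
      ((Over.pullback U.ι).obj G ◁ h') ≫ (Functor.LaxMonoidal.μ (Over.pullback U.ι) G Q₂ ≫ (Over.pullback U.ι).map a₂.act)) :
    ∃! h : Q₁ ⟶ Q₂, a₁.act ≫ h = (G ◁ h) ≫ a₂.act ∧ (Over.pullback U.ι).map h = h' := by
  haveI := TorsorSch25.flat_descendsAlong.{u}
  have hp : ∀ {Q : Over X} {a : AlgGrp.Action G Q}, NonAbH1.IsTorsorFor Scheme.fppfPrecoverage a →
      IsFinite Q.hom ∧ Flat Q.hom ∧ LocallyOfFinitePresentation Q.hom := fun {Q a} h => by
    have h' : NonAbH1.IsTorsorFor Scheme.fpqcPrecoverage a :=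
      ⟨h.1, h.2.choose, Scheme.fppfPrecoverage_le_fpqcPrecoverage _ h.2.choose_spec.1, h.2.choose_spec.2⟩
    exact ⟨TorsorSch25.isFinite_of_isTorsorFor_fppf h, TorsorSch25.prop_of_isTorsorFor @Flat h' inferInstance,
      TorsorSch25.prop_of_isTorsorFor @LocallyOfFinitePresentation h' inferInstance⟩
  obtain ⟨_, _, _⟩ := hp h₁
  obtain ⟨_, _, _⟩ := hp h₂
  obtain ⟨h, hh, huniq⟩ := existsUnique_extend U hZ Q₁ Q₂ h'
  haveI : Flat (G ⊗ Q₁).hom := by
    show Flat (pullback.fst G.hom Q₁.hom ≫ G.hom)
    haveI : Flat (pullback.fst G.hom Q₁.hom) := MorphismProperty.pullback_fst _ _ inferInstance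
    infer_instance
  refine ⟨h, ⟨?_, hh⟩, fun g hg => huniq g hg.2⟩
  refine (existsUnique_extend U hZ (G ⊗ Q₁) Q₂ ((Over.pullback U.ι).map (a₁.act ≫ h))).unique rfl ?_
  rw [← cancel_epi (Functor.LaxMonoidal.μ (Over.pullback U.ι) G Q₁), Functor.map_comp, Functor.map_comp,
    ← Functor.LaxMonoidal.μ_natural_right_assoc, hh, ← hh', Category.assoc]

end Groth.Agent.S14274
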