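import Groth.Statements.S14275
import Groth.Agent.Lib.H2Alg.ComplExact

set_option autoImplicit false
universe u
open CAlg

namespace Groth.Agent.S14275

theorem smul_eq_zero_quot {A : Type u} [CommRing A] (J : Ideal A) (a : A) (r : A) (hr : r ∈ J)
    (y : AdicCompletion (Ideal.span {a}) (A ⧸ J)) : r • y = 0 := by
  apply AdicCompletion.ext
  intro n
  obtain ⟨z, hz⟩ := Submodule.mkQ_surjective _ (y.val n)
  rw [AdicCompletion.val_smul_apply, AdicCompletion.val_zero_apply, ← hz, ← map_smul]
  obtain ⟨w, rfl⟩ := Submodule.mkQ_surjective _ z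
  rw [← map_smul, show Submodule.mkQ J (r • w) = 0 from (Submodule.Quotient.mk_eq_zero J).2 (J.mul_mem_right w hr),
    map_zero]

theorem map_smul_id {A : Type u} [CommRing A] (I : Ideal A) {M : Type u} [AddCommGroup M] [Module A M] (f : A)
    (y : AdicCompletion I M) : AdicCompletion.map I (f • (LinearMap.id : M →ₗ[A] M)) y = f • y := by
  apply AdicCompletion.ext
  intro n
  obtain ⟨z, hz⟩ := Submodule.mkQ_surjective _ (y.val n)
  rw [AdicCompletion.map_val_apply, AdicCompletion.val_smul_apply, ← hz]
  rfl

theorem comap_le {A : Type u} [CommRing A] (a f : A) (N n : ℕ) (J J' : Ideal A) (hle : J ≤ J')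
    (hfJ : f ∈ J') (hJ' : J' ≤ J ⊔ Ideal.span {f}) (hreg : IsSMulRegular (A ⧸ J) f)
    (hN : ∀ x : A ⧸ J', (∃ m : ℕ, a ^ m • x = 0) → a ^ N • x = 0) :
    ((Ideal.span {a}) ^ (n + N) • ⊤ : Submodule A (A ⧸ J)).comap (f • LinearMap.id) ≤
      (Ideal.span {a}) ^ n • ⊤ := by
  intro m hm
  rw [Submodule.mem_comap, Ideal.span_singleton_pow, Submodule.ideal_span_singleton_smul,
    Submodule.mem_smul_pointwise_iff_exists] at hm
  obtain ⟨y, -, hy⟩ := hm
  obtain ⟨y₀, rfl⟩ := Submodule.mkQ_surjective J y
  obtain ⟨m₀, rfl⟩ := Submodule.mkQ_surjective J m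
  have h1 : a ^ (n + N) • Submodule.mkQ J' y₀ = 0 := by
    rw [← map_smul]
    refine (Submodule.Quotient.mk_eq_zero J').2 ?_
    have : a ^ (n + N) • y₀ - f • m₀ ∈ J := (Submodule.Quotient.eq J).1 hy
    have h2 := add_mem (hle this) (J'.mul_mem_right m₀ hfJ)
    rwa [smul_eq_mul, smul_eq_mul, sub_add_cancel] at h2
  have h2 := hN _ ⟨_, h1⟩
  rw [← map_smul] at h2
  obtain ⟨j, hj, c, hc, hjc⟩ := Submodule.mem_sup.1 (hJ' ((Submodule.Quotient.mk_eq_zero J').1 h2))
  obtain ⟨z, rfl⟩ := Ideal.mem_span_singleton'.1 hc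
  have h3 : a ^ N • Submodule.mkQ J y₀ = f • Submodule.mkQ J z := by
    rw [← map_smul, ← map_smul, ← hjc, map_add, show Submodule.mkQ J j = 0 from (Submodule.Quotient.mk_eq_zero J).2 hj,
      zero_add, smul_eq_mul, mul_comm]
  have h4 : Submodule.mkQ J m₀ = a ^ n • Submodule.mkQ J z := by
    apply hreg
    show f • Submodule.mkQ J m₀ = f • (a ^ n • Submodule.mkQ J z)
    rw [smul_comm f, ← h3, smul_smul, ← pow_add]
    exact hy.symm
  rw [Ideal.span_singleton_pow, Submodule.ideal_span_singleton_smul, h4]
  exact Submodule.smul_mem_pointwise_smul _ _ _ Submodule.mem_top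

open RingTheory.Sequence in
/-- Let A be a commutative ring, a an element of A with a-adic completion A^, and a_1, ..., a_n a weakly
regular sequence on A such that for each i = 0, ..., n the quotient A/(a_1, ..., a_i) has bounded
a-power torsion (some fixed power of a kills every element killed by a power of a). Then the images
of a_1, ..., a_n form a weakly regular sequence on A^, and the canonical map from A^ to the a-adic
completion of A/(a_1, ..., a_n) is surjective with kernel the ideal generated by the images of a_1,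
..., a_n. -/
theorem result (A : Type u) [CommRing A] (a : A) (rs : List A)
    (hreg : IsWeaklyRegular A rs)
    (hbd : ∀ i ≤ rs.length, ∃ N : ℕ, ∀ x : A ⧸ Ideal.ofList (rs.take i), (∃ m : ℕ, a ^ m • x = 0) → a ^ N • x = 0) :
    IsWeaklyRegular (AdicCompletion (Ideal.span {a}) A)
        (rs.map (algebraMap A (AdicCompletion (Ideal.span {a}) A))) ∧
      Function.Surjective (AdicCompletion.map (Ideal.span {a}) (Ideal.ofList rs).mkQ) ∧
      LinearMap.ker (AdicCompletion.map (Ideal.span {a}) (Ideal.ofList rs).mkQ) =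
        (Ideal.ofList rs).map (algebraMap A (AdicCompletion (Ideal.span {a}) A)) := by
  let I := Ideal.span {a}
  let Ah := AdicCompletion I A
  let π : ∀ J : Ideal A, Ah →ₗ[AdicCompletion I A] AdicCompletion I (A ⧸ J) := fun J => AdicCompletion.map I J.mkQ
  have hsurj : ∀ J : Ideal A, Function.Surjective (π J) := fun J =>
    AdicCompletion.map_surjective I (Submodule.mkQ_surjective J)
  have hsmul : ∀ (J : Ideal A) (r : A) (x : Ah), π J (r • x) = r • π J x := fun J r x =>
    LinearMap.map_smul_of_tower (π J) r x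
  have hle : ∀ J : Ideal A, J.map (algebraMap A Ah) ≤ LinearMap.ker (π J) := fun J => by
    rw [Ideal.map_le_iff_le_comap]
    intro r hr
    rw [Ideal.mem_comap, LinearMap.mem_ker, Algebra.algebraMap_eq_smul_one, hsmul]
    exact smul_eq_zero_quot J a r hr _
  have hfreg : ∀ i (hi : i < rs.length), IsSMulRegular (A ⧸ Ideal.ofList (rs.take i)) rs[i] := fun i hi => by
    have h1 := hreg.regular_mod_prev i hi
    have : Ideal.ofList (rs.take i) • (⊤ : Submodule A A) = Ideal.ofList (rs.take i) := by
      rw [smul_eq_mul, Ideal.mul_top]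
    exact ((Submodule.quotEquivOfEq _ _ this).isSMulRegular_congr _).1 h1
  have hsucc : ∀ i (hi : i < rs.length), Ideal.ofList (rs.take (i + 1)) =
      Ideal.ofList (rs.take i) ⊔ Ideal.span {rs[i]} := fun i hi => by
    rw [List.take_succ_eq_append_getElem hi, Ideal.ofList_append, Ideal.ofList_singleton]
  have hinj : ∀ i (hi : i < rs.length), ∀ y : AdicCompletion I (A ⧸ Ideal.ofList (rs.take i)),
      rs[i] • y = 0 → y = 0 := fun i hi y hy => by
    obtain ⟨N, hN⟩ := hbd (i + 1) hi
    refine H2Alg.ComplExact.injective_map_of_comap_le (I := I) (i := rs[i] • LinearMap.id) N (fun n =>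
      comap_le a rs[i] N n (Ideal.ofList (rs.take i)) (Ideal.ofList (rs.take (i + 1)))
        (by rw [hsucc i hi]; exact le_sup_left) (by rw [hsucc i hi]; exact Ideal.mem_sup_right (Ideal.mem_span_singleton_self _))
        (hsucc i hi).le (hfreg i hi) hN) ?_
    rw [map_zero, map_smul_id, hy]
  have hker : ∀ i, i ≤ rs.length →
      LinearMap.ker (π (Ideal.ofList (rs.take i))) = (Ideal.ofList (rs.take i)).map (algebraMap A Ah) := by
    intro i
    induction i with
    | zero =>
      intro _
      refine le_antisymm (fun x hx => ?_) (hle _)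
      have h0 : Ideal.ofList (rs.take 0) = (⊥ : Ideal A) := by rw [List.take_zero, Ideal.ofList_nil]
      obtain rfl : x = 0 := by
        have h1 := congrArg (AdicCompletion.map I ((Submodule.quotEquivOfEqBot _ h0).toLinearMap))
          (LinearMap.mem_ker.1 hx)
        replace h1 := (AdicCompletion.map_comp_apply I (Ideal.ofList (rs.take 0)).mkQ
          (Submodule.quotEquivOfEqBot _ h0).toLinearMap x).symm.trans (h1.trans (map_zero _))
        rw [show (Submodule.quotEquivOfEqBot _ h0).toLinearMap ∘ₗ (Ideal.ofList (rs.take 0)).mkQ = LinearMap.id from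
          LinearMap.ext fun _ => rfl, AdicCompletion.map_id] at h1
        exact h1
      exact zero_mem _
    | succ i ih =>
      intro hi
      refine le_antisymm (fun x hx => ?_) (hle _)
      obtain ⟨N, hN⟩ := hbd (i + 1) hi
      let J := Ideal.ofList (rs.take i)
      let J' := Ideal.ofList (rs.take (i + 1))
      have hJJ : J ≤ J' := by show J ≤ Ideal.ofList _; rw [hsucc i hi]; exact le_sup_left
      have hex : Function.Exact (rs[i] • (LinearMap.id : (A ⧸ J) →ₗ[A] A ⧸ J)) (Submodule.factor hJJ) := by
        intro y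
        obtain ⟨y, rfl⟩ := Submodule.mkQ_surjective J y
        show (Submodule.Quotient.mk y : A ⧸ J') = 0 ↔ _
        rw [Submodule.Quotient.mk_eq_zero, show J' = _ from hsucc i hi, Submodule.mem_sup]
        constructor
        · rintro ⟨j, hj, c, hc, rfl⟩
          obtain ⟨z, rfl⟩ := Ideal.mem_span_singleton'.1 hc
          refine ⟨Submodule.mkQ J z, ?_⟩
          show rs[i] • Submodule.mkQ J z = _
          rw [← map_smul, map_add, show Submodule.mkQ J j = 0 from (Submodule.Quotient.mk_eq_zero J).2 hj,
            zero_add, smul_eq_mul, mul_comm]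
        · rintro ⟨z, hz⟩
          obtain ⟨z, rfl⟩ := Submodule.mkQ_surjective J z
          refine ⟨y - rs[i] • z, (Submodule.Quotient.eq J).1 hz.symm, rs[i] • z,
            Ideal.mem_span_singleton'.2 ⟨z, by rw [smul_eq_mul, mul_comm]⟩, sub_add_cancel _ _⟩
      have hE := H2Alg.ComplExact.exact_map_of_comap_le (I := I) (i := rs[i] • LinearMap.id) N
        (fun n => comap_le a rs[i] N n J J' hJJ
          (by show rs[i] ∈ Ideal.ofList _; rw [hsucc i hi]; exact Ideal.mem_sup_right (Ideal.mem_span_singleton_self _))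
          (hsucc i hi).le (hfreg i hi) hN) (Submodule.factor_surjective hJJ) hex
      have h1 : AdicCompletion.map I (Submodule.factor hJJ) (π J x) = 0 := by
        rw [← LinearMap.mem_ker.1 hx]
        show AdicCompletion.map I _ (AdicCompletion.map I J.mkQ x) = AdicCompletion.map I J'.mkQ x
        rw [AdicCompletion.map_comp_apply]
        rfl
      obtain ⟨y, hy⟩ := (hE _).1 h1
      obtain ⟨z, rfl⟩ := hsurj J y
      rw [map_smul_id, ← hsmul] at hy
      have h2 : x - rs[i] • z ∈ J.map (algebraMap A Ah) := by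
        rw [← ih (Nat.le_of_succ_le hi), LinearMap.mem_ker, map_sub, hy, sub_self]
      have h3 := add_mem (Ideal.map_mono hJJ h2) (Ideal.mul_mem_right z (J'.map (algebraMap A Ah))
        (Ideal.mem_map_of_mem _ (show rs[i] ∈ J' by
          show rs[i] ∈ Ideal.ofList _
          rw [hsucc i hi]; exact Ideal.mem_sup_right (Ideal.mem_span_singleton_self _))))
      rwa [← Algebra.smul_def, sub_add_cancel] at h3
  refine ⟨⟨fun i hi => ?_⟩, hsurj _, ?_⟩
  · rw [List.length_map] at hi
    rw [List.getElem_map, ← List.map_take, ← Ideal.map_ofList]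
    refine IsSMulRegular.of_right_eq_zero_of_smul fun q hq => ?_
    obtain ⟨x, rfl⟩ := Submodule.Quotient.mk_surjective _ q
    rw [← Submodule.Quotient.mk_smul, Submodule.Quotient.mk_eq_zero, smul_eq_mul, Ideal.mul_top,
      ← hker i hi.le, LinearMap.mem_ker, algebraMap_smul, hsmul] at hq
    rw [Submodule.Quotient.mk_eq_zero, smul_eq_mul, Ideal.mul_top, ← hker i hi.le, LinearMap.mem_ker]
    exact hinj i hi _ hq
  · have := hker rs.length le_rfl
    rwa [List.take_length] at this

end Groth.Agent.S14275
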