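import Groth.Statements.S14276
import Groth.Agent.Lib.TorsorSch25.Transfer
import Groth.Agent.Lib.SmoothSection.Scheme

set_option autoImplicit false
universe u
open CategoryTheory AlgebraicGeometry
open NonAbH1

namespace Groth.Agent.S14276

open MonObj

/-- Let X be a scheme and G a group scheme over X which is smooth over X. Then every G-torsor for the
fppf topology is locally trivial for the étale topology on X. Here a torsor is an X-scheme with an
action of G which is a pseudo-torsor and acquires sections on the members of some fppf covering
family of X, and the conclusion says that it acquires sections on the members of some étale covering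
family of X. (The published statement is about torsors in the sense of fppf sheaves; this row states
it for torsors that are schemes.) -/
theorem result {X : Scheme.{u}}
    (G : Over X) [GrpObj G] [Smooth G.hom] (P : Over X) (a : AlgGrp.Action G P)
    (h : NonAbH1.IsTorsorFor Scheme.fppfPrecoverage a) :
    NonAbH1.IsLocallyTrivialFor Scheme.etalePrecoverage P := by
  haveI : Surjective G.hom := ⟨fun s => ⟨η[G].left s, by
    rw [← Scheme.Hom.comp_apply, Over.w η[G]]; rfl⟩⟩
  have h' : NonAbH1.IsTorsorFor Scheme.fpqcPrecoverage a :=
    ⟨h.1, h.2.choose, Scheme.fppfPrecoverage_le_fpqcPrecoverage _ h.2.choose_spec.1, h.2.choose_spec.2⟩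
  haveI : Smooth P.hom := TorsorSch25.prop_of_isTorsorFor @Smooth h' inferInstance
  haveI : Surjective P.hom := TorsorSch25.prop_of_isTorsorFor @Surjective h' inferInstance
  choose p hp using fun x : X => P.hom.surjective x
  choose S' g s hg hgs sec hsec using fun x : X => SmoothSection.exists_etale_section P.hom (p x)
  refine ⟨Presieve.ofArrows S' g, ?_, ?_⟩
  · show Presieve.ofArrows S' g ∈ Scheme.precoverage @Etale X
    rw [Scheme.ofArrows_mem_precoverage_iff]
    exact ⟨fun x => ⟨x, s x, (hgs x).trans (hp x)⟩, hg⟩
  · rintro T f ⟨x⟩
    exact ⟨sec x, hsec x⟩

end Groth.Agent.S14276
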