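import Groth.Statements.S14280
import Mathlib.LinearAlgebra.Eigenspace.Charpoly
import Mathlib.Analysis.Complex.Polynomial.Basic
import Mathlib.Analysis.Normed.Group.InfiniteSum

set_option autoImplicit false
universe u
open SpSeq

namespace Groth.Agent.S14280


/-- Let E^{p,q} (p, q ≥ 0) be finite-dimensional complex vector spaces each carrying an endomorphism Φ,
and suppose that for a natural number N and functions a, c ≥ 0 (real) and b, d (natural numbers) one
has E^{p,q} = 0 for q > N, |μ| ≤ a(q)c(p) for every eigenvalue μ of Φ on E^{p,q}, and dim E^{p,q} ≤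
b(q)d(p). If Σ_p c(p)d(p) converges then the family of traces tr(Φ | E^{p,q}) is absolutely summable
over all pairs (p, q). (The published statement takes a and b defined on {0, …, N} only; here they
are functions on all natural numbers, which changes nothing since E^{p,q} = 0 for q > N.) -/
theorem result
    (E : ℕ → ℕ → Type u) [∀ p q, AddCommGroup (E p q)] [∀ p q, Module ℂ (E p q)]
    [∀ p q, FiniteDimensional ℂ (E p q)] (Φ : ∀ p q, E p q →ₗ[ℂ] E p q)
    (N : ℕ) (a c : ℕ → ℝ) (b d : ℕ → ℕ) (ha : ∀ q, 0 ≤ a q) (hc : ∀ p, 0 ≤ c p)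
    (h1 : ∀ p q, N < q → Subsingleton (E p q))
    (h2 : ∀ p q (μ : ℂ), Module.End.HasEigenvalue (Φ p q) μ → ‖μ‖ ≤ a q * c p)
    (h3 : ∀ p q, Module.finrank ℂ (E p q) ≤ b q * d p)
    (hsum : Summable fun p : ℕ => c p * (d p : ℝ)) :
    Summable fun pq : ℕ × ℕ => ‖LinearMap.trace ℂ (E pq.1 pq.2) (Φ pq.1 pq.2)‖ := by
  have hb : ∀ pq : ℕ × ℕ, ‖LinearMap.trace ℂ (E pq.1 pq.2) (Φ pq.1 pq.2)‖ ≤
      (if pq.2 ≤ N then a pq.2 * b pq.2 else 0) * (c pq.1 * d pq.1) := by
    rintro ⟨p, q⟩
    by_cases hq : q ≤ N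
    · rw [if_pos hq, Module.End.trace_eq_sum_roots_charpoly_of_splits (IsAlgClosed.splits (Φ p q).charpoly)]
      refine (norm_multiset_sum_le _).trans ?_
      refine (Multiset.sum_le_card_nsmul _ (a q * c p) fun x hx => ?_).trans ?_
      · obtain ⟨μ, hμ, rfl⟩ := Multiset.mem_map.1 hx
        exact h2 p q μ ((Module.End.hasEigenvalue_iff_isRoot_charpoly _ _).2 (Polynomial.isRoot_of_mem_roots hμ))
      · rw [Multiset.card_map, nsmul_eq_mul]
        have hcard : ((Φ p q).charpoly.roots.card : ℝ) ≤ (b q : ℝ) * d p := by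
          have := ((Polynomial.card_roots' _).trans_eq (LinearMap.charpoly_natDegree (Φ p q))).trans (h3 p q)
          exact_mod_cast this
        calc ((Φ p q).charpoly.roots.card : ℝ) * (a q * c p) ≤ ((b q : ℝ) * d p) * (a q * c p) :=
              mul_le_mul_of_nonneg_right hcard (mul_nonneg (ha q) (hc p))
          _ = a q * b q * (c p * d p) := by ring
    · haveI := h1 p q (not_le.1 hq)
      rw [show Φ p q = 0 from Subsingleton.elim _ _, map_zero, norm_zero, if_neg hq, zero_mul]
  refine _root_.Summable.of_nonneg_of_le (fun _ => norm_nonneg _) hb ?_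
  have hs : Summable fun q : ℕ => if q ≤ N then a q * (b q : ℝ) else 0 :=
    summable_of_ne_finset_zero (s := Finset.range (N + 1)) fun q hq => if_neg (by simpa [Finset.mem_range] using hq)
  exact (hsum.mul_of_nonneg hs (fun p => mul_nonneg (hc p) (Nat.cast_nonneg _))
    (fun q => by show 0 ≤ ite _ _ _; split <;> [exact mul_nonneg (ha q) (Nat.cast_nonneg _); exact le_rfl])).congr
      fun pq => mul_comm _ _


end Groth.Agent.S14280
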