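import Groth.Statements.S14283
import Groth.Agent.Lib.TraceSeq8.Abut

set_option autoImplicit false
universe u
open CategoryTheory CategoryTheory.Limits
open SpSeq

namespace Groth.Agent.S14283

open Groth.Agent.TraceSeq8



/-- For an E_2 spectral sequence (E, Φ) of complex vector spaces carrying an endomorphism Φ compatible
with all its structure maps — here encoded as a cohomological spectral sequence in the category of
ℂ[X]-modules (X acting as Φ) — which is concentrated in the first quadrant (E_2^{p,q} = 0 if p < 0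
or q < 0) and abuts to F^n (n ∈ ℤ) through abutment data whose filtrations are finite, assume that
the E_2^{p,q} are finite-dimensional over ℂ, vanish for q > N, that every eigenvalue μ of Φ on
E_2^{p,q} has |μ| ≤ a(q)c(p) and dim E_2^{p,q} ≤ b(q)d(p) for functions a, c ≥ 0 (real) and b, d
(natural numbers), and that Σ_p c(p)d(p) converges. Then the series Σ_{n ≥ 0} (−1)^n tr(Φ | F^n)
converges absolutely and its sum equals Σ_{p,q ≥ 0} (−1)^{p+q} tr(Φ | E_2^{p,q}). Traces, dimensions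
and eigenvalues are taken on the underlying complex vector spaces (restriction of scalars along ℂ →
ℂ[X]) for the endomorphism 'multiplication by X'. -/
theorem result
    (E : E₂CohomologicalSpectralSequence (ModuleCat.{u} (Polynomial ℂ)))
    (H : ℤ → ModuleCat.{u} (Polynomial ℂ)) (abut : SpSeq.Abutment E H) (hfin : ∀ n, abut.IsFinite n)
    (hquad : ∀ pq : ℤ × ℤ, pq.1 < 0 ∨ pq.2 < 0 → IsZero ((E.page 2 le_rfl).X pq))
    (hfd : ∀ pq : ℤ × ℤ, Module.Finite ℂ ((ModuleCat.restrictScalars (algebraMap ℂ (Polynomial ℂ))).obj ((E.page 2 le_rfl).X pq)))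
    (N : ℕ) (a c : ℕ → ℝ) (b d : ℕ → ℕ) (ha : ∀ q, 0 ≤ a q) (hc : ∀ p, 0 ≤ c p)
    (h1 : ∀ p q : ℕ, N < q → IsZero ((E.page 2 le_rfl).X ((p : ℤ), (q : ℤ))))
    (h2 : ∀ (p q : ℕ) (μ : ℂ), Module.End.HasEigenvalue
        ((ModuleCat.restrictScalars (algebraMap ℂ (Polynomial ℂ))).map
          ((Polynomial.X : Polynomial ℂ) • 𝟙 ((E.page 2 le_rfl).X ((p : ℤ), (q : ℤ))))).hom μ → ‖μ‖ ≤ a q * c p)
    (h3 : ∀ p q : ℕ, Module.finrank ℂ
        ((ModuleCat.restrictScalars (algebraMap ℂ (Polynomial ℂ))).obj ((E.page 2 le_rfl).X ((p : ℤ), (q : ℤ)))) ≤ b q * d p)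
    (hsum : Summable fun p : ℕ => c p * (d p : ℝ)) :
    Summable (fun n : ℕ => ‖LinearMap.trace ℂ _
        ((ModuleCat.restrictScalars (algebraMap ℂ (Polynomial ℂ))).map ((Polynomial.X : Polynomial ℂ) • 𝟙 (H n))).hom‖) ∧
    ∑' n : ℕ, (-1 : ℂ) ^ n * LinearMap.trace ℂ _
        ((ModuleCat.restrictScalars (algebraMap ℂ (Polynomial ℂ))).map ((Polynomial.X : Polynomial ℂ) • 𝟙 (H n))).hom =
      ∑' pq : ℕ × ℕ, (-1 : ℂ) ^ (pq.1 + pq.2) * LinearMap.trace ℂ _
        ((ModuleCat.restrictScalars (algebraMap ℂ (Polynomial ℂ))).map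
          ((Polynomial.X : Polynomial ℂ) • 𝟙 ((E.page 2 le_rfl).X ((pq.1 : ℤ), (pq.2 : ℤ))))).hom := by
  have hB : Bdd N a c b d (E.page 2 le_rfl).X := ⟨hquad, hfd, h1, h2, h3⟩
  have hR : (2 : ℤ) ≤ (N : ℤ) + 3 := by omega
  have hst : ∀ pq, SpSeq.StationaryAt E pq ((N : ℤ) + 3) := by
    intro pq
    refine ⟨hR, fun r hr hrR => ?_⟩
    obtain ⟨hBr, -⟩ := page_all E ha hc hsum hB r hr
    have hz : ∀ x : ℤ × ℤ, (x.1 < 0 ∨ x.2 < 0 ∨ (N : ℤ) < x.2) → IsZero ((E.page r hr).X x) := by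
      rintro ⟨p, q⟩ hx
      dsimp only at hx
      by_cases h : p < 0 ∨ q < 0
      · exact hBr.quad _ h
      · have := hBr.rows p.toNat q.toNat (by omega)
        rwa [Int.toNat_of_nonneg (by omega), Int.toNat_of_nonneg (by omega)] at this
    obtain ⟨p, q⟩ := pq
    constructor
    · by_cases h : (N : ℤ) < q ∨ q < 0
      · exact (hz (p, q) (h.elim (fun h => Or.inr (Or.inr h)) (fun h => Or.inr (Or.inl h)))).eq_of_tgt _ _
      · refine (hz _ (Or.inr (Or.inr ?_))).eq_of_src _ _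
        show (N : ℤ) < q - (1 - r)
        omega
    · by_cases h : (N : ℤ) < q
      · exact (hz (p, q) (Or.inr (Or.inr h))).eq_of_src _ _
      · refine (hz _ (Or.inr (Or.inl ?_))).eq_of_tgt _ _
        show q + (1 - r) < 0
        omega
  obtain ⟨hBR, hSR⟩ := page_all E ha hc hsum hB ((N : ℤ) + 3) hR
  let e : ℤ × ℤ → ModuleCat.{u} (Polynomial ℂ) := (E.page ((N : ℤ) + 3) hR).X
  have iso : ∀ pq : ℤ × ℤ, Nonempty (e pq ≅ SpSeq.grPiece (abut.fil (pq.1 + pq.2)) (abut.anti (pq.1 + pq.2)) pq.1) :=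
    fun pq => ⟨(Groth.Agent.SpSeqEasy8.nonempty_page_iso pq (hst pq) (abut.stat pq)).some ≪≫ abut.β pq⟩
  have htr : ∀ n : ℕ, tr (H n) = ∑ pq ∈ Finset.HasAntidiagonal.antidiagonal n, tr (e ((pq.1 : ℤ), (pq.2 : ℤ))) :=
    fun n => tr_abutment abut e hBR.fin hBR.quad iso n (hfin n)
  let f : ℕ × ℕ → ℂ := fun pq => (-1 : ℂ) ^ (pq.1 + pq.2) * tr (e ((pq.1 : ℤ), (pq.2 : ℤ)))
  have hinj : Function.Injective fun pq : ℕ × ℕ => ((pq.1 : ℤ), (pq.2 : ℤ)) := fun x y hxy => by
    simp only [Prod.mk.injEq, Nat.cast_inj] at hxy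
    exact Prod.ext hxy.1 hxy.2
  have hf : Summable f := ((hBR.summable ha hc hsum).comp_injective hinj).congr fun pq => by
    show sgn _ * _ = _
    rw [sgn_nat]
  have hn : Summable fun n : ℕ => ∑ pq ∈ Finset.HasAntidiagonal.antidiagonal n, ‖f pq‖ := by
    have := (Finset.HasAntidiagonal.sigmaAntidiagonalEquivProd.summable_iff (f := fun pq : ℕ × ℕ => ‖f pq‖)).2 hf.norm
    refine this.sigma.congr fun n => ?_
    rw [tsum_fintype]
    exact Finset.sum_coe_sort _ fun pq : ℕ × ℕ => ‖f pq‖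
  refine ⟨hn.of_nonneg_of_le (fun _ => norm_nonneg _) fun n => ?_, ?_⟩
  · refine (congrArg norm (htr n)).trans_le ((norm_sum_le _ _).trans_eq (Finset.sum_congr rfl fun pq _ => ?_))
    rw [norm_mul, norm_pow, norm_neg, norm_one, one_pow, one_mul]
  · refine Eq.trans ?_ (((tsum_nat hBR).trans hSR).trans (tsum_nat hB).symm)
    have hs := (Finset.HasAntidiagonal.sigmaAntidiagonalEquivProd.summable_iff (f := f)).2 hf
    refine Eq.trans ?_ (hs.tsum_sigma.symm.trans (Finset.HasAntidiagonal.sigmaAntidiagonalEquivProd.tsum_eq f))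
    refine tsum_congr fun n => ?_
    rw [tsum_fintype]
    refine Eq.trans ?_ (Finset.sum_coe_sort _ f).symm
    refine (congrArg ((-1 : ℂ) ^ n * ·) (htr n)).trans ?_
    rw [Finset.mul_sum]
    refine Finset.sum_congr rfl fun pq hpq => ?_
    show _ = (-1 : ℂ) ^ (pq.1 + pq.2) * _
    rw [Finset.HasAntidiagonal.mem_antidiagonal.1 hpq]


end Groth.Agent.S14283
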