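import Groth.Statements.S1429
import Groth.Agent.Lib.AffStratNum4.MaxLocus
import Groth.Agent.Lib.Weight4.Max

set_option autoImplicit false
universe u
open FlatMor

set_option backward.isDefEq.respectTransparency.types false

namespace Groth.Agent.S1429

open AlgebraicGeometry CategoryTheory Limits in
/-- For affine X and Y, a quasi-finite morphism f : X → Y of finite presentation and a positive
weighting w of f whose fibre integral has maximum value d: the open Y_d on which the integral equals
d is affine. -/
theorem result {X Y : Scheme.{u}} (f : X ⟶ Y) [LocallyQuasiFinite f] [QuasiCompact f] [LocallyOfFinitePresentation f] [IsAffine X] [IsAffine Y]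
    (w : ↑X → ℤ) (hw : MoreMor.IsWeighting f w) (hpos : ∀ x, 0 < w x) (d : ℤ)
    (hmax : ∀ y : Y, MoreMor.fibreIntegral f w y ≤ d) (hatt : ∃ y : Y, MoreMor.fibreIntegral f w y = d) :
    ∃ hYd : IsOpen {y : ↑Y | MoreMor.fibreIntegral f w y = d}, IsAffineOpen (⟨{y : ↑Y | MoreMor.fibreIntegral f w y = d}, hYd⟩ : Y.Opens) := by
  obtain ⟨y₀, hy₀⟩ := hatt
  have hd : 0 ≤ d := by
    rw [← hy₀]
    exact finsum_nonneg fun u => mul_nonneg (hpos _).le (Int.natCast_nonneg _)
  obtain ⟨n, rfl⟩ := Int.eq_ofNat_of_zero_le hd
  cases n with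
  | zero =>
    have hall : {y : Y | MoreMor.fibreIntegral f w y = ((0 : ℕ) : ℤ)} = Set.univ := Set.eq_univ_of_forall fun y =>
      le_antisymm (hmax y) (finsum_nonneg fun u => mul_nonneg (hpos _).le (Int.natCast_nonneg _))
    refine ⟨by rw [hall]; exact isOpen_univ, ?_⟩
    convert isAffineOpen_top Y using 1
    exact TopologicalSpace.Opens.ext (hall.trans TopologicalSpace.Opens.coe_top.symm)
  | succ m => exact Groth.Agent.AffStratNum4.isAffineOpen_max f w hw hpos m hmax

end Groth.Agent.S1429
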