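import Groth.Statements.S14292
import Groth.Agent.Lib.EllLiftB.EtaleLocal
-- import your own Groth.Agent.* helpers here

set_option autoImplicit false
universe u
open EllLift

namespace Groth.Agent.S14292

/-- Let A be a commutative ring and W₁, W₂ Weierstrass cubics over A with unit discriminants and the
same j-invariant j, such that j and j - 1728 are both units of A (the modular invariant avoids the
special values 0 and 1728 at every point). Then for every prime ideal p of A there exist an étale
A-algebra B with a prime lying over p and a change of variables over B carrying the base change of
W₁ to that of W₂; that is, the two elliptic curves become isomorphic on an étale neighbourhood of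
every point of Spec A. (The published statement is about Weierstrass curves with possibly nodal,
geometrically irreducible fibres over an arbitrary base scheme whose modular invariant avoids 0,
1728 and ∞; this row is the case of unit discriminant over an affine base.) -/
theorem result (A : Type u) [CommRing A]
    (W₁ W₂ : WeierstrassCurve A) [W₁.IsElliptic] [W₂.IsElliptic] (hj : W₁.j = W₂.j)
    (h0 : IsUnit W₁.j) (h1728 : IsUnit (W₁.j - 1728)) (p : PrimeSpectrum A) :
    ∃ (B : Type u) (_ : CommRing B) (_ : Algebra A B), Algebra.Etale A B ∧
      p ∈ Set.range (PrimeSpectrum.comap (algebraMap A B)) ∧
      ∃ C : WeierstrassCurve.VariableChange B, C • (W₁.map (algebraMap A B)) = W₂.map (algebraMap A B) := by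
  exact EllLiftB.exists_etale_nhd hj h0 h1728 p

end Groth.Agent.S14292
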