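import Groth.Statements.S14295
import Mathlib.Algebra.Module.Basic
import Mathlib.Tactic.Module
import Mathlib.Tactic.Abel
import Mathlib.Tactic.Ring
import Mathlib.Tactic.Linarith

set_option autoImplicit false
universe u v
open PtDeg

namespace Groth.Agent.S14295

/-- Let A and G be abelian groups, written additively, and f : A → G a map which is pointed of degree 2,
that is f(x+y+z) + f(x) + f(y) + f(z) = f(x+y) + f(x+z) + f(y+z) for all x, y, z in A. Then for
every integer n and every x in A one has f(n·x) = (n(n+1)/2)·f(x) + (n(n−1)/2)·f(−x) (the two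
coefficients are the integers n(n+1)/2 and n(n−1)/2). -/
theorem result {A : Type u} {G : Type v} [AddCommGroup A] [AddCommGroup G]
    (f : A → G) (hf : ∀ x y z : A, f (x + y + z) + f x + f y + f z = f (x + y) + f (x + z) + f (y + z))
    (n : ℤ) (x : A) :
    f (n • x) = (n * (n + 1) / 2) • f x + (n * (n - 1) / 2) • f (-x) := by
  have h0 : f 0 = 0 := by
    have := hf 0 0 0
    simp only [add_zero] at this
    simpa using this
  have hrec : ∀ m : ℤ, f ((m + 1) • x) + f ((m - 1) • x) = f (m • x) + f (m • x) + f x + f (-x) := by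
    intro m
    have := hf (m • x) x (-x)
    rw [show m • x + x + -x = m • x by abel, show x + -x = (0:A) by abel, h0, add_zero] at this
    rw [add_smul, sub_smul, one_smul, sub_eq_add_neg]
    exact this.symm
  have he : ∀ m : ℤ, (m + 1) * (m + 1 + 1) / 2 = m * (m + 1) / 2 + (m + 1) := fun m => by
    rw [← Int.add_mul_ediv_right _ _ (by norm_num : (2:ℤ) ≠ 0)]; congr 1; ring
  have he' : ∀ m : ℤ, (m + 1) * (m + 1 - 1) / 2 = m * (m - 1) / 2 + m := fun m => by
    rw [← Int.add_mul_ediv_right _ _ (by norm_num : (2:ℤ) ≠ 0)]; congr 1; ring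
  let P : ℤ → G := fun m => f (m • x) - ((m * (m + 1) / 2) • f x + (m * (m - 1) / 2) • f (-x))
  have hP : ∀ m, P (m + 1) + P (m - 1) = P m + P m := by
    intro m
    have e1 := he (m - 1)
    have e2 := he' (m - 1)
    simp only [sub_add_cancel] at e1 e2
    simp only [P, he m, he' m, sub_add_cancel]
    rw [e1, e2]
    have hf' : f ((m + 1) • x) = f (m • x) + f (m • x) + f x + f (-x) - f ((m - 1) • x) := eq_sub_of_add_eq (hrec m)
    rw [hf']
    module
  have hP0 : P 0 = 0 := by simp [P, h0]
  have hP1 : P 1 = 0 := by simp [P]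
  have : ∀ m : ℤ, P m = 0 ∧ P (m + 1) = 0 := by
    intro m
    induction m using Int.induction_on with
    | zero => exact ⟨hP0, hP1⟩
    | succ k ih =>
      refine ⟨ih.2, ?_⟩
      have := hP (k + 1)
      simpa [ih.1, ih.2] using this
    | pred k ih =>
      refine ⟨?_, by simpa using ih.1⟩
      have := hP (-(k:ℤ))
      simpa [ih.1, ih.2] using this
  exact sub_eq_zero.1 (this n).1

end Groth.Agent.S14295
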