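import Groth.Statements.S14294
import Groth.Agent.S14295
import Mathlib.Tactic.Module
import Mathlib.Tactic.Ring
import Mathlib.Tactic.Linarith
import Mathlib.Tactic.Abel

set_option autoImplicit false
universe u v
open PtDeg

namespace Groth.Agent.S14294

/-- Let A and G be abelian groups, written additively, and f : A → G a map which is pointed of degree 2,
that is f(x+y+z) + f(x) + f(y) + f(z) = f(x+y) + f(x+z) + f(y+z) for all x, y, z in A. If an integer
n satisfies n·x = 0 for every x in A, then 2n·f(x) = 0 for every x in A, and if moreover n is odd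
then n·f(x) = 0 for every x in A. -/
theorem result {A : Type u} {G : Type v} [AddCommGroup A] [AddCommGroup G]
    (f : A → G) (hf : ∀ x y z : A, f (x + y + z) + f x + f y + f z = f (x + y) + f (x + z) + f (y + z))
    (n : ℤ) (hn : ∀ x : A, n • x = 0) :
    (∀ x : A, (2 * n) • f x = 0) ∧ (Odd n → ∀ x : A, n • f x = 0) := by
  have F := fun (m : ℤ) (x : A) => Groth.Agent.S14295.result f hf m x
  have key : ∀ x, n • f x + n • f (-x) = 0 ∧ (n * (n + 1) / 2) • f x + (n * (n - 1) / 2) • f (-x) = 0 := by
    intro x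
    have h0 : f 0 = 0 := by simpa using F 0 x
    have h1 := F n x
    rw [hn x, h0] at h1
    have h2 := F (n + 1) x
    rw [add_smul, hn x, zero_add, one_smul] at h2
    have e1 : (n + 1) * (n + 1 + 1) / 2 = n * (n + 1) / 2 + (n + 1) := by
      rw [← Int.add_mul_ediv_right _ _ (by norm_num : (2:ℤ) ≠ 0)]; congr 1; ring
    have e2 : (n + 1) * (n + 1 - 1) / 2 = n * (n - 1) / 2 + n := by
      rw [← Int.add_mul_ediv_right _ _ (by norm_num : (2:ℤ) ≠ 0)]; congr 1; ring
    rw [e1, e2, add_smul, add_smul, add_smul, one_smul] at h2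
    refine ⟨?_, h1.symm⟩
    calc n • f x + n • f (-x) = ((n * (n + 1) / 2) • f x + (n • f x + f x) + ((n * (n - 1) / 2) • f (-x) + n • f (-x))) - f x - ((n * (n + 1) / 2) • f x + (n * (n - 1) / 2) • f (-x)) := by abel
    _ = 0 := by rw [← h2, ← h1, sub_self, sub_self]
  have hdiff : ∀ x, n • f x = n • f (-x) := by
    intro x
    have h1 := (key x).2
    have h2 := (key (-x)).2
    rw [neg_neg] at h2
    have e : n * (n + 1) / 2 = n * (n - 1) / 2 + n := by
      rw [← Int.add_mul_ediv_right _ _ (by norm_num : (2:ℤ) ≠ 0)]; congr 1; ring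
    rw [e] at h1 h2
    rw [← sub_eq_zero]
    calc n • f x - n • f (-x) = ((n * (n - 1) / 2 + n) • f x + (n * (n - 1) / 2) • f (-x)) - ((n * (n - 1) / 2 + n) • f (-x) + (n * (n - 1) / 2) • f x) := by module
    _ = 0 := by rw [h1, h2, sub_zero]
  have h2n : ∀ x, (2 * n) • f x = 0 := fun x => by
    have := (key x).1
    rwa [← hdiff, ← add_smul, ← two_mul] at this
  refine ⟨h2n, ?_⟩
  rintro ⟨k, hk⟩ x
  have h1 := (key x).2
  have ea : n * (n + 1) / 2 = (k + 1) * n := by
    rw [show n * (n + 1) = (k + 1) * n * 2 by rw [hk]; ring, Int.mul_ediv_cancel _ (by norm_num)]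
  have eb : n * (n - 1) / 2 = k * n := by
    rw [show n * (n - 1) = k * n * 2 by rw [hk]; ring, Int.mul_ediv_cancel _ (by norm_num)]
  rw [ea, eb] at h1
  calc n • f x = ((k + 1) * n) • f x + (k * n) • f (-x) - k • (n • f x + n • f (-x)) := by module
  _ = 0 := by rw [h1, (key x).1, smul_zero, sub_zero]

end Groth.Agent.S14294
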