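import Groth.Statements.S14297
import Mathlib

set_option autoImplicit false
universe u
open MeasureTheory
open PtDeg

namespace Groth.Agent.S14297


section Aux
open MeasureTheory Finset

variable {G : Type u} [AddCommGroup G] [TopologicalSpace G] [IsTopologicalAddGroup G] [CompactSpace G]
  [T2Space G] [MeasurableSpace G] [BorelSpace G]

omit [AddCommGroup G] [IsTopologicalAddGroup G] in
/-- continuous functions on a finite power of a compact Hausdorff space are product-measurable -/
theorem measurable_pi_of_continuous {ι : Type} [Finite ι] {f : (ι → G) → ℝ} (hf : Continuous f) :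
    Measurable f := by
  let A : Subalgebra ℝ C(ι → G, ℝ) :=
    { carrier := {h | Measurable (h : (ι → G) → ℝ)}
      mul_mem' := fun {a b} ha hb => Measurable.mul ha hb
      add_mem' := fun {a b} ha hb => Measurable.add ha hb
      algebraMap_mem' := fun r => measurable_const }
  have hclosed : IsClosed (A : Set C(ι → G, ℝ)) := by
    refine IsSeqClosed.isClosed fun hs h hmem hlim => ?_
    exact measurable_of_tendsto_metrizable hmem
      (tendsto_pi_nhds.2 fun x => ((continuous_eval_const x).tendsto _).comp hlim)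
  have hsep : A.SeparatesPoints := by
    intro x y hxy
    obtain ⟨i, hi⟩ := Function.ne_iff.1 hxy
    obtain ⟨g, hg0, hg1, -⟩ := exists_continuous_zero_one_of_isClosed (isClosed_singleton (x := x i))
      (isClosed_singleton (x := y i)) (Set.disjoint_singleton.2 hi)
    refine ⟨_, ⟨⟨fun z => g (z i), by fun_prop⟩, g.continuous.measurable.comp (measurable_pi_apply i), rfl⟩, ?_⟩
    simp [hg0 rfl, hg1 rfl]
  have := ContinuousMap.continuousMap_mem_subalgebra_closure_of_separatesPoints A hsep ⟨f, hf⟩
  rw [← SetLike.mem_coe, Subalgebra.topologicalClosure_coe, hclosed.closure_eq] at this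
  exact this

variable (μ : Measure G) [μ.IsAddHaarMeasure] [IsProbabilityMeasure μ]

omit [IsTopologicalAddGroup G] in
theorem integrable_pi_of_continuous {ι : Type} [Fintype ι] {f : (ι → G) → ℝ} (hf : Continuous f) :
    Integrable f (Measure.pi fun _ : ι => μ) :=
  Integrable.of_bound (measurable_pi_of_continuous hf).aestronglyMeasurable ‖(⟨f, hf⟩ : C(ι → G, ℝ))‖
    (ae_of_all _ fun x => (⟨f, hf⟩ : C(ι → G, ℝ)).norm_coe_le_norm x)

omit [IsTopologicalAddGroup G] in
theorem continuous_integral_pi {ι : Type} [Fintype ι] {P : Type*} [TopologicalSpace P]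
    {f : P × (ι → G) → ℝ} (hf : Continuous f) :
    Continuous fun p => ∫ u, f (p, u) ∂(Measure.pi fun _ : ι => μ) := by
  have h : LipschitzWith 1 fun h : C(ι → G, ℝ) => ∫ u, h u ∂(Measure.pi fun _ : ι => μ) := by
    refine LipschitzWith.of_dist_le_mul fun a b => ?_
    rw [NNReal.coe_one, one_mul, dist_eq_norm, dist_eq_norm,
      ← integral_sub (integrable_pi_of_continuous μ a.continuous) (integrable_pi_of_continuous μ b.continuous)]
    refine (norm_integral_le_of_norm_le_const (ae_of_all _ fun x => (a - b).norm_coe_le_norm x)).trans ?_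
    simp
  exact h.continuous.comp (ContinuousMap.curry ⟨f, hf⟩).continuous

/-- the average over all but the first variable -/
noncomputable def Jav {m : ℕ} (ψ : (Fin (m + 1) → G) → ℝ) (g : G) : ℝ :=
  ∫ u, ψ (Fin.cons g u) ∂(Measure.pi fun _ : Fin m => μ)

/-- alternating sum over all subsets -/
noncomputable def Esum {n : ℕ} (f : G → ℝ) (x : Fin n → G) : ℝ :=
  ∑ I ∈ (univ : Finset (Fin n)).powerset, (-1 : ℝ) ^ (I.card + 1) * f (∑ i ∈ I, x i)

omit [TopologicalSpace G] [IsTopologicalAddGroup G] [CompactSpace G] [T2Space G] [MeasurableSpace G]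
  [BorelSpace G] in
theorem powerset_map_univ {n : ℕ} (e : Fin n ↪ Fin (n + 1)) :
    ((univ : Finset (Fin n)).map e).powerset = (univ : Finset (Fin n)).powerset.map (mapEmbedding e).toEmbedding := by
  ext t
  simp only [mem_powerset, Finset.mem_map, subset_map_iff]
  exact ⟨fun ⟨u, hu, h⟩ => ⟨u, hu, h.symm⟩, fun ⟨u, hu, h⟩ => ⟨u, hu, h.symm⟩⟩

omit [TopologicalSpace G] [IsTopologicalAddGroup G] [CompactSpace G] [T2Space G] [MeasurableSpace G]
  [BorelSpace G] in
theorem Esum_snoc {n : ℕ} (f : G → ℝ) (x : Fin n → G) (b : G) :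
    Esum f (Fin.snoc x b) = ∑ I ∈ (univ : Finset (Fin n)).powerset,
      (-1 : ℝ) ^ (I.card + 1) * (f (∑ i ∈ I, x i) - f (∑ i ∈ I, x i + b)) := by
  have hu : (univ : Finset (Fin (n + 1))) = insert (Fin.last n) (univ.map Fin.castSuccEmb) := by
    ext i
    induction i using Fin.lastCases <;> simp
  rw [Esum, hu, sum_powerset_insert (by simp), powerset_map_univ, sum_map, sum_map, ← sum_add_distrib]
  refine sum_congr rfl fun I _ => ?_
  show (-1 : ℝ) ^ ((I.map Fin.castSuccEmb).card + 1) * _ +
    (-1 : ℝ) ^ ((insert (Fin.last n) (I.map Fin.castSuccEmb)).card + 1) * _ = _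
  have hn : Fin.last n ∉ I.map Fin.castSuccEmb := by simp
  simp only [RelEmbedding.coe_toEmbedding, mapEmbedding_apply, card_insert_of_notMem hn, sum_insert hn,
    card_map, sum_map, Fin.coe_castSuccEmb, Fin.snoc_castSucc, Fin.snoc_last]
  rw [add_comm b, pow_succ _ (I.card + 1)]
  ring

theorem cocycle_formula : ∀ (m : ℕ) (ψ : (Fin (m + 1) → G) → ℝ), Continuous ψ →
    (∀ (i j : Fin (m + 1)), i ≠ j → ∀ (x : Fin (m + 1) → G) (a b c : G),
      ψ (Function.update (Function.update x i (a + b)) j c) + ψ (Function.update (Function.update x i a) j b) =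
        ψ (Function.update (Function.update x i a) j (b + c)) +
          ψ (Function.update (Function.update x i b) j c)) →
    ∀ x, ψ x = Esum (Jav μ ψ) x + Jav μ ψ 0 := by
  intro m
  induction m with
  | zero =>
    intro ψ _ _ x
    have hJ : ∀ g, Jav μ ψ g = ψ (fun _ => g) := by
      intro g
      rw [Jav, integral_unique, probReal_univ, one_smul]
      congr 1
      funext i
      fin_cases i
      rfl
    rw [Esum, show (univ : Finset (Fin (0 + 1))).powerset = {∅, {0}} by decide, sum_pair (by decide)]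
    simp only [card_empty, card_singleton, sum_empty, sum_singleton, hJ]
    rw [show (fun _ => x 0) = x by funext i; fin_cases i; rfl]
    ring
  | succ m ih =>
    intro ψ hψc hψ x
    let Φ : G → G → ℝ := fun g b => ∫ u, ψ (Fin.snoc (Fin.cons g u) b) ∂(Measure.pi fun _ : Fin m => μ)
    have hsn : Continuous fun p : (Fin (m + 1) → G) × G => (Fin.snoc p.1 p.2 : Fin (m + 2) → G) := by
      refine continuous_pi fun i => ?_
      induction i using Fin.lastCases with
      | last => simpa using continuous_snd
      | cast i => simp only [Fin.snoc_castSucc]; fun_prop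
    have hcons : Continuous fun p : G × (Fin m → G) => (Fin.cons p.1 p.2 : Fin (m + 1) → G) := by
      refine continuous_pi fun i => ?_
      induction i using Fin.cases with
      | zero => simpa using continuous_fst
      | succ i => simp only [Fin.cons_succ]; fun_prop
    have hK : Continuous fun p : (G × G) × (Fin m → G) => ψ (Fin.snoc (Fin.cons p.1.1 p.2) p.1.2) :=
      hψc.comp (hsn.comp ((hcons.comp (continuous_fst.fst.prodMk continuous_snd)).prodMk continuous_fst.snd))
    have hΦc : Continuous fun p : G × G => Φ p.1 p.2 := continuous_integral_pi μ hK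
    have hKi : ∀ g b, Integrable (fun u => ψ (Fin.snoc (Fin.cons g u) b)) (Measure.pi fun _ : Fin m => μ) :=
      fun g b => integrable_pi_of_continuous μ
        (hK.comp ((continuous_const (y := (g, b))).prodMk continuous_id))
    have hΦ : ∀ a b c, Φ (a + b) c + Φ a b = Φ a (b + c) + Φ b c := by
      intro a b c
      show (∫ _, _ ∂_) + (∫ _, _ ∂_) = (∫ _, _ ∂_) + (∫ _, _ ∂_)
      rw [← integral_add (hKi _ _) (hKi _ _), ← integral_add (hKi _ _) (hKi _ _)]
      refine integral_congr_ae (ae_of_all _ fun u => ?_)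
      have h := hψ (0 : Fin (m + 1)).castSucc (Fin.last (m + 1)) (Fin.castSucc_lt_last _).ne
        (Fin.snoc (Fin.cons 0 u) 0) a b c
      simp only [← Fin.snoc_update, Fin.update_cons_zero, Fin.update_snoc_last] at h
      exact h
    let H : G → ℝ := fun g => ∫ c, Φ g c ∂μ
    have hΦi : ∀ g, Integrable (fun c => Φ g c) μ := fun g =>
      (hΦc.comp ((continuous_const (y := g)).prodMk continuous_id)).integrable_of_hasCompactSupport
        (HasCompactSupport.of_compactSpace _)
    have hΦH : ∀ a b, Φ a b = H a + H b - H (a + b) := by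
      intro a b
      have h : ∫ c, (Φ (a + b) c + Φ a b) ∂μ = ∫ c, (Φ a (b + c) + Φ b c) ∂μ := by simp only [hΦ]
      rw [integral_add (hΦi _) (integrable_const _),
        integral_add ((hΦi a).comp_add_left b) (hΦi b), integral_const, probReal_univ, one_smul,
        integral_add_left_eq_self (fun c => Φ a c) b] at h
      show Φ a b = (∫ c, Φ a c ∂μ) + (∫ c, Φ b c ∂μ) - ∫ c, Φ (a + b) c ∂μ
      linarith
    have hJ : ∀ g, Jav μ ψ g = H g := by
      intro g
      have hmp := (measurePreserving_piFinSuccAbove (fun _ : Fin (m + 1) => μ) (Fin.last m)).symm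
      have hc : Continuous fun u : Fin (m + 1) → G => ψ (Fin.cons g u) := by
        refine hψc.comp (continuous_pi fun i => ?_)
        induction i using Fin.cases with
        | zero => simpa using continuous_const
        | succ i => simpa using continuous_apply i
      have hint : Integrable (fun z => ψ (Fin.cons g
          ((MeasurableEquiv.piFinSuccAbove (fun _ : Fin (m + 1) => G) (Fin.last m)).symm z)))
          (μ.prod (Measure.pi fun _ : Fin m => μ)) :=
        hmp.integrable_comp_of_integrable (integrable_pi_of_continuous μ hc)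
      rw [Jav, ← hmp.integral_comp', integral_prod _ hint]
      refine integral_congr_ae (ae_of_all _ fun c => integral_congr_ae (ae_of_all _ fun u => ?_))
      show ψ (Fin.cons g _) = ψ (Fin.snoc (Fin.cons g u) c)
      rw [← Fin.cons_snoc_eq_snoc_cons]
      congr 2
      exact Fin.insertNth_last' c u
    obtain ⟨x', b, rfl⟩ : ∃ x' b, x = Fin.snoc x' b := ⟨_, _, (Fin.snoc_init_self x).symm⟩
    have h1 := ih (fun y => ψ (Fin.snoc y b)) (hψc.comp (hsn.comp (continuous_id.prodMk continuous_const)))
      (fun i j hij y a a' c => by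
        simpa only [Fin.snoc_update] using
          hψ i.castSucc j.castSucc (fun e => hij (Fin.castSucc_injective _ e)) (Fin.snoc y b) a a' c) x'
    have hΦ' : Jav μ (fun y => ψ (Fin.snoc y b)) = fun g => H g + H b - H (g + b) := funext fun g => hΦH g b
    have hJ' : Jav μ ψ = H := funext hJ
    rw [h1, hΦ', hJ', Esum_snoc]
    have h0 : ∑ I ∈ (univ : Finset (Fin (m + 1))).powerset, (-1 : ℝ) ^ (I.card + 1) * H b = 0 := by
      rw [← sum_mul]
      simp only [pow_succ, ← sum_mul]
      have := sum_powerset_neg_one_pow_card_of_nonempty (univ_nonempty (α := Fin (m + 1)))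
      have h' : (∑ I ∈ (univ : Finset (Fin (m + 1))).powerset, (-1 : ℝ) ^ I.card) = 0 := by
        exact_mod_cast congrArg (fun z : ℤ => (z : ℝ)) this
      rw [h', zero_mul, zero_mul]
    simp only [Esum, zero_add, add_sub_cancel_right, mul_add, mul_sub, sum_add_distrib, sum_sub_distrib, h0,
      add_zero]

theorem main (m : ℕ) (hm : 1 ≤ m) (ψ : (Fin (m + 1) → G) → ℝ) (hψc : Continuous ψ)
    (hψ : ∀ (i j : Fin (m + 1)), i ≠ j → ∀ (x : Fin (m + 1) → G) (a b c : G),
      ψ (Function.update (Function.update x i (a + b)) j c) + ψ (Function.update (Function.update x i a) j b) =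
        ψ (Function.update (Function.update x i a) j (b + c)) +
          ψ (Function.update (Function.update x i b) j c)) :
    (∀ x : Fin (m + 1) → G,
      ψ x = ∑ I ∈ ((Finset.univ : Finset (Fin (m + 1))).powerset.erase ∅),
        (-1 : ℝ) ^ (m + 1 + I.card) * ((-1 : ℝ) ^ m * Jav μ ψ (∑ i ∈ I, x i))) ∧
    Continuous (fun g : G => (-1 : ℝ) ^ m * Jav μ ψ g) ∧
    (∀ φ : G → ℝ, Continuous φ → (∀ x : Fin (m + 1) → G,
      ψ x = ∑ I ∈ ((Finset.univ : Finset (Fin (m + 1))).powerset.erase ∅),
        (-1 : ℝ) ^ (m + 1 + I.card) * φ (∑ i ∈ I, x i)) →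
      φ = fun g => (-1 : ℝ) ^ m * Jav μ ψ g) := by
  have hmm : (-1 : ℝ) ^ m * (-1 : ℝ) ^ m = 1 := by rw [← mul_pow]; norm_num
  refine ⟨fun x => ?_, ?_, ?_⟩
  · rw [cocycle_formula μ m ψ hψc hψ x, Esum, ← sum_erase_add _ _ (empty_mem_powerset _)]
    have hs : ∀ I : Finset (Fin (m + 1)), (-1 : ℝ) ^ (m + 1 + I.card) * ((-1 : ℝ) ^ m * Jav μ ψ (∑ i ∈ I, x i)) =
        (-1 : ℝ) ^ (I.card + 1) * Jav μ ψ (∑ i ∈ I, x i) := by
      intro I
      rw [add_assoc, pow_add, add_comm 1 I.card, ← mul_assoc, mul_right_comm ((-1 : ℝ) ^ m), hmm, one_mul]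
    simp only [hs, card_empty, sum_empty]
    ring
  · refine continuous_const.mul (continuous_integral_pi μ (ι := Fin m) (P := G)
      (f := fun p => ψ (Fin.cons p.1 p.2)) (hψc.comp (continuous_pi fun i => ?_)))
    induction i using Fin.cases with
    | zero => simpa using continuous_fst
    | succ i => simp only [Fin.cons_succ]; fun_prop
  · intro φ hφ hrep
    funext g
    have hu : (univ : Finset (Fin (m + 1))) = insert 0 (univ.map ⟨Fin.succ, Fin.succ_injective m⟩) := by
      ext i
      induction i using Fin.cases <;> simp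
    have hpt : ∀ u : Fin m → G, ψ (Fin.cons g u) =
        (∑ T ∈ (univ : Finset (Fin m)).powerset, (-1 : ℝ) ^ (m + 1 + T.card) *
          (φ (∑ i ∈ T, u i) - φ (g + ∑ i ∈ T, u i))) - (-1 : ℝ) ^ (m + 1) * φ 0 := by
      intro u
      rw [hrep, sum_erase_eq_sub (empty_mem_powerset _), card_empty, sum_empty, add_zero]
      congr 1
      rw [hu, sum_powerset_insert (by simp), powerset_map_univ, sum_map, sum_map, ← sum_add_distrib]
      refine sum_congr rfl fun T _ => ?_
      have hn : (0 : Fin (m + 1)) ∉ T.map ⟨Fin.succ, Fin.succ_injective m⟩ := by simp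
      simp only [RelEmbedding.coe_toEmbedding, mapEmbedding_apply, card_insert_of_notMem hn, sum_insert hn,
        card_map, sum_map, Function.Embedding.coeFn_mk, Fin.cons_succ, Fin.cons_zero]
      rw [← add_assoc (m + 1) T.card 1, pow_succ _ (m + 1 + T.card)]
      ring
    have hi1 : ∀ T : Finset (Fin m), Integrable (fun u => φ (∑ i ∈ T, u i)) (Measure.pi fun _ : Fin m => μ) :=
      fun T => integrable_pi_of_continuous μ (by fun_prop)
    have hi2 : ∀ T : Finset (Fin m),
        Integrable (fun u => φ (g + ∑ i ∈ T, u i)) (Measure.pi fun _ : Fin m => μ) :=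
      fun T => integrable_pi_of_continuous μ (by fun_prop)
    have hJ : Jav μ ψ g = (-1 : ℝ) ^ m * φ g := by
      have hi3 : ∀ T : Finset (Fin m), Integrable (fun u => (-1 : ℝ) ^ (m + 1 + T.card) *
          (φ (∑ i ∈ T, u i) - φ (g + ∑ i ∈ T, u i))) (Measure.pi fun _ : Fin m => μ) :=
        fun T => ((hi1 T).sub (hi2 T)).const_mul _
      rw [Jav, integral_congr_ae (ae_of_all _ hpt), integral_sub (integrable_finsetSum _ fun T _ => hi3 T)
        (integrable_const _), integral_finsetSum _ fun T _ => hi3 T, integral_const, probReal_univ, one_smul,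
        sum_eq_single (∅ : Finset (Fin m))]
      · simp [pow_succ]
        ring
      · intro T _ hT
        obtain ⟨j, hj⟩ := Finset.nonempty_iff_ne_empty.2 hT
        rw [integral_const_mul, integral_sub (hi1 T) (hi2 T),
          ← integral_add_left_eq_self (fun u => φ (∑ i ∈ T, u i)) (Pi.single j g)]
        simp only [Pi.add_apply, sum_add_distrib, Finset.sum_pi_single', if_pos hj, sub_self, mul_zero]
      · simp
    rw [hJ, ← mul_assoc, hmm, one_mul]

end Aux


/-- Let G be a compact Hausdorff commutative topological group, written additively, μ its Haar measure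
of total mass 1, m ≥ 1 an integer and ψ : G^{m+1} → ℝ a continuous function which is a 2-cocycle
with respect to every pair of variables: for all positions i ≠ j, every point x of G^{m+1} and all
a, b, c in G, writing x[i ↦ a, j ↦ c] for x with its i-th coordinate replaced by a and its j-th by
c, one has ψ(x[i ↦ a+b, j ↦ c]) + ψ(x[i ↦ a, j ↦ b]) = ψ(x[i ↦ a, j ↦ b+c]) + ψ(x[i ↦ b, j ↦ c]).
Let φ : G → ℝ be φ(g) = (−1)^m ∫_{G^m} ψ(g, u_1, …, u_m) dμ^{⊗m}(u). Then ψ is the (m+1)-st
deviation of φ, namely ψ(x) = Σ_{∅ ≠ I ⊆ {0,…,m}} (−1)^{m+1+|I|} φ(Σ_{i ∈ I} x_i) for every x; φ is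
continuous; and φ is the unique continuous function G → ℝ with this property. -/
theorem result {G : Type u} [AddCommGroup G] [TopologicalSpace G] [IsTopologicalAddGroup G] [CompactSpace G] [T2Space G]
    [MeasurableSpace G] [BorelSpace G] (μ : MeasureTheory.Measure G) [μ.IsAddHaarMeasure] [MeasureTheory.IsProbabilityMeasure μ]
    (m : ℕ) (hm : 1 ≤ m) (ψ : (Fin (m + 1) → G) → ℝ) (hψc : Continuous ψ)
    (hψ : ∀ (i j : Fin (m + 1)), i ≠ j → ∀ (x : Fin (m + 1) → G) (a b c : G),
      ψ (Function.update (Function.update x i (a + b)) j c) + ψ (Function.update (Function.update x i a) j b) =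
        ψ (Function.update (Function.update x i a) j (b + c)) + ψ (Function.update (Function.update x i b) j c)) :
    (∀ x : Fin (m + 1) → G,
      ψ x = ∑ I ∈ ((Finset.univ : Finset (Fin (m + 1))).powerset.erase ∅),
        (-1 : ℝ) ^ (m + 1 + I.card) * ((-1 : ℝ) ^ m *
          ∫ u, ψ (Fin.cons (∑ i ∈ I, x i) u) ∂(MeasureTheory.Measure.pi (fun _ : Fin m => μ)))) ∧
    Continuous (fun g : G => (-1 : ℝ) ^ m * ∫ u, ψ (Fin.cons g u) ∂(MeasureTheory.Measure.pi (fun _ : Fin m => μ))) ∧
    (∀ φ : G → ℝ, Continuous φ → (∀ x : Fin (m + 1) → G,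
      ψ x = ∑ I ∈ ((Finset.univ : Finset (Fin (m + 1))).powerset.erase ∅), (-1 : ℝ) ^ (m + 1 + I.card) * φ (∑ i ∈ I, x i)) →
      φ = fun g => (-1 : ℝ) ^ m * ∫ u, ψ (Fin.cons g u) ∂(MeasureTheory.Measure.pi (fun _ : Fin m => μ))) := by
  exact main μ m hm ψ hψc hψ

end Groth.Agent.S14297
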