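import Groth.Statements.S1430
import Groth.Agent.Lib.VarDim.Alg
import Mathlib.RingTheory.LocalRing.ResidueField.Fiber
import Mathlib.RingTheory.FiniteStability
import Mathlib.Order.Filter.Ultrafilter.Basic

set_option autoImplicit false
universe u
open FlatMor
set_option maxSynthPendingDepth 3

set_option backward.isDefEq.respectTransparency.types false

namespace Groth.Agent.S1430



open TensorProduct

/-- A bound on the fibre dimension gives algebraic relations modulo every prime. -/
theorem exists_relation {A S : Type u} [CommRing A] [CommRing S] [Algebra A S] [Algebra.FiniteType A S] (d : ℕ)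
    (hd : ∀ P : PrimeSpectrum A, ringKrullDim (P.asIdeal.Fiber S) ≤ d) (z : Ideal S) [z.IsPrime]
    {ι : Type u} [Fintype ι] (hι : d < Fintype.card ι) (y : ι → S) :
    ∃ Q : MvPolynomial ι A, MvPolynomial.aeval y Q ∈ z ∧ ∃ m, algebraMap A S (Q.coeff m) ∉ z := by
  classical
  let p := z.comap (algebraMap A S)
  let K := p.ResidueField
  let L := z.ResidueField
  letI : Algebra K L := (Ideal.ResidueField.map p z (algebraMap A S) rfl).toAlgebra
  haveI : IsScalarTower A K L := IsScalarTower.of_algebraMap_eq fun r => by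
    rw [RingHom.algebraMap_toAlgebra, IsScalarTower.algebraMap_apply A S L]
    exact (Ideal.ResidueField.map_algebraMap p z (algebraMap A S) rfl r).symm
  let φ : p.Fiber S →ₐ[K] L :=
    Algebra.TensorProduct.lift (Algebra.ofId K L) (IsScalarTower.toAlgHom A S L) fun _ _ => Commute.all _ _
  let M := φ.range
  haveI : Algebra.FiniteType K (p.Fiber S) := inferInstanceAs (Algebra.FiniteType K (K ⊗[A] S))
  haveI : Algebra.FiniteType K M := Algebra.FiniteType.of_surjective φ.rangeRestrict φ.rangeRestrict_surjective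
  have hdim : ringKrullDim M ≤ d :=
    (ringKrullDim_le_of_surjective φ.rangeRestrict.toRingHom φ.rangeRestrict_surjective).trans (hd ⟨p, inferInstance⟩)
  rw [VarDim.ringKrullDim_eq_tdeg K M] at hdim
  have htr : Algebra.trdeg K M ≤ (d : Cardinal) := by
    rw [VarDim.trdeg_eq_tdeg K M]; exact_mod_cast hdim
  let yM : ι → M := fun i => ⟨algebraMap S L (y i), 1 ⊗ₜ y i, by simp [φ]⟩
  have hdep : ¬ AlgebraicIndependent K yM := fun h => by
    have h1 := h.cardinalMk_le_trdeg.trans htr
    rw [Cardinal.mk_fintype, Nat.cast_le] at h1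
    omega
  rw [algebraicIndependent_iff] at hdep
  push Not at hdep
  obtain ⟨Q', hQ', hQ'0⟩ := hdep
  obtain ⟨⟨s, hs⟩, hint⟩ := IsLocalization.exist_integer_multiples (nonZeroDivisors (A ⧸ p)) Q'.support (fun m => Q'.coeff m)
  choose c hc using hint
  choose c' hc' using fun (m : ι →₀ ℕ) (hm : m ∈ Q'.support) => Ideal.Quotient.mk_surjective (c m hm)
  let Q : MvPolynomial ι A := ∑ m ∈ Q'.support.attach, MvPolynomial.monomial m.1 (c' m.1 m.2)
  obtain ⟨s', rfl⟩ := Ideal.Quotient.mk_surjective s
  have hcm : ∀ m (hm : m ∈ Q'.support), algebraMap A K (c' m hm) = algebraMap A K s' * Q'.coeff m := fun m hm => by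
    rw [IsScalarTower.algebraMap_apply A (A ⧸ p) K, Ideal.Quotient.algebraMap_eq, hc' m hm, hc m hm, Algebra.smul_def]
    rfl
  have hQ : MvPolynomial.map (algebraMap A K) Q = MvPolynomial.C (algebraMap A K s') * Q' := by
    conv_rhs => rw [Q'.as_sum, Finset.mul_sum, ← Finset.sum_attach]
    simp only [Q, map_sum, MvPolynomial.map_monomial, MvPolynomial.C_mul_monomial]
    exact Finset.sum_congr rfl fun m _ => by rw [hcm m.1 m.2]
  have hs0 : algebraMap A K s' ≠ 0 := fun h => nonZeroDivisors.ne_zero hs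
    (Ideal.Quotient.eq_zero_iff_mem.2 (Ideal.algebraMap_residueField_eq_zero.1 h))
  have hz0 : MvPolynomial.map (algebraMap A K) Q ≠ 0 := by
    rw [hQ]
    exact mul_ne_zero (MvPolynomial.C_ne_zero.2 hs0) hQ'0
  refine ⟨Q, ?_, ?_⟩
  · have h2 := congrArg Subtype.val hQ'
    rw [show ((MvPolynomial.aeval yM Q' : M) : L) = M.val (MvPolynomial.aeval yM Q') from rfl, ← AlgHom.comp_apply,
      MvPolynomial.comp_aeval] at h2
    have h4 : algebraMap S L (MvPolynomial.aeval y Q) = 0 := by
      rw [← MvPolynomial.aeval_algebraMap_apply, ← MvPolynomial.aeval_map_algebraMap K, hQ, map_mul]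
      rw [show (algebraMap S L ∘ y) = fun i => M.val (yM i) from rfl, h2]
      simp
    exact Ideal.algebraMap_residueField_eq_zero.1 h4
  · by_contra! h
    refine hz0 (MvPolynomial.ext _ _ fun m => ?_)
    rw [MvPolynomial.coeff_map, MvPolynomial.coeff_zero]
    exact Ideal.algebraMap_residueField_eq_zero.2 (h m)

/-- An `h`-adic expansion with small digits is unique. -/
theorem eq_zero_of_eval_C_eq_zero {K σ : Type u} [Field K] (h : Polynomial K) (Φ : Polynomial (MvPolynomial σ (Polynomial K)))
    (hdeg : ∀ j m, ((Φ.coeff j).coeff m).degree < h.degree)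
    (h0 : Φ.eval (MvPolynomial.C h) = 0) : Φ = 0 := by
  suffices ∀ N (Φ : Polynomial (MvPolynomial σ (Polynomial K))), Φ.natDegree ≤ N →
      (∀ j m, ((Φ.coeff j).coeff m).degree < h.degree) → Φ.eval (MvPolynomial.C h) = 0 → Φ = 0 from
    this _ Φ le_rfl hdeg h0
  have hh : h ≠ 0 := fun e => by have := hdeg 0 0; simp [e] at this
  intro N
  induction N with
  | zero =>
    intro Φ hN _ he
    rw [Polynomial.eq_C_of_natDegree_le_zero hN] at he ⊢
    simpa using he
  | succ N ih =>
    intro Φ hN hd he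
    rw [← Φ.X_mul_divX_add, Polynomial.eval_add, Polynomial.eval_mul, Polynomial.eval_X, Polynomial.eval_C] at he
    have hc : Φ.coeff 0 = 0 := MvPolynomial.ext _ _ fun m => by
      have h1 := congrArg (MvPolynomial.coeff m) he
      rw [MvPolynomial.coeff_add, MvPolynomial.coeff_C_mul, MvPolynomial.coeff_zero] at h1
      rw [MvPolynomial.coeff_zero]
      exact Polynomial.eq_zero_of_dvd_of_degree_lt ⟨-(Φ.divX.eval (MvPolynomial.C h)).coeff m, by linear_combination h1⟩ (hd 0 m)
    rw [hc, add_zero] at he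
    have hC : (MvPolynomial.C h : MvPolynomial σ (Polynomial K)) ≠ 0 := MvPolynomial.C_ne_zero.2 hh
    have hdiv : Φ.divX = 0 := ih Φ.divX (by rw [Polynomial.natDegree_divX_eq_natDegree_tsub_one]; omega)
      (fun j m => by rw [Polynomial.coeff_divX]; exact hd _ m) ((mul_eq_zero.1 he).resolve_left hC)
    rw [← Φ.X_mul_divX_add, hdiv, hc, map_zero, mul_zero, add_zero]

/-- The final contradiction over a field. -/
theorem not_relation {R K L : Type u} [CommRing R] [Field K] [Algebra R K] [CommRing L] [Algebra K L] [Algebra R L]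
    [IsScalarTower R K L] (d n : ℕ) (a b : L) (x : ULift.{u} (Fin d) → L) (c : K) (hc : algebraMap K L c = a ^ n + b)
    (hind : AlgebraicIndependent K (fun o : Option (ULift.{u} (Fin d)) => o.elim a x))
    (Q : MvPolynomial (Option (ULift.{u} (Fin d))) (Polynomial R)) (hQn : ∀ m, (Q.coeff m).natDegree < n)
    (hQ : MvPolynomial.eval₂ (Polynomial.aeval (R := R) a).toRingHom (fun o => o.elim b x) Q = 0)
    (hQ0 : ∃ m, ((Q.coeff m).map (algebraMap R K)) ≠ 0) : False := by
  classical
  let J := ULift.{u} (Fin d)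
  let h : Polynomial K := Polynomial.C c - Polynomial.X ^ n
  let Φ : Polynomial (MvPolynomial J (Polynomial K)) :=
    MvPolynomial.optionEquivLeft (Polynomial K) J (MvPolynomial.map (Polynomial.mapRingHom (algebraMap R K)) Q)
  have hn : 0 < n := by obtain ⟨m, -⟩ := hQ0; exact lt_of_le_of_lt (Nat.zero_le _) (hQn m)
  have hhdeg : h.degree = n := by
    rw [Polynomial.degree_sub_eq_right_of_degree_lt (by
      rw [Polynomial.degree_X_pow]; exact lt_of_le_of_lt Polynomial.degree_C_le (by exact_mod_cast hn))]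
    exact Polynomial.degree_X_pow n
  have hΦdeg : ∀ j m, ((Φ.coeff j).coeff m).degree < h.degree := fun j m => by
    rw [hhdeg, MvPolynomial.optionEquivLeft_coeff_coeff, MvPolynomial.coeff_map]
    refine lt_of_le_of_lt (Polynomial.degree_map_le) ?_
    refine lt_of_le_of_lt Polynomial.degree_le_natDegree ?_
    exact_mod_cast hQn _
  let Ψ : MvPolynomial J (Polynomial K) →+* L :=
    MvPolynomial.eval₂Hom (Polynomial.aeval (R := K) a).toRingHom x
  have hΨ : Function.Injective Ψ := by
    have : Ψ = (MvPolynomial.aeval (R := K) (fun o : Option J => o.elim a x)).toRingHom.comp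
        (MvPolynomial.optionEquivRight K J).symm.toAlgHom.toRingHom := by
      refine MvPolynomial.ringHom_ext' (Polynomial.ringHom_ext (fun r => ?_) ?_) (fun i => ?_)
      · simp [Ψ, MvPolynomial.optionEquivRight]
      · simp [Ψ, MvPolynomial.optionEquivRight]
      · simp [Ψ, MvPolynomial.optionEquivRight]
    rw [this]
    exact (show Function.Injective _ from hind).comp (MvPolynomial.optionEquivRight K J).symm.injective
  have hev : Ψ (Φ.eval (MvPolynomial.C h)) = 0 := by
    have : (Ψ.comp (Polynomial.evalRingHom (MvPolynomial.C h))).comp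
        ((MvPolynomial.optionEquivLeft (Polynomial K) J).toAlgHom.toRingHom.comp
          (MvPolynomial.map (Polynomial.mapRingHom (algebraMap R K)))) =
        MvPolynomial.eval₂Hom (Polynomial.aeval (R := R) a).toRingHom (fun o => o.elim b x) := by
      refine MvPolynomial.ringHom_ext' (Polynomial.ringHom_ext (fun r => ?_) ?_) (fun o => ?_)
      · simp [Ψ, IsScalarTower.algebraMap_apply R K L]
      · simp [Ψ]
      · cases o with
        | none => simp [Ψ, h, hc]
        | some i => simp [Ψ]
    exact (DFunLike.congr_fun this Q).trans hQ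
  have hΦ0 := eq_zero_of_eval_C_eq_zero h Φ hΦdeg (hΨ (by rw [hev, map_zero]))
  obtain ⟨m, hm⟩ := hQ0
  refine hm ?_
  have h2 : MvPolynomial.map (Polynomial.mapRingHom (algebraMap R K)) Q = 0 :=
    (MvPolynomial.optionEquivLeft (Polynomial K) J).injective (hΦ0.trans (map_zero _).symm)
  simpa [MvPolynomial.coeff_map] using congrArg (MvPolynomial.coeff m) h2

/-- A domain with a large transcendence degree and few generators over `K[a]`. -/
theorem exists_independent_of_generators {K L : Type u} [Field K] [CommRing L] [IsDomain L] [Algebra K L] (d : ℕ)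
    (htr : ((d + 1 : ℕ) : Cardinal) ≤ Algebra.trdeg K L) (a : L) (g : Set L) (hg : Algebra.adjoin K g = ⊤)
    (hrel : ∀ y : ULift.{u} (Fin (d + 1)) → L, (∀ i, y i ∈ g) → ¬ AlgebraicIndependent (Algebra.adjoin K {a}) y) :
    ∃ x : ULift.{u} (Fin d) → L, (∀ i, x i ∈ insert 0 g) ∧
      AlgebraicIndependent K (fun o : Option (ULift.{u} (Fin d)) => o.elim a x) := by
  classical
  let E := Algebra.adjoin K {a}
  have hEg : Algebra.adjoin E g = ⊤ := by
    rw [eq_top_iff]
    intro v _
    have : v ∈ Algebra.adjoin K g := hg ▸ Algebra.mem_top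
    exact Algebra.adjoin_le (S := (Algebra.adjoin E g).restrictScalars K) Algebra.subset_adjoin this
  haveI : Algebra.IsAlgebraic (Algebra.adjoin E g) L := ⟨fun v => by
    have : v ∈ Algebra.adjoin E g := hEg ▸ Algebra.mem_top
    exact isAlgebraic_algebraMap (R := Algebra.adjoin E g) (A := L) ⟨v, this⟩⟩
  obtain ⟨t, htg, ht⟩ := exists_isTranscendenceBasis_subset (R := E) g
  have hcard : Cardinal.mk t ≤ (d : Cardinal) := by
    by_contra! hc
    have h1 : Cardinal.mk (ULift.{u} (Fin (d + 1))) ≤ Cardinal.mk t := by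
      rw [show Cardinal.mk (ULift.{u} (Fin (d + 1))) = ((d + 1 : ℕ) : Cardinal.{u}) by simp, Nat.cast_succ]
      exact Cardinal.natCast_add_one_le_iff.2 hc
    obtain ⟨e⟩ := (Cardinal.le_def _ _).1 h1
    exact hrel (fun i => (e i : L)) (fun i => htg (e i).2) (ht.1.comp e e.injective)
  haveI : Finite t := Cardinal.mk_lt_aleph0_iff.1 (hcard.trans_lt (Cardinal.natCast_lt_aleph0))
  haveI : Fintype t := Fintype.ofFinite t
  have hcard' : Fintype.card t ≤ d := by
    rw [Cardinal.mk_fintype] at hcard; exact_mod_cast hcard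
  let x : ULift.{u} (Fin d) → L := fun i =>
    if h : (i.down : ℕ) < Fintype.card t then ((Fintype.equivFin t).symm ⟨i.down, h⟩ : t) else 0
  have hx : t ⊆ Set.range x := fun v hv =>
    ⟨⟨⟨(Fintype.equivFin t ⟨v, hv⟩ : ℕ), (Fintype.equivFin t ⟨v, hv⟩).2.trans_le hcard'⟩⟩, by simp only [x]; rw [dif_pos (Fintype.equivFin t ⟨v, hv⟩).2]; simp⟩
  refine ⟨x, fun i => ?_, ?_⟩
  · by_cases h : (i.down : ℕ) < Fintype.card t
    · exact Or.inr (by simp only [x, dif_pos h]; exact htg (Subtype.prop _))
    · exact Or.inl (by simp only [x, dif_neg h])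
  let v : Option (ULift.{u} (Fin d)) → L := fun o => o.elim a x
  let B := Algebra.adjoin K (Set.range v)
  have hEB : E ≤ B := Algebra.adjoin_le (by rintro _ rfl; exact Algebra.subset_adjoin ⟨none, rfl⟩)
  have htB : ∀ w ∈ Algebra.adjoin E t, w ∈ B := by
    intro w hw
    induction hw using Algebra.adjoin_induction with
    | mem w hw => obtain ⟨i, rfl⟩ := hx hw; exact Algebra.subset_adjoin ⟨some i, rfl⟩
    | algebraMap e => exact hEB e.2
    | add p q _ _ hp hq => exact add_mem hp hq
    | mul p q _ _ hp hq => exact mul_mem hp hq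
  haveI := ht.isAlgebraic
  haveI : Algebra.IsAlgebraic (Algebra.adjoin K (Set.range v)) L := ⟨fun w => by
    obtain ⟨P, hP0, hP⟩ : IsAlgebraic (Algebra.adjoin E (Set.range (Subtype.val : t → L))) w := Algebra.IsAlgebraic.isAlgebraic w
    let j : Algebra.adjoin E (Set.range (Subtype.val : t → L)) →+* B :=
      { toFun := fun u => ⟨u.1, htB u.1 (by simpa using u.2)⟩
        map_one' := rfl
        map_mul' := fun _ _ => rfl
        map_zero' := rfl
        map_add' := fun _ _ => rfl }
    have hj : Function.Injective j := fun u u' h => Subtype.ext (congrArg (fun w : B => (w : L)) h :)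
    refine ⟨P.map j, (Polynomial.map_ne_zero_iff hj).2 hP0, ?_⟩
    rw [Polynomial.aeval_def, Polynomial.eval₂_map]
    exact hP⟩
  exact (Algebra.IsAlgebraic.isTranscendenceBasis_of_le_trdeg_of_finite K v (le_trans (by simp) htr)).1

open Polynomial in
/-- Let R → S be of finite type, d ≥ 0 and a, b ∈ S. View S as an algebra over R[x] via x ↦ a; if all
fibre rings of Spec S → Spec R[x] have dimension ≤ d, then there is n₀ such that for all n ≥ n₀ the
same holds for the R[x]-algebra structure x ↦ a^n + b. -/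
theorem result {R S : Type u} [CommRing R] [CommRing S] [Algebra R S] [Algebra.FiniteType R S]
    (d : ℕ) (a b : S)
    (ha : ∀ P : PrimeSpectrum R[X], letI := (Polynomial.aeval (R := R) a).toRingHom.toAlgebra
      ringKrullDim (P.asIdeal.Fiber S) ≤ d) :
    ∃ n₀ : ℕ, ∀ n ≥ n₀, ∀ P : PrimeSpectrum R[X], letI := (Polynomial.aeval (R := R) (a ^ n + b)).toRingHom.toAlgebra
      ringKrullDim (P.asIdeal.Fiber S) ≤ d := by
  classical
  obtain ⟨s, hs⟩ := (inferInstance : Algebra.FiniteType R S).out
  let J := Option (ULift.{u} (Fin d))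
  have hkey : ∀ (z : Ideal S) [z.IsPrime] (y : J → S), ∃ Q : MvPolynomial J (Polynomial R),
      MvPolynomial.eval₂ (Polynomial.aeval (R := R) a).toRingHom y Q ∈ z ∧ ∃ m, Polynomial.aeval a (Q.coeff m) ∉ z := by
    intro z _ y
    letI := (Polynomial.aeval (R := R) a).toRingHom.toAlgebra
    haveI : IsScalarTower R (Polynomial R) S := IsScalarTower.of_algebraMap_eq fun r => ((Polynomial.aeval a).commutes r).symm
    haveI : Algebra.FiniteType (Polynomial R) S := Algebra.FiniteType.of_restrictScalars_finiteType R _ _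
    obtain ⟨Q, hQ, m, hm⟩ := exists_relation d ha z (ι := J) (by simp [J]) y
    exact ⟨Q, hQ, m, hm⟩
  have hcoef : ∀ (z : Ideal S) (f : Polynomial R), Polynomial.aeval a f ∉ z → ∃ i, algebraMap R S (f.coeff i) ∉ z := by
    intro z f hf
    by_contra! h
    refine hf ?_
    rw [Polynomial.aeval_eq_sum_range]
    exact sum_mem fun i _ => by rw [Algebra.smul_def]; exact Ideal.mul_mem_right _ _ (h i)
  let Bad : ℕ → Ideal S → Prop := fun D z => z.IsPrime ∧ ∃ y : ULift.{u} (Fin d) → S, (∀ i, y i ∈ insert 0 (↑s : Set S)) ∧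
    ∀ Q : MvPolynomial J (Polynomial R), (∀ m, (Q.coeff m).natDegree ≤ D) →
      MvPolynomial.eval₂ (Polynomial.aeval (R := R) a).toRingHom (fun o => o.elim b y) Q ∈ z →
        ∀ m i, algebraMap R S ((Q.coeff m).coeff i) ∈ z
  obtain ⟨D, hD⟩ : ∃ D, ∀ z, ¬ Bad D z := by
    by_contra! hbad
    choose z hz y hy hall using hbad
    let F := Filter.hyperfilter ℕ
    let s0 : Finset S := insert 0 s
    obtain ⟨y₀, hy₀⟩ : ∃ y₀ : ULift.{u} (Fin d) → s0, ∀ᶠ D in (F : Filter ℕ), y D = fun i => (y₀ i : S) := by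
      have hmem : ∀ D i, y D i ∈ s0 := fun D i => by simpa [s0] using hy D i
      let g : ℕ → (ULift.{u} (Fin d) → s0) := fun D i => ⟨y D i, hmem D i⟩
      obtain ⟨y₀, hy₀⟩ : ∃ y₀, ∀ᶠ D in (F : Filter ℕ), g D = y₀ := by
        by_contra! hne
        have h1 : ∀ᶠ D in (F : Filter ℕ), ∀ y₀, g D ≠ y₀ :=
          Filter.eventually_all.2 fun y₀ => hne y₀
        obtain ⟨D, hD⟩ := h1.exists
        exact hD _ rfl
      exact ⟨y₀, hy₀.mono fun D hD => by rw [← hD]⟩
    let zl : Ideal S :=
      { carrier := {v | ∀ᶠ D in (F : Filter ℕ), v ∈ z D}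
        add_mem' := fun hv hw => hv.mp (hw.mono fun D hw hv => (z D).add_mem hv hw)
        zero_mem' := Filter.Eventually.of_forall fun D => (z D).zero_mem
        smul_mem' := fun c v hv => hv.mono fun D hv => (z D).smul_mem c hv }
    haveI : zl.IsPrime := Ideal.isPrime_iff.2 ⟨fun h => by
      obtain ⟨D, hD⟩ := ((Ideal.eq_top_iff_one zl).1 h : ∀ᶠ D in (F : Filter ℕ), (1 : S) ∈ z D).exists
      exact (hz D).ne_top ((Ideal.eq_top_iff_one _).2 hD),
      fun {v w} h => Ultrafilter.eventually_or.1 ((h : ∀ᶠ D in (F : Filter ℕ), v * w ∈ z D).mono fun D h => (hz D).mem_or_mem h)⟩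
    obtain ⟨Q, hQ, m, hm⟩ := hkey zl (fun o => o.elim b fun i => (y₀ i : S))
    obtain ⟨i, hm⟩ := hcoef _ _ hm
    have h1 : ∀ᶠ D in (F : Filter ℕ), algebraMap R S ((Q.coeff m).coeff i) ∉ z D := Ultrafilter.eventually_not.2 hm
    have h2 : ∀ᶠ D in (F : Filter ℕ), Q.support.sup (fun m => (Q.coeff m).natDegree) ≤ D := by
      refine Filter.hyperfilter_le_cofinite ?_
      rw [Nat.cofinite_eq_atTop]
      exact Filter.eventually_ge_atTop _
    obtain ⟨D, hD1, hD2, hD3, hD4⟩ := (h1.and (h2.and (hy₀.and (hQ : ∀ᶠ D in (F : Filter ℕ), _ ∈ z D)))).exists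
    refine hD1 (hall D Q (fun m => ?_) ?_ m i)
    · by_cases hm : m ∈ Q.support
      · exact le_trans (Finset.le_sup (f := fun m => (Q.coeff m).natDegree) hm) hD2
      · rw [MvPolynomial.notMem_support_iff.1 hm]; simp
    · rw [hD3]; exact hD4
  refine ⟨D + 1, fun n hn P => ?_⟩
  letI := (Polynomial.aeval (R := R) (a ^ n + b)).toRingHom.toAlgebra
  by_contra hlt
  haveI : IsScalarTower R (Polynomial R) S := IsScalarTower.of_algebraMap_eq fun r => ((Polynomial.aeval _).commutes r).symm
  haveI : Algebra.FiniteType (Polynomial R) S := Algebra.FiniteType.of_restrictScalars_finiteType R _ _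
  let K := P.asIdeal.ResidueField
  let T := P.asIdeal.Fiber S
  obtain ⟨q, hq, hqd⟩ : ∃ q : Ideal T, q.IsPrime ∧ ((d + 1 : ℕ) : WithBot ℕ∞) ≤ ringKrullDim (T ⧸ q) := by
    obtain ⟨l, hl⟩ : ∃ l : LTSeries (PrimeSpectrum T), l.length = d + 1 := by
      by_contra! h
      refine hlt (iSup_le fun l => ?_)
      by_contra hl'
      have : d + 1 ≤ l.length := by
        by_contra hl''
        exact hl' (by exact_mod_cast (show l.length ≤ d by omega))
      exact h (l.take ⟨d + 1, by omega⟩) rfl
    refine ⟨l.head.asIdeal, l.head.isPrime, ?_⟩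
    rw [ringKrullDim_quotient, ← hl]
    let l' : LTSeries (PrimeSpectrum.zeroLocus (R := T) l.head.asIdeal) :=
      LTSeries.mk l.length (fun i => ⟨l i, (PrimeSpectrum.mem_zeroLocus _ _).2 (SetLike.coe_subset_coe.2 (l.head_le i))⟩)
        fun i j h => l.strictMono h
    exact Order.LTSeries.length_le_krullDim l'
  haveI := hq
  let L := T ⧸ q
  letI : Algebra R K := inferInstance
  haveI : Algebra.FiniteType K T := inferInstanceAs (Algebra.FiniteType K (K ⊗[Polynomial R] S))
  haveI : Algebra.FiniteType K L := Algebra.FiniteType.of_surjective (Ideal.Quotient.mkₐ K q) Ideal.Quotient.mk_surjective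
  have htr : ((d + 1 : ℕ) : Cardinal) ≤ Algebra.trdeg K L := by
    rw [VarDim.trdeg_eq_tdeg K L]
    rw [VarDim.ringKrullDim_eq_tdeg K L] at hqd
    exact_mod_cast hqd
  let σ : S →ₐ[R] L := ((Ideal.Quotient.mkₐ (Polynomial R) q).comp
    (Algebra.TensorProduct.includeRight : S →ₐ[Polynomial R] T)).restrictScalars R
  let z : Ideal S := RingHom.ker σ
  haveI : z.IsPrime := RingHom.ker_isPrime _
  have hσc : σ (a ^ n + b) = algebraMap K L (algebraMap (Polynomial R) K Polynomial.X) := by
    have h1 : a ^ n + b = algebraMap (Polynomial R) S Polynomial.X := (Polynomial.aeval_X _).symm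
    rw [h1]
    show ((Ideal.Quotient.mkₐ (Polynomial R) q).comp Algebra.TensorProduct.includeRight) (algebraMap (Polynomial R) S Polynomial.X) = _
    rw [AlgHom.commutes, IsScalarTower.algebraMap_apply (Polynomial R) K L]
  have hg : Algebra.adjoin K (σ '' (s : Set S)) = ⊤ := by
    rw [eq_top_iff]
    intro v _
    have hS : ∀ v : S, σ v ∈ Algebra.adjoin K (σ '' (s : Set S)) := fun v => by
      have h1 : v ∈ Algebra.adjoin R (s : Set S) := hs ▸ Algebra.mem_top
      induction h1 using Algebra.adjoin_induction with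
      | mem w hw => exact Algebra.subset_adjoin ⟨w, hw, rfl⟩
      | algebraMap r =>
        rw [AlgHom.commutes, IsScalarTower.algebraMap_apply R K L]
        exact Subalgebra.algebraMap_mem _ _
      | add p q _ _ hp hq => rw [map_add]; exact add_mem hp hq
      | mul p q _ _ hp hq => rw [map_mul]; exact mul_mem hp hq
    obtain ⟨v, rfl⟩ := Ideal.Quotient.mk_surjective v
    induction v using TensorProduct.induction_on with
    | zero => rw [map_zero]; exact zero_mem _
    | add p r hp hr => rw [map_add]; exact add_mem (hp trivial) (hr trivial)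
    | tmul k w =>
      have : Ideal.Quotient.mk q (k ⊗ₜ[Polynomial R] w) = k • σ w := by
        show _ = k • Ideal.Quotient.mk q (1 ⊗ₜ[Polynomial R] w)
        rw [← Ideal.Quotient.mkₐ_eq_mk K, ← map_smul, TensorProduct.smul_tmul', smul_eq_mul, mul_one]
      rw [this]
      exact Subalgebra.smul_mem _ (hS w) _
  obtain ⟨x, hx, hind⟩ := exists_independent_of_generators d htr (σ a) _ hg fun y hy hy' => by
    choose y' hy's hy'e using hy
    let e : ULift.{u} (Fin (d + 1)) ≃ J := Fintype.equivOfCardEq (by simp [J])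
    obtain ⟨Q, hQ, m, hm⟩ := hkey z (fun o => y' (e.symm o))
    let E := Algebra.adjoin K {σ a}
    let f : Polynomial R →+* E :=
      Polynomial.eval₂RingHom ((algebraMap K E).comp (algebraMap R K)) ⟨σ a, Algebra.subset_adjoin rfl⟩
    have hfc : (algebraMap E L).comp f = σ.toRingHom.comp (Polynomial.aeval (R := R) a).toRingHom := by
      refine Polynomial.ringHom_ext (fun r => ?_) ?_
      · simpa [f] using (IsScalarTower.algebraMap_apply R K L r).symm
      · simp [f]
    let Q' : MvPolynomial (ULift.{u} (Fin (d + 1))) E := MvPolynomial.rename e.symm (MvPolynomial.map f Q)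
    have h0 : MvPolynomial.aeval y Q' = 0 := by
      show MvPolynomial.aeval y (MvPolynomial.rename e.symm (MvPolynomial.map f Q)) = 0
      rw [MvPolynomial.aeval_rename, MvPolynomial.aeval_def, MvPolynomial.eval₂_map, hfc]
      have := MvPolynomial.map_eval₂Hom (Polynomial.aeval (R := R) a).toRingHom (fun o => y' (e.symm o)) σ.toRingHom Q
      rw [MvPolynomial.coe_eval₂Hom, show σ.toRingHom _ = 0 from hQ] at this
      refine Eq.trans ?_ this.symm
      simp only [MvPolynomial.coe_eval₂Hom]
      congr 1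
      exact funext fun o => (hy'e (e.symm o)).symm
    have h1 : Q' = 0 := hy' (h0.trans (map_zero _).symm)
    have h2 : MvPolynomial.map f Q = 0 := MvPolynomial.rename_injective _ e.symm.injective (h1.trans (map_zero _).symm)
    have h3 : f (Q.coeff m) = 0 := by simpa [MvPolynomial.coeff_map] using congrArg (MvPolynomial.coeff m) h2
    refine hm ?_
    show σ (Polynomial.aeval a (Q.coeff m)) = 0
    exact (DFunLike.congr_fun hfc (Q.coeff m)).symm.trans ((congrArg (algebraMap E L) h3).trans (map_zero _))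
  choose y hy hy' using fun i => (show ∃ w ∈ insert 0 (s : Set S), σ w = x i from by
    rcases hx i with h | ⟨w, hw, h⟩
    · exact ⟨0, Or.inl rfl, by rw [map_zero, h]⟩
    · exact ⟨w, Or.inr hw, h⟩)
  obtain ⟨Q, hQdeg, hQz, m, i, hQm⟩ : ∃ Q : MvPolynomial J (Polynomial R), (∀ m, (Q.coeff m).natDegree ≤ D) ∧
      MvPolynomial.eval₂ (Polynomial.aeval (R := R) a).toRingHom (fun o => o.elim b y) Q ∈ z ∧
        ∃ m i, algebraMap R S ((Q.coeff m).coeff i) ∉ z := by
    by_contra! h
    exact hD z ⟨inferInstance, y, hy, h⟩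
  refine not_relation (R := R) d n (σ a) (σ b) x (algebraMap (Polynomial R) K Polynomial.X) ?_ hind Q
    (fun m => (hQdeg m).trans_lt (by omega)) ?_ ⟨m, fun h => hQm ?_⟩
  · rw [← map_pow, ← map_add, hσc]
  · have := MvPolynomial.map_eval₂Hom (Polynomial.aeval (R := R) a).toRingHom (fun o : J => o.elim b y) σ.toRingHom Q
    simp only [MvPolynomial.coe_eval₂Hom] at this
    have h5 : σ.toRingHom.comp (Polynomial.aeval (R := R) a).toRingHom = (Polynomial.aeval (R := R) (σ a)).toRingHom :=
      Polynomial.ringHom_ext (fun r => by simp) (by simp)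
    rw [h5, show (fun o : J => σ.toRingHom (o.elim b y)) = fun o => o.elim (σ b) x from
      funext fun o => by cases o <;> simp [hy']] at this
    exact this.symm.trans (RingHom.mem_ker.1 hQz)
  · have h6 := congrArg (fun p : Polynomial K => p.coeff i) h
    simp only [Polynomial.coeff_map, Polynomial.coeff_zero] at h6
    rw [RingHom.mem_ker, AlgHom.commutes, IsScalarTower.algebraMap_apply R K L, h6, map_zero]

end Groth.Agent.S1430
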