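import Groth.Statements.S14305
import Mathlib.Algebra.BigOperators.Group.Finset.Powerset
import Mathlib.Algebra.BigOperators.Ring.Finset
import Mathlib.Algebra.Module.BigOperators
import Mathlib.Tactic.Abel
import Mathlib.Tactic.Ring

set_option autoImplicit false
universe u v
open PtDeg

namespace Groth.Agent.S14305

/-- Let A and G be abelian groups, written additively, f : A → G a map and n ≥ 1. For k ≥ 0 the k-th
deviation of f is the map A^k → G, (y_1, …, y_k) ↦ Σ_{∅ ≠ I ⊆ {1,…,k}} (−1)^{k+|I|} f(Σ_{i ∈ I}
y_i). Then f is pointed of degree n, meaning that its (n+1)-st deviation vanishes identically, if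
and only if its n-th deviation is additive in each variable separately (with the other variables
fixed). -/
theorem result {A : Type u} {G : Type v} [AddCommGroup A] [AddCommGroup G]
    (f : A → G) (n : ℕ) (hn : 1 ≤ n) :
    (∀ x : Fin (n + 1) → A, ∑ I ∈ ((Finset.univ : Finset (Fin (n + 1))).powerset.erase ∅), ((-1 : ℤ) ^ (n + 1 + I.card)) • f (∑ i ∈ I, x i) = 0) ↔
      (∀ (j : Fin n) (y : Fin n → A) (a b : A),
        ∑ I ∈ ((Finset.univ : Finset (Fin n)).powerset.erase ∅), ((-1 : ℤ) ^ (n + I.card)) • f (∑ i ∈ I, (Function.update y j (a + b)) i) =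
          ∑ I ∈ ((Finset.univ : Finset (Fin n)).powerset.erase ∅), ((-1 : ℤ) ^ (n + I.card)) • f (∑ i ∈ I, (Function.update y j a) i) + ∑ I ∈ ((Finset.univ : Finset (Fin n)).powerset.erase ∅), ((-1 : ℤ) ^ (n + I.card)) • f (∑ i ∈ I, (Function.update y j b) i)) := by
  classical
  let s : Finset (Fin n) → ℤ := fun I => (-1 : ℤ) ^ (n + I.card)
  let c : G := ((-1 : ℤ) ^ n) • f 0
  let F : (Fin n → A) → A → G := fun z b => ∑ I ∈ (Finset.univ : Finset (Fin n)).powerset, s I • f (b + ∑ i ∈ I, z i)
  let D : (Fin n → A) → G := fun z => ∑ I ∈ ((Finset.univ : Finset (Fin n)).powerset.erase ∅), s I • f (∑ i ∈ I, z i)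
  let D' : (Fin (n + 1) → A) → G := fun x => ∑ I ∈ ((Finset.univ : Finset (Fin (n + 1))).powerset.erase ∅), ((-1 : ℤ) ^ (n + 1 + I.card)) • f (∑ i ∈ I, x i)
  have hD : ∀ z, D z = F z 0 - c := fun z => by
    show Finset.sum _ _ = _
    rw [Finset.sum_erase_eq_sub (Finset.empty_mem_powerset _)]
    simp [F, s, c]
  have hD' : ∀ b z, D' (Fin.cons b z) = F z b - F z 0 + c := fun b z => by
    show Finset.sum _ _ = _
    rw [Finset.sum_erase_eq_sub (Finset.empty_mem_powerset _)]
    have hu : (Finset.univ : Finset (Fin (n + 1))) = insert 0 ((Finset.univ : Finset (Fin n)).map (Fin.succEmb n)) := by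
      rw [Fin.univ_succ, Finset.cons_eq_insert]; rfl
    have hmap : ((Finset.univ : Finset (Fin n)).map (Fin.succEmb n)).powerset = (Finset.univ : Finset (Fin n)).powerset.image (fun I => I.map (Fin.succEmb n)) := by
      rw [Finset.map_eq_image, Finset.powerset_image]; simp [Finset.map_eq_image]
    rw [hu, Finset.sum_powerset_insert (by simp), hmap, Finset.sum_image (fun x _ y _ e => Finset.map_injective _ e), Finset.sum_image (fun x _ y _ e => Finset.map_injective _ e)]
    simp only [Finset.sum_empty, Finset.card_empty, add_zero]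
    have e2 : ∀ I : Finset (Fin n), ((-1 : ℤ) ^ (n + 1 + (insert 0 (I.map (Fin.succEmb n))).card)) • f (∑ i ∈ insert 0 (I.map (Fin.succEmb n)), (Fin.cons b z : Fin (n + 1) → A) i) = s I • f (b + ∑ i ∈ I, z i) := by
      intro I
      rw [Finset.sum_insert (by simp), Finset.card_insert_of_notMem (by simp), Finset.sum_map, Finset.card_map]
      simp [s, pow_succ, pow_add]
    have e1 : ∀ I : Finset (Fin n), ((-1 : ℤ) ^ (n + 1 + (I.map (Fin.succEmb n)).card)) • f (∑ i ∈ I.map (Fin.succEmb n), (Fin.cons b z : Fin (n + 1) → A) i) = -(s I • f (0 + ∑ i ∈ I, z i)) := by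
      intro I
      rw [Finset.sum_map, Finset.card_map]
      simp [s, pow_succ, pow_add]
    simp only [e1, e2, Finset.sum_neg_distrib]
    simp only [F, c, pow_succ, mul_neg_one, neg_smul]
    abel
  have hF : ∀ (j : Fin n) (y : Fin n → A), ∃ T : A → G, ∀ b u, F (Function.update y j u) b = T (b + u) - T b := by
    intro j y
    refine ⟨fun u => -∑ I ∈ (Finset.univ.erase j).powerset, s I • f (u + ∑ i ∈ I, y i), fun b u => ?_⟩
    show Finset.sum _ _ = _
    conv_lhs => rw [← Finset.insert_erase (Finset.mem_univ j), Finset.sum_powerset_insert (Finset.notMem_erase j _)]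
    simp only [← Finset.sum_neg_distrib, ← Finset.sum_sub_distrib, ← Finset.sum_add_distrib]
    refine Finset.sum_congr rfl fun I hI => ?_
    have hj : j ∉ I := fun h => Finset.notMem_erase j Finset.univ (Finset.mem_powerset.1 hI h)
    have hupd : ∀ i ∈ I, Function.update y j u i = y i := fun i hi => Function.update_of_ne (fun (e : i = j) => hj (e ▸ hi)) _ _
    rw [Finset.sum_insert hj, Function.update_self, Finset.sum_congr rfl hupd, ← add_assoc]
    simp only [s, Finset.card_insert_of_notMem hj, ← add_assoc, pow_succ, mul_neg_one, neg_smul]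
    abel
  have key : ∀ (j : Fin n) (y : Fin n → A) (a b : A), D' (Fin.cons b (Function.update y j a)) = D (Function.update y j (a + b)) - D (Function.update y j a) - D (Function.update y j b) := by
    intro j y a b
    obtain ⟨T, hT⟩ := hF j y
    simp only [hD, hD', hT, zero_add, add_comm b a]
    abel
  show (∀ x, D' x = 0) ↔ ∀ (j : Fin n) (y : Fin n → A) (a b : A), D (Function.update y j (a + b)) = D (Function.update y j a) + D (Function.update y j b)
  constructor
  · intro h j y a b
    rw [← sub_eq_zero, ← sub_sub, ← key, h]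
  · intro h x
    let j : Fin n := ⟨0, hn⟩
    have : x = Fin.cons (x 0) (Function.update (Fin.tail x) j (Fin.tail x j)) := by
      rw [Function.update_eq_self, Fin.cons_self_tail]
    rw [this, key, h]
    abel

end Groth.Agent.S14305
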