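import Groth.Statements.S14309
import Groth.Statements.S13631
import Groth.Statements.S14308
import Groth.Statements.S12045
import Groth.Statements.S11083
import Mathlib.RingTheory.Kaehler.Polynomial
import Mathlib.RingTheory.Smooth.Field
import Mathlib.RingTheory.Etale.Kaehler
import Mathlib.RingTheory.Etale.Field
import Mathlib.RingTheory.AlgebraicIndependent.Transcendental
import Mathlib.RingTheory.AlgebraicIndependent.TranscendenceBasis
import Mathlib.FieldTheory.SeparablyGenerated
import Mathlib.FieldTheory.Perfect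
import Mathlib.LinearAlgebra.Dimension.Constructions
import Mathlib.RingTheory.Smooth.StandardSmoothCotangent
import Groth.Agent.Lib.FlatH4.LocCrit
import Mathlib.LinearAlgebra.Matrix.ToLinearEquiv
import Mathlib.LinearAlgebra.Matrix.NonsingularInverse
import Mathlib.RingTheory.Etale.Basic
import Mathlib.RingTheory.Flat.Stability
import Mathlib.RingTheory.Smooth.Flat
import Mathlib.RingTheory.TensorProduct.Quotient
import Mathlib.RingTheory.AdicCompletion.Basic
import Mathlib.FieldTheory.IntermediateField.Adjoin.Algebra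

set_option autoImplicit false
universe u v w x y
open CAlg

namespace Groth.Agent.S14309
open CAlg

open MvPolynomial

/-- Let R be a commutative ring; A, B, C commutative R-algebras; i : A → B and j : A → C jointly
injective R-algebra maps; c a non-zero-divisor of B; u : C → B/(c) a ring map with u ∘ j equal to i
followed by reduction modulo c; ζ in A with i ζ = c and j ζ = 0; η : R[X_σ, Z] → A an R-algebra map
with η(Z) = ζ; a : R[Y_τ] → B a surjective R-algebra map; η_Z : R[X_σ, Z] → R[Y_τ] a surjective
R-algebra map with a ∘ η_Z = i ∘ η. Fix c̃ in R[Y_τ] with a(c̃) = c, a family (p_h) generating the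
kernel of the composite R[X_σ] → R[X_σ, Z] → A → C, a family (q'_h) generating the kernel of a
together with lifts q_h along η_Z, a family (v_h) generating the kernel of η_Z, and elements g'_h of
R[Y_τ] with η_Z(p_h) + g'_h c̃ in the ideal (q'_h), together with lifts g_h along η_Z. Then the
kernel of η is the ideal generated by the elements Z q_h, Z v_h and p_h + Z g_h. (The published
statement is for the rings of cycle classes, with coefficients ℤ[1/6], of a smooth quotient stack, a
smooth closed substack whose normal bundle has top Chern class c a non-zero-divisor, and the open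
complement; this row states the ring-theoretic content for any such square of commutative rings in
which A embeds in B × C.) -/
theorem result
    {R : Type u} [CommRing R] {A : Type v} {B : Type w} {C : Type x}
    [CommRing A] [CommRing B] [CommRing C] [Algebra R A] [Algebra R B] [Algebra R C]
    (i : A →ₐ[R] B) (j : A →ₐ[R] C)
    (hinj : ∀ t : A, i t = 0 → j t = 0 → t = 0)
    (c : B) (hc : c ∈ nonZeroDivisors B) (u : C →+* B ⧸ Ideal.span ({c} : Set B))
    (hu : ∀ t : A, u (j t) = Ideal.Quotient.mk (Ideal.span ({c} : Set B)) (i t))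
    (ζ : A) (hiζ : i ζ = c) (hjζ : j ζ = 0)
    {σ τ ιp ιq ιv : Type y}
    (η : MvPolynomial (Option σ) R →ₐ[R] A) (hη : η (MvPolynomial.X none) = ζ)
    (a : MvPolynomial τ R →ₐ[R] B) (ha : Function.Surjective a)
    (ηZ : MvPolynomial (Option σ) R →ₐ[R] MvPolynomial τ R)
    (hcomm : ∀ t, a (ηZ t) = i (η t)) (hηZ : Function.Surjective ηZ)
    (cZ : MvPolynomial τ R) (hcZ : a cZ = c)
    (p : ιp → MvPolynomial σ R)
    (hp : Ideal.span (Set.range p) =
      RingHom.ker ((j.comp η).comp (MvPolynomial.rename (Option.some : σ → Option σ))))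
    (q' : ιq → MvPolynomial τ R) (hq' : Ideal.span (Set.range q') = RingHom.ker a)
    (q : ιq → MvPolynomial (Option σ) R) (hq : ∀ h, ηZ (q h) = q' h)
    (v : ιv → MvPolynomial (Option σ) R) (hv : Ideal.span (Set.range v) = RingHom.ker ηZ)
    (g' : ιp → MvPolynomial τ R)
    (hg' : ∀ h, ηZ (MvPolynomial.rename (Option.some : σ → Option σ) (p h)) + g' h * cZ ∈
      Ideal.span (Set.range q'))
    (g : ιp → MvPolynomial (Option σ) R) (hg : ∀ h, ηZ (g h) = g' h) :
    RingHom.ker η = Ideal.span
      (Set.range (fun h : ιq => MvPolynomial.X none * q h) ∪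
        Set.range (fun h : ιv => MvPolynomial.X none * v h) ∪
        Set.range (fun h : ιp =>
          MvPolynomial.rename (Option.some : σ → Option σ) (p h) + MvPolynomial.X none * g h)) := by
  classical
  have hq0 : ∀ h, a (q' h) = 0 := fun h =>
    (RingHom.mem_ker (f := a)).1 (hq' ▸ Ideal.subset_span ⟨h, rfl⟩)
  have hv0 : ∀ h, ηZ (v h) = 0 := fun h =>
    (RingHom.mem_ker (f := ηZ)).1 (hv ▸ Ideal.subset_span ⟨h, rfl⟩)
  have hp0 : ∀ h, j (η (rename some (p h))) = 0 := fun h =>
    (RingHom.mem_ker (f := (j.comp η).comp (rename (Option.some : σ → Option σ)))).1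
      (hp ▸ Ideal.subset_span ⟨h, rfl⟩)
  set I := Ideal.span
      (Set.range (fun h : ιq => X none * q h) ∪
        Set.range (fun h : ιv => X none * v h) ∪
        Set.range (fun h : ιp => rename (Option.some : σ → Option σ) (p h) + X none * g h))
  have hI : I ≤ RingHom.ker η := by
    rw [Ideal.span_le]
    rintro _ ((⟨h, rfl⟩ | ⟨h, rfl⟩) | ⟨h, rfl⟩) <;> rw [SetLike.mem_coe, RingHom.mem_ker] <;>
      refine hinj _ ?_ ?_
    · rw [← hcomm, map_mul, map_mul, hq, hq0, mul_zero]
    · rw [map_mul, map_mul, hη, hjζ, zero_mul]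
    · rw [← hcomm, map_mul, map_mul, hv0, map_zero, mul_zero]
    · rw [map_mul, map_mul, hη, hjζ, zero_mul]
    · have h1 : a (ηZ (rename some (p h)) + g' h * cZ) = 0 :=
        (RingHom.mem_ker (f := a)).1 (hq' ▸ hg' h)
      rw [map_add, map_mul, hcZ] at h1
      rw [← hcomm, map_add, map_mul, map_add, map_mul, hg, show a (ηZ (X none)) = c by rw [hcomm, hη, hiζ],
        mul_comm c]
      exact h1
    · rw [map_add, map_mul, map_add, map_mul, hη, hjζ, zero_mul, hp0, add_zero]
  refine le_antisymm (fun z hz => ?_) hI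
  rw [RingHom.mem_ker] at hz
  obtain ⟨z₀, z₁, rfl⟩ : ∃ z₀ z₁, z = rename some z₀ + X none * z₁ := by
    clear hz
    induction z using MvPolynomial.induction_on with
    | C r => exact ⟨MvPolynomial.C r, 0, by simp⟩
    | add a b ha hb =>
      obtain ⟨a0, a1, rfl⟩ := ha
      obtain ⟨b0, b1, rfl⟩ := hb
      exact ⟨a0 + b0, a1 + b1, by rw [map_add]; ring⟩
    | mul_X a n ha =>
      obtain ⟨a0, a1, rfl⟩ := ha
      cases n with
      | none => exact ⟨0, rename some a0 + X none * a1, by rw [map_zero]; ring⟩
      | some n => exact ⟨a0 * X n, a1 * X (some n), by rw [map_mul, rename_X]; ring⟩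
  have hz0 : z₀ ∈ Ideal.span (Set.range p) := by
    rw [hp, RingHom.mem_ker]
    show j (η (rename some z₀)) = 0
    have := congrArg j hz
    rwa [map_add, map_mul, map_add, map_mul, hη, hjζ, zero_mul, add_zero, map_zero] at this
  obtain ⟨z₂, hz₂⟩ : ∃ z₂, rename some z₀ + X none * z₁ - X none * z₂ ∈ I := by
    suffices ∃ z₂, rename some z₀ + X none * z₂ ∈ I by
      obtain ⟨w, hw⟩ := this
      exact ⟨z₁ - w, by convert hw using 1; ring⟩
    clear hz
    induction hz0 using Submodule.span_induction with
    | mem x hx =>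
      obtain ⟨h, rfl⟩ := hx
      exact ⟨g h, Ideal.subset_span (Or.inr ⟨h, rfl⟩)⟩
    | zero => exact ⟨0, by simp⟩
    | add x y _ _ hx hy =>
      obtain ⟨a0, ha⟩ := hx
      obtain ⟨b0, hb⟩ := hy
      exact ⟨a0 + b0, by rw [map_add]; convert add_mem ha hb using 1; ring⟩
    | smul r x _ hx =>
      obtain ⟨a0, ha⟩ := hx
      exact ⟨rename some r * a0, by rw [smul_eq_mul, map_mul]; convert I.mul_mem_left (rename some r) ha using 1; ring⟩
  have hz2 : η (X none * z₂) = 0 := by
    have h1 := (RingHom.mem_ker (f := η)).1 (hI hz₂)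
    rwa [map_sub, hz, zero_sub, neg_eq_zero] at h1
  have hz3 : ηZ z₂ ∈ Ideal.span (Set.range q') := by
    rw [hq', RingHom.mem_ker, hcomm]
    have h1 := congrArg i hz2
    rw [map_mul, map_mul, hη, hiζ, map_zero] at h1
    exact mem_nonZeroDivisors_iff_left.1 hc _ h1
  have hz4 : z₂ ∈ Ideal.span (Set.range q ∪ Set.range v) := by
    rw [show q' = ηZ ∘ q from funext fun h => (hq h).symm, Set.range_comp, ← Ideal.map_span] at hz3
    obtain ⟨w, hw, hwe⟩ := (Ideal.mem_map_iff_of_surjective ηZ hηZ).1 hz3
    have : z₂ - w ∈ Ideal.span (Set.range v) := by rw [hv, RingHom.mem_ker, map_sub, hwe, sub_self]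
    rw [Ideal.span_union, show z₂ = w + (z₂ - w) by ring]
    exact add_mem (Ideal.mem_sup_left hw) (Ideal.mem_sup_right this)
  have hz5 : X none * z₂ ∈ I := by
    have : Ideal.span {X none} * Ideal.span (Set.range q ∪ Set.range v) ≤ I := by
      rw [Ideal.span_mul_span', Ideal.span_le]
      rintro _ ⟨_, rfl, _, (⟨h, rfl⟩ | ⟨h, rfl⟩), rfl⟩
      · exact Ideal.subset_span (Or.inl (Or.inl ⟨h, rfl⟩))
      · exact Ideal.subset_span (Or.inl (Or.inr ⟨h, rfl⟩))
    exact this (Ideal.mul_mem_mul (Ideal.mem_span_singleton_self _) hz4)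
  have := add_mem hz₂ hz5
  rwa [sub_add_cancel] at this

end Groth.Agent.S14309
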