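import Groth.Statements.S14310
import Mathlib
import Groth.Agent.Lib.SubstBij1.Basic

set_option autoImplicit false
universe u
open ArSing

namespace Groth.Agent.S14310


section Aux
open MvPowerSeries

variable {k : Type u} [Field k]

local notation "P" => MvPowerSeries (Fin 2) k

/-- linear coefficient -/
noncomputable abbrev lc (j : Fin 2) (f : MvPowerSeries (Fin 2) k) : k := coeff (Finsupp.single j 1) f

theorem lc_mul (a b : P) (j : Fin 2) :
    lc j (a * b) = constantCoeff a * lc j b + lc j a * constantCoeff b :=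
  SubstBij1.coeff_single_mul a b j

theorem lc_X (i j : Fin 2) : lc j (X i : P) = if i = j then 1 else 0 := by
  classical
  rw [lc, coeff_X]
  by_cases h : i = j
  · subst h; simp
  · rw [if_neg h, if_neg (fun e => h (Finsupp.single_left_injective one_ne_zero e).symm)]

theorem exists_decomp (w : P) (hw : constantCoeff w = 0) : ∃ a b : P, w = X 0 * a + X 1 * b := by
  classical
  refine ⟨fun m => coeff (m + Finsupp.single 0 1) w,
    fun m => if m 0 = 0 then coeff (m + Finsupp.single 1 1) w else 0, ?_⟩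
  ext m
  rw [map_add, X_def, X_def, coeff_monomial_mul, coeff_monomial_mul, one_mul, one_mul]
  show _ = (if Finsupp.single 0 1 ≤ m then coeff (m - Finsupp.single 0 1 + Finsupp.single 0 1) w else 0) +
    (if Finsupp.single 1 1 ≤ m then
      (if (m - Finsupp.single (1 : Fin 2) 1 : Fin 2 →₀ ℕ) 0 = 0 then coeff (m - Finsupp.single 1 1 + Finsupp.single 1 1) w else 0) else 0)
  by_cases h0 : m 0 = 0
  · rw [if_neg (by rw [Finsupp.single_le_iff]; omega), zero_add]
    by_cases h1 : m 1 = 0
    · rw [if_neg (by rw [Finsupp.single_le_iff]; omega)]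
      obtain rfl : m = 0 := by ext i; fin_cases i <;> simp [h0, h1]
      rw [coeff_zero_eq_constantCoeff_apply, hw]
    · have hle : Finsupp.single 1 1 ≤ m := by rw [Finsupp.single_le_iff]; omega
      rw [if_pos hle, if_pos (by simp [h0]), tsub_add_cancel_of_le hle]
  · have hle : Finsupp.single 0 1 ≤ m := by rw [Finsupp.single_le_iff]; omega
    rw [if_pos hle, tsub_add_cancel_of_le hle]
    split_ifs with h1 h2
    · simp at h2; omega
    · rw [add_zero]
    · rw [add_zero]

/-- automorphism with prescribed images of the variables -/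
theorem exists_aut (g : P) (hg : constantCoeff g = 0) {i : Fin 2} (hi : lc i g ≠ 0) (s : Fin 2) :
    ∃ σ : P ≃ₐ[k] P, σ (X s) = g := by
  classical
  obtain ⟨j, hj⟩ : ∃ j : Fin 2, j ≠ i := exists_ne i
  obtain ⟨t, ht⟩ : ∃ t : Fin 2, t ≠ s := exists_ne s
  let y : Fin 2 → P := Function.update (fun _ => (X j : P)) s g
  have hy : ∀ l, constantCoeff (y l) = 0 := by
    intro l
    by_cases h : l = s
    · subst h; simpa [y] using hg
    · simp [y, Function.update_of_ne h]
  have hdet : IsUnit (SubstBij1.lin y).det := by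
    rw [isUnit_iff_ne_zero, Matrix.det_fin_two]
    simp only [SubstBij1.lin, Matrix.of_apply]
    fin_cases s <;> fin_cases i <;> fin_cases j <;> simp_all [y, lc, Finsupp.single_eq_single_iff, coeff_X]
  have hs : HasSubst y := hasSubst_of_constantCoeff_zero hy
  refine ⟨AlgEquiv.ofBijective (substAlgHom hs) ?_, ?_⟩
  · rw [coe_substAlgHom]; exact SubstBij1.bijective y hy hdet
  · rw [AlgEquiv.coe_ofBijective, substAlgHom_apply, subst_X hs]
    simp [y]

theorem prime_X_zero : Prime (X 0 : P) := by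
  haveI : IsDomain (MvPowerSeries (Fin 1) k) := NoZeroDivisors.to_isDomain _
  have h : Prime (finSuccEquiv k 1 (X 0 : P)) := by rw [finSuccEquiv_X_zero]; exact PowerSeries.X_prime
  exact (MulEquiv.prime_iff (finSuccEquiv k 1).toMulEquiv).1 h

theorem prime_of_lc (g : P) (hg : constantCoeff g = 0) {i : Fin 2} (hi : lc i g ≠ 0) : Prime g := by
  obtain ⟨σ, hσ⟩ := exists_aut g hg hi 0
  rw [← hσ]
  exact (MulEquiv.prime_iff σ.toMulEquiv).2 prime_X_zero

theorem quot_iff_left (F : P) (g : P) (hg : constantCoeff g = 0) {i : Fin 2} (hi : lc i g ≠ 0) (u : P) (hu : IsUnit u)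
    (hF : F = u * g ^ 2) :
    Nonempty ((P ⧸ Ideal.span ({F} : Set P)) ≃ₐ[k] (P ⧸ Ideal.span ({X 1 ^ 2} : Set P))) := by
  obtain ⟨σ, hσ⟩ := exists_aut g hg hi 1
  refine ⟨(Ideal.quotientEquivAlg (Ideal.span ({X 1 ^ 2} : Set P)) (Ideal.span ({F} : Set P)) σ ?_).symm⟩
  rw [Ideal.map_span, Set.image_singleton, hF, Ideal.span_singleton_mul_left_unit hu]
  show Ideal.span {g ^ 2} = Ideal.span {σ (X 1 ^ 2)}
  rw [map_pow, hσ]

theorem quot_iff_right (F : P)
    (e : (P ⧸ Ideal.span ({F} : Set P)) ≃ₐ[k] (P ⧸ Ideal.span ({X 1 ^ 2} : Set P))) :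
    ∃ (g u : P) (i : Fin 2), constantCoeff g = 0 ∧ lc i g ≠ 0 ∧ IsUnit u ∧ F = u * g ^ 2 := by
  classical
  set J := Ideal.span ({X 1 ^ 2} : Set P)
  set q := (Ideal.Quotient.mkₐ k J : P →ₐ[k] P ⧸ J)
  let π : P →ₐ[k] P ⧸ J := e.toAlgHom.comp (Ideal.Quotient.mkₐ k (Ideal.span ({F} : Set P)))
  have hπ : Function.Surjective π := e.surjective.comp Ideal.Quotient.mk_surjective
  have hker : ∀ a, π a = 0 ↔ F ∣ a := by
    intro a
    show e (Ideal.Quotient.mk _ a) = 0 ↔ _
    rw [EmbeddingLike.map_eq_zero_iff, Ideal.Quotient.eq_zero_iff_mem, Ideal.mem_span_singleton]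
  have hJ : ∀ a, q a = 0 ↔ X 1 ^ 2 ∣ a := by
    intro a
    show Ideal.Quotient.mk J a = 0 ↔ _
    rw [Ideal.Quotient.eq_zero_iff_mem, Ideal.mem_span_singleton]
  have hF0 : constantCoeff F = 0 := by
    by_contra h
    have h1 : π 1 = 0 := (hker 1).2 (isUnit_iff_constantCoeff.2 (Ne.isUnit h)).dvd
    obtain ⟨c, hc⟩ := (hJ 1).1 (by rw [map_one]; rwa [map_one] at h1)
    have := congrArg constantCoeff hc
    simp at this
  have hX1 : q (X 1) ≠ 0 := by
    intro h
    obtain ⟨c, hc⟩ := (hJ _).1 h
    have := congrArg (lc 1) hc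
    rw [lc_X, if_pos rfl, pow_two, mul_assoc, lc_mul, lc_mul] at this
    simp at this
  obtain ⟨g, hg⟩ := hπ (q (X 1))
  obtain ⟨h0, hh0⟩ := hπ (q (X 0))
  have hnon : ∀ (a : P) (s : Fin 2), π a = q (X s) → constantCoeff a = 0 := by
    intro a s h
    by_contra hc
    have hu : IsUnit (q (X s)) := h ▸ (isUnit_iff_constantCoeff.2 (Ne.isUnit hc)).map π
    obtain ⟨v, hv⟩ := hu.exists_right_inv
    obtain ⟨v', rfl⟩ := Ideal.Quotient.mkₐ_surjective k J v
    obtain ⟨c, hc'⟩ := (hJ (X s * v' - 1)).1 (by rw [map_sub, map_mul, map_one, hv, sub_self])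
    have := congrArg constantCoeff hc'
    simp at this
  have hg0 : constantCoeff g = 0 := hnon g 1 hg
  have hh00 : constantCoeff h0 = 0 := hnon h0 0 hh0
  obtain ⟨c, hc⟩ : F ∣ g ^ 2 := (hker _).1 (by rw [map_pow, hg, ← map_pow, hJ])
  have hFlin : ∀ j, lc j F = 0 := by
    intro j
    by_contra hj
    have hp : Prime F := prime_of_lc F hF0 hj
    exact hX1 (hg ▸ (hker g).2 (hp.dvd_of_dvd_pow ⟨c, hc⟩))
  have hdec : ∀ s : Fin 2, ∃ a b : P, ∀ j, lc j (X s : P) = constantCoeff a * lc j h0 + constantCoeff b * lc j g := by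
    intro s
    obtain ⟨w, hw⟩ := Ideal.Quotient.mkₐ_surjective k J (π (X s))
    have hw0 : constantCoeff w = 0 := by
      by_contra hcw
      have hu : IsUnit (π (X s)) := hw ▸ (isUnit_iff_constantCoeff.2 (Ne.isUnit hcw)).map q
      obtain ⟨v, hv⟩ := hu.exists_right_inv
      obtain ⟨v', rfl⟩ := hπ v
      obtain ⟨d, hd⟩ := (hker (X s * v' - 1)).1 (by rw [map_sub, map_mul, map_one, hv, sub_self])
      have := congrArg constantCoeff hd
      simp [hF0] at this
    obtain ⟨a', b', hab⟩ := exists_decomp w hw0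
    obtain ⟨a, ha⟩ := hπ (q a')
    obtain ⟨b, hb⟩ := hπ (q b')
    have h1 : π (X s - (a * h0 + b * g)) = 0 := by
      rw [map_sub, map_add, map_mul, map_mul, ha, hb, hg, hh0, ← hw, hab, map_add, map_mul, map_mul]
      ring
    obtain ⟨d, hd⟩ := (hker _).1 h1
    refine ⟨a, b, fun j => ?_⟩
    have h2 := congrArg (lc j) (sub_eq_iff_eq_add.1 hd)
    simp only [lc, map_add] at h2 ⊢
    rw [show coeff (Finsupp.single j 1) (F * d) = 0 by
      rw [show coeff (Finsupp.single j 1) (F * d) = lc j (F * d) from rfl, lc_mul, hF0, hFlin j]; ring,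
      SubstBij1.coeff_single_mul, SubstBij1.coeff_single_mul, hh00, hg0] at h2
    rw [h2]; ring
  have hgi : ∃ i, lc i g ≠ 0 := by
    by_contra hno
    push Not at hno
    obtain ⟨a, b, hab⟩ := hdec 0
    obtain ⟨a', b', hab'⟩ := hdec 1
    have e00 := hab 0
    have e01 := hab 1
    have e11 := hab' 1
    rw [lc_X, hno, mul_zero, add_zero] at e00 e01 e11
    simp at e00 e01 e11
    rcases e01 with h | h
    · rw [h, zero_mul] at e00; exact one_ne_zero e00
    · rw [h, mul_zero] at e11; exact one_ne_zero e11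
  obtain ⟨i, hi⟩ := hgi
  have hgp : Prime g := prime_of_lc g hg0 hi
  by_cases hdiv : g ∣ c
  · exfalso
    obtain ⟨c', rfl⟩ := hdiv
    have h2 : g = F * c' := mul_left_cancel₀ hgp.ne_zero (by rw [← pow_two, hc]; ring)
    apply hi
    rw [h2, lc_mul, hF0, hFlin i]
    ring
  · obtain ⟨d, hd⟩ : g ^ 2 ∣ F := hgp.pow_dvd_of_dvd_mul_right 2 hdiv (hc ▸ dvd_refl _)
    refine ⟨g, d, i, hg0, hi, ?_, by rw [hd, mul_comm]⟩
    refine IsUnit.of_mul_eq_one c (mul_left_cancel₀ (pow_ne_zero 2 hgp.ne_zero) ?_)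
    rw [mul_one, ← mul_assoc, ← hd]
    exact hc.symm

theorem eq_C_of_derivs_zero [IsAlgClosed k] (q : MvPolynomial (Fin 2) k) (hq : Irreducible q)
    (h : ∀ i, MvPolynomial.pderiv i q = 0) : False := by
  classical
  obtain ⟨p, hp⟩ := CharP.exists k
  have hm : ∀ m : Fin 2 →₀ ℕ, MvPolynomial.coeff m q ≠ 0 → ∀ i, (m i : k) = 0 := by
    intro m hm i
    by_cases h0 : m i = 0
    · simp [h0]
    have h1 := congrArg (MvPolynomial.coeff (m - Finsupp.single i 1)) (h i)
    have hle : Finsupp.single i 1 ≤ m := by rw [Finsupp.single_le_iff]; omega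
    rw [MvPolynomial.coeff_pderiv, tsub_add_cancel_of_le hle, MvPolynomial.coeff_zero] at h1
    have h2 := (mul_eq_zero.1 h1).resolve_left hm
    simpa [Nat.cast_sub (Nat.one_le_iff_ne_zero.2 h0)] using h2
  rcases CharP.char_is_prime_or_zero k p with hprime | hzero
  · haveI := Fact.mk hprime
    haveI : CharP (MvPolynomial (Fin 2) k) p := inferInstance
    choose r hr using fun x : k => IsAlgClosed.exists_pow_nat_eq x hprime.pos
    let g : MvPolynomial (Fin 2) k := ∑ m ∈ q.support,
      MvPolynomial.monomial (m.mapRange (fun n => n / p) (Nat.zero_div p)) (r (MvPolynomial.coeff m q))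
    have hg : g ^ p = q := by
      rw [sum_pow_char]
      conv_rhs => rw [q.as_sum]
      refine Finset.sum_congr rfl fun m hms => ?_
      rw [MvPolynomial.monomial_pow, hr]
      congr 2
      ext i
      have hd : p ∣ m i := (CharP.cast_eq_zero_iff k p (m i)).1 (hm m (MvPolynomial.mem_support_iff.1 hms) i)
      simp [Nat.mul_div_cancel' hd]
    exact hq.not_isUnit (by
      rw [← hg]
      by_contra hnu
      have hg2 : g ^ p = g * g ^ (p - 1) := by rw [← pow_succ', Nat.sub_add_cancel hprime.one_le]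
      rcases hq.isUnit_or_isUnit (hg ▸ hg2) with hu | hu
      · exact hnu (hu.pow p)
      · exact hnu ((((isUnit_pow_iff (Nat.sub_ne_zero_of_lt hprime.one_lt)).1 hu)).pow p))
  · subst hzero
    haveI := CharP.charP_to_charZero k
    have hC : q = MvPolynomial.C (MvPolynomial.coeff 0 q) := by
      ext m
      rw [MvPolynomial.coeff_C]
      split_ifs with h0
      · rw [h0]
      · by_contra hne
        apply h0
        ext i
        have := hm m hne i
        simp only [Nat.cast_eq_zero] at this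
        simp [this]
    by_cases hz : MvPolynomial.coeff 0 q = 0
    · exact hq.ne_zero (by rw [hC, hz, map_zero])
    · exact hq.not_isUnit (by rw [hC]; exact (Ne.isUnit hz).map MvPolynomial.C)

/-- common factor through the origin -/
theorem exists_common_factor (F : MvPolynomial (Fin 2) k) (F' : Fin 2 → MvPolynomial (Fin 2) k) (g : P)
    (hg : constantCoeff g = 0) {i : Fin 2} (hi : lc i g ≠ 0) (hF : g ∣ (F : P)) (hF' : ∀ j, g ∣ (F' j : P))
    (hne : F ≠ 0) :
    ∃ q : MvPolynomial (Fin 2) k, Irreducible q ∧ MvPolynomial.constantCoeff q = 0 ∧ q ∣ F ∧ ∀ j, q ∣ F' j := by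
  classical
  by_contra hno
  push Not at hno
  set I : Ideal (MvPolynomial (Fin 2) k) := Ideal.span (insert F (Set.range F'))
  set M : Ideal (MvPolynomial (Fin 2) k) := RingHom.ker (MvPolynomial.constantCoeff)
  haveI hM : M.IsPrime := RingHom.ker_isPrime _
  have hgp : Prime g := prime_of_lc g hg hi
  have key : ∀ t : Fin 2, g ∣ (X t : P) := by
    intro t
    let Sm : Submonoid (MvPolynomial (Fin 2) k) := M.primeCompl ⊔ Submonoid.powers (MvPolynomial.X t)
    by_cases hd : Disjoint (I : Set (MvPolynomial (Fin 2) k)) Sm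
    · exfalso
      obtain ⟨p, hp, hIp, hpd⟩ := Ideal.exists_le_prime_disjoint I Sm hd
      have hpM : p ≤ M := fun x hx => by
        by_contra hxM
        exact Set.disjoint_left.1 hpd hx (Submonoid.mem_sup_left hxM)
      have hXp : MvPolynomial.X t ∉ p := fun hx =>
        Set.disjoint_left.1 hpd hx (Submonoid.mem_sup_right (Submonoid.mem_powers _))
      obtain ⟨q, hqp, hq⟩ := Ideal.IsPrime.exists_mem_prime_of_ne_bot hp
        (fun hb => hne (by simpa [hb] using hIp (Ideal.subset_span (Set.mem_insert F _))))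
      haveI : (Ideal.span {q}).IsPrime := (Ideal.span_singleton_prime hq.ne_zero).2 hq
      have hle : Ideal.span {q} ≤ p := (Ideal.span_singleton_le_iff_mem _).2 hqp
      have hlt : Ideal.span {q} < p := by
        refine lt_of_le_of_ne hle fun he => ?_
        have hqd : ∀ x ∈ insert F (Set.range F'), q ∣ x := fun x hx =>
          Ideal.mem_span_singleton.1 (he ▸ hIp (Ideal.subset_span hx))
        obtain ⟨j, hj⟩ := hno q hq.irreducible (hpM hqp) (hqd _ (Set.mem_insert _ _))
        exact hj (hqd _ (Set.mem_insert_of_mem _ ⟨j, rfl⟩))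
      have hlt2 : p < M := lt_of_le_of_ne hpM fun he => hXp (by rw [he]; simp [M])
      let l : LTSeries (PrimeSpectrum (MvPolynomial (Fin 2) k)) :=
        { length := 3
          toFun := ![⟨⊥, Ideal.isPrime_bot⟩, ⟨Ideal.span {q}, inferInstance⟩, ⟨p, hp⟩, ⟨M, hM⟩]
          step := fun i => by
            fin_cases i
            · exact bot_lt_iff_ne_bot.2 fun h => hq.ne_zero (Ideal.span_singleton_eq_bot.1 h)
            · exact hlt
            · exact hlt2 }
      have hdim := Order.LTSeries.length_le_krullDim l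
      change _ ≤ ringKrullDim (MvPolynomial (Fin 2) k) at hdim
      rw [MvPolynomial.ringKrullDim_of_isNoetherianRing, ringKrullDim_eq_zero_of_field] at hdim
      simp [l] at hdim
      exact absurd hdim (by norm_cast)
    · obtain ⟨x, hxI, hxS⟩ := Set.not_disjoint_iff.1 hd
      obtain ⟨a, ha, b, ⟨n, rfl⟩, rfl⟩ := Submonoid.mem_sup.1 hxS
      have hdvd : ∀ x ∈ I, g ∣ ((x : MvPolynomial (Fin 2) k) : P) := by
        intro x hx
        have : I ≤ (Ideal.span {g}).comap MvPolynomial.coeToMvPowerSeries.ringHom := by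
          refine Ideal.span_le.2 ?_
          rintro y (rfl | ⟨j, rfl⟩)
          · exact Ideal.mem_span_singleton.2 hF
          · exact Ideal.mem_span_singleton.2 (hF' j)
        exact Ideal.mem_span_singleton.1 (this hx)
      have h1 := hdvd _ hxI
      rw [MvPolynomial.coe_mul, MvPolynomial.coe_pow, MvPolynomial.coe_X] at h1
      rcases hgp.dvd_or_dvd h1 with h2 | h2
      · exfalso
        obtain ⟨c, hc⟩ := h2
        apply ha
        show MvPolynomial.constantCoeff a = 0
        have := congrArg constantCoeff hc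
        rw [map_mul, hg, zero_mul, ← coeff_zero_eq_constantCoeff_apply, MvPolynomial.coeff_coe] at this
        rwa [MvPolynomial.constantCoeff_eq]
      · exact hgp.dvd_of_dvd_pow h2
  obtain ⟨j, hj⟩ := exists_ne i
  obtain ⟨c, hc⟩ := key i
  obtain ⟨d, hd⟩ := key j
  have e1 := congrArg (lc i) hd
  have e2 := congrArg (lc j) hd
  rw [lc_X, lc_mul, hg, zero_mul, zero_add, if_neg hj] at e1
  rw [lc_X, lc_mul, hg, zero_mul, zero_add, if_pos rfl] at e2
  rw [(mul_eq_zero.1 e1.symm).resolve_left hi, mul_zero] at e2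
  exact one_ne_zero e2

theorem lc_coe (G : MvPolynomial (Fin 2) k) (i : Fin 2) :
    lc i (G : P) = MvPolynomial.constantCoeff (MvPolynomial.pderiv i G) := by
  rw [lc, MvPolynomial.coeff_coe, MvPolynomial.constantCoeff_eq, MvPolynomial.coeff_pderiv]
  simp

theorem cc_coe (G : MvPolynomial (Fin 2) k) : constantCoeff (G : P) = MvPolynomial.constantCoeff G := by
  rw [← coeff_zero_eq_constantCoeff_apply, MvPolynomial.coeff_coe, MvPolynomial.constantCoeff_eq]

theorem core [IsAlgClosed k] (F : MvPolynomial (Fin 2) k) :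
    Nonempty ((P ⧸ Ideal.span ({(F : P)} : Set P)) ≃ₐ[k] (P ⧸ Ideal.span ({X 1 ^ 2} : Set P))) ↔
    ∃ G H : MvPolynomial (Fin 2) k, F = G ^ 2 * H ∧ MvPolynomial.constantCoeff H ≠ 0 ∧
      MvPolynomial.constantCoeff G = 0 ∧ ∃ i, MvPolynomial.constantCoeff (MvPolynomial.pderiv i G) ≠ 0 := by
  classical
  constructor
  · rintro ⟨e⟩
    obtain ⟨g, u, i, hg, hi, hu, hF⟩ := quot_iff_right _ e
    have hgp : Prime g := prime_of_lc g hg hi
    have hne : F ≠ 0 := by
      rintro rfl
      rw [MvPolynomial.coe_zero] at hF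
      exact mul_ne_zero hu.ne_zero (pow_ne_zero 2 hgp.ne_zero) hF.symm
    obtain ⟨q, hq, hq0, ⟨h, rfl⟩, hqj⟩ := exists_common_factor F (fun j => MvPolynomial.pderiv j F) g hg hi
      ⟨u * g, by rw [hF]; ring⟩ (fun j => by
        rw [← pderiv_coe, hF, Derivation.leibniz, Derivation.leibniz_pow, pow_one, smul_eq_mul, smul_eq_mul,
          smul_eq_mul, nsmul_eq_mul]
        exact ⟨2 * u * pderiv k j g + g * pderiv k j u, by push_cast; ring⟩) hne
    have hqp : Prime q := hq.prime
    obtain ⟨h', rfl⟩ : q ∣ h := by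
      by_contra hqh
      refine eq_C_of_derivs_zero q hq fun j => ?_
      have h1 : q ∣ MvPolynomial.pderiv j q * h := by
        have := hqj j
        rw [MvPolynomial.pderiv_mul] at this
        exact (dvd_add_left (dvd_mul_right q _)).1 this
      have h2 : q ∣ MvPolynomial.pderiv j q := (hqp.dvd_or_dvd h1).resolve_right hqh
      by_contra hne'
      obtain ⟨r, hr⟩ := h2
      have hr0 : r ≠ 0 := fun h0 => hne' (by rw [hr, h0, mul_zero])
      have hlt : MvPolynomial.degreeOf j (MvPolynomial.pderiv j q) < MvPolynomial.degreeOf j q := by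
        have hd0 : 0 < MvPolynomial.degreeOf j q := by
          rw [pos_iff_ne_zero]
          intro h0
          apply hne'
          exact MvPolynomial.pderiv_eq_zero_of_notMem_vars (fun hv =>
            (MvPolynomial.mem_vars_iff_degreeOf_ne_zero.1 hv) h0)
        rw [MvPolynomial.degreeOf_lt_iff hd0]
        intro m hm
        rw [MvPolynomial.mem_support_iff, MvPolynomial.coeff_pderiv] at hm
        have := MvPolynomial.monomial_le_degreeOf j (MvPolynomial.mem_support_iff.2 (left_ne_zero_of_mul hm))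
        simp at this
        omega
      rw [hr, MvPolynomial.degreeOf_mul_eq hq.ne_zero hr0] at hlt
      omega
    have hF2 : (u * g ^ 2 : P) = (q : P) ^ 2 * (h' : P) := by
      rw [← hF, ← MvPolynomial.coe_pow, ← MvPolynomial.coe_mul]; congr 1; ring
    have hq0' : constantCoeff (q : P) = 0 := by rw [cc_coe]; exact hq0
    obtain ⟨v, hv⟩ : g ∣ (q : P) := by
      by_contra hgq
      have h1 : g ^ 2 ∣ (q : P) ^ 2 * (h' : P) := hF2 ▸ dvd_mul_left _ _
      obtain ⟨w, hw⟩ := hgp.pow_dvd_of_dvd_mul_left 2 (fun h => hgq (hgp.dvd_of_dvd_pow h)) h1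
      have h2 : u = (q : P) ^ 2 * w := mul_right_cancel₀ (pow_ne_zero 2 hgp.ne_zero) (by rw [hF2, hw]; ring)
      have := isUnit_iff_constantCoeff.1 hu
      rw [h2, map_mul, map_pow, hq0'] at this
      simp at this
    have h3 : u = v ^ 2 * (h' : P) := mul_right_cancel₀ (pow_ne_zero 2 hgp.ne_zero) (by rw [hF2, hv]; ring)
    have hu' := (isUnit_iff_constantCoeff.1 hu).ne_zero
    rw [h3, map_mul, map_pow] at hu'
    refine ⟨q, h', by ring, ?_, hq0, i, ?_⟩
    · rw [← cc_coe]; exact right_ne_zero_of_mul hu'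
    · rw [← lc_coe, hv, lc_mul, hg, zero_mul, zero_add]
      exact mul_ne_zero hi (fun h0 => left_ne_zero_of_mul hu' (by rw [h0]; ring))
  · rintro ⟨G, H, rfl, hH, hG, i, hi⟩
    exact quot_iff_left _ (G : P) (by rw [cc_coe]; exact hG) (i := i) (by rw [lc_coe]; exact hi) (H : P)
      (isUnit_iff_constantCoeff.2 (by rw [cc_coe]; exact Ne.isUnit hH))
      (by rw [MvPolynomial.coe_mul, MvPolynomial.coe_pow, mul_comm])

/-- translation -/
noncomputable def shiftHom (a : Fin 2 → k) : MvPolynomial (Fin 2) k →ₐ[k] MvPolynomial (Fin 2) k :=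
  MvPolynomial.aeval fun i => MvPolynomial.X i + MvPolynomial.C (a i)

theorem shift_neg (a : Fin 2 → k) (f : MvPolynomial (Fin 2) k) : shiftHom (-a) (shiftHom a f) = f := by
  have : (shiftHom (-a)).comp (shiftHom a) = AlgHom.id k _ := MvPolynomial.algHom_ext fun i => by simp [shiftHom]
  exact DFunLike.congr_fun this f

theorem cc_shift (a : Fin 2 → k) (f : MvPolynomial (Fin 2) k) :
    MvPolynomial.constantCoeff (shiftHom a f) = MvPolynomial.eval a f := by
  induction f using MvPolynomial.induction_on with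
  | C c => simp [shiftHom]
  | add p q hp hq => simp [map_add, hp, hq]
  | mul_X p i hp => rw [map_mul, map_mul, map_mul, hp]; simp [shiftHom]

theorem pderiv_shift (a : Fin 2 → k) (i : Fin 2) (f : MvPolynomial (Fin 2) k) :
    MvPolynomial.pderiv i (shiftHom a f) = shiftHom a (MvPolynomial.pderiv i f) := by
  classical
  induction f using MvPolynomial.induction_on with
  | C c => simp [shiftHom]
  | add p q hp hq => simp [map_add, hp, hq]
  | mul_X p j hp =>
    have hX : MvPolynomial.pderiv i (shiftHom a (MvPolynomial.X j)) =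
        shiftHom a (MvPolynomial.pderiv i (MvPolynomial.X j)) := by
      by_cases h : j = i
      · subst h; simp [shiftHom]
      · simp [shiftHom, MvPolynomial.pderiv_X_of_ne h]
    rw [map_mul, MvPolynomial.pderiv_mul, hp, hX, MvPolynomial.pderiv_mul, map_add, map_mul, map_mul]

theorem main [IsAlgClosed k] (f : MvPolynomial (Fin 2) k) (a : Fin 2 → k) :
    Nonempty ((P ⧸ Ideal.span ({(shiftHom a f).toMvPowerSeries} : Set P)) ≃ₐ[k]
      (P ⧸ Ideal.span ({X 1 ^ 2} : Set P))) ↔
    ∃ g h : MvPolynomial (Fin 2) k, f = g ^ 2 * h ∧ MvPolynomial.eval a h ≠ 0 ∧ MvPolynomial.eval a g = 0 ∧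
      ∃ i : Fin 2, MvPolynomial.eval a (MvPolynomial.pderiv i g) ≠ 0 := by
  refine (core (shiftHom a f)).trans ⟨?_, ?_⟩
  · rintro ⟨G, H, e, hH, hG, i, hi⟩
    have hb : ∀ x, shiftHom a (shiftHom (-a) x) = x := fun x => by
      have := shift_neg (-a) x; rwa [neg_neg] at this
    refine ⟨shiftHom (-a) G, shiftHom (-a) H, ?_, ?_, ?_, i, ?_⟩
    · rw [← map_pow, ← map_mul, ← e, shift_neg]
    · rwa [← cc_shift, hb]
    · rwa [← cc_shift, hb]
    · rw [← cc_shift, ← pderiv_shift, hb]; exact hi
  · rintro ⟨g, h, rfl, hh, hg, i, hi⟩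
    refine ⟨shiftHom a g, shiftHom a h, by rw [map_mul, map_pow], ?_, ?_, i, ?_⟩
    · rwa [cc_shift]
    · rwa [cc_shift]
    · rwa [pderiv_shift, cc_shift]

end Aux


/-- Let k be an algebraically closed field, f a polynomial in two variables x = X_0, y = X_1 over k, and
a a point of k². The quotient of the power series ring k[[x,y]] by the polynomial f recentred at a
(which is the completed local ring at a of the plane curve f = 0) is isomorphic as a k-algebra to
k[[x,y]]/(y^2) if and only if f = g^2 h for polynomials g and h with h(a) ≠ 0, g(a) = 0 and some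
first partial derivative of g non-zero at a. (The published statement asks for the component through
a to be the square of a smooth plane curve; only smoothness at a matters and is what is stated here
— for the square of a nodal cubic the completed local ring at a smooth point of the cubic is still
k[[x,y]]/(y^2). No hypothesis on the characteristic of k is imposed; the published setting assumes a
characteristic different from 2, 3, 5 and 7, which the argument does not use.) -/
theorem result
    {k : Type u} [Field k] [IsAlgClosed k] (f : MvPolynomial (Fin 2) k) (a : Fin 2 → k) :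
    Nonempty ((MvPowerSeries (Fin 2) k ⧸ Ideal.span
        ({(MvPolynomial.aeval (fun i : Fin 2 => MvPolynomial.X i + MvPolynomial.C (a i)) f).toMvPowerSeries} :
          Set (MvPowerSeries (Fin 2) k))) ≃ₐ[k]
      (MvPowerSeries (Fin 2) k ⧸ Ideal.span ({MvPowerSeries.X 1 ^ 2} : Set (MvPowerSeries (Fin 2) k)))) ↔
    ∃ g h : MvPolynomial (Fin 2) k, f = g ^ 2 * h ∧ MvPolynomial.eval a h ≠ 0 ∧ MvPolynomial.eval a g = 0 ∧
      ∃ i : Fin 2, MvPolynomial.eval a (MvPolynomial.pderiv i g) ≠ 0 := by
  exact main f a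

end Groth.Agent.S14310
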