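import Groth.Statements.S14312
import Groth.Agent.Lib.HilbBez17
import Groth.Agent.Lib.VarDim.Alg
import Mathlib

set_option autoImplicit false
universe u
open Curves

namespace Groth.Agent.S14312


section Aux
open MvPolynomial

variable {k : Type u} [Field k]

local notation "R3" => MvPolynomial (Fin 3) k

/-- A polynomial over a perfect field all of whose partials vanish is constant or a power. -/
theorem not_irreducible_of_pderiv_eq_zero [IsAlgClosed k] (h : R3) (hd : ∀ i, pderiv i h = 0) :
    ¬ Irreducible h := by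
  classical
  intro hirr
  have hexp : ∀ m ∈ h.support, ∀ i, ((m i : ℕ) : k) = 0 := by
    intro m hm i
    by_cases hmi : m i = 0
    · simp [hmi]
    · have h1 := congrArg (coeff (m - Finsupp.single i 1)) (hd i)
      rw [coeff_pderiv, coeff_zero] at h1
      have e : m - Finsupp.single i 1 + Finsupp.single i 1 = m := by
        ext j
        by_cases hj : j = i
        · subst hj; simp; omega
        · simp [Finsupp.single_eq_of_ne hj]
      rw [e] at h1
      have h2 : ((((m - Finsupp.single i 1 : Fin 3 →₀ ℕ) : Fin 3 → ℕ) i : ℕ) : k) + 1 = ((m i : ℕ) : k) := by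
        have : (m - Finsupp.single i 1 : Fin 3 →₀ ℕ) i + 1 = m i := by simp; omega
        exact_mod_cast congrArg (Nat.cast : ℕ → k) this
      rw [h2] at h1
      exact (mul_eq_zero.1 h1).resolve_left (mem_support_iff.1 hm)
  obtain ⟨p, hp⟩ := CharP.exists k
  rcases CharP.char_is_prime_or_zero k p with hpp | rfl
  · haveI := hp
    haveI : Fact p.Prime := ⟨hpp⟩
    have hroot : ∀ c : k, ∃ r : k, r ^ p = c := fun c => IsAlgClosed.exists_pow_nat_eq c hpp.pos
    choose rt hrt using hroot
    let r : R3 := ∑ m ∈ h.support, monomial (m.mapRange (· / p) (Nat.zero_div p)) (rt (coeff m h))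
    have hr : r ^ p = h := by
      haveI : CharP R3 p := inferInstance
      conv_rhs => rw [h.as_sum]
      rw [sum_pow_char]
      refine Finset.sum_congr rfl fun m hm => ?_
      rw [monomial_pow, hrt, show p • m.mapRange (· / p) (Nat.zero_div p) = m from Finsupp.ext fun i => by
        have : p ∣ m i := (CharP.cast_eq_zero_iff k p (m i)).1 (hexp m hm i)
        simp [Nat.mul_div_cancel' this, Nat.div_mul_cancel this]]
    exact not_irreducible_pow hpp.ne_one (hr.symm ▸ hirr)
  · haveI := hp
    haveI : CharZero k := CharP.charP_to_charZero k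
    have hC : h = C (coeff 0 h) := by
      conv_lhs => rw [h.as_sum]
      rw [Finset.sum_eq_single 0]
      · simp
      · intro m hm hne
        exfalso
        refine hne (Finsupp.ext fun i => ?_)
        exact_mod_cast hexp m hm i
      · intro hn
        rw [notMem_support_iff.1 hn, monomial_zero]
    apply hirr.not_isUnit
    rw [hC]
    refine IsUnit.map C (isUnit_iff_ne_zero.2 fun h0 => hirr.ne_zero ?_)
    rw [hC, h0, map_zero]

theorem totalDegree_pderiv_lt (h : R3) (i : Fin 3) (hne : pderiv i h ≠ 0) :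
    (pderiv i h).totalDegree < h.totalDegree := by
  classical
  obtain ⟨m, hm, hdeg⟩ := Finset.exists_mem_eq_sup (pderiv i h).support (by simpa using hne)
    fun s => s.sum fun _ e => e
  have h1 : coeff (m + Finsupp.single i 1) h ≠ 0 := by
    intro h0
    rw [mem_support_iff, coeff_pderiv, h0, zero_mul] at hm
    exact hm rfl
  have h2 := le_totalDegree (mem_support_iff.2 h1)
  rw [Finsupp.sum_add_index' (fun _ => rfl) (fun _ _ _ => rfl), Finsupp.sum_single_index rfl] at h2
  rw [totalDegree, hdeg]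
  omega

theorem exists_partial [IsAlgClosed k] (f h : R3) (hred : Squarefree f) (hirr : Irreducible h)
    (hdvd : h ∣ f) : ∃ i, ¬ h ∣ pderiv i f := by
  by_contra hall
  push Not at hall
  obtain ⟨c, rfl⟩ := hdvd
  have hc : ¬ h ∣ c := fun ⟨e, he⟩ => hirr.not_isUnit (hred h ⟨e, by rw [he, mul_assoc]⟩)
  have hprime : Prime h := hirr.prime
  refine not_irreducible_of_pderiv_eq_zero h (fun i => ?_) hirr
  have h1 : h ∣ pderiv i h * c := by
    have := hall i
    rw [pderiv_mul] at this
    exact (dvd_add_left (dvd_mul_right h (pderiv i c))).1 this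
  obtain ⟨w, hw⟩ := (hprime.dvd_or_dvd h1).resolve_right hc
  by_contra hne
  have h2 := totalDegree_pderiv_lt h i hne
  rw [hw, totalDegree_mul_of_isDomain hirr.ne_zero (fun h0 => hne (by rw [hw, h0, mul_zero]))] at h2
  omega

/-- A polar coprime to `f`. -/
theorem exists_polar [IsAlgClosed k] (f : R3) (hf0 : f ≠ 0) (hred : Squarefree f) :
    ∃ q : Fin 3 → k, ∀ h, Prime h → h ∣ f → ¬ h ∣ ∑ i, C (q i) * pderiv i f := by
  classical
  haveI : Infinite k := inferInstance
  let ι := {h // h ∈ (UniqueFactorizationMonoid.factors f).toFinset}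
  let L : (Fin 3 → k) →ₗ[k] R3 :=
    { toFun := fun q => ∑ i, C (q i) * pderiv i f
      map_add' := fun a b => by simp [add_mul, Finset.sum_add_distrib]
      map_smul' := fun c a => by
        simp [Finset.smul_sum, smul_eq_C_mul, mul_assoc] }
  let P : ι → Submodule k (Fin 3 → k) := fun h =>
    ((Ideal.span {(h.1 : R3)}).restrictScalars k).comap L
  obtain ⟨q, hq⟩ := Submodule.exists_forall_notMem_of_forall_ne_top P (fun h htop => by
    have hm := Multiset.mem_toFinset.1 h.2
    obtain ⟨i, hi⟩ := exists_partial f h.1 hred (UniqueFactorizationMonoid.irreducible_of_factor _ hm)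
      (UniqueFactorizationMonoid.dvd_of_mem_factors hm)
    apply hi
    have : (Pi.single i 1 : Fin 3 → k) ∈ P h := by rw [htop]; trivial
    have h2 : L (Pi.single i 1) = pderiv i f := by
      show ∑ j, C ((Pi.single i 1 : Fin 3 → k) j) * pderiv j f = pderiv i f
      rw [Finset.sum_eq_single i (fun j _ hj => by simp [hj]) (by simp)]
      simp
    exact h2 ▸ Ideal.mem_span_singleton.1 this)
  refine ⟨q, fun h hh hdvd hg => ?_⟩
  obtain ⟨h', hm, hassoc⟩ := UniqueFactorizationMonoid.exists_mem_factors_of_dvd hf0 hh.irreducible hdvd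
  exact hq ⟨h', Multiset.mem_toFinset.2 hm⟩ (Ideal.mem_span_singleton.2 (hassoc.symm.dvd.trans hg))

theorem dim_le_one (f g : R3) (hf0 : f ≠ 0) (hfg : ∀ h, Prime h → h ∣ f → ¬ h ∣ g) :
    ringKrullDim (R3 ⧸ Ideal.span (Set.range ![f, g])) ≤ 1 := by
  let I := Ideal.span (Set.range ![f, g])
  rw [ringKrullDim, Order.krullDim_eq_iSup_coheight]
  refine iSup_le fun Q => ?_
  have hsm : StrictMono (PrimeSpectrum.comap (Ideal.Quotient.mk I)) :=
    (Monotone.strictMono_of_injective (fun a b h => Ideal.comap_mono h)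
      (PrimeSpectrum.comap_injective_of_surjective _ Ideal.Quotient.mk_surjective))
  let P := PrimeSpectrum.comap (Ideal.Quotient.mk I) Q
  have h1 : Order.coheight Q ≤ Order.coheight P := Order.coheight_le_coheight_apply_of_strictMono _ hsm Q
  have hIP : ∀ x ∈ I, x ∈ P.asIdeal := fun x hx => by
    show Ideal.Quotient.mk I x ∈ Q.asIdeal
    rw [Ideal.Quotient.eq_zero_iff_mem.2 hx]; exact zero_mem _
  have hfP : f ∈ P.asIdeal := hIP f (Ideal.subset_span ⟨0, rfl⟩)
  have hgP : g ∈ P.asIdeal := hIP g (Ideal.subset_span ⟨1, rfl⟩)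
  obtain ⟨h, hhP, hh⟩ := Ideal.IsPrime.exists_mem_prime_of_ne_bot P.isPrime
    (fun h0 => hf0 (by rw [h0] at hfP; exact hfP))
  haveI hprime : (Ideal.span {h}).IsPrime := (Ideal.span_singleton_prime hh.ne_zero).2 hh
  have hlt : (⟨Ideal.span {h}, hprime⟩ : PrimeSpectrum R3) < P := by
    refine lt_of_le_of_ne ((Ideal.span_singleton_le_iff_mem _).2 hhP) fun he => ?_
    have he' : Ideal.span {h} = P.asIdeal := congrArg PrimeSpectrum.asIdeal he
    rw [← he'] at hfP hgP
    exact hfg h hh (Ideal.mem_span_singleton.1 hfP) (Ideal.mem_span_singleton.1 hgP)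
  have hlt0 : (⟨⊥, Ideal.isPrime_bot⟩ : PrimeSpectrum R3) < ⟨Ideal.span {h}, hprime⟩ :=
    bot_lt_iff_ne_bot.2 (fun h0 => hh.ne_zero (Ideal.span_singleton_eq_bot.1 (congrArg PrimeSpectrum.asIdeal h0)))
  have h2 : 2 ≤ Order.height P := by
    have a := Order.height_add_one_le hlt0
    have b := Order.height_add_one_le hlt
    calc (2 : ℕ∞) = 0 + 1 + 1 := by norm_num
      _ ≤ _ := le_trans (add_le_add (le_trans (add_le_add zero_le le_rfl) a) le_rfl) b
  have h3 := Groth.Agent.VarDim.height_add_coheight_mvPolynomial k 3 P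
  have h4 : Order.coheight P ≤ 1 := by
    have h5 : (2 : ℕ∞) + Order.coheight P ≤ 2 + 1 := by
      calc (2 : ℕ∞) + Order.coheight P ≤ Order.height P + Order.coheight P := add_le_add h2 le_rfl
        _ = 2 + 1 := by rw [h3]; norm_num
    exact (ENat.add_le_add_iff_left (by simp)).1 h5
  exact WithBot.coe_le_coe.2 (h1.trans h4)

/-- Derivative at `x` in direction `v`. -/
noncomputable def dd (x v : Fin 3 → k) (P : R3) : k := ∑ i, v i * eval x (pderiv i P)

theorem dd_mul (x v : Fin 3 → k) (P Q : R3) :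
    dd x v (P * Q) = dd x v P * eval x Q + eval x P * dd x v Q := by
  simp only [dd, pderiv_mul, map_add, map_mul, Finset.sum_mul, Finset.mul_sum, ← Finset.sum_add_distrib]
  exact Finset.sum_congr rfl fun i _ => by ring

noncomputable def linForm (φ : (Fin 3 → k) →ₗ[k] k) : R3 :=
  ∑ i, C (φ (Pi.single i 1)) * X i

theorem eval_linForm (φ : (Fin 3 → k) →ₗ[k] k) (x : Fin 3 → k) : eval x (linForm φ) = φ x := by
  classical
  conv_rhs => rw [pi_eq_sum_univ' x]
  simp [linForm, map_sum, mul_comm]

theorem dd_linForm (φ : (Fin 3 → k) →ₗ[k] k) (x v : Fin 3 → k) : dd x v (linForm φ) = φ v := by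
  classical
  conv_rhs => rw [pi_eq_sum_univ' v]
  simp only [dd, linForm, map_sum, pderiv_C_mul, pderiv_X, map_mul, eval_C]
  refine Finset.sum_congr rfl fun i _ => ?_
  rw [Finset.sum_eq_single i (fun j _ hj => by simp [Pi.single_apply, hj]) (by simp)]
  simp [mul_comm]

theorem linForm_homogeneous (φ : (Fin 3 → k) →ₗ[k] k) : (linForm φ).IsHomogeneous 1 :=
  IsHomogeneous.sum _ _ _ fun i _ => (isHomogeneous_X k i).C_mul _

theorem card_le (f g : R3) (hf : f.IsHomogeneous 4) (hg : g.IsHomogeneous 3) (hf0 : f ≠ 0)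
    (hfg : ∀ h, Prime h → h ∣ f → ¬ h ∣ g)
    (t : Finset (Projectivization k (Fin 3 → k)))
    (ht : ∀ p ∈ t, eval p.rep f = 0 ∧ eval p.rep g = 0 ∧ ∀ i, eval p.rep (pderiv i f) = 0) :
    t.card ≤ 6 := by
  classical
  obtain ⟨m₀, hm₀⟩ := Groth.Agent.HilbBez17.hilbert_eq_prod (k := k) (n := 2) ![f, g] ![4, 3]
    (fun i => by fin_cases i <;> simp) (fun i => by fin_cases i <;> [exact hf; exact hg])
    (dim_le_one f g hf0 hfg)
  let s := t.card
  let x : t → (Fin 3 → k) := fun p => p.1.rep
  have hx0 : ∀ p, x p ≠ 0 := fun p => p.1.rep_nonzero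
  have hxne : ∀ p p', p ≠ p' → x p' ∉ Submodule.span k {x p} := by
    intro p p' hne hmem
    obtain ⟨c, hc⟩ := Submodule.mem_span_singleton.1 hmem
    refine hne (Subtype.ext ?_)
    have hc0 : c ≠ 0 := fun h0 => hx0 p' (by rw [← hc, h0, zero_smul])
    rw [← p.1.mk_rep, ← p'.1.mk_rep, Projectivization.mk_eq_mk_iff']
    exact ⟨c⁻¹, by rw [show p'.1.rep = c • p.1.rep from hc.symm, smul_smul, inv_mul_cancel₀ hc0, one_smul]⟩
  have hsep : ∀ p p', p ≠ p' → ∃ φ : (Fin 3 → k) →ₗ[k] k, φ (x p') ≠ 0 ∧ φ (x p) = 0 := by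
    intro p p' hne
    obtain ⟨φ, h1, h2⟩ := Submodule.exists_dual_map_eq_bot_of_notMem (hxne p p' hne) inferInstance
    refine ⟨φ, h1, ?_⟩
    have : φ (x p) ∈ (Submodule.span k {x p}).map φ :=
      Submodule.mem_map_of_mem (Submodule.mem_span_singleton_self _)
    rwa [h2, Submodule.mem_bot] at this
  have hdir : ∀ p, ∃ v : Fin 3 → k, dd (x p) v g = 0 ∧ v ∉ Submodule.span k {x p} := by
    intro p
    let Λ : (Fin 3 → k) →ₗ[k] k := Fintype.linearCombination k (fun i => eval (x p) (pderiv i g))
    by_contra hcon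
    push Not at hcon
    have hle : LinearMap.ker Λ ≤ Submodule.span k {x p} := fun v hv => hcon v (by
      rw [LinearMap.mem_ker] at hv
      rw [← hv]
      simp [dd, Λ, Fintype.linearCombination_apply])
    have h1 := Submodule.finrank_mono hle
    rw [finrank_span_singleton (hx0 p)] at h1
    have h2 := Λ.finrank_range_add_finrank_ker
    have h3 := Submodule.finrank_le (LinearMap.range Λ)
    rw [Module.finrank_self] at h3
    rw [Module.finrank_fintype_fun_eq_card, Fintype.card_fin] at h2
    omega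
  choose v hv1 hv2 using hdir
  have hM : ∀ p, ∃ φ : (Fin 3 → k) →ₗ[k] k, φ (x p) ≠ 0 := fun p => by
    obtain ⟨φ, h⟩ := Submodule.exists_dual_map_eq_bot_of_notMem
      (show x p ∉ (⊥ : Submodule k (Fin 3 → k)) from hx0 p) inferInstance
    exact ⟨φ, h.1⟩
  choose M hM using hM
  have hN : ∀ p, ∃ φ : (Fin 3 → k) →ₗ[k] k, φ (v p) ≠ 0 ∧ φ (x p) = 0 := fun p => by
    obtain ⟨φ, h1, h2⟩ := Submodule.exists_dual_map_eq_bot_of_notMem (hv2 p) inferInstance
    refine ⟨φ, h1, ?_⟩
    have : φ (x p) ∈ (Submodule.span k {x p}).map φ :=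
      Submodule.mem_map_of_mem (Submodule.mem_span_singleton_self _)
    rwa [h2, Submodule.mem_bot] at this
  choose N hN1 hN2 using hN
  choose φ hφ1 hφ2 using hsep
  let m := m₀ + 2 * s + 2
  let W := weightedHomogeneousSubmodule k (1 : Fin 3 → ℕ) m
  let T₀ : R3 →ₗ[k] (t → k × k) :=
    { toFun := fun P p => (eval (x p) P, dd (x p) (v p) P)
      map_add' := fun a b => funext fun p => by
        simp [dd, mul_add, Finset.sum_add_distrib]
      map_smul' := fun c a => funext fun p => by
        simp [dd, Finset.mul_sum, mul_left_comm, smul_eq_C_mul, pderiv_C_mul] }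
  let T := T₀.domRestrict W
  let A : t → R3 := fun p => ∏ p' : {p' // p' ≠ p},
    linForm (φ p'.1 p p'.2) * linForm (φ p'.1 p p'.2)
  have hA1 : ∀ p, eval (x p) (A p) ≠ 0 := fun p => by
    simp only [A, map_prod, map_mul, eval_linForm]
    exact Finset.prod_ne_zero_iff.2 fun p' _ => mul_ne_zero (hφ1 _ _ _) (hφ1 _ _ _)
  have hA0 : ∀ p q (Q : R3), q ≠ p →
      eval (x q) (A p * Q) = 0 ∧ dd (x q) (v q) (A p * Q) = 0 := by
    intro p q Q hne
    simp only [A]
    rw [← Finset.mul_prod_erase _ _ (Finset.mem_univ (⟨q, hne⟩ : {p' // p' ≠ p}))]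
    constructor
    · simp [eval_linForm, hφ2]
    · rw [mul_assoc, mul_assoc, dd_mul]
      simp [dd_mul, eval_linForm, hφ2]
  have hAdeg : ∀ p, (A p).IsHomogeneous (2 * (s - 1)) := fun p => by
    have h := IsHomogeneous.prod Finset.univ
      (fun p' : {p' // p' ≠ p} => linForm (φ p'.1 p p'.2) * linForm (φ p'.1 p p'.2)) (fun _ => 2)
      (fun p' _ => (linForm_homogeneous _).mul (linForm_homogeneous _))
    rw [Finset.sum_const, Finset.card_univ, smul_eq_mul, mul_comm] at h
    have hc : Fintype.card {p' // p' ≠ p} = s - 1 := by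
      rw [Fintype.card_subtype_compl, Fintype.card_subtype_eq, Fintype.card_coe]
    rw [hc] at h
    exact h
  have hsingle : ∀ p (a b : k), (Pi.single p (a, b) : t → k × k) ∈ LinearMap.range T := by
    intro p
    have hspos : 1 ≤ s := Finset.card_pos.2 ⟨p.1, p.2⟩
    let B1 : R3 := A p * linForm (M p) ^ (m - 2 * (s - 1))
    let B2 : R3 := A p * (linForm (N p) * linForm (M p) ^ (m - 2 * (s - 1) - 1))
    have hB1 : B1 ∈ W := by
      have := (hAdeg p).mul ((linForm_homogeneous (M p)).pow (m - 2 * (s - 1)))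
      rw [show 2 * (s - 1) + 1 * (m - 2 * (s - 1)) = m by omega] at this
      exact this
    have hB2 : B2 ∈ W := by
      have := (hAdeg p).mul ((linForm_homogeneous (N p)).mul
        ((linForm_homogeneous (M p)).pow (m - 2 * (s - 1) - 1)))
      rw [show 2 * (s - 1) + (1 + 1 * (m - 2 * (s - 1) - 1)) = m by omega] at this
      exact this
    have e2 : ∃ β : k, β ≠ 0 ∧ T ⟨B2, hB2⟩ = Pi.single p (0, β) := by
      refine ⟨eval (x p) (A p) * (N p (v p) * eval (x p) (linForm (M p) ^ (m - 2 * (s - 1) - 1))),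
        mul_ne_zero (hA1 p) (mul_ne_zero (hN1 p) (by simp [eval_linForm, hM p])), funext fun q => ?_⟩
      by_cases hq : q = p
      · subst hq
        rw [Pi.single_eq_same]
        show (eval (x q) B2, dd (x q) (v q) B2) = _
        simp [B2, dd_mul, eval_linForm, dd_linForm, hN2]
      · rw [Pi.single_eq_of_ne hq]
        exact Prod.ext (hA0 p q _ hq).1 (hA0 p q _ hq).2
    have e1 : ∃ α γ : k, α ≠ 0 ∧ T ⟨B1, hB1⟩ = Pi.single p (α, γ) := by
      refine ⟨eval (x p) B1, dd (x p) (v p) B1, ?_, funext fun q => ?_⟩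
      · simp [B1, eval_linForm, hA1 p, hM p]
      by_cases hq : q = p
      · subst hq
        rw [Pi.single_eq_same]
        rfl
      · rw [Pi.single_eq_of_ne hq]
        exact Prod.ext (hA0 p q _ hq).1 (hA0 p q _ hq).2
    obtain ⟨β, hβ, e2⟩ := e2
    obtain ⟨α, γ, hα, e1⟩ := e1
    intro a b
    refine ⟨(a / α) • ⟨B1, hB1⟩ + ((b - a / α * γ) / β) • ⟨B2, hB2⟩, ?_⟩
    rw [map_add, map_smul, map_smul, e1, e2, ← Pi.single_smul, ← Pi.single_smul, ← Pi.single_add]
    congr 1
    ext <;> simp <;> field_simp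
    ring
  have hrange : LinearMap.range T = ⊤ := by
    rw [eq_top_iff]
    intro y _
    rw [← Finset.univ_sum_single y]
    exact sum_mem fun p _ => hsingle p _ _
  let I := Ideal.span (Set.range ![f, g])
  haveI : Module.Finite k W := Groth.Agent.CIH28.finite_whs (F := k) (fun _ => one_pos) m
  have hker : I.restrictScalars k ⊓ W ≤ (LinearMap.ker T).map W.subtype := by
    rintro P ⟨hPI, hPW⟩
    refine ⟨⟨P, hPW⟩, ?_, rfl⟩
    refine funext fun p => ?_
    obtain ⟨hf1, hg1, hf2⟩ := ht p.1 p.2
    rw [SetLike.mem_coe, Submodule.restrictScalars_mem] at hPI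
    obtain ⟨c, hc⟩ := Ideal.mem_span_range_iff_exists_fun.1 hPI
    show (eval (x p) P, dd (x p) (v p) P) = (0, 0)
    rw [← hc, Fin.sum_univ_two]
    simp only [Matrix.cons_val_zero, Matrix.cons_val_one]
    have e1 : dd (x p) (v p) f = 0 := by
      simp only [dd]
      exact Finset.sum_eq_zero fun i _ => by rw [show eval (x p) (pderiv i f) = 0 from hf2 i, mul_zero]
    have e0 : eval (x p) f = 0 := hf1
    have e0' : eval (x p) g = 0 := hg1
    refine Prod.ext ?_ ?_
    · simp [e0, e0']
    · show dd (x p) (v p) (c 0 * f + c 1 * g) = 0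
      have : dd (x p) (v p) (c 0 * f + c 1 * g) = dd (x p) (v p) (c 0 * f) + dd (x p) (v p) (c 1 * g) := by
        simp [dd, mul_add, Finset.sum_add_distrib]
      rw [this, dd_mul, dd_mul, e0, e0', e1, hv1 p]
      simp
  have h1 := Submodule.finrank_mono hker
  rw [← (Submodule.equivMapOfInjective _ W.injective_subtype _).finrank_eq] at h1
  have h2 := T.finrank_range_add_finrank_ker
  rw [hrange, finrank_top, Module.finrank_pi_fintype] at h2
  simp only [Module.finrank_prod, Module.finrank_self, Finset.sum_const, Finset.card_univ,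
    Fintype.card_coe, smul_eq_mul] at h2
  have h3 := hm₀ m (by omega)
  rw [Groth.Agent.HilbBez17.finrank_piece (fun _ => one_pos)] at h3
  simp only [Fin.prod_univ_two, Matrix.cons_val_zero, Matrix.cons_val_one] at h3
  push_cast at h3
  change (Module.finrank k W : ℤ) - Module.finrank k ↥(I.restrictScalars k ⊓ W) = _ at h3
  omega

theorem main [IsAlgClosed k] (f : R3) (hf : f.IsHomogeneous 4) (hred : Squarefree f) :
    ∃ s : Finset (Projectivization k (Fin 3 → k)), s.card ≤ 6 ∧
      ∀ p : Projectivization k (Fin 3 → k),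
        eval p.rep f = 0 → (∀ i : Fin 3, eval p.rep (pderiv i f) = 0) → p ∈ s := by
  classical
  have hf0 : f ≠ 0 := hred.ne_zero
  obtain ⟨q, hq⟩ := exists_polar f hf0 hred
  let g := ∑ i, C (q i) * pderiv i f
  have hg : g.IsHomogeneous 3 := IsHomogeneous.sum _ _ _ fun i _ => (hf.pderiv).C_mul _
  let Sg : Set (Projectivization k (Fin 3 → k)) :=
    {p | eval p.rep f = 0 ∧ ∀ i, eval p.rep (pderiv i f) = 0}
  have key : ∀ t : Finset (Projectivization k (Fin 3 → k)), (t : Set _) ⊆ Sg → t.card ≤ 6 :=
    fun t ht => card_le f g hf hg hf0 hq t fun p hp =>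
      ⟨(ht hp).1, by simp [g, (ht hp).2], (ht hp).2⟩
  have hfin : Sg.Finite := by
    by_contra hinf
    obtain ⟨t, ht, hc⟩ := Set.Infinite.exists_subset_card_eq hinf 7
    have := key t ht
    omega
  exact ⟨hfin.toFinset, key _ (by simp), fun p h1 h2 => hfin.mem_toFinset.2 ⟨h1, h2⟩⟩

end Aux



/-- Over an algebraically closed field k, a reduced plane quartic — the zero locus in the projective
plane of a square-free homogeneous polynomial f of degree 4 in three variables — has at most 6
singular points, a singular point being a point of the projective plane at which f and its three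
first partial derivatives vanish. (No hypothesis on the characteristic of k is imposed here. The
further assertions describing the quartics with exactly 5 or exactly 6 singular points are not part
of this row.) -/
theorem result
    {k : Type u} [Field k] [IsAlgClosed k] (f : MvPolynomial (Fin 3) k)
    (hf : f.IsHomogeneous 4) (hred : Squarefree f) :
    ∃ s : Finset (Projectivization k (Fin 3 → k)), s.card ≤ 6 ∧
      ∀ p : Projectivization k (Fin 3 → k),
        MvPolynomial.eval p.rep f = 0 →
          (∀ i : Fin 3, MvPolynomial.eval p.rep (MvPolynomial.pderiv i f) = 0) → p ∈ s := by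
  exact main f hf hred

end Groth.Agent.S14312
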