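import Groth.Statements.S14314
import Groth.Agent.Lib.Ruled10.Trivial
import Groth.Agent.Lib.ExcTwist10.Basic
import Groth.Agent.Lib.AlgSpCartier.SchemeDescent
import Groth.Agent.Lib.EffCartier.Mul

set_option autoImplicit false
set_option maxHeartbeats 1000000
set_option linter.style.haveILetI false
set_option backward.isDefEq.respectTransparency false
set_option backward.isDefEq.respectTransparency.types false
universe u
open CategoryTheory CategoryTheory.Limits AlgebraicGeometry TopologicalSpace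
open Surf

namespace Groth.Agent.S14314

open TopologicalSpace Opposite
open Groth.Agent Groth.Agent.NumConn10
open Groth.Agent.NumPoly18 (ptIdeal)
open Groth.Agent.SymSq10 (sdot)
open Groth.Agent.SurfRR10 (ncl)

noncomputable local instance instLawCommon (Y : Scheme.{u}) : PicGrp.Law Y := M2.law Y


/-- Let k be an algebraically closed field, S a smooth projective surface over k (integral, proper and
smooth over k, of dimension 2), f : S → C a surjective k-morphism onto a smooth projective curve and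
F = f⁻¹(p) the fibre over a closed point p, with O_S(F) a tensor inverse of its ideal sheaf. Let
D_1, D_2 be numerically equivalent divisors (invertible modules L_1, L_2 with (L_1·Γ) = (L_2·Γ) for
every integral curve Γ ⊆ S, where (L·Γ) = χ(O_Γ ⊗ L) − χ(O_Γ)), μ_1 ≥ μ_2 rational numbers and Z_1,
Z_2 effective Cartier divisors with common part Z, that is Z_i = Z + Y_i with Z, Y_1, Y_2 effective
Cartier divisors and Y_1, Y_2 without common component (Y_1 ∩ Y_2 finite); in terms of ideal sheaves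
I_{Z_i} = I_Z · I_{Y_i}. If N_i = D_i − Z_i − μ_i F is nef for i = 1, 2, that is (D_i·Γ) +
(I_{Z_i}·Γ) − μ_i (F·Γ) ≥ 0 for every integral curve Γ, then N = D_2 − Z − μ_2 F is nef. (The
published statement is for the chapter's fibration over an algebraically closed field of positive
characteristic; this row asks only that f be surjective and allows any algebraically closed field.) -/
theorem result (k : Type u) [Field k] [IsAlgClosed k]
    (S : Scheme.{u}) [S.Over (Spec (CommRingCat.of k))] [IsProper (S ↘ (Spec (CommRingCat.of k)))]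
    [Smooth (S ↘ (Spec (CommRingCat.of k)))] [IsIntegral S] (hdim : topologicalKrullDim S = 2)
    (C : Scheme.{u}) [C.Over (Spec (CommRingCat.of k))] [IsProper (C ↘ (Spec (CommRingCat.of k)))]
    [Smooth (C ↘ (Spec (CommRingCat.of k)))] [IsIntegral C] (hdimC : topologicalKrullDim C = 1)
    (f : S ⟶ C) [f.IsOver (Spec (CommRingCat.of k))] [Surjective f]
    (p : C) (hp : IsClosed ({p} : Set C))
    (LF : S.Modules) (hLF : ClSub.IsInverseOf LF (ClSub.idealMod (f.fiberι p).ker))
    (L₁ L₂ : S.Modules) (hL₁ : PicF.IsInvertible L₁) (hL₂ : PicF.IsInvertible L₂)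
    (hnum : ∀ Γ : S.IdealSheafData, IsIntegral Γ.subscheme → topologicalKrullDim (Γ.support : Set S) = 1 →
      (Curv2.euler k S (CohB1.tensorMod (ClSub.quotMod Γ) L₁) - Curv2.euler k S (ClSub.quotMod Γ)) = (Curv2.euler k S (CohB1.tensorMod (ClSub.quotMod Γ) L₂) - Curv2.euler k S (ClSub.quotMod Γ)))
    (μ₁ μ₂ : ℚ) (hμ : μ₂ ≤ μ₁)
    (Z Y₁ Y₂ Z₁ Z₂ : S.IdealSheafData) (hZ : FGA.IsEffCartier Z) (hY₁ : FGA.IsEffCartier Y₁) (hY₂ : FGA.IsEffCartier Y₂)
    (hZ₁ : Z₁ = Z * Y₁) (hZ₂ : Z₂ = Z * Y₂) (hY : ((Y₁ ⊔ Y₂).support : Set S).Finite)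
    (hnef₁ : (∀ Γ : S.IdealSheafData, IsIntegral Γ.subscheme → topologicalKrullDim (Γ.support : Set S) = 1 →
      (0 : ℚ) ≤ ((Curv2.euler k S (CohB1.tensorMod (ClSub.quotMod Γ) L₁) - Curv2.euler k S (ClSub.quotMod Γ)) : ℚ) + ((Curv2.euler k S (CohB1.tensorMod (ClSub.quotMod Γ) (ClSub.idealMod Z₁)) - Curv2.euler k S (ClSub.quotMod Γ)) : ℚ)
        - μ₁ * ((Curv2.euler k S (CohB1.tensorMod (ClSub.quotMod Γ) LF) - Curv2.euler k S (ClSub.quotMod Γ)) : ℚ)))
    (hnef₂ : (∀ Γ : S.IdealSheafData, IsIntegral Γ.subscheme → topologicalKrullDim (Γ.support : Set S) = 1 →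
      (0 : ℚ) ≤ ((Curv2.euler k S (CohB1.tensorMod (ClSub.quotMod Γ) L₂) - Curv2.euler k S (ClSub.quotMod Γ)) : ℚ) + ((Curv2.euler k S (CohB1.tensorMod (ClSub.quotMod Γ) (ClSub.idealMod Z₂)) - Curv2.euler k S (ClSub.quotMod Γ)) : ℚ)
        - μ₂ * ((Curv2.euler k S (CohB1.tensorMod (ClSub.quotMod Γ) LF) - Curv2.euler k S (ClSub.quotMod Γ)) : ℚ))) :
    (∀ Γ : S.IdealSheafData, IsIntegral Γ.subscheme → topologicalKrullDim (Γ.support : Set S) = 1 →
      (0 : ℚ) ≤ ((Curv2.euler k S (CohB1.tensorMod (ClSub.quotMod Γ) L₂) - Curv2.euler k S (ClSub.quotMod Γ)) : ℚ) + ((Curv2.euler k S (CohB1.tensorMod (ClSub.quotMod Γ) (ClSub.idealMod Z)) - Curv2.euler k S (ClSub.quotMod Γ)) : ℚ)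
        - μ₂ * ((Curv2.euler k S (CohB1.tensorMod (ClSub.quotMod Γ) LF) - Curv2.euler k S (ClSub.quotMod Γ)) : ℚ)) := by
  classical
  intro Γ hΓ hΓ1
  haveI : IsNoetherian S := CohFound.isNoetherian_of_isProper (S ↘ Spec (CommRingCat.of k))
  haveI : IsNoetherian C := CohFound.isNoetherian_of_isProper (C ↘ Spec (CommRingCat.of k))
  have hf : f ≫ (C ↘ Spec (CommRingCat.of k)) = S ↘ Spec (CommRingCat.of k) := comp_over f _
  have hregC : ∀ x : C, IsRegularLocalRing (C.presheaf.stalk x) := SurfRR10.regular (k := k)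
  haveI : IsProper f := Ruled10.isProper_of_over f hf
  haveI : Flat f := Ruled10.flat_of_surj hdimC hregC f Surjective.surj
  obtain ⟨η, hη, rfl⟩ := ExcTwist10.exists_eq_ptIdeal Γ hΓ hΓ1
  have h1 := hnef₁ (ptIdeal η) hΓ hΓ1
  have h2 := hnef₂ (ptIdeal η) hΓ hΓ1
  have hn := hnum (ptIdeal η) hΓ hΓ1
  have hY₁' : BlowUp.IsEffCartierIdeal Y₁ := hY₁
  have hY₂' : BlowUp.IsEffCartierIdeal Y₂ := hY₂
  have hZ' : BlowUp.IsEffCartierIdeal Z := hZ
  subst hZ₁ hZ₂
  have e : ∀ {J : S.IdealSheafData} (hJ : BlowUp.IsEffCartierIdeal J),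
      ((Curv2.euler k S (CohB1.tensorMod (ClSub.quotMod (ptIdeal η)) (ClSub.idealMod J)) : ℚ) -
        (Curv2.euler k S (ClSub.quotMod (ptIdeal η)) : ℚ)) = (sdot k (ncl (k := k) hdim hη) (icl hJ) : ℚ) :=
    fun {J} hJ => by exact_mod_cast ExcTwist10.euler_sub_eq (k := k) hdim hη (M2.isInvertible_idealMod J hJ)
  have hm₁ := EffCartier.isEffCartierIdeal_mul hZ' hY₁'
  have hm₂ := EffCartier.isEffCartierIdeal_mul hZ' hY₂'
  rw [e hm₁, icl_mul hZ' hY₁' hm₁, SurfRR10.sdot_mul_right (k := k) hdim] at h1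
  rw [e hm₂, icl_mul hZ' hY₂' hm₂, SurfRR10.sdot_mul_right (k := k) hdim] at h2
  rw [e hZ']
  push_cast at h1 h2
  -- the fibre
  haveI : IsClosedImmersion (C.fromSpecResidueField p) := isClosed_singleton_iff_isClosedImmersion.1 hp
  have sq : IsPullback (f.fiberι p) (f.fiberToSpecResidueField p) f (C.fromSpecResidueField p) :=
    IsPullback.of_hasPullback _ _
  haveI : IsClosedImmersion (f.fiberι p) :=
    MorphismProperty.of_isPullback (P := @IsClosedImmersion) sq.flip inferInstance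
  have hker : (f.fiberι p).ker = (Scheme.IdealSheafData.vanishingIdeal ⟨{p}, hp⟩).comap f := by
    rw [← P1Bun1.ker_comap_of_isPullback sq]
    congr 1
    rw [SchImage.ker_eq_vanishingIdeal (C.fromSpecResidueField p)]
    congr 1
    refine Closeds.ext ?_
    show closure (Set.range (C.fromSpecResidueField p)) = ({p} : Set C)
    rw [Scheme.range_fromSpecResidueField, hp.closure_eq]
  have hPi := CurveCoh17.isInvertible_pointIdeal hdimC hregC hp
  have hPc : BlowUp.IsEffCartierIdeal (Scheme.IdealSheafData.vanishingIdeal (⟨{p}, hp⟩ : Closeds C)) :=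
    SecDiv.isEffCartierIdeal_of_isInvertible _ hPi
  have hFc := AlgSpCartier.isEffCartierIdeal_comap_of_flat f hPc
  obtain ⟨eF⟩ := ArInter.nonempty_pullback_idealMod f hPc hFc
  have hcl : icl hFc = PicGrp.cls _ (Twist.isInvertible_pullback f hPi) := (PicGrp.cls_eq_cls_iff _ _).2 ⟨eF.symm⟩
  obtain ⟨M, hM, ⟨eM⟩⟩ := M2.exists_inverse (M2.isInvertible_idealMod _ hFc)
  obtain ⟨eLF⟩ := hLF
  rw [hker] at eLF
  have hLFi : PicF.IsInvertible LF := M2.isInvertible_of_iso ((M2.tensorRUnit LF).symm ≪≫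
    M2.tensorIso (Iso.refl LF) eM.symm ≪≫ (M2.tensorAssoc _ _ _).symm ≪≫ M2.tensorIso eLF (Iso.refl M) ≪≫
    M2.tensorLUnit M).symm hM
  have hLFc : PicGrp.cls LF hLFi = (icl hFc)⁻¹ :=
    eq_inv_of_mul_eq_one_left ((PicGrp.cls_mul_cls_eq_one_iff hLFi (M2.isInvertible_idealMod _ hFc)).2 ⟨eLF⟩)
  have eF' : ((Curv2.euler k S (CohB1.tensorMod (ClSub.quotMod (ptIdeal η)) LF) : ℚ) -
      (Curv2.euler k S (ClSub.quotMod (ptIdeal η)) : ℚ)) = (sdot k (ncl (k := k) hdim hη) (PicGrp.cls LF hLFi) : ℚ) := by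
    exact_mod_cast ExcTwist10.euler_sub_eq (k := k) hdim hη hLFi
  have hFpos : 0 ≤ sdot k (ncl (k := k) hdim hη) (PicGrp.cls LF hLFi) := by
    rw [hLFc, SurfRR10.sdot_inv_right (k := k) hdim]
    by_cases hle : (Scheme.IdealSheafData.vanishingIdeal ⟨{p}, hp⟩).comap f ≤ ptIdeal η
    · have hmem : ∀ x, η ⤳ x → f x = p := fun x hx => by
        have hm : x ∈ (((Scheme.IdealSheafData.vanishingIdeal ⟨{p}, hp⟩).comap f).support : Set S) :=
          (Scheme.IdealSheafData.support_antitone hle) (by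
            show x ∈ ((ptIdeal η).support : Set S)
            rw [Scheme.IdealSheafData.coe_support_vanishingIdeal]
            exact specializes_iff_mem_closure.1 hx)
        rw [Scheme.IdealSheafData.support_comap] at hm
        simpa [Closeds.coe_preimage] using hm
      have h0 := sdot_pullback_eq_zero (k := k) hdim f hPi hη p hmem
      rw [ccl, Goodman10.cl'_eq (k := k) _ _ hη, ← hcl] at h0
      rw [show sdot k (ncl (k := k) hdim hη) (icl hFc) = 0 from h0, neg_zero]
    · have := sdot_icl_of_not_le (k := k) hdim hFc hη hle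
      linarith
  rw [eF'] at h1 h2 ⊢
  have hFq : (0 : ℚ) ≤ (sdot k (ncl (k := k) hdim hη) (PicGrp.cls LF hLFi) : ℚ) := by exact_mod_cast hFpos
  have hnq := congrArg (fun z : ℤ => (z : ℚ)) hn
  push_cast at hnq
  by_cases hA : Y₂ ≤ ptIdeal η
  · have hB : ¬ Y₁ ≤ ptIdeal η := fun hB => by
      have hsub : closure ({η} : Set S) ⊆ ((Y₁ ⊔ Y₂).support : Set S) := fun x hx => by
        refine (Scheme.IdealSheafData.support_antitone (sup_le hB hA)) ?_
        show x ∈ ((ptIdeal η).support : Set S)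
        rw [Scheme.IdealSheafData.coe_support_vanishingIdeal]
        exact hx
      haveI : JacobsonSpace S := LocallyOfFiniteType.jacobsonSpace (S ↘ Spec (CommRingCat.of k))
      have hne : ¬ IsClosed ({η} : Set S) := NumPoly18.not_isClosed_of_dim_one hη
      obtain ⟨c, hc, hcc⟩ := nonempty_inter_closedPoints (X := S) (Z := closure ({η} : Set S) \ (closure ({η} : Set S) ∩ closedPoints S))
        ⟨η, subset_closure rfl, fun h => hne h.2⟩ (by
          refine isClosed_closure.isLocallyClosed.inter (IsClosed.isOpen_compl (self := ?_)).isLocallyClosed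
          rw [show closure ({η} : Set S) ∩ closedPoints S = ⋃ x ∈ closure ({η} : Set S) ∩ closedPoints S, {x} from (Set.biUnion_of_singleton _).symm]
          exact ((hY.subset hsub).inter_of_left _).isClosed_biUnion fun x hx => hx.2)
      exact hc.2 ⟨hc.1, hcc⟩
    have h3 : (sdot k (ncl (k := k) hdim hη) (icl hY₁') : ℚ) ≤ 0 := by
      exact_mod_cast sdot_icl_of_not_le (k := k) hdim hY₁' hη hB
    nlinarith [mul_nonneg (sub_nonneg.2 hμ) hFq]
  · have h3 : (sdot k (ncl (k := k) hdim hη) (icl hY₂') : ℚ) ≤ 0 := by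
      exact_mod_cast sdot_icl_of_not_le (k := k) hdim hY₂' hη hA
    linarith

end Groth.Agent.S14314
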