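import Groth.Statements.S14315
import Groth.Agent.Lib.KS29.FibSurf
-- import your own Groth.Agent.* helpers here

set_option autoImplicit false
universe u
open CategoryTheory CategoryTheory.Limits AlgebraicGeometry TopologicalSpace
open Surf

namespace Groth.Agent.S14315

/-- Let k be an algebraically closed field, S a smooth projective surface over k (integral, proper and
smooth over k, of dimension 2), f : S → C a surjective k-morphism onto a smooth projective curve C
(integral, proper and smooth over k, of dimension 1), and ψ : C' → C a finite k-morphism from
another smooth projective curve C' which is unramified at every point of C' lying over a point of C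
whose fibre of f is not smooth. Then S ×_C C' is smooth over k. (The published statement takes ψ
separable and f the chapter's generically smooth semi-stable fibration with connected fibres over an
algebraically closed field of positive characteristic; this row assumes only f surjective and ψ
finite, over any algebraically closed field.) -/
theorem result (k : Type u) [Field k] [IsAlgClosed k]
    (S : Scheme.{u}) [S.Over (Spec (CommRingCat.of k))] [IsProper (S ↘ (Spec (CommRingCat.of k)))]
    [Smooth (S ↘ (Spec (CommRingCat.of k)))] [IsIntegral S] (hdim : topologicalKrullDim S = 2)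
    (C : Scheme.{u}) [C.Over (Spec (CommRingCat.of k))] [IsProper (C ↘ (Spec (CommRingCat.of k)))]
    [Smooth (C ↘ (Spec (CommRingCat.of k)))] [IsIntegral C] (hdimC : topologicalKrullDim C = 1)
    (f : S ⟶ C) [f.IsOver (Spec (CommRingCat.of k))] [Surjective f]
    (C' : Scheme.{u}) [C'.Over (Spec (CommRingCat.of k))] [IsProper (C' ↘ (Spec (CommRingCat.of k)))]
    [Smooth (C' ↘ (Spec (CommRingCat.of k)))] [IsIntegral C'] (hdimC' : topologicalKrullDim C' = 1)
    (ψ : C' ⟶ C) [ψ.IsOver (Spec (CommRingCat.of k))] [IsFinite ψ]
    (hψ : ∀ c : C', ¬ Smooth (f.fiberToSpecResidueField (ψ.base c)) →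
      ∃ U : C'.Opens, c ∈ U ∧ FormallyUnramified (U.ι ≫ ψ)) :
    Smooth (pullback.snd f ψ ≫ (C' ↘ (Spec (CommRingCat.of k)))) := by
  exact Groth.Agent.KS29.FibSurf.smooth_pullback (S ↘ Spec (CommRingCat.of k)) (C ↘ Spec (CommRingCat.of k))
    (C' ↘ Spec (CommRingCat.of k)) hdimC hdimC' f (by simp) ψ (by simp) hψ

end Groth.Agent.S14315
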