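import Groth.Statements.S1432
import Mathlib.AlgebraicGeometry.Morphisms.ClosedImmersion
import Mathlib.AlgebraicGeometry.Limits

set_option autoImplicit false
universe u
open FlatMor

set_option backward.isDefEq.respectTransparency.types false

namespace Groth.Agent.S1432


open AlgebraicGeometry CategoryTheory Limits

def HasLift {X Y : Scheme.{u}} (f : X ⟶ Y) : Prop :=
  ∀ (A B : Type u) [CommRing A] [CommRing B] (φ : A →+* B), Function.Injective φ →
      ∀ (a : Spec (CommRingCat.of B) ⟶ X) (b : Spec (CommRingCat.of A) ⟶ Y), Spec.map (CommRingCat.ofHom φ) ≫ b = a ≫ f →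
        ∃ l : Spec (CommRingCat.of A) ⟶ X, Spec.map (CommRingCat.ofHom φ) ≫ l = a ∧ l ≫ f = b

lemma hasLift_of_isClosedImmersion {X Y : Scheme.{u}} (f : X ⟶ Y) [IsClosedImmersion f] : HasLift f := by
  intro A B _ _ φ hφ a b h
  let i := pullback.snd f b
  let s := pullback.lift a (Spec.map (CommRingCat.ofHom φ)) h.symm
  have : IsIso i := by
    apply IsClosedImmersion.isIso_of_injective_of_isAffine
    have e : s ≫ i = Spec.map (CommRingCat.ofHom φ) := pullback.lift_snd ..
    have hinj : Function.Injective (Spec.map (CommRingCat.ofHom φ)).appTop := by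
      have := (ConcreteCategory.bijective_of_isIso (Scheme.ΓSpecIso (CommRingCat.of B)).inv).1.comp
        ((hφ).comp (ConcreteCategory.bijective_of_isIso (Scheme.ΓSpecIso (CommRingCat.of A)).hom).1)
      have e : (Scheme.ΓSpecIso _).hom ≫ CommRingCat.ofHom φ ≫ (Scheme.ΓSpecIso _).inv =
        (Spec.map (CommRingCat.ofHom φ)).appTop := by simp [Scheme.ΓSpecIso_inv_naturality]
      rw [← e]; exact this
    intro x y hxy
    apply hinj
    rw [← e, Scheme.Hom.comp_appTop]
    exact congrArg s.appTop hxy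
  refine ⟨inv i ≫ pullback.fst f b, ?_, by simp [i, pullback.condition]⟩
  have : Spec.map (CommRingCat.ofHom φ) = s ≫ i := (pullback.lift_snd ..).symm
  rw [this]; simp only [s, i, Category.assoc, IsIso.hom_inv_id_assoc]; exact pullback.lift_fst ..

lemma mono_of_hasLift {X Y : Scheme.{u}} (f : X ⟶ Y) (H : HasLift f) : Mono f := by
  refine ⟨fun {T} g h e => T.affineCover.hom_ext _ _ fun j => ?_⟩
  suffices ∀ (R : CommRingCat.{u}) (g h : Spec R ⟶ X), g ≫ f = h ≫ f → g = h by
    exact this _ _ _ ((Category.assoc ..).trans ((congrArg _ e).trans (Category.assoc ..).symm))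
  intro R g h e
  let δ : R →+* R × R := RingHom.prod (RingHom.id R) (RingHom.id R)
  let a : Spec (CommRingCat.of (R × R)) ⟶ X := inv (coprodSpec R R) ≫ coprod.desc g h
  have hl : coprod.inl ≫ coprodSpec R R ≫ Spec.map (CommRingCat.ofHom δ) = 𝟙 (Spec R) := by
    rw [coprodSpec_inl_assoc, ← Spec.map_comp, ← Spec.map_id]; congr 1
  have hr : coprod.inr ≫ coprodSpec R R ≫ Spec.map (CommRingCat.ofHom δ) = 𝟙 (Spec R) := by
    rw [coprodSpec_inr_assoc, ← Spec.map_comp, ← Spec.map_id]; congr 1
  obtain ⟨l, hl', -⟩ := H R (R × R) δ (fun x y hxy => congrArg Prod.fst hxy) a (g ≫ f) (by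
    rw [← cancel_epi (coprodSpec R R)]
    apply coprod.hom_ext
    · rw [reassoc_of% hl]; simp [a, e]; exact (Category.id_comp _).trans (coprod.inl_desc _ _).symm
    · rw [reassoc_of% hr]; simp [a, e]; exact (Category.id_comp _).trans (coprod.inr_desc _ _).symm)
  have e1 := congrArg (fun m => coprod.inl ≫ coprodSpec R R ≫ m) hl'
  have e2 := congrArg (fun m => coprod.inr ≫ coprodSpec R R ≫ m) hl'
  rw [reassoc_of% hl] at e1
  rw [reassoc_of% hr] at e2
  rw [show coprod.inl ≫ coprodSpec R R ≫ a = coprod.inl ≫ coprod.desc g h by simp only [a, IsIso.hom_inv_id_assoc]; rfl] at e1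
  rw [show coprod.inr ≫ coprodSpec R R ≫ a = coprod.inr ≫ coprod.desc g h by simp only [a, IsIso.hom_inv_id_assoc]; rfl] at e2
  exact ((e1.trans (coprod.inl_desc _ _)).symm.trans (Category.id_comp _)).trans
    ((Category.id_comp _).symm.trans (e2.trans (coprod.inr_desc _ _)))

lemma isClosedImmersion_of_affine {X : Scheme.{u}} {R : CommRingCat.{u}} (f : X ⟶ Spec R) [QuasiCompact f]
    (H : HasLift f) : IsClosedImmersion f := by
  have := mono_of_hasLift f H
  have : CompactSpace X := QuasiCompact.compactSpace_of_compactSpace f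
  let 𝒰 := X.affineCover.finiteSubcover
  let W := ∐ 𝒰.X
  have : IsAffine W := inferInstance
  let p : Spec Γ(W, ⊤) ⟶ X := W.isoSpec.inv ≫ Sigma.desc 𝒰.f
  obtain ⟨ψ, hψ⟩ := Spec.map_surjective (p ≫ f)
  let ρ := Ideal.Quotient.mk (RingHom.ker ψ.hom)
  let φ := RingHom.kerLift ψ.hom
  have hfac : Spec.map (CommRingCat.ofHom φ) ≫ Spec.map (CommRingCat.ofHom ρ) = p ≫ f := by
    rw [← Spec.map_comp, ← hψ]; congr 1
  obtain ⟨l, hl, hl'⟩ := H _ _ φ (RingHom.kerLift_injective _) p (Spec.map (CommRingCat.ofHom ρ)) hfac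
  let i := Spec.map (CommRingCat.ofHom ρ)
  have : IsClosedImmersion i := IsClosedImmersion.spec_of_surjective _ Ideal.Quotient.mk_surjective
  let c : ∀ j, 𝒰.X j ⟶ _ := fun j => Sigma.ι 𝒰.X j ≫ W.isoSpec.hom ≫ Spec.map (CommRingCat.ofHom φ)
  have hc : ∀ j, c j ≫ i = 𝒰.f j ≫ f := fun j => by
    simp only [c, i, Category.assoc, hfac, p]; simp
  let g := 𝒰.glueMorphisms c (fun x y => by
    rw [← cancel_mono i]; simp [hc, pullback.condition_assoc])
  have hg : g ≫ i = f := 𝒰.hom_ext _ _ fun j => by simp [g, hc]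
  have : IsIso g := ⟨l, by rw [← cancel_mono f, Category.assoc, hl', hg, Category.id_comp],
    by rw [← cancel_mono i, Category.assoc, hg, hl', Category.id_comp]⟩
  rw [← hg]; infer_instance


open AlgebraicGeometry CategoryTheory Limits in
/-- For a quasi-compact morphism f : X → Y, being a closed immersion is equivalent to the following
lifting property: for each injective ring map A → B and each commutative square with Spec B → X on
top and Spec A → Y at the bottom there is a lift Spec A → X making both triangles commute. -/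
theorem result {X Y : Scheme.{u}} (f : X ⟶ Y) [QuasiCompact f] :
    IsClosedImmersion f ↔ ∀ (A B : Type u) [CommRing A] [CommRing B] (φ : A →+* B), Function.Injective φ →
      ∀ (a : Spec (CommRingCat.of B) ⟶ X) (b : Spec (CommRingCat.of A) ⟶ Y), Spec.map (CommRingCat.ofHom φ) ≫ b = a ≫ f →
        ∃ l : Spec (CommRingCat.of A) ⟶ X, Spec.map (CommRingCat.ofHom φ) ≫ l = a ∧ l ≫ f = b := by
  refine ⟨fun _ => hasLift_of_isClosedImmersion f, fun H => ?_⟩
  rw [IsZariskiLocalAtTarget.iff_of_openCover (P := @IsClosedImmersion) Y.affineCover]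
  intro j
  apply @isClosedImmersion_of_affine _ _ _ (MorphismProperty.IsStableUnderBaseChange.of_isPullback (P := @QuasiCompact) (IsPullback.of_hasPullback f (Y.affineCover.f j)) inferInstance)
  intro A B _ _ φ hφ a b h
  obtain ⟨l, hl, hl'⟩ := H A B φ hφ (a ≫ pullback.fst _ _) (b ≫ Y.affineCover.f j)
    (by rw [reassoc_of% h, Category.assoc, pullback.condition]; rfl)
  refine ⟨pullback.lift l b hl', pullback.hom_ext ?_ ?_, pullback.lift_snd ..⟩
  · exact (congrArg (Spec.map (CommRingCat.ofHom φ) ≫ ·) (pullback.lift_fst ..)).trans hl |>.trans rfl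
  · simp only [Category.assoc, pullback.lift_snd]; exact h

end Groth.Agent.S1432
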