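import Groth.Statements.S1699
import Groth.Agent.Lib.WeakAss18.Basic
import Groth.Agent.Lib.EffCartier.Basic

set_option autoImplicit false
universe u
open CategoryTheory CategoryTheory.Limits AlgebraicGeometry TopologicalSpace
open SDiv

namespace Groth.Agent.S1699

/-- (1) if and only if (3): let X be a locally Noetherian scheme and U an open subscheme. Then U is
scheme-theoretically dense in X if and only if U contains every associated point of X (every point
whose local ring has its maximal ideal as an associated prime). -/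
theorem result (X : Scheme.{u}) [IsLocallyNoetherian X] (U : X.Opens) :
    CInt.IsSchematicallyDense U ↔ ∀ x : ↥X, IsAssociatedPrime (IsLocalRing.maximalIdeal ↑(X.presheaf.stalk x)) ↑(X.presheaf.stalk x) → x ∈ U := by
  haveI := Groth.Agent.M1.isQCoh_structureModule X
  constructor
  · intro hd y hy'
    have hy2 : Curv2.IsWeakAssPoint (Coh.structureModule X) y := by
      obtain ⟨-, m, hm⟩ := hy'
      obtain ⟨W, hxW, s, hs⟩ := X.presheaf.exists_germ_eq m
      refine ⟨(Coh.structureModule X).presheaf.germ W y hxW s, ?_⟩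
      have e : Groth.Agent.WA.annStalk ((Coh.structureModule X).presheaf.germ W y hxW s) =
          Submodule.colon (⊥ : Submodule (X.presheaf.stalk y) (X.presheaf.stalk y)) {m} := by
        ext c
        rw [Groth.Agent.WA.mem_annStalk, Submodule.mem_colon_singleton, Submodule.mem_bot, smul_eq_mul, ← hs]
        obtain ⟨W', hxW', c', rfl⟩ := X.presheaf.exists_germ_eq c
        rw [← X.presheaf.germ_res_apply (homOfLE (inf_le_left : W' ⊓ W ≤ W')) y ⟨hxW', hxW⟩ c',
          ← X.presheaf.germ_res_apply (homOfLE (inf_le_right : W' ⊓ W ≤ W)) y ⟨hxW', hxW⟩ s,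
          ← (Coh.structureModule X).presheaf.germ_res_apply (homOfLE (inf_le_right : W' ⊓ W ≤ W)) y ⟨hxW', hxW⟩ s,
          ← Groth.Agent.M1.germ_smul, ← map_mul]
        exact Groth.Agent.WA.germ_O_eq_zero_iff _ _
      exact (congrArg Ideal.radical e).trans hm.symm
    by_contra hyU
    obtain ⟨W, hW, hyW, -⟩ := exists_isAffineOpen_mem_and_subset (U := (⊤ : X.Opens)) (x := y) trivial
    haveI : IsNoetherianRing Γ(X, W) := IsLocallyNoetherian.component_noetherian ⟨W, hW⟩
    obtain ⟨t, ht, hp⟩ := Groth.Agent.WA.exists_section_weakAss (F := Coh.structureModule X) hW hyW hy2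
    refine ht ((Groth.Agent.WA.germ_O_eq_zero_iff hyW t).mpr ?_)
    have h0 : (show Γ(X, W) from t) = 0 := by
      refine hd W ?_
      rw [map_zero]
      refine TopCat.Presheaf.section_ext X.sheaf _ _ 0 fun w hw => ?_
      change X.presheaf.germ _ w hw _ = X.presheaf.germ _ w hw 0
      rw [map_zero, TopCat.Presheaf.germ_res_apply]
      by_cases hle : (hW.primeIdealOf ⟨y, hyW⟩).asIdeal ≤ (hW.primeIdealOf ⟨w, hw.1⟩).asIdeal
      · have h1 := ((PrimeSpectrum.le_iff_specializes _ _).mp hle).map hW.fromSpec.continuous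
        rw [hW.fromSpec_primeIdealOf ⟨y, hyW⟩, hW.fromSpec_primeIdealOf ⟨w, hw.1⟩] at h1
        exact absurd (h1.mem_open U.isOpen hw.2) hyU
      · obtain ⟨a, ha, haw⟩ := Set.not_subset.mp hle
        rw [SetLike.mem_coe, hp] at ha
        obtain ⟨n, hn⟩ := ha
        rw [Submodule.mem_colon_singleton, Submodule.mem_bot] at hn
        have h2 : X.presheaf.germ W w hw.1 (a ^ n * (show Γ(X, W) from t)) = 0 := by
          rw [show a ^ n * (show Γ(X, W) from t) = 0 from hn, map_zero]
        rw [map_mul, map_pow] at h2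
        exact ((((Groth.Agent.M1.isUnit_germ_iff hW hw.1 a).mpr haw).pow n).mul_right_eq_zero).mp h2
    rw [h0, map_zero]
  · intro hU V
    refine Groth.Agent.WA.res_injective (F := Coh.structureModule X) inf_le_left fun x hxV hwa => ⟨hxV, hU x ?_⟩
    obtain ⟨m, hm⟩ := hwa
    obtain ⟨W, hxW, s, hs⟩ := (Coh.structureModule X).presheaf.exists_germ_eq m
    refine ⟨inferInstance, X.presheaf.germ W x hxW s, ?_⟩
    have e : Groth.Agent.WA.annStalk m =
        Submodule.colon (⊥ : Submodule (X.presheaf.stalk x) (X.presheaf.stalk x)) {X.presheaf.germ W x hxW s} := by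
      ext c
      rw [Groth.Agent.WA.mem_annStalk, Submodule.mem_colon_singleton, Submodule.mem_bot, smul_eq_mul, ← hs]
      obtain ⟨W', hxW', c', rfl⟩ := X.presheaf.exists_germ_eq c
      rw [← X.presheaf.germ_res_apply (homOfLE (inf_le_left : W' ⊓ W ≤ W')) x ⟨hxW', hxW⟩ c',
        ← X.presheaf.germ_res_apply (homOfLE (inf_le_right : W' ⊓ W ≤ W)) x ⟨hxW', hxW⟩ s,
        ← (Coh.structureModule X).presheaf.germ_res_apply (homOfLE (inf_le_right : W' ⊓ W ≤ W)) x ⟨hxW', hxW⟩ s,
        ← Groth.Agent.M1.germ_smul, ← map_mul]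
      exact Groth.Agent.WA.germ_O_eq_zero_iff _ _
    exact hm.symm.trans (congrArg Ideal.radical e)

end Groth.Agent.S1699
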