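import Groth.Statements.S14330
import Groth.Agent.Lib.DepthAlong11.FlatExtend
import Groth.Agent.S5091
import Groth.Agent.Lib.KFlat.LpullPC
import Groth.Agent.Lib.FlatDepth.FibreStalk
import Groth.Agent.Lib.TensorMod.Invertible

set_option autoImplicit false
set_option backward.isDefEq.respectTransparency.types false
universe u
open CategoryTheory CategoryTheory.Limits AlgebraicGeometry Opposite
open GrpSch

namespace Groth.Agent.S14330

open DepthAlong11 in
theorem hasSlice_of_depth {X : Scheme.{u}} [IsLocallyNoetherian X] (H : X.Modules) [Coh.IsQCoh H]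
    (hH : Coh.IsCoh H) (W : X.Opens)
    (h : ∀ z : X, z ∉ W → (1 : ℕ∞) ≤ LocCoh.depth (X.presheaf.stalk z) (H.presheaf.stalk z)) :
    HasSlice H W := by
  intro z hz
  obtain ⟨U, hU, hzU, -⟩ := exists_isAffineOpen_mem_and_subset (x := z) (U := (⊤ : X.Opens)) trivial
  haveI : IsNoetherianRing Γ(X, U) := IsLocallyNoetherian.component_noetherian ⟨U, hU⟩
  haveI : Module.Finite Γ(X, U) Γ(H, U) := M1.finite_sections hH.1 hH.2 hU
  obtain ⟨J, hJ⟩ := (PrimeSpectrum.isClosed_iff_zeroLocus_ideal _).1
    (W.2.isClosed_compl.preimage hU.fromSpec.continuous)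
  have hJY : ∀ p : PrimeSpectrum Γ(X, U), J ≤ p.asIdeal ↔ hU.fromSpec p ∉ W := fun p =>
    (Set.ext_iff.1 hJ p).symm
  obtain ⟨a, haJ, ha⟩ := exists_mem_forall_isSMulRegular Γ(H, U) J fun p hp => by
    rw [← depth_stalk_fromSpec H hU p]; exact h _ ((hJY p).1 hp)
  refine ⟨U, hU, hzU, a, fun w hw => ?_, fun w hw => ?_⟩
  · by_contra hwW
    have hwU : w ∈ U := X.basicOpen_le a hw
    exact (M1.isUnit_germ_iff hU hwU a).1 ((X.mem_basicOpen a w hwU).1 hw)
      ((hJY _).2 (by rw [hU.fromSpec_primeIdealOf]; exact hwW) haJ)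
  · letI := M1.stalkModule H hw
    haveI := M1.isLocalizedModule_germ H hU hw
    have h1 := ((IsLocalizedModule.iso _ (M1.germₗ H hw)).isSMulRegular_congr a).1 (ha (hU.primeIdealOf ⟨w, hw⟩))
    exact fun x y hxy => h1 hxy

open DepthAlong11 in
theorem hasSlice_of_flat {X : Scheme.{u}} {W : X.Opens} (h : HasSlice (Coh.structureModule X) W) (A : X.Modules)
    (hA : FlatMod.IsFlat A) : HasSlice A W := by
  intro z hz
  obtain ⟨V, hV, hzV, a, haW, ha⟩ := h z hz
  refine ⟨V, hV, hzV, a, haW, fun w hw => ?_⟩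
  haveI : Module.Flat (X.presheaf.stalk w) (A.presheaf.stalk w : Type u) := hA w
  exact isSMulRegular_of_flat _ (((RH26.str (X := X) w).isSMulRegular_congr _).2 (ha w hw))


/-- Let S be a locally Noetherian scheme, f : A → S a smooth morphism, L an invertible O_A-module and V
an open subscheme of S; for an open W of S consider the restriction of sections of L from f⁻¹(W) to
f⁻¹(W) ∩ f⁻¹(V), that is the component over W of the natural map f_*L → j_*j^*(f_*L), j : V → S the
inclusion. If V is schematically dense in S, all these restrictions are injective. If V is a big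
open of S, meaning that the local ring of S at every point outside V has depth at least 2, all these
restrictions are bijective. (The published statement is for a semi-stable group scheme A; its proof
uses only the smoothness of A over S and the local freeness of L, which are the hypotheses kept
here.) -/
theorem result {S A : Scheme.{u}} [IsLocallyNoetherian S]
    (f : A ⟶ S) [Smooth f] (L : A.Modules) (hL : PicF.IsInvertible L) (V : S.Opens) :
    (CInt.IsSchematicallyDense V →
      ∀ W : S.Opens, Function.Injective (L.val.map (homOfLE (inf_le_left : f ⁻¹ᵁ W ⊓ f ⁻¹ᵁ V ≤ f ⁻¹ᵁ W)).op)) ∧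
    ((∀ x : S, x ∉ V → 2 ≤ LocCoh.depth (S.presheaf.stalk x) (S.presheaf.stalk x)) →
      ∀ W : S.Opens, Function.Bijective (L.val.map (homOfLE (inf_le_left : f ⁻¹ᵁ W ⊓ f ⁻¹ᵁ V ≤ f ⁻¹ᵁ W)).op)) := by
  haveI : IsLocallyNoetherian A := LocallyOfFiniteType.isLocallyNoetherian f
  haveI : Coh.IsQCoh (Coh.structureModule A) := M1.isQCoh_structureModule A
  have hF := M2.isFinLocFree_of_isInvertible hL
  haveI : Coh.IsQCoh L := M1.isFP_isQCoh (M1.isFP_of_isFinLocFree hF)
  have hflat := KFlat.Sch.isFlat_of_isFinLocFree hF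
  have hdep : ∀ (n : ℕ∞) (a : A), n ≤ LocCoh.depth (S.presheaf.stalk (f a)) (S.presheaf.stalk (f a)) →
      n ≤ LocCoh.depth (A.presheaf.stalk a) ((Coh.structureModule A).presheaf.stalk a) := fun n a h => by
    rw [show LocCoh.depth (A.presheaf.stalk a) ((Coh.structureModule A).presheaf.stalk a) =
        LocCoh.depth (A.presheaf.stalk a) (A.presheaf.stalk a) from
      (DepthLib.idealDepth_congr (RH26.str (X := A) a)).symm, (FlatDepth.stalk_invariants f a).1]
    exact h.trans (self_le_add_right _ _)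
  have hle : ∀ W : S.Opens, f ⁻¹ᵁ V ⊓ f ⁻¹ᵁ W ≤ f ⁻¹ᵁ W ⊓ f ⁻¹ᵁ V := fun W => (inf_comm _ _).le
  refine ⟨fun hV W => ?_, fun hV W => ?_⟩
  · refine DepthAlong11.mres_injective_of_hasSlice (W := f ⁻¹ᵁ V) (hasSlice_of_flat (hasSlice_of_depth _
      (M1.isCoh_structureModule A) _ fun a ha => hdep 1 a ((S5091.result S V).1 hV (f a) ha)) L hflat) _ (hle W)
  · exact DepthAlong11.mres_bijective_of_hasSlicePair (W := f ⁻¹ᵁ V) (DepthAlong11.hasSlicePair_of_flat
      (DepthAlong11.hasSlicePair_of_depth _ (M1.isCoh_structureModule A) _ fun a ha => hdep 2 a (hV (f a) ha))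
      L hflat) _ (hle W)


end Groth.Agent.S14330
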