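import Groth.Statements.S14334
import Groth.Agent.Lib.CIProj14.Van
import Groth.Agent.S7856
import Groth.Agent.Lib.Twist.GlobalProjSpace

set_option autoImplicit false
universe u
open CategoryTheory CategoryTheory.Limits AlgebraicGeometry
open Coherent

namespace Groth.Agent.S14334

/-- Let k be a field, r ≤ n, and G_1, …, G_r homogeneous forms of positive degrees in the homogeneous
coordinates of P = P^n_k whose common zero scheme X = V(G_1, …, G_r), with its closed immersion ι :
X → P, has dimension n − r, so that X is a global complete intersection in P. Assume n − r ≥ 1. Then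
X is geometrically connected over k: for every field K and every morphism Spec K → Spec k, the base
change X ×_{Spec k} Spec K is a connected (in particular nonempty) topological space; in particular
X itself is connected. The structure morphism of X is written as ι followed by the structure
morphism of P. -/
theorem result (k : Type u) [Field k] (n r : ℕ) (hr : r ≤ n) (a : Fin r → ℕ) (ha : ∀ j, 1 ≤ a j) (G : ∀ j : Fin r, LefPen.Form n k (a j)) (hdim : topologicalKrullDim ↥(LefPen.ciIdeal G).subscheme = ((n - r : ℕ) : WithBot ℕ∞)) (h1 : 1 ≤ n - r) : GeometricallyConnected ((LefPen.ciIdeal G).subschemeι ≫ CohB1.ProjSpace.toSpec n k) := by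
  have hsurj := (Groth.Agent.CIProj14.good_ciIdeal r a G ha hr hdim.le).surj h1 0
  let ι := (LefPen.ciIdeal G).subschemeι
  haveI : IsProper (CohB1.ProjSpace.toSpec n k) := Groth.Agent.ProjSpace.isProper_toSpec n k
  let φ : k →+* Γ((LefPen.ciIdeal G).subscheme, ⊤) :=
    (ι ≫ CohB1.ProjSpace.toSpec n k).appTop.hom.comp (Scheme.ΓSpecIso (CommRingCat.of k)).inv.hom
  have hφ : Function.Surjective φ := by
    intro s
    let g : Γ(Twist.twistProjSpace n k 0, (⊤ : (CohB1.ProjSpace n k).Opens)) :=
      Groth.Agent.Twist.frac (CohB1.polyGrading n k) ⊤ (n := 0) (SetLike.one_mem_graded _) (SetLike.one_mem_graded _)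
        (by simp) (fun x _ => Groth.Agent.Twist.one_notMem_prime _ x)
    have hg : Groth.Agent.Twist.IsGen (Twist.twistProjSpace n k 0) ⊤ g := fun W hW =>
      Groth.Agent.Twist.bijective_smul_of_inverse (𝒜 := CohB1.polyGrading n k) (n := 0)
        (Groth.Agent.Twist.frac (CohB1.polyGrading n k) ⊤ (n := 0) (SetLike.one_mem_graded _) (SetLike.one_mem_graded _)
          (by simp) (fun x _ => Groth.Agent.Twist.one_notMem_prime _ x))
        (Groth.Agent.Twist.castSec neg_zero.symm
          (Groth.Agent.Twist.frac (CohB1.polyGrading n k) ⊤ (n := 0) (SetLike.one_mem_graded _) (SetLike.one_mem_graded _)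
            (by simp) (fun x _ => Groth.Agent.Twist.one_notMem_prime _ x)))
        (fun x hx => by
          rw [Groth.Agent.Twist.val_castSec]
          exact Groth.Agent.Twist.mk_mul_mk_eq_one _ _ _) W hW
    have hgp := hg.pullback ι
    let p := Groth.Agent.M2.pullSec ι (Twist.twistProjSpace n k 0) g
    obtain ⟨u, hu⟩ := hsurj ((show Γ((LefPen.ciIdeal G).subscheme, ι ⁻¹ᵁ ⊤) from s) • p)
    obtain ⟨c, hc⟩ := (hg ⊤ le_rfl).2 u
    have h1 : u = c • g := by
      refine hc.symm.trans ?_
      exact congrArg (c • ·) (Groth.Agent.M1.mres_id _ _ _)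
    rw [h1, Groth.Agent.M2.pullSec_smul] at hu
    have h2 : ι.app ⊤ c = s := (hgp (ι ⁻¹ᵁ ⊤) le_rfl).1 (by
      show _ • Groth.Agent.M1.mres _ _ p = _ • Groth.Agent.M1.mres _ _ p
      rw [Groth.Agent.M1.mres_id]
      exact hu)
    obtain ⟨d, hd⟩ := (Groth.Agent.Twist.bijective_toSpec_appTop (n := n) (R := k)).2 c
    refine ⟨d, ?_⟩
    show (ι ≫ CohB1.ProjSpace.toSpec n k).appTop ((Scheme.ΓSpecIso (CommRingCat.of k)).inv d) = s
    rw [Scheme.Hom.comp_appTop]
    refine Eq.trans ?_ h2
    exact congrArg (ι.app ⊤) hd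
  haveI : Nonempty ↥(LefPen.ciIdeal G).subscheme := by
    by_contra hne
    rw [not_nonempty_iff] at hne
    have : topologicalKrullDim ↥(LefPen.ciIdeal G).subscheme = ⊥ := by
      haveI : IsEmpty (TopologicalSpace.IrreducibleCloseds ↥(LefPen.ciIdeal G).subscheme) :=
        ⟨fun Z => hne.false Z.isIrreducible.nonempty.some⟩
      exact Order.krullDim_eq_bot
    rw [hdim] at this
    exact absurd this (WithBot.coe_ne_bot)
  haveI : Nonempty (⊤ : (LefPen.ciIdeal G).subscheme.Opens) := ⟨⟨Classical.arbitrary _, trivial⟩⟩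
  haveI : Nontrivial Γ((LefPen.ciIdeal G).subscheme, ⊤) :=
    Scheme.component_nontrivial (LefPen.ciIdeal G).subscheme ⊤
  let e : k ≃+* Γ((LefPen.ciIdeal G).subscheme, ⊤) := RingEquiv.ofBijective φ ⟨φ.injective, hφ⟩
  refine (Groth.Agent.S7856.result k (ι ≫ CohB1.ProjSpace.toSpec n k)).2 ⟨?_, ?_, fun x => ?_⟩
  · exact e.isLocalRing
  · rw [← ringKrullDim_eq_of_ringEquiv e, ringKrullDim_eq_zero_of_field]
  · obtain ⟨c, rfl⟩ := hφ x
    refine ⟨0, c, ?_⟩
    rw [pow_zero, pow_one]
    show IsNilpotent (φ c - φ c)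
    rw [sub_self]
    exact IsNilpotent.zero

end Groth.Agent.S14334
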