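import Groth.Statements.S14335
import Groth.Agent.Lib.ProjDim18.Top
import Groth.Agent.Lib.ProjDim18.HypSupp
import Groth.Agent.Lib.RegExt.P1

set_option autoImplicit false
universe u
open CategoryTheory CategoryTheory.Limits AlgebraicGeometry
open Coherent

namespace Groth.Agent.S14335

/-- Let k be a field, r ≤ n, and G_1, …, G_r homogeneous forms of positive degrees in the homogeneous
coordinates of P = P^n_k whose common zero scheme X = V(G_1, …, G_r), with its closed immersion ι :
X → P, has dimension n − r, so that X is a global complete intersection in P. Then X is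
equidimensional: every irreducible component of X, with the subspace topology, has dimension exactly
n − r. -/
theorem result (k : Type u) [Field k] (n r : ℕ) (hr : r ≤ n) (a : Fin r → ℕ) (ha : ∀ j, 1 ≤ a j) (G : ∀ j : Fin r, LefPen.Form n k (a j)) (hdim : topologicalKrullDim ↥(LefPen.ciIdeal G).subscheme = ((n - r : ℕ) : WithBot ℕ∞)) (Z : Set ↥(LefPen.ciIdeal G).subscheme) (hZ : Z ∈ irreducibleComponents ↥(LefPen.ciIdeal G).subscheme) : topologicalKrullDim ↥Z = ((n - r : ℕ) : WithBot ℕ∞) := by
  classical
  let T := ProjectiveSpectrum (CohB1.polyGrading n k)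
  let S : Set T := (Set.univ : Set T) ∩
    ProjectiveSpectrum.zeroLocus (CohB1.polyGrading n k) (Set.range fun j => (G j).1)
  let ι := (LefPen.ciIdeal G).subschemeι
  have hrange : Set.range ι = S := by
    rw [show Set.range ι = ((LefPen.ciIdeal G).support : Set ↥(CohB1.ProjSpace n k)) from
      (LefPen.ciIdeal G).range_subschemeι, Groth.Agent.ProjDim18.support_ciIdeal]
    exact (Set.univ_inter _).symm
  have hZdim : topologicalKrullDim Z = topologicalKrullDim ↥(ι '' Z) := by
    have hemb : Topology.IsEmbedding fun z : Z => ι z.1 :=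
      ι.isEmbedding.comp Topology.IsEmbedding.subtypeVal
    rw [IsHomeomorph.topologicalKrullDim_eq _ hemb.toHomeomorph.isHomeomorph, Set.image_eq_range]
  refine le_antisymm ?_ ?_
  · rw [← hdim]
    exact Topology.IsInducing.subtypeVal.topologicalKrullDim_le
  let e : ↥(LefPen.ciIdeal G).subscheme ≃ₜ ↥S :=
    ι.isEmbedding.toHomeomorph.trans (Homeomorph.setCongr hrange)
  have hC : e '' Z ∈ irreducibleComponents ↥S := by
    refine ⟨hZ.1.image _ e.continuous.continuousOn, fun W hW hle => ?_⟩
    have h1 := hZ.2 (hW.image e.symm e.symm.continuous.continuousOn)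
      (fun z hz => ⟨e z, hle ⟨z, hz, rfl⟩, e.symm_apply_apply z⟩)
    exact fun w hw => ⟨e.symm w, h1 ⟨w, hw, rfl⟩, e.apply_symm_apply w⟩
  have hirr : IsIrreducible (Set.univ : Set T) := by
    haveI : IsIntegral (CohB1.ProjSpace n k) := Groth.Agent.RegExt.isIntegral_projSpace n k
    exact IrreducibleSpace.isIrreducible_univ ↥(CohB1.ProjSpace n k)
  have h := (Groth.Agent.ProjDim18.codim_components_inter_zeroLocus k n Set.univ isClosed_univ hirr
    (fun j => (G j).1) a (fun j => (MvPolynomial.mem_homogeneousSubmodule _ _).1 (G j).2)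
    (fun j => ha j)).1 (e '' Z) hC
  have hZe : topologicalKrullDim Z = topologicalKrullDim ↥(e '' Z) :=
    IsHomeomorph.topologicalKrullDim_eq _ (e.image Z).isHomeomorph
  rw [← hZe] at h
  have hn : (n : WithBot ℕ∞) ≤ topologicalKrullDim ↥(Set.univ : Set T) := by
    let g : T := Groth.Agent.ProjDim18.mkPt k n ⊥ Ideal.isPrime_bot (Ideal.IsHomogeneous.bot _) (fun hle => by
      have : (MvPolynomial.X 0 : MvPolynomial (Fin (n + 1)) k) ∈ (⊥ : Ideal _) :=
        hle (Ideal.subset_span ⟨0, rfl⟩)
      exact MvPolynomial.X_ne_zero 0 (Ideal.mem_bot.1 this))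
    refine le_trans ?_ (Groth.Agent.ProjDim18.coheight_le_dim k n isClosed_univ (x := g) trivial)
    have h1 := Groth.Agent.ProjDim18.ringKrullDim_quotient_eq k n g
    rw [show ringKrullDim (MvPolynomial (Fin (n + 1)) k ⧸ g.asHomogeneousIdeal.toIdeal) =
        ((n + 1 : ℕ) : WithBot ℕ∞) from (ringKrullDim_eq_of_ringEquiv
          (RingEquiv.quotientBot _)).trans (Groth.Agent.VarDim.ringKrullDim_mvPolynomial k (n + 1))] at h1
    revert h1
    generalize Order.coheight g = c
    intro h1
    cases c with
    | top => exact le_top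
    | coe c => have : n + 1 = c + 1 := by exact_mod_cast h1
               have : n ≤ c := by omega
               exact_mod_cast this
  have hz0 : Z.Nonempty := hZ.1.nonempty
  obtain ⟨c, hc⟩ : ∃ c : ℕ, topologicalKrullDim Z = c := by
    have hle : topologicalKrullDim Z ≤ ((n - r : ℕ) : WithBot ℕ∞) :=
      hdim ▸ Topology.IsInducing.subtypeVal.topologicalKrullDim_le
    revert hle
    have hne : topologicalKrullDim Z ≠ ⊥ := by
      haveI : Nonempty Z := hz0.to_subtype
      haveI : Nonempty (TopologicalSpace.IrreducibleCloseds Z) :=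
        ⟨⟨closure {Classical.arbitrary Z}, isIrreducible_singleton.closure, isClosed_closure⟩⟩
      exact Order.krullDim_ne_bot_iff.2 inferInstance
    revert hne
    generalize topologicalKrullDim Z = D
    intro hne hle
    cases D with
    | bot => exact absurd rfl hne
    | coe D => cases D with
      | top => exact absurd hle (not_le.2 (WithBot.coe_lt_coe.2 (WithTop.coe_lt_top _)))
      | coe D => exact ⟨D, rfl⟩
  have h2 := hn.trans h
  rw [hc] at h2 ⊢
  have : n ≤ c + r := by exact_mod_cast h2
  have h3 : n - r ≤ c := by omega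
  exact_mod_cast h3

end Groth.Agent.S14335
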