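import Groth.Statements.S14336
import Groth.Statements.S12046
import Groth.Statements.S18888
import Groth.Statements.S13157
import Groth.Statements.S14609
import Groth.Statements.S15367
import Groth.Agent.S12045
import Groth.Agent.S15368
import Groth.Agent.Lib.Fitting.More
import Mathlib.RingTheory.Flat.FaithfullyFlat.Algebra
import Mathlib.RingTheory.Spectrum.Prime.FreeLocus
import Mathlib.LinearAlgebra.Dimension.RankNullity
import Mathlib.Topology.Semicontinuity.Basic
import Mathlib.FieldTheory.Minpoly.IsIntegrallyClosed
import Mathlib.Algebra.Module.PID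
import Mathlib.RingTheory.Flat.EquationalCriterion

set_option autoImplicit false
universe u
open CAlg

namespace Groth.Agent.S14336
open CAlg

open TensorProduct

theorem finrank_range {A : Type u} [CommRing A] {M : Type u} {F : Type u} [AddCommGroup M] [Module A M]
    [AddCommGroup F] [Module A F] [Module.Finite A F] (δ : M →ₗ[A] F) (κ : Type u) [Field κ] [Algebra A κ] :
    Module.finrank κ (LinearMap.range (δ.baseChange κ)) + Module.finrank κ (κ ⊗[A] (F ⧸ LinearMap.range δ)) =
      Module.finrank κ (κ ⊗[A] F) := by
  let π := (LinearMap.range δ).mkQ.baseChange κ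
  have hπ : Function.Surjective π := LinearMap.lTensor_surjective κ (Submodule.mkQ_surjective _)
  have hex : LinearMap.range (δ.baseChange κ) = LinearMap.ker π := by
    ext z
    exact ((lTensor_exact κ (LinearMap.exact_map_mkQ_range δ) (Submodule.mkQ_surjective _)) z).symm
  rw [hex, ← π.finrank_range_add_finrank_ker, LinearMap.range_eq_top.2 hπ, finrank_top, add_comm]

theorem usc_fiber (A : Type u) [CommRing A] (M : Type u) [AddCommGroup M] [Module A M] [Module.Finite A M] :
    UpperSemicontinuous (fun x : PrimeSpectrum A =>
      Module.finrank x.asIdeal.ResidueField (x.asIdeal.ResidueField ⊗[A] M)) := by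
  intro x n hn
  obtain ⟨k, rfl⟩ : ∃ k, n = k + 1 := ⟨n - 1, by simp at hn; omega⟩
  refine Filter.eventually_of_mem
    ((PrimeSpectrum.isClosed_zeroLocus (Fitt.ideal A M k : Set A)).isOpen_compl.mem_nhds ?_) ?_
  · exact (Groth.Agent.FittingLib.not_le_iff_finrank_fiber_le k x.asIdeal).2 (Nat.lt_succ_iff.1 hn)
  · exact fun y hy =>
      Nat.lt_succ_of_le ((Groth.Agent.FittingLib.not_le_iff_finrank_fiber_le k y.asIdeal).1 hy)

/-- Let B be a Noetherian ring, K and K' finitely generated flat B-modules and φ : K → K' a B-linear
map; for a prime y of B write κ(y) for its residue field and φ_y for the base change κ(y) ⊗ K → κ(y)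
⊗ K'. Then the function y ↦ dim_{κ(y)} Im(φ_y) on Spec B is lower semicontinuous. -/
theorem result (B : Type u) [CommRing B] [IsNoetherianRing B] (K K' : Type u) [AddCommGroup K] [Module B K] [Module.Finite B K] [Module.Flat B K] [AddCommGroup K'] [Module B K'] [Module.Finite B K'] [Module.Flat B K'] (φ : K →ₗ[B] K') : LowerSemicontinuous (fun y : PrimeSpectrum B => Module.finrank y.asIdeal.ResidueField ↥(LinearMap.range (φ.baseChange y.asIdeal.ResidueField))) := by
  haveI : Module.FinitePresentation B K' := Module.finitePresentation_of_finite B K'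
  intro x n hn
  have key : ∀ y : PrimeSpectrum B,
      Module.finrank y.asIdeal.ResidueField (LinearMap.range (φ.baseChange y.asIdeal.ResidueField)) +
        Module.finrank y.asIdeal.ResidueField (y.asIdeal.ResidueField ⊗[B] (K' ⧸ LinearMap.range φ)) =
      Module.rankAtStalk K' y := by
    intro y
    rw [Module.rankAtStalk_eq]
    exact finrank_range φ y.asIdeal.ResidueField
  have hx := key x
  filter_upwards [usc_fiber B (K' ⧸ LinearMap.range φ) x _ (Nat.lt_succ_self _),
    (Module.isLocallyConstant_rankAtStalk (R := B) (M := K')).eventually_eq x] with y h1 h2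
  have hy := key y
  simp at h1 h2 hn ⊢
  omega

end Groth.Agent.S14336
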