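import Groth.Statements.S14337
import Groth.Statements.S9607
import Groth.Statements.S15368
import Groth.Statements.S15526
import Groth.Statements.S10891
import Groth.Statements.S11831
import Mathlib.RingTheory.Nakayama
import Mathlib.RingTheory.LocalRing.Module
import Mathlib.RingTheory.Flat.EquationalCriterion
import Mathlib.RingTheory.TensorProduct.Free
import Mathlib.Data.Nat.Choose.Basic
import Mathlib.Data.Nat.Factorization.Basic
import Mathlib.LinearAlgebra.FreeModule.PID

set_option autoImplicit false
universe u
open scoped TensorProduct
open CAlg

namespace Groth.Agent.S14337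
open CAlg

open TensorProduct

/-- Let B be a Noetherian ring, K and K' finitely generated flat B-modules and φ : K → K' a B-linear
map; for a prime y of B write κ(y) for its residue field and φ_y for the base change κ(y) ⊗ K → κ(y)
⊗ K'. If the cokernel K'/Im φ is a projective (locally free) B-module, then Im φ is projective, and
the formation of Im φ commutes with every base change: for every commutative B-algebra B' the map B'
⊗ Im φ → B' ⊗ K' induced by the inclusion is injective and its range is the range of the base change
B' ⊗ K → B' ⊗ K' of φ. -/
theorem result (B : Type u) [CommRing B] [IsNoetherianRing B] (K K' : Type u) [AddCommGroup K] [Module B K] [Module.Finite B K] [Module.Flat B K] [AddCommGroup K'] [Module B K'] [Module.Finite B K'] [Module.Flat B K'] (φ : K →ₗ[B] K') (hc : Module.Projective B (K' ⧸ LinearMap.range φ)) : Module.Projective B ↥(LinearMap.range φ) ∧ ∀ (B' : Type u) [CommRing B'] [Algebra B B'], Function.Injective ((LinearMap.range φ).subtype.baseChange B') ∧ LinearMap.range ((LinearMap.range φ).subtype.baseChange B') = LinearMap.range (φ.baseChange B') := by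
  have : Module.FinitePresentation B K' := Module.finitePresentation_of_finite B K'
  have hK' : Module.Projective B K' := Module.Flat.projective_of_finitePresentation
  obtain ⟨s, hs⟩ := Module.projective_lifting_property (LinearMap.range φ).mkQ LinearMap.id (Submodule.mkQ_surjective _)
  have hs' : ∀ z, (LinearMap.range φ).mkQ (s z) = z := fun z => LinearMap.congr_fun hs z
  let r : K' →ₗ[B] LinearMap.range φ := (LinearMap.id - s ∘ₗ (LinearMap.range φ).mkQ).codRestrict _ fun z => by
    refine (Submodule.Quotient.mk_eq_zero _).1 ?_
    rw [← Submodule.mkQ_apply, LinearMap.sub_apply, map_sub, LinearMap.comp_apply, hs', LinearMap.id_apply, sub_self]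
  have hr : r ∘ₗ (LinearMap.range φ).subtype = LinearMap.id := by
    refine LinearMap.ext fun z => Subtype.ext ?_
    show z.1 - s ((LinearMap.range φ).mkQ z.1) = z.1
    rw [Submodule.mkQ_apply, (Submodule.Quotient.mk_eq_zero _).2 z.2, map_zero, sub_zero]
  refine ⟨Module.Projective.of_split (LinearMap.range φ).subtype r hr, fun B' _ _ => ⟨?_, ?_⟩⟩
  · refine Function.LeftInverse.injective (g := r.baseChange B') fun z => ?_
    rw [← LinearMap.comp_apply, ← LinearMap.baseChange_comp, hr, LinearMap.baseChange_id, LinearMap.id_apply]
  · have h : φ.baseChange B' = (LinearMap.range φ).subtype.baseChange B' ∘ₗ φ.rangeRestrict.baseChange B' := by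
      rw [← LinearMap.baseChange_comp]; rfl
    have hsurj : Function.Surjective (φ.rangeRestrict.baseChange B') :=
      LinearMap.lTensor_surjective B' φ.surjective_rangeRestrict
    rw [h, LinearMap.range_comp, LinearMap.range_eq_top.2 hsurj, Submodule.map_top]

end Groth.Agent.S14337
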