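import Groth.Statements.S14339
-- import your own Groth.Agent.* helpers here
import Groth.Agent.Lib.PlaneFF17.Hyper
import Groth.Agent.S10829

set_option autoImplicit false
set_option maxHeartbeats 800000
universe u
open CategoryTheory CategoryTheory.Limits AlgebraicGeometry
open Curves

namespace Groth.Agent.S14339

/-- Let k be a field, d ≥ 4, and f a nonzero homogeneous form of degree d in the homogeneous coordinates
of P^2_k whose plane curve X = V_+(f) is smooth over k. Then X is not hyperelliptic: there is no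
morphism φ : X → P^1_k over k which is finite and flat of constant rank 2 (a double cover of the
projective line). -/
theorem result (k : Type u) [Field k] (d : ℕ) (hd : 4 ≤ d) (f : LefPen.Form 2 k d) (hf : f ≠ 0) [Smooth ((LefPen.hypIdeal f).subschemeι ≫ CohB1.ProjSpace.toSpec 2 k)] : ¬ ∃ φ : (LefPen.hypIdeal f).subscheme ⟶ CohB1.ProjSpace 1 k, φ ≫ CohB1.ProjSpace.toSpec 1 k = (LefPen.hypIdeal f).subschemeι ≫ CohB1.ProjSpace.toSpec 2 k ∧ IsFinite φ ∧ Flat φ ∧ ∀ y : ↥(CohB1.ProjSpace 1 k), Scheme.Hom.finrank φ y = 2 := by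
  rintro ⟨φ, hφ, hfin, hflat, h2⟩
  haveI := hfin
  haveI := hflat
  letI : ((LefPen.hypIdeal f).subscheme).Over (Spec (CommRingCat.of k)) :=
    ⟨(LefPen.hypIdeal f).subschemeι ≫ CohB1.ProjSpace.toSpec 2 k⟩
  haveI : Smooth ((LefPen.hypIdeal f).subscheme ↘ Spec (CommRingCat.of k)) := ‹Smooth _›
  haveI := (PlaneFF17.isIntegral_hyp f (by omega) hf rfl).2
  letI : (CohB1.ProjSpace 1 k).Over (Spec (CommRingCat.of k)) := ⟨CohB1.ProjSpace.toSpec 1 k⟩
  haveI := RegExt.isIntegral_projSpace 1 k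
  haveI : IsProper ((CohB1.ProjSpace 1 k) ↘ Spec (CommRingCat.of k)) := ProjSpace.isProper_toSpec 1 k
  haveI : Smooth ((CohB1.ProjSpace 1 k) ↘ Spec (CommRingCat.of k)) := ProjSpace.smooth_toSpec 1 k
  have hP : topologicalKrullDim (CohB1.ProjSpace 1 k) = 1 := by rw [Groth.Agent.S10829.result k 1]; rfl
  have h0 : Module.finrank k (Coh.HH (CohB1.ProjSpace 1 k) (Coh.structureModule (CohB1.ProjSpace 1 k)) 0) = 1 := by
    obtain ⟨e₀⟩ := Twist.nonempty_twist_zero_iso (CohB1.polyGrading 1 k)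
    exact ((CurveCoh17.hequiv k e₀ 0).finrank_eq).symm.trans (HypEq17.h0_twist 0)
  exact PlaneFF17.no_double_cover hd f hf rfl hP h0 (CurveCoh17.genus_P1 k)
    (fun hL _ _ => PlaneFF17.exists_divisor_P1 _ hL) φ hφ h2

end Groth.Agent.S14339
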