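import Groth.Statements.S1434
import Mathlib

set_option autoImplicit false
universe u
open FlatMor

namespace Groth.Agent.S1434

open AlgebraicGeometry CategoryTheory Limits

set_option backward.isDefEq.respectTransparency.types false

open AlgebraicGeometry CategoryTheory Limits in
/-- Part (1), for a closed subscheme: let Z ⊂ X be the closed subscheme cut out by an ideal sheaf I and
Z' the one cut out by I², its first order infinitesimal neighbourhood. Given a first order
thickening T → T', a morphism a : T → Z and a morphism b : T' → X compatible with them, there is a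
unique morphism T' → Z' through which b factors (compatibility with a is then automatic). -/
theorem result {X T T' : Scheme.{u}} (I : X.IdealSheafData) (t : T ⟶ T') (ht : MoreMor.IsFirstOrderThickening t)
    (a : T ⟶ I.subscheme) (b : T' ⟶ X) (w : a ≫ I.subschemeι = t ≫ b) :
    ∃! a' : T' ⟶ (I ^ 2).subscheme, a' ≫ (I ^ 2).subschemeι = b := by
  have hcl : IsClosedImmersion t := ht.1.1
  have hsq : ∀ (V : T'.Opens) (r s : Γ(T', V)), t.app V r = 0 → t.app V s = 0 → r * s = 0 := by
    intro V r s hr hs
    apply T'.IsSheaf.section_ext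
    intro p hp
    obtain ⟨W, hW, hpW, hWV⟩ := exists_isAffineOpen_mem_and_subset (X := T') (x := p) (U := V) hp
    have hres : ∀ r : Γ(T', V), t.app V r = 0 →
        T'.presheaf.map (homOfLE hWV).op r ∈ t.ker.ideal ⟨W, hW⟩ := fun r hr => by
      rw [Scheme.Hom.ker_apply, RingHom.mem_ker]
      have := congr($(t.naturality (homOfLE hWV).op) r)
      rw [CommRingCat.comp_apply, CommRingCat.comp_apply, hr, map_zero] at this
      exact this
    refine ⟨W, hWV, hpW, ?_⟩
    have h0 := congrArg (fun I => I.ideal ⟨W, hW⟩) ht.2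
    simp only [Scheme.IdealSheafData.ideal_mul, Scheme.IdealSheafData.ideal_bot, Pi.mul_apply, Pi.bot_apply] at h0
    show T'.presheaf.map (homOfLE hWV).op (r * s) = T'.presheaf.map (homOfLE hWV).op 0
    rw [map_zero, map_mul]
    exact Ideal.mem_bot.1 (h0.le (Ideal.mul_mem_mul (hres r hr) (hres s hs)))
  have hle : (I ^ 2).subschemeι.ker ≤ b.ker := by
    rw [Scheme.IdealSheafData.ker_subschemeι]
    refine Scheme.IdealSheafData.le_ofIdeals_iff.2 fun U => ?_
    rw [Scheme.IdealSheafData.ideal_pow, Pi.pow_apply, pow_two, Ideal.mul_le]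
    have hz : ∀ r ∈ I.ideal U, t.app (b ⁻¹ᵁ U.1) (b.app U.1 r) = 0 := fun r hr => by
      have h1 : (t ≫ b).app U.1 r = 0 := by
        have h2 : (a ≫ I.subschemeι).app U.1 r = 0 := by
          rw [Scheme.Hom.comp_app]
          rw [← I.ker_subschemeι_app U, RingHom.mem_ker] at hr
          exact (congrArg _ hr).trans (map_zero (a.app (I.subschemeι ⁻¹ᵁ U.1)).hom)
        have key : ∀ {f g : T ⟶ X}, f = g → f.app U.1 r = 0 → g.app U.1 r = 0 := by
          rintro f g rfl h; exact h
        exact key w h2
      rw [Scheme.Hom.comp_app] at h1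
      exact h1
    intro r hr s hs
    rw [RingHom.mem_ker, map_mul]
    exact hsq _ _ _ (hz r hr) (hz s hs)
  refine ⟨IsClosedImmersion.lift _ b hle, IsClosedImmersion.lift_fac _ _ _, fun a' ha' => ?_⟩
  rw [← cancel_mono (I ^ 2).subschemeι, ha', IsClosedImmersion.lift_fac]

end Groth.Agent.S1434
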