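import Groth.Statements.S14341
import Groth.Agent.Lib.VB17.Proper
import Groth.Agent.Lib.VB17.TwistBound
import Groth.Agent.Lib.CurveCoh17.VeryAmple
import Groth.Agent.Lib.CurveCoh17.Equality
import Groth.Agent.Lib.TensorMod.Dual
import Groth.Agent.Lib.TensorMod.IdealMod
import Groth.Agent.S1536

set_option autoImplicit false
universe u
open CategoryTheory CategoryTheory.Limits AlgebraicGeometry
open Curves

namespace Groth.Agent.S14341

open Groth.Agent.M1 Groth.Agent.M2 Groth.Agent.CurveCoh17 Groth.Agent.VB17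

open TopologicalSpace

attribute [local instance] stalkMod Curv2.resAlgebra

variable {k : Type u} [Field k] {X : Scheme.{u}} [X.Over (Spec (CommRingCat.of k))]

theorem finrank_res_of_bijective {x : X} (h : Function.Bijective (Curv2.resMap k X x)) :
    Module.finrank k (X.residueField x) = 1 := by
  have h' : Function.Bijective (algebraMap k (X.residueField x)) := h
  exact ((AlgEquiv.ofBijective (Algebra.ofId k (X.residueField x)) h').toLinearEquiv.finrank_eq).symm.trans
    (Module.finrank_self k)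

theorem bijective_of_finrank_res {x : X} (h : Module.finrank k (X.residueField x) = 1) :
    Function.Bijective (Curv2.resMap k X x) := by
  refine ⟨(Curv2.resMap k X x).injective, fun a => ?_⟩
  obtain ⟨c, hc⟩ := exists_smul_eq_of_finrank_eq_one h (one_ne_zero (α := X.residueField x)) a
  exact ⟨c, by rw [← hc, Algebra.smul_def, mul_one]; rfl⟩

/-- A degree one invertible module with a nonzero section on a curve: the point where the section vanishes
is rational and twisting by it gives `O`; with `h⁰ = 1` it is the only such point. -/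
theorem exists_unique_point [IsIntegral X] (hX : RegCurve k X) (hdim : topologicalKrullDim X = 1)
    (hreg : ∀ x : X, IsRegularLocalRing (X.presheaf.stalk x))
    (h0 : Module.finrank k (Coh.HH X (Coh.structureModule X) 0) = 1)
    {M : X.Modules} (hM : PicF.IsInvertible M) (hd : Curv2.deg k X M 1 = 1)
    (h1 : Module.finrank k (Coh.HH X M 0) = 1) :
    ∃! P : {x : X // IsClosed ({x} : Set X) ∧ Function.Bijective (Curv2.resMap k X x)},
      Nonempty (CohB1.tensorMod M (ClSub.idealMod (Scheme.IdealSheafData.vanishingIdeal ⟨{P.1}, P.2.1⟩)) ≅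
        Coh.structureModule X) := by
  classical
  haveI := hX.like.noetherian
  have hR := rkOne_of_invertible hX.like.dim hM
  have hM1 := (isInvertible_iff_isFinLocFreeOfRank_one M).1 hM
  haveI := hX.like.fin M hR.coh 0
  haveI : Nontrivial (Coh.HH X M 0) := Module.finrank_pos_iff.1 (show 0 < Module.finrank k (Coh.HH X M 0) by omega)
  obtain ⟨w, hw⟩ := exists_ne (0 : Coh.HH X M 0)
  obtain ⟨t, ht, he, -, -, -, -⟩ := hX.like.section_numerics hR (hh0_ne_zero hw)
  have ht1 : t = 1 := by
    rw [Curv2.deg] at hd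
    push_cast at hd
    omega
  subst ht1
  obtain ⟨hm, S, hS⟩ := hR.sec (hh0 M w) (hh0_ne_zero hw)
  haveI := hm
  -- a point in the support of the cokernel is the same as a zero of `w`
  have hsurj : ∀ x : X, (M.presheaf.germ ⊤ x trivial (hh0 M w) : M.presheaf.stalk x) ∉
      IsLocalRing.maximalIdeal (X.presheaf.stalk x) • (⊤ : Submodule (X.presheaf.stalk x) (M.presheaf.stalk x)) →
      ∀ b : (cokernel (secHom (hh0 M w))).presheaf.stalk x, b = 0 := by
    intro x hx b
    obtain ⟨e⟩ := nonempty_stalk_equiv hM1 x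
    set a : M.presheaf.stalk x := M.presheaf.germ ⊤ x trivial (hh0 M w)
    have hb' : ∀ b : M.presheaf.stalk x, b = e b 0 • e.symm 1 := fun b => e.injective (funext fun i => by
      rw [Fin.fin_one_eq_zero i, map_smul, LinearEquiv.apply_symm_apply, Pi.smul_apply, Pi.one_apply, smul_eq_mul, mul_one])
    have hu : IsUnit (e a 0) := by
      by_contra hu
      exact hx ((hb' a).symm ▸ Submodule.smul_mem_smul ((IsLocalRing.mem_maximalIdeal _).2 hu) trivial)
    obtain ⟨v, hv⟩ := hu
    have hgen : ∀ m : M.presheaf.stalk x, ∃ c : X.presheaf.stalk x, c • a = m := fun m =>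
      ⟨e m 0 * (↑v⁻¹ : X.presheaf.stalk x), by
        rw [hb' a, ← hv, smul_smul, mul_assoc, Units.inv_mul, mul_one]; exact (hb' m).symm⟩
    exact eq_zero_stalk_cokernel _ x (surjective_stalk_secHom _ x hgen) b
  -- at most one zero
  have hone : ∀ x y : X, (∃ b : (cokernel (secHom (hh0 M w))).presheaf.stalk x, b ≠ 0) →
      (∃ b : (cokernel (secHom (hh0 M w))).presheaf.stalk y, b ≠ 0) → x = y := by
    rintro x y ⟨b, hb⟩ ⟨c, hc⟩
    by_contra hne
    have hxS : x ∈ S := by_contra fun h => hb (hS.zero x h b)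
    have hyS : y ∈ S := by_contra fun h => hc (hS.zero y h c)
    obtain ⟨p, hp⟩ := (hS.h0Equiv k).surjective (Function.update 0 ⟨x, hxS⟩ b)
    obtain ⟨q, hq⟩ := (hS.h0Equiv k).surjective (Function.update 0 ⟨y, hyS⟩ c)
    have hp0 : p ≠ 0 := fun h => hb (by
      have h' := congrFun hp ⟨x, hxS⟩
      rw [Function.update_self, h, map_zero] at h'
      exact h'.symm)
    obtain ⟨r, hr⟩ := exists_smul_eq_of_finrank_eq_one ht.symm hp0 q
    have hy' := congrFun hq ⟨y, hyS⟩
    rw [Function.update_self, ← hr, map_smul, Pi.smul_apply, hp, Function.update_of_ne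
      (fun h => hne (congrArg Subtype.val h).symm), Pi.zero_apply, smul_zero] at hy'
    exact hc hy'.symm
  -- twisting at a zero
  have hzero : ∀ (x : X) (hx : IsClosed ({x} : Set X)), (M.presheaf.germ ⊤ x trivial (hh0 M w) : M.presheaf.stalk x) ∈
      IsLocalRing.maximalIdeal (X.presheaf.stalk x) • (⊤ : Submodule (X.presheaf.stalk x) (M.presheaf.stalk x)) →
      Function.Bijective (Curv2.resMap k X x) ∧
      Nonempty (CohB1.tensorMod M (ClSub.idealMod (Scheme.IdealSheafData.vanishingIdeal ⟨{x}, hx⟩)) ≅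
        Coh.structureModule X) := by
    intro x hx hv
    obtain ⟨a, ha⟩ := (germ_mem_iff (k := k) hM hx w).1 hv
    have hI := isInvertible_pointIdeal hdim hreg hx
    have hMI := isInvertible_tensor hM hI
    set Z := Scheme.IdealSheafData.vanishingIdeal (⟨{x}, hx⟩ : Closeds X)
    let a' : Coh.HH X (CohB1.tensorMod M (ClSub.idealMod Z)) 0 := hequiv k (tensorComm (ClSub.idealMod Z) M) 0 a
    have ha' : a' ≠ 0 := fun h => hw (by
      rw [← ha, (hequiv k (tensorComm (ClSub.idealMod Z) M) 0).injective (h.trans (map_zero _).symm)]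
      exact map_zero _)
    haveI : Nontrivial (Coh.HH X (CohB1.tensorMod M (ClSub.idealMod Z)) 0) := ⟨⟨a', 0, ha'⟩⟩
    have hR' := rkOne_of_invertible hX.like.dim hMI
    have hnn := hX.like.deg_nonneg hR' inferInstance
    have hd' := hX.like.deg_tensor_invertible hM hI
    rw [hd, deg_pointIdeal hX.like hx] at hd'
    rw [hd'] at hnn
    have hpos : 0 < Module.finrank k (X.residueField x) := by
      rw [← finrank_quotMod_point (k := k) hx]
      haveI := hX.like.fin _ (isCoh_quotMod Z) 0
      refine Module.finrank_pos_iff.2 ?_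
      obtain ⟨-, a₀, ha₀⟩ := quot_point_props hx
      haveI : Nontrivial (∀ i : ({x} : Finset X), (ClSub.quotMod Z).presheaf.stalk (i : X)) :=
        ⟨⟨fun i => (Finset.mem_singleton.1 i.2).symm ▸ a₀, 0, fun h => ha₀ (congrFun h ⟨x, Finset.mem_singleton_self x⟩)⟩⟩
      exact ((suppIn_quotMod_point hx).h0Equiv k).toEquiv.nontrivial
    have hf : Module.finrank k (X.residueField x) = 1 := by omega
    refine ⟨bijective_of_finrank_res hf, ?_⟩
    rw [hf] at hd'
    obtain ⟨t', -, he', -, -, -, hiso⟩ := hX.like.section_numerics hR' (hh0_ne_zero ha')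
    haveI := hiso (by rw [Curv2.deg] at hd'; push_cast at hd'; omega)
    exact ⟨(asIso (secHom (hh0 _ a'))).symm⟩
  haveI : Nontrivial (Coh.HH X (cokernel (secHom (hh0 M w))) 0) :=
    Module.nontrivial_of_finrank_eq_succ ht.symm
  obtain ⟨z, hz⟩ := exists_ne (0 : Coh.HH X (cokernel (secHom (hh0 M w))) 0)
  obtain ⟨x, hx⟩ : ∃ x : S, (hS.h0Equiv k z) x ≠ 0 := by
    by_contra hall
    push_neg at hall
    exact hz ((hS.h0Equiv k).injective ((funext hall).trans (map_zero _).symm))
  have hxc := hS.closed x x.2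
  have hxv : _ := by_contra fun h => hx (hsurj (x : X) h _)
  obtain ⟨hrat, hiso⟩ := hzero x hxc hxv
  refine ⟨⟨x, hxc, hrat⟩, hiso, ?_⟩
  rintro ⟨y, hyc, hy⟩ ⟨eM⟩
  refine Subtype.ext ?_
  refine hone y x ?_ ⟨_, hx⟩
  -- `w` vanishes at `y`
  set Z := Scheme.IdealSheafData.vanishingIdeal (⟨{y}, hyc⟩ : Closeds X)
  have hYI := hequiv k (tensorComm (ClSub.idealMod Z) M ≪≫ eM) 0
  haveI : Mono (pointSC hyc M).f := (twistSES hM Z).mono_f
  haveI : Mono (pointIncl hyc M) := mono_comp _ _
  have hinj : Function.Injective (hmap k (pointIncl hyc M) 0) := fun p q h => by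
    refine (hh0 _).injective ?_
    have h' := congrArg (hh0 M) h
    rw [hh0_hmap, hh0_hmap] at h'
    exact M1.app_injective _ _ h'
  haveI : Nontrivial (Coh.HH X (pointSC hyc M).X₁ 0) := by
    haveI : Nontrivial (Coh.HH X (Coh.structureModule X) 0) := Module.nontrivial_of_finrank_eq_succ h0
    exact hYI.toEquiv.nontrivial
  obtain ⟨a, ha⟩ := exists_ne (0 : Coh.HH X (pointSC hyc M).X₁ 0)
  obtain ⟨c, hc⟩ := exists_smul_eq_of_finrank_eq_one h1 hw (hmap k (pointIncl hyc M) 0 a)
  have hc0 : c ≠ 0 := fun h => ha (hinj (by rw [← hc, h, zero_smul, map_zero]))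
  have hmem := (germ_mem_iff (k := k) hM hyc w).2 ⟨c⁻¹ • a, by rw [map_smul, ← hc, smul_smul, inv_mul_cancel₀ hc0, one_smul]⟩
  by_contra hno
  push_neg at hno
  obtain ⟨e⟩ := nonempty_stalk_equiv hM1 y
  have hs : Function.Surjective (stalkLin (secHom (hh0 M w)) y) := fun m =>
    (exact_iff_stalk_eq_zero (secSC (hh0 M w))).1 (secSC_shortExact (hh0 M w)).exact y m (hno _)
  have htop : ∀ m : M.presheaf.stalk y, m ∈
      IsLocalRing.maximalIdeal (X.presheaf.stalk y) • (⊤ : Submodule (X.presheaf.stalk y) (M.presheaf.stalk y)) := fun m => by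
    obtain ⟨b, rfl⟩ := hs m
    obtain ⟨d, -, hd2⟩ := stalkLin_secHom (hh0 M w) y b
    rw [hd2]
    exact Submodule.smul_mem _ _ hmem
  have h1m : ∀ m ∈ IsLocalRing.maximalIdeal (X.presheaf.stalk y) • (⊤ : Submodule (X.presheaf.stalk y) (M.presheaf.stalk y)),
      e m 0 ∈ IsLocalRing.maximalIdeal (X.presheaf.stalk y) := fun m hm' => by
    induction hm' using Submodule.smul_induction_on' with
    | smul r hr b _ => rw [map_smul, Pi.smul_apply, smul_eq_mul]; exact Ideal.mul_mem_right _ _ hr
    | add b _ c _ hb hc => rw [map_add, Pi.add_apply]; exact add_mem hb hc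
  have := h1m (e.symm 1) (htop _)
  rw [LinearEquiv.apply_symm_apply] at this
  exact (IsLocalRing.mem_maximalIdeal _).1 this isUnit_one

/-- Let k be a field and X a smooth proper geometrically connected curve over k (of dimension one) of
genus dim_k H^1(X, O_X) = 1, with a k-rational point O (a closed point with residue field k); for a
k-rational point P write I_P for the ideal sheaf of the reduced point P, an invertible ideal with
inverse O_X(P). Then for every invertible O_X-module L of degree 0 there is exactly one k-rational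
point P with L ⊗ I_P ≅ I_O, that is L ≅ O_X(P − O): the map P ↦ O_X(P − O) is a bijection from X(k)
onto the isomorphism classes of invertible modules of degree zero. -/
theorem result (k : Type u) [Field k] (X : Scheme.{u}) [X.Over (Spec (CommRingCat.of k))] [IsProper (X ↘ Spec (CommRingCat.of k))] [Smooth (X ↘ Spec (CommRingCat.of k))] [GeometricallyConnected (X ↘ Spec (CommRingCat.of k))] (hX : topologicalKrullDim X = 1) (hg : Curv2.genus k X = 1) (O : X) (hOc : IsClosed ({O} : Set X)) (hO : Function.Bijective (Curv2.resMap k X O)) (L : X.Modules) (hL : PicF.IsInvertible L) (hdeg : Curv2.deg k X L 1 = 0) : ∃! P : {x : X // IsClosed ({x} : Set X) ∧ Function.Bijective (Curv2.resMap k X x)}, Nonempty (CohB1.tensorMod L (ClSub.idealMod (Scheme.IdealSheafData.vanishingIdeal ⟨{P.1}, P.2.1⟩)) ≅ ClSub.idealMod (Scheme.IdealSheafData.vanishingIdeal ⟨{O}, hOc⟩)) := by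
  haveI := isIntegral_of_smooth (k := k) (X := X)
  have hC := regCurve (k := k) (X := X) hX
  haveI := hC.like.noetherian
  haveI := GeomRed.geometricallyReduced_of_smooth (k := k) (X := X)
  have h0 := S1536.result k X
  have hreg := fun x => SmoothReg17.isRegularLocalRing_stalk (X ↘ Spec (CommRingCat.of k)) x
  have hI := isInvertible_pointIdeal hX hreg hOc
  set IO := ClSub.idealMod (Scheme.IdealSheafData.vanishingIdeal (⟨{O}, hOc⟩ : Closeds X))
  obtain ⟨J, hJ, ⟨eJ⟩⟩ := exists_inverse hI
  have hM := isInvertible_tensor hL hJ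
  have hdM : Curv2.deg k X (CohB1.tensorMod L J) 1 = 1 := by
    rw [hC.like.deg_tensor_invertible hL hJ, hdeg, hC.like.deg_of_tensor_iso hI hJ eJ,
      deg_pointIdeal hC.like hOc, finrank_res_of_bijective hO]
    norm_num
  have hR := rkOne_of_invertible hC.like.dim hM
  haveI := hC.like.fin _ hR.coh 0
  have hge : 1 ≤ Module.finrank k (Coh.HH X (CohB1.tensorMod L J) 0) := by
    have := hC.like.rr hR.coh
    rw [h0, hdM, hg] at this
    omega
  haveI : Nontrivial (Coh.HH X (CohB1.tensorMod L J) 0) :=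
    Module.finrank_pos_iff.1 (show 0 < Module.finrank k (Coh.HH X (CohB1.tensorMod L J) 0) by omega)
  have h1 : Module.finrank k (Coh.HH X (CohB1.tensorMod L J) 0) = 1 := by
    by_contra hne
    have hle := hC.like.h0_le_deg_add hR inferInstance
    rw [h0, hdM] at hle
    have := hC.like.genus_eq_zero_of_h0_eq_deg_add_one h0 hM (by rw [hdM]; omega) (by rw [hdM]; norm_num)
    omega
  obtain ⟨P, ⟨eP⟩, huniq⟩ := exists_unique_point hC hX hreg h0 hM hdM h1
  refine ⟨P, ⟨?_⟩, fun Q ⟨eQ⟩ => huniq Q ⟨?_⟩⟩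
  · exact (tensorRUnit _).symm ≪≫ tensorIso (Iso.refl _) (eJ.symm ≪≫ tensorComm IO J) ≪≫ (tensorAssoc _ J IO).symm ≪≫
      tensorIso (tensorAssoc L _ J ≪≫ tensorIso (Iso.refl L) (tensorComm _ J) ≪≫ (tensorAssoc L J _).symm ≪≫ eP) (Iso.refl IO) ≪≫
      tensorLUnit IO
  · exact tensorAssoc L J _ ≪≫ tensorIso (Iso.refl L) (tensorComm J _) ≪≫ (tensorAssoc L _ J).symm ≪≫
      tensorIso eQ (Iso.refl J) ≪≫ eJ

end Groth.Agent.S14341
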