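import Groth.Statements.S14343
import Groth.Agent.Lib.ExcDiv6.Algebra
import Groth.Agent.Lib.BlowUp26.Basic
import Groth.Agent.Lib.Cyc26.KoszulH1
import Groth.Agent.Lib.RegImm26.H1Desc
import Mathlib.Algebra.Category.Ring.Constructions

set_option autoImplicit false
universe u
open CategoryTheory CategoryTheory.Limits AlgebraicGeometry TopologicalSpace
open QuotLF

namespace Groth.Agent.S14343
open CategoryTheory CategoryTheory.Limits AlgebraicGeometry

open Groth.Agent TensorProduct MvPolynomial in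
lemma tmul_mem_nonZeroDivisors {A A' : Type u} [CommRing A] [CommRing A'] [Algebra A A'] {c : ℕ}
    (a : Fin c → A) (ha' : CAlgX.IsH1Regular fun i => algebraMap A A' (a i))
    (l : Fin c) (I : Ideal A) (hI : I = Ideal.span (Set.range a)) :
    ((1 : A') ⊗ₜ[A] algebraMap A (BlowUp.affineAlgebra A I (a l)) (a l)) ∈
      nonZeroDivisors (A' ⊗[A] BlowUp.affineAlgebra A I (a l)) := by
  classical
  let Q := BlowUp.affineAlgebra A I (a l)
  let a' : Fin c → A' := fun i => algebraMap A A' (a i)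
  let L' := Localization.Away (a' l)
  let b : Fin c → Q := fun i =>
    ⟨ExcDiv6.frac a l i, Algebra.subset_adjoin ⟨a i, hI ▸ Ideal.subset_span ⟨i, rfl⟩, rfl⟩⟩
  let e : MvPolynomial (Fin c) A' →ₐ[A'] A' ⊗[A] Q := aeval fun i => (1 : A') ⊗ₜ[A] b i
  have hb : ∀ i, algebraMap A Q (a l) * b i = algebraMap A Q (a i) := fun i =>
    Subtype.ext (ExcDiv6.frac_spec a l i)
  have hgen : ∀ q : Q, (1 : A') ⊗ₜ[A] q ∈ e.range := by
    intro q
    obtain ⟨q, hq⟩ := q
    induction hq using Algebra.adjoin_induction with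
    | mem q hq =>
      obtain ⟨x, hx, rfl⟩ := hq
      rw [hI] at hx
      obtain ⟨r, rfl⟩ := Ideal.mem_span_range_iff_exists_fun.1 hx
      refine ⟨∑ i, C (algebraMap A A' (r i)) * X i, ?_⟩
      have key : ∀ i, e (C (algebraMap A A' (r i)) * X i) = (1 : A') ⊗ₜ[A] (r i • b i) := fun i => by
        simp only [e, map_mul, aeval_C, aeval_X, Algebra.TensorProduct.algebraMap_apply,
          Algebra.algebraMap_self, RingHom.id_apply, Algebra.TensorProduct.tmul_mul_tmul, mul_one, one_mul]
        rw [tmul_smul, smul_tmul', Algebra.smul_def, mul_one]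
      show e _ = _
      rw [map_sum, Finset.sum_congr rfl fun i _ => key i, ← tmul_sum]
      congr 1
      apply Subtype.ext
      refine (IsLocalization.Away.algebraMap_isUnit (S := Localization.Away (a l)) (a l)).mul_left_cancel ?_
      rw [AddSubmonoidClass.coe_finsetSum, Finset.mul_sum]
      refine Eq.trans ?_ (IsLocalization.mk'_spec' _ _ ⟨a l, Submonoid.mem_powers (a l)⟩).symm
      rw [map_sum]
      refine Finset.sum_congr rfl fun i _ => ?_
      rw [Subalgebra.coe_smul, mul_smul_comm, map_mul, show ((b i : Q) : Localization.Away (a l)) = ExcDiv6.frac a l i from rfl,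
        ExcDiv6.frac_spec, Algebra.smul_def]
    | algebraMap r =>
      refine ⟨C (algebraMap A A' r), ?_⟩
      show e _ = (1 : A') ⊗ₜ[A] (algebraMap A Q r)
      rw [← Algebra.TensorProduct.algebraMap_apply']
      simp [e, Algebra.TensorProduct.algebraMap_apply]
    | add p q hp hq ihp ihq =>
      rw [show (⟨p + q, _⟩ : Q) = ⟨p, hp⟩ + ⟨q, hq⟩ from rfl, tmul_add]
      exact add_mem ihp ihq
    | mul p q hp hq ihp ihq =>
      have : (1 : A') ⊗ₜ[A] ((⟨p, hp⟩ : Q) * ⟨q, hq⟩) = ((1 : A') ⊗ₜ[A] (⟨p, hp⟩ : Q)) * ((1 : A') ⊗ₜ[A] (⟨q, hq⟩ : Q)) := by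
        rw [Algebra.TensorProduct.tmul_mul_tmul, mul_one]
      rw [show (⟨p * q, _⟩ : Q) = ⟨p, hp⟩ * ⟨q, hq⟩ from rfl, this]
      exact mul_mem ihp ihq
  have hsurj : Function.Surjective e := by
    intro z
    show z ∈ e.range
    induction z using TensorProduct.induction_on with
    | zero => exact zero_mem _
    | tmul x q =>
      rw [show x ⊗ₜ[A] q = algebraMap A' (A' ⊗[A] Q) x * ((1 : A') ⊗ₜ[A] q) by simp [Algebra.TensorProduct.algebraMap_apply]]
      exact mul_mem (e.range.algebraMap_mem x) (hgen q)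
    | add p q hp hq => exact add_mem hp hq
  let θ : Q →ₐ[A] L' :=
    { toRingHom := (Localization.awayMap (algebraMap A A') (a l)).comp Q.val.toRingHom
      commutes' := fun r => by
        show Localization.awayMap (algebraMap A A') (a l) (algebraMap A (Localization.Away (a l)) r) = _
        rw [Localization.awayMap, IsLocalization.Away.map, IsLocalization.map_eq, ← IsScalarTower.algebraMap_apply] }
  let Ψ : A' ⊗[A] Q →ₐ[A'] L' := Algebra.TensorProduct.lift (Algebra.ofId A' L') θ fun _ _ => Commute.all _ _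
  have hu : IsUnit (algebraMap A' L' (a' l)) := IsLocalization.Away.algebraMap_isUnit _
  have hΨ : Ψ.comp e = aeval (ExcDiv6.frac a' l) := by
    refine MvPolynomial.algHom_ext fun i => ?_
    simp only [AlgHom.comp_apply, e, aeval_X, Ψ, Algebra.TensorProduct.lift_tmul, map_one, one_mul]
    refine hu.mul_left_cancel ?_
    rw [ExcDiv6.frac_spec, ← IsScalarTower.algebraMap_apply A A' L', ← IsScalarTower.algebraMap_apply A A' L',
      ← θ.commutes, ← map_mul, hb, θ.commutes]
  have hT : ∀ P : MvPolynomial (Fin c) A', aeval (ExcDiv6.frac a' l) P = 0 → e P = 0 := by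
    intro P hP
    refine (sup_le (Ideal.span_le.2 ?_) (Ideal.span_le.2 ?_) :
      _ ≤ RingHom.ker e) (ExcDiv6.ker_aeval_frac_le a' ha' l hP)
    · rintro _ ⟨i, rfl⟩
      simp only [SetLike.mem_coe, RingHom.mem_ker, map_sub, map_mul, e, aeval_C, aeval_X,
        Algebra.TensorProduct.algebraMap_apply', a', ← IsScalarTower.algebraMap_apply,
        Algebra.TensorProduct.tmul_mul_tmul, mul_one, hb, sub_self]
    · rintro _ rfl
      have h1 : b l = 1 := Subtype.ext (ExcDiv6.frac_self a l)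
      simp [e, h1, Algebra.TensorProduct.one_def]
  refine mem_nonZeroDivisors_iff_right.2 fun z hz => ?_
  obtain ⟨P, rfl⟩ := hsurj z
  refine hT P ?_
  have := congrArg Ψ hz
  rw [map_mul, map_zero, Algebra.TensorProduct.lift_tmul, map_one, one_mul, θ.commutes,
    IsScalarTower.algebraMap_apply A A' L', hu.mul_left_eq_zero] at this
  exact (AlgHom.congr_fun hΨ P).symm.trans this

open Groth.Agent TensorProduct in
lemma cartier_affine {S S' B : Scheme.{u}} [IsAffine S] [IsAffine S'] (J : S.IdealSheafData)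
    (g : S' ⟶ S) {c : ℕ} (a : Fin c → Γ(S, ⊤)) (hJ : J.ideal ⟨⊤, isAffineOpen_top S⟩ = Ideal.span (Set.range a))
    (ha' : CAlgX.IsH1Regular fun i => g.appTop.hom (a i))
    (b : B ⟶ S) (hb : BlowUp.IsBlowUp b J) :
    BlowUp.IsEffCartierIdeal (J.comap (pullback.fst b g ≫ b)) := by
  let Idx := { x : B.Opens × Fin c //
    IsAffineOpen x.1 ∧ BlowUpExist.ChartCond J (a x.2) (x.1.ι ≫ b) }
  let Pw : Idx → Scheme.{u} := fun x => pullback (x.1.1.ι ≫ b) g
  let ι : ∀ x : Idx, Pw x ⟶ pullback b g := fun x =>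
    pullback.map _ _ _ _ x.1.1.ι (𝟙 S') (𝟙 S) (Category.comp_id _) (by simp)
  refine BlowUpExist.isEffCartierIdeal_of_cover ι (fun p => ?_) (fun x => ?_)
  · let y := pullback.fst b g p
    obtain ⟨W, hyW, f, hf, hfW⟩ := hb.1 y
    haveI : IsAffine W.1.toScheme := W.2
    let W0 := W.1.toScheme
    let h0 : W0 ⟶ S := W.1.ι ≫ b
    have hC0 : BlowUp.IsEffCartierIdeal (J.comap h0) := by
      rw [Scheme.IdealSheafData.comap_comp]
      exact BlowUpExist.isEffCartierIdeal_comap_of_isOpenImmersion hb.1 _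
    have hspan : ∃ f0, Ideal.span (Set.range fun i => h0.appTop.hom (a i)) = Ideal.span {f0} ∧ f0 ∈ nonZeroDivisors Γ(W0, ⊤) := by
      have h1 := EffCartier.comap_ideal (J.comap b) W.1.ι W ⟨⊤, isAffineOpen_top W0⟩ (fun z _ => z.2)
      rw [hfW, Ideal.map_span, Set.image_singleton, ← Scheme.IdealSheafData.comap_comp] at h1
      refine ⟨_, ?_, EffCartier.mem_nonZeroDivisors_of_ideal_eq hC0 _ _ h1⟩
      rw [← h1, EffCartier.comap_ideal_top, hJ, Ideal.map_span, ← Set.range_comp]
      rfl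
    obtain ⟨f0, hspan, hf0⟩ := hspan
    have hmem : ∀ i, h0.appTop.hom (a i) ∈ Ideal.span {f0} := fun i => hspan.le (Ideal.subset_span ⟨i, rfl⟩)
    choose v hv using fun i => Ideal.mem_span_singleton'.1 (hmem i)
    obtain ⟨u, hu⟩ := Ideal.mem_span_range_iff_exists_fun.1 (hspan.ge (Ideal.mem_span_singleton_self f0))
    have hone : ∑ i, u i * v i = 1 := by
      refine (mul_cancel_right_mem_nonZeroDivisors hf0).1 ?_
      rw [Finset.sum_mul, one_mul]
      exact (Finset.sum_congr rfl fun i _ => by rw [mul_assoc, hv]).trans hu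
    let y0 : W0 := ⟨y, hyW⟩
    obtain ⟨l, hl⟩ : ∃ l, y0 ∈ W0.basicOpen (v l) := by
      by_contra hne
      push Not at hne
      have h1 : W0.presheaf.germ ⊤ y0 trivial (∑ i, u i * v i) ∈ IsLocalRing.maximalIdeal (W0.presheaf.stalk y0) := by
        rw [map_sum]
        refine Ideal.sum_mem _ fun i _ => ?_
        rw [map_mul]
        refine Ideal.mul_mem_left _ _ ?_
        rw [IsLocalRing.mem_maximalIdeal, mem_nonunits_iff]
        exact fun hi => hne i ((W0.mem_basicOpen (v i) y0 trivial).2 hi)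
      rw [hone, map_one] at h1
      exact (IsLocalRing.maximalIdeal.isMaximal _).ne_top ((Ideal.eq_top_iff_one _).2 h1)
    let D0 := W0.basicOpen (v l)
    have hD0 : IsAffineOpen D0 := (isAffineOpen_top W0).basicOpen _
    haveI : IsAffine D0.toScheme := hD0
    let D : B.Opens := W.1.ι ''ᵁ D0
    have hcond : BlowUpExist.ChartCond J (a l) (D0.ι ≫ h0) := by
      refine (BlowUpExist.chartCond_iff J (a l) _).2 ?_
      have hC : BlowUp.IsEffCartierIdeal (J.comap (D0.ι ≫ h0)) := by
        rw [Scheme.IdealSheafData.comap_comp]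
        exact BlowUpExist.isEffCartierIdeal_comap_of_isOpenImmersion hC0 _
      have hunit : IsUnit (D0.ι.appTop (v l)) := by
        apply D0.toScheme.toRingedSpace.isUnit_of_isUnit_germ ⊤
        intro z hz
        refine (D0.toScheme.mem_basicOpen _ z hz).1 ?_
        rw [← Scheme.preimage_basicOpen_top]
        exact z.2
      have heq : (J.ideal ⟨⊤, isAffineOpen_top S⟩).map (D0.ι ≫ h0).appTop.hom = Ideal.span {(D0.ι ≫ h0).appTop (a l)} := by
        rw [Scheme.Hom.comp_appTop, CommRingCat.hom_comp, ← Ideal.map_map, CommRingCat.comp_apply,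
          show (J.ideal ⟨⊤, isAffineOpen_top S⟩).map h0.appTop.hom = Ideal.span {f0} by
            rw [hJ, Ideal.map_span, ← Set.range_comp]; exact hspan,
          Ideal.map_span, Set.image_singleton, show h0.appTop (a l) = v l * f0 from (hv l).symm]
        rw [map_mul]
        exact (Ideal.span_singleton_mul_left_unit hunit _).symm
      exact ⟨EffCartier.mem_nonZeroDivisors_of_ideal_eq hC ⟨⊤, isAffineOpen_top _⟩ _
        ((EffCartier.comap_ideal_top _ _).trans heq), heq⟩
    have hDaff : IsAffineOpen D := hD0.image_of_isOpenImmersion W.1.ι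
    let e := (Scheme.Hom.isoImage W.1.ι D0)
    have hcond' : BlowUpExist.ChartCond J (a l) (D.ι ≫ b) := by
      have h1 := BlowUpExist.chartCond_restrict J (a l) hcond e.inv
      rwa [show e.inv ≫ D0.ι ≫ h0 = D.ι ≫ b by
        show e.inv ≫ D0.ι ≫ W.1.ι ≫ b = _
        rw [← Category.assoc, ← Category.assoc, Category.assoc e.inv, Scheme.Hom.isoImage_inv_ι]] at h1
    refine ⟨⟨(D, l), hDaff, hcond'⟩, ?_⟩
    show p ∈ Set.range (pullback.map _ _ _ _ D.ι (𝟙 S') (𝟙 S) _ _)
    rw [Scheme.Pullback.range_map]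
    exact ⟨⟨⟨y, ⟨y0, hl, rfl⟩⟩, rfl⟩, ⟨_, rfl⟩⟩
  · obtain ⟨⟨D, l⟩, hD, hh⟩ := x
    haveI : IsAffine D.toScheme := hD
    let A := Γ(S, ⊤)
    let I := J.ideal ⟨⊤, isAffineOpen_top S⟩
    let π := BlowUpExist.chartπ J (a l)
    obtain ⟨k, hk, -⟩ := BlowUpExist.existsUnique_chart_lift J (a l) (D.ι ≫ b) hh
    have hπ := BlowUpExist.chartCond_chartπ J (a l) (hJ.ge (Ideal.subset_span ⟨l, rfl⟩))
    obtain ⟨k', hk', huk'⟩ := hb.2 _ π hπ.1
    have hkk : k ≫ k' = D.ι := by
      obtain ⟨_, _, hu⟩ := hb.2 _ (D.ι ≫ b) hh.1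
      exact (hu (k ≫ k') (by show (k ≫ k') ≫ b = _; rw [Category.assoc, show k' ≫ b = π from hk']; exact hk)).trans
        (hu D.ι rfl).symm
    let Ω := k' ⁻¹ᵁ D
    haveI : IsOpenImmersion k := by
      let e : D.toScheme ⟶ Ω.toScheme := IsOpenImmersion.lift Ω.ι k (by
        rintro _ ⟨z, rfl⟩
        refine ⟨⟨k z, ?_⟩, rfl⟩
        show k' (k z) ∈ D
        rw [← Scheme.Hom.comp_apply, hkk]
        exact z.2)
      have he : e ≫ Ω.ι = k := IsOpenImmersion.lift_fac _ _ _
      have h1 : e ≫ (k' ∣_ D) = 𝟙 _ := by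
        rw [← cancel_mono D.ι, Category.assoc, morphismRestrict_ι, ← Category.assoc, he, hkk, Category.id_comp]
      have h2 : (k' ∣_ D) ≫ e = 𝟙 _ := by
        rw [← cancel_mono Ω.ι, Category.assoc, he, Category.id_comp]
        refine BlowUpExist.chart_hom_ext J (a l) (BlowUpExist.chartCond_restrict J (a l) hπ Ω.ι) ?_ rfl
        rw [Category.assoc, show k ≫ π = D.ι ≫ b from hk, morphismRestrict_ι_assoc, show k' ≫ b = π from hk']
      haveI : IsIso e := ⟨k' ∣_ D, h1, h2⟩
      rw [← he]; infer_instance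
    let T := pullback π g
    have hT : BlowUp.IsEffCartierIdeal (J.comap (pullback.fst π g ≫ π)) := by
      haveI : IsAffine T := IsAffine.of_isPullback (IsPullback.of_hasPullback π g)
      let Q := BlowUp.affineAlgebra A I (a l)
      letI : Algebra A Γ(S', ⊤) := g.appTop.hom.toAlgebra
      have sq := isPushout_appTop_of_isPullback (IsPullback.of_hasPullback π g)
      have sq' : IsPushout (CommRingCat.ofHom (algebraMap A Q)) g.appTop
          ((Scheme.ΓSpecIso (CommRingCat.of Q)).inv ≫ (pullback.fst π g).appTop) (pullback.snd π g).appTop :=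
        sq.of_iso (Iso.refl _) (Scheme.ΓSpecIso (CommRingCat.of Q)) (Iso.refl _) (Iso.refl _)
          (by simpa using BlowUpExist.chartπ_appTop J (a l)) (by simp) (by simp) (by simp)
      have sq₀ := (CommRingCat.isPushout_tensorProduct A Γ(S', ⊤) Q).flip
      let φ := sq₀.isoIsPushout _ _ sq'
      have hφ : φ.hom ((1 : Γ(S', ⊤)) ⊗ₜ[A] algebraMap A Q (a l)) = (pullback.fst π g ≫ π).appTop (a l) := by
        have h1 := ConcreteCategory.congr_hom (sq₀.inl_isoIsPushout_hom _ _ sq') (algebraMap A Q (a l))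
        refine h1.trans ?_
        have h2 := ConcreteCategory.congr_hom (BlowUpExist.chartπ_appTop J (a l)) (a l)
        rw [Scheme.Hom.comp_appTop]
        show (pullback.fst π g).appTop ((Scheme.ΓSpecIso (CommRingCat.of Q)).inv (algebraMap A Q (a l))) = _
        rw [← show (Scheme.ΓSpecIso (CommRingCat.of Q)).hom (π.appTop (a l)) = algebraMap A Q (a l) from h2,
          ← CommRingCat.comp_apply (Scheme.ΓSpecIso _).hom, Iso.hom_inv_id]
        rfl
      have hnz : (pullback.fst π g ≫ π).appTop (a l) ∈ nonZeroDivisors Γ(T, ⊤) := by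
        rw [← hφ]
        exact MulEquivClass.map_nonZeroDivisors φ.commRingCatIsoToRingEquiv ▸
          ⟨_, tmul_mem_nonZeroDivisors (A' := Γ(S', ⊤)) a ha' l I hJ, rfl⟩
      refine ((BlowUpExist.chartCond_iff J (a l) _).2 ⟨hnz, ?_⟩).1
      rw [Scheme.Hom.comp_appTop, CommRingCat.hom_comp, ← Ideal.map_map, ((BlowUpExist.chartCond_iff J (a l) π).1 hπ).2,
        Ideal.map_span, Set.image_singleton]
      rfl
    let ν : pullback (D.ι ≫ b) g ⟶ T :=
      pullback.map _ _ _ _ k (𝟙 S') (𝟙 S) (by rw [Category.comp_id]; exact hk.symm) (by simp)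
    have hν : ν ≫ pullback.fst π g ≫ π =
        pullback.map _ _ _ _ D.ι (𝟙 S') (𝟙 S) (Category.comp_id _) (by simp) ≫ pullback.fst b g ≫ b := by
      simp only [ν, pullback.map, pullback.lift_fst_assoc, Category.assoc]
      rw [show k ≫ π = D.ι ≫ b from hk]
    rw [← Scheme.IdealSheafData.comap_comp, ← hν, Scheme.IdealSheafData.comap_comp]
    exact BlowUpExist.isEffCartierIdeal_comap_of_isOpenImmersion hT ν

lemma map_eqToHom_round {X : Scheme.{u}} {U U' : X.Opensᵒᵖ} (h : U = U') (h' : U' = U) (r : X.presheaf.obj U) :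
    (X.presheaf.map (eqToHom h')).hom ((X.presheaf.map (eqToHom h)).hom r) = r := by
  subst h; simp

open Groth.Agent in
lemma h1_cast {R : Type u} [CommRing R] {n m : ℕ} (e : n = m) (f : Fin m → R) (h : CAlgX.IsH1Regular f) :
    CAlgX.IsH1Regular fun i => f (Fin.cast e i) := by subst e; exact h

/-- Let 𝓘 be a Koszul-regular quasi-coherent ideal sheaf on a scheme X (the ideal of a Koszul-regularly
immersed closed subscheme Z) and let g : X' ⟶ X be a morphism which is Tor-independent with respect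
to Z ⟶ X, stated in the following equivalent form: whenever 𝓘(U) is generated on an affine open U by
a Koszul-regular sequence, the image of that sequence in Γ(X', V) is again Koszul-regular for every
affine open V of X' lying over U (for a Koszul-regular ideal the Koszul complex of such a sequence
resolves O_Z on U, so this says exactly that the higher Tor groups of O_Z against O_{X'} vanish).
Then for every blowing-up b : B ⟶ X of X in 𝓘, the base change B ×_X X' ⟶ X' is a blowing-up of X'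
in the inverse image ideal sheaf 𝓘·O_{X'} (the ideal of Z ×_X X'). Blowing-ups are taken through
their universal property. -/
theorem result {X X' B : Scheme.{u}} (𝓘 : X.IdealSheafData)
    (h𝓘 : RegImm.IsRegularIdeal .koszul 𝓘) (g : X' ⟶ X)
    (hg : ∀ (U : X.affineOpens) (rs : List Γ(X, U.1)), LCI.IsKoszulRegularSeq Γ(X, U.1) rs →
      𝓘.ideal U = Ideal.ofList rs → ∀ (V : X'.affineOpens) (e : V.1 ≤ g ⁻¹ᵁ U.1),
        LCI.IsKoszulRegularSeq Γ(X', V.1) (rs.map fun r => (g.appLE U.1 V.1 e).hom r))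
    (b : B ⟶ X) (hb : BlowUp.IsBlowUp b 𝓘) :
    BlowUp.IsBlowUp (pullback.snd b g) (𝓘.comap g) := by
  refine ⟨?_, fun W k hk => ?_⟩
  swap
  · rw [← Scheme.IdealSheafData.comap_comp] at hk
    obtain ⟨h, hh, hu⟩ := hb.2 W (k ≫ g) hk
    refine ⟨pullback.lift h k hh, pullback.lift_snd _ _ _, fun l hl => ?_⟩
    apply pullback.hom_ext
    · rw [pullback.lift_fst]
      exact hu _ (by show (l ≫ pullback.fst b g) ≫ b = k ≫ g; rw [Category.assoc, pullback.condition, ← Category.assoc, hl])
    · rw [pullback.lift_snd]; exact hl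
  rw [← Scheme.IdealSheafData.comap_comp, ← pullback.condition]
  have hU : ∀ x : X, ∃ U : X.affineOpens, x ∈ U.1 ∧ ∃ rs : List Γ(X, U.1),
      LCI.IsKoszulRegularSeq Γ(X, U.1) rs ∧ 𝓘.ideal U = Ideal.ofList rs := by
    intro x
    by_cases hx : x ∈ 𝓘.support
    · exact h𝓘 x hx
    · obtain ⟨U, hU, hxU, hle⟩ := exists_isAffineOpen_mem_and_subset (U := ⟨(𝓘.support : Set X)ᶜ, 𝓘.support.isClosed.isOpen_compl⟩) hx
      refine ⟨⟨U, hU⟩, hxU, [1], (CI2.isKoszulRegularSeq_iff_ex _).mpr (CI2.ex_of_isWeaklyRegular _ _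
        ((RingTheory.Sequence.isWeaklyRegular_singleton_iff _ _).2 (IsSMulRegular.one _))), ?_⟩
      have : 𝓘.ideal ⟨U, hU⟩ = ⊤ := by
        by_contra hne
        obtain ⟨m, hm, hle'⟩ := Ideal.exists_le_maximal _ hne
        let q : Spec Γ(X, U) := ⟨m, hm.isPrime⟩
        have hq : hU.fromSpec q ∈ U := hU.range_fromSpec.le ⟨q, rfl⟩
        refine hle hq ((Scheme.IdealSheafData.mem_support_iff_of_mem (U := ⟨U, hU⟩) hq).2 ?_)
        rw [← Set.mem_preimage, hU.fromSpec_preimage_zeroLocus]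
        exact hle'
      rw [this]
      simp [Ideal.ofList]
  let Idx := { x : X.affineOpens × X'.affineOpens //
    x.2.1 ≤ g ⁻¹ᵁ x.1.1 ∧ ∃ rs : List Γ(X, x.1.1), LCI.IsKoszulRegularSeq Γ(X, x.1.1) rs ∧ 𝓘.ideal x.1 = Ideal.ofList rs }
  let ι : ∀ x : Idx, pullback (pullback.fst x.1.1.1.ι b) (g.resLE x.1.1.1 x.1.2.1 x.2.1) ⟶ pullback b g := fun x =>
    pullback.map _ _ _ _ (pullback.snd x.1.1.1.ι b) x.1.2.1.ι x.1.1.1.ι pullback.condition (Scheme.Hom.resLE_comp_ι _ _)
  refine BlowUpExist.isEffCartierIdeal_of_cover ι (fun p => ?_) (fun x => ?_)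
  · obtain ⟨U, hxU, rs, hrs, hU'⟩ := hU (b (pullback.fst b g p))
    have hp : g (pullback.snd b g p) = b (pullback.fst b g p) := by
      rw [← Scheme.Hom.comp_apply, ← pullback.condition, Scheme.Hom.comp_apply]
    obtain ⟨V, hV, hpV, hle⟩ := exists_isAffineOpen_mem_and_subset (x := pullback.snd b g p) (U := g ⁻¹ᵁ U.1)
      (by show g _ ∈ U.1; rw [hp]; exact hxU)
    refine ⟨⟨(U, ⟨V, hV⟩), hle, rs, hrs, hU'⟩, ?_⟩
    show p ∈ Set.range (ι ⟨(U, ⟨V, hV⟩), hle, rs, hrs, hU'⟩)
    simp only [ι, Scheme.Pullback.range_map]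
    refine ⟨?_, ⟨⟨_, hpV⟩, rfl⟩⟩
    rw [Scheme.Pullback.range_snd]
    exact ⟨⟨_, hxU⟩, rfl⟩
  · obtain ⟨⟨U, V⟩, hle, rs, hrs, hIU⟩ := x
    haveI : IsAffine U.1.toScheme := U.2
    haveI : IsAffine V.1.toScheme := V.2
    let τ := U.1.topIso.commRingCatIsoToRingEquiv
    have hr := hg U rs hrs hIU V hle
    have key := cartier_affine (𝓘.comap U.1.ι) (g.resLE U.1 V.1 hle) (fun i => τ.symm (rs.get i)) ?_ ?_
      (pullback.fst U.1.ι b) (BlowUp26.isBlowUp_flat_baseChange U.1.ι hb)
    · rw [← Scheme.IdealSheafData.comap_comp] at key ⊢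
      have e : ι ⟨(U, V), hle, rs, hrs, hIU⟩ ≫ pullback.fst b g ≫ b =
          (pullback.fst (pullback.fst U.1.ι b) (g.resLE U.1 V.1 hle) ≫ pullback.fst U.1.ι b) ≫ U.1.ι := by
        simp only [ι, pullback.map, pullback.lift_fst_assoc, Category.assoc]
        rw [← pullback.condition (f := U.1.ι) (g := b)]
      rwa [e]
    · rw [EffCartier.comap_ideal 𝓘 U.1.ι U ⟨⊤, isAffineOpen_top _⟩ (fun z _ => z.2), hIU,
        Set.range_comp' τ.symm rs.get, Set.range_list_get]
      show _ = Ideal.span (τ.symm.toRingHom '' _)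
      rw [← Ideal.map_span]
      congr 1
      simp [τ, Scheme.Opens.ι_appLE, Scheme.Opens.topIso_inv]
      rfl
    · let σ := V.1.topIso.commRingCatIsoToRingEquiv
      have h1 := RegImm26.isH1Regular_map_ringEquiv σ.symm _ (Cyc26.isH1Regular_of_isKoszulRegularSeq _ hr)
      have h2 := h1_cast (n := rs.length) (List.length_map _).symm _ h1
      convert h2 using 2 with i
      simp [σ, τ, Iso.commRingCatIsoToRingEquiv, Scheme.Opens.topIso_hom, Scheme.Opens.topIso_inv]
      congr 2
      exact map_eqToHom_round _ _ _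

end Groth.Agent.S14343
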