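import Groth.Statements.S14345
import Mathlib
import Groth.Prelude.Def_Fitting
import Groth.Agent.Lib.Fitting.More

set_option autoImplicit false
universe u v
open TensorProduct
open QuotLF

namespace Groth.Agent.S14345
open scoped TensorProduct

/-- Let R be a commutative ring, M a finitely generated R-module and k ≥ 0. If for an R-algebra A the
module A ⊗_R M admits a quotient that is finite projective of constant rank k (an A-valued point of
the Quot scheme of rank-k locally free quotients of M), then every Fitting ideal Fit_j(M) with j < k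
extends to the zero ideal of A; that is, the structure map of the Quot scheme of rank-k locally free
quotients factors through the closed subscheme cut out by Fit_{k-1}(M). -/
theorem result (R : Type u) [CommRing R]
    (M : Type v) [AddCommGroup M] [Module R M] [Module.Finite R M] (k : ℕ)
    (A : Type u) [CommRing A] [Algebra R A] (N : Module.Grassmannian A (A ⊗[R] M) k)
    (j : ℕ) (hj : j < k) :
    (Fitt.ideal R M j).map (algebraMap R A) = ⊥ := by
  rw [← Groth.Agent.FittingLib.ideal_baseChange, eq_bot_iff]
  refine (Groth.Agent.FittingLib.ideal_le_of_surjective N.toSubmodule.mkQ (Submodule.mkQ_surjective _) j).trans ?_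
  set Q := (A ⊗[R] M) ⧸ N.toSubmodule
  intro a ha
  rw [Ideal.mem_bot]
  by_contra hne
  obtain ⟨m, hm, hle⟩ := Ideal.exists_le_maximal (Ideal.span {a} : Ideal A).annihilator (by
    rw [Ne, Submodule.annihilator_eq_top_iff, Ideal.span_singleton_eq_bot]; exact hne)
  let Am := Localization.AtPrime m
  haveI : Module.Free Am (Am ⊗[A] Q) := Module.free_of_flat_of_isLocalRing
  have hrk : Module.finrank Am (Am ⊗[A] Q) = k := by
    refine Eq.trans ?_ (N.rankAtStalk_eq ⟨m, inferInstance⟩)
    rw [Module.rankAtStalk_eq_finrank_tensorProduct]
  have hbot : Fitt.ideal Am (Am ⊗[A] Q) j = ⊥ :=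
    Groth.Agent.FittingLib.ideal_eq_bot_of_basis (Module.Free.chooseBasis Am (Am ⊗[A] Q))
      (by rw [← Module.finrank_eq_card_chooseBasisIndex, hrk]; exact hj)
  rw [Groth.Agent.FittingLib.ideal_baseChange] at hbot
  have h0 : algebraMap A Am a = 0 := by
    rw [← Ideal.mem_bot, ← hbot]; exact Ideal.mem_map_of_mem _ ha
  obtain ⟨⟨s, hs⟩, hsa⟩ := (IsLocalization.map_eq_zero_iff m.primeCompl Am a).1 h0
  exact hs (hle (by rw [Submodule.annihilator_span_singleton, LinearMap.mem_ker, LinearMap.toSpanSingleton_apply]; exact hsa))

end Groth.Agent.S14345
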