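import Groth.Statements.S14346
import Mathlib

set_option autoImplicit false
universe u v
open TensorProduct
open QuotLF

namespace Groth.Agent.S14346

/-- Let R be a commutative ring, M an R-module, k ≥ 0, and A an R-algebra for which A ⊗_R M is finite
projective of constant rank k, i.e. Spec A → Spec R factors through the locally closed stratum where
M is locally free of rank k. Then A ⊗_R M has exactly one rank-k locally free quotient: the zero
submodule has finite projective quotient of constant rank k, and every submodule with such a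
quotient is zero. In other words the Quot scheme of rank-k locally free quotients of M restricted to
that stratum maps isomorphically onto it. -/
theorem result (R : Type u) [CommRing R]
    (M : Type v) [AddCommGroup M] [Module R M] (k : ℕ)
    (A : Type u) [CommRing A] [Algebra R A] [Module.Finite A (A ⊗[R] M)] [Module.Projective A (A ⊗[R] M)]
    (hk : ∀ p : PrimeSpectrum A, Module.rankAtStalk (R := A) (A ⊗[R] M) p = k) :
    (∃ N : Module.Grassmannian A (A ⊗[R] M) k, N.toSubmodule = ⊥) ∧
      ∀ N : Module.Grassmannian A (A ⊗[R] M) k, N.toSubmodule = ⊥ := by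
  suffices key : ∀ (X : Type (max u v)) [AddCommGroup X] [Module A X] [Module.Finite A X] [Module.Projective A X],
      (∀ p, Module.rankAtStalk (R := A) X p = k) →
      (∃ N : Module.Grassmannian A X k, N.toSubmodule = ⊥) ∧ ∀ N : Module.Grassmannian A X k, N.toSubmodule = ⊥ from key _ hk
  clear hk
  intro X _ _ _ _ hk
  let e : (X ⧸ (⊥ : Submodule A X)) ≃ₗ[A] X := Submodule.quotEquivOfEqBot _ rfl
  refine ⟨⟨⟨⊥, Module.Finite.of_surjective (Submodule.mkQ _) (Submodule.mkQ_surjective _), Module.Projective.of_equiv e.symm,
    fun p => by rw [congrFun (Module.rankAtStalk_eq_of_equiv e) p]; exact hk p⟩, rfl⟩, fun N => ?_⟩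
  set S := N.toSubmodule
  haveI : Module.Finite A (X ⧸ S) := N.finite_quotient
  haveI : Module.Projective A (X ⧸ S) := N.projective_quotient
  obtain ⟨g, hg⟩ := Module.projective_lifting_property S.mkQ LinearMap.id S.mkQ_surjective
  have hg' : ∀ q, S.mkQ (g q) = q := fun q => LinearMap.congr_fun hg q
  let π : X →ₗ[A] S := (LinearMap.id - g ∘ₗ S.mkQ).codRestrict S fun x => by
    rw [← Submodule.Quotient.mk_eq_zero, ← Submodule.mkQ_apply, LinearMap.sub_apply, map_sub, LinearMap.comp_apply, hg', LinearMap.id_apply, sub_self]
  have hπ : ∀ s : S, π s = s := fun s => by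
    apply Subtype.ext
    simp [π, (Submodule.Quotient.mk_eq_zero S).2 s.2]
  haveI : Module.Finite A S := Module.Finite.of_surjective π fun s => ⟨s, hπ s⟩
  haveI : Module.Projective A S := Module.Projective.of_split S.subtype π (LinearMap.ext hπ)
  let eq : X ≃ₗ[A] S × (X ⧸ S) := LinearEquiv.ofLinearMap (π.prod S.mkQ) (S.subtype.coprod g)
    (LinearMap.ext fun ⟨s, q⟩ => by
      have h1 : (Submodule.Quotient.mk (s : X) : X ⧸ S) = 0 := (Submodule.Quotient.mk_eq_zero _).2 s.2
      have h2 : (Submodule.Quotient.mk (g q) : X ⧸ S) = q := hg' q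
      refine Prod.ext (Subtype.ext ?_) ?_
      · simp [π, h1, h2]
      · simp [h1, h2])
    (LinearMap.ext fun x => by simp [π])
  have h0 : Subsingleton S := Module.rankAtStalk_eq_zero_iff_subsingleton.1 (funext fun p => by
    have h := congrFun (Module.rankAtStalk_eq_of_equiv eq) p
    rw [Module.rankAtStalk_prod, Pi.add_apply, hk p, N.rankAtStalk_eq p] at h
    simp only [Pi.zero_apply]
    omega)
  exact Submodule.eq_bot_of_subsingleton

end Groth.Agent.S14346
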