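import Groth.Statements.S1435
import Groth.Agent.Lib.AffStrat4.Basic

set_option autoImplicit false
universe u
open FlatMor

set_option backward.isDefEq.respectTransparency.types false

namespace Groth.Agent.S1435

open AlgebraicGeometry CategoryTheory Limits in
/-- A scheme has a finite affine stratification if and only if it is quasi-compact and quasi-separated. -/
theorem result (X : Scheme.{u}) :
    (∃ n : ℕ, MoreMor.HasAffineStratification X n) ↔ CompactSpace ↑X ∧ QuasiSeparatedSpace ↑X := by
  exact ⟨fun ⟨n, h⟩ => Groth.Agent.AffStrat4.qcqs_of h,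
    fun ⟨h1, h2⟩ => @Groth.Agent.AffStrat4.exists_of_qcqs X h1 h2⟩

end Groth.Agent.S1435
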