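import Groth.Statements.S14350
import Groth.Agent.Lib.CohFound16.DerivedPre

set_option autoImplicit false
universe u
open CategoryTheory
open CohTop

namespace Groth.Agent.S14350
set_option linter.style.haveILetI false
set_option backward.isDefEq.respectTransparency false
set_option backward.isDefEq.respectTransparency.types false
open CategoryTheory CategoryTheory.Limits TopologicalSpace Opposite Groth.Agent.CohFound Groth.Agent.CohFound16 in


open TopologicalSpace in
/-- For a sheaf of abelian groups F on a topological space X and p ≥ 0, the value at F of the p-th right
derived functor of the (left exact) forgetful functor from abelian sheaves to abelian presheaves on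
X is isomorphic, as a presheaf, to the cohomology presheaf U ↦ H^p(U, F). Existence of an
isomorphism of presheaves only. (The published statement is for O_X-modules and presheaves of
O_X-modules on a scheme X; this row is the case of sheaves of abelian groups on a topological
space.) -/
theorem result {X : TopCat.{u}}
    (F : CohTop.Ab X) (p : ℕ) :
    Nonempty (((sheafToPresheaf (Opens.grothendieckTopology X) AddCommGrpCat.{u}).rightDerived p).obj F ≅
      Sheaf.cohomologyPresheaf.{u} F p) := by
  haveI : (sheafToPresheaf (Opens.grothendieckTopology (X : Type u)) AddCommGrpCat.{u}).Additive :=
    Functor.additive_of_preserves_binary_products _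
  obtain ⟨e⟩ := nonempty_homology_forget_iso (augOfInj (injectiveResolution F)) (fun V => acyclicOn_augOfInj _ _) p
  let c : hcPre F p ≅ Sheaf.cohomologyPresheaf.{u} F p :=
    NatIso.ofComponents (fun U => (huExt F p U.unop).symm.toAddCommGrpIso)
      fun {U V} i => by
        ext x
        apply (huExt F p V.unop).injective
        refine (AddEquiv.apply_symm_apply _ _).trans ?_
        refine Eq.trans ?_ (huExt_res F p (leOfHom i.unop) ((huExt F p U.unop).symm x)).symm
        rw [AddEquiv.apply_symm_apply]
        rfl
  exact ⟨(injectiveResolution F).isoRightDerivedObj _ p ≪≫ e ≪≫ c⟩

end Groth.Agent.S14350
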