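import Groth.Statements.S14351
import Mathlib.RingTheory.Ideal.AssociatedPrime.Finiteness
import Mathlib.RingTheory.Jacobson.Ring
import Mathlib.RingTheory.Artinian.Module
import Mathlib.RingTheory.Artinian.Ring
import Mathlib.RingTheory.Regular.IsSMulRegular
import Mathlib.RingTheory.AdicCompletion.Basic
import Mathlib.RingTheory.IntegralDomain
import Mathlib.RingTheory.FinitePresentation
import Mathlib.RingTheory.Flat.FaithfullyFlat.Basic
import Mathlib.RingTheory.Flat.FaithfullyFlat.Algebra
import Mathlib.RingTheory.IntegralClosure.IntegrallyClosed
import Mathlib.LinearAlgebra.Matrix.MvPolynomial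
import Mathlib.RingTheory.Polynomial.Basic
import Mathlib.RingTheory.Localization.FractionRing
import Mathlib.RingTheory.IntegralClosure.IsIntegral.Basic
import Mathlib.LinearAlgebra.TensorProduct.Tower
import Mathlib.RingTheory.Ideal.Quotient.Operations
import Mathlib.RingTheory.Ideal.Colon
import Mathlib.RingTheory.Support
import Mathlib.RingTheory.Noetherian.OfPrime
import Mathlib.RingTheory.HopkinsLevitzki
import Mathlib.RingTheory.Ideal.AssociatedPrime.Localization
import Mathlib.RingTheory.Flat.FaithfullyFlat.Descent
import Mathlib.LinearAlgebra.TensorProduct.Quotient
import Mathlib.LinearAlgebra.TensorProduct.RightExactness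
import Mathlib.RingTheory.PrincipalIdealDomain
import Mathlib.LinearAlgebra.Matrix.Charpoly.Basic
import Mathlib.RingTheory.Flat.Stability
import Mathlib.RingTheory.Nilpotent.Lemmas
import Mathlib.Algebra.Module.Projective
import Mathlib.RingTheory.LocalRing.ResidueField.Basic
import Mathlib.GroupTheory.OrderOfElement
import Mathlib.Algebra.EuclideanDomain.Int
import Mathlib.RingTheory.Spectrum.Maximal.Basic

set_option autoImplicit false
universe u
open CAlg

namespace Groth.Agent.S14351
open TensorProduct

/-- For ring maps A → B → C with C faithfully flat over B and C faithfully flat over A, the ring B is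
faithfully flat over A. -/
theorem result (A B C : Type u) [CommRing A] [CommRing B]
    [CommRing C] [Algebra A B] [Algebra B C] [Algebra A C] [IsScalarTower A B C]
    [Module.FaithfullyFlat B C] [Module.FaithfullyFlat A C] : Module.FaithfullyFlat A B := by
  have : Module.Flat A B := by
    rw [Module.Flat.iff_lTensor_preserves_injective_linearMap]
    intro N N' _ _ _ _ f hf
    rw [← LinearMap.baseChange_eq_ltensor, ← Module.FaithfullyFlat.lTensor_injective_iff_injective B C (f.baseChange B)]
    have h := Module.Flat.lTensor_preserves_injective_linearMap (M := C) f hf
    have e : ∀ z, AlgebraTensorModule.cancelBaseChange A B B C N' ((f.baseChange B).lTensor C z) =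
        f.lTensor C (AlgebraTensorModule.cancelBaseChange A B B C N z) := by
      intro z
      induction z using TensorProduct.induction_on with
      | zero => simp
      | tmul c w =>
        induction w using TensorProduct.induction_on with
        | zero => simp
        | tmul b n => simp
        | add x y hx hy => simp only [tmul_add, map_add, hx, hy]
      | add x y hx hy => simp only [map_add, hx, hy]
    intro x y hxy
    apply (AlgebraTensorModule.cancelBaseChange A B B C N).injective
    exact h (by rw [← e, ← e, hxy])
  apply Module.FaithfullyFlat.of_comap_surjective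
  intro p
  obtain ⟨q, hq⟩ := PrimeSpectrum.comap_surjective_of_faithfullyFlat (A := A) (B := C) p
  exact ⟨PrimeSpectrum.comap (algebraMap B C) q, by rw [← hq, ← PrimeSpectrum.comap_comp_apply, ← IsScalarTower.algebraMap_eq]⟩

end Groth.Agent.S14351
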