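import Groth.Statements.S14353
import Mathlib

set_option autoImplicit false
universe u
open CategoryTheory CategoryTheory.Limits CategoryTheory.MonoidalCategory
open CAlg

namespace Groth.Agent.S14353
open CategoryTheory CategoryTheory.Limits MonoidalCategory Opposite TensorProduct

/-- A tower of nonempty cosets in artinian modules has a section. -/
theorem exists_section {R : Type u} [CommRing R] {X : ℕ → Type u} [∀ n, AddCommGroup (X n)] [∀ n, Module R (X n)]
    [∀ n, IsArtinian R (X n)] (r : ∀ {n k : ℕ}, n ≤ k → (X k →ₗ[R] X n)) (hself : ∀ n (x : X n), r (le_refl n) x = x)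
    (htr : ∀ {n k l : ℕ} (h : n ≤ k) (h' : k ≤ l) (x : X l), r h (r h' x) = r (h.trans h') x)
    (L : ∀ n, Submodule R (X n)) (x : ∀ n, X n) (hL : ∀ {n k : ℕ} (h : n ≤ k), (L k).map (r h) ≤ L n)
    (hx : ∀ {n k : ℕ} (h : n ≤ k), r h (x k) - x n ∈ L n) :
    ∃ y : ∀ n, X n, (∀ n, y n - x n ∈ L n) ∧ ∀ {n k : ℕ} (h : n ≤ k), r h (y k) = y n := by
  classical
  let D : ∀ n, ℕ →o (Submodule R (X n))ᵒᵈ := fun n =>
    ⟨fun k => OrderDual.toDual ((L (n + k)).map (r (Nat.le_add_right n k))), fun a b hab => by
      change (L (n + b)).map (r (Nat.le_add_right n b)) ≤ (L (n + a)).map (r (Nat.le_add_right n a))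
      rintro _ ⟨z, hz, rfl⟩
      exact ⟨r (by omega : n + a ≤ n + b) z, hL _ ⟨z, hz, rfl⟩, htr _ _ z⟩⟩
  choose K hK using fun n => IsArtinian.monotone_stabilizes (D n)
  -- stable image cosets
  let N : ℕ → ℕ := fun n => n + K n
  let T : ∀ n, Set (X n) := fun n => {z | ∃ v ∈ L (N n), z = r (Nat.le_add_right n (K n)) (x (N n) + v)}
  have hT : ∀ n k (hk : N n ≤ k) (z : X n), z ∈ T n → ∃ v ∈ L k, z = r ((Nat.le_add_right n (K n)).trans hk) (x k + v) := by
    intro n k hk z hz
    obtain ⟨v, hv, rfl⟩ := hz
    have hd := hx hk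
    have hmem : r (Nat.le_add_right n (K n)) (v - (r hk (x k) - x (N n))) ∈ (L (N n)).map (r (Nat.le_add_right n (K n))) :=
      ⟨_, (L (N n)).sub_mem hv hd, rfl⟩
    obtain ⟨j, rfl⟩ : ∃ j, k = n + j := ⟨k - n, by have : n + K n ≤ k := hk; omega⟩
    have heq := hK n j (by have : n + K n ≤ n + j := hk; omega)
    have heq' : (L (n + K n)).map (r (Nat.le_add_right n (K n))) = (L (n + j)).map (r (Nat.le_add_right n j)) := heq
    replace hmem := heq'.le hmem
    obtain ⟨w, hw, hwe⟩ := hmem
    refine ⟨w, hw, ?_⟩
    rw [map_add, map_add, hwe, map_sub, map_sub, htr]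
    abel
  have hlift : ∀ n (z : X n), z ∈ T n → ∃ z' ∈ T (n + 1), r n.le_succ z' = z := by
    intro n z hz
    let k := max (N n) (N (n + 1))
    obtain ⟨v, hv, rfl⟩ := hT n k (le_max_left _ _) z hz
    have hk : N (n + 1) ≤ k := le_max_right _ _
    refine ⟨r ((Nat.le_add_right (n + 1) (K (n + 1))).trans hk) (x k + v), ⟨r hk (x k + v) - x (N (n + 1)), ?_, ?_⟩, htr _ _ _⟩
    · rw [map_add, add_sub_right_comm]
      exact (L _).add_mem (hx hk) (hL hk ⟨v, hv, rfl⟩)
    · rw [add_sub_cancel, htr]
  have h0 : r (Nat.le_add_right 0 (K 0)) (x (N 0)) ∈ T 0 := ⟨0, zero_mem _, by rw [add_zero]⟩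
  choose g hg hg' using hlift
  let y : ∀ n, {z : X n // z ∈ T n} := fun n => Nat.rec ⟨_, h0⟩ (fun n z => ⟨g n z.1 z.2, hg n z.1 z.2⟩) n
  refine ⟨fun n => (y n).1, fun n => ?_, ?_⟩
  · obtain ⟨v, hv, he⟩ := (y n).2
    show (y n).1 - x n ∈ L n
    rw [he, map_add, add_sub_right_comm]
    exact (L n).add_mem (hx _) (hL _ ⟨v, hv, rfl⟩)
  · intro n k h
    induction h with
    | refl => exact hself _ _
    | step h ih => rw [← htr h (Nat.le_succ _), show r (Nat.le_succ _) (y _).1 = _ from hg' _ _ _]; exact ih

variable {R : Type u} [CommRing R] {a b : ℕ} {N : Type u} [AddCommGroup N] [Module R N]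

/-- `p_X : X^a → X ⊗ N`. -/
noncomputable def pm (e : Fin a → N) (X : Type u) [AddCommGroup X] [Module R X] : (Fin a → X) →ₗ[R] X ⊗[R] N :=
  ∑ i, ((TensorProduct.mk R X N).flip (e i)).comp (LinearMap.proj i)

/-- `q_X : X^b → X^a`. -/
def qm (H : Fin b → Fin a → R) (X : Type u) [AddCommGroup X] [Module R X] : (Fin b → X) →ₗ[R] (Fin a → X) :=
  LinearMap.pi fun i => ∑ j, H j i • LinearMap.proj j

theorem right_exact (e : Fin a → N) (he : Submodule.span R (Set.range e) = ⊤) (H : Fin b → Fin a → R)
    (hH : LinearMap.ker (Fintype.linearCombination R e) = Submodule.span R (Set.range H))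
    (X : Type u) [AddCommGroup X] [Module R X] :
    Function.Surjective (pm (R := R) e X) ∧ Function.Exact (qm H X) (pm (R := R) e X) := by
  classical
  let g := Fintype.linearCombination R e
  let h := Fintype.linearCombination R H
  have hg : Function.Surjective g := by
    rw [← LinearMap.range_eq_top, Fintype.range_linearCombination, he]
  have hex : Function.Exact h g := by
    rw [LinearMap.exact_iff, hH, Fintype.range_linearCombination]
  let ea := TensorProduct.piScalarRight R R X (Fin a)
  let eb := TensorProduct.piScalarRight R R X (Fin b)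
  have hp : ∀ z, pm e X (ea z) = g.lTensor X z := by
    intro z
    induction z using TensorProduct.induction_on with
    | zero => simp
    | tmul x f =>
      simp [pm, g, ea, Fintype.linearCombination_apply, tmul_sum, smul_tmul]
    | add z z' hz hz' => simp [hz, hz']
  have hq : ∀ z, qm H X (eb z) = ea (h.lTensor X z) := by
    intro z
    induction z using TensorProduct.induction_on with
    | zero => simp
    | tmul x f =>
      ext i
      simp [qm, h, ea, eb, Fintype.linearCombination_apply, smul_smul, Finset.sum_smul, mul_comm]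
    | add z z' hz hz' => simp [hz, hz']
  constructor
  · intro t
    obtain ⟨z, rfl⟩ := LinearMap.lTensor_surjective X hg t
    exact ⟨ea z, hp z⟩
  · intro y
    obtain ⟨z, rfl⟩ := ea.surjective y
    rw [hp, lTensor_exact X hex hg z]
    constructor
    · rintro ⟨w, rfl⟩
      exact ⟨eb w, hq w⟩
    · rintro ⟨w, hw⟩
      obtain ⟨w, rfl⟩ := eb.surjective w
      rw [hq] at hw
      exact ⟨w, ea.injective hw⟩

theorem pm_natural (e : Fin a → N) {X Y : Type u} [AddCommGroup X] [Module R X] [AddCommGroup Y] [Module R Y]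
    (f : X →ₗ[R] Y) (y : Fin a → X) : f.rTensor N (pm (R := R) e X y) = pm (R := R) e Y (fun i => f (y i)) := by
  simp [pm]

theorem qm_natural (H : Fin b → Fin a → R) {X Y : Type u} [AddCommGroup X] [Module R X] [AddCommGroup Y] [Module R Y]
    (f : X →ₗ[R] Y) (w : Fin b → X) (i : Fin a) : f (qm H X w i) = qm H Y (fun j => f (w j)) i := by
  simp [qm]

/-- For a commutative ring R, an inverse system (M_n)_{n ∈ ℕ} of R-modules of finite length and a
finitely presented R-module N, the canonical comparison map (lim_n M_n) ⊗_R N ⟶ lim_n (M_n ⊗_R N) is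
an isomorphism. (The published statement takes N = R/I for a finitely generated ideal I; the
argument covers every finitely presented N, which is the form stated here.) -/
theorem result (R : Type u) [CommRing R]
    (M : ℕᵒᵖ ⥤ ModuleCat.{u} R) (hM : ∀ n : ℕᵒᵖ, IsFiniteLength R (M.obj n))
    (N : Type u) [AddCommGroup N] [Module R N] [Module.FinitePresentation R N] :
    IsIso (limit.post M (tensorRight (ModuleCat.of R N))) := by
  classical
  obtain ⟨a, e, he⟩ := Module.Finite.exists_fin (R := R) (M := N)
  have hgs : Function.Surjective (Fintype.linearCombination R e) := by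
    rw [← LinearMap.range_eq_top, Fintype.range_linearCombination, he]
  obtain ⟨b, H, hH⟩ := Submodule.fg_iff_exists_fin_generating_family.1 (Module.FinitePresentation.fg_ker _ hgs)
  haveI hart : ∀ n, IsArtinian R (M.obj n) := fun n => (isFiniteLength_iff_isNoetherian_isArtinian.1 (hM n)).2
  let Lim := (limit M : ModuleCat.{u} R)
  let π : ∀ n : ℕ, Lim →ₗ[R] M.obj (op n) := fun n => (limit.π M (op n)).hom
  let r : ∀ {n k : ℕ}, n ≤ k → (M.obj (op k) →ₗ[R] M.obj (op n)) := fun h => (M.map (homOfLE h).op).hom
  have hself : ∀ n (x : M.obj (op n)), r (le_refl n) x = x := fun n x => by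
    show (M.map (homOfLE (le_refl n)).op).hom x = x
    rw [show (homOfLE (le_refl n)).op = 𝟙 (op n) from rfl, M.map_id]; rfl
  have htr : ∀ {n k l : ℕ} (h : n ≤ k) (h' : k ≤ l) (x : M.obj (op l)), r h (r h' x) = r (h.trans h') x := by
    intro n k l h h' x
    show ((M.map (homOfLE h').op) ≫ (M.map (homOfLE h).op)).hom x = _
    rw [← M.map_comp]; rfl
  have hπ : ∀ {n k : ℕ} (h : n ≤ k) (z : Lim), r h (π k z) = π n z := by
    intro n k h z
    show (limit.π M (op k) ≫ M.map (homOfLE h).op).hom z = _
    rw [limit.w]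
  have mkElem : ∀ s : ∀ n, M.obj (op n), (∀ {n k : ℕ} (h : n ≤ k), r h (s k) = s n) →
      ∃ z : Lim, ∀ n, π n z = s n := by
    intro s hs
    let c : Cone M :=
      { pt := ModuleCat.of R R
        π :=
          { app := fun n => ModuleCat.ofHom (LinearMap.toSpanSingleton R (M.obj n) (s n.unop))
            naturality := fun n m f => by
              ext
              show (1 : R) • s m.unop = (M.map f).hom ((1 : R) • s n.unop)
              rw [one_smul, one_smul]
              exact (hs (leOfHom f.unop)).symm } }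
    refine ⟨(limit.lift M c).hom (1 : R), fun n => ?_⟩
    show (limit.lift M c ≫ limit.π M (op n)).hom (1 : R) = _
    rw [limit.lift_π]
    exact one_smul R _
  let Φ := (limit.post M (tensorRight (ModuleCat.of R N))).hom
  have hΦ : ∀ (n : ℕ) (z : Lim ⊗[R] N),
      (limit.π (M ⋙ tensorRight (ModuleCat.of R N)) (op n)).hom (Φ z) = (π n).rTensor N z := by
    intro n z
    show (limit.post M (tensorRight (ModuleCat.of R N)) ≫ limit.π _ (op n)).hom z = _
    rw [limit.post_π]
    rfl
  rw [ConcreteCategory.isIso_iff_bijective]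
  constructor
  · show Function.Injective Φ
    rw [injective_iff_map_eq_zero]
    intro z hz
    obtain ⟨y, rfl⟩ := (right_exact e he H hH.symm Lim).1 z
    have hw : ∀ n, ∃ w, qm H (M.obj (op n)) w = fun i => π n (y i) := fun n => by
      refine (right_exact e he H hH.symm _).2 _ |>.1 ?_
      rw [← pm_natural, ← hΦ, hz, map_zero]
    choose w hw using hw
    obtain ⟨W, hW, hWr⟩ := exists_section (X := fun n => Fin b → M.obj (op n))
      (fun h => (r h).compLeft (Fin b)) (fun n x => funext fun i => hself n (x i))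
      (fun h h' x => funext fun i => htr h h' (x i))
      (fun n => LinearMap.ker (qm H (M.obj (op n)))) w
      (fun {n k} h => by
        rintro _ ⟨v, hv, rfl⟩
        refine LinearMap.mem_ker.2 (funext fun i => ?_)
        show qm H _ (fun j => r h (v j)) i = 0
        rw [← qm_natural, LinearMap.mem_ker.1 hv]
        exact map_zero _)
      (fun {n k} h => by
        rw [LinearMap.mem_ker, map_sub, sub_eq_zero, hw n]
        funext i
        show qm H _ (fun j => r h (w k j)) i = _
        rw [← qm_natural, hw k]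
        exact hπ h (y i))
    choose V hV using fun j => mkElem (fun n => W n j) (fun h => congrFun (hWr h) j)
    have hy : qm H Lim V = y := by
      funext i
      refine Concrete.limit_ext M _ _ fun n => ?_
      obtain ⟨n⟩ := n
      show π n (qm H Lim V i) = π n (y i)
      rw [qm_natural, show (fun j => π n (V j)) = W n from funext fun j => hV j n,
        ← congrFun (hw n) i]
      have := hW n
      rw [LinearMap.mem_ker, map_sub, sub_eq_zero] at this
      rw [this]
    rw [← hy]
    exact ((right_exact e he H hH.symm Lim).2 _).2 ⟨V, rfl⟩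
  · show Function.Surjective Φ
    intro z
    let zn : ∀ n : ℕ, (M.obj (op n)) ⊗[R] N := fun n => (limit.π (M ⋙ tensorRight (ModuleCat.of R N)) (op n)).hom z
    have hzn : ∀ {n k : ℕ} (h : n ≤ k), (r h).rTensor N (zn k) = zn n := by
      intro n k h
      show (limit.π (M ⋙ tensorRight (ModuleCat.of R N)) (op k) ≫ (M ⋙ tensorRight (ModuleCat.of R N)).map (homOfLE h).op).hom z = _
      rw [limit.w]
    choose x hx using fun n => (right_exact e he H hH.symm (M.obj (op n))).1 (zn n)
    obtain ⟨Y, hY, hYr⟩ := exists_section (X := fun n => Fin a → M.obj (op n))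
      (fun h => (r h).compLeft (Fin a)) (fun n x => funext fun i => hself n (x i))
      (fun h h' x => funext fun i => htr h h' (x i))
      (fun n => LinearMap.ker (pm e (M.obj (op n)))) x
      (fun {n k} h => by
        rintro _ ⟨v, hv, rfl⟩
        refine LinearMap.mem_ker.2 ?_
        show pm e _ (fun j => r h (v j)) = 0
        rw [← pm_natural, LinearMap.mem_ker.1 hv, map_zero])
      (fun {n k} h => by
        rw [LinearMap.mem_ker, map_sub, sub_eq_zero, hx n]
        show pm e _ (fun j => r h (x k j)) = _
        rw [← pm_natural, hx k, hzn h])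
    choose V hV using fun j => mkElem (fun n => Y n j) (fun h => congrFun (hYr h) j)
    refine ⟨pm e Lim V, Concrete.limit_ext _ _ _ fun n => ?_⟩
    obtain ⟨n⟩ := n
    show (limit.π (M ⋙ tensorRight (ModuleCat.of R N)) (op n)).hom (Φ _) = zn n
    rw [hΦ, pm_natural, show (fun j => π n (V j)) = Y n from funext fun j => hV j n, ← hx n]
    have := hY n
    rwa [LinearMap.mem_ker, map_sub, sub_eq_zero] at this

end Groth.Agent.S14353
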