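import Groth.Statements.S14354
import Groth.Agent.Lib.CountLim15.Lift
-- import your own Groth.Agent.* helpers here

set_option autoImplicit false
universe u
open CategoryTheory CategoryTheory.Limits AlgebraicGeometry Opposite
open Coh

namespace Groth.Agent.S14354

/-- Let X be a locally Noetherian scheme and (G_e)_{e ∈ ℕ} an inverse system of coherent O_X-modules
satisfying the Mittag-Leffler condition, in the sense that for every e the image subobject of G_d ⟶
G_e is the same for all sufficiently large d. Then for every e the support of the image of the
canonical map lim_d G_d ⟶ G_e is closed in X. (The published statement is the case where G_e is the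
i-th cohomology sheaf of the Fourier–Mukai transform of the e-th member of a Mittag-Leffler inverse
system of coherent modules on an abelian variety; the argument uses only the coherence of the G_e
and their Mittag-Leffler condition, which is the form stated here.) -/
theorem result (X : Scheme.{u}) [IsLocallyNoetherian X]
    (G : ℕᵒᵖ ⥤ X.Modules) (hG : ∀ n : ℕᵒᵖ, Coh.IsCoh (G.obj n))
    (hML : ∀ e : ℕ, ∃ (d : ℕ) (hd : e ≤ d), ∀ (d' : ℕ) (hd' : d ≤ d'),
      imageSubobject (G.map (homOfLE (hd.trans hd')).op) = imageSubobject (G.map (homOfLE hd).op))
    (e : ℕ) : IsClosed (CohB1.support (image (limit.π G (op e)))) := by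
  have hq : ∀ n : ℕ, Coh.IsQCoh (G.obj (op n)) := fun n => M1.isFP_isQCoh (M1.isFP_of_isCoh (hG (op n)))
  obtain ⟨d, hd, he⟩ := CountLim15.exists_imageSubobject_π_eq G hq hML e
  have he' := (CountLim15.isIso_abelianImage_lift (G.map (homOfLE hd).op))
  rw [(fun {M N : X.Modules} (e' : M ≅ N) => (Set.ext fun x =>
      not_congr ((M1.stalkAb x).mapIso e').addCommGroupIsoToAddEquiv.toEquiv.subsingleton_congr :
      CohB1.support M = CohB1.support N)) ((imageSubobjectIso (limit.π G (op e))).symm ≪≫ eqToIso (congrArg Subobject.underlying.obj (he.trans he')) ≪≫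
    Subobject.underlyingIso _)]
  exact M1.isClosed_support (M1.Sub.isFT_im (G.map (homOfLE hd).op) (M1.isFP_isFT (M1.isFP_of_isCoh (hG (op d)))))


end Groth.Agent.S14354
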