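import Groth.Statements.S14355
import Groth.Agent.Lib.SpSeqEasy8.Basic

set_option autoImplicit false
universe v u
open CategoryTheory CategoryTheory.Limits
open SpSeqMor

namespace Groth.Agent.S14355
open CategoryTheory CategoryTheory.Limits



/-- Let φ : E ⟶ E' be a morphism of E_2-cohomological spectral sequences in an abelian category, with
abutments H and H' whose filtrations are finite in each degree, and f a morphism of abutment data
over φ. Fix integers l and a₀. If E_2^{i, l-i} = 0 for i < a₀, E'_2^{i, l-i} = 0 for i > a₀ and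
φ_2^{a₀, l-a₀} = 0, then f^l : H^l ⟶ H'^l is zero. (The published statement prints the two vanishing
hypotheses at positions (i, l); the argument works on the line of total degree l, at positions (i, l
- i), which is the form stated here.) -/
theorem result (C : Type u) [Category.{v} C] [Abelian C]
    (E E' : E₂CohomologicalSpectralSequence C) (φ : E ⟶ E') (H H' : ℤ → C)
    (a : SpSeq.Abutment E H) (a' : SpSeq.Abutment E' H')
    (ha : ∀ n : ℤ, a.IsFinite n) (ha' : ∀ n : ℤ, a'.IsFinite n)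
    (f : SpSeqMor.AbutHom φ a a') (l a₀ : ℤ)
    (hE : ∀ i : ℤ, i < a₀ → IsZero ((E.page 2 le_rfl).X (i, l - i)))
    (hE' : ∀ i : ℤ, a₀ < i → IsZero ((E'.page 2 le_rfl).X (i, l - i)))
    (hφ : (φ.hom 2 le_rfl).f (a₀, l - a₀) = 0) :
    f.hom l = 0 := by
  have htop : ∀ p, p ≤ a₀ → a.fil l p = ⊤ := by
    obtain ⟨⟨b, hb⟩, -⟩ := ha l
    intro p hp
    rcases le_total p b with h | h
    · exact le_antisymm le_top (hb.symm.le.trans (a.anti l h))
    · refine Eq.trans ?_ hb
      exact (Groth.Agent.SpSeqEasy8.eq_of_steps _ h fun i _ hi =>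
        Groth.Agent.SpSeqEasy8.fil_eq_succ a l i 2 le_rfl (hE i (by omega))).symm
  have hbot : ∀ p, a₀ < p → a'.fil l p = ⊥ := by
    obtain ⟨-, ⟨b, hb⟩⟩ := ha' l
    intro p hp
    rcases le_total p b with h | h
    · refine Eq.trans ?_ hb
      exact Groth.Agent.SpSeqEasy8.eq_of_steps _ h fun i hi _ =>
        Groth.Agent.SpSeqEasy8.fil_eq_succ a' l i 2 le_rfl (hE' i (by omega))
    · exact le_antisymm ((a'.anti l h).trans hb.le) bot_le
  obtain ⟨q, rfl⟩ : ∃ q, l = a₀ + q := ⟨l - a₀, by omega⟩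
  rw [add_sub_cancel_left] at hφ
  have hk : a.rk (a₀, q) + ((max (a.rk (a₀, q)) (a'.rk (a₀, q)) - a.rk (a₀, q)).toNat : ℤ) =
      a'.rk (a₀, q) + ((max (a.rk (a₀, q)) (a'.rk (a₀, q)) - a'.rk (a₀, q)).toNat : ℤ) := by omega
  have hgr : (f.fil (a₀ + q)).gr a₀ = 0 := by
    refine (cancel_epi (a.β (a₀, q)).hom).1 ?_
    refine (f.comm (a₀, q) _ _ hk).trans ?_
    rw [Groth.Agent.SpSeqEasy8.hom_f_eq_zero φ 2 le_rfl (a₀, q) hφ _ (SpSeqMor.page_le (a'.stat (a₀, q)).1 _)
      ((a'.stat (a₀, q)).1.trans (SpSeqMor.self_le_add_nat _ _))]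
    simp only [zero_comp, comp_zero]
    exact comp_zero.symm
  haveI := Groth.Agent.SpSeqEasy8.isIso_cokernel_π_of_eq_bot _ _
    ((a'.filObj (a₀ + q)).anti (Int.le_add_one (le_refl a₀))) (hbot (a₀ + 1) (by omega))
  have h0 : (f.fil (a₀ + q)).lift a₀ = 0 := by
    rw [← cancel_mono (cokernel.π ((a'.filObj (a₀ + q)).stepLE (Int.le_add_one (le_refl a₀)))), zero_comp]
    refine Eq.trans ?_ (show cokernel.π ((a.filObj (a₀ + q)).stepLE (Int.le_add_one (le_refl a₀))) ≫
      (f.fil (a₀ + q)).gr a₀ = 0 by rw [hgr]; exact comp_zero)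
    exact (cokernel.π_desc _ _ _).symm
  haveI : IsIso ((a.filObj (a₀ + q)).fil a₀).arrow := by
    rw [Subobject.isIso_arrow_iff_eq_top]
    exact htop a₀ le_rfl
  refine (cancel_epi ((a.filObj (a₀ + q)).fil a₀).arrow).1 (Eq.trans ?_ comp_zero.symm)
  exact ((f.fil (a₀ + q)).lift_arrow a₀).symm.trans ((congrArg (· ≫ _) h0).trans zero_comp)


end Groth.Agent.S14355
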