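import Groth.Statements.S14357
import Groth.Agent.Lib.Twist.GlobalProjSpace

set_option autoImplicit false
universe u
open AlgebraicGeometry
open Proj

open CategoryTheory
namespace Groth.Agent.S14357

/-- For a field k the projective line over k is not an affine scheme. (The projective line is taken here
as Proj of the polynomial ring in two variables over k with its standard grading; the book builds it
by gluing two affine lines and identifies the two constructions later.) -/
theorem result (k : Type u) [Field k] :
    ¬ IsAffine (CohB1.ProjSpace 1 k) := by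
  intro haff
  have : IsIso (CohB1.ProjSpace.toSpec 1 k).appTop := by
    have h := Groth.Agent.Twist.bijective_toSpec_appTop 1 k
    have h2 : Function.Bijective ((Scheme.ΓSpecIso (CommRingCat.of k)).inv) :=
      (ConcreteCategory.isIso_iff_bijective _).1 inferInstance
    exact (ConcreteCategory.isIso_iff_bijective _).2 ((Function.Bijective.of_comp_iff _ h2).1 h)
  have : IsIso (CohB1.ProjSpace.toSpec 1 k) := by
    have hn := Scheme.toSpecΓ_naturality (CohB1.ProjSpace.toSpec 1 k)
    rw [(IsIso.eq_comp_inv _).2 hn]
    infer_instance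
  have hinj : Function.Injective (Groth.Agent.ProjSpace.chart 1 k 0 ≫ CohB1.ProjSpace.toSpec 1 k) :=
    (Groth.Agent.ProjSpace.chart 1 k 0 ≫ CohB1.ProjSpace.toSpec 1 k).isOpenEmbedding.injective
  let j : {j : Fin (1 + 1) // j ≠ 0} := ⟨1, by simp⟩
  let p : Spec (CommRingCat.of (MvPolynomial {j : Fin (1 + 1) // j ≠ 0} k)) :=
    ⟨⊥, Ideal.isPrime_bot⟩
  let q : Spec (CommRingCat.of (MvPolynomial {j : Fin (1 + 1) // j ≠ 0} k)) :=
    ⟨RingHom.ker (MvPolynomial.constantCoeff (R := k)), RingHom.ker_isPrime _⟩
  have hpq : p = q := hinj (Subsingleton.elim (α := PrimeSpectrum k) _ _)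
  have hX : (MvPolynomial.X j : MvPolynomial {j : Fin (1 + 1) // j ≠ 0} k) ∈
      (⊥ : Ideal (MvPolynomial {j : Fin (1 + 1) // j ≠ 0} k)) := by
    rw [show (⊥ : Ideal (MvPolynomial {j : Fin (1 + 1) // j ≠ 0} k)) = RingHom.ker (MvPolynomial.constantCoeff (R := k)) from
      congrArg PrimeSpectrum.asIdeal hpq]
    simp
  exact MvPolynomial.X_ne_zero j (Ideal.mem_bot.1 hX)

end Groth.Agent.S14357
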