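import Groth.Statements.S14358
import Mathlib.RingTheory.Ideal.AssociatedPrime.Finiteness
import Mathlib.RingTheory.Ideal.AssociatedPrime.Localization
import Mathlib.RingTheory.Regular.IsSMulRegular
import Mathlib.RingTheory.DiscreteValuationRing.TFAE
import Mathlib.RingTheory.Localization.FractionRing
import Mathlib.RingTheory.IntegralClosure.IntegrallyClosed
import Mathlib.RingTheory.Ideal.Height
import Mathlib.RingTheory.Ideal.KrullsHeightTheorem
import Mathlib.RingTheory.KrullDimension.Basic
import Mathlib.RingTheory.Localization.Integral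
import Mathlib.RingTheory.IntegralClosure.Algebra.Basic
import Mathlib.RingTheory.Localization.LocalizationLocalization
import Groth.Agent.Lib.H2Alg.NormalAss

set_option autoImplicit false
universe u
open CAlg

namespace Groth.Agent.S14358

/-- Let A be a Noetherian integral domain with fraction field K and let r ∈ K. Then r belongs to A if
and only if, for every nonzero g ∈ A and every associated prime p of the A-module A/(g), the element
r belongs to the local ring A_p inside K, i.e. s r = a in K for some a ∈ A and some s ∈ A outside p. -/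
theorem result (A K : Type u)
    [CommRing A] [IsDomain A] [IsNoetherianRing A] [Field K] [Algebra A K] [IsFractionRing A K]
    (r : K) :
    r ∈ Set.range (algebraMap A K) ↔
      ∀ g : A, g ≠ 0 → ∀ p ∈ associatedPrimes A (A ⧸ Ideal.span {g}),
        ∃ a s : A, s ∉ p ∧ algebraMap A K s * r = algebraMap A K a := by
  constructor
  · rintro ⟨a, rfl⟩ g _ p hp
    exact ⟨a, 1, fun h => hp.isPrime.ne_top ((Ideal.eq_top_iff_one p).2 h), by rw [map_one, one_mul]⟩
  · intro h
    obtain ⟨a, g, hg, rfl⟩ := IsFractionRing.div_surjective A r
    have hg0 := nonZeroDivisors.ne_zero hg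
    have hgK : algebraMap A K g ≠ 0 := by simpa using hg0
    by_cases hx : Ideal.Quotient.mk (Ideal.span {g}) a = 0
    · obtain ⟨c, rfl⟩ := Ideal.mem_span_singleton.1 (Ideal.Quotient.eq_zero_iff_mem.1 hx)
      exact ⟨c, by rw [map_mul, mul_div_cancel_left₀ _ hgK]⟩
    · obtain ⟨p, hp, hle⟩ := exists_le_isAssociatedPrime_of_isNoetherianRing (R := A) _ hx
      obtain ⟨b, s, hs, e⟩ := h g hg0 p hp
      refine absurd (hle ?_) hs
      rw [Groth.Agent.H2Alg.mem_colon_bot_singleton]
      change Ideal.Quotient.mk _ (s * a) = 0
      rw [Ideal.Quotient.eq_zero_iff_mem, Ideal.mem_span_singleton]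
      refine ⟨b, IsFractionRing.injective A K ?_⟩
      rw [← mul_div_assoc, div_eq_iff hgK, ← map_mul, ← map_mul] at e
      rw [map_mul, map_mul] at e ⊢
      rw [e, mul_comm]

end Groth.Agent.S14358
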