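import Groth.Statements.S14360
import Mathlib.AlgebraicGeometry.Birational.Composition
import Mathlib.AlgebraicGeometry.Birational.Birational

set_option autoImplicit false
universe u
open AlgebraicGeometry
open Variety

namespace Groth.Agent.S14360

open CategoryTheory

theorem isDominant_partialIso {X Y : Scheme.{u}} (h : X.PartialIso Y) :
    IsDominant h.toPartialMap.hom := by
  have := AlgebraicGeometry.Opens.isDominant_ι h.dense_target
  show IsDominant (h.iso.hom ≫ h.target.ι)
  infer_instance

theorem toRationalMap_symm {X Y : Scheme.{u}} [IsIntegral X] [IsIntegral Y] (h : X.PartialIso Y)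
    [IsDominant h.toPartialMap.hom] :
    (h.toPartialMap.comp h.symm.toPartialMap).toRationalMap = Scheme.RationalMap.id X := by
  show _ = (Scheme.PartialMap.id X).toRationalMap
  rw [Scheme.PartialMap.toRationalMap_eq_iff]
  have e : (h.iso.hom ≫ h.target.ι) ∣_ h.target = ((h.iso.hom ≫ h.target.ι) ⁻¹ᵁ h.target).ι ≫ h.iso.hom := by
    rw [← cancel_mono h.target.ι, morphismRestrict_ι]
    simp
  refine ⟨(h.toPartialMap.comp h.symm.toPartialMap).domain,
    (h.toPartialMap.comp h.symm.toPartialMap).dense_domain, le_rfl, le_top, ?_⟩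
  simp only [Scheme.PartialMap.restrict_hom, Scheme.PartialMap.comp_hom, Scheme.Hom.toPartialMap_hom,
    Category.comp_id, Scheme.homOfLE_rfl, Category.id_comp, Scheme.homOfLE_ι]
  dsimp [Scheme.PartialIso.toPartialMap, Scheme.PartialIso.symm]
  rw [Scheme.topIso_hom, e]
  simp
  exact (X.homOfLE_ι le_top).symm

theorem exists_lift_of_comp_eq_id {X Y : Scheme.{u}} [IsIntegral X] [IsIntegral Y] (f : X.PartialMap Y)
    [IsDominant f.hom] (g : Y.PartialMap X) (h : (f.comp g).toRationalMap = Scheme.RationalMap.id X) :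
    ∃ (W : X.Opens) (_ : Dense (W : Set X)) (hW : W ≤ f.domain) (b : (W : Scheme.{u}) ⟶ g.domain),
      b ≫ g.domain.ι = X.homOfLE hW ≫ f.hom ∧ b ≫ g.hom = W.ι := by
  change _ = (Scheme.PartialMap.id X).toRationalMap at h
  rw [Scheme.PartialMap.toRationalMap_eq_iff] at h
  obtain ⟨W, hW, hl, hr, e⟩ := h
  have hWf : W ≤ f.domain := hl.trans (Scheme.Opens.ι_image_le (U := f.domain) _)
  refine ⟨W, hW, hWf, X.homOfLE hl ≫ (f.domain.ι.isoImage _).inv ≫ f.hom ∣_ g.domain, ?_, ?_⟩
  · rw [Category.assoc, Category.assoc, morphismRestrict_ι, ← Category.assoc, ← Category.assoc]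
    congr 1
    rw [← cancel_mono f.domain.ι]
    simp only [Category.assoc, Scheme.homOfLE_ι]
    exact (congrArg (X.homOfLE hl ≫ ·) ((Category.assoc _ _ _).symm.trans
      ((congrArg (· ≫ f.domain.ι) (f.domain.isoImage_ι_inv_ι _)).trans (X.homOfLE_ι _)))).trans (X.homOfLE_ι hl)
  · simp only [Category.assoc]
    simp only [Scheme.PartialMap.restrict_hom, Scheme.PartialMap.comp_hom, Scheme.Hom.toPartialMap_hom,
      Category.comp_id] at e
    exact e.trans ((congrArg (X.homOfLE hr ≫ ·) X.topIso_hom).trans (X.homOfLE_ι _))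

/-- Let X and Y be integral schemes. Then X and Y have isomorphic dense open subschemes if and only if
they are birational in the sense of rational maps, i.e. there exist dominant rational maps f : X ⤏ Y
and g : Y ⤏ X such that the composites g ∘ f and f ∘ g are the identity rational maps of X and of Y. -/
theorem result (X Y : Scheme.{u})
    [IsIntegral X] [IsIntegral Y] :
    Scheme.Birational X Y ↔
      ∃ (f : X ⤏ Y) (g : Y ⤏ X) (_ : f.IsDominant) (_ : g.IsDominant),
        f.comp g = Scheme.RationalMap.id X ∧ g.comp f = Scheme.RationalMap.id Y := by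
  constructor
  · rintro ⟨h⟩
    haveI := isDominant_partialIso h
    haveI := isDominant_partialIso h.symm
    exact ⟨h.toRationalMap, h.symm.toRationalMap, inferInstance, inferInstance,
      (Scheme.RationalMap.toRationalMap_comp _ _).trans (toRationalMap_symm h),
      (Scheme.RationalMap.toRationalMap_comp _ _).trans (toRationalMap_symm h.symm)⟩
  · rintro ⟨f, g, hf, hg, h₁, h₂⟩
    haveI : IsDominant f.representative.hom := inferInstance
    haveI : IsDominant g.representative.hom := inferInstance
    obtain ⟨W₁, hW₁, hWf, b₁, hb₁, hb₁'⟩ := exists_lift_of_comp_eq_id f.representative g.representative (by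
      rw [← Scheme.RationalMap.toRationalMap_comp]
      simpa only [Scheme.RationalMap.toRationalMap_representative] using h₁)
    obtain ⟨W₂, hW₂, hWg, b₂, hb₂, hb₂'⟩ := exists_lift_of_comp_eq_id g.representative f.representative (by
      rw [← Scheme.RationalMap.toRationalMap_comp]
      simpa only [Scheme.RationalMap.toRationalMap_representative] using h₂)
    let F := X.homOfLE hWf ≫ f.representative.hom
    let G := Y.homOfLE hWg ≫ g.representative.hom
    let P := F ⁻¹ᵁ W₂
    let Q := G ⁻¹ᵁ W₁
    let p : (P : Scheme.{u}) ⟶ W₂ := F ∣_ W₂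
    let q : (Q : Scheme.{u}) ⟶ W₁ := G ∣_ W₁
    have hp : p ≫ G = P.ι ≫ W₁.ι := by
      have e : p ≫ Y.homOfLE hWg = P.ι ≫ b₁ := by
        rw [← cancel_mono g.representative.domain.ι]
        simp only [Category.assoc, Scheme.homOfLE_ι, hb₁]
        exact morphismRestrict_ι F W₂
      rw [← Category.assoc, e, Category.assoc, hb₁']
    have hq : q ≫ F = Q.ι ≫ W₂.ι := by
      have e : q ≫ X.homOfLE hWf = Q.ι ≫ b₂ := by
        rw [← cancel_mono f.representative.domain.ι]
        simp only [Category.assoc, Scheme.homOfLE_ι, hb₂]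
        exact morphismRestrict_ι G W₁
      rw [← Category.assoc, e, Category.assoc, hb₂']
    have hpQ : Set.range p ⊆ Set.range Q.ι := by
      rintro _ ⟨x, rfl⟩
      rw [Scheme.Opens.range_ι]
      show G (p x) ∈ W₁
      rw [← Scheme.Hom.comp_apply, hp]
      exact (P.ι x).2
    have hqP : Set.range q ⊆ Set.range P.ι := by
      rintro _ ⟨x, rfl⟩
      rw [Scheme.Opens.range_ι]
      show F (q x) ∈ W₂
      rw [← Scheme.Hom.comp_apply, hq]
      exact (Q.ι x).2
    let p' := IsOpenImmersion.lift Q.ι p hpQ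
    let q' := IsOpenImmersion.lift P.ι q hqP
    have ep : p' ≫ Q.ι = p := IsOpenImmersion.lift_fac _ _ _
    have eq' : q' ≫ P.ι = q := IsOpenImmersion.lift_fac _ _ _
    let e : (P : Scheme.{u}) ≅ Q :=
      { hom := p'
        inv := q'
        hom_inv_id := by
          rw [← cancel_mono P.ι, ← cancel_mono W₁.ι]
          simp only [Category.assoc, reassoc_of% eq', q, morphismRestrict_ι, Category.id_comp]
          rw [← Category.assoc, ep, hp]
        inv_hom_id := by
          rw [← cancel_mono Q.ι, ← cancel_mono W₂.ι]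
          simp only [Category.assoc, reassoc_of% ep, p, morphismRestrict_ι, Category.id_comp]
          rw [← Category.assoc, eq', hq] }
    obtain ⟨x, hx⟩ : (P : Set W₁).Nonempty := by
      haveI : IsDominant F := Scheme.PartialMap.isDominant_restrict_hom f.representative W₁ hW₁ hWf
      obtain ⟨x, hx⟩ := F.denseRange.exists_mem_open W₂.2 hW₂.nonempty
      exact ⟨x, hx⟩
    refine ⟨⟨W₁.ι ''ᵁ P, (W₁.ι ''ᵁ P).2.dense ⟨W₁.ι x, x, hx, rfl⟩,
      W₂.ι ''ᵁ Q, (W₂.ι ''ᵁ Q).2.dense ⟨W₂.ι (Q.ι (p' ⟨x, hx⟩)), Q.ι (p' ⟨x, hx⟩), (p' ⟨x, hx⟩).2, rfl⟩,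
      (W₁.ι.isoImage P).symm ≪≫ e ≪≫ W₂.ι.isoImage Q⟩⟩

end Groth.Agent.S14360
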