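import Groth.Statements.S14363
import Mathlib.RingTheory.Ideal.AssociatedPrime.Finiteness
import Mathlib.RingTheory.Ideal.AssociatedPrime.Localization
import Mathlib.RingTheory.Regular.IsSMulRegular
import Mathlib.RingTheory.DiscreteValuationRing.TFAE
import Mathlib.RingTheory.Localization.FractionRing
import Mathlib.RingTheory.IntegralClosure.IntegrallyClosed
import Mathlib.RingTheory.Ideal.Height
import Mathlib.RingTheory.Ideal.KrullsHeightTheorem
import Mathlib.RingTheory.KrullDimension.Basic
import Mathlib.RingTheory.Localization.Integral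
import Mathlib.RingTheory.IntegralClosure.Algebra.Basic
import Mathlib.RingTheory.Localization.LocalizationLocalization
import Groth.Agent.Lib.H2Alg.NormalAss

set_option autoImplicit false
universe u
open CAlg

namespace Groth.Agent.S14363

/-- Let A be a Noetherian ring and 0 → M' → M → M'' → 0 a short exact sequence of A-modules. If a prime
p of A is an associated prime of M'' and is not in the support of M', then p is an associated prime
of M. -/
theorem result (A : Type u) [CommRing A] [IsNoetherianRing A]
    (M' M M'' : Type u) [AddCommGroup M'] [Module A M'] [AddCommGroup M] [Module A M]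
    [AddCommGroup M''] [Module A M'']
    (f : M' →ₗ[A] M) (g : M →ₗ[A] M'') (hf : Function.Injective f) (hg : Function.Surjective g)
    (hfg : Function.Exact f g)
    (p : PrimeSpectrum A) (hp : p.asIdeal ∈ associatedPrimes A M'') (hsupp : p ∉ Module.support A M') :
    p.asIdeal ∈ associatedPrimes A M := by
  classical
  obtain ⟨-, q, hq⟩ := isAssociatedPrime_iff.1 hp
  obtain ⟨x, rfl⟩ := hg q
  have hmem : ∀ z, z ∈ p.asIdeal ↔ g (z • x) = 0 := fun z => by rw [hq, Groth.Agent.H2Alg.mem_colon_bot_singleton, map_smul]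
  obtain ⟨G, hG⟩ := IsNoetherian.noetherian p.asIdeal
  have hk : ∀ z : (G : Set A), ∃ s ∉ p.asIdeal, s • ((z : A) • x) = 0 := by
    intro z
    obtain ⟨w, hw⟩ := (hfg _).1 ((hmem z).1 (hG ▸ Ideal.subset_span z.2))
    obtain ⟨s, hs, hs0⟩ := Module.notMem_support_iff'.1 hsupp w
    exact ⟨s, hs, by rw [← hw, ← map_smul, hs0, map_zero]⟩
  choose s hs hs0 using hk
  have hS : ∏ z, s z ∉ p.asIdeal := fun h => by
    obtain ⟨z, -, hz⟩ := (p.2.prod_mem_iff).1 h; exact hs z hz
  refine isAssociatedPrime_iff.2 ⟨p.2, (∏ z, s z) • x, le_antisymm ?_ ?_⟩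
  · rw [← hG, Submodule.span_le]
    intro z hz
    rw [SetLike.mem_coe, Groth.Agent.H2Alg.mem_colon_bot_singleton, smul_comm]
    obtain ⟨c, hc⟩ := Finset.dvd_prod_of_mem s (Finset.mem_univ (⟨z, hz⟩ : (G : Set A)))
    rw [hc, mul_comm, mul_smul, hs0 ⟨z, hz⟩, smul_zero]
  · intro z hz
    rw [Groth.Agent.H2Alg.mem_colon_bot_singleton, smul_smul] at hz
    exact (p.2.mem_or_mem ((hmem _).2 (by rw [hz, map_zero]))).resolve_right hS

end Groth.Agent.S14363
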