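import Groth.Statements.S14365
import Groth.Agent.Lib.CxOX1.Flat

set_option autoImplicit false
universe u
open CategoryTheory CategoryTheory.Limits AlgebraicGeometry
attribute [local instance] HasDerivedCategory.standard
open CxOX

namespace Groth.Agent.S14365




/-- Let f : X ⟶ Y be a flat morphism of finite type of Noetherian schemes, U ⊆ Y an open subscheme with
closed complement Z, Z' = f⁻¹(Z) the closed complement of f⁻¹(U), and let the derived pullback Lf^*
: D(O_Y) ⥤ D(O_X) exist. For every K in D(O_Y) with quasi-coherent cohomology sheaves, the morphism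
Lf^*(RΓ_Z(K) ⟶ K) factors through the canonical morphism RΓ_{Z'}(Lf^* K) ⟶ Lf^* K, and every
morphism Lf^* RΓ_Z(K) ⟶ RΓ_{Z'}(Lf^* K) giving such a factorisation is an isomorphism; this is the
isomorphism f^* RΓ_Z ≅ RΓ_{Z'} f^* for flat f. (Throughout, RΓ with support is the total right
derived functor of the sheaf of sections supported in the closed subset. The published statement
derives instead the functor of sections killed by some power of a defining ideal; on complexes with
quasi-coherent cohomology sheaves over a Noetherian scheme the two derived functors agree.) -/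
theorem result {X Y : Scheme.{u}} [IsNoetherian X] [IsNoetherian Y]
    (f : X ⟶ Y) [LocallyOfFiniteType f] [Flat f] (U : Y.Opens)
    [CxOX.HasRgammaZ U.ι] [CxOX.HasRgammaZ (f ⁻¹ᵁ U).ι] [DCoh.HasLpull f]
    (K : DCoh.D Y) (hK : DCoh.IsQCohD K) :
    (∃ β : (DCoh.Lpull f).obj ((CxOX.RgammaZ U.ι).obj K) ⟶ (CxOX.RgammaZ (f ⁻¹ᵁ U).ι).obj ((DCoh.Lpull f).obj K),
        β ≫ (CxOX.RgammaZToId (f ⁻¹ᵁ U).ι).app ((DCoh.Lpull f).obj K) =
          (DCoh.Lpull f).map ((CxOX.RgammaZToId U.ι).app K)) ∧
    ∀ β : (DCoh.Lpull f).obj ((CxOX.RgammaZ U.ι).obj K) ⟶ (CxOX.RgammaZ (f ⁻¹ᵁ U).ι).obj ((DCoh.Lpull f).obj K),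
        β ≫ (CxOX.RgammaZToId (f ⁻¹ᵁ U).ι).app ((DCoh.Lpull f).obj K) =
          (DCoh.Lpull f).map ((CxOX.RgammaZToId U.ι).app K) → IsIso β := by
  exact CxOX1.exists_factor_pull f U K hK

end Groth.Agent.S14365
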