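import Groth.Statements.S14369
import Groth.Agent.Lib.VarDim.Irred

set_option autoImplicit false
universe u
open CategoryTheory CategoryTheory.Limits AlgebraicGeometry
open Variety

namespace Groth.Agent.S14369

/-- Let k be an algebraically closed field, X and Y schemes of finite type over k with Y irreducible,
and f : X → Y a k-morphism whose underlying continuous map is closed. Suppose that for some natural
number d the fibre of f over every closed point y of Y (the subspace of points mapping to y) is
irreducible of dimension d. Then X is irreducible and dim X = d + dim Y. (The published statement is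
for varieties, i.e. reduced separated schemes; this row assumes neither.) -/
theorem result (k : Type u) [Field k] [IsAlgClosed k]
    {X Y : Scheme.{u}} (qX : X ⟶ Spec (CommRingCat.of k)) (qY : Y ⟶ Spec (CommRingCat.of k))
    [LocallyOfFiniteType qX] [QuasiCompact qX] [LocallyOfFiniteType qY] [QuasiCompact qY]
    (f : X ⟶ Y) (hf : f ≫ qY = qX) [IrreducibleSpace ↥Y] (hcl : IsClosedMap f.base) (d : ℕ)
    (hirr : ∀ y : ↥Y, IsClosed ({y} : Set ↥Y) → IsIrreducible (f.base ⁻¹' {y}))
    (hdim : ∀ y : ↥Y, IsClosed ({y} : Set ↥Y) → topologicalKrullDim ↥(f.base ⁻¹' {y}) = d) :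
    IrreducibleSpace ↥X ∧ topologicalKrullDim ↥X = d + topologicalKrullDim ↥Y := by
  subst hf
  haveI : LocallyOfFiniteType f := locallyOfFiniteType_of_comp f qY
  haveI := LocallyOfFiniteType.isLocallyNoetherian qY
  haveI : QuasiCompact f := QuasiCompact.of_comp f qY
  obtain ⟨g₀, hg₀η, hg₀max, huniq⟩ := Groth.Agent.VarDim.exists_unique_dominant qY f d hirr hdim
  obtain ⟨h1, h2⟩ := Groth.Agent.VarDim.component_data qY f d hirr hdim g₀ hg₀max
  haveI : JacobsonSpace X := LocallyOfFiniteType.jacobsonSpace (f ≫ qY)
  have hall : closure ({g₀} : Set X) = Set.univ := by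
    refine Set.eq_univ_of_univ_subset ?_
    rw [← closure_closedPoints (X := X)]
    refine closure_minimal (fun x hx => ?_) isClosed_closure
    obtain ⟨x', hx', hx'x⟩ : f x ∈ f.base '' closure {g₀} := by
      have h0 : genericPoint Y ∈ f.base '' closure {g₀} := ⟨g₀, subset_closure rfl, hg₀η⟩
      have h3 : closure ({genericPoint ↥Y} : Set ↥Y) ⊆ f.base '' closure {g₀} :=
        closure_minimal (Set.singleton_subset_iff.mpr h0) (hcl _ isClosed_closure)
      rw [(genericPoint_spec Y).def] at h3
      exact h3 trivial
    exact specializes_iff_mem_closure.mp (h2 (f x) (Groth.Agent.VarDim.isClosed_singleton_image qY f hx)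
      x' hx'x (specializes_iff_mem_closure.mpr hx') x rfl)
  haveI hX : IrreducibleSpace ↥X := (irreducibleSpace_def _).mpr (show IsIrreducible (Set.univ : Set ↥X) from hall ▸ isIrreducible_singleton.closure)
  refine ⟨hX, ?_⟩
  have hg : genericPoint X = g₀ := hg₀max _ (genericPoint_specializes g₀)
  rw [Groth.Agent.VarDim.dim_eq_sdim_genericPoint (f ≫ qY), hg, h1, hg₀η,
    Groth.Agent.VarDim.dim_eq_sdim_genericPoint qY]
  push_cast
  rfl

end Groth.Agent.S14369
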