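import Groth.Statements.S14370
import Groth.Agent.Lib.VarDim.Irred

set_option autoImplicit false
universe u
open CategoryTheory CategoryTheory.Limits AlgebraicGeometry
open Variety

namespace Groth.Agent.S14370

/-- Let k be an algebraically closed field, X and Y schemes of finite type over k with Y irreducible,
and f : X → Y a k-morphism. Suppose that X is pure-dimensional (every irreducible component of X has
dimension dim X) and that for some natural number d the fibre of f over every closed point y of Y
(the subspace of points mapping to y) is irreducible of dimension d. Then X is irreducible and dim X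
= d + dim Y. (The published statement is for varieties, i.e. reduced separated schemes; this row
assumes neither.) -/
theorem result (k : Type u) [Field k] [IsAlgClosed k]
    {X Y : Scheme.{u}} (qX : X ⟶ Spec (CommRingCat.of k)) (qY : Y ⟶ Spec (CommRingCat.of k))
    [LocallyOfFiniteType qX] [QuasiCompact qX] [LocallyOfFiniteType qY] [QuasiCompact qY]
    (f : X ⟶ Y) (hf : f ≫ qY = qX) [IrreducibleSpace ↥Y]
    (hpure : ∀ Z ∈ irreducibleComponents (↥X), topologicalKrullDim ↥Z = topologicalKrullDim ↥X) (d : ℕ)
    (hirr : ∀ y : ↥Y, IsClosed ({y} : Set ↥Y) → IsIrreducible (f.base ⁻¹' {y}))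
    (hdim : ∀ y : ↥Y, IsClosed ({y} : Set ↥Y) → topologicalKrullDim ↥(f.base ⁻¹' {y}) = d) :
    IrreducibleSpace ↥X ∧ topologicalKrullDim ↥X = d + topologicalKrullDim ↥Y := by
  subst hf
  haveI : LocallyOfFiniteType f := locallyOfFiniteType_of_comp f qY
  haveI := LocallyOfFiniteType.isLocallyNoetherian qY
  haveI : QuasiCompact f := QuasiCompact.of_comp f qY
  obtain ⟨g₀, hg₀η, hg₀max, huniq⟩ := Groth.Agent.VarDim.exists_unique_dominant qY f d hirr hdim
  obtain ⟨h1, -⟩ := Groth.Agent.VarDim.component_data qY f d hirr hdim g₀ hg₀max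
  have hall : closure ({g₀} : Set X) = Set.univ := by
    refine Set.eq_univ_of_forall fun x => ?_
    obtain ⟨g, hgx, hg⟩ := Groth.Agent.VarDim.exists_maximal_specializes (f ≫ qY) x
    obtain ⟨h3, -⟩ := Groth.Agent.VarDim.component_data qY f d hirr hdim g hg
    have e1 := hpure _ ((Groth.Agent.VarDim.maximal_iff_mem_irreducibleComponents g).mp hg)
    have e2 := hpure _ ((Groth.Agent.VarDim.maximal_iff_mem_irreducibleComponents g₀).mp hg₀max)
    rw [Groth.Agent.VarDim.dim_closure_singleton (f ≫ qY)] at e1 e2
    have e : Groth.Agent.VarDim.sdim (f ≫ qY) g = Groth.Agent.VarDim.sdim (f ≫ qY) g₀ := by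
      exact_mod_cast e1.trans e2.symm
    rw [h1, h3, hg₀η] at e
    have hgη : f g = genericPoint Y := by
      by_contra hne
      have := Groth.Agent.VarDim.sdim_lt_of_specializes qY (genericPoint_specializes (f g)) (Ne.symm hne)
      omega
    rw [← huniq g hgη hg]
    exact specializes_iff_mem_closure.mp hgx
  haveI hX : IrreducibleSpace ↥X := (irreducibleSpace_def _).mpr (show IsIrreducible (Set.univ : Set ↥X) from hall ▸ isIrreducible_singleton.closure)
  refine ⟨hX, ?_⟩
  have hg : genericPoint X = g₀ := hg₀max _ (genericPoint_specializes g₀)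
  rw [Groth.Agent.VarDim.dim_eq_sdim_genericPoint (f ≫ qY), hg, h1, hg₀η,
    Groth.Agent.VarDim.dim_eq_sdim_genericPoint qY]
  push_cast
  rfl

end Groth.Agent.S14370
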