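import Groth.Statements.S14371
import Groth.Agent.Lib.RegLoc.Sop
import Mathlib.Algebra.Module.SpanRankOperations

set_option autoImplicit false
universe u
open CAlg

namespace Groth.Agent.S14371
open CAlg

open IsLocalRing Groth.Agent

/-- Let R be a regular local ring of dimension n with maximal ideal m and residue field κ, and I, J
ideals of R such that R/I and R/J are regular local rings of dimensions a and b (two subvarieties
smooth at the point). Suppose the quotient R/(I + J) is local with cotangent space m/(m² + I + J) of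
dimension a + b − n over κ (the tangent spaces of the two subvarieties meet in the expected
dimension, i.e. they intersect transversally at the point). Then R/(I + J) is a regular local ring
of dimension a + b − n; in particular I + J is a prime ideal. (The published statement is about the
local rings of a smooth variety over an algebraically closed field at a point where two smooth
closed subvarieties meet transversally, and also states the resulting equalities of tangent spaces
and of ideals; this row is the local-ring form, for an arbitrary regular local ring.) -/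
theorem result {R : Type u} [CommRing R] [IsRegularLocalRing R]
    (I J : Ideal R) [IsRegularLocalRing (R ⧸ I)] [IsRegularLocalRing (R ⧸ J)] [IsLocalRing (R ⧸ (I ⊔ J))]
    (n a b : ℕ) (hn : ringKrullDim R = n) (ha : ringKrullDim (R ⧸ I) = a) (hb : ringKrullDim (R ⧸ J) = b)
    (ht : Module.finrank (IsLocalRing.ResidueField (R ⧸ (I ⊔ J))) (IsLocalRing.CotangentSpace (R ⧸ (I ⊔ J))) + n = a + b) :
    IsRegularLocalRing (R ⧸ (I ⊔ J)) ∧ ringKrullDim (R ⧸ (I ⊔ J)) = ((a + b - n : ℕ) : WithBot ℕ∞) := by
  classical
  have hdn := RegLoc.spanFinrank_eq_of_dim hn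
  obtain ⟨x, c, hc, hx, hI⟩ := RegLoc.exists_generators_of_regular_quotient n R I hdn
  have hac : a + c ≤ n := by
    rw [← RegLoc.spanFinrank_eq_of_dim ha]
    have h : maximalIdeal (R ⧸ I) =
        Ideal.span (Set.range fun i : Fin (n - c) => Ideal.Quotient.mk I (x ⟨c + i, by omega⟩)) := by
      refine le_antisymm ?_ (Ideal.span_le.2 ?_)
      · rw [RegLoc.maximalIdeal_quotient, ← hx, Ideal.map_span, Ideal.span_le]
        rintro _ ⟨_, ⟨j, rfl⟩, rfl⟩
        by_cases hj : (j : ℕ) < c
        · rw [SetLike.mem_coe, Ideal.Quotient.eq_zero_iff_mem.2]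
          · exact zero_mem _
          · rw [hI]; exact Ideal.subset_span ⟨⟨j, hj⟩, rfl⟩
        · exact Ideal.subset_span ⟨⟨j - c, by omega⟩, congrArg (fun i => Ideal.Quotient.mk I (x i)) (Fin.ext (by simp; omega))⟩
      · rintro _ ⟨i, rfl⟩
        rw [RegLoc.maximalIdeal_quotient]
        exact Ideal.mem_map_of_mem _ (hx ▸ Ideal.subset_span ⟨_, rfl⟩)
    rw [h]
    have := Submodule.spanFinrank_span_le_ncard_of_finite (R := R ⧸ I)
      (Set.finite_range fun i : Fin (n - c) => Ideal.Quotient.mk I (x ⟨c + i, by omega⟩))
    refine (add_le_add_left (this.trans ?_) c).trans (le_of_eq (Nat.sub_add_cancel hc))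
    rw [← Set.image_univ]
    exact (Set.ncard_image_le Set.finite_univ).trans (by simp [Set.ncard_univ])
  let s : Finset (R ⧸ J) := Finset.univ.image fun i : Fin c => Ideal.Quotient.mk J (x (Fin.castLE hc i))
  have hs : Ideal.span (s : Set (R ⧸ J)) = I.map (Ideal.Quotient.mk J) := by
    rw [hI, Ideal.map_span, Finset.coe_image, Finset.coe_univ, Set.image_univ, ← Set.range_comp]; rfl
  have hsm : (s : Set (R ⧸ J)) ⊆ maximalIdeal (R ⧸ J) := by
    rw [RegLoc.maximalIdeal_quotient, ← Ideal.span_le, hs]
    exact Ideal.map_mono (le_maximalIdeal (Ideal.Quotient.nontrivial_iff.1 inferInstance))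
  have hdim := ringKrullDim_le_ringKrullDim_quotient_add_card s (hsm.trans (by rw [← Ideal.jacobson_bot]; exact IsLocalRing.maximalIdeal_le_jacobson _))
  rw [hb, ringKrullDim_eq_of_ringEquiv ((Ideal.quotEquivOfEq hs).trans ((DoubleQuot.quotQuotEquivQuotSup J I).trans
    (Ideal.quotEquivOfEq (sup_comm J I))))] at hdim
  obtain ⟨m, hm⟩ : ∃ m : ℕ, ringKrullDim (R ⧸ (I ⊔ J)) = m := RegLoc.exists_dim_eq_nat
  have hcard : s.card ≤ c := Finset.card_image_le.trans (by simp)
  rw [hm] at hdim
  have hdim' : b ≤ m + s.card := by exact_mod_cast hdim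
  have hle : (maximalIdeal (R ⧸ (I ⊔ J))).spanFinrank ≤ m := by
    rw [spanFinrank_maximalIdeal_eq_finrank_cotangentSpace]; omega
  have hge : m ≤ (maximalIdeal (R ⧸ (I ⊔ J))).spanFinrank := by
    have := ringKrullDim_le_spanFinrank_maximalIdeal (R := R ⧸ (I ⊔ J))
    rw [hm] at this; exact_mod_cast this
  refine ⟨IsRegularLocalRing.of_spanFinrank_maximalIdeal_le _ (by rw [hm]; exact_mod_cast hle), ?_⟩
  rw [hm]
  have : m = a + b - n := by
    rw [spanFinrank_maximalIdeal_eq_finrank_cotangentSpace] at hle hge; omega
  rw [this]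

end Groth.Agent.S14371
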