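import Groth.Statements.S14372
import Groth.Agent.Lib.TsenLang.Basic
import Mathlib.LinearAlgebra.FiniteDimensional.Basic
import Mathlib.Algebra.MvPolynomial.PDeriv
import Mathlib.RingTheory.MvPolynomial.EulerIdentity
import Mathlib.Algebra.Polynomial.Derivative

set_option autoImplicit false
universe u
open Fano

namespace Groth.Agent.S14372

/-- Over an algebraically closed field k of arbitrary characteristic, let f be a homogeneous form of
degree d ≥ 2 in n + 1 variables and U a linear subspace of k^(n+1) on which f vanishes, such that at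
every nonzero vector of U some partial derivative of f does not vanish (the hypersurface f = 0 in
P^n contains the r-plane P(U), r + 1 = dim U, and is smooth at every point of it). Then 2 · dim U ≤
n + 1, i.e. r ≤ (n − 1)/2. (The published statement assumes the hypersurface smooth everywhere; this
row assumes smoothness only along P(U).) -/
theorem result (k : Type u) [Field k] [IsAlgClosed k]
    (n d : ℕ) (hd : 2 ≤ d) (f : MvPolynomial (Fin (n + 1)) k) (hf : f.IsHomogeneous d)
    (U : Submodule k (Fin (n + 1) → k)) (hU : ∀ u ∈ U, MvPolynomial.eval u f = 0)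
    (hsm : ∀ u ∈ U, u ≠ 0 → ∃ i : Fin (n + 1), MvPolynomial.eval u (MvPolynomial.pderiv i f) ≠ 0) :
    2 * Module.finrank k ↥U ≤ n + 1 := by
  classical
  -- derivatives along `U` vanish on `U`
  have hD : ∀ u ∈ U, ∀ v ∈ U, ∑ i, v i * MvPolynomial.eval u (MvPolynomial.pderiv i f) = 0 := by
    intro u hu v hv
    let g : Fin (n + 1) → Polynomial k := fun i => Polynomial.C (u i) + Polynomial.X * Polynomial.C (v i)
    have hzero : MvPolynomial.aeval g f = 0 := by
      refine Polynomial.funext fun t => ?_
      rw [Polynomial.eval_zero, ← hU (u + t • v) (U.add_mem hu (U.smul_mem t hv))]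
      suffices ∀ p : MvPolynomial (Fin (n + 1)) k,
          Polynomial.eval t (MvPolynomial.aeval g p) = MvPolynomial.eval (u + t • v) p from this f
      intro p
      induction p using MvPolynomial.induction_on with
      | C c => simp
      | add p q hp hq => simp [hp, hq]
      | mul_X p i hp => rw [map_mul, MvPolynomial.aeval_X, Polynomial.eval_mul, hp, map_mul, MvPolynomial.eval_X]; congr 1; simp [g]; ring
    have hder : ∀ p : MvPolynomial (Fin (n + 1)) k, Polynomial.derivative (MvPolynomial.aeval g p) =
        ∑ i, Polynomial.C (v i) * MvPolynomial.aeval g (MvPolynomial.pderiv i p) := by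
      intro p
      induction p using MvPolynomial.induction_on with
      | C c => simp
      | add p q hp hq => simp [hp, hq, mul_add, Finset.sum_add_distrib]
      | mul_X p i hp =>
        have e : ∀ j, Polynomial.C (v j) * MvPolynomial.aeval g (MvPolynomial.pderiv j (p * MvPolynomial.X i)) =
            (Polynomial.C (v j) * MvPolynomial.aeval g (MvPolynomial.pderiv j p)) * g i +
              if j = i then Polynomial.C (v j) * MvPolynomial.aeval g p else 0 := by
          intro j
          by_cases hji : j = i
          · subst hji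
            rw [if_pos rfl, MvPolynomial.pderiv_mul, MvPolynomial.pderiv_X_self, mul_one, map_add, map_mul,
              MvPolynomial.aeval_X]
            ring
          · rw [if_neg hji, MvPolynomial.pderiv_mul, MvPolynomial.pderiv_X_of_ne (Ne.symm hji), mul_zero, add_zero,
              map_mul, MvPolynomial.aeval_X]
            ring
        rw [map_mul, MvPolynomial.aeval_X, Polynomial.derivative_mul, hp, Finset.sum_congr rfl fun j _ => e j,
          Finset.sum_add_distrib, ← Finset.sum_mul, Finset.sum_ite_eq', if_pos (Finset.mem_univ i)]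
        simp [g]
        ring
    have h := congrArg (Polynomial.eval 0) (hder f)
    rw [hzero, Polynomial.derivative_zero, Polynomial.eval_zero, Polynomial.eval_finsetSum] at h
    rw [h]
    refine Finset.sum_congr rfl fun i _ => ?_
    rw [Polynomial.eval_mul, Polynomial.eval_C]
    congr 1
    induction MvPolynomial.pderiv i f using MvPolynomial.induction_on with
    | C c => simp
    | add p q hp hq => simp [hp, hq]
    | mul_X p j hp => simp [hp, g]
  by_contra hlt
  push Not at hlt
  obtain ⟨W, hW⟩ := Submodule.exists_isCompl U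
  have hdim : Module.finrank k ↥U + Module.finrank k ↥W = n + 1 := by
    rw [Submodule.finrank_add_eq_of_isCompl hW, Module.finrank_fin_fun]
  let b := Module.finBasis k ↥U
  let w := Module.finBasis k ↥W
  let L : Fin (n + 1) → MvPolynomial (Fin (Module.finrank k ↥U)) k := fun i =>
    ∑ l, MvPolynomial.C ((b l : Fin (n + 1) → k) i) * MvPolynomial.X l
  let G : Fin (Module.finrank k ↥W) → MvPolynomial (Fin (Module.finrank k ↥U)) k := fun j =>
    ∑ i, MvPolynomial.C ((w j : Fin (n + 1) → k) i) * MvPolynomial.aeval L (MvPolynomial.pderiv i f)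
  have hG : ∀ j, (G j).IsHomogeneous (d - 1) := fun j =>
    MvPolynomial.IsHomogeneous.sum _ _ _ fun i _ => MvPolynomial.IsHomogeneous.C_mul (by
      have := (hf.pderiv (i := i)).aeval L (n := 1) fun i => MvPolynomial.IsHomogeneous.sum _ _ _ fun l _ =>
        (MvPolynomial.isHomogeneous_X _ _).C_mul _
      simpa using this) _
  obtain ⟨a, ha, hzero⟩ := Groth.Agent.TsenLang.exists_zero_of_isCi Groth.Agent.TsenLang.isCi_zero G
    (fun _ => d - 1) hG (fun _ => by omega) (by simp; omega)
  let u : Fin (n + 1) → k := ((∑ l, a l • b l : ↥U) : Fin (n + 1) → k)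
  have hu0 : u ≠ 0 := by
    intro h
    refine ha (funext fun l => ?_)
    have h1 : ∑ l, a l • b l = 0 := Subtype.ext h
    exact Fintype.linearIndependent_iff.1 b.linearIndependent a h1 l
  have hev : ∀ p : MvPolynomial (Fin (n + 1)) k, MvPolynomial.eval a (MvPolynomial.aeval L p) = MvPolynomial.eval u p := by
    intro p
    rw [Groth.Agent.TsenLang.eval_aeval_eq]
    congr 2
    funext i
    simp [L, u, Finset.sum_apply, mul_comm]
  obtain ⟨i, hi⟩ := hsm u (∑ l, a l • b l : ↥U).2 hu0
  apply hi
  obtain ⟨p, hp, q, hq, hpq⟩ := Submodule.mem_sup.1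
    (show (Pi.single i 1 : Fin (n + 1) → k) ∈ U ⊔ W by rw [hW.sup_eq_top]; trivial)
  let φ : (Fin (n + 1) → k) →ₗ[k] k :=
    ∑ j, MvPolynomial.eval u (MvPolynomial.pderiv j f) • LinearMap.proj j
  have hφ : ∀ x, φ x = ∑ j, x j * MvPolynomial.eval u (MvPolynomial.pderiv j f) := fun x => by
    simp [φ, LinearMap.sum_apply, mul_comm]
  have hφW : ∀ y : ↥W, φ (y : Fin (n + 1) → k) = 0 := by
    intro y
    have : φ.comp W.subtype = 0 := w.ext fun j => by
      rw [LinearMap.comp_apply, Submodule.subtype_apply, hφ, LinearMap.zero_apply]
      have h := hzero j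
      simp only [G, map_sum, map_mul, MvPolynomial.eval_C, hev] at h
      exact h
    exact LinearMap.congr_fun this y
  have h2 := hφW ⟨q, hq⟩
  have h3 := congrArg φ hpq
  rw [map_add, show φ p = 0 by rw [hφ]; exact hD u (∑ l, a l • b l : ↥U).2 p hp, h2, add_zero, hφ,
    Finset.sum_eq_single i (fun j _ hj => by simp [hj]) (fun h => absurd (Finset.mem_univ i) h)] at h3
  simpa using h3.symm

end Groth.Agent.S14372
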