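import Groth.Statements.S14375
import Groth.Agent.Lib.VarDim.Irred
import Mathlib.AlgebraicGeometry.AlgClosed.Basic
import Mathlib.AlgebraicGeometry.Morphisms.UniversallyOpen

set_option autoImplicit false
universe u
open CategoryTheory CategoryTheory.Limits AlgebraicGeometry
open Variety

namespace Groth.Agent.S14375

/-- Let k be an algebraically closed field, F an irreducible scheme of finite type over k, and f : X → Y
a k-morphism of schemes of finite type over k with Y irreducible which is locally trivial with fibre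
F: every point of Y has an open neighbourhood V such that f⁻¹(V) is isomorphic over V to V ×_k F.
Then X is irreducible. (The published statement is for varieties, i.e. reduced separated schemes;
this row assumes neither.) -/
theorem result (k : Type u) [Field k] [IsAlgClosed k]
    {X Y F : Scheme.{u}} (qX : X ⟶ Spec (CommRingCat.of k)) (qY : Y ⟶ Spec (CommRingCat.of k))
    (qF : F ⟶ Spec (CommRingCat.of k))
    [LocallyOfFiniteType qX] [QuasiCompact qX] [LocallyOfFiniteType qY] [QuasiCompact qY]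
    [LocallyOfFiniteType qF] [QuasiCompact qF] [IrreducibleSpace ↥F] [IrreducibleSpace ↥Y]
    (f : X ⟶ Y) (hf : f ≫ qY = qX)
    (htriv : ∀ y : ↥Y, ∃ V : Y.Opens, y ∈ V ∧
      ∃ e : (↑(f ⁻¹ᵁ V) : Scheme.{u}) ≅ pullback (V.ι ≫ qY) qF, e.hom ≫ pullback.fst (V.ι ≫ qY) qF = f ∣_ V) :
    IrreducibleSpace ↥X := by
  subst hf
  haveI : JacobsonSpace Y := LocallyOfFiniteType.jacobsonSpace qY
  have key : ∀ (V : Y.Opens) (e : (↑(f ⁻¹ᵁ V) : Scheme.{u}) ≅ pullback (V.ι ≫ qY) qF),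
      e.hom ≫ pullback.fst (V.ι ≫ qY) qF = f ∣_ V →
      IsOpenMap (f ∣_ V) ∧ ∀ v : V, IsClosed ({(v : ↥Y)} : Set ↥Y) →
        IsIrreducible ((f ∣_ V) ⁻¹' {(v : ↥(V : Scheme.{u}))}) := by
    intro V e he
    refine ⟨by rw [← he]; exact (e.hom ≫ pullback.fst (V.ι ≫ qY) qF).isOpenMap, fun v hv => ?_⟩
    have hv' : IsClosed ({v} : Set ↥(V : Scheme.{u})) := by
      have h2 : V.ι ⁻¹' {(v : ↥Y)} = ({v} : Set ↥(V : Scheme.{u})) := by
        ext w; exact ⟨fun h => V.ι.isOpenEmbedding.injective h, fun h => by rw [Set.mem_singleton_iff.mp h]; rfl⟩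
      rw [← h2]
      exact hv.preimage V.ι.continuous
    let p := pointOfClosedPoint (V.ι ≫ qY) (v : ↥(V : Scheme.{u})) hv'
    let s : F ⟶ pullback (V.ι ≫ qY) qF :=
      pullback.lift (qF ≫ p) (𝟙 F) (by rw [Category.assoc, pointOfClosedPoint_comp, Category.comp_id, Category.id_comp])
    have hrange : Set.range (s ≫ e.inv) = (f ∣_ V) ⁻¹' {(v : ↥(V : Scheme.{u}))} := by
      have hs : Set.range s = pullback.fst (V.ι ≫ qY) qF ⁻¹' {(v : ↥(V : Scheme.{u}))} := by
        have hpb : IsPullback s qF (pullback.fst (V.ι ≫ qY) qF) p := by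
          refine (IsPullback.of_right ?_ (pullback.lift_fst _ _ _) (IsPullback.of_hasPullback (V.ι ≫ qY) qF).flip).flip.flip
          have hid : s ≫ pullback.snd (V.ι ≫ qY) qF = 𝟙 F := pullback.lift_snd _ _ _
          rw [hid, pointOfClosedPoint_comp]
          exact IsPullback.of_horiz_isIso ⟨by simp⟩
        rw [← hpb.isoPullback_hom_fst, Scheme.Hom.comp_base, TopCat.coe_comp, Set.range_comp,
          (show Set.range hpb.isoPullback.hom = Set.univ from Set.range_eq_univ.mpr hpb.isoPullback.hom.homeomorph.surjective), Set.image_univ, Scheme.Pullback.range_fst]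
        congr 1
        exact Set.range_eq_singleton_iff.mpr fun a => pointOfClosedPoint_apply _ _ hv' a
      rw [← he, Scheme.Hom.comp_base, TopCat.coe_comp, Set.range_comp, hs]
      ext x
      constructor
      · rintro ⟨a, ha, rfl⟩
        change (e.inv ≫ e.hom ≫ pullback.fst (V.ι ≫ qY) qF) a = _
        rw [Iso.inv_hom_id_assoc]
        exact ha
      · intro hx
        refine ⟨e.hom x, hx, ?_⟩
        change (e.hom ≫ e.inv) x = x
        rw [Iso.hom_inv_id]; rfl
    rw [← hrange, ← Set.image_univ]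
    exact (IrreducibleSpace.isIrreducible_univ _).image _ (s ≫ e.inv).continuous.continuousOn
  have hopen : IsOpenMap f := by
    intro U hU
    refine isOpen_iff_forall_mem_open.mpr ?_
    rintro _ ⟨x, hx, rfl⟩
    obtain ⟨V, hxV, e, he⟩ := htriv (f x)
    refine ⟨V.ι '' ((f ∣_ V) '' ((f ⁻¹ᵁ V).ι ⁻¹' U)), ?_,
      V.ι.isOpenEmbedding.isOpenMap _ ((key V e he).1 _ (hU.preimage (f ⁻¹ᵁ V).ι.continuous)),
      ⟨_, ⟨⟨x, hxV⟩, hx, rfl⟩, ?_⟩⟩
    · rintro _ ⟨_, ⟨a, ha, rfl⟩, rfl⟩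
      refine ⟨(f ⁻¹ᵁ V).ι a, ha, ?_⟩
      change ((f ⁻¹ᵁ V).ι ≫ f) a = (f ∣_ V ≫ V.ι) a
      rw [morphismRestrict_ι]
    · change (f ∣_ V ≫ V.ι) ⟨x, hxV⟩ = f x
      rw [morphismRestrict_ι]; rfl
  have hfib : ∀ y : ↥Y, IsClosed ({y} : Set ↥Y) → IsIrreducible (f ⁻¹' {y}) := fun y hy => by
    obtain ⟨V, hyV, e, he⟩ := htriv y
    convert ((key V e he).2 ⟨y, hyV⟩ hy).image (f ⁻¹ᵁ V).ι (f ⁻¹ᵁ V).ι.continuous.continuousOn
    ext x
    constructor
    · intro hx
      have hx' : f x = y := hx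
      refine ⟨⟨x, show f x ∈ V by rw [hx']; exact hyV⟩, ?_, rfl⟩
      apply V.ι.isOpenEmbedding.injective
      change (f ∣_ V ≫ V.ι) _ = y
      rw [morphismRestrict_ι]
      exact hx'
    · rintro ⟨a, ha, rfl⟩
      change ((f ⁻¹ᵁ V).ι ≫ f) a = y
      rw [← morphismRestrict_ι]
      exact congrArg (fun w => V.ι w) (Set.mem_singleton_iff.mp ha)
  obtain ⟨y₀, -, hy₀⟩ := nonempty_inter_closedPoints (Z := (Set.univ : Set ↥Y)) Set.univ_nonempty isOpen_univ.isLocallyClosed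
  haveI : Nonempty ↥X := ⟨(hfib y₀ hy₀).nonempty.some⟩
  haveI : PreirreducibleSpace ↥X := by
    constructor
    rintro U U' hU hU' ⟨a, -, ha⟩ ⟨b, -, hb⟩
    obtain ⟨y, hy, hyc⟩ := nonempty_inter_closedPoints
      (Z := f '' U ∩ f '' U')
      (nonempty_preirreducible_inter (hopen U hU) (hopen U' hU') ⟨_, a, ha, rfl⟩ ⟨_, b, hb, rfl⟩)
      ((hopen U hU).inter (hopen U' hU')).isLocallyClosed
    obtain ⟨⟨a', ha', ha'y⟩, ⟨b', hb', hb'y⟩⟩ := hy
    obtain ⟨x, -, hx⟩ := (hfib y hyc).isPreirreducible U U' hU hU' ⟨a', ha'y, ha'⟩ ⟨b', hb'y, hb'⟩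
    exact ⟨x, trivial, hx⟩
  exact ⟨inferInstance⟩

end Groth.Agent.S14375
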