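import Groth.Statements.S14376
import Groth.Agent.Lib.SqFree13.Basic
-- import your own Groth.Agent.* helpers here

set_option autoImplicit false
universe u
open Fano

namespace Groth.Agent.S14376

/-- Over an algebraically closed field k, let n ≥ 1 and d ≥ 1. In the vector space of degree-d forms in
n + 1 variables, the forms F that are squarefree (equivalently, nonzero with (F) a radical ideal:
the reduced hypersurfaces of degree d in P^n) form a Zariski-open subset, and this subset is
nonempty. (The published statement allows projective space of every dimension n; for n = 0 and d ≥ 2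
there is no squarefree form of degree d, so this row assumes n ≥ 1.) -/
theorem result (k : Type u) [Field k] [IsAlgClosed k]
    (n d : ℕ) (hn : 1 ≤ n) (hd : 1 ≤ d) :
    LefPen.IsZOpen k {F : LefPen.Form n k d | Squarefree F.1} ∧
      ({F : LefPen.Form n k d | Squarefree F.1}).Nonempty := by
  classical
  open Groth.Agent.SqFree13 Polynomial in
  constructor
  · intro F hF
    have hh : ∀ G : LefPen.Form n k d, (G.1).IsHomogeneous d := fun G =>
      (MvPolynomial.mem_homogeneousSubmodule d _).1 G.2
    have hF0 : F.1 ≠ 0 := Squarefree.ne_zero hF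
    obtain ⟨v, w, hw, hres⟩ := exists_line hd F.1 (hh F) hF0 hF
    let A := Algebra.adjoin k (Set.range (fun l : Module.Dual k (LefPen.Form n k d) => (l : LefPen.Form n k d → k)))
    let c : ℕ → A := fun j => ⟨_, Algebra.subset_adjoin
      ⟨(lcoeff k j).comp ((line v w).toLinearMap.comp (Submodule.subtype _)), rfl⟩⟩
    let P : Polynomial A := ∑ j ∈ Finset.range (d + 1), C (c j) * X ^ j
    let e : LefPen.Form n k d → (A →+* k) := fun G =>
      (Pi.evalRingHom (fun _ => k) G).comp A.val.toRingHom
    have hP : ∀ G : LefPen.Form n k d, P.map (e G) = line v w G.1 := fun G => by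
      conv_rhs => rw [Polynomial.as_sum_range' (line v w G.1) (d + 1)
        (Nat.lt_succ_of_le ((line_natDegree_le v w G.1).trans (hh G).totalDegree_le))]
      simp only [P, Polynomial.map_sum, Polynomial.map_mul, Polynomial.map_C, Polynomial.map_pow,
        Polynomial.map_X]
      refine Finset.sum_congr rfl fun i _ => ?_
      rw [← C_mul_X_pow_eq_monomial]
      rfl
    let r : A := resultant P (derivative P) d (d - 1) * c d
    have hr : ∀ G : LefPen.Form n k d, e G r =
        resultant (line v w G.1) (derivative (line v w G.1)) d (d - 1) * (line v w G.1).coeff d := fun G => by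
      rw [← hP G, derivative_map, resultant_map_map]
      show e G (_ * c d) = _
      rw [map_mul, hP G]
      rfl
    refine ⟨fun G => e G r, r.2, ?_, fun G hG => ?_⟩
    · show e F r ≠ 0
      rw [hr, mul_ne_zero_iff, line_coeff v w F.1 (hh F)]
      exact ⟨hres, by simpa using hw⟩
    · change e G r ≠ 0 at hG
      rw [hr, mul_ne_zero_iff] at hG
      exact squarefree_of_line hd G.1 (hh G) v w hG.2 (isCoprime_of_resultant hd _
        ((line_natDegree_le v w G.1).trans (hh G).totalDegree_le) hG.1)
  · let c : Fin d → k := fun i => Infinite.natEmbedding k i.1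
    have hc : Function.Injective c := fun a b h => Fin.ext ((Infinite.natEmbedding k).injective h)
    have h01 : (⟨1, by omega⟩ : Fin (n + 1)) ≠ 0 := by simp [Fin.ext_iff]
    let F : MvPolynomial (Fin (n + 1)) k :=
      ∏ i, (MvPolynomial.X 0 - MvPolynomial.C (c i) * MvPolynomial.X ⟨1, by omega⟩)
    have hh : F.IsHomogeneous d := by
      have := MvPolynomial.IsHomogeneous.prod Finset.univ
        (fun i => MvPolynomial.X 0 - MvPolynomial.C (c i) * MvPolynomial.X (⟨1, by omega⟩ : Fin (n + 1)))
        (fun _ => 1) fun i _ => (MvPolynomial.isHomogeneous_X k _).sub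
          ((MvPolynomial.isHomogeneous_X k _).C_mul (c i))
      simpa [F] using this
    refine ⟨⟨F, (MvPolynomial.mem_homogeneousSubmodule d _).2 hh⟩, ?_⟩
    let v : Fin (n + 1) → k := Pi.single ⟨1, by omega⟩ 1
    let w : Fin (n + 1) → k := Pi.single 0 1
    have hl : line v w F = ∏ i, (X - C (c i)) := by
      simp only [F, map_prod, map_sub, map_mul]
      refine Finset.prod_congr rfl fun i _ => ?_
      simp [line, v, w, Pi.single_eq_of_ne h01, Pi.single_eq_of_ne h01.symm]
    have hm : (line v w F).Monic := hl ▸ monic_prod_of_monic _ _ fun i _ => monic_X_sub_C _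
    have hdeg : (line v w F).natDegree = d := by
      rw [hl, natDegree_prod_of_monic _ _ fun i _ => monic_X_sub_C _]; simp
    refine squarefree_of_line hd F hh v w ?_ ((separable_def _).1 ?_)
    · rw [← hdeg, hm.coeff_natDegree]; exact one_ne_zero
    · rw [hl]; exact separable_prod_X_sub_C_iff.2 hc

end Groth.Agent.S14376
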