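import Groth.Statements.S14377
import Groth.Agent.Lib.VarDim.Alg
import Mathlib.RingTheory.Nullstellensatz
import Mathlib.RingTheory.Ideal.KrullsHeightTheorem
import Mathlib.LinearAlgebra.Matrix.Charpoly.Coeff
import Mathlib.LinearAlgebra.Matrix.Basis
import Mathlib.LinearAlgebra.Matrix.ToLin
import Mathlib.LinearAlgebra.Basis.Fin
import Mathlib.RingTheory.Localization.Away.Basic

set_option autoImplicit false
universe u
open Variety

namespace Groth.Agent.S14377

open Polynomial

variable {k : Type u} [Field k]

lemma exists_basis_strict : ∀ (n : ℕ) {V : Type u} [AddCommGroup V] [Module k V] [FiniteDimensional k V],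
    Module.finrank k V = n → ∀ f : V →ₗ[k] V, IsNilpotent f →
      ∃ b : Module.Basis (Fin n) k V, ∀ j i, j ≤ i → b.repr (f (b j)) i = 0 := by
  intro n
  induction n with
  | zero => exact fun hV f _ => ⟨Module.finBasisOfFinrankEq k _ hV, fun j => j.elim0⟩
  | succ n ih =>
    intro V _ _ _ hV f hf
    have hlt : LinearMap.range f < ⊤ := by
      refine lt_top_iff_ne_top.mpr fun he => ?_
      obtain ⟨m, hm⟩ := hf
      have hs : Function.Surjective ((f ^ m : V →ₗ[k] V)) := by
        rw [Module.End.coe_pow]
        exact (LinearMap.range_eq_top.mp he).iterate m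
      rw [hm] at hs
      haveI : Subsingleton V := ⟨fun x y => by
        obtain ⟨a, rfl⟩ := hs x; obtain ⟨b, rfl⟩ := hs y; simp⟩
      rw [Module.finrank_zero_of_subsingleton] at hV
      omega
    obtain ⟨φ, hφ, hφf⟩ := Submodule.exists_dual_map_eq_bot_of_lt_top hlt inferInstance
    let H := LinearMap.ker φ
    have hrange : ∀ v, f v ∈ H := fun v => by
      have : φ (f v) ∈ (LinearMap.range f).map φ := Submodule.mem_map_of_mem (LinearMap.mem_range_self f v)
      rw [hφf] at this
      exact this
    obtain ⟨y, hy⟩ : ∃ y, φ y ≠ 0 := by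
      by_contra hh; push Not at hh; exact hφ (LinearMap.ext hh)
    have hsurj : Function.Surjective φ := fun c => ⟨(c / φ y) • y, by simp [hy]⟩
    have hH : Module.finrank k H = n := by
      have := LinearMap.finrank_range_add_finrank_ker φ
      rw [LinearMap.range_eq_top.mpr hsurj, finrank_top, Module.finrank_self, hV] at this
      show Module.finrank k (LinearMap.ker φ) = n
      omega
    let g : H →ₗ[k] H := f.restrict (fun v _ => hrange v)
    have hg : IsNilpotent g := by
      obtain ⟨m, hm⟩ := hf
      refine ⟨m, ?_⟩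
      have hr : ∀ (l : ℕ) (v : H), (((g ^ l) v : H) : V) = (f ^ l) v := by
        intro l
        induction l with
        | zero => intro v; simp
        | succ l ihl => intro v; rw [pow_succ, pow_succ, Module.End.mul_apply, Module.End.mul_apply, ihl]; rfl
      ext v
      rw [hr, hm]; rfl
    obtain ⟨b, hb⟩ := ih hH g hg
    let B := Module.Basis.mkFinSnoc b y (fun c x hx hcx => by
        have := congrArg φ hcx
        rw [map_add, map_smul, (LinearMap.mem_ker.mp hx : φ x = 0), add_zero, map_zero, smul_eq_mul] at this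
        exact (mul_eq_zero.mp this).resolve_right hy)
      (fun z => ⟨-(φ z / φ y), by
        show φ _ = 0
        simp [hy]⟩)
    have hBc : ∀ i : Fin n, B i.castSucc = (b i : V) := fun i => by
      simp [B, Module.Basis.coe_mkFinSnoc]
    have hrepr : ∀ (h : H) (i : Fin (n + 1)), B.repr (h : V) i =
        Fin.snoc (α := fun _ => k) (fun l => b.repr h l) 0 i := by
      intro h i
      have e : (h : V) = ∑ l, (b.repr h l) • B l.castSucc := by
        conv_lhs => rw [← b.sum_repr h, AddSubmonoidClass.coe_finset_sum]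
        simp [hBc]
      conv_lhs => rw [e]
      simp only [map_sum, map_smul, Module.Basis.repr_self, Finsupp.coe_finset_sum, Finset.sum_apply,
        Finsupp.smul_single, smul_eq_mul, mul_one, Finsupp.single_apply]
      induction i using Fin.lastCases with
      | last => simp [(Fin.castSucc_lt_last _).ne]
      | cast l => simp
    refine ⟨B, fun j i hij => ?_⟩
    rw [hrepr ⟨f (B j), hrange _⟩ i]
    induction i using Fin.lastCases with
    | last => simp
    | cast i =>
      rw [Fin.snoc_castSucc]
      induction j using Fin.lastCases with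
      | last => exact absurd hij (not_le.mpr (Fin.castSucc_lt_last i))
      | cast j =>
        rw [show (⟨f (B j.castSucc), hrange _⟩ : H) = g (b j) from Subtype.ext (by rw [hBc]; rfl)]
        exact hb j i (by simpa using hij)

lemma exists_conj_strict {n : ℕ} (M : Matrix (Fin n) (Fin n) k) (hM : IsNilpotent M) :
    ∃ g : (Matrix (Fin n) (Fin n) k)ˣ, ∃ U : Matrix (Fin n) (Fin n) k,
      (∀ i j, j ≤ i → U i j = 0) ∧
        M = (g : Matrix (Fin n) (Fin n) k) * U * ((g⁻¹ : (Matrix (Fin n) (Fin n) k)ˣ) : Matrix (Fin n) (Fin n) k) := by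
  classical
  obtain ⟨b, hb⟩ := exists_basis_strict n (V := Fin n → k) (by simp) (Matrix.toLin' M)
    (hM.map (Matrix.toLinAlgEquiv' (R := k) (n := Fin n)))
  let e := Pi.basisFun k (Fin n)
  let g : (Matrix (Fin n) (Fin n) k)ˣ :=
    ⟨e.toMatrix b, b.toMatrix e, e.toMatrix_mul_toMatrix_flip b, b.toMatrix_mul_toMatrix_flip e⟩
  refine ⟨g, LinearMap.toMatrix b b (Matrix.toLin' M), fun i j hij => ?_, ?_⟩
  · rw [LinearMap.toMatrix_apply]; exact hb j i hij
  · show M = e.toMatrix b * _ * b.toMatrix e
    rw [basis_toMatrix_mul_linearMap_toMatrix_mul_basis_toMatrix, LinearMap.toMatrix_eq_toMatrix',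
      LinearMap.toMatrix'_toLin']

lemma charpoly_strict {R : Type u} [CommRing R] {n : ℕ} (U : Matrix (Fin n) (Fin n) R)
    (h : ∀ i j, j ≤ i → U i j = 0) : U.charpoly = X ^ n := by
  rw [Matrix.charpoly_of_isUpperTriangular U (fun i j hij => h i j (le_of_lt hij))]
  simp [fun i => h i i le_rfl]

lemma map_ringKrullDim_le {R : Type u} [CommRing R] (I P : Ideal R) (h : P ≤ I.radical) :
    ringKrullDim (R ⧸ I) ≤ ringKrullDim (R ⧸ P) := by
  let f : PrimeSpectrum (R ⧸ I) → PrimeSpectrum (R ⧸ P) := fun q =>
    ⟨(q.asIdeal.comap (Ideal.Quotient.mk I)).map (Ideal.Quotient.mk P),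
      Ideal.isPrime_map_quotientMk_of_isPrime (h.trans ((Ideal.IsPrime.radical_le_iff
        (Ideal.comap_isPrime _ _)).mpr fun z hz => by
          rw [Ideal.mem_comap, Ideal.Quotient.eq_zero_iff_mem.mpr hz]; exact zero_mem _))⟩
  have hc : ∀ q : PrimeSpectrum (R ⧸ I), (f q).asIdeal.comap (Ideal.Quotient.mk P) =
      q.asIdeal.comap (Ideal.Quotient.mk I) := fun q => by
    show ((q.asIdeal.comap (Ideal.Quotient.mk I)).map (Ideal.Quotient.mk P)).comap _ = _
    rw [Ideal.comap_map_of_surjective _ Ideal.Quotient.mk_surjective, ← RingHom.ker_eq_comap_bot,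
      Ideal.mk_ker, sup_eq_left]
    exact h.trans ((Ideal.IsPrime.radical_le_iff (Ideal.comap_isPrime _ _)).mpr fun z hz => by
      rw [Ideal.mem_comap, Ideal.Quotient.eq_zero_iff_mem.mpr hz]; exact zero_mem _)
  have hmono : StrictMono f := Monotone.strictMono_of_injective
    (fun q q' hq => Ideal.map_mono (Ideal.comap_mono hq)) (fun q q' hqq => PrimeSpectrum.ext <|
      Ideal.comap_injective_of_surjective _ Ideal.Quotient.mk_surjective
        (by show q.asIdeal.comap (Ideal.Quotient.mk I) = q'.asIdeal.comap (Ideal.Quotient.mk I)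
            rw [← hc, ← hc, hqq]))
  exact Order.krullDim_le_of_strictMono f hmono

lemma height_maximal (A : Type u) [CommRing A] [IsDomain A] [Algebra k A] [Algebra.FiniteType k A]
    (m : Ideal A) [hm : m.IsMaximal] : (m.height : WithBot ℕ∞) = ringKrullDim A := by
  have h1 := Groth.Agent.VarDim.height_add_coheight k A (⟨m, hm.isPrime⟩ : PrimeSpectrum A)
  have h2 : Order.coheight (⟨m, hm.isPrime⟩ : PrimeSpectrum A) = 0 := by
    rw [Order.coheight_eq_zero]
    intro q hq
    exact le_of_eq (PrimeSpectrum.ext (hm.eq_of_le q.2.ne_top hq).symm)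
  rw [h2, add_zero, ← PrimeSpectrum.height_eq_orderHeight] at h1
  exact h1

/-- Over an algebraically closed field k, let n ≥ 1 and let I be the ideal of the polynomial ring
k[x_ij] in the n² entries of the generic n × n matrix generated by the coefficients of t^0, …,
t^(n−1) in its characteristic polynomial, so that the zero locus of I in the affine space of n × n
matrices is the set of nilpotent matrices. Then the spectrum of k[x_ij]/I is irreducible and
k[x_ij]/I has Krull dimension n² − n: the nilpotent matrices form an irreducible closed subvariety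
of dimension n² − n of the space of all n × n matrices. -/
theorem result (k : Type u) [Field k] [IsAlgClosed k]
    (n : ℕ) (hn : 1 ≤ n) (I : Ideal (MvPolynomial (Fin n × Fin n) k))
    (hI : I = Ideal.span (Set.range (fun i : Fin n =>
      (Matrix.charpoly (Matrix.mvPolynomialX (Fin n) (Fin n) k)).coeff (i : ℕ)))) :
    IrreducibleSpace (PrimeSpectrum (MvPolynomial (Fin n × Fin n) k ⧸ I)) ∧
      ringKrullDim (MvPolynomial (Fin n × Fin n) k ⧸ I) = ((n ^ 2 - n : ℕ) : WithBot ℕ∞) := by
  classical
  subst hI
  let R := MvPolynomial (Fin n × Fin n) k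
  let Mx : Matrix (Fin n) (Fin n) R := Matrix.mvPolynomialX (Fin n) (Fin n) k
  set I := Ideal.span (Set.range fun i : Fin n => Mx.charpoly.coeff (i : ℕ)) with hIdef
  -- charpoly modulo `I`
  have hcp : ∀ {S : Type u} [CommRing S] [Nontrivial S] (φ : R →+* S),
      (∀ a ∈ I, φ a = 0) → (Mx.map φ).charpoly = X ^ n := by
    intro S _ _ φ hφ
    rw [Matrix.charpoly_map]
    ext l
    rw [Polynomial.coeff_map, coeff_X_pow]
    rcases lt_trichotomy l n with h | h | h
    · rw [if_neg h.ne]
      exact hφ _ (Ideal.subset_span ⟨⟨l, h⟩, rfl⟩)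
    · rw [if_pos h, h]
      have : Mx.charpoly.coeff n = 1 := by
        have := Mx.charpoly_monic.coeff_natDegree
        rwa [Matrix.charpoly_natDegree_eq_dim, Fintype.card_fin] at this
      rw [this, map_one]
    · rw [if_neg h.ne', coeff_eq_zero_of_natDegree_lt, map_zero]
      rw [Matrix.charpoly_natDegree_eq_dim, Fintype.card_fin]; exact h
  -- parametrisation by conjugates of strictly upper triangular matrices
  let S := MvPolynomial ((Fin n × Fin n) ⊕ (Fin n × Fin n)) k
  let G : Matrix (Fin n) (Fin n) S := Matrix.of fun i j => MvPolynomial.X (Sum.inl (i, j))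
  let U₀ : Matrix (Fin n) (Fin n) S :=
    Matrix.of fun i j => if j ≤ i then 0 else MvPolynomial.X (Sum.inr (i, j))
  have hGdet : G.det ≠ 0 := by
    intro h0
    have := congrArg (MvPolynomial.aeval (Sum.elim (fun p : (Fin n × Fin n) => if p.1 = p.2 then (1 : k) else 0)
      (fun _ => 0))) h0
    rw [map_zero, AlgHom.map_det] at this
    have e : (MvPolynomial.aeval (Sum.elim (fun p : (Fin n × Fin n) => if p.1 = p.2 then (1 : k) else 0)
        (fun _ => (0 : k)))).mapMatrix G = 1 := by
      ext i j; simp [G, Matrix.one_apply]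
    rw [e, Matrix.det_one] at this
    exact one_ne_zero this
  let K := Localization.Away G.det
  haveI : IsDomain K := IsLocalization.Away.isDomain (R := S) (S := K) hGdet
  let ι : S →ₐ[k] K := IsScalarTower.toAlgHom k S K
  have hGu : IsUnit (ι.mapMatrix G) := by
    rw [Matrix.isUnit_iff_isUnit_det, ← AlgHom.map_det]
    exact IsLocalization.Away.algebraMap_isUnit G.det
  let Z : Matrix (Fin n) (Fin n) K := (hGu.unit : Matrix (Fin n) (Fin n) K) * ι.mapMatrix U₀ *
    ((hGu.unit⁻¹ : (Matrix (Fin n) (Fin n) K)ˣ) : Matrix (Fin n) (Fin n) K)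
  let Ψ : R →ₐ[k] K := MvPolynomial.aeval fun p => Z p.1 p.2
  have hΨM : Mx.map Ψ.toRingHom = Z := by
    ext i j; exact MvPolynomial.aeval_X _ _
  let P := RingHom.ker Ψ.toRingHom
  haveI : P.IsPrime := RingHom.ker_isPrime _
  have hIP : I ≤ P := by
    rw [hIdef, Ideal.span_le]
    rintro _ ⟨i, rfl⟩
    show Ψ.toRingHom (Mx.charpoly.coeff i) = 0
    rw [← Polynomial.coeff_map, ← Matrix.charpoly_map, hΨM]
    simp only [Z]
    rw [Matrix.coe_units_inv, Matrix.charpoly_units_conj,
      charpoly_strict _ (fun a b hab => by simp [U₀, hab]), coeff_X_pow, if_neg i.isLt.ne]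
  have hPI : P ≤ I.radical := by
    intro a ha
    rw [← MvPolynomial.vanishingIdeal_zeroLocus_eq_radical (K := k) I]
    intro x hx
    let M : Matrix (Fin n) (Fin n) k := Mx.map (MvPolynomial.aeval x).toRingHom
    have hM : IsNilpotent M := ⟨n, by
      have h1 := hcp (MvPolynomial.aeval x).toRingHom (fun c hc => hx c hc)
      have h2 := Matrix.aeval_self_charpoly M
      rw [h1, map_pow, aeval_X] at h2
      exact h2⟩
    obtain ⟨g, U, hU, hMU⟩ := exists_conj_strict M hM
    let pt : S →ₐ[k] k := MvPolynomial.aeval (Sum.elim (fun p : (Fin n × Fin n) => (g : Matrix _ _ k) p.1 p.2)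
      (fun p : (Fin n × Fin n) => U p.1 p.2))
    have hptG : pt.mapMatrix G = g := by ext i j; exact MvPolynomial.aeval_X _ _
    have hu : IsUnit (pt.toRingHom G.det) := by
      show IsUnit (pt G.det)
      rw [AlgHom.map_det, hptG]
      exact (Matrix.isUnit_iff_isUnit_det _).mp g.isUnit
    let θ : K →+* k := IsLocalization.Away.lift G.det hu
    have hθ : ∀ s, θ (ι s) = pt s := fun s => IsLocalization.Away.lift_eq G.det hu s
    have hθG : θ.mapMatrix (ι.mapMatrix G) = g := by
      rw [← hptG]; ext i j; exact hθ _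
    have hθU : θ.mapMatrix (ι.mapMatrix U₀) = U := by
      ext i j
      show θ (ι (U₀ i j)) = _
      rw [hθ]
      by_cases h : j ≤ i
      · simp [U₀, h, hU]
      · simp only [U₀, Matrix.of_apply, if_neg h]
        exact MvPolynomial.aeval_X _ _
    have hθZ : θ.mapMatrix Z = M := by
      rw [hMU]
      simp only [Z, map_mul, IsUnit.unit_spec, hθG, hθU]
      congr 1
      have he : Units.map (θ.mapMatrix (m := Fin n)).toMonoidHom hGu.unit = g := Units.ext hθG
      conv_rhs => rw [← he]
      rw [← map_inv]
      rfl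
    have : θ.comp Ψ.toRingHom = (MvPolynomial.aeval x).toRingHom := by
      apply MvPolynomial.ringHom_ext
      · intro c
        show θ (Ψ (MvPolynomial.C c)) = MvPolynomial.aeval x (MvPolynomial.C c)
        rw [MvPolynomial.aeval_C, MvPolynomial.aeval_C,
          show algebraMap k K c = ι (algebraMap k S c) from (ι.commutes c).symm, hθ]
        exact pt.commutes c
      · intro p
        show θ (Ψ (MvPolynomial.X p)) = _
        rw [show Ψ (MvPolynomial.X p) = Z p.1 p.2 from MvPolynomial.aeval_X _ _]
        have := congrFun (congrFun hθZ p.1) p.2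
        rw [RingHom.mapMatrix_apply, Matrix.map_apply] at this
        rw [this]
        rfl
    have h3 := RingHom.congr_fun this a
    rw [RingHom.comp_apply, (RingHom.mem_ker.mp ha), map_zero] at h3
    exact h3.symm
  have hrad : I.radical = P := le_antisymm ((Ideal.IsPrime.radical_le_iff ‹_›).mpr hIP) hPI
  refine ⟨?_, le_antisymm ?_ ?_⟩
  · rw [PrimeSpectrum.irreducibleSpace_iff_isPrime_nilradical]
    have : nilradical (R ⧸ I) = P.map (Ideal.Quotient.mk I) := by
      rw [← hrad, nilradical]
      refine Ideal.comap_injective_of_surjective _ Ideal.Quotient.mk_surjective ?_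
      rw [Ideal.comap_radical, Ideal.comap_map_of_surjective _ Ideal.Quotient.mk_surjective,
        ← RingHom.ker_eq_comap_bot, Ideal.mk_ker, sup_eq_left.mpr Ideal.le_radical]
      congr 1
      show Ideal.comap (Ideal.Quotient.mk I) ⊥ = I
      rw [← RingHom.ker_eq_comap_bot, Ideal.mk_ker]
    rw [this]
    exact Ideal.isPrime_map_quotientMk_of_isPrime hIP
  · refine (map_ringKrullDim_le I P hPI).trans ?_
    let m : Ideal R := MvPolynomial.vanishingIdeal k {(0 : (Fin n × Fin n) → k)}
    haveI : m.IsMaximal := (MvPolynomial.isMaximal_iff_eq_vanishingIdeal_singleton).mpr ⟨0, rfl⟩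
    have hPm : P ≤ m := by
      intro a ha
      have h0 : a ∈ I.radical := hPI ha
      refine (Ideal.IsPrime.radical_le_iff (inferInstance : m.IsPrime)).mpr ?_ h0
      rw [hIdef, Ideal.span_le]
      rintro _ ⟨i, rfl⟩
      intro x hx
      rw [Set.mem_singleton_iff] at hx
      subst hx
      show (MvPolynomial.aeval (0 : (Fin n × Fin n) → k)).toRingHom (Mx.charpoly.coeff i) = 0
      rw [← Polynomial.coeff_map, ← Matrix.charpoly_map,
        show Mx.map (MvPolynomial.aeval (0 : (Fin n × Fin n) → k)).toRingHom = 0 by ext a b; simp [Mx],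
        Matrix.charpoly_zero, coeff_X_pow, Fintype.card_fin, if_neg i.isLt.ne]
    let mk := Ideal.Quotient.mk P
    let mb := m.map mk
    haveI : mb.IsPrime := Ideal.isPrime_map_quotientMk_of_isPrime hPm
    haveI : mb.IsMaximal := Ideal.IsMaximal.map_of_surjective_of_ker_le Ideal.Quotient.mk_surjective
      (by rw [Ideal.mk_ker]; exact hPm)
    rw [← height_maximal (k := k) (R ⧸ P) mb]
    let off : Finset (Fin n × Fin n) := Finset.univ.filter fun p => p.1 ≠ p.2
    have hoff : off.card = n ^ 2 - n := by
      rw [show off = (Finset.univ : Finset (Fin n)).offDiag by ext p; simp [off], Finset.offDiag_card]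
      simp [pow_two]
    let gens : Finset (R ⧸ P) := off.image fun p => mk (MvPolynomial.X p)
    have hle : mb.height ≤ gens.card := by
      refine Ideal.height_le_card_of_mem_minimalPrimes_span_finset ⟨⟨‹_›, ?_⟩, ?_⟩
      · rw [Ideal.span_le]
        intro z hz
        simp only [gens, Finset.coe_image, Set.mem_image] at hz
        obtain ⟨p, -, rfl⟩ := hz
        exact Ideal.mem_map_of_mem _ (fun x hx => by rw [Set.mem_singleton_iff] at hx; simp [hx])
      · rintro q ⟨hq, hqs⟩ -
        haveI := hq
        refine Ideal.map_le_iff_le_comap.mpr fun a ha => ?_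
        let π : R →+* (R ⧸ P) ⧸ q := (Ideal.Quotient.mk q).comp mk
        have hπ : ∀ p : (Fin n × Fin n), π (MvPolynomial.X p) = 0 := by
          intro p
          have hoff0 : ∀ p : (Fin n × Fin n), p.1 ≠ p.2 → π (MvPolynomial.X p) = 0 := fun p hp =>
            Ideal.Quotient.eq_zero_iff_mem.mpr (hqs (Ideal.subset_span (by
              simp only [gens, Finset.coe_image, Set.mem_image]
              exact ⟨p, by simp [off, hp], rfl⟩)))
          by_cases hp : p.1 = p.2
          · have h1 := hcp π (fun c hc => by
              show Ideal.Quotient.mk q (mk c) = 0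
              rw [show mk c = 0 from Ideal.Quotient.eq_zero_iff_mem.mpr (hIP hc), map_zero])
            rw [Matrix.charpoly_of_isUpperTriangular _ (fun i j hij => by
              simp [Mx]; exact hoff0 (i, j) (ne_of_gt hij))] at h1
            have h2 := congrArg (Polynomial.eval (π (MvPolynomial.X p))) h1
            rw [eval_prod, eval_pow, eval_X, Finset.prod_eq_zero (Finset.mem_univ p.1)] at h2
            · exact eq_zero_of_pow_eq_zero h2.symm
            · obtain ⟨i, j⟩ := p
              simp only at hp
              subst hp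
              simp [Mx]
          · exact hoff0 p hp
        have h3 : π = (algebraMap k ((R ⧸ P) ⧸ q)).comp (MvPolynomial.aeval (0 : (Fin n × Fin n) → k)).toRingHom := by
          apply MvPolynomial.ringHom_ext
          · intro c; simp [π, mk]; rfl
          · intro p; simp [hπ]
        have h4 : π a = 0 := by
          rw [h3, RingHom.comp_apply]
          have : MvPolynomial.aeval (0 : (Fin n × Fin n) → k) a = 0 := ha 0 rfl
          show algebraMap k _ ((MvPolynomial.aeval (0 : (Fin n × Fin n) → k)) a) = 0
          rw [this, map_zero]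
        exact Ideal.mem_comap.mpr (Ideal.Quotient.eq_zero_iff_mem.mp (h4 : Ideal.Quotient.mk q (mk a) = 0))
    calc ((mb.height : ℕ∞) : WithBot ℕ∞) ≤ ((gens.card : ℕ∞) : WithBot ℕ∞) := by exact_mod_cast hle
      _ ≤ ((n ^ 2 - n : ℕ) : WithBot ℕ∞) := by
        have h' : gens.card ≤ n ^ 2 - n := Finset.card_image_le.trans hoff.le
        exact le_trans (WithBot.coe_le_coe.mpr (Nat.cast_le.mpr h')) (le_of_eq rfl)
  · let m : Ideal R := MvPolynomial.vanishingIdeal k {(0 : (Fin n × Fin n) → k)}
    haveI : m.IsMaximal := (MvPolynomial.isMaximal_iff_eq_vanishingIdeal_singleton).mpr ⟨0, rfl⟩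
    have hIm : I ≤ m := by
      rw [hIdef, Ideal.span_le]
      rintro _ ⟨i, rfl⟩
      intro x hx
      rw [Set.mem_singleton_iff] at hx
      subst hx
      show (MvPolynomial.aeval (0 : (Fin n × Fin n) → k)).toRingHom (Mx.charpoly.coeff i) = 0
      rw [← Polynomial.coeff_map, ← Matrix.charpoly_map,
        show Mx.map (MvPolynomial.aeval (0 : (Fin n × Fin n) → k)).toRingHom = 0 by ext a b; simp [Mx],
        Matrix.charpoly_zero, coeff_X_pow, Fintype.card_fin, if_neg i.isLt.ne]
    have h1 := height_le_ringKrullDim_quotient_add_spanFinrank (p := m) hIm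
    rw [height_maximal (k := k) R m, MvPolynomial.ringKrullDim_of_isNoetherianRing,
      ringKrullDim_eq_zero_of_field, Nat.card_eq_fintype_card] at h1
    have h2 : I.spanFinrank ≤ n := by
      rw [hIdef]
      refine (Submodule.spanFinrank_span_le_ncard_of_finite (Set.finite_range _)).trans ?_
      rw [← Set.image_univ]
      exact (Set.ncard_image_le Set.finite_univ).trans (by simp)
    have h3 : ((n ^ 2 - n : ℕ) : WithBot ℕ∞) + (n : WithBot ℕ∞) ≤
        ringKrullDim (R ⧸ I) + (n : WithBot ℕ∞) := by
      refine le_trans (le_trans (le_of_eq ?_) h1) (add_le_add le_rfl (by exact_mod_cast h2))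
      rw [← Nat.cast_add, Nat.sub_add_cancel (by nlinarith)]
      simp [pow_two]
    exact ENat.WithBot.add_le_add_natCast_right_iff.mp h3

end Groth.Agent.S14377
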