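import Groth.Statements.S14378
import Groth.Agent.Lib.VarDim.Irred

set_option autoImplicit false
universe u
open CategoryTheory CategoryTheory.Limits AlgebraicGeometry
open Variety

namespace Groth.Agent.S14378

/-- Let k be an algebraically closed field, X and Y schemes of finite type over k with Y irreducible,
and f : X → Y a k-morphism such that for some natural number d the fibre of f over every closed
point of Y (the subspace of points mapping to it) is irreducible of dimension d. Then (i) exactly
one irreducible component of X has dense image in Y, and (ii) each irreducible component Z of X is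
made up of whole fibres — if Z meets the fibre over a closed point then it contains it — and dim Z =
d + dim f(Z)‾, the dimension of the closure of its image. (The published assertions are for
varieties, i.e. reduced separated schemes; this row assumes neither.) -/
theorem result (k : Type u) [Field k] [IsAlgClosed k]
    {X Y : Scheme.{u}} (qX : X ⟶ Spec (CommRingCat.of k)) (qY : Y ⟶ Spec (CommRingCat.of k))
    [LocallyOfFiniteType qX] [QuasiCompact qX] [LocallyOfFiniteType qY] [QuasiCompact qY]
    (f : X ⟶ Y) (hf : f ≫ qY = qX) [IrreducibleSpace ↥Y] (d : ℕ)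
    (hirr : ∀ y : ↥Y, IsClosed ({y} : Set ↥Y) → IsIrreducible (f.base ⁻¹' {y}))
    (hdim : ∀ y : ↥Y, IsClosed ({y} : Set ↥Y) → topologicalKrullDim ↥(f.base ⁻¹' {y}) = d) :
    (∃! Z : Set ↥X, Z ∈ irreducibleComponents ↥X ∧ Dense (f.base '' Z)) ∧
      ∀ Z ∈ irreducibleComponents ↥X,
        (∀ y : ↥Y, IsClosed ({y} : Set ↥Y) → (f.base ⁻¹' {y} ∩ Z).Nonempty → f.base ⁻¹' {y} ⊆ Z) ∧
        topologicalKrullDim ↥Z = d + topologicalKrullDim ↥(closure (f.base '' Z)) := by
  subst hf
  haveI : LocallyOfFiniteType f := locallyOfFiniteType_of_comp f qY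
  haveI := LocallyOfFiniteType.isLocallyNoetherian qY
  haveI : QuasiCompact f := QuasiCompact.of_comp f qY
  obtain ⟨g₀, hg₀η, hg₀max, huniq⟩ := Groth.Agent.VarDim.exists_unique_dominant qY f d hirr hdim
  have hη : ∀ g : X, Dense (f.base '' closure {g}) → f g = genericPoint Y := fun g hd => by
    have h1 : f.base '' closure {g} ⊆ closure {f g} := by
      rintro _ ⟨x, hx, rfl⟩
      exact specializes_iff_mem_closure.mp ((specializes_iff_mem_closure.mpr hx).map f.continuous)
    have h2 : genericPoint Y ∈ closure ({f g} : Set Y) := closure_minimal h1 isClosed_closure (hd _)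
    exact ((specializes_iff_mem_closure.mpr h2).antisymm (genericPoint_specializes _)).eq
  refine ⟨⟨closure {g₀}, ⟨(Groth.Agent.VarDim.maximal_iff_mem_irreducibleComponents g₀).mp hg₀max, ?_⟩, ?_⟩, ?_⟩
  · refine Dense.mono (Set.singleton_subset_iff.mpr ⟨g₀, subset_closure rfl, hg₀η⟩) ?_
    exact dense_iff_closure_eq.mpr (genericPoint_spec Y)
  · rintro Z ⟨hZ, hd⟩
    obtain ⟨g, rfl, hg⟩ := Groth.Agent.VarDim.exists_generic_of_mem_irreducibleComponents hZ
    rw [huniq g (hη g hd) hg]
  · intro Z hZ
    obtain ⟨g, rfl, hg⟩ := Groth.Agent.VarDim.exists_generic_of_mem_irreducibleComponents hZ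
    obtain ⟨h1, h2⟩ := Groth.Agent.VarDim.component_data qY f d hirr hdim g hg
    refine ⟨fun y hy ⟨x, hxy, hxg⟩ x' hx' => specializes_iff_mem_closure.mp
      (h2 y hy x hxy (specializes_iff_mem_closure.mpr hxg) x' hx'), ?_⟩
    rw [Groth.Agent.VarDim.dim_closure_singleton (f ≫ qY), closure_image_closure f.continuous,
      Set.image_singleton, Groth.Agent.VarDim.dim_closure_singleton qY, h1]
    push_cast
    rfl

end Groth.Agent.S14378
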