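import Groth.Statements.S14379
import Mathlib
import Groth.Agent.Lib.VarDim.Alg

set_option autoImplicit false
open scoped TensorProduct
universe u
open CAlg

namespace Groth.Agent.S14379
open CAlg

open TensorProduct

lemma digits_eq {m M : ℕ} (v w : Fin m → ℕ) (hv : ∀ i, v i < M) (hw : ∀ i, w i < M)
    (h : ∑ i, v i * M ^ (i : ℕ) = ∑ i, w i * M ^ (i : ℕ)) : v = w := by
  have : (fun i => (⟨v i, hv i⟩ : Fin M)) = fun i => ⟨w i, hw i⟩ := by
    refine finFunctionFinEquiv.injective (Fin.ext ?_)
    rw [finFunctionFinEquiv_apply, finFunctionFinEquiv_apply]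
    exact h
  funext i
  exact congr($(congrFun this i).val)

/-- A nonzero relation makes the last generator integral over the shifted ones, for large radix. -/
lemma exists_bound {K T : Type u} [Field K] [CommRing T] [Algebra K T] (N : ℕ) (hN : 1 ≤ N) {m : ℕ}
    (u : Fin (m + 1) → T) (f : MvPolynomial (Fin (m + 1)) K) (hf : f ≠ 0)
    (hfu : MvPolynomial.aeval u f = 0) :
    ∃ M0, ∀ M, M0 ≤ M → IsIntegral (Algebra.adjoin K (Set.range fun i : Fin m =>
      u i.castSucc - u (Fin.last m) ^ (N * M ^ ((i : ℕ) + 1)))) (u (Fin.last m)) := by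
  classical
  refine ⟨f.totalDegree + 2, fun M hM => ?_⟩
  set S := Algebra.adjoin K (Set.range fun i : Fin m =>
      u i.castSucc - u (Fin.last m) ^ (N * M ^ ((i : ℕ) + 1))) with hS
  rcases subsingleton_or_nontrivial T with hT | hT
  · exact ⟨1, Polynomial.monic_one, Subsingleton.elim _ _⟩
  have : Nontrivial S := by infer_instance
  let e : Fin m → ℕ := fun i => N * M ^ ((i : ℕ) + 1)
  let v : Fin m → S := fun i => ⟨u i.castSucc - u (Fin.last m) ^ e i,
    Algebra.subset_adjoin ⟨i, rfl⟩⟩
  let g : Fin (m + 1) → Polynomial S :=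
    Fin.lastCases Polynomial.X (fun i => Polynomial.C (v i) + Polynomial.X ^ e i)
  let d : Fin (m + 1) → ℕ := Fin.lastCases 1 e
  let D : (Fin (m + 1) →₀ ℕ) → ℕ := fun w => ∑ i, w i * d i
  have hM0 : 0 < M := by omega
  have he : ∀ i, 0 < e i := fun i => Nat.mul_pos hN (pow_pos hM0 _)
  have hg : ∀ i, (g i).Monic ∧ (g i).natDegree = d i := by
    intro i
    induction i using Fin.lastCases with
    | last => simp [g, d, Polynomial.monic_X]
    | cast i =>
      simp only [g, d, Fin.lastCases_castSucc]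
      rw [add_comm]
      exact ⟨Polynomial.monic_X_pow_add_C _ (he i).ne', Polynomial.natDegree_X_pow_add_C⟩
  have hmon : ∀ w : Fin (m + 1) →₀ ℕ,
      (∏ i, g i ^ w i).Monic ∧ (∏ i, g i ^ w i).natDegree = D w := by
    intro w
    refine ⟨Polynomial.monic_prod_of_monic _ _ fun i _ => (hg i).1.pow _, ?_⟩
    rw [Polynomial.natDegree_prod_of_monic _ _ fun i _ => (hg i).1.pow _]
    exact Finset.sum_congr rfl fun i _ => by rw [(hg i).1.natDegree_pow, (hg i).2]
  have hlt : ∀ w ∈ f.support, ∀ i, w i < M := fun w hw i => by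
    have h1 := MvPolynomial.monomial_le_degreeOf i hw
    have h2 := MvPolynomial.degreeOf_le_totalDegree f i
    omega
  have hD : ∀ w, D w = (∑ i : Fin m, w i.castSucc * M ^ (i : ℕ)) * N * M + w (Fin.last m) := by
    intro w
    simp only [D, Fin.sum_univ_castSucc, d, Fin.lastCases_castSucc, Fin.lastCases_last, mul_one, e]
    rw [Finset.sum_mul, Finset.sum_mul]
    congr 1
    exact Finset.sum_congr rfl fun i _ => by ring
  have hDinj : ∀ w ∈ f.support, ∀ w' ∈ f.support, D w = D w' → w = w' := by
    intro w hw w' hw' h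
    rw [hD, hD] at h
    have h1 := congrArg (· % M) h
    simp only [Nat.mul_add_mod', Nat.mod_eq_of_lt (hlt _ hw _), Nat.mod_eq_of_lt (hlt _ hw' _)] at h1
    rw [h1, Nat.add_right_cancel_iff] at h
    have h2 := Nat.eq_of_mul_eq_mul_right hM0 h
    have h3 := Nat.eq_of_mul_eq_mul_right (show 0 < N by omega) h2
    have h4 := digits_eq _ _ (fun i => hlt _ hw _) (fun i => hlt _ hw' _) h3
    ext i
    induction i using Fin.lastCases with
    | last => exact h1
    | cast i => exact congrFun h4 i
  obtain ⟨w₀, hw₀, hmax⟩ := f.support.exists_max_image D (MvPolynomial.support_nonempty.2 hf)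
  let P : Polynomial S := MvPolynomial.aeval g f
  have hP : P = ∑ w ∈ f.support, Polynomial.C (algebraMap K S (f.coeff w)) * ∏ i, g i ^ w i := by
    simp only [P, MvPolynomial.aeval_def, MvPolynomial.eval₂_eq']
    exact Finset.sum_congr rfl fun w _ => by rfl
  have hdeg : P.natDegree ≤ D w₀ := by
    rw [hP]
    refine Polynomial.natDegree_sum_le_of_forall_le _ _ fun w hw => ?_
    exact (Polynomial.natDegree_C_mul_le _ _).trans ((hmon w).2.le.trans (hmax w hw))
  have hcoeff : P.coeff (D w₀) = algebraMap K S (f.coeff w₀) := by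
    rw [hP, Polynomial.finsetSum_coeff, Finset.sum_eq_single w₀]
    · rw [Polynomial.coeff_C_mul, ← (hmon w₀).2, (hmon w₀).1.coeff_natDegree, mul_one]
    · intro w hw hne
      rw [Polynomial.coeff_C_mul, Polynomial.coeff_eq_zero_of_natDegree_lt, mul_zero]
      rw [(hmon w).2]
      exact lt_of_le_of_ne (hmax w hw) fun h => hne (hDinj _ hw _ hw₀ h)
    · exact fun h => (h hw₀).elim
  refine ⟨Polynomial.C (algebraMap K S (f.coeff w₀)⁻¹) * P,
    Polynomial.monic_of_natDegree_le_of_coeff_eq_one (D w₀)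
      ((Polynomial.natDegree_C_mul_le _ _).trans hdeg) ?_, ?_⟩
  · rw [Polynomial.coeff_C_mul, hcoeff, ← map_mul,
      inv_mul_cancel₀ (MvPolynomial.mem_support_iff.1 hw₀), map_one]
  · rw [Polynomial.eval₂_mul]
    suffices Polynomial.eval₂ (algebraMap S T) (u (Fin.last m)) P = 0 by rw [this, mul_zero]
    show Polynomial.aeval (u (Fin.last m)) P = 0
    let ψ : Polynomial S →ₐ[K] T := (Polynomial.aeval (u (Fin.last m))).restrictScalars K
    show ψ P = 0
    rw [MvPolynomial.comp_aeval_apply]
    rw [show (fun i => ψ (g i)) = u from funext fun i => ?_]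
    · exact hfu
    induction i using Fin.lastCases with
    | last => simp [ψ, g]
    | cast i =>
      simp only [ψ, g, Fin.lastCases_castSucc, AlgHom.restrictScalars_apply, map_add, map_pow,
        Polynomial.aeval_X, Polynomial.aeval_C]
      show (u i.castSucc - u (Fin.last m) ^ e i) + u (Fin.last m) ^ e i = u i.castSucc
      ring

lemma exists_relation {K T : Type u} [Field K] [CommRing T] [Algebra K T] {d m : ℕ}
    (hT : ringKrullDim T ≤ d) (hm : d ≤ m) (u : Fin (m + 1) → T)
    (hu : (MvPolynomial.aeval u : MvPolynomial (Fin (m + 1)) K →ₐ[K] T).toRingHom.IsIntegral) :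
    ∃ f, f ≠ 0 ∧ MvPolynomial.aeval (R := K) u f = 0 := by
  by_contra hcon
  push Not at hcon
  have hinj : Function.Injective (MvPolynomial.aeval (R := K) u) :=
    (injective_iff_map_eq_zero _).2 fun f hf => not_not.1 fun h => hcon f h hf
  let := (MvPolynomial.aeval (R := K) u).toRingHom.toAlgebra
  have : Algebra.IsIntegral (MvPolynomial (Fin (m + 1)) K) T := ⟨hu⟩
  have h := Groth.Agent.VarDim.ringKrullDim_eq_of_isIntegral
    (R := MvPolynomial (Fin (m + 1)) K) (S := T) hinj
  rw [Groth.Agent.VarDim.ringKrullDim_mvPolynomial] at h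
  rw [h] at hT
  have : m + 1 ≤ d := by exact_mod_cast hT
  omega

lemma isIntegral_iff_adjoin {K T : Type u} [Field K] [CommRing T] [Algebra K T] {m : ℕ}
    (u : Fin m → T) :
    (MvPolynomial.aeval u : MvPolynomial (Fin m) K →ₐ[K] T).toRingHom.IsIntegral ↔
      ∀ x : T, IsIntegral (Algebra.adjoin K (Set.range u)) x := by
  have hr := Algebra.adjoin_range_eq_range_aeval K u
  constructor
  · intro h x
    obtain ⟨p, hp, hp0⟩ := h x
    let φ : MvPolynomial (Fin m) K →ₐ[K] Algebra.adjoin K (Set.range u) :=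
      (MvPolynomial.aeval u).codRestrict _ fun y => hr.ge ⟨y, rfl⟩
    refine ⟨p.map φ.toRingHom, hp.map _, ?_⟩
    rw [Polynomial.eval₂_map]
    exact hp0
  · intro h x
    rcases subsingleton_or_nontrivial T with hT | hT
    · exact ⟨1, Polynomial.monic_one, Subsingleton.elim _ _⟩
    obtain ⟨p, hp, hp0⟩ := h x
    have : Nontrivial (Algebra.adjoin K (Set.range u)) := by infer_instance
    let φ : MvPolynomial (Fin m) K →+* Algebra.adjoin K (Set.range u) :=
      ((MvPolynomial.aeval u).codRestrict _ fun y => hr.ge ⟨y, rfl⟩).toRingHom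
    have hφ : Function.Surjective φ := fun y => by
      obtain ⟨z, hz⟩ := hr.le y.2
      exact ⟨z, Subtype.ext hz⟩
    obtain ⟨q, hq, -, hqm⟩ := Polynomial.lifts_and_degree_eq_and_monic
      ((Polynomial.mem_lifts _).2 (Polynomial.map_surjective φ hφ p)) hp
    refine ⟨q, hqm, ?_⟩
    rw [← hq, Polynomial.eval₂_map] at hp0
    exact hp0

lemma shift_integral {K T : Type u} [Field K] [CommRing T] [Algebra K T] {m : ℕ}
    (u : Fin (m + 1) → T) (e : Fin m → ℕ)
    (hu : (MvPolynomial.aeval u : MvPolynomial (Fin (m + 1)) K →ₐ[K] T).toRingHom.IsIntegral)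
    (hz : IsIntegral (Algebra.adjoin K (Set.range fun i : Fin m =>
      u i.castSucc - u (Fin.last m) ^ e i)) (u (Fin.last m))) :
    (MvPolynomial.aeval (fun i : Fin m => u i.castSucc - u (Fin.last m) ^ e i) :
      MvPolynomial (Fin m) K →ₐ[K] T).toRingHom.IsIntegral := by
  rw [isIntegral_iff_adjoin] at hu ⊢
  set S := Algebra.adjoin K (Set.range fun i : Fin m => u i.castSucc - u (Fin.last m) ^ e i) with hS
  set S' := Algebra.adjoin K (Set.range u)
  have hle : S' ≤ (integralClosure S T).restrictScalars K := by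
    refine Algebra.adjoin_le ?_
    rintro _ ⟨i, rfl⟩
    show IsIntegral S (u i)
    induction i using Fin.lastCases with
    | last => exact hz
    | cast i =>
      have h : IsIntegral S (u i.castSucc - u (Fin.last m) ^ e i) :=
        isIntegral_algebraMap (R := S) (A := T) (x := ⟨_, Algebra.subset_adjoin ⟨i, rfl⟩⟩)
      simpa using h.add (hz.pow (e i))
  intro x
  obtain ⟨p, hp, hp0⟩ := hu x
  let φ : S' →+* integralClosure S T :=
    { toFun := fun y => ⟨y.1, hle y.2⟩
      map_one' := rfl, map_mul' := fun _ _ => rfl, map_zero' := rfl, map_add' := fun _ _ => rfl }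
  have hx : IsIntegral (integralClosure S T) x := by
    refine ⟨p.map φ, hp.map _, ?_⟩
    rw [Polynomial.eval₂_map]
    exact hp0
  exact isIntegral_trans x hx

lemma main (V : Type u) [CommRing V] (R : Type u) [CommRing R] [Algebra V R]
    (K1 K2 : Type u) [Field K1] [Field K2] [Algebra V K1] [Algebra V K2]
    (d N : ℕ) (hN : 1 ≤ N) (h1 : ringKrullDim (K1 ⊗[V] R) ≤ d) (h2 : ringKrullDim (K2 ⊗[V] R) ≤ d)
    (x : Fin d → R) : ∀ (k : ℕ) (w : Fin (d + k) → R),
      (MvPolynomial.aeval (fun i => (1 : K1) ⊗ₜ[V] w i) :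
        MvPolynomial (Fin (d + k)) K1 →ₐ[K1] K1 ⊗[V] R).toRingHom.IsIntegral →
      (MvPolynomial.aeval (fun i => (1 : K2) ⊗ₜ[V] w i) :
        MvPolynomial (Fin (d + k)) K2 →ₐ[K2] K2 ⊗[V] R).toRingHom.IsIntegral →
      (∀ i : Fin d, w (Fin.castAdd k i) - x i ∈ Subring.closure (Set.range fun r : R => r ^ N)) →
      ∃ y : Fin d → R, (∀ i, y i ∈ Subring.closure (Set.range fun r : R => r ^ N)) ∧
        (MvPolynomial.aeval (fun i => (1 : K1) ⊗ₜ[V] (x i + y i)) :
          MvPolynomial (Fin d) K1 →ₐ[K1] K1 ⊗[V] R).toRingHom.IsIntegral ∧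
        (MvPolynomial.aeval (fun i => (1 : K2) ⊗ₜ[V] (x i + y i)) :
          MvPolynomial (Fin d) K2 →ₐ[K2] K2 ⊗[V] R).toRingHom.IsIntegral := by
  intro k
  induction k with
  | zero =>
    intro w i1 i2 hw
    refine ⟨fun i => w i - x i, fun i => hw i, ?_, ?_⟩
    · simpa using i1
    · simpa using i2
  | succ k ih =>
    intro w i1 i2 hw
    obtain ⟨f1, hf1, hf1u⟩ := exists_relation h1 (Nat.le_add_right d k) _ i1
    obtain ⟨f2, hf2, hf2u⟩ := exists_relation h2 (Nat.le_add_right d k) _ i2
    obtain ⟨M1, hM1⟩ := exists_bound N hN _ f1 hf1 hf1u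
    obtain ⟨M2, hM2⟩ := exists_bound N hN _ f2 hf2 hf2u
    let M := max M1 M2
    let e : Fin (d + k) → ℕ := fun i => N * M ^ ((i : ℕ) + 1)
    refine ih (fun i => w i.castSucc - w (Fin.last (d + k)) ^ e i) ?_ ?_ ?_
    · have := shift_integral _ e i1 (hM1 M (le_max_left _ _))
      simpa only [tmul_sub, Algebra.TensorProduct.tmul_pow, one_pow] using this
    · have := shift_integral _ e i2 (hM2 M (le_max_right _ _))
      simpa only [tmul_sub, Algebra.TensorProduct.tmul_pow, one_pow] using this
    · intro i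
      have h := hw i
      have hp : w (Fin.last (d + k)) ^ e (Fin.castAdd k i) ∈
          Subring.closure (Set.range fun r : R => r ^ N) :=
        Subring.subset_closure ⟨w (Fin.last (d + k)) ^ M ^ ((Fin.castAdd k i : ℕ) + 1), by
          simp only [e]; rw [← pow_mul, mul_comm]⟩
      have := sub_mem h hp
      rw [sub_right_comm] at this
      exact this

lemma top_integral (V : Type u) [CommRing V] (R : Type u) [CommRing R] [Algebra V R]
    (K : Type u) [Field K] [Algebra V K] {m : ℕ} (w : Fin m → R)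
    (hw : Algebra.adjoin V (Set.range w) = ⊤) :
    (MvPolynomial.aeval (fun i => (1 : K) ⊗ₜ[V] w i) :
        MvPolynomial (Fin m) K →ₐ[K] K ⊗[V] R).toRingHom.IsIntegral := by
  refine RingHom.isIntegral_of_surjective _ ?_
  show Function.Surjective (MvPolynomial.aeval (R := K) fun i => (1 : K) ⊗ₜ[V] w i)
  rw [← AlgHom.range_eq_top, ← Algebra.adjoin_range_eq_range_aeval]
  have h := Algebra.TensorProduct.adjoin_tmul_eq_top (R := V) (A := K) (B := R)
  rw [eq_top_iff]
  intro t _
  induction t using TensorProduct.induction_on with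
  | zero => exact zero_mem _
  | add a b ha hb => exact add_mem (ha trivial) (hb trivial)
  | tmul c r =>
    have : ∀ r ∈ Algebra.adjoin V (Set.range w), (1 : K) ⊗ₜ[V] r ∈
        Algebra.adjoin K (Set.range fun i => (1 : K) ⊗ₜ[V] w i) := by
      intro r hr
      induction hr using Algebra.adjoin_induction with
      | mem y hy =>
        obtain ⟨i, rfl⟩ := hy
        exact Algebra.subset_adjoin ⟨i, rfl⟩
      | algebraMap v =>
        rw [Algebra.algebraMap_eq_smul_one, ← smul_tmul]
        have : (v • (1 : K)) ⊗ₜ[V] (1 : R) = algebraMap K (K ⊗[V] R) (v • 1) := rfl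
        rw [this]
        exact Subalgebra.algebraMap_mem _ _
      | add a b _ _ ha hb => rw [tmul_add]; exact add_mem ha hb
      | mul a b _ _ ha hb =>
        rw [show (1 : K) ⊗ₜ[V] (a * b) = (1 ⊗ₜ[V] a) * (1 ⊗ₜ[V] b) by simp]
        exact mul_mem ha hb
    have h1 := this r (hw.ge trivial)
    rw [show c ⊗ₜ[V] r = algebraMap K (K ⊗[V] R) c * ((1 : K) ⊗ₜ[V] r) by
      simp [Algebra.TensorProduct.algebraMap_apply]]
    exact mul_mem (Subalgebra.algebraMap_mem _ _) h1

lemma toFinite {K T : Type u} [Field K] [CommRing T] [Algebra K T] [Algebra.FiniteType K T] {m : ℕ}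
    (φ : MvPolynomial (Fin m) K →ₐ[K] T) (h : φ.toRingHom.IsIntegral) :
    φ.toRingHom.Finite := by
  refine h.to_finite (RingHom.FiniteType.of_comp_finiteType
    (f := algebraMap K (MvPolynomial (Fin m) K)) ?_)
  rw [show φ.toRingHom.comp (algebraMap K (MvPolynomial (Fin m) K)) = algebraMap K T from
    φ.comp_algebraMap]
  exact RingHom.finiteType_algebraMap.2 inferInstance

/-- Let V be a discrete valuation ring with residue field k and fraction field K, let R be a flat
V-algebra of finite type such that both fibre rings k ⊗_V R and K ⊗_V R have Krull dimension at most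
d, let x_1, …, x_d be elements of R and let N ≥ 1 be an integer. Then there are elements y_1, …, y_d
of the subring of R generated by the N-th powers of elements of R such that, setting f_i = x_i +
y_i, the fibre ring k ⊗_V R is finite over the polynomial ring k[T_1, …, T_d] via T_i ↦ 1 ⊗ f_i and
K ⊗_V R is finite over K[T_1, …, T_d] via T_i ↦ 1 ⊗ f_i; in other words the morphism (f_1, …, f_d)
to affine d-space over V is finite on both fibres. -/
theorem result (V : Type u) [CommRing V] [IsDomain V]
    [IsDiscreteValuationRing V] (R : Type u) [CommRing R] [Algebra V R] [Module.Flat V R]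
    [Algebra.FiniteType V R] (d : ℕ)
    (hs : ringKrullDim (IsLocalRing.ResidueField V ⊗[V] R) ≤ d)
    (hη : ringKrullDim (FractionRing V ⊗[V] R) ≤ d)
    (x : Fin d → R) (N : ℕ) (hN : 1 ≤ N) :
    ∃ y : Fin d → R, (∀ i, y i ∈ Subring.closure (Set.range fun r : R => r ^ N)) ∧
      (MvPolynomial.aeval (fun i => (1 : IsLocalRing.ResidueField V) ⊗ₜ[V] (x i + y i)) :
          MvPolynomial (Fin d) (IsLocalRing.ResidueField V) →ₐ[IsLocalRing.ResidueField V]
            IsLocalRing.ResidueField V ⊗[V] R).toRingHom.Finite ∧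
      (MvPolynomial.aeval (fun i => (1 : FractionRing V) ⊗ₜ[V] (x i + y i)) :
          MvPolynomial (Fin d) (FractionRing V) →ₐ[FractionRing V] FractionRing V ⊗[V] R).toRingHom.Finite := by
  obtain ⟨r, φ, hφ⟩ := Algebra.FiniteType.iff_quotient_mvPolynomial''.mp ‹Algebra.FiniteType V R›
  let z : Fin r → R := fun i => φ (MvPolynomial.X i)
  have hz : Algebra.adjoin V (Set.range z) = ⊤ := by
    rw [Algebra.adjoin_range_eq_range_aeval, AlgHom.range_eq_top]
    rwa [show MvPolynomial.aeval z = φ from (MvPolynomial.aeval_unique φ).symm]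
  have hw : Algebra.adjoin V (Set.range (Fin.append x z)) = ⊤ := by
    refine eq_top_iff.2 (hz.ge.trans (Algebra.adjoin_mono ?_))
    rintro _ ⟨i, rfl⟩
    exact ⟨Fin.natAdd d i, Fin.append_right x z i⟩
  obtain ⟨y, hy, h1, h2⟩ := main V R (IsLocalRing.ResidueField V) (FractionRing V) d N hN hs hη x r
    (Fin.append x z) (top_integral V R _ _ hw) (top_integral V R _ _ hw)
    (fun i => by rw [Fin.append_left, sub_self]; exact zero_mem _)
  exact ⟨y, hy, toFinite _ h1, toFinite _ h2⟩

end Groth.Agent.S14379
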