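import Groth.Statements.S1438
import Mathlib

set_option autoImplicit false
universe u
open FlatMor

namespace Groth.Agent.S1438

open AlgebraicGeometry CategoryTheory Limits TopologicalSpace

open AlgebraicGeometry CategoryTheory Limits in
/-- A separated scheme with an open covering by n + 1 affine opens has affine stratification number at
most n: it admits an affine stratification with index set {0, …, n}. -/
theorem result (X : Scheme.{u}) [X.IsSeparated] (n : ℕ) (U : Fin (n + 1) → X.Opens)
    (hU : ∀ i, IsAffineOpen (U i)) (hcov : ⨆ i, U i = ⊤) :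
    MoreMor.HasAffineStratification X n := by
  classical
  have hne : ∀ x : X, (Finset.univ.filter fun i => x ∈ U i).Nonempty := fun x => by
    obtain ⟨i, hi⟩ := Opens.mem_iSup.1 (hcov.ge (Set.mem_univ x : x ∈ (⊤ : X.Opens)))
    exact ⟨i, Finset.mem_filter.2 ⟨Finset.mem_univ _, hi⟩⟩
  let s : X → Fin (n + 1) := fun x => (Finset.univ.filter fun i => x ∈ U i).max' (hne x)
  have hle : ∀ x i, s x ≤ i ↔ ∀ j, i < j → x ∉ U j := fun x i => by
    rw [Finset.max'_le_iff]
    exact ⟨fun h j hj hx => (h j (Finset.mem_filter.2 ⟨Finset.mem_univ _, hx⟩)).not_gt hj,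
      fun h j hj => not_lt.1 fun hl => h j hl (Finset.mem_filter.1 hj).2⟩
  have hcl : ∀ i, IsClosed {x : X | s x ≤ i} := fun i => by
    have : {x : X | s x ≤ i} = ⋂ (j) (_ : i < j), (U j : Set X)ᶜ := by
      ext x; simp [hle]
    rw [this]
    exact isClosed_iInter fun j => isClosed_iInter fun _ => (U j).2.isClosed_compl
  have hmem : ∀ x, x ∈ U (s x) := fun x => (Finset.mem_filter.1 (Finset.max'_mem _ (hne x))).2
  refine ⟨s, hcl, fun i => ?_⟩
  let T : Closeds (U i).toScheme := ⟨(U i).ι ⁻¹' {x : X | s x ≤ i}, (hcl i).preimage (U i).ι.continuous⟩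
  let I := Scheme.IdealSheafData.vanishingIdeal T
  have : IsAffine (U i).toScheme := hU i
  have : IsAffine I.subscheme := isAffine_of_isAffineHom I.subschemeι
  refine ⟨I.subscheme, I.subschemeι ≫ (U i).ι, inferInstance, inferInstance,
    IsAffineHom.of_comp _ (terminal.from X), ?_⟩
  ext x
  rw [Scheme.Hom.comp_base, TopCat.coe_comp, Set.range_comp, Scheme.IdealSheafData.range_subschemeι,
    Scheme.IdealSheafData.coe_support_vanishingIdeal]
  constructor
  · rintro ⟨y, hy, rfl⟩
    exact le_antisymm hy (Finset.le_max' (Finset.univ.filter fun j => (U i).ι y ∈ U j) i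
      (Finset.mem_filter.2 ⟨Finset.mem_univ _, y.2⟩))
  · intro hx
    exact ⟨⟨x, hx ▸ hmem x⟩, le_of_eq hx, rfl⟩

end Groth.Agent.S1438
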