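import Groth.Prelude.Def_Hensel
import Mathlib.RingTheory.DiscreteValuationRing.Basic
import Mathlib.RingTheory.TensorProduct.Basic
import Mathlib.RingTheory.FiniteType
import Mathlib.RingTheory.Localization.AtPrime.Basic
import Mathlib.FieldTheory.IsAlgClosed.Basic
import Mathlib.FieldTheory.Perfect
import Mathlib.RingTheory.Noetherian.Basic
import Mathlib.RingTheory.Algebraic.Defs
import Groth.Agent.Lib.MilnorFib6.Noeth
import Groth.Agent.Lib.Hens.Noetherian

set_option autoImplicit false
open scoped TensorProduct
universe u
open Hensel

namespace Groth.Agent.S14380

/-- Let V be a strictly henselian discrete valuation ring (henselian, with separably closed residue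
field k) such that k is perfect and V has characteristic zero, let L be an algebraically closed
field which is an algebraic extension of the fraction field of V (an algebraic closure of it, given
as a V-algebra into which V embeds), let A be a V-algebra of finite type and m a maximal ideal of A
with residue field k, meaning that the composite V → A → A/m is surjective, and let B be a
henselization of the local ring A_m. Then L ⊗_V B, the coordinate ring of the algebraic Milnor fibre
of Spec A over Spec V at the rational point m of the closed fibre, is a Noetherian ring. (The
published statement is for a scheme of finite type over a henselian discrete valuation ring and a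
rational point of its closed fibre, the Milnor fibre being formed with strict henselizations; this
row states the affine case over a strictly henselian V, to which that statement reduces.) -/
theorem result (V : Type u) [CommRing V] [IsDomain V]
    [IsDiscreteValuationRing V] [HenselianLocalRing V] [IsSepClosed (IsLocalRing.ResidueField V)]
    [PerfectField (IsLocalRing.ResidueField V)] [CharZero V]
    (L : Type u) [Field L] [IsAlgClosed L] [Algebra V L] [FaithfulSMul V L] [Algebra.IsAlgebraic V L]
    (A : Type u) [CommRing A] [Algebra V A] [Algebra.FiniteType V A]
    (m : Ideal A) [m.IsMaximal]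
    (hm : Function.Surjective ((Ideal.Quotient.mk m).comp (algebraMap V A)))
    (B : Type u) [CommRing B] [IsLocalRing B] [Algebra (Localization.AtPrime m) B]
    [IsLocalHom (algebraMap (Localization.AtPrime m) B)]
    [Hensel.IsHenselization (Localization.AtPrime m) B]
    [Algebra V B] [IsScalarTower V (Localization.AtPrime m) B] :
    IsNoetherianRing (L ⊗[V] B) := by
  haveI := Algebra.FiniteType.isNoetherianRing V A
  haveI : IsNoetherianRing (Localization.AtPrime m) := IsLocalization.isNoetherianRing m.primeCompl _ inferInstance
  haveI : IsNoetherianRing B := Groth.Agent.Hens.henselization_isNoetherianRing (Localization.AtPrime m) B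
  have hB : ∀ v ∈ IsLocalRing.maximalIdeal V, algebraMap V B v ∈ IsLocalRing.maximalIdeal B := fun v hv => by
    rw [IsScalarTower.algebraMap_apply V (Localization.AtPrime m) B, IsLocalRing.mem_maximalIdeal, mem_nonunits_iff]
    intro hu
    have h1 := isUnit_of_map_unit _ _ hu
    rw [IsScalarTower.algebraMap_apply V A (Localization.AtPrime m),
      IsLocalization.AtPrime.isUnit_to_map_iff (Localization.AtPrime m) m] at h1
    exact h1 (by
      by_contra hvm
      obtain ⟨c, hc⟩ := ((Ideal.Quotient.maximal_ideal_iff_isField_quotient m).1 inferInstance).mul_inv_cancel
        (a := Ideal.Quotient.mk m (algebraMap V A v)) (fun h => hvm (Ideal.Quotient.eq_zero_iff_mem.1 h))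
      obtain ⟨w, rfl⟩ := hm c
      have h2 : RingHom.ker ((Ideal.Quotient.mk m).comp (algebraMap V A)) ≤ IsLocalRing.maximalIdeal V :=
        IsLocalRing.le_maximalIdeal (RingHom.ker_ne_top _)
      have h3 : v * w - 1 ∈ IsLocalRing.maximalIdeal V := h2 (by
        rw [RingHom.mem_ker, map_sub, map_mul, map_one, RingHom.comp_apply, hc, sub_self])
      have h4 := sub_mem (Ideal.mul_mem_right w _ hv) h3
      rw [sub_sub_cancel] at h4
      exact (IsLocalRing.maximalIdeal.isMaximal V).ne_top ((Ideal.eq_top_iff_one _).2 h4))
  exact Groth.Agent.MilnorFib6.isNoetherianRing_tensor_algClosure V L B hB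

end Groth.Agent.S14380
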