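import Groth.Statements.S14382
import Groth.Agent.Lib.FieldH25.Transfer
import Groth.Agent.Lib.LocAcyc24.TorsionConst
import Groth.Agent.Lib.LocConst24.Iff
import Groth.Agent.Lib.LocConst24.PushFinEt

set_option autoImplicit false
set_option linter.style.haveILetI false
set_option backward.isDefEq.respectTransparency false
set_option backward.isDefEq.respectTransparency.types false
universe u
open CategoryTheory CategoryTheory.Limits AlgebraicGeometry Opposite CategoryTheory.Abelian

namespace Groth.Agent.S14382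

theorem finite_components {α β : Type*} [TopologicalSpace α] [TopologicalSpace β] (f : α → β) (hc : Continuous f)
    (ho : IsOpenMap f) (hcl : IsClosedMap f) (hfib : ∀ y, (f ⁻¹' {y}).Finite)
    [Finite (_root_.ConnectedComponents β)] : Finite (_root_.ConnectedComponents α) := by
  classical
  let rep : _root_.ConnectedComponents β → β := fun c => (ConnectedComponents.surjective_coe c).choose
  have hrep : ∀ c, (rep c : _root_.ConnectedComponents β) = c := fun c =>
    (ConnectedComponents.surjective_coe c).choose_spec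
  let P : Set α := ⋃ c, f ⁻¹' {rep c}
  have hP : P.Finite := Set.finite_iUnion fun c => hfib _
  have key : ∀ S : Set α, IsClopen S → S.Nonempty → (S ∩ P).Nonempty := by
    rintro S hS ⟨x, hx⟩
    have hI : IsClopen (f '' S) := ⟨hcl _ hS.isClosed, ho _ hS.isOpen⟩
    let c : _root_.ConnectedComponents β := (f x : _root_.ConnectedComponents β)
    have hmem : rep c ∈ f '' S := hI.connectedComponent_subset ⟨x, hx, rfl⟩
      (ConnectedComponents.coe_eq_coe'.1 (hrep c))
    obtain ⟨z, hz, hzc⟩ := hmem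
    exact ⟨z, hz, Set.mem_iUnion.2 ⟨c, hzc⟩⟩
  have inj : Function.Injective (fun S : {S : Set α // IsClopen S} => (Subtype.val ⁻¹' S.1 : Set P)) := by
    rintro ⟨S, hS⟩ ⟨T, hT⟩ h
    have hd : ∀ {A B : Set α}, IsClopen A → IsClopen B → (Subtype.val ⁻¹' A : Set P) ⊆ Subtype.val ⁻¹' B → A ⊆ B := by
      intro A B hA hB hAB a ha
      by_contra hb
      obtain ⟨z, ⟨hzA, hzB⟩, hzP⟩ := key _ (hA.diff hB) ⟨a, ha, hb⟩
      exact hzB (hAB (a := ⟨z, hzP⟩) hzA)
    exact Subtype.ext ((hd hS hT h.subset).antisymm (hd hT hS h.superset))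
  haveI : Finite P := hP.to_subtype
  haveI : Finite {S : Set α // IsClopen S} := Finite.of_injective _ inj
  let atom : α → {S : Set α // IsClopen S} := fun x =>
    ⟨⋂ S : {S : {S : Set α // IsClopen S} // x ∈ S.1}, S.1.1, isClopen_iInter_of_finite fun S => S.1.2⟩
  have hatom : ∀ x, x ∈ (atom x).1 := fun x => Set.mem_iInter.2 fun S => S.2
  have hconn : ∀ x, IsPreconnected (atom x).1 := fun x => by
    rw [isPreconnected_iff_preconnectedSpace, preconnectedSpace_iff_clopen]
    intro S hS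
    have hSc : IsClopen (Subtype.val '' S : Set α) :=
      ⟨((atom x).2.isClosed.isClosedEmbedding_subtypeVal.isClosed_iff_image_isClosed).1 hS.isClosed,
        ((atom x).2.isOpen.isOpenEmbedding_subtypeVal.isOpen_iff_image_isOpen).1 hS.isOpen⟩
    have hle : ∀ T : Set α, IsClopen T → x ∈ T → (atom x).1 ⊆ T := fun T hT hxT =>
      Set.iInter_subset _ (⟨⟨T, hT⟩, hxT⟩ : {S : {S : Set α // IsClopen S} // x ∈ S.1})
    by_cases hx : x ∈ (Subtype.val '' S : Set α)
    · refine Or.inr (Set.eq_univ_of_forall fun z => ?_)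
      obtain ⟨w, hw, hwz⟩ := hle _ hSc hx z.2
      exact Subtype.ext hwz ▸ hw
    · refine Or.inl (Set.eq_empty_of_forall_notMem fun z hz => ?_)
      exact hle _ hSc.compl hx z.2 ⟨z, hz, rfl⟩
  refine Finite.of_surjective (fun c : {S : {S : Set α // IsClopen S} // S.1.Nonempty} =>
    (c.2.some : _root_.ConnectedComponents α)) fun d => ?_
  obtain ⟨x, rfl⟩ := ConnectedComponents.surjective_coe d
  refine ⟨⟨atom x, x, hatom x⟩, ConnectedComponents.coe_eq_coe'.2 ?_⟩
  exact (hconn x).subset_connectedComponent (hatom x) (Set.Nonempty.some_mem _)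

theorem killedBy_pull {X Y : Scheme.{u}} (f : X ⟶ Y) {n : ℕ} {F : EtCoh.Ab Y} (h : EtCoh.KilledBy n F) :
    EtCoh.KilledBy n ((EtCoh.pull f).obj F) := by
  haveI : (EtCoh.pull f).Additive := inferInstance
  have h0 : n • 𝟙 F = 0 := by
    apply Sheaf.hom_ext
    apply NatTrans.ext
    funext U
    ext s
    exact h U.unop s
  have h1 : n • 𝟙 ((EtCoh.pull f).obj F) = 0 := by
    rw [← (EtCoh.pull f).map_id, ← Functor.map_nsmul, h0, Functor.map_zero]
  intro U s
  exact congr($(h1).hom.app (op U) s)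

/-- The statement. -/
theorem result (P : Set ℕ) {X Y : Scheme.{u}} (f : X ⟶ Y)
    [IsFinite f] [Etale f] [Surjective f] [CompactSpace ↥Y] [QuasiSeparatedSpace ↥Y]
    (hconn : Finite (_root_.ConnectedComponents ↥Y)) :
    (CompactSpace ↥X ∧ QuasiSeparatedSpace ↥X ∧ Finite (_root_.ConnectedComponents ↥X)) ∧
    ((∀ (F : EtCoh.Ab Y), EtCoh.IsFiniteLocallyConstant F →
        (∃ n : ℕ, 0 < n ∧ (∀ p : ℕ, p.Prime → p ∣ n → p ∈ P) ∧ EtCoh.KilledBy n F) →
        ∀ q : ℕ, 0 < q → ∀ ζ : EtCoh.H Y F q,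
          ∃ (Y' : Scheme.{u}) (g : Y' ⟶ Y), IsFinite g ∧ Etale g ∧ Surjective g ∧
            ∀ [PreservesFiniteLimits (EtCoh.pull g)], EtCore.Hpull g F q ζ = 0) ↔
     (∀ (F : EtCoh.Ab X), EtCoh.IsFiniteLocallyConstant F →
        (∃ n : ℕ, 0 < n ∧ (∀ p : ℕ, p.Prime → p ∣ n → p ∈ P) ∧ EtCoh.KilledBy n F) →
        ∀ q : ℕ, 0 < q → ∀ ζ : EtCoh.H X F q,
          ∃ (X' : Scheme.{u}) (g : X' ⟶ X), IsFinite g ∧ Etale g ∧ Surjective g ∧
            ∀ [PreservesFiniteLimits (EtCoh.pull g)], EtCore.Hpull g F q ζ = 0)) := by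
  haveI : PreservesFiniteLimits (EtCoh.pull f) := EtStalk.preservesFiniteLimits_pull f
  refine ⟨⟨QuasiCompact.compactSpace_of_compactSpace f, quasiSeparatedSpace_of_quasiSeparated f,
    finite_components f.base f.continuous f.isOpenMap f.isClosedMap fun y => f.finite_preimage_singleton y⟩,
    fun H F hF hn q hq ζ => ?_, fun H F hF hn q hq ζ => ?_⟩
  · obtain ⟨η, rfl⟩ := (FieldH25.bijective_HofPush_integral f F q).2 ζ
    obtain ⟨n, hn0, hnP, hK⟩ := hn
    obtain ⟨Y', g, hg1, hg2, hg3, hg⟩ := H ((EtCoh.push f).obj F) (LocConst24.flc_push f hF)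
      ⟨n, hn0, hnP, fun U s => hK ((EtCoh.bc f).obj U) s⟩ q hq η
    haveI := hg1; haveI := hg2; haveI := hg3
    haveI : PreservesFiniteLimits (EtCoh.pull g) := EtStalk.preservesFiniteLimits_pull g
    refine ⟨pullback f g, pullback.fst f g, inferInstance, inferInstance, inferInstance, fun {_} => ?_⟩
    show EtCore.Hpull (pullback.fst f g) F q
      ((EtCore.Hpull f ((EtCoh.push f).obj F) q η).comp (Ext.mk₀ ((EtCoh.pullPushAdj f).counit.app F)) (add_zero q)) = 0
    haveI : PreservesFiniteLimits (EtCoh.pull (pullback.snd f g)) := EtStalk.preservesFiniteLimits_pull _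
    refine (LocAcyc24.Hpull_nat (pullback.fst f g) ((EtCoh.pullPushAdj f).counit.app F) q _).symm.trans ?_
    exact (congrArg (fun z => Ext.comp z (Ext.mk₀ ((EtCoh.pull (pullback.fst f g)).map
      ((EtCoh.pullPushAdj f).counit.app F))) (add_zero q))
      (FieldH25.Hpull_Hpull_eq_zero_iff (pullback.snd f g) g (pullback.fst f g) f pullback.condition.symm _ q η hg)).trans
      (Ext.zero_comp _ _ _ _ _)
  · obtain ⟨n, hn0, hnP, hK⟩ := hn
    obtain ⟨X', g, hg1, hg2, hg3, hg⟩ := H ((EtCoh.pull f).obj F) (LocConst24.flc_pull f hF)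
      ⟨n, hn0, hnP, killedBy_pull f hK⟩ q hq (EtCore.Hpull f F q ζ)
    haveI := hg1; haveI := hg2; haveI := hg3
    haveI : PreservesFiniteLimits (EtCoh.pull g) := EtStalk.preservesFiniteLimits_pull g
    refine ⟨X', g ≫ f, inferInstance, inferInstance, inferInstance, fun {_} => ?_⟩
    rw [← FieldH25.Hpull_comp, hg, Ext.zero_comp]

end Groth.Agent.S14382
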