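import Groth.Statements.S14383
import Mathlib

set_option autoImplicit false
open scoped TensorProduct
open AlgebraicGeometry
universe u
open CAlg

namespace Groth.Agent.S14383
open CAlg AlgebraicGeometry

open TensorProduct KaehlerDifferential

/-- The rank of the differentials of a smooth algebra of relative dimension `d` over a field. -/
lemma rank_of_locally {V K B : Type u} [CommRing V] [Field K] [CommRing B] [Algebra V K]
    [Algebra.FormallyUnramified V K] [Algebra K B] [Algebra V B] [IsScalarTower V K B]
    [Algebra.Smooth K B] (d : ℕ)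
    (h : RingHom.Locally (RingHom.IsStandardSmoothOfRelativeDimension d) (algebraMap K B))
    (P : PrimeSpectrum B) : Module.rankAtStalk (R := B) (Ω[B⁄V]) P = d := by
  obtain ⟨s, hs, hstd⟩ := h
  have hbij : Function.Bijective (KaehlerDifferential.map V K B B) := by
    refine ⟨?_, KaehlerDifferential.map_surjective V K B⟩
    rw [injective_iff_map_eq_zero]
    intro x hx
    obtain ⟨y, rfl⟩ := (KaehlerDifferential.exact_mapBaseChange_map V K B x).1 hx
    rw [Subsingleton.elim y 0, map_zero]
  rw [Module.rankAtStalk_eq_of_equiv (LinearEquiv.ofBijective _ hbij)]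
  obtain ⟨g, hg, hgP⟩ : ∃ g : B, g ∈ s ∧ g ∉ P.asIdeal := by
    by_contra! hall
    exact P.2.ne_top (eq_top_iff.2 (hs.ge.trans (Ideal.span_le.2 hall)))
  have : Algebra.IsStandardSmoothOfRelativeDimension d K (Localization.Away g) := by
    have := hstd g hg
    rw [← IsScalarTower.algebraMap_eq] at this
    exact (RingHom.isStandardSmoothOfRelativeDimension_algebraMap d).mp this
  have : Algebra.IsStandardSmooth K (Localization.Away g) :=
    Algebra.IsStandardSmoothOfRelativeDimension.isStandardSmooth d
  obtain ⟨Q, hQ⟩ : P ∈ Set.range (PrimeSpectrum.comap (algebraMap B (Localization.Away g))) := by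
    rw [PrimeSpectrum.localization_away_comap_range (Localization.Away g) g]
    exact hgP
  have : Algebra.FormallyEtale B (Localization.Away g) :=
    Algebra.FormallyEtale.of_isLocalization (Submonoid.powers g)
  rw [← hQ, ← Module.rankAtStalk_isBaseChange
    (KaehlerDifferential.isBaseChange_of_formallyEtale K B (Localization.Away g)),
    Module.rankAtStalk_eq_finrank_of_free]
  have : Nontrivial (Localization.Away g) :=
    PrimeSpectrum.nonempty_iff_nontrivial.1 ⟨Q⟩
  show Module.finrank (Localization.Away g) (Ω[Localization.Away g⁄K]) = d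
  rw [Module.finrank, Algebra.IsStandardSmoothOfRelativeDimension.rank_kaehlerDifferential d,
    Cardinal.toNat_natCast]

/-- An unramified map between smooth algebras of the same rank is étale. -/
lemma etale_of_rank {V B C : Type u} [CommRing V] [CommRing B] [CommRing C] [Algebra V B]
    [Algebra V C] [Algebra B C] [IsScalarTower V B C] [Algebra.Smooth V B] [Algebra.Smooth V C]
    [Subsingleton (Ω[C⁄B])] (d : ℕ)
    (hB : ∀ P, Module.rankAtStalk (R := B) (Ω[B⁄V]) P = d)
    (hC : ∀ P, Module.rankAtStalk (R := C) (Ω[C⁄V]) P = d) : Algebra.Etale B C := by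
  let f := mapBaseChange V B C
  have hsurj : Function.Surjective f := fun x => by
    have : KaehlerDifferential.map V B C C x = 0 := Subsingleton.elim _ _
    exact (KaehlerDifferential.exact_mapBaseChange_map V B C x).1 this
  have hinj : Function.Injective f := by
    obtain ⟨σ, hσ⟩ := Module.projective_lifting_property f LinearMap.id hsurj
    have hσ' : ∀ y, f (σ y) = y := fun y => LinearMap.congr_fun hσ y
    let π : (C ⊗[B] Ω[B⁄V]) →ₗ[C] LinearMap.ker f :=
      (LinearMap.id - σ.comp f).codRestrict _ fun m => by simp [hσ']
    let e : (C ⊗[B] Ω[B⁄V]) ≃ₗ[C] (LinearMap.ker f) × (Ω[C⁄V]) :=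
      { toLinearMap := π.prod f
        invFun := fun p => (p.1 : C ⊗[B] Ω[B⁄V]) + σ p.2
        left_inv := fun m => by simp [π]
        right_inv := fun p => by
          have hp : f (p.1 : C ⊗[B] Ω[B⁄V]) = 0 := p.1.2
          ext
          · simp [π, hp, hσ']
          · simp [hp, hσ'] }
    have hπ : Function.Surjective π := fun k => ⟨(k : C ⊗[B] Ω[B⁄V]), by
      ext; simp [π, show f (k : C ⊗[B] Ω[B⁄V]) = 0 from k.2]⟩
    have : Module.Finite C (LinearMap.ker f) := .of_surjective π hπ
    have : Module.Projective C (LinearMap.ker f) :=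
      Module.Projective.of_split (LinearMap.ker f).subtype π (by
        ext k; simp [π, show f (k : C ⊗[B] Ω[B⁄V]) = 0 from k.2])
    have h0 : Module.rankAtStalk (R := C) (LinearMap.ker f) = 0 := by
      funext P
      have h1 : Module.rankAtStalk (R := C) (C ⊗[B] Ω[B⁄V]) P =
          Module.rankAtStalk (R := C) ((LinearMap.ker f) × (Ω[C⁄V])) P := by
        let e' : (C ⊗[B] Ω[B⁄V]) ≃ₗ[C] (LinearMap.ker f) × (Ω[C⁄V]) :=
          { toFun := e.toFun, invFun := e.invFun, left_inv := e.left_inv, right_inv := e.right_inv,
            map_add' := e.map_add', map_smul' := e.map_smul' }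
        exact congrFun (Module.rankAtStalk_eq_of_equiv e') P
      rw [Module.rankAtStalk_baseChange, hB, Module.rankAtStalk_prod, Pi.add_apply, hC] at h1
      simpa using h1
    rw [Module.rankAtStalk_eq_zero_iff_subsingleton] at h0
    rw [← LinearMap.ker_eq_bot]
    exact Submodule.subsingleton_iff_eq_bot.1 h0
  have h2 : Subsingleton (Algebra.H1Cotangent B C) := by
    refine ⟨fun a c => ?_⟩
    have hz : ∀ w : Algebra.H1Cotangent B C, w = 0 := fun w => by
      have hw : Algebra.H1Cotangent.δ V B C w = 0 := by
        apply hinj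
        rw [map_zero]
        exact (Algebra.H1Cotangent.exact_δ_mapBaseChange V B C).apply_apply_eq_zero w
      obtain ⟨v, rfl⟩ := (Algebra.H1Cotangent.exact_map_δ V B C w).1 hw
      rw [Subsingleton.elim v 0, map_zero]
    rw [hz a, hz c]
  have : Algebra.FormallyEtale B C := ⟨inferInstance, h2⟩
  have : Algebra.FinitePresentation B C :=
    Algebra.FinitePresentation.of_restrict_scalars_finitePresentation (R := V) B C
  exact ⟨inferInstance, inferInstance⟩

lemma isLocalization_fractionRing (V : Type u) [CommRing V] [IsDomain V] [IsDiscreteValuationRing V]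
    (ϖ : V) (hϖ : Irreducible ϖ) : IsLocalization.Away ϖ (FractionRing V) := by
  have : IsLocalization (nonZeroDivisors V) (Localization.Away ϖ) := by
    refine IsLocalization.of_le (Submonoid.powers ϖ) _
      (powers_le_nonZeroDivisors_of_noZeroDivisors hϖ.ne_zero) fun r hr => ?_
    obtain ⟨n, u, rfl⟩ := IsDiscreteValuationRing.eq_unit_mul_pow_irreducible
      (nonZeroDivisors.ne_zero hr) hϖ
    rw [map_mul, map_pow]
    exact (u.isUnit.map _).mul ((IsLocalization.Away.algebraMap_isUnit ϖ).pow _)
  exact IsLocalization.isLocalization_of_algEquiv _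
    (IsLocalization.algEquiv (nonZeroDivisors V) (Localization.Away ϖ) (FractionRing V))

lemma forward {A R : Type u} [CommRing A] [CommRing R] [Algebra A R] [Algebra.FiniteType A R]
    (π c : R) (p : ℕ) (hp : (p : R) = π * c) (a : R) (hcop : IsCoprime a π)
    [Algebra.FormallyUnramified A (Localization.Away (a * π))] :
    ∃ n : ℕ, Ideal.span {((p : R)) ^ n} • (⊤ : Submodule R (Ω[R⁄A])) ≤
        Ideal.span {π * (p : R) ^ n} • (⊤ : Submodule R (Ω[R⁄A])) := by
  classical
  obtain ⟨t, ht⟩ := Module.finite_def.1 (inferInstance : Module.Finite R (Ω[R⁄A]))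
  have hg : ∀ g : Ω[R⁄A], ∃ m : ℕ, (a * π) ^ m • g = 0 := fun g => by
    obtain ⟨⟨_, m, rfl⟩, hm⟩ := (IsLocalizedModule.eq_zero_iff (Submonoid.powers (a * π))
      (KaehlerDifferential.map A A R (Localization.Away (a * π)))).1
      (Subsingleton.elim (KaehlerDifferential.map A A R (Localization.Away (a * π)) g) 0)
    exact ⟨m, hm⟩
  choose m hm using hg
  let N := t.sup m
  have hN : ∀ ω : Ω[R⁄A], (a * π) ^ N • ω = 0 := by
    intro ω
    have hω : ω ∈ Submodule.span R (t : Set (Ω[R⁄A])) := ht.ge trivial
    induction hω using Submodule.span_induction with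
    | mem g hg =>
      obtain ⟨k, hk⟩ := Nat.exists_eq_add_of_le (Finset.le_sup (f := m) hg)
      show (a * π) ^ (t.sup m) • g = 0
      rw [hk, pow_add, mul_comm, mul_smul, hm, smul_zero]
    | zero => simp
    | add x y _ _ hx hy => rw [smul_add, hx, hy, add_zero]
    | smul r x _ hx => rw [smul_comm, hx, smul_zero]
  obtain ⟨u, v, huv⟩ := (hcop.pow_left (m := N))
  refine ⟨N, Submodule.smul_le.2 fun x hx ω _ => ?_⟩
  obtain ⟨z, rfl⟩ := Ideal.mem_span_singleton'.1 hx
  have h0 : ((p : R) ^ N * a ^ N) • ω = 0 := by
    rw [hp, mul_pow, mul_right_comm, ← mul_pow, mul_comm π a, mul_comm ((a * π) ^ N), mul_smul,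
      hN, smul_zero]
  have : (z * (p : R) ^ N) • ω = (π * (p : R) ^ N) • ((z * v) • ω) := by
    calc (z * (p : R) ^ N) • ω = ((z * u) * ((p : R) ^ N * a ^ N) + π * (p : R) ^ N * (z * v)) • ω := by
          congr 1; linear_combination (-(z * (p : R) ^ N)) * huv
      _ = _ := by rw [add_smul, mul_smul (z * u), h0, smul_zero, zero_add, mul_smul]
  rw [this]
  exact Submodule.smul_mem_smul (Ideal.mem_span_singleton_self _) trivial

lemma exists_r {A R : Type u} [CommRing A] [CommRing R] [Algebra A R] [Algebra.FiniteType A R]
    (π : R) (p n : ℕ) (h : Ideal.span {((p : R)) ^ n} • (⊤ : Submodule R (Ω[R⁄A])) ≤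
        Ideal.span {π * (p : R) ^ n} • (⊤ : Submodule R (Ω[R⁄A]))) :
    ∃ r : R, IsCoprime r π ∧ ∀ ω : Ω[R⁄A], (r * (p : R) ^ n) • ω = 0 := by
  have hfg : (Ideal.span {((p : R)) ^ n} • (⊤ : Submodule R (Ω[R⁄A]))).FG :=
    Submodule.FG.smul ⟨{((p : R)) ^ n}, by simp⟩ Module.Finite.fg_top
  have hle : Ideal.span {((p : R)) ^ n} • (⊤ : Submodule R (Ω[R⁄A])) ≤
      Ideal.span {π} • (Ideal.span {((p : R)) ^ n} • (⊤ : Submodule R (Ω[R⁄A]))) := by
    rw [← Submodule.smul_assoc, smul_eq_mul, Ideal.span_singleton_mul_span_singleton]
    exact h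
  obtain ⟨r, hr, hr0⟩ :=
    Submodule.exists_sub_one_mem_and_smul_eq_zero_of_fg_of_le_smul _ _ hfg hle
  obtain ⟨w, hw⟩ := Ideal.mem_span_singleton'.1 hr
  refine ⟨r, ⟨1, -w, by linear_combination -hw⟩, fun ω => ?_⟩
  rw [mul_smul]
  exact hr0 _ (Submodule.smul_mem_smul (Ideal.mem_span_singleton_self _) trivial)

/-- Let V be a discrete valuation ring of characteristic zero with uniformizer ϖ, whose residue field k
is perfect of characteristic p > 0, and let A → R be a homomorphism of V-algebras of finite type,
viewed as a morphism f : Spec R → Spec A of schemes of finite type over Spec V. Say f is η-étale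
when there is an open neighbourhood of the closed fibre of Spec R on whose generic fibre f is étale;
for affine Spec R this means: some a ∈ R with (a) + (ϖ) = R has R[1/(aϖ)] étale over A. First: if f
is η-étale then for some n ≥ 0 the submodule p^n Ω_{R/A} of the module of differentials is contained
in ϖ p^n Ω_{R/A} (that is, p^n Ω_{R/A} vanishes along the closed fibre). Conversely: if the generic
fibres Spec(K ⊗_V A) and Spec(K ⊗_V R) are both smooth over K of the same relative dimension d, K
the fraction field of V, then such an n forces f to be η-étale. (The published statement is for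
arbitrary schemes X → Y of finite type over V and also lists an intermediate equivalent condition,
that the restriction of p^n Ω_{X/Y} to the closed fibre as an abelian sheaf vanishes for some n;
this row is the case of affine schemes and states the other two conditions.) -/
theorem result (V : Type u) [CommRing V] [IsDomain V] [IsDiscreteValuationRing V] [CharZero V]
    (ϖ : V) (hϖ : Irreducible ϖ) (p : ℕ) [Fact p.Prime] [CharP (IsLocalRing.ResidueField V) p]
    [PerfectField (IsLocalRing.ResidueField V)]
    (A : Type u) [CommRing A] [Algebra V A] [Algebra.FiniteType V A]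
    (R : Type u) [CommRing R] [Algebra V R] [Algebra.FiniteType V R] [Algebra A R] [IsScalarTower V A R] :
    ((∃ a : R, Ideal.span {a} ⊔ Ideal.span {algebraMap V R ϖ} = ⊤ ∧
        ((algebraMap R (Localization.Away (a * algebraMap V R ϖ))).comp (algebraMap A R)).Etale) →
      ∃ n : ℕ, Ideal.span {((p : R)) ^ n} • (⊤ : Submodule R (Ω[R⁄A])) ≤
        Ideal.span {algebraMap V R ϖ * (p : R) ^ n} • (⊤ : Submodule R (Ω[R⁄A]))) ∧
    (∀ d : ℕ, SmoothOfRelativeDimension d
        (Spec.map (CommRingCat.ofHom (algebraMap (FractionRing V) (FractionRing V ⊗[V] A)))) →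
      SmoothOfRelativeDimension d
        (Spec.map (CommRingCat.ofHom (algebraMap (FractionRing V) (FractionRing V ⊗[V] R)))) →
      (∃ n : ℕ, Ideal.span {((p : R)) ^ n} • (⊤ : Submodule R (Ω[R⁄A])) ≤
        Ideal.span {algebraMap V R ϖ * (p : R) ^ n} • (⊤ : Submodule R (Ω[R⁄A]))) →
      ∃ a : R, Ideal.span {a} ⊔ Ideal.span {algebraMap V R ϖ} = ⊤ ∧
        ((algebraMap R (Localization.Away (a * algebraMap V R ϖ))).comp (algebraMap A R)).Etale) := by
  classical
  have : Algebra.FiniteType A R := Algebra.FiniteType.of_restrictScalars_finiteType V A R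
  obtain ⟨c, hc⟩ : ∃ c : V, (p : V) = ϖ * c := by
    have : (p : V) ∈ IsLocalRing.maximalIdeal V := by
      rw [← IsLocalRing.ker_residue, RingHom.mem_ker, map_natCast]
      exact CharP.cast_eq_zero _ p
    rw [hϖ.maximalIdeal_eq] at this
    exact Ideal.mem_span_singleton.1 this
  set π : R := algebraMap V R ϖ
  refine ⟨?_, ?_⟩
  · rintro ⟨a, ha, het⟩
    have : Algebra.Etale A (Localization.Away (a * π)) := by
      rw [← RingHom.etale_algebraMap, IsScalarTower.algebraMap_eq A R (Localization.Away (a * π))]
      exact het
    refine forward π (algebraMap V R c) p (by rw [← map_natCast (algebraMap V R), hc, map_mul]) a ?_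
    rw [← Ideal.isCoprime_span_singleton_iff, Ideal.isCoprime_iff_sup_eq]
    exact ha
  · rintro d hA hR ⟨n, hn⟩
    obtain ⟨r, hcop, hr⟩ := exists_r π p n hn
    refine ⟨r, by rw [← Ideal.isCoprime_iff_sup_eq, Ideal.isCoprime_span_singleton_iff]; exact hcop, ?_⟩
    let K := FractionRing V
    have hK := isLocalization_fractionRing V ϖ hϖ
    have : Algebra.Etale V K := Algebra.Etale.of_isLocalizationAway ϖ
    let B := K ⊗[V] A
    let C := K ⊗[V] R
    let rA : Algebra A B := Algebra.TensorProduct.rightAlgebra
    let rR : Algebra R C := Algebra.TensorProduct.rightAlgebra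
    have : IsScalarTower V A B := IsScalarTower.of_algebraMap_eq fun v =>
      (((Algebra.TensorProduct.includeRight : A →ₐ[V] B)).commutes v).symm
    have : IsScalarTower V R C := IsScalarTower.of_algebraMap_eq fun v =>
      (((Algebra.TensorProduct.includeRight : R →ₐ[V] C)).commutes v).symm
    have hBloc : IsLocalization.Away (algebraMap V A ϖ) B := IsLocalization.Away.tensorRight ..
    have hCloc : IsLocalization.Away π C := IsLocalization.Away.tensorRight ..
    let C' := Localization.Away (algebraMap R C r)
    have hC'loc : IsLocalization.Away (r * π) C' := IsLocalization.Away.mul C C' π r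
    have hBstd := (HasRingHomProperty.Spec_iff (P := @SmoothOfRelativeDimension d)).mp hA
    have hCstd := (HasRingHomProperty.Spec_iff (P := @SmoothOfRelativeDimension d)).mp hR
    have : Algebra.Smooth K B := by
      rw [← RingHom.smooth_algebraMap]
      exact (HasRingHomProperty.Spec_iff (P := @Smooth)).mp
        (@SmoothOfRelativeDimension.smooth d _ _ (Spec.map (CommRingCat.ofHom (algebraMap K B))) hA)
    have : Algebra.Smooth K C := by
      rw [← RingHom.smooth_algebraMap]
      exact (HasRingHomProperty.Spec_iff (P := @Smooth)).mp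
        (@SmoothOfRelativeDimension.smooth d _ _ (Spec.map (CommRingCat.ofHom (algebraMap K C))) hR)
    have : Algebra.Smooth V K := ⟨inferInstance, inferInstance⟩
    have hsB : Algebra.Smooth V B := Algebra.Smooth.comp V K B
    have hsC : Algebra.Smooth V C := Algebra.Smooth.comp V K C
    have : Algebra.Smooth C C' := ⟨Algebra.FormallySmooth.of_isLocalization (Submonoid.powers (algebraMap R C r)),
      IsLocalization.Away.finitePresentation (algebraMap R C r)⟩
    have : Algebra.Smooth V C' := Algebra.Smooth.comp V C C'
    let φ : B →ₐ[V] C := Algebra.TensorProduct.map (AlgHom.id V K) (IsScalarTower.toAlgHom V A R)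
    let aBC : Algebra B C' := ((algebraMap C C').comp φ.toRingHom).toAlgebra
    have : IsScalarTower V B C' := IsScalarTower.of_algebraMap_eq (R := V) (S := B) (A := C') fun v => by
      show algebraMap V C' v = algebraMap C C' (φ (algebraMap V B v))
      rw [AlgHom.commutes, ← IsScalarTower.algebraMap_apply]
    have hABC : (algebraMap B C').comp (algebraMap A B) =
        (algebraMap R C').comp (algebraMap A R) := by
      refine RingHom.ext fun x => ?_
      show algebraMap C C' (φ ((1 : K) ⊗ₜ[V] x)) = _
      rw [show φ ((1 : K) ⊗ₜ[V] x) = algebraMap R C (algebraMap A R x) from rfl,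
        ← IsScalarTower.algebraMap_apply]
      rfl
    let aAC : Algebra A C' := ((algebraMap R C').comp (algebraMap A R)).toAlgebra
    have : IsScalarTower A R C' := IsScalarTower.of_algebraMap_eq fun x => rfl
    have : IsScalarTower A B C' := IsScalarTower.of_algebraMap_eq fun x => (congrFun (congrArg DFunLike.coe hABC) x).symm
    have hp0 : IsUnit (algebraMap R C' (r * (p : R) ^ n)) := by
      rw [map_mul, map_pow]
      refine IsUnit.mul ?_ (IsUnit.pow n ?_)
      · exact isUnit_of_mul_isUnit_left (y := algebraMap R C' π) (by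
          rw [← map_mul]; exact IsLocalization.Away.algebraMap_isUnit (r * π))
      · rw [← map_natCast (algebraMap V R), ← IsScalarTower.algebraMap_apply,
          IsScalarTower.algebraMap_apply V K C']
        exact (IsUnit.mk0 _ ((map_ne_zero_iff _ (IsFractionRing.injective V K)).2
          (Nat.cast_ne_zero.2 (Fact.out : p.Prime).ne_zero))).map _
    have hΩ : Subsingleton (Ω[C'⁄A]) := by
      have hz : ∀ x : Ω[C'⁄A], x = 0 := by
        intro x
        have hx : x ∈ Submodule.span C' (Set.range <| KaehlerDifferential.map A A R C' ∘ D A R) := by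
          rw [KaehlerDifferential.span_range_map_derivation_of_isLocalization A R C'
            (Submonoid.powers (r * π))]
          trivial
        induction hx using Submodule.span_induction with
        | mem y hy =>
          obtain ⟨z, rfl⟩ := hy
          have h1 := congrArg (KaehlerDifferential.map A A R C') (hr (D A R z))
          rw [map_smul, map_zero, ← algebraMap_smul C', hp0.smul_eq_zero] at h1
          exact h1
        | zero => rfl
        | add a b _ _ ha hb => rw [ha, hb, add_zero]
        | smul c a _ ha => rw [ha, smul_zero]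
      exact ⟨fun a b => by rw [hz a, hz b]⟩
    have : Algebra.FormallyUnramified A C' := ⟨hΩ⟩
    have : Algebra.FormallyUnramified B C' := Algebra.FormallyUnramified.of_restrictScalars A B C'
    have : Algebra.Etale B C' := etale_of_rank (V := V) d
      (fun P => rank_of_locally (K := K) d hBstd P)
      (fun P => by
        have : Algebra.FormallyEtale C C' :=
          Algebra.FormallyEtale.of_isLocalization (Submonoid.powers (algebraMap R C r))
        rw [Module.rankAtStalk_isBaseChange
          (KaehlerDifferential.isBaseChange_of_formallyEtale V C C')]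
        exact rank_of_locally (K := K) d hCstd _)
    have : Algebra.Etale A B := Algebra.Etale.of_isLocalizationAway (algebraMap V A ϖ)
    have : Algebra.Etale A C' := Algebra.Etale.comp A B C'
    let e : C' ≃ₐ[R] Localization.Away (r * π) := IsLocalization.algEquiv (Submonoid.powers (r * π)) _ _
    have : Algebra.Etale A (Localization.Away (r * π)) :=
      Algebra.Etale.of_equiv (e.restrictScalars A)
    rw [← IsScalarTower.algebraMap_eq, RingHom.etale_algebraMap]
    infer_instance

end Groth.Agent.S14383
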