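import Groth.Statements.S14385
import Mathlib
import Groth.Agent.Lib.EtaEtale.Dim
import Groth.Agent.S14379

set_option autoImplicit false
open scoped TensorProduct
open AlgebraicGeometry
universe u
open CAlg

namespace Groth.Agent.S14385
open CAlg AlgebraicGeometry

open TensorProduct KaehlerDifferential

/-- If the differentials of a second coordinate system span, it is étale as well. -/
lemma etale_of_span {V L : Type u} [CommRing V] [CommRing L] [Algebra V L] {d : ℕ}
    (x' x : Fin d → L)
    (hx' : (MvPolynomial.aeval x' : MvPolynomial (Fin d) V →ₐ[V] L).toRingHom.Etale)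
    (hspan : Submodule.span L (Set.range fun i => D V L (x i)) = ⊤) :
    (MvPolynomial.aeval x : MvPolynomial (Fin d) V →ₐ[V] L).toRingHom.Etale := by
  let P := MvPolynomial (Fin d) V
  have hL : Algebra.Smooth V L ∧ Nonempty (Module.Basis (Fin d) L Ω[L⁄V]) := by
    algebraize [(MvPolynomial.aeval x' : P →ₐ[V] L).toRingHom]
    have : IsScalarTower V P L := IsScalarTower.of_algHom _
    have : Algebra.Smooth V P := ⟨inferInstance, inferInstance⟩
    exact ⟨Algebra.Smooth.comp V P L,
      ⟨((KaehlerDifferential.mvPolynomialBasis V (Fin d)).baseChange L).map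
        (KaehlerDifferential.tensorKaehlerEquivOfFormallyEtale V P L)⟩⟩
  obtain ⟨hsm, ⟨b'⟩⟩ := hL
  algebraize [(MvPolynomial.aeval x : P →ₐ[V] L).toRingHom]
  have : IsScalarTower V P L := IsScalarTower.of_algHom _
  let bP := (KaehlerDifferential.mvPolynomialBasis V (Fin d)).baseChange L
  have hb : ∀ i, mapBaseChange V P L (bP i) = D V L (x i) := fun i => by
    rw [show bP i = (1 : L) ⊗ₜ[P] D V P (MvPolynomial.X i) by simp [bP]; rfl,
      KaehlerDifferential.mapBaseChange_tmul, one_smul, KaehlerDifferential.map_D]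
    congr 1
    exact MvPolynomial.aeval_X x i
  have hsurj : Function.Surjective (mapBaseChange V P L) := by
    rw [← LinearMap.range_eq_top, eq_top_iff, ← hspan, Submodule.span_le]
    rintro _ ⟨i, rfl⟩
    exact ⟨bP i, hb i⟩
  let F : Ω[L⁄V] →ₗ[L] (L ⊗[P] Ω[P⁄V]) := b'.constr L bP
  have hFsurj : Function.Surjective F := by
    rw [← LinearMap.range_eq_top, eq_top_iff, ← bP.span_eq, Submodule.span_le]
    rintro _ ⟨i, rfl⟩
    exact ⟨b' i, b'.constr_basis L bP i⟩
  have : Module.Finite L (Ω[L⁄V]) := Module.Finite.of_basis b'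
  have hinj : Function.Injective (mapBaseChange V P L) := by
    have h1 : Function.Injective ((mapBaseChange V P L).comp F) :=
      OrzechProperty.injective_of_surjective_endomorphism _ (hsurj.comp hFsurj)
    intro a c hac
    obtain ⟨a, rfl⟩ := hFsurj a
    obtain ⟨c, rfl⟩ := hFsurj c
    rw [h1 hac]
  have h1 : Subsingleton (Ω[L⁄P]) := by
    refine ⟨fun a c => ?_⟩
    have hz : ∀ w : Ω[L⁄P], w = 0 := fun w => by
      obtain ⟨v, rfl⟩ := KaehlerDifferential.map_surjective V P L w
      obtain ⟨t, rfl⟩ := hsurj v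
      exact (KaehlerDifferential.exact_mapBaseChange_map V P L).apply_apply_eq_zero t
    rw [hz a, hz c]
  have h2 : Subsingleton (Algebra.H1Cotangent P L) := by
    refine ⟨fun a c => ?_⟩
    have hz : ∀ w : Algebra.H1Cotangent P L, w = 0 := fun w => by
      have hw : Algebra.H1Cotangent.δ V P L w = 0 := by
        apply hinj
        rw [map_zero]
        exact (Algebra.H1Cotangent.exact_δ_mapBaseChange V P L).apply_apply_eq_zero w
      obtain ⟨v, rfl⟩ := (Algebra.H1Cotangent.exact_map_δ V P L w).1 hw
      rw [Subsingleton.elim v 0, map_zero]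
    rw [hz a, hz c]
  have : Algebra.FormallyEtale P L := ⟨h1, h2⟩
  have : Algebra.FinitePresentation P L :=
    Algebra.FinitePresentation.of_restrict_scalars_finitePresentation (R := V) P L
  rw [RingHom.Etale]
  exact ⟨inferInstance, inferInstance⟩

/-- The differential of a combination of `N`-th powers is divisible by `N`. -/
lemma D_mem_of_mem_closure {V R : Type u} [CommRing V] [CommRing R] [Algebra V R] (N : ℕ) (y : R)
    (hy : y ∈ Subring.closure (Set.range fun r : R => r ^ N)) :
    ∃ ω : Ω[R⁄V], D V R y = (N : R) • ω := by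
  induction hy using Subring.closure_induction with
  | mem z hz =>
    obtain ⟨r, rfl⟩ := hz
    exact ⟨r ^ (N - 1) • D V R r, by
      rw [Derivation.leibniz_pow, ← Nat.cast_smul_eq_nsmul R, smul_smul]⟩
  | zero => exact ⟨0, by simp⟩
  | one => exact ⟨0, by simp⟩
  | add a b _ _ ha hb =>
    obtain ⟨u, hu⟩ := ha; obtain ⟨v, hv⟩ := hb
    exact ⟨u + v, by rw [map_add, hu, hv, smul_add]⟩
  | neg a _ ha =>
    obtain ⟨u, hu⟩ := ha
    exact ⟨-u, by rw [map_neg, hu, smul_neg]⟩
  | mul a b _ _ ha hb =>
    obtain ⟨u, hu⟩ := ha; obtain ⟨v, hv⟩ := hb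
    exact ⟨a • v + b • u, by rw [Derivation.leibniz, hu, hv, smul_add, smul_comm a, smul_comm b]⟩

/-- A common denominator for the coefficients of all differentials. -/
lemma exists_denom {V R L : Type u} [CommRing V] [CommRing R] [Algebra V R] [Algebra.FiniteType V R]
    (s : R) [CommRing L] [Algebra R L] [Algebra V L] [IsScalarTower V R L] [IsLocalization.Away s L]
    {d : ℕ} (x' : Fin d → R)
    (hspan : ⊤ ≤ Submodule.span L (Set.range fun i => D V L (algebraMap R L (x' i)))) :
    ∃ n0 : ℕ, ∀ ω : Ω[R⁄V], ∃ r : Fin d → R,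
      algebraMap R L (s ^ n0) • KaehlerDifferential.map V V R L ω =
        ∑ i, algebraMap R L (r i) • D V L (algebraMap R L (x' i)) := by
  classical
  obtain ⟨t, ht⟩ := Module.finite_def.1 (inferInstance : Module.Finite R (Ω[R⁄V]))
  have hc : ∀ g : Ω[R⁄V], ∃ c : Fin d → L,
      ∑ i, c i • D V L (algebraMap R L (x' i)) = KaehlerDifferential.map V V R L g := fun g =>
    Submodule.mem_span_range_iff_exists_fun L |>.1 (hspan trivial)
  choose c hc using hc
  obtain ⟨⟨b, hb⟩, hbc⟩ := IsLocalization.exist_integer_multiples (Submonoid.powers s)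
    (t ×ˢ (Finset.univ : Finset (Fin d))) (fun gi => c gi.1 gi.2)
  obtain ⟨n0, rfl⟩ := hb
  refine ⟨n0, fun ω => ?_⟩
  have hω : ω ∈ Submodule.span R (t : Set (Ω[R⁄V])) := ht.ge trivial
  induction hω using Submodule.span_induction with
  | mem g hg =>
    have hg' : ∀ i, ∃ r : R, algebraMap R L r = (s ^ n0) • c g i := fun i => by
      obtain ⟨r, hr⟩ := hbc (g, i) (Finset.mem_product.2 ⟨hg, Finset.mem_univ _⟩)
      exact ⟨r, hr⟩
    choose r hr using hg'
    refine ⟨r, ?_⟩
    rw [← hc g, Finset.smul_sum]
    exact Finset.sum_congr rfl fun i _ => by rw [hr, Algebra.smul_def, smul_smul]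
  | zero => exact ⟨0, by simp⟩
  | add a b _ _ ha hb =>
    obtain ⟨u, hu⟩ := ha; obtain ⟨v, hv⟩ := hb
    exact ⟨u + v, by simp only [map_add, smul_add, hu, hv, Pi.add_apply, add_smul, Finset.sum_add_distrib]⟩
  | smul r a _ ha =>
    obtain ⟨u, hu⟩ := ha
    refine ⟨r • u, ?_⟩
    rw [map_smul, ← algebraMap_smul L r, smul_comm, hu, Finset.smul_sum]
    exact Finset.sum_congr rfl fun i _ => by
      rw [Pi.smul_apply, smul_eq_mul, map_mul, smul_smul]

/-- Let V be a discrete valuation ring of characteristic zero with uniformizer ϖ, whose residue field k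
is perfect of characteristic p > 0, with fraction field K; let R be a flat V-algebra of finite type
such that the generic fibre Spec(K ⊗_V R) → Spec K is smooth of relative dimension d; and suppose
some d-tuple x' of elements of R defines a morphism f' from Spec R to affine d-space over V which is
η-étale, meaning that for some a ∈ R with (a) + (ϖ) = R the localisation R[1/(aϖ)] is étale over
V[T_1, …, T_d] via T_i ↦ x'_i (f' is étale on the generic fibre of an open neighbourhood of the
closed fibre). Then there is a d-tuple x in R whose morphism f is η-étale in the same sense and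
finite on each fibre: k ⊗_V R is finite over k[T_1, …, T_d] and K ⊗_V R is finite over K[T_1, …,
T_d] via T_i ↦ 1 ⊗ x_i. -/
theorem result (V : Type u) [CommRing V] [IsDomain V] [IsDiscreteValuationRing V] [CharZero V]
    (ϖ : V) (hϖ : Irreducible ϖ) (p : ℕ) [Fact p.Prime] [CharP (IsLocalRing.ResidueField V) p]
    [PerfectField (IsLocalRing.ResidueField V)]
    (R : Type u) [CommRing R] [Algebra V R] [Module.Flat V R] [Algebra.FiniteType V R] (d : ℕ)
    (hsm : SmoothOfRelativeDimension d
      (Spec.map (CommRingCat.ofHom (algebraMap (FractionRing V) (FractionRing V ⊗[V] R)))))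
    (x' : Fin d → R) (hx' : (∃ a : R, Ideal.span {a} ⊔ Ideal.span {algebraMap V R ϖ} = ⊤ ∧
        ((algebraMap R (Localization.Away (a * algebraMap V R ϖ))).comp
          (MvPolynomial.aeval x' : MvPolynomial (Fin d) V →ₐ[V] R).toRingHom).Etale)) :
    ∃ x : Fin d → R, (∃ a : R, Ideal.span {a} ⊔ Ideal.span {algebraMap V R ϖ} = ⊤ ∧
        ((algebraMap R (Localization.Away (a * algebraMap V R ϖ))).comp
          (MvPolynomial.aeval x : MvPolynomial (Fin d) V →ₐ[V] R).toRingHom).Etale) ∧
      (MvPolynomial.aeval (fun i => (1 : IsLocalRing.ResidueField V) ⊗ₜ[V] x i) :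
          MvPolynomial (Fin d) (IsLocalRing.ResidueField V) →ₐ[IsLocalRing.ResidueField V]
            IsLocalRing.ResidueField V ⊗[V] R).toRingHom.Finite ∧
      (MvPolynomial.aeval (fun i => (1 : FractionRing V) ⊗ₜ[V] x i) :
          MvPolynomial (Fin d) (FractionRing V) →ₐ[FractionRing V] FractionRing V ⊗[V] R).toRingHom.Finite := by
  classical
  obtain ⟨a, ha, het⟩ := hx'
  let π : R := algebraMap V R ϖ
  let L := Localization.Away (a * π)
  have hη := Groth.Agent.EtaEtale.ringKrullDim_le_of_smooth d hsm
  have hs := Groth.Agent.EtaEtale.ringKrullDim_closedFibre_le hη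
  have key : ∀ (L' : Type u) [CommRing L'] [Algebra V L'] (f : R →ₐ[V] L') (z : Fin d → R),
      f.toRingHom.comp (MvPolynomial.aeval z : MvPolynomial (Fin d) V →ₐ[V] R).toRingHom =
        (MvPolynomial.aeval (f ∘ z) : MvPolynomial (Fin d) V →ₐ[V] L').toRingHom := by
    intro L' _ _ f z
    show (f.comp (MvPolynomial.aeval z : MvPolynomial (Fin d) V →ₐ[V] R)).toRingHom = _
    rw [MvPolynomial.comp_aeval]
    rfl
  have het' : (MvPolynomial.aeval (algebraMap R L ∘ x') :
      MvPolynomial (Fin d) V →ₐ[V] L).toRingHom.Etale := by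
    rw [show (algebraMap R L ∘ x') = (IsScalarTower.toAlgHom V R L) ∘ x' from rfl, ← key]
    exact het
  have hspanL : ∀ (L' : Type u) [CommRing L'] [Algebra V L'] (z : Fin d → L'),
      (MvPolynomial.aeval z : MvPolynomial (Fin d) V →ₐ[V] L').toRingHom.Etale →
      ⊤ ≤ Submodule.span L' (Set.range fun i => D V L' (z i)) := by
    intro L' _ _ z hz
    algebraize [(MvPolynomial.aeval z : MvPolynomial (Fin d) V →ₐ[V] L').toRingHom]
    have : IsScalarTower V (MvPolynomial (Fin d) V) L' := IsScalarTower.of_algHom _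
    refine le_of_eq (Eq.trans (((KaehlerDifferential.mvPolynomialBasis V (Fin d)).baseChange L').map
      (KaehlerDifferential.tensorKaehlerEquivOfFormallyEtale V (MvPolynomial (Fin d) V) L')).span_eq.symm ?_)
    congr 1
    refine congrArg Set.range (funext fun i => ?_)
    rw [Module.Basis.map_apply, Module.Basis.baseChange_apply,
      KaehlerDifferential.mvPolynomialBasis_apply,
      KaehlerDifferential.tensorKaehlerEquivOfFormallyEtale_apply, mapBaseChange_tmul, one_smul,
      KaehlerDifferential.map_D]
    congr 1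
    exact MvPolynomial.aeval_X z i
  obtain ⟨n0, hn0⟩ := exists_denom (V := V) (L := L) (a * π) x' (hspanL L _ het')
  obtain ⟨c, hc⟩ : ∃ c : V, (p : V) = ϖ * c := by
    have : (p : V) ∈ IsLocalRing.maximalIdeal V := by
      rw [← IsLocalRing.ker_residue, RingHom.mem_ker, map_natCast]
      exact CharP.cast_eq_zero _ p
    rw [hϖ.maximalIdeal_eq] at this
    exact Ideal.mem_span_singleton.1 this
  have hN : 1 ≤ p ^ (n0 + 1) := Nat.one_le_pow _ _ (Fact.out : p.Prime).pos
  obtain ⟨y, hy, hfs, hfη⟩ :=
    Groth.Agent.S14379.result V R d hs hη x' (p ^ (n0 + 1)) hN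
  refine ⟨fun i => x' i + y i, ?_, hfs, hfη⟩
  choose ω hω using fun i => D_mem_of_mem_closure (V := V) _ _ (hy i)
  choose r hr using fun i => hn0 (ω i)
  let Q : Matrix (Fin d) (Fin d) R :=
    (a ^ n0) • (1 : Matrix (Fin d) (Fin d) R) + (π * algebraMap V R (c ^ (n0 + 1))) • Matrix.of r
  let a' : R := a * Q.det
  have hcop : IsCoprime a' π := by
    have h1 : IsCoprime a π := by
      rw [Ideal.isCoprime_span_singleton_iff _ _ |>.symm, Ideal.isCoprime_iff_sup_eq]
      exact ha
    refine h1.mul_left ?_
    obtain ⟨u, hu⟩ : π ∣ Q.det - (a ^ n0) ^ d := by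
      rw [← Ideal.mem_span_singleton, ← Ideal.Quotient.eq_zero_iff_mem, map_sub, RingHom.map_det,
        sub_eq_zero]
      have : (Ideal.Quotient.mk (Ideal.span {π})).mapMatrix Q =
          (Ideal.Quotient.mk (Ideal.span {π}) (a ^ n0)) • (1 : Matrix (Fin d) (Fin d) _) := by
        ext i j
        have h0 : Ideal.Quotient.mk (Ideal.span {π}) π = 0 :=
          Ideal.Quotient.eq_zero_iff_mem.2 (Ideal.mem_span_singleton_self π)
        by_cases hij : i = j <;> simp [Q, hij, h0]
      rw [this, Matrix.det_smul, Matrix.det_one, mul_one, Fintype.card_fin, ← map_pow]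
    rw [show Q.det = (a ^ n0) ^ d + π * u by rw [← hu]; ring]
    exact ((h1.pow_left (m := n0)).pow_left (m := d)).add_mul_left_left u
  refine ⟨a', ?_, ?_⟩
  · rw [← Ideal.isCoprime_iff_sup_eq, Ideal.isCoprime_span_singleton_iff]
    exact hcop
  let L' := Localization.Away (a' * π)
  have hu : IsUnit (algebraMap R L' (a' * π)) := IsLocalization.Away.algebraMap_isUnit _
  simp only [a', map_mul, IsUnit.mul_iff] at hu
  obtain ⟨⟨hua, huQ⟩, huπ⟩ := hu
  let ψ : L →ₐ[V] L' :=
    IsLocalization.liftAlgHom (M := Submonoid.powers (a * π)) (f := IsScalarTower.toAlgHom V R L')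
      (by
        rintro ⟨_, k, rfl⟩
        simp only [IsScalarTower.coe_toAlgHom', map_pow, map_mul]
        exact (hua.mul huπ).pow k)
  have hψR : ∀ z : R, ψ (algebraMap R L z) = algebraMap R L' z := fun z => by
    simp [ψ]
  let := ψ.toRingHom.toAlgebra
  have : IsScalarTower R L L' := IsScalarTower.of_algebraMap_eq fun z => (hψR z).symm
  have : IsScalarTower V L L' := IsScalarTower.of_algebraMap_eq fun z => (ψ.commutes z).symm
  have hET' : (MvPolynomial.aeval (algebraMap R L' ∘ x') :
      MvPolynomial (Fin d) V →ₐ[V] L').toRingHom.Etale := by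
    have h1 : (MvPolynomial.aeval (algebraMap R L' ∘ x') : MvPolynomial (Fin d) V →ₐ[V] L').toRingHom =
        ψ.toRingHom.comp (MvPolynomial.aeval (algebraMap R L ∘ x') :
          MvPolynomial (Fin d) V →ₐ[V] L).toRingHom := by
      show _ = (ψ.comp (MvPolynomial.aeval (algebraMap R L ∘ x') :
          MvPolynomial (Fin d) V →ₐ[V] L)).toRingHom
      rw [MvPolynomial.comp_aeval]
      congr 2
      exact funext fun i => (hψR _).symm
    rw [h1]
    refine RingHom.Etale.stableUnderComposition _ _ het' ?_
    show (algebraMap L L').Etale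
    rw [RingHom.etale_algebraMap]
    have : Algebra.Etale R L := Algebra.Etale.of_isLocalizationAway (a * π)
    have : Algebra.Etale R L' := Algebra.Etale.of_isLocalizationAway (a' * π)
    exact Algebra.Etale.of_restrictScalars R L L'
  rw [show ((algebraMap R L').comp
      (MvPolynomial.aeval (fun i => x' i + y i) : MvPolynomial (Fin d) V →ₐ[V] R).toRingHom) =
      (MvPolynomial.aeval ((IsScalarTower.toAlgHom V R L') ∘ fun i => x' i + y i) :
        MvPolynomial (Fin d) V →ₐ[V] L').toRingHom from key L' (IsScalarTower.toAlgHom V R L') _]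
  refine etale_of_span _ _ hET' (eq_top_iff.2 ((hspanL L' _ hET').trans (Submodule.span_le.2 ?_)))
  let v : Fin d → Ω[L'⁄V] := fun j => D V L' (algebraMap R L' (x' j))
  let w : Fin d → Ω[L'⁄V] := fun i => D V L' (algebraMap R L' (x' i + y i))
  have hrel : ∀ i, algebraMap R L' (a ^ n0) • w i = ∑ j, algebraMap R L' (Q i j) • v j := by
    intro i
    have h1 := congrArg (KaehlerDifferential.map V V L L') (hr i)
    have hcomp : ∀ z : Ω[R⁄V], KaehlerDifferential.map V V L L' (KaehlerDifferential.map V V R L z) =
        KaehlerDifferential.map V V R L' z := by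
      intro z
      have hz : z ∈ Submodule.span R (Set.range (D V R)) := by
        rw [KaehlerDifferential.span_range_derivation]; trivial
      induction hz using Submodule.span_induction with
      | mem g hg =>
        obtain ⟨g, rfl⟩ := hg
        simp only [KaehlerDifferential.map_D, ← IsScalarTower.algebraMap_apply]
      | zero => simp
      | add u v _ _ hu hv => simp only [map_add, hu, hv]
      | smul r u _ hu =>
        rw [map_smul (KaehlerDifferential.map V V R L), map_smul (KaehlerDifferential.map V V R L'),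
          ← algebraMap_smul L r, map_smul,
          ← algebraMap_smul L' (algebraMap R L r), ← IsScalarTower.algebraMap_apply, hu,
          algebraMap_smul]
    simp only [map_smul, map_sum, hcomp, KaehlerDifferential.map_D, ← algebraMap_smul L' (algebraMap R L _),
      ← IsScalarTower.algebraMap_apply] at h1
    have h2 : D V L' (algebraMap R L' (y i)) =
        algebraMap R L' ((p ^ (n0 + 1) : ℕ) : R) • KaehlerDifferential.map V V R L' (ω i) := by
      rw [← KaehlerDifferential.map_D V V R L', hω i, map_smul, ← algebraMap_smul L' ((p ^ (n0 + 1) : ℕ) : R)]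
    have hp : ((p ^ (n0 + 1) : ℕ) : R) * a ^ n0 = (π * algebraMap V R (c ^ (n0 + 1))) * (a * π) ^ n0 := by
      rw [Nat.cast_pow, show ((p : R)) = algebraMap V R (p : V) from (map_natCast _ p).symm, hc]
      simp only [map_mul, map_pow, π]
      ring
    calc algebraMap R L' (a ^ n0) • w i
        = algebraMap R L' (a ^ n0) • v i +
            algebraMap R L' (π * algebraMap V R (c ^ (n0 + 1))) • ∑ j, algebraMap R L' (r i j) • v j := by
          simp only [w, v, map_add, smul_add]
          rw [h2, smul_smul, ← map_mul, mul_comm (a ^ n0), hp, map_mul, mul_smul, h1]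
      _ = _ := by
          simp only [Q, Matrix.add_apply, Matrix.smul_apply, Matrix.of_apply, smul_eq_mul, map_add,
            add_smul, Finset.sum_add_distrib, Finset.smul_sum, map_mul, mul_smul]
          simp [Matrix.one_apply]
  rintro _ ⟨j, rfl⟩
  let S := Submodule.span L' (Set.range w)
  show v j ∈ S
  have hdet : algebraMap R L' Q.det • v j ∈ S := by
    have : algebraMap R L' Q.det • v j =
        ∑ i, algebraMap R L' (Q.adjugate j i) • ∑ k, algebraMap R L' (Q i k) • v k := by
      simp only [Finset.smul_sum, smul_smul, ← map_mul]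
      rw [Finset.sum_comm]
      simp only [← Finset.sum_smul, ← map_sum]
      rw [show (fun k => algebraMap R L' (∑ i, Q.adjugate j i * Q i k) • v k) =
        fun k => algebraMap R L' ((Q.adjugate * Q) j k) • v k from funext fun k => by rw [Matrix.mul_apply],
        Matrix.adjugate_mul]
      simp [Matrix.one_apply, Matrix.smul_apply]
    rw [this]
    refine S.sum_mem fun i _ => S.smul_mem _ ?_
    rw [← hrel i]
    exact S.smul_mem _ (Submodule.subset_span ⟨i, rfl⟩)
  have h2 := S.smul_mem ((huQ.unit⁻¹ : L'ˣ) : L') hdet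
  rw [smul_smul, IsUnit.val_inv_mul, one_smul] at h2
  exact h2

end Groth.Agent.S14385
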