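import Groth.Statements.S14386
import Mathlib

set_option autoImplicit false
universe u
open CAlg

namespace Groth.Agent.S14386
open CAlg

open KaehlerDifferential TrivSqZeroExt
open scoped TensorProduct

section Alg

variable {V : Type u} [CommRing V]

/-- An algebra map to the trivial extension lifting the identity gives a derivation. -/
noncomputable def derOf {S : Type u} [CommRing S] [Algebra V S] (φ : S →ₐ[V] TrivSqZeroExt S S)
    (hφ : ∀ z, (φ z).fst = z) : Derivation V S S :=
  Derivation.mk' ((sndHom S S).restrictScalars V ∘ₗ φ.toLinearMap) fun a b => by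
    show (φ (a * b)).snd = a • (φ b).snd + b • (φ a).snd
    rw [map_mul, TrivSqZeroExt.snd_mul, hφ, hφ, op_smul_eq_smul]

/-- An element of a trivial extension. -/
def pr {R M : Type u} (r : R) (m : M) : TrivSqZeroExt R M := (r, m)

@[simp] lemma fst_pr {R M : Type u} (r : R) (m : M) : (pr r m).fst = r := rfl

@[simp] lemma snd_pr {R M : Type u} (r : R) (m : M) : (pr r m).snd = m := rfl

lemma exists_smul_D {T : Type u} [CommRing T] [Algebra V T] (α : Polynomial V →ₐ[V] T)
    (hα : α.toRingHom.Etale) (z : T) : ∃ c : T, D V T z = c • D V T (α Polynomial.X) := by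
  algebraize [α.toRingHom]
  have : IsScalarTower V (Polynomial V) T := IsScalarTower.of_algHom α
  obtain ⟨t, ht⟩ := (tensorKaehlerEquivOfFormallyEtale V (Polynomial V) T).surjective (D V T z)
  rw [← ht, tensorKaehlerEquivOfFormallyEtale_apply]
  clear ht
  induction t using TensorProduct.induction_on with
  | zero => exact ⟨0, by rw [map_zero, zero_smul]⟩
  | add a b ha hb =>
    obtain ⟨c1, h1⟩ := ha; obtain ⟨c2, h2⟩ := hb
    exact ⟨c1 + c2, by rw [map_add, h1, h2, add_smul]⟩
  | tmul a w =>
    obtain ⟨p, rfl⟩ := (polynomialEquiv V).symm.surjective w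
    refine ⟨a * algebraMap (Polynomial V) T p, ?_⟩
    rw [mapBaseChange_tmul,
      show (polynomialEquiv V).symm p = p • D V (Polynomial V) Polynomial.X from rfl, map_smul,
      map_D, ← algebraMap_smul T p, smul_smul]
    rfl

lemma not_quasiFinite {A L K : Type u} [CommRing A] [Algebra V A] [CommRing L] [Algebra V L]
    [Field K] [Algebra V K] [Algebra K L] [IsScalarTower V K L] (f : A) (ψ : A →ₐ[V] L)
    (hψ : Function.Surjective ψ) (c : K) (hc : ψ f = algebraMap K L c)
    (hL : ¬ Module.Finite K L) :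
    ¬ (Polynomial.aeval f : Polynomial V →ₐ[V] A).toRingHom.QuasiFinite := by
  intro hqf
  let φ : Polynomial V →ₐ[V] A := Polynomial.aeval f
  let : Algebra (Polynomial V) A := φ.toRingHom.toAlgebra
  have : Algebra.QuasiFinite (Polynomial V) A := hqf
  let : Algebra (Polynomial V) L := (ψ.comp φ).toRingHom.toAlgebra
  let : Algebra (Polynomial V) K := (Polynomial.aeval c : Polynomial V →ₐ[V] K).toRingHom.toAlgebra
  have : IsScalarTower (Polynomial V) K L :=
    IsScalarTower.of_algebraMap_eq (R := Polynomial V) (S := K) (A := L) fun P => by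
      show ψ (Polynomial.aeval f P) = algebraMap K L (Polynomial.aeval c P)
      rw [← Polynomial.aeval_algHom_apply, hc, Polynomial.aeval_algebraMap_apply]
  have : Algebra.QuasiFinite (Polynomial V) L :=
    Algebra.QuasiFinite.of_surjective_algHom
      ({ toRingHom := ψ.toRingHom, commutes' := fun P => rfl } : A →ₐ[Polynomial V] L) hψ
  have : Algebra.QuasiFinite K L := Algebra.QuasiFinite.of_restrictScalars (Polynomial V) K L
  exact hL Module.Finite.of_quasiFinite

lemma dX_torsionFree {K L : Type u} [CommRing K] [CommRing L] [Algebra K L] [Algebra (Polynomial K) L]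
    [IsScalarTower K (Polynomial K) L] [Algebra.FormallyEtale (Polynomial K) L] (c : L)
    (h : c • D K L (algebraMap (Polynomial K) L Polynomial.X) = 0) : c = 0 := by
  let e := tensorKaehlerEquivOfFormallyEtale K (Polynomial K) L
  have h2 : c • ((1 : L) ⊗ₜ[Polynomial K] D K (Polynomial K) Polynomial.X) = 0 := by
    apply e.injective
    rw [map_smul, map_zero, tensorKaehlerEquivOfFormallyEtale_apply, mapBaseChange_tmul, one_smul,
      map_D]
    exact h
  have h3 := congrArg ((TensorProduct.AlgebraTensorModule.rid (Polynomial K) L L).toLinearMap.comp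
    (TensorProduct.AlgebraTensorModule.congr (LinearEquiv.refl L L)
      (polynomialEquiv K)).toLinearMap) h2
  rw [map_smul, map_zero] at h3
  have h4 : (TensorProduct.AlgebraTensorModule.rid (Polynomial K) L L).toLinearMap.comp
    (TensorProduct.AlgebraTensorModule.congr (LinearEquiv.refl L L)
      (polynomialEquiv K)).toLinearMap ((1 : L) ⊗ₜ[Polynomial K] D K (Polynomial K) Polynomial.X) = 1 := by
    rw [LinearMap.comp_apply, LinearEquiv.coe_coe, LinearEquiv.coe_coe,
      TensorProduct.AlgebraTensorModule.congr_tmul, polynomialEquiv_D, Polynomial.derivative_X,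
      TensorProduct.AlgebraTensorModule.rid_tmul, one_smul]
    rfl
  rw [h4, smul_eq_mul, mul_one] at h3
  exact h3

/-- The semistable node. -/
abbrev Node (ϖ : V) : Type u :=
  MvPolynomial (Fin 2) V ⧸
    Ideal.span {(MvPolynomial.X 0 * MvPolynomial.X 1 - MvPolynomial.C ϖ : MvPolynomial (Fin 2) V)}

/-- The coordinates of the node. -/
noncomputable abbrev co (ϖ : V) (i : Fin 2) : Node ϖ := Ideal.Quotient.mk _ (MvPolynomial.X i)

lemma co_mul (ϖ : V) : co ϖ 0 * co ϖ 1 = algebraMap V (Node ϖ) ϖ := by
  rw [← map_mul]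
  show _ = Ideal.Quotient.mk _ (MvPolynomial.C ϖ)
  exact Ideal.Quotient.eq.2 (Ideal.mem_span_singleton_self _)

/-- The map out of the node with given values of the coordinates. -/
noncomputable def nodeHom {ϖ : V} {T : Type u} [CommRing T] [Algebra V T] (v : Fin 2 → T)
    (hv : v 0 * v 1 = algebraMap V T ϖ) : Node ϖ →ₐ[V] T :=
  Ideal.Quotient.liftₐ _ (MvPolynomial.aeval v) fun a ha => by
    obtain ⟨b, rfl⟩ := Ideal.mem_span_singleton'.1 ha
    simp [hv]

lemma nodeHom_co {ϖ : V} {T : Type u} [CommRing T] [Algebra V T] (v : Fin 2 → T)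
    (hv : v 0 * v 1 = algebraMap V T ϖ) (i : Fin 2) : nodeHom v hv (co ϖ i) = v i := by
  show MvPolynomial.aeval v (MvPolynomial.X i) = v i
  simp

lemma node_ext {ϖ : V} {T : Type u} [CommRing T] [Algebra V T] {f g : Node ϖ →ₐ[V] T}
    (h : ∀ i, f (co ϖ i) = g (co ϖ i)) : f = g :=
  Ideal.Quotient.algHom_ext V (MvPolynomial.algHom_ext h)

lemma loc_ext {ϖ : V} (h : Node ϖ) {T : Type u} [CommRing T] [Algebra V T]
    {f g : Localization.Away h →ₐ[V] T}
    (H : ∀ i, f (algebraMap _ _ (co ϖ i)) = g (algebraMap _ _ (co ϖ i))) : f = g :=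
  IsLocalization.algHom_ext (Submonoid.powers h) (node_ext H)

/-- The derivation `x ∂/∂x - y ∂/∂y`, as an algebra map. -/
noncomputable def theta (ϖ : V) : Node ϖ →ₐ[V] TrivSqZeroExt (Node ϖ) (Node ϖ) :=
  nodeHom ![pr (co ϖ 0) (co ϖ 0), pr (co ϖ 1) (- co ϖ 1)] (by
    refine TrivSqZeroExt.ext ?_ ?_
    · simp [co_mul, algebraMap_eq_inl']
    · simp [algebraMap_eq_inl', op_smul_eq_smul]; ring)

lemma theta_fst (ϖ : V) (z : Node ϖ) : (theta ϖ z).fst = z := by
  have : ((fstHom V (Node ϖ) (Node ϖ)).comp (theta ϖ)) = AlgHom.id V (Node ϖ) := by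
    refine node_ext fun i => ?_
    fin_cases i <;> simp [theta, nodeHom_co]
  exact AlgHom.congr_fun this z

/-- The extension of such a map to a localisation. -/
noncomputable def extendLoc {S T : Type u} [CommRing S] [CommRing T] [Algebra V S] [Algebra V T]
    [Algebra S T] [IsScalarTower V S T] (M : Submonoid S) [IsLocalization M T]
    (φ : S →ₐ[V] TrivSqZeroExt S S) (hφ : ∀ z, (φ z).fst = z) :
    T →ₐ[V] TrivSqZeroExt T T :=
  IsLocalization.liftAlgHom (M := M)
    (f :=
      { toFun := fun z => pr (algebraMap S T z) (algebraMap S T (φ z).snd)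
        map_one' := by refine TrivSqZeroExt.ext ?_ ?_ <;> simp [algebraMap_eq_inl']
        map_mul' := fun a b => by
          refine TrivSqZeroExt.ext ?_ ?_ <;>
            simp [hφ, op_smul_eq_smul, Algebra.smul_def]
          all_goals ring
        map_zero' := by refine TrivSqZeroExt.ext ?_ ?_ <;> simp
        map_add' := fun a b => by
          refine TrivSqZeroExt.ext ?_ ?_ <;> simp [Algebra.smul_def]
        commutes' := fun r => by
          refine TrivSqZeroExt.ext ?_ ?_ <;>
            simp [← IsScalarTower.algebraMap_apply, algebraMap_eq_inl'] })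
    (fun m => by
      rw [isUnit_iff_isUnit_fst]
      simpa using IsLocalization.map_units T m)

lemma extendLoc_alg {S T : Type u} [CommRing S] [CommRing T] [Algebra V S] [Algebra V T]
    [Algebra S T] [IsScalarTower V S T] (M : Submonoid S) [IsLocalization M T]
    (φ : S →ₐ[V] TrivSqZeroExt S S) (hφ : ∀ z, (φ z).fst = z) (z : S) :
    extendLoc (T := T) M φ hφ (algebraMap S T z) =
      pr (algebraMap S T z) (algebraMap S T (φ z).snd) := by
  simp [extendLoc]

lemma extendLoc_fst {S T : Type u} [CommRing S] [CommRing T] [Algebra V S] [Algebra V T]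
    [Algebra S T] [IsScalarTower V S T] (M : Submonoid S) [IsLocalization M T]
    (φ : S →ₐ[V] TrivSqZeroExt S S) (hφ : ∀ z, (φ z).fst = z) (z : T) :
    (extendLoc (T := T) M φ hφ z).fst = z := by
  have : ((fstHom V T T).comp (extendLoc (T := T) M φ hφ)) = AlgHom.id V T :=
    IsLocalization.algHom_ext M (AlgHom.ext fun w => by
      show (extendLoc (T := T) M φ hφ (algebraMap S T w)).fst = algebraMap S T w
      rw [extendLoc_alg]
      simp)
  exact AlgHom.congr_fun this z

end Alg


variable {V : Type u} [CommRing V] [IsDomain V] [IsDiscreteValuationRing V]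

local notation "k" => IsLocalRing.ResidueField V

lemma residue_uniformizer {ϖ : V} (hϖ : Irreducible ϖ) : algebraMap V k ϖ = 0 := by
  show IsLocalRing.residue V ϖ = 0
  rw [IsLocalRing.residue_eq_zero_iff, hϖ.maximalIdeal_eq]
  exact Ideal.mem_span_singleton_self ϖ

/-- The component `co i = 0`. -/
noncomputable def comp {ϖ : V} (hϖ : Irreducible ϖ) (i : Fin 2) : Node ϖ →ₐ[V] Polynomial k :=
  nodeHom (fun l => if l = i then 0 else Polynomial.X) (by
    rw [IsScalarTower.algebraMap_apply V k (Polynomial k), residue_uniformizer hϖ, map_zero]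
    fin_cases i <;> simp)

lemma comp_co {ϖ : V} (hϖ : Irreducible ϖ) (i l : Fin 2) :
    comp hϖ i (co ϖ l) = if l = i then 0 else Polynomial.X :=
  nodeHom_co _ _ l

lemma comp_surjective {ϖ : V} (hϖ : Irreducible ϖ) (i : Fin 2) :
    Function.Surjective (comp hϖ i) := by
  intro P
  obtain ⟨Q, rfl⟩ := Polynomial.map_surjective (algebraMap V k) IsLocalRing.residue_surjective P
  refine ⟨Polynomial.aeval (co ϖ (1 - i)) Q, ?_⟩
  rw [← Polynomial.aeval_algHom_apply, comp_co]
  rw [if_neg (by fin_cases i <;> decide)]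
  rw [← Polynomial.aeval_map_algebraMap k, Polynomial.aeval_X_left_apply]

lemma comp_ker {ϖ : V} (hϖ : Irreducible ϖ) (i : Fin 2) (a : Node ϖ) :
    comp hϖ i a = 0 ↔ a ∈ Ideal.span {co ϖ i} := by
  constructor
  · intro ha
    let j : Fin 2 := 1 - i
    have hji : j ≠ i := by fin_cases i <;> decide
    have hall : ∀ l, l = i ∨ l = j := fun l => by
      fin_cases i <;> fin_cases l <;> decide
    let q := Ideal.Quotient.mkₐ V (Ideal.span {co ϖ i})
    let φ : Polynomial V →ₐ[V] Node ϖ ⧸ Ideal.span {co ϖ i} := Polynomial.aeval (q (co ϖ j))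
    have hsurj : Function.Surjective φ := by
      intro z
      obtain ⟨z, rfl⟩ := Ideal.Quotient.mk_surjective z
      obtain ⟨z, rfl⟩ := Ideal.Quotient.mk_surjective z
      show q (Ideal.Quotient.mkₐ V _ z) ∈ φ.range
      induction z using MvPolynomial.induction_on with
      | C r =>
        show q (Ideal.Quotient.mkₐ V _ (algebraMap V (MvPolynomial (Fin 2) V) r)) ∈ φ.range
        rw [AlgHom.commutes, AlgHom.commutes]
        exact φ.range.algebraMap_mem r
      | add p r hp hr => rw [map_add, map_add]; exact add_mem hp hr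
      | mul_X p l hp =>
        rw [map_mul, map_mul]
        refine mul_mem hp ?_
        rcases hall l with hl | hl
        · rw [hl, show q (Ideal.Quotient.mkₐ V _ (MvPolynomial.X i)) = 0 from
            Ideal.Quotient.eq_zero_iff_mem.2 (Ideal.mem_span_singleton_self _)]
          exact zero_mem _
        · rw [hl]
          exact ⟨Polynomial.X, Polynomial.aeval_X _⟩
    obtain ⟨P, hP⟩ := hsurj (q a)
    have hP' : q (Polynomial.aeval (co ϖ j) P) = q a := by
      rw [← Polynomial.aeval_algHom_apply]; exact hP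
    have h1 : a - Polynomial.aeval (co ϖ j) P ∈ Ideal.span {co ϖ i} :=
      Ideal.Quotient.eq.1 hP'.symm
    obtain ⟨c, hc⟩ := Ideal.mem_span_singleton'.1 h1
    have h2 : P.map (algebraMap V k) = 0 := by
      have h := congrArg (comp hϖ i) hc
      rw [map_mul, comp_co, if_pos rfl, mul_zero, map_sub, ha, zero_sub, eq_comm, neg_eq_zero,
        ← Polynomial.aeval_algHom_apply, comp_co, if_neg hji,
        ← Polynomial.aeval_map_algebraMap k, Polynomial.aeval_X_left_apply] at h
      exact h
    obtain ⟨Q, rfl⟩ : Polynomial.C ϖ ∣ P := by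
      rw [Polynomial.C_dvd_iff_dvd_coeff]
      intro m
      have h := congrArg (fun p => Polynomial.coeff p m) h2
      simp only [Polynomial.coeff_map, Polynomial.coeff_zero] at h
      have h' : P.coeff m ∈ IsLocalRing.maximalIdeal V := Ideal.Quotient.eq_zero_iff_mem.1 h
      rw [hϖ.maximalIdeal_eq] at h'
      exact Ideal.mem_span_singleton.1 h'
    have h3 : algebraMap V (Node ϖ) ϖ ∈ Ideal.span {co ϖ i} := by
      rw [← co_mul]
      fin_cases i
      · exact Ideal.mul_mem_right _ _ (Ideal.mem_span_singleton_self _)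
      · exact Ideal.mul_mem_left _ _ (Ideal.mem_span_singleton_self _)
    have h4 := Ideal.mul_mem_right (Polynomial.aeval (co ϖ j) Q) _ h3
    rw [← Polynomial.aeval_C (co ϖ j), ← map_mul] at h4
    simpa using add_mem h1 h4
  · intro ha
    obtain ⟨c, rfl⟩ := Ideal.mem_span_singleton'.1 ha
    rw [map_mul, comp_co, if_pos rfl, mul_zero]

lemma torsionFree {ϖ : V} (hϖ : Irreducible ϖ) (a : Node ϖ)
    (ha : algebraMap V (Node ϖ) ϖ * a = 0) : a = 0 := by
  obtain ⟨P, rfl⟩ := Ideal.Quotient.mk_surjective a
  have h : MvPolynomial.C ϖ * P ∈ Ideal.span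
      {(MvPolynomial.X 0 * MvPolynomial.X 1 - MvPolynomial.C ϖ : MvPolynomial (Fin 2) V)} :=
    Ideal.Quotient.eq_zero_iff_mem.1 (by rw [map_mul]; exact ha)
  obtain ⟨Q, hQ⟩ := Ideal.mem_span_singleton'.1 h
  have h1 : MvPolynomial.map (algebraMap V k) Q = 0 := by
    have h2 := congrArg (MvPolynomial.map (algebraMap V k)) hQ
    simp only [map_mul, map_sub, MvPolynomial.map_X, MvPolynomial.map_C, residue_uniformizer hϖ,
      map_zero, sub_zero, zero_mul] at h2
    exact (mul_eq_zero.1 h2).resolve_right (mul_ne_zero (MvPolynomial.X_ne_zero _) (MvPolynomial.X_ne_zero _))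
  obtain ⟨R, rfl⟩ : MvPolynomial.C ϖ ∣ Q := by
    rw [MvPolynomial.C_dvd_iff_dvd_coeff]
    intro m
    have h2 := congrArg (MvPolynomial.coeff m) h1
    rw [MvPolynomial.coeff_map, MvPolynomial.coeff_zero] at h2
    have h' : Q.coeff m ∈ IsLocalRing.maximalIdeal V := Ideal.Quotient.eq_zero_iff_mem.1 h2
    rw [hϖ.maximalIdeal_eq] at h'
    exact Ideal.mem_span_singleton.1 h'
  rw [mul_assoc] at hQ
  rw [← mul_left_cancel₀ (by simp [hϖ.ne_zero]) hQ]
  exact Ideal.Quotient.eq_zero_iff_mem.2 (Ideal.mul_mem_left _ _ (Ideal.mem_span_singleton_self _))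

lemma torsionFree_loc {ϖ : V} (hϖ : Irreducible ϖ) (h : Node ϖ) (a : Localization.Away h)
    (ha : algebraMap V (Localization.Away h) ϖ * a = 0) : a = 0 := by
  obtain ⟨z, s, rfl⟩ := IsLocalization.exists_mk'_eq (Submonoid.powers h) a
  rw [IsScalarTower.algebraMap_apply V (Node ϖ) (Localization.Away h), IsLocalization.mul_mk'_eq_mk'_of_mul,
    IsLocalization.mk'_eq_zero_iff] at ha
  obtain ⟨t, ht⟩ := ha
  rw [IsLocalization.mk'_eq_zero_iff]
  exact ⟨t, torsionFree hϖ _ (by rw [← ht]; ring)⟩

/-- The value of a localised map on the node. -/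
lemma wronskian_eq {F : Type u} [Field F] [CharZero F] (a H : Polynomial F) (hH : H ≠ 0)
    (h : a.derivative * H = a * H.derivative) : ∃ c : F, a = Polynomial.C c * H := by
  have key : ∀ b : Polynomial F, b ≠ 0 → b.derivative * H = b * H.derivative →
      b.natDegree = H.natDegree := by
    intro b hb hbH
    rcases Nat.eq_zero_or_pos b.natDegree with hb0 | hb0
    · have : b.derivative = 0 := by
        rw [Polynomial.eq_C_of_natDegree_eq_zero hb0]; simp
      rw [this, zero_mul, eq_comm, mul_eq_zero] at hbH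
      rw [hb0, Polynomial.natDegree_eq_zero_of_derivative_eq_zero (hbH.resolve_left hb)]
    · rcases Nat.eq_zero_or_pos H.natDegree with hH0 | hH0
      · have : H.derivative = 0 := by
          rw [Polynomial.eq_C_of_natDegree_eq_zero hH0]; simp
        rw [this, mul_zero, mul_eq_zero] at hbH
        rw [hH0, Polynomial.natDegree_eq_zero_of_derivative_eq_zero (hbH.resolve_right hH)]
      · have h1 := congrArg Polynomial.leadingCoeff hbH
        simp only [Polynomial.leadingCoeff_mul, Polynomial.leadingCoeff_derivative] at h1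
        have hb1 := Polynomial.leadingCoeff_ne_zero.2 hb
        have hH1 := Polynomial.leadingCoeff_ne_zero.2 hH
        have : (b.natDegree : F) = H.natDegree :=
          mul_right_cancel₀ (mul_ne_zero hb1 hH1) (by linear_combination h1)
        exact_mod_cast this
  rcases eq_or_ne a 0 with rfl | ha
  · exact ⟨0, by simp⟩
  have hdeg := key a ha h
  refine ⟨a.leadingCoeff / H.leadingCoeff, ?_⟩
  by_contra hne
  set b := a - Polynomial.C (a.leadingCoeff / H.leadingCoeff) * H
  have hb : b ≠ 0 := sub_ne_zero.2 hne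
  have hb' : b.natDegree = H.natDegree := key b hb (by
    simp only [b, Polynomial.derivative_sub, Polynomial.derivative_C_mul]
    linear_combination h)
  have hlt : b.degree < a.degree := by
    refine Polynomial.degree_sub_lt ?_ ha ?_
    · rw [Polynomial.degree_C_mul (div_ne_zero (Polynomial.leadingCoeff_ne_zero.2 ha)
        (Polynomial.leadingCoeff_ne_zero.2 hH)), Polynomial.degree_eq_natDegree ha,
        Polynomial.degree_eq_natDegree hH, hdeg]
    · rw [Polynomial.leadingCoeff_mul, Polynomial.leadingCoeff_C,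
        div_mul_cancel₀ _ (Polynomial.leadingCoeff_ne_zero.2 hH)]
  rw [Polynomial.degree_eq_natDegree hb, Polynomial.degree_eq_natDegree ha, hb', hdeg] at hlt
  exact lt_irrefl _ hlt

lemma D_eq_zero_of_equiv {A B : Type u} [CommRing A] [CommRing B] [Algebra V A] [Algebra V B]
    (e : A ≃ₐ[V] B) (a : A) (h : D V B (e a) = 0) : D V A a = 0 := by
  let := e.symm.toAlgHom.toRingHom.toAlgebra
  have : IsScalarTower V B A := IsScalarTower.of_algHom e.symm.toAlgHom
  have h2 := congrArg (KaehlerDifferential.map V V B A) h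
  rw [map_zero, map_D] at h2
  rw [← h2]
  congr 1
  exact (e.symm_apply_apply a).symm

set_option maxHeartbeats 1600000 in
/-- What happens on one component. -/
lemma component {ϖ : V} (hϖ : Irreducible ϖ) (h : Node ϖ) (i : Fin 2) (hne : comp hϖ i h ≠ 0)
    (f : Localization.Away h)
    (hu : (extendLoc (T := Localization.Away h) (Submonoid.powers h) (theta ϖ) (theta_fst ϖ) f).snd ∈
      Ideal.span {algebraMap (Node ϖ) (Localization.Away h) (co ϖ i)}) :
    D V (Localization.Away h ⧸ Ideal.span {algebraMap (Node ϖ) (Localization.Away h) (co ϖ i)})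
        (Ideal.Quotient.mk _ f) = 0 ∧
    (CharZero k →
      ¬ (Polynomial.aeval f : Polynomial V →ₐ[V] Localization.Away h).toRingHom.QuasiFinite) := by
  classical
  let hb := comp hϖ i h
  let L := Localization.Away hb
  let ψ : Localization.Away h →ₐ[V] L :=
    IsLocalization.liftAlgHom (M := Submonoid.powers h)
      (f := (IsScalarTower.toAlgHom V (Polynomial k) L).comp (comp hϖ i)) (by
        rintro ⟨_, m, rfl⟩
        simp only [AlgHom.comp_apply, map_pow, IsScalarTower.coe_toAlgHom']
        exact (IsLocalization.Away.algebraMap_isUnit hb).pow m)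
  have hψ : ∀ z, ψ (algebraMap _ _ z) = algebraMap _ L (comp hϖ i z) := fun z => by simp [ψ]
  have hψsurj : Function.Surjective ψ := by
    intro w
    obtain ⟨P, ⟨_, m, rfl⟩, rfl⟩ := IsLocalization.exists_mk'_eq (Submonoid.powers hb) w
    obtain ⟨z, rfl⟩ := comp_surjective hϖ i P
    refine ⟨IsLocalization.mk' _ z (⟨_, m, rfl⟩ : Submonoid.powers h), ?_⟩
    rw [IsLocalization.eq_mk'_iff_mul_eq]
    show ψ _ * algebraMap _ L (hb ^ m) = _
    rw [← map_pow (comp hϖ i), ← hψ, ← map_mul, IsLocalization.mk'_spec, hψ]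
  have hψker : ∀ z, ψ z = 0 ↔
      z ∈ Ideal.span {algebraMap (Node ϖ) (Localization.Away h) (co ϖ i)} := by
    intro z
    constructor
    · intro hz
      obtain ⟨a, s, rfl⟩ := IsLocalization.exists_mk'_eq (Submonoid.powers h) z
      have h1 : algebraMap _ L (comp hϖ i a) = 0 := by
        rw [← hψ, ← IsLocalization.mk'_spec (Localization.Away h) a s, map_mul, hz, zero_mul]
      rw [map_eq_zero_iff _ (IsLocalization.injective L
        (powers_le_nonZeroDivisors_of_noZeroDivisors hne)), comp_ker] at h1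
      obtain ⟨c, rfl⟩ := Ideal.mem_span_singleton'.1 h1
      rw [mul_comm c, ← IsLocalization.mul_mk'_eq_mk'_of_mul]
      exact Ideal.mul_mem_right _ _ (Ideal.mem_span_singleton_self _)
    · intro hz
      obtain ⟨c, rfl⟩ := Ideal.mem_span_singleton'.1 hz
      rw [map_mul, hψ, comp_co, if_pos rfl, map_zero, mul_zero]
  let X' : L := algebraMap (Polynomial k) L Polynomial.X
  let dX : Ω[L⁄V] := D V L X'
  have hX0 : X' ≠ 0 := (map_ne_zero_iff _ (IsLocalization.injective L
    (powers_le_nonZeroDivisors_of_noZeroDivisors hne))).2 Polynomial.X_ne_zero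
  have : IsDomain L := IsLocalization.isDomain_localization
    (powers_le_nonZeroDivisors_of_noZeroDivisors hne)
  -- the differential of a polynomial
  have hDpoly : ∀ P : Polynomial k, D V L (algebraMap _ L P) = algebraMap _ L P.derivative • dX := by
    intro P
    obtain ⟨Q, rfl⟩ := Polynomial.map_surjective (algebraMap V k) IsLocalRing.residue_surjective P
    have : algebraMap (Polynomial k) L (Q.map (algebraMap V k)) = Polynomial.aeval X' Q := by
      rw [Polynomial.aeval_algebraMap_apply, ← Polynomial.aeval_map_algebraMap k,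
        Polynomial.aeval_X_left_apply]
    rw [this, Derivation.map_aeval, Polynomial.derivative_map]
    congr 1
    rw [Polynomial.aeval_algebraMap_apply, ← Polynomial.aeval_map_algebraMap k,
      Polynomial.aeval_X_left_apply]
  -- `dX` is free
  have hfree : ∀ c : L, c • dX = 0 → c = 0 := by
    intro c hc
    have : Algebra.FormallyEtale (Polynomial k) L :=
      Algebra.FormallyEtale.of_isLocalization (Submonoid.powers hb)
    have h1 := congrArg (KaehlerDifferential.map V k L L) hc
    rw [map_smul, map_zero, map_D] at h1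
    exact dX_torsionFree c h1
  -- the key identity
  let : Module Lᵐᵒᵖ (Ω[L⁄V]) := Module.compHom _ ((RingHom.id L).fromOpposite mul_comm)
  have : IsCentralScalar L (Ω[L⁄V]) := ⟨fun m x => rfl⟩
  have key : ∀ z, X' • D V L (ψ z) = ((![1, -1] : Fin 2 → L) (1 - i) *
      ψ (extendLoc (T := Localization.Away h) (Submonoid.powers h) (theta ϖ) (theta_fst ϖ) z).snd) • dX := by
    let f1 : Localization.Away h →ₐ[V] TrivSqZeroExt L (Ω[L⁄V]) :=
      { toFun := fun z => pr (ψ z) (X' • D V L (ψ z))
        map_one' := by refine TrivSqZeroExt.ext ?_ ?_ <;> simp [algebraMap_eq_inl']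
        map_mul' := fun a b => by
          refine TrivSqZeroExt.ext ?_ ?_
          · simp
          · simp [op_smul_eq_smul, smul_add, smul_comm X']
        map_zero' := by refine TrivSqZeroExt.ext ?_ ?_ <;> simp
        map_add' := fun a b => by refine TrivSqZeroExt.ext ?_ ?_ <;> simp
        commutes' := fun r => by refine TrivSqZeroExt.ext ?_ ?_ <;> simp [algebraMap_eq_inl'] }
    let θ := extendLoc (T := Localization.Away h) (Submonoid.powers h) (theta ϖ) (theta_fst ϖ)
    let s : L := (![1, -1] : Fin 2 → L) (1 - i)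
    let f2 : Localization.Away h →ₐ[V] TrivSqZeroExt L (Ω[L⁄V]) :=
      { toFun := fun z => pr (ψ z) ((s * ψ (θ z).snd) • dX)
        map_one' := by refine TrivSqZeroExt.ext ?_ ?_ <;> simp [algebraMap_eq_inl']
        map_mul' := fun a b => by
          refine TrivSqZeroExt.ext ?_ ?_
          · simp
          · simp [θ, extendLoc_fst, op_smul_eq_smul, smul_smul, ← add_smul]
            congr 1
            ring
        map_zero' := by refine TrivSqZeroExt.ext ?_ ?_ <;> simp
        map_add' := fun a b => by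
          refine TrivSqZeroExt.ext ?_ ?_ <;> simp [mul_add, add_smul]
        commutes' := fun r => by refine TrivSqZeroExt.ext ?_ ?_ <;> simp [algebraMap_eq_inl'] }
    have h12 : f1 = f2 := by
      refine loc_ext h fun l => ?_
      show pr (ψ _) (X' • D V L (ψ _)) = pr (ψ _) ((s * ψ (θ _).snd) • dX)
      congr 1
      have : (θ (algebraMap _ _ (co ϖ l))).snd =
          algebraMap _ _ ((![1, -1] : Fin 2 → Node ϖ) l * co ϖ l) := by
        rw [show θ = extendLoc (T := Localization.Away h) (Submonoid.powers h) (theta ϖ) (theta_fst ϖ)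
          from rfl, extendLoc_alg]
        fin_cases l <;> simp [theta, nodeHom_co]
      rw [this, hψ, hψ, map_mul (comp hϖ i), comp_co]
      fin_cases i <;> fin_cases l <;> simp [s, X', dX]
      all_goals
        rw [show (-1 : L) * -(algebraMap (Polynomial k) L Polynomial.X) =
          algebraMap (Polynomial k) L Polynomial.X by ring, algebraMap_smul]
    intro z
    have hz := congrArg TrivSqZeroExt.snd (AlgHom.congr_fun h12 z)
    simpa [f1, f2, s, θ] using hz
  have hDf : D V L (ψ f) = 0 := by
    have h1 := key f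
    rw [(hψker _).2 hu, mul_zero, zero_smul] at h1
    have hspan : ∀ w : L, ∃ c : L, D V L w = c • dX := by
      intro w
      obtain ⟨a, ⟨_, m, rfl⟩, rfl⟩ := IsLocalization.exists_mk'_eq (Submonoid.powers hb) w
      set w := IsLocalization.mk' L a (⟨_, m, rfl⟩ : Submonoid.powers hb)
      have hw : w * algebraMap _ L (hb ^ m) = algebraMap _ L a := IsLocalization.mk'_spec L a _
      have hU : IsUnit (algebraMap (Polynomial k) L (hb ^ m)) := by
        rw [map_pow]; exact (IsLocalization.Away.algebraMap_isUnit hb).pow m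
      refine ⟨↑hU.unit⁻¹ * (algebraMap _ L a.derivative - w * algebraMap _ L (hb ^ m).derivative), ?_⟩
      have h2 := congrArg (D V L) hw
      rw [Derivation.leibniz, hDpoly, hDpoly, smul_smul] at h2
      rw [mul_smul, sub_smul, ← h2, add_sub_cancel_left, smul_smul, IsUnit.val_inv_mul, one_smul]
    obtain ⟨c, hc⟩ := hspan (ψ f)
    rw [hc, smul_smul] at h1
    rw [hc, (mul_eq_zero.1 (hfree _ h1)).resolve_left hX0, zero_smul]
  let ψ' : (Localization.Away h ⧸ Ideal.span {algebraMap (Node ϖ) (Localization.Away h) (co ϖ i)}) ≃ₐ[V] L :=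
    AlgEquiv.ofBijective (Ideal.Quotient.liftₐ _ ψ fun a ha => (hψker a).2 ha) ⟨by
      rw [injective_iff_map_eq_zero]
      intro a ha
      obtain ⟨a, rfl⟩ := Ideal.Quotient.mk_surjective a
      exact Ideal.Quotient.eq_zero_iff_mem.2 ((hψker a).1 ha),
      fun w => by
        obtain ⟨z, rfl⟩ := hψsurj w
        exact ⟨Ideal.Quotient.mk _ z, rfl⟩⟩
  refine ⟨?_, fun hchar hqf => ?_⟩
  · refine D_eq_zero_of_equiv ψ' _ ?_
    exact hDf
  · obtain ⟨a, ⟨_, m, rfl⟩, hmk⟩ := IsLocalization.exists_mk'_eq (Submonoid.powers hb) (ψ f)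
    have hw : ψ f * algebraMap _ L (hb ^ m) = algebraMap _ L a := by
      rw [← hmk]; exact IsLocalization.mk'_spec L a _
    have hD := congrArg (D V L) hw
    rw [Derivation.leibniz, hDf, smul_zero, add_zero, hDpoly, hDpoly, smul_smul] at hD
    have hwr : a.derivative * hb ^ m = a * (hb ^ m).derivative := by
      apply IsLocalization.injective L (powers_le_nonZeroDivisors_of_noZeroDivisors hne)
      have := hfree _ (show (ψ f * algebraMap _ L (hb ^ m).derivative - algebraMap _ L a.derivative) • dX = 0 by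
        rw [sub_smul, hD, sub_self])
      rw [map_mul, map_mul, ← hw, ← sub_eq_zero.1 this]
      ring
    obtain ⟨c, rfl⟩ := wronskian_eq a (hb ^ m) (pow_ne_zero _ hne) hwr
    have hfc : ψ f = algebraMap k L c := by
      rw [map_mul] at hw
      rw [mul_right_cancel₀ ((map_ne_zero_iff _ (IsLocalization.injective L
        (powers_le_nonZeroDivisors_of_noZeroDivisors hne))).2 (pow_ne_zero _ hne)) hw]
      rw [IsScalarTower.algebraMap_apply k (Polynomial k) L]; rfl
    refine not_quasiFinite f ψ hψsurj c hfc (fun hfin => ?_) hqf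
    exact Polynomial.not_finite (R := k) (Module.Finite.of_injective
      (IsScalarTower.toAlgHom k (Polynomial k) L).toLinearMap
      (IsLocalization.injective L (powers_le_nonZeroDivisors_of_noZeroDivisors hne)))

set_option maxHeartbeats 1600000 in

/-- Let V be a discrete valuation ring of characteristic zero with uniformizer ϖ and perfect residue
field k, let Q = V[x, y]/(xy − ϖ) be the coordinate ring of the standard semistable node over V and
P its closed point x = y = 0 of the closed fibre, let h ∈ Q with h ∉ (x, y), so that B = Q[1/h] is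
the ring of an open neighbourhood of P, and let f ∈ B define a morphism to the affine line over V
which is étale on the generic fibre: B[1/ϖ] is étale over V[T] via T ↦ f. Then df vanishes
identically on one of the two components x = 0, y = 0 of the closed fibre of Spec B: the
differential of the image of f in Ω_{(B/xB)/V} is zero or the differential of the image of f in
Ω_{(B/yB)/V} is zero. If moreover k has characteristic zero, then f contracts that component and the
morphism is not quasi-finite: V[T] → B, T ↦ f, is not a quasi-finite ring map. -/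
theorem result (V : Type u) [CommRing V] [IsDomain V] [IsDiscreteValuationRing V] [CharZero V]
    [PerfectField (IsLocalRing.ResidueField V)] (ϖ : V) (hϖ : Irreducible ϖ)
    (h : (MvPolynomial (Fin 2) V ⧸ Ideal.span {(MvPolynomial.X 0 * MvPolynomial.X 1 - MvPolynomial.C ϖ : MvPolynomial (Fin 2) V)}))
    (hh : h ∉ Ideal.span ({(Ideal.Quotient.mk (Ideal.span {(MvPolynomial.X 0 * MvPolynomial.X 1 - MvPolynomial.C ϖ : MvPolynomial (Fin 2) V)}) (MvPolynomial.X 0 : MvPolynomial (Fin 2) V)), (Ideal.Quotient.mk (Ideal.span {(MvPolynomial.X 0 * MvPolynomial.X 1 - MvPolynomial.C ϖ : MvPolynomial (Fin 2) V)}) (MvPolynomial.X 1 : MvPolynomial (Fin 2) V))} : Set (MvPolynomial (Fin 2) V ⧸ Ideal.span {(MvPolynomial.X 0 * MvPolynomial.X 1 - MvPolynomial.C ϖ : MvPolynomial (Fin 2) V)})))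
    (f : Localization.Away h)
    (hf : ((algebraMap (Localization.Away h)
        (Localization.Away (algebraMap V (Localization.Away h) ϖ))).comp
          (Polynomial.aeval f : Polynomial V →ₐ[V] Localization.Away h).toRingHom).Etale) :
    (KaehlerDifferential.D V (Localization.Away h ⧸ Ideal.span
        ({algebraMap (MvPolynomial (Fin 2) V ⧸ Ideal.span {(MvPolynomial.X 0 * MvPolynomial.X 1 - MvPolynomial.C ϖ : MvPolynomial (Fin 2) V)}) (Localization.Away h) (Ideal.Quotient.mk (Ideal.span {(MvPolynomial.X 0 * MvPolynomial.X 1 - MvPolynomial.C ϖ : MvPolynomial (Fin 2) V)}) (MvPolynomial.X 0 : MvPolynomial (Fin 2) V))} : Set (Localization.Away h)))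
        (Ideal.Quotient.mk _ f) = 0 ∨
     KaehlerDifferential.D V (Localization.Away h ⧸ Ideal.span
        ({algebraMap (MvPolynomial (Fin 2) V ⧸ Ideal.span {(MvPolynomial.X 0 * MvPolynomial.X 1 - MvPolynomial.C ϖ : MvPolynomial (Fin 2) V)}) (Localization.Away h) (Ideal.Quotient.mk (Ideal.span {(MvPolynomial.X 0 * MvPolynomial.X 1 - MvPolynomial.C ϖ : MvPolynomial (Fin 2) V)}) (MvPolynomial.X 1 : MvPolynomial (Fin 2) V))} : Set (Localization.Away h)))
        (Ideal.Quotient.mk _ f) = 0) ∧
    (CharZero (IsLocalRing.ResidueField V) →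
      ¬ (Polynomial.aeval f : Polynomial V →ₐ[V] Localization.Away h).toRingHom.QuasiFinite) := by
  classical
  let S := Localization.Away h
  let π : S := algebraMap V S ϖ
  let S2 := Localization.Away π
  let θ := extendLoc (T := S) (Submonoid.powers h) (theta ϖ) (theta_fst ϖ)
  let u := (θ f).snd
  let I : Fin 2 → Ideal S := fun i => Ideal.span {algebraMap (Node ϖ) S (co ϖ i)}
  have hhi : ∀ i, comp hϖ i h ≠ 0 := by
    intro i hi
    rw [comp_ker] at hi
    refine hh (Ideal.span_mono ?_ hi)
    fin_cases i <;> simp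
  suffices u ∈ I 0 ∨ u ∈ I 1 by
    rcases this with hu | hu
    · obtain ⟨h1, h2⟩ := component hϖ h 0 (hhi 0) f hu
      exact ⟨Or.inl h1, h2⟩
    · obtain ⟨h1, h2⟩ := component hϖ h 1 (hhi 1) f hu
      exact ⟨Or.inr h1, h2⟩
  -- `u` becomes a unit on the generic fibre
  have hu2 : IsUnit (algebraMap S S2 u) := by
    let θ2 := extendLoc (T := S2) (Submonoid.powers π) θ
      (extendLoc_fst (T := S) (Submonoid.powers h) (theta ϖ) (theta_fst ϖ))
    let δ : Derivation V S2 S2 := derOf θ2 (extendLoc_fst (T := S2) _ _ _)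
    have hδ : ∀ z : S, δ (algebraMap S S2 z) = algebraMap S S2 (θ z).snd := fun z => by
      show (θ2 (algebraMap S S2 z)).snd = _
      simp [θ2, extendLoc_alg]
    let α : Polynomial V →ₐ[V] S2 := (IsScalarTower.toAlgHom V S S2).comp (Polynomial.aeval f)
    obtain ⟨c, hc⟩ := exists_smul_D α hf (algebraMap S S2 (algebraMap (Node ϖ) S (co ϖ 0)))
    have hαX : α Polynomial.X = algebraMap S S2 f := by simp [α]
    rw [hαX] at hc
    have h1 := congrArg δ.liftKaehlerDifferential hc
    rw [map_smul, Derivation.liftKaehlerDifferential_comp_D,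
      Derivation.liftKaehlerDifferential_comp_D, hδ, hδ] at h1
    have hx : (θ (algebraMap (Node ϖ) S (co ϖ 0))).snd = algebraMap (Node ϖ) S (co ϖ 0) := by
      simp [θ, extendLoc_alg, theta, nodeHom_co]
    rw [hx] at h1
    have hxu : IsUnit (algebraMap S S2 (algebraMap (Node ϖ) S (co ϖ 0))) := by
      refine isUnit_of_mul_isUnit_left (y := algebraMap S S2 (algebraMap (Node ϖ) S (co ϖ 1))) ?_
      rw [← map_mul, ← map_mul, co_mul, ← IsScalarTower.algebraMap_apply V (Node ϖ) S]
      exact IsLocalization.Away.algebraMap_isUnit π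
    rw [h1] at hxu
    exact isUnit_of_mul_isUnit_right hxu
  -- the value at the node
  let χ0 : Node ϖ →ₐ[V] IsLocalRing.ResidueField V :=
    nodeHom (fun _ => (0 : IsLocalRing.ResidueField V)) (by rw [residue_uniformizer hϖ, mul_zero])
  have hχh : χ0 h ≠ 0 := by
    intro h0
    have h1 : χ0 = ((Polynomial.aeval (0 : IsLocalRing.ResidueField V)).restrictScalars V).comp (comp hϖ 0) := by
      refine node_ext fun i => ?_
      rw [AlgHom.comp_apply, comp_co]
      simp only [χ0, nodeHom_co]
      split <;> simp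
    rw [h1, AlgHom.comp_apply, AlgHom.restrictScalars_apply, Polynomial.coe_aeval_eq_eval,
      ← Polynomial.coeff_zero_eq_eval_zero, ← Polynomial.X_dvd_iff] at h0
    obtain ⟨Q, hQ⟩ := h0
    obtain ⟨q, rfl⟩ := comp_surjective hϖ 0 Q
    have h2 : comp hϖ 0 (h - co ϖ 1 * q) = 0 := by
      rw [map_sub, map_mul, comp_co, if_neg (by decide), hQ, sub_self]
    rw [comp_ker] at h2
    refine hh ?_
    have h3 := Ideal.mem_span_singleton'.1 h2
    obtain ⟨c, hc⟩ := h3
    exact Ideal.mem_span_pair.2 ⟨c, q, by rw [hc]; ring⟩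
  let χ : S →ₐ[V] IsLocalRing.ResidueField V := IsLocalization.liftAlgHom (M := Submonoid.powers h) (f := χ0) (by
    rintro ⟨_, m, rfl⟩
    simp only [map_pow]
    exact (isUnit_iff_ne_zero.2 hχh).pow m)
  have hχθ : χ u = 0 := by
    let g1 : S →ₐ[V] TrivSqZeroExt (IsLocalRing.ResidueField V) (IsLocalRing.ResidueField V) :=
      { toFun := fun z => pr (χ z) (χ (θ z).snd)
        map_one' := by refine TrivSqZeroExt.ext ?_ ?_ <;> simp [algebraMap_eq_inl']
        map_mul' := fun a b => by
          refine TrivSqZeroExt.ext ?_ ?_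
          · simp
          · simp [θ, extendLoc_fst, op_smul_eq_smul]
        map_zero' := by refine TrivSqZeroExt.ext ?_ ?_ <;> simp
        map_add' := fun a b => by refine TrivSqZeroExt.ext ?_ ?_ <;> simp
        commutes' := fun r => by refine TrivSqZeroExt.ext ?_ ?_ <;> simp [algebraMap_eq_inl'] }
    let g2 : S →ₐ[V] TrivSqZeroExt (IsLocalRing.ResidueField V) (IsLocalRing.ResidueField V) := ((inlAlgHom (IsLocalRing.ResidueField V) (IsLocalRing.ResidueField V) (IsLocalRing.ResidueField V)).restrictScalars V).comp χ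
    have : g1 = g2 := by
      refine loc_ext h fun l => ?_
      refine TrivSqZeroExt.ext ?_ ?_
      · simp [g1, g2]
      · show χ (θ (algebraMap (Node ϖ) S (co ϖ l))).snd = (inl (χ _) : TrivSqZeroExt (IsLocalRing.ResidueField V) (IsLocalRing.ResidueField V)).snd
        rw [TrivSqZeroExt.snd_inl]
        show χ (extendLoc (T := S) (Submonoid.powers h) (theta ϖ) (theta_fst ϖ) (algebraMap (Node ϖ) S (co ϖ l))).snd = 0
        rw [extendLoc_alg, snd_pr]
        have hχl : ∀ z, χ (algebraMap (Node ϖ) S z) = χ0 z := fun z => by simp [χ]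
        rw [hχl]
        fin_cases l <;> simp [theta, nodeHom_co, χ0]
    have h1 := congrArg TrivSqZeroExt.snd (AlgHom.congr_fun this f)
    simpa [g1, g2] using h1
  by_contra hcon
  push Not at hcon
  have hcop : co ϖ 0 * co ϖ 1 = algebraMap V (Node ϖ) ϖ := co_mul ϖ
  have hmem : ∀ i (a : S), a ∈ I i ↔ ∃ c, a = algebraMap (Node ϖ) S (co ϖ i) * c := fun i a =>
    ⟨fun h => by obtain ⟨c, rfl⟩ := Ideal.mem_span_singleton'.1 h; exact ⟨c, mul_comm _ _⟩,
      fun ⟨c, hc⟩ => hc ▸ Ideal.mul_mem_right _ _ (Ideal.mem_span_singleton_self _)⟩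
  -- the component ideals are prime and meet in `(ϖ)`
  have hker : ∀ i, ∃ (L : Type u) (_ : CommRing L) (_ : IsDomain L) (ψ : S →+* L),
      (∀ z, ψ z = 0 ↔ z ∈ I i) ∧ ψ (algebraMap (Node ϖ) S (co ϖ (1 - i))) ≠ 0 := by
    intro i
    let hb := comp hϖ i h
    let L := Localization.Away hb
    have hinj := IsLocalization.injective L (powers_le_nonZeroDivisors_of_noZeroDivisors (hhi i))
    let ψ : S →+* L := IsLocalization.map L (comp hϖ i).toRingHom
      (M := Submonoid.powers h) (T := Submonoid.powers hb) (by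
        rintro _ ⟨m, rfl⟩
        exact ⟨m, (map_pow _ _ _).symm⟩)
    refine ⟨L, _, IsLocalization.isDomain_localization
      (powers_le_nonZeroDivisors_of_noZeroDivisors (hhi i)), ψ, fun z => ⟨fun hz => ?_, fun hz => ?_⟩, ?_⟩
    · obtain ⟨a, s, rfl⟩ := IsLocalization.exists_mk'_eq (Submonoid.powers h) z
      have h1 : algebraMap (Polynomial (IsLocalRing.ResidueField V)) L (comp hϖ i a) = 0 := by
        have h2 := congrArg ψ (IsLocalization.mk'_spec S a s)
        rw [map_mul, hz, zero_mul, IsLocalization.map_eq] at h2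
        exact h2.symm
      rw [map_eq_zero_iff _ hinj, comp_ker] at h1
      obtain ⟨c, rfl⟩ := Ideal.mem_span_singleton'.1 h1
      rw [mul_comm c, ← IsLocalization.mul_mk'_eq_mk'_of_mul]
      exact Ideal.mul_mem_right _ _ (Ideal.mem_span_singleton_self _)
    · obtain ⟨c, rfl⟩ := (hmem i z).1 hz
      rw [map_mul, IsLocalization.map_eq]
      show algebraMap _ _ (comp hϖ i (co ϖ i)) * _ = 0
      rw [comp_co, if_pos rfl, map_zero, zero_mul]
    · rw [IsLocalization.map_eq, map_ne_zero_iff _ hinj]
      show comp hϖ i (co ϖ (1 - i)) ≠ 0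
      rw [comp_co, if_neg (by fin_cases i <;> decide)]
      exact Polynomial.X_ne_zero
  obtain ⟨L0, _, _, ψ0, hψ0, hψ01⟩ := hker 0
  obtain ⟨L1, _, _, ψ1, hψ1, hψ10⟩ := hker 1
  have hstep : ∀ (N : ℕ) (w : S), u * w = π ^ N → IsUnit u := by
    intro N
    induction N with
    | zero => intro w hw; exact IsUnit.of_mul_eq_one w (by simpa using hw)
    | succ N ih =>
      intro w hw
      have hπ0 : ψ0 π = 0 := (hψ0 π).2 ((hmem 0 π).2 ⟨algebraMap (Node ϖ) S (co ϖ 1), by
        rw [← map_mul, co_mul, ← IsScalarTower.algebraMap_apply]⟩)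
      have hπ1 : ψ1 π = 0 := (hψ1 π).2 ((hmem 1 π).2 ⟨algebraMap (Node ϖ) S (co ϖ 0), by
        rw [← map_mul, show co ϖ 1 * co ϖ 0 = algebraMap V (Node ϖ) ϖ from (mul_comm _ _).trans (co_mul ϖ), ← IsScalarTower.algebraMap_apply]⟩)
      have h0 : w ∈ I 0 := by
        have := congrArg ψ0 hw
        rw [map_mul, map_pow, hπ0, zero_pow (Nat.succ_ne_zero _), mul_eq_zero] at this
        exact (hψ0 w).1 (this.resolve_left fun h => hcon.1 ((hψ0 u).1 h))
      have h1 : w ∈ I 1 := by
        have := congrArg ψ1 hw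
        rw [map_mul, map_pow, hπ1, zero_pow (Nat.succ_ne_zero _), mul_eq_zero] at this
        exact (hψ1 w).1 (this.resolve_left fun h => hcon.2 ((hψ1 u).1 h))
      obtain ⟨a, rfl⟩ := (hmem 0 w).1 h0
      have ha : a ∈ I 1 := by
        have h2 := (hψ1 _).2 h1
        rw [map_mul, mul_eq_zero] at h2
        exact (hψ1 a).1 (h2.resolve_left hψ10)
      obtain ⟨b, rfl⟩ := (hmem 1 a).1 ha
      refine ih b (sub_eq_zero.1 (torsionFree_loc hϖ h _ ?_))
      rw [pow_succ] at hw
      have hπe : π = algebraMap (Node ϖ) S (co ϖ 0) * algebraMap (Node ϖ) S (co ϖ 1) := by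
        rw [← map_mul, co_mul, ← IsScalarTower.algebraMap_apply]
      show π * (u * b - π ^ N) = 0
      linear_combination hw + u * b * hπe
  obtain ⟨v, hv⟩ := hu2.exists_right_inv
  obtain ⟨w, ⟨_, N, rfl⟩, rfl⟩ := IsLocalization.exists_mk'_eq (Submonoid.powers π) v
  rw [IsLocalization.mul_mk'_eq_mk'_of_mul, IsLocalization.mk'_eq_iff_eq_mul, one_mul] at hv
  obtain ⟨M, hM⟩ := IsLocalization.Away.exists_of_eq π hv
  have hU := hstep (M + N) (π ^ M * w) (by rw [pow_add]; linear_combination hM)
  exact not_isUnit_zero (hχθ ▸ hU.map χ)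

end Groth.Agent.S14386
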