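import Groth.Prelude.Def_Hensel
import Mathlib.RingTheory.DiscreteValuationRing.Basic
import Mathlib.RingTheory.TensorProduct.Basic
import Mathlib.RingTheory.FiniteType
import Mathlib.RingTheory.Localization.AtPrime.Basic
import Mathlib.FieldTheory.IsAlgClosed.Basic
import Mathlib.FieldTheory.Perfect
import Mathlib.RingTheory.Algebraic.Defs
import Mathlib.RingTheory.Spectrum.Prime.Topology
import Mathlib.Topology.Connected.Clopen
import Groth.Agent.Lib.MilnorFib6.Noeth
import Groth.Agent.Lib.Hens.Noetherian

set_option autoImplicit false
open scoped TensorProduct
universe u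
open Hensel

namespace Groth.Agent.S14387

/-- Let V be a strictly henselian discrete valuation ring (henselian with separably closed residue field
k) of characteristic zero with k perfect, L an algebraically closed field algebraic over the
fraction field of V, given as a V-algebra into which V embeds, A a V-algebra of finite type, 𝔭 a
prime ideal of A lying in the closed fibre (it contains the maximal ideal of V), and B a strict
henselization of the local ring A_𝔭. Then the spectrum of L ⊗_V B, which is the algebraic Milnor
fibre of Spec A → Spec V at a geometric point over 𝔭, has finitely many connected components; being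
affine it is also quasi-compact and quasi-separated. (The published statement is for a scheme of
finite type over a henselian discrete valuation ring; this row states the affine case over a
strictly henselian V, to which it reduces.) -/
theorem result (V : Type u) [CommRing V] [IsDomain V]
    [IsDiscreteValuationRing V] [HenselianLocalRing V] [IsSepClosed (IsLocalRing.ResidueField V)]
    [PerfectField (IsLocalRing.ResidueField V)] [CharZero V]
    (L : Type u) [Field L] [IsAlgClosed L] [Algebra V L] [FaithfulSMul V L] [Algebra.IsAlgebraic V L]
    (A : Type u) [CommRing A] [Algebra V A] [Algebra.FiniteType V A]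
    (𝔭 : Ideal A) [𝔭.IsPrime] (h𝔭 : (IsLocalRing.maximalIdeal V).map (algebraMap V A) ≤ 𝔭)
    (B : Type u) [CommRing B] [IsLocalRing B] [Algebra (Localization.AtPrime 𝔭) B]
    [IsLocalHom (algebraMap (Localization.AtPrime 𝔭) B)]
    [Hensel.IsStrictHenselization (Localization.AtPrime 𝔭) B]
    [Algebra V B] [IsScalarTower V (Localization.AtPrime 𝔭) B] :
    Finite (ConnectedComponents (PrimeSpectrum (L ⊗[V] B))) := by
  haveI := Algebra.FiniteType.isNoetherianRing V A
  haveI : IsNoetherianRing (Localization.AtPrime 𝔭) := IsLocalization.isNoetherianRing 𝔭.primeCompl _ inferInstance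
  haveI : IsNoetherianRing B := Groth.Agent.Hens.strictHenselization_isNoetherianRing (Localization.AtPrime 𝔭) B
  have hB : ∀ v ∈ IsLocalRing.maximalIdeal V, algebraMap V B v ∈ IsLocalRing.maximalIdeal B := fun v hv => by
    rw [IsScalarTower.algebraMap_apply V (Localization.AtPrime 𝔭) B, IsLocalRing.mem_maximalIdeal, mem_nonunits_iff]
    intro hu
    have h1 := isUnit_of_map_unit _ _ hu
    rw [IsScalarTower.algebraMap_apply V A (Localization.AtPrime 𝔭),
      IsLocalization.AtPrime.isUnit_to_map_iff (Localization.AtPrime 𝔭) 𝔭] at h1
    exact h1 (h𝔭 (Ideal.mem_map_of_mem _ hv))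
  haveI := Groth.Agent.MilnorFib6.isNoetherianRing_tensor_algClosure V L B hB
  exact Groth.Agent.MilnorFib6.finite_connectedComponents _

end Groth.Agent.S14387
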