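import Groth.Statements.S14388
import Groth.Agent.Lib.DerTrunc.Basic

set_option autoImplicit false
open CategoryTheory CategoryTheory.Limits
universe w v u
open CohDer

namespace Groth.Agent.S14388

open CategoryTheory CategoryTheory.Limits CategoryTheory.Triangulated Pretriangulated Groth.Agent.DerTrunc

variable {C : Type u} [Category.{v} C] [Abelian C] [HasDerivedCategory.{w} C]

local notation "t₀" => DerivedCategory.TStructure.t (C := C)

/-- Cancel `X ⟶ τ≥q X` for maps to an object `≥ q - 1`. -/
theorem cancel_π {X Y : DerivedCategory C} (q : ℤ) [TStructure.IsGE t₀ Y (q - 1)]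
    (D : (TStructure.truncGE t₀ q).obj X ⟶ Y) (h : (TStructure.truncGEπ t₀ q).app X ≫ D = 0) : D = 0 := by
  obtain ⟨g, hg⟩ := Triangle.yoneda_exact₃ _ (TStructure.triangleLTGE_distinguished t₀ q X) D h
  have hg' := TStructure.zero_of_isLE_of_isGE t₀ g (q - 2) (q - 1) (by lia)
    (by exact TStructure.isLE_shift t₀ _ (q - 1) 1 (q - 2) (by lia)) inferInstance
  rw [hg, hg']
  exact comp_zero

/-- Cancel `τ<q X ⟶ X` for maps from an object `≤ q`. -/
theorem cancel_ι {X P : DerivedCategory C} (q : ℤ) [TStructure.IsLE t₀ P q]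
    (D : P ⟶ (TStructure.truncLT t₀ q).obj X) (h : D ≫ (TStructure.truncLTι t₀ q).app X = 0) : D = 0 := by
  apply (shiftFunctor (DerivedCategory C) (1 : ℤ)).map_injective
  rw [Functor.map_zero]
  obtain ⟨g, hg⟩ := Triangle.coyoneda_exact₁ _ (TStructure.triangleLTGE_distinguished t₀ q X) (D⟦(1 : ℤ)⟧')
    (by
      have e := congrArg (fun m => m⟦(1 : ℤ)⟧') h
      simp only [Functor.map_comp, Functor.map_zero] at e
      exact e)
  have hg' := TStructure.zero_of_isLE_of_isGE t₀ g (q - 1) q (by lia)
    (TStructure.isLE_shift t₀ P q 1 (q - 1) (by lia)) inferInstance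
  refine hg.trans ?_
  rw [hg']
  exact zero_comp


/-- Let A be an abelian category, D(A) its derived category with the canonical t-structure and
truncation functors τ_{≥a}, τ_{<b}, and write τ_[a,b] = τ_{≥a} ∘ τ_{<b+1}, so that τ_[q,q] K is
H^q(K) placed in degree q. Let f : K → K' be a morphism in D(A) and q an integer such that the
induced maps H^(q-1)(K) → H^(q-1)(K') and H^q(K) → H^q(K') are both zero. Then there is a unique
morphism L : τ_[q,q] K → τ_[q-1,q-1] K' such that τ_[q-1,q](f) : τ_[q-1,q] K → τ_[q-1,q] K' is the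
composite of the canonical projection τ_[q-1,q] K → τ_[q,q] K, the morphism L, and the canonical
inclusion τ_[q-1,q-1] K' → τ_[q-1,q] K'. (Under τ_[n,n] ≅ H^n(−)[−n] the morphism L corresponds to a
morphism L_f[−q] : H^q(K)[−q] → H^(q-1)(K')[1−q].) -/
theorem result {C : Type u} [Category.{v} C] [Abelian C]
    [HasDerivedCategory.{w} C] {K K' : DerivedCategory C} (f : K ⟶ K') (q : ℤ)
    (h₁ : (DerivedCategory.homologyFunctor C (q - 1)).map f = 0)
    (h₂ : (DerivedCategory.homologyFunctor C q).map f = 0) :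
    ∃! L : ((DerivedCategory.TStructure.t (C := C)).truncGELT q (q + 1)).obj K ⟶
        ((DerivedCategory.TStructure.t (C := C)).truncGELT (q - 1) q).obj K',
      ((DerivedCategory.TStructure.t (C := C)).truncGELT (q - 1) (q + 1)).map f =
        ((DerivedCategory.TStructure.t (C := C)).natTransTruncGEOfLE (q - 1) q (sub_one_lt q).le).app
            (((DerivedCategory.TStructure.t (C := C)).truncLT (q + 1)).obj K) ≫ L ≫
          ((DerivedCategory.TStructure.t (C := C)).truncGE (q - 1)).map
            (((DerivedCategory.TStructure.t (C := C)).natTransTruncLTOfLE q (q + 1) (lt_add_one q).le).app K') := by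
  let T := DerivedCategory.TStructure.t (C := C)
  let W := (T.truncLT (q + 1)).obj K
  let W' := (T.truncLT (q + 1)).obj K'
  let A' := (T.truncGE (q - 1)).obj W'
  let C' := (T.truncGE (q - 1)).obj ((T.truncLT q).obj K')
  let p := (T.natTransTruncGEOfLE (q - 1) q (sub_one_lt q).le).app W
  let η := (T.natTransTruncLTOfLE q (q + 1) (lt_add_one q).le).app K'
  let incl : C' ⟶ A' := (T.truncGE (q - 1)).map η
  let B := (T.truncGE q).obj W
  haveI hW : T.IsLE W q := inferInstance
  haveI hW' : T.IsLE W' q := inferInstance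
  haveI hA : T.IsGE A' (q - 1) := inferInstance
  haveI hA' : T.IsLE A' q := inferInstance
  haveI hB : T.IsLE B q := inferInstance
  haveI hC1 : T.IsGE C' (q - 1) := inferInstance
  haveI hC2 : T.IsLE C' (q - 1) := inferInstance
  -- `incl` factors as an iso followed by `τ<q A' ⟶ A'`
  let j : C' ⟶ (T.truncLT q).obj A' := T.liftTruncLT incl (q - 1) q (by lia)
  have hj : j ≫ (T.truncLTι q).app A' = incl := T.liftTruncLT_ι incl (q - 1) q (by lia)
  haveI hincl : IsIso ((DerivedCategory.homologyFunctor C (q - 1)).map incl) := by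
    haveI := isIso_homology_truncGEπ ((T.truncLT q).obj K') (q - 1) (q - 1) le_rfl
    haveI := isIso_homology_truncGEπ W' (q - 1) (q - 1) le_rfl
    haveI := isIso_homology_truncLTι K' q (q - 1) (by lia)
    haveI := isIso_homology_truncLTι K' (q + 1) (q - 1) (by lia)
    have e1 : (DerivedCategory.homologyFunctor C (q - 1)).map η ≫ (DerivedCategory.homologyFunctor C (q - 1)).map ((T.truncLTι (q + 1)).app K') =
        (DerivedCategory.homologyFunctor C (q - 1)).map ((T.truncLTι q).app K') := by
      rw [← Functor.map_comp, T.natTransTruncLTOfLE_ι_app]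
    haveI : IsIso ((DerivedCategory.homologyFunctor C (q - 1)).map η) := IsIso.of_isIso_fac_right e1
    have e2 := congrArg (DerivedCategory.homologyFunctor C (q - 1)).map (T.truncGEπ_naturality (q - 1) η)
    rw [Functor.map_comp, Functor.map_comp] at e2
    exact IsIso.of_isIso_fac_left e2
  haveI hjiso : IsIso j := by
    rw [DerivedCategory.isIso_iff]
    intro i
    haveI h1 : DerivedCategory.IsGE C' (q - 1) := hC1
    haveI h2 : DerivedCategory.IsLE C' (q - 1) := hC2
    haveI h3 : DerivedCategory.IsLE ((T.truncLT q).obj A') (q - 1) :=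
      (inferInstance : T.IsLE ((T.truncLT q).obj A') (q - 1))
    haveI h4 : DerivedCategory.IsGE ((T.truncLT q).obj A') (q - 1) :=
      (inferInstance : T.IsGE ((T.truncLT q).obj A') (q - 1))
    rcases lt_trichotomy i (q - 1) with hi | hi | hi
    · exact Limits.IsZero.isIso (DerivedCategory.isZero_of_isGE _ (q - 1) i hi)
        (DerivedCategory.isZero_of_isGE _ (q - 1) i hi) _
    · subst hi
      haveI := isIso_homology_truncLTι A' q (q - 1) (by lia)
      have e := congrArg (DerivedCategory.homologyFunctor C (q - 1)).map hj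
      rw [Functor.map_comp] at e
      exact IsIso.of_isIso_fac_right e
    · exact Limits.IsZero.isIso (DerivedCategory.isZero_of_isLE _ (q - 1) i hi)
        (DerivedCategory.isZero_of_isLE _ (q - 1) i hi) _
  let g : W ⟶ A' := (T.truncLT (q + 1)).map f ≫ (T.truncGEπ (q - 1)).app W'
  have hg : ∀ i : ℤ, i ≤ q → (DerivedCategory.homologyFunctor C i).map f = 0 → (DerivedCategory.homologyFunctor C i).map g = 0 := by
    intro i hi hf
    haveI := isIso_homology_truncLTι K' (q + 1) i (by lia)
    have e := congrArg (DerivedCategory.homologyFunctor C i).map ((T.truncLTι (q + 1)).naturality f)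
    rw [Functor.map_comp, Functor.map_comp, Functor.id_map, hf, comp_zero] at e
    have e' : (DerivedCategory.homologyFunctor C i).map ((T.truncLT (q + 1)).map f) = 0 := by
      rw [← cancel_mono ((DerivedCategory.homologyFunctor C i).map ((T.truncLTι (q + 1)).app K')), zero_comp]
      exact e
    simp only [g, Functor.map_comp, e', zero_comp]
  have hι : (T.truncLTι q).app W ≫ g = 0 := by
    haveI : DerivedCategory.IsLE ((T.truncLT q).obj W) (q - 1) :=
      (inferInstance : T.IsLE ((T.truncLT q).obj W) (q - 1))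
    haveI : DerivedCategory.IsGE A' (q - 1) := hA
    exact hom_eq_zero_of_isLE_of_isGE (q - 1) _ (by rw [Functor.map_comp, hg (q - 1) (by lia) h₁, comp_zero])
  obtain ⟨g1, hg1⟩ : ∃ g1 : B ⟶ A', g = (T.truncGEπ q).app W ≫ g1 :=
    Triangle.yoneda_exact₂ _ (T.triangleLTGE_distinguished q W) g hι
  have hg2 : g1 ≫ (T.truncGEπ q).app A' = 0 := by
    haveI : DerivedCategory.IsLE B q := hB
    haveI : DerivedCategory.IsGE ((T.truncGE q).obj A') q :=
      (inferInstance : T.IsGE ((T.truncGE q).obj A') q)
    refine hom_eq_zero_of_isLE_of_isGE q (g1 ≫ (T.truncGEπ q).app A') ?_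
    haveI := isIso_homology_truncGEπ W q q le_rfl
    have e : (DerivedCategory.homologyFunctor C q).map ((T.truncGEπ q).app W) ≫ (DerivedCategory.homologyFunctor C q).map g1 = 0 :=
      ((Functor.map_comp _ _ _).symm.trans (congrArg (DerivedCategory.homologyFunctor C q).map hg1.symm)).trans (hg q le_rfl h₂)
    rw [Functor.map_comp, (cancel_epi ((DerivedCategory.homologyFunctor C q).map ((T.truncGEπ q).app W))).1 (e.trans comp_zero.symm)]
    exact zero_comp
  obtain ⟨g2, hg3⟩ : ∃ g2 : B ⟶ (T.truncLT q).obj A', g1 = g2 ≫ (T.truncLTι q).app A' :=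
    Triangle.coyoneda_exact₂ _ (T.triangleLTGE_distinguished q A') g1 hg2
  let L₀ : B ⟶ C' := g2 ≫ inv j
  have hL₀ : (T.truncGEπ q).app W ≫ L₀ ≫ incl = g := by
    rw [← hj]
    simp only [L₀, Category.assoc, IsIso.inv_hom_id_assoc]
    exact (congrArg ((T.truncGEπ q).app W ≫ ·) hg3.symm).trans hg1.symm
  have hp : (T.truncGEπ (q - 1)).app W ≫ p = (T.truncGEπ q).app W :=
    T.π_natTransTruncGEOfLE_app _ _ _ W
  have hF : (T.truncGEπ (q - 1)).app W ≫ (T.truncGE (q - 1)).map ((T.truncLT (q + 1)).map f) = g :=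
    T.truncGEπ_naturality (q - 1) ((T.truncLT (q + 1)).map f)
  refine ⟨L₀, ?_, fun (L : B ⟶ C') hL => ?_⟩
  · change (T.truncGE (q - 1)).map ((T.truncLT (q + 1)).map f) = p ≫ L₀ ≫ incl
    exact T.from_truncGE_obj_ext (hF.trans (hL₀.symm.trans (by rw [reassoc_of% hp])))
  · change (T.truncGE (q - 1)).map ((T.truncLT (q + 1)).map f) = p ≫ L ≫ incl at hL
    have e : (T.truncGEπ q).app W ≫ (L - L₀) ≫ incl = 0 := by
      rw [Preadditive.sub_comp, Preadditive.comp_sub, hL₀, ← hp, Category.assoc, ← hL, hF, sub_self]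
    have e2 : ((L - L₀) ≫ j) ≫ (T.truncLTι q).app A' = 0 := by
      rw [Category.assoc, hj]
      exact @cancel_π C _ _ _ W A' q hA _ e
    have e3 : L - L₀ = 0 := by
      rw [← cancel_mono j, zero_comp]
      exact cancel_ι q _ e2
    exact sub_eq_zero.1 e3


end Groth.Agent.S14388
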