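import Groth.Statements.S14389
import Groth.Agent.Lib.BaseChangeH28.Basic

set_option autoImplicit false
open CategoryTheory CategoryTheory.Limits AlgebraicGeometry Opposite
universe u
open EtLim

namespace Groth.Agent.S14389

/-- For small étale sites of schemes: let g' ≫ f = f' ≫ g be a commutative square of schemes with f : X
→ Y, g : Y' → Y, f' : X' → Y', g' : X' → X, and let F be an abelian sheaf on the small étale site of
X. For every q and every class ζ in H^q(Y_ét, f_*F), the pullback along g' of the image of ζ under
the canonical map H^q(Y, f_*F) → H^q(X, F) (pull back along f, then apply the counit f⁻¹f_*F → F)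
equals the image of g^*ζ ∈ H^q(Y', g⁻¹f_*F) under the map induced by the base-change morphism
g⁻¹f_*F → f'_*g'⁻¹F followed by the canonical map H^q(Y', f'_*g'⁻¹F) → H^q(X', g'⁻¹F). (The
published statement is for a commutative square of topoi with a chosen isomorphism f_*g'_* ≅
g_*f'_*; this row is the square of étale topoi of schemes. Exactness of pullback of abelian sheaves,
which always holds, is carried as instance hypotheses.) -/
theorem result {X Y X' Y' : Scheme.{u}} (f : X ⟶ Y)
    (g : Y' ⟶ Y) (f' : X' ⟶ Y') (g' : X' ⟶ X) (w : g' ≫ f = f' ≫ g) (F : EtCoh.Ab X) (q : ℕ)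
    [PreservesFiniteLimits (EtCoh.pull f)] [PreservesFiniteLimits (EtCoh.pull g)]
    [PreservesFiniteLimits (EtCoh.pull f')] [PreservesFiniteLimits (EtCoh.pull g')]
    (ζ : EtCoh.H Y ((EtCoh.push f).obj F) q) :
    EtCore.Hpull g' F q (EtLim.HofPush f F q ζ) =
      EtLim.HofPush f' ((EtCoh.pull g').obj F) q
        (((EtCoh.HF Y' q).map (EtCoh.baseChange0 f g f' g' w F)).hom
          (EtCore.Hpull g ((EtCoh.push f).obj F) q ζ)) := by
  exact Groth.Agent.BaseChangeH28.main f g f' g' w F q ζ

end Groth.Agent.S14389
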