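import Groth.Statements.S14392
import Groth.Agent.Lib.KPiP24.Main

set_option autoImplicit false
open CategoryTheory CategoryTheory.Limits AlgebraicGeometry Opposite
universe u
open EtCoh

namespace Groth.Agent.S14392

/-- Let p be a prime number and X a connected affine scheme of characteristic p (p = 0 in the ring of
global sections). Then X is a K(π,1) for p-torsion coefficients: for every finite locally constant
abelian sheaf F on the small étale site of X killed by some power p^h (h ≥ 0, equivalently by an
integer n ≥ 1 whose only prime factor is p), every q > 0 and every class ζ ∈ H^q(X_ét, F), there is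
a finite étale surjective morphism g : X' → X such that g^*ζ = 0 in H^q(X'_ét, g⁻¹F). (Exactness of
pullback of abelian sheaves, which always holds, is carried as an instance hypothesis.) -/
theorem result (p : ℕ) [Fact p.Prime] (X : Scheme.{u}) [IsAffine X]
    [ConnectedSpace ↥X] [CharP Γ(X, ⊤) p] (F : EtCoh.Ab X) (hF : EtCoh.IsFiniteLocallyConstant F)
    (htor : ∃ h : ℕ, EtCoh.KilledBy (p ^ h) F) (q : ℕ) (hq : 0 < q) (ζ : EtCoh.H X F q) :
    ∃ (X' : Scheme.{u}) (g : X' ⟶ X), IsFinite g ∧ Etale g ∧ Surjective g ∧
      ∀ [PreservesFiniteLimits (EtCoh.pull g)], EtCore.Hpull g F q ζ = 0 := by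
  obtain ⟨h, hh⟩ := htor
  rcases Nat.lt_or_ge q 2 with h2 | h2
  · obtain rfl : q = 1 := by omega
    obtain ⟨W, hfin, hsur, hk⟩ := Groth.Agent.TorsorRep24.exists_finite_etale_kills hF ζ
    haveI : Etale W.hom := W.prop
    exact ⟨W.left, W.hom, hfin, inferInstance, hsur, hk⟩
  · refine ⟨X, 𝟙 X, inferInstance, inferInstance, inferInstance, ?_⟩
    intro _
    haveI := Groth.Agent.KPiP24.subsingleton_H_pow p (CharP.cast_eq_zero _ p) h hF
      (Groth.Agent.Filt24.nsmul_id_of_killedBy hh) q h2
    rw [Subsingleton.elim ζ 0, map_zero]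

end Groth.Agent.S14392
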