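import Groth.Statements.S14397
import Mathlib

set_option autoImplicit false
universe u
open DualGr

namespace Groth.Agent.S14397

set_option backward.isDefEq.respectTransparency false


/-- Let (V, E) with endpoint map E → V × V be a finite multigraph (loops and parallel edges allowed; the
order of the two endpoints is an auxiliary orientation), and let D_1, …, D_n be finite sets of edges
such that every edge lies outside at least one D_i. For each i let Γ_i be the multigraph obtained by
contracting the edges of D_i, and let H₁(Γ, ℤ) → H₁(Γ_i, ℤ) be the map of cycle lattices (integer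
edge vectors with zero boundary) given by restriction to the surviving edges. Then the map H₁(Γ, ℤ)
→ ⊕_i H₁(Γ_i, ℤ) has torsion-free cokernel. (The published statement is about the connected labelled
dual graph of the closed fibre of a nodal curve, smooth outside a normal crossing divisor with
components D_1, …, D_n, over a Noetherian regular strictly local base; Γ_i is the dual graph of the
fibre over the generic point of D_i, the lattices are identified with the character groups of the
toric parts of the Picard schemes of these fibres, and the map is the generization map of character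
groups; this row states the assertion about cycle lattices, for any finite multigraph, which is what
the argument establishes.) -/
theorem result
    {V E : Type u} [Fintype V] [Fintype E] [DecidableEq V] [DecidableEq E]
    (ends : E → V × V) {n : ℕ} (D : Fin n → Finset E) (hcover : ∀ e : E, ∃ i : Fin n, e ∉ D i) :
    IsAddTorsionFree (((i : Fin n) → ↥(DualGr.cycleLattice (DualGr.ctrEnds ends (D i)))) ⧸
      LinearMap.range (LinearMap.pi fun i : Fin n => DualGr.genMap ends (D i))) := by

  classical
  refine ⟨fun m hm a b hab => ?_⟩
  rw [← sub_eq_zero]
  have h0 : m • (a - b) = 0 := by rw [smul_sub]; exact sub_eq_zero.2 hab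
  generalize a - b = c at h0 ⊢
  obtain ⟨x, rfl⟩ := Submodule.Quotient.mk_surjective _ c
  rw [← Submodule.Quotient.mk_smul, Submodule.Quotient.mk_eq_zero] at h0
  obtain ⟨γ, hγ⟩ := h0
  have hdiv : ∀ e : E, (m : ℤ) ∣ γ.1 e := fun e => by
    obtain ⟨i, hi⟩ := hcover e
    have h := congrFun (congrArg Subtype.val (congrFun hγ i)) ⟨e, hi⟩
    change γ.1 e = m • ((x i).1 ⟨e, hi⟩) at h
    exact ⟨(x i).1 ⟨e, hi⟩, by rw [h, nsmul_eq_mul]⟩
  choose δ hδ using hdiv
  have hδc : δ ∈ DualGr.cycleLattice ends := by
    have h := γ.2
    change DualGr.boundaryHom ends γ.1 = 0 at h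
    change DualGr.boundaryHom ends δ = 0
    rw [show (γ.1 : E → ℤ) = (m : ℤ) • δ from funext fun e => hδ e, map_smul] at h
    exact (smul_eq_zero.1 h).resolve_left (by exact_mod_cast hm)
  rw [Submodule.Quotient.mk_eq_zero]
  refine ⟨⟨δ, hδc⟩, funext fun i => Subtype.ext (funext fun e => ?_)⟩
  have h := congrFun (congrArg Subtype.val (congrFun hγ i)) e
  change γ.1 e.1 = m • ((x i).1 e) at h
  change δ e.1 = (x i).1 e
  rw [hδ, nsmul_eq_mul] at h
  exact mul_left_cancel₀ (by exact_mod_cast hm) h

end Groth.Agent.S14397
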