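import Groth.Statements.S14399
import Groth.Agent.Lib.SemiTriv14.Fibre

set_option autoImplicit false
universe u
open CategoryTheory AlgebraicGeometry
open SemiFact

namespace Groth.Agent.S14399

/-- Let R be a discrete valuation ring with perfect fraction field K and residue field k, and f : X →
Spec R a nodal curve (proper, flat, locally of finite presentation, geometric fibres connected with
one-dimensional irreducible components and at most ordinary double points) whose special fibre X_k
has split singularities: every closed point of X_k either has an open neighbourhood smooth over k or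
has completed local ring isomorphic over k to k[[u,v]]/(uv). Let L be an invertible O_X-module whose
pullback to the generic fibre X_K is isomorphic to the structure sheaf. If the degree over k of the
restriction of L to every irreducible component of X_k — each taken with its reduced structure, as
an integral curve over k closed-immersed in X over Spec R — is zero, then L is isomorphic to O_X.
(The published lemma states that the multidegree of generically trivial invertible modules is
computed by the multidegree operator on Cartier vertex labellings of the labelled dual graph, and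
its proof records that this multidegree map on generically trivial invertible modules is injective;
this row is that injectivity.) -/
theorem result
    (R : Type u) [CommRing R] [IsDomain R] [IsDiscreteValuationRing R]
    [PerfectField (FractionRing R)]
    {X : Scheme.{u}} (f : X ⟶ Spec (CommRingCat.of R)) [IsProper f]
    (hf : Curv2.IsNodalFamily f)
    (hconn : ∀ (L : Type u) [Field L] (t : Spec (CommRingCat.of L) ⟶ Spec (CommRingCat.of R)),
      ConnectedSpace ↑(Limits.pullback f t))
    (hsplit : ∀ y : ↥(f.fiber (IsLocalRing.closedPoint R)), IsClosed ({y} : Set ↥(f.fiber (IsLocalRing.closedPoint R))) →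
        (∃ W : (f.fiber (IsLocalRing.closedPoint R)).Opens, y ∈ W ∧ Smooth (W.ι ≫ f.fiberToSpecResidueField (IsLocalRing.closedPoint R))) ∨
        @Curv2.IsOrdDoublePt ((Spec (CommRingCat.of R)).residueField (IsLocalRing.closedPoint R)) _ ((f.fiber (IsLocalRing.closedPoint R)).presheaf.stalk y) _ (@Curv2.stalkAlgebra ((Spec (CommRingCat.of R)).residueField (IsLocalRing.closedPoint R)) _ (f.fiber (IsLocalRing.closedPoint R)) ⟨f.fiberToSpecResidueField (IsLocalRing.closedPoint R)⟩ y) _)
    (L : X.Modules) (hL : PicF.IsInvertible L)
    (hgen : Nonempty ((Scheme.Modules.pullback (Limits.pullback.fst f (Neron.genPt R))).obj L ≅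
      Coh.structureModule (Limits.pullback f (Neron.genPt R))))
    (hdeg : ∀ Γ : ArSurf.VertComp R (Over.mk f), ArSurf.inter R (Over.mk f) L Γ = 0) :
    Nonempty (L ≅ Coh.structureModule X) := by
  haveI : Flat f := hf.1
  haveI := SemiTriv14.isReduced_fiber f hf
  haveI : IsLocallyNoetherian X := LocallyOfFiniteType.isLocallyNoetherian f
  haveI : CompactSpace X := QuasiCompact.compactSpace_of_compactSpace f
  haveI : QuasiSeparatedSpace X := quasiSeparatedSpace_of_quasiSeparated f
  obtain ⟨ϖ, hϖ⟩ := IsDiscreteValuationRing.exists_irreducible R
  haveI : ConnectedSpace (Limits.pullback f (SemiTriv14.toSpec (R := R)) : Scheme.{u}) :=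
    hconn (IsLocalRing.ResidueField R) _
  obtain ⟨z⟩ : Nonempty (Limits.pullback f (SemiTriv14.toSpec (R := R)) : Scheme.{u}) := inferInstance
  have hz : f (Limits.pullback.fst f (SemiTriv14.toSpec (R := R)) z) = IsLocalRing.closedPoint R := by
    have h : Limits.pullback.fst f (SemiTriv14.toSpec (R := R)) z ∈
        Set.range (Limits.pullback.fst f (SemiTriv14.toSpec (R := R))) := ⟨z, rfl⟩
    rwa [Scheme.Pullback.range_fst, SemiTriv14.range_toSpec] at h
  obtain ⟨s, hs⟩ := SemiTriv14.exists_gen_generic f hϖ hgen
  obtain ⟨t₀, ht₀⟩ := SemiTriv14.exists_gen_extension f hL s hs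
  obtain ⟨t, ht, x, hx, hxt⟩ := SemiTriv14.exists_gen_special f hL hϖ t₀ ht₀ _
    fun h => (SemiTriv14.mem_genOpen_iff f hϖ _).1 h hz
  have htop : CohB1.genLocus L (M1.secHom t) = ⊤ := by
    refine Amp.genLocus_eq_of_forall hL _ ⊤ fun y => iff_of_true ?_ trivial
    rw [Amp.gval_secHom]
    by_cases hy : y ∈ SemiTriv14.genOpen f ϖ
    · exact ht y hy
    · exact SemiTriv14.gen_special f hf hL hdeg t
        (not_not.1 fun h => hx ((SemiTriv14.mem_genOpen_iff f hϖ x).2 h)) hxt
        (not_not.1 fun h => hy ((SemiTriv14.mem_genOpen_iff f hϖ y).2 h))
  haveI := CurveAmple18.isIso_of_genLocus_eq_top hL (M1.secHom t) htop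
  exact ⟨(asIso (M1.secHom t)).symm⟩

end Groth.Agent.S14399
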