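import Groth.Statements.S1440
import Groth.Agent.Lib.ConsTop3.Basic

set_option autoImplicit false
universe u
open FlatMor

set_option backward.isDefEq.respectTransparency.types false

namespace Groth.Agent.S1440


open AlgebraicGeometry CategoryTheory Limits

theorem exists_lift {A B : Type u} [CommRing A] [CommRing B] [Algebra A B]
    [Algebra.FinitePresentation A B] (p : Ideal A) [p.IsPrime] (θ : B →ₐ[A] p.ResidueField) :
    ∃ (s : A) (I : Ideal (Localization.Away s)),
      s ∉ p ∧ I.FG ∧ (∀ hp : (p.map (algebraMap A (Localization.Away s))).IsPrime,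
        I ≤ p.map (algebraMap A (Localization.Away s))) ∧
      Nonempty (B →ₐ[A] (Localization.Away s ⧸ I)) := by
  classical
  obtain ⟨n, φ, hφ, hker⟩ := Algebra.FinitePresentation.out (R := A) (A := B)
  have hsurj : ∀ y : p.ResidueField, ∃ a t : A, t ∉ p ∧
      algebraMap A p.ResidueField t * y = algebraMap A p.ResidueField a := by
    intro y
    obtain ⟨z, rfl⟩ := IsLocalRing.residue_surjective y
    obtain ⟨a, t, rfl⟩ := IsLocalization.exists_mk'_eq p.primeCompl z
    refine ⟨a, t, t.2, ?_⟩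
    change IsLocalRing.residue _ (algebraMap A _ t.1) * _ = IsLocalRing.residue _ (algebraMap A _ a)
    rw [← map_mul, IsLocalization.mk'_spec']
  choose a t ht hat using fun i : Fin n => hsurj (θ (φ (MvPolynomial.X i)))
  let s := ∏ i, t i
  have hs : s ∉ p := fun h => by
    obtain ⟨i, -, hi⟩ := (inferInstance : p.IsPrime).prod_mem_iff.mp h
    exact ht i hi
  let L := Localization.Away s
  have hst : ∀ i, algebraMap A L s =
      algebraMap A L (t i) * algebraMap A L (∏ j ∈ Finset.univ.erase i, t j) := by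
    intro i
    rw [← map_mul, Finset.mul_prod_erase _ _ (Finset.mem_univ i)]
  let ψ : MvPolynomial (Fin n) A →ₐ[A] L := MvPolynomial.aeval fun i =>
    algebraMap A L (a i) * algebraMap A L (∏ j ∈ Finset.univ.erase i, t j) *
      IsLocalization.Away.invSelf s
  have hu : ∀ y : Submonoid.powers s, IsUnit (Algebra.ofId A p.ResidueField y.1) := by
    rintro ⟨_, k, rfl⟩
    refine (isUnit_iff_ne_zero.mpr ?_)
    change algebraMap A p.ResidueField (s ^ k) ≠ 0
    rw [map_pow]
    exact pow_ne_zero _ (by rwa [Ne, Ideal.algebraMap_residueField_eq_zero])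
  let χ : L →ₐ[A] p.ResidueField := IsLocalization.liftAlgHom (M := Submonoid.powers s)
    (f := Algebra.ofId A p.ResidueField) hu
  have hχ : χ.comp ψ = θ.comp φ := by
    refine MvPolynomial.algHom_ext fun i => ?_
    have h1 : algebraMap A p.ResidueField (t i) ≠ 0 := by
      rw [Ne, Ideal.algebraMap_residueField_eq_zero]; exact ht i
    refine mul_left_cancel₀ h1 ?_
    rw [AlgHom.comp_apply, AlgHom.comp_apply, hat, ← χ.commutes, ← χ.commutes, ← map_mul]
    refine congr_arg χ ?_
    simp only [ψ, MvPolynomial.aeval_X]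
    calc algebraMap A L (t i) * (algebraMap A L (a i) *
          algebraMap A L (∏ j ∈ Finset.univ.erase i, t j) * IsLocalization.Away.invSelf s)
        = algebraMap A L (a i) * (algebraMap A L s * IsLocalization.Away.invSelf s) := by
          rw [hst i]; ring
      _ = algebraMap A L (a i) := by rw [IsLocalization.Away.mul_invSelf, mul_one]
  let I : Ideal L := (RingHom.ker φ).map ψ
  refine ⟨s, I, hs, hker.map ψ.toRingHom, fun hp => ?_, ?_⟩
  · refine Ideal.map_le_iff_le_comap.mpr fun x hx => ?_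
    rw [Ideal.mem_comap]
    have h0 : χ (ψ x) = 0 := by
      rw [← AlgHom.comp_apply, hχ, AlgHom.comp_apply, RingHom.mem_ker.mp hx, map_zero]
    obtain ⟨b, m, hbm⟩ := IsLocalization.exists_mk'_eq (Submonoid.powers s) (ψ x)
    rw [← hbm, IsLocalization.mk'_eq_mul_mk'_one]
    refine Ideal.mul_mem_right _ _ (Ideal.mem_map_of_mem _ ?_)
    rw [← Ideal.algebraMap_residueField_eq_zero, ← χ.commutes,
      ← IsLocalization.mk'_spec L b m, hbm, map_mul, h0, zero_mul]
  · refine ⟨Ideal.Quotient.liftₐ _ ((Ideal.Quotient.mkₐ A I).comp ψ) (fun x hx => ?_) |>.comp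
      ((Ideal.quotientKerAlgEquivOfSurjective hφ).symm.toAlgHom)⟩
    rw [AlgHom.comp_apply, Ideal.Quotient.mkₐ_eq_mk, Ideal.Quotient.eq_zero_iff_mem]
    exact Ideal.mem_map_of_mem _ hx

theorem exists_section_at {X Y : Scheme.{u}} (f : X ⟶ Y) [LocallyOfFinitePresentation f]
    [QuasiSeparatedSpace Y] (y : Y) (x : X) (hx : f x = y)
    (hb : Function.Bijective (f.residueFieldMap x)) :
    ∃ (Z : Scheme.{u}) (z : Z ⟶ Y) (σ : Z ⟶ X), y ∈ Set.range z ∧ IsImmersion z ∧
      LocallyOfFinitePresentation z ∧ QuasiCompact z ∧ QuasiSeparated z ∧ σ ≫ f = z := by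
  subst hx
  obtain ⟨_, ⟨V, hV, rfl⟩, hyV, -⟩ :=
    Y.isBasis_affineOpens.exists_subset_of_mem_open (Set.mem_univ (f x)) isOpen_univ
  obtain ⟨_, ⟨U, hU, rfl⟩, hxU, hUV⟩ :=
    X.isBasis_affineOpens.exists_subset_of_mem_open (show x ∈ f ⁻¹ᵁ V from hyV) (f ⁻¹ᵁ V).2
  have e : U ≤ f ⁻¹ᵁ V := hUV
  have hφ : (f.appLE V U e).hom.FinitePresentation :=
    HasRingHomProperty.appLE (P := @LocallyOfFinitePresentation) f inferInstance ⟨V, hV⟩ ⟨U, hU⟩ e
  algebraize [(f.appLE V U e).hom]
  let p := (hV.primeIdealOf ⟨f x, hyV⟩).asIdeal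
  let r := Y.presheaf.germ V (f x) hyV ≫ Y.residue (f x)
  letI := TopCat.Presheaf.algebra_section_stalk Y.presheaf (U := V) ⟨f x, hyV⟩
  haveI := hV.isLocalization_stalk ⟨f x, hyV⟩
  let el : Y.presheaf.stalk (f x) ≃ₐ[Γ(Y, V)] Localization.AtPrime p :=
    IsLocalization.algEquiv p.primeCompl _ _
  let η : Y.residueField (f x) ≃+* p.ResidueField :=
    IsLocalRing.ResidueField.mapEquiv el.toRingEquiv
  have hη : ∀ a, η (r.hom a) = algebraMap Γ(Y, V) p.ResidueField a := fun a => by
    change IsLocalRing.residue _ (el (algebraMap Γ(Y, V) _ a)) = _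
    rw [el.commutes]
    rfl
  let eb : Y.residueField (f x) ≃+* X.residueField x := RingEquiv.ofBijective _ hb
  let θ : Γ(X, U) →ₐ[Γ(Y, V)] p.ResidueField :=
    ⟨η.toRingHom.comp (eb.symm.toRingHom.comp (X.presheaf.germ U x hxU ≫ X.residue x).hom),
      fun a => by
        have h1 : (X.presheaf.germ U x hxU ≫ X.residue x).hom ((f.appLE V U e).hom a) =
            eb (r.hom a) := by
          change (f.appLE V U e ≫ X.presheaf.germ U x hxU ≫ X.residue x).hom a =
            (Y.presheaf.germ V (f x) hyV ≫ Y.residue (f x) ≫ f.residueFieldMap x).hom a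
          rw [Scheme.residue_residueFieldMap, Scheme.Hom.germ_stalkMap_assoc]
          simp [Scheme.Hom.appLE]
        change η (eb.symm ((X.presheaf.germ U x hxU ≫ X.residue x).hom ((f.appLE V U e).hom a))) = _
        rw [h1, eb.symm_apply_apply, hη]⟩
  obtain ⟨s, I, hs, hI, hIp, ⟨g⟩⟩ := exists_lift p θ
  let L := Localization.Away s
  let C := L ⧸ I
  have hd : Disjoint (Submonoid.powers s : Set Γ(Y, V)) p :=
    Set.disjoint_left.mpr fun y ⟨k, hk⟩ hy =>
      hs (Ideal.IsPrime.mem_of_pow_mem inferInstance k (by simpa [← hk] using hy))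
  have hpp := IsLocalization.isPrime_of_isPrime_disjoint (.powers s) L p inferInstance hd
  let ρ₁ : Γ(Y, V) ⟶ CommRingCat.of L := CommRingCat.ofHom (algebraMap _ L)
  let ρ₂ : CommRingCat.of L ⟶ CommRingCat.of C := CommRingCat.ofHom (Ideal.Quotient.mk I)
  haveI : IsOpenImmersion (Spec.map ρ₁) := IsOpenImmersion.of_isLocalization (S := L) s
  haveI : IsClosedImmersion (Spec.map ρ₂) :=
    IsClosedImmersion.spec_of_surjective ρ₂ Ideal.Quotient.mk_surjective
  haveI : LocallyOfFinitePresentation (Spec.map ρ₂) :=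
    (HasRingHomProperty.Spec_iff (P := @LocallyOfFinitePresentation)).mpr
      (RingHom.FinitePresentation.of_surjective _ Ideal.Quotient.mk_surjective
        (by simp only [ρ₂, CommRingCat.hom_ofHom]; rw [Ideal.mk_ker]; exact hI))
  let z : Spec (CommRingCat.of C) ⟶ Y := Spec.map ρ₂ ≫ Spec.map ρ₁ ≫ hV.fromSpec
  refine ⟨_, z, Spec.map (CommRingCat.ofHom g.toRingHom) ≫ hU.fromSpec, ?_,
    MorphismProperty.comp_mem _ _ _ inferInstance inferInstance,
    MorphismProperty.comp_mem _ _ _ inferInstance inferInstance, inferInstance, inferInstance, ?_⟩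
  · have hq : ((p.map (algebraMap _ L)).map (Ideal.Quotient.mk I)).IsPrime :=
      Ideal.map_isPrime_of_surjective Ideal.Quotient.mk_surjective
        (by rw [Ideal.mk_ker]; exact hIp hpp)
    refine ⟨⟨_, hq⟩, ?_⟩
    have h1 : Spec.map (ρ₁ ≫ ρ₂) ⟨_, hq⟩ = hV.primeIdealOf ⟨f x, hyV⟩ := by
      refine PrimeSpectrum.ext ?_
      change ((p.map (algebraMap _ L)).map (Ideal.Quotient.mk I)).comap
        ((Ideal.Quotient.mk I).comp (algebraMap _ L)) = p
      have e2 : Ideal.comap (algebraMap Γ(Y, V) L) (p.map (algebraMap _ L)) = p :=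
        IsLocalization.comap_map_of_isPrime_disjoint (.powers s) L inferInstance hd
      rw [← Ideal.comap_comap, Ideal.comap_map_of_surjective _ Ideal.Quotient.mk_surjective,
        ← RingHom.ker_eq_comap_bot, Ideal.mk_ker, sup_eq_left.mpr (hIp hpp), e2]
    change (Spec.map ρ₂ ≫ Spec.map ρ₁ ≫ hV.fromSpec) _ = f x
    rw [← Category.assoc, ← Spec.map_comp, Scheme.Hom.comp_apply, h1, hV.fromSpec_primeIdealOf]
  · change _ = Spec.map ρ₂ ≫ Spec.map ρ₁ ≫ hV.fromSpec
    rw [Category.assoc, ← hV.SpecMap_appLE_fromSpec f hU e, ← Category.assoc, ← Spec.map_comp,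
      ← Category.assoc, ← Spec.map_comp]
    congr 2
    ext a
    exact g.commutes a

open AlgebraicGeometry CategoryTheory Limits in
/-- Let f : X → Y be locally of finite presentation with Y quasi-compact and quasi-separated, and assume
f is completely decomposed: every point y of Y is the image of a point x at which the residue field
extension is trivial. Then there are finitely many immersions Z_i → Y of finite presentation,
jointly surjective, such that each base change X ×_Y Z_i → Z_i admits a section. -/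
theorem result {X Y : Scheme.{u}} (f : X ⟶ Y) [LocallyOfFinitePresentation f] [CompactSpace ↑Y] [QuasiSeparatedSpace ↑Y]
    (hcd : ∀ y : Y, ∃ x : X, f x = y ∧ Function.Bijective (f.residueFieldMap x)) :
    ∃ (n : ℕ) (Z : Fin n → Scheme.{u}) (z : ∀ i, Z i ⟶ Y), (∀ y : Y, ∃ i, y ∈ Set.range ⇑(z i)) ∧
      ∀ i, IsImmersion (z i) ∧ LocallyOfFinitePresentation (z i) ∧ QuasiCompact (z i) ∧ QuasiSeparated (z i) ∧
        ∃ s : Z i ⟶ pullback f (z i), s ≫ pullback.snd f (z i) = 𝟙 (Z i) := by
  classical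
  choose x hx hb using hcd
  choose Z z σ hy himm hlfp hqc hqs hσ using fun y => exists_section_at f y (x y) (hx y) (hb y)
  have hop : ∀ y, @IsOpen Y (constructibleTopology Y) (Set.range (z y)) := fun y => by
    haveI := hlfp y; haveI := hqc y
    rw [← Set.image_univ]
    exact Groth.Agent.ConsTop3.isOpen_of_isConstructible
      ((z y).isConstructible_image Topology.IsConstructible.univ)
  obtain ⟨t, ht⟩ := @IsCompact.elim_finite_subcover Y (constructibleTopology Y) Set.univ Y
    (@isCompact_univ Y (constructibleTopology Y) Groth.Agent.ConsTop3.compactSpace_top)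
    (fun y => Set.range (z y)) hop (fun y _ => Set.mem_iUnion.2 ⟨y, hy y⟩)
  let e := t.equivFin
  refine ⟨t.card, fun i => Z (e.symm i), fun i => z (e.symm i), fun y => ?_, fun i => ?_⟩
  · obtain ⟨y', hy't, hy'⟩ := Set.mem_iUnion₂.1 (ht (Set.mem_univ y))
    exact ⟨e ⟨y', hy't⟩, (congr_arg (fun w : t => y ∈ Set.range (z w.1)) (e.symm_apply_apply _)).mpr hy'⟩
  · exact ⟨himm _, hlfp _, hqc _, hqs _,
      pullback.lift (σ (e.symm i)) (𝟙 _) (by rw [hσ, Category.id_comp]), pullback.lift_snd _ _ _⟩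

end Groth.Agent.S1440
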