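import Groth.Statements.S14400
import Groth.Agent.Lib.GalDesc12.Basic

set_option autoImplicit false
universe u
open CategoryTheory CategoryTheory.Limits AlgebraicGeometry
open Desc

namespace Groth.Agent.S14400

/-- Let K/k be a finite Galois extension of fields, X and Y schemes over k with base changes X_K and
Y_K, and g : X_K ⟶ Y_K a morphism over Spec K. Then g is the base change of a k-morphism f : X ⟶ Y
(that is, g followed by the projection Y_K ⟶ Y is the projection X_K ⟶ X followed by f) if and only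
if g commutes with the action of every k-automorphism σ of K on X_K and on Y_K (the identity on X,
resp. Y, and Spec σ on the factor Spec K). In other words the image of the k-morphisms X ⟶ Y among
the K-morphisms X_K ⟶ Y_K is exactly the set of Galois-invariant ones. -/
theorem result (k : Type u) [Field k] (K : Type u) [Field K]
    [Algebra k K] [FiniteDimensional k K] [IsGalois k K]
    (X Y : Scheme.{u}) [X.Over (Spec (CommRingCat.of k))] [Y.Over (Spec (CommRingCat.of k))]
    (g : Curv2.bc k X K ⟶ Curv2.bc k Y K) (hg : g ≫ Curv2.bcSnd k Y K = Curv2.bcSnd k X K) :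
    (∃ f : X ⟶ Y, f ≫ (Y ↘ Spec (CommRingCat.of k)) = X ↘ Spec (CommRingCat.of k) ∧
        g ≫ Curv2.bcFst k Y K = Curv2.bcFst k X K ≫ f) ↔
      ∀ σ : K ≃ₐ[k] K, Curv2.galAct k X K σ ≫ g = g ≫ Curv2.galAct k Y K σ := by
  constructor
  · rintro ⟨f, -, hgf⟩ σ
    refine Limits.pullback.hom_ext ?_ ?_
    · change (Curv2.galAct k X K σ ≫ g) ≫ Curv2.bcFst k Y K = (g ≫ Curv2.galAct k Y K σ) ≫ Curv2.bcFst k Y K
      rw [Category.assoc, hgf, ← Category.assoc, GalDesc12.galAct_fst, Category.assoc,
        GalDesc12.galAct_fst, hgf]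
    · change (Curv2.galAct k X K σ ≫ g) ≫ Curv2.bcSnd k Y K = (g ≫ Curv2.galAct k Y K σ) ≫ Curv2.bcSnd k Y K
      rw [Category.assoc, hg, GalDesc12.galAct_snd, Category.assoc, GalDesc12.galAct_snd,
        ← Category.assoc g, hg]
  · intro h
    let π := Curv2.bcFst k X K
    let e := g ≫ Curv2.bcFst k Y K
    have hc : ∀ {Z : Scheme.{u}} (a b : Z ⟶ Curv2.bc k X K), a ≫ π = b ≫ π → a ≫ e = b ≫ e := by
      intro Z a b hab
      obtain ⟨U, hU, hb⟩ := GalDesc12.exists_cover k K X a b hab
      refine Scheme.Cover.hom_ext (Z.openCoverOfIsOpenCover U hU) _ _ fun (σ : K ≃ₐ[k] K) => ?_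
      change (U σ).ι ≫ a ≫ e = (U σ).ι ≫ b ≫ e
      rw [← Category.assoc (U σ).ι b e, show (U σ).ι ≫ b = _ from hb σ]
      simp only [e, Category.assoc]
      rw [reassoc_of% (h σ), GalDesc12.galAct_fst]
    haveI := GalDesc12.effectiveEpi_bcFst k K X
    refine ⟨EffectiveEpi.desc π e hc, ?_, (EffectiveEpi.fac π e hc).symm⟩
    rw [← cancel_epi π, EffectiveEpi.fac_assoc π e hc]
    simp only [e, π, Category.assoc, Limits.pullback.condition]
    rw [← Category.assoc, hg]


end Groth.Agent.S14400
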