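import Groth.Statements.S14401
import Groth.Agent.Lib.Easy12.Generic


set_option autoImplicit false
universe u
open CategoryTheory AlgebraicGeometry
open Props

namespace Groth.Agent.S14401

/-- Let X be a Noetherian scheme all of whose local rings are integral domains. Then each irreducible
component of X is an open subset of X, and each point of X lies on exactly one irreducible component
(so the irreducible components of X are pairwise disjoint, open and closed, and coincide with the
connected components). (The published statement assumes X regular and Noetherian; its argument uses
only that the local rings of X are domains, which is the hypothesis taken here.) -/
theorem result (X : Scheme.{u}) [AlgebraicGeometry.IsNoetherian X]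
    (hX : ∀ x : X, IsDomain (X.presheaf.stalk x)) :
    (∀ Z ∈ irreducibleComponents (X : Type u), IsOpen Z) ∧
      ∀ x : X, ∃! Z, Z ∈ irreducibleComponents (X : Type u) ∧ x ∈ Z := Groth.Agent.Easy12.components_of_isDomain_stalk X hX


end Groth.Agent.S14401
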