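import Groth.Statements.S14403
import Groth.Agent.Lib.FlatEquiH1.Core

set_option autoImplicit false
universe u
open CategoryTheory AlgebraicGeometry
open FlatMor

namespace Groth.Agent.S14403

/-- Let k be a field, X and Y schemes of finite type over k, f : X ⟶ Y a flat k-morphism, and d, n
natural numbers such that every irreducible component of Y has dimension d (Y equidimensional of
dimension d). Then every irreducible component of X has dimension d + n if and only if for every
point y of Y, closed or not, every irreducible component of the scheme-theoretic fibre of f over y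
has dimension n (empty fibres impose no condition). -/
theorem result (k : Type u) [Field k]
    {X Y : Scheme.{u}} (qX : X ⟶ Spec (CommRingCat.of k)) (qY : Y ⟶ Spec (CommRingCat.of k))
    [LocallyOfFiniteType qX] [QuasiCompact qX] [LocallyOfFiniteType qY] [QuasiCompact qY]
    (f : X ⟶ Y) (hf : f ≫ qY = qX) [Flat f] (d n : ℕ)
    (hY : ∀ Z ∈ irreducibleComponents (Y : Type u), topologicalKrullDim Z = (d : WithBot ℕ∞)) :
    (∀ Z ∈ irreducibleComponents (X : Type u), topologicalKrullDim Z = ((d + n : ℕ) : WithBot ℕ∞)) ↔
      ∀ (y : Y), ∀ Z ∈ irreducibleComponents (f.fiber y : Type u),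
        topologicalKrullDim Z = (n : WithBot ℕ∞) := by
  subst hf
  haveI : LocallyOfFiniteType f := locallyOfFiniteType_of_comp f qY
  rw [Groth.Agent.FlatEquiH1.components_iff qY d] at hY
  rw [Groth.Agent.FlatEquiH1.components_iff (f ≫ qY) (d + n)]
  simp only [fun y => Groth.Agent.FlatEquiH1.components_iff_fiber f y n]
  refine ⟨fun hX y z hz => ?_, fun h g hg => ?_⟩
  · have := Groth.Agent.FlatEquiH1.sdim_fibre_max qY f hX hY y z hz
    omega
  · obtain ⟨hy, hzmax⟩ := Groth.Agent.FlatEquiH1.maximal_map f g hg
    have hz : f.fiberι (f g) (f.asFiber g) = g := f.fiberι_asFiber g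
    have h1 := Groth.Agent.VarDim.sdim_fiber qY f (f g) (f.asFiber g)
    rw [hz, hY _ hy, h (f g) _ (hzmax _ hz)] at h1
    exact h1

end Groth.Agent.S14403
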