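import Groth.Statements.S14404
import Groth.Agent.Lib.FlatEquiH1.Core

set_option autoImplicit false
universe u
open CategoryTheory AlgebraicGeometry
open FlatMor

namespace Groth.Agent.S14404

/-- Let k be a field, X and Y irreducible schemes of finite type over k and f : X ⟶ Y a flat k-morphism.
Then dim Y ≤ dim X, and for every point y of Y every irreducible component Z of the scheme-theoretic
fibre of f over y has dim Z + dim Y = dim X; that is, every non-empty fibre has all its irreducible
components of dimension dim X − dim Y. -/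
theorem result (k : Type u) [Field k]
    {X Y : Scheme.{u}} (qX : X ⟶ Spec (CommRingCat.of k)) (qY : Y ⟶ Spec (CommRingCat.of k))
    [LocallyOfFiniteType qX] [QuasiCompact qX] [LocallyOfFiniteType qY] [QuasiCompact qY]
    [IrreducibleSpace X] [IrreducibleSpace Y] (f : X ⟶ Y) (hf : f ≫ qY = qX) [Flat f] :
    topologicalKrullDim Y ≤ topologicalKrullDim X ∧
      ∀ (y : Y), ∀ Z ∈ irreducibleComponents (f.fiber y : Type u),
        topologicalKrullDim Z + topologicalKrullDim Y = topologicalKrullDim X := by
  subst hf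
  haveI : LocallyOfFiniteType f := locallyOfFiniteType_of_comp f qY
  have hgen : ∀ {T : Scheme.{u}} [IrreducibleSpace T] (g : T), (∀ x, x ⤳ g → x = g) → g = genericPoint T :=
    fun g hg => (hg _ (genericPoint_specializes g)).symm
  have hX : ∀ g : X, (∀ x, x ⤳ g → x = g) →
      Groth.Agent.VarDim.sdim (f ≫ qY) g = Groth.Agent.VarDim.sdim (f ≫ qY) (genericPoint X) :=
    fun g hg => by rw [hgen g hg]
  have hY : ∀ g : Y, (∀ x, x ⤳ g → x = g) →
      Groth.Agent.VarDim.sdim qY g = Groth.Agent.VarDim.sdim qY (genericPoint Y) :=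
    fun g hg => by rw [hgen g hg]
  have hXmax : ∀ x, x ⤳ genericPoint X → x = genericPoint X :=
    fun x hx => (hx.antisymm (genericPoint_specializes x)).eq
  have hmax := Groth.Agent.FlatEquiH1.maximal_map f (genericPoint X) hXmax
  refine ⟨?_, fun y Z hZ => ?_⟩
  · rw [Groth.Agent.VarDim.dim_eq_sdim_genericPoint qY, Groth.Agent.VarDim.dim_eq_sdim_genericPoint (f ≫ qY),
      ← hgen _ hmax.1]
    exact_mod_cast Groth.Agent.VarDim.sdim_le_comp qY f (genericPoint X)
  · obtain ⟨z, rfl, hz⟩ := Groth.Agent.VarDim.exists_generic_of_mem_irreducibleComponents hZ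
    have h := Groth.Agent.FlatEquiH1.sdim_fibre_max qY f hX hY y z hz
    rw [Groth.Agent.FlatEquiH1.dim_closure_fiber f y,
      Groth.Agent.VarDim.dim_eq_sdim_genericPoint qY, Groth.Agent.VarDim.dim_eq_sdim_genericPoint (f ≫ qY), ← h]
    push_cast
    rfl

end Groth.Agent.S14404
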