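import Groth.Statements.S14405
import Mathlib.Algebra.Polynomial.Degree.Lemmas
import Mathlib.Algebra.Polynomial.Coeff
import Mathlib.Algebra.Polynomial.Eval.Degree
import Mathlib.Tactic.Linarith
import Mathlib.Tactic.LinearCombination
import Mathlib.Tactic.Positivity
import Mathlib.Tactic.FieldSimp
import Mathlib.Tactic.Ring


set_option autoImplicit false
open Polynomial
open HilbNum

namespace Groth.Agent.S14405

open Polynomial in
theorem coeff_delta (P : ℚ[X]) (j : ℕ) :
    (P - P.comp (X - 1)).coeff j =
      P.coeff j - ∑ e ∈ Finset.range (P.natDegree + 1), P.coeff e * ((-1 : ℚ) ^ (e - j) * e.choose j) := by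
  rw [coeff_sub]
  congr 1
  rw [comp_eq_sum_left, sum_over_range' _ (by simp) (P.natDegree + 1) (Nat.lt_succ_self _), finsetSum_coeff]
  refine Finset.sum_congr rfl fun e _ => ?_
  rw [coeff_C_mul, show (X : ℚ[X]) - 1 = X + C (-1) by simp [sub_eq_add_neg], coeff_X_add_C_pow]

open Polynomial in
theorem coeff_delta_high (P : ℚ[X]) (j : ℕ) (hj : P.natDegree ≤ j) : (P - P.comp (X - 1)).coeff j = 0 := by
  rw [coeff_delta, Finset.sum_eq_single j]
  · simp
  · intro e he hne
    rw [Finset.mem_range] at he
    rw [Nat.choose_eq_zero_of_lt (by omega : e < j)]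
    simp
  · intro hj'
    rw [coeff_eq_zero_of_natDegree_lt (by simpa using hj')]
    simp

open Polynomial in
theorem coeff_delta_top (P : ℚ[X]) (E : ℕ) (hP : P.natDegree = E + 1) :
    (P - P.comp (X - 1)).coeff E = (E + 1) * P.coeff (E + 1) := by
  rw [coeff_delta, hP, Finset.sum_range_succ, Finset.sum_range_succ,
    Finset.sum_eq_zero (fun e he => by
      rw [Finset.mem_range] at he
      rw [Nat.choose_eq_zero_of_lt (by omega : e < E)]; simp)]
  simp [Nat.choose_succ_self_right]
  ring

open Polynomial in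
theorem delta_surj : ∀ (d : ℕ) (Q : ℚ[X]), Q.natDegree ≤ d → ∃ P : ℚ[X], P - P.comp (X - 1) = Q := by
  intro d
  induction d with
  | zero =>
    intro Q hQ
    refine ⟨C (Q.coeff 0) * X, ?_⟩
    conv_rhs => rw [eq_C_of_natDegree_le_zero hQ]
    simp [mul_sub]
  | succ d ih =>
    intro Q hQ
    let P₀ : ℚ[X] := C (Q.coeff (d + 1) / (d + 2)) * X ^ (d + 2)
    by_cases hc : Q.coeff (d + 1) = 0
    · refine ih Q (natDegree_le_iff_coeff_eq_zero.2 fun m hm => ?_)
      rcases Nat.eq_or_lt_of_le (Nat.succ_le_of_lt hm) with rfl | hm'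
      · exact hc
      · exact coeff_eq_zero_of_natDegree_lt (lt_of_le_of_lt hQ hm')
    have hd : (Q.coeff (d + 1) / ((d : ℚ) + 2)) ≠ 0 := div_ne_zero hc (by positivity)
    have hP : P₀.natDegree = d + 2 := natDegree_C_mul_X_pow _ _ hd
    obtain ⟨P₁, hP₁⟩ := ih (Q - (P₀ - P₀.comp (X - 1))) (natDegree_le_iff_coeff_eq_zero.2 fun m hm => by
      rw [coeff_sub]
      rcases Nat.eq_or_lt_of_le (Nat.succ_le_of_lt hm) with rfl | hm'
      · rw [coeff_delta_top P₀ (d + 1) hP]
        simp only [P₀, coeff_C_mul, coeff_X_pow, if_true, mul_one]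
        push_cast
        field_simp
        ring
      · rw [coeff_eq_zero_of_natDegree_lt (lt_of_le_of_lt hQ hm'), coeff_delta_high P₀ m (by omega), sub_zero])
    exact ⟨P₀ + P₁, by rw [add_comp, add_sub_add_comm, hP₁, add_sub_cancel]⟩



/-- Let φ be a function from the integers to the rationals and Q a nonzero polynomial with rational
coefficients of degree d such that φ(m) - φ(m-1) = Q(m) for every integer m. Then there is a
polynomial P with rational coefficients, of degree d + 1, such that φ(m) = P(m) for every integer m.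
(The explicit form of P in the binomial basis is not part of this statement.) -/
theorem result (φ : ℤ → ℚ) (d : ℕ) (Q : ℚ[X]) (hQ : Q ≠ 0)
    (hd : Q.natDegree = d) (h : ∀ m : ℤ, φ m - φ (m - 1) = Q.eval (m : ℚ)) :
    ∃ P : ℚ[X], P.natDegree = d + 1 ∧ ∀ m : ℤ, φ m = P.eval (m : ℚ) := by

  obtain ⟨P₀, hP₀⟩ := delta_surj d Q hd.le
  let P : ℚ[X] := P₀ + Polynomial.C (φ 0 - P₀.eval 0)
  have hP : P - P.comp (Polynomial.X - 1) = Q := by
    simp only [P, Polynomial.add_comp, Polynomial.C_comp]
    rw [← hP₀]; ring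
  have hstep : ∀ m : ℤ, φ m - P.eval (m : ℚ) = φ (m - 1) - P.eval ((m - 1 : ℤ) : ℚ) := fun m => by
    have h1 := h m
    rw [← hP] at h1
    simp only [Polynomial.eval_sub, Polynomial.eval_comp, Polynomial.eval_X, Polynomial.eval_one] at h1
    push_cast
    linarith
  refine ⟨P, ?_, fun m => ?_⟩
  · rcases Nat.eq_zero_or_pos P.natDegree with h0 | h0
    · exfalso
      apply hQ
      rw [← hP, Polynomial.eq_C_of_natDegree_eq_zero h0, Polynomial.C_comp, sub_self]
    · obtain ⟨E, hE⟩ : ∃ E, P.natDegree = E + 1 := ⟨P.natDegree - 1, by omega⟩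
      have htop : Q.coeff E ≠ 0 := by
        rw [← hP, coeff_delta_top P E hE]
        refine mul_ne_zero (by positivity) ?_
        rw [← hE]
        exact Polynomial.leadingCoeff_ne_zero.2 (by rintro e; rw [e, Polynomial.natDegree_zero] at h0; omega)
      have hle : Q.natDegree ≤ E := Polynomial.natDegree_le_iff_coeff_eq_zero.2 fun m hm => by
        rw [← hP]; exact coeff_delta_high P m (by omega)
      have := Polynomial.le_natDegree_of_ne_zero htop
      omega
  · have key : φ m - P.eval (m : ℚ) = 0 := by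
      induction m using Int.induction_on with
      | zero => simp [P]
      | succ n ih => rw [hstep]; simpa using ih
      | pred n ih => rw [← hstep]; simpa using ih
    exact sub_eq_zero.1 key

end Groth.Agent.S14405
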