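import Groth.Statements.S14408
import Groth.Agent.Lib.CMReg18.Proj
import Groth.Agent.Lib.Snapper.Hilb
import Groth.Agent.Lib.NumPoly18.HilbBinom
import Groth.Agent.S10829
import Groth.Agent.Lib.KCoh4.Loc

set_option autoImplicit false
set_option linter.style.haveILetI false
set_option maxHeartbeats 1000000
set_option backward.isDefEq.respectTransparency false
set_option backward.isDefEq.respectTransparency.types false
universe u
open CategoryTheory CategoryTheory.Limits AlgebraicGeometry
open HilbNum

namespace Groth.Agent.S14408

/-- Let k be an algebraically closed field, n a positive integer, F a nonzero coherent O-module on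
projective n-space P over k (quasi-coherent of finite type), and P_F a polynomial with rational
coefficients such that P_F(m) = χ(F(m)) = Σ_{j ≤ n} (-1)^j dim_k H^j(P, F ⊗ O(m)) for every integer
m. Then the degree of P_F equals the dimension of the support of F (the closed set of points where
the stalk of F is nonzero, with the subspace topology). The existence of such a polynomial is not
part of this statement; it enters through the hypothesis on P_F. -/
theorem result (k : Type u) [Field k] [IsAlgClosed k] (n : ℕ) (hn : 0 < n)
    (F : (CohB1.ProjSpace n k).Modules) (hF : Coh.IsCoh F) (hF0 : ¬ IsZero F) (P : Polynomial ℚ)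
    (hP : ∀ m : ℤ,
      ((Finset.range (n + 1)).sum fun j => (-1 : ℚ) ^ j *
        (Module.finrank k (Coh.HH (CohB1.ProjSpace n k) (CohB1.tensorMod F (Twist.twistProjSpace n k m)) j) : ℚ)) =
      P.eval (m : ℚ)) :
    topologicalKrullDim ↥(CohB1.support F) = (P.natDegree : WithBot ℕ∞) := by
  haveI := CMReg18.isProper_projSpace k (n := n)
  haveI : IsNoetherian (CohB1.ProjSpace n k) :=
    CohFound.isNoetherian_of_isProper (CohB1.ProjSpace n k ↘ Spec (CommRingCat.of k))
  have hA : CohB1.IsAmple (_root_.Twist.twistProjSpace n k 1) := CMReg18.isAmple_twistOne k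
  have hdimn : topologicalKrullDim (CohB1.ProjSpace n k) ≤ (n : WithBot ℕ∞) := (Groth.Agent.S10829.result k n).le
  have hne : (CohB1.support F).Nonempty := by
    by_contra he
    refine hF0 (KCoh4.isZero_of_stalks fun x => ?_)
    by_contra hx
    exact he ⟨x, hx⟩
  obtain ⟨d, hd⟩ : ∃ d : ℕ, topologicalKrullDim (CohB1.support F) = (d : WithBot ℕ∞) := by
    have h1 : topologicalKrullDim (CohB1.support F) ≤ (n : WithBot ℕ∞) :=
      Topology.IsInducing.subtypeVal.topologicalKrullDim_le.trans hdimn
    haveI : Nonempty (CohB1.support F) := hne.to_subtype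
    haveI : Nonempty (TopologicalSpace.IrreducibleCloseds (CohB1.support F)) :=
      ⟨⟨closure {Classical.arbitrary _}, isIrreducible_singleton.closure, isClosed_closure⟩⟩
    have h2 : (0 : WithBot ℕ∞) ≤ topologicalKrullDim (CohB1.support F) := Order.krullDim_nonneg
    revert h1 h2
    generalize topologicalKrullDim (CohB1.support F) = a
    intro h1 h2
    cases a using WithBot.recBotCoe with
    | bot => simp at h2
    | coe a =>
      cases a using ENat.recTopCoe with
      | top => exact absurd (WithBot.coe_le_coe.1 (show ((⊤ : ℕ∞) : WithBot ℕ∞) ≤ ((n : ℕ∞) : WithBot ℕ∞) from h1)) (by simp)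
      | coe a => exact ⟨a, rfl⟩
  rw [hd, Snapper.natDegree_isHilbPoly (k := k) hA hF hd (P := P) fun m => ?_]
  rw [show ((m : ℕ) : ℚ) = (((m : ℤ)) : ℚ) by push_cast; rfl, ← hP m, ShStab.twist, CurveCoh17.euler_iso (M2.tensorIso (Iso.refl F) (NumPoly18.twistPowIso k n m)),
    Curv2.euler, finsum_eq_finsetSum_of_support_subset (s := Finset.range (n + 1))]
  · push_cast; rfl
  · intro i hi
    simp only [Finset.coe_range, Set.mem_Iio]
    by_contra hlt
    haveI := CMReg18.subsingleton_HH_of_lt k (M2.isQCoh_tensor hF.1 (Twist.isQCoh_twistProjSpace n k (m : ℤ)))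
      (show n < i by omega)
    exact hi (by simp [Module.finrank_zero_of_subsingleton])

end Groth.Agent.S14408
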