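import Groth.Statements.S14409
import Groth.Agent.Lib.CohMop.IsoTransport
import Groth.Agent.Lib.CohMop.TildeExt
import Groth.Agent.Lib.ModM1.Coh
-- import your own Groth.Agent.* helpers here

set_option autoImplicit false
set_option linter.style.haveILetI false
set_option linter.unusedSectionVars false
set_option backward.isDefEq.respectTransparency false
set_option backward.isDefEq.respectTransparency.types false
universe u
open CategoryTheory AlgebraicGeometry TopologicalSpace Opposite
open Coherent

namespace Groth.Agent.S14409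

/-- Let k be an algebraically closed field and X a variety over k, modelled as a reduced scheme
separated and of finite type over k; let U be an affine open subset of X and F, G coherent
O_X-modules (quasi-coherent of finite type; X is Noetherian). For i ≥ 0 let Ext^i(F, G) be the i-th
local Ext sheaf, the i-th right derived functor of the internal Hom functor Hom(F, -) on O_X-modules
evaluated at G (existence of that internal Hom and of injective resolutions are the stated instance
hypotheses, both true). Then the module of sections Γ(U, Ext^i(F, G)) over the ring R = Γ(U, O_X) is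
R-linearly isomorphic to Ext^i_R(F(U), G(U)), computed in the category of R-modules (existence of an
isomorphism only). -/
theorem result (k : Type u) [Field k] [IsAlgClosed k]
    (X : Scheme.{u}) [X.Over (Spec (CommRingCat.of k))] [IsReduced X]
    [IsSeparated (X ↘ (Spec (CommRingCat.of k)))] [LocallyOfFiniteType (X ↘ (Spec (CommRingCat.of k)))] [CompactSpace ↥X]
    (U : X.Opens) (hU : IsAffineOpen U) (F G : X.Modules) (hF : Coh.IsCoh F) (hG : Coh.IsCoh G)
    [ModSite.HasSheafHom (O := X.sheaf) F] [HasInjectiveResolutions (ModSite.Mod X.sheaf)] (i : ℕ) :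
    Nonempty (((ModSite.extSh (O := X.sheaf) F i).obj G).val.obj (op U)
      ≃ₗ[Γ(X, U)] Abelian.Ext (ModuleCat.of Γ(X, U) (F.val.obj (op U))) (ModuleCat.of Γ(X, U) (G.val.obj (op U))) i) := by
  haveI : IsLocallyNoetherian X := LocallyOfFiniteType.isLocallyNoetherian (X ↘ (Spec (CommRingCat.of k)))
  haveI : IsNoetherianRing Γ(X, U) := IsLocallyNoetherian.component_noetherian ⟨U, hU⟩
  haveI := fun Q : X.Modules => CohMop.additive_ihom Q
  haveI := fun Q : (U : Scheme.{u}).Modules => CohMop.additive_ihom Q
  haveI := fun Q : (Spec Γ(X, U)).Modules => CohMop.additive_ihom Q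
  let r := Scheme.Modules.restrictFunctor hU.fromSpec
  let κ : r ≅ Scheme.Modules.restrictFunctor U.ι ⋙ Scheme.Modules.restrictFunctor hU.isoSpec.inv :=
    Scheme.Modules.restrictFunctorCongr (hU.isoSpec_inv_ι).symm ≪≫
      Scheme.Modules.restrictFunctorComp hU.isoSpec.inv U.ι
  let tl : ∀ M : X.Modules, Coh.IsQCoh M →
      (r.obj M ≅ tilde (R := Γ(X, U)) (ModuleCat.of Γ(X, U) (M.val.obj (op U)))) := fun M hM =>
    (@asIso _ _ _ _ (r.obj M).fromTildeΓ
        (@Scheme.Modules.isIso_fromTildeΓ_of_isQuasicoherent Γ(X, U) (r.obj M) (M1.isQCoh_fromSpec hM hU))).symm ≪≫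
      (tilde.functor Γ(X, U)).mapIso (M1.affineSecEquiv M hU).toModuleIso
  let MF := ModuleCat.of Γ(X, U) (F.val.obj (op U))
  let MG := ModuleCat.of Γ(X, U) (G.val.obj (op U))
  haveI : Module.FinitePresentation Γ(X, U) MF := by
    haveI : Module.Finite Γ(X, U) MF := M1.finite_sections hF.1 hF.2 hU
    exact Module.finitePresentation_of_finite _ _
  obtain ⟨e⟩ := CohMop.nonempty_extSh_tilde MF MG i
  let ψ := CohMop.ihomIso ((κ.app F).symm ≪≫ tl F hF.1)
  let e' : r.obj (((CohMop.ihom F).rightDerived i).obj G) ≅ tilde (ModuleCat.of Γ(X, U) (Abelian.Ext MF MG i)) :=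
    κ.app _ ≪≫
      (Scheme.Modules.restrictFunctor hU.isoSpec.inv).mapIso ((CohMop.restrictExtIso U F i).app G) ≪≫
      (CohMop.isoExtIso hU.isoSpec.inv ((Scheme.Modules.restrictFunctor U.ι).obj F) i).app _ ≪≫
      ((CohMop.ihom _).rightDerived i).mapIso ((κ.app G).symm ≪≫ tl G hG.1) ≪≫
      ({ hom := NatTrans.rightDerived ψ.hom i
         inv := NatTrans.rightDerived ψ.inv i
         hom_inv_id := by rw [← NatTrans.rightDerived_comp, Iso.hom_inv_id, NatTrans.rightDerived_id]
         inv_hom_id := by rw [← NatTrans.rightDerived_comp, Iso.inv_hom_id, NatTrans.rightDerived_id] } :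
        (CohMop.ihom _).rightDerived i ≅ (CohMop.ihom (tilde MF)).rightDerived i).app _ ≪≫ e
  exact ⟨(M1.affineSecEquiv _ hU).symm.trans ((moduleSpecΓFunctor.mapIso e' ≪≫
    (asIso ((tilde.adjunction (R := Γ(X, U))).unit.app _)).symm).toLinearEquiv)⟩

end Groth.Agent.S14409
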