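import Groth.Statements.S1441
import Groth.Agent.Lib.FlatH4.PullFlat
import Groth.Agent.Lib.FlatH4.FlatLocusFP

set_option autoImplicit false
universe u
open FlatMor

namespace Groth.Agent.S1441


open Groth.Agent AlgebraicGeometry CategoryTheory

theorem isOpen_flatOverAt {X Y S : Scheme.{u}} (f : X ⟶ Y) (g : Y ⟶ S) [LocallyOfFinitePresentation (f ≫ g)]
    [LocallyOfFiniteType g] (F : X.Modules) [Coh.IsQCoh F] (hfp : CohB1.IsFP F) :
    IsOpen {x : X | FlatMod.IsFlatOverAt f F x} := by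
  refine isOpen_iff_forall_mem_open.mpr fun x hx => ?_
  obtain ⟨V, hV, hsV, -⟩ :=
    exists_isAffineOpen_mem_and_subset (X := S) (x := g (f x)) (U := ⊤) trivial
  obtain ⟨U, hU, hyU, hUV⟩ :=
    exists_isAffineOpen_mem_and_subset (X := Y) (x := f x) (U := g ⁻¹ᵁ V) hsV
  obtain ⟨W, hW, hxW, hWU⟩ :=
    exists_isAffineOpen_mem_and_subset (X := X) (x := x) (U := f ⁻¹ᵁ U) hyU
  have e : W ≤ (f ≫ g) ⁻¹ᵁ V := fun z hz => hUV (hWU hz)
  letI : Algebra Γ(S, V) Γ(X, W) := ((f ≫ g).appLE V W e).hom.toAlgebra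
  letI : Algebra Γ(S, V) Γ(Y, U) := (g.appLE V U hUV).hom.toAlgebra
  letI : Algebra Γ(Y, U) Γ(X, W) := (f.appLE U W hWU).hom.toAlgebra
  haveI : IsScalarTower Γ(S, V) Γ(Y, U) Γ(X, W) := IsScalarTower.of_algebraMap_eq fun r => by
    show (f ≫ g).appLE V W e r = (g.appLE V U hUV ≫ f.appLE U W hWU) r
    rw [Scheme.Hom.appLE_comp_appLE]
  haveI : Algebra.FinitePresentation Γ(S, V) Γ(X, W) := (f ≫ g).finitePresentation_appLE hV hW e
  haveI : Algebra.FiniteType Γ(S, V) Γ(Y, U) := g.finiteType_appLE hV hU hUV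
  haveI : Algebra.FinitePresentation Γ(Y, U) Γ(X, W) :=
    Algebra.FinitePresentation.of_restrict_scalars_finitePresentation Γ(S, V) Γ(Y, U) Γ(X, W)
  letI := FlatH4.secModuleOver f F U W hWU
  haveI : IsScalarTower Γ(Y, U) Γ(X, W) Γ(F, W) := IsScalarTower.of_algebraMap_smul fun _ _ => rfl
  haveI : Module.FinitePresentation Γ(X, W) Γ(F, W) := M1.finitePresentation_sections hfp hW
  have hopen := FlatH4.isOpen_flat_localized (R := Γ(Y, U)) (S := Γ(X, W)) (M := Γ(F, W))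
  have hc : Continuous fun y : W => hW.primeIdealOf y := hW.isoSpec.hom.continuous
  refine ⟨_, ?_, W.2.isOpenEmbedding_subtypeVal.isOpenMap _ (hopen.preimage hc),
    ⟨⟨x, hxW⟩, (FlatH4.isFlatOverAt_iff f F U hU W hW hWU hxW).1 hx, rfl⟩⟩
  rintro _ ⟨⟨z, hz⟩, hzf, rfl⟩
  exact (FlatH4.isFlatOverAt_iff f F U hU W hW hWU hz).2 hzf


open AlgebraicGeometry CategoryTheory Limits in
/-- Let f : X → Y be a morphism over S with X locally of finite presentation and Y locally of finite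
type over S, and F a finitely presented quasi-coherent O_X-module flat over S. Then the set U of
points where F is flat over Y is open in X, and for any base change S' → S (with X', Y', F' the base
changes) the corresponding set for F' over Y' is the preimage of U. -/
theorem result {X Y S : Scheme.{u}} (f : X ⟶ Y) (g : Y ⟶ S) [LocallyOfFinitePresentation (f ≫ g)] [LocallyOfFiniteType g]
    (F : X.Modules) (hq : Coh.IsQCoh F) (hfp : CohB1.IsFP F) (hfl : FlatMod.IsFlatOver (f ≫ g) F) :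
    IsOpen {x : ↑X | FlatMod.IsFlatOverAt f F x} ∧
      ∀ {X' Y' S' : Scheme.{u}} (h : S' ⟶ S) (gY : Y' ⟶ Y) (g' : Y' ⟶ S') (hY : IsPullback gY g' g h)
        (gX : X' ⟶ X) (f' : X' ⟶ Y') (hX : IsPullback gX (f' ≫ g') (f ≫ g) h) (w : gX ≫ f = f' ≫ gY),
        {x' : ↑X' | FlatMod.IsFlatOverAt f' ((Scheme.Modules.pullback gX).obj F) x'} = gX ⁻¹' {x : ↑X | FlatMod.IsFlatOverAt f F x} := by
  haveI := hq
  refine ⟨isOpen_flatOverAt f g F hfp, ?_⟩
  intro X' Y' S' h gY g' hY gX f' hX w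
  ext x'
  exact ⟨fun hF => FlatH4.isFlatOverAt_of_baseChange f g hY hX w F hfp x' (hfl _) hF,
    fun hF => FlatH4.isFlatOverAt_baseChange (IsPullback.of_bot hX w hY) F x' hF⟩

end Groth.Agent.S1441
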