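import Groth.Statements.S14410
import Groth.Agent.Lib.CohFound.Push

set_option autoImplicit false
universe u
open CategoryTheory TopologicalSpace
open CohTop

namespace Groth.Agent.S14410

/-- Let X be a topological space and 0 → F₁ → F₂ → F₃ → 0 a short exact sequence of sheaves of abelian
groups on X. If F₁ and F₃ are flasque (every restriction map is surjective), then F₂ is flasque.
(The published statement is for O_X-modules on a ringed space and is an equivalence; this row states
the implication from the outer terms to the middle term, for the underlying abelian sheaves.) -/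
theorem result (X : TopCat.{u})
    (S : ShortComplex (TopCat.Sheaf AddCommGrpCat.{u} X)) (hS : S.ShortExact)
    [S.X₁.IsFlasque] [S.X₃.IsFlasque] : S.X₂.IsFlasque := by
  refine CohFound.isFlasque_mk S.X₂ fun U V h s => ?_
  have e3 := CohFound.flasque_surjective S.X₃ h
  obtain ⟨a, ha⟩ := e3 (S.g.hom.app (Opposite.op V) s)
  obtain ⟨b, hb⟩ := CohFound.surjective_app_of_flasque hS U a
  haveI : @Mono (CohTop.Ab X) _ _ _ S.f := hS.mono_f
  obtain ⟨c, hc⟩ := CohFound.exact_app (S := S) hS.exact (U := V)
    (s - S.X₂.obj.map (homOfLE h).op b) (by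
      rw [map_sub, NatTrans.naturality_apply S.g.hom (homOfLE h).op b, hb, ha, sub_self])
  obtain ⟨d, hd⟩ := CohFound.flasque_surjective S.X₁ h c
  refine ⟨b + S.f.hom.app (Opposite.op U) d, ?_⟩
  rw [map_add, ← NatTrans.naturality_apply S.f.hom (homOfLE h).op d, hd, hc, add_sub_cancel]

end Groth.Agent.S14410
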