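import Groth.Statements.S14413
import Groth.Agent.Lib.DMod.Homology
import Mathlib.Algebra.Category.ModuleCat.Projective
import Mathlib.Algebra.Category.ModuleCat.Abelian
import Mathlib.CategoryTheory.Abelian.Projective.Resolution
import Mathlib.CategoryTheory.Abelian.Projective.Dimension

set_option autoImplicit false
universe u
open CategoryTheory CategoryTheory.Limits
open CAlg

namespace Groth.Agent.S14413
open CAlg

open CategoryTheory CategoryTheory.Limits
open Groth.Agent

noncomputable section

variable {R : Type u} [CommRing R]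

theorem pdIso {X X' : ModuleCat.{u} R} (e : X ≅ X') {n : ℕ} (h : HasProjectiveDimensionLT X n) :
    HasProjectiveDimensionLT X' n :=
  have := h
  hasProjectiveDimensionLT_of_iso e n

theorem shortExact_ker {A B : Type u} [AddCommGroup A] [Module R A] [AddCommGroup B] [Module R B]
    (f : A →ₗ[R] B) :
    (ShortComplex.mk (ModuleCat.ofHom (LinearMap.ker f).subtype) (ModuleCat.ofHom f.rangeRestrict)
      (ModuleCat.hom_ext (LinearMap.ext fun x => Subtype.ext x.2))).ShortExact := by
  refine ShortComplex.ShortExact.mk' ?_ ?_ ?_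
  · rw [ShortComplex.moduleCat_exact_iff]
    intro x hx
    exact ⟨⟨x, congrArg Subtype.val hx⟩, rfl⟩
  · exact (ModuleCat.mono_iff_injective _).2 Subtype.val_injective
  · exact (ModuleCat.epi_iff_surjective _).2 f.surjective_rangeRestrict

theorem pd_ker {A B : Type u} [AddCommGroup A] [Module R A] [Module.Projective R A] [AddCommGroup B]
    [Module R B] (f : A →ₗ[R] B) (n : ℕ) :
    HasProjectiveDimensionLT (ModuleCat.of R (LinearMap.range f)) (n + 2) ↔
      HasProjectiveDimensionLT (ModuleCat.of R (LinearMap.ker f)) (n + 1) :=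
  (shortExact_ker f).hasProjectiveDimensionLT_X₃_iff n
    (show CategoryTheory.Projective (ModuleCat.of R A) from
      (IsProjective.iff_projective (R := R) A).1 inferInstance)

/-- A cover by a projective module. -/
structure Stage (R : Type u) [CommRing R] where
  K : ModuleCat.{u} R
  X : ModuleCat.{u} R
  π : X →ₗ[R] K
  surj : Function.Surjective π
  proj : Module.Projective R X
  bij : Module.Projective R K → Function.Injective π

open Classical in
def stageOf (K : ModuleCat.{u} R) : Stage R :=
  if h : Module.Projective R K then ⟨K, K, LinearMap.id, fun x => ⟨x, rfl⟩, h, fun _ _ _ e => e⟩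
  else ⟨K, ModuleCat.of R (K →₀ R), Finsupp.linearCombination R id,
    Finsupp.linearCombination_id_surjective R K,
    inferInstanceAs (Module.Projective R (K →₀ R)), fun h' => absurd h' h⟩

theorem stageOf_K (K : ModuleCat.{u} R) : (stageOf K).K = K := by
  unfold stageOf
  by_cases h : Module.Projective R K
  · rw [dif_pos h]
  · rw [dif_neg h]

def stage (M : ModuleCat.{u} R) : ℕ → Stage R
  | 0 => stageOf M
  | k + 1 => stageOf (ModuleCat.of R (LinearMap.ker (stage M k).π))

/-- The kernel, identified with the next target. -/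
def nextEquiv (M : ModuleCat.{u} R) (k : ℕ) :
    (stage M (k + 1)).K ≃ₗ[R] LinearMap.ker (stage M k).π :=
  (eqToIso (stageOf_K (ModuleCat.of R (LinearMap.ker (stage M k).π))) :
    (stage M (k + 1)).K ≅ ModuleCat.of R (LinearMap.ker (stage M k).π)).toLinearEquiv

def zeroEquiv (M : ModuleCat.{u} R) : (stage M 0).K ≃ₗ[R] M :=
  (eqToIso (stageOf_K M) : (stage M 0).K ≅ M).toLinearEquiv

def diff (M : ModuleCat.{u} R) (k : ℕ) : (stage M (k + 1)).X →ₗ[R] (stage M k).X :=
  (LinearMap.ker (stage M k).π).subtype ∘ₗ (nextEquiv M k).toLinearMap ∘ₗ (stage M (k + 1)).π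

theorem diff_surj (M : ModuleCat.{u} R) (k : ℕ) (x : (stage M k).X) (hx : (stage M k).π x = 0) :
    ∃ y, diff M k y = x := by
  obtain ⟨y, hy⟩ := ((nextEquiv M k).surjective.comp (stage M (k + 1)).surj) ⟨x, hx⟩
  exact ⟨y, congrArg Subtype.val hy⟩

theorem π_diff (M : ModuleCat.{u} R) (k : ℕ) (y : (stage M (k + 1)).X) :
    (stage M k).π (diff M k y) = 0 := (nextEquiv M k ((stage M (k + 1)).π y)).2

theorem diff_eq_zero (M : ModuleCat.{u} R) (k : ℕ) (y : (stage M (k + 1)).X) :
    diff M k y = 0 ↔ (stage M (k + 1)).π y = 0 := by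
  constructor
  · intro h
    exact (nextEquiv M k).injective (by rw [map_zero]; exact Subtype.ext h)
  · intro h
    simp [diff, h]

def cx (M : ModuleCat.{u} R) : ChainComplex (ModuleCat.{u} R) ℕ :=
  ChainComplex.of (fun k => (stage M k).X) (fun k => ModuleCat.ofHom (diff M k))
    (fun k => ModuleCat.hom_ext (LinearMap.ext fun y => (diff_eq_zero M k _).2 (π_diff M (k + 1) y)))

theorem cx_d (M : ModuleCat.{u} R) (k : ℕ) : (cx M).d (k + 1) k = ModuleCat.ofHom (diff M k) :=
  (ChainComplex.of_d (fun k => (stage M k).X) (fun k => ModuleCat.ofHom (diff M k)) k :)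

def aug0 (M : ModuleCat.{u} R) : (stage M 0).X →ₗ[R] M := (zeroEquiv M).toLinearMap ∘ₗ (stage M 0).π

def aug (M : ModuleCat.{u} R) : cx M ⟶ (ChainComplex.single₀ (ModuleCat.{u} R)).obj M :=
  ((cx M).toSingle₀Equiv _).symm ⟨ModuleCat.ofHom (aug0 M), by
    rw [cx_d]
    exact ModuleCat.hom_ext (LinearMap.ext fun y =>
      (congrArg (zeroEquiv M) (π_diff M 0 y)).trans (map_zero _))⟩

theorem aug_f_zero (M : ModuleCat.{u} R) : (aug M).f 0 = ModuleCat.ofHom (aug0 M) :=
  ChainComplex.toSingle₀Equiv_symm_apply_f_zero _ _

theorem quasiIso_aug (M : ModuleCat.{u} R) : QuasiIso (aug M) := by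
  rw [quasiIso_iff]
  intro i
  cases i with
  | zero =>
    rw [quasiIsoAt_iff_isIso_homologyMap, ConcreteCategory.isIso_iff_bijective]
    refine DMod.homologyMap_bijective_of _ (ChainComplex.prev ℕ 0) ChainComplex.next_nat_zero ?_ ?_
    · intro x _
      obtain ⟨w, hw⟩ := ((zeroEquiv M).surjective.comp (stage M 0).surj) x
      refine ⟨w, 0, by simp <;> rfl, ?_⟩
      rw [aug_f_zero, map_zero, add_zero]
      exact hw
    · intro w y _ hy
      rw [aug_f_zero] at hy
      have hw : aug0 M w = 0 := by
        refine hy.symm.trans ?_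
        simp only [HomologicalComplex.single_obj_d]
        rfl
      obtain ⟨v, hv⟩ := diff_surj M 0 w ((zeroEquiv M).injective (hw.trans (map_zero _).symm))
      exact ⟨v, by rw [cx_d]; exact hv⟩
  | succ i =>
    rw [quasiIsoAt_iff_exactAt' _ _ (ChainComplex.exactAt_succ_single_obj ..), DMod.exactAt_iff_subsingleton,
      DMod.subsingleton_homology_iff (i := i + 2) (k := i) _ (ChainComplex.prev ℕ (i + 1)) (ChainComplex.next_nat_succ i)]
    intro x hx
    rw [cx_d] at hx
    obtain ⟨v, hv⟩ := diff_surj M (i + 1) x ((diff_eq_zero M i x).1 hx)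
    exact ⟨v, by rw [cx_d]; exact hv⟩

def res (M : ModuleCat.{u} R) : ProjectiveResolution M where
  complex := cx M
  projective i := have := (stage M i).proj; (IsProjective.iff_projective (R := R) (stage M i).X).1 inferInstance
  π := aug M
  quasiIso := quasiIso_aug M

theorem pd_stage (M : ModuleCat.{u} R) (k n : ℕ)
    (h : HasProjectiveDimensionLT M (k + n + 1)) :
    HasProjectiveDimensionLT (stage M k).K (n + 1) := by
  induction k generalizing n with
  | zero => exact pdIso (zeroEquiv M).toModuleIso.symm (by simpa using h)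
  | succ k ih =>
    have := (stage M k).proj
    have h1 := ih (n + 1) (by convert h using 1; omega)
    have h2 : HasProjectiveDimensionLT (ModuleCat.of R (LinearMap.range (stage M k).π)) (n + 2) :=
      pdIso ((LinearEquiv.ofTop _ (LinearMap.range_eq_top.2 (stage M k).surj)).symm.toModuleIso) h1
    exact pdIso (nextEquiv M k).toModuleIso.symm ((pd_ker _ n).1 h2)

theorem isZero_of_lt (M : ModuleCat.{u} R) (d : ℕ) (h : HasProjectiveDimensionLE M d) :
    ∀ i, d < i → IsZero ((res M).complex.X i) := by
  have key : ∀ i, d ≤ i → Function.Injective (stage M i).π := by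
    intro i hi
    have h1 := pd_stage M i 0 (hasProjectiveDimensionLT_of_ge M (d + 1) _ (by omega))
    exact (stage M i).bij ((IsProjective.iff_projective (R := R) (stage M i).K).2
      ((projective_iff_hasProjectiveDimensionLT_one (X := (stage M i).K)).2 h1))
  intro i hi
  obtain ⟨i, rfl⟩ : ∃ j, i = j + 1 := ⟨i - 1, by omega⟩
  show IsZero (stage M (i + 1)).X
  have : Subsingleton (LinearMap.ker (stage M i).π) := by
    rw [LinearMap.ker_eq_bot.2 (key i (by omega))]; infer_instance
  have : Subsingleton (stage M (i + 1)).K := (nextEquiv M i).injective.subsingleton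
  have : Subsingleton (stage M (i + 1)).X := (key (i + 1) (by omega)).subsingleton
  exact ModuleCat.isZero_of_subsingleton _

theorem pd_range (M : ModuleCat.{u} R) (P : ProjectiveResolution M) (d : ℕ)
    (hP : ∀ i, d < i → IsZero (P.complex.X i)) (n : ℕ) (i : ℕ) (hi : d ≤ i + n + 1) :
    HasProjectiveDimensionLT (ModuleCat.of R (LinearMap.range (P.complex.d (i + 1) i).hom)) (n + 1) := by
  induction n generalizing i with
  | zero =>
    have : Subsingleton (P.complex.X (i + 2)) := ModuleCat.subsingleton_of_isZero (hP _ (by omega))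
    have hinj : Function.Injective (P.complex.d (i + 1) i).hom := by
      rw [← LinearMap.ker_eq_bot, eq_bot_iff]
      intro x hx
      have hex := P.exact_succ i
      rw [ShortComplex.moduleCat_exact_iff] at hex
      obtain ⟨y, hy⟩ := hex x hx
      rw [Submodule.mem_bot, ← hy, Subsingleton.elim y 0]
      exact map_zero _
    exact pdIso (LinearEquiv.ofInjective _ hinj).toModuleIso
      (projective_iff_hasProjectiveDimensionLT_one.1
        ((IsProjective.iff_projective (R := R) _).1
          ((IsProjective.iff_projective (R := R) _).2 (P.projective (i + 1)))))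
  | succ n ih =>
    have : Module.Projective R (P.complex.X (i + 1)) :=
      (IsProjective.iff_projective (R := R) _).2 (P.projective _)
    refine (pd_ker _ n).2 ?_
    have he : LinearMap.ker (P.complex.d (i + 1) i).hom = LinearMap.range (P.complex.d (i + 2) (i + 1)).hom := by
      have hex := P.exact_succ i
      rw [ShortComplex.moduleCat_exact_iff] at hex
      refine le_antisymm (fun x hx => ?_) ?_
      · obtain ⟨y, hy⟩ := hex x hx
        exact ⟨y, hy⟩
      · rintro _ ⟨y, rfl⟩
        exact LinearMap.congr_fun (congrArg ModuleCat.Hom.hom (P.complex.d_comp_d (i + 2) (i + 1) i)) y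
    rw [he]
    exact ih (i + 1) (by omega)

theorem pd_of_res (M : ModuleCat.{u} R) (P : ProjectiveResolution M) (d : ℕ)
    (hP : ∀ i, d < i → IsZero (P.complex.X i)) : HasProjectiveDimensionLE M d := by
  have : Module.Projective R (P.complex.X 0) := (IsProjective.iff_projective (R := R) _).2 (P.projective _)
  let q : P.complex.X 0 →ₗ[R] M := (P.π.f 0).hom
  have hq : Function.Surjective q := (ModuleCat.epi_iff_surjective _).1 inferInstance
  refine pdIso (LinearEquiv.ofTop _ (LinearMap.range_eq_top.2 hq)).toModuleIso ?_
  have he : LinearMap.ker q = LinearMap.range (P.complex.d 1 0).hom := by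
    have hex := P.exact₀
    rw [ShortComplex.moduleCat_exact_iff] at hex
    refine le_antisymm (fun x hx => ?_) ?_
    · obtain ⟨y, hy⟩ := hex x hx
      exact ⟨y, hy⟩
    · rintro _ ⟨y, rfl⟩
      exact LinearMap.congr_fun (congrArg ModuleCat.Hom.hom P.complex_d_comp_π_f_zero) y
  rcases d with _ | d
  · have : Subsingleton (P.complex.X 1) := ModuleCat.subsingleton_of_isZero (hP 1 one_pos)
    have : Subsingleton (LinearMap.ker q) := by
      rw [he]; exact (P.complex.d 1 0).hom.surjective_rangeRestrict.subsingleton
    have hb : LinearMap.ker q = ⊥ := Submodule.eq_bot_of_subsingleton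
    have e := LinearEquiv.ofBijective q.rangeRestrict
      ⟨LinearMap.ker_eq_bot.1 (by rw [LinearMap.ker_rangeRestrict]; exact hb), q.surjective_rangeRestrict⟩
    exact pdIso e.toModuleIso (projective_iff_hasProjectiveDimensionLT_one.1
        ((IsProjective.iff_projective (R := R) (P.complex.X 0)).1 inferInstance))
  · refine (pd_ker q d).2 ?_
    rw [he]
    exact pd_range M P (d + 1) hP d 0 (by omega)

end

/-- Let R be a commutative ring, M an R-module and d ≥ 0. Then M has projective dimension at most d in
the sense that Ext^i_R(M, N) = 0 for every i > d and every R-module N (Mathlib's Ext-vanishing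
definition) if and only if M has a projective resolution of length at most d, i.e. a projective
resolution P whose terms P_i are zero for all i > d (the definition of pd_R(M) ≤ d by resolutions). -/
theorem result (R : Type u) [CommRing R]
    (M : ModuleCat.{u} R) (d : ℕ) :
    HasProjectiveDimensionLE M d ↔
      ∃ P : ProjectiveResolution M, ∀ i : ℕ, d < i → IsZero (P.complex.X i) := by
  exact ⟨fun h => ⟨res M, isZero_of_lt M d h⟩, fun ⟨P, hP⟩ => pd_of_res M P d hP⟩

end Groth.Agent.S14413
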