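import Groth.Statements.S14414
import Groth.Statements.S16235
import Groth.Agent.Lib.FlatSyz.ProjDim
import Groth.Agent.Lib.FlatSyz.TorDim
import Groth.Agent.Lib.TorSymm3.Basic
import Mathlib.RingTheory.Ideal.KrullsHeightTheorem

set_option autoImplicit false
universe u
open CategoryTheory CategoryTheory.Limits
open CAlg

namespace Groth.Agent.S14414
open CategoryTheory CategoryTheory.Limits

theorem main (R : Type u) [CommRing R] : ∀ (q : ℕ) (M : Type u) [AddCommGroup M] [Module R M]
    (N : Type u) [AddCommGroup N] [Module R N], HasProjectiveDimensionLE (ModuleCat.of R N) q →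
    ∀ i : ℕ, q < i → IsZero (((CategoryTheory.Tor (ModuleCat.{u} R) i).obj (ModuleCat.of R M)).obj (ModuleCat.of R N)) := by
  intro q
  induction q with
  | zero =>
    intro M _ _ N _ _ h i hi
    obtain ⟨j, rfl⟩ : ∃ j, i = j + 1 := ⟨i - 1, by omega⟩
    haveI : Projective (ModuleCat.of R N) := (projective_iff_hasProjectiveDimensionLE_zero _).2 h
    exact Functor.isZero_leftDerived_obj_projective_succ _ j _
  | succ q ih =>
    intro M _ _ N _ _ h i hi
    obtain ⟨j, rfl⟩ : ∃ j, i = j + 2 := ⟨i - 2, by omega⟩
    obtain ⟨F, _, _, _, π, hπ⟩ : ∃ (F : Type u) (_ : AddCommGroup F) (_ : Module R F) (_ : Module.Projective R F)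
        (π : F →ₗ[R] N), Function.Surjective π :=
      ⟨N →₀ R, inferInstance, inferInstance, inferInstance, Finsupp.linearCombination R id,
        Finsupp.linearCombination_id_surjective R N⟩
    have hK := (Groth.Agent.FlatSyz.hasProjectiveDimensionLE_succ_iff (LinearMap.ker π).subtype
      (LinearMap.ker π).injective_subtype π (LinearMap.exact_subtype_ker_map π) hπ q).1 h
    refine (Groth.Agent.TorSymm3.isZero_tor_comm (j + 1) N M).1 ?_
    refine (Groth.Agent.FlatSyz.isZero_tor_shift (LinearMap.ker π).subtype (LinearMap.ker π).injective_subtype π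
      (LinearMap.exact_subtype_ker_map π) hπ j).2 ?_
    exact (Groth.Agent.TorSymm3.isZero_tor_comm j _ M).2 (ih M _ hK (j + 1) (by omega))

/-- Let R be a commutative ring and N an R-module of projective dimension at most q, in the sense that
Ext^i_R(N, N′) = 0 for all i > q and all N′ (equivalently, N has a projective resolution of length
at most q). Then for every R-module M and every i > q, Tor_i^R(M, N) — the value at N of the i-th
left derived functor of M ⊗_R (-) — is zero. -/
theorem result (R : Type u) [CommRing R]
    (M N : ModuleCat.{u} R) (q : ℕ) [HasProjectiveDimensionLE N q] (i : ℕ) (hi : q < i) :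
    IsZero (((CategoryTheory.Tor (ModuleCat.{u} R) i).obj M).obj N) := by
  exact main R q M N ‹_› i hi

end Groth.Agent.S14414
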