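import Groth.Statements.S14416
import Mathlib.RingTheory.GradedAlgebra.Homogeneous.Ideal
import Mathlib.RingTheory.Artinian.Ring
import Mathlib.RingTheory.FiniteType
import Mathlib.RingTheory.IntegralClosure.IsIntegralClosure.Basic
import Mathlib.RingTheory.Localization.FractionRing
import Mathlib.RingTheory.Localization.Integral
import Mathlib.Algebra.Module.FinitePresentation
import Mathlib.RingTheory.Flat.Basic
import Mathlib.LinearAlgebra.Contraction
import Mathlib.RingTheory.LocalRing.Module
import Mathlib.RingTheory.Support
import Mathlib.RingTheory.FiniteLength
import Mathlib.LinearAlgebra.Dimension.Finrank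
import Mathlib.LinearAlgebra.FiniteDimensional.Basic
import Mathlib.Algebra.Ring.Action.Basic
import Mathlib.Algebra.GroupWithZero.Action.End
import Mathlib.RingTheory.HopkinsLevitzki
import Mathlib.Algebra.CharP.Invertible

set_option autoImplicit false
universe u
open scoped TensorProduct
open CAlg

namespace Groth.Agent.S14416
open TensorProduct

/-- Let B → A be a ring map with A a finitely generated B-module such that for every prime ideal p of B
the fibre κ(p) ⊗_B A has dimension at most one over the residue field κ(p). Then B → A is
surjective. In scheme language: a finite morphism whose degree at every point of the target is 0 or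
1 is a closed immersion. (The published statement assumes the two schemes Noetherian; that
hypothesis plays no role and is dropped here.) -/
theorem result
    (B A : Type u) [CommRing B] [CommRing A] [Algebra B A] [Module.Finite B A]
    (h : ∀ p : PrimeSpectrum B,
      Module.finrank p.asIdeal.ResidueField (p.asIdeal.ResidueField ⊗[B] A) ≤ 1) :
    Function.Surjective (algebraMap B A) := by
  let N := LinearMap.range (Algebra.linearMap B A)
  suffices hN : N = ⊤ by exact LinearMap.range_eq_top.1 hN
  rw [← Submodule.Quotient.subsingleton_iff, ← Module.support_eq_empty_iff (R := B), Set.eq_empty_iff_forall_notMem]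
  intro p hp
  rw [Module.mem_support_iff_nontrivial_residueField_tensorProduct, ← not_subsingleton_iff_nontrivial] at hp
  refine hp (subsingleton_of_forall_eq 0 fun z => ?_)
  obtain ⟨w, rfl⟩ := LinearMap.baseChange_surjective (R := B) p.asIdeal.ResidueField N.mkQ_surjective z
  rcases subsingleton_or_nontrivial (p.asIdeal.ResidueField ⊗[B] A) with hs | hs
  · rw [Subsingleton.elim w 0, map_zero]
  · have h1 : ((1 : p.asIdeal.ResidueField) ⊗ₜ[B] (1 : A)) ≠ 0 := one_ne_zero (α := p.asIdeal.ResidueField ⊗[B] A)
    obtain ⟨c, rfl⟩ := exists_smul_eq_of_finrank_eq_one (le_antisymm (h p) Module.finrank_pos) h1 w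
    rw [map_smul, LinearMap.baseChange_tmul, show N.mkQ 1 = 0 from (Submodule.Quotient.mk_eq_zero _).2 ⟨1, (algebraMap B A).map_one⟩, tmul_zero, smul_zero]

end Groth.Agent.S14416
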