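import Groth.Statements.S14418
import Groth.Statements.S14864
import Groth.Statements.S14051
import Groth.Statements.S9658
import Groth.Statements.S15329
import Mathlib.RingTheory.WittVector.Identities
import Mathlib.RingTheory.WittVector.Domain
import Mathlib.RingTheory.WittVector.Truncated
import Mathlib.RingTheory.Nakayama
import Mathlib.Algebra.Homology.ShortComplex.ModuleCat
import Mathlib.Algebra.Homology.ShortComplex.ShortExact
import Mathlib.Algebra.Category.ModuleCat.EpiMono
import Mathlib.RingTheory.Ideal.AssociatedPrime.Finiteness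

set_option autoImplicit false
universe u
open CategoryTheory
open CAlg

namespace Groth.Agent.S14418
open CAlg

open CategoryTheory CategoryTheory.Limits

theorem isZero_of_finite {B A : Type u} [CommRing B] [CommRing A] [IsNoetherianRing B]
    (T : ModuleCat.{u} B ⥤ ModuleCat.{u} A) [T.Additive]
    (hex : ∀ S : ShortComplex (ModuleCat.{u} B), S.ShortExact → Module.Finite B S.X₁ →
      Module.Finite B S.X₂ → Module.Finite B S.X₃ → (S.map T).Exact)
    (J : Ideal B) (hJ : ∀ q : PrimeSpectrum B, J ≤ q.1 → IsZero (T.obj (ModuleCat.of B (B ⧸ q.1))))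
    (M : Type u) [AddCommGroup M] [Module B M] [Module.Finite B M] (hM : ∀ b ∈ J, ∀ z : M, b • z = 0) :
    IsZero (T.obj (ModuleCat.of B M)) := by
  revert hM
  induction ‹Module.Finite B M› using IsNoetherianRing.induction_on_isQuotientEquivQuotientPrime B with
  | subsingleton M =>
    intro _
    exact Functor.map_isZero T (ModuleCat.isZero_of_subsingleton (ModuleCat.of B M))
  | quotient M q e =>
    intro hM
    refine IsZero.of_iso (hJ q fun b hb => ?_) (T.mapIso e.toModuleIso)
    have := congrArg e (hM b hb (e.symm 1))
    rwa [map_smul, LinearEquiv.apply_symm_apply, map_zero, Algebra.smul_def, mul_one,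
      Ideal.Quotient.algebraMap_eq, Ideal.Quotient.eq_zero_iff_mem] at this
  | exact M₁ M₂ M₃ i p hi hp hip h1 h3 =>
    intro hM
    let S : ShortComplex (ModuleCat.{u} B) := ShortComplex.mk (ModuleCat.ofHom i) (ModuleCat.ofHom p)
      (ModuleCat.hom_ext (LinearMap.ext hip.apply_apply_eq_zero))
    have hS : S.ShortExact :=
      ShortComplex.ShortExact.mk' ((ShortComplex.moduleCat_exact_iff S).2 fun z hz => (hip z).1 hz)
        ((ModuleCat.mono_iff_injective _).2 hi) ((ModuleCat.epi_iff_surjective _).2 hp)
    exact (hex S hS ‹_› ‹_› ‹_›).isZero_of_both_zeros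
      ((h1 fun b hb z => hi (by rw [map_smul, hM b hb, map_zero])).eq_of_src _ _)
      ((h3 fun b hb z => by obtain ⟨z, rfl⟩ := hp z; rw [← map_smul, hM b hb, map_zero]).eq_of_tgt _ _)

/-- Let B → A be a local homomorphism of Noetherian local rings, n the maximal ideal of B, and T an
additive functor from B-modules to A-modules which is B-linear (T applied to multiplication by b ∈ B
is multiplication by the image of b in A), carries finitely generated B-modules to finitely
generated A-modules, and is half-exact on finitely generated modules (every short exact sequence of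
finitely generated B-modules goes to a sequence exact at its middle term). If T(B/n) = 0 then T(N) =
0 for every finitely generated B-module N. (The published statement takes T defined on finitely
generated modules only; here T is defined on all B-modules while every hypothesis and the conclusion
concern finitely generated modules.) -/
theorem result {B A : Type u} [CommRing B] [CommRing A]
    [IsNoetherianRing B] [IsLocalRing B] [IsNoetherianRing A] [IsLocalRing A] [Algebra B A]
    [IsLocalHom (algebraMap B A)] (T : ModuleCat.{u} B ⥤ ModuleCat.{u} A) [T.Additive]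
    (hlin : ∀ (N : ModuleCat.{u} B) (b : B),
      T.map (ModuleCat.ofHom (b • (LinearMap.id : N →ₗ[B] N))) =
        ModuleCat.ofHom (algebraMap B A b • (LinearMap.id : T.obj N →ₗ[A] T.obj N)))
    (hfin : ∀ N : ModuleCat.{u} B, Module.Finite B N → Module.Finite A (T.obj N))
    (hex : ∀ S : ShortComplex (ModuleCat.{u} B), S.ShortExact → Module.Finite B S.X₁ →
      Module.Finite B S.X₂ → Module.Finite B S.X₃ → (S.map T).Exact)
    (h0 : Limits.IsZero (T.obj (ModuleCat.of B (B ⧸ IsLocalRing.maximalIdeal B))))
    (N : ModuleCat.{u} B) [Module.Finite B N] : Limits.IsZero (T.obj N) := by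
  have prime : ∀ P : Ideal B, P.IsPrime → IsZero (T.obj (ModuleCat.of B (B ⧸ P))) := by
    intro P
    induction P using WellFoundedGT.induction with
    | _ P ih =>
      intro hP
      by_cases hm : P = IsLocalRing.maximalIdeal B
      · subst hm; exact h0
      obtain ⟨x, hxm, hxP⟩ : ∃ x ∈ IsLocalRing.maximalIdeal B, x ∉ P := by
        by_contra h
        push_neg at h
        exact hm (le_antisymm (IsLocalRing.le_maximalIdeal hP.ne_top) h)
      let i : (B ⧸ P) →ₗ[B] B ⧸ P := x • LinearMap.id
      have hi : Function.Injective i := by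
        refine (injective_iff_map_eq_zero i).2 fun z hz => ?_
        obtain ⟨b, rfl⟩ := Ideal.Quotient.mk_surjective z
        have hz' : Ideal.Quotient.mk P (x * b) = 0 := hz
        rw [Ideal.Quotient.eq_zero_iff_mem] at hz'
        exact Ideal.Quotient.eq_zero_iff_mem.2 ((hP.mem_or_mem hz').resolve_left hxP)
      let S : ShortComplex (ModuleCat.{u} B) := ShortComplex.mk (ModuleCat.ofHom i)
        (ModuleCat.ofHom (LinearMap.range i).mkQ)
        (ModuleCat.hom_ext (LinearMap.range_mkQ_comp i))
      have hS : S.ShortExact :=
        ShortComplex.ShortExact.mk' ((ShortComplex.moduleCat_exact_iff S).2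
          fun z hz => (LinearMap.exact_map_mkQ_range i z).1 hz)
          ((ModuleCat.mono_iff_injective _).2 hi) ((ModuleCat.epi_iff_surjective _).2 (Submodule.mkQ_surjective _))
      have h3 : IsZero (T.obj S.X₃) := by
        refine isZero_of_finite T hex (P ⊔ Ideal.span {x}) (fun q hq => ih q.1 ?_ q.2) _ fun b hb z => ?_
        · exact lt_of_le_of_ne (le_sup_left.trans hq) fun h =>
            hxP (h ▸ hq (Ideal.mem_sup_right (Ideal.mem_span_singleton_self x)))
        · obtain ⟨z, rfl⟩ := Submodule.mkQ_surjective _ z
          obtain ⟨c, hc, d, hd, rfl⟩ := Submodule.mem_sup.1 hb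
          obtain ⟨e, rfl⟩ := Ideal.mem_span_singleton'.1 hd
          rw [← map_smul, Submodule.mkQ_apply, Submodule.Quotient.mk_eq_zero]
          obtain ⟨w, rfl⟩ := Ideal.Quotient.mk_surjective z
          refine ⟨e • Ideal.Quotient.mk P w, ?_⟩
          rw [add_smul, show c • Ideal.Quotient.mk P w = 0 from
            Ideal.Quotient.eq_zero_iff_mem.2 (P.mul_mem_right w hc), zero_add, mul_comm, mul_smul]
          rfl
      have hepi : Epi (T.map S.f) :=
        (hex S hS (inferInstanceAs (Module.Finite B (B ⧸ P))) (inferInstanceAs (Module.Finite B (B ⧸ P)))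
          (inferInstanceAs (Module.Finite B ((B ⧸ P) ⧸ LinearMap.range i)))).epi_f (h3.eq_of_tgt _ _)
      have hsurj := (ModuleCat.epi_iff_surjective _).1 hepi
      rw [show T.map S.f = _ from hlin (ModuleCat.of B (B ⧸ P)) x] at hsurj
      have hf := hfin (ModuleCat.of B (B ⧸ P)) (inferInstanceAs (Module.Finite B (B ⧸ P)))
      have htop : (⊤ : Submodule A (T.obj (ModuleCat.of B (B ⧸ P)))) = ⊥ :=
        Submodule.eq_bot_of_le_smul_of_le_jacobson_bot (IsLocalRing.maximalIdeal A) _ hf.fg_top
          (fun z _ => by
            obtain ⟨w, rfl⟩ := hsurj z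
            exact Submodule.smul_mem_smul (((IsLocalRing.local_hom_TFAE (algebraMap B A)).out 0 2 rfl rfl).mp
              inferInstance (Ideal.mem_map_of_mem _ hxm)) Submodule.mem_top)
          (IsLocalRing.maximalIdeal_le_jacobson _)
      have : Subsingleton (T.obj (ModuleCat.of B (B ⧸ P))) :=
        ⟨fun a b => ((Submodule.mem_bot A).1 (htop ▸ (Submodule.mem_top : a ∈ ⊤))).trans
          ((Submodule.mem_bot A).1 (htop ▸ (Submodule.mem_top : b ∈ ⊤))).symm⟩
      exact ModuleCat.isZero_of_subsingleton _
  exact isZero_of_finite T hex ⊥ (fun q _ => prime q.1 q.2) N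
    fun b hb z => by rw [(Submodule.mem_bot B).1 hb, zero_smul]

end Groth.Agent.S14418
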