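import Groth.Statements.S14420
import Groth.Agent.Lib.Depth.More
-- import your own Groth.Agent.* helpers here

set_option autoImplicit false
universe u
open CategoryTheory
open LocCoh

namespace Groth.Agent.S14420

/-- Let A be a Noetherian local ring and M, N nonzero finitely generated A-modules. Then Ext^i_A(N, M) =
0 for all i < depth M − dim Supp N. Here depth M = d and the Krull dimension of the support of N = r
are given as natural numbers and the conclusion is stated for every i with i + r < d. -/
theorem result (A : Type u) [CommRing A] [IsNoetherianRing A]
    [IsLocalRing A] (M N : Type u) [AddCommGroup M] [Module A M] [AddCommGroup N] [Module A N]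
    [Module.Finite A M] [Module.Finite A N] [Nontrivial M] [Nontrivial N]
    (d r i : ℕ) (hd : LocCoh.depth A M = d) (hr : Module.supportDim A N = r) (hi : i + r < d) :
    Subsingleton (Abelian.Ext (ModuleCat.of A N) (ModuleCat.of A M) i) := by
  exact Groth.Agent.DepthLib.subsingleton_ext_of_supportDim_le N (d := d) hd.ge hr.le hi

end Groth.Agent.S14420
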