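import Groth.Statements.S14421
import Mathlib.Algebra.Homology.ShortComplex.ModuleCat
import Mathlib.CategoryTheory.Abelian.Refinements

set_option autoImplicit false
universe u v
open CategoryTheory
open HomAlg

namespace Groth.Agent.S14421


/-- Let φ : K → J be a morphism of cochain complexes of modules over a ring which is surjective in
degree p − 1. Then the map induced on cohomology in degree p is surjective if and only if the map
induced on cocycles in degree p is surjective. (Stated for cochain complexes indexed by the
integers; the published statement is for three-term complexes in degrees p − 1, p, p + 1, which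
embed as such complexes.) -/
theorem result {R : Type u} [Ring R]
    (K J : CochainComplex (ModuleCat.{v} R) ℤ) (φ : K ⟶ J) (p : ℤ) [Epi (φ.f (p - 1))] :
    Epi (HomologicalComplex.homologyMap φ p) ↔ Epi (HomologicalComplex.cyclesMap φ p) := by
  constructor
  · intro h
    rw [epi_iff_surjective_up_to_refinements]
    intro T z
    obtain ⟨T₁, π₁, hπ₁, k, hk⟩ := surjective_up_to_refinements_of_epi (HomologicalComplex.homologyMap φ p) (z ≫ J.homologyπ p)
    obtain ⟨T₂, π₂, hπ₂, c, hc⟩ := surjective_up_to_refinements_of_epi (K.homologyπ p) k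
    have h0 : (π₂ ≫ π₁ ≫ z - c ≫ HomologicalComplex.cyclesMap φ p) ≫ J.homologyπ p = 0 := by
      rw [Preadditive.sub_comp, Category.assoc, Category.assoc, Category.assoc,
        ← HomologicalComplex.homologyπ_naturality, ← Category.assoc c, ← hc, hk, Category.assoc, sub_self]
    have hex : (ShortComplex.mk (J.toCycles (p - 1) p) (J.homologyπ p) (J.toCycles_comp_homologyπ _ _)).Exact :=
      ShortComplex.exact_of_g_is_cokernel _ (J.homologyIsCokernel (p - 1) p (by simp))
    obtain ⟨T₃, π₃, hπ₃, j, hj⟩ := hex.exact_up_to_refinements _ h0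
    obtain ⟨T₄, π₄, hπ₄, l, hl⟩ := surjective_up_to_refinements_of_epi (φ.f (p - 1)) j
    dsimp at hj
    refine ⟨T₄, π₄ ≫ π₃ ≫ π₂ ≫ π₁, inferInstance, π₄ ≫ π₃ ≫ c + l ≫ K.toCycles (p - 1) p, ?_⟩
    have e : K.toCycles (p - 1) p ≫ HomologicalComplex.cyclesMap φ p = φ.f (p - 1) ≫ J.toCycles (p - 1) p := by
      rw [← cancel_mono (J.iCycles p)]
      simp
    have e' : π₄ ≫ j ≫ J.toCycles (p - 1) p = l ≫ φ.f (p - 1) ≫ J.toCycles (p - 1) p := by
      rw [reassoc_of% hl]
    rw [Preadditive.add_comp, Category.assoc, Category.assoc, Category.assoc, Category.assoc, Category.assoc,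
      Category.assoc, e, ← e', ← hj, Preadditive.comp_sub, Preadditive.comp_sub]
    abel
  · intro h
    have : Epi (K.homologyπ p ≫ HomologicalComplex.homologyMap φ p) := by
      rw [HomologicalComplex.homologyπ_naturality]
      infer_instance
    exact epi_of_epi (K.homologyπ p) _


end Groth.Agent.S14421
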