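import Groth.Statements.S14422
import Groth.Agent.Lib.TorBal27.Filtered
import Mathlib.Algebra.Homology.HomologySequence
import Mathlib.Algebra.Homology.HomologicalComplexAbelian

set_option autoImplicit false
universe u
open CategoryTheory
open CAlg

namespace Groth.Agent.S14422


open CategoryTheory CategoryTheory.Limits CategoryTheory.MonoidalCategory in
theorem main (A : Type u) [CommRing A] (M : ModuleCat.{u} A)
    (S : ShortComplex (ModuleCat.{u} A)) (hS : S.ShortExact) (i : ℕ) :
    (∃ w₀ : ((Tor (ModuleCat.{u} A) i).obj M).map S.f ≫ ((Tor (ModuleCat.{u} A) i).obj M).map S.g = 0,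
        (ShortComplex.mk (((Tor (ModuleCat.{u} A) i).obj M).map S.f) (((Tor (ModuleCat.{u} A) i).obj M).map S.g) w₀).Exact) ∧
      Epi (((Tor (ModuleCat.{u} A) 0).obj M).map S.g) ∧
      ∃ (δ : ((Tor (ModuleCat.{u} A) (i + 1)).obj M).obj S.X₃ ⟶ ((Tor (ModuleCat.{u} A) i).obj M).obj S.X₁)
        (w₁ : ((Tor (ModuleCat.{u} A) (i + 1)).obj M).map S.g ≫ δ = 0)
        (w₂ : δ ≫ ((Tor (ModuleCat.{u} A) i).obj M).map S.f = 0),
        (ShortComplex.mk (((Tor (ModuleCat.{u} A) (i + 1)).obj M).map S.g) δ w₁).Exact ∧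
          (ShortComplex.mk δ (((Tor (ModuleCat.{u} A) i).obj M).map S.f) w₂).Exact := by
  let F := Groth.Agent.TorBal27.tcxFun (R := A) M
  let E : ∀ n, (Tor (ModuleCat.{u} A) n).obj M ≅ F ⋙ HomologicalComplex.homologyFunctor _ _ n := fun n =>
    (Groth.Agent.TorBal27.nonempty_tor_iso_flip (R := A) n).some.app M ≪≫ Groth.Agent.TorBal27.flipIso M n
  have w : F.map S.f ≫ F.map S.g = 0 := by
    rw [← F.map_comp, S.zero]
    exact HomologicalComplex.hom_ext _ _ fun j => MonoidalPreadditive.zero_whiskerRight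
  let T := ShortComplex.mk _ _ w
  have hT : T.ShortExact := by
    refine HomologicalComplex.shortExact_of_degreewise_shortExact _ fun j => ?_
    let P := (Groth.Agent.TorBal27.cx M).X j
    haveI : Module.Flat A P := by
      haveI : Projective P := (Groth.Agent.TorBal27.res M).projective j
      haveI : Module.Projective A P := (IsProjective.iff_projective (R := A) P).2 (show Projective (ModuleCat.of A P) by assumption)
      infer_instance
    have hinj : Function.Injective S.f.hom := (ModuleCat.mono_iff_injective _).1 hS.mono_f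
    have hsurj : Function.Surjective S.g.hom := (ModuleCat.epi_iff_surjective _).1 hS.epi_g
    have hex : Function.Exact S.f.hom S.g.hom := (ShortComplex.ShortExact.moduleCat_exact_iff_function_exact S).1 hS.exact
    exact { exact := (ShortComplex.ShortExact.moduleCat_exact_iff_function_exact _).2 (rTensor_exact P hex hsurj)
            mono_f := (ModuleCat.mono_iff_injective _).2 (Module.Flat.rTensor_preserves_injective_linearMap S.f.hom hinj)
            epi_g := (ModuleCat.epi_iff_surjective _).2 (LinearMap.rTensor_surjective P hsurj) }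
  have nat : ∀ n {X Y : ModuleCat.{u} A} (φ : X ⟶ Y), ((Tor (ModuleCat.{u} A) n).obj M).map φ =
      (E n).hom.app X ≫ HomologicalComplex.homologyMap (F.map φ) n ≫ (E n).inv.app Y := by
    intro n X Y φ
    exact (NatIso.naturality_2 (E n) φ).symm
  refine ⟨⟨?_, ?_⟩, ?_, ?_⟩
  · rw [nat, nat, Category.assoc, Category.assoc]
    erw [Iso.inv_hom_id_app_assoc, ← HomologicalComplex.homologyMap_comp_assoc, w, HomologicalComplex.homologyMap_zero, zero_comp, comp_zero]
  · refine ShortComplex.exact_of_iso ?_ (hT.homology_exact₂ i)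
    exact ShortComplex.isoMk ((E i).app _).symm ((E i).app _).symm ((E i).app _).symm
      ((E i).inv.naturality S.f).symm ((E i).inv.naturality S.g).symm
  · rw [nat]
    haveI : Epi (HomologicalComplex.homologyMap (F.map S.g) 0) := by
      haveI : Epi ((F.map S.g).f 0) :=
        (ModuleCat.epi_iff_surjective _).2 (LinearMap.rTensor_surjective ((Groth.Agent.TorBal27.cx M).X 0)
          ((ModuleCat.epi_iff_surjective _).1 hS.epi_g))
      exact HomologicalComplex.epi_homologyMap_of_epi_of_not_rel (F.map S.g) 0 (fun j hj => by simp at hj)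
    exact @epi_comp _ _ _ _ _ _ (inferInstance : Epi ((E 0).app S.X₂).hom) _
      (@epi_comp _ _ _ _ _ _ ‹_› _ (inferInstance : Epi ((E 0).app S.X₃).inv))
  · let δ := (E (i + 1)).hom.app S.X₃ ≫ hT.δ (i + 1) i rfl ≫ (E i).inv.app S.X₁
    have w₁ : ((Tor (ModuleCat.{u} A) (i + 1)).obj M).map S.g ≫ δ = 0 := by
      simp only [δ, nat, Category.assoc]
      erw [Iso.inv_hom_id_app_assoc, hT.comp_δ_assoc]
      simp
      rfl
    have w₂ : δ ≫ ((Tor (ModuleCat.{u} A) i).obj M).map S.f = 0 := by
      simp only [δ, nat, Category.assoc]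
      erw [Iso.inv_hom_id_app_assoc, hT.δ_comp_assoc]
      simp
      rfl
    refine ⟨δ, w₁, w₂, ShortComplex.exact_of_iso ?_ (hT.homology_exact₃ (i + 1) i rfl),
      ShortComplex.exact_of_iso ?_ (hT.homology_exact₁ (i + 1) i rfl)⟩
    · exact ShortComplex.isoMk ((E (i + 1)).app _).symm ((E (i + 1)).app _).symm ((E i).app _).symm
        ((E (i + 1)).inv.naturality S.g).symm (Iso.inv_hom_id_app_assoc (E (i + 1)) _ _)
    · exact ShortComplex.isoMk ((E (i + 1)).app _).symm ((E i).app _).symm ((E i).app _).symm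
        (Iso.inv_hom_id_app_assoc (E (i + 1)) _ _) ((E i).inv.naturality S.f).symm



/-- Long exact sequence for Tor: let A be a ring, M an A-module and 0 → N' → N → N'' → 0 a short exact
sequence of A-modules; write Tor_i(M, ·) for the i-th left derived functor of M ⊗_A ·. Then for
every i the composite Tor_i(M, N') → Tor_i(M, N) → Tor_i(M, N'') is zero and the sequence is exact,
Tor_0(M, N) → Tor_0(M, N'') is surjective, and there is a connecting map δ_i : Tor_{i+1}(M, N'') →
Tor_i(M, N') such that Tor_{i+1}(M, N) → Tor_{i+1}(M, N'') → Tor_i(M, N') and Tor_{i+1}(M, N'') →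
Tor_i(M, N') → Tor_i(M, N) are exact. (Only the existence of connecting maps with these exactness
properties is asserted; the published statement refers to the natural connecting homomorphisms.) -/
theorem result (A : Type u) [CommRing A] (M : ModuleCat.{u} A)
    (S : ShortComplex (ModuleCat.{u} A)) (hS : S.ShortExact) (i : ℕ) :
    (∃ w₀ : ((Tor (ModuleCat.{u} A) i).obj M).map S.f ≫ ((Tor (ModuleCat.{u} A) i).obj M).map S.g = 0,
        (ShortComplex.mk (((Tor (ModuleCat.{u} A) i).obj M).map S.f) (((Tor (ModuleCat.{u} A) i).obj M).map S.g) w₀).Exact) ∧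
      Epi (((Tor (ModuleCat.{u} A) 0).obj M).map S.g) ∧
      ∃ (δ : ((Tor (ModuleCat.{u} A) (i + 1)).obj M).obj S.X₃ ⟶ ((Tor (ModuleCat.{u} A) i).obj M).obj S.X₁)
        (w₁ : ((Tor (ModuleCat.{u} A) (i + 1)).obj M).map S.g ≫ δ = 0)
        (w₂ : δ ≫ ((Tor (ModuleCat.{u} A) i).obj M).map S.f = 0),
        (ShortComplex.mk (((Tor (ModuleCat.{u} A) (i + 1)).obj M).map S.g) δ w₁).Exact ∧
          (ShortComplex.mk δ (((Tor (ModuleCat.{u} A) i).obj M).map S.f) w₂).Exact := by
  exact main A M S hS i

end Groth.Agent.S14422
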