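import Groth.Statements.S14423
import Groth.Agent.Lib.TorOne17.Basic
import Mathlib

set_option autoImplicit false
universe u
open CategoryTheory
open CAlg

namespace Groth.Agent.S14423
open CategoryTheory

open TensorProduct MvPolynomial in
theorem ker_le {S : Type u} [CommRing S] {M : Type u} [AddCommGroup M] [Module S M] (m : Ideal S)
    (h : Limits.IsZero (((Tor (ModuleCat.{u} S) 1).obj (ModuleCat.of S M)).obj (ModuleCat.of S (S ⧸ m))))
    {F : Type u} [AddCommGroup F] [Module S F] [Module.Projective S F] (p : F →ₗ[S] M)
    (hp : Function.Surjective p) (hle : LinearMap.ker p ≤ m • (⊤ : Submodule S F)) :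
    LinearMap.ker p ≤ m • LinearMap.ker p := by
  obtain ⟨e⟩ := Groth.Agent.TorOne17.nonempty_tor_one_equiv M m.mkQ m.mkQ_surjective
  have hsub : Subsingleton (((Tor (ModuleCat.{u} S) 1).obj (ModuleCat.of S M)).obj (ModuleCat.of S (S ⧸ m))) :=
    ModuleCat.subsingleton_of_isZero h
  have hinj : Function.Injective ((LinearMap.ker m.mkQ).subtype.lTensor M) := by
    rw [← LinearMap.ker_eq_bot, ← Submodule.subsingleton_iff_eq_bot]
    exact e.symm.toEquiv.subsingleton
  have h1 := (Groth.Agent.FlatSyz.lTensor_injective_iff_rTensor_injective (LinearMap.ker p).subtype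
    (Submodule.injective_subtype _) p (LinearMap.exact_subtype_ker_map p) hp (LinearMap.ker m.mkQ).subtype
    (Submodule.injective_subtype _) m.mkQ (LinearMap.exact_subtype_ker_map _) m.mkQ_surjective).1 hinj
  intro x hx
  let e' := TensorProduct.tensorQuotEquivQuotSMul (R := S) (LinearMap.ker p) m
  have hzero : (⟨x, hx⟩ : LinearMap.ker p) ⊗ₜ[S] (1 : S ⧸ m) = 0 := by
    apply h1
    rw [map_zero, LinearMap.rTensor_tmul, Submodule.subtype_apply]
    apply (TensorProduct.tensorQuotEquivQuotSMul (R := S) F m).injective
    rw [map_zero, ← map_one (Ideal.Quotient.mk m), TensorProduct.tensorQuotEquivQuotSMul_tmul_mk,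
      one_smul, Submodule.Quotient.mk_eq_zero]
    exact hle hx
  have := congrArg e' hzero
  rw [map_zero, ← map_one (Ideal.Quotient.mk m), TensorProduct.tensorQuotEquivQuotSMul_tmul_mk,
    one_smul, Submodule.Quotient.mk_eq_zero, Submodule.mem_smul_top_iff] at this
  exact this

/-- Graded freeness criterion: let k be a field, S = k[x_0, …, x_n] with its standard grading by degree,
and M a finitely generated graded S-module. If Tor_1^S(M, k) = 0, where k = S/S_+ (S modulo the
ideal of polynomials with zero constant term) and Tor_1^S(M, ·) is the first left derived functor of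
M ⊗_S ·, then M is free with a basis of homogeneous elements, i.e. M is isomorphic as a graded
module to a finite direct sum of shifted copies S(−d_i). (Here the module is graded in non-negative
degrees; the published statement allows any integer degrees.) -/
theorem result (k : Type u) [Field k] (n : ℕ)
    (M : Type u) [AddCommGroup M] [Module (MvPolynomial (Fin (n + 1)) k) M]
    [Module.Finite (MvPolynomial (Fin (n + 1)) k) M]
    (ℳ : ℕ → AddSubgroup M)
    [SetLike.GradedSMul (MvPolynomial.homogeneousSubmodule (Fin (n + 1)) k) ℳ]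
    [DirectSum.Decomposition ℳ]
    (h : Limits.IsZero (((Tor (ModuleCat.{u} (MvPolynomial (Fin (n + 1)) k)) 1).obj
      (ModuleCat.of (MvPolynomial (Fin (n + 1)) k) M)).obj
      (ModuleCat.of (MvPolynomial (Fin (n + 1)) k)
        (MvPolynomial (Fin (n + 1)) k ⧸
          RingHom.ker (MvPolynomial.constantCoeff : MvPolynomial (Fin (n + 1)) k →+* k))))) :
    ∃ (ι : Type u) (b : Module.Basis ι (MvPolynomial (Fin (n + 1)) k) M),
      ∀ i, SetLike.IsHomogeneousElem ℳ (b i) := by
  classical
  set S := MvPolynomial (Fin (n + 1)) k with hS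
  set m := RingHom.ker (MvPolynomial.constantCoeff : S →+* k) with hmdef
  haveI hmax : m.IsMaximal := RingHom.ker_isMaximal_of_surjective _ fun c => ⟨MvPolynomial.C c, MvPolynomial.constantCoeff_C _ c⟩
  letI : Field (S ⧸ m) := Ideal.Quotient.field m
  let V := M ⧸ (m • ⊤ : Submodule S M)
  let H : Set M := {x | SetLike.IsHomogeneousElem ℳ x}
  let π : M → V := Submodule.Quotient.mk
  have hH : Submodule.span S H = ⊤ := by
    rw [eq_top_iff]
    intro x _
    rw [← DirectSum.sum_support_decompose ℳ x]
    exact Submodule.sum_mem _ fun i _ => Submodule.subset_span ⟨i, Subtype.coe_prop _⟩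
  obtain ⟨b, hb, hspan, hli⟩ := exists_linearIndependent (S ⧸ m) (π '' H)
  have hspan' : Submodule.span (S ⧸ m) b = ⊤ := by
    rw [hspan, ← Submodule.restrictScalars_eq_top_iff S, Submodule.restrictScalars_span S (S ⧸ m)
      Ideal.Quotient.mk_surjective]
    show Submodule.span S ((m • ⊤ : Submodule S M).mkQ '' H) = ⊤
    rw [Submodule.span_image, hH, Submodule.map_top, Submodule.range_mkQ]
  choose g hg hgπ using fun x : b => hb x.2
  let N : Submodule S M := Submodule.span S (Set.range g)
  -- homogeneous generators
  let proj : ℕ → M →+ M := fun d => (ℳ d).subtype.comp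
    ((DFinsupp.evalAddMonoidHom d).comp (DirectSum.decomposeAddEquiv ℳ).toAddMonoidHom)
  have hproj_same : ∀ d, ∀ x ∈ ℳ d, proj d x = x := fun d x hx => DirectSum.decompose_of_mem_same ℳ hx
  have hproj_ne : ∀ d e, ∀ x ∈ ℳ d, d ≠ e → proj e x = 0 := fun d e x hx he =>
    DirectSum.decompose_of_mem_ne ℳ hx he
  have hsmul : ∀ (a c : ℕ) (r : S) (x : M), r ∈ MvPolynomial.homogeneousSubmodule (Fin (n + 1)) k a →
      x ∈ ℳ c → r • x ∈ ℳ (a + c) := fun a c r x hr hx => SetLike.GradedSMul.smul_mem hr hx
  -- projection of a scalar multiple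
  have hprojsmul : ∀ (d : ℕ) (r : S) (x : M), proj d (r • x) = ∑ a ∈ Finset.range (r.totalDegree + 1),
      ∑ c ∈ (DirectSum.decompose ℳ x).support, if a + c = d then
        MvPolynomial.homogeneousComponent a r • (DirectSum.decompose ℳ x c : M) else 0 := by
    intro d r x
    conv_lhs => rw [← DirectSum.sum_support_decompose ℳ x, ← MvPolynomial.sum_homogeneousComponent r,
      Finset.sum_smul, map_sum]
    refine Finset.sum_congr rfl fun a _ => ?_
    rw [Finset.smul_sum, map_sum]
    refine Finset.sum_congr rfl fun c _ => ?_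
    have hm' := hsmul a c _ _ (MvPolynomial.homogeneousComponent_mem a r) (Subtype.coe_prop (DirectSum.decompose ℳ x c))
    split_ifs with hac
    · exact hproj_same _ _ (hac ▸ hm')
    · exact hproj_ne _ _ _ hm' hac
  have hN : ∀ d, ∀ x ∈ ℳ d, x ∈ N := by
    intro d
    induction d using Nat.strong_induction_on with
    | _ d ih =>
      have h1 : ∀ z ∈ (m • ⊤ : Submodule S M), proj d z ∈ N := by
        intro z hz
        refine Submodule.smul_induction_on hz (fun r hr y _ => ?_) fun y y' hy hy' => by
          rw [map_add]; exact N.add_mem hy hy'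
        rw [hprojsmul]
        refine Submodule.sum_mem _ fun a _ => Submodule.sum_mem _ fun c _ => ?_
        split_ifs with hac
        · rcases Nat.eq_zero_or_pos a with rfl | ha
          · rw [MvPolynomial.homogeneousComponent_zero, show r.coeff 0 = 0 from hr, map_zero, zero_smul]
            exact N.zero_mem
          · exact N.smul_mem _ (ih c (by omega) _ (Subtype.coe_prop _))
        · exact N.zero_mem
      have h2 : ∀ z ∈ N, proj d z ∈ N := by
        intro z hz
        obtain ⟨f, rfl⟩ := Finsupp.mem_span_range_iff_exists_finsupp.1 hz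
        rw [map_finsuppSum]
        refine Submodule.sum_mem _ fun i _ => ?_
        show proj d (f i • g i) ∈ N
        obtain ⟨c, hc⟩ := hg i
        rw [← MvPolynomial.sum_homogeneousComponent (f i), Finset.sum_smul, map_sum]
        refine Submodule.sum_mem _ fun a _ => ?_
        by_cases hac : a + c = d
        · rw [hproj_same d _ (hac ▸ hsmul a c _ _ (MvPolynomial.homogeneousComponent_mem a _) hc)]
          exact N.smul_mem _ (Submodule.subset_span ⟨i, rfl⟩)
        · rw [hproj_ne _ _ _ (hsmul a c _ _ (MvPolynomial.homogeneousComponent_mem a _) hc) hac]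
          exact N.zero_mem
      intro x hx
      have hx' : x ∈ N ⊔ (m • ⊤ : Submodule S M) := by
        have : π x ∈ (Submodule.span (S ⧸ m) b).restrictScalars S := by rw [hspan']; trivial
        rw [Submodule.restrictScalars_span S (S ⧸ m) Ideal.Quotient.mk_surjective] at this
        have hb' : b = (m • ⊤ : Submodule S M).mkQ '' Set.range g := by
          rw [← Set.range_comp]
          conv_lhs => rw [← Subtype.range_coe (s := b)]
          exact congrArg Set.range (funext fun i => (hgπ i).symm)
        change (m • ⊤ : Submodule S M).mkQ x ∈ _ at this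
        rw [hb', Submodule.span_image, ← Submodule.mem_comap (f := (m • ⊤ : Submodule S M).mkQ),
          Submodule.comap_map_mkQ, sup_comm] at this
        exact this
      obtain ⟨y, hy, z, hz, rfl⟩ := Submodule.mem_sup.1 hx'
      rw [← hproj_same d _ hx, map_add]
      exact N.add_mem (h2 y hy) (h1 z hz)
  let p : (b →₀ S) →ₗ[S] M := Finsupp.linearCombination S g
  have hp : Function.Surjective p := by
    rw [← LinearMap.range_eq_top, Finsupp.range_linearCombination, eq_top_iff, ← hH, Submodule.span_le]
    rintro x ⟨i, hi⟩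
    exact hN i x hi
  have hli' : LinearIndependent (S ⧸ m) (fun x : b => π (g x)) := by
    simpa only [hgπ] using hli
  have hbfin : Finite b := hli.finite
  have hle : LinearMap.ker p ≤ m • (⊤ : Submodule S (b →₀ S)) := by
    intro f hf
    have := Fintype.ofFinite b
    have hsum : ∑ i, f i • g i = 0 := by
      rw [← LinearMap.mem_ker.1 hf]
      rw [show p f = f.sum (fun i a => a • g i) from Finsupp.linearCombination_apply S f]
      exact (Finsupp.sum_fintype f (fun i a => a • g i) (fun i => zero_smul S (g i))).symm
    have hco := Fintype.linearIndependent_iff.1 hli' (fun i => Ideal.Quotient.mk m (f i)) (by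
      have : (m • ⊤ : Submodule S M).mkQ (∑ i, f i • g i) = 0 := by rw [hsum, map_zero]
      rw [map_sum] at this
      exact this)
    rw [← f.univ_sum_single]
    refine Submodule.sum_mem _ fun i _ => ?_
    rw [show Finsupp.single i (f i) = f i • Finsupp.single i (1 : S) by simp]
    exact Submodule.smul_mem_smul (Ideal.Quotient.eq_zero_iff_mem.1 (hco i)) trivial
  have hK := ker_le m h p hp hle
  obtain ⟨r, hr, hr0⟩ := Submodule.exists_sub_one_mem_and_smul_eq_zero_of_fg_of_le_smul m _
    (IsNoetherian.noetherian (LinearMap.ker p)) hK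
  have hker : LinearMap.ker p = ⊥ := by
    rw [eq_bot_iff]
    intro f hf
    refine (smul_eq_zero.1 (hr0 f hf)).resolve_left fun h0 => ?_
    rw [h0, zero_sub, neg_mem_iff] at hr
    exact hmax.ne_top ((Ideal.eq_top_iff_one _).2 hr)
  refine ⟨b, Module.Basis.ofRepr (LinearEquiv.ofBijective p ⟨LinearMap.ker_eq_bot.1 hker, hp⟩).symm, fun i => ?_⟩
  show SetLike.IsHomogeneousElem ℳ (p (Finsupp.single i 1))
  rw [Finsupp.linearCombination_single, one_smul]
  exact hg i

end Groth.Agent.S14423
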