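import Groth.Statements.S14424
import Groth.Agent.Lib.Depth.CM
-- import your own Groth.Agent.* helpers here

set_option autoImplicit false
universe u
open LocCoh

namespace Groth.Agent.S14424

/-- Let R be a Noetherian ring. Then R is Cohen–Macaulay (every localization at a prime ideal is a
Cohen–Macaulay local ring) if and only if for every proper ideal a of R the a-depth of R equals the
height (codimension) of a. (The published statement defines a Cohen–Macaulay ring by its
localizations at maximal ideals; this row uses all prime ideals, an equivalent definition because
Cohen–Macaulayness passes to localizations.) -/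
theorem result (R : Type u) [CommRing R] [IsNoetherianRing R] :
    LocCoh.IsCohenMacaulayRing R ↔ ∀ a : Ideal R, a ≠ ⊤ → LocCoh.idealDepth a R = a.height := by
  constructor
  · intro h a ha
    refine ENat.eq_of_forall_natCast_le_iff fun n => ?_
    rw [Groth.Agent.DepthLib.natCast_le_idealDepth_iff_forall_localized]
    have hd : ∀ (p : Ideal R) [p.IsPrime],
        LocCoh.depth (Localization.AtPrime p) (LocalizedModule p.primeCompl R) = p.height := by
      intro p _
      have := (h.isCohenMacaulayLocalRing_localization p).supportDim_eq_depth
      rw [Module.supportDim_self_eq_ringKrullDim,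
        IsLocalization.AtPrime.ringKrullDim_eq_height p] at this
      rw [Groth.Agent.DepthLib.depth_localizedModule_self]
      exact (WithBot.coe_injective this).symm
    constructor
    · intro H
      rw [Ideal.height_eq_inf_minimalPrimes]
      refine le_iInf₂ fun p hp => ?_
      have := hp.1.1
      have h1 := H ⟨p, this⟩ hp.1.2
      rw [hd] at h1
      exact h1
    · intro H p hp
      rw [hd]
      exact H.trans (Ideal.height_mono hp)
  · intro h
    refine @LocCoh.IsCohenMacaulayRing.mk R _ _ fun p hp =>
      @LocCoh.IsCohenMacaulayLocalRing.mk _ _ _ _ (le_antisymm ?_
        Groth.Agent.DepthLib.depth_le_supportDim)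
    have h1 : LocCoh.idealDepth p R ≤
        LocCoh.depth (Localization.AtPrime p) (LocalizedModule p.primeCompl R) :=
      ENat.forall_natCast_le_iff_le.1 fun n hn =>
        (Groth.Agent.DepthLib.natCast_le_idealDepth_iff_forall_localized n).1 hn ⟨p, hp⟩ le_rfl
    rw [h p hp.ne_top, Groth.Agent.DepthLib.depth_localizedModule_self] at h1
    rw [Module.supportDim_self_eq_ringKrullDim, IsLocalization.AtPrime.ringKrullDim_eq_height p]
    exact WithBot.coe_le_coe.2 h1


end Groth.Agent.S14424
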