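import Groth.Statements.S14425
import Groth.Agent.Lib.Depth.More
-- import your own Groth.Agent.* helpers here

set_option autoImplicit false
universe u
open LocCoh

namespace Groth.Agent.S14425

/-- Let (R, m) be a Noetherian local ring, M a nonzero finitely generated R-module and x_1, …, x_n
elements of m generating the ideal a. Then depth(a, M) = n if and only if x_1, …, x_n is an
M-regular sequence (each x_i a non-zero-divisor on M/(x_1, …, x_{i-1})M; the condition (x)M ≠ M is
automatic here). -/
theorem result {R : Type u} [CommRing R] [IsNoetherianRing R] [IsLocalRing R]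
    {M : Type u} [AddCommGroup M] [Module R M] [Module.Finite R M] [Nontrivial M]
    (xs : List R) (hxs : ∀ x ∈ xs, x ∈ IsLocalRing.maximalIdeal R) :
    LocCoh.idealDepth (Ideal.span {x | x ∈ xs}) M = xs.length ↔ RingTheory.Sequence.IsWeaklyRegular M xs := by
  refine ⟨fun h => Groth.Agent.DepthLib.isWeaklyRegular_of_length_le_idealDepth xs hxs h.ge, fun h => ?_⟩
  have hI : ∀ r ∈ xs, r ∈ Ideal.span {x | x ∈ xs} := fun r hr => Ideal.subset_span hr
  have hm : Ideal.span {x | x ∈ xs} ≤ IsLocalRing.maximalIdeal R := Ideal.span_le.2 hxs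
  refine (Groth.Agent.DepthLib.length_eq_idealDepth_of_maximal h hI ?_ ?_).symm
  · exact (Submodule.top_ne_ideal_smul_of_le_jacobson_annihilator
      (hm.trans (IsLocalRing.maximalIdeal_le_jacobson _))).symm
  · intro r hr hreg
    have h2 := (RingTheory.Sequence.isWeaklyRegular_singleton_iff _ r).1
      ((RingTheory.Sequence.isWeaklyRegular_append_iff M xs [r]).1 hreg).2
    refine Submodule.top_ne_ideal_smul_of_le_jacobson_annihilator
      (hm.trans (IsLocalRing.maximalIdeal_le_jacobson (Module.annihilator R M))) ?_
    symm
    rw [eq_top_iff]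
    intro m _
    rw [← Submodule.Quotient.mk_eq_zero]
    refine h2.right_eq_zero_of_smul ?_
    rw [← Submodule.Quotient.mk_smul, Submodule.Quotient.mk_eq_zero]
    exact Submodule.smul_mem_smul hr trivial

end Groth.Agent.S14425
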