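import Groth.Statements.S14426
import Groth.Agent.Lib.KoszulH13.Basic
import Groth.Agent.Lib.Depth.Basic
import Mathlib.RingTheory.Regular.IsSMulRegular
import Mathlib.RingTheory.Ideal.AssociatedPrime.Finiteness

set_option autoImplicit false
universe u
open Koszul3

namespace Groth.Agent.S14426

open CategoryTheory CategoryTheory.Limits in
/-- Let (R, m) be a Noetherian local ring, M a nonzero finitely generated R-module and x_1, …, x_n
elements of m generating the ideal a. Then depth(a, M) ≤ n; the Koszul cohomology H^p(x; M) vanishes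
for every p < depth(a, M); and H^r(x; M) is nonzero for r = depth(a, M). (Cohomological indexing
with H^n(x; M) = M/(x)M; in homological indexing this reads H_i = 0 for i > n − r and H_{n−r} ≠ 0.
Koszul complex realised by iterated mapping cones, as in the prelude.) -/
theorem result {R : Type u} [CommRing R] [IsNoetherianRing R] [IsLocalRing R]
    (M : Type u) [AddCommGroup M] [Module R M] [Module.Finite R M] [Nontrivial M]
    (xs : List R) (hxs : ∀ x ∈ xs, x ∈ IsLocalRing.maximalIdeal R) :
    LocCoh.idealDepth (Ideal.span {x | x ∈ xs}) M ≤ xs.length ∧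
      (∀ p : ℕ, (p : ℕ∞) < LocCoh.idealDepth (Ideal.span {x | x ∈ xs}) M → IsZero (CohIII.koszulH xs (ModuleCat.of R M) p)) ∧
      (∀ r : ℕ, LocCoh.idealDepth (Ideal.span {x | x ∈ xs}) M = r → ¬ IsZero (CohIII.koszulH xs (ModuleCat.of R M) r)) := by
  set I : Ideal R := Ideal.span {x | x ∈ xs} with hI
  have hIm : I ≤ IsLocalRing.maximalIdeal R := Ideal.span_le.2 hxs
  have hne : I • (⊤ : Submodule R M) ≠ ⊤ := by
    intro h
    have : (⊤ : Submodule R M) ≤ IsLocalRing.maximalIdeal R • (⊤ : Submodule R M) :=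
      h.ge.trans (Submodule.smul_mono_left hIm)
    exact top_ne_bot (Submodule.eq_bot_of_le_smul_of_le_jacobson_bot _ _ Module.Finite.fg_top this
      (by rw [IsLocalRing.jacobson_eq_maximalIdeal _ bot_ne_top]))
  let M' : ModuleCat.{u} R := ModuleCat.of R M
  have hlen : ∀ rs : List R, RingTheory.Sequence.IsWeaklyRegular M rs → (∀ r ∈ rs, r ∈ I) →
      rs.length ≤ xs.length := by
    intro rs hreg hmem
    by_contra hlt
    have hz := KoszulH13.z_low xs rs M' hreg hmem xs.length (by omega)
    rw [sub_self] at hz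
    obtain ⟨e⟩ := KoszulH13.nonempty_top_equiv M' xs
    haveI := ModuleCat.subsingleton_of_isZero ((KoszulH13.z_iff M' xs 0).1 hz)
    exact hne (Submodule.Quotient.subsingleton_iff.1 e.symm.toEquiv.subsingleton)
  refine ⟨?_, fun p hp => ?_, fun r hr => ?_⟩
  · refine le_of_not_gt fun hgt => ?_
    have h1 : ((xs.length + 1 : ℕ) : ℕ∞) ≤ LocCoh.idealDepth I M := by
      push_cast; exact Order.add_one_le_of_lt hgt
    obtain ⟨rs, ⟨hreg, hmem⟩, hn⟩ := (Groth.Agent.DepthLib.natCast_le_idealDepth_iff_exists hne _).1 h1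
    have := hlen rs hreg hmem
    omega
  · have h1 : ((p + 1 : ℕ) : ℕ∞) ≤ LocCoh.idealDepth I M := by
      push_cast; exact Order.add_one_le_of_lt hp
    obtain ⟨rs, ⟨hreg, hmem⟩, hn⟩ := (Groth.Agent.DepthLib.natCast_le_idealDepth_iff_exists hne _).1 h1
    exact (KoszulH13.z_iff M' xs _).1 (KoszulH13.z_low xs rs M' hreg hmem p (by omega))
  · obtain ⟨rs, ⟨hreg, hmem⟩, hn⟩ :=
      (Groth.Agent.DepthLib.natCast_le_idealDepth_iff_exists hne r).1 hr.ge
    have hno : ∀ rs' : List R, RingTheory.Sequence.IsWeaklyRegular M rs' → (∀ s ∈ rs', s ∈ I) →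
        rs'.length ≤ r := fun rs' h1 h2 => by
      have := (Groth.Agent.DepthLib.natCast_le_idealDepth_iff_exists hne rs'.length).2
        ⟨rs', ⟨h1, h2⟩, le_rfl⟩
      rw [hr] at this
      exact_mod_cast this
    obtain rfl : rs.length = r := le_antisymm (hno rs hreg hmem) hn
    intro hz
    refine KoszulH13.not_z_max xs rs M' hreg hmem ?_ ((KoszulH13.z_iff M' xs _).2 hz)
    let Q := M ⧸ Ideal.ofList rs • (⊤ : Submodule R M)
    haveI : Nontrivial Q := Submodule.Quotient.nontrivial_iff.2 fun h => hne (top_le_iff.1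
      (h.ge.trans (Submodule.smul_mono_left (Ideal.span_le.2 hmem))))
    have hsub : (I : Set R) ⊆ ⋃ p ∈ associatedPrimes R Q, (p : Set R) := by
      rw [biUnion_associatedPrimes_eq_compl_regular]
      intro x hx hxreg
      have := hno (rs ++ [x])
        ((RingTheory.Sequence.isWeaklyRegular_append_iff M rs [x]).2
          ⟨hreg, (RingTheory.Sequence.isWeaklyRegular_singleton_iff _ x).2 hxreg⟩)
        (fun s hs => by
          rcases List.mem_append.1 hs with h | h
          · exact hmem s h
          · rw [List.mem_singleton.1 h]; exact hx)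
      simp at this
    obtain ⟨p, hp, hIp⟩ := (Ideal.subset_union_prime_finite (associatedPrimes.finite R Q) ⊤ ⊤
      (fun q hq _ _ => hq.isPrime)).1 hsub
    obtain ⟨hpp, f, hf⟩ := (isAssociatedPrime_iff_exists_injective_linearMap _ _).1 hp
    refine ⟨f (Ideal.Quotient.mk p 1), fun h0 => ?_, fun x hx => ?_⟩
    · have := hf (h0.trans (map_zero f).symm)
      exact hpp.one_notMem (Ideal.Quotient.eq_zero_iff_mem.1 this)
    · show x • f (Ideal.Quotient.mk p 1) = 0
      rw [← map_smul]
      convert map_zero f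
      show x • Ideal.Quotient.mk p 1 = 0
      rw [Algebra.smul_def]
      show Ideal.Quotient.mk p x * Ideal.Quotient.mk p 1 = 0
      rw [map_one, mul_one, Ideal.Quotient.eq_zero_iff_mem]
      exact hIp (Ideal.subset_span hx)

end Groth.Agent.S14426
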