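import Groth.Statements.S14427
import Mathlib

set_option autoImplicit false
universe u
open CAlgX

namespace Groth.Agent.S14427

open MvPolynomial in
/-- The linear form of a functional. -/
theorem exists_linear_form {k : Type u} [Field k] (l : (Fin 3 → k) →ₗ[k] k) :
    ∃ L : MvPolynomial (Fin 3) k, L.IsHomogeneous 1 ∧ ∀ v, aeval v L = l v := by
  classical
  refine ⟨∑ i, C (l (Pi.single i 1)) * X i, IsHomogeneous.sum _ _ _ fun i _ => by
    simpa using (isHomogeneous_C (Fin 3) (l (Pi.single i 1))).mul (isHomogeneous_X k i), fun v => ?_⟩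
  conv_rhs => rw [← Finset.univ_sum_single v, map_sum]
  simp only [map_sum, map_mul, aeval_C, aeval_X, Algebra.algebraMap_self, RingHom.id_apply]
  refine Finset.sum_congr rfl fun i _ => ?_
  rw [show Pi.single i (v i) = v i • (Pi.single i (1 : k) : Fin 3 → k) by
    rw [← Pi.single_smul', smul_eq_mul, mul_one], map_smul, smul_eq_mul, mul_comm]

theorem exists_sep {k : Type u} [Field k] {v : Fin 3 → k} {p : Submodule k (Fin 3 → k)} (h : v ∉ p) :
    ∃ l : (Fin 3 → k) →ₗ[k] k, l v ≠ 0 ∧ ∀ x ∈ p, l x = 0 := by
  obtain ⟨l, hl, hl'⟩ := Submodule.exists_dual_map_eq_bot_of_notMem h inferInstance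
  refine ⟨l, hl, fun x hx => ?_⟩
  have : l x ∈ p.map l := Submodule.mem_map_of_mem hx
  rwa [hl', Submodule.mem_bot] at this

/-- Let k be a field and Λ a set of n ≥ 3 nonzero vectors of k^3 which are pairwise linearly
independent, i.e. n distinct k-rational points of the projective plane. Then the space of
homogeneous forms of degree n − 1 in k[x_0, x_1, x_2] vanishing at every point of Λ — the global
sections of I_Λ(n − 1) — has dimension C(n+1, 2) − n over k, the same for all such Λ. (The published
statement is over an algebraically closed field; this row allows any field and k-rational points,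
which is all its argument uses.) -/
theorem result (k : Type u) [Field k] (n : ℕ) (hn : 3 ≤ n)
    (Λ : Finset (Fin 3 → k)) (hcard : Λ.card = n) (h0 : ∀ v ∈ Λ, v ≠ 0)
    (hdist : ∀ v ∈ Λ, ∀ w ∈ Λ, v ≠ w → LinearIndependent k ![v, w]) :
    Module.finrank k ↥(MvPolynomial.homogeneousSubmodule (Fin 3) k (n - 1) ⊓ ⨅ v ∈ Λ, LinearMap.ker (MvPolynomial.aeval v).toLinearMap) = Nat.choose (n + 1) 2 - n := by
  classical
  set d := n - 1
  set S := MvPolynomial.homogeneousSubmodule (Fin 3) k d
  have hdim : Module.finrank k S = Nat.choose (n + 1) 2 := by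
    let s : Set (Fin 3 →₀ ℕ) := ↑((Finset.univ : Finset (Fin 3)).finsuppAntidiag d)
    have e : S = MvPolynomial.restrictSupport k s := by
      simp only [S]
      rw [MvPolynomial.homogeneousSubmodule_eq_finsupp_supported]
      refine congrArg (AddMonoidAlgebra.supported k k) (Set.ext fun x => ?_)
      simp [s, Finset.mem_finsuppAntidiag, Finsupp.degree_eq_sum]
    rw [e, Module.finrank_eq_nat_card_basis (MvPolynomial.basisRestrictSupport k s), Nat.card_coe_set_eq,
      Set.ncard_coe_finset, Finset.card_finsuppAntidiag_nat_eq_choose, Finset.card_univ, Fintype.card_fin]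
    rw [show 3 + d - 1 = d + 2 by omega, Nat.choose_symm_add, show d + 2 = n + 1 by omega]
  haveI : Module.Finite k S := Module.finite_of_finrank_pos (by rw [hdim]; exact Nat.choose_pos (by omega))
  let ev : S →ₗ[k] (Λ → k) := LinearMap.pi fun v : Λ => (MvPolynomial.aeval (R := k) (v : Fin 3 → k)).toLinearMap.domRestrict S
  have hker : Module.finrank k (LinearMap.ker ev) = Module.finrank k ↥(S ⊓ ⨅ v ∈ Λ, LinearMap.ker (MvPolynomial.aeval (R := k) v).toLinearMap) := by
    refine (LinearEquiv.finrank_eq (Submodule.equivMapOfInjective S.subtype Subtype.val_injective (LinearMap.ker ev))).trans ?_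
    refine congrArg (fun p : Submodule k (MvPolynomial (Fin 3) k) => Module.finrank k p) ?_
    ext f
    simp [ev, funext_iff]
    exact and_comm
  have hsurj : Function.Surjective ev := by
    have h1 : ∀ v : Λ, (Pi.single v (1 : k) : Λ → k) ∈ LinearMap.range ev := by
      intro v
      have hw : ∀ w : Λ, ∃ L : MvPolynomial (Fin 3) k, L.IsHomogeneous 1 ∧
          (w ≠ v → MvPolynomial.aeval (v : Fin 3 → k) L ≠ 0 ∧ MvPolynomial.aeval (w : Fin 3 → k) L = 0) := by
        intro w
        by_cases hwv : w = v
        · exact ⟨MvPolynomial.X 0, MvPolynomial.isHomogeneous_X k 0, fun h => absurd hwv h⟩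
        obtain ⟨l, hl, hl'⟩ := exists_sep (v := (v : Fin 3 → k)) (p := k ∙ (w : Fin 3 → k)) fun hm => by
          obtain ⟨c, hc⟩ := Submodule.mem_span_singleton.1 hm
          have h2 := hdist v v.2 w w.2 fun h => hwv (Subtype.ext h).symm
          rw [LinearIndependent.pair_iff] at h2
          exact one_ne_zero (h2 1 (-c) (by rw [one_smul, neg_smul, hc, add_neg_cancel])).1
        obtain ⟨L, hL, hLl⟩ := exists_linear_form l
        exact ⟨L, hL, fun _ => ⟨by rwa [hLl], by rw [hLl]; exact hl' _ (Submodule.mem_span_singleton_self _)⟩⟩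
      choose L hL hLv using hw
      let P := ∏ w ∈ Finset.univ.erase v, L w
      have hP : P ∈ S := by
        have h2 := MvPolynomial.IsHomogeneous.prod (Finset.univ.erase v) L (fun _ => 1) fun w _ => hL w
        rwa [Finset.sum_const, smul_eq_mul, mul_one, Finset.card_erase_of_mem (Finset.mem_univ v), Finset.card_univ,
          Fintype.card_coe, hcard] at h2
      have hPv : MvPolynomial.aeval (v : Fin 3 → k) P ≠ 0 := by
        rw [map_prod, Finset.prod_ne_zero_iff]
        exact fun w hw => (hLv w (Finset.ne_of_mem_erase hw)).1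
      refine ⟨(MvPolynomial.aeval (v : Fin 3 → k) P)⁻¹ • ⟨P, hP⟩, funext fun w => ?_⟩
      simp only [ev, map_smul, Pi.smul_apply, LinearMap.pi_apply, LinearMap.domRestrict_apply, AlgHom.toLinearMap_apply]
      by_cases hwv : w = v
      · subst hwv; rw [Pi.single_eq_same, smul_eq_mul, inv_mul_cancel₀ hPv]
      · have h0w : MvPolynomial.aeval (w : Fin 3 → k) P = 0 := by
          rw [map_prod]
          exact Finset.prod_eq_zero (Finset.mem_erase.2 ⟨hwv, Finset.mem_univ w⟩) (hLv w hwv).2
        rw [Pi.single_eq_of_ne hwv, h0w, smul_zero]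
    intro y
    rw [pi_eq_sum_univ' y]
    exact sum_mem fun v _ => Submodule.smul_mem _ _ (h1 v)
  have h := ev.finrank_range_add_finrank_ker
  rw [LinearMap.range_eq_top.2 hsurj, finrank_top, Module.finrank_fintype_fun_eq_card, Fintype.card_coe, hcard, hdim, hker] at h
  have e : ∀ a b c : ℕ, a + b = c → b = c - a := by omega
  exact e _ _ _ h

end Groth.Agent.S14427
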