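import Groth.Statements.S14428
import Mathlib

set_option autoImplicit false
universe u
open CAlgX

namespace Groth.Agent.S14428

open MvPolynomial in
/-- The linear form of a functional. -/
theorem exists_linear_form {k : Type u} [Field k] (l : (Fin 3 → k) →ₗ[k] k) :
    ∃ L : MvPolynomial (Fin 3) k, L.IsHomogeneous 1 ∧ ∀ v, aeval v L = l v := by
  classical
  refine ⟨∑ i, C (l (Pi.single i 1)) * X i, IsHomogeneous.sum _ _ _ fun i _ => by
    simpa using (isHomogeneous_C (Fin 3) (l (Pi.single i 1))).mul (isHomogeneous_X k i), fun v => ?_⟩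
  conv_rhs => rw [← Finset.univ_sum_single v, map_sum]
  simp only [map_sum, map_mul, aeval_C, aeval_X, Algebra.algebraMap_self, RingHom.id_apply]
  refine Finset.sum_congr rfl fun i _ => ?_
  rw [show Pi.single i (v i) = v i • (Pi.single i (1 : k) : Fin 3 → k) by
    rw [← Pi.single_smul', smul_eq_mul, mul_one], map_smul, smul_eq_mul, mul_comm]

theorem exists_sep {k : Type u} [Field k] {v : Fin 3 → k} {p : Submodule k (Fin 3 → k)} (h : v ∉ p) :
    ∃ l : (Fin 3 → k) →ₗ[k] k, l v ≠ 0 ∧ ∀ x ∈ p, l x = 0 := by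
  obtain ⟨l, hl, hl'⟩ := Submodule.exists_dual_map_eq_bot_of_notMem h inferInstance
  refine ⟨l, hl, fun x hx => ?_⟩
  have : l x ∈ p.map l := Submodule.mem_map_of_mem hx
  rwa [hl', Submodule.mem_bot] at this

/-- Let k be a field, n ≥ 3, and let Λ and Λ' be two sets of n nonzero, pairwise linearly independent
vectors of k^3 (n distinct k-rational points of the projective plane each), neither lying on a line
(no nonzero linear form vanishes on all of Λ, resp. Λ'). If the spaces of homogeneous forms of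
degree n − 1 vanishing on Λ and on Λ' coincide, then Λ and Λ' define the same set of points of the
plane: the assignment Λ ↦ H^0(P^2, I_Λ(n − 1)), with values in a Grassmannian, is injective on
non-collinear sets. (The published statement is over an algebraically closed field; this row allows
any field and k-rational points, which is all its argument uses.) -/
theorem result (k : Type u) [Field k] (n : ℕ) (hn : 3 ≤ n)
    (Λ Λ' : Finset (Fin 3 → k)) (hcard : Λ.card = n) (hcard' : Λ'.card = n)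
    (h0 : ∀ v ∈ Λ, v ≠ 0) (h0' : ∀ v ∈ Λ', v ≠ 0)
    (hdist : ∀ v ∈ Λ, ∀ w ∈ Λ, v ≠ w → LinearIndependent k ![v, w])
    (hdist' : ∀ v ∈ Λ', ∀ w ∈ Λ', v ≠ w → LinearIndependent k ![v, w])
    (hline : ¬ ∃ ℓ : (Fin 3 → k) →ₗ[k] k, ℓ ≠ 0 ∧ ∀ v ∈ Λ, ℓ v = 0)
    (hline' : ¬ ∃ ℓ : (Fin 3 → k) →ₗ[k] k, ℓ ≠ 0 ∧ ∀ v ∈ Λ', ℓ v = 0)
    (heq : (MvPolynomial.homogeneousSubmodule (Fin 3) k (n - 1) ⊓ ⨅ v ∈ Λ, LinearMap.ker (MvPolynomial.aeval v).toLinearMap) = (MvPolynomial.homogeneousSubmodule (Fin 3) k (n - 1) ⊓ ⨅ v ∈ Λ', LinearMap.ker (MvPolynomial.aeval v).toLinearMap)) :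
    (∀ v ∈ Λ, ∃ w ∈ Λ', ∃ c : k, v = c • w) ∧ (∀ w ∈ Λ', ∃ v ∈ Λ, ∃ c : k, w = c • v) := by
  classical
  have key : ∀ (A B : Finset (Fin 3 → k)), A.card = n → (∀ v ∈ A, v ≠ 0) →
      (∀ v ∈ A, ∀ w ∈ A, v ≠ w → LinearIndependent k ![v, w]) →
      (¬ ∃ ℓ : (Fin 3 → k) →ₗ[k] k, ℓ ≠ 0 ∧ ∀ v ∈ A, ℓ v = 0) → (∀ v ∈ B, v ≠ 0) →
      (MvPolynomial.homogeneousSubmodule (Fin 3) k (n - 1) ⊓ ⨅ v ∈ A, LinearMap.ker (MvPolynomial.aeval v).toLinearMap) ≤
        (MvPolynomial.homogeneousSubmodule (Fin 3) k (n - 1) ⊓ ⨅ v ∈ B, LinearMap.ker (MvPolynomial.aeval (R := k) v).toLinearMap) →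
      ∀ w ∈ B, ∃ v ∈ A, ∃ c : k, w = c • v := by
    intro A B hA hA0 hAd hAl hB0 hle w hw
    by_contra hno
    simp only [not_exists, not_and] at hno
    have hnot : ∀ v ∈ A, w ∉ k ∙ v := fun v hv hm => by
      obtain ⟨c, hc⟩ := Submodule.mem_span_singleton.1 hm
      exact hno v hv c hc.symm
    obtain ⟨a, ha⟩ : A.Nonempty := Finset.card_pos.1 (by omega)
    obtain ⟨b, hb, hab, hpair⟩ : ∃ b ∈ A, a ≠ b ∧ w ∉ Submodule.span k ({a, b} : Set (Fin 3 → k)) := by
      by_contra hall
      simp only [not_exists, not_and, not_not] at hall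
      obtain ⟨b, hb⟩ : (A.erase a).Nonempty := Finset.card_pos.1 (by rw [Finset.card_erase_of_mem ha]; omega)
      have hba := Finset.ne_of_mem_erase hb
      obtain ⟨cc, hcc, hcn⟩ : ∃ c ∈ A, c ∉ Submodule.span k ({a, b} : Set (Fin 3 → k)) := by
        by_contra hin
        simp only [not_exists, not_and, not_not] at hin
        have hne : Submodule.span k ({a, b} : Set (Fin 3 → k)) ≠ ⊤ := fun htop => by
          have h1 : Module.finrank k (Submodule.span k ({a, b} : Set (Fin 3 → k))) ≤ 2 := by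
            refine le_trans (finrank_span_le_card ({a, b} : Set (Fin 3 → k))) ?_
            rw [Set.toFinset_insert, Set.toFinset_singleton]
            exact Finset.card_le_two
          rw [htop, finrank_top] at h1
          simp at h1
        obtain ⟨x, hx⟩ : ∃ x, x ∉ Submodule.span k ({a, b} : Set (Fin 3 → k)) := by
          by_contra hh
          simp only [not_exists, not_not] at hh
          exact hne (Submodule.eq_top_iff'.2 hh)
        obtain ⟨l, hl, hl'⟩ := exists_sep hx
        exact hAl ⟨l, fun h => hl (by rw [h]; rfl), fun v hv => hl' v (hin v hv)⟩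
      obtain ⟨x, y, hxy⟩ := Submodule.mem_span_pair.1 (hall b (Finset.mem_of_mem_erase hb) hba.symm)
      obtain ⟨x', z, hxz⟩ := Submodule.mem_span_pair.1 (hall cc hcc fun h => hcn (h ▸ Submodule.subset_span (Set.mem_insert _ _)))
      by_cases hz : z = 0
      · exact hnot a ha (Submodule.mem_span_singleton.2 ⟨x', by rw [← hxz, hz, zero_smul, add_zero]⟩)
      refine hcn ?_
      have e : cc = z⁻¹ • ((x • a + y • b) - x' • a) := by
        rw [hxy, ← hxz, add_sub_cancel_left, smul_smul, inv_mul_cancel₀ hz, one_smul]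
      rw [e]
      exact Submodule.smul_mem _ _ (sub_mem (Submodule.mem_span_pair.2 ⟨x, y, rfl⟩)
        (Submodule.smul_mem _ _ (Submodule.subset_span (Set.mem_insert _ _))))
    obtain ⟨l₀, hl₀, hl₀'⟩ := exists_sep hpair
    obtain ⟨L₀, hL₀, hL₀l⟩ := exists_linear_form l₀
    have hv : ∀ v : Fin 3 → k, ∃ L : MvPolynomial (Fin 3) k, L.IsHomogeneous 1 ∧
        (v ∈ A → MvPolynomial.aeval w L ≠ 0 ∧ MvPolynomial.aeval v L = 0) := by
      intro v
      by_cases hvA : v ∈ A
      · obtain ⟨l, hl, hl'⟩ := exists_sep (hnot v hvA)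
        obtain ⟨L, hL, hLl⟩ := exists_linear_form l
        exact ⟨L, hL, fun _ => ⟨by rwa [hLl], by rw [hLl]; exact hl' _ (Submodule.mem_span_singleton_self _)⟩⟩
      · exact ⟨MvPolynomial.X 0, MvPolynomial.isHomogeneous_X k 0, fun h => absurd h hvA⟩
    choose L hL hLv using hv
    let P := L₀ * ∏ v ∈ (A.erase a).erase b, L v
    have hmem : P ∈ MvPolynomial.homogeneousSubmodule (Fin 3) k (n - 1) ⊓
        ⨅ v ∈ A, LinearMap.ker (MvPolynomial.aeval (R := k) v).toLinearMap := by
      refine ⟨?_, ?_⟩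
      · have h2 := hL₀.mul (MvPolynomial.IsHomogeneous.prod ((A.erase a).erase b) L (fun _ => 1) fun v _ => hL v)
        rw [Finset.sum_const, smul_eq_mul, mul_one, Finset.card_erase_of_mem (Finset.mem_erase.2 ⟨hab.symm, hb⟩),
          Finset.card_erase_of_mem ha, hA, show 1 + (n - 1 - 1) = n - 1 by omega] at h2
        exact h2
      · simp only [SetLike.mem_coe, Submodule.mem_iInf, LinearMap.mem_ker, AlgHom.toLinearMap_apply]
        intro v hvA
        rw [map_mul, map_prod]
        by_cases h1 : v = a ∨ v = b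
        · rw [hL₀l, hl₀' v (Submodule.subset_span (by simpa using h1)), zero_mul]
        · rw [Finset.prod_eq_zero (Finset.mem_erase.2 ⟨fun h => h1 (Or.inr h), Finset.mem_erase.2 ⟨fun h => h1 (Or.inl h), hvA⟩⟩)
            (hLv v hvA).2, mul_zero]
    have hP := (hle hmem).2
    simp only [SetLike.mem_coe, Submodule.mem_iInf, LinearMap.mem_ker, AlgHom.toLinearMap_apply] at hP
    have h3 := hP w hw
    rw [map_mul, map_prod] at h3
    refine mul_ne_zero ?_ (Finset.prod_ne_zero_iff.2 fun v hv => (hLv v (Finset.mem_of_mem_erase (Finset.mem_of_mem_erase hv))).1) h3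
    rwa [hL₀l]
  exact ⟨fun v hv => key Λ' Λ hcard' h0' hdist' hline' h0 heq.ge v hv,
    fun w hw => key Λ Λ' hcard h0 hdist hline h0' heq.le w hw⟩

end Groth.Agent.S14428
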