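import Groth.Statements.S14429
import Groth.Agent.Lib.K0Pn9.Main
-- import your own Groth.Agent.* helpers here

set_option autoImplicit false
universe u
open CategoryTheory CategoryTheory.Limits AlgebraicGeometry
open KZero

namespace Groth.Agent.S14429

/-- Let k be an algebraically closed field and n ≥ 0. The Grothendieck group of coherent sheaves on
P^n_k (K_0 of the full subcategory of O-modules on the coherent ones, with relations from short
exact sequences) is freely generated by the classes of O, O(−1), …, O(−n): the homomorphism ℤ^{n+1}
→ K_0 sending (a_0, …, a_n) to Σ a_i [O(−i)] is bijective. -/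
theorem result (k : Type u) [Field k] [IsAlgClosed k] (n : ℕ) :
    Function.Bijective (fun a : Fin (n + 1) → ℤ =>
      ∑ i : Fin (n + 1), a i • KZero.clSub (fun M : (CohB1.ProjSpace n k).Modules => Coh.IsCoh M)
        (Twist.twistProjSpace n k (-((i : ℕ) : ℤ)))) := by
  exact Groth.Agent.K0Pn9.bijective_twists

end Groth.Agent.S14429
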