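import Groth.Statements.S14430
import Groth.Agent.S1028
import Groth.Agent.S1109
import Groth.Agent.S1111
import Groth.Agent.S1052
import Groth.Agent.Lib.WeilExt.Apply
import Groth.Agent.Lib.ProjSpace.Basic
import Groth.Agent.Lib.CohFound.ProjQuot

set_option autoImplicit false
set_option linter.style.haveILetI false
set_option backward.isDefEq.respectTransparency false
universe u
open CategoryTheory CategoryTheory.Limits AlgebraicGeometry
open KZero

namespace Groth.Agent.S14430

/-- Let k be an algebraically closed field and X a smooth quasi-projective variety over k — here a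
k-scheme smooth over k admitting an immersion into some P^N_k over k. Write K^0(X) for the
Grothendieck group of finite locally free O_X-modules and K_0(X) for that of coherent O_X-modules
(K_0 of the corresponding full subcategories of O_X-modules, with relations from short exact
sequences all of whose terms lie in the subcategory). Then there is a homomorphism K^0(X) → K_0(X)
sending the class of each finite locally free E to its class as a coherent module (the canonical
one, determined by this), and it is bijective. (The published statement is for smooth
quasi-projective varieties; this row takes a k-scheme smooth over k with an immersion into some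
P^N_k, reduced since smooth; irreducibility is not assumed.) -/
theorem result (k : Type u) [Field k] [IsAlgClosed k] (N : ℕ)
    (X : Scheme.{u}) [X.Over (Spec (CommRingCat.of k))] [Smooth (X ↘ Spec (CommRingCat.of k))]
    (ι : X ⟶ CohB1.ProjSpace N k) [IsImmersion ι] (hι : ι ≫ CohB1.ProjSpace.toSpec N k = X ↘ Spec (CommRingCat.of k)) :
    ∃ α : KZero.K0sub (fun M : X.Modules => FlatMod.IsFinLocFree M) →+ KZero.K0sub (fun M : X.Modules => Coh.IsCoh M),
      (∀ E : X.Modules, FlatMod.IsFinLocFree E →
        α (KZero.clSub (fun M : X.Modules => FlatMod.IsFinLocFree M) E) = KZero.clSub (fun M : X.Modules => Coh.IsCoh M) E) ∧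
      Function.Bijective α := by
  haveI : IsLocallyNoetherian X := LocallyOfFiniteType.isLocallyNoetherian (X ↘ Spec (CommRingCat.of k))
  haveI : IsLocallyNoetherian (CohB1.ProjSpace N k) := LocallyOfFiniteType.isLocallyNoetherian (CohB1.ProjSpace.toSpec N k)
  haveI : IsNoetherian (CohB1.ProjSpace N k) :=
    { toCompactSpace := QuasiCompact.compactSpace_of_compactSpace (CohB1.ProjSpace.toSpec N k) }
  haveI : TopologicalSpace.NoetherianSpace X := ι.isEmbedding.isInducing.noetherianSpace
  haveI : CompactSpace X := inferInstance
  haveI : IsNoetherian X := { }
  haveI : IsSeparated (X ↘ Spec (CommRingCat.of k)) := by rw [← hι]; infer_instance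
  haveI : IsSeparated (terminal.from X) := by
    rw [← terminal.comp_from (X ↘ Spec (CommRingCat.of k))]; infer_instance
  have hreg : ∀ x : X, IsRegularLocalRing (X.presheaf.stalk x) := fun x =>
    Groth.Agent.WeilExt.isRegularLocalRing_stalk_of_smooth (X ↘ Spec (CommRingCat.of k)) x
  have hres : PerfAux.HasResolutionProperty X :=
    Groth.Agent.S1109.result X hreg fun U V hU hV => hU.inf hV
  obtain ⟨a, ha⟩ := Groth.Agent.S1028.result X hres
  obtain ⟨b, hb⟩ := Groth.Agent.S1111.result X hreg
  obtain ⟨c, hc⟩ := Groth.Agent.S1052.result X
  refine ⟨((a.trans b).trans c.symm).toAddMonoidHom, fun E hE => ?_, ((a.trans b).trans c.symm).bijective⟩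
  have hcoh : Coh.IsCoh E := Groth.Agent.CohFound.isCoh_of_isFinLocFree hE
  show c.symm (b (a _)) = _
  rw [ha E hE, hb _ (Groth.Agent.K0Perf9.pf_sD 0 hE), AddEquiv.symm_apply_eq, hc E hcoh]

end Groth.Agent.S14430
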