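import Groth.Statements.S14431
import Groth.Agent.Lib.BertiniJets13.Generic
import Groth.Agent.Lib.MeroLib.ZeroScheme
import Groth.Agent.Lib.Twist.Gen
import Groth.Agent.Lib.TensorMod.Invertible
import Groth.Agent.Lib.Ample18.Gen
import Groth.Agent.Lib.FormalH7.ModPow
import Groth.Agent.Lib.VeryAmple11.Crit
set_option linter.style.haveILetI false
set_option backward.isDefEq.respectTransparency false
set_option backward.isDefEq.respectTransparency.types false

set_option autoImplicit false
universe u
open CategoryTheory CategoryTheory.Limits AlgebraicGeometry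
open Variety

namespace Groth.Agent.S14431

open Groth.Agent in
/-- Evaluation of a linear combination of sections. -/
theorem sval_comb (k : Type u) [Field k] (Y : Scheme.{u}) [Y.Over (Spec (CommRingCat.of k))] (L : Y.Modules)
    {m : ℕ} (s : Fin m → (Coh.structureModule Y ⟶ L)) (c : Fin m → k) (U : Y.Opens) :
    PicF2.secVal L (∑ i : Fin m, Formal.smulMod k (Coh.structureModule Y) (c i) ≫ s i) U =
      (show Γ(L, U) from ∑ i : Fin m, FormalH7.mult Y (c i) U • MeroLib.sval L (s i) U) := by
  show (∑ i : Fin m, Formal.smulMod k (Coh.structureModule Y) (c i) ≫ s i).app U (M1.one U) = _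
  have hadd : ∀ t : Finset (Fin m), (∑ i ∈ t, Formal.smulMod k (Coh.structureModule Y) (c i) ≫ s i).app U (M1.one U) =
      ∑ i ∈ t, FormalH7.mult Y (c i) U • MeroLib.sval L (s i) U := by
    intro t
    induction t using Finset.induction with
    | empty => simp
    | insert i t hi ih =>
      rw [Finset.sum_insert hi, Finset.sum_insert hi, Scheme.Modules.Hom.add_app]
      show (Formal.smulMod k (Coh.structureModule Y) (c i) ≫ s i).app U (M1.one U) + _ = _
      rw [ih]
      congr 1
      rw [Scheme.Modules.Hom.comp_app, ConcreteCategory.comp_apply, FormalH7.smulMod_app,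
        Scheme.Modules.Hom.app_smul]
      rfl
  exact hadd Finset.univ

/-- Let k be an algebraically closed field of characteristic zero, X an integral k-scheme of finite type
which is smooth over k, L an invertible O_X-module and s_0, …, s_m global sections of L (morphisms
O_X → L) generating L, i.e. their zero schemes have empty intersection (the sum of their zero ideal
sheaves is the unit ideal). Then the members of the linear system spanned by the s_i corresponding
to a nonempty Zariski-open set of parameters are smooth: there is a nonzero polynomial p in m + 1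
variables over k such that for every c ∈ k^{m+1} with p(c) ≠ 0 the zero scheme of the section Σ c_i
s_i is smooth over k (equivalently, the corresponding divisor is reduced with smooth support). (The
published statement is for varieties, which are separated; this row does not assume X separated.) -/
theorem result (k : Type u) [Field k] [IsAlgClosed k] [CharZero k]
    (X : Scheme.{u}) [X.Over (Spec (CommRingCat.of k))] [IsIntegral X]
    [Smooth (X ↘ Spec (CommRingCat.of k))] [QuasiCompact (X ↘ Spec (CommRingCat.of k))]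
    (L : X.Modules) (hL : FlatMod.IsFinLocFreeOfRank 1 L) (m : ℕ)
    (s : Fin (m + 1) → (Coh.structureModule X ⟶ L))
    (hgen : ⨆ i : Fin (m + 1), PicF2.zeroScheme L (s i) = ⊤) :
    ∃ p : MvPolynomial (Fin (m + 1)) k, p ≠ 0 ∧ ∀ c : Fin (m + 1) → k, MvPolynomial.eval c p ≠ 0 →
      Smooth ((PicF2.zeroScheme L (∑ i : Fin (m + 1), Formal.smulMod k (Coh.structureModule X) (c i) ≫ s i)).subschemeι ≫
        (X ↘ Spec (CommRingCat.of k))) := by
  classical
  let π := X ↘ Spec (CommRingCat.of k)
  have hinv : PicF.IsInvertible L := (M2.isInvertible_iff_isFinLocFreeOfRank_one L).2 hL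
  haveI : CompactSpace X := QuasiCompact.compactSpace_of_compactSpace π
  have hex : ∀ y : X, ∃ (U : X.Opens) (j : Fin (m + 1)), y ∈ U ∧ IsAffineOpen U ∧
      Twist.IsGen L U (MeroLib.sval L (s j) U) := fun y => by
    obtain ⟨U, e, hyU, -, hU, he⟩ := Amp.exists_isGenerator hinv (V := ⊤) (x := y) trivial
    choose g hg using fun i => (he _ le_rfl).2 (MeroLib.sval L (s i) U)
    simp only [M1.mres_id] at hg
    have hbij : Function.Bijective fun r : Γ(X, U) => r • e := by
      have := he _ le_rfl
      simpa only [M1.mres_id] using this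
    have hI : ∀ i, (PicF2.zeroScheme L (s i)).ideal ⟨U, hU⟩ = Ideal.span {g i} := fun i => by
      rw [MeroLib.zeroScheme_ideal _ _ hinv, MeroLib.zI_eq_span L _ e hbij _ (hg i).symm]
    obtain ⟨j, hj⟩ : ∃ j, g j ∉ (hU.primeIdealOf ⟨y, hyU⟩).asIdeal := by
      by_contra hcon
      push Not at hcon
      refine (hU.primeIdealOf ⟨y, hyU⟩).2.ne_top (top_le_iff.1 ?_)
      have h1 := congrArg (fun I : X.IdealSheafData => I.ideal ⟨U, hU⟩) hgen
      simp only [Scheme.IdealSheafData.ideal_iSup, iSup_apply] at h1
      rw [show (⊤ : X.IdealSheafData).ideal ⟨U, hU⟩ = ⊤ from rfl] at h1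
      rw [← h1]
      exact iSup_le fun i => by rw [hI, Ideal.span_singleton_le_iff_mem]; exact hcon i
    refine ⟨X.basicOpen (g j), j, ?_, hU.basicOpen _, ?_⟩
    · have hq : hU.primeIdealOf ⟨y, hyU⟩ ∈ PrimeSpectrum.basicOpen (g j) := hj
      rw [← hU.fromSpec_preimage_basicOpen] at hq
      have := hU.fromSpec_primeIdealOf ⟨y, hyU⟩
      rw [Scheme.Hom.mem_preimage, this] at hq
      exact hq
    · have h2 : MeroLib.sval L (s j) (X.basicOpen (g j)) =
          X.presheaf.map (homOfLE (X.basicOpen_le (g j))).op (g j) • M1.mres L (X.basicOpen_le (g j)) e := by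
        rw [← MeroLib.mres_sval L (s j) (X.basicOpen_le (g j)), ← hg j]
        exact M1.mres_smul L _ _ _
      rw [h2]
      exact VA11.isGen_smul_unit (Twist.IsGen.mres he _)
        (RingedSpace.isUnit_res_basicOpen X.toRingedSpace (g j))
  choose U j hyU hU he using hex
  have key : ∀ y : X, ∃ q : MvPolynomial (Fin (m + 1)) k, q ≠ 0 ∧ ∀ c : Fin (m + 1) → k, MvPolynomial.eval c q ≠ 0 →
      ((Ideal.Quotient.mk ((PicF2.zeroScheme L
        (∑ i : Fin (m + 1), Formal.smulMod k (Coh.structureModule X) (c i) ≫ s i)).ideal ⟨U y, hU y⟩)).comp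
        ((π.appLE ⊤ (U y) le_top).hom.comp (Scheme.ΓSpecIso (CommRingCat.of k)).inv.hom)).Smooth := by
    intro y
    let A : Type u := Γ(X, U y)
    let ι : k →+* A := (π.appLE ⊤ (U y) le_top).hom.comp (Scheme.ΓSpecIso (CommRingCat.of k)).inv.hom
    letI : Algebra k A := ι.toAlgebra
    have hι : ∀ a : k, algebraMap k A a = FormalH7.mult X a (U y) := fun a => by
      show (π.appLE ⊤ (U y) le_top) ((Scheme.ΓSpecIso (CommRingCat.of k)).inv a) = _
      rw [Scheme.Hom.appLE]
      rfl
    haveI : Algebra.Smooth k A := by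
      rw [← RingHom.smooth_algebraMap]
      refine RingHom.Smooth.comp (RingHom.Smooth.of_bijective (ConcreteCategory.bijective_of_isIso (Scheme.ΓSpecIso (CommRingCat.of k)).inv)) ?_
      exact HasRingHomProperty.appLE (P := @Smooth) π inferInstance ⟨⊤, isAffineOpen_top _⟩ ⟨U y, hU y⟩ le_top
    let e := MeroLib.sval L (s (j y)) (U y)
    have hb : Function.Bijective fun r : A => r • e := by
      have := he y _ le_rfl
      simpa only [M1.mres_id] using this
    choose g hg using fun i => hb.2 (MeroLib.sval L (s i) (U y))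
    have hgj : g (j y) = 1 := hb.1 ((hg (j y)).trans (one_smul A e).symm)
    obtain ⟨G, hG, hgood⟩ := BertiniJets13.exists_good_poly_generated (k := k) g (j y) hgj
    refine ⟨G, hG, fun c hc => ?_⟩
    have hsec : MeroLib.sval L (∑ i : Fin (m + 1), Formal.smulMod k (Coh.structureModule X) (c i) ≫ s i) (U y) =
        (∑ i, c i • g i) • e := by
      refine (sval_comb k X L s c (U y)).trans ?_
      show (∑ i, _ : Γ(L, U y)) = (∑ i, c i • g i) • e
      rw [Finset.sum_smul]
      exact Finset.sum_congr rfl fun i _ => by rw [Algebra.smul_def, mul_smul, hι]; exact congrArg _ (hg i).symm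
    have hideal : (PicF2.zeroScheme L (∑ i : Fin (m + 1), Formal.smulMod k (Coh.structureModule X) (c i) ≫ s i)).ideal
        ⟨U y, hU y⟩ = Ideal.span {∑ i, c i • g i} := by
      rw [MeroLib.zeroScheme_ideal _ _ hinv, MeroLib.zI_eq_span L _ e hb _ hsec]
    rw [hideal]
    haveI := hgood c hc
    exact RingHom.smooth_algebraMap.2 ‹Algebra.Smooth k (A ⧸ Ideal.span {∑ i, c i • g i})›
  choose q hq0 hqs using key
  obtain ⟨t, ht⟩ := isCompact_univ.elim_finite_subcover (fun y : X => (U y : Set X)) (fun y => (U y).2)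
    (fun y _ => Set.mem_iUnion.2 ⟨y, hyU y⟩)
  refine ⟨∏ y ∈ t, q y, Finset.prod_ne_zero_iff.2 fun y _ => hq0 y, fun c hc => ?_⟩
  rw [map_prod, Finset.prod_ne_zero_iff] at hc
  set J := PicF2.zeroScheme L (∑ i : Fin (m + 1), Formal.smulMod k (Coh.structureModule X) (c i) ≫ s i)
  have hcov : (⨆ y : t, J.subschemeι ⁻¹ᵁ U y) = ⊤ := top_le_iff.1 fun z _ => by
    obtain ⟨y, hy, hzy⟩ := Set.mem_iUnion₂.1 (ht (Set.mem_univ (J.subschemeι z)))
    exact TopologicalSpace.Opens.mem_iSup.2 ⟨⟨y, hy⟩, hzy⟩
  rw [IsZariskiLocalAtSource.iff_of_iSup_eq_top (P := @Smooth) _ hcov]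
  intro y
  let W : X.affineOpens := ⟨U y, hU y⟩
  let fW := J.subschemeCover.f W
  haveI : IsOpenImmersion fW := J.subschemeCover.map_prop W
  have h1 : Smooth (fW ≫ J.subschemeι ≫ π) := by
    have e : fW ≫ J.subschemeι = Spec.map (CommRingCat.ofHom (Ideal.Quotient.mk (J.ideal W))) ≫ W.2.fromSpec := by
      rw [J.subschemeCover_map_subschemeι, Scheme.IdealSheafData.glueDataObjι, Category.assoc,
        IsAffineOpen.isoSpec_inv_ι]
    rw [← Category.assoc, e, Category.assoc,
      ← (isAffineOpen_top (Spec (CommRingCat.of k))).SpecMap_appLE_fromSpec π W.2 (le_top : W.1 ≤ π ⁻¹ᵁ ⊤)]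
    have hs := hqs y.1 c (hc y.1 y.2)
    rw [IsAffineOpen.fromSpec_top, Scheme.isoSpec_Spec_inv, ← Spec.map_comp, ← Spec.map_comp,
      HasRingHomProperty.Spec_iff (P := @Smooth)]
    exact hs
  have hr : fW.opensRange = J.subschemeι ⁻¹ᵁ U y := J.opensRange_subschemeCover_map W
  rw [← hr, ← Scheme.Hom.isoOpensRange_inv_comp, Category.assoc]
  exact (MorphismProperty.cancel_left_of_respectsIso @Smooth _ _).2 h1

end Groth.Agent.S14431
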