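import Groth.Statements.S14434
import Groth.Statements.S13132
import Groth.Statements.S13133
import Groth.Statements.S12078
import Groth.Statements.S11180
import Groth.Agent.Lib.CI2.ArtinNzd
import Groth.Agent.Lib.CI2.TorKoszul
import Groth.Agent.Lib.EmbDef.Regular
import Groth.Agent.Lib.CplLocH7.Basic

set_option autoImplicit false
universe u
open CAlg

namespace Groth.Agent.S14434

/-- Let R be a commutative ring, M an R-module and x ∈ R a non-zero-divisor on R and on M. Then
Tor_i^R(M, R/(x)) = 0 for all i ≥ 1 (Tor computed as the left derived functors of the tensor product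
on R-modules). -/
theorem result {R : Type u} [CommRing R] (M : Type u) [AddCommGroup M] [Module R M]
    (x : R) (hxR : IsSMulRegular R x) (hxM : IsSMulRegular M x) (i : ℕ) (hi : 1 ≤ i) :
    Subsingleton (DRing.Tor R i M (R ⧸ Ideal.span {x})) := by
  have h := (Groth.Agent.CI2.forall_isZero_tor_iff_ex
    (Groth.Agent.CI2.ex_of_isWeaklyRegular [x] R ((RingTheory.Sequence.isWeaklyRegular_singleton_iff R x).2 hxR)) M).2
    (Groth.Agent.CI2.ex_of_isWeaklyRegular [x] M ((RingTheory.Sequence.isWeaklyRegular_singleton_iff M x).2 hxM)) i hi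
  rw [Ideal.ofList_singleton] at h
  obtain ⟨j, rfl⟩ : ∃ j, i = j + 1 := ⟨i - 1, by omega⟩
  exact ModuleCat.subsingleton_of_isZero ((Groth.Agent.TorSymm3.isZero_tor_comm j _ _).1 h)

end Groth.Agent.S14434
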