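import Groth.Statements.S14435
import Groth.Agent.Lib.Depth.BaseChange
-- import your own Groth.Agent.* helpers here

set_option autoImplicit false
universe u
open LocCoh

namespace Groth.Agent.S14435

/-- Let (A, m) be a Noetherian local ring, φ : A → B a finite homomorphism of commutative rings, a ⊆ m
an ideal and M a finitely generated B-module. Then depth(a, M), computed over A, equals depth(aB,
M), computed over B (depths by regular sequences, ⊤ when aM = M). -/
theorem result {A B : Type u} [CommRing A] [IsNoetherianRing A] [IsLocalRing A]
    [CommRing B] [Algebra A B] [Module.Finite A B] (a : Ideal A) (ha : a ≤ IsLocalRing.maximalIdeal A)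
    (M : Type u) [AddCommGroup M] [Module B M] [Module A M] [IsScalarTower A B M] [Module.Finite B M] :
    LocCoh.idealDepth a M = LocCoh.idealDepth (a.map (algebraMap A B)) M := by
  have hnoeth : IsNoetherianRing B := IsNoetherianRing.of_finite A B
  clear ha
  have hsmul : ∀ (N : Type u) [AddCommGroup N] [Module B N] [Module A N] [IsScalarTower A B N],
      a • (⊤ : Submodule A N) = ⊤ ↔ a.map (algebraMap A B) • (⊤ : Submodule B N) = ⊤ := by
    intro N _ _ _ _
    rw [← Submodule.restrictScalars_eq_top_iff A B N (p := a.map (algebraMap A B) • ⊤),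
      Ideal.smul_restrictScalars, Submodule.restrictScalars_top]
  refine le_antisymm ?_ (ENat.forall_natCast_le_iff_le.1 fun n hn => ?_)
  · by_cases hM : a • (⊤ : Submodule A M) = ⊤
    · rw [Groth.Agent.DepthLib.idealDepth_of_smul_top_eq_top ((hsmul M).1 hM)]
      exact le_top
    · rw [Groth.Agent.DepthLib.idealDepth_of_smul_top_ne_top hM]
      refine iSup₂_le fun rs hrs => le_trans (by simp) (Groth.Agent.DepthLib.length_le_idealDepth
        (rs := rs.map (algebraMap A B))
        ((RingTheory.Sequence.isWeaklyRegular_map_algebraMap_iff B M rs).2 hrs.1) fun r hr => ?_)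
      obtain ⟨s, hs, rfl⟩ := List.mem_map.1 hr
      exact Ideal.mem_map_of_mem _ (hrs.2 s hs)
  · induction n generalizing M with
    | zero => simp
    | succ n ih =>
      have : Module.Finite A M := Module.Finite.trans B M
      by_cases hM : a • (⊤ : Submodule A M) = ⊤
      · simp [Groth.Agent.DepthLib.idealDepth_of_smul_top_eq_top hM]
      by_cases hex : ∃ x ∈ a, IsSMulRegular M x
      · obtain ⟨x, hx, hreg⟩ := hex
        have hregB : IsSMulRegular M (algebraMap A B x) := by
          intro p q hpq
          exact hreg (by simpa using hpq)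
        rw [← Groth.Agent.DepthLib.idealDepth_quotSMulTop_add_one (Ideal.mem_map_of_mem _ hx) hregB,
          Nat.cast_succ, ENat.add_le_add_iff_right ENat.one_ne_top] at hn
        rw [← Groth.Agent.DepthLib.idealDepth_quotSMulTop_add_one hx hreg, Nat.cast_succ]
        refine add_le_add_left ((ih _ hn).trans (le_of_eq ?_)) 1
        refine Groth.Agent.DepthLib.idealDepth_congr ((Submodule.Quotient.restrictScalarsEquiv A _).symm.trans
          (Submodule.quotEquivOfEq _ _ ?_))
        ext m
        simp [Submodule.mem_smul_pointwise_iff_exists, algebraMap_smul]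
      · push Not at hex
        exfalso
        obtain ⟨m, hm0, hm⟩ := Groth.Agent.DepthLib.exists_ne_zero_smul_eq_zero hex
        obtain ⟨y, hy, hreg⟩ := Groth.Agent.DepthLib.exists_isSMulRegular_of_one_le_idealDepth
          (fun e => hM ((hsmul M).2 e)) (le_trans (by simp) hn)
        refine hm0 (hreg.right_eq_zero_of_smul ?_)
        refine Submodule.span_induction (p := fun y _ => y • m = 0) ?_ (zero_smul _ _)
          (fun p q _ _ hp hq => by rw [add_smul, hp, hq, add_zero])
          (fun p q _ hq => by rw [smul_assoc, hq, smul_zero]) hy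
        rintro _ ⟨r, hr, rfl⟩
        rw [algebraMap_smul, hm r hr]

end Groth.Agent.S14435
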