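import Groth.Statements.S14436
import Mathlib
import Groth.Statements.S9442
import Groth.Statements.S9649
import Groth.Statements.S9431
import Groth.Statements.S19474
import Groth.Agent.Lib.Sep.Basic
import Groth.Agent.Lib.RegSmooth17.Basic
import Groth.Agent.Lib.SmoothReg17.Basic
import Groth.Agent.Lib.Compl.Noetherian

set_option autoImplicit false
universe u
open CAlg

namespace Groth.Agent.S14436

/-- Let L/K be a finitely generated field extension which is separable in the sense that it has a
transcendence basis a_1, …, a_n over which L is a (finite) separable extension of K(a_1, …, a_n).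
Then dim_L Ω_{L/K} = n, the transcendence degree of L over K. -/
theorem result (K L : Type u) [Field K] [Field L] [Algebra K L]
    (hfg : ∃ s : Finset L, IntermediateField.adjoin K (s : Set L) = ⊤)
    (n : ℕ) (a : Fin n → L) (ha : IsTranscendenceBasis K a)
    (hsep : Algebra.IsSeparable ↥(IntermediateField.adjoin K (Set.range a)) L) :
    Module.finrank L (Ω[L⁄K]) = n := by
  let P := MvPolynomial (Fin n) K
  let F := FractionRing P
  let e : F ≃ₐ[K] IntermediateField.adjoin K (Set.range a) := ha.1.aevalEquivField
  letI : Algebra F L := ((IntermediateField.adjoin K (Set.range a)).val.comp e.toAlgHom).toRingHom.toAlgebra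
  letI : Algebra P L := ((algebraMap F L).comp (algebraMap P F)).toAlgebra
  haveI : IsScalarTower P F L := IsScalarTower.of_algebraMap_eq fun _ => rfl
  haveI : IsScalarTower K F L := IsScalarTower.of_algebraMap_eq fun r =>
    (((IntermediateField.adjoin K (Set.range a)).val.comp e.toAlgHom).commutes r).symm
  haveI : IsScalarTower K P L := IsScalarTower.of_algebraMap_eq fun r => by
    show _ = algebraMap F L (algebraMap P F (algebraMap K P r))
    rw [← IsScalarTower.algebraMap_apply K P F]
    exact IsScalarTower.algebraMap_apply K F L r
  haveI : Algebra.IsSeparable F L := by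
    refine Algebra.IsSeparable.of_equiv_equiv e.symm.toRingEquiv (RingEquiv.refl L) ?_
    ext x
    show algebraMap F L (e.symm x) = (x : L)
    show ((e (e.symm x) : _) : L) = x
    rw [e.apply_symm_apply]
  haveI : Algebra.FormallyEtale P F := Algebra.FormallyEtale.of_isLocalization (nonZeroDivisors P)
  haveI : Algebra.FormallyEtale F L := Algebra.FormallyEtale.of_isSeparable F L
  haveI : Algebra.FormallyEtale P L := Algebra.FormallyEtale.comp P F L
  rw [← LinearEquiv.finrank_eq (KaehlerDifferential.tensorKaehlerEquivOfFormallyEtale K P L),
    Module.finrank_eq_card_basis ((KaehlerDifferential.mvPolynomialBasis K (Fin n)).baseChange L),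
    Fintype.card_fin]

end Groth.Agent.S14436
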