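import Groth.Statements.S14437
import Mathlib
import Groth.Statements.S19269
import Groth.Statements.S13154

set_option autoImplicit false
universe u
open CAlg

namespace Groth.Agent.S14437
open TensorProduct

open IsLocalRing in

/-- Let k be a field and A → B a local homomorphism of Noetherian local k-algebras with residue fields k
(k → A/m_A and k → B/m_B bijective) — for instance the local rings at a closed point x and at its
image y under a morphism of schemes of finite type over an algebraically closed k. Then dim_k
(Ω_{B/A} ⊗_B B/m_B) + rank(m_A/m_A² → m_B/m_B²) = dim_k (m_B/m_B²): the fibre at x of the sheaf of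
relative differentials is dual to the kernel of the tangent map T_x X → T_y Y. (The published
statement is the canonical isomorphism (Ω_{X/Y})_(x)^∨ ≅ ker(df_x); stated here as the resulting
equality of dimensions. Its second assertion, dim (Ω_{X/Y})_(x) ≥ r when the fibre has an
r-dimensional component through x, is not included.) -/
theorem result (k : Type u) [Field k]
    (A B : Type u) [CommRing A] [CommRing B] [IsLocalRing A] [IsLocalRing B] [IsNoetherianRing A] [IsNoetherianRing B]
    [Algebra k A] [Algebra k B] [Algebra A B] [IsScalarTower k A B]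
    (hle : IsLocalRing.maximalIdeal A ≤ Ideal.comap (IsScalarTower.toAlgHom k A B) (IsLocalRing.maximalIdeal B))
    (hA : Function.Bijective (algebraMap k (IsLocalRing.ResidueField A)))
    (hB : Function.Bijective (algebraMap k (IsLocalRing.ResidueField B))) :
    Module.finrank (IsLocalRing.ResidueField B) (TensorProduct B (IsLocalRing.ResidueField B) (Ω[B⁄A])) +
      Module.finrank k ↥(LinearMap.range (Ideal.mapCotangent (IsLocalRing.maximalIdeal A) (IsLocalRing.maximalIdeal B)
        (IsScalarTower.toAlgHom k A B) hle)) =
      Module.finrank k (IsLocalRing.CotangentSpace B) := by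
  let K := ResidueField B
  let mB := maximalIdeal B
  let f := Ideal.mapCotangent (maximalIdeal A) mB (IsScalarTower.toAlgHom k A B) hle
  let ek := RingEquiv.ofBijective _ hB
  let c : B → k := fun b => ek.symm (residue B b)
  have hc : ∀ b, b - algebraMap k B (c b) ∈ mB := fun b => by
    rw [← residue_eq_zero_iff, map_sub, sub_eq_zero]
    show residue B b = algebraMap k K (ek.symm (residue B b))
    exact (ek.apply_symm_apply _).symm
  let δ₀ : B → mB.Cotangent := fun b => mB.toCotangent ⟨_, hc b⟩
  have hsm : ∀ (b : B) (v : mB.Cotangent), b • v = c b • v := by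
    intro b v
    obtain ⟨⟨x, hx⟩, rfl⟩ := mB.toCotangent_surjective v
    rw [← algebraMap_smul B (c b) (mB.toCotangent ⟨x, hx⟩), ← map_smul, ← map_smul, Ideal.toCotangent_eq]
    show b * x - algebraMap k B (c b) * x ∈ _
    rw [← sub_mul, pow_two]
    exact Ideal.mul_mem_mul (hc b) hx
  let W : Submodule B mB.Cotangent :=
    { carrier := Set.range f
      zero_mem' := ⟨0, map_zero f⟩
      add_mem' := by rintro _ _ ⟨a, rfl⟩ ⟨b, rfl⟩; exact ⟨a + b, map_add f a b⟩
      smul_mem' := by
        rintro b _ ⟨a, rfl⟩
        exact ⟨c b • a, by rw [map_smul]; exact (hsm b _).symm⟩ }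
  have hW : ∀ v, v ∈ W ↔ v ∈ LinearMap.range f := fun v => Iff.rfl
  have cres : ∀ b, algebraMap k K (c b) = residue B b := fun b => ek.apply_symm_apply _
  have cadd : ∀ x y, c (x + y) = c x + c y := fun x y => by simp [c]
  have cmul : ∀ x y, c (x * y) = c x * c y := fun x y => by simp [c]
  have cA : ∀ a : A, δ₀ (algebraMap A B a) ∈ W := by
    intro a
    obtain ⟨t, ht⟩ := hA.2 (residue A a)
    have hm : a - algebraMap k A t ∈ maximalIdeal A := by
      rw [← residue_eq_zero_iff, map_sub, ← ht]; exact sub_self _
    refine ⟨(maximalIdeal A).toCotangent ⟨_, hm⟩, ?_⟩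
    rw [Ideal.mapCotangent_toCotangent]
    refine congrArg mB.toCotangent (Subtype.ext ?_)
    show algebraMap A B (a - algebraMap k A t) = algebraMap A B a - algebraMap k B (c (algebraMap A B a))
    have hct : c (algebraMap A B a) = t := by
      apply hB.1
      rw [cres]
      have h0 : residue B (algebraMap A B (a - algebraMap k A t)) = 0 := (residue_eq_zero_iff _).2 (hle hm)
      rw [map_sub, map_sub, sub_eq_zero, ← IsScalarTower.algebraMap_apply] at h0
      exact h0
    rw [map_sub, ← IsScalarTower.algebraMap_apply, hct]
  let δ : Derivation A B (mB.Cotangent ⧸ W) := Derivation.mk'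
    { toFun := fun b => W.mkQ (δ₀ b)
      map_add' := fun x y => by
        rw [← map_add, ← map_add]
        refine congrArg _ (congrArg _ (Subtype.ext ?_))
        show x + y - algebraMap k B (c (x + y)) = (x - algebraMap k B (c x)) + (y - algebraMap k B (c y))
        rw [cadd, map_add]; ring
      map_smul' := fun a x => by
        show W.mkQ (δ₀ (a • x)) = a • W.mkQ (δ₀ x)
        rw [← algebraMap_smul B a (W.mkQ (δ₀ x)), ← map_smul, ← sub_eq_zero, ← map_sub, Submodule.mkQ_apply,
          Submodule.Quotient.mk_eq_zero]
        have : δ₀ (a • x) - algebraMap A B a • δ₀ x = c x • δ₀ (algebraMap A B a) := by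
          rw [← algebraMap_smul B (c x) (δ₀ (algebraMap A B a)), ← map_smul, ← map_smul, ← map_sub]
          refine congrArg _ (Subtype.ext ?_)
          show (a • x - algebraMap k B (c (a • x))) - algebraMap A B a * (x - algebraMap k B (c x)) =
            algebraMap k B (c x) * (algebraMap A B a - algebraMap k B (c (algebraMap A B a)))
          rw [Algebra.smul_def, cmul, map_mul]; ring
        rw [this, ← algebraMap_smul B (c x) (δ₀ (algebraMap A B a))]
        exact W.smul_mem _ (cA a) }
    (fun x y => by
      show W.mkQ (mB.toCotangent _) = x • W.mkQ (mB.toCotangent _) + y • W.mkQ (mB.toCotangent _)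
      rw [← W.mkQ.map_smul, ← W.mkQ.map_smul, ← map_add]
      refine congrArg _ ?_
      rw [← map_smul, ← map_smul, ← map_add, Ideal.toCotangent_eq]
      show (x * y - algebraMap k B (c (x * y))) - (x * (y - algebraMap k B (c y)) + y * (x - algebraMap k B (c x))) ∈ _
      rw [cmul, map_mul, pow_two]
      have : (x * y - algebraMap k B (c x) * algebraMap k B (c y)) - (x * (y - algebraMap k B (c y)) + y * (x - algebraMap k B (c x))) =
          -((x - algebraMap k B (c x)) * (y - algebraMap k B (c y))) := by ring
      rw [this]
      exact neg_mem (Ideal.mul_mem_mul (hc x) (hc y)))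
  -- the quotient of the cotangent space is killed by the maximal ideal, so it is a module over the residue field
  let Ψ₀ : Ω[B⁄A] →ₗ[B] mB.Cotangent ⧸ W := δ.liftKaehlerDifferential
  let Ψ : K ⊗[B] Ω[B⁄A] →+ mB.Cotangent ⧸ W :=
    TensorProduct.liftAddHom
      { toFun := fun t => ((algebraMap k B (ek.symm t)) • Ψ₀).toAddMonoidHom
        map_zero' := by simp; rfl
        map_add' := fun s t => by ext ω; simp [add_smul] }
      (fun b t ω => by
        refine Eq.symm ?_
        show algebraMap k B (ek.symm t) • Ψ₀ (b • ω) = algebraMap k B (ek.symm (b • t)) • Ψ₀ ω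
        obtain ⟨v, hv⟩ := W.mkQ_surjective (Ψ₀ ω)
        rw [map_smul, ← hv, ← map_smul, ← map_smul, ← map_smul, hsm b v, Algebra.smul_def b t, map_mul,
          show ek.symm (algebraMap B K b) = c b from rfl, map_mul, mul_comm (algebraMap k B (c b)), mul_smul,
          algebraMap_smul B (c b) v])
  let dd : mB.Cotangent → K ⊗[B] Ω[B⁄A] := fun v =>
    (1 : K) ⊗ₜ KaehlerDifferential.D A B (Classical.choose (mB.toCotangent_surjective v) : mB).1
  have hdd0 : ∀ x : B, x ∈ mB ^ 2 → (1 : K) ⊗ₜ[B] KaehlerDifferential.D A B x = 0 := by
    intro x hx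
    rw [pow_two] at hx
    refine Submodule.mul_induction_on hx (fun a ha b hb => ?_) (fun a b ha hb => by rw [map_add, TensorProduct.tmul_add, ha, hb, add_zero])
    have h0 : ∀ r ∈ mB, ∀ ω : Ω[B⁄A], (1 : K) ⊗ₜ[B] (r • ω) = 0 := fun r hr ω => by
      rw [← TensorProduct.smul_tmul, Algebra.smul_def, mul_one,
        show algebraMap B K r = 0 from (residue_eq_zero_iff r).2 hr, TensorProduct.zero_tmul]
    rw [Derivation.leibniz, TensorProduct.tmul_add, h0 a ha, h0 b hb, add_zero]
  have hdd : ∀ x : mB, dd (mB.toCotangent x) = (1 : K) ⊗ₜ KaehlerDifferential.D A B x.1 := by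
    intro x
    have h := Classical.choose_spec (mB.toCotangent_surjective (mB.toCotangent x))
    rw [Ideal.toCotangent_eq] at h
    have := hdd0 _ h
    rwa [map_sub, TensorProduct.tmul_sub, sub_eq_zero] at this
  let Φ : mB.Cotangent →ₗ[k] K ⊗[B] Ω[B⁄A] :=
    { toFun := dd
      map_add' := fun v w => by
        obtain ⟨x, rfl⟩ := mB.toCotangent_surjective v
        obtain ⟨y, rfl⟩ := mB.toCotangent_surjective w
        rw [← map_add, hdd, hdd, hdd, Submodule.coe_add, map_add, TensorProduct.tmul_add]
      map_smul' := fun t v => by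
        obtain ⟨x, rfl⟩ := mB.toCotangent_surjective v
        rw [← algebraMap_smul B t (mB.toCotangent x), ← map_smul, hdd, hdd, Submodule.coe_smul, smul_eq_mul,
          IsScalarTower.algebraMap_apply k A B, ← Algebra.smul_def, Derivation.map_smul, RingHom.id_apply]
        rw [← algebraMap_smul B (algebraMap k A t) (KaehlerDifferential.D A B x.1), ← IsScalarTower.algebraMap_apply,
          ← TensorProduct.smul_tmul, algebraMap_smul, TensorProduct.smul_tmul'] }
  have hΦ : Function.Surjective Φ := by
    intro z
    induction z with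
    | zero => exact ⟨0, map_zero _⟩
    | add x y hx hy =>
      obtain ⟨a, rfl⟩ := hx; obtain ⟨b, rfl⟩ := hy; exact ⟨a + b, map_add _ _ _⟩
    | tmul t ω =>
      have hω : ω ∈ Submodule.span B (Set.range (KaehlerDifferential.D A B)) := by
        rw [KaehlerDifferential.span_range_derivation]; trivial
      induction hω using Submodule.span_induction generalizing t with
      | zero => exact ⟨0, by rw [map_zero, TensorProduct.tmul_zero]⟩
      | add x y _ _ hx hy =>
        obtain ⟨a, ha⟩ := hx t; obtain ⟨b, hb⟩ := hy t
        exact ⟨a + b, by rw [map_add, ha, hb, TensorProduct.tmul_add]⟩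
      | smul b x _ hx =>
        obtain ⟨a, ha⟩ := hx (b • t)
        exact ⟨a, by rw [ha, TensorProduct.smul_tmul]⟩
      | mem x hx =>
        obtain ⟨b, rfl⟩ := hx
        obtain ⟨s, rfl⟩ := hB.2 t
        refine ⟨s • mB.toCotangent ⟨_, hc b⟩, ?_⟩
        rw [map_smul]
        show s • dd _ = _
        rw [hdd]
        simp only [map_sub]
        rw [IsScalarTower.algebraMap_apply k A B, Derivation.map_algebraMap, sub_zero, TensorProduct.smul_tmul',
          Algebra.smul_def, mul_one]
  have hker : LinearMap.ker Φ = LinearMap.range f := by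
    ext v
    rw [LinearMap.mem_ker]
    constructor
    · intro hv
      obtain ⟨x, rfl⟩ := mB.toCotangent_surjective v
      change dd _ = 0 at hv
      rw [hdd] at hv
      have h2 := congrArg Ψ hv
      rw [map_zero] at h2
      change algebraMap k B (ek.symm 1) • Ψ₀ (KaehlerDifferential.D A B x.1) = 0 at h2
      rw [map_one, map_one, one_smul, Derivation.liftKaehlerDifferential_comp_D] at h2
      change W.mkQ (δ₀ x.1) = 0 at h2
      rw [Submodule.mkQ_apply, Submodule.Quotient.mk_eq_zero] at h2
      have hc0 : c x.1 = 0 := by
        show ek.symm (residue B x.1) = 0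
        rw [(residue_eq_zero_iff _).2 x.2, map_zero]
      have : δ₀ x.1 = mB.toCotangent x := congrArg _ (Subtype.ext (show x.1 - algebraMap k B (c x.1) = x.1 by rw [hc0, map_zero, sub_zero]))
      rw [this] at h2
      exact h2
    · rintro ⟨a, rfl⟩
      obtain ⟨y, rfl⟩ := (maximalIdeal A).toCotangent_surjective a
      show dd _ = 0
      rw [Ideal.mapCotangent_toCotangent, hdd]
      show (1 : K) ⊗ₜ KaehlerDifferential.D A B (algebraMap A B y.1) = 0
      rw [Derivation.map_algebraMap, TensorProduct.tmul_zero]
  have h1 : Module.finrank k K = 1 := by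
    rw [← (AlgEquiv.ofBijective (Algebra.ofId k K) hB).toLinearEquiv.finrank_eq, Module.finrank_self]
  haveI : FiniteDimensional k K := Module.finite_of_finrank_eq_succ h1
  haveI : IsScalarTower k K (CotangentSpace B) := IsScalarTower.of_algebraMap_smul fun t v => by
    rw [IsScalarTower.algebraMap_apply k B K, IsScalarTower.algebraMap_smul]
    exact algebraMap_smul B t v
  haveI : FiniteDimensional k (CotangentSpace B) := Module.Finite.trans K (CotangentSpace B)
  have h2 := LinearMap.finrank_range_add_finrank_ker Φ
  rw [LinearMap.range_eq_top.2 hΦ, finrank_top, hker] at h2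
  have h3 := Module.finrank_mul_finrank k K (K ⊗[B] Ω[B⁄A])
  rw [h1, one_mul] at h3
  rw [h3]
  exact h2

end Groth.Agent.S14437
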