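import Groth.Statements.S14438
import Mathlib
import Groth.Agent.Lib.Cyc26.NormSum

set_option autoImplicit false
universe u
open CAlg

namespace Groth.Agent.S14438


open Groth.Agent



/-- Let (A, m) be a local ring, B a commutative A-algebra which is free of finite rank d as an A-module,
and assume that for every maximal ideal n of B containing mB the induced map of residue fields A/m →
B/n is bijective (as for the points of a fibre of a finite flat morphism of varieties over an
algebraically closed field). Then the multiplicities of the points of the fibre add up to the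
degree: the sum over all such n of the length of the B_n-module (B/mB)_n equals d. -/
theorem result (A B : Type u) [CommRing A] [IsLocalRing A] [CommRing B] [Algebra A B]
    [Module.Free A B] [Module.Finite A B] (d : ℕ) (hd : Module.finrank A B = d)
    (hres : ∀ (n : Ideal B) [n.IsMaximal] (h : Ideal.map (algebraMap A B) (IsLocalRing.maximalIdeal A) ≤ n),
      Function.Bijective (Ideal.quotientMap n (algebraMap A B) (Ideal.map_le_iff_le_comap.mp h))) :
    finsum (fun n : {n : MaximalSpectrum B // Ideal.map (algebraMap A B) (IsLocalRing.maximalIdeal A) ≤ n.asIdeal} =>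
      Module.length (Localization.AtPrime n.1.asIdeal)
        (LocalizedModule n.1.asIdeal.primeCompl (B ⧸ Ideal.map (algebraMap A B) (IsLocalRing.maximalIdeal A)))) = (d : ℕ∞) := by
  classical
  let m := IsLocalRing.maximalIdeal A
  let J : Ideal B := m.map (algebraMap A B)
  haveI : Algebra.IsIntegral A B := Algebra.IsIntegral.of_finite A B
  have hall : ∀ n : MaximalSpectrum B, J ≤ n.asIdeal := fun n => by
    rw [Ideal.map_le_iff_le_comap]
    haveI := n.isMaximal
    exact (IsLocalRing.eq_maximalIdeal (Ideal.isMaximal_comap_of_isIntegral_of_isMaximal (R := A) n.asIdeal)).ge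
  have hlen1 : ∀ n : MaximalSpectrum B, Module.length A (B ⧸ n.asIdeal) = 1 := fun n => by
    haveI := n.isMaximal
    have hb := hres n.asIdeal (hall n)
    have hm : n.asIdeal.comap (algebraMap A B) = m :=
      IsLocalRing.eq_maximalIdeal (Ideal.isMaximal_comap_of_isIntegral_of_isMaximal (R := A) n.asIdeal)
    have hs : IsSimpleModule A (A ⧸ m) :=
      isSimpleModule_iff_isCoatom.2 (IsLocalRing.maximalIdeal.isMaximal A).out
    rw [← Module.length_eq_one_iff] at hs
    rw [← hs]
    refine (Submodule.Quotient.restrictScalarsEquiv A n.asIdeal).length_eq.symm.trans ?_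
    refine Eq.symm (LinearEquiv.ofBijective
      (Submodule.mapQ m (n.asIdeal.restrictScalars A) (Algebra.linearMap A B) (fun a ha =>
        Ideal.map_le_iff_le_comap.1 (hall n) ha)) ?_).length_eq
    refine ⟨(injective_iff_map_eq_zero _).2 fun z hz => ?_, fun z => ?_⟩
    · obtain ⟨a, rfl⟩ := Submodule.Quotient.mk_surjective _ z
      rw [Submodule.mapQ_apply, Submodule.Quotient.mk_eq_zero] at hz
      exact (Submodule.Quotient.mk_eq_zero _).2 (hm ▸ hz : a ∈ m)
    · obtain ⟨b, rfl⟩ := Submodule.Quotient.mk_surjective _ z
      obtain ⟨w, hw⟩ := hb.2 (Ideal.Quotient.mk n.asIdeal b)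
      obtain ⟨a, rfl⟩ := Ideal.Quotient.mk_surjective w
      rw [Ideal.quotientMap_mk, Ideal.Quotient.eq] at hw
      exact ⟨Submodule.Quotient.mk a, (Submodule.Quotient.eq _).2 hw⟩
  haveI : Module.Finite (A ⧸ m) (B ⧸ m.map (algebraMap A B)) :=
    Module.Finite.of_restrictScalars_finite A (A ⧸ m) _
  have hlenJ : Module.length A (B ⧸ J) = d := by
    rw [Module.length_eq_of_surjective (S := A) (R := A ⧸ m) (M := B ⧸ J) Ideal.Quotient.mk_surjective]
    letI := Ideal.Quotient.field m
    rw [Module.length_eq_finrank, ← hd]
    congr 1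
    exact IsLocalRing.finrank_quotient_map
  have hfl : IsFiniteLength B (B ⧸ J) := by
    refine Module.length_ne_top_iff.1 (ne_top_of_le_ne_top (hlenJ ▸ ENat.coe_ne_top d) ?_)
    exact (Module.length_top (R := B) (M := B ⧸ J)).ge.trans
      ((Submodule.length_le_length_restrictScalars A _).trans (by rw [Submodule.restrictScalars_top, Module.length_top]))
  haveI : Finite (MaximalSpectrum B) := by
    haveI : IsArtinianRing (B ⧸ J) := by
      letI := Ideal.Quotient.field m
      exact IsArtinianRing.of_finite (A ⧸ m) (B ⧸ J)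
    let F : MaximalSpectrum B → MaximalSpectrum (B ⧸ J) := fun n =>
      ⟨n.asIdeal.map (Ideal.Quotient.mk J),
        (Ideal.map_eq_top_or_isMaximal_of_surjective _ Ideal.Quotient.mk_surjective n.isMaximal).resolve_left
          fun htop => n.isMaximal.ne_top (by
            have := congrArg (Ideal.comap (Ideal.Quotient.mk J)) htop
            rwa [Ideal.comap_map_mk (hall n), Ideal.comap_top] at this)⟩
    refine Finite.of_injective F fun n₁ n₂ he => MaximalSpectrum.ext ?_
    have := congrArg (Ideal.comap (Ideal.Quotient.mk J)) (congrArg MaximalSpectrum.asIdeal he)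
    rwa [Ideal.comap_map_mk (hall n₁), Ideal.comap_map_mk (hall n₂)] at this
  haveI := Fintype.ofFinite (MaximalSpectrum B)
  let em : MaximalSpectrum B ↪ PrimeSpectrum B :=
    ⟨MaximalSpectrum.toPrimeSpectrum, fun m₁ m₂ h => MaximalSpectrum.ext (congrArg PrimeSpectrum.asIdeal h :)⟩
  refine (finsum_comp_equiv (Equiv.subtypeUnivEquiv hall) (f := fun n : MaximalSpectrum B =>
    Module.length (Localization.AtPrime n.asIdeal) (LocalizedModule n.asIdeal.primeCompl (B ⧸ J)))).trans ?_
  rw [← hlenJ, Cyc26.length_eq_sum_locLen (Finset.univ.map em) (fun q => ⟨fun h => by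
      obtain ⟨m', -, rfl⟩ := Finset.mem_map.1 h
      exact m'.isMaximal, fun h => Finset.mem_map.2 ⟨⟨q.asIdeal, h⟩, Finset.mem_univ _, rfl⟩⟩) _ hfl,
      Finset.sum_map, finsum_eq_sum_of_fintype]
  refine Finset.sum_congr rfl fun n _ => ?_
  rw [show (em n).asIdeal = n.asIdeal from rfl, hlen1, one_mul]
  rfl

end Groth.Agent.S14438
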