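import Groth.Statements.S14439
import Groth.Agent.Lib.CMReg18.Resolution

set_option autoImplicit false
universe u
open CategoryTheory CategoryTheory.Limits AlgebraicGeometry
open Variety

open Groth.Agent Groth.Agent.CMReg18
namespace Groth.Agent.S14439

/-- Let k be an algebraically closed field, n ≥ 0 and F a coherent sheaf on P^n_k. Then F has a locally
free resolution 0 → E_{n+1} → ⋯ → E_1 → E_0 → F → 0 of length at most n + 1 in which every E_i is a
finite direct sum of twisting sheaves O(d): there are a chain complex C of O-modules with C_i = 0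
for i > n + 1, each C_i isomorphic to a finite coproduct of twisting sheaves, exact in positive
degrees, and an epimorphism C_0 → F whose kernel is the image of C_1 → C_0. -/
theorem result (k : Type u) [Field k] [IsAlgClosed k] (n : ℕ)
    (F : (CohB1.ProjSpace n k).Modules) (hF : Coh.IsCoh F) :
    ∃ (C : ChainComplex (CohB1.ProjSpace n k).Modules ℕ) (π : C.X 0 ⟶ F) (w : C.d 1 0 ≫ π = 0),
      (∀ i : ℕ, n + 1 < i → IsZero (C.X i)) ∧
      (∀ i : ℕ, ∃ (m : ℕ) (d : Fin m → ℤ), Nonempty (C.X i ≅ ∐ fun j : Fin m => Twist.twistProjSpace n k (d j))) ∧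
      (∀ i : ℕ, 1 ≤ i → IsZero (C.homology i)) ∧ Epi π ∧ (ShortComplex.mk (C.d 1 0) π w).Exact := by
  obtain ⟨C, π, w, h1, h2, h3, h4, h5⟩ := exists_resolution (k := k) hF
  exact ⟨C, π, w, fun i hi => h1 i (by omega), h2, h3, h4, h5⟩

end Groth.Agent.S14439
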