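import Groth.Statements.S1444
import Groth.Agent.Lib.FibH1_18.Point

set_option autoImplicit false
set_option linter.style.haveILetI false
set_option maxHeartbeats 1000000
set_option backward.isDefEq.respectTransparency false
set_option backward.isDefEq.respectTransparency.types false
-- import your own Groth.Agent.* helpers here

set_option autoImplicit false
universe u
open FlatMor

namespace Groth.Agent.S1444

open AlgebraicGeometry CategoryTheory Limits in
/-- Let f : X → Y be proper with Y affine, all fibres of f of dimension at most 1, and H¹(X_y, O_{X_y})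
= 0 for every point y of Y. Then H¹(X, F) = 0 for every quasi-coherent O_X-module F which is
globally generated (a quotient of a direct sum of copies of the structure sheaf). -/
theorem result {X Y : Scheme.{u}} (f : X ⟶ Y) [IsProper f] [IsAffine Y]
    (hdim : ∀ y : Y, topologicalKrullDim ↑(f.fiber y) ≤ 1) (hH1 : ∀ y : Y, Subsingleton (Coh.HH (f.fiber y) (Coh.structureModule (f.fiber y)) 1))
    (F : X.Modules) (hF : Coh.IsQCoh F) (ι : Type u) (e : (∐ fun _ : ι => Coh.structureModule X) ⟶ F) [Epi e] :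
    Subsingleton (Coh.HH X F 1) := by
  obtain ⟨c⟩ : Nonempty (Groth.Agent.FibH1_18.Cov X) :=
    Groth.Agent.FibH1_18.nonempty_cov (A := Γ(Y, ⊤)) (f ≫ Y.isoSpec.hom)
  let f₀ : X ⟶ Spec (CommRingCat.of Γ(Y, ⊤)) := f ≫ Y.isoSpec.hom
  haveI : IsProper f₀ := inferInstanceAs (IsProper (f ≫ Y.isoSpec.hom))
  have hd : ∀ z, topologicalKrullDim ↥(f₀ ⁻¹' {z} : Set X) ≤ 1 := fun z => by
    have e : (f₀ ⁻¹' {z} : Set X) = f ⁻¹' {Y.isoSpec.inv z} := by
      ext x
      simp only [Set.mem_preimage, Set.mem_singleton_iff]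
      constructor
      · intro h
        rw [← h]
        exact (ConcreteCategory.congr_hom (congrArg (fun q => q.base) Y.isoSpec.hom_inv_id) (f x)).symm
      · intro h
        change Y.isoSpec.hom (f x) = z
        rw [h]
        exact ConcreteCategory.congr_hom (congrArg (fun q => q.base) Y.isoSpec.inv_hom_id) z
    rw [e, ← Groth.Agent.VanFib13.dim_fiber]
    exact hdim _
  have hO := Groth.Agent.M1.isCoh_structureModule X
  -- vanishing at every prime
  have hp : ∀ (p : Ideal Γ(Y, ⊤)) [p.IsPrime],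
      Groth.Agent.FibH1_18.VanH f₀ c (Coh.structureModule X) p.ResidueField := by
    intro p _
    let y : Y := Y.isoSpec.inv ⟨p, ‹_›⟩
    let φ : Γ(Y, ⊤) ⟶ Y.residueField y := Spec.preimage (Y.fromSpecResidueField y ≫ Y.isoSpec.hom)
    have hs : Spec.map φ = Y.fromSpecResidueField y ≫ Y.isoSpec.hom := Spec.map_preimage _
    letI : Algebra Γ(Y, ⊤) (Y.residueField y) := φ.hom.toAlgebra
    have hker : RingHom.ker φ.hom = p := by
      have hz : Spec.map φ (IsLocalRing.closedPoint (Y.residueField y)) = (⟨p, ‹_›⟩ : PrimeSpectrum Γ(Y, ⊤)) := by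
        rw [hs, Scheme.Hom.comp_apply, Scheme.fromSpecResidueField_apply]
        simp [y, ← Scheme.Hom.comp_apply]
      have h2 := congrArg PrimeSpectrum.asIdeal hz
      refine Eq.trans ?_ h2
      rw [RingHom.ker_eq_comap_bot]
      change _ = Ideal.comap _ (IsLocalRing.maximalIdeal (Y.residueField y))
      rw [IsLocalRing.maximalIdeal_eq_bot]
    have hk : IsPullback (f.fiberι y) (f.fiberToSpecResidueField y) f₀ (Spec.map φ) := by
      rw [hs]
      refine (IsPullback.of_hasPullback f (Y.fromSpecResidueField y)).of_iso (Iso.refl _) (Iso.refl _) (Iso.refl _)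
        Y.isoSpec ?_ ?_ ?_ ?_ <;> simp [f₀] <;> rfl
    exact Groth.Agent.FibH1_18.vanH_residueField f₀ hd c hO.1 p (Y.residueField y) hker
      ((Groth.Agent.FibH1_18.vanH_algebra_iff f₀ c hO.1 (B := Y.residueField y) hk
        (Groth.Agent.Twist.pullbackUnitIso _)).2 (hH1 y))
  have hA := Groth.Agent.FibH1_18.vanH_self f₀ hd c hO.1 hO.2 hp
  -- coefficients in a free module
  let M : ModuleCat.{u} Γ(Y, ⊤) := ModuleCat.of Γ(Y, ⊤) (ι →₀ Γ(Y, ⊤))
  have hM : Groth.Agent.FibH1_18.VanH f₀ c (Coh.structureModule X) M :=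
    Groth.Agent.FibH1_18.vanH_of_algebra f₀ hd c hO.1 Γ(Y, ⊤) M hA
  letI : X.Over (Spec (CommRingCat.of Γ(Y, ⊤))) := ⟨f₀⟩
  let G := CohIII.tensorA Γ(Y, ⊤) (Coh.structureModule X) M
  let e₁ : G ≅ ∐ fun _ : ι => Coh.structureModule X :=
    Groth.Agent.M2.tensorLUnit _ ≪≫
      (Scheme.Modules.pullback f₀).mapIso (tildeFinsupp (R := CommRingCat.of Γ(Y, ⊤)) ι) ≪≫
      PreservesCoproduct.iso (Scheme.Modules.pullback f₀) _ ≪≫
      Sigma.mapIso fun _ => Groth.Agent.Twist.pullbackUnitIso f₀
  let π : G ⟶ F := e₁.hom ≫ e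
  haveI : Epi π := epi_comp _ _
  have hGq : Coh.IsQCoh G := Groth.Agent.FibH1_18.isQCoh_tensorA c.aff hO.1 M
  have hGv := (Groth.Agent.FibH1_18.vanT_iff c.aff hO.1 M).1 hM
  exact Groth.Agent.FibH1_18.subsingleton_of_van c.cov c.aff hF
    (Groth.Agent.FibH1_18.van_of_surjective c.cov c.aff (Groth.Agent.FibH1_18.hH2 f₀ hd) hGq hF π
      (fun a => Groth.Agent.M1.app_surjective_affine_of_isQCoh hGq hF π (c.aff 1 a)) hGv)

end Groth.Agent.S1444
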