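import Groth.Statements.S14442
import Mathlib.RingTheory.GradedAlgebra.Homogeneous.Ideal

set_option autoImplicit false
universe u
open GrNak

namespace Groth.Agent.S14442

/-- Let R be a commutative ℕ-graded ring with irrelevant ideal R_+ = ⊕_{i>0} R_i, M an ℕ-graded R-module
and N a graded submodule of M (closed under taking homogeneous components). If M = R_+ M + N then N
= M. (The published statement is for finitely generated ℤ-graded modules over a graded quotient of a
polynomial ring, whose degrees are then bounded below; stated here for non-negatively graded modules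
over any ℕ-graded commutative ring, where the same lowest-degree argument applies without finite
generation.) -/
theorem result {R : Type u} [CommRing R] {σ : Type u} [SetLike σ R] [AddSubmonoidClass σ R]
    (𝒜 : ℕ → σ) [GradedRing 𝒜]
    {M : Type u} [AddCommGroup M] [Module R M] {τ : Type u} [SetLike τ M] [AddSubmonoidClass τ M]
    (ℳ : ℕ → τ) [DirectSum.Decomposition ℳ] [SetLike.GradedSMul 𝒜 ℳ]
    (N : Submodule R M) (hN : ∀ x ∈ N, ∀ i : ℕ, (DirectSum.decompose ℳ x i : M) ∈ N)
    (h : (HomogeneousIdeal.irrelevant 𝒜).toIdeal • (⊤ : Submodule R M) ⊔ N = ⊤) :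
    N = ⊤ := by
  classical
  suffices key : ∀ n, ∀ x ∈ ℳ n, x ∈ N by
    refine eq_top_iff.2 fun x hxtop => ?_
    clear hxtop
    induction x using DirectSum.Decomposition.inductionOn ℳ with
    | zero => exact zero_mem _
    | @homogeneous i y => exact key i y y.2
    | add a b ha hb => exact add_mem ha hb
  intro n
  induction n using Nat.strong_induction_on with
  | _ n ih =>
    intro x hx
    have hsmall : ∀ a ∈ (HomogeneousIdeal.irrelevant 𝒜).toIdeal, ∀ m : M,
        (DirectSum.decompose ℳ (a • m) n : M) ∈ N := by
      intro a ha m
      rw [← DirectSum.sum_support_decompose 𝒜 a, Finset.sum_smul, DirectSum.decompose_sum,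
        DFinsupp.finsetSum_apply, AddSubmonoidClass.coe_finset_sum]
      refine sum_mem fun i _ => ?_
      rcases Nat.eq_zero_or_pos i with rfl | hi
      · rw [show (DirectSum.decompose 𝒜 a 0 : R) = 0 from (HomogeneousIdeal.mem_irrelevant_iff 𝒜 a).1 ha,
          zero_smul, DirectSum.decompose_zero]
        exact zero_mem _
      · induction m using DirectSum.Decomposition.inductionOn ℳ with
        | zero => simp
        | @homogeneous j y =>
          have hmem : (DirectSum.decompose 𝒜 a i : R) • (y : M) ∈ ℳ (i + j) :=
            SetLike.GradedSMul.smul_mem (DirectSum.decompose 𝒜 a i).2 y.2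
          by_cases hij : i + j = n
          · rw [← hij, DirectSum.decompose_of_mem_same ℳ hmem]
            exact N.smul_mem _ (ih j (by omega) y y.2)
          · rw [DirectSum.decompose_of_mem_ne ℳ hmem hij]
            exact zero_mem _
        | add p q hp hq =>
          rw [smul_add, DirectSum.decompose_add, DirectSum.add_apply, AddMemClass.coe_add]
          exact add_mem hp hq
    obtain ⟨u, hu, v, hv, rfl⟩ := Submodule.mem_sup.1
      (h.ge (Submodule.mem_top : x ∈ (⊤ : Submodule R M)))
    rw [← DirectSum.decompose_of_mem_same ℳ hx, DirectSum.decompose_add, DirectSum.add_apply,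
      AddMemClass.coe_add]
    refine add_mem ?_ (hN v hv n)
    have : ∀ a ∈ (HomogeneousIdeal.irrelevant 𝒜).toIdeal • (⊤ : Submodule R M),
        (DirectSum.decompose ℳ a n : M) ∈ N := fun a ha => by
      refine Submodule.smul_induction_on ha (fun r hr m _ => hsmall r hr m) fun p q hp hq => ?_
      rw [DirectSum.decompose_add, DirectSum.add_apply, AddMemClass.coe_add]
      exact add_mem hp hq
    exact this u hu

end Groth.Agent.S14442
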