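import Groth.Statements.S14443
import Groth.Agent.Lib.SmDim19.FibreOmega
-- import your own Groth.Agent.* helpers here

set_option autoImplicit false
universe u
open CategoryTheory CategoryTheory.Limits AlgebraicGeometry
attribute [local instance] FixPt.fiberModule
open Variety

namespace Groth.Agent.S14443

set_option linter.style.haveILetI false
set_option backward.isDefEq.respectTransparency.types false


/-- Let k be an algebraically closed field, f : X → Y a morphism of k-schemes of finite type, x a closed
point of X and Z an irreducible closed subset of the fibre f⁻¹(f(x)) passing through x, of dimension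
r. Then dim_k (Ω_{X/Y})_(x) ≥ r, where (Ω_{X/Y})_(x) = Ω_{X/Y,x} ⊗ k(x) is the fibre of the sheaf of
relative differentials at x, a vector space over k(x) = k (x is closed and k algebraically closed),
regarded as a k-module through k → O_{X,x}. (The published statement is for varieties, i.e. X and Y
reduced and separated; this row assumes neither. Since X is locally of finite type over a field it
is locally Noetherian, so f is quasi-separated; the argument, T_x Z ⊆ ker(df_x) and dim T_x Z ≥ dim
Z, uses neither reducedness nor separatedness.) -/
theorem result (k : Type u) [Field k] [IsAlgClosed k]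
    {X Y : Scheme.{u}} [X.Over (Spec (CommRingCat.of k))] [Y.Over (Spec (CommRingCat.of k))]
    [LocallyOfFiniteType (X ↘ Spec (CommRingCat.of k))] [QuasiCompact (X ↘ Spec (CommRingCat.of k))]
    [LocallyOfFiniteType (Y ↘ Spec (CommRingCat.of k))] [QuasiCompact (Y ↘ Spec (CommRingCat.of k))]
    (f : X ⟶ Y) (hf : f ≫ (Y ↘ Spec (CommRingCat.of k)) = X ↘ Spec (CommRingCat.of k))
    (x : X) (hx : IsClosed ({x} : Set X)) (Z : Set X) (hZ : IsIrreducible Z) (hZc : IsClosed Z) (hxZ : x ∈ Z)
    (hZf : Z ⊆ f.base ⁻¹' {f.base x}) (r : ℕ) (hr : topologicalKrullDim ↥Z = (r : WithBot ℕ∞)) :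
    r ≤ Module.finrank k (FixPt.fiber (Omega.sheaf f) x) := by
  classical
  haveI : IsLocallyNoetherian X := LocallyOfFiniteType.isLocallyNoetherian (X ↘ Spec (CommRingCat.of k))
  haveI : QuasiSeparated f := inferInstance
  have h1 := SmDim19.le_ringKrullDim_fibre_stalk (X ↘ Spec (CommRingCat.of k)) f hx Z hZ hZc hxZ hZf r hr
  have h2 := h1.trans (SmDim19.ringKrullDim_fibre_stalk_le (Y ↘ Spec (CommRingCat.of k)) f hf hx)
  exact_mod_cast h2

end Groth.Agent.S14443
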