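import Groth.Statements.S14447
import Mathlib

set_option autoImplicit false
universe w v u
open AlgGrp

namespace Groth.Agent.S14447

open CategoryTheory CategoryTheory.Limits in
/-- Let C be a category with finite products and with all coproducts indexed by sets, and assume that
for every set I and every object U the canonical arrow ∐_{i∈I} U → (∐_{i∈I} pt) × U, whose i-th
component pairs U → pt → ∐_{i∈I} pt (i-th coprojection) with the identity of U, is an isomorphism.
Then the discrete-object functor from sets to C, I ↦ ∐_{i∈I} pt, preserves finite products. (Sets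
are the types of one fixed universe, the one indexing the coproducts. The published statement asks
only for the coproducts of copies of one object; this row assumes that C has all coproducts indexed
by sets, which Mathlib's discrete-object functor sigmaConst requires.) -/
theorem result {C : Type u} [Category.{v} C]
    [HasFiniteProducts C] [HasCoproducts.{w} C]
    (h : ∀ (I : Type w) (U : C), IsIso (Sigma.desc fun i : I =>
      prod.lift (terminal.from U ≫ Sigma.ι (fun _ : I => ⊤_ C) i) (𝟙 U))) :
    PreservesFiniteProducts (sigmaConst.{w}.obj (⊤_ C)) := by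
  let F := sigmaConst.{w}.obj (⊤_ C)
  have key : ∀ I J : Type w, PreservesLimit (pair I J) F := by
    intro I J
    let ψ : (∐ fun _ : I × J => ⊤_ C) ⟶ ∐ fun _ : I => (∐ fun _ : J => ⊤_ C) :=
      Sigma.desc fun p => Sigma.ι (fun _ : J => ⊤_ C) p.2 ≫ Sigma.ι (fun _ : I => ∐ fun _ : J => ⊤_ C) p.1
    let φ : (∐ fun _ : I => (∐ fun _ : J => ⊤_ C)) ⟶ ∐ fun _ : I × J => ⊤_ C :=
      Sigma.desc fun i => Sigma.desc fun j => Sigma.ι (fun _ : I × J => ⊤_ C) (i, j)
    have : IsIso ψ := ⟨φ, by
      refine Sigma.hom_ext _ _ fun p => ?_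
      simp [ψ, φ], by
      refine Sigma.hom_ext _ _ fun i => Sigma.hom_ext _ _ fun j => ?_
      simp [ψ, φ]⟩
    have := h I (∐ fun _ : J => ⊤_ C)
    let e : F.obj (I × J) ⟶ F.obj I ⨯ F.obj J :=
      prod.lift (F.map (TypeCat.ofHom Prod.fst)) (F.map (TypeCat.ofHom Prod.snd))
    have he : e = ψ ≫ Sigma.desc (fun i : I =>
        prod.lift (terminal.from (∐ fun _ : J => ⊤_ C) ≫ Sigma.ι (fun _ : I => ⊤_ C) i) (𝟙 _)) := by
      refine Sigma.hom_ext _ _ fun p => ?_
      apply Limits.prod.hom_ext
      · simp [e, ψ, F, sigmaConst, show terminal.from (⊤_ C) = 𝟙 _ from Subsingleton.elim _ _]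
      · simp [e, ψ, F, sigmaConst, show terminal.from (⊤_ C) = 𝟙 _ from Subsingleton.elim _ _]
    have : IsIso e := by rw [he]; infer_instance
    refine preservesLimit_of_preserves_limit_cone (Types.binaryProductLimit I J) ?_
    exact (isLimitMapConeBinaryFanEquiv F _ _).symm
      (IsLimit.ofIsoLimit (prodIsProd (F.obj I) (F.obj J))
        (Fan.ext (asIso e).symm (fun j => by
          rcases j with ⟨_ | _⟩
          · exact (IsIso.eq_inv_comp e).2 (Limits.prod.lift_fst _ _)
          · exact (IsIso.eq_inv_comp e).2 (Limits.prod.lift_snd _ _))))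
  have : PreservesLimitsOfShape (Discrete WalkingPair) F :=
    ⟨fun {K} => by
      have := key (K.obj ⟨WalkingPair.left⟩) (K.obj ⟨WalkingPair.right⟩)
      exact preservesLimit_of_iso_diagram F (diagramIsoPair K).symm⟩
  have : IsIso (Sigma.desc fun _ : PUnit.{w + 1} => 𝟙 (⊤_ C)) :=
    ⟨Sigma.ι (fun _ : PUnit.{w + 1} => ⊤_ C) PUnit.unit, by
      refine Sigma.hom_ext _ _ fun p => ?_
      simp, by simp⟩
  have : PreservesLimit (Functor.empty.{0} (Type w)) F := by
    refine preservesLimit_of_preserves_limit_cone
      (Types.isTerminalPUnit) ?_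
    exact (isLimitMapConeEmptyConeEquiv F _).symm
      (IsTerminal.ofIso terminalIsTerminal
        (asIso (Sigma.desc fun _ : PUnit.{w + 1} => 𝟙 (⊤_ C))).symm)
  have : PreservesLimitsOfShape (Discrete PEmpty.{1}) F := preservesLimitsOfShape_pempty_of_preservesTerminal F
  exact PreservesFiniteProducts.of_preserves_binary_and_terminal F

end Groth.Agent.S14447
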