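import Groth.Statements.S14452
import Groth.Agent.Lib.EtStalk.Flasque
import Mathlib.AlgebraicGeometry.Gluing

set_option autoImplicit false
universe u
open CategoryTheory CategoryTheory.Limits AlgebraicGeometry Opposite
open EtCore

namespace Groth.Agent.S14452

open Groth.Agent.EtStalk

section Glue

variable {X : Scheme.{u}} {U V : X.Etale} (g : V ⟶ U) [IsOpenImmersion g.left]

/-- Two copies of `U` glued along `V`. -/
noncomputable abbrev dbl : Scheme.{u} := pushout g.left g.left

lemma isOpenImmersion_inl : IsOpenImmersion (pushout.inl g.left g.left) :=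
  inferInstanceAs (IsOpenImmersion (colimit.ι (span g.left g.left) WalkingSpan.left))

lemma isOpenImmersion_inr : IsOpenImmersion (pushout.inr g.left g.left) :=
  inferInstanceAs (IsOpenImmersion (colimit.ι (span g.left g.left) WalkingSpan.right))

lemma dbl_cases (x : dbl g) :
    (∃ y, pushout.inl g.left g.left y = x) ∨ ∃ y, pushout.inr g.left g.left y = x := by
  obtain ⟨i, xi, hx⟩ := Scheme.IsLocallyDirected.ι_jointly_surjective (span g.left g.left) x
  obtain (_ | _ | _) := i
  · refine Or.inl ⟨g.left xi, ?_⟩
    rw [← hx, ← colimit.w (span g.left g.left) WalkingSpan.Hom.fst]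
    rfl
  · exact Or.inl ⟨xi, hx⟩
  · exact Or.inr ⟨xi, hx⟩

lemma mem_range_of_eq {a b : U.left} (h : pushout.inl g.left g.left a = pushout.inr g.left g.left b) :
    a ∈ Set.range g.left := by
  obtain ⟨k, fi, fj, x, hx, -⟩ :=
    (Scheme.IsLocallyDirected.ι_eq_ι_iff (span g.left g.left) (i := WalkingSpan.left)
      (j := WalkingSpan.right) (xi := a) (xj := b)).1 h
  rcases fi with _ | _
  · rcases fj
  · exact ⟨x, hx⟩

/-- The glued object of the small etale site. -/
noncomputable def dblObj : X.Etale :=
  MorphismProperty.Over.mk ⊤ (pushout.desc U.hom U.hom rfl) (by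
    have := isOpenImmersion_inl g
    have := isOpenImmersion_inr g
    have hU : AlgebraicGeometry.Etale U.hom := U.prop
    refine (IsZariskiLocalAtSource.iff_of_openCover (P := @AlgebraicGeometry.Etale)
      (Scheme.IsLocallyDirected.openCover (span g.left g.left))).2 fun i => ?_
    obtain (_ | _ | _) := i
    · change AlgebraicGeometry.Etale (colimit.ι (span g.left g.left) WalkingSpan.zero ≫ _)
      rw [← colimit.w (span g.left g.left) WalkingSpan.Hom.fst, Category.assoc]
      change AlgebraicGeometry.Etale (g.left ≫ pushout.inl g.left g.left ≫ _)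
      rw [pushout.inl_desc]
      infer_instance
    · change AlgebraicGeometry.Etale (pushout.inl g.left g.left ≫ _)
      rw [pushout.inl_desc]
      infer_instance
    · change AlgebraicGeometry.Etale (pushout.inr g.left g.left ≫ _)
      rw [pushout.inr_desc]
      infer_instance)

/-- The first copy. -/
noncomputable def inlHom : U ⟶ dblObj g :=
  MorphismProperty.Over.homMk (pushout.inl g.left g.left) (pushout.inl_desc _ _ _)

/-- The second copy. -/
noncomputable def inrHom : U ⟶ dblObj g :=
  MorphismProperty.Over.homMk (pushout.inr g.left g.left) (pushout.inr_desc _ _ _)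

lemma comp_inlHom : g ≫ inlHom g = g ≫ inrHom g :=
  MorphismProperty.Over.Hom.ext pushout.condition

lemma exists_glue (Q : EtCoh.Ab X) (a b : Q.obj.obj (op U)) (h : Q.obj.map g.op a = Q.obj.map g.op b) :
    ∃ q, Q.obj.map (inlHom g).op q = a ∧ Q.obj.map (inrHom g).op q = b := by
  let Xs : Bool → X.Etale := fun _ => U
  let π : ∀ i, Xs i ⟶ dblObj g := fun i => cond i (inlHom g) (inrHom g)
  have hcov : Sieve.generate (Presieve.ofArrows Xs π) ∈ X.smallEtaleTopology (dblObj g) := by
    rw [EtSite.mem_et_iff]
    intro x
    rcases dbl_cases g x with ⟨y, hy⟩ | ⟨y, hy⟩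
    · exact ⟨U, π true, y, ⟨U, 𝟙 U, π true, Presieve.ofArrows.mk true, Category.id_comp _⟩, hy⟩
    · exact ⟨U, π false, y, ⟨U, 𝟙 U, π false, Presieve.ofArrows.mk false, Category.id_comp _⟩, hy⟩
  have hsh := (Presieve.isSheafFor_iff_generate _).2
    (((isSheaf_iff_isSheaf_of_type _ _).1
      ((Presheaf.isSheaf_iff_isSheaf_forget _ Q.obj (forget _)).1 Q.property)) _ hcov)
  rw [Presieve.isSheafFor_arrows_iff] at hsh
  have := isOpenImmersion_inl g
  have := isOpenImmersion_inr g
  have key : ∀ (Z : X.Etale) (c d : Z ⟶ U), c ≫ inlHom g = d ≫ inrHom g →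
      Q.obj.map c.op a = Q.obj.map d.op b := by
    intro Z c d hcd
    have hl : c.left ≫ pushout.inl g.left g.left = d.left ≫ pushout.inr g.left g.left :=
      congrArg (fun t => t.left) hcd
    have hr : Set.range c.left ⊆ Set.range g.left := by
      rintro _ ⟨z, rfl⟩
      exact mem_range_of_eq g (b := d.left z)
        ((Scheme.Hom.comp_apply _ _ _).symm.trans
          ((congrArg (fun m : Z.left ⟶ dbl g => m z) hl).trans (Scheme.Hom.comp_apply _ _ _)))
    let e : Z.left ⟶ V.left := IsOpenImmersion.lift g.left c.left hr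
    have he : e ≫ g.left = c.left := IsOpenImmersion.lift_fac _ _ _
    let e' : Z ⟶ V := MorphismProperty.Over.homMk e (by
      rw [← MorphismProperty.Over.w g, ← Category.assoc]
      exact (congrArg (· ≫ U.hom) he).trans (MorphismProperty.Over.w c))
    have hd : e ≫ g.left = d.left := (cancel_mono (pushout.inr g.left g.left)).1 (by
      rw [← hl, Category.assoc, ← pushout.condition, reassoc_of% he])
    have hc' : c = e' ≫ g := MorphismProperty.Over.Hom.ext he.symm
    have hd' : d = e' ≫ g := MorphismProperty.Over.Hom.ext hd.symm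
    rw [hc', hd', op_comp, Functor.map_comp_apply, Functor.map_comp_apply, h]
  have hmi : Mono (inlHom g) := (MorphismProperty.Over.forget _ _ _).mono_of_mono_map
    ((Over.forget X).mono_of_mono_map (inferInstanceAs (Mono (pushout.inl g.left g.left))))
  have hmr : Mono (inrHom g) := (MorphismProperty.Over.forget _ _ _).mono_of_mono_map
    ((Over.forget X).mono_of_mono_map (inferInstanceAs (Mono (pushout.inr g.left g.left))))
  obtain ⟨q, hq, -⟩ := hsh (fun i => cond i a b) (by
    rintro (_ | _) (_ | _) Z c d hcd
    · rw [show c = d from (cancel_mono (inrHom g)).1 hcd]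
    · exact (key Z d c hcd.symm).symm
    · exact key Z c d hcd
    · rw [show c = d from (cancel_mono (inlHom g)).1 hcd])
  exact ⟨q, hq true, hq false⟩

end Glue


/-- Let X be a scheme and F an abelian sheaf on the small étale site of X such that H^q(W, F|_W) = 0 for
every étale X-scheme W and every q > 0 (F|_W the pullback of F along the structure morphism of W).
Then for every morphism g : V ⟶ U of étale X-schemes which is an open immersion, the restriction map
F(U) → F(V) is surjective. -/
theorem result {X : Scheme.{u}}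
    (F : EtCoh.Ab X)
    (hF : ∀ (W : X.Etale) (q : ℕ), 0 < q → Subsingleton (EtCoh.H W.left ((EtCoh.pull W.hom).obj F) q))
    {U V : X.Etale} (g : V ⟶ U) [IsOpenImmersion g.left] :
    Function.Surjective (F.obj.map g.op).hom := by
  intro s
  have : Mono g := (MorphismProperty.Over.forget _ _ _).mono_of_mono_map
    ((Over.forget X).mono_of_mono_map (inferInstanceAs (Mono g.left)))
  let S := ShortComplex.mk (Injective.ι F) (cokernel.π (Injective.ι F)) (cokernel.condition _)
  have hS : S.ShortExact := { exact := ShortComplex.exact_cokernel (Injective.ι F) }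
  obtain ⟨t, ht⟩ := surjective_map_of_injective (Injective.under F) g (S.f.hom.app (op V) s)
  have hinj : ∀ T, Function.Injective (S.f.hom.app T) :=
    (mono_iff_app_injective S.f).1 hS.mono_f
  have hgf : ∀ (T) (z : F.obj.obj T), S.g.hom.app T (S.f.hom.app T z) = 0 := fun T z => by
    have h := congrArg (fun m : S.X₁ ⟶ S.X₃ => m.hom.app T z) S.zero
    exact h
  have hker : ∀ (T : X.Etaleᵒᵖ) (y : (Injective.under F).obj.obj T), S.g.hom.app T y = 0 →
      ∃ z, S.f.hom.app T z = y := by
    intro T y hy
    have := hS.mono_f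
    have : PreservesFiniteLimits (sheafToPresheaf X.smallEtaleTopology AddCommGrpCat.{u + 1} ⋙
      (evaluation _ _).obj T) := comp_preservesFiniteLimits _ _
    have hF := hS.exact.map_of_mono_of_preservesKernel
      (sheafToPresheaf X.smallEtaleTopology AddCommGrpCat.{u + 1} ⋙ (evaluation _ _).obj T)
      inferInstance inferInstance
    exact (ShortComplex.ab_exact_iff _).1 hF y hy
  obtain ⟨q, hq₁, hq₂⟩ := exists_glue g S.X₃ (S.g.hom.app (op U) t) 0 (by
    refine (NatTrans.naturality_apply S.g.hom g.op t).symm.trans ?_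
    refine (congrArg (S.g.hom.app (op V)) ht).trans ?_
    exact (hgf _ s).trans (map_zero _).symm)
  let W := dblObj g
  have : AlgebraicGeometry.Etale W.hom := W.prop
  let e : W ⟶ (EtShriek.compEtale W.hom).obj (EtCoh.top W.left) :=
    MorphismProperty.Over.homMk (𝟙 _) (by
      change 𝟙 W.left ≫ 𝟙 W.left ≫ W.hom = W.hom
      rw [Category.id_comp, Category.id_comp])
  let e' : (EtShriek.compEtale W.hom).obj (EtCoh.top W.left) ⟶ W :=
    MorphismProperty.Over.homMk (𝟙 _) rfl
  have hee : e ≫ e' = 𝟙 W := MorphismProperty.Over.Hom.ext (Category.id_comp _)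
  obtain ⟨w', hw'⟩ := surjective_sections_of_H_one W.hom hS (hF W 1 one_pos) (S.X₃.obj.map e'.op q)
  let w : (Injective.under F).obj.obj (op W) := (Injective.under F).obj.map e.op w'
  have hw : S.g.hom.app (op W) w = q := by
    refine (NatTrans.naturality_apply S.g.hom e.op w').trans ?_
    refine (congrArg (S.X₃.obj.map e.op) hw').trans ?_
    rw [← Functor.map_comp_apply, ← op_comp, hee, op_id, CategoryTheory.Functor.map_id]
    rfl
  let w₁ := (Injective.under F).obj.map (inlHom g).op w
  let w₂ := (Injective.under F).obj.map (inrHom g).op w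
  have h₁ : S.g.hom.app (op U) w₁ = S.g.hom.app (op U) t := by
    refine (NatTrans.naturality_apply S.g.hom (inlHom g).op w).trans ?_
    rw [hw]; exact hq₁
  have h₂ : S.g.hom.app (op U) w₂ = 0 := by
    refine (NatTrans.naturality_apply S.g.hom (inrHom g).op w).trans ?_
    rw [hw]; exact hq₂
  have hsame : (Injective.under F).obj.map g.op w₁ = (Injective.under F).obj.map g.op w₂ := by
    exact ((Functor.map_comp_apply (Injective.under F).obj (inlHom g).op g.op w).symm.trans
      (congrArg (fun m => (Injective.under F).obj.map (Quiver.Hom.op m) w) (comp_inlHom g))).trans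
      (Functor.map_comp_apply (Injective.under F).obj (inrHom g).op g.op w)
  obtain ⟨z, hz⟩ := hker (op U) (w₂ - w₁ + t) (by rw [map_add, map_sub, h₁, h₂]; abel)
  refine ⟨z, hinj (op V) ?_⟩
  refine (NatTrans.naturality_apply S.f.hom g.op z).trans ?_
  rw [hz, map_add, map_sub, hsame, sub_self, zero_add]
  exact ht

end Groth.Agent.S14452
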