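import Groth.Statements.S14453
import Groth.Agent.Lib.EtSite.Sheaf

set_option autoImplicit false
universe w u
open CategoryTheory AlgebraicGeometry
open EtCore

namespace Groth.Agent.S14453

/-- Let X be a scheme and F a presheaf of sets on the small étale site of X. Then F is an étale sheaf if
and only if F is a sheaf for the Zariski topology on the same category (coverings are jointly
surjective families of open immersions between étale X-schemes) and, for every morphism f : V ⟶ U of
étale X-schemes with U and V affine and f surjective, F satisfies the sheaf condition for the single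
arrow f. -/
theorem result (X : Scheme.{u})
    (F : X.Etaleᵒᵖ ⥤ Type w) :
    Presieve.IsSheaf X.smallEtaleTopology F ↔
      Presieve.IsSheaf (X.smallGrothendieckTopology (P := @IsOpenImmersion)) F ∧
        ∀ (U V : X.Etale) [IsAffine U.left] [IsAffine V.left] (f : V ⟶ U) [Surjective f.left],
          Presieve.IsSheafFor F (Presieve.singleton f) := by
  refine ⟨fun hF => ⟨Presieve.isSheaf_of_le F EtSite.zar_le_et hF, ?_⟩,
    fun ⟨hzar, hff⟩ => EtSite.isSheaf F hzar hff⟩
  intro U V _ _ f _
  rw [Presieve.isSheafFor_iff_generate]
  refine hF _ ((EtSite.mem_et_iff U _).mpr fun x => ?_)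
  obtain ⟨v, hv⟩ := f.left.surjective x
  exact ⟨V, f, v, ⟨_, 𝟙 _, f, ⟨⟩, Category.id_comp _⟩, hv⟩

end Groth.Agent.S14453
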