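import Groth.Statements.S14454
import Groth.Agent.Lib.EtLocCoh19.Excision
-- import your own Groth.Agent.* helpers here

set_option autoImplicit false
universe u
open CategoryTheory CategoryTheory.Limits AlgebraicGeometry
open EtDual

namespace Groth.Agent.S14454

set_option linter.style.haveILetI false
set_option backward.isDefEq.respectTransparency.types false


/-- Let X be a scheme, j : U ⟶ X an open immersion with closed complement Z, f : X' ⟶ X an étale
morphism and j' : U' ⟶ X' an open immersion with image f⁻¹(U), such that f maps Z' = X' − U'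
bijectively onto Z with trivial residue field extensions at the points of Z' (f restricts to an
isomorphism from (f⁻¹Z)_red onto Z_red). Then for every abelian sheaf F on the small étale site of X
and every r, the groups H^r_Z(X, F) and H^r_{Z'}(X', f⁻¹F) are isomorphic; existence of an
isomorphism only, the canonical one being restriction along f. No Noetherian hypothesis on X is
made. -/
theorem result {X X' U U' : Scheme.{u}}
    (f : X' ⟶ X) [AlgebraicGeometry.Etale f] (j : U ⟶ X) [IsOpenImmersion j]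
    (j' : U' ⟶ X') [IsOpenImmersion j']
    (hU' : Set.range j'.base = f.base ⁻¹' Set.range j.base)
    (hZ : Set.BijOn f.base (Set.range j'.base)ᶜ (Set.range j.base)ᶜ)
    (hκ : ∀ x' : ↥X', x' ∉ Set.range j'.base → Function.Surjective (f.residueFieldMap x'))
    (F : EtCoh.Ab X) (r : ℕ) :
    Nonempty ((EtDual.HY j r).obj F ≅ (EtDual.HY j' r).obj ((EtCoh.pull f).obj F)) := by
  classical
  let trace : ∀ {U₀ Y : Scheme.{u}} (i : U₀ ⟶ Y) [IsOpenImmersion i],
      Scheme.Etale.mk i ≅ (EtShriek.compEtale i).obj ((EtCoh.bc i).obj (EtCoh.top Y)) := fun {U₀ Y} i _ =>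
    MorphismProperty.Over.isoMk (asIso (pullback.snd (𝟙 Y) i)).symm
      (show inv (pullback.snd (𝟙 Y) i) ≫ pullback.snd (𝟙 Y) i ≫ i = i by rw [IsIso.inv_hom_id_assoc])
  have htr : ∀ {U₀ Y : Scheme.{u}} (i : U₀ ⟶ Y) [IsOpenImmersion i],
      (trace i).hom.left ≫ pullback.fst (𝟙 Y) i = i := fun {U₀ Y} i _ => by
    show inv (pullback.snd (𝟙 Y) i) ≫ pullback.fst (𝟙 Y) i = i
    rw [IsIso.inv_comp_eq]
    exact (Category.comp_id _).symm.trans (pullback.condition (f := 𝟙 Y) (g := i))
  let eY : EtDual.gammaSupp j ≅ Groth.Agent.EtLocCoh19.secK (Groth.Agent.EtPic3.toTop (Scheme.Etale.mk j)) :=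
    Groth.Agent.EtLocCoh19.gammaIso j ≪≫ Groth.Agent.EtLocCoh19.secKIso _ _ (trace j) (Iso.refl _) (by
      apply MorphismProperty.Over.Hom.ext
      show (trace j).hom.left ≫ ((Groth.Agent.EtStalk.compBcAdj j).counit.app (EtCoh.top X)).left = j ≫ 𝟙 X
      rw [Groth.Agent.EtBCQ24.counit_fst, Category.comp_id]
      exact htr j)
  let a' : Scheme.Etale.mk (j' ≫ f) ⟶ Scheme.Etale.mk f := MorphismProperty.Over.homMk j' rfl
  let sU : Scheme.Etale.mk (j' ≫ f) ≅ (EtShriek.compEtale f).obj
      ((EtShriek.compEtale j').obj ((EtCoh.bc j').obj (EtCoh.top X'))) :=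
    MorphismProperty.Over.isoMk (asIso (pullback.snd (𝟙 X') j')).symm
      (show inv (pullback.snd (𝟙 X') j') ≫ (pullback.snd (𝟙 X') j' ≫ j') ≫ f = j' ≫ f by
        rw [Category.assoc, IsIso.inv_hom_id_assoc])
  let sX : Scheme.Etale.mk f ≅ (EtShriek.compEtale f).obj (EtCoh.top X') :=
    MorphismProperty.Over.isoMk (Iso.refl X') (show 𝟙 X' ≫ 𝟙 X' ≫ f = f by simp)
  let eV : EtShriek.restrAlong f ⋙ EtDual.gammaSupp j' ≅ Groth.Agent.EtLocCoh19.secK a' :=
    Functor.isoWhiskerLeft (EtShriek.restrAlong f) (Groth.Agent.EtLocCoh19.gammaIso j') ≪≫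
      NatIso.ofComponents (F := EtShriek.restrAlong f ⋙ Groth.Agent.EtLocCoh19.secK (Groth.Agent.EtLocCoh19.openMap j'))
        (G := Groth.Agent.EtLocCoh19.secK ((EtShriek.compEtale f).map (Groth.Agent.EtLocCoh19.openMap j')))
        (fun F => Iso.refl _) (fun f => (Category.comp_id _).trans (Category.id_comp _).symm) ≪≫
      Groth.Agent.EtLocCoh19.secKIso _ _ sU sX (by
        apply MorphismProperty.Over.Hom.ext
        show inv (pullback.snd (𝟙 X') j') ≫ ((Groth.Agent.EtStalk.compBcAdj j').counit.app (EtCoh.top X')).left = j' ≫ 𝟙 X'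
        rw [Groth.Agent.EtBCQ24.counit_fst, Category.comp_id, IsIso.inv_comp_eq]
        exact (Category.comp_id _).symm.trans (pullback.condition (f := 𝟙 X') (g := j')))
  obtain ⟨m⟩ := Groth.Agent.EtLocCoh19.nonempty_secK_excision f j j' hU' hZ hκ a' rfl
  obtain ⟨p⟩ := Groth.Agent.BigSite16.nonempty_rightDerived_precomp (EtShriek.restrAlong f) (EtDual.gammaSupp j')
    (fun I _ => Groth.Agent.EtStalk.injective_restrAlong f I) F r
  exact ⟨(RDer.rightDerivedIso eY r).app F ≪≫ (RDer.rightDerivedIso m r).app F ≪≫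
    ((RDer.rightDerivedIso eV r).app F).symm ≪≫ p.symm ≪≫
    (EtDual.HY j' r).mapIso ((Groth.Agent.EtStalk.restrPullIso f).app F)⟩

end Groth.Agent.S14454
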