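import Groth.Statements.S14456
import Mathlib.RingTheory.Etale.Basic
import Mathlib.RingTheory.AdicCompletion.Basic
import Mathlib.RingTheory.Ideal.AssociatedPrime.Basic
import Mathlib.RingTheory.Ideal.Operations
import Mathlib.RingTheory.Support
import Mathlib.RingTheory.Spectrum.Prime.Basic
import Mathlib.RingTheory.Filtration
import Mathlib.RingTheory.Flat.Basic
import Mathlib.RingTheory.LocalRing.Module
import Mathlib.RingTheory.Localization.FractionRing
import Mathlib.LinearAlgebra.FiniteDimensional.Basic
import Groth.Agent.Lib.H2Alg.ArtinFlat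

set_option autoImplicit false
universe u
open CAlg

namespace Groth.Agent.S14456
open TensorProduct

/-- Take a local homomorphism A → B between Noetherian local rings, M a finitely generated B-module and
f an element of the maximal ideal of B. If M/f^(n+1)M is flat over A for every n ≥ 0, then M is flat
over A. -/
theorem result {A B : Type u} [CommRing A] [CommRing B]
    [IsNoetherianRing A] [IsNoetherianRing B] [IsLocalRing A] [IsLocalRing B] [Algebra A B]
    [IsLocalHom (algebraMap A B)] (M : Type u) [AddCommGroup M] [Module B M] [Module A M]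
    [IsScalarTower A B M] [Module.Finite B M] (f : B) (hf : f ∈ IsLocalRing.maximalIdeal B)
    (hflat : ∀ n : ℕ, Module.Flat A (M ⧸ (Ideal.span {f ^ (n + 1)} • (⊤ : Submodule B M)))) :
    Module.Flat A M := by
  classical
  rw [Module.Flat.iff_rTensor_injective']
  intro I
  rw [← LinearMap.lTensor_inj_iff_rTensor_inj]
  obtain ⟨G, hG⟩ := (IsNoetherian.noetherian I : I.FG)
  have hfin : Module.Finite B (M ⊗[A] I) := by
    obtain ⟨H, hH⟩ := (Module.Finite.fg_top : (⊤ : Submodule B M).FG)
    refine ⟨⟨((H ×ˢ G.attach).image fun p => p.1 ⊗ₜ[A] (⟨p.2.1, hG ▸ Submodule.subset_span p.2.2⟩ : I)), ?_⟩⟩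
    rw [eq_top_iff]
    intro z hz
    clear hz
    induction z using TensorProduct.induction_on with
    | zero => exact zero_mem _
    | add x y hx hy => exact add_mem hx hy
    | tmul m i =>
      have hm : m ∈ Submodule.span B (H : Set M) := hH ▸ Submodule.mem_top
      induction hm using Submodule.span_induction with
      | zero => rw [zero_tmul]; exact zero_mem _
      | add x y _ _ hx hy => rw [add_tmul]; exact add_mem hx hy
      | smul c x _ hx => rw [← smul_tmul']; exact Submodule.smul_mem _ _ hx
      | mem m hm =>
        obtain ⟨i, hi⟩ := i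
        have hi' : i ∈ Submodule.span A (G : Set A) := hG.symm ▸ hi
        induction hi' using Submodule.span_induction with
        | mem g hg => exact Submodule.subset_span (Finset.mem_image.2 ⟨(m, ⟨g, hg⟩), Finset.mem_product.2 ⟨hm, Finset.mem_attach _ _⟩, rfl⟩)
        | zero => exact (show m ⊗ₜ[A] (0 : I) = 0 from tmul_zero _ _) ▸ zero_mem _
        | add x y hx' hy' hx hy =>
          have := add_mem (hx (hG ▸ hx')) (hy (hG ▸ hy'))
          rw [← tmul_add] at this; exact this
        | smul c x hx' hx =>
          have := Submodule.smul_of_tower_mem _ c (hx (hG ▸ hx'))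
          rw [← tmul_smul] at this; exact this
  rw [injective_iff_map_eq_zero]
  intro z hz
  have hJ : Ideal.span {f} ≠ ⊤ := fun h => (IsLocalRing.maximalIdeal.isMaximal B).ne_top (eq_top_iff.2 (h ▸ (Ideal.span_singleton_le_iff_mem _).2 hf))
  have hz0 : z ∈ (⨅ n : ℕ, Ideal.span {f} ^ n • ⊤ : Submodule B (M ⊗[A] I)) := by
    rw [Submodule.mem_iInf]
    intro n
    rcases n with _ | n
    · simp
    set Q := Ideal.span {f ^ (n + 1)} • (⊤ : Submodule B M)
    have := hflat n
    let π : M →ₗ[A] M ⧸ Q := Q.mkQ.restrictScalars A
    have h1 : π.rTensor I z = 0 := by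
      apply (injective_iff_map_eq_zero _).1 (Module.Flat.lTensor_preserves_injective_linearMap (M := M ⧸ Q) (I.subtype) I.injective_subtype)
      rw [← LinearMap.comp_apply, LinearMap.lTensor_comp_rTensor, ← LinearMap.rTensor_comp_lTensor, LinearMap.comp_apply, hz, map_zero]
    let m : M →ₗ[A] M := (f ^ (n + 1) • LinearMap.id (R := B) (M := M)).restrictScalars A
    have hex : Function.Exact m π := by
      intro x
      simp only [π, m, LinearMap.restrictScalars_apply, Submodule.mkQ_apply, Submodule.Quotient.mk_eq_zero, Q, Submodule.ideal_span_singleton_smul]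
      exact ⟨fun h => by obtain ⟨y, -, rfl⟩ := h; exact ⟨y, rfl⟩, fun ⟨y, hy⟩ => ⟨y, Submodule.mem_top, hy⟩⟩
    obtain ⟨w, rfl⟩ := ((rTensor_exact I hex Q.mkQ_surjective) z).1 h1
    have : ∀ w : M ⊗[A] I, m.rTensor I w = f ^ (n + 1) • w := fun w => by
      induction w using TensorProduct.induction_on with
      | zero => simp
      | tmul a b => rfl
      | add a b ha hb => rw [map_add, ha, hb, smul_add]
    rw [this]
    exact Submodule.smul_mem_smul (Ideal.pow_mem_pow (Ideal.mem_span_singleton_self f) _) Submodule.mem_top
  rwa [Ideal.iInf_pow_smul_eq_bot_of_isLocalRing _ hJ, Submodule.mem_bot] at hz0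

end Groth.Agent.S14456
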