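import Groth.Statements.S14457
import Mathlib
import Groth.Agent.Lib.CI2.ValSubDedekind

set_option autoImplicit false
universe u
open CAlg

namespace Groth.Agent.S14457
open scoped TensorProduct
open Polynomial

open DualNumber in
theorem isUnit_derivative {A : Type u} [CommRing A] (f : A[X]) [Algebra.FormallyUnramified A (AdjoinRoot f)] :
    IsUnit (aeval (AdjoinRoot.root f) (derivative f)) := by
  let S := AdjoinRoot f
  let d : S := aeval (AdjoinRoot.root f) (derivative f)
  rw [← Ideal.span_singleton_eq_top]
  let T := S ⧸ Ideal.span {d}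
  rw [← Ideal.Quotient.subsingleton_iff]
  show Subsingleton T
  let r : T := Ideal.Quotient.mk _ (AdjoinRoot.root f)
  let D := TrivSqZeroExt T T
  have hr : aeval r f = 0 := by
    rw [show r = Ideal.Quotient.mkₐ A (Ideal.span {d}) (AdjoinRoot.root f) from rfl, aeval_algHom_apply]
    rw [AdjoinRoot.aeval_eq, AdjoinRoot.mk_self, map_zero]
  have hr' : aeval r (derivative f) = 0 := by
    rw [show r = Ideal.Quotient.mkₐ A (Ideal.span {d}) (AdjoinRoot.root f) from rfl, aeval_algHom_apply,
      Ideal.Quotient.mkₐ_eq_mk, Ideal.Quotient.eq_zero_iff_mem]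
    exact Ideal.mem_span_singleton_self _
  have h1 : aeval (TrivSqZeroExt.inlAlgHom A T T r) f = 0 := by rw [aeval_algHom_apply, hr, map_zero]
  have h2 : aeval (TrivSqZeroExt.inlAlgHom A T T r + TrivSqZeroExt.inr (1 : T)) f = 0 := by
    rw [aeval_add_of_sq_eq_zero _ _ _ (by rw [pow_two, TrivSqZeroExt.inr_mul_inr]), h1, aeval_algHom_apply, hr',
      map_zero, zero_mul, add_zero]
  have h3 := Algebra.FormallyUnramified.lift_unique (R := A) (A := AdjoinRoot f) (B := D)
    (RingHom.ker (TrivSqZeroExt.fstHom A T T).toRingHom)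
    ⟨2, le_bot_iff.1 (by
      rw [pow_two, Ideal.mul_le]
      rintro a ha b hb
      rw [RingHom.mem_ker] at ha hb
      rw [Ideal.mem_bot]
      ext
      · rw [TrivSqZeroExt.fst_mul, show a.fst = 0 from ha, zero_mul]; rfl
      · rw [TrivSqZeroExt.snd_mul, show a.fst = 0 from ha, show b.fst = 0 from hb]; simp)⟩
    (AdjoinRoot.liftAlgHom f (Algebra.ofId A D) _ h1) (AdjoinRoot.liftAlgHom f (Algebra.ofId A D) _ h2)
    (AdjoinRoot.algHom_ext (Ideal.Quotient.eq.2 (by
      rw [RingHom.mem_ker, map_sub]; erw [AdjoinRoot.liftAlgHom_root, AdjoinRoot.liftAlgHom_root]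
      show r - (r + 0) = 0
      rw [add_zero, sub_self]
      all_goals first | exact h1 | exact h2)))
  have h4 := congrArg TrivSqZeroExt.snd (AlgHom.congr_fun h3 (AdjoinRoot.root f))
  rw [subsingleton_iff_zero_eq_one.symm]
  simpa using h4

open Polynomial in
/-- Let A be a commutative ring, a an element of A and n ≥ 1 an integer. The A-algebra A[T]/(T^n − a) is
etale exactly when either n = 1 or the product n·a is a unit of A. (The exponent n is a positive
integer here; for n = 0 the quotient is (A/(1 − a))[T] and the equivalence fails.) -/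
theorem result (A : Type u) [CommRing A] (a : A) (n : ℕ) (hn : 1 ≤ n) :
    Algebra.Etale A (AdjoinRoot ((X : A[X]) ^ n - C a)) ↔ n = 1 ∨ IsUnit ((n : A) * a) := by
  rcases subsingleton_or_nontrivial A with hA | hA
  · exact ⟨fun _ => Or.inr (isUnit_of_subsingleton _), fun _ => by
      haveI : Subsingleton (AdjoinRoot ((X : A[X]) ^ n - C a)) := Module.subsingleton A _
      exact inferInstance⟩
  set f : A[X] := X ^ n - C a with hf
  have hm : f.Monic := monic_X_pow_sub_C a (by omega)
  constructor
  · intro h
    by_cases h1 : n = 1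
    · exact Or.inl h1
    right
    have hu := isUnit_derivative f
    rw [hf, derivative_sub, derivative_C, sub_zero, derivative_X_pow, map_mul, aeval_C, map_pow, aeval_X, map_natCast,
      IsUnit.mul_iff, isUnit_pow_iff (by omega)] at hu
    have hroot : AdjoinRoot.root f ^ n = algebraMap A (AdjoinRoot f) a := by
      have := AdjoinRoot.eval₂_root f
      rw [hf, eval₂_sub, eval₂_X_pow, eval₂_C, sub_eq_zero] at this
      exact this
    have hu2 : IsUnit (algebraMap A (AdjoinRoot f) ((n : A) * a)) := by
      rw [map_mul, ← hroot, map_natCast]; exact hu.1.mul (hu.2.pow n)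
    haveI := hm.finite_adjoinRoot
    haveI := hm.free_adjoinRoot
    haveI : Nontrivial (AdjoinRoot f) := Ideal.Quotient.nontrivial_iff.2 (fun h => by
      rw [Ideal.span_singleton_eq_top, hm.isUnit_iff] at h
      have := congrArg natDegree h
      rw [hf, natDegree_X_pow_sub_C, natDegree_one] at this
      omega)
    haveI : Module.FaithfullyFlat A (AdjoinRoot f) := inferInstance
    exact IsUnit.of_map (algebraMap A (AdjoinRoot f)) _ hu2
  · intro h
    obtain ⟨p₁, p₂, hp⟩ : ∃ p₁ p₂, derivative f * p₁ + f * p₂ = 1 := by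
      rcases h with rfl | h
      · exact ⟨1, 0, by simp [hf]⟩
      · obtain ⟨u, hu⟩ := h.exists_left_inv
        refine ⟨X * C u, -(C ((n : A) * u)), ?_⟩
        have e : (X : A[X]) ^ (n - 1) * X = X ^ n := by rw [← pow_succ, Nat.sub_add_cancel hn]
        rw [hf, derivative_sub, derivative_C, sub_zero, derivative_X_pow, map_mul]
        have e2 : C (n : A) * (C u * C a) = (1 : A[X]) := by
          rw [← map_mul, ← map_mul, ← map_one C, ← hu]; congr 1; ring
        linear_combination (C (n : A) * C u) * e + e2
    let P : StandardEtalePair A := ⟨f, hm, 1, p₁, p₂, 0, by rw [pow_zero]; exact hp⟩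
    haveI : IsLocalization.Away (AdjoinRoot.mk f 1) (AdjoinRoot f) :=
      IsLocalization.away_of_isUnit_of_bijective _ (by rw [map_one]; exact isUnit_one) Function.bijective_id
    exact Algebra.Etale.of_equiv (P.equivAwayAdjoinRoot.trans
      ((IsLocalization.algEquiv (Submonoid.powers (AdjoinRoot.mk f 1)) (Localization.Away (AdjoinRoot.mk f 1))
        (AdjoinRoot f)).restrictScalars A))

end Groth.Agent.S14457
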