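import Groth.Statements.S14458
import Mathlib.RingTheory.Ideal.AssociatedPrime.Finiteness
import Mathlib.RingTheory.Jacobson.Ring
import Mathlib.RingTheory.Artinian.Module
import Mathlib.RingTheory.Artinian.Ring
import Mathlib.RingTheory.Regular.IsSMulRegular
import Mathlib.RingTheory.AdicCompletion.Basic
import Mathlib.RingTheory.IntegralDomain
import Mathlib.RingTheory.FinitePresentation
import Mathlib.RingTheory.Flat.FaithfullyFlat.Basic
import Mathlib.RingTheory.Flat.FaithfullyFlat.Algebra
import Mathlib.RingTheory.IntegralClosure.IntegrallyClosed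
import Mathlib.LinearAlgebra.Matrix.MvPolynomial
import Mathlib.RingTheory.Polynomial.Basic
import Mathlib.RingTheory.Localization.FractionRing
import Mathlib.RingTheory.IntegralClosure.IsIntegral.Basic
import Mathlib.LinearAlgebra.TensorProduct.Tower
import Mathlib.RingTheory.Ideal.Quotient.Operations
import Mathlib.RingTheory.Ideal.Colon
import Mathlib.RingTheory.Support
import Mathlib.RingTheory.Noetherian.OfPrime
import Mathlib.RingTheory.HopkinsLevitzki
import Mathlib.RingTheory.Ideal.AssociatedPrime.Localization
import Mathlib.RingTheory.Flat.FaithfullyFlat.Descent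
import Mathlib.LinearAlgebra.TensorProduct.Quotient
import Mathlib.LinearAlgebra.TensorProduct.RightExactness
import Mathlib.RingTheory.PrincipalIdealDomain
import Mathlib.LinearAlgebra.Matrix.Charpoly.Basic
import Mathlib.RingTheory.Flat.Stability
import Mathlib.RingTheory.Nilpotent.Lemmas
import Mathlib.Algebra.Module.Projective
import Mathlib.RingTheory.LocalRing.ResidueField.Basic
import Mathlib.GroupTheory.OrderOfElement
import Mathlib.Algebra.EuclideanDomain.Int
import Mathlib.RingTheory.Spectrum.Maximal.Basic

set_option autoImplicit false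
universe u
open CAlg

namespace Groth.Agent.S14458
open TensorProduct

open TensorProduct in
/-- Let R be an Artinian local ring with residue field k and M an R-module, not necessarily finitely
generated. If M ⊗_R k = 0 then M = 0. -/
theorem result {R : Type u} [CommRing R]
    [IsArtinianRing R] [IsLocalRing R] (M : Type u) [AddCommGroup M] [Module R M]
    (h : Subsingleton ((IsLocalRing.ResidueField R) ⊗[R] M)) : Subsingleton M := by
  set m := IsLocalRing.maximalIdeal R
  have : Subsingleton ((R ⧸ m) ⊗[R] M) := h
  have h' : Subsingleton (M ⧸ m • (⊤ : Submodule R M)) :=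
    (TensorProduct.quotTensorEquivQuotSMul M m).symm.toEquiv.subsingleton
  have htop : (⊤ : Submodule R M) = m • ⊤ :=
    (Submodule.Quotient.subsingleton_iff.1 h').symm
  have hn : ∀ n : ℕ, (⊤ : Submodule R M) = m ^ n • ⊤ := fun n => by
    induction n with
    | zero => simp
    | succ n ih => rw [pow_succ, Submodule.mul_smul, ← htop, ← ih]
  obtain ⟨n, hn'⟩ : IsNilpotent m := by
    rw [show m = (⊥ : Ideal R).jacobson from (IsLocalRing.jacobson_eq_maximalIdeal ⊥ bot_ne_top).symm]
    exact IsArtinianRing.isNilpotent_jacobson_bot
  have := hn n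
  rw [hn'] at this
  exact (Submodule.subsingleton_iff R).1 (subsingleton_of_top_le_bot (by rw [this]; simp))

end Groth.Agent.S14458
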