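import Groth.Statements.S1446
import Groth.Agent.Lib.Dev4.RelAssNear

set_option autoImplicit false
universe u
open FlatMor
set_option maxSynthPendingDepth 3
open TensorProduct

set_option backward.isDefEq.respectTransparency.types false

namespace Groth.Agent.S1446

open AlgebraicGeometry CategoryTheory Limits in
/-- Let f : X → S be locally of finite type, F a quasi-coherent O_X-module of finite type, and ξ a point
of the relative assassin of F with closure Z. Then there is a nonempty subset V of Z, open in Z,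
such that for every point x of V, if x is a generic point of an irreducible component of the fibre
of V through x then x lies in the relative assassin of F. -/
theorem result {X S : Scheme.{u}} (f : X ⟶ S) [LocallyOfFiniteType f]
    (F : X.Modules) (hF : Coh.IsCoh F) (ξ : X) (hξ : ξ ∈ MoreMor.relAss f F) :
    ∃ V : Set ↑X, V ⊆ closure {ξ} ∧ IsOpen (Subtype.val ⁻¹' V : Set ↑(closure ({ξ} : Set ↑X))) ∧ V.Nonempty ∧
      ∀ (x : X) (hx : x ∈ V), (∃ C ∈ irreducibleComponents ↑(V ∩ f ⁻¹' {f x}), IsGenericPoint (⟨x, hx, rfl⟩ : ↑(V ∩ f ⁻¹' {f x})) C) →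
        x ∈ MoreMor.relAss f F := by
  obtain ⟨V₀, hV₀, hV₀x, -⟩ := exists_isAffineOpen_mem_and_subset (X := S) (x := f ξ) (U := ⊤) trivial
  obtain ⟨U₀, hU₀, hξU₀, hUV⟩ := exists_isAffineOpen_mem_and_subset (X := X) (x := ξ) (U := f ⁻¹ᵁ V₀) hV₀x
  obtain ⟨O, hO, hrel, -⟩ := Groth.Agent.Dev4.exists_open_relAss_near f F hF hξ hV₀ hU₀ hξU₀ hUV
  let P : X.Opens := U₀ ⊓ f ⁻¹ᵁ O
  refine ⟨closure {ξ} ∩ (P : Set X), Set.inter_subset_left, ?_, ⟨ξ, subset_closure rfl, hξU₀, hO⟩,
    fun x hx hgen => hrel x hx.2.1 hx.2.2 (specializes_iff_mem_closure.2 hx.1) fun z hξz hzx hfz => ?_⟩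
  · rw [Subtype.preimage_coe_self_inter]
    exact P.2.preimage continuous_subtype_val
  · have hzP : z ∈ P := hzx.mem_open P.2 hx.2
    exact congrArg Subtype.val (Groth.Agent.Dev4.eq_of_specializes_generic hgen
      (z := ⟨z, ⟨hξz.mem_closure, hzP⟩, hfz⟩) (Topology.IsInducing.subtypeVal.specializes_iff.1 hzx))

end Groth.Agent.S1446
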