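import Groth.Statements.S14460
import Groth.Agent.Lib.FEtEq25.Points
import Groth.Agent.S3694
import Mathlib.AlgebraicGeometry.Limits

set_option autoImplicit false
universe u
open CategoryTheory CategoryTheory.Limits AlgebraicGeometry
open Pi1

namespace Groth.Agent.S14460

open CategoryTheory.Limits

/-- Let Y → X be finite étale with Y nonempty and all geometric fibres of the same cardinality n, and
let a finite group G act on Y over X without fixed points (no point of Y with values in a field is
fixed by a non-identity element). Then G has at most n elements, and it has exactly n elements if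
and only if the morphism from the disjoint union of copies of Y indexed by G to Y ×_X Y, given on
the copy indexed by g by the identity and g, is an isomorphism. (For Y empty the bound fails, since
every finite group acts without fixed points on the empty cover, whose fibres have cardinality 0;
this row assumes Y nonempty.) -/
theorem result {X : Scheme.{u}} (Y : FEt.Cat X)
    [Nonempty ↥Y.left] (n : ℕ)
    (hn : ∀ (Ω : Type u) [Field Ω] [IsSepClosed Ω] (ξ : Spec (CommRingCat.of Ω) ⟶ X), Nat.card (FEt.fiberObj ξ Y) = n)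
    (G : Type u) [Group G] [Finite G] (ρ : G →* Aut Y)
    (hfree : ∀ g : G, g ≠ 1 → ∀ (K : Type u) [Field K] (y : Spec (CommRingCat.of K) ⟶ Y.left),
      y ≫ (ρ g).hom.left ≠ y) :
    Nat.card G ≤ n ∧
      (Nat.card G = n ↔ IsIso (Limits.Sigma.desc fun g : G =>
        pullback.lift (𝟙 Y.left) (ρ g).hom.left
          ((Category.id_comp Y.hom).trans (Over.w (ρ g).hom.hom).symm) : (∐ fun _ : G => Y.left) ⟶ pullback Y.hom Y.hom)) := by
  classical
  let τ : G → (Y.left ⟶ Y.left) := fun g => (ρ g).hom.left
  have hτw : ∀ g, τ g ≫ Y.hom = Y.hom := fun g => FEtEq25.w (ρ g).hom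
  have hτmul : ∀ g h, τ (g * h) = τ h ≫ τ g := fun g h => by
    simp only [τ, map_mul]; rfl
  have hτ1 : τ 1 = 𝟙 _ := by simp only [τ, map_one]; rfl
  have hinj : ∀ (K : Type u) [Field K] (y : Spec (CommRingCat.of K) ⟶ Y.left) (g g' : G),
      y ≫ τ g = y ≫ τ g' → g = g' := by
    intro K _ y g g' h
    by_contra hne
    refine hfree (g'⁻¹ * g) (fun h1 => hne (inv_mul_eq_one.1 h1).symm) K y ?_
    show y ≫ τ _ = y
    rw [hτmul, ← Category.assoc, h, Category.assoc, ← hτmul, inv_mul_cancel, hτ1, Category.comp_id]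
  let orb : ∀ {K : Type u} [Field K] (y : Spec (CommRingCat.of K) ⟶ Y.left), G → FEt.fiberObj (y ≫ Y.hom) Y :=
    fun y g => ⟨y ≫ τ g, by rw [Category.assoc, hτw]⟩
  have horb : ∀ {K : Type u} [Field K] (y : Spec (CommRingCat.of K) ⟶ Y.left), Function.Injective (orb y) :=
    fun y g g' h => hinj _ y g g' (congrArg Subtype.val h)
  obtain ⟨y₀⟩ := ‹Nonempty ↥Y.left›
  obtain ⟨K₀, _, _, p₀, -⟩ := FEtEq25.exists_geomPoint y₀
  haveI := FEtEq25.finite_fiberObj (p₀ ≫ Y.hom) Y
  have hle : Nat.card G ≤ n := hn K₀ (p₀ ≫ Y.hom) ▸ Nat.card_le_card_of_injective _ (horb p₀)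
  refine ⟨hle, ?_⟩
  let lf : G → (Y.left ⟶ pullback Y.hom Y.hom) := fun g => pullback.lift (𝟙 Y.left) (τ g)
    ((Category.id_comp Y.hom).trans (hτw g).symm)
  have hlf1 : ∀ g, lf g ≫ pullback.fst Y.hom Y.hom = 𝟙 Y.left := fun g => pullback.lift_fst _ _ _
  have hlf2 : ∀ g, lf g ≫ pullback.snd Y.hom Y.hom = τ g := fun g => pullback.lift_snd _ _ _
  show _ ↔ IsIso (Sigma.desc lf)
  let Φ := Sigma.desc lf
  have hfac : ∀ {K : Type u} [Field K] (x : Spec (CommRingCat.of K) ⟶ ∐ fun _ : G => Y.left),
      ∃ (g : G) (y : Spec (CommRingCat.of K) ⟶ Y.left), y ≫ Sigma.ι (fun _ : G => Y.left) g = x := by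
    intro K _ x
    haveI : Subsingleton ↥(Spec (CommRingCat.of K)) := inferInstanceAs (Subsingleton (PrimeSpectrum K))
    obtain ⟨g, z, hz⟩ := (sigmaOpenCover (fun _ : G => Y.left)).exists_eq (x (IsLocalRing.closedPoint K))
    have hr : Set.range x ⊆ Set.range (Sigma.ι (fun _ : G => Y.left) g) := by
      rintro _ ⟨t, rfl⟩
      rw [Subsingleton.elim t (IsLocalRing.closedPoint K)]
      exact ⟨z, hz⟩
    exact ⟨g, IsOpenImmersion.lift _ x hr, IsOpenImmersion.lift_fac _ x hr⟩
  haveI : ∀ g, Etale (lf g) := fun g => by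
    haveI : Etale (lf g ≫ pullback.fst Y.hom Y.hom) := by
      show Etale (pullback.lift _ _ _ ≫ _); rw [pullback.lift_fst]; infer_instance
    exact MorphismProperty.of_postcomp (W := @Etale) (W' := @Etale) _ _ inferInstance ‹_›
  haveI : Etale Φ := IsZariskiLocalAtSource.sigmaDesc fun g => inferInstance
  haveI : UniversallyInjective Φ := by
    refine (((tfae_universallyInjective Φ).out 0 1 : UniversallyInjective Φ ↔ ∀ (E : Type u) [Field E],
      Function.Injective (fun q : Spec (CommRingCat.of E) ⟶ (∐ fun _ : G => Y.left) => q ≫ Φ))).2 ?_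
    intro E _ x x' h
    obtain ⟨g, y, rfl⟩ := hfac x
    obtain ⟨g', y', rfl⟩ := hfac x'
    simp only [Φ, Category.assoc, Sigma.ι_desc] at h
    have h1 : y = y' := by
      have e := congrArg (· ≫ pullback.fst Y.hom Y.hom) h
      simp only [Category.assoc] at e
      erw [hlf1, Category.comp_id] at e
      try erw [hlf1, Category.comp_id] at e
      try erw [pullback.lift_fst] at e
      exact e
    have h2 : y ≫ τ g = y' ≫ τ g' := by
      have e := congrArg (· ≫ pullback.snd Y.hom Y.hom) h
      simp only [Category.assoc] at e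
      erw [hlf2] at e
      try erw [hlf2] at e
      try erw [pullback.lift_snd] at e
      exact e
    subst h1
    rw [hinj E y g g' h2]
  haveI : IsOpenImmersion Φ := Groth.Agent.S3694.result Φ
  refine ⟨fun hcard => ?_, fun hiso => ?_⟩
  · haveI : Surjective Φ := ⟨fun z => by
      obtain ⟨K, _, _, q, hq⟩ := FEtEq25.exists_geomPoint z
      let y := q ≫ pullback.fst Y.hom Y.hom
      haveI := FEtEq25.finite_fiberObj (y ≫ Y.hom) Y
      have hb : Function.Bijective (orb y) :=
        (Nat.bijective_iff_injective_and_card _).2 ⟨horb y, by rw [hcard, hn]⟩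
      obtain ⟨g, hg⟩ := hb.2 ⟨q ≫ pullback.snd Y.hom Y.hom, by simp [y, pullback.condition]⟩
      refine ⟨(y ≫ Sigma.ι (fun _ : G => Y.left) g) (IsLocalRing.closedPoint K), ?_⟩
      rw [← Scheme.Hom.comp_apply]
      have : (y ≫ Sigma.ι (fun _ : G => Y.left) g) ≫ Φ = q := by
        simp only [Φ, Category.assoc, Sigma.ι_desc]
        apply pullback.hom_ext
        · rw [Category.assoc]; erw [hlf1, Category.comp_id]
        · rw [Category.assoc]; erw [hlf2]; exact congrArg Subtype.val hg
      rw [this, hq]⟩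
    exact (isIso_iff_isOpenImmersion_and_surjective _).2 ⟨inferInstance, inferInstance⟩
  · refine le_antisymm hle ?_
    rw [← hn K₀ (p₀ ≫ Y.hom)]
    refine Nat.card_le_card_of_surjective (orb p₀) fun s => ?_
    obtain ⟨g, y, hy⟩ := hfac (pullback.lift p₀ s.1 s.2.symm ≫ inv Φ)
    have h : (y ≫ Sigma.ι (fun _ : G => Y.left) g) ≫ Φ = pullback.lift p₀ s.1 s.2.symm := by
      rw [hy, Category.assoc, IsIso.inv_hom_id, Category.comp_id]
    simp only [Φ, Category.assoc, Sigma.ι_desc] at h
    have h1 : y = p₀ := by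
      have e := congrArg (· ≫ pullback.fst Y.hom Y.hom) h
      simp only [Category.assoc] at e
      erw [hlf1, Category.comp_id] at e
      try erw [hlf1, Category.comp_id] at e
      try erw [pullback.lift_fst] at e
      exact e
    have h2 : y ≫ τ g = s.1 := by
      have e := congrArg (· ≫ pullback.snd Y.hom Y.hom) h
      simp only [Category.assoc] at e
      erw [hlf2] at e
      try erw [hlf2] at e
      try erw [pullback.lift_snd] at e
      exact e
    exact ⟨g, Subtype.ext (h1 ▸ h2)⟩

end Groth.Agent.S14460
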