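import Groth.Statements.S14461
import Groth.Agent.Lib.FEtEq25.Graph

set_option autoImplicit false
universe u
open CategoryTheory CategoryTheory.Limits AlgebraicGeometry
open Pi1

namespace Groth.Agent.S14461

/-- Let X be a Noetherian scheme and X₀ → X a closed immersion such that, for every finite étale Y → X,
the projection Y ×_X X₀ → Y induces a bijection on connected components. Then restriction of finite
étale covers from X to X₀ is full and faithful. -/
theorem result {X X₀ : Scheme.{u}} [IsNoetherian X]
    (i : X₀ ⟶ X) [IsClosedImmersion i]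
    (h : ∀ Y : FEt.Cat X, Function.Bijective (pullback.fst Y.hom i).continuous.connectedComponentsMap) :
    (FEt.restrict i).Full ∧ (FEt.restrict i).Faithful := by
  have hT : ∀ S : Set X, IsClopen S → S.Nonempty → (S ∩ Set.range i).Nonempty := by
    intro S hS hne
    let W : FEt.Cat X :=
      Groth.Agent.FEtEq25.openCover' (MorphismProperty.Over.mk ⊤ (𝟙 X) (MorphismProperty.id_mem _ X))
        ⟨S, hS.2⟩ hS.1
    obtain ⟨x, hx⟩ := hne
    obtain ⟨c, -⟩ := (h W).2 (_root_.ConnectedComponents.mk (⟨x, hx⟩ : ↥(⟨S, hS.2⟩ : X.Opens)))
    obtain ⟨p, -⟩ := _root_.ConnectedComponents.surjective_coe c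
    refine ⟨W.hom (pullback.fst W.hom i p), ?_, pullback.snd W.hom i p, ?_⟩
    · exact (pullback.fst W.hom i p).2
    · rw [← Scheme.Hom.comp_apply, ← pullback.condition, Scheme.Hom.comp_apply]
  refine ⟨Groth.Agent.FEtEq25.full_restrict i hT fun {Z} g hg C hC => ?_,
    Groth.Agent.FEtEq25.faithful_restrict i hT⟩
  have hbij := h (MorphismProperty.Over.mk ⊤ g hg)
  have : IsFinite g := hg.1
  have : IsLocallyNoetherian Z := LocallyOfFiniteType.isLocallyNoetherian g
  have : CompactSpace Z := QuasiCompact.compactSpace_of_compactSpace g
  have : IsNoetherian Z := ⟨⟩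
  have hfinCC : Finite (_root_.ConnectedComponents Z) := by
    have hfin := TopologicalSpace.NoetherianSpace.finite_irreducibleComponents (α := Z)
    have := hfin.to_subtype
    choose pt hpt using fun c : irreducibleComponents Z => c.2.1.1
    refine Finite.of_surjective (fun c : irreducibleComponents Z => _root_.ConnectedComponents.mk (pt c)) ?_
    intro q
    obtain ⟨z, rfl⟩ := _root_.ConnectedComponents.surjective_coe q
    refine ⟨⟨irreducibleComponent z, irreducibleComponent_mem_irreducibleComponents z⟩, ?_⟩
    exact _root_.ConnectedComponents.coe_eq_coe'.2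
      ((isIrreducible_irreducibleComponent).2.isPreconnected.subset_connectedComponent
        mem_irreducibleComponent (hpt ⟨_, irreducibleComponent_mem_irreducibleComponents z⟩))
  haveI : T1Space (_root_.ConnectedComponents Z) := inferInstance
  haveI : DiscreteTopology (_root_.ConnectedComponents Z) := inferInstance
  let φ := (pullback.fst g i).continuous.connectedComponentsMap
  refine ⟨_root_.ConnectedComponents.mk ⁻¹' (φ '' (_root_.ConnectedComponents.mk '' C)),
    (isClopen_discrete _).preimage _root_.ConnectedComponents.continuous_coe, ?_⟩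
  ext p
  constructor
  · rintro ⟨c, ⟨p', hp', rfl⟩, hc⟩
    have heq : _root_.ConnectedComponents.mk p' = _root_.ConnectedComponents.mk p := hbij.1 hc
    exact hC.connectedComponent_subset hp' (_root_.ConnectedComponents.coe_eq_coe'.1 heq.symm)
  · intro hp
    exact ⟨_, ⟨p, hp, rfl⟩, rfl⟩
end Groth.Agent.S14461
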