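import Groth.Statements.S14462
import Groth.Agent.S0257
import Groth.Agent.Lib.EGA43Top.DimLift
import Groth.Agent.Lib.EtaleNhd17.Basic

set_option autoImplicit false
universe u
open CategoryTheory AlgebraicGeometry
open Unram

namespace Groth.Agent.S14462

/-- Let f : X → Y be finite and flat with Y locally Noetherian, and let U ⊆ Y be open with every point
of the complement having a local ring of Krull dimension at least 2. If f is étale over U, then f is
étale. -/
theorem result {X Y : Scheme.{u}} [IsLocallyNoetherian Y]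
    (f : X ⟶ Y) [IsFinite f] [Flat f] (U : Y.Opens)
    (hU : ∀ y : Y, y ∉ U → (2 : WithBot ℕ∞) ≤ ringKrullDim (Y.presheaf.stalk y))
    [Etale (f ∣_ U)] : Etale f := by
  haveI : IsLocallyNoetherian X := LocallyOfFiniteType.isLocallyNoetherian f
  have hUet : ∀ x, f x ∈ U → ∃ V : X.Opens, x ∈ V ∧ Etale (V.ι ≫ f) := fun x hx =>
    ⟨f ⁻¹ᵁ U, hx, by rw [← morphismRestrict_ι]; infer_instance⟩
  have hdim : ∀ x, ringKrullDim (Y.presheaf.stalk (f x)) ≤ ringKrullDim (X.presheaf.stalk x) := by
    intro x
    refine Groth.Agent.EGA43Top.ringKrullDim_le_of_comap_surjective (f.stalkMap x).hom ?_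
    algebraize [(f.stalkMap x).hom]
    haveI : Module.Flat (Y.presheaf.stalk (f x)) (X.presheaf.stalk x) := Flat.stalkMap f x
    haveI : IsLocalHom (algebraMap (Y.presheaf.stalk (f x)) (X.presheaf.stalk x)) :=
      inferInstanceAs <| IsLocalHom (f.stalkMap x).hom
    haveI := Module.FaithfullyFlat.of_flat_of_isLocalHom (A := Y.presheaf.stalk (f x)) (B := X.presheaf.stalk x)
    exact PrimeSpectrum.comap_surjective_of_faithfullyFlat
  have hlow : ∀ x, ringKrullDim (X.presheaf.stalk x) ≤ 1 → f x ∈ U := fun x hx => by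
    by_contra hc
    have h2 := (hU _ hc).trans ((hdim x).trans hx)
    norm_num at h2
  have hall : ∀ x : X, ∃ V : X.Opens, x ∈ V ∧ Etale (V.ι ≫ f) := by
    intro x
    by_cases hx : f x ∈ U
    · exact hUet x hx
    refine Groth.Agent.S0257.result f x (f.quasiFiniteAt x) ?_ fun x' _ hx' => ?_
    · exact le_trans (by norm_num) ((hU _ hx).trans (hdim x))
    · obtain ⟨V, hV, het⟩ := hUet x' (hlow x' hx'.le)
      exact Groth.Agent.EtaleNhd17.formallyUnramified_stalkMap_of_nhd f x' hV
  choose V hV het using hall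
  refine IsZariskiLocalAtSource.of_iSup_eq_top (P := @Etale) V ?_ het
  exact eq_top_iff.2 fun x _ => TopologicalSpace.Opens.mem_iSup.2 ⟨x, hV x⟩

end Groth.Agent.S14462
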