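import Groth.Statements.S14463
import Groth.Agent.Lib.BigSite16.ClassTop

set_option autoImplicit false
universe u
open CategoryTheory CategoryTheory.Limits AlgebraicGeometry
open BigSite

namespace Groth.Agent.S14463
set_option linter.style.haveILetI false
set_option backward.isDefEq.respectTransparency false
set_option backward.isDefEq.respectTransparency.types false
open Groth.Agent.BigSite16


/-- Fix a scheme S and a class C of quasi-compact morphisms of schemes which is stable under composition
and base change, closed under finite coproducts, and contains ∐_j V_j → U for every finite affine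
open cover (V_j) of an affine scheme U. Declare a sieve R on an S-scheme X to be covering when X has
an affine open cover (U_i) such that for every i there are finitely many affine S-schemes V_j and
S-morphisms V_j → X in R factoring through U_i with the induced morphism ∐_j V_j → U_i in C. Then
there is a Grothendieck topology on S-schemes whose covering sieves are exactly these. (The
published statement also allows a local property of S-schemes preserved by the class and works on
the S-schemes having it, takes a class of morphisms of S-schemes, and says that covering may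
equivalently be tested with arbitrary rather than affine opens and schemes; this row takes no such
property and a class of morphisms of schemes, and defines covering sieves through affine opens and
affine schemes only.) -/
theorem result (S : Scheme.{u})
    (C : MorphismProperty Scheme.{u}) [C.IsStableUnderComposition] [C.IsStableUnderBaseChange]
    (hqc : ∀ {A B : Scheme.{u}} (f : A ⟶ B), C f → QuasiCompact f)
    (hcoprod : ∀ (κ : Type u) [Finite κ] (A B : κ → Scheme.{u}) (f : ∀ j, A j ⟶ B j),
      (∀ j, C (f j)) → C (Limits.Sigma.map f))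
    (haff : ∀ (U : Scheme.{u}) [IsAffine U] (κ : Type u) [Finite κ] (V : κ → U.Opens),
      (∀ j, IsAffineOpen (V j)) → ⨆ j, V j = ⊤ → C (Limits.Sigma.desc fun j => (V j).ι)) :
    ∃ J : GrothendieckTopology (Over S), ∀ (X : Over S) (R : Sieve X), R ∈ J X ↔
      ∃ (ι : Type u) (U : ι → X.left.Opens), (∀ i, IsAffineOpen (U i)) ∧ ⨆ i, U i = ⊤ ∧
        ∀ i, ∃ (κ : Type u) (_ : Finite κ) (V : κ → Over S) (φ : ∀ j, V j ⟶ X)
          (ψ : ∀ j, (V j).left ⟶ (U i : Scheme.{u})),
          (∀ j, IsAffine (V j).left) ∧ (∀ j, R.arrows (φ j)) ∧ (∀ j, ψ j ≫ (U i).ι = (φ j).left) ∧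
            C (Limits.Sigma.desc ψ) := by
  refine ⟨
    { sieves := fun X => {R | ∃ (ι : Type u) (U : ι → X.left.Opens), (∀ i, IsAffineOpen (U i)) ∧
        ⨆ i, U i = ⊤ ∧ ∀ i, Adm C R (U i)}
      top_mem' := fun X => ⟨X.left.affineOpens, Subtype.val, fun i => i.2, iSup_affineOpens_eq_top X.left,
        fun i => adm_of_mem C haff ⊤ i.2 trivial⟩
      pullback_stable' := ?_
      transitive' := ?_ }, fun X R => Iff.rfl⟩
  · rintro X Y R g ⟨ι, U, hU, hcov, h⟩
    refine ⟨{W : Y.left.Opens // IsAffineOpen W ∧ ∃ i, W ≤ g.left ⁻¹ᵁ U i}, Subtype.val, fun W => W.2.1,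
      exists_affine_refinement ?_, fun W => ?_⟩
    · rw [← Scheme.Hom.preimage_iSup, hcov]
      rfl
    · obtain ⟨i, hi⟩ := W.2.2
      exact adm_pullback C (hU i) (h i) g W.2.1 hi
  · rintro X R ⟨ι, U, hU, hcov, h⟩ R' h'
    refine ⟨ι, U, hU, hcov, fun i => ?_⟩
    obtain ⟨κ, _, V, φ, ψ, hV, hφ, hψ, hC⟩ := h i
    choose ι' A hA hAcov hadm using fun j => h' (hφ j)
    choose μ hμ e he using fun j =>
      haveI : IsAffine (V j).left := hV j
      exists_finite_subcover (hAcov j)
    haveI := hμ
    choose ν hν B φB χ hB hφB hχ hCB using fun p : Σ j, μ j => hadm p.1 (e p.1 p.2)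
    haveI := hν
    have hA' : ∀ j, C (Limits.Sigma.desc fun l : μ j => (A j (e j l)).ι) := fun j =>
      haveI : IsAffine (V j).left := hV j
      haff (V j).left (μ j) (fun l => A j (e j l)) (fun l => hA j _) (he j)
    refine ⟨Σ p : Σ j, μ j, ν p, inferInstance, fun q => B q.1 q.2, fun q => φB q.1 q.2 ≫ φ q.1.1,
      fun q => χ q.1 q.2 ≫ (A q.1.1 (e q.1.1 q.1.2)).ι ≫ ψ q.1.1, fun q => hB q.1 q.2,
      fun q => hφB q.1 q.2, fun q => ?_, ?_⟩
    · rw [Over.comp_left, ← hχ, ← hψ]
      simp
    · exact desc_comp C hcoprod (fun p : Σ j, μ j => (A p.1 (e p.1 p.2)).ι ≫ ψ p.1) χ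
        (desc_comp C hcoprod ψ (fun j l => (A j (e j l)).ι) hC hA') hCB

end Groth.Agent.S14463
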