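import Groth.Statements.S14465
import Groth.Agent.Lib.BigSite16.ClassTop

set_option autoImplicit false
universe v u
open CategoryTheory CategoryTheory.Limits AlgebraicGeometry
open BigSite

namespace Groth.Agent.S14465
set_option linter.style.haveILetI false
set_option backward.isDefEq.respectTransparency false
set_option backward.isDefEq.respectTransparency.types false
open Groth.Agent.BigSite16


/-- Fix a scheme S and a class C of quasi-compact morphisms of schemes, stable under composition and
base change, closed under finite coproducts, and containing ∐_j V_j → U for every finite affine open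
cover (V_j) of an affine scheme U. Assume moreover that for every morphism f : X' → W in C with W
affine and every finite affine open cover (A_l) of X', the induced morphism ∐_l A_l → W lies in C.
Let J be the Grothendieck topology on S-schemes whose covering sieves are those admitting
affine-local finite C-covering data (an affine open cover (U_i) of X and, for each i, finitely many
affine S-schemes V_j → X in the sieve factoring through U_i with ∐_j V_j → U_i in C). Then a
presheaf of types on S-schemes is a J-sheaf if and only if it is a sheaf for the big Zariski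
topology on S-schemes and satisfies the sheaf condition for every single S-morphism X' → X whose
underlying morphism of schemes lies in C. (The published statement does not assume the hypothesis on
finite affine open covers of the source of a C-morphism with affine target; its proof uses that
hypothesis, through an unproved equivalence between arbitrary and affine covering data, to see that
the sieve generated by a C-morphism is covering. The hypothesis holds for the classes of fpqc
morphisms, of fppf morphisms and of surjective étale quasi-compact morphisms. The published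
statement also allows a local property of S-schemes preserved by the class; this row takes no such
property and a class of morphisms of schemes.) -/
theorem result (S : Scheme.{u})
    (C : MorphismProperty Scheme.{u}) [C.IsStableUnderComposition] [C.IsStableUnderBaseChange]
    (hqc : ∀ {A B : Scheme.{u}} (f : A ⟶ B), C f → QuasiCompact f)
    (hcoprod : ∀ (κ : Type u) [Finite κ] (A B : κ → Scheme.{u}) (f : ∀ j, A j ⟶ B j),
      (∀ j, C (f j)) → C (Limits.Sigma.map f))
    (haff : ∀ (U : Scheme.{u}) [IsAffine U] (κ : Type u) [Finite κ] (V : κ → U.Opens),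
      (∀ j, IsAffineOpen (V j)) → ⨆ j, V j = ⊤ → C (Limits.Sigma.desc fun j => (V j).ι))
    (hres : ∀ (W X' : Scheme.{u}) [IsAffine W] (f : X' ⟶ W), C f →
      ∀ (κ : Type u) [Finite κ] (A : κ → X'.Opens), (∀ l, IsAffineOpen (A l)) → ⨆ l, A l = ⊤ →
        C (Limits.Sigma.desc fun l => (A l).ι ≫ f))
    (J : GrothendieckTopology (Over S))
    (hJ : ∀ (X : Over S) (R : Sieve X), R ∈ J X ↔
      ∃ (ι : Type u) (U : ι → X.left.Opens), (∀ i, IsAffineOpen (U i)) ∧ ⨆ i, U i = ⊤ ∧
        ∀ i, ∃ (κ : Type u) (_ : Finite κ) (V : κ → Over S) (φ : ∀ j, V j ⟶ X)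
          (ψ : ∀ j, (V j).left ⟶ (U i : Scheme.{u})),
          (∀ j, IsAffine (V j).left) ∧ (∀ j, R.arrows (φ j)) ∧ (∀ j, ψ j ≫ (U i).ι = (φ j).left) ∧
            C (Limits.Sigma.desc ψ))
    (F : (Over S)ᵒᵖ ⥤ Type v) :
    Presieve.IsSheaf J F ↔
      (Presieve.IsSheaf (Scheme.zariskiTopology.over S) F ∧
        ∀ (X X' : Over S) (f : X' ⟶ X), C f.left → Presieve.IsSheafFor F (Presieve.singleton f)) := by
  constructor
  · intro hF
    refine ⟨fun X R hR => hF R ((hJ X R).2 ⟨_, Subtype.val, fun W => W.2.1, exists_affine_of_mem_zariski hR,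
      fun W => adm_of_mem C haff R W.2.1 W.2.2⟩), fun X X' f hf => ?_⟩
    rw [Presieve.isSheafFor_iff_generate]
    refine hF _ ((hJ X _).2 ⟨X.left.affineOpens, Subtype.val, fun i => i.2, iSup_affineOpens_eq_top X.left,
      fun ⟨U, hU⟩ => ?_⟩)
    haveI : IsAffine U := hU
    haveI := hqc _ hf
    have hCU : C (f.left ∣_ U) := C.of_isPullback (isPullback_morphismRestrict f.left U).flip hf
    haveI := hqc _ hCU
    haveI : CompactSpace ↥(f.left ⁻¹ᵁ U).toScheme := QuasiCompact.compactSpace_of_compactSpace (f.left ∣_ U)
    obtain ⟨κ, _, e, he⟩ := exists_finite_subcover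
      (iSup_affineOpens_eq_top (f.left ⁻¹ᵁ U : X'.left.Opens).toScheme)
    refine ⟨κ, inferInstance, fun k => Over.mk ((e k).1.ι ≫ (f.left ⁻¹ᵁ U).ι ≫ X'.hom),
      fun k => (Over.homMk ((e k).1.ι ≫ (f.left ⁻¹ᵁ U).ι) (by simp) :
        Over.mk ((e k).1.ι ≫ (f.left ⁻¹ᵁ U).ι ≫ X'.hom) ⟶ X') ≫ f,
      fun k => (e k).1.ι ≫ (f.left ∣_ U), fun k => (e k).2,
      fun k => ⟨_, _, f, Presieve.singleton.mk, rfl⟩, fun k => ?_,
      hres _ _ _ hCU κ (fun k => (e k).1) (fun k => (e k).2) he⟩
    simp [morphismRestrict_ι]
  · rintro ⟨hz, hC'⟩ X R hR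
    let K := Sheaf.finestTopologySingle F
    have hzK : Scheme.zariskiTopology.over S ≤ K := fun Y T hT Z g =>
      hz _ (GrothendieckTopology.pullback_stable _ g hT)
    have hsK : ∀ {Y Y' : Over S} (f : Y' ⟶ Y), C f.left → Sieve.generate (Presieve.singleton f) ∈ K Y := by
      intro Y Y' f hf Z g
      rw [← Sieve.pullbackArrows_comm, Presieve.pullback_singleton]
      refine (Presieve.isSheafFor_iff_generate _).1 (hC' _ _ _ ?_)
      exact C.of_isPullback ((IsPullback.of_hasPullback f g).map (Over.forget S)) hf
    suffices h : R ∈ K X by simpa using h X (𝟙 X)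
    obtain ⟨ι, U, hU, hcov, h⟩ := (hJ X R).1 hR
    let T : Sieve X := Sieve.ofArrows (fun i => Over.mk ((U i).ι ≫ X.hom)) (fun i => Over.homMk (U i).ι)
    have hT : T ∈ Scheme.zariskiTopology.over S X :=
      mem_zariski_of_cover T (Scheme.openCoverOfIsOpenCover X.left U hcov) fun i => Sieve.ofArrows_mk _ _ i
    refine K.transitive (hzK _ hT) R fun Z g hg => ?_
    obtain ⟨i, w, rfl⟩ := (Sieve.mem_ofArrows_iff _ _ g).1 hg
    rw [Sieve.pullback_comp]
    refine K.pullback_stable w ?_
    obtain ⟨κ, _, V, φ, ψ, hV, hφ, hψ, hCd⟩ := h i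
    let P : Over S := Over.mk (Limits.Sigma.desc ψ ≫ (U i).ι ≫ X.hom)
    let d : P ⟶ Over.mk ((U i).ι ≫ X.hom) := Over.homMk (Limits.Sigma.desc ψ)
    refine K.transitive (hsK d hCd) _ fun Z' g' hg' => ?_
    obtain ⟨_, w', _, ⟨⟩, rfl⟩ := hg'
    rw [Sieve.pullback_comp]
    refine K.pullback_stable w' (hzK _ ?_)
    refine mem_zariski_of_cover _ (sigmaOpenCover fun j => (V j).left) fun j => ?_
    let a : Over.mk (Sigma.ι (fun j => (V j).left) j ≫ P.hom) ⟶ V j := Over.homMk (𝟙 _) (by
      change 𝟙 _ ≫ (V j).hom = Sigma.ι (fun j => (V j).left) j ≫ Limits.Sigma.desc ψ ≫ (U i).ι ≫ X.hom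
      rw [Category.id_comp, Sigma.ι_desc_assoc, reassoc_of% hψ, Over.w])
    have : ((Over.homMk (Sigma.ι (fun j => (V j).left) j) :
        Over.mk (Sigma.ι (fun j => (V j).left) j ≫ P.hom) ⟶ P) ≫ d) ≫ (Over.homMk (U i).ι :
        Over.mk ((U i).ι ≫ X.hom) ⟶ X) = a ≫ φ j := Over.OverMorphism.ext (by
      simp [a, d, P, ← hψ])
    change R.arrows _
    exact (congrArg (fun t => R.arrows t) this).mpr (R.downward_closed (hφ j) a)

end Groth.Agent.S14465
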