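import Groth.Statements.S1447
import Groth.Agent.Lib.Weight4.DegLocus

set_option autoImplicit false
universe u
set_option backward.isDefEq.respectTransparency.types false
open FlatMor

namespace Groth.Agent.S1447

open AlgebraicGeometry CategoryTheory Limits in
theorem strat {X S : Scheme.{u}} (f : X ⟶ S) [Flat f] [LocallyOfFinitePresentation f] [IsSeparated f] [LocallyQuasiFinite f]
    (n : ℕ) (hn : ∀ (K : Type u) [Field K] (g : Spec (CommRingCat.of K) ⟶ S),
      Groth.Agent.DegRank.rk (pullback.snd f g) ≤ (n : Cardinal.{u})) :
    ∃ deg : ↑S → ℕ, (∀ s, deg s ≤ n) ∧ (∀ r : ℕ, IsClosed {s : ↑S | deg s ≤ r}) ∧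
      ∀ (T : Scheme.{u}) (g : T ⟶ S) (r : ℕ), Mor2.IsFinLocFreeOfDeg r (pullback.snd f g) ↔ ∀ t : T, deg (g t) = r := by
  have hfin : ∀ y, IsFinite (f.fiberToSpecResidueField y) := fun y => by
    have : LocallyQuasiFinite (f.fiberToSpecResidueField y) :=
      MorphismProperty.pullback_snd f _ inferInstance
    have : LocallyOfFiniteType (f.fiberToSpecResidueField y) :=
      MorphismProperty.pullback_snd f _ inferInstance
    have hF : ∀ F : Finset (f.fiber y), F.card ≤ n := fun F => Nat.cast_le.1
      ((Groth.Agent.DegRank.card_le_rk (K := S.residueField y) (f.fiberToSpecResidueField y) F).trans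
        (hn (S.residueField y) (S.fromSpecResidueField y)))
    have : Finite (f.fiber y) := by
      by_contra hinf
      rw [not_finite_iff_infinite] at hinf
      obtain ⟨F, hF'⟩ := Infinite.exists_subset_card_eq (f.fiber y) (n + 1)
      have := hF F
      omega
    exact Groth.Agent.DegRank.isFinite_of_finite (K := S.residueField y) _
  refine ⟨Groth.Agent.AlgSpDecent.DegStrat.deg f, fun s => ?_,
    Groth.Agent.DegRank.isClosed_deg_le f hfin,
    fun _ g r => Groth.Agent.DegRank.isFinLocFreeOfDeg_iff f hfin g r⟩
  have hs : S.fromSpecResidueField s (IsLocalRing.closedPoint (S.residueField s)) = s :=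
    Scheme.fromSpecResidueField_apply _ _
  have h := hn (S.residueField s) (S.fromSpecResidueField s)
  rw [Groth.Agent.DegRank.rk_eq_deg f (K := S.residueField s) (S.fromSpecResidueField s)
    (IsPullback.of_hasPullback f _) (hfin _), Nat.cast_le] at h
  convert h
  exact hs.symm

open AlgebraicGeometry CategoryTheory Limits in
/-- For a separated, flat, locally quasi-finite morphism f : X → S which is locally of finite
presentation, assume the fibres of f over all field-valued points have rank (of their ring of global
functions) at most n. Then there is a function deg : S → ℕ bounded by n with every sublevel set {deg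
≤ r} closed (equivalently a chain of closed subsets ∅ ⊂ Z_0 ⊂ ... ⊂ Z_n = S with strata {deg = r})
such that for every morphism g : T → S and every r, deg ∘ g is constant with value r exactly when
the base change of f along g is finite locally free of degree r. -/
theorem result {X S : Scheme.{u}} (f : X ⟶ S) [Flat f] [LocallyOfFinitePresentation f] [IsSeparated f] [LocallyQuasiFinite f]
    (n : ℕ) (hn : ∀ (K : Type u) [Field K] (g : Spec (CommRingCat.of K) ⟶ S), (letI := ((Scheme.ΓSpecIso (CommRingCat.of K)).inv ≫ (pullback.snd f g).appTop).hom.toAlgebra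
        Module.rank K (Γ(pullback f g, ⊤) : Type u)) ≤ (n : Cardinal.{u})) :
    ∃ deg : ↑S → ℕ, (∀ s, deg s ≤ n) ∧ (∀ r : ℕ, IsClosed {s : ↑S | deg s ≤ r}) ∧
      ∀ (T : Scheme.{u}) (g : T ⟶ S) (r : ℕ), Mor2.IsFinLocFreeOfDeg r (pullback.snd f g) ↔ ∀ t : T, deg (g t) = r := by
  exact strat f n hn

end Groth.Agent.S1447
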