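import Groth.Statements.S14471
import Groth.Agent.Lib.CurveCoh17.Integral
import Groth.Agent.Lib.CurveCoh17.Point
import Groth.Agent.Lib.CurveCoh17.Bases
import Groth.Agent.Lib.VB17.SmoothDuality
import Groth.Agent.Lib.Curve17.Basic
-- import your own Groth.Agent.* helpers here

set_option autoImplicit false
universe u
open CategoryTheory CategoryTheory.Limits AlgebraicGeometry
open Curves

namespace Groth.Agent.S14471

open Groth.Agent Groth.Agent.M1 Groth.Agent.M2

namespace Aux

open IsDiscreteValuationRing in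
theorem ncard_addVal {k : Type*} [Field k] {R : Type*} [CommRing R] [IsDomain R] [IsDiscreteValuationRing R]
    [Algebra k R] (hres : ∀ a : R, ∃ c : k, a - algebraMap k R c ∈ IsLocalRing.maximalIdeal R)
    {V : Type*} [AddCommGroup V] [Module k V] [FiniteDimensional k V] (φ : V →ₗ[k] R) (hφ : Function.Injective φ) :
    Set.ncard ((fun v => addVal R (φ v)) '' {v : V | v ≠ 0}) = Module.finrank k V := by
  classical
  set S := (fun v => addVal R (φ v)) '' {v : V | v ≠ 0} with hS
  have hrep : ∀ t : S, ∃ v : V, v ≠ 0 ∧ addVal R (φ v) = t := fun t => t.2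
  choose v hv0 hvt using hrep
  have hunit : ∀ {c : k}, c ≠ 0 → ∀ a : R, addVal R (c • a) = addVal R a := fun {c} hc a => by
    rw [Algebra.smul_def, AddValuation.map_mul, addVal_eq_zero_iff.2 ((Ne.isUnit hc).map _), zero_add]
  have hind : LinearIndependent k v := by
    rw [linearIndependent_iff']
    intro s g hg i hi
    by_contra hgi
    obtain ⟨j, hj, hjmin⟩ := Finset.exists_min_image (s.filter fun j => g j ≠ 0)
      (fun j => addVal R (φ (v j))) ⟨i, Finset.mem_filter.2 ⟨hi, hgi⟩⟩
    rw [Finset.mem_filter] at hj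
    have hlt : ∀ l ∈ (s.filter fun j => g j ≠ 0).erase j, addVal R (φ (v j)) < addVal R (g l • φ (v l)) := fun l hl => by
      rw [Finset.mem_erase] at hl
      rw [hunit (Finset.mem_filter.1 hl.2).2]
      refine lt_of_le_of_ne (hjmin l hl.2) fun h => hl.1 (Subtype.ext ?_)
      rw [← hvt, ← hvt, h]
    have hsum : g j • φ (v j) + ∑ l ∈ (s.filter fun j => g j ≠ 0).erase j, g l • φ (v l) = 0 := by
      rw [Finset.add_sum_erase _ (fun l => g l • φ (v l)) (Finset.mem_filter.2 hj)]
      have := congrArg φ hg
      rw [map_zero, map_sum] at this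
      simp only [map_smul] at this
      refine Eq.trans ?_ this
      exact Finset.sum_filter_of_ne fun l _ h h0 => h (by rw [h0, zero_smul])
    have hjv : addVal R (g j • φ (v j)) = addVal R (φ (v j)) := hunit hj.2 _
    have hne : addVal R (φ (v j)) ≠ ⊤ := fun h => hv0 j (hφ ((addVal_eq_top_iff.1 h).trans (map_zero φ).symm))
    have h2 := (addVal R).map_lt_sum hne hlt
    rw [eq_neg_of_add_eq_zero_left hsum, AddValuation.map_neg] at hjv
    exact absurd (hjv ▸ h2) (lt_irrefl _)
  haveI : Finite S := hind.finite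
  haveI : Fintype S := Fintype.ofFinite S
  have htop : Submodule.span k (Set.range v) = ⊤ := by
    by_contra hne
    obtain ⟨x, hx⟩ : ∃ x, x ∉ Submodule.span k (Set.range v) := by
      by_contra h
      push_neg at h
      exact hne (eq_top_iff.2 fun x _ => h x)
    have hx0 : x ≠ 0 := fun h => hx (h ▸ zero_mem _)
    obtain ⟨t, ht, htmax⟩ := Finset.exists_max_image
      (Finset.univ.filter fun t : S => ∃ x, x ∉ Submodule.span k (Set.range v) ∧ addVal R (φ x) = t)
      (fun t => (t : ℕ∞)) ⟨⟨_, x, hx0, rfl⟩, Finset.mem_filter.2 ⟨Finset.mem_univ _, x, hx, rfl⟩⟩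
    obtain ⟨-, y, hy, hyt⟩ := Finset.mem_filter.1 ht
    have hy0 : φ y ≠ 0 := fun h => hy (by rw [hφ (h.trans (map_zero φ).symm)]; exact zero_mem _)
    obtain ⟨u, hu⟩ := (addVal_eq_iff_associated _ _).1 ((hvt t).trans hyt.symm)
    obtain ⟨c, hc⟩ := hres (u : R)
    set z := y - c • v t with hz
    have hzmem : z ∉ Submodule.span k (Set.range v) := fun h => hy (by
      have := add_mem h (Submodule.smul_mem _ c (Submodule.subset_span ⟨t, rfl⟩))
      rwa [hz, sub_add_cancel] at this)
    have hz0 : z ≠ 0 := fun h => hzmem (h ▸ zero_mem _)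
    have hφz : φ z = ((u : R) - algebraMap k R c) * φ (v t) := by
      rw [hz, map_sub, map_smul, ← hu, Algebra.smul_def, sub_mul, mul_comm (φ (v t))]
    have hle : addVal R (φ z) ≤ (t : ℕ∞) :=
      htmax ⟨_, z, hz0, rfl⟩ (Finset.mem_filter.2 ⟨Finset.mem_univ _, z, hzmem, rfl⟩)
    rw [hφz, AddValuation.map_mul, hvt] at hle
    have hpos : addVal R ((u : R) - algebraMap k R c) ≠ 0 := fun h =>
      (IsLocalRing.mem_maximalIdeal _).1 hc (addVal_eq_zero_iff.1 h)
    have htne : (t : ℕ∞) ≠ ⊤ := fun h => hy0 (addVal_eq_top_iff.1 (hyt.trans h))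
    have := (ENat.add_le_add_iff_right htne).1 (hle.trans_eq (zero_add _).symm)
    exact hpos (nonpos_iff_eq_zero.1 this)
  rw [← Nat.card_coe_set_eq, Nat.card_eq_fintype_card]
  exact (Module.finrank_eq_card_basis (Module.Basis.mk hind htop.ge)).symm

end Aux

/-- Let k be an algebraically closed field, C a smooth proper curve over k (proper and smooth over k,
integral, of dimension one), (L, s_0, …, s_r) a linear series g^r_d on C (L an invertible module of
degree d with k-linearly independent global sections s_0, …, s_r spanning a subspace V of Γ(C, L))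
and p a closed point of C. For a nonzero σ ∈ V write ord_p σ for the length of the O_{C,p}-module
L_p/(σ_p), the order of vanishing of σ at p. Then σ ↦ ord_p σ takes exactly r + 1 distinct values on
V minus 0. (The published statement is for a smooth projective curve over the complex numbers and a
complex point p; this row states it over any algebraically closed field.) -/
theorem result (k : Type u) [Field k] [IsAlgClosed k]
    (C : Scheme.{u}) [C.Over (Spec (CommRingCat.of k))] (hC : Curve.IsSmoothProperCurve k C (C ↘ (Spec (CommRingCat.of k))))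
    (L : C.Modules) (d r : ℕ) (s : Fin (r + 1) → LinSer.Sect C L) (hL : LinSer.IsLinSer k C L d r s)
    (p : C) (hp : IsClosed ({p} : Set C)) :
    Set.ncard ((fun c : Fin (r + 1) → k =>
        Module.length (C.presheaf.stalk p)
          (↥(L.presheaf.stalk p) ⧸ Submodule.span (C.presheaf.stalk p)
            {(L.presheaf.germ ⊤ p trivial) (∑ i, (Coh.toGlobal (C ↘ Spec (CommRingCat.of k)) (c i)) • s i)})) ''
        {c : Fin (r + 1) → k | c ≠ 0}) = r + 1 := by
  obtain ⟨hpr, hsm, hint, hdim⟩ := hC
  haveI := hpr; haveI := hsm; haveI := hint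
  haveI : LocallyOfFiniteType (C ↘ Spec (CommRingCat.of k)) := inferInstance
  haveI : IsLocallyNoetherian C := LocallyOfFiniteType.isLocallyNoetherian (C ↘ Spec (CommRingCat.of k))
  haveI := SmoothReg17.isRegularLocalRing_stalk (C ↘ Spec (CommRingCat.of k)) p
  obtain ⟨hX, -, -⟩ := VB17.setup (k := k) (X := C) hdim
  haveI := hX.pid p
  haveI : IsDiscreteValuationRing (C.presheaf.stalk p) := Curve17.isDiscreteValuationRing_stalk hdim hp
  letI : Algebra k (C.presheaf.stalk p) :=
    ((C.presheaf.germ ⊤ p trivial).hom.comp (Coh.toGlobal (C ↘ Spec (CommRingCat.of k)))).toAlgebra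
  obtain ⟨hL1, -, hind⟩ := hL
  have hL1' := (isInvertible_iff_isFinLocFreeOfRank_one L).1 hL1
  obtain ⟨e⟩ := CurveCoh17.nonempty_stalk_equiv hL1' p
  let e1 : L.presheaf.stalk p ≃ₗ[C.presheaf.stalk p] C.presheaf.stalk p := e ≪≫ₗ LinearEquiv.funUnique (Fin 1) _ _
  let sec : (Fin (r + 1) → k) → LinSer.Sect C L :=
    fun c => ∑ i, (Coh.toGlobal (C ↘ Spec (CommRingCat.of k)) (c i)) • s i
  have hadd : ∀ a b, sec (a + b) = sec a + sec b := fun a b =>
    (Finset.sum_congr rfl fun i _ => by rw [Pi.add_apply, map_add, add_smul]).trans Finset.sum_add_distrib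
  have hsmul : ∀ (a : k) b, sec (a • b) = (Coh.toGlobal (C ↘ Spec (CommRingCat.of k)) a) • sec b := fun a b =>
    (Finset.sum_congr rfl fun i _ => by rw [Pi.smul_apply, smul_eq_mul, map_mul, mul_smul]).trans Finset.smul_sum.symm
  let φ : (Fin (r + 1) → k) →ₗ[k] C.presheaf.stalk p :=
    { toFun := fun c => e1 (L.presheaf.germ ⊤ p trivial (sec c))
      map_add' := fun a b => by
        rw [hadd]
        exact (congrArg e1 (map_add _ _ _)).trans (map_add e1 _ _)
      map_smul' := fun a b => by
        rw [hsmul]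
        refine (congrArg e1 (M1.germ_smul L (U := (⊤ : C.Opens)) trivial _ _)).trans ((map_smul e1 _ _).trans ?_)
        rw [Algebra.smul_def]
        rfl }
  have hφ : Function.Injective φ := (injective_iff_map_eq_zero φ).2 fun c hc =>
    hind c (CurveCoh17.eq_zero_of_germ_eq_zero hL1' (sec c) (e1.injective (hc.trans (map_zero e1).symm)))
  have hres : ∀ a : C.presheaf.stalk p, ∃ c : k, a - algebraMap k _ c ∈ IsLocalRing.maximalIdeal _ := by
    intro a
    letI : Algebra k (C.residueField p) := Curv2.resAlgebra k C p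
    obtain ⟨c, hc⟩ := (finrank_eq_one_iff_of_nonzero' (1 : C.residueField p) one_ne_zero).1
      (CurveCoh17.finrank_residueField (k := k) hp) (C.residue p a)
    refine ⟨c, Ideal.Quotient.eq.1 ?_⟩
    refine hc.symm.trans ?_
    rw [Algebra.smul_def, mul_one]
    rfl
  have key := Aux.ncard_addVal hres φ hφ
  rw [Module.finrank_fintype_fun_eq_card, Fintype.card_fin] at key
  refine Eq.trans (congrArg Set.ncard (Set.image_congr fun c _ => ?_)) key
  show Module.length _ _ = _
  refine (Submodule.Quotient.equiv _ (Ideal.span {φ c}) e1 ?_).length_eq.trans (Ring.ord_eq_addVal (φ c))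
  rw [Submodule.map_span, Set.image_singleton]
  rfl


end Groth.Agent.S14471
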