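import Groth.Statements.S14473
-- import your own Groth.Agent.* helpers here
import Groth.Agent.Lib.GenusOneAut17.Invol
import Groth.Agent.Lib.GenusOneAut17.Bridge
import Groth.Agent.Lib.GenusFF17.Main
import Groth.Agent.Lib.CurveCoh17.HZero
import Groth.Agent.Lib.VB17.Proper

set_option autoImplicit false
universe u
open CategoryTheory CategoryTheory.Limits AlgebraicGeometry
open Curves

namespace Groth.Agent.S14473

/-- Let k be an algebraically closed field and C a smooth proper connected curve over k (proper and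
smooth over k, integral, of dimension one) of genus 1, the genus being the dimension of H¹(C, O_C).
Then the group of k-automorphisms of C is infinite: there are infinitely many automorphisms of the
scheme C over Spec k. -/
theorem result (k : Type u) [Field k] [IsAlgClosed k]
    (C : Scheme.{u}) [C.Over (Spec (CommRingCat.of k))] (hC : Curve.IsSmoothProperCurve k C (C ↘ (Spec (CommRingCat.of k))))
    (hg : Curv2.genus k C = 1) :
    Infinite {e : C ≅ C // e.hom ≫ (C ↘ (Spec (CommRingCat.of k))) = C ↘ (Spec (CommRingCat.of k))} := by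
  obtain ⟨hp, hsm, hint, hdim⟩ := hC
  haveI := hp
  haveI := hsm
  haveI := hint
  have h0 := (VB17.curveLike (k := k) (X := C) hdim).h0_eq_one
  letI := Curv2.stalkAlgebra k C (genericPoint C)
  obtain ⟨hK, hgK⟩ := GenusFF17.genus_functionField (k := k) hdim h0
  rw [hg] at hgK
  haveI := GenusOneAut17.infinite_place hK
  obtain ⟨P₀⟩ := (inferInstance : Nonempty (FunFld.Place k C.functionField))
  have hdeg := FunField.deg_eq_one (FunField.ff hK)
  have key : ∀ Q : {Q : FunFld.Place k C.functionField // Q ≠ P₀},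
      ∃ (e : {e : C ≅ C // e.hom ≫ (C ↘ (Spec (CommRingCat.of k))) = C ↘ (Spec (CommRingCat.of k))})
        (eg : e.1.hom (genericPoint C) = genericPoint C) (σ : C.functionField ≃ₐ[k] C.functionField),
        (∀ z, Curve17.genMap e.1.hom eg z = σ z) ∧ Wronskian26.comapPlace σ P₀ = Q.1 := by
    intro Q
    obtain ⟨x, hx⟩ := GenusOneAut17.exists_poleDiv_pair hK hgK (hdeg P₀) (hdeg Q.1) Q.2.symm
    obtain ⟨σ, -, -, hσ, -⟩ := GenusOneAut17.exists_involution hK (hdeg P₀) (hdeg Q.1) Q.2.symm hx
    obtain ⟨i, e, hi, hig⟩ := GenusOneAut17.exists_iso_of_algEquiv (k := k) hdim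
      (fun y => ⟨inferInstance, SmoothReg17.isIntegrallyClosed_stalk (C ↘ Spec (CommRingCat.of k)) y⟩) σ
    exact ⟨⟨i, hi⟩, e, σ, hig, hσ⟩
  choose e eg σ hσ hQ using key
  haveI : Infinite {Q : FunFld.Place k C.functionField // Q ≠ P₀} :=
    ((Set.finite_singleton P₀).infinite_compl).to_subtype
  refine Infinite.of_injective e fun Q R h => Subtype.ext ?_
  rw [← hQ Q, ← hQ R]
  have hs : σ Q = σ R := AlgEquiv.ext fun z => by
    rw [← hσ Q z, ← hσ R z, GenusOneAut17.genMap_congr (congrArg (fun t => t.1.hom) h) (eg Q) (eg R)]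
  rw [hs]

end Groth.Agent.S14473
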