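import Groth.Statements.S14474
import Groth.Agent.Lib.NodalCrit14.Geom

set_option autoImplicit false
universe u
open CategoryTheory CategoryTheory.Limits AlgebraicGeometry
open Curves

namespace Groth.Agent.S14474

/-- Let π : C → S be a proper, flat morphism of finite presentation all of whose fibres have every
irreducible component of dimension one (every geometric fibre is a curve). Then the set of points s
of S such that the fibre C_s, as a scheme over κ(s), has at-worst-nodal singularities (each closed
point has a smooth open neighbourhood or is a node) is open in S. -/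
theorem result {C S : Scheme.{u}} (π : C ⟶ S)
    [IsProper π] [Flat π] [LocallyOfFinitePresentation π]
    (hfib : ∀ s : S, ∀ Z ∈ irreducibleComponents (↥(π.fiber s) : Type u), topologicalKrullDim Z = 1) :
    IsOpen {s : S | letI : (π.fiber s).Over (Spec (S.residueField s)) := ⟨π.fiberToSpecResidueField s⟩
      Curv2.AtWorstNodal (S.residueField s) (π.fiber s)} := by
  have hdim := NodalCrit14.fibreDimAt_eq_one π hfib
  have hclosed : IsClosed (π '' {p | NodalCrit14.GoodPt π p}ᶜ) :=
    π.isClosedMap _ (NodalCrit14.isOpen_goodPt π hdim).isClosed_compl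
  convert hclosed.isOpen_compl using 1
  ext s
  refine Iff.trans ?_ (show (∀ p, π p = s → NodalCrit14.GoodPt π p) ↔ s ∈ (π '' {p | NodalCrit14.GoodPt π p}ᶜ)ᶜ from
    ⟨fun h ⟨p, hp, hps⟩ => hp (h p hps), fun h p hps => not_not.1 fun hp => h ⟨p, hp, hps⟩⟩)
  rw [← NodalCrit14.good_iff_forall_goodPt π hdim s]
  exact ⟨fun h => (Nodal27.fibre_iff π s).1 ⟨hfib s, h⟩, fun h => ((Nodal27.fibre_iff π s).2 h).2⟩

end Groth.Agent.S14474
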