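import Groth.Statements.S14475
import Groth.Agent.Lib.HypTor28.TorDim
import Groth.Agent.Lib.HypTor28.Periodic
import Groth.Agent.Lib.HypAnn28.Lift
import Groth.Agent.Lib.HypAnn28.Jac
import Mathlib.RingTheory.Flat.TorsionFree

set_option autoImplicit false
universe u
open CategoryTheory CategoryTheory.Limits KaehlerDifferential
open LocInt
set_option linter.style.haveILetI false

namespace Groth.Agent.S14475

/-- Let A → B be a smooth ring map with Ω_{B/A} of rank n at every prime of B, g ∈ B a nonzerodivisor
and R = B/gB, so that Spec R is a hypersurface of virtual relative dimension n - 1 over Spec A. Let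
M be an R-module of flat dimension at most m over A (Tor^A_i(M, P) = 0 for i > m and every A-module
P) and N an R-module. Then for q ≥ m + n the module Tor^R_q(M, N) (Mathlib's Tor on R-modules,
left-derived in the second variable) is annihilated by the annihilator ideal of the n-th exterior
power of Ω_{R/A}, i.e. it is a module over the closed subscheme Z defined by that ideal. (The
published statement is for a scheme that is locally such a hypersurface, an arbitrary module over it
of tor-dimension at most m over the base, and a bounded complex on a scheme over it; this row is the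
affine case with a single module on the hypersurface itself.) -/
theorem result (A B R : Type u) [CommRing A] [CommRing B] [CommRing R]
    [Algebra A B] [Algebra B R] [Algebra A R] [IsScalarTower A B R] [Algebra.Smooth A B] (n : ℕ)
    (hn : ∀ p : PrimeSpectrum B, Module.rankAtStalk (Ω[B⁄A]) p = n)
    (g : B) (hg : IsSMulRegular B g) (hsurj : Function.Surjective (algebraMap B R))
    (hker : RingHom.ker (algebraMap B R) = Ideal.span {g})
    (m : ℕ) (M N : ModuleCat.{u} R)
    (hM : ∀ (P : ModuleCat.{u} A) (i : ℕ), m < i →
      IsZero (((Tor (ModuleCat.{u} A) i).obj ((ModuleCat.restrictScalars (algebraMap A R)).obj M)).obj P))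
    (q : ℕ) (hq : m + n ≤ q) :
    (⋀[R]^n (Ω[R⁄A])).annihilator ≤ Module.annihilator R (((Tor (ModuleCat.{u} R) q).obj M).obj N) := by
  letI : Module A M := Module.compHom M (algebraMap A R)
  letI : Module B M := Module.compHom M (algebraMap B R)
  haveI : IsScalarTower B R M := IsScalarTower.of_algebraMap_smul fun _ _ => rfl
  haveI : IsScalarTower A B M := IsScalarTower.of_algebraMap_smul fun a x => by
    show algebraMap B R (algebraMap A B a) • x = algebraMap A R a • x
    rw [← IsScalarTower.algebraMap_apply]
  have hA : DRing.HasTorDimLE A m M := fun P _ _ p hp =>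
    ModuleCat.subsingleton_of_isZero (hM (ModuleCat.of A P) p hp)
  have hB := HypTor28.hasTorDimLE_smooth n hn m M hA
  obtain rfl | ⟨s, rfl⟩ : q = 0 ∨ ∃ s, q = s + 1 := by
    rcases q with _ | s
    · exact Or.inl rfl
    · exact Or.inr ⟨s, rfl⟩
  · have h0 : m + n = 0 := by omega
    rw [h0] at hB
    have : Module.Flat B M := (TorBal.flat_iff_hasTorDimLE_zero M).1 hB
    have : Subsingleton M := by
      refine subsingleton_of_forall_eq 0 fun x => ?_
      have h1 : IsSMulRegular M g := Module.Flat.isSMulRegular_of_nonZeroDivisors
        (mem_nonZeroDivisors_iff_right.2 fun y hy => hg (show g • y = g • 0 by rw [smul_zero, smul_eq_mul, mul_comm, hy]))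
      refine h1 ?_
      show g • x = g • 0
      rw [smul_zero]
      exact HypTor28.g_smul_eq_zero g hker x
    haveI := ModuleCat.subsingleton_of_isZero (FlatSyz.isZero_tor_of_subsingleton (B := R) (M := M) 0 N)
    intro r _
    exact Module.mem_annihilator.2 fun _ => Subsingleton.elim _ _
  letI : Module B N := Module.compHom N (algebraMap B R)
  haveI : IsScalarTower B R N := IsScalarTower.of_algebraMap_smul fun _ _ => rfl
  refine HypAnn28.annihilator_le hsurj g hker n hn _ fun θ => ?_
  refine HypAnn28.deriv_mem_annihilator g hg hsurj hker (fun k => (HypAnn28.syz R N k : Type u)) (HypAnn28.freeD R N)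
    (HypAnn28.exact_freeD R N) (HypAnn28.freeπ R N) (HypAnn28.exact_freeπ R N) (HypAnn28.freeπ_surjective R N)
    θ M s ?_
  haveI := hB N (s + 2) (by omega)
  exact ModuleCat.isZero_of_subsingleton _

end Groth.Agent.S14475
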