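import Groth.Statements.S14478
import Mathlib.LinearAlgebra.Dual.Lemmas
import Mathlib.LinearAlgebra.FiniteDimensional.Lemmas
import Mathlib.LinearAlgebra.Projection

set_option autoImplicit false
universe u
open CharCyc

namespace Groth.Agent.S14478

/-- Let V be a finite-dimensional vector space over a field k, let W = V × V^∨ with V^∨ the dual space,
and let T ⊆ W be a subspace with dim T = dim V; put V₁ = V ∩ T, where V sits in W as V × 0. Then
there is a complement V₂ of V₁ in V with the following property: for every injective linear map A₁ :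
V₁ → V₁^∨, the map A : V → V^∨ extending A₁ by zero along the decompositions V = V₁ ⊕ V₂ and V^∨ =
V₁^∨ ⊕ V₂^∨ (so A v = A₁(p v) ∘ p, with p : V → V₁ the projection along V₂) has graph Γ ⊆ W with Γ ∩
T = 0. -/
theorem result (k V : Type u) [Field k] [AddCommGroup V] [Module k V]
    [FiniteDimensional k V] (T : Submodule k (V × Module.Dual k V))
    (hT : Module.finrank k T = Module.finrank k V) :
    ∃ (V₂ : Submodule k V) (h : IsCompl (T.comap (LinearMap.inl k V (Module.Dual k V))) V₂),
      ∀ A₁ : T.comap (LinearMap.inl k V (Module.Dual k V)) →ₗ[k]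
          Module.Dual k (T.comap (LinearMap.inl k V (Module.Dual k V))),
        Function.Injective A₁ →
          LinearMap.graph ((Submodule.projectionOnto _ V₂ h).dualMap ∘ₗ A₁ ∘ₗ
              Submodule.projectionOnto _ V₂ h) ⊓ T = ⊥ := by
  classical
  have common : ∀ (d : ℕ) (P Q : Submodule k V), Module.finrank k P + d = Module.finrank k V →
      Module.finrank k Q = Module.finrank k P → ∃ C, IsCompl P C ∧ IsCompl Q C := by
    intro d
    induction d with
    | zero =>
      intro P Q h hQ
      obtain rfl := Submodule.eq_top_of_finrank_eq (K := k) (S := P) (by omega)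
      obtain rfl := Submodule.eq_top_of_finrank_eq (K := k) (S := Q) (by omega)
      exact ⟨⊥, isCompl_top_bot, isCompl_top_bot⟩
    | succ d ih =>
      intro P Q h hQ
      obtain ⟨v, hvP, hvQ⟩ : ∃ v, v ∉ P ∧ v ∉ Q := by
        by_contra! hh
        have hP : P ≠ ⊤ := fun e => by rw [e, finrank_top] at h; omega
        have hQ' : Q ≠ ⊤ := fun e => by rw [e, finrank_top] at hQ; omega
        obtain ⟨a, ha⟩ : ∃ a, a ∉ P := by simpa [Submodule.eq_top_iff'] using hP
        obtain ⟨b, hb⟩ : ∃ b, b ∉ Q := by simpa [Submodule.eq_top_iff'] using hQ'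
        have haQ := hh a ha
        have hbP : b ∈ P := by by_contra hc; exact hb (hh b hc)
        have h1 : a + b ∉ P := fun hc => ha (by simpa using P.sub_mem hc hbP)
        exact hb (by simpa using Q.sub_mem (hh _ h1) haQ)
      have fr : ∀ R : Submodule k V, v ∉ R → Module.finrank k ↥(R ⊔ k ∙ v) = Module.finrank k R + 1 := by
        intro R hR
        have h0 : R ⊓ (k ∙ v) = ⊥ := disjoint_iff.mp (Submodule.disjoint_span_singleton_of_notMem hR)
        have := Submodule.finrank_sup_add_finrank_inf_eq R (k ∙ v)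
        rw [h0, finrank_bot, finrank_span_singleton (fun e => hR (by rw [e]; exact R.zero_mem))] at this
        omega
      obtain ⟨C, hPC, hQC⟩ := ih (P ⊔ k ∙ v) (Q ⊔ k ∙ v) (by rw [fr P hvP]; omega) (by rw [fr P hvP, fr Q hvQ]; omega)
      refine ⟨(k ∙ v) ⊔ C, ⟨?_, ?_⟩, ⟨?_, ?_⟩⟩
      · exact (Submodule.disjoint_span_singleton_of_notMem hvP).disjoint_sup_right_of_disjoint_sup_left hPC.disjoint
      · rw [codisjoint_iff, ← sup_assoc]; exact hPC.sup_eq_top
      · exact (Submodule.disjoint_span_singleton_of_notMem hvQ).disjoint_sup_right_of_disjoint_sup_left hQC.disjoint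
      · rw [codisjoint_iff, ← sup_assoc]; exact hQC.sup_eq_top
  let N := T.comap (LinearMap.inl k V (Module.Dual k V))
  let g : T →ₗ[k] Module.Dual k V := (LinearMap.snd k V (Module.Dual k V)).comp T.subtype
  let W := LinearMap.range g
  have hker : Module.finrank k (LinearMap.ker g) = Module.finrank k N := by
    refine LinearEquiv.finrank_eq (LinearEquiv.ofBijective
      ({ toFun := fun t => ⟨t.1.1.1, by
            have h2 : t.1.1.2 = 0 := t.2
            change (t.1.1.1, (0 : Module.Dual k V)) ∈ T
            rw [← h2]; exact t.1.2⟩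
         map_add' := fun _ _ => rfl
         map_smul' := fun _ _ => rfl } : LinearMap.ker g →ₗ[k] N) ⟨?_, ?_⟩)
    · rintro ⟨⟨⟨a, f⟩, hT1⟩, hf⟩ ⟨⟨⟨b, f'⟩, hT2⟩, hf'⟩ e
      obtain rfl : f = 0 := hf
      obtain rfl : f' = 0 := hf'
      obtain rfl : a = b := congrArg Subtype.val e
      rfl
    · rintro ⟨a, ha⟩; exact ⟨⟨⟨(a, 0), ha⟩, rfl⟩, rfl⟩
  have hW : Module.finrank k W + Module.finrank k N = Module.finrank k V := by
    have := LinearMap.finrank_range_add_finrank_ker (K := k) (V := T) (V₂ := Module.Dual k V) g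
    rw [hT, hker] at this
    exact this
  have hQ : Module.finrank k W.dualCoannihilator = Module.finrank k N := by
    have := Subspace.finrank_add_finrank_dualCoannihilator_eq W
    omega
  obtain ⟨C, hNC, hQC⟩ := common (Module.finrank k V - Module.finrank k N) N W.dualCoannihilator
    (by have := N.finrank_le; omega) hQ
  refine ⟨C, hNC, fun A₁ hA => (Submodule.eq_bot_iff _).mpr ?_⟩
  rintro ⟨v, f⟩ ⟨hf, hT'⟩
  have hf' := hf
  rw [SetLike.mem_coe, LinearMap.mem_graph_iff] at hf'
  dsimp only at hf'
  subst hf'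
  set f := ((Submodule.projectionOnto _ C hNC).dualMap ∘ₗ A₁ ∘ₗ Submodule.projectionOnto _ C hNC) v with hfdef
  have hfC : ∀ c ∈ C, f c = 0 := fun c hc => by
    simp [hfdef, Submodule.projectionOnto_apply_right hNC ⟨c, hc⟩]
  have hfW : f ∈ W := ⟨⟨(v, f), hT'⟩, rfl⟩
  have hf0 : f = 0 := by
    refine LinearMap.ext fun a => ?_
    obtain ⟨q, c, rfl⟩ : ∃ (q : W.dualCoannihilator) (c : C), (q : V) + c = a := by
      obtain ⟨q, hq, c, hc, e⟩ := Submodule.mem_sup.mp (hQC.sup_eq_top ▸ Submodule.mem_top : a ∈ _)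
      exact ⟨⟨q, hq⟩, ⟨c, hc⟩, e⟩
    rw [map_add, Submodule.mem_dualCoannihilator _ |>.mp q.2 f hfW, hfC c c.2]
    simp
  have hp : Submodule.projectionOnto _ C hNC v = 0 := by
    apply hA
    rw [map_zero]
    refine LinearMap.ext fun a => ?_
    have := LinearMap.congr_fun hf0 (a : V)
    simpa [hfdef, Submodule.projectionOnto_apply_left hNC a] using this
  have hvN : v ∈ N := by
    change (v, (0 : Module.Dual k V)) ∈ T
    rw [← hf0]; exact hT'
  have : v = 0 := by
    have h2 := Submodule.projectionOnto_apply_left hNC ⟨v, hvN⟩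
    rw [hp] at h2
    simpa using (congrArg Subtype.val h2).symm
  simp [Prod.ext_iff, this, hfdef]

end Groth.Agent.S14478
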