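import Groth.Statements.S14479
import Mathlib.LinearAlgebra.Matrix.BilinearForm
import Mathlib.LinearAlgebra.Matrix.NonsingularInverse
import Mathlib.LinearAlgebra.FiniteDimensional.Basic

set_option autoImplicit false
universe u
open CharCyc

namespace Groth.Agent.S14479

/-- Let V be a finite-dimensional vector space over a field k. If dim V is even or the characteristic of
k is different from 2, there is a bilinear form B on V such that the bilinear form (v, w) ↦ B(v, w)
+ B(w, v) (B plus its transpose, as a map V → V^∨) is nondegenerate. -/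
theorem result (k V : Type u) [Field k] [AddCommGroup V] [Module k V]
    [FiniteDimensional k V] (h : Even (Module.finrank k V) ∨ ringChar k ≠ 2) :
    ∃ B : LinearMap.BilinForm k V, (B + B.flip).Nondegenerate := by
  classical
  suffices key : ∃ n, Nonempty (Module.Basis (Fin n) k V) ∧
      ∃ M : Matrix (Fin n) (Fin n) k, (M + M.transpose).det ≠ 0 by
    obtain ⟨n, ⟨b⟩, M, hM⟩ := key
    refine ⟨Matrix.toBilin b M, ?_⟩
    have : Matrix.toBilin b M + (Matrix.toBilin b M).flip = Matrix.toBilin b (M + M.transpose) := by
      rw [map_add]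
      congr 1
      refine LinearMap.BilinForm.ext_basis b fun i j => ?_
      simp [Matrix.toBilin_apply, Finsupp.single_apply]
    rw [this, LinearMap.BilinForm.nondegenerate_iff_det_ne_zero b, LinearMap.BilinForm.toMatrix_toBilin]
    exact hM
  rcases h with ⟨m, hm⟩ | h
  · refine ⟨m + m, ⟨Module.finBasisOfFinrankEq k V hm⟩, ?_⟩
    let M : Matrix (Fin m ⊕ Fin m) (Fin m ⊕ Fin m) k := Matrix.fromBlocks 0 1 0 0
    refine ⟨Matrix.reindex finSumFinEquiv finSumFinEquiv M, ?_⟩
    rw [show Matrix.reindex finSumFinEquiv finSumFinEquiv M +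
        (Matrix.reindex finSumFinEquiv finSumFinEquiv M).transpose =
        Matrix.reindex finSumFinEquiv finSumFinEquiv (M + M.transpose) by ext; simp,
      Matrix.det_reindex_self]
    have h1 : (M + M.transpose) * (M + M.transpose) = 1 := by
      simp [M, Matrix.fromBlocks_transpose, Matrix.fromBlocks_add, Matrix.fromBlocks_multiply,
        Matrix.fromBlocks_one]
    exact fun h0 => by simpa [h0] using congrArg Matrix.det h1
  · refine ⟨_, ⟨Module.finBasis k V⟩, 1, ?_⟩
    have h2 : (2 : k) ≠ 0 := Ring.two_ne_zero h
    rw [Matrix.transpose_one, ← two_smul k (1 : Matrix _ _ k), Matrix.det_smul, Matrix.det_one, mul_one]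
    exact pow_ne_zero _ h2

end Groth.Agent.S14479
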