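import Groth.Statements.S14481
import Groth.Agent.Lib.CharDimH7.ComponentsIff

set_option autoImplicit false
universe u
open CategoryTheory AlgebraicGeometry
open CharCyc

namespace Groth.Agent.S14481

/-- First equivalence: let k be a field, let π : C → X be a morphism between k-schemes of finite type
such that every irreducible component of C has dimension n, and let ι : W → X be a regular immersion
of codimension c. The following are equivalent: (a) ι meets C properly, that is, whenever P is an
irreducible component of C and Q is an irreducible component of P ×_X W (the subspace P ∩ π⁻¹(ι(W))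
of C), one has dim Q = dim P − c; (b) dim C ×_X W ≤ n − c (the subspace π⁻¹(ι(W)) of C). Dimensions
are written additively: dim Q + c = n and dim π⁻¹(ι(W)) + c ≤ n, the empty space having dimension ⊥.
(Stated for each of the four kinds of regular immersion of codimension c — regular, Koszul-regular,
H₁-regular, quasi-regular; the published statement does not distinguish kinds.) -/
theorem result (k : Type u) [Field k] (C X W : Scheme.{u})
    (q : X ⟶ Spec (CommRingCat.of k)) (π : C ⟶ X) (ι : W ⟶ X)
    [LocallyOfFiniteType q] [CompactSpace X] [LocallyOfFiniteType π] [CompactSpace C]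
    (κ : RegImm.Kind) (n c : ℕ) (hι : RegImm.IsRegularImmersionOfCodim κ c ι)
    (hC : ∀ P ∈ irreducibleComponents (C : Type u), topologicalKrullDim P = n) :
    (∀ P ∈ irreducibleComponents (C : Type u), ∀ Q ∈ irreducibleComponents (P ∩ π ⁻¹' Set.range ι : Set C),
        topologicalKrullDim Q + (c : WithBot ℕ∞) = n) ↔
      topologicalKrullDim (π ⁻¹' Set.range ι : Set C) + (c : WithBot ℕ∞) ≤ n := by
  haveI : IsImmersion ι := hι.1
  refine Groth.Agent.CharDimH7.components_dim_iff q π ι n c (fun w => ?_) hC
  obtain ⟨U, h1, h2, rs, h3, -, h4⟩ := hι.2 w
  exact ⟨U, h1, h2, rs, h3, h4⟩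

end Groth.Agent.S14481
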