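import Groth.Statements.S14482
import Groth.Agent.Lib.CharDimH7.Preimage

set_option autoImplicit false
universe u
open CategoryTheory AlgebraicGeometry
open CharCyc

namespace Groth.Agent.S14482

/-- Second assertion: let k be a field, let π : C → X be a morphism between k-schemes of finite type
such that every irreducible component of C has dimension n, let ι : W → X be a regular immersion of
codimension c, and for j ≥ 0 let B_j ⊆ X be the set of points whose fibre under π has dimension at
least j. Assume that every B_j is closed in X. Then dim B_j + j ≤ n for every j, and the condition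
dim π⁻¹(ι(W)) + c ≤ n (that is, dim C ×_X W ≤ n − c) holds if and only if dim ι⁻¹(B_j) + c + j ≤ n
for every j (that is, ι meets the sequence (B_j) n-semi-properly). Dimensions are topological Krull
dimensions of subspaces, the empty space having dimension ⊥. (Stated for each of the four kinds of
regular immersion of codimension c — regular, Koszul-regular, H₁-regular, quasi-regular; the
published statement does not distinguish kinds.) -/
theorem result (k : Type u) [Field k] (C X W : Scheme.{u})
    (q : X ⟶ Spec (CommRingCat.of k)) (π : C ⟶ X) (ι : W ⟶ X)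
    [LocallyOfFiniteType q] [CompactSpace X] [LocallyOfFiniteType π] [CompactSpace C]
    (κ : RegImm.Kind) (n c : ℕ) (hι : RegImm.IsRegularImmersionOfCodim κ c ι)
    (hC : ∀ P ∈ irreducibleComponents (C : Type u), topologicalKrullDim P = n)
    (hB : ∀ j : ℕ, IsClosed {x : X | (j : WithBot ℕ∞) ≤ topologicalKrullDim (π.fiber x)}) :
    (∀ j : ℕ, topologicalKrullDim {x : X | (j : WithBot ℕ∞) ≤ topologicalKrullDim (π.fiber x)} + (j : WithBot ℕ∞) ≤ n) ∧
      (topologicalKrullDim (π ⁻¹' Set.range ι : Set C) + (c : WithBot ℕ∞) ≤ n ↔
        ∀ j : ℕ, topologicalKrullDim (ι ⁻¹' {x : X | (j : WithBot ℕ∞) ≤ topologicalKrullDim (π.fiber x)} : Set W) + (c : WithBot ℕ∞) + (j : WithBot ℕ∞) ≤ n) := by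
  haveI : IsImmersion ι := hι.1
  refine ⟨fun j => ?_, Groth.Agent.CharDimH7.dim_preimage_le_iff q π ι n c hB⟩
  have h := (Groth.Agent.CharDimH7.dim_le_iff q π n).mp (Groth.Agent.CharDimH7.dim_le_of_components q π hC) j
  rwa [(hB j).closure_eq] at h

end Groth.Agent.S14482
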