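import Groth.Statements.S14485
import Groth.Agent.Lib.CharDimH7.DimShift

set_option autoImplicit false
universe u
open CategoryTheory CategoryTheory.Limits AlgebraicGeometry
open CharCyc

namespace Groth.Agent.S14485

/-- Let k be a field and let f : X → S be a morphism between separated k-schemes of finite type. Two
closed subsets Y, Z of X are said to well intersect with respect to f when dim(Y ×_S Z ∖ Y ×_X Z) ≤
dim Y + dim Z − dim S; here Y ×_S Z ∖ Y ×_X Z is taken as the subspace of X ×_S X of points whose
two projections lie in Y and in Z and which are not in the image of the diagonal, and the inequality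
is written additively as dim(Y ×_S Z ∖ Y ×_X Z) + dim S ≤ dim Y + dim Z (topological Krull
dimensions, the empty space having dimension ⊥). Let Y, Z ⊆ X be closed subsets, and let g : S' → S
be faithfully flat with every fibre of dimension d (relative constant dimension d), where S' is
again a separated k-scheme of finite type. Write f' : X' = X ×_S S' → S' for the base change and Y',
Z' ⊆ X' for the preimages of Y, Z. Then well-intersection of Y, Z with respect to f is equivalent to
well-intersection of Y', Z' with respect to f'. -/
theorem result (k : Type u) [Field k] (X S S' : Scheme.{u})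
    (q : S ⟶ Spec (CommRingCat.of k)) (f : X ⟶ S) (g : S' ⟶ S)
    [LocallyOfFiniteType q] [CompactSpace S] [IsSeparated q] [LocallyOfFiniteType f] [CompactSpace X] [IsSeparated f]
    [LocallyOfFiniteType g] [CompactSpace S'] [IsSeparated g] [Flat g] [Surjective g]
    (d : ℕ) (hd : ∀ s : S, topologicalKrullDim (g.fiber s) = d)
    (Y Z : Set X) (hYc : IsClosed Y) (hZc : IsClosed Z) :
    (topologicalKrullDim {p : ↥(pullback f f) | pullback.fst f f p ∈ Y ∧ pullback.snd f f p ∈ Z ∧ p ∉ Set.range (pullback.diagonal f)} + topologicalKrullDim S ≤ topologicalKrullDim Y + topologicalKrullDim Z) ↔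
      (topologicalKrullDim {p : ↥(pullback (pullback.snd f g) (pullback.snd f g)) | pullback.fst (pullback.snd f g) (pullback.snd f g) p ∈ ((pullback.fst f g) ⁻¹' Y) ∧ pullback.snd (pullback.snd f g) (pullback.snd f g) p ∈ ((pullback.fst f g) ⁻¹' Z) ∧ p ∉ Set.range (pullback.diagonal (pullback.snd f g))} + topologicalKrullDim S' ≤ topologicalKrullDim ((pullback.fst f g) ⁻¹' Y) + topologicalKrullDim ((pullback.fst f g) ⁻¹' Z)) := by
  exact Groth.Agent.CharDimH7.wellIntersect_iff_baseChange q f g d hd Y Z hYc hZc

end Groth.Agent.S14485
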