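import Groth.Statements.S14486
import Groth.Agent.Lib.SurfRR10.Curves
import Groth.Agent.S11341

set_option autoImplicit false
set_option linter.style.haveILetI false
set_option maxHeartbeats 2000000
set_option backward.isDefEq.respectTransparency false
set_option backward.isDefEq.respectTransparency.types false
universe u
open CategoryTheory CategoryTheory.Limits AlgebraicGeometry
open Surf

namespace Groth.Agent.S14486

noncomputable local instance instLawS14486 (Y : Scheme.{u}) : PicGrp.Law Y := M2.law Y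

/-- Let k be an algebraically closed field and X a projective K3 surface over k: an integral scheme of
dimension two with all local rings (regular (k := k)), admitting a closed immersion into some P^n_k over k,
whose structure sheaf O_X is a second exterior power of Ω_{X/k} (the canonical sheaf is trivial) and
with H^1(X, O_X) = 0. Let C be a nonsingular curve of genus g on X: an integral closed subscheme of
dimension one with all local rings (regular (k := k)), with ideal sheaf I ⊆ O_X and g = dim_k H^1(C, O_C); let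
M be an inverse of I for the tensor product (M = O_X(C)). Then C² = 2g - 2 and h^0(X, O_X(C)) = g +
1. Writing (L·L') for the intersection number χ(O_X) - χ(L) - χ(L') + χ(L ⊗ L') of two invertible
modules (packaged as FGA.intNum), C² = (I·I), so the assertion reads (I·I) = 2g - 2 and dim_k H^0(X,
M) = g + 1. (A K3 surface is only required to be proper; this row assumes the projective embedding.) -/
theorem result (k : Type u) [Field k] [IsAlgClosed k] (X : Scheme.{u})
    [X.Over (Spec (CommRingCat.of k))] [IsIntegral X] (hdim : topologicalKrullDim X = 2)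
    (hreg : ∀ x : X, IsRegularLocalRing (X.presheaf.stalk x))
    (hproj : ∃ (n : ℕ) (ι : X ⟶ CohB1.ProjSpace n k), IsClosedImmersion ι ∧
      ι ≫ CohB1.ProjSpace.toSpec n k = (X ↘ (Spec (CommRingCat.of k))))
    (hK : ExtPow.IsExtPow 2 (Omega.sheaf (X ↘ (Spec (CommRingCat.of k)))) (Coh.structureModule X))
    (hH1 : Subsingleton (Coh.HH X (Coh.structureModule X) 1))
    (C : Scheme.{u}) (i : C ⟶ X) [IsClosedImmersion i] [IsIntegral C] (hC : topologicalKrullDim C = 1)
    (hCreg : ∀ c : C, IsRegularLocalRing (C.presheaf.stalk c))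
    (M : X.Modules) (hM : ClSub.IsInverseOf M (ClSub.idealMod i.ker)) :
    letI : C.Over (Spec (CommRingCat.of k)) := ⟨i ≫ (X ↘ (Spec (CommRingCat.of k)))⟩
    FGA.intNum k X 2 ![ClSub.idealMod i.ker, ClSub.idealMod i.ker] (Coh.structureModule X) =
        2 * (Curv2.genus k C : ℤ) - 2 ∧
      Module.finrank k (Coh.HH X M 0) = Curv2.genus k C + 1 := by
  obtain ⟨r, ι, hι1, hι⟩ := hproj
  haveI := hι1
  haveI := NumPoly18.isProper_of_closedImmersion ι hι
  haveI : Smooth (X ↘ Spec (CommRingCat.of k)) :=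
    RegSmooth17.smooth_of_regular_of_perfectField (X ↘ Spec (CommRingCat.of k)) hreg
  have hd := SurfRR10.dim_eq (k := k) hdim
  have hOi := PicLoc.isInvertible_structureModule X
  haveI : IsIntegral i.ker.subscheme := IsIntegral.of_isIso i.toImage
  have hsupp : topologicalKrullDim (i.ker.support : Set X) = 1 := by
    rw [show (i.ker.support : Set X) = Set.range i from by
      rw [Scheme.Hom.support_ker, i.isClosedEmbedding.isClosed_range.closure_eq], ← hC]
    exact (IsHomeomorph.topologicalKrullDim_eq i.isEmbedding.toHomeomorph i.isEmbedding.toHomeomorph.isHomeomorph).symm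
  obtain ⟨ξ, hker, hξ⟩ := SurfR.exists_eq_ptIdeal i.ker inferInstance hsupp
  rw [hker] at hM
  obtain ⟨hMi, hc⟩ := SurfRR10.cls_of_isInverse (k := k) hdim hξ hM
  have hI := Goodman10.isEffCartier_pt (k := k) (SurfRR10.regular (k := k)) hd hξ
  have hIi := M2.isInvertible_idealMod _ hI
  have hself : SymSq10.sdot k (SurfRR10.ncl (k := k) hdim hξ) (SurfRR10.ncl (k := k) hdim hξ) = 2 * ((letI : C.Over (Spec (CommRingCat.of k)) := ⟨i ≫ (X ↘ Spec (CommRingCat.of k))⟩; Curv2.genus k C) : ℤ) - 2 := by
    have h := Groth.Agent.S11341.result k X hdim hreg ⟨r, ι, hι1, hι⟩ (Coh.structureModule X) hK C i hC hCreg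
    rw [h, hker, SymSq10.intNum_eq' hd.le hIi hIi, SymSq10.intNum_eq' hd.le hIi hOi, SurfRR10.cls_ideal_pt (k := k) hdim hξ,
      PicGrp.cls_structureModule_eq_one, SymSq10.sdot_comm _ (1 : PicLoc.PicSet X), SymSq10.sdot_one_left,
      SurfRR10.sdot_inv_left (k := k) hdim, SurfRR10.sdot_inv_right (k := k) hdim]
    ring
  refine ⟨?_, ?_⟩
  · rw [hker, SymSq10.intNum_eq' hd.le hIi hIi, SurfRR10.cls_ideal_pt (k := k) hdim hξ, SurfRR10.sdot_inv_left (k := k) hdim,
      SurfRR10.sdot_inv_right (k := k) hdim, neg_neg]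
    exact hself
  obtain ⟨H, hH⟩ := SurfRR10.exists_ample (k := k) hdim
  have hw1 : PicGrp.cls (Coh.structureModule X) hOi = 1 := PicGrp.cls_structureModule_eq_one ..
  have hnh := SurfRR10.pos_of_isAmple (k := k) hdim hξ hH
  have hn0 : HypSq10.hh k 0 (SurfRR10.ncl (k := k) hdim hξ)⁻¹ = 0 :=
    SurfRR10.subsingleton_h0_of_neg (k := k) hdim hH _ (by rw [SurfRR10.sdot_inv_left (k := k) hdim]; omega)
  have hdual : ∀ (c : PicLoc.PicSet X) (p : ℕ), p ≤ 2 → HypSq10.hh k p c = HypSq10.hh k (2 - p) c⁻¹ := fun c p hp => by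
    refine (SurfRR10.finrank_duality hdim hK hOi c hp).trans ?_
    rw [hw1, mul_one]; rfl
  have h00 : HypSq10.hh k 0 (1 : PicLoc.PicSet X) = 1 :=
    (CurveCoh17.hequiv k HypSq10.rep_one.some 0).finrank_eq.trans (SurfRR10.finrank_h0_eq_one (k := k))
  have hq : HypSq10.hh k 1 (1 : PicLoc.PicSet X) = 0 := by
    haveI : Subsingleton (Coh.HH X (HypSq10.rep (1 : PicLoc.PicSet X)) 1) :=
      (CurveCoh17.hequiv k HypSq10.rep_one.some 1).toEquiv.subsingleton
    exact Module.finrank_zero_of_subsingleton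
  have hI1 : HypSq10.hh k 1 (SurfRR10.ncl (k := k) hdim hξ)⁻¹ = 0 := by
    haveI : IsNoetherian X := CohFound.isNoetherian_of_isProper (X ↘ Spec (CommRingCat.of k))
    have hS := M2.shortExact_idealMod (NumPoly18.ptIdeal ξ)
    let S := (NumPoly18.ptIdeal ξ)
    letI : S.subscheme.Over (Spec (CommRingCat.of k)) := ⟨S.subschemeι ≫ (X ↘ Spec (CommRingCat.of k))⟩
    haveI : IsProper (S.subscheme ↘ Spec (CommRingCat.of k)) :=
      inferInstanceAs (IsProper (S.subschemeι ≫ (X ↘ Spec (CommRingCat.of k))))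
    haveI := (NumPoly18.isIntegral_pt ξ).1
    obtain ⟨e⟩ := AmpleFin18.nonempty_HH_push (k := k) S.subschemeι rfl _ (M1.isQCoh_structureModule S.subscheme) 0
    obtain ⟨j⟩ := (PicGrp.cls_eq_cls_iff hIi (HypSq10.rep_inv (SurfRR10.ncl (k := k) hdim hξ)⁻¹)).1
      ((SurfRR10.cls_ideal_pt (k := k) hdim hξ hIi).trans (HypSq10.cls_rep _).symm)
    haveI : Subsingleton (Coh.HH X (ClSub.idealMod (NumPoly18.ptIdeal ξ)) 1) := by
      haveI : Module.Finite k (Coh.HH X (Coh.structureModule X) 0) :=
        CohFound.finite_HH_of_isProper _ (M1.isCoh_structureModule X) 0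
      haveI : Module.Finite k (Coh.HH X (ClSub.idealMod (NumPoly18.ptIdeal ξ)) 0) :=
        CohFound.finite_HH_of_isProper _ (Snapper.isCoh_of_isInvertible hIi) 0
      haveI : Subsingleton (Coh.HH X (ClSub.idealMod (NumPoly18.ptIdeal ξ)) 0) := by
        refine (Module.finrank_zero_iff (R := k)).1 ?_
        rw [(CurveCoh17.hequiv k j 0).finrank_eq]
        exact hn0
      have hinj : Function.Injective (CurveCoh17.hmap k (ClSub.toSubscheme (NumPoly18.ptIdeal ξ)) 0) := by
        refine (injective_iff_map_eq_zero _).2 fun x hx => ?_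
        obtain ⟨y, rfl⟩ := (CurveCoh17.exact_hmap_hmap k hS 0 x).1 hx
        rw [Subsingleton.elim y 0, map_zero]
      have h1 : Module.finrank k (Coh.HH X (Coh.structureModule X) 0) =
          Module.finrank k (Coh.HH X (ClSub.quotMod (NumPoly18.ptIdeal ξ)) 0) :=
        (SurfRR10.finrank_h0_eq_one (k := k)).trans (e.finrank_eq.trans (SurfRR10.finrank_h0_eq_one (k := k))).symm
      haveI : Module.Finite k (Coh.HH X (ClSub.quotMod (NumPoly18.ptIdeal ξ)) 0) :=
        CohFound.finite_HH_of_isProper _ (CurveCoh17.isCoh_quotMod _) 0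
      have hsurj := (LinearMap.injective_iff_surjective_of_finrank_eq_finrank h1).1 hinj
      refine subsingleton_of_forall_eq 0 fun x => ?_
      haveI := hH1
      obtain ⟨y, rfl⟩ := (CurveCoh17.exact_hdelta_hmap k hS 0 x).1 (Subsingleton.elim _ _)
      obtain ⟨z, rfl⟩ := hsurj y
      exact (CurveCoh17.exact_hmap_hdelta k hS 0).apply_apply_eq_zero z
    haveI := (CurveCoh17.hequiv k j 1).toEquiv.symm.subsingleton
    exact Module.finrank_zero_of_subsingleton
  have hrr := SurfRR10.rr hdim hK hOi (SurfRR10.ncl (k := k) hdim hξ)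
  rw [SurfRR10.phi, hw1, SymSq10.sdot_comm (SurfRR10.ncl (k := k) hdim hξ) 1, SymSq10.sdot_one_left, hself,
    SymSq10.chi_eq_hh2 hd.le, SymSq10.chi_eq_hh2 hd.le, hdual (SurfRR10.ncl (k := k) hdim hξ) 2 le_rfl,
    hdual (SurfRR10.ncl (k := k) hdim hξ) 1 (by omega), hdual 1 2 le_rfl, inv_one, Nat.sub_self, h00, hq, hn0, hI1] at hrr
  rw [show Module.finrank k (Coh.HH X M 0) = HypSq10.hh k 0 (SurfRR10.ncl (k := k) hdim hξ) from by
    obtain ⟨j⟩ := (PicGrp.cls_eq_cls_iff hMi (HypSq10.rep_inv _)).1 (hc.trans (HypSq10.cls_rep _).symm)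
    exact (CurveCoh17.hequiv k j 0).finrank_eq]
  omega

end Groth.Agent.S14486
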