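import Groth.Statements.S1449
import Groth.Agent.Lib.Weight4.DegOpen

set_option autoImplicit false
universe u
set_option backward.isDefEq.respectTransparency.types false
open FlatMor

namespace Groth.Agent.S1449

open AlgebraicGeometry CategoryTheory Limits in
theorem opens' {X S : Scheme.{u}} (f : X ⟶ S) [Flat f] [LocallyOfFinitePresentation f] [IsSeparated f] [LocallyQuasiFinite f] :
    ∃ U : ℕ → S.Opens, Antitone U ∧ U 0 = ⊤ ∧ ∀ (K : Type u) [Field K] (g : Spec (CommRingCat.of K) ⟶ S) (d : ℕ),
      Set.range ⇑g ⊆ (U d : Set ↑S) ↔ (d : Cardinal.{u}) ≤ Groth.Agent.DegRank.rk (pullback.snd f g) := by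
  have key : ∀ (K : Type u) [Field K] (g : Spec (CommRingCat.of K) ⟶ S) (d : ℕ),
      Set.range ⇑g ⊆ (Groth.Agent.DegRank.degLocus f d : Set ↑S) ↔
        (d : Cardinal.{u}) ≤ Groth.Agent.DegRank.rk (pullback.snd f g) := by
    intro K _ g d
    rw [← Groth.Agent.DegRank.mem_degLocus_iff f g d]
    refine ⟨fun h => h ⟨_, rfl⟩, ?_⟩
    rintro h _ ⟨z, rfl⟩
    rw [Subsingleton.elim (α := PrimeSpectrum K) z (IsLocalRing.closedPoint K)]
    exact h
  refine ⟨Groth.Agent.DegRank.degLocus f, fun a b hab s hs => ?_, ?_, key⟩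
  · obtain ⟨V, hV⟩ := Set.mem_iUnion.1 hs
    exact Set.mem_iUnion.2 ⟨V, le_trans hab hV⟩
  · refine top_le_iff.1 fun s _ => ?_
    exact (key (S.residueField s) (S.fromSpecResidueField s) 0).2 (by simp)
      ⟨IsLocalRing.closedPoint (S.residueField s), Scheme.fromSpecResidueField_apply _ _⟩

open AlgebraicGeometry CategoryTheory Limits in
/-- Consider a separated, flat, locally quasi-finite morphism f : X → S which is locally of finite
presentation. Then there are opens S = U_0 ⊇ U_1 ⊇ U_2 ⊇ ... of S with the property that a morphism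
from the spectrum of a field to S lands in U_d exactly when the base change of X to that field has
rank (of its ring of global functions over the field) at least d. -/
theorem result {X S : Scheme.{u}} (f : X ⟶ S) [Flat f] [LocallyOfFinitePresentation f] [IsSeparated f] [LocallyQuasiFinite f] :
    ∃ U : ℕ → S.Opens, Antitone U ∧ U 0 = ⊤ ∧ ∀ (K : Type u) [Field K] (g : Spec (CommRingCat.of K) ⟶ S) (d : ℕ),
      Set.range ⇑g ⊆ (U d : Set ↑S) ↔ (d : Cardinal.{u}) ≤ (letI := ((Scheme.ΓSpecIso (CommRingCat.of K)).inv ≫ (pullback.snd f g).appTop).hom.toAlgebra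
        Module.rank K (Γ(pullback f g, ⊤) : Type u)) := by
  exact opens' f

end Groth.Agent.S1449
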