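import Groth.Statements.S14498
import Mathlib.CategoryTheory.Abelian.Refinements

set_option autoImplicit false
universe v u
open AbDiag

namespace Groth.Agent.S14498


open CategoryTheory CategoryTheory.Limits in
/-- In an abelian category, let 0 → F → W → E' → 0 (maps a, b) and 0 → E → W → F' → G → G' → 0 (maps c,
d, e, g) be exact sequences such that the composite F → W → F' is a monomorphism. Then the composite
E → W → E' is a monomorphism, and there is a short exact sequence 0 → Coker(E → E') → Coker(F → F')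
→ Ker(G → G') → 0 whose first map is induced by d (through the quotient map b) and whose second map
is induced by e. -/
theorem result
    {V : Type u} [Category.{v} V] [Abelian V] {F W E' E F' G G' : V}
    (a : F ⟶ W) (b : W ⟶ E') (c : E ⟶ W) (d : W ⟶ F') (e : F' ⟶ G) (g : G ⟶ G')
    [Mono a] [Epi b] (wab : a ≫ b = 0) (hab : (ShortComplex.mk a b wab).Exact)
    [Mono c] (wcd : c ≫ d = 0) (hcd : (ShortComplex.mk c d wcd).Exact)
    (wde : d ≫ e = 0) (hde : (ShortComplex.mk d e wde).Exact)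
    (weg : e ≫ g = 0) (heg : (ShortComplex.mk e g weg).Exact) [Epi g]
    (hmono : Mono (a ≫ d)) :
    Mono (c ≫ b) ∧
      ∃ (φ : cokernel (c ≫ b) ⟶ cokernel (a ≫ d)) (ψ : cokernel (a ≫ d) ⟶ kernel g)
        (w : φ ≫ ψ = 0),
        b ≫ cokernel.π (c ≫ b) ≫ φ = d ≫ cokernel.π (a ≫ d) ∧
        cokernel.π (a ≫ d) ≫ ψ ≫ kernel.ι g = e ∧
        (ShortComplex.mk φ ψ w).ShortExact := by
  haveI := hmono
  obtain ⟨φ₀, hφ₀⟩ : ∃ φ₀ : E' ⟶ cokernel (a ≫ d), b ≫ φ₀ = d ≫ cokernel.π (a ≫ d) :=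
    ⟨hab.desc (d ≫ cokernel.π (a ≫ d)) (by show a ≫ d ≫ cokernel.π (a ≫ d) = 0; rw [← Category.assoc, cokernel.condition]),
      hab.g_desc _ _⟩
  let φ : cokernel (c ≫ b) ⟶ cokernel (a ≫ d) := cokernel.desc _ φ₀ (by rw [Category.assoc, hφ₀, reassoc_of% wcd, zero_comp])
  let ψ : cokernel (a ≫ d) ⟶ kernel g := cokernel.desc _ (kernel.lift g e weg) (by
    rw [← cancel_mono (kernel.ι g), Category.assoc, Category.assoc, kernel.lift_ι, wde, comp_zero, zero_comp])
  have hbφ : b ≫ cokernel.π (c ≫ b) ≫ φ = d ≫ cokernel.π (a ≫ d) := by rw [cokernel.π_desc, hφ₀]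
  have hψ : cokernel.π (a ≫ d) ≫ ψ ≫ kernel.ι g = e := by rw [cokernel.π_desc_assoc, kernel.lift_ι]
  have w : φ ≫ ψ = 0 := by
    rw [← cancel_epi (cokernel.π (c ≫ b)), ← cancel_epi b, reassoc_of% hbφ, ← cancel_mono (kernel.ι g), Category.assoc,
      Category.assoc, hψ, wde, comp_zero, comp_zero, zero_comp]
  refine ⟨Preadditive.mono_of_cancel_zero _ fun {T} x hx => ?_, φ, ψ, w, hbφ, hψ, ?_⟩
  · obtain ⟨T₁, t, ht, y, hy⟩ := hab.exact_up_to_refinements (x ≫ c) (by rw [Category.assoc]; exact hx)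
    change t ≫ x ≫ c = y ≫ a at hy
    have hy0 : y = 0 := by
      rw [← cancel_mono (a ≫ d), ← reassoc_of% hy, wcd, comp_zero, comp_zero, zero_comp]
    rw [hy0, zero_comp] at hy
    rw [← cancel_mono c, ← cancel_epi t, hy, zero_comp, comp_zero]
  haveI : Mono φ := by
    refine Preadditive.mono_of_cancel_zero _ fun {T} z hz => ?_
    obtain ⟨T₁, t, ht, v, hv⟩ := surjective_up_to_refinements_of_epi (b ≫ cokernel.π (c ≫ b)) z
    have h0 : (v ≫ d) ≫ cokernel.π (a ≫ d) = 0 := by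
      rw [Category.assoc, ← hbφ, ← reassoc_of% hv, hz, comp_zero]
    obtain ⟨T₂, t', ht', u, hu⟩ := (ShortComplex.exact_of_g_is_cokernel
      (ShortComplex.mk (a ≫ d) (cokernel.π (a ≫ d)) (cokernel.condition _)) (cokernelIsCokernel _)).exact_up_to_refinements _ h0
    change t' ≫ v ≫ d = u ≫ a ≫ d at hu
    obtain ⟨T₃, t'', ht'', r, hr⟩ := hcd.exact_up_to_refinements (t' ≫ v - u ≫ a) (by
      show (t' ≫ v - u ≫ a) ≫ d = 0
      rw [Preadditive.sub_comp, Category.assoc, Category.assoc, hu, sub_self])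
    change t'' ≫ (t' ≫ v - u ≫ a) = r ≫ c at hr
    have hr' := congrArg (fun s => s ≫ b ≫ cokernel.π (c ≫ b)) hr
    simp only [Preadditive.comp_sub, Preadditive.sub_comp, Category.assoc, reassoc_of% wab, zero_comp, comp_zero,
      sub_zero, ← hv] at hr'
    rw [← Category.assoc c b, cokernel.condition, comp_zero] at hr'
    rw [← cancel_epi t, ← cancel_epi t', ← cancel_epi t'', hr', comp_zero, comp_zero, comp_zero]
  haveI : Epi ψ := by
    haveI : Epi (kernel.lift g e weg) := heg.epi_kernelLift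
    exact epi_of_epi_fac (cokernel.π_desc _ _ _)
  refine ShortComplex.ShortExact.mk' ?_ inferInstance inferInstance
  rw [ShortComplex.exact_iff_exact_up_to_refinements]
  intro T x hx
  change x ≫ ψ = 0 at hx
  obtain ⟨T₁, t, ht, v, hv⟩ := surjective_up_to_refinements_of_epi (cokernel.π (a ≫ d)) x
  obtain ⟨T₂, t', ht', r, hr⟩ := hde.exact_up_to_refinements v (by
    show v ≫ e = 0
    rw [← hψ, ← reassoc_of% hv, reassoc_of% hx, zero_comp, comp_zero])
  change t' ≫ v = r ≫ d at hr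
  refine ⟨T₂, t' ≫ t, epi_comp _ _, r ≫ b ≫ cokernel.π (c ≫ b), ?_⟩
  show (t' ≫ t) ≫ x = (r ≫ b ≫ cokernel.π (c ≫ b)) ≫ φ
  rw [Category.assoc, hv, reassoc_of% hr, Category.assoc, Category.assoc, hbφ]


end Groth.Agent.S14498
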