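import Groth.Statements.S14503
import Groth.Agent.Lib.Lattice26.Det
import Mathlib.RingTheory.Algebraic.Integral
import Mathlib.RingTheory.Norm.Basic
-- import your own Groth.Agent.* helpers here

set_option autoImplicit false
universe u
open IntTh

namespace Groth.Agent.S14503

/-- Let A ⊆ B be a module-finite extension of domains with A Noetherian local of Krull dimension one, K
⊆ L their fraction fields, and r ∈ B nonzero. Then B/rB has finite length as an A-module and
length_A(B/rB) equals the order at the closed point of A of the norm N_{L/K}(r), i.e.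
length_A(A/(a)) − length_A(A/(b)) for N_{L/K}(r) = a/b. -/
theorem result (A : Type u) [CommRing A] [IsDomain A]
    [IsNoetherianRing A] [IsLocalRing A] (hA : ringKrullDim A = 1) (B : Type u) [CommRing B]
    [IsDomain B] [Algebra A B] (hinj : Function.Injective (algebraMap A B)) [Module.Finite A B]
    (K L : Type u) [Field K] [Field L] [Algebra A K] [IsFractionRing A K] [Algebra B L]
    [IsFractionRing B L] [Algebra K L] [Algebra A L] [IsScalarTower A B L] [IsScalarTower A K L]
    [FiniteDimensional K L] (r : B) (hr : r ≠ 0) :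
    Module.length A (B ⧸ Ideal.span {r}) < ⊤ ∧
      ((Module.length A (B ⧸ Ideal.span {r})).toNat : ℤ) =
        CycAlg.ordFrac A K (Algebra.norm K (algebraMap B L r)) := by
  haveI : IsScalarTower A B L := inferInstance
  let ι : B →ₗ[A] L := (IsScalarTower.toAlgHom A B L).toLinearMap
  have hι : Function.Injective ι := IsFractionRing.injective B L
  let M : Submodule A L := LinearMap.range ι
  haveI : Submodule.IsLattice K M := by
    refine ⟨by rw [show M = LinearMap.range ι from rfl, LinearMap.range_eq_map]; exact Module.Finite.fg_top.map _, ?_⟩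
    rw [eq_top_iff]
    intro x _
    obtain ⟨b, s, hs, rfl⟩ := IsFractionRing.div_surjective (A := B) x
    haveI : Algebra.IsIntegral A B := Algebra.IsIntegral.of_finite A B
    obtain ⟨a, ha, c, hc⟩ := (Algebra.IsIntegral.isIntegral (R := A) s).isAlgebraic.exists_nonzero_dvd hs
    have ha' : algebraMap A L a ≠ 0 := by
      rw [IsScalarTower.algebraMap_apply A B L]
      exact fun h => ha (hinj (by rw [map_zero]; exact (IsFractionRing.to_map_eq_zero_iff).1 h))
    have hs' : algebraMap B L s ≠ 0 := IsFractionRing.to_map_ne_zero_of_mem_nonZeroDivisors hs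
    have e : algebraMap B L b / algebraMap B L s = (algebraMap A K a)⁻¹ • ι (b * c) := by
      rw [Algebra.smul_def, map_inv₀, ← IsScalarTower.algebraMap_apply A K L]
      show _ = _ * algebraMap B L (b * c)
      rw [map_mul, IsScalarTower.algebraMap_apply A B L a, hc, map_mul]
      rw [IsScalarTower.algebraMap_apply A B L a, hc, map_mul] at ha'
      field_simp
      exact (mul_div_cancel_right₀ _ (right_ne_zero_of_mul ha')).symm
    rw [e]
    exact Submodule.smul_mem _ _ (Submodule.subset_span ⟨_, rfl⟩)
  let f : L →ₗ[K] L := Algebra.lmul K L (algebraMap B L r)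
  have hr' : algebraMap B L r ≠ 0 := fun h => hr ((IsFractionRing.to_map_eq_zero_iff).1 h)
  have hf : LinearMap.det f ≠ 0 := by
    show LinearMap.det (Algebra.lmul K L (algebraMap B L r)) ≠ 0
    exact Algebra.norm_ne_zero_iff.2 hr'
  have hmap : M.map (f.restrictScalars A) = ((Ideal.span {r}).restrictScalars A).map ι := by
    ext x
    constructor
    · rintro ⟨_, ⟨b, rfl⟩, rfl⟩
      exact ⟨r * b, Ideal.mul_mem_right _ _ (Ideal.mem_span_singleton_self r), map_mul (algebraMap B L) r b⟩
    · rintro ⟨y, hy, rfl⟩
      obtain ⟨b, rfl⟩ := Ideal.mem_span_singleton'.1 hy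
      exact ⟨ι b, ⟨b, rfl⟩, ((map_mul (algebraMap B L) b r).trans (mul_comm _ _)).symm⟩
  haveI := Lattice26.isLattice_map (A := A) M f hf
  have key := Lattice26.F_eq_ord hA.le M f hf
  have hlt := Lattice26.quotient_length_lt_top K hA.le M (M.map (f.restrictScalars A))
  have hle : M.map (f.restrictScalars A) ≤ M := by
    rw [hmap]; exact LinearMap.map_le_range
  have hlen : Module.length A (↥M ⧸ (M.map (f.restrictScalars A)).submoduleOf M) =
      Module.length A (B ⧸ Ideal.span {r}) := by
    have hM : M = (⊤ : Submodule A B).map ι := (Submodule.map_top ι).symm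
    rw [hmap, hM, Lattice26.length_quotient_map ι hι,
      (Submodule.Quotient.equiv (((Ideal.span {r}).restrictScalars A).submoduleOf ⊤) ((Ideal.span {r}).restrictScalars A)
        Submodule.topEquiv (by
          ext x; exact ⟨fun ⟨y, hy, e⟩ => e ▸ hy, fun hx => ⟨⟨x, trivial⟩, hx, rfl⟩⟩)).length_eq,
      (Submodule.Quotient.restrictScalarsEquiv A (Ideal.span {r})).length_eq]
  rw [hlen] at hlt
  refine ⟨hlt, ?_⟩
  rw [show Algebra.norm K (algebraMap B L r) = LinearMap.det f from rfl, ← key]
  simp only [Lattice26.F, Lattice26.dist]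
  rw [inf_eq_right.2 hle, hlen, Submodule.submoduleOf_self]
  simp

end Groth.Agent.S14503
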