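import Groth.Statements.S14504
import Mathlib.LinearAlgebra.Matrix.Rank
import Mathlib.LinearAlgebra.Matrix.NonsingularInverse
import Mathlib.Data.Finset.Sort
import Mathlib.Order.Interval.Finset.Fin

set_option autoImplicit false
universe u
open IntTh

namespace Groth.Agent.S14504

/-- Let K be a field, d ≤ n, λ = (λ₁ ≥ ⋯ ≥ λ_d) a non-increasing sequence of natural numbers, d_i = n −
d + i − λ_i, and V_j ⊆ K^n the span of the first j standard basis vectors. For a d × n matrix A over
K with linearly independent rows spanning the subspace W: one has dim(W ∩ V_{d_i}) ≥ i for every i =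
1, …, d if and only if every d × d minor of A taken on strictly increasing columns j₁ < ⋯ < j_d
(1-indexed) with j_i > d_i for some i vanishes. (Indices are 0-based in the formal statement: row i
: Fin d stands for i + 1 and column l : Fin n for l + 1.) -/
theorem result (K : Type u) [Field K] (n d : ℕ)
    (hdn : d ≤ n) (V : ℕ → Submodule K (Fin n → K))
    (hV : ∀ (j : ℕ) (v : Fin n → K), v ∈ V j ↔ ∀ l : Fin n, j ≤ (l : ℕ) → v l = 0)
    (lam : Fin d → ℕ) (hlam : Antitone lam) (A : Matrix (Fin d) (Fin n) K)
    (hA : LinearIndependent K (fun i : Fin d => A i)) :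
    (∀ i : Fin d, (i : ℕ) + 1 ≤
        Module.finrank K ↥(Submodule.span K (Set.range fun i : Fin d => A i) ⊓
          V (n - d + ((i : ℕ) + 1) - lam i))) ↔
      ∀ J : Fin d → Fin n, StrictMono J →
        (∃ i : Fin d, n - d + ((i : ℕ) + 1) - lam i < (J i : ℕ) + 1) →
          (A.submatrix id J).det = 0 := by
  classical
  let col : Fin n → (Fin d → K) := fun l i => A i l
  let L : (Fin d → K) →ₗ[K] (Fin n → K) := Fintype.linearCombination K fun i => A i
  have hLinj : Function.Injective L := linearIndependent_iff_injective_fintypeLinearCombination.1 hA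
  have hLr : LinearMap.range L = Submodule.span K (Set.range fun i => A i) := Fintype.range_linearCombination K _
  let T : ℕ → Set (Fin n) := fun D => {l | D ≤ (l : ℕ)}
  -- the key dimension formula
  have key : ∀ D, Module.finrank K ↥(Submodule.span K (Set.range fun i : Fin d => A i) ⊓ V D) +
      Module.finrank K ↥(Submodule.span K (col '' T D)) = d := by
    intro D
    let B : Matrix (Fin d) {l : Fin n // D ≤ (l : ℕ)} K := A.submatrix id Subtype.val
    have h1 := LinearMap.finrank_range_add_finrank_ker B.vecMulLinear
    rw [Module.finrank_fin_fun] at h1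
    have h2 : Module.finrank K (LinearMap.range B.vecMulLinear) = Module.finrank K ↥(Submodule.span K (col '' T D)) := by
      have e : B.rank = Module.finrank K (LinearMap.range B.vecMulLinear) := by
        rw [← Matrix.rank_transpose, Matrix.rank, Matrix.mulVecLin_transpose]
      rw [← e, Matrix.rank_eq_finrank_span_cols]
      refine LinearEquiv.finrank_eq (LinearEquiv.ofEq _ _ ?_)
      refine congrArg (Submodule.span K) (Set.ext fun v => ⟨?_, ?_⟩)
      · rintro ⟨⟨l, hl⟩, rfl⟩; exact ⟨l, hl, rfl⟩
      · rintro ⟨l, hl, rfl⟩; exact ⟨⟨l, hl⟩, rfl⟩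
    have h3 : (LinearMap.ker B.vecMulLinear).map L = Submodule.span K (Set.range fun i : Fin d => A i) ⊓ V D := by
      ext v
      rw [Submodule.mem_inf, hV, ← hLr]
      have hc : ∀ c l, L c l = Matrix.vecMul c A l := fun c l => by
        simp [L, Fintype.linearCombination_apply, Matrix.vecMul, dotProduct, Finset.sum_apply]
      constructor
      · rintro ⟨c, hc', rfl⟩
        refine ⟨⟨c, rfl⟩, fun l hl => ?_⟩
        rw [hc]
        exact congrFun (LinearMap.mem_ker.1 hc') ⟨l, hl⟩
      · rintro ⟨⟨c, rfl⟩, hl⟩
        refine ⟨c, LinearMap.mem_ker.2 (funext fun l => ?_), rfl⟩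
        have := hl l.1 l.2
        rwa [hc] at this
    rw [← h3, ← (Submodule.equivMapOfInjective L hLinj _).finrank_eq, ← h2]
    omega
  constructor
  · rintro h J hJ ⟨i, hi⟩
    by_contra hdet
    have hli : LinearIndependent K (fun s => col (J s)) := Matrix.linearIndependent_cols_of_det_ne_zero hdet
    set D := n - d + ((i : ℕ) + 1) - lam i with hD
    let W := Submodule.span K (col '' T D)
    let w : Set.Ici i → W := fun s => ⟨col (J s), Submodule.subset_span ⟨J s, by
      show D ≤ (J s : ℕ)
      have : (J i : ℕ) ≤ J s := hJ.monotone s.2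
      omega, rfl⟩⟩
    have hw : LinearIndependent K w := by
      apply LinearIndependent.of_comp W.subtype
      exact hli.comp Subtype.val Subtype.val_injective
    have h1 := hw.fintype_card_le_finrank
    have h2 := key D
    have h3 := h i
    rw [← hD] at h3
    rw [← Nat.card_eq_fintype_card, Nat.card_coe_set_eq, ← Finset.coe_Ici, Set.ncard_coe_finset,
      Fin.card_Ici] at h1
    change _ ≤ Module.finrank K ↥(Submodule.span K (col '' T D)) at h1
    have := i.isLt
    omega
  · intro h i
    set D := n - d + ((i : ℕ) + 1) - lam i with hD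
    by_contra hlt
    rw [not_le] at hlt
    have h2 := key D
    obtain ⟨b, hbT, -, hbspan, hb⟩ :=
      exists_linearIndepOn_extension (v := col) (linearIndepOn_empty K col) (Set.empty_subset (T D))
    obtain ⟨b', -, hbb', hb'span, hb'⟩ := exists_linearIndepOn_extension (v := col) hb (Set.subset_univ b)
    have hbcard : d - (i : ℕ) ≤ b.toFinset.card := by
      have h4 : Module.finrank K ↥(Submodule.span K (col '' b)) = b.toFinset.card := by
        rw [Set.image_eq_range]
        refine (finrank_span_eq_card hb).trans ?_
        rw [Set.toFinset_card]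
      have h5 : Submodule.span K (col '' b) = Submodule.span K (col '' T D) :=
        le_antisymm (Submodule.span_mono (Set.image_mono hbT)) (Submodule.span_le.2 hbspan)
      rw [h5] at h4
      omega
    have htop : Submodule.span K (col '' Set.univ) = ⊤ := by
      apply Submodule.eq_top_of_finrank_eq
      have h6 := key 0
      rw [show T 0 = Set.univ from Set.eq_univ_of_forall fun l => Nat.zero_le _] at h6
      rw [Module.finrank_fin_fun]
      have h7 : Submodule.span K (Set.range fun i : Fin d => A i) ⊓ V 0 = ⊥ := by
        refine eq_bot_iff.2 fun v hv => ?_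
        rw [Submodule.mem_bot]
        funext l
        exact (hV 0 v).1 hv.2 l (Nat.zero_le _)
      rw [h7, finrank_bot] at h6
      omega
    have hb'card : b'.toFinset.card = d := by
      have h4 : Module.finrank K ↥(Submodule.span K (col '' b')) = b'.toFinset.card := by
        rw [Set.image_eq_range]
        refine (finrank_span_eq_card hb').trans ?_
        rw [Set.toFinset_card]
      have h5 : Submodule.span K (col '' b') = ⊤ := by
        rw [eq_top_iff, ← htop, Submodule.span_le]; exact hb'span
      rw [h5, finrank_top, Module.finrank_fin_fun] at h4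
      exact h4.symm
    let J := b'.toFinset.orderEmbOfFin hb'card
    have hJmem : ∀ s, J s ∈ b' := fun s => Set.mem_toFinset.1 (Finset.orderEmbOfFin_mem _ _ s)
    have hJi : D ≤ (J i : ℕ) := by
      by_contra hc
      have hsub : b.toFinset ⊆ (Finset.Ioi i).image J := by
        intro l hl
        rw [Set.mem_toFinset] at hl
        have hl' : l ∈ b'.toFinset := Set.mem_toFinset.2 (hbb' hl)
        rw [← Finset.image_orderEmbOfFin_univ b'.toFinset hb'card, Finset.mem_image] at hl'
        obtain ⟨s, -, hs⟩ := hl'
        refine Finset.mem_image.2 ⟨s, Finset.mem_Ioi.2 ?_, hs⟩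
        by_contra hsi
        have h8 : (J s : ℕ) ≤ J i := J.monotone (not_lt.1 hsi)
        have h9 : D ≤ (J s : ℕ) := by rw [show J s = l from hs]; exact hbT hl
        omega
      have h10 := (Finset.card_le_card hsub).trans Finset.card_image_le
      rw [Fin.card_Ioi] at h10
      have := i.isLt
      omega
    have hdet := h J J.strictMono ⟨i, by omega⟩
    have hli : LinearIndependent K (fun s => col (J s)) :=
      LinearIndependent.comp hb' (fun s => ⟨J s, hJmem s⟩) fun s s' hss => J.injective (by simpa using congrArg Subtype.val hss)
    have hu : IsUnit (A.submatrix id J) := Matrix.linearIndependent_cols_iff_isUnit.1 hli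
    rw [Matrix.isUnit_iff_isUnit_det, hdet] at hu
    exact not_isUnit_zero hu

end Groth.Agent.S14504
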