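import Groth.Statements.S14505
import Mathlib

set_option autoImplicit false
universe u
open IntTh

namespace Groth.Agent.S14505

open PowerSeries Finset

variable {R : Type u} [CommRing R]

/-- The geometric series. -/
noncomputable def geo (a : R) : R⟦X⟧ := PowerSeries.mk fun m => (-a) ^ m

lemma geo_mul (a : R) : geo a * (1 + C a * X) = 1 := by
  ext n
  rw [mul_add, mul_one, map_add, show geo a * (C a * X) = C a * (geo a * X) by ring, coeff_C_mul]
  rcases n with _ | n
  · simp [geo]
  · rw [coeff_succ_mul_X, geo, coeff_mk, coeff_mk, coeff_one, if_neg (Nat.succ_ne_zero n), pow_succ]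
    ring

/-- Vanishing of coefficients above `n`. -/
def DegLE (n : ℕ) (f : R⟦X⟧) : Prop := ∀ m, n < m → coeff m f = 0

lemma degLE_prod {ι : Type*} (s : Finset ι) (a : ι → R) :
    DegLE s.card (∏ l ∈ s, (1 + C (a l) * X) : R⟦X⟧) := by
  classical
  induction s using Finset.induction_on with
  | empty => intro m hm; simp at hm; rw [prod_empty, coeff_one, if_neg (by omega)]
  | @insert x s hx ih =>
    intro m hm
    rw [card_insert_of_notMem hx] at hm
    obtain ⟨m, rfl⟩ : ∃ m', m = m' + 1 := ⟨m - 1, by omega⟩
    rw [prod_insert hx, add_mul, one_mul, map_add, mul_assoc, coeff_C_mul, mul_comm X,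
      coeff_succ_mul_X, ih _ (by omega), ih _ (by omega)]
    ring

lemma coeff_mul_geo {ι : Type*} (s : Finset ι) (b : ι → R) (a : R) :
    coeff s.card ((∏ l ∈ s, (1 + C (b l) * X)) * geo a) = ∏ l ∈ s, (b l - a) := by
  classical
  induction s using Finset.induction_on with
  | empty => simp [geo]
  | @insert x s hx ih =>
    have hrec : coeff (s.card + 1) ((∏ l ∈ s, (1 + C (b l) * X)) * geo a) =
        - a * coeff s.card ((∏ l ∈ s, (1 + C (b l) * X)) * geo a) := by
      have h := congrArg (fun g => coeff (s.card + 1) ((∏ l ∈ s, (1 + C (b l) * X)) * g)) (geo_mul a)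
      simp only [mul_one] at h
      rw [← mul_assoc, degLE_prod s b _ (by omega), mul_add, mul_one, map_add,
        show ((∏ l ∈ s, (1 + C (b l) * X)) * geo a) * (C a * X) =
          C a * (((∏ l ∈ s, (1 + C (b l) * X)) * geo a) * X) by ring, coeff_C_mul, coeff_succ_mul_X] at h
      linear_combination h
    rw [card_insert_of_notMem hx, prod_insert hx, prod_insert hx, mul_assoc, add_mul, one_mul, map_add,
      mul_assoc, coeff_C_mul, mul_comm X, coeff_succ_mul_X, hrec, ih]
    ring

lemma coeff_mul_of_degLE {k : ℕ} (f g : R⟦X⟧) (hg : DegLE k g) (e : ℕ) :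
    coeff (e + k) (f * g) = ∑ j ∈ range (k + 1), coeff (e + j) f * coeff (k - j) g := by
  rw [mul_comm f g, coeff_mul, Nat.sum_antidiagonal_eq_sum_range_succ
    (fun p q => coeff p g * coeff q f)]
  rw [← sum_subset (range_mono (show k + 1 ≤ e + k + 1 by omega)) fun m _ hm => by
    rw [hg m (by simp at hm; omega), zero_mul]]
  rw [← sum_range_reflect]
  refine sum_congr rfl fun j hj => ?_
  simp only [mem_range] at hj
  rw [mul_comm, show k + 1 - 1 - j = k - j by omega, show e + k - (k - j) = e + j by omega]

/-- Let R be a commutative ring, α₁, …, α_d, β₁, …, β_e ∈ R, b(t) = ∏ (1 + β_j t), and for k = 1, …, d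
let P_k(t) = b(t)/∏_{i ≤ k} (1 + α_i t) ∈ R⟦t⟧, each factor 1 + α_i t being inverted by its
geometric series; write (P_k)_m for the coefficient of t^m, with (P_k)_m = 0 for m < 0. Then ∏_{i,j}
(β_j − α_i) = det((P_i)_{e+j−i})_{1 ≤ i,j ≤ d}, the d × d determinant whose i-th row is built from
the coefficients of the i-th partial quotient. (Rows and columns are 0-based in the formal
statement, which does not change j − i; the row of index i inverts the factors of index at most i.
The companion form with every row built from the full quotient b/a is stated separately.) -/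
theorem result (R : Type u) [CommRing R] (d e : ℕ)
    (α : Fin d → R) (β : Fin e → R) :
    ∏ i : Fin d, ∏ j : Fin e, (β j - α i) =
      (Matrix.of fun i j : Fin d =>
        if (i : ℕ) ≤ e + (j : ℕ) then
          PowerSeries.coeff (e + (j : ℕ) - (i : ℕ))
            ((∏ j : Fin e, (1 + PowerSeries.C (β j) * PowerSeries.X)) *
              ∏ l : Fin d, if l ≤ i then PowerSeries.mk (fun m => (-α l) ^ m) else 1)
        else 0).det := by
  classical
  let b : R⟦X⟧ := ∏ j : Fin e, (1 + C (β j) * X)
  let P : Fin d → R⟦X⟧ := fun i => b * ∏ l : Fin d, if l ≤ i then geo (α l) else 1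
  let S : Fin d → Finset (Fin d) := fun k => univ.filter (· < k)
  let g : Fin d → R⟦X⟧ := fun k => ∏ l ∈ S k, (1 + C (α l) * X)
  let M : Matrix (Fin d) (Fin d) R := Matrix.of fun i j => coeff (e + j) (X ^ (i : ℕ) * P i)
  let T : Matrix (Fin d) (Fin d) R := Matrix.of fun j k => if j ≤ k then coeff ((k : ℕ) - j) (g k) else 0
  have hM : (Matrix.of fun i j : Fin d =>
        if (i : ℕ) ≤ e + (j : ℕ) then
          PowerSeries.coeff (e + (j : ℕ) - (i : ℕ))
            ((∏ j : Fin e, (1 + PowerSeries.C (β j) * PowerSeries.X)) *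
              ∏ l : Fin d, if l ≤ i then PowerSeries.mk (fun m => (-α l) ^ m) else 1)
        else 0) = M := by
    ext i j
    simp only [M, P, b, geo, Matrix.of_apply, coeff_X_pow_mul']
  rw [hM]
  have hT : T.det = 1 := by
    rw [Matrix.det_of_upperTriangular (fun j k (h : k < j) => by simp [T, not_le.mpr h])]
    refine prod_eq_one fun k _ => ?_
    simp only [T, g, Matrix.of_apply, le_refl, if_true, Nat.sub_self, coeff_zero_eq_constantCoeff, map_prod]
    simp
  have hg : ∀ k : Fin d, DegLE (k : ℕ) (g k) := fun k => by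
    have h := degLE_prod (S k) α
    have hc : (S k).card = k := by
      have : S k = Finset.Iio k := by ext x; simp [S]
      rw [this, Fin.card_Iio]
    rwa [hc] at h
  have hMT : ∀ i k : Fin d, (M * T) i k = coeff (e + k) (X ^ (i : ℕ) * (P i * g k)) := fun i k => by
    rw [← mul_assoc, coeff_mul_of_degLE _ _ (hg k), Matrix.mul_apply]
    simp only [M, T, Matrix.of_apply, mul_ite, mul_zero, Fin.le_def]
    rw [Fin.sum_univ_eq_sum_range (fun j => if j ≤ (k : ℕ) then
      coeff (e + j) (X ^ (i : ℕ) * P i) * coeff ((k : ℕ) - j) (g k) else 0), ← sum_filter]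
    refine sum_congr ?_ fun _ _ => rfl
    ext j; simp; omega
  have hPg : ∀ i k : Fin d, P i * g k = b * ∏ l : Fin d, ((if l ≤ i then geo (α l) else 1) *
      (if l < k then 1 + C (α l) * X else 1)) := fun i k => by
    simp only [P, g, S, prod_filter, mul_assoc, ← prod_mul_distrib]
  have htri : (M * T).BlockTriangular OrderDual.toDual := fun i k (hik : i < k) => by
    rw [hMT, hPg]
    have : ∀ l : Fin d, (if l ≤ i then geo (α l) else 1) * (if l < k then 1 + C (α l) * X else 1) =
        if i < l ∧ l < k then 1 + C (α l) * X else 1 := fun l => by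
      by_cases h1 : l ≤ i
      · rw [if_pos h1, if_pos (lt_of_le_of_lt h1 hik), geo_mul, if_neg (fun h => not_le.mpr h.1 h1)]
      · rw [if_neg h1, one_mul]
        simp [not_le.mp h1]
    simp only [this, ← prod_filter]
    rw [coeff_X_pow_mul', if_pos (by omega)]
    have hb : b * ∏ l ∈ univ.filter (fun l => i < l ∧ l < k), (1 + C (α l) * X) =
        ∏ z ∈ (univ : Finset (Fin e)).disjSum (univ.filter (fun l : Fin d => i < l ∧ l < k)),
          (1 + C (Sum.elim β α z) * X) := by
      simp [b, prod_disjSum]
    rw [hb]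
    apply degLE_prod
    have hc : (univ.filter (fun l : Fin d => i < l ∧ l < k)) = Finset.Ioo i k := by ext x; simp
    rw [card_disjSum, hc, Fin.card_Ioo, card_univ, Fintype.card_fin]
    omega
  have hdet : M.det = ∏ i, (M * T) i i := by
    rw [← Matrix.det_of_lowerTriangular _ htri, Matrix.det_mul, hT, mul_one]
  rw [hdet]
  refine prod_congr rfl fun i _ => ?_
  rw [hMT, hPg, coeff_X_pow_mul', if_pos (by omega), Nat.add_sub_cancel]
  have : ∀ l : Fin d, (if l ≤ i then geo (α l) else 1) * (if l < i then 1 + C (α l) * X else 1) =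
      if l = i then geo (α l) else 1 := fun l => by
    rcases lt_trichotomy l i with h | h | h
    · rw [if_pos h.le, if_pos h, if_neg h.ne, geo_mul]
    · subst h; simp
    · rw [if_neg (not_le.mpr h), if_neg (not_lt.mpr h.le), if_neg h.ne', one_mul]
  simp only [this, prod_ite_eq', mem_univ, if_true]
  have hc := coeff_mul_geo (univ : Finset (Fin e)) β (α i)
  rw [card_univ, Fintype.card_fin] at hc
  exact hc.symm

end Groth.Agent.S14505
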