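import Groth.Statements.S14506
import Groth.Agent.Lib.Todd26.Series
-- import your own Groth.Agent.* helpers here

set_option autoImplicit false
open IntTh

namespace Groth.Agent.S14506

/-- A formal power series f(t) ∈ ℚ⟦t⟧ satisfies, for every n ≥ 0, that the coefficient of t^n in
f(t)^(n+1) is 1, if and only if f(t)·(e^t − 1) = t·e^t, that is f(t) = t/(1 − e^(−t)) = 1 + t/2 +
t²/12 − ⋯. (The published statement is the existence and uniqueness of the Todd class of vector
bundles normalised by multiplicativity, td(O) = 1 and the Riemann–Roch identity for the structure
sheaf of every projective space; this row is the power-series fact its proof establishes: the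
normalisation forces exactly these coefficient conditions on the one-variable series.) -/
theorem result (f : PowerSeries ℚ) :
    (∀ n : ℕ, PowerSeries.coeff n (f ^ (n + 1)) = 1) ↔
      f * (PowerSeries.exp ℚ - 1) = PowerSeries.X * PowerSeries.exp ℚ := by
  exact Todd26.todd_iff f

end Groth.Agent.S14506
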