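import Groth.Statements.S14507
import Groth.Agent.Lib.Euler2.Hodge
import Groth.Agent.Lib.QAGen11.Basic
-- import your own Groth.Agent.* helpers here

set_option autoImplicit false
universe u
open CategoryTheory CategoryTheory.Limits AlgebraicGeometry
open IntTh
open Groth.Agent

namespace Groth.Agent.S14507

/-- Let k be a field, n ≥ 0, P = P^n_k and Ω = Ω_{P/k} its sheaf of differentials (the conormal sheaf of
the diagonal). Every global vector field on P, that is every O_P-linear map ξ : Ω → O_P (a global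
section of the tangent sheaf, the dual of Ω), vanishes at some point: there is x ∈ P such that ξ
maps every local section of Ω over an open neighbourhood of x to a function whose germ at x lies in
the maximal ideal of O_{P,x}. -/
theorem result (k : Type u) [Field k] (n : ℕ)
    (ξ : Omega.sheaf (CohB1.ProjSpace.toSpec n k) ⟶ Coh.structureModule (CohB1.ProjSpace n k)) :
    ∃ x : ↥(CohB1.ProjSpace n k), ∀ (U : (CohB1.ProjSpace n k).Opens) (hx : x ∈ U)
      (s : Γ(Omega.sheaf (CohB1.ProjSpace.toSpec n k), U)),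
      (CohB1.ProjSpace n k).presheaf.germ U x hx (OmegaSh.fnSect (CohB1.ProjSpace n k) U (ξ.app U s)) ∈
        IsLocalRing.maximalIdeal ((CohB1.ProjSpace n k).presheaf.stalk x) := by
  classical
  by_contra hne
  push Not at hne
  let Pn := CohB1.ProjSpace n k
  let Ω := Omega.sheaf (CohB1.ProjSpace.toSpec n k)
  let O := Coh.structureModule Pn
  let P : Pn.affineOpens → Prop := fun U =>
    ∃ t : Γ(Ω, U.1), IsUnit (OmegaSh.fnSect Pn U.1 (ξ.app U.1 t))
  have hP : KoszShH13.IsAffBasis P := fun W x hx => by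
    obtain ⟨U, hxU, s, hs⟩ := hne x
    have hb : x ∈ Pn.basicOpen (OmegaSh.fnSect Pn U (ξ.app U s)) :=
      (Pn.mem_basicOpen _ x hxU).2 (by simpa using hs)
    obtain ⟨V, hV, hxV, hVle⟩ := exists_isAffineOpen_mem_and_subset
      (U := W ⊓ Pn.basicOpen (OmegaSh.fnSect Pn U (ξ.app U s))) (x := x) ⟨hx, hb⟩
    have hle : V ≤ W ⊓ Pn.basicOpen (OmegaSh.fnSect Pn U (ξ.app U s)) := hVle
    have hVU : V ≤ U := hle.trans (inf_le_right.trans (Pn.basicOpen_le _))
    refine ⟨⟨V, hV⟩, ⟨M1.mres Ω hVU s, ?_⟩, hxV, hle.trans inf_le_left⟩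
    rw [M1.app_mres]
    exact (AlgebraicGeometry.RingedSpace.isUnit_res_basicOpen Pn.toRingedSpace (OmegaSh.fnSect Pn U (ξ.app U s))).map
      (Pn.presheaf.map (homOfLE (hle.trans inf_le_right)).op).hom |> fun h => by
        have e := DFunLike.congr_fun (congrArg CommRingCat.Hom.hom (Pn.presheaf.map_comp (homOfLE (Pn.basicOpen_le
          (OmegaSh.fnSect Pn U (ξ.app U s)))).op (homOfLE (hle.trans inf_le_right)).op))
          (OmegaSh.fnSect Pn U (ξ.app U s))
        exact (e ▸ h :)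
  haveI : Epi ξ := Preadditive.epi_of_cancel_zero _ fun {M} g hg => by
    refine KoszShH13.hom_ext_basis hP fun U ht m => ?_
    obtain ⟨t, ht⟩ := ht
    have hm : m = ξ.app U.1 ((OmegaSh.fnSect Pn U.1 m * ↑ht.unit⁻¹) • t) := by
      rw [Scheme.Modules.Hom.app_smul]
      exact (show OmegaSh.fnSect Pn U.1 m = OmegaSh.fnSect Pn U.1 m * ↑ht.unit⁻¹ * OmegaSh.fnSect Pn U.1 (ξ.app U.1 t) by
        rw [mul_assoc, ht.val_inv_mul, mul_one])
    rw [hm]
    exact congrArg (fun φ => φ.app U.1 ((OmegaSh.fnSect Pn U.1 m * ↑ht.unit⁻¹) • t)) hg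
  let S₀ : ShortComplex Pn.Modules := ShortComplex.mk (kernel.ι ξ) ξ (kernel.condition ξ)
  have hS₀ : S₀.ShortExact := ShortComplex.ShortExact.mk' (ShortComplex.exact_kernel ξ) inferInstance ‹_›
  have hΩ := Euler2.isQCoh_omega n k
  have hO : PicF.IsInvertible O := QAGen11.isInvertible_unit Pn
  have hOq : Coh.IsQCoh O := M2.isQCoh_of_isFinLocFree (M2.isFinLocFree_of_isInvertible hO)
  have hKq : Coh.IsQCoh (kernel ξ) := M1.isQCoh_kernel hΩ hOq ξ
  haveI := hKq
  have hC : ∀ j, ExtPow.IsExtPow j (kernel ξ) (Wedge2.extMod j (kernel ξ)) := fun j => Wedge2.isExtPow_extMod j _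
  have hses : ∀ j, ∃ (ι : Wedge2.extMod (j + 1) (kernel ξ) ⟶ Euler2.Om n k (j + 1))
      (π : Euler2.Om n k (j + 1) ⟶ CohB1.tensorMod (Wedge2.extMod j (kernel ξ)) O) (w : ι ≫ π = 0),
      (ShortComplex.mk ι π w).ShortExact := fun j =>
    Euler2.exists_wedge_ses S₀ hS₀ (p := j) rfl (M2.isFinLocFree_of_ofRank (Euler2.rank_omega n k))
      ((M2.isInvertible_iff_isFinLocFreeOfRank_one _).1 hO) (hC (j + 1)) (Euler2.isExtPow_Om n k (j + 1)) (hC j)
      (Wedge2.isQCoh_of_isExtPow hKq (hC j))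
  have hdiag : ∀ j, ¬ Subsingleton (Coh.HH Pn (Wedge2.extMod j (kernel ξ)) j) := by
    intro j
    induction j with
    | zero =>
      intro h
      obtain ⟨e⟩ := ExtFil4.isoExtPow (Euler2.isExtPow_Om n k 0) (ExtFil4.isExtPow_zero _)
      obtain ⟨e'⟩ := ExtFil4.isoExtPow (hC 0) (ExtFil4.isExtPow_zero _)
      obtain ⟨d⟩ := Euler2.nonempty_diag n k 0 (Nat.zero_le n)
      have h2 := Euler2.subsingleton_HH_iso (e' ≪≫ e.symm) h
      exact not_subsingleton k d.symm.toEquiv.subsingleton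
    | succ j ih =>
      intro h
      obtain ⟨ι, π, w, hS⟩ := hses j
      refine ih (Euler2.subsingleton_HH_iso (M2.tensorRUnit (Wedge2.extMod j (kernel ξ))) (Euler2.sub_right hS ?_ h))
      by_cases hj : j + 1 ≤ n
      · exact Euler2.van_zero n k (by omega) (j + 1) j (Or.inl (by omega))
      · exact Euler2.subsingleton_HH_of_isZero (Euler2.isZero_Om n k (by omega)) j
  obtain ⟨ι, π, w, hS⟩ := hses n
  haveI : Mono ι := hS.mono_f
  exact hdiag (n + 1) (Euler2.subsingleton_HH_of_isZero (IsZero.of_mono ι (Euler2.isZero_Om n k (by omega))) _)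

end Groth.Agent.S14507
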