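import Groth.Statements.S14510
import Groth.Agent.Lib.HopfBilin17.Basic

set_option autoImplicit false
universe u v
open CAlgX

namespace Groth.Agent.S14510

/-- Let k be an algebraically closed field, U, V, W finite-dimensional k-vector spaces with U and V
nonzero, and φ : U ⊗ V → W a linear map which is 1-generic, i.e. φ(u ⊗ v) ≠ 0 for all nonzero u and
v (φ is given here as a bilinear map). Then dim W ≥ dim U + dim V − 1. (Algebraic closedness
matters: complex multiplication ℂ ⊗ ℂ → ℂ over the reals is 1-generic with 2 + 2 − 1 > 2.) -/
theorem result (k : Type u) [Field k] [IsAlgClosed k]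
    (U V W : Type v) [AddCommGroup U] [Module k U] [AddCommGroup V] [Module k V] [AddCommGroup W] [Module k W]
    [Module.Finite k U] [Module.Finite k V] [Module.Finite k W] [Nontrivial U] [Nontrivial V]
    (φ : U →ₗ[k] V →ₗ[k] W) (hφ : ∀ (a : U) (b : V), a ≠ 0 → b ≠ 0 → φ a b ≠ 0) :
    Module.finrank k U + Module.finrank k V ≤ Module.finrank k W + 1 := by
  exact HopfBilin.finrank_add_le φ hφ

end Groth.Agent.S14510
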