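import Groth.Statements.S14511
import Mathlib

set_option autoImplicit false
universe u
open CAlgX

namespace Groth.Agent.S14511

/-- Let R be a commutative ring and P ∈ R[x_1, …, x_r] a polynomial of total degree at most r. Then the
coefficient of the monomial x_1 ⋯ x_r in P equals Σ_J (−1)^{|J|} P(δ_J), the sum over all subsets J
⊆ {1, …, r} (the empty one included), where δ_J is the point with coordinate −1 at the indices in J
and 0 at the others. -/
theorem result (R : Type u) [CommRing R] (r : ℕ)
    (P : MvPolynomial (Fin r) R) (hP : P.totalDegree ≤ r) :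
    MvPolynomial.coeff (∑ i : Fin r, Finsupp.single i 1) P =
      ∑ J : Finset (Fin r), (-1 : R) ^ J.card * MvPolynomial.eval (fun j => if j ∈ J then (-1 : R) else 0) P := by
  classical
  conv_lhs => rw [MvPolynomial.as_sum P]
  conv_rhs => enter [2, J]; rw [MvPolynomial.as_sum P, map_sum, Finset.mul_sum]
  rw [MvPolynomial.coeff_sum, Finset.sum_comm]
  refine Finset.sum_congr rfl fun e he => ?_
  have hdeg : ∑ j, e j ≤ r := by
    refine le_trans (le_of_eq ?_) ((MvPolynomial.le_totalDegree he).trans hP)
    rw [Finsupp.sum_fintype]; exact fun _ => rfl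
  have h1 : ∑ J : Finset (Fin r), (-1 : R) ^ J.card * MvPolynomial.eval (fun j => if j ∈ J then (-1 : R) else 0)
      (MvPolynomial.monomial e (MvPolynomial.coeff e P)) =
      MvPolynomial.coeff e P * ∏ j, ((-1 : R) * (-1) ^ e j + 0 ^ e j) := by
    rw [Finset.prod_add, Finset.powerset_univ, Finset.mul_sum]
    refine Finset.sum_congr rfl fun J _ => ?_
    rw [MvPolynomial.eval_monomial, Finsupp.prod_fintype _ _ (fun _ => pow_zero _), Finset.prod_mul_distrib,
      Finset.prod_const, ← Finset.prod_mul_prod_compl J fun j => (if j ∈ J then (-1 : R) else 0) ^ e j,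
      Finset.prod_congr rfl fun j (hj : j ∈ J) => by rw [if_pos hj],
      Finset.prod_congr rfl fun j (hj : j ∈ Jᶜ) => by rw [if_neg (Finset.mem_compl.1 hj)], Finset.compl_eq_univ_sdiff]
    ring
  rw [h1, MvPolynomial.coeff_monomial]
  by_cases hall : ∀ j, e j ≠ 0
  · have h1e : ∀ j, e j = 1 := fun j => by
      have hge : ∀ i ∈ (Finset.univ : Finset (Fin r)), 1 ≤ e i := fun i _ => Nat.one_le_iff_ne_zero.2 (hall i)
      have heq : ∑ i, 1 = ∑ i, e i := le_antisymm (Finset.sum_le_sum hge) (by simpa using hdeg)
      exact ((Finset.sum_eq_sum_iff_of_le hge).1 heq j (Finset.mem_univ j)).symm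
    rw [if_pos (Finsupp.ext fun j => by simp [h1e, Finsupp.single_apply])]
    simp [h1e]
  · simp only [not_forall, not_not] at hall
    obtain ⟨j, hj⟩ := hall
    rw [if_neg fun h => by simpa [hj, Finsupp.single_apply] using DFunLike.congr_fun h j]
    rw [Finset.prod_eq_zero (Finset.mem_univ j) (by simp [hj]), mul_zero]

end Groth.Agent.S14511
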