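import Groth.Statements.S14513
-- import your own Groth.Agent.* helpers here
import Groth.Agent.Lib.CurveOm17.Hurwitz
import Groth.Agent.Lib.CurveCoh17.P1Crit
import Groth.Agent.Lib.CurveCoh17.TracePair
import Mathlib.Tactic.Linarith

set_option autoImplicit false
universe u
open CategoryTheory CategoryTheory.Limits AlgebraicGeometry
open Curves

namespace Groth.Agent.S14513

/-- Let k be an algebraically closed field and f : X → Y a finite, separable morphism of smooth
projective curves over k (X, Y integral, proper and smooth over k, of dimension one; f sends the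
generic point to the generic point and the extension K(X)/K(Y) is separable). If X and Y have the
same genus g = dim_k H^1(O) and g ≥ 2, then f is an isomorphism. (The published statement also
asserts g(X) ≥ g(Y) and that equality holds exactly when f is an isomorphism, both curves are
projective lines, or both have genus one; this row states the equality case for genus at least two.) -/
theorem result (k : Type u) [Field k] [IsAlgClosed k]
    (X : Scheme.{u}) [X.Over (Spec (CommRingCat.of k))] [IsIntegral X] [IsProper (X ↘ (Spec (CommRingCat.of k)))] [Smooth (X ↘ (Spec (CommRingCat.of k)))] (hdimX : topologicalKrullDim X = 1)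
    (Y : Scheme.{u}) [Y.Over (Spec (CommRingCat.of k))] [IsIntegral Y] [IsProper (Y ↘ (Spec (CommRingCat.of k)))] [Smooth (Y ↘ (Spec (CommRingCat.of k)))] (hdimY : topologicalKrullDim Y = 1)
    (f : X ⟶ Y) [IsFinite f] (hf : f ≫ (Y ↘ (Spec (CommRingCat.of k))) = (X ↘ (Spec (CommRingCat.of k))))
    (e : f (genericPoint X) = genericPoint Y)
    (hg : Curv2.genus k X = Curv2.genus k Y) (h2 : 2 ≤ Curv2.genus k Y) :
    letI := ((Y.presheaf.stalkSpecializes (specializes_of_eq e) ≫ f.stalkMap (genericPoint X)).hom).toAlgebra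
    Algebra.IsSeparable Y.functionField X.functionField → IsIso f := by
  intro hsep
  have huX := Groth.Agent.Omega12.isUniversal_dOmega (f := X ↘ Spec (CommRingCat.of k))
  have huY := Groth.Agent.Omega12.isUniversal_dOmega (f := Y ↘ Spec (CommRingCat.of k))
  obtain ⟨hX, h0X, -⟩ := Groth.Agent.VB17.setup (k := k) (X := X) hdimX
  obtain ⟨hY, h0Y, -⟩ := Groth.Agent.VB17.setup (k := k) (X := Y) hdimY
  obtain ⟨-, -, -, hdx, -⟩ := Groth.Agent.CurveOm17.exists_isDualizing_omega' hdimX h0X huX
  obtain ⟨-, -, -, hdy, -⟩ := Groth.Agent.CurveOm17.exists_isDualizing_omega' hdimY h0Y huY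
  have hH := Groth.Agent.CurveOm17.deg_omega_eq f hdimX hdimY hf e hsep huX huY
  rw [hdx, hdy] at hH
  haveI := hY.like.noetherian
  haveI := Groth.Agent.CurveCoh17.flat_of_pid f hY.pid e
  haveI : LocallyOfFinitePresentation f := {
    finitePresentation_appLE := fun {U} hU {V} hV le =>
      haveI := IsLocallyNoetherian.component_noetherian (X := Y) ⟨U, hU⟩
      RingHom.FinitePresentation.of_finiteType.mp (f.finiteType_appLE hU hV le) }
  obtain ⟨n, hn⟩ := Groth.Agent.VB17.exists_rank_of_isFinLocFree (Groth.Agent.CurveCoh17.isFinLocFree_pushO f)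
  have hnd : n = f.residueDegree (genericPoint X) :=
    (Groth.Agent.VB17.finrank_stalk hn (f (genericPoint X))).symm.trans
      (Groth.Agent.AmpleFin18.finrank_pushO_genericPoint hdimX.le hdimY f e rfl)
  have hpos : 0 < n := Nat.pos_of_ne_zero fun h0 => by
    subst h0
    obtain ⟨e₀⟩ := Groth.Agent.CurveCoh17.nonempty_stalk_equiv hn (genericPoint Y)
    have h1 : (Groth.Agent.CurveCoh17.pushO f).presheaf.germ ⊤ (genericPoint Y) trivial (1 : Γ(X, f ⁻¹ᵁ ⊤)) = 0 :=
      e₀.injective (Subsingleton.elim _ _)
    obtain ⟨W, hW', i₁, i₂, he⟩ := (Groth.Agent.CurveCoh17.pushO f).presheaf.germ_eq (genericPoint Y) (U := ⊤) (V := ⊤)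
      trivial trivial (1 : Γ(X, f ⁻¹ᵁ ⊤)) 0 (h1.trans (map_zero _).symm)
    rw [map_zero] at he
    replace he : (X.presheaf.map (homOfLE (f.preimage_mono i₁.le)).op) (1 : Γ(X, f ⁻¹ᵁ ⊤)) = 0 := he
    rw [map_one] at he
    haveI : Nonempty ((f ⁻¹ᵁ W : X.Opens) : Scheme.{u}) :=
      ⟨⟨genericPoint X, show f (genericPoint X) ∈ W from e ▸ hW'⟩⟩
    exact one_ne_zero he
  have h1 : f.residueDegree (genericPoint X) = 1 := by
    by_contra hne
    have h2' : (2 : ℤ) ≤ f.residueDegree (genericPoint X) := by exact_mod_cast (show 2 ≤ f.residueDegree (genericPoint X) by omega)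
    have hg' : (Curv2.genus k X : ℤ) = Curv2.genus k Y := by exact_mod_cast hg
    have h2g : (2 : ℤ) ≤ Curv2.genus k Y := by exact_mod_cast h2
    nlinarith
  obtain rfl : n = 1 := hnd.trans h1
  exact Groth.Agent.CurveCoh17.isIso_of_rank_one f hn

end Groth.Agent.S14513
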