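import Groth.Statements.S14514
import Groth.Agent.Lib.VarDim.Irred

set_option autoImplicit false
universe u
open CategoryTheory CategoryTheory.Limits AlgebraicGeometry
open Variety

namespace Groth.Agent.S14514

/-- Let k be an algebraically closed field and f : X → Y a morphism of algebraic varieties over k (X, Y
reduced, separated and of finite type over k) such that Y is irreducible and the image f(X) is dense
in Y. Then X contains an irreducible closed subset Z with dim Z = dim Y such that f(Z) is dense in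
Y. -/
theorem result (k : Type u) [Field k] [IsAlgClosed k]
    (X Y : Scheme.{u}) [X.Over (Spec (CommRingCat.of k))] [Y.Over (Spec (CommRingCat.of k))]
    [IsReduced X] [IsSeparated (X ↘ (Spec (CommRingCat.of k)))] [LocallyOfFiniteType (X ↘ (Spec (CommRingCat.of k)))] [QuasiCompact (X ↘ (Spec (CommRingCat.of k)))]
    [IsReduced Y] [IsSeparated (Y ↘ (Spec (CommRingCat.of k)))] [LocallyOfFiniteType (Y ↘ (Spec (CommRingCat.of k)))] [QuasiCompact (Y ↘ (Spec (CommRingCat.of k)))] [IrreducibleSpace Y]
    (f : X ⟶ Y) (hf : f ≫ (Y ↘ (Spec (CommRingCat.of k))) = (X ↘ (Spec (CommRingCat.of k)))) [IsDominant f] :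
    ∃ Z : Set X, IsClosed Z ∧ IsIrreducible Z ∧ topologicalKrullDim ↥Z = topologicalKrullDim Y ∧
      Dense (f '' Z) := by
  haveI hqY : LocallyOfFiniteType (Y ↘ Spec (CommRingCat.of k)) := inferInstance
  haveI : LocallyOfFiniteType f := by
    have : LocallyOfFiniteType (f ≫ (Y ↘ Spec (CommRingCat.of k))) := hf ▸ inferInstance
    exact locallyOfFiniteType_of_comp f (Y ↘ Spec (CommRingCat.of k))
  haveI : QuasiCompact f := by
    have : QuasiCompact (f ≫ (Y ↘ Spec (CommRingCat.of k))) := hf ▸ inferInstance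
    exact QuasiCompact.of_comp f (Y ↘ Spec (CommRingCat.of k))
  set q := Y ↘ Spec (CommRingCat.of k)
  haveI := Groth.Agent.VarDim.noetherianSpace_of_finiteType (f ≫ q)
  obtain ⟨G, hG⟩ := Groth.Agent.VarDim.exists_finite_generic (X := X) isClosed_univ
  obtain ⟨x₀, hx₀⟩ : ∃ x, f x = genericPoint Y := by
    have hcl : IsClosed (⋃ g ∈ G, closure ({f g} : Set Y)) := isClosed_biUnion_finset fun _ _ => isClosed_closure
    have hsub : Set.range f ⊆ ⋃ g ∈ G, closure ({f g} : Set Y) := by
      rintro _ ⟨x, rfl⟩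
      obtain ⟨g, hg, hgx⟩ := (hG x).mp trivial
      exact Set.mem_biUnion hg (specializes_iff_mem_closure.mp (hgx.map f.continuous))
    obtain ⟨g, -, hg⟩ := Set.mem_iUnion₂.mp (closure_minimal hsub hcl (f.denseRange (genericPoint Y)))
    exact ⟨g, ((specializes_iff_mem_closure.mpr hg).antisymm (genericPoint_specializes _)).eq⟩
  obtain ⟨x, hxη, hs⟩ := Groth.Agent.VarDim.exists_closed_in_fibre q f (genericPoint Y) ⟨x₀, hx₀⟩
  refine ⟨closure {x}, isClosed_closure, isIrreducible_singleton.closure, ?_, ?_⟩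
  · rw [Groth.Agent.VarDim.dim_closure_singleton (f ≫ q), hs, Groth.Agent.VarDim.dim_eq_sdim_genericPoint q]
  · refine Dense.mono (Set.singleton_subset_iff.mpr ⟨x, subset_closure rfl, hxη⟩) ?_
    exact dense_iff_closure_eq.mpr (genericPoint_spec Y)

end Groth.Agent.S14514
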