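import Groth.Statements.S14515
import Groth.Agent.Lib.VdWPurity4.Basic
import Groth.Agent.Lib.NumPoly18.SurfCartier
import Groth.Agent.Lib.SmoothReg17.Basic
import Groth.Agent.S2821
-- import your own Groth.Agent.* helpers here

set_option autoImplicit false
universe u
open CategoryTheory CategoryTheory.Limits AlgebraicGeometry
open Variety

namespace Groth.Agent.S14515

/-- Let k be an algebraically closed field and f : X → Y a proper, birational morphism over k between
smooth, irreducible varieties (X, Y integral, separated, of finite type and smooth over k; f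
restricts to an isomorphism over some nonempty open subset of Y). Let Exc(f) ⊆ X be the exceptional
locus: the points x such that f restricts to an isomorphism over no open neighbourhood of f(x). Then
Exc(f) has pure codimension one: every irreducible component of Exc(f) has dimension dim X − 1. -/
theorem result (k : Type u) [Field k] [IsAlgClosed k]
    (X Y : Scheme.{u}) [X.Over (Spec (CommRingCat.of k))] [Y.Over (Spec (CommRingCat.of k))]
    [IsIntegral X] [IsSeparated (X ↘ (Spec (CommRingCat.of k)))] [LocallyOfFiniteType (X ↘ (Spec (CommRingCat.of k)))] [QuasiCompact (X ↘ (Spec (CommRingCat.of k)))] [Smooth (X ↘ (Spec (CommRingCat.of k)))]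
    [IsIntegral Y] [IsSeparated (Y ↘ (Spec (CommRingCat.of k)))] [LocallyOfFiniteType (Y ↘ (Spec (CommRingCat.of k)))] [QuasiCompact (Y ↘ (Spec (CommRingCat.of k)))] [Smooth (Y ↘ (Spec (CommRingCat.of k)))]
    (f : X ⟶ Y) (hf : f ≫ (Y ↘ (Spec (CommRingCat.of k))) = (X ↘ (Spec (CommRingCat.of k)))) [IsProper f]
    (hbir : ∃ V : Y.Opens, (V : Set Y).Nonempty ∧ IsIso (f ∣_ V)) :
    ∀ Z ∈ irreducibleComponents ↥{x : X | ∀ V : Y.Opens, f x ∈ V → ¬ IsIso (f ∣_ V)},
      topologicalKrullDim ↥Z + 1 = topologicalKrullDim X := by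
  let sX := X ↘ Spec (CommRingCat.of k)
  let sY := Y ↘ Spec (CommRingCat.of k)
  haveI : IsLocallyNoetherian X := LocallyOfFiniteType.isLocallyNoetherian sX
  haveI : IsLocallyNoetherian Y := LocallyOfFiniteType.isLocallyNoetherian sY
  obtain ⟨V₀, hV₀, hV₀iso⟩ := hbir
  obtain ⟨hgen, hbiriso⟩ := BiratPt18.birational_of_isIso_restrict f V₀ hV₀ hV₀iso
  have hreg : ∀ y : Y, IsDomain (Y.presheaf.stalk y) ∧ UniqueFactorizationMonoid (Y.presheaf.stalk y) := fun y => by
    haveI : IsRegularLocalRing (Y.presheaf.stalk y) := SmoothReg17.isRegularLocalRing_stalk sY y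
    exact Groth.Agent.S2821.result _
  let E : Set X := {x : X | ∀ V : Y.Opens, f x ∈ V → ¬ IsIso (f ∣_ V)}
  have hEc : IsClosed E := by
    rw [← isOpen_compl_iff, isOpen_iff_forall_mem_open]
    intro x hx
    simp only [E, Set.mem_compl_iff, Set.mem_setOf_eq, not_forall, not_not] at hx
    obtain ⟨V, hxV, hV⟩ := hx
    exact ⟨f ⁻¹ᵁ V, fun z hz hzE => hzE V hz hV, (f ⁻¹ᵁ V).isOpen, hxV⟩
  intro Z hZ
  have hZc : IsClosed Z := isClosed_of_mem_irreducibleComponents Z hZ
  have hZ'c : IsClosed (Subtype.val '' Z) := hEc.isClosedEmbedding_subtypeVal.isClosedMap Z hZc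
  have hZ'i : IsIrreducible (Subtype.val '' Z) := hZ.1.image _ continuous_subtype_val.continuousOn
  obtain ⟨x, hxgen⟩ := QuasiSober.sober hZ'i hZ'c
  have hxZ : x ∈ Subtype.val '' Z := hxgen.def ▸ subset_closure rfl
  obtain ⟨⟨x₀, hxE⟩, hx₀, rfl⟩ := hxZ
  have hmax : ∀ x' : X, x' ⤳ x₀ → (∀ V : Y.Opens, f x' ∈ V → ¬ IsIso (f ∣_ V)) → x' = x₀ := by
    intro x' hx' hE'
    let e : E := ⟨x', hE'⟩
    have hsub : Z ⊆ closure {e} := by
      intro z hz
      rw [← specializes_iff_mem_closure, subtype_specializes_iff]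
      exact hx'.trans (specializes_iff_mem_closure.mpr (hxgen.def ▸ ⟨z, hz, rfl⟩ : z.1 ∈ closure {x₀}))
    have heq := hZ.2 isIrreducible_singleton.closure hsub
    have he : e ∈ Z := heq (subset_closure rfl)
    have hsp : x₀ ⤳ x' := specializes_iff_mem_closure.mpr (hxgen.def ▸ ⟨e, he, rfl⟩ : x' ∈ closure {x₀})
    exact (hx'.antisymm hsp).eq
  have hle := VdWPurity4.ringKrullDim_stalk_le_one f hgen hbiriso hreg x₀ hxE hmax
  have hne : x₀ ≠ genericPoint X := by
    intro e
    refine hxE V₀ ?_ hV₀iso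
    rw [e, hgen]
    exact ((genericPoint_spec Y).mem_open_set_iff V₀.isOpen).mpr (by simpa using hV₀)
  have hd := VarDim.dim_eq_sdim_genericPoint sX
  have h1 := NumPoly18.ringKrullDim_stalk_of_sdim (k := k) hd x₀
  have hlt := VarDim.sdim_lt_of_specializes sX (genericPoint_specializes x₀) hne.symm
  have hdimZ : topologicalKrullDim ↥Z = topologicalKrullDim ↥(closure ({x₀} : Set X)) := by
    rw [hxgen.def]
    exact IsHomeomorph.topologicalKrullDim_eq _
      ((Topology.IsEmbedding.subtypeVal.homeomorphImage Z).isHomeomorph)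
  rw [hdimZ, VarDim.dim_closure_singleton sX, hd]
  generalize hr : ringKrullDim (X.presheaf.stalk x₀) = r at h1 hle
  cases r with
  | bot => exact absurd hr (ne_bot_of_gt (lt_of_lt_of_le (WithBot.bot_lt_coe 0) ringKrullDim_nonneg_of_nontrivial))
  | coe m =>
    rw [← WithBot.coe_natCast, ← WithBot.coe_natCast, ← WithBot.coe_add, WithBot.coe_inj] at h1
    have hm : m ≤ 1 := by exact_mod_cast hle
    have hm1 : m = 1 := by
      rcases (hm.lt_or_eq.imp_left ENat.lt_one_iff_eq_zero.mp) with h0 | h0
      · exfalso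
        rw [h0, zero_add] at h1
        exact hlt.ne (by exact_mod_cast h1)
      · exact h0
    rw [hm1] at h1
    have h2 : 1 + VarDim.sdim sX x₀ = VarDim.sdim sX (genericPoint X) := by exact_mod_cast h1
    rw [← h2]
    push_cast
    rw [add_comm]

end Groth.Agent.S14515
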