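import Groth.Statements.S14518
import Groth.Agent.Lib.CurveCoh17.GenericZero
import Groth.Agent.Lib.CurveCoh17.Section
import Groth.Agent.Lib.HopfBilin17.Basic
import Groth.Agent.Lib.CohFound.ProperFinite
import Groth.Agent.Lib.CohFound.ProjQuot
import Groth.Agent.Lib.TensorMod.Invertible

set_option autoImplicit false
universe u
open CategoryTheory CategoryTheory.Limits AlgebraicGeometry
open Variety

namespace Groth.Agent.S14518

/-- Let k be an algebraically closed field, X an irreducible variety over k, taken here complete (X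
integral and proper over k, so that spaces of global sections are finite-dimensional), and E_1, E_2
vector bundles (finite locally free O_X-modules) on X with H^0(X, E_1) ≠ 0 and H^0(X, E_2) ≠ 0. Then
dim_k H^0(X, E_1 ⊗ E_2) ≥ dim_k H^0(X, E_1) + dim_k H^0(X, E_2) − 1. (The published statement allows
any irreducible variety; for non-complete X the spaces of sections may be infinite-dimensional and
the inequality carries no content, so X is taken complete here.) -/
theorem result (k : Type u) [Field k] [IsAlgClosed k]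
    (X : Scheme.{u}) [X.Over (Spec (CommRingCat.of k))] [IsIntegral X] [IsProper (X ↘ (Spec (CommRingCat.of k)))]
    (E₁ E₂ : X.Modules) (h₁ : FlatMod.IsFinLocFree E₁) (h₂ : FlatMod.IsFinLocFree E₂)
    [Nontrivial (Coh.HH X E₁ 0)] [Nontrivial (Coh.HH X E₂ 0)] :
    Module.finrank k (Coh.HH X E₁ 0) + Module.finrank k (Coh.HH X E₂ 0) ≤
      Module.finrank k (Coh.HH X (CohB1.tensorMod E₁ E₂) 0) + 1 := by
  let f := X ↘ Spec (CommRingCat.of k)
  haveI : IsLocallyNoetherian X := LocallyOfFiniteType.isLocallyNoetherian f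
  have hfin : ∀ M : X.Modules, FlatMod.IsFinLocFree M → Module.Finite k (Coh.HH X M 0) := fun M hM =>
    Groth.Agent.CohFound.finite_HH_of_isProper M (Groth.Agent.CohFound.isCoh_of_isFinLocFree hM) 0
  haveI := hfin E₁ h₁
  haveI := hfin E₂ h₂
  haveI := hfin _ (Groth.Agent.M2.isFinLocFree_tensor h₁ h₂)
  let e : ∀ M : X.Modules, Coh.HH X M 0 ≃+ Γ(M, ⊤) := fun M => Groth.Agent.CurveCoh17.hh0 M
  have he : ∀ (M : X.Modules) (c : k) (z : Coh.HH X M 0),
      e M (c • z) = (show Γ(X, ⊤) from Coh.toGlobal f c) • e M z :=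
    fun M c z => Groth.Agent.CurveCoh17.hh0_smul (Coh.toGlobal f c) z
  let T := CohB1.tensorMod E₁ E₂
  let β : Coh.HH X E₁ 0 →ₗ[k] Coh.HH X E₂ 0 →ₗ[k] Coh.HH X T 0 :=
    LinearMap.mk₂ k (fun z w => (e T).symm (Groth.Agent.M2.tsec E₁ E₂ (e E₁ z) (e E₂ w)))
      (fun z z' w => by rw [map_add, Groth.Agent.M2.tsec_add_left, map_add])
      (fun c z w => (e T).injective (by
        rw [he, he, (e T).apply_symm_apply, (e T).apply_symm_apply, Groth.Agent.M2.tsec_smul_left]))
      (fun z w w' => by rw [map_add, Groth.Agent.M2.tsec_add_right, map_add])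
      (fun c z w => (e T).injective (by
        rw [he, he, (e T).apply_symm_apply, (e T).apply_symm_apply, Groth.Agent.M2.tsec_smul_right]))
  refine Groth.Agent.HopfBilin.finrank_add_le β fun z w hz hw h0 => ?_
  have hgen : ∀ (M : X.Modules), FlatMod.IsFinLocFree M → ∀ s : Γ(M, ⊤), s ≠ 0 →
      M.presheaf.germ ⊤ (genericPoint X) trivial s ≠ 0 := by
    intro M hM s hs h
    haveI : Coh.IsQCoh M := (Groth.Agent.CohFound.isCoh_of_isFinLocFree hM).1
    refine hs (Groth.Agent.GenericZero.eq_zero_of_maxPt (fun x => ?_) s fun y hy hmax => ?_)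
    · haveI := ((Groth.Agent.M1.isFinLocFree_iff M).1 hM).2 x
      infer_instance
    · obtain rfl : genericPoint X = y := hmax _ (genericPoint_specializes y)
      exact h
  have hF : IsField (X.presheaf.stalk (genericPoint X)) :=
    Groth.Agent.GenericZero.isField_stalk_of_maxPt
      (fun y hy => hy.antisymm (genericPoint_specializes y) |>.eq)
  have ha := hgen E₁ h₁ (e E₁ z) ((map_ne_zero_iff _ (e E₁).injective).2 hz)
  have hb := hgen E₂ h₂ (e E₂ w) ((map_ne_zero_iff _ (e E₂).injective).2 hw)
  have ht : Groth.Agent.M2.tsec E₁ E₂ (e E₁ z) (e E₂ w) = 0 := by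
    have := congrArg (e T) h0
    simpa [β] using this
  have h := Groth.Agent.M2.stalkEquiv_tsec E₁ E₂ (genericPoint X) (U := ⊤) trivial (e E₁ z) (e E₂ w)
  rw [ht, map_zero, map_zero] at h
  haveI := ((Groth.Agent.M1.isFinLocFree_iff E₁).1 h₁).2 (genericPoint X)
  haveI := ((Groth.Agent.M1.isFinLocFree_iff E₂).1 h₂).2 (genericPoint X)
  set R := X.presheaf.stalk (genericPoint X)
  haveI : IsDomain R := inferInstance
  let b₁ := Module.Free.chooseBasis R (E₁.presheaf.stalk (genericPoint X))
  let b₂ := Module.Free.chooseBasis R (E₂.presheaf.stalk (genericPoint X))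
  obtain ⟨i, hi⟩ : ∃ i, b₁.repr (E₁.presheaf.germ ⊤ (genericPoint X) trivial (e E₁ z)) i ≠ 0 :=
    not_forall.1 fun hall => ha (b₁.repr.injective (by rw [map_zero]; exact Finsupp.ext hall))
  obtain ⟨j, hj⟩ : ∃ j, b₂.repr (E₂.presheaf.germ ⊤ (genericPoint X) trivial (e E₂ w)) j ≠ 0 :=
    not_forall.1 fun hall => hb (b₂.repr.injective (by rw [map_zero]; exact Finsupp.ext hall))
  have h2 := congrArg (fun t => (b₁.tensorProduct b₂).repr t (i, j)) h.symm
  simp only [Module.Basis.tensorProduct_repr_tmul_apply, map_zero, Finsupp.coe_zero, Pi.zero_apply, smul_eq_mul] at h2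
  rw [Module.Basis.tensorProduct_repr_tmul_apply] at h2
  exact (mul_ne_zero hj hi) h2

end Groth.Agent.S14518
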