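import Groth.Statements.S14519
import Groth.Agent.Lib.Curve17.Birat
import Groth.Agent.Lib.VarDim.Irred
import Mathlib.AlgebraicGeometry.Morphisms.UniversallyOpen
import Mathlib.AlgebraicGeometry.Morphisms.Separated

set_option autoImplicit false
universe u
open CategoryTheory CategoryTheory.Limits AlgebraicGeometry
open Curves

namespace Groth.Agent.S14519
open Groth.Agent TopologicalSpace
set_option linter.style.haveILetI false

/-- Let k be an algebraically closed field and f : X → Y a birational morphism over k between smooth
curves (X, Y integral, separated, of finite type and smooth over k, of dimension one; f sends the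
generic point of X to that of Y and the induced map of function fields K(Y) → K(X) is bijective).
Then f is an open immersion. -/
theorem result (k : Type u) [Field k] [IsAlgClosed k]
    (X Y : Scheme.{u}) [X.Over (Spec (CommRingCat.of k))] [Y.Over (Spec (CommRingCat.of k))]
    [IsIntegral X] [IsSeparated (X ↘ (Spec (CommRingCat.of k)))] [LocallyOfFiniteType (X ↘ (Spec (CommRingCat.of k)))] [QuasiCompact (X ↘ (Spec (CommRingCat.of k)))] [Smooth (X ↘ (Spec (CommRingCat.of k)))] (hdimX : topologicalKrullDim X = 1)
    [IsIntegral Y] [IsSeparated (Y ↘ (Spec (CommRingCat.of k)))] [LocallyOfFiniteType (Y ↘ (Spec (CommRingCat.of k)))] [QuasiCompact (Y ↘ (Spec (CommRingCat.of k)))] [Smooth (Y ↘ (Spec (CommRingCat.of k)))] (hdimY : topologicalKrullDim Y = 1)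
    (f : X ⟶ Y) (hf : f ≫ (Y ↘ (Spec (CommRingCat.of k))) = (X ↘ (Spec (CommRingCat.of k))))
    (e : f (genericPoint X) = genericPoint Y)
    (hbir : Function.Bijective (Y.presheaf.stalkSpecializes (specializes_of_eq e) ≫ f.stalkMap (genericPoint X)).hom) :
    IsOpenImmersion f := by
  set pX := X ↘ (Spec (CommRingCat.of k))
  set pY := Y ↘ (Spec (CommRingCat.of k))
  haveI : LocallyOfFiniteType (f ≫ pY) := hf ▸ inferInstance
  haveI : LocallyOfFiniteType f := locallyOfFiniteType_of_comp f pY
  haveI : IsLocallyNoetherian Y := LocallyOfFiniteType.isLocallyNoetherian pY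
  haveI : LocallyOfFinitePresentation f := inferInstance
  haveI : IsSeparated (f ≫ pY) := hf ▸ inferInstance
  haveI : IsSeparated f := IsSeparated.of_comp f pY
  have hv : ∀ y : Y, IsPrincipalIdealRing (Y.presheaf.stalk y) ∧ ValuationRing (Y.presheaf.stalk y) := by
    intro y
    by_cases hy : y = genericPoint Y
    · subst hy
      letI : Field (Y.presheaf.stalk (genericPoint Y)) := inferInstanceAs (Field Y.functionField)
      exact ⟨inferInstance, inferInstance⟩
    · haveI := SmoothReg17.isIntegrallyClosed_stalk pY y
      haveI := Curve17.isDiscreteValuationRing_stalk hdimY (Curve17.isClosed_singleton hdimY.le hy)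
      exact ⟨inferInstance, inferInstance⟩
  haveI : Flat f := (Flat.iff_flat_stalkMap f).2 fun x => Curve17.flat_stalkMap_of_dvr f e x (hv (f x)).1
  haveI : UniversallyOpen f := inferInstance
  have hiso : ∀ x, IsIso (f.stalkMap x) := fun x =>
    (ConcreteCategory.isIso_iff_bijective _).2 (Curve17.bijective_stalkMap_of_birational f e hbir x (hv (f x)).2)
  exact IsOpenImmersion.iff_isIso_stalkMap.2
    ⟨.of_continuous_injective_isOpenMap f.continuous (Curve17.injective_of_birational f e hiso) f.isOpenMap, hiso⟩

end Groth.Agent.S14519
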