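import Groth.Statements.S1452
import Groth.Agent.Lib.Branch14.UnrEtaleGlobal

set_option autoImplicit false
universe u
open FlatMor

namespace Groth.Agent.S1452

set_option backward.isDefEq.respectTransparency.types false
open AlgebraicGeometry CategoryTheory

open AlgebraicGeometry CategoryTheory Limits in
/-- Let f : X → Y and g : Y → Z with Y integral and the local ring of Y at y = f x geometrically
unibranch; assume g ∘ f is étale on an open neighbourhood of x and some generization of x maps to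
the generic point of Y. Then f is étale on an open neighbourhood of x and g is étale on an open
neighbourhood of y. -/
theorem result {X Y Z : Scheme.{u}} (f : X ⟶ Y) (g : Y ⟶ Z) [IsIntegral Y] (x : X)
    (hY : CAlg2.IsGeomUnibranch (Y.presheaf.stalk (f x))) (het : ∃ U : X.Opens, x ∈ U ∧ Etale (U.ι ≫ f ≫ g))
    (hsp : ∃ x' : X, x' ⤳ x ∧ f x' = genericPoint ↑Y) :
    (∃ U : X.Opens, x ∈ U ∧ Etale (U.ι ≫ f)) ∧ ∃ V : Y.Opens, f x ∈ V ∧ Etale (V.ι ≫ g) := by
  obtain ⟨U, hxU, hU⟩ := het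
  obtain ⟨x', hx', hfx'⟩ := hsp
  have : Etale ((U.ι ≫ f) ≫ g) := by rw [Category.assoc]; exact hU
  have : LocallyOfFiniteType (U.ι ≫ f) := locallyOfFiniteType_of_comp (U.ι ≫ f) g
  have : FormallyUnramified (U.ι ≫ f) := FormallyUnramified.of_comp (U.ι ≫ f) g
  have hxU' : x' ∈ U := hx'.mem_open U.2 hxU
  have hspU : (⟨x', hxU'⟩ : U) ⤳ ⟨x, hxU⟩ := (subtype_specializes_iff _ _).2 hx'
  obtain ⟨V, hxV, hV⟩ := Groth.Agent.Branch14.exists_etale_nhd_aux (U.ι ≫ f) ⟨x, hxU⟩ inferInstance hY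
    (Groth.Agent.Branch14.injective_stalkMap_of_specializes (U.ι ≫ f) hspU hfx') (Or.inr inferInstance)
  refine ⟨⟨U.ι ''ᵁ V, ⟨⟨x, hxU⟩, hxV, rfl⟩, ?_⟩, ?_⟩
  · rw [show (U.ι ''ᵁ V).ι ≫ f = (U.ι.isoImage V).inv ≫ V.ι ≫ U.ι ≫ f by
      rw [Scheme.Hom.isoImage_inv_ι_assoc]]
    infer_instance
  · let h := V.ι ≫ U.ι ≫ f
    let O : Y.Opens := ⟨Set.range h, h.isOpenMap.isOpen_range⟩
    let h' : (V : Scheme.{u}) ⟶ O := IsOpenImmersion.lift O.ι h (by rw [Scheme.Opens.range_ι]; exact le_refl (Set.range h))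
    have hh' : h' ≫ O.ι = h := IsOpenImmersion.lift_fac _ _ _
    have : Etale (h' ≫ O.ι) := hh' ▸ hV
    have : Etale h' := Etale.of_comp h' O.ι
    have hsurj : Surjective h' := ⟨fun y => by
      obtain ⟨v, hv⟩ := y.2
      exact ⟨v, O.ι.isOpenEmbedding.injective ((congr($(hh').base v)).trans hv)⟩⟩
    refine ⟨O, ⟨⟨⟨x, hxU⟩, hxV⟩, rfl⟩, Groth.Agent.AlgSpDescent.descendsEtaleSource_etale h' _ inferInstance hsurj ?_⟩
    rw [← Category.assoc, hh']
    show Etale (h ≫ g)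
    have := IsZariskiLocalAtSource.comp (P := @Etale) hU V.ι
    simpa [h] using this

end Groth.Agent.S1452
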