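import Groth.Statements.S14520
import Groth.Agent.Lib.NumConn10.Fibre
import Groth.Agent.Lib.NumConn10.Mult
import Groth.Agent.Lib.NormalRR10.Basic
import Groth.Agent.Lib.RegSmooth17.Scheme
import Groth.Agent.Lib.SchImage.ReducedKer
import Groth.Agent.Lib.WeierModel17.Point
import Groth.Agent.Lib.PointBlowUp32.Principal
import Groth.Agent.Lib.CurveCoh17.Point
import Groth.Agent.Lib.CMReg18.Proj
import Groth.Agent.S7868
import Groth.Agent.S7928
import Groth.Agent.S11308

set_option autoImplicit false
set_option maxHeartbeats 1000000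
set_option linter.style.haveILetI false
set_option backward.isDefEq.respectTransparency false
set_option backward.isDefEq.respectTransparency.types false
universe u
open CategoryTheory CategoryTheory.Limits AlgebraicGeometry
open Surf

namespace Groth.Agent.S14520

open TopologicalSpace
open Groth.Agent Groth.Agent.NumConn10
open Groth.Agent.SymSq10 (sdot)
open Groth.Agent.HypSq10 (chi rep rep_inv cls_rep)
open Groth.Agent.NumPoly18 (ptIdeal)
open Groth.Agent.DivDesc12 (stI)

noncomputable local instance instLawStrict (Y : Scheme.{u}) : PicGrp.Law Y := M2.law Y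

theorem euler_curve (k : Type u) [Field k] [IsAlgClosed k] (C : Scheme.{u}) [C.Over (Spec (CommRingCat.of k))]
    [IsProper (C ↘ Spec (CommRingCat.of k))] [IsIntegral C] (hC : topologicalKrullDim C ≤ 1) :
    Curv2.euler k C (Coh.structureModule C) = 1 - (Curv2.genus k C : ℤ) := by
  have hc := CurveAmple18.curveLike k C hC
  haveI := hc.noetherian
  obtain ⟨z, -, hz⟩ := (isClosed_univ (X := C)).exists_closed_singleton ⟨genericPoint C, trivial⟩
  rw [hc.euler_structureModule, WeierModel17.h0_eq_one_of_point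
    (pointOfClosedPoint (C ↘ Spec (CommRingCat.of k)) z hz) (pointOfClosedPoint_comp _ z hz) hc]
  rfl

theorem comap_pow {A B : Scheme.{u}} (g : B ⟶ A) (I : A.IdealSheafData) :
    ∀ n : ℕ, (I ^ n).comap g = I.comap g ^ n
  | 0 => by
    rw [pow_zero, pow_zero, Scheme.IdealSheafData.one_eq_top, Scheme.IdealSheafData.one_eq_top]
    exact EffCartier.comap_eq_top _ g fun x h => by rw [Scheme.IdealSheafData.support_top] at h; exact h
  | n + 1 => by rw [pow_succ, pow_succ, EffCartier.comap_mul, comap_pow g I n]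

theorem comap_fromSpecStalk {Y : Scheme.{u}} (y : Y) (K : Y.IdealSheafData) :
    K.comap (Y.fromSpecStalk y) = Curv2.idealSheaf (Y.presheaf.stalk y) (stI K y) := by
  obtain ⟨U, hU, hyU, -⟩ := exists_isAffineOpen_mem_and_subset (X := Y) (x := y) (U := ⊤) trivial
  have hle : (⊤ : (Spec (Y.presheaf.stalk y)).Opens) ≤ Y.fromSpecStalk y ⁻¹ᵁ U := fun z _ => by
    have hz : Y.fromSpecStalk y z ∈ Set.range (Y.fromSpecStalk y) := ⟨z, rfl⟩
    rw [Scheme.range_fromSpecStalk] at hz
    exact (hz : Y.fromSpecStalk y z ⤳ y).mem_open U.2 hyU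
  refine Scheme.IdealSheafData.ext_of_isAffine ?_
  rw [EffCartier.comap_ideal _ (Y.fromSpecStalk y) ⟨U, hU⟩ ⟨⊤, isAffineOpen_top _⟩ hle]
  have happ : (Y.fromSpecStalk y).appLE U ⊤ hle =
      Y.presheaf.germ U y hyU ≫ (Scheme.ΓSpecIso (Y.presheaf.stalk y)).inv := by
    rw [Scheme.Hom.appLE, Scheme.fromSpecStalk_app hyU]
    simp only [Category.assoc, ← Functor.map_comp]
    rw [show (Spec (Y.presheaf.stalk y)).presheaf.map _ = 𝟙 _ from (congrArg _ (Subsingleton.elim _ (𝟙 _))).trans
      ((Spec (Y.presheaf.stalk y)).presheaf.map_id _), Category.comp_id]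
  rw [happ, CommRingCat.hom_comp, ← Ideal.map_map, ← DivDesc12.stI_eq K ⟨U, hU⟩ hyU]
  simp [Curv2.idealSheaf]
  rfl

/-- The multiplicity is not exceeded after blowing up. -/
theorem not_le_pow {X X' : Scheme.{u}} {P : X} (hP : IsClosed ({P} : Set X))
    [IsRegularLocalRing (X.presheaf.stalk P)] (hdim : ringKrullDim (X.presheaf.stalk P) = 2)
    (f : X' ⟶ X) (hf : BlowUp.IsBlowUp f (PointBlowUp.ptIdeal hP)) {K : X.IdealSheafData}
    (hK : BlowUp.IsEffCartierIdeal K) (m : ℕ) (hm : K ≤ PointBlowUp.ptIdeal hP ^ m)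
    (hm' : ¬ K ≤ PointBlowUp.ptIdeal hP ^ (m + 1)) :
    ¬ K.comap f ≤ BlowUp.exceptional f (PointBlowUp.ptIdeal hP) ^ (m + 1) := by
  intro h
  let A := X.presheaf.stalk P
  obtain ⟨g, -, hg⟩ := DivDesc12.exists_gen_regular K hK P
  have hstJ : ∀ n : ℕ, stI (PointBlowUp.ptIdeal hP ^ n) P = IsLocalRing.maximalIdeal A ^ n := fun n => by
    rw [PointBlowUp.stI_pow', PointBlowUp.stI_ptIdeal hP]
  have hmono : ∀ {I J : X.IdealSheafData} (z : X), I ≤ J → stI I z ≤ stI J z := fun {I J} z hIJ => by
    obtain ⟨U, hU, hz⟩ := DivDesc12.exists_affine z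
    rw [DivDesc12.stI_eq _ ⟨U, hU⟩ hz, DivDesc12.stI_eq _ ⟨U, hU⟩ hz]
    exact Ideal.map_mono (hIJ ⟨U, hU⟩)
  have h1 : g ∈ IsLocalRing.maximalIdeal A ^ m := by
    have := hmono P hm
    rw [hstJ, hg] at this
    exact (Ideal.span_singleton_le_iff_mem _).1 this
  have h2 : g ∉ IsLocalRing.maximalIdeal A ^ (m + 1) := fun hg2 => hm' (PointBlowUp.idealSheaf_le_of_stI fun z => by
    by_cases hz : z = P
    · subst hz
      rw [hstJ, hg, Ideal.span_singleton_le_iff_mem]
      exact hg2
    · have htop : stI (PointBlowUp.ptIdeal hP) z = ⊤ := by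
        by_contra hne
        have := PointBlowUp.mem_support_iff_stI.2 hne
        rw [← SetLike.mem_coe, PointBlowUp.coe_support_ptIdeal hP] at this
        exact hz this
      rw [PointBlowUp.stI_pow', htop, Ideal.top_pow]
      exact le_top)
  let fs := X.fromSpecStalk P
  haveI : Flat fs := Descend.flat_fromSpecStalk _
  have hloc := BlowUp26.isBlowUp_flat_baseChange fs hf
  rw [PointBlowUp.comap_fromSpecStalk hP] at hloc
  have hn := (Groth.Agent.S7928.result A hdim (pullback.fst fs f) hloc g m h1 h2).2.1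
  refine hn ?_
  have hcomm : ∀ I : X.IdealSheafData,
      (Curv2.idealSheaf A (stI I P)).comap (pullback.fst fs f) = (I.comap f).comap (pullback.snd fs f) := fun I => by
    rw [← comap_fromSpecStalk P I, ← Scheme.IdealSheafData.comap_comp, ← Scheme.IdealSheafData.comap_comp,
      pullback.condition]
  have hJ : BlowUp.exceptional (pullback.fst fs f) (Curv2.idealSheaf A (IsLocalRing.maximalIdeal A)) =
      (BlowUp.exceptional f (PointBlowUp.ptIdeal hP)).comap (pullback.snd fs f) := by
    have := hcomm (PointBlowUp.ptIdeal hP)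
    rwa [PointBlowUp.stI_ptIdeal hP] at this
  rw [← hg, hcomm K, hJ, ← comap_pow]
  exact Scheme.IdealSheafData.comap_mono _ h

theorem eq_maximalIdeal_pow {R : Type u} [CommRing R] [IsDomain R] [IsNoetherianRing R] [IsLocalRing R]
    (hR : ringKrullDim R = 1) {n : ℕ} (h : IsLocalRing.maximalIdeal R ^ n = IsLocalRing.maximalIdeal R) : n = 1 := by
  rcases n with _ | _ | n
  · rw [pow_zero, Ideal.one_eq_top] at h
    exact absurd h.symm (IsLocalRing.maximalIdeal.isMaximal R).ne_top
  · rfl
  · exfalso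
    have hle : IsLocalRing.maximalIdeal R ≤ IsLocalRing.maximalIdeal R • IsLocalRing.maximalIdeal R := by
      rw [smul_eq_mul, ← sq]
      exact h.ge.trans (Ideal.pow_le_pow_right (by omega))
    have hb := Submodule.eq_bot_of_le_smul_of_le_jacobson_bot _ _
      (IsNoetherian.noetherian (IsLocalRing.maximalIdeal R)) hle (IsLocalRing.maximalIdeal_le_jacobson ⊥)
    rw [← IsLocalRing.maximalIdeal_height_eq_ringKrullDim, hb, Ideal.height_bot] at hR
    exact absurd hR (by decide)

theorem bijective_toGlobal_P1 (K : Type u) [Field K] :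
    Function.Bijective (Coh.toGlobal (CohB1.ProjSpace.toSpec 1 K) : K →+* Γ(CohB1.ProjSpace 1 K, ⊤)) := by
  let P := CohB1.ProjSpace 1 K
  let b : P ⟶ Spec (CommRingCat.of K) := CohB1.ProjSpace.toSpec 1 K
  haveI : IsProper b := ProjSpace.isProper_toSpec 1 K
  haveI := RegExt.isIntegral_projSpace 1 K
  letI : Algebra K Γ(P, ⊤) := RingHom.toAlgebra (S := Γ(P, ⊤)) (Coh.toGlobal b)
  haveI : Module.Finite K Γ(P, ⊤) := HensProper6.finite_toGlobal b
  haveI : Algebra.IsIntegral K Γ(P, ⊤) := Algebra.IsIntegral.of_finite _ _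
  obtain ⟨σ, hσ⟩ := CurveCoh17.exists_section_P1 K
  let ev : Γ(P, ⊤) →+* K := (Scheme.ΓSpecIso (CommRingCat.of K)).hom.hom.comp σ.appTop.hom
  have hev : ∀ c, ev (Coh.toGlobal b c) = c := fun c => by
    show (Scheme.ΓSpecIso (CommRingCat.of K)).hom (σ.appTop (b.appTop ((Scheme.ΓSpecIso (CommRingCat.of K)).inv c))) = c
    rw [← ConcreteCategory.comp_apply b.appTop σ.appTop, ← Scheme.Hom.comp_appTop, hσ]
    exact (Scheme.ΓSpecIso (CommRingCat.of K)).inv_hom_id_apply c
  haveI : Nonempty (⊤ : P.Opens) := ⟨⟨genericPoint P, trivial⟩⟩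
  have hF : IsField Γ(P, ⊤) := isField_of_isIntegral_of_isField' (R := K) (Field.toIsField K)
  letI := hF.toField
  exact ⟨Function.LeftInverse.injective hev, Function.RightInverse.surjective
    (fun z => ev.injective (hev (ev z)) : Function.RightInverse ev (Coh.toGlobal b))⟩

/-- Let k be an algebraically closed field, X a smooth projective surface over k (integral, smooth over
k, of dimension two, with a closed immersion over k into some projective space), P a closed point of
X with ideal m_P, f : X' → X the blow-up of X at P (universal property), and C ⊆ X a curve (an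
integral closed subscheme of dimension one, closed immersion j) of multiplicity m = ord_P(C) at P:
the ideal of C is contained in m_P^m and not in m_P^{m+1}. Let C' ⊆ X' be the strict transform of C:
an integral closed subscheme of dimension one (closed immersion j') whose generic point is mapped by
f to the generic point of C. Then p_a(C') = p_a(C) − m(m−1)/2, written 2 p_a(C') + m(m−1) = 2 p_a(C)
with p_a = dim_k H^1(O). -/
theorem result (k : Type u) [Field k] [IsAlgClosed k]
    (X : Scheme.{u}) [X.Over (Spec (CommRingCat.of k))] [IsIntegral X] [Smooth (X ↘ (Spec (CommRingCat.of k)))] (hdim : topologicalKrullDim X = 2)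
    (hprojX : ∃ (N : ℕ) (ι : X ⟶ CohB1.ProjSpace N k), IsClosedImmersion ι ∧ ι ≫ CohB1.ProjSpace.toSpec N k = (X ↘ (Spec (CommRingCat.of k))))
    (P : X) (hP : IsClosed ({P} : Set X))
    (X' : Scheme.{u}) (f : X' ⟶ X) (hf : BlowUp.IsBlowUp f (Scheme.IdealSheafData.vanishingIdeal ⟨{P}, hP⟩))
    (C : Scheme.{u}) [C.Over (Spec (CommRingCat.of k))] [IsIntegral C] (hdimC : topologicalKrullDim C = 1)
    (j : C ⟶ X) [IsClosedImmersion j] (hj : j ≫ (X ↘ (Spec (CommRingCat.of k))) = (C ↘ (Spec (CommRingCat.of k))))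
    (m : ℕ) (hm : j.ker ≤ Scheme.IdealSheafData.vanishingIdeal ⟨{P}, hP⟩ ^ m)
    (hm' : ¬ j.ker ≤ Scheme.IdealSheafData.vanishingIdeal ⟨{P}, hP⟩ ^ (m + 1))
    (C' : Scheme.{u}) [C'.Over (Spec (CommRingCat.of k))] [IsIntegral C'] (hdimC' : topologicalKrullDim C' = 1)
    (j' : C' ⟶ X') [IsClosedImmersion j'] (hj' : j' ≫ f ≫ (X ↘ (Spec (CommRingCat.of k))) = (C' ↘ (Spec (CommRingCat.of k))))
    (hgen : f (j' (genericPoint C')) = j (genericPoint C)) :
    2 * Curv2.genus k C' + m * (m - 1) = 2 * Curv2.genus k C := by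
  classical
  let q := X ↘ Spec (CommRingCat.of k)
  haveI : IsProper (X ↘ Spec (CommRingCat.of k)) := by
    obtain ⟨n, ι, hι, e⟩ := hprojX
    haveI := hι
    show IsProper (X ↘ Spec (CommRingCat.of k))
    rw [← e]
    infer_instance
  haveI : IsNoetherian X := CohFound.isNoetherian_of_isProper q
  let J := PointBlowUp.ptIdeal hP
  haveI : IsProper f := PointBlowUp.isProper hP hf
  letI : X'.Over (Spec (CommRingCat.of k)) := ⟨f ≫ q⟩
  haveI : IsProper (X' ↘ Spec (CommRingCat.of k)) := inferInstanceAs (IsProper (f ≫ q))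
  haveI : IsNoetherian X' := CohFound.isNoetherian_of_isProper (X' ↘ Spec (CommRingCat.of k))
  haveI : Nonempty X' := ⟨j' (genericPoint C')⟩
  obtain ⟨hX'i, hgenX, hgP⟩ := BlowUpFib6.isIntegral_of_isBlowUp hf
  haveI := hX'i
  have hregX : ∀ z : X, IsRegularLocalRing (X.presheaf.stalk z) := SurfRR10.regular (k := k)
  haveI := hregX P
  haveI : IsClosedImmersion (X.fromSpecResidueField P) := PointBlowUp.isClosedImmersion_residue hP
  have hker : (X.fromSpecResidueField P).ker = J := PointBlowUp.ker_fromSpecResidueField hP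
  haveI : Smooth (X' ↘ Spec (CommRingCat.of k)) :=
    RegSmooth17.smooth_of_regular_of_perfectField (X' ↘ Spec (CommRingCat.of k))
      (Groth.Agent.S11308.result k X hregX (Spec (X.residueField P)) (X.fromSpecResidueField P)
        (fun y => WeilExt.isRegularLocalRing_stalk_Spec _ y) X' f (by rw [hker]; exact hf))
  let U : X.Opens := ⟨{P}ᶜ, hP.isOpen_compl⟩
  have hU : IsIso (f ∣_ U) := PointBlowUp.isIso_restrict hP hf
  have hgne : genericPoint X ≠ P := fun h => hgP (by
    rw [← SetLike.mem_coe, PointBlowUp.coe_support_ptIdeal hP]; exact h)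
  have hUne : (U : Set X).Nonempty := ⟨_, hgne⟩
  have hd := SurfRR10.dim_eq (k := k) (X := X) hdim
  have hdim' : topologicalKrullDim X' = 2 := by
    rw [← hdim]
    exact NumPoly18.dim_eq_of_residueDegree_pos (k := k) f rfl hgenX (by
      rw [NormalRR10.residueDegree_genericPoint f U hU (by rw [hgenX]; exact hgne)]
      exact one_ne_zero)
  have hd' := SurfRR10.dim_eq (k := k) (X := X') hdim'
  have hirr : ∀ Z ∈ irreducibleComponents (X : Type u), topologicalKrullDim Z = 2 := by
    intro Z hZ
    rw [irreducibleComponents_eq_singleton] at hZ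
    rw [Set.mem_singleton_iff.1 hZ, (Homeomorph.Set.univ X).isHomeomorph.topologicalKrullDim_eq, hdim]
  have hst := BlowInt10.ringKrullDim_stalk_of_components (k := k) hirr hP
  -- the two curves
  let ξ := j (genericPoint C)
  let ξ' := j' (genericPoint C')
  have hjI : ∀ {A B : Scheme.{u}} (i : A ⟶ B) [IsClosedImmersion i] [IsIntegral A],
      i.ker = ptIdeal (i (genericPoint A)) ∧ Set.range i = closure {i (genericPoint A)} ∧
        topologicalKrullDim (closure ({i (genericPoint A)} : Set B)) = topologicalKrullDim A := fun {A B} i _ _ => by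
    have hr : Set.range i = closure {i (genericPoint A)} := by
      have h := ((genericPoint_spec A).image i.continuous).def
      rw [Set.image_univ, i.isClosedEmbedding.isClosed_range.closure_eq] at h
      exact h.symm
    refine ⟨?_, hr, ?_⟩
    · rw [SchImage.ker_eq_vanishingIdeal i]
      congr 1
      refine Closeds.ext ?_
      show closure (Set.range i) = closure {i (genericPoint A)}
      rw [hr, closure_closure]
    · rw [← hr, ← i.isClosedEmbedding.isEmbedding.toHomeomorph.isHomeomorph.topologicalKrullDim_eq]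
  obtain ⟨hkC, hrC, hξ⟩ := hjI j
  obtain ⟨hkC', -, hξ'⟩ := hjI j'
  rw [hdimC] at hξ
  rw [hdimC'] at hξ'
  have hKc : BlowUp.IsEffCartierIdeal j.ker := by rw [hkC]; exact cartier_pt (k := k) hdim hξ
  have hC'c : BlowUp.IsEffCartierIdeal j'.ker := by rw [hkC']; exact cartier_pt (k := k) hdim' hξ'
  have hnclosed : ∀ {Z : Scheme.{u}} [Z.Over (Spec (CommRingCat.of k))] [IsProper (Z ↘ Spec (CommRingCat.of k))]
      (η : Z), topologicalKrullDim (closure ({η} : Set Z)) = 1 →
        VarDim.sdim (Z ↘ Spec (CommRingCat.of k)) η = 1 ∧ ¬ IsClosed ({η} : Set Z) := fun {Z} _ _ η hη => by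
    rw [VarDim.dim_closure_singleton (Z ↘ Spec (CommRingCat.of k))] at hη
    have h1 : VarDim.sdim (Z ↘ Spec (CommRingCat.of k)) η = 1 := by exact_mod_cast hη
    exact ⟨h1, fun hc => by
      rw [(VarDim.sdim_eq_zero_iff_isClosed _ η).2 hc] at h1; exact zero_ne_one h1⟩
  have hξP : ξ ≠ P := fun h => (hnclosed ξ hξ).2 (by rw [h]; exact hP)
  -- the exceptional curve
  let E := BlowUp.exceptional f J
  obtain ⟨e, he, -⟩ := PointBlowUp.exceptional_point hP hst f hf
  haveI := RegExt.isIntegral_projSpace 1 (X.residueField P)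
  haveI : Nonempty E.subscheme := ⟨e.hom (genericPoint _)⟩
  haveI : IsIntegral E.subscheme := isIntegral_of_isOpenImmersion e.inv
  obtain ⟨hkE, hrE, hη0⟩ := hjI E.subschemeι
  set η0 := E.subschemeι (genericPoint E.subscheme)
  rw [Scheme.IdealSheafData.ker_subschemeι] at hkE
  have hdE : topologicalKrullDim E.subscheme = 1 := by
    rw [← e.hom.homeomorph.isHomeomorph.topologicalKrullDim_eq, Groth.Agent.S10829.result]
    rfl
  rw [hdE] at hη0
  have hEc : BlowUp.IsEffCartierIdeal E := hf.1
  -- the total transform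
  have hgenK : f (genericPoint X') ∉ (j.ker.support : Set X) := by
    rw [hgenX, hkC, Scheme.IdealSheafData.coe_support_vanishingIdeal]
    intro h
    have heq : genericPoint X = ξ :=
      ((genericPoint_specializes ξ).antisymm (specializes_iff_mem_closure.2 h)).eq
    have h2 := (hnclosed ξ hξ).1
    have h3 := VarDim.dim_eq_sdim_genericPoint q
    rw [hdim, heq, h2] at h3
    exact absurd h3 (by decide)
  have hDc := ArInter.isEffCartier_comap f hKc hgenK
  have hDle : j.ker.comap f ≤ E ^ m := by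
    rw [show E ^ m = (J ^ m).comap f from (comap_pow f J m).symm]
    exact Scheme.IdealSheafData.comap_mono _ hm
  have hEm := BlowUpExist.isEffCartierIdeal_pow hEc m
  obtain ⟨D1, hD1⟩ : ∃ D1, D1 * E ^ m = j.ker.comap f := ⟨_, EffCartier.colon_mul hEm hDle⟩
  have hD1c : BlowUp.IsEffCartierIdeal D1 := EffCartier.isEffCartierIdeal_of_mul_left (hD1.symm ▸ hDc)
  obtain ⟨s, hs, hsprod, -, hsupp⟩ := exists_multiset (k := k) hdim' D1 hD1c
  have hnot := not_le_pow hP hst f hf hKc m hm hm'
  have hall : ∀ η ∈ s, η = ξ' := by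
    intro η hη
    have hne : f η ≠ P := by
      intro hfe
      have hmem : η ∈ Set.range E.subschemeι := by
        rw [PointBlowUp.range_exceptional hP f]
        exact hfe
      rw [hrE, ← specializes_iff_mem_closure] at hmem
      have heq : η = η0 := by
        by_contra hne
        have := VarDim.sdim_lt_of_specializes (X' ↘ Spec (CommRingCat.of k)) hmem (Ne.symm hne)
        rw [(hnclosed η (hs η hη)).1, (hnclosed η0 hη0).1] at this
        exact lt_irrefl _ this
      refine hnot ?_
      rw [← hD1, pow_succ', hsprod, ← Multiset.cons_erase hη, Multiset.map_cons, Multiset.prod_cons, heq, ← hkE,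
        mul_assoc]
      intro W
      rw [Scheme.IdealSheafData.ideal_mul, Scheme.IdealSheafData.ideal_mul, Scheme.IdealSheafData.ideal_mul,
        Pi.mul_apply, Pi.mul_apply, Pi.mul_apply]
      exact Ideal.mul_mono_right Ideal.mul_le_right
    have hsD : η ∈ ((j.ker.comap f).support : Set X') := by
      rw [← hD1, Scheme.IdealSheafData.support_mul]
      exact Or.inl ((hsupp η).2 ⟨η, hη, specializes_rfl⟩)
    rw [Scheme.IdealSheafData.support_comap] at hsD
    have hfr : f η ∈ (j.ker.support : Set X) := hsD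
    rw [hkC, Scheme.IdealSheafData.coe_support_vanishingIdeal] at hfr
    have hspec : ξ ⤳ f η := specializes_iff_mem_closure.2 hfr
    have hfη : f η = ξ := by
      by_contra hne'
      have hlt := VarDim.sdim_lt_of_specializes q hspec (Ne.symm hne')
      rw [(hnclosed ξ hξ).1, Nat.lt_one_iff] at hlt
      have hc := ((VarDim.sdim_eq_zero_iff_isClosed q (f η)).1 hlt).preimage f.continuous
      have hpre : f ⁻¹' {f η} = {η} := Set.eq_singleton_iff_unique_mem.2
        ⟨rfl, fun a ha => PointBlowUp.eq_of_ne hP hf (by rw [(ha : f a = f η)]; exact hne) ha⟩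
      rw [hpre] at hc
      exact (hnclosed η (hs η hη)).2 hc
    exact PointBlowUp.eq_of_ne hP hf hne (hfη.trans hgen.symm)
  have hrep : s = Multiset.replicate s.card ξ' := Multiset.eq_replicate_card.2 hall
  have hξ'P : f ξ' ≠ P := by rw [show f ξ' = ξ from hgen]; exact hξP
  have hcard : s.card = 1 := by
    obtain ⟨W, hW, hξW, -⟩ := exists_isAffineOpen_mem_and_subset (X := X') (x := ξ') (U := ⊤) trivial
    obtain ⟨V, hV, hξV, -⟩ := exists_isAffineOpen_mem_and_subset (X := X) (x := f ξ') (U := ⊤) trivial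
    have h1 : stI (j.ker.comap f) ξ' = IsLocalRing.maximalIdeal (X'.presheaf.stalk ξ') ^ s.count ξ' := by
      rw [← hD1, PointBlowUp.stI_mul', PointBlowUp.stI_pow',
        show stI E ξ' = ⊤ from by
          by_contra hne
          exact hξ'P ((PointBlowUp.mem_support_exceptional hP f ξ').1 (PointBlowUp.mem_support_iff_stI.2 hne)),
        Ideal.top_pow, Ideal.mul_top, hsprod, DivDesc12.stI_eq _ ⟨W, hW⟩ hξW]
      exact map_prod_ideal (k := k) hd' ⟨W, hW⟩ hξ' hξW s hs
    have h2 : stI j.ker (f ξ') = IsLocalRing.maximalIdeal (X.presheaf.stalk (f ξ')) := by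
      have hξf : topologicalKrullDim (closure ({f ξ'} : Set X)) = 1 := by rw [show f ξ' = ξ from hgen]; exact hξ
      have hk : j.ker = (({f ξ'} : Multiset X).map ptIdeal).prod := by
        rw [Multiset.map_singleton, Multiset.prod_singleton, hkC, show f ξ' = ξ from hgen]
      rw [hk, DivDesc12.stI_eq _ ⟨V, hV⟩ hξV]
      refine (map_prod_ideal (k := k) hd ⟨V, hV⟩ hξf hξV _ fun η hη => ?_).trans ?_
      · rw [Multiset.mem_singleton.1 hη]; exact hξf
      · rw [Multiset.count_singleton_self, pow_one]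
    haveI : IsIso (f.stalkMap ξ') := by
      haveI := hU
      have h : IsIso ((f ∣_ U).stalkMap ⟨ξ', hξ'P⟩) := inferInstance
      exact ((MorphismProperty.isomorphisms CommRingCat).arrow_mk_iso_iff
        (morphismRestrictStalkMap f U ⟨ξ', hξ'P⟩)).1 h
    rw [DivDesc12.stI_comap, h2] at h1
    have h3 : (IsLocalRing.maximalIdeal (X.presheaf.stalk (f ξ'))).map (f.stalkMap ξ').hom =
        IsLocalRing.maximalIdeal (X'.presheaf.stalk ξ') := by
      refine le_antisymm (IsLocalRing.map_maximalIdeal_le _) fun a ha => ?_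
      obtain ⟨b, rfl⟩ := (ConcreteCategory.bijective_of_isIso (f.stalkMap ξ')).2 a
      refine Ideal.mem_map_of_mem _ ?_
      rw [IsLocalRing.mem_maximalIdeal, mem_nonunits_iff] at ha ⊢
      exact fun hu => ha (hu.map _)
    rw [h3] at h1
    haveI : IsRegularLocalRing (X'.presheaf.stalk ξ') := SurfRR10.regular (k := k) ξ'
    have hst' : ringKrullDim (X'.presheaf.stalk ξ') = 1 := by
      refine SecDiv.ringKrullDim_generic hC'c (by rw [hkC', ← SetLike.mem_coe, Scheme.IdealSheafData.coe_support_vanishingIdeal]; exact subset_closure rfl) fun w hw hwy => ?_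
      rw [hkC', Scheme.IdealSheafData.coe_support_vanishingIdeal] at hw
      exact (hwy.antisymm (specializes_iff_mem_closure.2 hw)).eq
    have h4 := eq_maximalIdeal_pow hst' h1.symm
    rwa [hrep, Multiset.count_replicate_self] at h4
  have hfac : j.ker.comap f = j'.ker * E ^ m := by
    rw [← hD1, hsprod, hrep, hcard, Multiset.replicate_one, Multiset.map_singleton, Multiset.prod_singleton, hkC']
  -- classes
  obtain ⟨eK⟩ := ArInter.nonempty_pullback_idealMod f hKc hDc
  have hKi := M2.isInvertible_idealMod _ hKc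
  have hpc : Abel10.pc f (icl hKc) = icl hC'c * icl hEc ^ m := by
    have h1 : Abel10.pc f (icl hKc) = icl hDc :=
      (PicGrp.pullHom_cls f _ _ hKi).trans ((PicGrp.cls_eq_cls_iff _ _).2 ⟨eK⟩)
    rw [h1, icl_congr hDc (by rw [← hfac]; exact hDc) hfac,
      icl_mul hC'c hEm (by rw [← hfac]; exact hDc), icl_pow (k := k) hdim' hEc m hEm]
  obtain ⟨-, hce, hee⟩ := Groth.Agent.S7868.result k X hirr hregX P hP X' f hf _ _ hKi hKi
  rw [CurveCoh17.finrank_residueField (k := k) hP] at hee
  rw [SymSq10.intNum_eq' hd'.le (M2.isInvertible_idealMod _ hEc) (M2.isInvertible_idealMod _ hEc)] at hee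
  rw [SymSq10.intNum_eq' hd'.le (Twist.isInvertible_pullback f hKi) (M2.isInvertible_idealMod _ hEc)] at hce
  change sdot k (icl hEc) (icl hEc) = _ at hee
  have hce' : sdot k (Abel10.pc f (icl hKc)) (icl hEc) = 0 := by
    rw [show Abel10.pc f (icl hKc) = PicGrp.cls _ (Twist.isInvertible_pullback f hKi) from PicGrp.pullHom_cls f _ _ hKi]
    exact hce
  have hq : ∀ {Z : Scheme.{u}} [Z.Over (Spec (CommRingCat.of k))] [IsProper (Z ↘ Spec (CommRingCat.of k))]
      {D : Scheme.{u}} [D.Over (Spec (CommRingCat.of k))] (i : D ⟶ Z) [IsClosedImmersion i]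
      (hi : i ≫ (Z ↘ Spec (CommRingCat.of k)) = D ↘ Spec (CommRingCat.of k)) (I : Z.IdealSheafData)
      (hI : BlowUp.IsEffCartierIdeal I), i.ker = I →
      Curv2.euler k D (Coh.structureModule D) = chi k (1 : PicLoc.PicSet Z) - chi k (icl hI) := by
    intro Z _ _ D _ i _ hi I hI hk
    subst hk
    haveI : IsNoetherian Z := CohFound.isNoetherian_of_isProper (Z ↘ Spec (CommRingCat.of k))
    obtain ⟨eQ⟩ := NumPoly18.nonempty_quotMod_ker i
    rw [← AmpleFin18.euler_push i hi _ (M1.isQCoh_structureModule D), ← CurveCoh17.euler_iso eQ]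
    exact NormalRR10.defect.chi_quot i.ker hI
  haveI : IsProper (C ↘ Spec (CommRingCat.of k)) := by rw [← hj]; infer_instance
  haveI : IsProper (C' ↘ Spec (CommRingCat.of k)) := by rw [← hj']; infer_instance
  have hgC := euler_curve k C hdimC.le
  have hgC' := euler_curve k C' hdimC'.le
  rw [hq j hj _ hKc rfl] at hgC
  rw [hq j' hj' _ hC'c rfl] at hgC'
  -- the exceptional curve is rational
  have hgE : chi k (1 : PicLoc.PicSet X') - chi k (icl hEc) = 1 := by
    letI : E.subscheme.Over (Spec (CommRingCat.of k)) := ⟨E.subschemeι ≫ (X' ↘ Spec (CommRingCat.of k))⟩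
    haveI : IsProper (E.subscheme ↘ Spec (CommRingCat.of k)) :=
      inferInstanceAs (IsProper (E.subschemeι ≫ (X' ↘ Spec (CommRingCat.of k))))
    rw [← hq E.subschemeι rfl E hEc (Scheme.IdealSheafData.ker_subschemeι _), euler_curve k E.subscheme hdE.le]
    suffices hg : Curv2.genus k E.subscheme = 0 by rw [hg]; simp
    let K := X.residueField P
    letI : (CohB1.ProjSpace 1 K).Over (Spec (CommRingCat.of k)) :=
      ⟨e.hom ≫ E.subschemeι ≫ (X' ↘ Spec (CommRingCat.of k))⟩
    rw [← CurveCoh17.genus_eq_of_iso (k := k) e.hom rfl]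
    let a : CohB1.ProjSpace 1 K ⟶ Spec (CommRingCat.of k) := e.hom ≫ E.subschemeι ≫ (X' ↘ Spec (CommRingCat.of k))
    let b : CohB1.ProjSpace 1 K ⟶ Spec (CommRingCat.of K) := CohB1.ProjSpace.toSpec 1 K
    haveI : IsProper a := inferInstance
    haveI : IsProper b := ProjSpace.isProper_toSpec 1 K
    have hb : Function.Bijective (Coh.toGlobal b : K →+* Γ(CohB1.ProjSpace 1 K, ⊤)) :=
      bijective_toGlobal_P1 K
    have hF : IsField Γ(CohB1.ProjSpace 1 K, ⊤) :=
      (RingEquiv.ofBijective (Coh.toGlobal b : K →+* Γ(CohB1.ProjSpace 1 K, ⊤)) hb).symm.toMulEquiv.isField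
        (Field.toIsField K)
    obtain ⟨w, -, -, hM⟩ := ArInter.finrank_HH_compare k K a b hF (HensProper6.finite_toGlobal a) hb
    refine (hM _ 1).trans ?_
    exact (congrArg (fun n => w * n) (CurveCoh17.genus_P1 (k := K))).trans (mul_zero w)
  obtain ⟨n, ι, hι, -⟩ := hprojX
  haveI := hι
  have hH : CohB1.IsAmple ((Scheme.Modules.pullback ι).obj (Twist.twistProjSpace n k 1)) :=
    Amp.isAmple_pullback_of_isAffineHom ι (CMReg18.isAmple_twistOne k)
  have hdef := NormalRR10.defect (k := k) f rfl hd hd' U hU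
    (show ((U : Set X)ᶜ).Finite by
      show ({P}ᶜᶜ : Set X).Finite
      rw [compl_compl]; exact Set.finite_singleton P) hUne hH (icl hKc)
  have hpow : ∀ t : ℕ, sdot k (icl hEc ^ t) (icl hEc) = -(t : ℤ) ∧
      2 * (chi k (1 : PicLoc.PicSet X') - chi k (icl hEc ^ t)) = (t : ℤ) * (t + 1) := by
    intro t
    induction t with
    | zero => rw [pow_zero, SymSq10.sdot_one_left]; simp
    | succ t ih =>
      rw [pow_succ, SymSq10.sdot_mul (k := k) hd'.le, SymSq10.chi_mul', hee]
      push_cast
      exact ⟨by linarith [ih.1], by linear_combination ih.2 + 2 * hgE - 2 * ih.1⟩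
  have hc'e : sdot k (icl hC'c) (icl hEc) = (m : ℤ) := by
    have h := hce'
    rw [hpc, SymSq10.sdot_mul (k := k) hd'.le, (hpow m).1] at h
    linarith
  have hc'p : ∀ t : ℕ, sdot k (icl hC'c) (icl hEc ^ t) = (t : ℤ) * m := by
    intro t
    induction t with
    | zero => rw [pow_zero, SymSq10.sdot_comm, SymSq10.sdot_one_left]; simp
    | succ t ih =>
      rw [pow_succ, SymSq10.sdot_comm, SymSq10.sdot_mul (k := k) hd'.le, SymSq10.sdot_comm, ih,
        SymSq10.sdot_comm, hc'e]
      push_cast
      ring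
  rw [hpc, SymSq10.chi_mul', hc'p m] at hdef
  have hp := (hpow m).2
  have hkey : (2 : ℤ) * Curv2.genus k C' + (m : ℤ) * ((m : ℤ) - 1) = 2 * Curv2.genus k C := by
    linear_combination 2 * hgC' - 2 * hgC + 2 * hdef + hp
  rcases Nat.eq_zero_or_pos m with rfl | hpos
  · simpa using (by exact_mod_cast (by simpa using hkey) : 2 * Curv2.genus k C' = 2 * Curv2.genus k C)
  · obtain ⟨t, rfl⟩ : ∃ t, m = t + 1 := ⟨m - 1, by omega⟩
    push_cast at hkey
    rw [Nat.add_sub_cancel]
    exact_mod_cast (by linarith : (2 : ℤ) * Curv2.genus k C' + ((t : ℤ) + 1) * t = 2 * Curv2.genus k C)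

end Groth.Agent.S14520
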