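import Groth.Statements.S14521
import Groth.Agent.Lib.NumPoly18.Apps

set_option autoImplicit false
universe u
open CategoryTheory CategoryTheory.Limits AlgebraicGeometry
open Variety

namespace Groth.Agent.S14521

/-- Let k be an algebraically closed field, X a complete variety over k (reduced and proper over k) of
dimension at most d, L_1, …, L_r line bundles with tensor inverses M_1, …, M_r, and F a coherent
O_X-module whose support has dimension at most r. Let Y_1, …, Y_s be the r-dimensional irreducible
components of Supp F, with generic points ξ_1, …, ξ_s (given as a finite set s of points: ξ ∈ s iff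
ξ ∈ Supp F and the closure of ξ has dimension r), each Y_i with its reduced structure. Then
(L_1⋯L_r; F) = Σ_i length_{O_{X,ξ_i}}(F_{ξ_i}) · (L_1⋯L_r · Y_i), where all intersection numbers are
the alternating Euler-characteristic sums in the M_i (the prelude's FGA.intNum). -/
theorem result (k : Type u) [Field k] [IsAlgClosed k]
    (X : Scheme.{u}) [X.Over (Spec (CommRingCat.of k))] [IsReduced X] [IsProper (X ↘ (Spec (CommRingCat.of k)))] (d : ℕ) (hd : topologicalKrullDim X ≤ d)
    {r : ℕ} (M : Fin r → X.Modules) (hM : ∀ i, PicF.IsInvertible (M i))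
    (F : X.Modules) (hF : Coh.IsCoh F) (hsupp : topologicalKrullDim ↥(CohB1.support F) ≤ r)
    (s : Finset X) (hs : ∀ ξ : X, ξ ∈ s ↔ ξ ∈ CohB1.support F ∧ topologicalKrullDim ↥(closure ({ξ} : Set X)) = r) :
    FGA.intNum k X d M F =
      ∑ ξ ∈ s, ((Module.length (X.presheaf.stalk ξ) (F.presheaf.stalk ξ)).toNat : ℤ) *
        FGA.intNum k X d M (ClSub.quotMod (Scheme.IdealSheafData.vanishingIdeal ⟨closure ({ξ} : Set X), isClosed_closure⟩)) := by
  classical
  haveI : IsNoetherian X := Groth.Agent.CohFound.isNoetherian_of_isProper (X ↘ (Spec (CommRingCat.of k)))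
  have h : ((FGA.intNum k X d M F : ℤ) : ℚ) = ((∑ ξ ∈ s, ((Module.length (X.presheaf.stalk ξ) (F.presheaf.stalk ξ)).toNat : ℤ) *
      FGA.intNum k X d M (Groth.Agent.NumPoly18.ptMod ξ) : ℤ) : ℚ) := by
    rw [Groth.Agent.NumPoly18.intNum_eq_mixedDiff hd hM hF,
      Groth.Agent.NumPoly18.mixedDiff_eq_sum hM (Groth.Agent.M1.isClosed_support hF.2) hsupp s hs hF subset_rfl,
      Finset.mul_sum]
    push_cast
    refine Finset.sum_congr rfl fun ξ _ => ?_
    rw [Groth.Agent.NumPoly18.intNum_eq_mixedDiff hd hM (Groth.Agent.NumPoly18.isCoh_ptMod ξ)]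
    simp only [Groth.Agent.NumPoly18.lenAt]
    ring
  exact_mod_cast h

end Groth.Agent.S14521
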