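import Groth.Statements.S14522
import Groth.Agent.Lib.Snapper.Divisor
import Groth.Agent.Lib.CurveCoh17.Twist
-- import your own Groth.Agent.* helpers here

set_option autoImplicit false
universe u
open CategoryTheory CategoryTheory.Limits AlgebraicGeometry
open Variety

namespace Groth.Agent.S14522

/-- Let k be an algebraically closed field, X an irreducible complete variety over k (integral and
proper over k) of dimension at most d, L_1, …, L_r line bundles with tensor inverses M_1, …, M_r, F
a coherent O_X-module with dim Supp F ≤ r + 1, and D an effective Cartier divisor on X (a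
quasi-coherent ideal I_D locally generated by one nonzerodivisor) whose support contains no
associated point of F. Then (L_1⋯L_r·O_X(D); F) = (L_1⋯L_r; F ⊗ O_D): with intersection numbers
written as the alternating Euler-characteristic sums in the inverses (the prelude's FGA.intNum), the
(r+1)-fold number of F in M_1, …, M_r, I_D equals the r-fold number of F ⊗ O_D in M_1, …, M_r (for r
= 0 the right side is χ(F ⊗ O_D) = h^0(F ⊗ O_D)). -/
theorem result (k : Type u) [Field k] [IsAlgClosed k]
    (X : Scheme.{u}) [X.Over (Spec (CommRingCat.of k))] [IsIntegral X] [IsProper (X ↘ (Spec (CommRingCat.of k)))] (d : ℕ) (hd : topologicalKrullDim X ≤ d)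
    {r : ℕ} (M : Fin r → X.Modules) (hM : ∀ i, PicF.IsInvertible (M i))
    (F : X.Modules) (hF : Coh.IsCoh F) (hsupp : topologicalKrullDim ↥(CohB1.support F) ≤ r + 1)
    (D : X.IdealSheafData) (hD : BlowUp.IsEffCartierIdeal D) (hass : ∀ x ∈ D.support, ¬ Curv2.IsAssPoint F x) :
    FGA.intNum k X d (Fin.snoc M (ClSub.idealMod D)) F = FGA.intNum k X d M (CohB1.tensorMod F (ClSub.quotMod D)) := by
  have hI : PicF.IsInvertible (ClSub.idealMod D) := Groth.Agent.M2.isInvertible_idealMod D hD
  haveI : IsNoetherian X := Groth.Agent.CohFound.isNoetherian_of_isProper (X ↘ (Spec (CommRingCat.of k)))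
  have hsnoc : ∀ i, PicF.IsInvertible ((Fin.snoc M (ClSub.idealMod D) : Fin (r + 1) → X.Modules) i) :=
    fun i => Fin.lastCases (by simpa using hI) (fun j => by simpa using hM j) i
  haveI : Mono (Groth.Agent.Snapper.mulMap (ClSub.idealModι D) F) := by
    refine Groth.Agent.Snapper.mono_mulMap hI _ hF.1 fun y hy => ?_
    have hyD : y ∉ (D.support : Set X) := fun h => hass y h ((Groth.Agent.WA.isAssPoint_iff y).2 hy)
    refine Groth.Agent.Snapper.surjective_of_notMem_support (ClSub.idealModι D) (ClSub.toSubscheme D)
      (kernel.condition _) (Groth.Agent.M2.shortExact_idealMod D).exact fun h => hyD ?_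
    rw [← D.range_subschemeι]
    exact Groth.Agent.CohFound.support_push_subset _ _ h
  obtain ⟨e⟩ := Groth.Agent.Snapper.nonempty_cokernel_ideal_iso D F
  have hQ : Coh.IsCoh (CohB1.tensorMod F (ClSub.quotMod D)) :=
    Groth.Agent.CurveCoh17.isCoh_tensor hF (Groth.Agent.CurveCoh17.isCoh_quotMod D)
  rw [Groth.Agent.Snapper.intNum_eq_alt hd hsnoc hF, Groth.Agent.Snapper.intNum_eq_alt hd hM hQ,
    Groth.Agent.Snapper.alt_chi_snoc, Groth.Agent.Snapper.alt_chi_cons_cokernel hM hI (ClSub.idealModι D) hF,
    Groth.Agent.Snapper.alt_chi_iso M e]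

end Groth.Agent.S14522
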