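import Groth.Statements.S14525
import Groth.Agent.Lib.NumPoly18.SurfProj

set_option autoImplicit false
universe u
open CategoryTheory CategoryTheory.Limits AlgebraicGeometry
open Surf

open Groth.Agent Groth.Agent.NumPoly18
namespace Groth.Agent.S14525

/-- Let k be an algebraically closed field, X a smooth projective surface over k (integral, smooth over
k, of dimension two, with a closed immersion over k into some projective space), L an invertible
O_X-module with tensor inverse L' such that (L·L) > 0, and M an ample invertible module with tensor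
inverse M'; intersection numbers are the alternating Euler-characteristic sums in the inverses (the
prelude's FGA.intNum, so (L·L) is computed in L', L' and (L·M) in L', M'). Then (L·M) ≠ 0; if (L·M)
> 0 there is c > 0 with dim_k H^0(X, L^{⊗m}) > c·m² for all large m, and if (L·M) < 0 the same holds
for L' in place of L. -/
theorem result (k : Type u) [Field k] [IsAlgClosed k]
    (X : Scheme.{u}) [X.Over (Spec (CommRingCat.of k))] [IsIntegral X] [Smooth (X ↘ (Spec (CommRingCat.of k)))] (hdim : topologicalKrullDim X = 2)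
    (hprojX : ∃ (N : ℕ) (ι : X ⟶ CohB1.ProjSpace N k), IsClosedImmersion ι ∧ ι ≫ CohB1.ProjSpace.toSpec N k = (X ↘ (Spec (CommRingCat.of k))))
    (L L' : X.Modules) (hL : PicF.IsInvertible L) (hLL' : ClSub.IsInverseOf L L')
    (hpos : 0 < FGA.intNum k X 2 ![L', L'] (Coh.structureModule X))
    (M M' : X.Modules) (hM : CohB1.IsAmple M) (hMM' : ClSub.IsInverseOf M M') :
    FGA.intNum k X 2 ![L', M'] (Coh.structureModule X) ≠ 0 ∧
    (0 < FGA.intNum k X 2 ![L', M'] (Coh.structureModule X) →
      ∃ c : ℚ, 0 < c ∧ ∃ m₀ : ℕ, ∀ m : ℕ, m₀ ≤ m →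
        c * (m : ℚ) ^ 2 < (Module.finrank k (Coh.HH X (CohB1.tensorPow L m) 0) : ℚ)) ∧
    (FGA.intNum k X 2 ![L', M'] (Coh.structureModule X) < 0 →
      ∃ c : ℚ, 0 < c ∧ ∃ m₀ : ℕ, ∀ m : ℕ, m₀ ≤ m →
        c * (m : ℚ) ^ 2 < (Module.finrank k (Coh.HH X (CohB1.tensorPow L' m) 0) : ℚ)) := by
  obtain ⟨N, ι, _, hι⟩ := hprojX
  haveI := isProper_of_closedImmersion ι hι
  have hd : topologicalKrullDim X = ((2 : ℕ) : WithBot ℕ∞) := by simpa using hdim
  obtain ⟨e⟩ := hLL'
  obtain ⟨e'⟩ := hMM'
  have hL' : PicF.IsInvertible L' := M2.isInvertible_of_tensor_iso hL (M2.tensorComm _ _ ≪≫ e)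
  have hM' : PicF.IsInvertible M' := M2.isInvertible_of_tensor_iso hM.1 (M2.tensorComm _ _ ≪≫ e')
  have hLM : (FGA.intNum k X 2 ![L', M'] (Coh.structureModule X) : ℚ) = dot k L M :=
    intNum2_inverse hd.le hL hL' e hM.1 hM' e'
  have hpos' : (0 : ℚ) < dot k L L := by
    rw [← intNum2_inverse hd.le hL hL' e hL hL' e]; exact_mod_cast hpos
  refine ⟨fun h0 => dot_ne_zero hd hM hL hpos' (by rw [← hLM, h0, Int.cast_zero]), fun h => ?_, fun h => ?_⟩
  · exact eventually_sections hd hM hL hpos' (by rw [← hLM]; exact_mod_cast h)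
  · refine eventually_sections hd hM hL' (by rw [← intNum2 hd.le hL' hL']; exact_mod_cast hpos) ?_
    rw [dot_inverse hd.le hL hL' e hM.1, ← hLM, neg_pos]
    exact_mod_cast h

end Groth.Agent.S14525
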