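import Groth.Statements.S14535
import Groth.Agent.Lib.HopfPts19.Torsor
import Groth.Agent.Lib.HopfPts19.Scheme
import Groth.Agent.Lib.TorsorSch25.Transfer
import Groth.Agent.Lib.FpqcDesc.Basic
import Groth.Prelude.Def_CoactBr

set_option autoImplicit false
universe u
open CategoryTheory MonoidalCategory CartesianMonoidalCategory MonObj GrpObj AlgebraicGeometry
open PrincBund

namespace Groth.Agent.S14535

set_option backward.isDefEq.respectTransparency.types false
open CategoryTheory.Limits Opposite Groth.Agent.HopfPts19 CoactBr WithConv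

variable {k : Type u} [Field k] {A : Type u} [CommRing A] [HopfAlgebra k A] {R : Type u} [CommRing R] [Algebra k R]
  {G P : Over (Spec (CommRingCat.of k))} [GrpObj G]

theorem pt_surjective {C : Type u} [CommRing C] [Algebra k C] :
    Function.Surjective (pt (R := k) (B := R) (K := C)) := fun f => by
  obtain ⟨φ, hφ⟩ := Spec.map_surjective (R := CommRingCat.of R) (S := CommRingCat.of C) f.left
  have hw : CommRingCat.ofHom (algebraMap k R) ≫ φ = CommRingCat.ofHom (algebraMap k C) := Spec.map_injective (by
    rw [Spec.map_comp, hφ]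
    exact Over.w f)
  exact ⟨{ φ.hom with commutes' := fun r => ConcreteCategory.congr_hom hw r }, Over.OverMorphism.ext hφ⟩

/-- The points of a torsor. -/
noncomputable def torsorPts (eG : sp k A ⟶ G) [IsMonHom eG] [IsIso eG] (eP : sp k R ≅ P) (a : AlgGrp.Action G P)
    (h : NonAbH1.IsPseudoTorsorSch a) : TorsorPts k A R where
  smul g x := Function.surjInv pt_surjective (lift (pt g.ofConv ≫ eG) (pt x ≫ eP.hom) ≫ a.act ≫ eP.inv)
  mul_smul {C} _ _ g h x := by
    apply pt_injective
    simp only [Function.surjInv_eq pt_surjective]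
    rw [show pt (g * h).ofConv = pt g.ofConv * pt h.ofConv from map_mul Spec.mapMulEquiv g h, MonObj.mul_comp,
      ← Category.assoc, AlgGrp.Action.lift_mul_act]
    simp only [Category.assoc, Iso.inv_hom_id, Category.comp_id]
  nat {C D} _ _ _ _ f g x := by
    apply pt_injective
    rw [pt_comp]
    simp only [Function.surjInv_eq pt_surjective, ofConv_toConv, pt_comp]
    simp only [← Category.assoc, comp_lift]
  trans {C} _ _ x y := by
    obtain ⟨t, ht, -⟩ := TorsorSch25.existsUnique_smul h (pt y ≫ eP.hom) (pt x ≫ eP.hom)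
    obtain ⟨g, hg⟩ := pt_surjective (R := A) (t ≫ inv eG)
    refine ⟨toConv g, ?_⟩
    apply pt_injective
    simp only [Function.surjInv_eq pt_surjective, ofConv_toConv, hg]
    rw [Category.assoc, IsIso.inv_hom_id, Category.comp_id, ← Category.assoc, ht]
    simp
  free {C} _ _ g h' x e := by
    have e' := congrArg pt e
    simp only [Function.surjInv_eq pt_surjective, ← Category.assoc, cancel_mono] at e'
    have := TorsorSch25.smul_cancel h e'
    rw [cancel_mono] at this
    exact ofConv_injective (pt_injective this)


/-- Let k be an algebraically closed field and G an affine group scheme over k, not necessarily of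
finite type. Then every principal G-bundle over Spec k, that is every k-scheme with a G-action which
is a pseudo-torsor and acquires sections on the members of some fpqc covering family of Spec k, is
trivial: it has a k-point. -/
theorem result (k : Type u) [Field k] [IsAlgClosed k]
    (G : Over (Spec (CommRingCat.of k))) [GrpObj G] [IsAffine G.left]
    (P : Over (Spec (CommRingCat.of k))) (a : AlgGrp.Action G P)
    (hP : NonAbH1.IsTorsorFor Scheme.fpqcPrecoverage a) :
    Nonempty (𝟙_ (Over (Spec (CommRingCat.of k))) ⟶ P) := by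
  obtain ⟨A, _, _, ⟨e⟩⟩ := exists_model G
  haveI : IsAffineHom G.hom := inferInstance
  haveI : IsAffine P.left := by
    haveI := FpqcDesc.descendsAlong_isAffineHom.{u}
    haveI : IsAffineHom P.hom := TorsorSch25.prop_of_isTorsorFor @IsAffineHom hP ‹_›
    exact isAffine_of_isAffineHom P.hom
  haveI : Nonempty P.left := by
    obtain ⟨R, hR, hsec⟩ := hP.2
    obtain ⟨W, w, _, _, hw, _, hs⟩ := TorsorSch25.exists_affine_test hR (isAffineOpen_top (Spec (CommRingCat.of k)))
    obtain ⟨s, -⟩ := hs P hsec
    obtain ⟨y, -⟩ := w.surjective ⟨IsLocalRing.closedPoint k, trivial⟩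
    exact ⟨s y⟩
  obtain ⟨⟨R⟩, ⟨eP⟩⟩ := (essImage_algSpec (G := P)).2 inferInstance
  let eP' : sp k R ≅ P := eP
  haveI : Nontrivial R := by
    obtain ⟨y⟩ := ‹Nonempty P.left›
    exact (eP'.inv.left y : PrimeSpectrum R).nontrivial
  let eG : sp k A ⟶ G := e.hom.hom.hom
  haveI : IsMonHom eG := e.hom.hom.isMonHom_hom
  haveI : IsIso eG := inferInstanceAs (IsIso ((Grp.forget _).map e.hom))
  obtain ⟨z⟩ := (torsorPts eG eP' a hP.1).exists_point
  exact ⟨ptOfAlgHom z ≫ eP'.hom⟩

end Groth.Agent.S14535
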