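import Groth.Statements.S14536
import Groth.Agent.Lib.HopfPts19.Scheme

set_option autoImplicit false
universe u
open CategoryTheory MonoidalCategory CartesianMonoidalCategory MonObj GrpObj AlgebraicGeometry
open PrincBund

namespace Groth.Agent.S14536

set_option backward.isDefEq.respectTransparency.types false
open Opposite Groth.Agent.HopfPts19


/-- Let k be an algebraically closed field and h : G → G' a homomorphism of affine group schemes over k
(not necessarily of finite type) which is surjective on underlying spaces. Then h is surjective on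
k-points: every k-point of G' is the image of a k-point of G. -/
theorem result (k : Type u) [Field k] [IsAlgClosed k]
    (G G' : Over (Spec (CommRingCat.of k))) [GrpObj G] [GrpObj G'] [IsAffine G.left] [IsAffine G'.left]
    (h : G ⟶ G') [IsMonHom h] (hs : Surjective h.left) (x : 𝟙_ (Over (Spec (CommRingCat.of k))) ⟶ G') :
    ∃ g : 𝟙_ (Over (Spec (CommRingCat.of k))) ⟶ G, g ≫ h = x := by
  obtain ⟨A, _, _, ⟨e⟩⟩ := exists_model G
  obtain ⟨A', _, _, ⟨e'⟩⟩ := exists_model G'
  let hm : Grp.mk G ⟶ Grp.mk G' := Grp.homMk' (A := Grp.mk G) (B := Grp.mk G') ⟨h⟩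
  let f : (hopfSpec (CommRingCat.of k)).obj (op (CommHopfAlgCat.of k A)) ⟶
      (hopfSpec (CommRingCat.of k)).obj (op (CommHopfAlgCat.of k A')) :=
    e.hom ≫ hm ≫ e'.inv
  let φ : A' →ₐc[k] A := (hopfSpec.fullyFaithful.preimage f).unop.hom
  have hf : f.hom.hom = (algSpec (CommRingCat.of k)).map (CommAlgCat.ofHom (φ : A' →ₐ[k] A)).op := by
    rw [← hopfSpec.fullyFaithful.map_preimage f]
    rfl
  have hfl : f.hom.hom.left = Spec.map (CommRingCat.ofHom (φ : A' →ₐ[k] A).toRingHom) := by rw [hf]; rfl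
  haveI hfs : Surjective f.hom.hom.left := by
    have : f.hom.hom.left = e.hom.hom.hom.left ≫ h.left ≫ e'.inv.hom.hom.left := rfl
    rw [this]
    haveI : IsIso e.hom.hom.hom.left := inferInstanceAs (IsIso ((Over.forget _).map ((Grp.forget _).map e.hom)))
    haveI : IsIso e'.inv.hom.hom.left := inferInstanceAs (IsIso ((Over.forget _).map ((Grp.forget _).map e'.inv)))
    infer_instance
  let x₀ : 𝟙_ (Over (Spec (CommRingCat.of k))) ⟶
      Over.mk (Spec.map (CommRingCat.ofHom (algebraMap k A'))) := x ≫ e'.inv.hom.hom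
  obtain ⟨z', hz'⟩ := exists_algHom x₀
  -- the kernel of the point contains the kernel of `φ`
  have hker : RingHom.ker ((φ : A' →ₐ[k] A).toRingHom) ≤ RingHom.ker z'.toRingHom := by
    have hp : (RingHom.ker z'.toRingHom).IsPrime := RingHom.ker_isPrime _
    let g : Spec (CommRingCat.of A) ⟶ Spec (CommRingCat.of A') :=
      Spec.map (CommRingCat.ofHom (φ : A' →ₐ[k] A).toRingHom)
    haveI : Surjective g := by
      have : Surjective f.hom.hom.left := hfs
      rwa [hfl] at this
    obtain ⟨q, hq⟩ := g.surjective ⟨RingHom.ker z'.toRingHom, hp⟩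
    have hq' : PrimeSpectrum.comap (φ : A' →ₐ[k] A).toRingHom q = ⟨RingHom.ker z'.toRingHom, hp⟩ := hq
    intro a ha
    rw [← show (PrimeSpectrum.comap (φ : A' →ₐ[k] A).toRingHom q).asIdeal = RingHom.ker z'.toRingHom from
      congrArg PrimeSpectrum.asIdeal hq']
    show (φ : A' →ₐ[k] A).toRingHom a ∈ q.asIdeal
    rw [RingHom.mem_ker.1 ha]
    exact q.asIdeal.zero_mem
  -- the point on the image
  let r : A' →ₐ[k] (φ : A' →ₐ[k] A).range := (φ : A' →ₐ[k] A).rangeRestrict
  let z₀ : (φ : A' →ₐ[k] A).range →ₐ[k] k :=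
    (Ideal.Quotient.liftₐ (RingHom.ker (φ : A' →ₐ[k] A)) z' fun a ha => hker ha).comp
      (Ideal.quotientKerEquivRange (φ : A' →ₐ[k] A)).symm.toAlgHom
  have hz₀ : ∀ a, z₀ (r a) = z' a := fun a => by
    show Ideal.Quotient.liftₐ (RingHom.ker (φ : A' →ₐ[k] A)) z' (fun a ha => hker ha)
      ((Ideal.quotientKerEquivRange (φ : A' →ₐ[k] A)).symm (r a)) = _
    rw [show (Ideal.quotientKerEquivRange (φ : A' →ₐ[k] A)).symm (r a) = Ideal.Quotient.mk _ a from
      (AlgEquiv.symm_apply_eq _).2 (Subtype.ext rfl)]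
    rfl
  obtain ⟨z, hz⟩ := (isSub_range φ).exists_extend z₀
  refine ⟨ptOfAlgHom z ≫ e.hom.hom.hom, ?_⟩
  have hcomp : z.comp (φ : A' →ₐ[k] A) = z' := AlgHom.ext fun a => (hz (r a)).trans (hz₀ a)
  have h1 : ptOfAlgHom z ≫ f.hom.hom = ptOfAlgHom z' := by
    refine Over.OverMorphism.ext ?_
    show (ptOfAlgHom z).left ≫ f.hom.hom.left = _
    rw [hfl]
    show Spec.map _ ≫ Spec.map _ = Spec.map _
    rw [← Spec.map_comp, ← hcomp]
    rfl
  have h2 : e.hom.hom.hom ≫ h = f.hom.hom ≫ e'.hom.hom.hom := by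
    show e.hom.hom.hom ≫ h = (e.hom.hom.hom ≫ h ≫ e'.inv.hom.hom) ≫ e'.hom.hom.hom
    rw [Category.assoc, Category.assoc, show e'.inv.hom.hom ≫ e'.hom.hom.hom = 𝟙 G' from
      congrArg (fun g => g.hom.hom) e'.inv_hom_id, Category.comp_id]
  refine (Category.assoc _ _ _).trans ((congrArg (fun g => ptOfAlgHom z ≫ g) h2).trans ?_)
  refine (Category.assoc _ _ _).symm.trans ?_
  refine (congrArg (fun g => g ≫ e'.hom.hom.hom) (h1.trans hz')).trans ?_
  refine (Category.assoc _ _ _).trans ?_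
  exact (congrArg (fun g => x ≫ g) (congrArg (fun g => g.hom.hom) e'.inv_hom_id :
    e'.inv.hom.hom ≫ e'.hom.hom.hom = 𝟙 G')).trans (Category.comp_id x)

end Groth.Agent.S14536
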