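import Groth.Statements.S14537
import Groth.Agent.Lib.HopfPts19.Scheme

set_option autoImplicit false
universe u
open CategoryTheory MonoidalCategory CartesianMonoidalCategory MonObj GrpObj AlgebraicGeometry
open PrincBund

namespace Groth.Agent.S14537

set_option backward.isDefEq.respectTransparency.types false
open Opposite Groth.Agent.HopfPts19


/-- Let k be an algebraically closed field and G an affine group scheme over k, not necessarily of
finite type. Then the set of k-rational points of G is dense in the underlying space of G. -/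
theorem result (k : Type u) [Field k] [IsAlgClosed k]
    (G : Over (Spec (CommRingCat.of k))) [GrpObj G] [IsAffine G.left] :
    Dense {x : ↥G.left | ∃ g : 𝟙_ (Over (Spec (CommRingCat.of k))) ⟶ G, g.left.base (IsLocalRing.closedPoint k) = x} := by
  obtain ⟨A, _, _, ⟨e⟩⟩ := exists_model G
  rw [dense_iff_inter_open]
  intro U hU ⟨y, hy⟩
  let ψ : Spec (CommRingCat.of A) ⟶ G.left := e.hom.hom.hom.left
  haveI : IsIso ψ := inferInstanceAs (IsIso ((Over.forget _).map ((Grp.forget _).map e.hom)))
  obtain ⟨y', hy'⟩ := ψ.surjective y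
  have hV : IsOpen (ψ.base ⁻¹' U) := hU.preimage ψ.continuous
  obtain ⟨_, ⟨a, rfl⟩, hay, haV⟩ :=
    PrimeSpectrum.isTopologicalBasis_basic_opens.exists_subset_of_mem_open
      (show y' ∈ ψ.base ⁻¹' U from by show ψ.base y' ∈ U; rwa [hy']) hV
  have hnil : ¬ IsNilpotent a := fun h => hay (nilpotent_iff_mem_prime.1 h _ y'.isPrime)
  obtain ⟨z, hz⟩ := exists_point_ne_zero' (k := k) hnil
  refine ⟨_, ?_, ptOfAlgHom z ≫ e.hom.hom.hom, rfl⟩
  show ψ.base ((Spec.map (CommRingCat.ofHom z.toRingHom)).base (IsLocalRing.closedPoint k)) ∈ U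
  refine haV ?_
  show z a ∉ (IsLocalRing.closedPoint k).asIdeal
  intro h
  rw [show (IsLocalRing.closedPoint k).asIdeal = IsLocalRing.maximalIdeal k from rfl,
    IsLocalRing.maximalIdeal_eq_bot, Ideal.mem_bot] at h
  exact hz h

end Groth.Agent.S14537
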