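import Groth.Statements.S14539
import Groth.Agent.Lib.HopfPts19.Basic
import Groth.Agent.Lib.HopfRedH28.Basic

set_option autoImplicit false
universe u v w
open TensorProduct
open PrincBund

namespace Groth.Agent.S14539

open Groth.Agent.HopfPts19

variable {k : Type u} {A : Type v} [Field k] [IsAlgClosed k] [CharZero k] [CommRing A] [HopfAlgebra k A]

/-- In characteristic zero rational points separate the functions. -/
theorem eq_zero_of_points {a : A} (h : ∀ g : A →ₐ[k] k, g a = 0) : a = 0 := by
  obtain ⟨T, hT, hTfg, haT⟩ := exists_fg_isSub (k := k) ({a} : Finset A)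
  obtain ⟨B, _, _, _, φ, hφ, hφT⟩ := exists_hopf_fg hT hTfg
  have hmem : a ∈ (φ : B →ₐ[k] A).range := hφT.symm ▸ haT (by simp)
  obtain ⟨b, hb⟩ := hmem
  haveI : IsReduced B := HopfRedH28.isReduced_of_charZero k B
  have hnil : IsNilpotent a := by
    by_contra hn
    obtain ⟨g, hg⟩ := exists_point_ne_zero' (k := k) hn
    exact hg (h g)
  obtain ⟨n, hn⟩ := hnil
  have hbn : b ^ n = 0 := hφ (by rw [map_pow, map_zero]; rw [← hb] at hn; exact hn)
  rw [← hb, IsReduced.eq_zero b ⟨n, hbn⟩]
  exact map_zero φ


/-- Let k be an algebraically closed field of characteristic 0, A a commutative Hopf algebra over k (the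
coordinate ring of an affine group scheme G over k, not necessarily of finite type) and V a right
A-comodule, of any dimension. If a k-subspace W of V is mapped into itself by the action of every
k-rational point of G (every k-algebra homomorphism A → k, acting on V through the coaction), then W
is a subcomodule of V. -/
theorem result (k : Type u) (A : Type v) [Field k] [IsAlgClosed k]
    [CharZero k] [CommRing A] [HopfAlgebra k A]
    (V : Type w) [AddCommGroup V] [Module k V] [HopfRep.Comod k A V] (W : Submodule k V)
    (hW : ∀ g : A →ₐ[k] k, W.map (HopfRep.Comod.act k A V g) ≤ W) :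
    HopfRep.IsSubcomod (k := k) (A := A) W := by
  intro w hw
  let z : (V ⧸ W) ⊗[k] A := W.mkQ.rTensor A (HopfRep.Comod.coact (k := k) (A := A) w)
  let c := Module.Free.chooseBasis k (V ⧸ W)
  have hz : z = 0 := by
    apply (TensorProduct.equivFinsuppOfBasisLeft (N := A) c).injective
    rw [map_zero]
    ext i
    refine eq_zero_of_points (k := k) fun g => ?_
    have e : ∀ d : V ⊗[k] A, g (TensorProduct.equivFinsuppOfBasisLeft (N := A) c (W.mkQ.rTensor A d) i) =
        c.coord i (W.mkQ (TensorProduct.rid k V (g.toLinearMap.lTensor V d))) := by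
      intro d
      induction d with
      | zero => simp
      | add p q hp hq => simp only [map_add, Finsupp.add_apply, hp, hq]
      | tmul w a => simp [mul_comm]
    show g (TensorProduct.equivFinsuppOfBasisLeft (N := A) c z i) = 0
    rw [e, show W.mkQ (TensorProduct.rid k V (g.toLinearMap.lTensor V
      (HopfRep.Comod.coact (k := k) (A := A) w))) = 0 from
      (Submodule.Quotient.mk_eq_zero W).2 (hW g ⟨w, hw, rfl⟩), map_zero]
  have hex : Function.Exact (W.subtype.rTensor A) (W.mkQ.rTensor A) :=
    rTensor_exact A (LinearMap.exact_subtype_mkQ W) W.mkQ_surjective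
  exact (hex _).1 hz

end Groth.Agent.S14539
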