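import Groth.Statements.S14540
import Groth.Agent.Lib.PushTors19.Torsor
import Groth.Agent.Lib.TorsorSch25.Basic

set_option autoImplicit false
universe u
open CategoryTheory MonoidalCategory CartesianMonoidalCategory MonObj GrpObj AlgebraicGeometry
open PrincBund

namespace Groth.Agent.S14540

set_option backward.isDefEq.respectTransparency.types false
open Groth.Agent.PushTors19 CategoryTheory.Limits


/-- Let X be a scheme, J and J' group schemes affine over X, with no flatness or finiteness condition, u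
: J → J' a homomorphism and P a J-torsor for the fpqc topology. Then the push forward of P along u
exists: there is a J'-torsor P' for the fpqc topology together with an X-morphism P → P' compatible
with u. -/
theorem result {X : Scheme.{u}}
    {J J' : Over X} [GrpObj J] [GrpObj J'] [IsAffineHom J.hom] [IsAffineHom J'.hom]
    (u : J ⟶ J') [IsMonHom u] (P : NonAbH1.TorsorSch J Scheme.fpqcPrecoverage) :
    ∃ P' : NonAbH1.TorsorSch J' Scheme.fpqcPrecoverage,
      NonAbH1.IsPushforwardAlongSch u P.act P'.act := by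
  obtain ⟨R, hR, hsec⟩ := P.isTorsor.2
  obtain ⟨𝒱, rfl⟩ := Precoverage.mem_iff_exists_zeroHypercover.1 hR
  haveI : Precoverage.Small.{u} (Scheme.fpqcPrecoverage.{u}) :=
    inferInstanceAs (Precoverage.Small.{u} (Scheme.propQCPrecoverage @Flat))
  haveI : Precoverage.ZeroHypercover.Small.{u} 𝒱 := Precoverage.Small.zeroHypercoverSmall 𝒱
  let 𝒰 := 𝒱.restrictIndexOfSmall
  have hR' : Presieve.ofArrows 𝒰.X 𝒰.f ∈ Scheme.fpqcPrecoverage X := 𝒰.mem₀
  choose s hs using fun i : 𝒰.I₀ => hsec (𝒰.f i) (Presieve.ofArrows.mk _)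
  let σ : ∀ i, Over.mk (𝒰.f i) ⟶ P.X := fun i => Over.homMk (s i) (hs i)
  let g : ∀ {T : Over X}, (T ⟶ P.X) → (T ⟶ P.X) → (T ⟶ J) := fun p p' =>
    (TorsorSch25.existsUnique_smul P.isTorsor.1 p' p).choose
  have hg : ∀ {T : Over X} (p p' : T ⟶ P.X), lift (g p p') p' ≫ P.act.act = p := fun p p' =>
    (TorsorSch25.existsUnique_smul P.isTorsor.1 p' p).choose_spec.1
  have hgu : ∀ {T : Over X} (p p' : T ⟶ P.X) (h : T ⟶ J), lift h p' ≫ P.act.act = p → h = g p p' :=
    fun p p' h e => (TorsorSch25.existsUnique_smul P.isTorsor.1 p' p).choose_spec.2 h e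
  have gnat : ∀ {T T' : Over X} (a : T' ⟶ T) (p p' : T ⟶ P.X), a ≫ g p p' = g (a ≫ p) (a ≫ p') :=
    fun a p p' => hgu _ _ _ (by rw [← comp_lift_assoc, hg])
  have gmul : ∀ {T : Over X} (p p' p'' : T ⟶ P.X), g p p' * g p' p'' = g p p'' := fun p p' p'' =>
    hgu _ _ _ (by rw [AlgGrp.Action.lift_mul_act, hg, hg])
  let Z : Cocycle 𝒰.f J' :=
    { c := fun {T i j} x y => g (x ≫ σ i) (y ≫ σ j) ≫ u
      nat := fun a x y => by rw [← Category.assoc, gnat, Category.assoc, Category.assoc]
      self := fun {T i} x => by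
        have h := gmul (x ≫ σ i) (x ≫ σ i) (x ≫ σ i)
        rw [mul_eq_left] at h
        rw [h, MonObj.one_comp]
      comp := fun x y z => by rw [← MonObj.mul_comp, gmul] }
  obtain ⟨U⟩ := exists_twisted Z hR'
  obtain ⟨a', ha', hkey⟩ := exists_torsor U hR'
  let F : Pre (Z := Z) P.X :=
    { co := fun {T i} b x => g b (x ≫ σ i) ≫ u
      co_nat := fun {T T' i} c b x => by rw [← Category.assoc c, gnat, Category.assoc]
      co_change := fun {T i j} b x x' => by
        show _ = _ * (g (x ≫ σ i) (x' ≫ σ j) ≫ u)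
        rw [← MonObj.mul_comp, gmul] }
  obtain ⟨q, hq⟩ := exists_point U hR' F
  refine ⟨⟨U.U, a', ha'⟩, q, ext_coord U hR' fun {T} {i} b x => ?_⟩
  show U.coord x (b ≫ P.act.act ≫ q) = _
  rw [← Category.assoc b, hq, hkey, ← Category.assoc b, ← Category.assoc b (snd J P.X), hq]
  show g (b ≫ P.act.act) (x ≫ σ i) ≫ u = ((b ≫ fst J P.X) ≫ u) * (g (b ≫ snd J P.X) (x ≫ σ i) ≫ u)
  rw [← MonObj.mul_comp]
  congr 1
  refine (hgu _ _ _ ?_).symm
  rw [AlgGrp.Action.lift_mul_act, hg, ← comp_lift_assoc, lift_fst_snd, Category.id_comp]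

end Groth.Agent.S14540
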