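import Groth.Statements.S14541
import Groth.Agent.Lib.TorsorSch25.Basic

set_option autoImplicit false
universe u
open CategoryTheory MonoidalCategory CartesianMonoidalCategory MonObj GrpObj AlgebraicGeometry
open PrincBund

namespace Groth.Agent.S14541

set_option backward.isDefEq.respectTransparency.types false
open Groth.Agent.TorsorSch25


/-- Let X be a scheme, J, J' and J'' group schemes affine over X, with no flatness or finiteness
condition, u : J → J' and v : J' → J'' homomorphisms, P a J-torsor, P' a J'-torsor and P'' a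
J''-torsor, all for the fpqc topology, q' : P → P' an X-morphism compatible with u and q'' : P → P''
an X-morphism compatible with the composite homomorphism J → J' → J''. Then there is exactly one
X-morphism r : P' → P'' compatible with v whose composite with q' is q''. Taking v to be the
identity, the push forward of a torsor along u is unique up to unique isomorphism. -/
theorem result {X : Scheme.{u}}
    {J J' J'' : Over X} [GrpObj J] [GrpObj J'] [GrpObj J''] [IsAffineHom J.hom] [IsAffineHom J'.hom]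
    [IsAffineHom J''.hom] (u : J ⟶ J') [IsMonHom u] (v : J' ⟶ J'') [IsMonHom v] {P P' P'' : Over X}
    (a : AlgGrp.Action J P) (a' : AlgGrp.Action J' P') (a'' : AlgGrp.Action J'' P'')
    (hP : NonAbH1.IsTorsorFor Scheme.fpqcPrecoverage a)
    (hP' : NonAbH1.IsTorsorFor Scheme.fpqcPrecoverage a')
    (hP'' : NonAbH1.IsTorsorFor Scheme.fpqcPrecoverage a'')
    (q' : P ⟶ P') (hq' : a.act ≫ q' = lift (fst J P ≫ u) (snd J P ≫ q') ≫ a'.act)
    (q'' : P ⟶ P'') (hq'' : a.act ≫ q'' = lift (fst J P ≫ u ≫ v) (snd J P ≫ q'') ≫ a''.act) :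
    ∃! r : P' ⟶ P'', a'.act ≫ r = lift (fst J' P' ≫ v) (snd J' P' ≫ r) ≫ a''.act ∧ q' ≫ r = q'' := by
  let Pr : ∀ ⦃T' : Over X⦄, (T' ⟶ P') → (T' ⟶ P'') → Prop := fun T' f z =>
    ∀ ⦃T'' : Over X⦄ (c : T'' ⟶ T') (x : T'' ⟶ P) (g : T'' ⟶ J'),
      lift g (x ≫ q') ≫ a'.act = c ≫ f → lift (g ≫ v) (x ≫ q'') ≫ a''.act = c ≫ z
  have eq1 : ∀ {T : Over X} (h : T ⟶ J) (x : T ⟶ P),
      (lift h x ≫ a.act) ≫ q' = lift (h ≫ u) (x ≫ q') ≫ a'.act := by
    intro T h x
    rw [Category.assoc, hq', comp_lift_assoc, lift_fst_assoc, lift_snd_assoc]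
  have eq2 : ∀ {T : Over X} (h : T ⟶ J) (x : T ⟶ P),
      (lift h x ≫ a.act) ≫ q'' = lift (h ≫ u ≫ v) (x ≫ q'') ≫ a''.act := by
    intro T h x
    rw [Category.assoc, hq'', comp_lift_assoc, lift_fst_assoc, lift_snd_assoc]
  have hres : ∀ ⦃T' T'' : Over X⦄ (b : T'' ⟶ T') (f : T' ⟶ P') (z : T' ⟶ P''),
      Pr f z → Pr (b ≫ f) (b ≫ z) := by
    intro T' T'' b f z h W c x g hg
    rw [← Category.assoc]
    exact h (c ≫ b) x g (by rw [hg, Category.assoc])
  obtain ⟨R, hR, hsec⟩ := hP.2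
  have huniq : ∀ ⦃T' : Over X⦄ (f : T' ⟶ P') (z z' : T' ⟶ P''), Pr f z → Pr f z' → z = z' := by
    intro T' f z z' h h'
    obtain ⟨R', hR', hR''⟩ := exists_cover_over hR T'
    refine hom_ext_of_cover hR' fun W c hc => ?_
    obtain ⟨x⟩ := hR'' hsec c hc
    obtain ⟨g, hg, -⟩ := existsUnique_smul hP'.1 (x ≫ q') (c ≫ f)
    exact (h c x g hg).symm.trans (h' c x g hg)
  obtain ⟨R', hR', hR''⟩ := exists_cover_over hR P'
  have hex : ∀ ⦃T' : Over X⦄ (f : T' ⟶ P'), R' f.left → ∃ z, Pr f z := by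
    intro T' f hf
    obtain ⟨x⟩ := hR'' hsec f hf
    obtain ⟨g, hg, -⟩ := existsUnique_smul hP'.1 (x ≫ q') f
    refine ⟨lift (g ≫ v) (x ≫ q'') ≫ a''.act, fun W c x' g' hg' => ?_⟩
    obtain ⟨h, hh, -⟩ := existsUnique_smul hP.1 (c ≫ x) x'
    have e : g' * (h ≫ u) = c ≫ g := by
      refine smul_cancel hP'.1 (x := c ≫ x ≫ q') ?_
      rw [AlgGrp.Action.lift_mul_act]
      have e1 := eq1 h (c ≫ x)
      rw [hh, Category.assoc] at e1
      rw [← e1, hg', ← hg, comp_lift_assoc]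
    have e2 := eq2 h (c ≫ x)
    rw [hh, Category.assoc] at e2
    rw [e2, ← AlgGrp.Action.lift_mul_act, comp_lift_assoc, ← Category.assoc c g v, ← e,
      MonObj.mul_comp, Category.assoc]
  obtain ⟨r, hr⟩ := exists_glue (T := P') (Z := P'') Pr hres huniq hR' hex
  have key : ∀ ⦃T : Over X⦄ (x : T ⟶ P) (g : T ⟶ J'),
      lift (g ≫ v) (x ≫ q'') ≫ a''.act = (lift g (x ≫ q') ≫ a'.act) ≫ r := by
    intro T x g
    generalize hcdef : lift g (x ≫ q') ≫ a'.act = c
    refine hom_ext_of_cover (Precoverage.pullbackArrows_mem c.left hR') fun W d hd => ?_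
    obtain ⟨V, w, hw, q, hq⟩ := exists_of_pullbackArrows hd
    let f : Over.mk (w ≫ P'.hom) ⟶ P' := Over.homMk w rfl
    let e : W ⟶ Over.mk (w ≫ P'.hom) := Over.homMk q (by
      show q ≫ w ≫ P'.hom = W.hom
      rw [← Category.assoc, hq, Category.assoc, Over.w c, Over.w d])
    have he : e ≫ f = d ≫ c := Over.OverMorphism.ext hq
    have h := hr f hw e (d ≫ x) (d ≫ g)
      (by rw [he, ← hcdef, comp_lift_assoc, Category.assoc])
    rw [← Category.assoc e f r, he] at h
    simpa [comp_lift_assoc, Category.assoc] using h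
  refine ⟨r, ⟨?_, ?_⟩, ?_⟩
  · obtain ⟨R₂, hR₂, hR₂'⟩ := exists_cover_over hR (J' ⊗ P')
    refine hom_ext_of_cover hR₂ fun W c hc => ?_
    obtain ⟨x⟩ := hR₂' hsec c hc
    obtain ⟨g, hg, -⟩ := existsUnique_smul hP'.1 (x ≫ q') (c ≫ snd J' P')
    have hc' : c = lift (c ≫ fst J' P') (c ≫ snd J' P') := by rw [← comp_lift, lift_fst_snd, Category.comp_id]
    rw [comp_lift_assoc, ← Category.assoc c (snd J' P') r, ← Category.assoc c (fst J' P') v]
    conv_rhs => rw [← hg, ← key, ← AlgGrp.Action.lift_mul_act, ← MonObj.mul_comp, key]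
    rw [← Category.assoc c a'.act r]
    congr 1
    conv_lhs => rw [hc', ← hg, ← AlgGrp.Action.lift_mul_act]
  · have h := key (𝟙 P) 1
    simp only [AlgGrp.Action.lift_one_act, Category.id_comp, MonObj.one_comp] at h
    exact h.symm
  · rintro r' ⟨h1, h2⟩
    obtain ⟨R₂, hR₂, hR₂'⟩ := exists_cover_over hR P'
    refine hom_ext_of_cover hR₂ fun W c hc => ?_
    obtain ⟨x⟩ := hR₂' hsec c hc
    obtain ⟨g, hg, -⟩ := existsUnique_smul hP'.1 (x ≫ q') c
    rw [← hg, ← key, Category.assoc, h1, comp_lift_assoc, lift_fst_assoc, lift_snd_assoc,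
      Category.assoc, h2]

end Groth.Agent.S14541
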