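import Groth.Statements.S14543
import Groth.Agent.Lib.UnipFix15.Levi
-- import your own Groth.Agent.* helpers here

set_option autoImplicit false
universe u
open CategoryTheory MonoidalCategory CartesianMonoidalCategory MonObj GrpObj AlgebraicGeometry
open PrincBund

namespace Groth.Agent.S14543

/-- Let k be a field of characteristic 0, G an affine group scheme of finite type over k with unipotent
radical u : U → G, and l₁ : L₁ → G, l₂ : L₂ → G homomorphisms of k-group schemes each of which is a
Levi complement to U (multiplication Lᵢ × U → G is an isomorphism). Then there are a k-rational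
point v of U and an isomorphism e : L₁ ≅ L₂ over k with l₂ ∘ e equal to the conjugate v l₁ v⁻¹. (The
published statement is for affine group schemes over k not necessarily of finite type; this row is
the finite-type case.) -/
theorem result (k : Type u) [Field k] [CharZero k]
    (G : Over (Spec (CommRingCat.of k))) [GrpObj G] [IsAffine G.left] [LocallyOfFiniteType G.hom]
    (U : Over (Spec (CommRingCat.of k))) [GrpObj U] (u : U ⟶ G) (hU : Par.IsUnipotentRadical u)
    (L₁ L₂ : Over (Spec (CommRingCat.of k))) [GrpObj L₁] [GrpObj L₂] (l₁ : L₁ ⟶ G) (l₂ : L₂ ⟶ G)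
    [IsMonHom l₁] [IsMonHom l₂]
    (h₁ : IsIso ((l₁ ⊗ₘ u) ≫ μ[G])) (h₂ : IsIso ((l₂ ⊗ₘ u) ≫ μ[G])) :
    ∃ (v : 𝟙_ (Over (Spec (CommRingCat.of k))) ⟶ U) (e : L₁ ≅ L₂), e.hom ≫ l₂ = AGF.conjBy (v ≫ u) l₁ := by
  exact Groth.Agent.UnipFix15.exists_conj_complements G U u hU L₁ L₂ l₁ l₂ h₁ h₂

end Groth.Agent.S14543
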