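import Groth.Statements.S14545
import Groth.Agent.Lib.QuotAff15.Basic
import Groth.Agent.Lib.AbRigid.Maximal
import Groth.Agent.Lib.FppfSource.Scheme
import Groth.Agent.Lib.Cartier.Smooth
import Groth.Agent.Lib.OrbitTop19.Smooth
import Groth.Agent.Lib.TorusIsog19.Basic
import Groth.Agent.Lib.FpqcDesc.Basic
-- import your own Groth.Agent.* helpers here

set_option autoImplicit false
universe u
open CategoryTheory MonoidalCategory CartesianMonoidalCategory MonObj GrpObj AlgebraicGeometry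
open PrincBund

namespace Groth.Agent.S14545

/-- Let k be a field of characteristic 0 and G an affine group scheme of finite type over k; let G' be a
closed subgroup of G and G₀ a closed normal subgroup of G with quotient q₁ : G → G₁ (so G₁ = G/G₀),
let G₀' = G₀ ∩ G' and let G₁' be the image of G' in G₁, a closed subgroup of G₁ through which G' →
G₁ factors by a surjective morphism. Suppose that the quotients G₀/G₀' and G₁/G₁' (fppf quotient
sheaves represented by schemes) are affine. Then every scheme Q representing the quotient G/G' is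
affine. -/
theorem result (k : Type u) [Field k] [CharZero k]
    (G : Over (Spec (CommRingCat.of k))) [GrpObj G] [IsAffine G.left] [LocallyOfFiniteType G.hom]
    (G' : Over (Spec (CommRingCat.of k))) [GrpObj G'] (i' : G' ⟶ G) [IsMonHom i'] (hi' : IsClosedImmersion i'.left)
    (G₀ : Over (Spec (CommRingCat.of k))) [GrpObj G₀] (i₀ : G₀ ⟶ G) [IsMonHom i₀] (hi₀ : IsClosedImmersion i₀.left)
    (hn : AlgGrp.IsNormalHom i₀)
    (G₁ : Over (Spec (CommRingCat.of k))) [GrpObj G₁] (q₁ : G ⟶ G₁) [IsMonHom q₁] (hq₁ : RedSub.IsQuotient i₀ q₁)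
    (G₀' : Over (Spec (CommRingCat.of k))) [GrpObj G₀'] (j : G₀' ⟶ G₀) [IsMonHom j] (j' : G₀' ⟶ G')
    (hj : IsPullback j j' i₀ i')
    (G₁' : Over (Spec (CommRingCat.of k))) [GrpObj G₁'] (i₁' : G₁' ⟶ G₁) [IsMonHom i₁'] (hi₁' : IsClosedImmersion i₁'.left)
    (p : G' ⟶ G₁') (hp : p ≫ i₁' = i' ≫ q₁) (hps : Surjective p.left)
    (Qa : Over (Spec (CommRingCat.of k))) (qa : G₀ ⟶ Qa) (hqa : RedSub.IsQuotient j qa) (ha : IsAffine Qa.left)
    (Qb : Over (Spec (CommRingCat.of k))) (qb : G₁ ⟶ Qb) (hqb : RedSub.IsQuotient i₁' qb) (hb : IsAffine Qb.left)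
    (Q : Over (Spec (CommRingCat.of k))) (q : G ⟶ Q) (hq : RedSub.IsQuotient i' q) :
    IsAffine Q.left := by

  obtain ⟨hs₁, hf₁, hp₁, hsq₁⟩ := hq₁
  obtain ⟨hsa, hfa, hpa, hsqa⟩ := hqa
  obtain ⟨hsb, hfb, hpb, hsqb⟩ := hqb
  obtain ⟨hs, hf, hp', hsq⟩ := hq
  have hc₁ : Groth.Agent.Desc.IsCover q₁ := ⟨hs₁, hf₁, hp₁⟩
  have hca : Groth.Agent.Desc.IsCover qa := ⟨hsa, hfa, hpa⟩
  have hcb : Groth.Agent.Desc.IsCover qb := ⟨hsb, hfb, hpb⟩
  have hcq : Groth.Agent.Desc.IsCover q := ⟨hs, hf, hp'⟩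
  -- quotient maps on points
  have rel : ∀ {A B C : Over (Spec (CommRingCat.of k))} [GrpObj A] [GrpObj B] (i : B ⟶ A) (π : A ⟶ C),
      IsPullback (fst A B) ((A ◁ i) ≫ μ[A]) π π → ∀ {T : Over (Spec (CommRingCat.of k))} (g h : T ⟶ A),
      g ≫ π = h ≫ π ↔ ∃ x : T ⟶ B, h = g * (x ≫ i) := by
    intro A B C _ _ i π hπ T g h
    have hmul : ∀ (g : T ⟶ A) (x : T ⟶ B), lift g x ≫ (A ◁ i) ≫ μ[A] = g * (x ≫ i) := fun g x => by
      rw [lift_whiskerLeft_assoc, Hom.mul_def]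
    constructor
    · intro e
      obtain ⟨t, ht1, ht2⟩ := hπ.exists_lift g h e
      refine ⟨t ≫ snd A B, ?_⟩
      rw [← hmul, ← ht1, ← comp_lift_assoc, lift_fst_snd, Category.id_comp, ht2]
    · rintro ⟨x, rfl⟩
      rw [← hmul, Category.assoc, ← hπ.w, lift_fst_assoc]
  -- smoothness of the target of `p`
  haveI := Groth.Agent.Cartier.smooth_of_charZero (K := k) G
  haveI : LocallyOfFiniteType G₁.hom := by
    haveI := hs₁; haveI := hf₁; haveI := hp₁
    haveI : LocallyOfFinitePresentation (q₁.left ≫ G₁.hom) := by rw [Over.w q₁]; infer_instance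
    haveI := Groth.Agent.FppfSource.locallyOfFinitePresentation_of_fppf_comp q₁.left G₁.hom
    infer_instance
  haveI := hi'
  haveI := hi₁'
  haveI : LocallyOfFiniteType G₁'.hom := by rw [← Over.w i₁']; infer_instance
  haveI : LocallyOfFiniteType G'.hom := by rw [← Over.w i']; infer_instance
  haveI := Groth.Agent.Cartier.smooth_of_charZero (K := k) G₁'
  haveI : AlgebraicGeometry.IsReduced G₁'.left := Groth.Agent.OrbitTop19.isReduced_of_smooth G₁'.hom
  haveI : IsMonHom (p ≫ i₁') := by rw [hp]; infer_instance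
  haveI : Mono i₁' := (Over.forget _).mono_of_mono_map (f := i₁') (inferInstanceAs (Mono i₁'.left))
  haveI : IsMonHom p := ⟨by
    rw [← cancel_mono i₁', Category.assoc, IsMonHom.one_hom (f := i₁')]
    exact IsMonHom.one_hom (f := p ≫ i₁'), by
    rw [← cancel_mono i₁', Category.assoc, Category.assoc, IsMonHom.mul_hom (f := i₁'),
      MonoidalCategory.tensorHom_comp_tensorHom_assoc]
    exact IsMonHom.mul_hom (f := p ≫ i₁')⟩
  haveI := hps
  haveI : IsAffine G'.left := isAffine_of_isAffineHom i'.left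
  haveI : IsSeparated G₁'.hom := Groth.Agent.AbRigid.isSeparated_of_grpObj G₁'
  haveI : QuasiCompact (p.left ≫ G₁'.hom) := by rw [Over.w p]; infer_instance
  haveI : QuasiCompact p.left := QuasiCompact.of_comp p.left G₁'.hom
  haveI : Flat p.left := Groth.Agent.TorusIsog19.flat_of_surjective p
  have hcp : Groth.Agent.Desc.IsCover p := Groth.Agent.Desc.isCover_of_lft p
  -- the map of quotients
  obtain ⟨r, hr, -⟩ := hcq.descend (q₁ ≫ qb) (fun T g h e => by
    obtain ⟨x, rfl⟩ := (rel i' q hsq g h).1 e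
    rw [← Category.assoc, ← Category.assoc]
    refine (rel i₁' qb hsqb _ _).2 ⟨x ≫ p, ?_⟩
    rw [MonObj.mul_comp, Category.assoc, Category.assoc, hp])
  -- the trivialisation over `G`
  obtain ⟨Θ, hΘ, -⟩ := (Groth.Agent.Desc.IsCover.whiskerLeft hca G).descend
    ((fst G G₀ * (snd G G₀ ≫ i₀)) ≫ q) (fun T u v e => by
      have e1 : u ≫ fst G G₀ = v ≫ fst G G₀ := by simpa using congrArg (· ≫ fst G Qa) e
      have e2 : (u ≫ snd G G₀) ≫ qa = (v ≫ snd G G₀) ≫ qa := by simpa using congrArg (· ≫ snd G Qa) e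
      obtain ⟨x, hx⟩ := (rel j qa hsqa _ _).1 e2
      rw [← Category.assoc, ← Category.assoc]
      refine (rel i' q hsq _ _).2 ⟨x ≫ j', ?_⟩
      rw [MonObj.comp_mul, MonObj.comp_mul, ← e1, ← Category.assoc v, hx, MonObj.mul_comp, Category.assoc x,
        hj.w, _root_.mul_assoc, Category.assoc, Category.assoc])
  have hΘpt : ∀ {T : Over (Spec (CommRingCat.of k))} (g : T ⟶ G) (a : T ⟶ G₀),
      lift g (a ≫ qa) ≫ Θ = (g * (a ≫ i₀)) ≫ q := fun g a => by
    rw [← lift_whiskerLeft g a qa, Category.assoc, hΘ]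
    simp only [MonObj.comp_mul_assoc, lift_fst, lift_snd_assoc]
  have hsq' : IsPullback (fst G Qa) Θ (q₁ ≫ qb) r := by
    refine Groth.Agent.QuotAff15.isPullback_of_cover _ _ _ _ ?_ ?_ ?_
    · have := (Groth.Agent.Desc.IsCover.whiskerLeft hca G).epi
      rw [← cancel_epi (G ◁ qa), reassoc_of% hΘ, hr, whiskerLeft_fst_assoc, ← Category.assoc, ← Category.assoc]
      refine (rel i₁' qb hsqb _ _).2 ⟨1, ?_⟩
      have : (snd G G₀ ≫ i₀) ≫ q₁ = 1 := by
        have h0 : (1 : G ⊗ G₀ ⟶ G) ≫ q₁ = (snd G G₀ ≫ i₀) ≫ q₁ :=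
          (rel i₀ q₁ hsq₁ _ _).2 ⟨snd G G₀, by rw [_root_.one_mul]⟩
        rw [← h0, MonObj.one_comp]
      rw [MonObj.mul_comp, this, _root_.mul_one, MonObj.one_comp, _root_.mul_one]
    · intro T u v e1 e2
      refine CartesianMonoidalCategory.hom_ext _ _ e1 ?_
      obtain ⟨T', d, a, a', hd, ha, ha'⟩ := hca.exists_lift₂ (u ≫ snd G Qa) (v ≫ snd G Qa)
      have := hd.epi
      rw [← cancel_epi d, ← ha, ← ha']
      have h1 : d ≫ u = lift (d ≫ u ≫ fst G Qa) (a ≫ qa) := CartesianMonoidalCategory.hom_ext _ _ (by simp) (by simp [ha])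
      have h2 : d ≫ v = lift (d ≫ u ≫ fst G Qa) (a' ≫ qa) :=
        CartesianMonoidalCategory.hom_ext _ _ (by simp [e1]) (by simp [ha'])
      have h3 := congrArg (d ≫ ·) e2
      simp only [← Category.assoc] at h3
      rw [h1, h2, hΘpt, hΘpt] at h3
      obtain ⟨x, hx⟩ := (rel i' q hsq _ _).1 h3
      have hx' : (a⁻¹ * a') ≫ i₀ = x ≫ i' := by
        rw [MonObj.mul_comp, GrpObj.inv_comp, inv_mul_eq_iff_eq_mul]
        rw [_root_.mul_assoc, mul_left_cancel_iff] at hx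
        exact hx
      refine (rel j qa hsqa _ _).2 ⟨hj.lift _ _ hx', ?_⟩
      rw [hj.lift_fst, mul_inv_cancel_left]
    · intro T g w e
      obtain ⟨T₁, d₁, h, hd₁, hh⟩ := hcq.exists_lift w
      have e' : ((d₁ ≫ g) ≫ q₁) ≫ qb = (h ≫ q₁) ≫ qb := by
        simp only [Category.assoc]
        rw [e, ← reassoc_of% hh, hr]
      obtain ⟨κ, hκ⟩ := (rel i₁' qb hsqb _ _).1 e'
      obtain ⟨T₂, d₂, g', hd₂, hg'⟩ := hcp.exists_lift κ
      have hker : (1 : T₂ ⟶ G) ≫ q₁ = (((d₂ ≫ d₁ ≫ g)⁻¹ * (d₂ ≫ h)) * (g' ≫ i')⁻¹) ≫ q₁ := by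
        have e3 : (d₂ ≫ h) ≫ q₁ = (d₂ ≫ d₁ ≫ g) ≫ q₁ * (g' ≫ i') ≫ q₁ := by
          rw [Category.assoc g', ← hp, reassoc_of% hg', Category.assoc, hκ, MonObj.comp_mul]
          simp only [Category.assoc]
        rw [MonObj.one_comp, MonObj.mul_comp, MonObj.mul_comp, GrpObj.inv_comp, GrpObj.inv_comp, e3,
          inv_mul_cancel_left, mul_inv_cancel]
      obtain ⟨a, ha⟩ := (rel i₀ q₁ hsq₁ _ _).1 hker
      rw [_root_.one_mul] at ha
      refine ⟨T₂, d₂ ≫ d₁, lift ((d₂ ≫ d₁) ≫ g) (a ≫ qa), hd₂.comp hd₁,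
        lift_fst _ _, ?_⟩
      rw [hΘpt, ← ha, Category.assoc, Category.assoc, ← _root_.mul_assoc, mul_inv_cancel_left, ← hh, ← Category.assoc]
      refine (rel i' q hsq _ _).2 ⟨g', ?_⟩
      rw [inv_mul_cancel_right]
  haveI := ha
  haveI := hb
  haveI : IsAffineHom r.left := by
    haveI : Flat (q₁ ≫ qb).left := (hc₁.comp hcb).2.1
    haveI : Surjective (q₁ ≫ qb).left := (hc₁.comp hcb).1
    haveI := Groth.Agent.FpqcDesc.descendsAlong_isAffineHom.{u}
    refine MorphismProperty.of_isPullback_of_descendsAlong (P := @IsAffineHom)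
      (Q := (@Surjective ⊓ @Flat ⊓ @QuasiCompact : MorphismProperty Scheme.{u}))
      (hsq'.map (Over.forget _)) (show (@Surjective ⊓ @Flat ⊓ @QuasiCompact : MorphismProperty Scheme.{u}) (q₁ ≫ qb).left from ⟨⟨‹_›, ‹_›⟩, inferInstance⟩) ?_
    show IsAffineHom (fst G Qa).left
    rw [Over.fst_left]
    infer_instance
  exact isAffine_of_isAffineHom r.left


end Groth.Agent.S14545
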