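import Groth.Statements.S14546
import Groth.Agent.Lib.HomSch19.Represent

set_option autoImplicit false
universe u
open CategoryTheory MonoidalCategory CartesianMonoidalCategory MonObj GrpObj AlgebraicGeometry
open PrincBund

namespace Groth.Agent.S14546

open Groth.Agent TensorProduct
set_option backward.isDefEq.respectTransparency.types false
attribute [local instance] HomSch19.algW


/-- Let k be a field of characteristic 0, X a quasi-compact k-scheme whose ring of global functions is
finite-dimensional over k, and Z an affine k-scheme. Then the functor on k-schemes S ↦ Hom_k(X ×_k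
S, Z) is representable by an affine k-scheme M: there is a universal k-morphism X ×_k M → Z through
which every k-morphism X ×_k S → Z factors by a unique S → M; and M is of finite type over k if Z
is. (The published statement is about the scheme of invariant cross-sections of an affine scheme
under a transitive affine groupoid over a pregroupoid H, with a finiteness hypothesis on H; this row
is the case of the trivial groupoid, where the representing scheme is the scheme of k-morphisms from
X to Z and that hypothesis reads: X quasi-compact with finite-dimensional global functions.) -/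
theorem result (k : Type u) [Field k] [CharZero k]
    (X : Over (Spec (CommRingCat.of k))) [CompactSpace ↥X.left]
    (hfin : (X.hom.appTop.hom.comp (Scheme.ΓSpecIso (CommRingCat.of k)).inv.hom).Finite)
    (Z : Over (Spec (CommRingCat.of k))) [IsAffine Z.left] :
    ∃ (M : Over (Spec (CommRingCat.of k))) (_ : IsAffine M.left) (ev : X ⊗ M ⟶ Z),
      (∀ (S : Over (Spec (CommRingCat.of k))) (f : X ⊗ S ⟶ Z), ∃! g : S ⟶ M, (X ◁ g) ≫ ev = f) ∧
      (LocallyOfFiniteType Z.hom → LocallyOfFiniteType M.hom) := by
  haveI : Module.Finite k Γ(X.left, ⊤) := by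
    have e : (algebraMap k Γ(X.left, ⊤)) =
        X.hom.appTop.hom.comp (Scheme.ΓSpecIso (CommRingCat.of k)).inv.hom := RingHom.ext fun c => by
      rw [HomSch19.algebraMap_apply, Scheme.Hom.appTop, Scheme.Hom.app_eq_appLE]
      rfl
    rw [← e] at hfin
    exact RingHom.finite_algebraMap.1 hfin
  refine ⟨HomSch19.M X Z, inferInstance, HomSch19.ev X Z, HomSch19.existsUnique X Z, fun hZ => ?_⟩
  have hft : Algebra.FiniteType k Γ(Z.left, ⊤) := by
    have h := Z.hom.finiteType_appLE (isAffineOpen_top _) (isAffineOpen_top _) (le_top : ⊤ ≤ Z.hom ⁻¹ᵁ ⊤)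
    exact h.comp (RingHom.FiniteType.of_surjective _
      (ConcreteCategory.bijective_of_isIso (Scheme.ΓSpecIso (CommRingCat.of k)).inv).2)
  haveI : Algebra.FiniteType Γ(X.left, ⊤) (Γ(X.left, ⊤) ⊗[k] Γ(Z.left, ⊤)) := inferInstance
  have h := WeilRes21.finiteType k Γ(X.left, ⊤) (Γ(X.left, ⊤) ⊗[k] Γ(Z.left, ⊤))
  show LocallyOfFiniteType (Spec.map (CommRingCat.ofHom (algebraMap k (HomSch19.R X Z))))
  rw [HasRingHomProperty.Spec_iff (P := @LocallyOfFiniteType)]
  exact RingHom.finiteType_algebraMap.2 h

end Groth.Agent.S14546
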