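import Groth.Statements.S14547
import Groth.Prelude.Def_ActBC
import Mathlib.AlgebraicGeometry.Morphisms.FlatDescent
import Mathlib.AlgebraicGeometry.Sites.Fpqc

set_option autoImplicit false
universe u
open CategoryTheory MonoidalCategory CartesianMonoidalCategory MonObj GrpObj AlgebraicGeometry
open PrincBund

namespace Groth.Agent.S14547

set_option backward.isDefEq.respectTransparency.types false
open CategoryTheory.Limits

theorem isIso_of_pullback_map {X X' : Scheme.{u}} (f : X' ⟶ X) [Flat f] [Surjective f] [QuasiCompact f]
    {A B : Over X} (φ : A ⟶ B) (h : IsIso ((Over.pullback f).map φ)) : IsIso φ := by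
  have h2 : IsIso ((Over.pullback f).map φ).left := inferInstanceAs (IsIso ((Over.forget X').map ((Over.pullback f).map φ)))
  have h3 : IsPullback ((Over.pullback f).map φ).left (pullback.fst A.hom f) (pullback.fst B.hom f) φ.left := by
    refine IsPullback.of_right ?_ (pullback.lift_fst _ _ _) (IsPullback.of_hasPullback B.hom f).flip
    show IsPullback (pullback.lift _ _ _ ≫ pullback.snd B.hom f) _ f (φ.left ≫ B.hom)
    rw [pullback.lift_snd, Over.w φ]
    exact (IsPullback.of_hasPullback A.hom f).flip
  have h4 : IsIso φ.left := by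
    refine MorphismProperty.of_isPullback_of_descendsAlong (P := MorphismProperty.isomorphisms Scheme.{u})
      (Q := @Surjective ⊓ @Flat ⊓ @QuasiCompact) h3 ?_ ((MorphismProperty.isomorphisms.iff _).2 h2)
    exact ⟨⟨inferInstance, inferInstance⟩, inferInstance⟩
  have : IsIso ((Over.forget X).map φ) := h4
  exact isIso_of_reflects_iso φ (Over.forget X)


/-- Let f : X' → X be a faithfully flat quasi-compact morphism of schemes, J a group scheme affine over
X with an action a on an X-scheme P, and a' the induced action of the base change J' = J ×_X X' on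
P' = P ×_X X'. Then P with a is a J-torsor for the fpqc topology if and only if P' with a' is a
J'-torsor for the fpqc topology. (The published statement allows any morphism X' → X that is
covering for the fpqc topology, and an action of a pregroupoid; this row is the case of a faithfully
flat quasi-compact X' → X and the trivial pregroupoid.) -/
theorem result {X X' : Scheme.{u}} (f : X' ⟶ X)
    [Flat f] [Surjective f] [QuasiCompact f]
    {J P : Over X} [GrpObj J] [IsAffineHom J.hom] (a : AlgGrp.Action J P)
    (a' : AlgGrp.Action (Red.bc f J) (Red.bc f P))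
    (ha' : Functor.LaxMonoidal.μ (Over.pullback f) J P ≫ (Over.pullback f).map a.act = a'.act) :
    NonAbH1.IsTorsorFor Scheme.fpqcPrecoverage a ↔ NonAbH1.IsTorsorFor Scheme.fpqcPrecoverage a' := by
  obtain rfl : a' = a.bc f := AlgGrp.Action.ext' (by rw [AlgGrp.Action.bc_act, ha'])
  refine ⟨fun h => NonAbH1.isTorsorFor_bc f _ h, fun h => ⟨?_, ?_⟩⟩
  · have key : lift (a.bc f).act (snd _ _) ≫ Functor.LaxMonoidal.μ (Over.pullback f) P P =
        Functor.LaxMonoidal.μ (Over.pullback f) J P ≫ (Over.pullback f).map (lift a.act (snd J P)) := by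
      rw [← Functor.Monoidal.lift_μ, comp_lift_assoc, Functor.Monoidal.μ_snd, AlgGrp.Action.bc_act]
    have : IsIso (lift (a.bc f).act (snd _ _)) := h.1
    have : IsIso (Functor.LaxMonoidal.μ (Over.pullback f) J P ≫
        (Over.pullback f).map (lift a.act (snd J P))) := by
      rw [← key]; infer_instance
    have h2 : IsIso ((Over.pullback f).map (lift a.act (snd J P))) :=
      IsIso.of_isIso_comp_left (Functor.LaxMonoidal.μ (Over.pullback f) J P) _
    exact isIso_of_pullback_map f (lift a.act (snd J P)) h2
  · obtain ⟨R, hR, hsec⟩ := h.2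
    obtain ⟨I, Z, g, rfl⟩ := R.exists_eq_ofArrows
    have hf : Presieve.ofArrows (fun _ : PUnit.{u+2} => X') (fun _ => f) ∈ Scheme.fpqcPrecoverage X := by
      rw [Presieve.ofArrows_pUnit]; exact Scheme.Hom.singleton_mem_fpqcPrecoverage f
    refine ⟨_, Precoverage.comp_mem_coverings _ hf (fun _ => g) (fun _ => hR), ?_⟩
    rintro S' _ ⟨⟨-, i⟩⟩
    obtain ⟨s, hs⟩ := hsec (g i) (Presieve.ofArrows.mk i)
    refine ⟨s ≫ pullback.fst P.hom f, ?_⟩
    rw [Category.assoc, pullback.condition, ← hs, Category.assoc]
    rfl

end Groth.Agent.S14547
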