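import Groth.Statements.S14549
import Groth.Agent.Lib.EtSplit19.Clopen
import Groth.Agent.Lib.PullBC11.AffineBC
-- import your own Groth.Agent.* helpers here

set_option autoImplicit false
universe u
open CategoryTheory MonoidalCategory CartesianMonoidalCategory MonObj GrpObj AlgebraicGeometry
open PrincBund

namespace Groth.Agent.S14549

set_option linter.style.haveILetI false
set_option backward.isDefEq.respectTransparency.types false
set_option backward.isDefEq.respectTransparency false


/-- Let p : X' → X be a finite étale morphism of schemes and V' a quasi-coherent O_{X'}-module. Then V'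
is a direct summand of p^* p_* V': the counit p^* p_* V' → V' of the adjunction between pullback and
pushforward of modules along p is a split epimorphism. (The published statement is for modules under
a pregroupoid H over X acting compatibly on X'; this row is the case of the trivial pregroupoid.) -/
theorem result {X X' : Scheme.{u}} (p : X' ⟶ X) [IsFinite p] [Etale p]
    (V' : X'.Modules) (hV' : Coh.IsQCoh V') :
    IsSplitEpi ((Scheme.Modules.pullbackPushforwardAdjunction p).counit.app V') := by
  classical
  haveI : Coh.IsQCoh V' := hV'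
  let P := Limits.pullback p p
  let g' : P ⟶ X' := Limits.pullback.fst p p
  let f' : P ⟶ X' := Limits.pullback.snd p p
  let Δ : X' ⟶ P := Limits.pullback.diagonal p
  have hg : Δ ≫ g' = 𝟙 X' := Limits.pullback.diagonal_fst p
  have hf : Δ ≫ f' = 𝟙 X' := Limits.pullback.diagonal_snd p
  haveI : IsOpenImmersion Δ := inferInstance
  haveI : IsClosedImmersion Δ := inferInstance
  let adjg := Scheme.Modules.pullbackPushforwardAdjunction g'
  let adjp := Scheme.Modules.pullbackPushforwardAdjunction p
  let adjΔ := Scheme.Modules.restrictAdjunction Δ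
  let Θg : Scheme.Modules.pushforward Δ ⋙ Scheme.Modules.pushforward g' ≅ 𝟭 _ :=
    Scheme.Modules.pushforwardComp Δ g' ≪≫ Scheme.Modules.pushforwardCongr hg ≪≫ Scheme.Modules.pushforwardId X'
  let Θf : Scheme.Modules.pushforward Δ ⋙ Scheme.Modules.pushforward f' ≅ 𝟭 _ :=
    Scheme.Modules.pushforwardComp Δ f' ≪≫ Scheme.Modules.pushforwardCongr hf ≪≫ Scheme.Modules.pushforwardId X'
  let j : V' ⟶ (Scheme.Modules.pushforward g').obj ((Scheme.Modules.pushforward Δ).obj V') := Θg.inv.app V'
  let c : (Scheme.Modules.pullback g').obj V' ⟶ (Scheme.Modules.pushforward Δ).obj V' := (adjg.homEquiv _ _).symm j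
  -- the comparison map is a split epimorphism
  let adjC := adjg.comp adjΔ
  let c'' := (adjΔ.homEquiv _ _).symm c
  haveI : IsIso c'' := by
    have hff : (Scheme.Modules.pushforward Δ ⋙ Scheme.Modules.pushforward g').FullyFaithful :=
      (Functor.FullyFaithful.id X'.Modules).ofIso Θg.symm
    haveI := hff.full
    haveI := hff.faithful
    haveI : IsIso adjC.counit := inferInstance
    have e : c'' = (Scheme.Modules.pullback g' ⋙ Scheme.Modules.restrictFunctor Δ).map j ≫ adjC.counit.app V' := by
      simp [c'', c, adjC, adjg, adjΔ, Adjunction.homEquiv_counit, Adjunction.comp_counit_app]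
    rw [e]
    infer_instance
  have hc : c = adjΔ.unit.app _ ≫ (Scheme.Modules.pushforward Δ).map c'' := by
    exact (((adjΔ.homEquiv _ _).apply_symm_apply c).symm.trans (adjΔ.homEquiv_unit _ _ _))
  haveI : IsSplitEpi c := by
    haveI := EtSplit19.isSplitEpi_unit Δ ((Scheme.Modules.pullback g').obj V') Δ.isClosedEmbedding.isClosed_range
    rw [hc]
    exact IsSplitEpi.mk' ⟨inv ((Scheme.Modules.pushforward Δ).map c'') ≫
      section_ (adjΔ.unit.app ((Scheme.Modules.pullback g').obj V')), by
        rw [Category.assoc, IsSplitEpi.id_assoc, IsIso.inv_hom_id]⟩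
  -- base change
  have hP : IsPullback g' f' p p := IsPullback.of_hasPullback p p
  let v := PullBC11.bcMap hP V'
  haveI : IsIso ((adjp.homEquiv _ _).symm v) := PullBC11.isIso_bcMap hP V' hV'
  let w := (Scheme.Modules.pushforward f').map c ≫ Θf.hom.app V'
  suffices h : (adjp.homEquiv _ _).symm v ≫ w = adjp.counit.app V' by
    rw [show (Scheme.Modules.pullbackPushforwardAdjunction p).counit.app V' = (adjp.homEquiv _ _).symm v ≫ w from h.symm]
    exact IsSplitEpi.mk' ⟨inv (Θf.hom.app V') ≫ (Scheme.Modules.pushforward f').map (section_ c) ≫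
      inv ((adjp.homEquiv _ _).symm v), by
        simp only [w, Category.assoc, IsIso.inv_hom_id_assoc, ← Functor.map_comp_assoc, IsSplitEpi.id,
          CategoryTheory.Functor.map_id, Category.id_comp, IsIso.inv_hom_id]⟩
  have hv : v ≫ (Scheme.Modules.pushforward p).map w = 𝟙 _ := by
    have e1 : adjg.unit.app V' ≫ (Scheme.Modules.pushforward g').map c = j := by
      exact (adjg.homEquiv_unit _ _ _).symm.trans ((adjg.homEquiv _ _).apply_symm_apply j)
    apply Scheme.Modules.hom_ext
    intro U
    ext m
    have e : f' ⁻¹ᵁ p ⁻¹ᵁ U = g' ⁻¹ᵁ p ⁻¹ᵁ U := by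
      rw [← Scheme.Hom.comp_preimage, ← Scheme.Hom.comp_preimage, hP.w]
    show (Θf.hom.app V').app (p ⁻¹ᵁ U) (c.app (f' ⁻¹ᵁ p ⁻¹ᵁ U)
      (((Scheme.Modules.pullback g').obj V').presheaf.map (eqToHom e).op
        ((adjg.unit.app V').app (p ⁻¹ᵁ U) m))) = m
    have e2 : c.app (g' ⁻¹ᵁ p ⁻¹ᵁ U) ((adjg.unit.app V').app (p ⁻¹ᵁ U) m) = j.app (p ⁻¹ᵁ U) m :=
      congrArg (fun φ => φ.app (p ⁻¹ᵁ U) m) e1
    have hn := congrArg (fun φ => φ ((adjg.unit.app V').app (p ⁻¹ᵁ U) m))
      ((c.mapPresheaf).naturality (eqToHom e).op)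
    refine (congrArg _ hn).trans ?_
    refine (congrArg (fun z => (Θf.hom.app V').app (p ⁻¹ᵁ U) (((Scheme.Modules.pushforward Δ).obj V').presheaf.map (eqToHom e).op z)) e2).trans ?_
    show V'.presheaf.map _ (V'.presheaf.map _ (V'.presheaf.map _ m)) = m
    simp only [← CategoryTheory.comp_apply, ← Functor.map_comp]
    exact congrArg (fun φ => φ m) ((congrArg V'.presheaf.map (Subsingleton.elim _ (𝟙 _))).trans (V'.presheaf.map_id _))
  apply (adjp.homEquiv _ _).injective
  rw [adjp.homEquiv_naturality_right, Equiv.apply_symm_apply, hv]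
  simp [Adjunction.homEquiv_unit]

end Groth.Agent.S14549
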