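import Groth.Statements.S14554
import Groth.Agent.Lib.RatPi13.PiValuation

set_option autoImplicit false
universe u
open TateGlob

namespace Groth.Agent.S14554

open CategoryTheory AlgebraicGeometry in
/-- Let K be a global function field with finite constant field Fq and S a set of places of K; write Ô_S
= ∏_{v ∉ S} O_v for the product of the complete valuation rings O_v of the completions K_v, v ∉ S.
Then the cohomology H^i(Spec Ô_S, ℚ) of the constant sheaf ℚ on the small etale site of Spec Ô_S
vanishes for every i > 0. -/
theorem result (Fq : Type u) [Field Fq] [Finite Fq] (K : Type u) [Field K] [Algebra (RatFunc Fq) K] [FunctionField Fq K]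
    [Algebra Fq K] [IsScalarTower Fq (RatFunc Fq) K]
    (S : Set (FunFld.Place Fq K)) (i : ℕ) (hi : 0 < i) :
    Subsingleton (EtCoh.H (Spec (CommRingCat.of (AdFn.OHat S))) (EtCoh.const (Spec (CommRingCat.of (AdFn.OHat S))) ℚ) i) := by
  exact Groth.Agent.RatPi13.subsingleton_H_rat_pi _ i hi

end Groth.Agent.S14554
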