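import Groth.Statements.S1456
import Groth.Agent.Lib.SmoothStrat4.Approx

set_option autoImplicit false
universe u
open FlatMor

set_option backward.isDefEq.respectTransparency.types false

namespace Groth.Agent.S1456


open AlgebraicGeometry in
theorem exists_ne_annihilator {A : Type u} [CommRing A] [_root_.IsReduced A] (q : Ideal A) [q.IsPrime]
    (hq : q ∈ minimalPrimes A) {a : A} (ha : a ∈ q) : ∃ h ∉ q, h * a = 0 := by
  let Aq := Localization.AtPrime q
  haveI : _root_.IsReduced Aq := isReduced_localizationPreserves q.primeCompl Aq inferInstance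
  have h0 : algebraMap A Aq a = 0 := by
    refine IsNilpotent.eq_zero (mem_nilradical.1 (nilradical_eq_sInf Aq ▸ Submodule.mem_sInf.2 ?_))
    refine fun (J : Ideal Aq) hJ => ?_
    haveI : J.IsPrime := hJ
    have h1 := (IsLocalization.isPrime_iff_isPrime_disjoint q.primeCompl Aq J).1 hJ
    have h2 : J.comap (algebraMap A Aq) ≤ q := fun x hx => by
      by_contra hne
      exact Set.disjoint_left.1 h1.2 hne hx
    exact hq.2 ⟨inferInstance, bot_le⟩ h2 ha
  obtain ⟨h, hh⟩ := (IsLocalization.map_eq_zero_iff q.primeCompl Aq a).1 h0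
  exact ⟨h, h.2, hh⟩

theorem exists_annihilator {A : Type u} [CommRing A] [_root_.IsReduced A] (q : Ideal A) [q.IsPrime]
    (hq : q ∈ minimalPrimes A) (T : Finset A) (hT : ∀ a ∈ T, a ∈ q) :
    ∃ b ∉ q, ∀ a ∈ T, b * a = 0 := by
  classical
  induction T using Finset.induction_on with
  | empty => exact ⟨1, q.one_notMem, by simp⟩
  | insert a T _ ih =>
    obtain ⟨b, hb, hbT⟩ := ih fun x hx => hT x (Finset.mem_insert_of_mem hx)
    obtain ⟨h, hh, hha⟩ := exists_ne_annihilator q hq (hT a (Finset.mem_insert_self a T))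
    refine ⟨b * h, fun hm => (Ideal.IsPrime.mem_or_mem ‹_› hm).elim hb hh, fun x hx => ?_⟩
    rcases Finset.mem_insert.1 hx with rfl | hx
    · rw [mul_assoc, hha, mul_zero]
    · rw [mul_right_comm, hbT x hx, zero_mul]


open AlgebraicGeometry CategoryTheory Limits in
/-- For f : X → S of finite presentation with S reduced and for η generic in an irreducible component of
S, there are an open U ∋ η of S, a morphism V → U which is finite locally free, surjective and
universally injective, and, on X_V = X ×_S V, ideal sheaves J_0 ≤ J_1 ≤ ... ≤ J_t = O of finite type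
with J_0 cutting out a thickening of X_V, such that each locally closed stratum supp(J_i) ∖
supp(J_{i+1}), as a subscheme of the closed subscheme cut out by J_i, is smooth over V. -/
theorem result {X S : Scheme.{u}} (f : X ⟶ S) [LocallyOfFinitePresentation f] [QuasiCompact f] [QuasiSeparated f] [IsReduced S]
    (η : S) (W : Set ↑S) (hW : W ∈ irreducibleComponents ↑S) (hη : IsGenericPoint η W) :
    ∃ (U : S.Opens) (V : Scheme.{u}) (v : V ⟶ (U : Scheme.{u})), η ∈ U ∧ Surjective v ∧ UniversallyInjective v ∧ Mor2.IsFinLocFree v ∧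
      ∃ (t : ℕ) (J : Fin (t + 1) → (pullback f (v ≫ U.ι)).IdealSheafData), Monotone J ∧ J (Fin.last t) = ⊤ ∧
        ((J 0).support : Set ↑(pullback f (v ≫ U.ι))) = Set.univ ∧ (∀ i, ∀ O : (pullback f (v ≫ U.ι)).affineOpens, ((J i).ideal O).FG) ∧
        ∀ i : Fin t, Smooth (((J i.castSucc).subschemeι ⁻¹ᵁ (J i.succ).support.compl).ι ≫ (J i.castSucc).subschemeι ≫ pullback.snd f (v ≫ U.ι)) := by
  classical
  obtain ⟨U₁, hU₁, hηU, -⟩ := exists_isAffineOpen_mem_and_subset (X := S) (x := η) (U := ⊤) trivial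
  let A := Γ(S, U₁)
  haveI : _root_.IsReduced A := inferInstance
  let fA := pullback.snd f hU₁.fromSpec
  obtain ⟨S₀, X₀, π, f₀, q, _, _, _, H⟩ := Groth.Agent.SmoothStrat4.exists_model fA
  let p : Spec A := hU₁.primeIdealOf ⟨η, hηU⟩
  have hfp : hU₁.fromSpec p = η := hU₁.fromSpec_primeIdealOf ⟨η, hηU⟩
  have hmax : ∀ z : S, z ⤳ η → z = η := by
    intro z hz
    have h1 : W ⊆ closure {z} := by
      rw [← hη.def]
      exact closure_minimal (Set.singleton_subset_iff.2 hz.mem_closure) isClosed_closure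
    have h2 : closure {z} = W :=
      (Set.Subset.antisymm (hW.le_of_ge isIrreducible_singleton.closure h1) h1)
    exact IsGenericPoint.eq (isGenericPoint_closure (x := z)) (by rw [h2]; exact hη)
  have hpmin : p.asIdeal ∈ minimalPrimes A := by
    refine ⟨⟨p.2, bot_le⟩, fun J hJ hle => ?_⟩
    haveI := hJ.1
    let z : Spec A := ⟨J, hJ.1⟩
    have hs : z ⤳ p := (PrimeSpectrum.le_iff_specializes z p).1 hle
    have h1 : hU₁.fromSpec z = η := hmax _ (hfp ▸ hs.map hU₁.fromSpec.continuous)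
    have h2 : z = p := hU₁.fromSpec.isOpenEmbedding.injective (h1.trans hfp.symm)
    exact (congrArg PrimeSpectrum.asIdeal h2).ge
  obtain ⟨W₀, hW₀, hpW₀, -⟩ := exists_isAffineOpen_mem_and_subset (X := S₀) (x := π p) (U := ⊤) trivial
  obtain ⟨_, ⟨a, rfl⟩, hpa, hasub⟩ := PrimeSpectrum.isTopologicalBasis_basic_opens.exists_subset_of_mem_open
    (show p ∈ (π ⁻¹ᵁ W₀ : Set (Spec A)) from hpW₀) (π ⁻¹ᵁ W₀).2
  let Aa := Localization.Away a
  let ga : Spec (CommRingCat.of Aa) ⟶ Spec A := Spec.map (CommRingCat.ofHom (algebraMap A Aa))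
  haveI : IsOpenImmersion ga := IsOpenImmersion.of_isLocalization a
  haveI : _root_.IsReduced Aa := isReduced_localizationPreserves (Submonoid.powers a) Aa inferInstance
  have hr : Set.range ga = (PrimeSpectrum.basicOpen a : Set (PrimeSpectrum A)) :=
    PrimeSpectrum.localization_away_comap_range Aa a
  let lft := IsOpenImmersion.lift hW₀.fromSpec (ga ≫ π) (by
    rw [hW₀.range_fromSpec]
    rintro _ ⟨x, rfl⟩
    exact hasub (hr.le (Set.mem_range_self x)))
  let φ := Spec.preimage lft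
  have hφ : Spec.map φ ≫ hW₀.fromSpec = ga ≫ π := by
    rw [Spec.map_preimage]; exact IsOpenImmersion.lift_fac _ _ _
  obtain ⟨pa, hpa'⟩ : p ∈ Set.range ga := hr ▸ hpa
  have hpamin : pa.asIdeal ∈ minimalPrimes Aa := by
    refine ⟨⟨pa.2, bot_le⟩, fun J hJ hle => ?_⟩
    let z : Spec (CommRingCat.of Aa) := ⟨J, hJ.1⟩
    have h1 : (ga z).asIdeal ≤ p.asIdeal := by rw [← hpa']; exact Ideal.comap_mono hle
    have h2 : ga z = p := PrimeSpectrum.ext (le_antisymm h1 (hpmin.2 ⟨(ga z).2, bot_le⟩ h1))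
    exact (congrArg PrimeSpectrum.asIdeal (ga.isOpenEmbedding.injective (h2.trans hpa'.symm))).ge
  let I : Ideal Γ(S₀, W₀) := pa.asIdeal.comap φ.hom
  haveI : I.IsPrime := Ideal.IsPrime.comap _
  haveI : IsNoetherianRing Γ(S₀, W₀) := IsLocallyNoetherian.component_noetherian ⟨W₀, hW₀⟩
  obtain ⟨T, hT⟩ := (IsNoetherian.noetherian I :)
  obtain ⟨b, hb, hbT⟩ := exists_annihilator pa.asIdeal hpamin (T.image φ.hom) (by
    intro y hy
    obtain ⟨x, hx, rfl⟩ := Finset.mem_image.1 hy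
    exact (show x ∈ I from hT ▸ Ideal.subset_span hx))
  let Ab := Localization.Away b
  let gb : Spec (CommRingCat.of Ab) ⟶ Spec (CommRingCat.of Aa) :=
    Spec.map (CommRingCat.ofHom (algebraMap Aa Ab))
  haveI : IsOpenImmersion gb := IsOpenImmersion.of_isLocalization b
  have hker : I ≤ RingHom.ker ((algebraMap Aa Ab).comp φ.hom) := by
    rw [← hT]
    refine Ideal.span_le.2 fun x hx => ?_
    refine (IsLocalization.map_eq_zero_iff (Submonoid.powers b) Ab _).2
      ⟨⟨b, Submonoid.mem_powers b⟩, ?_⟩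
    exact hbT _ (Finset.mem_image_of_mem _ hx)
  let θr : (Γ(S₀, W₀) ⧸ I) →+* Ab := Ideal.Quotient.lift I _ hker
  let θ : Spec (CommRingCat.of Ab) ⟶ Spec (CommRingCat.of (Γ(S₀, W₀) ⧸ I)) :=
    Spec.map (CommRingCat.ofHom θr)
  let jD : Spec (CommRingCat.of (Γ(S₀, W₀) ⧸ I)) ⟶ S₀ :=
    Spec.map (CommRingCat.ofHom (Ideal.Quotient.mk I)) ≫ hW₀.fromSpec
  have hsq : θ ≫ jD = (gb ≫ ga) ≫ π := by
    have e : CommRingCat.ofHom (Ideal.Quotient.mk I) ≫ CommRingCat.ofHom θr =
        φ ≫ CommRingCat.ofHom (algebraMap Aa Ab) := CommRingCat.hom_ext (RingHom.ext fun _ => rfl)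
    rw [Category.assoc, ← hφ]
    simp only [θ, jD, gb, ← Category.assoc, ← Spec.map_comp, e]
  obtain ⟨pb, hpb⟩ : pa ∈ Set.range gb := by
    rw [show Set.range gb = (PrimeSpectrum.basicOpen b : Set (PrimeSpectrum Aa)) from
      PrimeSpectrum.localization_away_comap_range Ab b]
    exact hb
  have hθ : θ pb = ⟨⊥, Ideal.isPrime_bot⟩ := by
    refine PrimeSpectrum.ext (eq_bot_iff.2 fun y hy => ?_)
    obtain ⟨x, rfl⟩ := Ideal.Quotient.mk_surjective y
    refine Ideal.mem_bot.2 (Ideal.Quotient.eq_zero_iff_mem.2 ?_)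
    show φ.hom x ∈ pa.asIdeal
    rw [← hpb]; exact hy
  obtain ⟨W₂, V, v, hbot, hvs, hvi, ⟨hv1, hv2, hv3⟩, hstr⟩ :=
    Groth.Agent.SmoothStrat4.exists_smoothStrat' f₀ (CommRingCat.of (Γ(S₀, W₀) ⧸ I)) jD
  let gh : Spec (CommRingCat.of Ab) ⟶ S := (gb ≫ ga) ≫ hU₁.fromSpec
  let U' := θ ⁻¹ᵁ W₂
  let e := gh.isoImage U'
  let v₁ := pullback.snd v (θ ∣_ W₂)
  refine ⟨gh ''ᵁ U', pullback v (θ ∣_ W₂), v₁ ≫ e.hom, ?_, inferInstance,
    (MorphismProperty.cancel_right_of_respectsIso (P := @UniversallyInjective) v₁ e.hom).2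
      (MorphismProperty.pullback_snd _ _ hvi),
    ⟨inferInstance, inferInstance, inferInstance⟩, ?_⟩
  · refine ⟨pb, show θ pb ∈ W₂ from hθ ▸ hbot, ?_⟩
    show hU₁.fromSpec (ga (gb pb)) = η
    rw [hpb, hpa', hfp]
  have he : (v₁ ≫ e.hom) ≫ (gh ''ᵁ U').ι = (v₁ ≫ U'.ι ≫ gb ≫ ga) ≫ hU₁.fromSpec := by
    simp [e, gh]
  exact Groth.Agent.SmoothStrat4.SmoothStrat.congr he.symm
    ((Groth.Agent.SmoothStrat4.SmoothStrat.transfer H (v₁ ≫ U'.ι ≫ gb ≫ ga) ((v ≫ W₂.ι) ≫ jD)
      (pullback.fst v (θ ∣_ W₂)) (by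
        have h4 : (θ ∣_ W₂) ≫ W₂.ι = U'.ι ≫ θ := morphismRestrict_ι θ W₂
        simp only [v₁, Category.assoc]
        rw [pullback.condition_assoc]
        rw [reassoc_of% h4, hsq]
        simp only [Category.assoc])
      (hstr.comp jD _)).comp hU₁.fromSpec _)

end Groth.Agent.S1456
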