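import Groth.Statements.S1457
import Groth.Agent.Lib.GeomNbhd4.Structure

set_option autoImplicit false
universe u
open FlatMor

set_option backward.isDefEq.respectTransparency.types false

namespace Groth.Agent.S1457

open AlgebraicGeometry CategoryTheory Limits in
/-- Omitting the assertion on pure transcendence of a residue field and the addendum on finite
presentation of π: let f : X → S be locally of finite type, x a point with image s and n the local
dimension of the fibre at x. Then there are affine schemes S', Y', X', an elementary étale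
neighbourhood e : (S', s') → (S, s), a morphism h : Y' → S' smooth of relative dimension n with
geometrically integral fibres, a finite morphism π : X' → Y' and an elementary étale neighbourhood g
: (X', x') → (X, x) with g ≫ f = π ≫ h ≫ e, such that x' is the only point of X' over y' = π x' and
h y' = s'. -/
theorem result {X S : Scheme.{u}} (f : X ⟶ S) [LocallyOfFiniteType f] (x : X) (n : ℕ) (hn : FlatMor.fibreDimAt f x = n) :
    ∃ (S' Y' X' : Scheme.{u}) (e : S' ⟶ S) (h : Y' ⟶ S') (π : X' ⟶ Y') (g : X' ⟶ X) (s' : S') (x' : X'),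
      IsAffine S' ∧ IsAffine Y' ∧ IsAffine X' ∧ Hens2.IsEtaleNbhd e s' (f x) ∧ Hens2.IsEtaleNbhd g x' x ∧
      g ≫ f = π ≫ h ≫ e ∧ SmoothOfRelativeDimension n h ∧ GeometricallyIntegral h ∧ IsFinite π ∧ h (π x') = s' ∧
      ∀ z : X', π z = π x' → z = x' := by
  classical
  obtain ⟨V, hV, hxV, -⟩ := exists_isAffineOpen_mem_and_subset (X := S) (x := f x) (U := ⊤) trivial
  obtain ⟨U, hU, hxU, hUV⟩ := exists_isAffineOpen_mem_and_subset (X := X) (x := x) (U := f ⁻¹ᵁ V) hxV
  let φ := f.appLE V U hUV
  have hcomp : hU.fromSpec ≫ f = Spec.map φ ≫ hV.fromSpec :=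
    (IsAffineOpen.SpecMap_appLE_fromSpec f hV hU hUV).symm
  letI : Algebra Γ(S, V) Γ(X, U) := φ.hom.toAlgebra
  haveI : Algebra.FiniteType Γ(S, V) Γ(X, U) := RingHom.finiteType_algebraMap.1 (f.finiteType_appLE hV hU hUV)
  haveI : LocallyOfFiniteType (Spec.map φ) :=
    (HasRingHomProperty.Spec_iff (P := @LocallyOfFiniteType)).2 (f.finiteType_appLE hV hU hUV)
  let P := hU.primeIdealOf ⟨x, hxU⟩
  have hP : hU.fromSpec P = x := hU.fromSpec_primeIdealOf ⟨x, hxU⟩
  have hdP : FlatMor.fibreDimAt (Spec.map φ) P = n := by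
    haveI : Etale hU.fromSpec := inferInstance
    rw [← Groth.Agent.FibDim14.fibreDimAt_comp_lqf (Spec.map φ) hV.fromSpec]
    simp only [← hcomp]
    rw [Groth.Agent.FibDim14.fibreDimAt_etale_comp, hP, hn]
  obtain ⟨S', Y', X', e, h, π, g, s', x', h1, h2, h3, he, hg, hw, h4, h5, h6, h7, -, h8⟩ :=
    Groth.Agent.GeomNbhd4.exists_structure (A := Γ(S, V)) (B := Γ(X, U)) P n hdP
  haveI := he.etale
  haveI := hg.etale
  refine ⟨S', Y', X', e ≫ hV.fromSpec, h, π, g ≫ hU.fromSpec, s', x', h1, h2, h3,
    ⟨inferInstance, ?_, ?_⟩, ⟨inferInstance, ?_, ?_⟩, ?_, h4, h5, h6, h7, h8⟩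
  · rw [Scheme.Hom.comp_apply, he.base_eq]
    show hV.fromSpec (Spec.map φ P) = f x
    rw [← Scheme.Hom.comp_apply, ← hcomp, Scheme.Hom.comp_apply, hP]
  · rw [Scheme.residueFieldMap_comp]
    exact he.residue_bijective.comp (ConcreteCategory.bijective_of_isIso (hV.fromSpec.residueFieldMap _))
  · rw [Scheme.Hom.comp_apply, hg.base_eq, hP]
  · rw [Scheme.residueFieldMap_comp]
    exact hg.residue_bijective.comp (ConcreteCategory.bijective_of_isIso (hU.fromSpec.residueFieldMap _))
  · rw [Category.assoc, hcomp]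
    exact (Category.assoc _ _ _).symm.trans (by rw [show g ≫ Spec.map φ = π ≫ h ≫ e from hw]; simp only [Category.assoc])

end Groth.Agent.S1457
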