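import Groth.Statements.S14576
import Groth.Agent.Lib.AffGrp19.Main

set_option autoImplicit false
universe u
open CategoryTheory MonoidalCategory CartesianMonoidalCategory MonObj GrpObj AlgebraicGeometry CategoryTheory.Limits
open AlgGrp

namespace Groth.Agent.S14576

/-- Let k be a field and G a k-group scheme of finite type acting on an affine k-scheme X. If the action
is faithful, in the sense that for every k-scheme T a T-valued point of G acting as the identity on
X_T is the unit, then G is affine. -/
theorem result (k : Type u) [Field k]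
    (G X : Over (Spec (CommRingCat.of k))) [GrpObj G] [LocallyOfFiniteType G.hom] [QuasiCompact G.hom] [IsAffine X.left]
    (a : AlgGrp.Action G X)
    (hf : ∀ (T : Over (Spec (CommRingCat.of k))) (g : T ⟶ G),
      (∀ (T' : Over (Spec (CommRingCat.of k))) (t : T' ⟶ T) (x : T' ⟶ X), lift (t ≫ g) x ≫ a.act = x) → g = 1) :
    IsAffine G.left := by
  haveI : IsSeparated G.hom := AbRigid.isSeparated_of_grpObj G
  haveI : Mono (AffGrp19.toAff G) := ⟨fun {T} g g' h => by
    rw [← inv_mul_eq_one]
    refine hf T _ fun T' t x => ?_
    have h' : (t ≫ (g⁻¹ * g')) ≫ AffGrp19.toAff G = (1 : T' ⟶ G) ≫ AffGrp19.toAff G := by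
      rw [MonObj.comp_mul, MonObj.mul_comp, GrpObj.comp_inv, GrpObj.inv_comp, MonObj.one_comp,
        Category.assoc, Category.assoc, h, inv_mul_cancel]
    rw [AffGrp19.act_eq_of_toAff_eq a h', AlgGrpBasic19.act_one]⟩
  exact AffGrp19.isAffine_of_mono_toAff G

end Groth.Agent.S14576
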