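import Groth.Statements.S1458
import Mathlib.RingTheory.Finiteness.ModuleFinitePresentation
import Mathlib.LinearAlgebra.TensorProduct.RightExactness
import Mathlib.LinearAlgebra.Pi
import Mathlib.RingTheory.FinitePresentation
import Mathlib.RingTheory.TensorProduct.Maps
import Mathlib.Algebra.Ring.Idempotent

set_option autoImplicit false
universe u
open FlatMor

namespace Groth.Agent.S1458

open TensorProduct in
theorem vanish {A B : Type u} [CommRing A] [AddCommGroup B] [Module A B] {n k : ℕ}
    (q : (Fin n → A) →ₗ[A] B) (hq : Function.Surjective q) (rel : Fin k → Fin n → A)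
    (hrel : LinearMap.ker q ≤ Submodule.span A (Set.range rel))
    (A' : Type u) [AddCommGroup A'] [Module A A'] (a : Fin n → A')
    (h : ∑ i, q (Pi.single i 1) ⊗ₜ[A] a i = 0) : ∃ d : Fin k → A', ∀ i, a i = ∑ l, rel l i • d l := by
  let w : (Fin n → A) ⊗[A] A' := ∑ i, Pi.single i 1 ⊗ₜ a i
  have hw : q.rTensor A' w = 0 := by simp [w, map_sum, h]
  obtain ⟨η, hη⟩ := (rTensor_exact A' (LinearMap.exact_subtype_ker_map q) hq w).1 hw
  let co : Fin n → (Fin n → A) ⊗[A] A' →ₗ[A] A' := fun i =>
    (TensorProduct.lid A A').toLinearMap ∘ₗ (LinearMap.proj i : (Fin n → A) →ₗ[A] A).rTensor A'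
  have hco : ∀ i, co i w = a i := fun i => by
    simp only [co, w, LinearMap.comp_apply, map_sum, LinearMap.rTensor_tmul, LinearMap.proj_apply,
      LinearEquiv.coe_coe, TensorProduct.lid_tmul]
    rw [Finset.sum_eq_single i (fun j _ hj => by rw [Pi.single_eq_of_ne' hj, zero_smul]) (by simp)]
    rw [Pi.single_eq_same, one_smul]
  suffices ∀ z, ∃ d : Fin k → A',
      ∀ i, co i ((LinearMap.ker q).subtype.rTensor A' z) = ∑ l, rel l i • d l by
    obtain ⟨d, hd⟩ := this η
    exact ⟨d, fun i => by rw [← hco i, ← hη, hd i]⟩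
  intro z
  induction z using TensorProduct.induction_on with
  | zero => exact ⟨0, by simp⟩
  | add x y hx hy =>
    obtain ⟨d, hd⟩ := hx
    obtain ⟨e, he⟩ := hy
    exact ⟨d + e, fun i => by simp [map_add, hd, he, smul_add, Finset.sum_add_distrib]⟩
  | tmul v t =>
    obtain ⟨c, hc⟩ := (Submodule.mem_span_range_iff_exists_fun A).1 (hrel v.2)
    refine ⟨fun l => c l • t, fun i => ?_⟩
    simp only [co, LinearMap.comp_apply, LinearMap.rTensor_tmul, Submodule.subtype_apply,
      LinearMap.proj_apply, LinearEquiv.coe_coe, TensorProduct.lid_tmul]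
    rw [← hc, Finset.sum_apply, Finset.sum_smul]
    exact Finset.sum_congr rfl fun l _ => by
      rw [smul_smul, Pi.smul_apply, smul_eq_mul, mul_comm]


open TensorProduct in
/-- Let A → B be a finite ring map of finite presentation. Then there are a finitely presented A-algebra
A_u and an idempotent e_u of B ⊗_A A_u such that for every A-algebra A' and every idempotent e of B
⊗_A A' there is an A-algebra map A_u → A' whose induced map B ⊗ A_u → B ⊗ A' sends e_u to e. -/
theorem result {A B : Type u} [CommRing A] [CommRing B] [Algebra A B] [Module.Finite A B] [Algebra.FinitePresentation A B] :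
    ∃ (Au : Type u) (_ : CommRing Au) (_ : Algebra A Au) (eu : B ⊗[A] Au), Algebra.FinitePresentation A Au ∧ IsIdempotentElem eu ∧
      ∀ (A' : Type u) [CommRing A'] [Algebra A A'] (e : B ⊗[A] A'), IsIdempotentElem e →
        ∃ φ : Au →ₐ[A] A', Algebra.TensorProduct.map (AlgHom.id A B) φ eu = e := by
  classical
  have := Module.FinitePresentation.of_finite_of_finitePresentation A B
  obtain ⟨n, q, hq⟩ := Module.Finite.exists_fin' A B
  obtain ⟨t, ht⟩ := Module.FinitePresentation.fg_ker q hq
  let rel : Fin t.card → Fin n → A := fun l => (t.equivFin.symm l : Fin n → A)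
  have hrange : Set.range rel = (t : Set (Fin n → A)) := by
    ext x
    constructor
    · rintro ⟨l, rfl⟩; exact (t.equivFin.symm l).2
    · exact fun hx => ⟨t.equivFin ⟨x, hx⟩, by simp [rel]⟩
  have hrel : LinearMap.ker q ≤ Submodule.span A (Set.range rel) := by rw [hrange, ht]
  have hrel0 : ∀ l, q (rel l) = 0 := fun l => ht.le (Submodule.subset_span (t.equivFin.symm l).2)
  let b : Fin n → B := fun i => q (Pi.single i 1)
  choose μ hμ using fun i j => hq (b i * b j)
  let P := MvPolynomial (Fin n ⊕ Fin t.card) A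
  let c : Fin n → P := fun i => MvPolynomial.X (Sum.inl i)
  let d : Fin t.card → P := fun l => MvPolynomial.X (Sum.inr l)
  let E : Fin n → P := fun s => (∑ i, ∑ j, μ i j s • (c i * c j)) - c s - ∑ l, rel l s • d l
  let J : Ideal P := Ideal.span (Set.range E)
  have hb : ∀ v : Fin n → A, q v = ∑ s, v s • b s := fun v => by
    conv_lhs => rw [pi_eq_sum_univ' v]
    simp [map_sum, b]
  have key : ∀ (A' : Type u) [CommRing A'] [Algebra A A'] (a : Fin n → A'),
      (∑ i, b i ⊗ₜ[A] a i) * (∑ i, b i ⊗ₜ[A] a i) =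
        ∑ s, b s ⊗ₜ[A] (∑ i, ∑ j, μ i j s • (a i * a j)) := by
    intro A' _ _ a
    simp only [Finset.sum_mul, Finset.mul_sum, Algebra.TensorProduct.tmul_mul_tmul,
      TensorProduct.tmul_sum, TensorProduct.tmul_smul, ← hμ, hb, TensorProduct.sum_tmul,
      TensorProduct.smul_tmul']
    rw [Finset.sum_comm (γ := Fin n)]
    conv_rhs => rw [Finset.sum_comm]
    refine Finset.sum_congr rfl fun i _ => ?_
    rw [Finset.sum_comm]
  refine ⟨P ⧸ J, inferInstance, inferInstance, ∑ i, b i ⊗ₜ Ideal.Quotient.mk J (c i), ?_, ?_, ?_⟩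
  · have hP : Algebra.FinitePresentation A P := inferInstance
    exact Algebra.FinitePresentation.quotient (Submodule.fg_span (Set.finite_range E))
  · rw [IsIdempotentElem, key]
    have h0 : ∀ s, ∑ i, ∑ j, μ i j s • (Ideal.Quotient.mk J (c i) * Ideal.Quotient.mk J (c j)) =
        Ideal.Quotient.mk J (c s) + ∑ l, rel l s • Ideal.Quotient.mk J (d l) := fun s => by
      have h1 : (Ideal.Quotient.mkₐ A J) (E s) = 0 :=
        Ideal.Quotient.eq_zero_iff_mem.2 (Ideal.subset_span ⟨s, rfl⟩)
      simp only [E, map_sub, map_sum, map_smul, map_mul, Ideal.Quotient.mkₐ_eq_mk] at h1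
      exact eq_add_of_sub_eq' (sub_eq_zero.1 h1)
    simp only [h0, TensorProduct.tmul_add, Finset.sum_add_distrib]
    rw [add_eq_left]
    simp only [TensorProduct.tmul_sum, TensorProduct.tmul_smul, TensorProduct.smul_tmul']
    rw [Finset.sum_comm]
    refine Finset.sum_eq_zero fun l _ => ?_
    rw [← TensorProduct.sum_tmul, ← hb, hrel0, TensorProduct.zero_tmul]
  · intro A' _ _ e he
    obtain ⟨a, rfl⟩ : ∃ a : Fin n → A', ∑ i, b i ⊗ₜ[A] a i = e := by
      clear he
      induction e using TensorProduct.induction_on with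
      | zero => exact ⟨0, by simp⟩
      | add x y hx hy =>
        obtain ⟨a, rfl⟩ := hx
        obtain ⟨a', rfl⟩ := hy
        exact ⟨a + a', by simp [TensorProduct.tmul_add, Finset.sum_add_distrib]⟩
      | tmul x y =>
        obtain ⟨v, rfl⟩ := hq x
        exact ⟨fun i => v i • y, by
          rw [hb, TensorProduct.sum_tmul]
          exact Finset.sum_congr rfl fun i _ => by rw [TensorProduct.smul_tmul]⟩
    rw [IsIdempotentElem, key, ← sub_eq_zero, ← Finset.sum_sub_distrib] at he
    simp only [← TensorProduct.tmul_sub] at he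
    obtain ⟨δ, hδ⟩ := vanish q hq rel hrel A' _ he
    let ψ : P →ₐ[A] A' := MvPolynomial.aeval (Sum.elim a δ)
    have hψc : ∀ i, ψ (c i) = a i := fun i => MvPolynomial.aeval_X _ _
    have hψd : ∀ l, ψ (d l) = δ l := fun l => MvPolynomial.aeval_X _ _
    have hψ : ∀ x ∈ J, ψ x = 0 := by
      intro x hx
      have hle : J ≤ RingHom.ker ψ := by
        rw [Ideal.span_le]
        rintro _ ⟨s, rfl⟩
        simp only [SetLike.mem_coe, RingHom.mem_ker]
        simp only [E, map_sub, map_sum, map_smul, map_mul, hψc, hψd]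
        rw [hδ s, sub_self]
      exact hle hx
    refine ⟨Ideal.Quotient.liftₐ J ψ hψ, ?_⟩
    simp only [map_sum, Algebra.TensorProduct.map_tmul, AlgHom.id_apply]
    exact Finset.sum_congr rfl fun i _ => by rw [← hψc i]; rfl

end Groth.Agent.S1458
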