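import Groth.Statements.S14580
import Mathlib.AlgebraicGeometry.Morphisms.Proper
import Mathlib.AlgebraicGeometry.PullbackCarrier
import Groth.Agent.Lib.PtSet.Components

set_option autoImplicit false
universe u
open CategoryTheory MonoidalCategory CartesianMonoidalCategory MonObj GrpObj AlgebraicGeometry CategoryTheory.Limits
open AlgGrp

namespace Groth.Agent.S14580

open TopologicalSpace Opposite

theorem isClopen_basicOpen_of_forall_isMaximal {R : Type u} [CommRing R]
    (h : ∀ I : Ideal R, I.IsPrime → I.IsMaximal) (r : R) :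
    IsClopen (PrimeSpectrum.basicOpen r : Set (PrimeSpectrum R)) := by
  refine ⟨?_, (PrimeSpectrum.basicOpen r).2⟩
  rw [← PrimeSpectrum.localization_away_comap_range (Localization.Away r) r]
  apply PrimeSpectrum.isClosed_range_of_stableUnderSpecialization
  intro x y hxy hx
  have hle : x.asIdeal ≤ y.asIdeal := (PrimeSpectrum.le_iff_specializes x y).mpr hxy
  have : x = y := PrimeSpectrum.ext ((h _ x.2).eq_of_le y.2.ne_top hle)
  exact this ▸ hx

/-- The idempotent of a clopen subset. -/
theorem exists_basicOpen_eq_of_isClopen {X : Scheme.{u}} {C : Set X} (hC : IsClopen C) :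
    ∃ e : Γ(X, ⊤), (X.basicOpen e : Set X) = C := by
  classical
  let U : Bool → X.Opens := fun b => cond b ⟨C, hC.2⟩ ⟨Cᶜ, hC.1.isOpen_compl⟩
  let s : ∀ b, Γ(X, U b) := fun b => cond b 1 0
  obtain ⟨e, he, -⟩ := X.sheaf.existsUnique_gluing' U ⊤ (fun b => homOfLE le_top)
    (fun z _ => Opens.mem_iSup.mpr (by
      by_cases hz : z ∈ C
      · exact ⟨true, hz⟩
      · exact ⟨false, hz⟩)) s (fun i j => by
      cases i <;> cases j
      · rfl
      · haveI : Subsingleton Γ(X, U false ⊓ U true) := by
          rw [show U false ⊓ U true = ⊥ from le_bot_iff.mp fun z hz => hz.1 hz.2]; infer_instance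
        exact Subsingleton.elim (α := Γ(X, U false ⊓ U true)) _ _
      · haveI : Subsingleton Γ(X, U true ⊓ U false) := by
          rw [show U true ⊓ U false = ⊥ from le_bot_iff.mp fun z hz => hz.2 hz.1]; infer_instance
        exact Subsingleton.elim (α := Γ(X, U true ⊓ U false)) _ _
      · rfl)
  have hgerm : ∀ (b : Bool) (z : X) (hz : z ∈ U b),
      X.presheaf.germ ⊤ z trivial e = X.presheaf.germ (U b) z hz (s b) := by
    intro b z hz
    have h1 := TopCat.Presheaf.germ_res_apply X.presheaf (homOfLE (le_top : U b ≤ ⊤)) z hz e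
    rw [show X.presheaf.map (homOfLE (le_top : U b ≤ ⊤)).op e = s b from he b] at h1
    exact h1.symm
  refine ⟨e, Set.ext fun z => ?_⟩
  rw [SetLike.mem_coe, X.mem_basicOpen e z trivial]
  by_cases hz : z ∈ C
  · rw [hgerm true z hz]
    simp only [s, cond_true, map_one, isUnit_one, hz]
  · rw [hgerm false z hz]
    simp only [s, cond_false, map_zero, isUnit_zero_iff, zero_ne_one, hz]

/-- Let k be a field, G a proper k-group scheme of finite type and N ⊆ G the kernel of the affinization
morphism G → Spec O(G), i.e. the fibre over the image of the unit section (the largest anti-affine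
subgroup scheme of G). Then the image of N in G is the connected component of the identity: as N is
smooth, N is the reduced neutral component G⁰_red, which is therefore a smooth connected algebraic
group. -/
theorem result (k : Type u) [Field k]
    (G : Over (Spec (CommRingCat.of k))) [GrpObj G] [IsProper G.hom] (t : ↥((𝟙_ (Over (Spec (CommRingCat.of k)))).left)) :
    Set.range ⇑(pullback.fst G.left.toSpecΓ (η[G].left ≫ G.left.toSpecΓ)).base = connectedComponent ((η[G]).left.base t) := by
  set X := G.left
  set x₀ : X := (η[G]).left.base t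
  haveI : CompactSpace ↥X := (quasiCompact_iff_compactSpace G.hom).mp inferInstance
  haveI : QuasiSeparatedSpace ↥X := quasiSeparatedSpace_of_quasiSeparated G.hom
  haveI : Subsingleton ↥((𝟙_ (Over (Spec (CommRingCat.of k)))).left) :=
    inferInstanceAs (Subsingleton (PrimeSpectrum k))
  have hmax : ∀ I : Ideal Γ(X, ⊤), I.IsPrime → I.IsMaximal := by
    have hint := isIntegral_appTop_of_universallyClosed (X := X) G.hom
    have hF : IsField Γ(Spec (CommRingCat.of k), ⊤) :=
      (Scheme.ΓSpecIso (CommRingCat.of k)).commRingCatIsoToRingEquiv.toMulEquiv.isField (Field.toIsField k)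
    intro I hI
    algebraize [G.hom.appTop.hom]
    haveI := hI
    have := hF
    refine Ideal.Quotient.maximal_of_isField _ ?_
    have := hF.toField
    exact isField_of_isIntegral_of_isField' hF
  rw [Scheme.Pullback.range_fst]
  have hr : Set.range ⇑(η[G].left ≫ G.left.toSpecΓ).base = {X.toSpecΓ.base x₀} := by
    ext p
    constructor
    · rintro ⟨y, rfl⟩
      rw [Subsingleton.elim y t]; rfl
    · rintro rfl
      exact ⟨t, rfl⟩
  erw [hr]
  apply subset_antisymm
  · intro z hz
    rw [Groth.Agent.PtSet.connectedComponent_eq_sInter_isClopen_qcqs]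
    rintro C ⟨hC, hxC⟩
    obtain ⟨e, he⟩ := exists_basicOpen_eq_of_isClopen hC
    rw [← he, ← Scheme.toSpecΓ_preimage_basicOpen] at hxC ⊢
    show X.toSpecΓ.base z ∈ PrimeSpectrum.basicOpen e
    rw [show X.toSpecΓ.base z = X.toSpecΓ.base x₀ from hz]
    exact hxC
  · intro z hz
    by_contra hne
    change X.toSpecΓ.base z ≠ X.toSpecΓ.base x₀ at hne
    have hex : ∃ r : Γ(X, ⊤), ¬ (X.toSpecΓ.base z ∈ PrimeSpectrum.basicOpen r ↔
        X.toSpecΓ.base x₀ ∈ PrimeSpectrum.basicOpen r) := by
      by_contra hall
      push_neg at hall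
      exact hne (PrimeSpectrum.ext (Ideal.ext fun r => not_iff_not.mp (hall r)))
    obtain ⟨r, hr⟩ := hex
    have hcl : IsClopen (X.toSpecΓ.base ⁻¹' (PrimeSpectrum.basicOpen r : Set (PrimeSpectrum Γ(X, ⊤)))) :=
      (isClopen_basicOpen_of_forall_isMaximal hmax r).preimage X.toSpecΓ.continuous
    by_cases hx : X.toSpecΓ.base x₀ ∈ PrimeSpectrum.basicOpen r
    · exact hr (iff_of_true (hcl.connectedComponent_subset hx hz) hx)
    · exact hr (iff_of_false (hcl.compl.connectedComponent_subset hx hz) hx)

end Groth.Agent.S14580
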