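import Groth.Statements.S14583
import Groth.Agent.Lib.FrobSub19.Basic
import Groth.Agent.Lib.UnivHomeo.Basic
-- import your own Groth.Agent.* helpers here

set_option autoImplicit false
universe u
open CategoryTheory MonoidalCategory CartesianMonoidalCategory MonObj GrpObj AlgebraicGeometry CategoryTheory.Limits
open AlgGrp

namespace Groth.Agent.S14583

set_option linter.style.haveILetI false
set_option backward.isDefEq.respectTransparency.types false


/-- Let k ⊆ K be a finite purely inseparable field extension, G a k-group scheme of finite type and h' :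
H' → G_K a closed subgroup scheme of the base change of G to K. Then there is a closed subgroup
scheme h : H → G over k such that H' factors through the base change H_K → G_K by a morphism H' →
H_K which is surjective. (The published statement concludes that H' ⊆ H_K with H_K/H' finite; the
subgroup H produced by its proof, a Frobenius pull-back, has H_K with the same underlying space as
H', which is the form stated here.) -/
theorem result (k K : Type u) [Field k] [Field K] [Algebra k K]
    [Module.Finite k K] [IsPurelyInseparable k K]
    (G : Over (Spec (CommRingCat.of k))) [GrpObj G] [LocallyOfFiniteType G.hom] [QuasiCompact G.hom]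
    (H' : Over (Spec (CommRingCat.of K))) [GrpObj H']
    (h' : H' ⟶ Red.bc (Spec.map (CommRingCat.ofHom (algebraMap k K))) G) [IsMonHom h'] [IsClosedImmersion h'.left] :
    ∃ (H : Over (Spec (CommRingCat.of k))) (_ : GrpObj H) (h : H ⟶ G), IsMonHom h ∧ IsClosedImmersion h.left ∧
      ∃ g : H' ⟶ Red.bc (Spec.map (CommRingCat.ofHom (algebraMap k K))) H, g ≫ (Over.pullback (Spec.map (CommRingCat.ofHom (algebraMap k K)))).map h = h' ∧ Surjective g.left := by
  let σ : Spec (CommRingCat.of K) ⟶ Spec (CommRingCat.of k) := Spec.map (CommRingCat.ofHom (algebraMap k K))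
  haveI : UniversallyInjective σ := UH.universallyInjective_of_field _ fun L _ g g' h =>
    IsPurelyInseparable.injective_comp_algebraMap k K L h
  obtain ⟨q, hq⟩ := ExpChar.exists k
  rcases hq with _ | ⟨hp⟩
  · have hs : Function.Bijective (algebraMap k K) :=
      ⟨(algebraMap k K).injective, IsPurelyInseparable.surjective_algebraMap_of_isSeparable k K⟩
    haveI : IsIso (CommRingCat.ofHom (algebraMap k K)) := (ConcreteCategory.isIso_iff_bijective _).2 hs
    haveI : IsIso σ := inferInstanceAs (IsIso (Spec.map (CommRingCat.ofHom (algebraMap k K))))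
    exact FrobSub19.exists_subgroup σ (𝟙 _) (fun T => 𝟙 T.left) (fun T x => rfl)
      (fun f => by simp) (fun T => by simp) (inv σ) (IsIso.inv_hom_id σ) (IsIso.hom_inv_id σ) G H' h'
  · haveI := Fact.mk hp
    haveI : CharP K q := charP_of_injective_algebraMap (algebraMap k K).injective q
    haveI : ExpChar k q := ExpChar.prime hp
    let n := IsPurelyInseparable.exponent k K
    let φ : K →+* k := IsPurelyInseparable.iterateFrobenius k K q (le_refl n)
    have h1 : ∀ a : K, algebraMap k K (φ a) = a ^ q ^ n := fun a =>
      IsPurelyInseparable.algebraMap_iterateFrobenius k q (le_refl n) a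
    have h2 : ∀ a : k, φ (algebraMap k K a) = a ^ q ^ n := fun a =>
      IsPurelyInseparable.iterateFrobenius_algebraMap K q (le_refl n) a
    refine FrobSub19.exists_subgroup σ (FrobSch.frobIter (Spec (CommRingCat.of k)) q n) (FrobSub19.frN q n)
      (fun T x => ?_) (fun {T T'} f => ?_) (fun T => ?_) (Spec.map (CommRingCat.ofHom φ)) ?_ ?_ G H' h'
    · haveI := FrobSch.IsCharP.of_hom T.hom q
      exact FrobSub19.frobIter_apply q n x
    · haveI := FrobSch.IsCharP.of_hom T.hom q
      haveI := FrobSch.IsCharP.of_hom T'.hom q
      exact FrobSub19.frobIter_comp q f.left n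
    · haveI := FrobSch.IsCharP.of_hom T.hom q
      exact FrobSub19.frobIter_comp q T.hom n
    · rw [FrobSub19.frobIter_spec q k n (φ.comp (algebraMap k K)) h2, ← Spec.map_comp]
      rfl
    · show σ ≫ _ = FrobSch.frobIter (Spec (CommRingCat.of K)) q n
      rw [FrobSub19.frobIter_spec q K n ((algebraMap k K).comp φ) h1, ← Spec.map_comp]
      rfl

end Groth.Agent.S14583
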