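import Groth.Statements.S14587
import Groth.Agent.Lib.GITQuot.Orbit
import Mathlib.AlgebraicGeometry.Morphisms.Finite
import Mathlib.AlgebraicGeometry.Morphisms.FormallyUnramified
import Mathlib.AlgebraicGeometry.Morphisms.IsIso
import Mathlib.AlgebraicGeometry.Artinian
import Mathlib.RingTheory.Etale.Field
import Mathlib.RingTheory.Smooth.Basic
import Mathlib.FieldTheory.Perfect
import Mathlib.Topology.Separation.Connected

set_option autoImplicit false
universe u
open CategoryTheory MonoidalCategory CartesianMonoidalCategory MonObj GrpObj AlgebraicGeometry CategoryTheory.Limits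
open AlgGrp

namespace Groth.Agent.S14587

set_option backward.isDefEq.respectTransparency.types false
set_option maxHeartbeats 1000000
open CategoryTheory.Limits

/-- A reduced finite algebra over a perfect field is formally étale. -/
theorem formallyEtale_of_isReduced (k B : Type u) [Field k] [PerfectField k] [CommRing B] [Algebra k B]
    [Module.Finite k B] [IsReduced B] : Algebra.FormallyEtale k B := by
  haveI : IsArtinianRing B := .of_finite k B
  let := fun m : MaximalSpectrum B => Ideal.Quotient.field m.asIdeal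
  haveI : ∀ m : MaximalSpectrum B, Algebra.FormallyEtale k (B ⧸ m.asIdeal) := fun m => by
    haveI : Module.Finite k (B ⧸ m.asIdeal) :=
      Module.Finite.of_surjective (Ideal.Quotient.mkₐ k m.asIdeal).toLinearMap Ideal.Quotient.mk_surjective
    haveI : Algebra.IsAlgebraic k (B ⧸ m.asIdeal) := Algebra.IsAlgebraic.of_finite k _
    haveI : Algebra.IsSeparable k (B ⧸ m.asIdeal) := Algebra.IsAlgebraic.isSeparable_of_perfectField
    exact Algebra.FormallyEtale.of_isSeparable k _
  exact .of_equiv ((IsArtinianRing.equivPi B).restrictScalars k).symm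

/-- Maps into an unramified scheme agreeing after a surjection are equal, if the surjection is to any scheme. -/
theorem hom_ext_of_surjective {S : Scheme.{u}} {W Z E : Over S} [FormallyUnramified E.hom]
    [LocallyOfFiniteType E.hom] (j : W ⟶ Z) [Surjective j.left] (f g : Z ⟶ E) (h : j ≫ f = j ≫ g) :
    f = g := by
  let l := pullback.lift f.left g.left (show f.left ≫ E.hom = g.left ≫ E.hom by rw [Over.w f, Over.w g])
  have l1 : l ≫ pullback.fst E.hom E.hom = f.left := pullback.lift_fst _ _ _
  have l2 : l ≫ pullback.snd E.hom E.hom = g.left := pullback.lift_snd _ _ _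
  let e := pullback.snd (pullback.diagonal E.hom) l
  have h' : j.left ≫ f.left = j.left ≫ g.left := congrArg CommaMorphism.left h
  have hcond : (j.left ≫ f.left) ≫ pullback.diagonal E.hom = j.left ≫ l := by
    apply pullback.hom_ext
    · rw [Category.assoc, pullback.diagonal_fst, Category.comp_id, Category.assoc, l1]
    · rw [Category.assoc, pullback.diagonal_snd, Category.comp_id, Category.assoc, l2, h']
  let jl := pullback.lift (f := pullback.diagonal E.hom) (g := l) (j.left ≫ f.left) j.left hcond
  have hjl : jl ≫ e = j.left := pullback.lift_snd _ _ _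
  haveI : Surjective e := ⟨fun z => by
    obtain ⟨w, rfl⟩ := j.left.surjective z
    exact ⟨jl w, by rw [← Scheme.Hom.comp_apply, hjl]⟩⟩
  haveI : IsIso e := (isIso_iff_isOpenImmersion_and_surjective e).2 ⟨inferInstance, inferInstance⟩
  have c : pullback.fst (pullback.diagonal E.hom) l ≫ pullback.diagonal E.hom = e ≫ l := pullback.condition
  have e1 : pullback.fst (pullback.diagonal E.hom) l = e ≫ f.left := by
    rw [← l1, ← Category.assoc e, ← c, Category.assoc, pullback.diagonal_fst, Category.comp_id]
  have e2 : pullback.fst (pullback.diagonal E.hom) l = e ≫ g.left := by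
    rw [← l2, ← Category.assoc e, ← c, Category.assoc, pullback.diagonal_snd, Category.comp_id]
  exact Over.OverMorphism.ext ((cancel_epi e).1 (e1.symm.trans e2))


/-- Let k be a perfect field and G a finite k-group scheme, r : G_red → G its reduced subgroup scheme (a
homomorphism and closed immersion from a reduced k-group scheme, surjective on underlying spaces)
and i₀ : G⁰ → G its neutral component (a homomorphism and open immersion from a connected k-group
scheme). Then the multiplication morphism G_red × G⁰ → G is an isomorphism, exhibiting G as the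
semi-direct product of G⁰ by G_red. -/
theorem result (k : Type u) [Field k] [PerfectField k]
    (G Gr G₀ : Over (Spec (CommRingCat.of k))) [GrpObj G] [GrpObj Gr] [GrpObj G₀] [IsFinite G.hom]
    (r : Gr ⟶ G) [IsMonHom r] [IsClosedImmersion r.left] [IsReduced Gr.left] [Surjective r.left]
    (i₀ : G₀ ⟶ G) [IsMonHom i₀] [IsOpenImmersion i₀.left] [ConnectedSpace ↥G₀.left] :
    IsIso ((r ⊗ₘ i₀) ≫ μ[G]) := by
  haveI : IsFinite Gr.hom := by rw [← Over.w r]; infer_instance
  haveI : IsAffine G.left := isAffine_of_isAffineHom G.hom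
  haveI : IsAffine Gr.left := isAffine_of_isAffineHom Gr.hom
  let A := Γ(G.left, ⊤)
  let B := Γ(Gr.left, ⊤)
  let φA : CommRingCat.of k ⟶ A := (Scheme.ΓSpecIso (CommRingCat.of k)).inv ≫ G.hom.appTop
  let φB : CommRingCat.of k ⟶ B := (Scheme.ΓSpecIso (CommRingCat.of k)).inv ≫ Gr.hom.appTop
  letI : Algebra k A := φA.hom.toAlgebra
  letI : Algebra k B := φB.hom.toAlgebra
  have hfin : ∀ (X : Over (Spec (CommRingCat.of k))) [IsFinite X.hom],
      ((Scheme.ΓSpecIso (CommRingCat.of k)).inv ≫ X.hom.appTop).hom.Finite := fun X _ => by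
    rw [CommRingCat.hom_comp]
    exact X.hom.finite_appTop.comp (RingHom.Finite.of_surjective _
      (ConcreteCategory.bijective_of_isIso (Scheme.ΓSpecIso (CommRingCat.of k)).inv).2)
  haveI : Module.Finite k A := hfin G
  haveI : Module.Finite k B := hfin Gr
  haveI : Algebra.FormallyEtale k B := formallyEtale_of_isReduced k B
  haveI : FormallyUnramified Gr.hom := by
    rw [HasRingHomProperty.iff_of_isAffine (P := @FormallyUnramified)]
    have h1 : φB.hom.FormallyUnramified := (inferInstanceAs (Algebra.FormallyUnramified k B))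
    have h2 : Gr.hom.appTop = (Scheme.ΓSpecIso (CommRingCat.of k)).hom ≫ φB := by simp [φB]
    rw [h2, CommRingCat.hom_comp]
    exact RingHom.FormallyUnramified.stableUnderComposition _ _ (RingHom.FormallyUnramified.of_surjective
      (ConcreteCategory.bijective_of_isIso (Scheme.ΓSpecIso (CommRingCat.of k)).hom).2) h1
  -- the retraction
  let ρ : A →ₐ[k] B := ⟨r.left.appTop.hom, fun c => by
    show r.left.appTop (G.hom.appTop _) = Gr.hom.appTop _
    rw [← CommRingCat.comp_apply, ← Scheme.Hom.comp_appTop, Over.w r]⟩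
  have hρ : Function.Surjective ρ :=
    ((HasAffineProperty.iff_of_isAffine (P := @IsClosedImmersion)).1 inferInstance).2
  haveI : IsArtinianRing A := .of_finite k A
  have hker : RingHom.ker (ρ : A →+* B) ≤ nilradical A := fun x hx => by
    rw [mem_nilradical, nilpotent_iff_mem_prime]
    intro P hP
    have hs : Surjective (Spec.map r.left.appTop) := by
      rw [show Spec.map r.left.appTop = Gr.left.isoSpec.inv ≫ r.left ≫ G.left.isoSpec.hom by
        rw [Iso.eq_inv_comp]; simp [Scheme.isoSpec, Scheme.toSpecΓ_naturality]]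
      infer_instance
    obtain ⟨q, hq⟩ := hs.surj ⟨P, hP⟩
    rw [show P = Ideal.comap ρ q.asIdeal from (congrArg PrimeSpectrum.asIdeal hq).symm, Ideal.mem_comap]
    have hx' : ρ x = 0 := hx
    show ρ x ∈ q.asIdeal
    exact hx'.symm ▸ q.asIdeal.zero_mem
  have hnil : IsNilpotent (RingHom.ker (ρ : A →+* B)) := by
    obtain ⟨n, hn⟩ := IsArtinianRing.isNilpotent_nilradical (R := A)
    exact ⟨n, le_bot_iff.1 ((Ideal.pow_right_mono hker n).trans hn.le)⟩
  let s := Algebra.FormallySmooth.liftOfSurjective (AlgHom.id k B) ρ hρ hnil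
  have hs : ρ.comp s = AlgHom.id k B := Algebra.FormallySmooth.comp_liftOfSurjective _ _ hρ hnil
  let q₀ : G.left ⟶ Gr.left := G.left.toSpecΓ ≫ Spec.map (CommRingCat.ofHom s.toRingHom) ≫ Gr.left.isoSpec.inv
  have hq₀ : q₀.appTop = CommRingCat.ofHom s.toRingHom := by
    have h1 : Gr.left.isoSpec.inv.appTop = (Scheme.ΓSpecIso B).inv := by
      rw [← cancel_mono (Scheme.ΓSpecIso B).hom, Iso.inv_hom_id, ← Scheme.toSpecΓ_appTop]
      rw [← Scheme.Hom.comp_appTop]
      simp [Scheme.isoSpec]
    simp [q₀, h1, Scheme.toSpecΓ_appTop]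
    exact Iso.inv_hom_id_assoc (Scheme.ΓSpecIso B) _
  let q : G ⟶ Gr := Over.homMk q₀ (ext_of_isAffine (by
    rw [Scheme.Hom.comp_appTop, hq₀]
    refine CommRingCat.hom_ext (RingHom.ext fun c => ?_)
    have := s.commutes ((Scheme.ΓSpecIso (CommRingCat.of k)).hom c)
    simpa [RingHom.algebraMap_toAlgebra, φA, φB] using this))
  have hrq : r ≫ q = 𝟙 Gr := Over.OverMorphism.ext (ext_of_isAffine (by
    rw [Over.comp_left, Scheme.Hom.comp_appTop]
    show q₀.appTop ≫ r.left.appTop = _
    rw [hq₀]
    exact CommRingCat.hom_ext (RingHom.ext fun b => DFunLike.congr_fun hs b)))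
  haveI : LocallyOfFiniteType Gr.hom := inferInstance
  haveI hrr : Surjective (r ⊗ₘ r).left := by
    rw [tensorHom_def, Over.comp_left]
    haveI : Surjective (r ▷ Gr).left :=
      MorphismProperty.of_isPullback (P := @Surjective) (Groth.Agent.GITQuot.isPullback_whiskerRight r Gr).flip
        inferInstance
    haveI : Surjective (G ◁ r).left :=
      MorphismProperty.of_isPullback (P := @Surjective) (Groth.Agent.GITQuot.isPullback_whiskerLeft r G).flip
        inferInstance
    infer_instance
  haveI : IsMonHom q := by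
    constructor
    · calc η[G] ≫ q = (η[Gr] ≫ r) ≫ q := by rw [IsMonHom.one_hom r]
        _ = η[Gr] := by rw [Category.assoc, hrq, Category.comp_id]
    · refine hom_ext_of_surjective (r ⊗ₘ r) _ _ ?_
      rw [← Category.assoc, ← IsMonHom.mul_hom r, Category.assoc, hrq, Category.comp_id, tensorHom_comp_tensorHom_assoc,
        hrq, id_tensorHom_id, Category.id_comp]
  -- `G₀` is a point
  haveI : DiscreteTopology G.left :=
    G.left.isoSpec.hom.homeomorph.isEmbedding.discreteTopology
  haveI : DiscreteTopology G₀.left := i₀.left.isOpenEmbedding.isEmbedding.discreteTopology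
  haveI : Subsingleton G₀.left := PreconnectedSpace.trivial_of_discrete
  haveI : Surjective η[G₀].left := ⟨fun x =>
    ⟨(show Nonempty (Spec (CommRingCat.of k)) from inferInstance).some, Subsingleton.elim _ _⟩⟩
  have hi₀q : i₀ ≫ q = 1 := hom_ext_of_surjective η[G₀] _ _ (by
    rw [IsMonHom.one_hom_assoc, IsMonHom.one_hom, MonObj.comp_one, Hom.one_def, toUnit_unique (toUnit _) (𝟙 _),
      Category.id_comp])
  -- the component of `g` in `G₀`
  let h : G ⟶ G := (q ≫ r)⁻¹ * 𝟙 G
  have hh : h ≫ q = 1 := by
    rw [MonObj.mul_comp, GrpObj.inv_comp, Category.assoc, hrq, Category.comp_id, Category.id_comp, inv_mul_cancel]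
  have hqinj : Function.Injective q.left := fun x y e => by
    obtain ⟨a, rfl⟩ := r.left.surjective x
    obtain ⟨b, rfl⟩ := r.left.surjective y
    have e' : ∀ c, q.left (r.left c) = c := fun c => by
      rw [← Scheme.Hom.comp_apply, ← Over.comp_left, hrq]; rfl
    rw [e', e'] at e
    rw [e]
  have hrange : Set.range h.left ⊆ Set.range i₀.left := by
    rintro _ ⟨x, rfl⟩
    refine ⟨(1 : G ⟶ G₀).left x, hqinj ?_⟩
    rw [← Scheme.Hom.comp_apply, ← Scheme.Hom.comp_apply, ← Scheme.Hom.comp_apply, ← Over.comp_left,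
      ← Over.comp_left, ← Over.comp_left, hh, hi₀q, MonObj.comp_one]
  let h₀ : G ⟶ G₀ := Over.homMk (IsOpenImmersion.lift i₀.left h.left hrange) (by
    rw [← Over.w i₀, IsOpenImmersion.lift_fac_assoc, Over.w h])
  have hh₀ : h₀ ≫ i₀ = h := Over.OverMorphism.ext (IsOpenImmersion.lift_fac _ _ _)
  haveI : Mono i₀ := Over.mono_of_mono_left i₀
  have hm : (r ⊗ₘ i₀) ≫ μ[G] = (fst Gr G₀ ≫ r) * (snd Gr G₀ ≫ i₀) := by
    rw [Hom.mul_def]; congr 1
  have hq : ((r ⊗ₘ i₀) ≫ μ[G]) ≫ q = fst Gr G₀ := by
    rw [hm, MonObj.mul_comp, Category.assoc, hrq, Category.comp_id, Category.assoc, hi₀q, MonObj.comp_one,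
      _root_.mul_one]
  refine ⟨lift q h₀, ?_, ?_⟩
  · apply CartesianMonoidalCategory.hom_ext
    · rw [Category.assoc, lift_fst, hq, Category.id_comp]
    · rw [Category.assoc, lift_snd, Category.id_comp, ← cancel_mono i₀, Category.assoc, hh₀, MonObj.comp_mul,
        GrpObj.comp_inv, ← Category.assoc, hq, Category.comp_id, hm, inv_mul_cancel_left]
  · rw [← Category.assoc, lift_map, hh₀, ← Hom.mul_def, mul_inv_cancel_left]

end Groth.Agent.S14587
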