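import Groth.Statements.S14589
import Groth.Agent.Lib.AntiAffMin19.Quotient
-- import your own Groth.Agent.* helpers here

set_option autoImplicit false
universe u
open CategoryTheory MonoidalCategory CartesianMonoidalCategory MonObj GrpObj AlgebraicGeometry CategoryTheory.Limits
open AlgGrp Groth.Agent.AffGrp19 Groth.Agent.AntiAff20 Groth.Agent.AntiAffMin19 CategoryTheory.Limits MonoidalCategory CartesianMonoidalCategory MonObj

namespace Groth.Agent.S14589

set_option linter.style.haveILetI false
set_option backward.isDefEq.respectTransparency.types false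


/-- Let k be a field, G a k-group scheme of finite type, i : N → G a closed normal subgroup scheme and q
: G → Q a flat surjective homomorphism of k-group schemes of finite type with kernel N (Q = G/N).
Let j : M → G and j' : M' → Q be the largest anti-affine subgroup schemes of G and of Q (closed
subgroup schemes of finite type with only constant global functions through which every other such
subgroup scheme factors). Then q maps M onto M': the image of M → G → Q equals the underlying set of
M'. Since M' is smooth, this is the statement that G_ant/(G_ant ∩ N) → (G/N)_ant is an isomorphism. -/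
theorem result (k : Type u) [Field k]
    (G : Over (Spec (CommRingCat.of k))) [GrpObj G] [LocallyOfFiniteType G.hom] [QuasiCompact G.hom]
    (N : Over (Spec (CommRingCat.of k))) [GrpObj N] (i : N ⟶ G) [IsMonHom i] [IsClosedImmersion i.left] (hN : AlgGrp.IsNormalHom i)
    (Q : Over (Spec (CommRingCat.of k))) [GrpObj Q] [LocallyOfFiniteType Q.hom] [QuasiCompact Q.hom]
    (q : G ⟶ Q) [IsMonHom q] [Surjective q.left] [Flat q.left] (hq : AlgGrp.IsKernel i q)
    (M : Over (Spec (CommRingCat.of k))) [GrpObj M] [LocallyOfFiniteType M.hom] [QuasiCompact M.hom] (j : M ⟶ G) [IsMonHom j] [IsClosedImmersion j.left]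
    (hM : Function.Bijective ((Scheme.ΓSpecIso (CommRingCat.of k)).inv ≫ M.hom.appTop).hom)
    (hMmax : ∀ (M₁ : Over (Spec (CommRingCat.of k))) [GrpObj M₁] [LocallyOfFiniteType M₁.hom] [QuasiCompact M₁.hom] (j₁ : M₁ ⟶ G) [IsMonHom j₁] [IsClosedImmersion j₁.left],
      Function.Bijective ((Scheme.ΓSpecIso (CommRingCat.of k)).inv ≫ M₁.hom.appTop).hom → ∃ g : M₁ ⟶ M, g ≫ j = j₁)
    (M' : Over (Spec (CommRingCat.of k))) [GrpObj M'] [LocallyOfFiniteType M'.hom] [QuasiCompact M'.hom] (j' : M' ⟶ Q) [IsMonHom j'] [IsClosedImmersion j'.left]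
    (hM' : Function.Bijective ((Scheme.ΓSpecIso (CommRingCat.of k)).inv ≫ M'.hom.appTop).hom)
    (hM'max : ∀ (M₁ : Over (Spec (CommRingCat.of k))) [GrpObj M₁] [LocallyOfFiniteType M₁.hom] [QuasiCompact M₁.hom] (j₁ : M₁ ⟶ Q) [IsMonHom j₁] [IsClosedImmersion j₁.left],
      Function.Bijective ((Scheme.ΓSpecIso (CommRingCat.of k)).inv ≫ M₁.hom.appTop).hom → ∃ g : M₁ ⟶ M', g ≫ j' = j₁) :
    Set.range ⇑(j ≫ q).left.base = Set.range ⇑j'.left.base := by
  haveI : QuasiSeparated G.hom := Groth.Agent.AlgGrpBasic19.quasiSeparatedSpace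
  haveI : QuasiSeparated Q.hom := Groth.Agent.AlgGrpBasic19.quasiSeparatedSpace
  haveI : QuasiSeparated M.hom := Groth.Agent.AlgGrpBasic19.quasiSeparatedSpace
  haveI : QuasiSeparated M'.hom := Groth.Agent.AlgGrpBasic19.quasiSeparatedSpace
  -- the anti-affine part of a group is the kernel of the affinization
  obtain ⟨-, hlG, hqG, hbG⟩ := exists_antiAffine_kernel G
  obtain ⟨gG, hmG⟩ := exists_kernel_grp G
  haveI := hlG; haveI := hqG; haveI := hmG
  haveI := isClosedImmersion_kernel G
  obtain ⟨eG, heG⟩ := hMmax _ (pullback.fst (toAff G) η[aff G]) hbG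
  obtain ⟨eQ, heQ⟩ := exists_factor Q hM (j ≫ q)
  obtain ⟨eM', heM'⟩ := exists_factor Q hM' j'
  obtain ⟨-, hlQ, hqQ, hbQ⟩ := exists_antiAffine_kernel Q
  obtain ⟨gQ, hmQ⟩ := exists_kernel_grp Q
  haveI := hlQ; haveI := hqQ; haveI := hmQ
  haveI := isClosedImmersion_kernel Q
  obtain ⟨eQ', heQ'⟩ := hM'max _ (pullback.fst (toAff Q) η[aff Q]) hbQ
  apply Set.Subset.antisymm
  · rintro _ ⟨x, rfl⟩
    refine ⟨(eQ ≫ eQ').left x, ?_⟩
    rw [← Scheme.Hom.comp_apply, ← Over.comp_left, Category.assoc, heQ', heQ]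
  · rintro _ ⟨x, rfl⟩
    obtain ⟨y, hy⟩ := range_kernel_le i hN q hq ⟨eM'.left x, rfl⟩
    refine ⟨eG.left y, ?_⟩
    rw [← Scheme.Hom.comp_apply, ← Over.comp_left, ← Category.assoc, heG, hy, ← Scheme.Hom.comp_apply,
      ← Over.comp_left, heM']

end Groth.Agent.S14589
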