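import Groth.Statements.S14593
-- import your own Groth.Agent.* helpers here
import Groth.Agent.Lib.AffPart25.AlbMain

set_option autoImplicit false
set_option backward.isDefEq.respectTransparency false
universe u
open CategoryTheory MonoidalCategory CartesianMonoidalCategory MonObj GrpObj AlgebraicGeometry CategoryTheory.Limits
open AlgGrp

namespace Groth.Agent.S14593

/-- Let k be a field, G a smooth k-group scheme of finite type, i₀ : G⁰ → G its neutral component (a
connected open subgroup scheme) and α : G⁰ → A the Albanese homomorphism of G⁰: a flat surjective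
homomorphism onto an abelian variety A (proper, smooth, connected) through which every morphism from
G⁰ to an abelian variety preserving the unit factors uniquely. Let j : N → G⁰ be the kernel of α.
Then N is normal in G, affine and connected; it is the kernel of a flat surjective homomorphism from
G onto a proper k-group scheme of finite type; and it is the smallest normal subgroup scheme of G
with proper quotient: every flat surjective homomorphism from G onto a proper k-group scheme of
finite type kills N. -/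
theorem result (k : Type u) [Field k]
    (G : Over (Spec (CommRingCat.of k))) [GrpObj G] [Smooth G.hom] [QuasiCompact G.hom]
    (G₀ : Over (Spec (CommRingCat.of k))) [GrpObj G₀] (i₀ : G₀ ⟶ G) [IsMonHom i₀] [IsOpenImmersion i₀.left] [ConnectedSpace ↥G₀.left]
    (A : Over (Spec (CommRingCat.of k))) [GrpObj A] [IsProper A.hom] [Smooth A.hom] [ConnectedSpace ↥A.left]
    (α : G₀ ⟶ A) [IsMonHom α] [Surjective α.left] [Flat α.left]
    (hα : ∀ (B : Over (Spec (CommRingCat.of k))) [GrpObj B] [IsProper B.hom] [Smooth B.hom] [ConnectedSpace ↥B.left] (f : G₀ ⟶ B),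
      η[G₀] ≫ f = η[B] → ∃! g : A ⟶ B, α ≫ g = f)
    (N : Over (Spec (CommRingCat.of k))) [GrpObj N] (j : N ⟶ G₀) [IsMonHom j] [IsClosedImmersion j.left] (hN : AlgGrp.IsKernel j α) :
    AlgGrp.IsNormalHom (j ≫ i₀) ∧ IsAffine N.left ∧ ConnectedSpace ↥N.left ∧
      (∃ (Q : Over (Spec (CommRingCat.of k))) (_ : GrpObj Q) (q : G ⟶ Q), IsMonHom q ∧ Surjective q.left ∧ Flat q.left ∧
        AlgGrp.IsKernel (j ≫ i₀) q ∧ IsProper Q.hom) ∧
      ∀ (Q' : Over (Spec (CommRingCat.of k))) [GrpObj Q'] [IsProper Q'.hom] (q' : G ⟶ Q') [IsMonHom q'] [Surjective q'.left] [Flat q'.left],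
        (j ≫ i₀) ≫ q' = 1 := by
  haveI : IsSeparated G.hom := Groth.Agent.AbRigid.isSeparated_of_grpObj G
  obtain ⟨hjc, -, -⟩ := Groth.Agent.AffPart25.exists_conj i₀
  haveI := hjc
  haveI : Smooth G₀.hom := by rw [← Over.w i₀]; infer_instance
  haveI : QuasiCompact G₀.hom := by rw [← Over.w i₀]; infer_instance
  haveI : Mono i₀ := Over.mono_of_mono_left i₀
  have hkill : ∀ (Q' : Over (Spec (CommRingCat.of k))) [GrpObj Q'] [IsProper Q'.hom] (q' : G ⟶ Q') [IsMonHom q'],
      (j ≫ i₀) ≫ q' = 1 := fun Q' _ _ q' _ => by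
    rw [Category.assoc]
    exact Groth.Agent.AffPart25.albanese_kills α hα j hN (i₀ ≫ q')
  obtain ⟨Q₂, _, q₂, M', m', hq₂, hQ₂, hk₂, hm'⟩ := Groth.Agent.AffPart25.exists_proper_quotient_below i₀ α
  haveI := hq₂; haveI := hQ₂
  obtain ⟨M, _, i, Q, _, q, hi, hic, hin, hcM, hq, hqs, hqf, hk, hQ, hs⟩ := Groth.Agent.AffPart25.exists_smallest G
  haveI := hi; haveI := hic; haveI := hq; haveI := hQ
  haveI := Groth.Agent.AffPart25.isAffine_of_smallest i (fun Q' _ _ q' _ => hs Q' q')
  haveI : Mono i := Over.mono_of_mono_left i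
  haveI : Mono j := Over.mono_of_mono_left j
  let a : N ⟶ M := hk.lift (j ≫ i₀) (toUnit N) ((hkill Q q).trans Hom.one_def)
  have ha : a ≫ i = j ≫ i₀ := hk.lift_fst _ _ _
  let w : M ⟶ M' := hk₂.lift i (toUnit M) ((hs Q₂ q₂).trans Hom.one_def)
  have hw : w ≫ m' ≫ i₀ = i := hk₂.lift_fst _ _ _
  let b : M ⟶ N := hN.lift (w ≫ m') (toUnit M) (by rw [Category.assoc, hm', MonObj.comp_one, Hom.one_def])
  have hb : b ≫ j ≫ i₀ = i := by
    rw [← Category.assoc b, hN.lift_fst, Category.assoc, hw]
  let e : M ≅ N :=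
    { hom := b
      inv := a
      hom_inv_id := by rw [← cancel_mono i, Category.assoc, ha, hb, Category.id_comp]
      inv_hom_id := by rw [← cancel_mono (j ≫ i₀), Category.assoc, hb, ha, Category.id_comp] }
  haveI : IsIso b.left := ((Over.forget _).mapIso e).isIso_hom
  have hk' : AlgGrp.IsKernel (j ≫ i₀) q :=
    hk.of_iso e (Iso.refl _) (Iso.refl _) (Iso.refl _) (by simp [e, hb]) (toUnit_unique _ _) (by simp) (by simp)
  refine ⟨fun T g n => ?_, IsAffine.of_isIso (inv b.left), b.left.surjective.connectedSpace b.left.continuous,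
    ⟨Q, inferInstance, q, hq, hqs, hqf, hk', hQ⟩, fun Q' _ _ q' _ _ _ => hkill Q' q'⟩
  obtain ⟨n', hn'⟩ := hin T g (n ≫ a)
  refine ⟨n' ≫ b, ?_⟩
  rw [Category.assoc, hb, ← hn', Category.assoc, ha]


end Groth.Agent.S14593
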