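import Groth.Statements.S14596
-- import your own Groth.Agent.* helpers here
import Groth.Agent.Lib.BorelFix21.BaseChange
import Groth.Agent.Lib.Weight4.DegRank
import Groth.Agent.Lib.SectionCompOpen4
import Groth.Agent.Lib.PtsDetect19.Basic
import Groth.Agent.Lib.OrbitTop19.Base

set_option autoImplicit false
universe u
open CategoryTheory MonoidalCategory CartesianMonoidalCategory MonObj GrpObj AlgebraicGeometry CategoryTheory.Limits
open AlgGrp

namespace Groth.Agent.S14596

open scoped CategoryTheory.Obj

set_option backward.isDefEq.respectTransparency false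

theorem whisker_mul' {S : Scheme.{u}} {G H T : Over S} [GrpObj G] (i : H ⟶ G) (t : T ⟶ G ⊗ H) :
    t ≫ (G ◁ i) ≫ μ[G] = (t ≫ fst G H) * ((t ≫ snd G H) ≫ i) := by
  rw [Hom.mul_def, ← Category.assoc]
  congr 1
  apply CartesianMonoidalCategory.hom_ext <;> simp

variable {k : Type u} [Field k] {G H X : Over (Spec (CommRingCat.of k))} [GrpObj G] [GrpObj H]
  {i : H ⟶ G} [IsMonHom i] {a : AlgGrp.Action G X} {o : 𝟙_ (Over (Spec (CommRingCat.of k))) ⟶ X}

theorem eta_orbitMap : η[G] ≫ a.orbitMap o = o := by
  have h1 : η[G] ≫ lift (𝟙 G) (toUnit G ≫ o) = lift η[G] o := by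
    rw [comp_lift, Category.comp_id, ← Category.assoc, toUnit_unique (η[G] ≫ toUnit G) (𝟙 _), Category.id_comp]
  have h2 : lift η[G] o ≫ a.act = lift (𝟙 _) o ≫ (η[G] ▷ X) ≫ a.act := by
    rw [lift_whiskerRight_assoc, Category.id_comp]
  rw [AlgGrp.Action.orbitMap, ← Category.assoc, h1, h2, a.one_act]
  simp

theorem fibre_sq (hX : AGF.IsQuotient i X a o) : IsPullback i (toUnit H) (a.orbitMap o) o := by
  obtain ⟨_, _, _, hpb⟩ := hX
  have hw : i ≫ a.orbitMap o = toUnit H ≫ o := by
    have h := congrArg (lift (toUnit H ≫ η[G]) (𝟙 H) ≫ ·) hpb.w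
    simp only [← Category.assoc, lift_fst, lift_whiskerLeft, Category.id_comp] at h
    rw [show lift (toUnit H ≫ η[G]) i ≫ μ[G] = i by
      rw [← Hom.one_def, ← Hom.mul_def, _root_.one_mul]] at h
    rw [← h, Category.assoc, eta_orbitMap]
  have key : ∀ s : Limits.PullbackCone (a.orbitMap o) o, ∃ c : s.pt ⟶ H, c ≫ i = s.fst := by
    intro s
    obtain ⟨c, hc1, hc2⟩ := hpb.exists_lift (toUnit s.pt ≫ η[G]) s.fst (by
      rw [s.condition, Category.assoc, eta_orbitMap, toUnit_unique s.snd (toUnit s.pt)])
    refine ⟨c ≫ snd G H, ?_⟩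
    rw [← hc2, whisker_mul', hc1, ← Hom.one_def, _root_.one_mul]
  choose c hc using key
  refine ⟨⟨hw⟩, ⟨Limits.PullbackCone.IsLimit.mk hw c hc (fun s => toUnit_unique _ _) fun s m h1 _ => ?_⟩⟩
  obtain ⟨e, he⟩ : ∃ e : s.pt ⟶ G ⊗ H, e = lift (toUnit s.pt ≫ η[G]) m := ⟨_, rfl⟩
  have := hpb.hom_ext (k := lift (toUnit s.pt ≫ η[G]) m) (l := lift (toUnit s.pt ≫ η[G]) (c s))
    (by simp) (by
      rw [whisker_mul', whisker_mul', lift_fst, lift_fst, lift_snd, lift_snd, h1, hc])
  simpa using congrArg (· ≫ snd G H) this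

theorem range_eq (hX : AGF.IsQuotient i X a o) :
    Set.range i.left = (a.orbitMap o).left ⁻¹' Set.range o.left := by
  have h : IsPullback i.left (toUnit H).left (a.orbitMap o).left o.left := (fibre_sq hX).map (Over.forget _)
  rw [← h.isoPullback_hom_fst, Scheme.Hom.comp_base, TopCat.coe_comp, Set.range_comp,
    h.isoPullback.hom.surjective.range_eq, Set.image_univ]
  exact Scheme.Pullback.range_fst _ _

theorem range_fst_of {P A B C : Scheme.{u}} {f : P ⟶ A} {g : P ⟶ B} {p : A ⟶ C} {q : B ⟶ C}
    (h : IsPullback f g p q) : Set.range f = p ⁻¹' Set.range q := by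
  rw [← h.isoPullback_hom_fst, Scheme.Hom.comp_base, TopCat.coe_comp, Set.range_comp,
    h.isoPullback.hom.surjective.range_eq, Set.image_univ]
  exact Scheme.Pullback.range_fst _ _

theorem range_map {K : Type u} [Field K] (φ : Spec (CommRingCat.of K) ⟶ Spec (CommRingCat.of k))
    {Y Z : Over (Spec (CommRingCat.of k))} (f : Y ⟶ Z) :
    Set.range ((Over.pullback φ).map f).left =
      Limits.pullback.fst Z.hom φ ⁻¹' Set.range f.left := by
  exact range_fst_of (BorelFix21.isPullback_bc_map φ f).flip

theorem range_point [LocallyOfFiniteType X.hom] (p : 𝟙_ (Over (Spec (CommRingCat.of k))) ⟶ X) (z : X.left)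
    (hz : z ∈ Set.range p.left) : Set.range p.left = {z} := by
  haveI : Subsingleton ↥(𝟙_ (Over (Spec (CommRingCat.of k)))).left := inferInstanceAs (Subsingleton (PrimeSpectrum k))
  obtain ⟨w, rfl⟩ := hz
  haveI : Nonempty ↥(𝟙_ (Over (Spec (CommRingCat.of k)))).left := ⟨w⟩
  exact Set.range_eq_singleton_iff.2 fun v => congrArg p.left (Subsingleton.elim v w)

/-- Over an algebraically closed field the quotient by an open closed subgroup is discrete. -/
theorem finite_of_isOpen [IsAlgClosed k] [LocallyOfFiniteType G.hom] [CompactSpace G.left]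
    (hX : AGF.IsQuotient i X a o) (hopen : IsOpen (Set.range i.left)) : Finite X.left := by
  obtain ⟨hlft, hflat, hsurj, -⟩ := id hX
  haveI := hlft
  haveI := hflat
  haveI := hsurj
  let π := a.orbitMap o
  haveI : IsLocallyNoetherian X.left := LocallyOfFiniteType.isLocallyNoetherian X.hom
  haveI : LocallyOfFiniteType π.left :=
    haveI : LocallyOfFiniteType (π.left ≫ X.hom) := by rw [Over.w π]; infer_instance
    locallyOfFiniteType_of_comp π.left X.hom
  haveI : LocallyOfFinitePresentation π.left := inferInstance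
  haveI : UniversallyOpen π.left := inferInstance
  haveI : JacobsonSpace X.left := LocallyOfFiniteType.jacobsonSpace X.hom
  haveI : JacobsonSpace G.left := LocallyOfFiniteType.jacobsonSpace G.hom
  haveI : CompactSpace X.left :=
    ⟨by rw [← π.left.surjective.range_eq]; exact isCompact_range π.left.continuous⟩
  have hclosed : ∀ z ∈ closedPoints X.left, IsOpen ({z} : Set X.left) := by
    intro z hz
    obtain ⟨v, hv⟩ := π.left.surjective z
    obtain ⟨c, hc, hcc⟩ := nonempty_inter_closedPoints
      (⟨v, hv⟩ : (π.left.base ⁻¹' {z}).Nonempty) ((mem_closedPoints_iff.1 hz).preimage π.left.continuous).isLocallyClosed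
    let g : 𝟙_ (Over (Spec (CommRingCat.of k))) ⟶ G :=
      Over.homMk (pointOfClosedPoint G.hom c hcc) (pointOfClosedPoint_comp G.hom c hcc)
    let L : G ≅ G := OrbitTop19.trIso (OrbitTop19.mulAction G) g
    have hLo : IsOpen (L.hom.left '' Set.range i.left) := L.hom.left.isOpenEmbedding.isOpenMap _ hopen
    have hcomm : i ≫ L.hom ≫ π = toUnit H ≫ g ≫ π := by
      show i ≫ OrbitTop19.tr (OrbitTop19.mulAction G) g ≫ π = _
      rw [OrbitTop19.tr_equivariant (OrbitTop19.orbitMap_equivariant a o), ← Category.assoc, (fibre_sq hX).w,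
        Category.assoc]
      congr 1
      rw [← eta_orbitMap (a := a) (o := o), Category.assoc,
        ← OrbitTop19.tr_equivariant (OrbitTop19.orbitMap_equivariant a o), ← Category.assoc]
      congr 1
      rw [OrbitTop19.comp_tr, toUnit_unique (toUnit (𝟙_ (Over (Spec (CommRingCat.of k))))) (𝟙 _), Category.id_comp]
      show lift g η[G] ≫ μ[G] = g
      have h1 : η[G] = (1 : 𝟙_ (Over (Spec (CommRingCat.of k))) ⟶ G) := by
        rw [Hom.one_def, toUnit_unique (toUnit (𝟙_ (Over (Spec (CommRingCat.of k))))) (𝟙 _), Category.id_comp]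
      rw [← Hom.mul_def, h1, _root_.mul_one]
    have hgz : z ∈ Set.range (g ≫ π).left := ⟨IsLocalRing.closedPoint k, by
      rw [Over.comp_left]
      exact (congrArg π.left.base (pointOfClosedPoint_apply G.hom c hcc _)).trans hc⟩
    have himg : π.left '' (L.hom.left '' Set.range i.left) = {z} := by
      refine Set.Subset.antisymm ?_ ?_
      · rintro _ ⟨_, ⟨_, ⟨w, rfl⟩, rfl⟩, rfl⟩
        rw [← range_point (g ≫ π) z hgz]
        refine ⟨(toUnit H).left w, ?_⟩
        exact (congrArg (fun f : H ⟶ X => f.left w) hcomm).symm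
      · have : ((a.orbitMap o).left ⁻¹' Set.range o.left).Nonempty := by
          obtain ⟨x, hx⟩ := π.left.surjective (o.left (IsLocalRing.closedPoint k))
          exact ⟨x, ⟨_, hx.symm⟩⟩
        rw [← range_eq hX] at this
        obtain ⟨_, w, rfl⟩ := this
        intro x hx
        rw [Set.mem_singleton_iff] at hx
        rw [hx]
        have hw : (g ≫ π).left ((toUnit H).left w) ∈ ({z} : Set X.left) := by
          rw [← range_point (g ≫ π) z hgz]; exact ⟨_, rfl⟩
        refine ⟨_, ⟨_, ⟨w, rfl⟩, rfl⟩, ?_⟩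
        exact (congrArg (fun f : H ⟶ X => f.left w) hcomm).trans (Set.mem_singleton_iff.1 hw)
    exact himg ▸ π.left.isOpenMap _ hLo
  have hall : ∀ z : X.left, IsOpen ({z} : Set X.left) := by
    intro z
    obtain ⟨w, hw, hwc⟩ := nonempty_inter_closedPoints (⟨z, subset_closure rfl⟩ : (closure ({z} : Set X.left)).Nonempty)
      isClosed_closure.isLocallyClosed
    obtain ⟨v, hvw, hvz⟩ := mem_closure_iff.1 hw {w} (hclosed w hwc) rfl
    rw [Set.mem_singleton_iff] at hvw hvz
    subst hvw hvz
    exact hclosed _ hwc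
  haveI : DiscreteTopology X.left := discreteTopology_iff_isOpen_singleton.2 hall
  exact finite_of_compact_of_discrete


/-- Let k be a perfect field, G a k-group scheme of finite type and r₀ : G⁰_red → G the reduced neutral
component of G, i.e. a homomorphism and closed immersion from a reduced k-group scheme whose image
is the connected component of the identity. Then the homogeneous space G/G⁰_red is finite, and
G⁰_red is the smallest closed subgroup scheme H of G such that G/H is finite: every such H contains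
G⁰_red. -/
theorem result (k : Type u) [Field k] [PerfectField k]
    (G G₀ : Over (Spec (CommRingCat.of k))) [GrpObj G] [GrpObj G₀] [LocallyOfFiniteType G.hom] [QuasiCompact G.hom]
    [LocallyOfFiniteType G₀.hom] [QuasiCompact G₀.hom]
    (r₀ : G₀ ⟶ G) [IsMonHom r₀] [IsClosedImmersion r₀.left] [IsReduced G₀.left] (t : ↥((𝟙_ (Over (Spec (CommRingCat.of k)))).left))
    (hr₀ : Set.range ⇑r₀.left.base = connectedComponent ((η[G]).left.base t)) :
    (∀ (X : Over (Spec (CommRingCat.of k))) (a : AlgGrp.Action G X) (o : 𝟙_ (Over (Spec (CommRingCat.of k))) ⟶ X), AGF.IsQuotient r₀ X a o → IsFinite X.hom) ∧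
    ∀ (H : Over (Spec (CommRingCat.of k))) [GrpObj H] (h : H ⟶ G) [IsMonHom h] [IsClosedImmersion h.left]
      (X : Over (Spec (CommRingCat.of k))) (a : AlgGrp.Action G X) (o : 𝟙_ (Over (Spec (CommRingCat.of k))) ⟶ X),
      AGF.IsQuotient h X a o → IsFinite X.hom → ∃ g : G₀ ⟶ H, g ≫ h = r₀ := by
  refine ⟨fun X a o hX => ?_, fun H _ h _ _ X a o hX hfin => ?_⟩
  · obtain ⟨hlft, -, -, -⟩ := id hX
    haveI := hlft
    let φ : Spec (CommRingCat.of (AlgebraicClosure k)) ⟶ Spec (CommRingCat.of k) :=
      Spec.map (CommRingCat.ofHom (algebraMap k (AlgebraicClosure k)))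
    let F := Over.pullback φ
    haveI : LocallyOfFiniteType (F.obj G).hom :=
      MorphismProperty.of_isPullback (P := @LocallyOfFiniteType) (BorelFix21.isPullback_bc φ G) inferInstance
    haveI : QuasiCompact (F.obj G).hom :=
      MorphismProperty.of_isPullback (P := @QuasiCompact) (BorelFix21.isPullback_bc φ G) inferInstance
    haveI : CompactSpace (F.obj G).left := HasAffineProperty.iff_of_isAffine.1 ‹QuasiCompact (F.obj G).hom›
    haveI : IsLocallyNoetherian G.left := LocallyOfFiniteType.isLocallyNoetherian G.hom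
    have hopen : IsOpen (Set.range (F.map r₀).left) := by
      rw [range_map φ r₀, hr₀]
      haveI := SectionCompOpen4.locallyConnectedSpace G.left
      exact isOpen_connectedComponent.preimage (Scheme.Hom.continuous _)
    haveI := finite_of_isOpen (BorelFix21.isQuotient_bc φ hX) hopen
    haveI : Surjective φ := ⟨fun x => ⟨IsLocalRing.closedPoint _, Subsingleton.elim (α := PrimeSpectrum k) _ _⟩⟩
    haveI : Surjective (Limits.pullback.fst X.hom φ) := inferInstance
    haveI : Finite ↥(Limits.pullback X.hom φ) := ‹Finite ↥(F.obj X).left›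
    haveI : Finite X.left := Finite.of_surjective _ (Limits.pullback.fst X.hom φ).surjective
    haveI : LocallyQuasiFinite X.hom := LocallyQuasiFinite.of_finite_preimage_singleton _ fun _ => Set.toFinite _
    exact DegRank.isFinite_of_finite X.hom
  · haveI := hfin
    haveI : DiscreteTopology X.left := DegRank.discreteTopology_of_lqf X.hom
    have hcl : IsClopen (Set.range h.left) := by
      rw [range_eq hX]
      exact (isClopen_discrete _).preimage (Scheme.Hom.continuous _)
    have hmem : (η[G]).left t ∈ Set.range h.left := by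
      refine ⟨(η[H]).left t, ?_⟩
      rw [← IsMonHom.one_hom h]
      rfl
    have hsub : Set.range r₀.left ⊆ Set.range h.left := by
      rw [hr₀]
      exact hcl.connectedComponent_subset hmem
    exact PtsDetect19.lift_of_range r₀ h hsub


end Groth.Agent.S14596
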