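import Groth.Statements.S14597
import Groth.Agent.Lib.AffGrp19.Fixed

set_option autoImplicit false
universe u
open CategoryTheory MonoidalCategory CartesianMonoidalCategory MonObj GrpObj AlgebraicGeometry CategoryTheory.Limits
open AlgGrp

namespace Groth.Agent.S14597

/-- Let k be a field, G a k-group scheme of finite type acting on a separated, integral, locally
Noetherian k-scheme X and fixing a rational point x. Let n : N → G be the kernel of the action, i.e.
the closed subgroup scheme whose points with values in a k-scheme T are the T-points of G acting as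
the identity on X_T, and let q : G → Q be a flat surjective homomorphism of k-group schemes of
finite type with kernel N. Then Q is affine. (The published statement is for an irreducible locally
Noetherian X and the quotient C_G(x)/Ker of the stabiliser of x; restricting the action to the
stabiliser gives the case stated, and X is taken reduced here because the published proof uses that
the infinitesimal neighbourhoods of x are schematically dense in X.) -/
theorem result (k : Type u) [Field k]
    (G X : Over (Spec (CommRingCat.of k))) [GrpObj G] [LocallyOfFiniteType G.hom] [QuasiCompact G.hom]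
    [IsSeparated X.hom] [IsIntegral X.left] [IsLocallyNoetherian X.left]
    (a : AlgGrp.Action G X) (x : 𝟙_ (Over (Spec (CommRingCat.of k))) ⟶ X) (hx : a.IsFixedPt x)
    (N : Over (Spec (CommRingCat.of k))) [GrpObj N] (n : N ⟶ G) [IsMonHom n] [IsClosedImmersion n.left]
    (hN : ∀ (T : Over (Spec (CommRingCat.of k))) (g : T ⟶ G), (∃ m : T ⟶ N, m ≫ n = g) ↔
      ∀ (T' : Over (Spec (CommRingCat.of k))) (t : T' ⟶ T) (y : T' ⟶ X), lift (t ≫ g) y ≫ a.act = y)
    (Q : Over (Spec (CommRingCat.of k))) [GrpObj Q] [LocallyOfFiniteType Q.hom] [QuasiCompact Q.hom]
    (q : G ⟶ Q) [IsMonHom q] [Surjective q.left] [Flat q.left] (hq : AlgGrp.IsKernel n q) :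
    IsAffine Q.left := by
  refine Groth.Agent.AffGrp19.isAffine_of_fixedPt a x hx q (fun T g h => ?_) fun T g y hg => ?_
  · obtain ⟨m, rfl⟩ := (hN T g).mpr fun T' t y => by
      have hα := Groth.Agent.AffGrp19.eq_of_thick_integral
        (CartesianMonoidalCategory.lift (fst T X ≫ g) (snd T X) ≫ a.act) (snd T X) _ h
      have := congrArg (fun f => CartesianMonoidalCategory.lift t y ≫ f) hα
      simp only [comp_lift_assoc, lift_fst_assoc, lift_snd] at this
      exact this
    rw [Category.assoc, hq.w, MonObj.one_eq_one, MonObj.comp_one, MonObj.comp_one]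
  · have hw : g ≫ q = toUnit T ≫ η[Q] := by rw [hg, MonObj.one_eq_one, MonObj.comp_one]
    have := (hN T g).mp ⟨hq.lift g (toUnit T) hw, hq.lift_fst _ _ _⟩ T (𝟙 T) y
    rwa [Category.id_comp] at this

end Groth.Agent.S14597
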