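import Groth.Statements.S1460
import Groth.Agent.Lib.FlatH4.NoethApprox

set_option autoImplicit false
universe u
open FlatMor

namespace Groth.Agent.S1460

open AlgebraicGeometry CategoryTheory Limits in
/-- Let f : X → S be a morphism of finite presentation between affine schemes. Then f is the base change
of a morphism of finite type f₀ : X₀ → S₀ between affine schemes with S₀ of finite type over ℤ. -/
theorem result {X S : Scheme.{u}} (f : X ⟶ S) [IsAffine X] [IsAffine S] [LocallyOfFinitePresentation f] :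
    ∃ (X₀ S₀ : Scheme.{u}) (f₀ : X₀ ⟶ S₀) (g : S ⟶ S₀) (g' : X ⟶ X₀), IsAffine X₀ ∧ IsAffine S₀ ∧ IsPullback g' f f₀ g ∧
      Algebra.FiniteType ℤ Γ(S₀, ⊤) ∧ LocallyOfFiniteType f₀ := by
  algebraize [f.appTop.hom]
  have : Algebra.FinitePresentation Γ(S, ⊤) Γ(X, ⊤) :=
    (HasRingHomProperty.iff_of_isAffine (P := @LocallyOfFinitePresentation)).1 ‹_›
  obtain ⟨R, B₀, _, _, _, _, hR, hB₀, ⟨e⟩⟩ :=
    Groth.Agent.FlatH4.exists_approx Γ(S, ⊤) Γ(X, ⊤)
  obtain ⟨g', hg'⟩ := Groth.Agent.FlatH4.isPullback_of_affine f e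
  refine ⟨Spec (.of B₀), Spec (.of R), _, _, g', inferInstance, inferInstance, hg', ?_, ?_⟩
  · exact hR.equiv (Scheme.ΓSpecIso (CommRingCat.of R)).symm.commRingCatIsoToRingEquiv.toIntAlgEquiv
  · rw [HasRingHomProperty.Spec_iff (P := @LocallyOfFiniteType)]
    exact RingHom.finiteType_algebraMap.2 inferInstance

end Groth.Agent.S1460
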