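import Groth.Statements.S14603
import Groth.Agent.Lib.Semiab15.Apps
-- import your own Groth.Agent.* helpers here

set_option autoImplicit false
universe u
open CategoryTheory MonoidalCategory CartesianMonoidalCategory MonObj GrpObj AlgebraicGeometry CategoryTheory.Limits
open AlgGrp

namespace Groth.Agent.S14603

/-- Let k be a field of characteristic p > 0 and G a commutative k-group scheme of finite type. Then
G_sab is trivial — every closed subgroup scheme of G which is an extension of a proper smooth
connected k-group scheme by a torus is the trivial group — exactly when, for some positive integer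
n, multiplication by n on G (the map n_G) is zero (G has finite exponent). (A third equivalent
condition, that G is affine with finite largest subgroup of multiplicative type, is not stated
here.) -/
theorem result (k : Type u) [Field k] (p : ℕ) [Fact p.Prime] [CharP k p]
    (G : Over (Spec (CommRingCat.of k))) [GrpObj G] [IsCommMonObj G] [LocallyOfFiniteType G.hom] [QuasiCompact G.hom] :
    (∀ (S : Over (Spec (CommRingCat.of k))) [GrpObj S] (s : S ⟶ G) [IsMonHom s] [IsClosedImmersion s.left],
        (∃ (T : Over (Spec (CommRingCat.of k))) (_ : GrpObj T) (i : T ⟶ S) (A : Over (Spec (CommRingCat.of k))) (_ : GrpObj A) (q : S ⟶ A),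
        IsMonHom i ∧ IsClosedImmersion i.left ∧ Red.IsTorus T ∧ IsMonHom q ∧ Surjective q.left ∧ Flat q.left ∧
        AlgGrp.IsKernel i q ∧ IsProper A.hom ∧ Smooth A.hom ∧ ConnectedSpace ↥A.left) → IsIso η[S]) ↔
    ∃ n : ℕ, 0 < n ∧ (𝟙 G) ^ n = 1 := by
  exact Semiab15.hasExp_iff_noSA p G

end Groth.Agent.S14603
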