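import Groth.Statements.S14604
import Groth.Agent.Lib.Semiab15.FinField
-- import your own Groth.Agent.* helpers here

set_option autoImplicit false
universe u
open CategoryTheory MonoidalCategory CartesianMonoidalCategory MonObj GrpObj AlgebraicGeometry CategoryTheory.Limits
open AlgGrp

namespace Groth.Agent.S14604

/-- Over a finite field k, every anti-affine k-group scheme of finite type G (O(G) = k) is an abelian
variety; since anti-affine groups are smooth and connected, this is the statement that G is proper
over k. -/
theorem result (k : Type u) [Field k] [Finite k]
    (G : Over (Spec (CommRingCat.of k))) [GrpObj G] [LocallyOfFiniteType G.hom] [QuasiCompact G.hom]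
    (hG : Function.Bijective ((Scheme.ΓSpecIso (CommRingCat.of k)).inv ≫ G.hom.appTop).hom) : IsProper G.hom := by
  exact Groth.Agent.Semiab15.isProper_of_finite hG

end Groth.Agent.S14604
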