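import Groth.Statements.S14605
import Groth.Agent.Lib.Semiab15.Apps
-- import your own Groth.Agent.* helpers here

set_option autoImplicit false
universe u
open CategoryTheory MonoidalCategory CartesianMonoidalCategory MonObj GrpObj AlgebraicGeometry CategoryTheory.Limits
open AlgGrp

namespace Groth.Agent.S14605

/-- Let k be a field of characteristic p > 0, G a commutative k-group scheme of finite type, h : H → G a
closed subgroup scheme and q : G → Q a flat surjective homomorphism of k-group schemes of finite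
type with kernel H (Q = G/H). Let s : S → G and s' : S' → Q be the largest semi-abelian subvarieties
of G and of Q (closed subgroup schemes which are extensions of a proper smooth connected k-group
scheme by a torus, through which every other such closed subgroup scheme factors). Then q maps S
onto S': the image of S → G → Q equals the underlying set of S'. Since S' is smooth, this is the
statement that G_sab/(G_sab ∩ H) → (G/H)_sab is an isomorphism. -/
theorem result (k : Type u) [Field k] (p : ℕ) [Fact p.Prime] [CharP k p]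
    (G : Over (Spec (CommRingCat.of k))) [GrpObj G] [IsCommMonObj G] [LocallyOfFiniteType G.hom] [QuasiCompact G.hom]
    (H : Over (Spec (CommRingCat.of k))) [GrpObj H] (h : H ⟶ G) [IsMonHom h] [IsClosedImmersion h.left]
    (Q : Over (Spec (CommRingCat.of k))) [GrpObj Q] [LocallyOfFiniteType Q.hom] [QuasiCompact Q.hom]
    (q : G ⟶ Q) [IsMonHom q] [Surjective q.left] [Flat q.left] (hq : AlgGrp.IsKernel h q)
    (S : Over (Spec (CommRingCat.of k))) [GrpObj S] (s : S ⟶ G) [IsMonHom s] [IsClosedImmersion s.left] (hS : (∃ (T : Over (Spec (CommRingCat.of k))) (_ : GrpObj T) (i : T ⟶ S) (A : Over (Spec (CommRingCat.of k))) (_ : GrpObj A) (q : S ⟶ A),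
        IsMonHom i ∧ IsClosedImmersion i.left ∧ Red.IsTorus T ∧ IsMonHom q ∧ Surjective q.left ∧ Flat q.left ∧
        AlgGrp.IsKernel i q ∧ IsProper A.hom ∧ Smooth A.hom ∧ ConnectedSpace ↥A.left))
    (hSmax : ∀ (S₁ : Over (Spec (CommRingCat.of k))) [GrpObj S₁] (s₁ : S₁ ⟶ G) [IsMonHom s₁] [IsClosedImmersion s₁.left],
      (∃ (T : Over (Spec (CommRingCat.of k))) (_ : GrpObj T) (i : T ⟶ S₁) (A : Over (Spec (CommRingCat.of k))) (_ : GrpObj A) (q : S₁ ⟶ A),
        IsMonHom i ∧ IsClosedImmersion i.left ∧ Red.IsTorus T ∧ IsMonHom q ∧ Surjective q.left ∧ Flat q.left ∧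
        AlgGrp.IsKernel i q ∧ IsProper A.hom ∧ Smooth A.hom ∧ ConnectedSpace ↥A.left) → ∃ g : S₁ ⟶ S, g ≫ s = s₁)
    (S' : Over (Spec (CommRingCat.of k))) [GrpObj S'] (s' : S' ⟶ Q) [IsMonHom s'] [IsClosedImmersion s'.left] (hS' : (∃ (T : Over (Spec (CommRingCat.of k))) (_ : GrpObj T) (i : T ⟶ S') (A : Over (Spec (CommRingCat.of k))) (_ : GrpObj A) (q : S' ⟶ A),
        IsMonHom i ∧ IsClosedImmersion i.left ∧ Red.IsTorus T ∧ IsMonHom q ∧ Surjective q.left ∧ Flat q.left ∧
        AlgGrp.IsKernel i q ∧ IsProper A.hom ∧ Smooth A.hom ∧ ConnectedSpace ↥A.left))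
    (hS'max : ∀ (S₁ : Over (Spec (CommRingCat.of k))) [GrpObj S₁] (s₁ : S₁ ⟶ Q) [IsMonHom s₁] [IsClosedImmersion s₁.left],
      (∃ (T : Over (Spec (CommRingCat.of k))) (_ : GrpObj T) (i : T ⟶ S₁) (A : Over (Spec (CommRingCat.of k))) (_ : GrpObj A) (q : S₁ ⟶ A),
        IsMonHom i ∧ IsClosedImmersion i.left ∧ Red.IsTorus T ∧ IsMonHom q ∧ Surjective q.left ∧ Flat q.left ∧
        AlgGrp.IsKernel i q ∧ IsProper A.hom ∧ Smooth A.hom ∧ ConnectedSpace ↥A.left) → ∃ g : S₁ ⟶ S', g ≫ s' = s₁) :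
    Set.range ⇑(s ≫ q).left.base = Set.range ⇑s'.left.base := by
  haveI : LocallyOfFiniteType q.left := Groth.Agent.AlgGrpBasic19.lft_left q
  haveI : IsLocallyNoetherian Q.left := LocallyOfFiniteType.isLocallyNoetherian Q.hom
  haveI : IsCommMonObj Q := AbelGrp20.isCommMonObj_of_epi q
    ⟨‹_›, ‹_›, LocallyOfFinitePresentation.iff_locallyOfFiniteType.2 inferInstance⟩
  haveI : LocallyOfFiniteType S.hom := by rw [← Over.w s]; infer_instance
  haveI : QuasiCompact S.hom := by rw [← Over.w s]; infer_instance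
  haveI : LocallyOfFiniteType S'.hom := by rw [← Over.w s']; infer_instance
  haveI : QuasiCompact S'.hom := by rw [← Over.w s']; infer_instance
  obtain ⟨n, I, _, m, π, hn, hm, hmc, hπ, hπm, hI⟩ := Semiab15.exists_pow_image p G
  haveI := hm; haveI := hmc
  obtain ⟨g, hg⟩ := hSmax I m hI
  obtain ⟨J, _, mJ, pJ, hmJ, hmJc, -, -, hpJ, hJ⟩ := Semiab15.isSA_image hS (s ≫ q)
  haveI := hmJ; haveI := hmJc
  obtain ⟨gJ, hgJ⟩ := hS'max J mJ hJ
  refine Set.Subset.antisymm ?_ ?_
  · rintro _ ⟨x, rfl⟩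
    refine ⟨(pJ ≫ gJ).left x, ?_⟩
    show s'.left ((pJ ≫ gJ).left x) = (s ≫ q).left x
    rw [← AbRigid.left_comp_apply, Category.assoc, hgJ, hpJ]
  · rintro _ ⟨x, rfl⟩
    haveI : Mono s' := Over.mono_of_mono_left s'
    haveI := AbelGrp20.isCommMonObj_of_mono s'
    obtain ⟨-, hns⟩ := Semiab15.flat_surjective_pow hS' hn
    haveI := hns
    obtain ⟨x', hx'⟩ := (𝟙 S' ^ n).left.surjective x
    obtain ⟨y, hy⟩ := q.left.surjective (s'.left x')
    refine ⟨(π ≫ g).left y, ?_⟩
    show (s ≫ q).left ((π ≫ g).left y) = s'.left x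
    rw [← hx', ← AbRigid.left_comp_apply, ← AbRigid.left_comp_apply, Semiab15.pow_map, Category.assoc,
      ← Category.assoc g, hg, ← Category.assoc, hπm, Semiab15.pow_map, AbRigid.left_comp_apply,
      AbRigid.left_comp_apply, hy]

end Groth.Agent.S14605
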