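import Groth.Statements.S14606
import Mathlib.RingTheory.Nilpotent.GeometricallyReduced
import Mathlib.RingTheory.FiniteType
import Mathlib.RingTheory.FiniteStability
import Mathlib.RingTheory.Noetherian.Nilpotent
import Mathlib.RingTheory.Flat.Basic
import Mathlib.Algebra.CharP.Frobenius
import Mathlib.FieldTheory.IsAlgClosed.AlgebraicClosure
import Mathlib.RingTheory.Adjoin.Basic
-- import your own Groth.Agent.* helpers here

set_option autoImplicit false
universe u
open FrobAlg

namespace Groth.Agent.S14606

/-- Let k be a field of characteristic p > 0 and R a finitely generated commutative k-algebra. The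
scheme-theoretic image of the n-th relative Frobenius morphism of Spec R is the spectrum of the
k-subalgebra k[R^(p^n)] generated by all p^n-th powers; for n large enough this image is
geometrically reduced: there is an n such that k[R^(p^n)] is a geometrically reduced k-algebra.
(Stated in affine, ring-theoretic form.) -/
theorem result (k : Type u) [Field k] (p : ℕ) [Fact p.Prime] [CharP k p]
    (R : Type u) [CommRing R] [Algebra k R] [Algebra.FiniteType k R] :
    ∃ n : ℕ, Algebra.IsGeometricallyReduced k ↥(Algebra.adjoin k (Set.range (fun x : R => x ^ (p ^ n)))) := by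
  classical
  let K := AlgebraicClosure k
  let RK := TensorProduct k K R
  haveI : IsNoetherianRing RK := Algebra.FiniteType.isNoetherianRing K RK
  obtain ⟨m, hm⟩ := IsNoetherianRing.isNilpotent_nilradical RK
  refine ⟨m, ?_⟩
  set S := Algebra.adjoin k (Set.range (fun x : R => x ^ (p ^ m)))
  refine (Algebra.isGeometricallyReduced_field_iff k S).mpr ?_
  rcases subsingleton_or_nontrivial RK with hRK | hRK
  · have : Function.Injective (Algebra.TensorProduct.map (AlgHom.id k K) S.val) :=
      Module.Flat.lTensor_preserves_injective_linearMap S.val.toLinearMap Subtype.val_injective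
    exact isReduced_of_injective _ this
  haveI : CharP RK p := charP_of_injective_algebraMap (algebraMap k RK).injective p
  haveI : ExpChar RK p := ExpChar.prime Fact.out
  haveI : CharP K p := charP_of_injective_algebraMap (algebraMap k K).injective p
  haveI : ExpChar K p := ExpChar.prime Fact.out
  let f := Algebra.TensorProduct.map (AlgHom.id k K) S.val
  have hf : Function.Injective f :=
    Module.Flat.lTensor_preserves_injective_linearMap S.val.toLinearMap Subtype.val_injective
  let P : Subring RK := (iterateFrobenius RK p m).range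
  have hP : ∀ z, f z ∈ P := by
    intro z
    induction z using TensorProduct.induction_on with
    | zero => rw [map_zero]; exact zero_mem P
    | add z z' hz hz' => rw [map_add]; exact add_mem hz hz'
    | tmul c s =>
      have hc : c ⊗ₜ[k] (1 : R) ∈ P := by
        obtain ⟨d, hd⟩ := IsAlgClosed.exists_pow_nat_eq c (pow_pos (Fact.out : p.Prime).pos m)
        refine ⟨d ⊗ₜ 1, ?_⟩
        rw [iterateFrobenius_def, Algebra.TensorProduct.tmul_pow, hd, one_pow]
      have hs : ((1 : K) ⊗ₜ[k] (s : R)) ∈ P := by
        obtain ⟨s, hs⟩ := s
        show (1 : K) ⊗ₜ[k] s ∈ P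
        induction hs using Algebra.adjoin_induction with
        | mem x hx =>
          obtain ⟨r, rfl⟩ := hx
          refine ⟨1 ⊗ₜ r, ?_⟩
          rw [iterateFrobenius_def, Algebra.TensorProduct.tmul_pow, one_pow]
        | algebraMap a =>
          obtain ⟨d, hd⟩ := IsAlgClosed.exists_pow_nat_eq (algebraMap k K a) (pow_pos (Fact.out : p.Prime).pos m)
          refine ⟨d ⊗ₜ 1, ?_⟩
          rw [iterateFrobenius_def, Algebra.TensorProduct.tmul_pow, hd, one_pow,
            Algebra.TensorProduct.tmul_one_eq_one_tmul]
        | add x y _ _ hx hy => rw [TensorProduct.tmul_add]; exact add_mem hx hy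
        | mul x y _ _ hx hy =>
          rw [show (1 : K) ⊗ₜ[k] (x * y) = (1 ⊗ₜ x) * (1 ⊗ₜ y) by
            rw [Algebra.TensorProduct.tmul_mul_tmul, one_mul]]
          exact mul_mem hx hy
      have : f (c ⊗ₜ s) = (c ⊗ₜ[k] (1 : R)) * ((1 : K) ⊗ₜ[k] (s : R)) := by
        rw [Algebra.TensorProduct.tmul_mul_tmul, mul_one, one_mul]
        rfl
      rw [this]
      exact mul_mem hc hs
  refine ⟨fun z hz => hf ?_⟩
  rw [map_zero]
  obtain ⟨w, hw⟩ := hP z
  rw [iterateFrobenius_def] at hw
  have hwn : w ∈ nilradical RK := by
    obtain ⟨e, he⟩ := hz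
    exact mem_nilradical.mpr ⟨p ^ m * e, by rw [pow_mul, hw, ← map_pow, he, map_zero]⟩
  have h0 : w ^ m = 0 := by
    have := Ideal.pow_mem_pow hwn m
    rwa [hm] at this
  rw [← hw]
  exact pow_eq_zero_of_le (Nat.lt_pow_self (Fact.out : p.Prime).one_lt).le h0
end Groth.Agent.S14606
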