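import Groth.Statements.S14607
import Groth.Prelude.Def_PicLoc
import Groth.Agent.Lib.PicAffSp12.Main
import Groth.Agent.Lib.DenseProj.Seminormal
import Groth.Agent.Lib.TensorMod.PullTensor
-- import your own Groth.Agent.* helpers here

set_option backward.isDefEq.respectTransparency false
set_option linter.style.haveILetI false

set_option autoImplicit false
universe u
open CategoryTheory AlgebraicGeometry CategoryTheory.Limits
open PicF

namespace Groth.Agent.S14607

open CategoryTheory CategoryTheory.Limits AlgebraicGeometry TensorProduct Groth.Agent in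
theorem exists_root {A Ap : Type u} [CommRing A] [CommRing Ap] [Algebra A Ap] (M : Submonoid A)
    [IsLocalization M Ap] (hA : HTop.IsSeminormalRing A) {x y : Ap} (h : x ^ 3 = y ^ 2) :
    ∃ c, x = c ^ 2 ∧ y = c ^ 3 := by
  obtain ⟨⟨a, s⟩, ha⟩ := IsLocalization.surj M x
  obtain ⟨⟨b, t⟩, hb⟩ := IsLocalization.surj M y
  simp only at ha hb
  -- common denominators: `x (st)^2 = A₀` and `y (st)^3 = B₀`
  let A₀ : A := a * s * t ^ 2
  let B₀ : A := b * t ^ 2 * s ^ 3
  have hA₀ : x * algebraMap A Ap ((s : A) * t) ^ 2 = algebraMap A Ap A₀ := by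
    simp only [A₀, map_mul, map_pow]; rw [← ha]; ring
  have hB₀ : y * algebraMap A Ap ((s : A) * t) ^ 3 = algebraMap A Ap B₀ := by
    simp only [B₀, map_mul, map_pow]; rw [← hb]; ring
  have heq : algebraMap A Ap (A₀ ^ 3) = algebraMap A Ap (B₀ ^ 2) := by
    rw [map_pow, map_pow, ← hA₀, ← hB₀, mul_pow, mul_pow, h]; ring
  obtain ⟨e, he⟩ := IsLocalization.exists_of_eq (M := M) heq
  obtain ⟨c, ⟨hc2, hc3⟩, -⟩ := hA ((e : A) ^ 2 * A₀) ((e : A) ^ 3 * B₀) (by
    linear_combination ((e : A) ^ 5) * he)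
  have hu : IsUnit (algebraMap A Ap ((e : A) * (s * t))) :=
    IsLocalization.map_units Ap (e * (s * t) : M)
  obtain ⟨v, hv⟩ := hu.exists_left_inv
  refine ⟨v * algebraMap A Ap c, ?_, ?_⟩
  · have : x * algebraMap A Ap ((e : A) * (s * t)) ^ 2 = algebraMap A Ap c ^ 2 := by
      rw [← map_pow _ c, ← hc2, map_mul, map_mul _ ((e : A) ^ 2), map_pow, ← hA₀]; ring
    rw [mul_pow, ← this]
    linear_combination (-x * (v * algebraMap A Ap ((e : A) * (s * t)) + 1)) * hv
  · have : y * algebraMap A Ap ((e : A) * (s * t)) ^ 3 = algebraMap A Ap c ^ 3 := by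
      rw [← map_pow _ c, ← hc3, map_mul, map_mul _ ((e : A) ^ 3), map_pow, ← hB₀]; ring
    rw [mul_pow, ← this]
    linear_combination (-y * ((v * algebraMap A Ap ((e : A) * (s * t))) ^ 2
      + v * algebraMap A Ap ((e : A) * (s * t)) + 1)) * hv

open CategoryTheory CategoryTheory.Limits AlgebraicGeometry TensorProduct Groth.Agent in
theorem trivial_local {R : CommRingCat.{u}} [IsLocalRing R] [_root_.IsReduced R]
    (hsn : ∀ x y : R, x ^ 3 = y ^ 2 → ∃ a, x = a ^ 2 ∧ y = a ^ 3)
    {N : (𝔸(PUnit.{u + 1}; Spec R)).Modules} (hN : PicF.IsInvertible N) :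
    Nonempty (N ≅ Coh.structureModule (𝔸(PUnit.{u + 1}; Spec R))) := by
  let ψ : 𝔸(PUnit.{u + 1}; Spec R) ≅ Spec (CommRingCat.of (Polynomial R)) :=
    AffineSpace.SpecIso PUnit.{u + 1} R ≪≫ Scheme.Spec.mapIso
      (MvPolynomial.uniqueAlgEquiv R PUnit.{u + 1}).toRingEquiv.symm.toCommRingCatIso.op
  obtain ⟨P, hP, ⟨a⟩⟩ := PicAff14.exists_invertible_tilde (PicLoc.isInvertible_pullback ψ.inv hN)
  haveI := hP
  haveI : Module.Free (Polynomial R) P := Groth.Agent.Traverso.free_of_invertible hsn P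
  obtain ⟨e⟩ := Module.Invertible.free_iff_linearEquiv.1 ‹Module.Free (Polynomial R) P›
  exact ⟨((Scheme.Modules.pullbackId _).app N).symm ≪≫
    ((ModLimH13.cmp ψ.hom ψ.inv ψ.hom_inv_id).app N).symm ≪≫
    (Scheme.Modules.pullback ψ.hom).mapIso (a ≪≫ PicAff14.tildeIsoOfEquiv (M := P)
      (N := ModuleCat.of (Polynomial R) (Polynomial R)) e ≪≫ tildeSelf) ≪≫
    PicLoc.pullbackStructureIso ψ.hom⟩

/-- Let k be a field and X an integral, separated k-scheme of finite type which is seminormal, in the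
sense that every point has an affine open neighbourhood whose ring of functions is seminormal (x³ =
y² implies x = a² and y = a³ for exactly one a). Then the pull-back along the first projection X ×
A¹ → X induces a bijection from the isomorphism classes of invertible O_X-modules onto those of
invertible modules on X × A¹, i.e. Pic(X) → Pic(X × A¹) is an isomorphism. (This is the assertion
established in the course of the published proof, which deduces from it that the Picard variety of a
geometrically semi-normal proper variety is semi-abelian; semi-normality is taken in the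
ring-theoretic form used by the cited input on Picard groups of polynomial rings.) -/
theorem result (k : Type u) [Field k]
    (X : Scheme.{u}) (f : X ⟶ Spec (CommRingCat.of k)) [IsIntegral X] [IsSeparated f] [LocallyOfFiniteType f] [QuasiCompact f]
    (hX : HTop.IsSeminormal X) :
    Set.BijOn (PicF.pullCl (pullback.fst f (𝔸(PUnit.{u + 1}; Spec (CommRingCat.of k)) ↘ Spec (CommRingCat.of k))))
      {c : PicF.Cl X | PicF.IsInvertibleCl c}
      {c : PicF.Cl (pullback f (𝔸(PUnit.{u + 1}; Spec (CommRingCat.of k)) ↘ Spec (CommRingCat.of k))) | PicF.IsInvertibleCl c} := by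
  open Groth.Agent in
  let pk := (𝔸(PUnit.{u + 1}; Spec (CommRingCat.of k)) ↘ Spec (CommRingCat.of k))
  let φ := (AffineSpace.isPullback_map (n := PUnit.{u + 1}) f).flip.isoPullback
  have hφ : φ.hom ≫ pullback.fst f pk = PicAffSp12.pr PUnit.{u + 1} X :=
    (AffineSpace.isPullback_map (n := PUnit.{u + 1}) f).flip.isoPullback_hom_fst
  let z := PicAffSp12.zeroSec PUnit.{u + 1} X
  let s := z ≫ φ.hom
  have hs : s ≫ pullback.fst f pk = 𝟙 X := by
    simp only [s, Category.assoc, hφ]; exact PicAffSp12.zeroSec_over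
  refine ⟨fun c hc => PicLoc.isInvertibleCl_pullCl _ hc, fun c _ d _ h => ?_, fun c hc => ?_⟩
  · have := congrArg (PicF.pullCl s) h
    rwa [← PicLoc.pullCl_comp, ← PicLoc.pullCl_comp, hs, PicLoc.pullCl_id, PicLoc.pullCl_id] at this
  obtain ⟨L, rfl, hL⟩ := hc
  let L₀ := (Scheme.Modules.pullback s).obj L
  have hL₀ : PicF.IsInvertible L₀ := PicLoc.isInvertible_pullback s hL
  refine ⟨PicF.cl L₀, ⟨L₀, rfl, hL₀⟩, ?_⟩
  let L' := (Scheme.Modules.pullback φ.hom).obj L
  have hL' : PicF.IsInvertible L' := PicLoc.isInvertible_pullback _ hL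
  let M := (Scheme.Modules.pullback (PicAffSp12.pr PUnit.{u + 1} X)).obj L₀
  obtain ⟨D, hD, ⟨eD⟩⟩ := M2.exists_inverse (PicLoc.isInvertible_pullback
    (PicAffSp12.pr PUnit.{u + 1} X) hL₀)
  let N := CohB1.tensorMod L' D
  have hN : PicF.IsInvertible N := M2.isInvertible_tensor hL' hD
  have h0 : Nonempty ((Scheme.Modules.pullback z).obj N ≅ Coh.structureModule X) := by
    have e1 : (Scheme.Modules.pullback z).obj L' ≅ (Scheme.Modules.pullback z).obj M :=
      (ModLimH13.cmp z φ.hom (h := s) rfl).app L ≪≫ ((Scheme.Modules.pullbackId X).app L₀).symm ≪≫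
        ((ModLimH13.cmp z (PicAffSp12.pr PUnit.{u + 1} X) PicAffSp12.zeroSec_over).app L₀).symm
    exact ⟨M2.pullTensorIso z L' D ≪≫ M2.tensorIso e1 (Iso.refl _) ≪≫ (M2.pullTensorIso z M D).symm ≪≫
      (Scheme.Modules.pullback z).mapIso eD ≪≫ PicLoc.pullbackStructureIso z⟩
  haveI : ∀ x : X, _root_.IsReduced (X.presheaf.stalk x) := fun x => inferInstance
  obtain ⟨eN⟩ := PicAffSp12.trivial_of_zero h0 fun x => PicAffSp12.exists_gen_near hN x (by
    refine trivial_local (fun a b hab => ?_) (PicLoc.isInvertible_pullback _ hN)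
    obtain ⟨U, hxU, hU⟩ := hX x
    letI := TopCat.Presheaf.algebra_section_stalk X.presheaf ⟨x, hxU⟩
    haveI : IsLocalization.AtPrime (X.presheaf.stalk x) (U.2.primeIdealOf ⟨x, hxU⟩).asIdeal :=
      U.2.isLocalization_stalk ⟨x, hxU⟩
    exact exists_root (U.2.primeIdealOf ⟨x, hxU⟩).asIdeal.primeCompl hU hab)
  have e : L' ≅ M := M2.inverseUnique (M2.tensorComm D L' ≪≫ eN) (M2.tensorComm D M ≪≫ eD)
  rw [PicLoc.pullCl_cl]
  exact Quot.sound ⟨((ModLimH13.cmp φ.inv (PicAffSp12.pr PUnit.{u + 1} X) (h := pullback.fst f pk)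
      (by rw [← hφ, Iso.inv_hom_id_assoc])).app L₀).symm ≪≫
    (Scheme.Modules.pullback φ.inv).mapIso e.symm ≪≫
    (ModLimH13.cmp φ.inv φ.hom φ.inv_hom_id).app L ≪≫ (Scheme.Modules.pullbackId _).app L⟩

end Groth.Agent.S14607
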