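import Groth.Statements.S14608
import Mathlib

set_option autoImplicit false
universe u v
open CAlg

namespace Groth.Agent.S14608
open TensorProduct

open TensorProduct in
/-- Let A be a Noetherian ring, M a finitely generated A-module, F a finitely generated free A-module, δ
: M → F an A-linear map and p a prime of A with residue field κ(p). The following are equivalent:
(a) the natural map (ker δ) ⊗ κ(p) → ker(δ ⊗ κ(p)) is surjective (its image is the whole kernel);
(b) that map is bijective; (c) (F / im δ) localized at p is a free module over the local ring A_p.
Moreover, if these hold then (im δ) localized at p is free over A_p. (The published statement takes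
M to be the cokernel of a map of finitely generated free modules; over a Noetherian ring this is
every finitely generated M, which is what this row takes.) -/
theorem result (A : Type u) [CommRing A] [IsNoetherianRing A]
    (M : Type v) (F : Type v) [AddCommGroup M] [Module A M] [Module.Finite A M]
    [AddCommGroup F] [Module A F] [Module.Finite A F] [Module.Free A F]
    (δ : M →ₗ[A] F) (p : Ideal A) [p.IsPrime] :
    [ Function.Exact (LinearMap.lTensor p.ResidueField (LinearMap.ker δ).subtype)
        (LinearMap.lTensor p.ResidueField δ),
      Function.Exact (LinearMap.lTensor p.ResidueField (LinearMap.ker δ).subtype)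
        (LinearMap.lTensor p.ResidueField δ) ∧
        Function.Injective (LinearMap.lTensor p.ResidueField (LinearMap.ker δ).subtype),
      Module.Free (Localization.AtPrime p)
        (LocalizedModule p.primeCompl (F ⧸ LinearMap.range δ)) ].TFAE ∧
    (Function.Exact (LinearMap.lTensor p.ResidueField (LinearMap.ker δ).subtype)
        (LinearMap.lTensor p.ResidueField δ) →
      Module.Free (Localization.AtPrime p)
        (LocalizedModule p.primeCompl (LinearMap.range δ))) := by
  let R := Localization.AtPrime p
  let κ := p.ResidueField
  let K := LinearMap.ker δ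
  let N := LinearMap.range δ
  let π : M →ₗ[A] N := δ.rangeRestrict
  let ι : N →ₗ[A] F := N.subtype
  let i : K →ₗ[A] M := K.subtype
  have hπ : Function.Surjective π := δ.surjective_rangeRestrict
  have hexK : Function.Exact i π := by
    rw [LinearMap.exact_iff, LinearMap.ker_rangeRestrict, Submodule.range_subtype]
  have hδ : ι ∘ₗ π = δ := LinearMap.ext fun _ => rfl
  haveI : Module.Flat A R := IsLocalization.flat R p.primeCompl
  -- naturality of the comparison
  have nat : ∀ {X Y : Type v} [AddCommGroup X] [Module A X] [AddCommGroup Y] [Module A Y] (f : X →ₗ[A] Y),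
      Function.Injective (f.lTensor κ) ↔ Function.Injective ((f.baseChange R).lTensor κ) := by
    intro X Y _ _ _ _ f
    let eX := AlgebraTensorModule.cancelBaseChange A R R κ X
    let eY := AlgebraTensorModule.cancelBaseChange A R R κ Y
    have : ∀ z, eY ((f.baseChange R).lTensor κ z) = f.lTensor κ (eX z) := by
      intro z
      induction z using TensorProduct.induction_on with
      | zero => simp
      | tmul a w =>
        induction w using TensorProduct.induction_on with
        | zero => simp
        | tmul r x => simp [eX, eY]
        | add w w' hw hw' => simp only [tmul_add, map_add, hw, hw']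
      | add z z' hz hz' => simp only [map_add, hz, hz']
    constructor
    · intro h a b hab
      apply eX.injective
      apply h
      rw [← this, ← this, hab]
    · intro h a b hab
      obtain ⟨a, rfl⟩ := eX.surjective a
      obtain ⟨b, rfl⟩ := eX.surjective b
      rw [← this, ← this] at hab
      rw [h (eY.injective hab)]
  -- the two exact sequences over `R`
  have hexR : Function.Exact (ι.baseChange R) (N.mkQ.baseChange R) := by
    rw [LinearMap.baseChange_eq_ltensor, LinearMap.baseChange_eq_ltensor]
    exact lTensor_exact R (LinearMap.exact_subtype_mkQ N) N.mkQ_surjective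
  have hinjR : Function.Injective (ι.baseChange R) := by
    rw [LinearMap.baseChange_eq_ltensor]
    exact Module.Flat.lTensor_preserves_injective_linearMap _ N.injective_subtype
  have hsurjR : Function.Surjective (N.mkQ.baseChange R) := by
    rw [LinearMap.baseChange_eq_ltensor]
    exact LinearMap.lTensor_surjective R N.mkQ_surjective
  have hsplit := (hexR.split_tfae hinjR hsurjR).out 0 1
  have hexact : Function.Exact (i.lTensor κ) (δ.lTensor κ) ↔ Function.Injective (ι.lTensor κ) := by
    have h1 : Function.Exact (i.lTensor κ) (π.lTensor κ) := lTensor_exact κ hexK hπ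
    have h2 := LinearMap.lTensor_surjective κ hπ
    rw [← hδ, LinearMap.lTensor_comp]
    constructor
    · intro h
      rw [injective_iff_map_eq_zero]
      intro z hz
      obtain ⟨y, rfl⟩ := h2 z
      exact (h1 y).2 ((h y).1 hz)
    · intro h y
      rw [LinearMap.comp_apply, map_eq_zero_iff _ h]
      exact h1 y
  have hleft : Function.Injective (ι.lTensor κ) ↔ ∃ l, l ∘ₗ ι.baseChange R = LinearMap.id :=
    (nat ι).trans (IsLocalRing.split_injective_iff_lTensor_residueField_injective (ι.baseChange R)).symm
  haveI : Module.Finite A N := Module.Finite.of_surjective π hπ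
  have hfree : Module.Free R (LocalizedModule p.primeCompl (F ⧸ N)) ↔ Module.Free R (R ⊗[A] (F ⧸ N)) :=
    ⟨fun h => Module.Free.of_equiv (LocalizedModule.equivTensorProduct p.primeCompl (F ⧸ N)),
      fun h => Module.Free.of_equiv (LocalizedModule.equivTensorProduct p.primeCompl (F ⧸ N)).symm⟩
  have h3 : (∃ l, l ∘ₗ ι.baseChange R = LinearMap.id) ↔ Module.Free R (R ⊗[A] (F ⧸ N)) := by
    rw [← hsplit]
    constructor
    · rintro ⟨s, hs⟩
      haveI : Module.Projective R (R ⊗[A] (F ⧸ N)) := Module.Projective.of_split s _ hs
      exact Module.free_of_flat_of_isLocalRing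
    · intro h
      exact Module.projective_lifting_property _ LinearMap.id hsurjR
  have hNfree : (∃ l, l ∘ₗ ι.baseChange R = LinearMap.id) → Module.Free R (R ⊗[A] N) := by
    rintro ⟨l, hl⟩
    haveI : Module.Projective R (R ⊗[A] N) := Module.Projective.of_split _ l hl
    exact Module.free_of_flat_of_isLocalRing
  have hinjK : (∃ l, l ∘ₗ ι.baseChange R = LinearMap.id) → Function.Injective (i.lTensor κ) := by
    intro h
    haveI := hNfree h
    haveI : Module.Finite A K := Module.Finite.iff_fg.2 (IsNoetherian.noetherian _)
    have e1 : Function.Exact (i.baseChange R) (π.baseChange R) := by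
      rw [LinearMap.baseChange_eq_ltensor, LinearMap.baseChange_eq_ltensor]
      exact lTensor_exact R hexK hπ
    have e2 : Function.Injective (i.baseChange R) := by
      rw [LinearMap.baseChange_eq_ltensor]
      exact Module.Flat.lTensor_preserves_injective_linearMap _ K.injective_subtype
    have e3 : Function.Surjective (π.baseChange R) := by
      rw [LinearMap.baseChange_eq_ltensor]
      exact LinearMap.lTensor_surjective R hπ
    obtain ⟨l', hl'⟩ := ((e1.split_tfae e2 e3).out 0 1).1 (Module.projective_lifting_property _ LinearMap.id e3)
    refine (nat i).2 (Function.HasLeftInverse.injective ⟨l'.lTensor κ, fun z => ?_⟩)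
    rw [← LinearMap.lTensor_comp_apply, hl', LinearMap.lTensor_id, LinearMap.id_apply]
  refine ⟨?_, fun h => ?_⟩
  · tfae_have 2 → 1 := And.left
    tfae_have 1 → 2 := fun h => ⟨h, hinjK (hleft.1 (hexact.1 h))⟩
    tfae_have 1 → 3 := fun h => hfree.2 (h3.1 (hleft.1 (hexact.1 h)))
    tfae_have 3 → 1 := fun h => hexact.2 (hleft.2 (h3.2 (hfree.1 h)))
    tfae_finish
  · haveI := hNfree (hleft.1 (hexact.1 h))
    exact Module.Free.of_equiv (LocalizedModule.equivTensorProduct p.primeCompl N).symm

end Groth.Agent.S14608
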