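import Mathlib.AlgebraicGeometry.Morphisms.FinitePresentation
import Mathlib.AlgebraicGeometry.Morphisms.FiniteType
import Mathlib.AlgebraicGeometry.Geometrically.Reduced
import Mathlib.AlgebraicGeometry.Geometrically.Irreducible
import Mathlib.AlgebraicGeometry.Geometrically.Connected
import Mathlib.AlgebraicGeometry.Fiber
import Mathlib.RingTheory.FiniteType
import Mathlib.Topology.KrullDimension
import Groth.Agent.Lib.Stein6.Approx

set_option autoImplicit false
universe u
namespace FlatMor
end FlatMor
open FlatMor

namespace Groth.Agent.S1461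

open AlgebraicGeometry CategoryTheory Limits in
/-- Let f : X → S be a morphism of finite presentation between affine schemes whose fibres are
geometrically reduced. Then f is the base change of a morphism of finite type f₀ : X₀ → S₀ between
affine schemes with S₀ of finite type over ℤ, where f₀ can be chosen with the same property. -/
theorem result {X S : Scheme.{u}} (f : X ⟶ S) [IsAffine X] [IsAffine S] [LocallyOfFinitePresentation f] [GeometricallyReduced f] :
    ∃ (X₀ S₀ : Scheme.{u}) (f₀ : X₀ ⟶ S₀) (g : S ⟶ S₀) (g' : X ⟶ X₀), IsAffine X₀ ∧ IsAffine S₀ ∧ IsPullback g' f f₀ g ∧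
      Algebra.FiniteType ℤ Γ(S₀, ⊤) ∧ LocallyOfFiniteType f₀ ∧ GeometricallyReduced f₀ := by
  obtain ⟨X₀, S₀, f₀, g, g', h1, h2, h3, h4, h5, h6⟩ := Stein6.exists_approx_fibres
    (fun {X Y} f y => GeometricallyReduced (f.fiberToSpecResidueField y))
    (fun hc y' => ZConn5.geometricallyReduced_fibre_iff hc y')
    (fun f _ _ _ => Stein6.isLocallyConstructible_geomReducedFibre f) f (fun y => inferInstance)
  exact ⟨X₀, S₀, f₀, g, g', h1, h2, h3, h4, h5, Stein6.geometricallyReduced_of_fibres f₀ h6⟩

end Groth.Agent.S1461
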