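import Groth.Statements.S14610
import Groth.Agent.Lib.FibRankH1.Basic
import Mathlib.RingTheory.Flat.Basic

set_option autoImplicit false
universe u v
open CAlg

namespace Groth.Agent.S14610


open Groth.Agent



open TensorProduct in
/-- Let A be a reduced Noetherian ring, M a finitely generated A-module, F a finitely generated free
A-module and δ : M → F an A-linear map such that the function p ↦ dim_{κ(p)} ker(δ ⊗ κ(p)) is
locally constant on Spec A. Then M, ker δ and coker δ = F / im δ are projective A-modules, and for
every A-module N the natural map (ker δ) ⊗ N → M ⊗ N is injective with image equal to the kernel of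
δ ⊗ N. -/
theorem result (A : Type u) [CommRing A]
    [IsNoetherianRing A] [IsReduced A] (M : Type v) (F : Type v) [AddCommGroup M] [Module A M]
    [Module.Finite A M] [AddCommGroup F] [Module A F] [Module.Finite A F] [Module.Free A F]
    (δ : M →ₗ[A] F)
    (h : IsLocallyConstant (fun x : PrimeSpectrum A =>
      Module.finrank x.asIdeal.ResidueField
        (LinearMap.ker (δ.baseChange x.asIdeal.ResidueField)))) :
    Module.Projective A M ∧ Module.Projective A (LinearMap.ker δ) ∧
      Module.Projective A (F ⧸ LinearMap.range δ) ∧
      ∀ (N : Type v) [AddCommGroup N] [Module A N],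
        Function.Injective (LinearMap.rTensor N (LinearMap.ker δ).subtype) ∧
        Function.Exact (LinearMap.rTensor N (LinearMap.ker δ).subtype) (LinearMap.rTensor N δ) := by
  have key : ∀ x : PrimeSpectrum A,
      Module.finrank x.asIdeal.ResidueField (LinearMap.ker (δ.baseChange x.asIdeal.ResidueField)) +
        FibRankH1.fr F x = FibRankH1.fr M x + FibRankH1.fr (F ⧸ LinearMap.range δ) x := fun x => by
    have h1 := FibRankH1.fr_quotient_range_add δ x
    have h2 := LinearMap.finrank_range_add_finrank_ker (δ.baseChange x.asIdeal.ResidueField)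
    unfold FibRankH1.fr at h1 ⊢
    omega
  have e : ∀ x : PrimeSpectrum A, ∀ᶠ y in nhds x, FibRankH1.fr M y = FibRankH1.fr M x ∧
      FibRankH1.fr (F ⧸ LinearMap.range δ) y = FibRankH1.fr (F ⧸ LinearMap.range δ) x := fun x => by
    filter_upwards [h.eventually_eq x, FibRankH1.fr_eventually_eq F x, FibRankH1.usc M x,
      FibRankH1.usc (F ⧸ LinearMap.range δ) x] with y h0 h1 h2 h3
    have := key x
    have := key y
    omega
  haveI hM := FibRankH1.projective_of_eventually M fun x => (e x).mono fun y hy => hy.1
  haveI hC := FibRankH1.projective_of_eventually (F ⧸ LinearMap.range δ) fun x => (e x).mono fun y hy => hy.2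
  obtain ⟨hR, r, hr⟩ := FibRankH1.projective_range δ
  obtain ⟨hK, s, hs⟩ := FibRankH1.projective_ker δ.rangeRestrict δ.surjective_rangeRestrict
  have hkk : LinearMap.ker δ.rangeRestrict = LinearMap.ker δ := δ.ker_rangeRestrict
  haveI hKδ : Module.Projective A (LinearMap.ker δ) := hkk ▸ hK
  refine ⟨hM, hKδ, hC, fun N _ _ => ⟨?_, ?_⟩⟩
  · let s' : M →ₗ[A] LinearMap.ker δ := (LinearEquiv.ofEq _ _ hkk).toLinearMap ∘ₗ s
    refine Function.LeftInverse.injective (g := LinearMap.rTensor N s') fun z => ?_
    rw [← LinearMap.rTensor_comp_apply,
      show s' ∘ₗ (LinearMap.ker δ).subtype = LinearMap.id from LinearMap.ext fun z => by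
        have hz : (z : M) ∈ LinearMap.ker δ.rangeRestrict := hkk.symm ▸ z.2
        have := hs ⟨z, hz⟩
        exact Subtype.ext (congrArg (Subtype.val (p := fun m => m ∈ LinearMap.ker δ.rangeRestrict)) this),
      LinearMap.rTensor_id, LinearMap.id_apply]
  · have h1 : Function.Exact (LinearMap.ker δ).subtype δ.rangeRestrict := by
      rw [LinearMap.exact_iff, hkk, Submodule.range_subtype]
    have h2 := rTensor_exact N h1 δ.surjective_rangeRestrict
    have hinj : Function.Injective (LinearMap.rTensor N (LinearMap.range δ).subtype) :=
      Function.LeftInverse.injective (g := LinearMap.rTensor N r) fun z => by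
        rw [← LinearMap.rTensor_comp_apply,
          show r ∘ₗ (LinearMap.range δ).subtype = LinearMap.id from LinearMap.ext hr,
          LinearMap.rTensor_id, LinearMap.id_apply]
    intro y
    rw [← h2 y]
    have : LinearMap.rTensor N δ = LinearMap.rTensor N (LinearMap.range δ).subtype ∘ₗ
        LinearMap.rTensor N δ.rangeRestrict := by
      rw [← LinearMap.rTensor_comp]; rfl
    rw [this, LinearMap.comp_apply]
    exact ⟨fun h => hinj (h.trans (map_zero _).symm), fun h => by rw [h, map_zero]⟩

end Groth.Agent.S14610
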