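import Groth.Statements.S14611
import Groth.Agent.Lib.FlatCx.Cochain
import Mathlib.RingTheory.Flat.EquationalCriterion
-- import your own Groth.Agent.* helpers here

set_option autoImplicit false
universe u
open FlatCx

namespace Groth.Agent.S14611

open CategoryTheory CategoryTheory.Limits in
/-- Let A be a Noetherian ring, Q a cochain complex whose terms are finitely generated projective
A-modules, and d an integer such that H^p(Q) = 0 for every p < d and H^p(Q ⊗_A A/m) = 0 for every p
< d and every maximal ideal m of A. Then Q^d / im(Q^{d-1} → Q^d), the degree-d term of the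
truncation τ_{≥ d} Q, is a projective A-module, so that τ_{≥ d} Q is again a complex of projective
modules. (The published statement also asserts that Q → τ_{≥ d} Q is a quasi-isomorphism when H^p(Q)
= 0 for p < d; this row omits that clause.) -/
theorem result (A : Type u) [CommRing A] [IsNoetherianRing A]
    (Q : CochainComplex (ModuleCat.{u} A) ℤ)
    (hQ : ∀ i, Module.Finite A (Q.X i) ∧ Module.Projective A (Q.X i)) (d : ℤ)
    (h1 : ∀ p < d, IsZero (Q.homology p))
    (h2 : ∀ (m : Ideal A) [m.IsMaximal], ∀ p < d,
      IsZero ((CohIII.tensorObj Q (ModuleCat.of A (A ⧸ m))).homology p)) :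
    Module.Projective A (Q.opcycles d) := by
  have := fun i => (hQ i).1
  have hQf : ∀ i, Module.Flat A (Q.X i) := fun i => have := (hQ i).2; inferInstance
  have hflat : Module.Flat A (Q.X d ⧸ LinearMap.range (Groth.Agent.FlatCxLib.cd Q (d - 1) d)) := by
    refine Groth.Agent.FlatCxLib.flat_of_forall_maximal_lTensor_injective _ fun m _ => ?_
    refine Groth.Agent.FlatCxLib.lTensor_opcycles_injective (h := d - 2) (g := d - 1) hQf fun x hx => ?_
    exact (Groth.Agent.DMod.subsingleton_homology_iff _ (by simp; omega) (by simp)).1
      (ModuleCat.subsingleton_of_isZero (h2 m (d - 1) (by omega))) x hx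
  have := Module.finitePresentation_of_finite A (Q.X d ⧸ LinearMap.range (Groth.Agent.FlatCxLib.cd Q (d - 1) d))
  have := Module.Flat.projective_of_finitePresentation (R := A)
    (M := Q.X d ⧸ LinearMap.range (Groth.Agent.FlatCxLib.cd Q (d - 1) d))
  have : Module.Projective A (ModuleCat.of A (↑(Q.sc' (d - 1) d (d + 1)).X₂ ⧸
      LinearMap.range (Q.sc' (d - 1) d (d + 1)).f.hom) : ModuleCat.{u} A) := this
  exact Module.Projective.of_equiv ((Q.opcyclesIsoSc' (d - 1) d (d + 1) (by simp) (by simp)) ≪≫
    (Q.sc' (d - 1) d (d + 1)).moduleCatOpcyclesIso).toLinearEquiv.symm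

end Groth.Agent.S14611
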