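import Groth.Statements.S14613
import Groth.Agent.Lib.FlatCx.Cochain
-- import your own Groth.Agent.* helpers here

set_option autoImplicit false
universe u
open FlatCx

namespace Groth.Agent.S14613

open CategoryTheory CategoryTheory.Limits in
/-- Let A be a commutative ring (not necessarily Noetherian), C and D cochain complexes of flat
A-modules that are bounded above (zero in all large degrees), φ : C → D a quasi-isomorphism and M an
arbitrary A-module. Then φ ⊗ id_M : C ⊗_A M → D ⊗_A M, the tensor product taken degreewise, is a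
quasi-isomorphism. Boundedness cannot be dropped. -/
theorem result (A : Type u) [CommRing A]
    (C D : CochainComplex (ModuleCat.{u} A) ℤ)
    (hC : ∀ i, Module.Flat A (C.X i)) (hD : ∀ i, Module.Flat A (D.X i))
    (bC : ∃ b : ℤ, ∀ i, b < i → IsZero (C.X i)) (bD : ∃ b : ℤ, ∀ i, b < i → IsZero (D.X i))
    (φ : C ⟶ D) [QuasiIso φ] (M : ModuleCat.{u} A) :
    QuasiIso (((MonoidalCategory.tensorRight M).mapHomologicalComplex (ComplexShape.up ℤ)).map φ) := by
  obtain ⟨b, hb⟩ := bC
  obtain ⟨b', hb'⟩ := bD
  exact Groth.Agent.FlatCxLib.quasiIso_tensorRight_map hC hD hb hb' φ M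

end Groth.Agent.S14613
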