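import Groth.Statements.S14614
import Mathlib.AlgebraicGeometry.Morphisms.FlatMono
import Mathlib.RingTheory.Ideal.KrullsHeightTheorem
import Mathlib.RingTheory.Filtration
-- import your own Groth.Agent.* helpers here

set_option autoImplicit false
set_option backward.isDefEq.respectTransparency.types false
universe u
open Mor

namespace Groth.Agent.S14614

open CategoryTheory AlgebraicGeometry in
/-- Let S be a locally Noetherian scheme and i : Z → S a closed immersion with the following property:
for every Artinian local ring A with residue field k and every morphism g : Spec A → S, if the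
restriction Spec k → Spec A → S of g factors through i then so does g. Then i is also an open
immersion, i.e. the closed subscheme Z is open in S as a subscheme. (The published hypothesis is an
equivalence; its other direction always holds, so this row assumes only the implication.) -/
theorem result (S : Scheme.{u}) [IsLocallyNoetherian S]
    {Z : Scheme.{u}} (i : Z ⟶ S) [IsClosedImmersion i]
    (h : ∀ (A : Type u) [CommRing A] [IsArtinianRing A] [IsLocalRing A] (g : Spec (CommRingCat.of A) ⟶ S),
      (∃ t : Spec (CommRingCat.of (IsLocalRing.ResidueField A)) ⟶ Z,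
          t ≫ i = Spec.map (CommRingCat.ofHom (IsLocalRing.residue A)) ≫ g) →
        ∃ g' : Spec (CommRingCat.of A) ⟶ Z, g' ≫ i = g) :
    IsOpenImmersion i := by
  haveI : LocallyOfFinitePresentation i := inferInstance
  haveI : Flat i := by
    refine Flat.of_stalkMap i fun z => ?_
    haveI : IsNoetherianRing (S.presheaf.stalk (i z)) := inferInstance
    let R := S.presheaf.stalk (i z)
    have hsurj : Function.Surjective (i.stalkMap z).hom := i.stalkMap_surjective z
    have hker : RingHom.ker (i.stalkMap z).hom = ⊥ := by
      have hpow : ∀ n : ℕ, n ≠ 0 → RingHom.ker (i.stalkMap z).hom ≤ IsLocalRing.maximalIdeal R ^ n := by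
        intro n hn
        let M := IsLocalRing.maximalIdeal R ^ n
        have hM : M ≠ ⊤ := fun e => (IsLocalRing.maximalIdeal.isMaximal R).ne_top
          (top_le_iff.1 (e.symm.trans_le (Ideal.pow_le_self hn)))
        haveI : Nontrivial (R ⧸ M) := Ideal.Quotient.nontrivial_iff.2 hM
        haveI : IsLocalRing (R ⧸ M) := IsLocalRing.of_surjective' _ Ideal.Quotient.mk_surjective
        haveI : IsLocalHom (Ideal.Quotient.mk M) :=
          IsLocalHom.of_surjective _ Ideal.Quotient.mk_surjective
        haveI : IsArtinianRing (R ⧸ M) := by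
          refine IsLocalRing.quotient_artinian_of_mem_minimalPrimes_of_isLocalRing M ?_
          refine ⟨⟨inferInstance, Ideal.pow_le_self hn⟩, fun P hP _ => ?_⟩
          exact hP.1.le_of_pow_le hP.2
        let q : R ⟶ CommRingCat.of (R ⧸ M) := CommRingCat.ofHom (Ideal.Quotient.mk M)
        haveI : IsLocalHom q.hom := ‹IsLocalHom (Ideal.Quotient.mk M)›
        let r : R →+* IsLocalRing.ResidueField (R ⧸ M) :=
          (IsLocalRing.residue (R ⧸ M)).comp (Ideal.Quotient.mk M)
        have hle : RingHom.ker (i.stalkMap z).hom ≤ RingHom.ker r := by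
          intro a ha
          rw [RingHom.mem_ker] at ha ⊢
          apply (IsLocalRing.residue_eq_zero_iff _).2
          apply (IsLocalRing.mem_maximalIdeal _).2
          intro hu
          have h1 := (isUnit_map_iff (Ideal.Quotient.mk M) a).1 hu
          exact not_isUnit_zero (ha ▸ h1.map (i.stalkMap z).hom)
        let ψ := (i.stalkMap z).hom.liftOfSurjective hsurj ⟨r, hle⟩
        have hψ : i.stalkMap z ≫ CommRingCat.ofHom ψ =
            q ≫ CommRingCat.ofHom (IsLocalRing.residue (R ⧸ M)) :=
          CommRingCat.hom_ext ((i.stalkMap z).hom.liftOfSurjective_comp hsurj ⟨r, hle⟩)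
        obtain ⟨g', hg'⟩ := h (R ⧸ M) (Spec.map q ≫ S.fromSpecStalk (i z))
          ⟨Spec.map (CommRingCat.ofHom ψ) ≫ Z.fromSpecStalk z, by
            rw [Category.assoc, ← Scheme.SpecMap_stalkMap_fromSpecStalk, ← Spec.map_comp_assoc,
              ← Spec.map_comp_assoc]
            exact congrArg (fun m => Spec.map m ≫ S.fromSpecStalk (i z)) hψ⟩
        have hpt : (Spec.map q ≫ S.fromSpecStalk (i z)) (IsLocalRing.closedPoint _) = i z := by
          rw [Scheme.Hom.comp_apply, Spec_closedPoint, Scheme.fromSpecStalk_closedPoint]
        have hz : g' (IsLocalRing.closedPoint _) = z := by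
          apply i.isClosedEmbedding.injective
          rw [← hpt, ← hg', Scheme.Hom.comp_apply]
        intro a ha
        obtain ⟨U, hU, s, rfl⟩ := S.presheaf.exists_germ_eq a
        rw [RingHom.mem_ker] at ha
        rw [← Ideal.Quotient.eq_zero_iff_mem]
        have key : ∀ (w : Z) (hw : w = z) (hU' : i w ∈ U), i.stalkMap w (S.presheaf.germ U _ hU' s) = 0 := by
          rintro w rfl _
          exact ha
        have hU' : (Spec.map q ≫ S.fromSpecStalk (i z)) (IsLocalRing.closedPoint _) ∈ U := by
          rw [hpt]; exact hU
        have e1 := ConcreteCategory.congr_hom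
          (Scheme.germ_stalkClosedPointTo_Spec_fromSpecStalk q U hU') s
        have e2 : ∀ (g₀ : Spec (CommRingCat.of (R ⧸ M)) ⟶ S) (_ : g₀ = g' ≫ i)
            (hU₀ : g₀ (IsLocalRing.closedPoint _) ∈ U),
            Scheme.stalkClosedPointTo g₀ (S.presheaf.germ U _ hU₀ s) = 0 := by
          rintro g₀ rfl hU₀
          rw [Scheme.stalkClosedPointTo_comp]
          exact (congrArg (fun v => (Scheme.stalkClosedPointTo g').hom v) (key _ hz _)).trans (map_zero (Scheme.stalkClosedPointTo g').hom)
        exact e1.symm.trans (e2 _ hg'.symm hU')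
      refine le_bot_iff.1 ?_
      rw [← Ideal.iInf_pow_eq_bot_of_isLocalRing (IsLocalRing.maximalIdeal R)
        (IsLocalRing.maximalIdeal.isMaximal R).ne_top]
      refine le_iInf fun n => ?_
      rcases eq_or_ne n 0 with rfl | hn
      · simp
      · exact hpow n hn
    exact RingHom.Flat.of_bijective ⟨(RingHom.injective_iff_ker_eq_bot _).2 hker, hsurj⟩
  exact IsOpenImmersion.of_flat_of_mono i

end Groth.Agent.S14614
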