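import Groth.Statements.S14617
import Groth.Agent.Lib.FormalH7.Tower

set_option autoImplicit false
universe u
open Formal2

namespace Groth.Agent.S14617

/-- Let 0 → (G'_n) → (G_n) → (G''_n) → 0 be a short exact sequence of inverse systems of abelian groups
indexed by ℕ: maps u_n : G'_n → G_n and v_n : G_n → G''_n commuting with the transition maps, with
u_n injective, v_n surjective and ker v_n = im u_n for every n. Writing lim and lim¹ for the kernel
and cokernel of (x_n) ↦ (x_n − t_n(x_{n+1})) on the product, there is an exact sequence 0 → lim G' →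
lim G → lim G'' → lim¹ G' → lim¹ G → lim¹ G'' → 0 in which the four outer maps are the ones induced
by u and v on products and the connecting map δ sends a compatible sequence (z_n) to the class of
the unique (w_n) with u_n(w_n) = y_n − t_n(y_{n+1}), for any levelwise lift (y_n) of (z_n). -/
theorem result (G' G G'' : ℕ → Type u)
    [∀ n, AddCommGroup (G' n)] [∀ n, AddCommGroup (G n)] [∀ n, AddCommGroup (G'' n)]
    (t' : ∀ n, G' (n + 1) →+ G' n) (t : ∀ n, G (n + 1) →+ G n) (t'' : ∀ n, G'' (n + 1) →+ G'' n)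
    (u : ∀ n, G' n →+ G n) (v : ∀ n, G n →+ G'' n)
    (hu : ∀ n x, t n (u (n + 1) x) = u n (t' n x)) (hv : ∀ n x, t'' n (v (n + 1) x) = v n (t n x))
    (hinj : ∀ n, Function.Injective (u n)) (hsurj : ∀ n, Function.Surjective (v n))
    (hex : ∀ n, (v n).ker = (u n).range) :
    ∃ (α : Formal2.limZero G' t' →+ Formal2.limZero G t) (β : Formal2.limZero G t →+ Formal2.limZero G'' t'')
      (δ : Formal2.limZero G'' t'' →+ Formal2.limOne G' t')
      (ε : Formal2.limOne G' t' →+ Formal2.limOne G t) (ζ : Formal2.limOne G t →+ Formal2.limOne G'' t''),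
      (∀ (x : Formal2.limZero G' t') (n : ℕ), (α x : ∀ n, G n) n = u n ((x : ∀ n, G' n) n)) ∧
      (∀ (x : Formal2.limZero G t) (n : ℕ), (β x : ∀ n, G'' n) n = v n ((x : ∀ n, G n) n)) ∧
      (∀ (z : Formal2.limZero G'' t'') (y : ∀ n, G n) (w : ∀ n, G' n),
          (∀ n, v n (y n) = (z : ∀ n, G'' n) n) → (∀ n, u n (w n) = Formal2.towerDiff G t y n) →
            δ z = (QuotientAddGroup.mk w : Formal2.limOne G' t')) ∧
      (∀ y : ∀ n, G' n, ε (QuotientAddGroup.mk y : Formal2.limOne G' t') =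
          (QuotientAddGroup.mk (fun n => u n (y n)) : Formal2.limOne G t)) ∧
      (∀ y : ∀ n, G n, ζ (QuotientAddGroup.mk y : Formal2.limOne G t) =
          (QuotientAddGroup.mk (fun n => v n (y n)) : Formal2.limOne G'' t'')) ∧
      Function.Injective α ∧ α.range = β.ker ∧ β.range = δ.ker ∧ δ.range = ε.ker ∧ ε.range = ζ.ker ∧
      Function.Surjective ζ := by
  have hmap : ∀ (A B : ℕ → Type u) [∀ n, AddCommGroup (A n)] [∀ n, AddCommGroup (B n)]
      (s : ∀ n, A (n + 1) →+ A n) (s' : ∀ n, B (n + 1) →+ B n) (f : ∀ n, A n →+ B n),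
      (∀ n x, s' n (f (n + 1) x) = f n (s n x)) → ∀ x : ∀ n, A n,
        Formal2.towerDiff B s' (fun n => f n (x n)) = fun n => f n (Formal2.towerDiff A s x n) := by
    intro A B _ _ s s' f hf x
    funext n
    show f n (x n) - s' n (f (n + 1) (x (n + 1))) = f n (x n - s n (x (n + 1)))
    rw [hf, map_sub]
  let U : (∀ n, G' n) →+ (∀ n, G n) :=
    { toFun := fun x n => u n (x n), map_zero' := funext fun n => map_zero _, map_add' := fun a b => funext fun n => map_add _ _ _ }
  let V : (∀ n, G n) →+ (∀ n, G'' n) :=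
    { toFun := fun x n => v n (x n), map_zero' := funext fun n => map_zero _, map_add' := fun a b => funext fun n => map_add _ _ _ }
  have hU : ∀ x, Formal2.towerDiff G t (U x) = U (Formal2.towerDiff G' t' x) := hmap G' G t' t u hu
  have hV : ∀ x, Formal2.towerDiff G'' t'' (V x) = V (Formal2.towerDiff G t x) := hmap G G'' t t'' v hv
  have hUinj : Function.Injective U := fun a b h => funext fun n => hinj n (congrFun h n)
  have hVsurj : Function.Surjective V := fun z => ⟨fun n => (hsurj n (z n)).choose, funext fun n => (hsurj n (z n)).choose_spec⟩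
  have hVU : ∀ x, V (U x) = 0 := fun x => funext fun n => AddMonoidHom.mem_ker.1 ((hex n).ge ⟨x n, rfl⟩)
  have hker : ∀ y, V y = 0 → ∃ x, U x = y := fun y h =>
    ⟨fun n => ((hex n).le (congrFun h n)).choose, funext fun n => ((hex n).le (congrFun h n)).choose_spec⟩
  let α : Formal2.limZero G' t' →+ Formal2.limZero G t := (U.comp (Formal2.limZero G' t').subtype).codRestrict _
    fun x => by show Formal2.towerDiff G t (U x) = 0; rw [hU, AddMonoidHom.mem_ker.1 x.2, map_zero]
  let β : Formal2.limZero G t →+ Formal2.limZero G'' t'' := (V.comp (Formal2.limZero G t).subtype).codRestrict _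
    fun x => by show Formal2.towerDiff G'' t'' (V x) = 0; rw [hV, AddMonoidHom.mem_ker.1 x.2, map_zero]
  let ε : Formal2.limOne G' t' →+ Formal2.limOne G t := QuotientAddGroup.map _ _ U
    (by rintro _ ⟨x, rfl⟩; exact ⟨U x, hU x⟩)
  let ζ : Formal2.limOne G t →+ Formal2.limOne G'' t'' := QuotientAddGroup.map _ _ V
    (by rintro _ ⟨x, rfl⟩; exact ⟨V x, hV x⟩)
  have lifts : ∀ z : Formal2.limZero G'' t'', ∃ p : (∀ n, G n) × (∀ n, G' n),
      V p.1 = z ∧ U p.2 = Formal2.towerDiff G t p.1 := fun z => by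
    obtain ⟨y, hy⟩ := hVsurj z
    obtain ⟨w, hw⟩ := hker (Formal2.towerDiff G t y) (by rw [← hV, hy]; exact z.2)
    exact ⟨(y, w), hy, hw⟩
  choose P hP1 hP2 using lifts
  have welldef : ∀ (z : Formal2.limZero G'' t'') (y : ∀ n, G n) (w : ∀ n, G' n), V y = z → U w = Formal2.towerDiff G t y →
      (QuotientAddGroup.mk (P z).2 : Formal2.limOne G' t') = QuotientAddGroup.mk w := fun z y w hy hw => by
    obtain ⟨x, hx⟩ := hker (y - (P z).1) (by rw [map_sub, hy, hP1, sub_self])
    rw [QuotientAddGroup.eq]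
    refine ⟨x, hUinj ?_⟩
    rw [map_add, map_neg, hP2, hw, ← hU, hx, map_sub]
    abel
  let δ : Formal2.limZero G'' t'' →+ Formal2.limOne G' t' :=
    AddMonoidHom.mk' (fun z => QuotientAddGroup.mk (P z).2) fun a b => by
      rw [← QuotientAddGroup.mk_add]
      refine welldef (a + b) ((P a).1 + (P b).1) _ ?_ ?_
      · rw [map_add, hP1, hP1]; rfl
      · rw [map_add, hP2, hP2, map_add]
  refine ⟨α, β, δ, ε, ζ, fun _ _ => rfl, fun _ _ => rfl,
    fun z y w hy hw => welldef z y w (funext hy) (funext hw), fun _ => rfl, fun _ => rfl, ?_, ?_, ?_, ?_, ?_, ?_⟩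
  · intro a b h
    exact Subtype.ext (hUinj (congrArg Subtype.val h))
  · ext x
    constructor
    · rintro ⟨a, rfl⟩
      exact Subtype.ext (hVU a)
    · intro hx
      obtain ⟨a, ha⟩ := hker x (congrArg Subtype.val hx)
      refine ⟨⟨a, hUinj ?_⟩, Subtype.ext ha⟩
      rw [← hU, ha, map_zero]
      exact x.2
  · ext z
    constructor
    · rintro ⟨x, rfl⟩
      show QuotientAddGroup.mk (P (β x)).2 = 0
      rw [welldef (β x) x 0 rfl (by rw [map_zero]; exact x.2.symm)]
      rfl
    · intro hz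
      obtain ⟨a, ha⟩ := (QuotientAddGroup.eq_zero_iff _).1 (show QuotientAddGroup.mk (P z).2 = 0 from hz)
      refine ⟨⟨(P z).1 - U a, ?_⟩, Subtype.ext ?_⟩
      · show Formal2.towerDiff G t _ = 0
        rw [map_sub, hU, ha, hP2, sub_self]
      · show V ((P z).1 - U a) = (z : ∀ n, G'' n)
        rw [map_sub, hP1, hVU, sub_zero]
  · ext w
    obtain ⟨w, rfl⟩ := QuotientAddGroup.mk_surjective w
    constructor
    · rintro ⟨z, hz⟩
      rw [← hz]
      show QuotientAddGroup.mk (U (P z).2) = 0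
      rw [QuotientAddGroup.eq_zero_iff, hP2]
      exact ⟨_, rfl⟩
    · intro hw
      obtain ⟨y, hy⟩ := (QuotientAddGroup.eq_zero_iff _).1 (show QuotientAddGroup.mk (U w) = 0 from hw)
      exact ⟨⟨V y, by show Formal2.towerDiff G'' t'' (V y) = 0; rw [hV, hy, hVU]⟩, welldef _ y w rfl hy.symm⟩
  · ext y
    obtain ⟨y, rfl⟩ := QuotientAddGroup.mk_surjective y
    constructor
    · rintro ⟨w, hw⟩
      obtain ⟨w, rfl⟩ := QuotientAddGroup.mk_surjective w
      rw [← hw]
      show QuotientAddGroup.mk (V (U w)) = 0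
      rw [hVU]
      rfl
    · intro hy
      obtain ⟨z, hz⟩ := (QuotientAddGroup.eq_zero_iff _).1 (show QuotientAddGroup.mk (V y) = 0 from hy)
      obtain ⟨x, rfl⟩ := hVsurj z
      obtain ⟨w, hw⟩ := hker (y - Formal2.towerDiff G t x) (by rw [map_sub, ← hz, hV, sub_self])
      refine ⟨QuotientAddGroup.mk w, ?_⟩
      show QuotientAddGroup.mk (U w) = QuotientAddGroup.mk y
      rw [hw, QuotientAddGroup.eq]
      exact ⟨x, by abel⟩
  · intro z
    obtain ⟨z, rfl⟩ := QuotientAddGroup.mk_surjective z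
    obtain ⟨y, rfl⟩ := hVsurj z
    exact ⟨QuotientAddGroup.mk y, rfl⟩

end Groth.Agent.S14617
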