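import Groth.Statements.S14618
import Groth.Agent.Lib.FibreSplit32.Basic

set_option autoImplicit false
set_option backward.isDefEq.respectTransparency false
universe u
open FlatMor

namespace Groth.Agent.S14618

open CategoryTheory CategoryTheory.Limits AlgebraicGeometry in
theorem injective_aux {X S T : Scheme.{u}} (_f : X ⟶ S) {F V : X.Modules} (v : F ⟶ V) (x : X) (g : T ⟶ X)
    (hx : ∃ z, g z = x)
    (h : ∀ z : T, ∃ U : T.Opens, z ∈ U ∧
      FibreSplit32.SplitOn U.ι ((Scheme.Modules.pullback g).map v)) :
    Function.Injective ((KFlat.Sch.stk v x).lTensor (IsLocalRing.ResidueField (X.presheaf.stalk x))) := by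
  obtain ⟨z, rfl⟩ := hx
  obtain ⟨U, hzU, hU⟩ := h z
  exact FibreSplit32.injective_residue_of_splitOn g U z hzU hU

open CategoryTheory CategoryTheory.Limits AlgebraicGeometry in
theorem surj_pullback {X S T : Scheme.{u}} (f : X ⟶ S) (g : T ⟶ S) (x : X) (w : T) (hw : f x = g w) :
    ∃ z, pullback.fst f g z = x := by
  obtain ⟨z, hz, -⟩ := Scheme.Pullback.exists_preimage_pullback (f := f) (g := g) x w hw
  exact ⟨z, hz⟩

open CategoryTheory CategoryTheory.Limits AlgebraicGeometry in
theorem surj_aux {X S : Scheme.{u}} (f : X ⟶ S) (x : X) :
    ∃ z, pullback.fst f (Spec.map (CommRingCat.ofHom (algebraMap (S.residueField (f x))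
      (AlgebraicClosure (S.residueField (f x))))) ≫ S.fromSpecResidueField (f x)) z = x :=
  surj_pullback f _ x (IsLocalRing.closedPoint (AlgebraicClosure (S.residueField (f x))))
    ((Scheme.Hom.comp_apply _ _ _).trans (Scheme.fromSpecResidueField_apply _ _)).symm

open CategoryTheory CategoryTheory.Limits AlgebraicGeometry in
/-- Let f : X → S be a morphism of schemes and u : F → V a morphism of O_X-modules with F quasi-coherent
of finite type and V finite locally free. The following are equivalent: (a) u is a locally split
monomorphism, i.e. every point of X has an open neighbourhood U such that the restriction of u to U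
has a left inverse; (b) for every point s of S the pullback of u to the fibre X_s = X ×_S Spec κ(s)
is a locally split monomorphism on X_s; (c) for every point s of S the pullback of u to the
geometric fibre X ×_S Spec k̄, k̄ an algebraic closure of κ(s), is a locally split monomorphism.
Restrictions to opens and to fibres are written as module pullbacks along the corresponding
immersions/projections. (In the published statement X and S are schemes in a terminology where
schemes are separated preschemes; the proof is local on X and on S, so this row assumes no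
separatedness.) -/
theorem result {X S : Scheme.{u}} (f : X ⟶ S) {F V : X.Modules} (u : F ⟶ V)
    (hF : Coh.IsQCoh F) (hFt : CohB1.IsFT F) (hV : FlatMod.IsFinLocFree V) :
    [ ∀ x : X, ∃ U : X.Opens, x ∈ U ∧
        ∃ r : (Scheme.Modules.pullback U.ι).obj V ⟶ (Scheme.Modules.pullback U.ι).obj F,
          (Scheme.Modules.pullback U.ι).map u ≫ r = 𝟙 _,
      ∀ (s : S) (x : f.fiber s), ∃ U : (f.fiber s).Opens, x ∈ U ∧
        ∃ r : (Scheme.Modules.pullback U.ι).obj ((Scheme.Modules.pullback (f.fiberι s)).obj V) ⟶
            (Scheme.Modules.pullback U.ι).obj ((Scheme.Modules.pullback (f.fiberι s)).obj F),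
          (Scheme.Modules.pullback U.ι).map ((Scheme.Modules.pullback (f.fiberι s)).map u) ≫ r = 𝟙 _,
      ∀ (s : S) (x : ↑(pullback f (Spec.map (CommRingCat.ofHom (algebraMap (S.residueField s)
            (AlgebraicClosure (S.residueField s)))) ≫ S.fromSpecResidueField s))),
        ∃ U : Scheme.Opens _, x ∈ U ∧
        ∃ r : (Scheme.Modules.pullback U.ι).obj ((Scheme.Modules.pullback (pullback.fst f
              (Spec.map (CommRingCat.ofHom (algebraMap (S.residueField s) (AlgebraicClosure (S.residueField s)))) ≫
                S.fromSpecResidueField s))).obj V) ⟶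
            (Scheme.Modules.pullback U.ι).obj ((Scheme.Modules.pullback (pullback.fst f
              (Spec.map (CommRingCat.ofHom (algebraMap (S.residueField s) (AlgebraicClosure (S.residueField s)))) ≫
                S.fromSpecResidueField s))).obj F),
          (Scheme.Modules.pullback U.ι).map ((Scheme.Modules.pullback (pullback.fst f
              (Spec.map (CommRingCat.ofHom (algebraMap (S.residueField s) (AlgebraicClosure (S.residueField s)))) ≫
                S.fromSpecResidueField s))).map u) ≫ r = 𝟙 _ ].TFAE := by
  have loc := FibreSplit32.splitOn_of_injective_residue hFt hV u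
  have down : (∀ x : X, ∃ U : X.Opens, x ∈ U ∧ FibreSplit32.SplitOn U.ι u) →
      ∀ {T : Scheme.{_}} (g : T ⟶ X) (z : T), ∃ U : T.Opens, z ∈ U ∧
        FibreSplit32.SplitOn U.ι ((Scheme.Modules.pullback g).map u) := fun h T g z => by
    obtain ⟨U, hU, hs⟩ := h (g z)
    exact ⟨g ⁻¹ᵁ U, hU, hs.pull g⟩
  tfae_have 1 → 2 := fun h s x => down h (f.fiberι s) x
  tfae_have 1 → 3 := fun h s x => down h _ x
  tfae_have 2 → 1 := fun h => loc fun x => by
    obtain ⟨z, hz⟩ : x ∈ Set.range (f.fiberι (f x)) := by rw [Scheme.Hom.range_fiberι]; rfl
    obtain ⟨U, hzU, hU⟩ := h (f x) z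
    have h2 := FibreSplit32.injective_residue_of_splitOn (f.fiberι (f x)) U z hzU hU
    rwa [hz] at h2
  tfae_have 3 → 1 := fun h => loc fun x => injective_aux f u x _ (surj_aux f x) (h (f x))
  tfae_finish

end Groth.Agent.S14618
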