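import Groth.Statements.S14619
import Groth.Agent.Lib.CBC10.Amplitude
import Groth.Agent.Lib.CBC10.FlatCoh

set_option autoImplicit false
universe u
open Coherent

namespace Groth.Agent.S14619

open CategoryTheory CategoryTheory.Limits AlgebraicGeometry in
/-- Let A be a Noetherian ring, X a proper scheme over Spec A and F a coherent O_X-module flat over Spec
A. Suppose H^p(X, F) = 0 for all p > d and H^p(X_y, F|X_y) = 0 for every point y of Spec A and every
p < d'. Then there is a cochain complex L of finitely generated projective A-modules, with L^i = 0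
unless d' ≤ i ≤ d and with L = 0 when all H^p(X, F) vanish, such that for every A-algebra B and
every p the cohomology H^p(X ×_A Spec B, ξ^*F) of the pulled-back module is isomorphic to H^p(L ⊗_A
B). Only the existence of these isomorphisms of abelian groups is asserted (no naturality in B). -/
theorem result (A : Type u) [CommRing A] [IsNoetherianRing A] (X : Scheme.{u}) [X.Over (Spec (CommRingCat.of A))]
    [IsProper (X ↘ Spec (CommRingCat.of A))] (F : X.Modules) (hF : Coh.IsCoh F)
    (hfl : FlatMod.IsFlatOver (X ↘ Spec (CommRingCat.of A)) F) (d' d : ℕ)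
    (hd : ∀ p : ℕ, d < p → Subsingleton (Coh.HH X F p))
    (hd' : ∀ (y : ↑(Spec (CommRingCat.of A))) (p : ℕ), p < d' →
      Subsingleton (CohIII.fiberH (X ↘ Spec (CommRingCat.of A)) F y p)) :
    ∃ L : CochainComplex (ModuleCat.{u} A) ℤ,
      (∀ i, Module.Finite A (L.X i) ∧ Module.Projective A (L.X i)) ∧
      (∀ i : ℤ, i < (d' : ℤ) ∨ (d : ℤ) < i → IsZero (L.X i)) ∧
      ((∀ p : ℕ, Subsingleton (Coh.HH X F p)) → ∀ i, IsZero (L.X i)) ∧
      ∀ (B : Type u) [CommRing B] [Algebra A B] (p : ℕ),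
        Nonempty (Coh.HH (pullback (X ↘ Spec (CommRingCat.of A)) (Spec.map (CommRingCat.ofHom (algebraMap A B))))
            ((Scheme.Modules.pullback (pullback.fst (X ↘ Spec (CommRingCat.of A))
              (Spec.map (CommRingCat.ofHom (algebraMap A B))))).obj F) p ≃+
          CohIII.T L (p : ℤ) (ModuleCat.of A B)) := by
  haveI := Groth.Agent.CBC10.compactSpace_over A X
  haveI := Groth.Agent.CBC10.isSeparated_over A X
  obtain ⟨L, hL, ⟨b, hb⟩, hneg, e, he⟩ := Groth.Agent.CBC10.exists_complex A F hF hfl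
  have hP : Groth.Agent.CBC10.Computes A F (Groth.Agent.CBC10.down L) := by
    refine ⟨fun p M => ((Groth.Agent.CBC10.downIso L p).app M).toLinearEquiv.trans (e p M), fun p M M' g x => ?_⟩
    refine Eq.trans (congrArg (e p M') ?_) (he p g (((Groth.Agent.CBC10.downIso L p).app M).toLinearEquiv x))
    exact ConcreteCategory.congr_hom ((Groth.Agent.CBC10.downIso L p).hom.naturality g) x
  have hT : ∀ (p : ℕ) (M : ModuleCat.{u} A), Nonempty
      (CohIII.T (Groth.Agent.CBC10.down L) (-(p : ℤ)) M ≃ₗ[A] CohIII.T L (p : ℤ) M) := fun p M =>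
    ⟨((Groth.Agent.CBC10.downIso L (p : ℤ)).app M).toLinearEquiv⟩
  have hH : ∀ p : ℕ, Subsingleton (Coh.HH X F p) → Subsingleton (L.homology (p : ℤ)) := fun p h => by
    obtain ⟨u₀⟩ := hP.exists_unit hF.1 p
    obtain ⟨t⟩ := hT p (ModuleCat.of A A)
    exact (Groth.Agent.CBC10.subsingleton_T_A_iff L (p : ℤ)).1
      (@Equiv.subsingleton _ _ (t.symm.trans u₀).toEquiv h)
  have hlow : ∀ i : ℤ, i < (d' : ℤ) → ∀ x : PrimeSpectrum A,
      Subsingleton (CohIII.T L i (ModuleCat.of A x.asIdeal.ResidueField)) := fun i hi x => by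
    rcases lt_or_ge i 0 with h0 | h0
    · exact hneg i h0 _
    · obtain ⟨p, rfl⟩ := Int.eq_ofNat_of_zero_le h0
      obtain ⟨t⟩ := hT p (ModuleCat.of A x.asIdeal.ResidueField)
      exact @Equiv.subsingleton _ _ t.symm.toEquiv
        ((hP.subsingleton_fiberH_iff x hF.1 p).1 (hd' x p (by omega)))
  have hbc : ∀ K : CochainComplex (ModuleCat.{u} A) ℤ,
      (∀ i (M : ModuleCat.{u} A), Nonempty (CohIII.T K i M ≃ₗ[A] CohIII.T L i M)) →
      ∀ (B : Type u) [CommRing B] [Algebra A B] (p : ℕ),
        Nonempty (Coh.HH (pullback (X ↘ Spec (CommRingCat.of A)) (Spec.map (CommRingCat.ofHom (algebraMap A B))))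
            ((Scheme.Modules.pullback (pullback.fst (X ↘ Spec (CommRingCat.of A))
              (Spec.map (CommRingCat.ofHom (algebraMap A B))))).obj F) p ≃+
          CohIII.T K (p : ℤ) (ModuleCat.of A B)) := fun K hK B _ _ p => by
    letI : (pullback (X ↘ Spec (CommRingCat.of A)) (Spec.map (CommRingCat.ofHom (algebraMap A B)))).Over
        (Spec (CommRingCat.of B)) := ⟨pullback.snd _ _⟩
    obtain ⟨ε, -⟩ := hP.exists_bc hF.1 (B := B)
      (IsPullback.of_hasPullback (X ↘ Spec (CommRingCat.of A)) (Spec.map (CommRingCat.ofHom (algebraMap A B))))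
    obtain ⟨t⟩ := hT p (ModuleCat.of A B)
    obtain ⟨k⟩ := hK (p : ℤ) (ModuleCat.of A B)
    exact ⟨((ε p).symm.trans t.toAddEquiv).trans k.symm.toAddEquiv⟩
  by_cases hall : ∀ p : ℕ, Subsingleton (Coh.HH X F p)
  · obtain ⟨K, hK, hz, hKT⟩ := Groth.Agent.CBC10.exists_amplitude L hL hb 0 (-1)
      (fun i hi => by
        obtain ⟨p, rfl⟩ := Int.eq_ofNat_of_zero_le (show (0 : ℤ) ≤ i by omega)
        exact hH p (hall p))
      (fun i hi x => hneg i hi _)
    exact ⟨K, hK, fun i _ => hz i (by omega), fun _ i => hz i (by omega), hbc K hKT⟩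
  · obtain ⟨K, hK, hz, hKT⟩ := Groth.Agent.CBC10.exists_amplitude L hL hb (d' : ℤ) (d : ℤ)
      (fun i hi => by
        obtain ⟨p, rfl⟩ := Int.eq_ofNat_of_zero_le (show (0 : ℤ) ≤ i by omega)
        exact hH p (hd p (by omega)))
      hlow
    exact ⟨K, hK, hz, fun h => absurd h hall, hbc K hKT⟩

end Groth.Agent.S14619
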