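import Mathlib.AlgebraicGeometry.Morphisms.FinitePresentation
import Mathlib.AlgebraicGeometry.Morphisms.FiniteType
import Mathlib.AlgebraicGeometry.Geometrically.Reduced
import Mathlib.AlgebraicGeometry.Geometrically.Irreducible
import Mathlib.AlgebraicGeometry.Geometrically.Connected
import Mathlib.AlgebraicGeometry.Fiber
import Mathlib.RingTheory.FiniteType
import Mathlib.Topology.KrullDimension
import Groth.Agent.Lib.Stein6.Approx

set_option autoImplicit false
universe u
namespace FlatMor
end FlatMor
open FlatMor

namespace Groth.Agent.S1462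

open AlgebraicGeometry CategoryTheory Limits in
/-- Let f : X → S be a morphism of finite presentation between affine schemes whose fibres are
geometrically irreducible. Then f is the base change of a morphism of finite type f₀ : X₀ → S₀
between affine schemes with S₀ of finite type over ℤ, where f₀ can be chosen with the same property. -/
theorem result {X S : Scheme.{u}} (f : X ⟶ S) [IsAffine X] [IsAffine S] [LocallyOfFinitePresentation f] [GeometricallyIrreducible f] :
    ∃ (X₀ S₀ : Scheme.{u}) (f₀ : X₀ ⟶ S₀) (g : S ⟶ S₀) (g' : X ⟶ X₀), IsAffine X₀ ∧ IsAffine S₀ ∧ IsPullback g' f f₀ g ∧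
      Algebra.FiniteType ℤ Γ(S₀, ⊤) ∧ LocallyOfFiniteType f₀ ∧ GeometricallyIrreducible f₀ := by
  obtain ⟨X₀, S₀, f₀, g, g', h1, h2, h3, h4, h5, h6⟩ := Stein6.exists_approx_fibres
    (fun {X Y} f y => MoreMor.nGeomIrredComp f y = 1)
    (fun hc y' => by rw [(GeomSpread4.count_baseChange hc y').1])
    (fun f _ _ _ => GeomSpread4.isLocallyConstructible_count (fun {X Y} f y => MoreMor.nGeomIrredComp f y)
      (fun h y' => (GeomSpread4.count_baseChange h y').1)
      (fun f _ _ y => (GeomSpread4.exists_count_const f y).imp fun U h => ⟨h.1, fun y' hy' => (h.2 y' hy').1⟩) f 1)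
    f (fun y => (Stein6.geometricallyIrreducible_fibre_iff_count f y).1 (MorphismProperty.pullback_snd _ _ ‹GeometricallyIrreducible f›))
  exact ⟨X₀, S₀, f₀, g, g', h1, h2, h3, h4, h5, Stein6.geometricallyIrreducible_of_fibres f₀
    fun y => (Stein6.geometricallyIrreducible_fibre_iff_count f₀ y).2 (h6 y)⟩

end Groth.Agent.S1462
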