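import Groth.Prelude.Def_EtBase
import Mathlib.RingTheory.RingHom.Finite
import Groth.Agent.Lib.Hens.EssEtale

set_option autoImplicit false
universe u
namespace Hensel
end Hensel
open Hensel

namespace Groth.Agent.S14620

/-- In the strictly henselian case, let f : A → B be a finite local homomorphism of local rings. If A is
strictly henselian (henselian local with separably closed residue field), then so is B. -/
theorem result {A B : Type u} [CommRing A] [IsLocalRing A]
    [CommRing B] [IsLocalRing B] (f : A →+* B) (hf : f.Finite) [IsLocalHom f]
    (hA : EtCoh.IsStrictlyHenselianLocalRing A) : EtCoh.IsStrictlyHenselianLocalRing B := by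
  obtain ⟨hh, hs⟩ := hA; letI := f.toAlgebra; haveI : Module.Finite A B := hf; haveI : IsLocalHom (algebraMap A B) := ‹IsLocalHom f›; haveI := hh; haveI : IsSepClosed (IsLocalRing.ResidueField A) := hs; exact Groth.Agent.Hens.isStrictlyHenselian_of_finite A B

end Groth.Agent.S14620
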