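import Groth.Statements.S14621
import Groth.Agent.Lib.FinPres16.HomLocal
import Mathlib.CategoryTheory.Sites.Limits
import Mathlib.CategoryTheory.Limits.Types.Filtered

set_option autoImplicit false
open CategoryTheory CategoryTheory.Limits
universe u
open CohSite

namespace Groth.Agent.S14621
open Opposite Groth.Agent.FinPres16 in
theorem isIso_toSheafify_colimit {C : Type u} [SmallCategory C] [HasPullbacks C] (J : GrothendieckTopology C)
    (hJ : ∀ U : C, ToposFin.IsQCSite J U) {I : Type u} [SmallCategory I] [IsFiltered I]
    {D : I ⥤ Sheaf J (Type u)} (E : Cocone (D ⋙ sheafToPresheaf J (Type u))) (hE : IsColimit E) :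
    IsIso (toSheafify J E.pt) := by
  let η := toSheafify J E.pt
  have hev : ∀ U : C, IsColimit (((evaluation Cᵒᵖ (Type u)).obj (op U)).mapCocone E) := fun U =>
    isColimitOfPreserves ((evaluation Cᵒᵖ (Type u)).obj (op U)) hE
  have hrep : ∀ {U : C} (a : E.pt.obj (op U)), ∃ (i : I) (x : (D.obj i).obj.obj (op U)),
      (E.ι.app i).app (op U) x = a := fun {U} a => Types.jointly_surjective _ (hev U) a
  have hsep : ∀ (i : I), Presieve.IsSheaf J (D.obj i).obj := fun i =>
    (isSheaf_iff_isSheaf_of_type J _).1 (D.obj i).property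
  have hinj : ∀ {U : C} (a b : E.pt.obj (op U)), η.app (op U) a = η.app (op U) b → a = b := by
    intro U a b hab
    obtain ⟨i, x, rfl⟩ := hrep a
    obtain ⟨j, y, rfl⟩ := hrep b
    let l := IsFiltered.max i j
    let x' : (D.obj l).obj.obj (op U) := (D.map (IsFiltered.leftToMax i j)).hom.app (op U) x
    let y' : (D.obj l).obj.obj (op U) := (D.map (IsFiltered.rightToMax i j)).hom.app (op U) y
    have hx : (E.ι.app l).app (op U) x' = (E.ι.app i).app (op U) x :=
      congrArg (fun q : (D.obj i).obj ⟶ E.pt => q.app (op U) x) (E.w (IsFiltered.leftToMax i j))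
    have hy : (E.ι.app l).app (op U) y' = (E.ι.app j).app (op U) y :=
      congrArg (fun q : (D.obj j).obj ⟶ E.pt => q.app (op U) y) (E.w (IsFiltered.rightToMax i j))
    rw [← hx, ← hy] at hab ⊢
    obtain ⟨n, V, g, hg, hcov⟩ := hJ U _
      (Presheaf.equalizerSieve_mem (D := Type u) J η (X := op U) _ _ hab)
    have hst : ∀ k, ∃ (m : I) (f : l ⟶ m), (D.map f).hom.app (op (V k)) ((D.obj l).obj.map (g k).op x') =
        (D.map f).hom.app (op (V k)) ((D.obj l).obj.map (g k).op y') := fun k => by
      obtain ⟨m, f, hf⟩ := (Types.FilteredColimit.isColimit_eq_iff' (hev (V k))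
        ((D.obj l).obj.map (g k).op x') ((D.obj l).obj.map (g k).op y')).1
        ((NatTrans.naturality_apply (E.ι.app l) (g k).op x').trans
          ((hg k).trans (NatTrans.naturality_apply (E.ι.app l) (g k).op y').symm))
      exact ⟨m, f, hf⟩
    choose m f hf using hst
    obtain ⟨M, e, h, he⟩ := exists_upper_maps m f
    have key : (D.map h).hom.app (op U) x' = (D.map h).hom.app (op U) y' := by
      refine ((hsep M).isSeparated _ hcov).ext fun W q hq => ?_
      obtain ⟨_, a, _, ⟨k⟩, rfl⟩ := hq
      rw [op_comp, Functor.map_comp_apply, Functor.map_comp_apply]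
      refine congrArg _ ?_
      rw [← NatTrans.naturality_apply (D.map h).hom, ← NatTrans.naturality_apply (D.map h).hom, ← he k, D.map_comp]
      exact congrArg (fun w => (D.map (e k)).hom.app (op (V k)) w) (hf k)
    have hw : ∀ z, (E.ι.app M).app (op U) ((D.map h).hom.app (op U) z) = (E.ι.app l).app (op U) z := fun z =>
      congrArg (fun q : (D.obj l).obj ⟶ E.pt => q.app (op U) z) (E.w h)
    rw [← hw, ← hw, key]
  have hsurj : ∀ {U : C} (σ : (sheafify J E.pt).obj (op U)), ∃ a, η.app (op U) a = σ := by
    intro U σ
    obtain ⟨n, V, g, hg, hcov⟩ := hJ U _ (Presheaf.imageSieve_mem J η (U := op U) σ)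
    choose a ha using hg
    choose i x hx using fun k => hrep (a k)
    obtain ⟨l, hl⟩ := exists_upper i
    let x' : ∀ k, (D.obj l).obj.obj (op (V k)) := fun k => (D.map (hl k).some).hom.app (op (V k)) (x k)
    have hx' : ∀ k, (E.ι.app l).app (op (V k)) (x' k) = a k := fun k =>
      (congrArg (fun q : (D.obj (i k)).obj ⟶ E.pt => q.app (op (V k)) (x k)) (E.w (hl k).some)).trans (hx k)
    have hover : ∀ p : Fin n × Fin n, ∃ (m : I) (f : l ⟶ m),
        (D.map f).hom.app (op (pullback (g p.1) (g p.2))) ((D.obj l).obj.map (pullback.fst (g p.1) (g p.2)).op (x' p.1)) =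
        (D.map f).hom.app (op (pullback (g p.1) (g p.2))) ((D.obj l).obj.map (pullback.snd (g p.1) (g p.2)).op (x' p.2)) := fun p => by
      have e1 : ∀ (k : Fin n) {W : C} (q : W ⟶ V k), η.app (op W) ((E.ι.app l).app (op W) ((D.obj l).obj.map q.op (x' k))) =
          (sheafify J E.pt).map (q ≫ g k).op σ := fun k W q => by
        refine (congrArg (fun w => η.app (op W) w) ((NatTrans.naturality_apply (E.ι.app l) q.op (x' k)).trans
          (congrArg (fun w => E.pt.map q.op w) (hx' k)))).trans ?_
        rw [op_comp, Functor.map_comp_apply, ← ha]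
        exact NatTrans.naturality_apply η q.op (a k)
      obtain ⟨m, f, hf⟩ := (Types.FilteredColimit.isColimit_eq_iff' (hev (pullback (g p.1) (g p.2))) _ _).1
        (hinj _ _ ((e1 p.1 (pullback.fst (g p.1) (g p.2))).trans ((congrArg (fun q : pullback (g p.1) (g p.2) ⟶ U => (sheafify J E.pt).map q.op σ)
          pullback.condition).trans (e1 p.2 (pullback.snd (g p.1) (g p.2))).symm)))
      exact ⟨m, f, hf⟩
    choose m f hf using hover
    obtain ⟨M, e, h, he⟩ := exists_upper_maps m f
    let z : ∀ k, (D.obj M).obj.obj (op (V k)) := fun k => (D.map h).hom.app (op (V k)) (x' k)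
    have hfor : Presieve.IsSheafFor (D.obj M).obj (Presieve.ofArrows V g) := by
      rw [Presieve.isSheafFor_iff_generate]
      exact hsep M _ hcov
    haveI : (Presieve.ofArrows V g).HasPairwisePullbacks := ⟨fun _ _ => inferInstance⟩
    obtain ⟨w, hw, -⟩ := (Presieve.isSheafFor_arrows_iff_pullbacks _ _).1 hfor z (fun k k' => by
      show (D.obj M).obj.map _ _ = (D.obj M).obj.map _ _
      rw [← NatTrans.naturality_apply (D.map h).hom, ← NatTrans.naturality_apply (D.map h).hom, ← he (k, k'), D.map_comp]
      exact congrArg (fun w => (D.map (e (k, k'))).hom.app (op _) w) (hf (k, k')))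
    refine ⟨(E.ι.app M).app (op U) w, ?_⟩
    refine (((isSheaf_iff_isSheaf_of_type J _).1 ((presheafToSheaf J (Type u)).obj E.pt).property).isSeparated _
      hcov).ext fun W q hq => ?_
    obtain ⟨_, b, _, ⟨k⟩, rfl⟩ := hq
    rw [op_comp, Functor.map_comp_apply, Functor.map_comp_apply]
    refine congrArg _ ?_
    rw [← ha k]
    refine (NatTrans.naturality_apply η (g k).op _).symm.trans (congrArg (fun y => η.app (op (V k)) y) ?_)
    refine (NatTrans.naturality_apply (E.ι.app M) (g k).op w).symm.trans ?_
    refine (congrArg (fun y => (E.ι.app M).app (op (V k)) y) (hw k)).trans ?_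
    exact (congrArg (fun q : (D.obj l).obj ⟶ E.pt => q.app (op (V k)) (x' k)) (E.w h)).trans (hx' k)
  haveI : ∀ U, IsIso (η.app U) := fun U => (isIso_iff_bijective _).2
    ⟨fun a b hab => hinj (U := U.unop) a b hab, fun σ => hsurj (U := U.unop) σ⟩
  exact NatIso.isIso_of_isIso_app η


/-- Let C be a small category with pullbacks and J a Grothendieck topology on C in which every object is
quasi-compact in the site sense (every covering sieve contains finitely many morphisms which already
generate a covering sieve). Then for every small filtered category I the inclusion of sheaves of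
sets on (C, J) into presheaves preserves colimits of shape I: filtered colimits of sheaves are
computed objectwise. (Only sheaves of sets are stated; the same holds for sheaves of abelian groups
or modules. All pullbacks in C are assumed.) -/
theorem result {C : Type u} [SmallCategory C]
    [HasPullbacks C] (J : GrothendieckTopology C) (hJ : ∀ U : C, ToposFin.IsQCSite J U)
    (I : Type u) [SmallCategory I] [IsFiltered I] :
    PreservesColimitsOfShape I (sheafToPresheaf J (Type u)) := by
  refine ⟨fun {D} => ?_⟩
  let E := colimit.cocone (D ⋙ sheafToPresheaf J (Type u))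
  let hE : IsColimit E := colimit.isColimit _
  haveI : IsIso (toSheafify J E.pt) := isIso_toSheafify_colimit J hJ E hE
  refine preservesColimit_of_preserves_colimit_cocone (Sheaf.isColimitSheafifyCocone E hE) ?_
  refine IsColimit.ofIsoColimit hE (Cocone.ext (@asIso _ _ _ _ (toSheafify J E.pt) this) fun k => ?_)
  exact (Sheaf.sheafifyCocone_ι_app_val E k).symm

end Groth.Agent.S14621
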