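import Groth.Statements.S14622
import Groth.Agent.Lib.EtStalk.Agree
import Groth.Agent.Lib.LocConst24.SpecCriterion

set_option autoImplicit false
open CategoryTheory AlgebraicGeometry
universe u
open EtBase

namespace Groth.Agent.S14622
open Groth.Agent.EtStalk

/-- Let g : Y' → Y be a morphism of schemes which is surjective on points. Then for every abelian sheaf
F on the small étale site of Y the unit F → g_* g⁻¹ F of the adjunction between inverse image and
direct image is a monomorphism. -/
theorem result {Y Y' : Scheme.{u}} (g : Y' ⟶ Y) [Surjective g]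
    (F : EtCoh.Ab Y) : Mono ((EtCoh.pullPushAdj g).unit.app F) := by
  refine (mono_iff_app_injective _).2 fun W s t hst => eq_of_agree _ fun x => ?_
  obtain ⟨W⟩ := W
  obtain ⟨y, hy⟩ := g.surjective (W.hom x)
  let ζ := LocConst24.algPt Y' y
  have hζ : (ζ ≫ g) default = W.hom x := by
    rw [Scheme.Hom.comp_apply, LocConst24.algPt_default, hy]
  obtain ⟨p, hp⟩ := Scheme.pointSmallEtaleFiberObjToPreimage_surjective (ζ ≫ g) hζ W ⟨x, rfl⟩
  have hpx : fibPt p = x := congrArg Subtype.val hp
  rw [← hpx, mem_agree_iff_germ]
  apply (ConcreteCategory.bijective_of_isIso (stalkPull g ζ F)).1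
  exact (germ_stalkPull g ζ F p s).trans ((congrArg (germ ζ ((EtCoh.pull g).obj F) (liftFib g ζ p)) hst).trans
    (germ_stalkPull g ζ F p t).symm)

end Groth.Agent.S14622
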