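import Groth.Statements.S14625
import Groth.Agent.Lib.Kummer24.MuConst
import Mathlib.FieldTheory.IsSepClosed

set_option autoImplicit false
open CategoryTheory AlgebraicGeometry
universe u
open EtBase

namespace Groth.Agent.S14625

/-- Let A be a strictly henselian local ring, n ≥ 1 an integer invertible in A, and X a scheme over Spec
A. Then the étale sheaf μ_n of n-th roots of unity on X is isomorphic to the constant sheaf with
value ℤ/n. Only the existence of an isomorphism is asserted; it depends on the choice of a primitive
n-th root of unity in A. -/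
theorem result (A : Type u) [CommRing A]
    (hA : EtCoh.IsStrictlyHenselianLocalRing A) (n : ℕ) (hn : 1 ≤ n) (hu : IsUnit (n : A))
    (X : Scheme.{u}) (f : X ⟶ Spec (CommRingCat.of A)) :
    Nonempty (EtCoh.mu X n ≅ EtCoh.const X (ZMod n)) := by
  obtain ⟨hH, hsc⟩ := hA
  let k := IsLocalRing.ResidueField A
  haveI hne : NeZero (n : k) := ⟨by
    have := (hu.map (IsLocalRing.residue A)).ne_zero
    rwa [map_natCast] at this⟩
  have hsep : (Polynomial.cyclotomic n k).Separable :=
    (Polynomial.separable_X_pow_sub_C (1 : k) hne.out one_ne_zero).of_dvd (by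
      rw [Polynomial.C_1]; exact Polynomial.cyclotomic.dvd_X_pow_sub_one n k)
  obtain ⟨r, hr⟩ := IsSepClosed.exists_root (Polynomial.cyclotomic n k)
    (ne_of_gt (Polynomial.degree_cyclotomic_pos n k hn)) hsep
  obtain ⟨r₀, rfl⟩ := IsLocalRing.residue_surjective r
  obtain ⟨a, ha, -⟩ := hH.is_henselian (Polynomial.cyclotomic n A) (Polynomial.cyclotomic.monic n A) r₀
    (by
      rw [← IsLocalRing.residue_eq_zero_iff, ← Polynomial.eval₂_at_apply, ← Polynomial.eval_map,
        Polynomial.map_cyclotomic]
      exact hr)
    (by
      rw [← IsLocalRing.residue_ne_zero_iff_isUnit, ← Polynomial.eval₂_at_apply, ← Polynomial.eval_map,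
        ← Polynomial.derivative_map, Polynomial.map_cyclotomic]
      exact fun h0 => by
        have := hsep.eval₂_derivative_ne_zero (RingHom.id k) (x := IsLocalRing.residue A r₀) (by simpa using hr)
        exact this (by simpa using h0))
  let φ : A →+* Γ(X, ⊤) := ((Scheme.ΓSpecIso (CommRingCat.of A)).inv ≫ f.appTop).hom
  refine Groth.Agent.Kummer24.nonempty_mu_iso hn (by simpa using hu.map φ) (φ a) ?_
  have : Polynomial.aeval a (Polynomial.cyclotomic n ℤ) = 0 := by
    rw [Polynomial.aeval_def, ← Polynomial.eval_map, Polynomial.map_cyclotomic]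
    exact ha
  have h2 := congrArg φ this
  rw [map_zero, Polynomial.aeval_def, Polynomial.hom_eval₂] at h2
  rw [Polynomial.aeval_def]
  convert h2 using 2
  exact RingHom.ext_int _ _

end Groth.Agent.S14625
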