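import Groth.Statements.S14628
import Groth.Agent.Lib.Cech24.Quotient

set_option autoImplicit false
open CategoryTheory CategoryTheory.Limits AlgebraicGeometry
universe u
open EtBase

namespace Groth.Agent.S14628

/-- On the small étale site of a scheme, let 0 → F' → F → F'' → 0 be a short exact sequence of abelian
étale sheaves on a scheme X. If F' and F are flasque in the Čech sense (for every étale U over X and
every jointly surjective family of étale U-schemes, Čech cohomology in positive degrees vanishes),
then so is F''. The finite products of the over categories (the fibre products entering the Čech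
complexes) are carried as instance hypotheses. -/
theorem result {X : Scheme.{u}}
    [∀ U : X.Etale, HasFiniteProducts (Over U)] (S : ShortComplex (EtCoh.Ab X)) (hS : S.ShortExact)
    (h1 : (∀ (U : X.Etale) (ι : Type (u + 1)) (Uf : ι → Over U),
      (∀ x : ↥(U.left), ∃ (i : ι) (y : ↥((Uf i).left.left)), (Uf i).hom.left.base y = x) →
      ∀ p : ℕ, 0 < p → IsZero (EtCech.cechH Uf S.X₁.obj p)))
    (h2 : (∀ (U : X.Etale) (ι : Type (u + 1)) (Uf : ι → Over U),
      (∀ x : ↥(U.left), ∃ (i : ι) (y : ↥((Uf i).left.left)), (Uf i).hom.left.base y = x) →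
      ∀ p : ℕ, 0 < p → IsZero (EtCech.cechH Uf S.X₂.obj p)))
    (U : X.Etale) (ι : Type (u + 1)) (Uf : ι → Over U)
    (hU : ∀ x : ↥(U.left), ∃ (i : ι) (y : ↥((Uf i).left.left)), (Uf i).hom.left.base y = x)
    (p : ℕ) (hp : 0 < p) :
    IsZero (EtCech.cechH Uf S.X₃.obj p) := by
  exact Groth.Agent.Cech24.isZero_X₃ S hS h1 h2 U ι Uf hU p hp

end Groth.Agent.S14628
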