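import Groth.Statements.S14629
import Groth.Agent.Lib.FGA3.SqZero
-- import your own Groth.Agent.* helpers here

set_option autoImplicit false
open CategoryTheory CategoryTheory.Limits AlgebraicGeometry
universe u
open PicF

namespace Groth.Agent.S14629

attribute [local instance] M2.law

/-- Let X be a scheme and I a quasi-coherent ideal sheaf of square zero defining the closed subscheme i
: X₀ → X, and suppose H¹(X, I) = 0 for the ideal regarded as an O_X-module (Zariski cohomology).
Then two invertible O_X-modules with isomorphic pullbacks to X₀ are isomorphic: restriction of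
Picard groups along i is injective. (The published statement allows a nilpotent ideal with the same
hypothesis on I alone; its proof treats the square-zero case, which is what is stated.) -/
theorem result (X : Scheme.{u}) (I : X.IdealSheafData)
    (hI : I * I = ⊥) (h1 : Subsingleton (Coh.HH X (ClSub.idealMod I) 1))
    (c d : PicF.Cl X) (hc : PicF.IsInvertibleCl c) (hd : PicF.IsInvertibleCl d)
    (h : PicF.pullCl I.subschemeι c = PicF.pullCl I.subschemeι d) : c = d := by
  have hi : PicGrp.PullMul I.subschemeι := M2.pullMul _
  obtain ⟨L, rfl, hL⟩ := hc
  obtain ⟨L', rfl, hL'⟩ := hd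
  have h' : PicGrp.pullHom I.subschemeι hi (PicGrp.cls L hL / PicGrp.cls L' hL') = 1 := by
    rw [map_div, div_eq_one]
    exact Subtype.ext h
  obtain ⟨x, hx⟩ := (PicH1_21.pullHom_eq_one_iff hI hi _).1 h'
  rw [Subsingleton.elim x 0, map_zero] at hx
  have e : PicGrp.cls L hL = PicGrp.cls L' hL' := div_eq_one.1 (congrArg Additive.toMul hx.symm)
  exact congrArg Subtype.val e

end Groth.Agent.S14629
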