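import Groth.Statements.S14630
import Groth.Agent.Lib.Cech24.Filtered

set_option autoImplicit false
open CategoryTheory CategoryTheory.Limits AlgebraicGeometry
universe u
open EtBase

namespace Groth.Agent.S14630

/-- On the small étale site of a quasi-compact quasi-separated scheme, let X be a quasi-compact
quasi-separated scheme, U an étale X-scheme quasi-compact and quasi-separated over X, and (U_i → U)
a finite family of étale U-schemes each quasi-compact and quasi-separated over X. Then for every q
and every small filtered category I, the functor F ↦ Ȟ^q((U_i → U), F) on abelian étale sheaves on X
preserves colimits of shape I. The finite products of the over category (the fibre products entering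
the Čech complex) are carried as an instance hypothesis. (The published statement is for an
arbitrary covering family, reduced to a finite one without argument; this row takes a finite family,
which need not cover U.) -/
theorem result (X : Scheme.{u}) [CompactSpace ↥X]
    [QuasiSeparatedSpace ↥X] (U : X.Etale) [QuasiCompact U.hom] [QuasiSeparated U.hom]
    [HasFiniteProducts (Over U)] (ι : Type (u + 1)) [Finite ι] (Uf : ι → Over U)
    [∀ i, QuasiCompact (Uf i).left.hom] [∀ i, QuasiSeparated (Uf i).left.hom]
    (q : ℕ) (I : Type (u + 1)) [SmallCategory I] [IsFiltered I] :
    PreservesColimitsOfShape I
      (sheafToPresheaf X.smallEtaleTopology AddCommGrpCat.{u + 1} ⋙ EtCech.cechHFunctor Uf q) := by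
  exact Groth.Agent.Cech24.preservesColimitsOfShape_cechH Uf q I

end Groth.Agent.S14630
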