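import Groth.Statements.S14632
import Groth.Agent.S14621
import Groth.Agent.Lib.EtColim.Site

set_option autoImplicit false
set_option maxHeartbeats 1000000
set_option backward.isDefEq.respectTransparency false
set_option backward.isDefEq.respectTransparency.types false
set_option linter.style.haveILetI false
open CategoryTheory CategoryTheory.Limits AlgebraicGeometry Opposite
universe u
open EtBase

namespace Groth.Agent.S14632

/-- Take a quasi-compact quasi-separated scheme X and an étale X-scheme U which is quasi-compact and
quasi-separated, i.e. of finite presentation, over X. Then for every small filtered category I the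
functor taking a sheaf of sets on the small étale site of X to its sections over U preserves
colimits of shape I: sections over U of a filtered colimit of sheaves are the colimit of the
sections. (Sheaves are valued in types one universe above the schemes, as elsewhere in this
library.) -/
theorem result (X : Scheme.{u}) [CompactSpace ↥X]
    [QuasiSeparatedSpace ↥X] (U : X.Etale) [QuasiCompact U.hom] [QuasiSeparated U.hom]
    (I : Type (u + 1)) [SmallCategory I] [IsFiltered I] :
    PreservesColimitsOfShape I
      (sheafToPresheaf X.smallEtaleTopology (Type (u + 1)) ⋙ (evaluation X.Etaleᵒᵖ (Type (u + 1))).obj (op U)) := by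
  haveI : CompactSpace ↥((Functor.fromPUnit X).obj U.right) := ‹CompactSpace ↥X›
  haveI : QuasiSeparatedSpace ↥((Functor.fromPUnit X).obj U.right) := ‹QuasiSeparatedSpace ↥X›
  haveI : CompactSpace ↥U.left := QuasiCompact.compactSpace_of_compactSpace U.hom
  haveI : QuasiSeparatedSpace ↥U.left := quasiSeparatedSpace_of_quasiSeparated U.hom
  let U' : Groth.Agent.EtColim.QCSite X := ULiftHom.objUp ⟨U, inferInstance, inferInstance⟩
  haveI := Groth.Agent.S14621.result (Groth.Agent.EtColim.qcTop X) (Groth.Agent.EtColim.isQCSite X) I
  let R := (Groth.Agent.EtColim.incl X).sheafPushforwardContinuous (Type (u + 1)) (Groth.Agent.EtColim.qcTop X) X.smallEtaleTopology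
  haveI : R.IsEquivalence := inferInstance
  exact inferInstanceAs (PreservesColimitsOfShape I (R ⋙ (sheafToPresheaf (Groth.Agent.EtColim.qcTop X) (Type (u + 1)) ⋙
    (evaluation (Groth.Agent.EtColim.QCSite X)ᵒᵖ (Type (u + 1))).obj (op U'))))

end Groth.Agent.S14632
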