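import Groth.Statements.S14633
import Groth.Agent.Lib.RigidFld19.Scheme

set_option autoImplicit false
universe u
open CategoryTheory MonoidalCategory CartesianMonoidalCategory MonObj GrpObj AlgebraicGeometry CategoryTheory.Limits
open AlgGrp

namespace Groth.Agent.S14633

/-- Over a field k, let G be a smooth connected k-group scheme of finite type and let Z be a reduced
k-scheme of finite type of dimension at most 0 (for Z empty the conclusion is immediate). Then every
action of G on Z is trivial: the action morphism G × Z → Z is the second projection. -/
theorem result (k : Type u) [Field k]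
    (G Z : Over (Spec (CommRingCat.of k))) [GrpObj G] [Smooth G.hom] [QuasiCompact G.hom] [ConnectedSpace ↥G.left]
    [LocallyOfFiniteType Z.hom] [QuasiCompact Z.hom] [IsReduced Z.left] (hdim : topologicalKrullDim ↥Z.left ≤ 0)
    (a : AlgGrp.Action G Z) : a.act = CartesianMonoidalCategory.snd G Z := by
  have : IsLocallyNoetherian Z.left := LocallyOfFiniteType.isLocallyNoetherian Z.hom
  have := IsLocallyArtinian.of_topologicalKrullDim_le_zero hdim
  exact RigidFld19.act_eq_snd G Z a

end Groth.Agent.S14633
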