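import Groth.Statements.S4643
import Groth.Agent.Lib.DimF18.Prod

set_option autoImplicit false
open CategoryTheory AlgebraicGeometry
universe u
open FBase

namespace Groth.Agent.S4643

open CategoryTheory.Limits in
/-- Let X and Y be schemes locally of finite type over a field k. Then the dimension of X ×_k Y is the
sum of the dimensions of X and Y (Krull dimensions of the underlying spaces, valued in WithBot ℕ∞,
the empty scheme having dimension ⊥). -/
theorem result {k : Type u} [Field k] {X Y : Scheme.{u}}
    (f : X ⟶ Spec (CommRingCat.of k)) (g : Y ⟶ Spec (CommRingCat.of k)) [LocallyOfFiniteType f] [LocallyOfFiniteType g] :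
    topologicalKrullDim ↥(pullback f g) = topologicalKrullDim ↥X + topologicalKrullDim ↥Y := by
  show topologicalKrullDim ↥(pullback f g : Scheme.{u}) = _
  rw [VarDim.dim_eq_iSup_sdim (pullback.fst f g ≫ f), VarDim.dim_eq_iSup_sdim f, VarDim.dim_eq_iSup_sdim g]
  refine le_antisymm (iSup_le fun z => ?_) ?_
  · refine le_trans ?_ (add_le_add (le_iSup _ (pullback.fst f g z)) (le_iSup _ (pullback.snd f g z)))
    exact_mod_cast (DimF18.sdim_prod f g z).1
  · rcases isEmpty_or_nonempty X with hX | hX
    · rw [iSup_of_empty, WithBot.bot_add]; exact bot_le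
    rcases isEmpty_or_nonempty Y with hY | hY
    · rw [iSup_of_empty (fun y : Y => _), WithBot.add_bot]; exact bot_le
    have cast : ∀ n : ℕ, ((n : ℕ) : WithBot ℕ∞) = (((n : ℕ∞)) : WithBot ℕ∞) := fun n => rfl
    simp only [cast]
    rw [← WithBot.coe_iSup (OrderTop.bddAbove _), ← WithBot.coe_iSup (OrderTop.bddAbove _)]
    haveI : Nonempty ↥(pullback f g : Scheme.{u}) :=
      ⟨(DimF18.exists_prod_sdim f g hX.some hY.some).choose⟩
    rw [← WithBot.coe_iSup (OrderTop.bddAbove _), ← WithBot.coe_add, WithBot.coe_le_coe]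
    refine ENat.iSup_add_iSup_le fun x y => ?_
    obtain ⟨m, hm⟩ := DimF18.exists_prod_sdim f g x y
    refine le_trans (le_of_eq ?_) (le_iSup _ m)
    rw [hm]
    push_cast
    rfl

end Groth.Agent.S4643
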