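import Groth.Statements.S14634
import Groth.Agent.S4643
import Groth.Agent.Lib.AbRigid.Connected
import Groth.Agent.Lib.AbRigid.SmoothGI
import Groth.Agent.Lib.AbRigid.Epi
import Groth.Agent.Lib.SheafVan16.Noetherian
-- import your own Groth.Agent.* helpers here

set_option autoImplicit false
universe u
open CategoryTheory MonoidalCategory CartesianMonoidalCategory MonObj GrpObj AlgebraicGeometry CategoryTheory.Limits
open AlgGrp
open TopologicalSpace MonoidalCategory CartesianMonoidalCategory MonObj

namespace Groth.Agent.S14634

set_option linter.style.haveILetI false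
set_option backward.isDefEq.respectTransparency.types false


/-- Over a field k, let G be a smooth connected k-group scheme of finite type acting on a curve C, i.e.
a separated, geometrically integral k-scheme of finite type of dimension 1. Then C is almost
homogeneous under G, meaning that the graph morphism G × C → C × C, (g, x) ↦ (x, g·x), is dominant,
if and only if the action is not the trivial one (the action morphism is not the second projection). -/
theorem result (k : Type u) [Field k]
    (G C : Over (Spec (CommRingCat.of k))) [GrpObj G] [Smooth G.hom] [QuasiCompact G.hom] [ConnectedSpace ↥G.left]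
    [IsSeparated C.hom] [LocallyOfFiniteType C.hom] [QuasiCompact C.hom] [GeometricallyIntegral C.hom] (hdim : topologicalKrullDim ↥C.left = 1)
    (a : AlgGrp.Action G C) :
    IsDominant (CartesianMonoidalCategory.lift (CartesianMonoidalCategory.snd G C) a.act).left ↔
      a.act ≠ CartesianMonoidalCategory.snd G C := by
  classical
haveI : GeometricallyReduced G.hom := AbRigid.geometricallyReduced_of_smooth G.hom
haveI : GeometricallyIntegral G.hom := AbRigid.geometricallyIntegral_of_connected G
haveI := AbRigid.geometricallyIntegral_tensorObj G C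
haveI := AbRigid.geometricallyIntegral_tensorObj C C
haveI : IsLocallyNoetherian C.left := LocallyOfFiniteType.isLocallyNoetherian C.hom
haveI hLFTGC : LocallyOfFiniteType (G ⊗ C).hom := inferInstanceAs (LocallyOfFiniteType (pullback.fst G.hom C.hom ≫ G.hom))
haveI hLFTCC : LocallyOfFiniteType (C ⊗ C).hom := inferInstanceAs (LocallyOfFiniteType (pullback.fst C.hom C.hom ≫ C.hom))
haveI : IsLocallyNoetherian (G ⊗ C).left := LocallyOfFiniteType.isLocallyNoetherian (G ⊗ C).hom
haveI : IsLocallyNoetherian (C ⊗ C).left := LocallyOfFiniteType.isLocallyNoetherian (C ⊗ C).hom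
haveI : IsIntegral (G ⊗ C).left := GeometricallyIntegral.isIntegral_of_subsingleton (G ⊗ C).hom
haveI : IsIntegral (C ⊗ C).left := GeometricallyIntegral.isIntegral_of_subsingleton (C ⊗ C).hom
let Δ : C ⟶ C ⊗ C := CartesianMonoidalCategory.lift (𝟙 C) (𝟙 C)
haveI : IsClosedImmersion Δ.left := by
  haveI : IsSeparated (CartesianMonoidalCategory.fst C C).left := inferInstanceAs (IsSeparated (pullback.fst C.hom C.hom))
  haveI : IsClosedImmersion (Δ.left ≫ (CartesianMonoidalCategory.fst C C).left) := by
    rw [← Over.comp_left, CartesianMonoidalCategory.lift_fst, Over.id_left]; infer_instance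
  exact IsClosedImmersion.of_comp Δ.left (CartesianMonoidalCategory.fst C C).left
set A := CartesianMonoidalCategory.lift (CartesianMonoidalCategory.snd G C) a.act with hA
have hd2 : topologicalKrullDim ↥(C ⊗ C).left = 1 + 1 := by
  show topologicalKrullDim ↥(pullback C.hom C.hom) = _
  rw [Groth.Agent.S4643.result C.hom C.hom, hdim]
have hd1 : topologicalKrullDim ↥(Set.range Δ.left.base) = 1 := by
  rw [← IsHomeomorph.topologicalKrullDim_eq _ Δ.left.isClosedEmbedding.isEmbedding.toHomeomorph.isHomeomorph, hdim]
constructor
· intro hdom heq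
  have e : A = CartesianMonoidalCategory.snd G C ≫ Δ := by
    rw [hA, heq, CartesianMonoidalCategory.comp_lift, Category.comp_id]
  have hu : Set.range Δ.left.base = Set.univ := by
    refine Set.eq_univ_of_univ_subset ?_
    rw [← hdom.denseRange.closure_range]
    refine closure_minimal ?_ Δ.left.isClosedEmbedding.isClosed_range
    rw [e, Over.comp_left, Scheme.Hom.comp_base, TopCat.coe_comp]
    exact Set.range_comp_subset_range _ _
  rw [hu, IsHomeomorph.topologicalKrullDim_eq _ (Homeomorph.Set.univ _).isHomeomorph, hd2] at hd1
  exact absurd hd1 (by decide)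
· intro hne
  by_contra hnd
  let d : Closeds ↥(C ⊗ C).left := ⟨closure (Set.range A.left.base), isClosed_closure⟩
  let d' : Closeds ↥(C ⊗ C).left := ⟨Set.range Δ.left.base, Δ.left.isClosedEmbedding.isClosed_range⟩
  have hlt : d < ⊤ := lt_top_iff_ne_top.2 fun e => hnd ⟨dense_iff_closure_eq.2
    (congrArg (fun c : Closeds ↥(C ⊗ C).left => (c : Set (C ⊗ C).left)) e)⟩
  have hirr : IsIrreducible (d : Set (C ⊗ C).left) := by
    refine IsIrreducible.closure ?_
    rw [← Set.image_univ]
    exact (IrreducibleSpace.isIrreducible_univ _).image _ A.left.continuous.continuousOn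
  have hle : d' ≤ d := by
    refine subset_closure.trans' ?_
    have e : CartesianMonoidalCategory.lift (toUnit C ≫ η[G]) (𝟙 C) ≫ A = Δ := by
      have h1 : CartesianMonoidalCategory.lift (toUnit C) (𝟙 C) ≫ (η[G] ▷ C) =
          CartesianMonoidalCategory.lift (toUnit C ≫ η[G]) (𝟙 C) := CartesianMonoidalCategory.lift_whiskerRight _ _ _
      rw [hA, CartesianMonoidalCategory.comp_lift, CartesianMonoidalCategory.lift_snd]
      conv_lhs => rw [← h1, Category.assoc, a.one_act]
      rw [leftUnitor_hom, CartesianMonoidalCategory.lift_snd]
    show Set.range Δ.left.base ⊆ Set.range A.left.base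
    rw [← e, Over.comp_left, Scheme.Hom.comp_base, TopCat.coe_comp]
    exact Set.range_comp_subset_range _ _
  have h1 : topologicalKrullDim ↥(d : Set (C ⊗ C).left) ≤ (1 : ℕ) := by
    refine (SheafVan16.dim_lt (Z := ⊤) (IrreducibleSpace.isIrreducible_univ _) hlt (n := 2) ?_).2 1 rfl
    refine le_of_eq ?_
    exact (IsHomeomorph.topologicalKrullDim_eq _ (Homeomorph.Set.univ _).isHomeomorph).trans hd2
  have heq : d' = d := by
    by_contra hne'
    have := (SheafVan16.dim_lt hirr (lt_of_le_of_ne hle hne') h1).2 0 rfl
    rw [show topologicalKrullDim ↥(d' : Set (C ⊗ C).left) = 1 from hd1] at this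
    exact absurd this (by decide)
  have hsub : Set.range A.left.base ⊆ Set.range Δ.left.base := by
    have := congrArg (fun c : Closeds ↥(C ⊗ C).left => (c : Set (C ⊗ C).left)) heq
    exact subset_closure.trans this.ge
  haveI : Surjective (pullback.fst A.left Δ.left) := ⟨fun x => by
    rw [← Set.mem_range, Scheme.Pullback.range_fst]
    exact hsub ⟨x, rfl⟩⟩
  haveI : IsIso (pullback.fst A.left Δ.left) := isIso_of_isClosedImmersion_of_surjective _
  obtain ⟨l, hl⟩ : ∃ l, A.left = l ≫ Δ.left :=
    ⟨inv (pullback.fst A.left Δ.left) ≫ pullback.snd A.left Δ.left, by rw [Category.assoc, ← pullback.condition, IsIso.inv_hom_id_assoc]⟩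
  apply hne
  ext : 1
  have e1 : a.act.left = l := by
    have := congrArg (· ≫ (CartesianMonoidalCategory.snd C C).left) hl
    simp only [Category.assoc, ← Over.comp_left, hA, Δ, CartesianMonoidalCategory.lift_snd] at this
    simpa using this
  have e2 : (CartesianMonoidalCategory.snd G C).left = l := by
    have := congrArg (· ≫ (CartesianMonoidalCategory.fst C C).left) hl
    simp only [Category.assoc, ← Over.comp_left, hA, Δ, CartesianMonoidalCategory.lift_fst] at this
    simpa using this
  rw [e1, e2]

end Groth.Agent.S14634
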