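import Groth.Statements.S14636
import Groth.Agent.S1585
import Groth.Agent.S2351
import Groth.Agent.Lib.OverProd19.Basic
-- import your own Groth.Agent.* helpers here

set_option autoImplicit false
universe u
open CategoryTheory MonoidalCategory CartesianMonoidalCategory MonObj GrpObj AlgebraicGeometry CategoryTheory.Limits
open AlgGrp

namespace Groth.Agent.S14636

set_option linter.style.haveILetI false
set_option backward.isDefEq.respectTransparency.types false


/-- Over a field k, let G be a smooth connected k-group scheme of finite type acting on a variety X (a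
separated, geometrically integral k-scheme of finite type), let ν : X̃ → X be the normalization of
X, and let G act on X̃ so that ν is equivariant (such an action exists and is unique). Then X is
almost homogeneous, i.e. the graph morphism G × X → X × X, (g, x) ↦ (x, g·x), is dominant, if and
only if X̃ is almost homogeneous for the lifted action. (The quasi-compactness and
quasi-separatedness binders on the morphism from the generic point always hold; they are only needed
to form the normalization.) -/
theorem result (k : Type u) [Field k]
    (G X : Over (Spec (CommRingCat.of k))) [GrpObj G] [Smooth G.hom] [QuasiCompact G.hom] [ConnectedSpace ↥G.left]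
    [IsSeparated X.hom] [LocallyOfFiniteType X.hom] [QuasiCompact X.hom] [GeometricallyIntegral X.hom] [IsIntegral X.left] [QuasiCompact (X.left.fromSpecStalk (genericPoint ↥X.left))] [QuasiSeparated (X.left.fromSpecStalk (genericPoint ↥X.left))]
    (a : AlgGrp.Action G X)
    (b : AlgGrp.Action G (Over.mk (Curv2.normalizationι X.left ≫ X.hom)))
    (hb : (G ◁ (Over.homMk (Curv2.normalizationι X.left) rfl : Over.mk (Curv2.normalizationι X.left ≫ X.hom) ⟶ X)) ≫ a.act =
      b.act ≫ Over.homMk (Curv2.normalizationι X.left) rfl) :
    IsDominant (CartesianMonoidalCategory.lift (CartesianMonoidalCategory.snd G X) a.act).left ↔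
      IsDominant (CartesianMonoidalCategory.lift
        (CartesianMonoidalCategory.snd G (Over.mk (Curv2.normalizationι X.left ≫ X.hom))) b.act).left := by
  classical
letI : X.left.Over (Spec (CommRingCat.of k)) := ⟨X.hom⟩
haveI : LocallyOfFiniteType (X.left ↘ Spec (CommRingCat.of k)) := ‹LocallyOfFiniteType X.hom›
obtain ⟨hfin, -, ⟨V, hV, hiso⟩, hint, -⟩ := Groth.Agent.S1585.result k X.left
obtain ⟨-, -, hsurj, -⟩ := Groth.Agent.S2351.result X.left
haveI := hfin; haveI := hsurj; haveI := hint; haveI := hiso
haveI : LocallyOfFiniteType (Over.mk (Curv2.normalizationι X.left ≫ X.hom)).hom :=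
  inferInstanceAs (LocallyOfFiniteType (Curv2.normalizationι X.left ≫ X.hom))
haveI : IsIso ((Over.homMk (Curv2.normalizationι X.left) rfl : Over.mk (Curv2.normalizationι X.left ≫ X.hom) ⟶ X).left ∣_ V) := hiso
haveI : Surjective (Over.homMk (Curv2.normalizationι X.left) rfl : Over.mk (Curv2.normalizationι X.left ≫ X.hom) ⟶ X).left := hsurj
haveI : IrreducibleSpace ↥(Over.mk (Curv2.normalizationι X.left ≫ X.hom)).left :=
  inferInstanceAs (IrreducibleSpace ↥(Curv2.normalization X.left))
exact OverProd19.isDominant_graph_iff _ V hV a.act b.act hb

end Groth.Agent.S14636
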