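import Groth.Statements.S14637
import Groth.Agent.Lib.GmLaw19.Basic
import Groth.Agent.Lib.GrpAlgClosed19.Descent

set_option autoImplicit false
universe u
open CategoryTheory MonoidalCategory CartesianMonoidalCategory MonObj GrpObj AlgebraicGeometry CategoryTheory.Limits
open AlgGrp

namespace Groth.Agent.S14637

set_option linter.style.haveILetI false
set_option backward.isDefEq.respectTransparency.types false
open Groth.Agent Groth.Agent.GrpAlgClosed19 LaurentPolynomial

noncomputable section
variable {k : Type u} [Field k]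

def ev {R : Type u} [CommRing R] [Algebra k R] (a : Rˣ) : k[T;T⁻¹] →ₐ[k] R :=
  { eval₂ (algebraMap k R) a with
    commutes' := fun r => by
      show eval₂ (algebraMap k R) a (algebraMap k k[T;T⁻¹] r) = _
      rw [← C_eq_algebraMap, eval₂_C] }

def tUnit : (k[T;T⁻¹])ˣ := ⟨T 1, T (-1), by rw [← T_add]; simp, by rw [← T_add]; simp⟩

theorem ev_T {R : Type u} [CommRing R] [Algebra k R] (a : Rˣ) :
    Units.map (ev (k := k) a).toRingHom.toMonoidHom tUnit = a := by
  refine Units.ext ?_
  show eval₂ (algebraMap k R) a (T 1) = _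
  rw [eval₂_T, zpow_one]

theorem T_eq_zpow (n : ℤ) : ((tUnit (k := k) ^ n : (k[T;T⁻¹])ˣ) : k[T;T⁻¹]) = T n := by
  induction n using Int.induction_on with
  | zero => simp
  | succ m ih => rw [zpow_add, Units.val_mul, ih, zpow_one, T_add]; rfl
  | pred m ih => rw [sub_eq_add_neg, zpow_add, Units.val_mul, ih, T_add, zpow_neg_one]; rfl

theorem ev_self {R : Type u} [CommRing R] [Algebra k R] (φ : k[T;T⁻¹] →ₐ[k] R) :
    ev (Units.map φ.toRingHom.toMonoidHom tUnit) = φ := by
  have hT : ∀ n : ℤ, ev (k := k) (Units.map φ.toRingHom.toMonoidHom tUnit) (T n : k[T;T⁻¹]) = φ (T n : k[T;T⁻¹]) := by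
    intro n
    show eval₂ (algebraMap k R) _ (T n) = φ (T n)
    rw [eval₂_T, ← map_zpow, Units.coe_map, T_eq_zpow]
    rfl
  refine AlgHom.ext fun p => ?_
  induction p using LaurentPolynomial.induction_on' with
  | add p q hp hq => rw [map_add, map_add, hp, hq]
  | C_mul_T n a => rw [map_mul, map_mul, hT, C_eq_algebraMap, AlgHom.commutes, AlgHom.commutes]

theorem exists_alg {A R : Type u} [CommRing A] [Algebra k A] [CommRing R] [Algebra k R]
    (w : specObj k R ⟶ specObj k A) : ∃ φ : A →ₐ[k] R, specHom φ = w := by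
  obtain ⟨α, hα⟩ : ∃ α : CommRingCat.of A ⟶ CommRingCat.of R, Spec.map α = w.left :=
    ⟨Spec.preimage w.left, Spec.map_preimage _⟩
  have e : Spec.map (CommRingCat.ofHom (algebraMap k A) ≫ α) = Spec.map (CommRingCat.ofHom (algebraMap k R)) := by
    rw [Spec.map_comp, hα]
    exact Over.w w
  have e' := congrArg CommRingCat.Hom.hom (Spec.map_injective e)
  exact ⟨{ α.hom with commutes' := fun r => RingHom.congr_fun e' r }, Over.OverMorphism.ext hα⟩

variable (G : Over (Spec (CommRingCat.of k))) [GrpObj G]
  (e : G.left ≅ Spec (CommRingCat.of (LaurentPolynomial k)))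
  (he : e.hom ≫ Spec.map (CommRingCat.ofHom (algebraMap k (LaurentPolynomial k))) = G.hom)

/-- The coordinate. -/
def coord (S : Over (Spec (CommRingCat.of k))) (g : S ⟶ G) : (Γ(S.left, ⊤))ˣ :=
  Units.map ((g.left ≫ e.hom).appTop.hom.comp
    (Scheme.ΓSpecIso (CommRingCat.of (LaurentPolynomial k))).inv.hom).toMonoidHom tUnit

def eOver : G ≅ specObj k k[T;T⁻¹] := Over.isoMk e he

def pt {R : Type u} [CommRing R] [Algebra k R] (a : Rˣ) : specObj k R ⟶ G :=
  specHom (ev a) ≫ (eOver G e he).inv

theorem coord_pt {R : Type u} [CommRing R] [Algebra k R] (a : Rˣ) :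
    coord G e (specObj k R) (pt G e he a) =
      Units.map (Scheme.ΓSpecIso (CommRingCat.of R)).inv.hom.toMonoidHom a := by
  have h : (pt G e he a).left ≫ e.hom = Spec.map (CommRingCat.ofHom (ev (k := k) a).toRingHom) := by
    show (_ ≫ e.inv) ≫ e.hom = _
    rw [Category.assoc, Iso.inv_hom_id, Category.comp_id]
    rfl
  conv_rhs => rw [← ev_T (k := k) a]
  refine Units.ext ?_
  show ((pt G e he a).left ≫ e.hom).appTop.hom _ = _
  rw [h]
  exact (ConcreteCategory.congr_hom (Scheme.ΓSpecIso_inv_naturality (CommRingCat.ofHom (ev (k := k) a).toRingHom)) (T 1)).symm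

theorem coord_comp {S S' : Over (Spec (CommRingCat.of k))} (s : S' ⟶ S) (g : S ⟶ G) :
    coord G e S' (s ≫ g) = Units.map s.left.appTop.hom.toMonoidHom (coord G e S g) := by
  refine Units.ext ?_
  show ((s ≫ g).left ≫ e.hom).appTop.hom _ = s.left.appTop.hom ((g.left ≫ e.hom).appTop.hom _)
  rw [Over.comp_left, Category.assoc, Scheme.Hom.comp_appTop]
  rfl

/-- The value of an affine point. -/
def val {R : Type u} [CommRing R] [Algebra k R] (x : specObj k R ⟶ G) : Rˣ :=
  Units.map (Scheme.ΓSpecIso (CommRingCat.of R)).hom.hom.toMonoidHom (coord G e (specObj k R) x)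

theorem val_pt {R : Type u} [CommRing R] [Algebra k R] (a : Rˣ) : val G e (pt G e he a) = a := by
  rw [val, coord_pt]
  exact Units.ext (by exact ConcreteCategory.congr_hom (Scheme.ΓSpecIso (CommRingCat.of R)).inv_hom_id (a : R))

theorem pt_val {R : Type u} [CommRing R] [Algebra k R] (x : specObj k R ⟶ G) : pt G e he (val G e x) = x := by
  obtain ⟨φ, hφ⟩ := exists_alg (x ≫ (eOver G e he).hom)
  have hx : x = pt G e he (Units.map φ.toRingHom.toMonoidHom tUnit) := by
    rw [pt, ev_self, hφ, Category.assoc, Iso.hom_inv_id, Category.comp_id]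
  rw [hx, val_pt]

theorem val_comp {R R' : Type u} [CommRing R] [Algebra k R] [CommRing R'] [Algebra k R']
    (φ : R →ₐ[k] R') (x : specObj k R ⟶ G) :
    val G e (specHom φ ≫ x) = Units.map φ.toRingHom.toMonoidHom (val G e x) := by
  rw [val, val, coord_comp]
  exact Units.ext (by exact ConcreteCategory.congr_hom (Scheme.ΓSpecIso_naturality (CommRingCat.ofHom φ.toRingHom)) _)

def op (R : Type u) [CommRing R] [Algebra k R] (a b : Rˣ) : Rˣ := val G e (pt G e he a * pt G e he b)

end

/-- Over a field k, the only structure of algebraic group on the punctured affine line Spec k[T, T⁻¹]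
with unit element the point T = 1 is the multiplicative group. Precisely: let G be a k-group scheme
and e an isomorphism of k-schemes from the underlying scheme of G to Spec k[T, T⁻¹] under which the
unit section has T-coordinate 1; then for every k-scheme S and all S-valued points g, h of G, the
T-coordinate of g · h (the pull-back of the global function T along the point composed with e) is
the product of the T-coordinates of g and of h. -/
theorem result (k : Type u) [Field k]
    (G : Over (Spec (CommRingCat.of k))) [GrpObj G]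
    (e : G.left ≅ Spec (CommRingCat.of (LaurentPolynomial k)))
    (he : e.hom ≫ Spec.map (CommRingCat.ofHom (algebraMap k (LaurentPolynomial k))) = G.hom)
    (hunit : ((η[G]).left ≫ e.hom).appTop.hom ((Scheme.ΓSpecIso (CommRingCat.of (LaurentPolynomial k))).inv.hom (LaurentPolynomial.T 1)) = 1)
    (S : Over (Spec (CommRingCat.of k))) (g h : S ⟶ G) :
    ((g * h).left ≫ e.hom).appTop.hom ((Scheme.ΓSpecIso (CommRingCat.of (LaurentPolynomial k))).inv.hom (LaurentPolynomial.T 1)) =
      (g.left ≫ e.hom).appTop.hom ((Scheme.ΓSpecIso (CommRingCat.of (LaurentPolynomial k))).inv.hom (LaurentPolynomial.T 1)) * (h.left ≫ e.hom).appTop.hom ((Scheme.ΓSpecIso (CommRingCat.of (LaurentPolynomial k))).inv.hom (LaurentPolynomial.T 1)) := by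
  have hone : ∀ (R : Type u) [CommRing R] [Algebra k R],
      val G e (1 : specObj k R ⟶ G) = 1 := by
    intro R _ _
    have h1 : coord G e (𝟙_ _) η[G] = 1 := Units.ext hunit
    rw [val, Hom.one_def, coord_comp, h1, map_one, map_one]
  have hop : ∀ (R : Type u) [CommRing R] [Algebra k R] (a b : Rˣ), op G e he R a b = a * b := by
    intro R _ _ a b
    have := GmLaw19.op_eq (fun R i j => @op k _ G _ e he R i j)
      (fun R R' _ _ _ _ φ a b => by
        show Units.map _ (op G e he R a b) = op G e he R' _ _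
        rw [op, op, ← val_comp, MonObj.comp_mul]
        congr 2 <;> rw [← pt_val G e he (specHom φ ≫ pt G e he _), val_comp, val_pt])
      1
      (fun R _ _ a => by
        show op G e he R a _ = a
        rw [map_one, op, ← hone R, pt_val, _root_.mul_one, val_pt])
      (fun R _ _ b => by
        show op G e he R _ b = b
        rw [map_one, op, ← hone R, pt_val, _root_.one_mul, val_pt]) R a b
    simpa using this
  letI : Algebra k Γ(S.left, ⊤) := ((Scheme.ΓSpecIso (CommRingCat.of k)).inv ≫ S.hom.appTop).hom.toAlgebra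
  let q : S ⟶ specObj k Γ(S.left, ⊤) := Over.homMk S.left.toSpecΓ (by
    show S.left.toSpecΓ ≫ Spec.map (CommRingCat.ofHom (algebraMap k Γ(S.left, ⊤))) = S.hom
    have : CommRingCat.ofHom (algebraMap k Γ(S.left, ⊤)) = (Scheme.ΓSpecIso (CommRingCat.of k)).inv ≫ S.hom.appTop := rfl
    rw [this, Spec.map_comp, ← Category.assoc, ← Scheme.toSpecΓ_naturality, Category.assoc,
      toSpecΓ_SpecMap_ΓSpecIso_inv (CommRingCat.of k), Category.comp_id])
  have hq : ∀ x : specObj k Γ(S.left, ⊤) ⟶ G, coord G e S (q ≫ x) = val G e x := by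
    intro x
    rw [coord_comp, val]
    refine Units.ext ?_
    show S.left.toSpecΓ.appTop _ = _
    rw [Scheme.toSpecΓ_appTop]
    rfl
  have hfac : ∀ x : S ⟶ G, ∃ a, q ≫ pt G e he a = x := by
    intro x
    haveI : IsAffine G.left := IsAffine.of_isIso e.hom
    have hcom : (Scheme.ΓSpecIso (CommRingCat.of k)).inv ≫ S.hom.appTop =
        ((Scheme.ΓSpecIso (CommRingCat.of k)).inv ≫ G.hom.appTop) ≫ x.left.appTop := by
      rw [Category.assoc, ← Scheme.Hom.comp_appTop, Over.w x]
    let x' : specObj k Γ(S.left, ⊤) ⟶ G := Over.homMk (Spec.map x.left.appTop ≫ G.left.isoSpec.inv) (by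
      show (Spec.map x.left.appTop ≫ G.left.isoSpec.inv) ≫ G.hom = Spec.map (CommRingCat.ofHom (algebraMap k _))
      have : CommRingCat.ofHom (algebraMap k Γ(S.left, ⊤)) = (Scheme.ΓSpecIso (CommRingCat.of k)).inv ≫ S.hom.appTop := rfl
      rw [this, hcom, Category.assoc, Spec.map_comp, Spec.map_comp]
      congr 1
      rw [Iso.inv_comp_eq]
      show G.hom = G.left.toSpecΓ ≫ _
      rw [← Category.assoc, ← Scheme.toSpecΓ_naturality, Category.assoc,
        toSpecΓ_SpecMap_ΓSpecIso_inv (CommRingCat.of k), Category.comp_id])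
    refine ⟨val G e x', ?_⟩
    rw [pt_val]
    refine Over.OverMorphism.ext ?_
    show S.left.toSpecΓ ≫ Spec.map x.left.appTop ≫ G.left.isoSpec.inv = x.left
    rw [← Scheme.toSpecΓ_naturality_assoc, Scheme.toSpecΓ_isoSpec_inv, Category.comp_id]
  obtain ⟨a, rfl⟩ := hfac g
  obtain ⟨b, rfl⟩ := hfac h
  have := congrArg Units.val (hq (pt G e he a * pt G e he b))
  rw [MonObj.comp_mul] at this
  refine this.trans ?_
  show (op G e he _ a b : Γ(S.left, ⊤)) = _
  rw [hop, Units.val_mul]
  exact congrArg₂ (· * ·) (congrArg Units.val ((hq _).trans (val_pt G e he a))).symm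
    (congrArg Units.val ((hq _).trans (val_pt G e he b))).symm

end Groth.Agent.S14637
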