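import Groth.Statements.S14638
import Groth.Agent.Lib.OpenOrbit19.Basic
-- import your own Groth.Agent.* helpers here

set_option autoImplicit false
universe u
open CategoryTheory MonoidalCategory CartesianMonoidalCategory MonObj GrpObj AlgebraicGeometry CategoryTheory.Limits
open AlgGrp

namespace Groth.Agent.S14638

set_option linter.style.haveILetI false
set_option backward.isDefEq.respectTransparency.types false


/-- Over a field k, let G be a smooth k-group scheme of finite type acting on a variety X (a separated,
geometrically integral k-scheme of finite type). Then X is almost homogeneous, i.e. the graph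
morphism G × X → X × X, (g, x) ↦ (x, g·x), is dominant, if and only if there is a nonempty open
subscheme U of X which is G-stable (the action restricts to an action on U) and homogeneous (the
graph morphism G × U → U × U is surjective). Moreover there is at most one such open subscheme U
(the open orbit). -/
theorem result (k : Type u) [Field k]
    (G X : Over (Spec (CommRingCat.of k))) [GrpObj G] [Smooth G.hom] [QuasiCompact G.hom]
    [IsSeparated X.hom] [LocallyOfFiniteType X.hom] [QuasiCompact X.hom] [GeometricallyIntegral X.hom]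
    (a : AlgGrp.Action G X) :
    (IsDominant (CartesianMonoidalCategory.lift (CartesianMonoidalCategory.snd G X) a.act).left ↔
      ∃ U : X.left.Opens, (U : Set ↥X.left).Nonempty ∧
        ∃ b : AlgGrp.Action G (Over.mk (U.ι ≫ X.hom)),
          (G ◁ (Over.homMk U.ι rfl : Over.mk (U.ι ≫ X.hom) ⟶ X)) ≫ a.act = b.act ≫ Over.homMk U.ι rfl ∧
          Surjective (CartesianMonoidalCategory.lift (CartesianMonoidalCategory.snd G (Over.mk (U.ι ≫ X.hom))) b.act).left) ∧
    ∀ U U' : X.left.Opens,
      ((U : Set ↥X.left).Nonempty ∧ ∃ b : AlgGrp.Action G (Over.mk (U.ι ≫ X.hom)),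
          (G ◁ (Over.homMk U.ι rfl : Over.mk (U.ι ≫ X.hom) ⟶ X)) ≫ a.act = b.act ≫ Over.homMk U.ι rfl ∧
          Surjective (CartesianMonoidalCategory.lift (CartesianMonoidalCategory.snd G (Over.mk (U.ι ≫ X.hom))) b.act).left) →
      ((U' : Set ↥X.left).Nonempty ∧ ∃ b' : AlgGrp.Action G (Over.mk (U'.ι ≫ X.hom)),
          (G ◁ (Over.homMk U'.ι rfl : Over.mk (U'.ι ≫ X.hom) ⟶ X)) ≫ a.act = b'.act ≫ Over.homMk U'.ι rfl ∧
          Surjective (CartesianMonoidalCategory.lift (CartesianMonoidalCategory.snd G (Over.mk (U'.ι ≫ X.hom))) b'.act).left) →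
      U = U' := by
  classical
  refine ⟨⟨fun h => OpenOrbit19.exists_stable_open a h, fun ⟨U, hU, b, hb, hs⟩ =>
      OpenOrbit19.isDominant_of_stable a b hU hb hs⟩, ?_⟩
  rintro U U' ⟨hU, b, hb, hs⟩ ⟨hU', b', hb', hs'⟩
  exact le_antisymm (OpenOrbit19.subset_of_stable a b hU hb hs hU' b' hb')
    (OpenOrbit19.subset_of_stable a b' hU' hb' hs' hU b hb)

end Groth.Agent.S14638
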