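import Groth.Statements.S14639
import Mathlib.RingTheory.AdjoinRoot
import Mathlib.Tactic.LinearCombination
-- import your own Groth.Agent.* helpers here

set_option autoImplicit false
universe u
open Polynomial
open AlgGrp

namespace Groth.Agent.S14639

set_option linter.style.haveILetI false
set_option backward.isDefEq.respectTransparency.types false

theorem core {k : Type u} [Field k] [CharZero k] {R : Type u} [CommRing R] [Algebra k R] {N : ℕ} {u v : R}
    (hu : u ^ (N + 1) = 0) (dec : ∀ g : R, ∃ (c : k) (g' : R), g = algebraMap k R c + u * g')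
    (hv : v * (1 + u) = 1) (σ : R →ₐ[k] R) (hσu : σ u = u * v) {A : Subalgebra k R} (hσA : ∀ f ∈ A, σ f ∈ A) :
    ∃ n : ℕ, 1 ≤ n ∧ n ≤ N + 1 ∧
      Subalgebra.toSubmodule A = Submodule.span k {1} ⊔ (Ideal.span {u ^ n}).restrictScalars k := by
  classical
  have hv1 : ∀ m : ℕ, ∃ w, v ^ m = 1 - (m : R) * u + u ^ 2 * w := by
    intro m
    induction m with
    | zero => exact ⟨0, by simp⟩
    | succ m ih =>
      obtain ⟨w, hw⟩ := ih
      refine ⟨w * v + (m : R) + v - (m : R) * u * v, ?_⟩
      have e : v = 1 - u + u ^ 2 * v := by linear_combination (1 - u) * hv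
      rw [pow_succ, hw]
      push_cast
      linear_combination (1 - (m : R) * u) * e
  have hσ0 : ∀ g, ∃ g', σ g = g + u * g' := fun g => by
    obtain ⟨c, g', rfl⟩ := dec g
    refine ⟨v * σ g' - g', ?_⟩
    rw [map_add, map_mul, hσu, AlgHom.commutes]
    ring
  let P : ℕ → Prop := fun m => 1 ≤ m ∧ ∃ f ∈ A, ∃ (c : k) (g : R), c ≠ 0 ∧ f = u ^ m * (algebraMap k R c + u * g)
  have hP : P (N + 1) := ⟨by omega, 0, A.zero_mem, 1, 0, one_ne_zero, by rw [hu]; simp⟩
  obtain ⟨n, ⟨hn1, f, hfA, c, g, hc, hf⟩, hmin⟩ : ∃ n, P n ∧ ∀ m < n, ¬ P m :=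
    ⟨Nat.find ⟨_, hP⟩, Nat.find_spec ⟨_, hP⟩, fun m => Nat.find_min ⟨_, hP⟩⟩
  have hn2 : n ≤ N + 1 := not_lt.1 fun h => hmin _ h hP
  have hall : ∀ j, P (n + j) := by
    intro j
    induction j with
    | zero => exact ⟨hn1, f, hfA, c, g, hc, hf⟩
    | succ j ih =>
      obtain ⟨-, f, hfA, c, g, hc, hf⟩ := ih
      obtain ⟨w, hw⟩ := hv1 (n + j)
      obtain ⟨g', hg'⟩ := hσ0 g
      refine ⟨by omega, σ f - f, A.sub_mem (hσA f hfA) hfA, -((n + j : ℕ) : k) * c,
        algebraMap k R c * w + g * (1 - ((n + j : ℕ) : R) * u + u ^ 2 * w) * (-v) +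
          g * (- ((n + j : ℕ) : R) + u * w) + v ^ (n + j) * v * g', ?_, ?_⟩
      · exact mul_ne_zero (neg_ne_zero.2 (Nat.cast_ne_zero.2 (by omega))) hc
      · have e2 : v - 1 = - (u * v) := by linear_combination hv
        rw [hf, map_mul, map_pow, hσu, map_add, map_mul, hσu, hg', mul_pow,
          AlgHom.commutes σ c, show n + (j + 1) = (n + j) + 1 from rfl, pow_succ,
          map_mul, map_neg, map_natCast, hw]
        linear_combination (u ^ (n + j) * (1 - ((n + j : ℕ) : R) * u + u ^ 2 * w) * u * g) * e2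
  have hin : ∀ i m, n ≤ m → N + 1 ≤ m + i → ∀ g, u ^ m * g ∈ A := by
    intro i
    induction i with
    | zero =>
      intro m _ hm g
      rw [show m = (N + 1) + (m - (N + 1)) by omega, pow_add, hu]
      simp
    | succ i ih =>
      intro m hm hmi g
      obtain ⟨j, rfl⟩ := Nat.exists_eq_add_of_le hm
      obtain ⟨-, f, hfA, c, g₁, hc, hf⟩ := hall j
      obtain ⟨d, g', rfl⟩ := dec g
      have h1 : ∀ g, u ^ (n + j + 1) * g ∈ A := ih _ (by omega) (by omega)
      have hum : u ^ (n + j) = algebraMap k R c⁻¹ * (f - u ^ (n + j + 1) * g₁) := by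
        rw [hf, show u ^ (n + j) * (algebraMap k R c + u * g₁) - u ^ (n + j + 1) * g₁ =
          algebraMap k R c * u ^ (n + j) by ring, ← mul_assoc, ← map_mul, inv_mul_cancel₀ hc, map_one, one_mul]
      have hum' : u ^ (n + j) ∈ A := by
        rw [hum]
        exact A.mul_mem (A.algebraMap_mem _) (A.sub_mem hfA (h1 g₁))
      rw [mul_add, ← mul_assoc, ← pow_succ]
      exact A.add_mem (A.mul_mem hum' (A.algebraMap_mem _)) (h1 g')
  refine ⟨n, hn1, hn2, le_antisymm ?_ ?_⟩
  · intro f hf
    obtain ⟨d, g, rfl⟩ := dec f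
    have hg : u * g ∈ A := by
      simpa using A.sub_mem hf (A.algebraMap_mem d)
    have key : ∀ m, 1 ≤ m → m ≤ n → ∃ g', u * g = u ^ m * g' := by
      intro m hm
      induction m, hm using Nat.le_induction with
      | base => exact fun _ => ⟨g, by rw [pow_one]⟩
      | succ m hm ih =>
        intro hmn
        obtain ⟨g', hg'⟩ := ih (by omega)
        obtain ⟨e, g'', rfl⟩ := dec g'
        by_cases he : e = 0
        · exact ⟨g'', by rw [hg', he, map_zero, zero_add, pow_succ, mul_assoc]⟩
        · exact absurd (⟨hm, u * g, hg, e, g'', he, hg'⟩ : P m) (hmin m (by omega))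
    obtain ⟨g', hg'⟩ := key n hn1 le_rfl
    refine Submodule.mem_sup.2 ⟨algebraMap k R d, Submodule.mem_span_singleton.2 ⟨d, (Algebra.algebraMap_eq_smul_one d).symm⟩, u * g, ?_, rfl⟩
    rw [hg']
    exact Ideal.mul_mem_right _ _ (Ideal.subset_span rfl)
  · refine sup_le ((Submodule.span_singleton_le_iff_mem _ _).2 A.one_mem) ?_
    intro x hx
    obtain ⟨g, rfl⟩ := Ideal.mem_span_singleton'.1 hx
    rw [mul_comm]
    exact hin (N + 1) n le_rfl (by omega) g




/-- Classification of the subalgebras of a truncated polynomial ring that are stable under the unipotent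
substitutions, which is the algebraic step behind the classification of curves almost homogeneous
under the additive group in characteristic zero. Let k be a field of characteristic zero, N ≥ 0 and
R = k[u]/(u^(N+1)). The additive group acts on R through the substitutions u ↦ u/(1 + a u), a in k.
If A is a k-subalgebra of R stable under all these substitutions (stated for every k-algebra
endomorphism σ of R with σ(u)(1 + a u) = u for some a in k), then there is an integer n with 1 ≤ n ≤
N + 1 such that A = k ⊕ (u^n): as a k-subspace, A is the span of 1 plus the ideal generated by u^n.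
(In positive characteristic p and for N ≥ p + 1, the subalgebra generated by u^p is stable and not
of this form.) -/
theorem result (k : Type u) [Field k] [CharZero k]
    (N : ℕ) (A : Subalgebra k (AdjoinRoot ((Polynomial.X : Polynomial k) ^ (N + 1))))
    (hA : ∀ (a : k) (σ : AdjoinRoot ((Polynomial.X : Polynomial k) ^ (N + 1)) →ₐ[k] AdjoinRoot ((Polynomial.X : Polynomial k) ^ (N + 1))),
      σ (AdjoinRoot.root ((Polynomial.X : Polynomial k) ^ (N + 1))) * (1 + algebraMap k (AdjoinRoot ((Polynomial.X : Polynomial k) ^ (N + 1))) a * AdjoinRoot.root ((Polynomial.X : Polynomial k) ^ (N + 1))) = AdjoinRoot.root ((Polynomial.X : Polynomial k) ^ (N + 1)) →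
        A.map σ ≤ A) :
    ∃ n : ℕ, 1 ≤ n ∧ n ≤ N + 1 ∧
      Subalgebra.toSubmodule A =
        Submodule.span k {1} ⊔ (Ideal.span {AdjoinRoot.root ((Polynomial.X : Polynomial k) ^ (N + 1)) ^ n}).restrictScalars k := by
  classical
have hu : (AdjoinRoot.root ((Polynomial.X : Polynomial k) ^ (N + 1))) ^ (N + 1) = 0 := by
  have := AdjoinRoot.eval₂_root ((Polynomial.X : Polynomial k) ^ (N + 1))
  rwa [Polynomial.eval₂_X_pow] at this
have dec : ∀ g : AdjoinRoot ((Polynomial.X : Polynomial k) ^ (N + 1)), ∃ (c : k) (g' : AdjoinRoot _),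
    g = algebraMap k _ c + AdjoinRoot.root _ * g' := fun g => by
  obtain ⟨p, rfl⟩ := AdjoinRoot.mk_surjective g
  refine ⟨p.coeff 0, AdjoinRoot.mk _ p.divX, ?_⟩
  conv_lhs => rw [← Polynomial.divX_mul_X_add p, map_add, map_mul, AdjoinRoot.mk_X, AdjoinRoot.mk_C, add_comm, mul_comm]
  rfl
obtain ⟨v, hv⟩ : ∃ v : AdjoinRoot ((Polynomial.X : Polynomial k) ^ (N + 1)), v * (1 + AdjoinRoot.root _) = 1 :=
  (IsNilpotent.isUnit_one_add ⟨N + 1, hu⟩).exists_left_inv
have hh : Polynomial.eval₂ ((Algebra.ofId k (AdjoinRoot ((Polynomial.X : Polynomial k) ^ (N + 1)))) : k →+* _)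
    (AdjoinRoot.root _ * v) ((Polynomial.X : Polynomial k) ^ (N + 1)) = 0 := by
  rw [Polynomial.eval₂_X_pow, mul_pow, hu, zero_mul]
let σ := AdjoinRoot.liftAlgHom _ (Algebra.ofId k _) _ hh
have hσu : σ (AdjoinRoot.root _) = AdjoinRoot.root _ * v := AdjoinRoot.liftAlgHom_root _ _ _ hh
have hmap : A.map σ ≤ A := hA 1 σ (by rw [hσu, map_one, one_mul, mul_assoc, hv, mul_one])
exact core hu dec hv σ hσu (fun f hf => hmap ⟨f, hf, rfl⟩)

end Groth.Agent.S14639
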