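import Groth.Statements.S1464
import Groth.Agent.Lib.LimH13.FibDimDescend
import Groth.Agent.Lib.FlatH4.NoethApprox
import Groth.Agent.Lib.ConsH13.ApproxOver
import Groth.Agent.Lib.FibGenApp4

set_option autoImplicit false
universe u
open FlatMor

namespace Groth.Agent.S1464


section Aux
open CategoryTheory Limits AlgebraicGeometry Opposite Topology TopologicalSpace Groth.Agent.FibDim14
open Groth.Agent.ConsH13.Over

theorem dle_iff {X S : Scheme.{u}} (f : X ⟶ S) [LocallyOfFiniteType f] (s : S) (d : ℕ) :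
    (d : WithBot ℕ∞) ≤ topologicalKrullDim (f.fiber s) ↔
      ∃ x, f x = s ∧ (d : WithBot ℕ∞) ≤ FlatMor.fibreDimAt f x := by
  constructor
  · intro h
    by_contra hne
    push Not at hne
    rcases Nat.eq_zero_or_pos d with rfl | hpos
    · have h2 : topologicalKrullDim (f.fiber s) ≤ ⊥ :=
        (Groth.Agent.FibGen4.dim_fiber_le_iff f s ⊥).2 fun x hx => by
          obtain ⟨x', -, -, hd, -⟩ := exists_fibreDimAt_eq f x
          exact absurd (hne x hx) (by rw [hd]; exact not_lt_of_ge (by exact_mod_cast Nat.zero_le _))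
      exact absurd (h.trans h2) (by simp)
    · have h2 : topologicalKrullDim (f.fiber s) ≤ ((d - 1 : ℕ) : WithBot ℕ∞) :=
        (Groth.Agent.FibGen4.dim_fiber_le_iff f s _).2 fun x hx => by
          obtain ⟨x', -, -, hd, -⟩ := exists_fibreDimAt_eq f x
          have h3 := hne x hx
          rw [hd] at h3 ⊢
          have : rd f x' < d := by exact_mod_cast h3
          exact_mod_cast (by omega : rd f x' ≤ d - 1)
      have h4 : d ≤ d - 1 := by exact_mod_cast h.trans h2
      omega
  · rintro ⟨x, hx, hd⟩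
    exact hd.trans ((Groth.Agent.FibGen4.dim_fiber_le_iff f s _).1 le_rfl x hx)

theorem main {X S : Scheme.{u}} (f : X ⟶ S) [IsAffine X] [IsAffine S] [LocallyOfFinitePresentation f]
    (d : ℕ) (hd : ∀ s : S, topologicalKrullDim ↑(f.fiber s) = d) :
    ∃ (X₀ S₀ : Scheme.{u}) (f₀ : X₀ ⟶ S₀) (g : S ⟶ S₀) (g' : X ⟶ X₀), IsAffine X₀ ∧ IsAffine S₀ ∧
      IsPullback g' f f₀ g ∧ Algebra.FiniteType ℤ Γ(S₀, ⊤) ∧ LocallyOfFiniteType f₀ ∧
      ∀ s₀ : S₀, topologicalKrullDim ↑(f₀.fiber s₀) = d := by
  algebraize [f.appTop.hom]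
  haveI : Algebra.FinitePresentation Γ(S, ⊤) Γ(X, ⊤) :=
    (HasRingHomProperty.iff_of_isAffine (P := @LocallyOfFinitePresentation)).1 ‹_›
  obtain ⟨R, B₀, _, _, _, _, hR, hB₀, ⟨e⟩⟩ := Groth.Agent.FlatH4.exists_approx Γ(S, ⊤) Γ(X, ⊤)
  obtain ⟨g', hg'⟩ := Groth.Agent.FlatH4.isPullback_of_affine f e
  haveI := hB₀
  haveI := hR
  haveI : IsNoetherianRing R := Algebra.FiniteType.isNoetherianRing ℤ R
  let A : Type u := Γ(S, ⊤)
  let D := approxDiagram R A
  let Y₀ : Scheme.{u} := Spec (CommRingCat.of R)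
  let X₀ : Scheme.{u} := Spec (CommRingCat.of B₀)
  let f₀ : X₀ ⟶ Y₀ := Spec.map (CommRingCat.ofHom (algebraMap R B₀))
  haveI : LocallyOfFinitePresentation f₀ := (HasRingHomProperty.Spec_iff (P := @LocallyOfFinitePresentation)).2
    (RingHom.finitePresentation_algebraMap.2 inferInstance)
  let t : D ⟶ (Functor.const _).obj Y₀ :=
    { app := fun k => Spec.map (CommRingCat.ofHom (algebraMap R k.unop.1))
      naturality := fun k l a => by
        simp only [Functor.const_obj_map, Category.comp_id]
        exact (Spec.map_comp _ _).symm.trans (congrArg Spec.map (CommRingCat.hom_ext (RingHom.ext fun r => rfl))) }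
  haveI : ∀ k, IsAffineHom (t.app k) := fun k => by
    haveI : IsAffine ((approxDiagram R A).obj k) := inferInstance
    haveI : IsAffine Y₀ := inferInstanceAs (IsAffine (Spec _))
    exact @isAffineHom_of_isAffine (D.obj k) Y₀ (t.app k) ‹_› ‹_›
  let c : Cone D := ⟨S, { app := fun k => S.isoSpec.hom ≫ (approxCone R A).π.app k,
                          naturality := fun k l a => by
                            simp only [Functor.const_obj_map, Category.id_comp, Category.assoc]
                            exact congrArg (S.isoSpec.hom ≫ ·) ((approxCone R A).w a).symm }⟩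
  have hc : IsLimit c := IsLimit.ofIsoLimit (isLimitApproxCone R A)
    (Cone.ext S.isoSpec.symm fun k => (Iso.inv_hom_id_assoc _ _).symm)
  let q : S ⟶ Y₀ := S.isoSpec.hom ≫ Spec.map (CommRingCat.ofHom (algebraMap R A))
  have hq : ∀ k, c.π.app k ≫ t.app k = q := fun k => by
    show (S.isoSpec.hom ≫ (approxCone R A).π.app k) ≫ t.app k = q
    rw [Category.assoc]
    refine congrArg (S.isoSpec.hom ≫ ·) ?_
    exact (Spec.map_comp _ _).symm.trans (congrArg Spec.map (CommRingCat.hom_ext (RingHom.ext fun r => rfl)))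
  obtain ⟨k, hk⟩ := Groth.Agent.LimH13.exists_fibreDimAt_le_descend f₀ t hc hq hg' d
    fun x => (Groth.Agent.LimH13.forall_dim_fiber_le_iff f _).1 (fun s => (hd s).le) x
  haveI : IsAffine (D.obj k) := inferInstanceAs (IsAffine ((approxDiagram R A).obj k))
  haveI : AlgebraicGeometry.IsNoetherian (D.obj k) :=
    inferInstanceAs (AlgebraicGeometry.IsNoetherian ((approxDiagram R A).obj k))
  let fk := pullback.snd f₀ (t.app k)
  haveI : LocallyOfFinitePresentation fk := MorphismProperty.pullback_snd _ _ inferInstance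
  haveI : IsAffineHom f₀ := isAffineHom_of_isAffine _
  haveI : IsAffine (pullback f₀ (t.app k)) := isAffine_of_isAffineHom fk
  let F : Set ↥(pullback f₀ (t.app k)) := {x | (d : WithBot ℕ∞) ≤ FlatMor.fibreDimAt fk x}
  have hF : IsConstructible F := by
    rcases Nat.eq_zero_or_pos d with h0 | hpos
    · have : F = Set.univ := Set.eq_univ_of_forall fun x => by
        obtain ⟨x', -, -, hd', -⟩ := exists_fibreDimAt_eq fk x
        show (d : WithBot ℕ∞) ≤ _
        rw [hd', h0]
        exact_mod_cast Nat.zero_le _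
      rw [this]; exact IsConstructible.univ
    · have : F = {x | FlatMor.fibreDimAt fk x ≤ ((d - 1 : ℕ) : WithBot ℕ∞)}ᶜ := by
        ext x
        obtain ⟨x', -, -, hd', -⟩ := exists_fibreDimAt_eq fk x
        simp only [F, Set.mem_compl_iff, Set.mem_ofPred_eq]
        rw [hd']
        constructor
        · intro h h'
          have h1 : d ≤ rd fk x' := by exact_mod_cast h
          have h2 : rd fk x' ≤ d - 1 := by exact_mod_cast h'
          omega
        · intro h
          by_contra h'
          refine h ?_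
          have : ¬ d ≤ rd fk x' := fun hh => h' (by exact_mod_cast hh)
          exact_mod_cast (by omega : rd fk x' ≤ d - 1)
      rw [this]
      exact ((isRetrocompact_fibreDimAt_le fk (d - 1)).isConstructible (isOpen_fibreDimAt_le fk (d - 1))).compl
  have hsq : ∃ g₁ : X ⟶ pullback f₀ (t.app k), IsPullback g₁ f fk (c.π.app k) ∧
      g₁ ≫ pullback.fst f₀ (t.app k) = g' := by
    refine ⟨pullback.lift g' (f ≫ c.π.app k) (by rw [Category.assoc, hq k]; exact hg'.w),
      ?_, pullback.lift_fst _ _ _⟩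
    refine IsPullback.of_right ?_ (pullback.lift_snd _ _ _) (IsPullback.of_hasPullback _ _)
    rw [pullback.lift_fst, hq k]
    exact hg'
  obtain ⟨g₁, hg₁, -⟩ := hsq
  obtain ⟨j, a, hj⟩ := Groth.Agent.LimH13.exists_inter_preimage_eq_empty hc (i := k) ⊤ ⊥ isCompact_univ
    (fk '' F)ᶜ (fk.isConstructible_image hF).compl (by
      refine Set.eq_empty_iff_forall_notMem.2 fun s hs => hs.2 ?_
      obtain ⟨x, hx, hxd⟩ := (dle_iff f s d).1 (hd s).ge
      refine ⟨g₁ x, ?_, ?_⟩
      · show (d : WithBot ℕ∞) ≤ _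
        rw [← fibreDimAt_baseChange hg₁ x]
        exact hxd
      · rw [← Scheme.Hom.comp_apply, hg₁.w, Scheme.Hom.comp_apply, hx])
  haveI : IsAffine (D.obj j) := inferInstanceAs (IsAffine ((approxDiagram R A).obj j))
  let fj : pullback fk (D.map a) ⟶ D.obj j := pullback.snd fk (D.map a)
  let g₂ : X ⟶ pullback fk (D.map a) := pullback.lift g₁ (f ≫ c.π.app j)
    (by rw [Category.assoc, c.w a]; exact hg₁.w)
  haveI : IsAffine (pullback fk (D.map a)) := by
    haveI : IsAffineHom fk := MorphismProperty.pullback_snd _ _ inferInstance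
    haveI : IsAffineHom fj := MorphismProperty.pullback_snd _ _ inferInstance
    exact isAffine_of_isAffineHom fj
  refine ⟨pullback fk (D.map a), D.obj j, fj, c.π.app j, g₂, inferInstance, inferInstance, ?_, ?_, ?_, ?_⟩
  · refine IsPullback.of_right ?_ (pullback.lift_snd _ _ _) (IsPullback.of_hasPullback _ _)
    rw [pullback.lift_fst, c.w a]
    exact hg₁
  · haveI : Algebra.FiniteType R j.unop.1 := (Subalgebra.fg_iff_finiteType _).1 j.unop.2
    have hjZ : Algebra.FiniteType ℤ j.unop.1 := Algebra.FiniteType.trans hR inferInstance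
    exact hjZ.equiv (Scheme.ΓSpecIso (CommRingCat.of j.unop.1)).symm.commRingCatIsoToRingEquiv.toIntAlgEquiv
  · exact MorphismProperty.pullback_snd _ _ inferInstance
  · intro s₀
    have hbc : IsPullback (pullback.fst fk (D.map a)) fj fk (D.map a) := IsPullback.of_hasPullback _ _
    haveI : LocallyOfFiniteType fj := MorphismProperty.pullback_snd _ _ inferInstance
    refine le_antisymm ((Groth.Agent.FibGen4.dim_fiber_le_iff fj s₀ _).2 fun y _ => ?_) ((dle_iff fj s₀ d).2 ?_)
    · rw [fibreDimAt_baseChange hbc y]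
      exact hk _
    · have hmem : D.map a s₀ ∈ fk '' F := by
        by_contra hn
        exact Set.eq_empty_iff_forall_notMem.1 hj s₀ ⟨⟨trivial, fun h => h⟩, hn⟩
      obtain ⟨x, hxF, hx⟩ := hmem
      obtain ⟨y, hy1, hy2⟩ := Scheme.Pullback.exists_preimage_pullback x s₀ hx
      refine ⟨y, hy2, ?_⟩
      rw [fibreDimAt_baseChange hbc y, hy1]
      exact hxF

end Aux



open AlgebraicGeometry CategoryTheory Limits in
/-- Let f : X → S be a morphism of finite presentation between affine schemes all of whose fibres have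
dimension d. Then f is the base change of a morphism of finite type f₀ : X₀ → S₀ between affine
schemes with S₀ of finite type over ℤ, where f₀ can be chosen with the same property. -/
theorem result {X S : Scheme.{u}} (f : X ⟶ S) [IsAffine X] [IsAffine S] [LocallyOfFinitePresentation f] (d : ℕ) (hd : ∀ s : S, topologicalKrullDim ↑(f.fiber s) = d) :
    ∃ (X₀ S₀ : Scheme.{u}) (f₀ : X₀ ⟶ S₀) (g : S ⟶ S₀) (g' : X ⟶ X₀), IsAffine X₀ ∧ IsAffine S₀ ∧ IsPullback g' f f₀ g ∧
      Algebra.FiniteType ℤ Γ(S₀, ⊤) ∧ LocallyOfFiniteType f₀ ∧ ∀ s₀ : S₀, topologicalKrullDim ↑(f₀.fiber s₀) = d := by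
  exact main f d hd

end Groth.Agent.S1464
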