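import Groth.Statements.S14640
import Groth.Agent.Lib.OpenOrbit19.Identity
-- import your own Groth.Agent.* helpers here

set_option autoImplicit false
universe u
open CategoryTheory MonoidalCategory CartesianMonoidalCategory MonObj GrpObj AlgebraicGeometry CategoryTheory.Limits
open AlgGrp

namespace Groth.Agent.S14640

set_option linter.style.haveILetI false
set_option backward.isDefEq.respectTransparency.types false


/-- Over a field k, let G be a smooth k-group scheme of finite type acting on a variety X (a separated,
geometrically integral k-scheme of finite type), and let i : G° → G be its identity component: a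
homomorphism which is an open immersion from a connected k-group scheme whose image is the connected
component of the unit element of G. Let G° act on X through i. Then X is homogeneous under G (the
graph morphism G × X → X × X, (g, x) ↦ (x, g·x), is surjective) if and only if it is homogeneous
under G°, and X is almost homogeneous under G (the graph morphism is dominant) if and only if it is
almost homogeneous under G°. -/
theorem result (k : Type u) [Field k]
    (G G0 X : Over (Spec (CommRingCat.of k))) [GrpObj G] [Smooth G.hom] [QuasiCompact G.hom]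
    [GrpObj G0] (i : G0 ⟶ G) [IsMonHom i] [IsOpenImmersion i.left] [ConnectedSpace ↥G0.left]
    (hi : Set.range i.left.base = connectedComponent ((η[G]).left.base (IsLocalRing.closedPoint k)))
    [IsSeparated X.hom] [LocallyOfFiniteType X.hom] [QuasiCompact X.hom] [GeometricallyIntegral X.hom]
    (a : AlgGrp.Action G X) (a0 : AlgGrp.Action G0 X) (ha0 : a0.act = (i ▷ X) ≫ a.act) :
    (Surjective (CartesianMonoidalCategory.lift (CartesianMonoidalCategory.snd G X) a.act).left ↔
      Surjective (CartesianMonoidalCategory.lift (CartesianMonoidalCategory.snd G0 X) a0.act).left) ∧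
    (IsDominant (CartesianMonoidalCategory.lift (CartesianMonoidalCategory.snd G X) a.act).left ↔
      IsDominant (CartesianMonoidalCategory.lift (CartesianMonoidalCategory.snd G0 X) a0.act).left) := by
  classical
  haveI : LocallyOfFiniteType G0.hom := by rw [← Over.w i]; infer_instance
  haveI : IsLocallyNoetherian G.left := LocallyOfFiniteType.isLocallyNoetherian G.hom
  haveI : QuasiCompact i.left := inferInstance
  haveI : QuasiCompact G0.hom := by rw [← Over.w i]; infer_instance
  have h1 : (η[G]).left (IsLocalRing.closedPoint k) ∈ Set.range i.left.base := by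
    rw [hi]; exact mem_connectedComponent
  have hle : Set.range (OpenOrbit19.graph a0).left.base ⊆ Set.range (OpenOrbit19.graph a).left.base := by
    have e : OpenOrbit19.graph a0 = (i ▷ X) ≫ OpenOrbit19.graph a := by
      rw [OpenOrbit19.graph, OpenOrbit19.graph, comp_lift, whiskerRight_snd, ha0]
    rw [e, Over.comp_left, Scheme.Hom.comp_base, TopCat.coe_comp]
    exact Set.range_comp_subset_range _ _
  refine ⟨⟨fun h => ⟨fun p => ?_⟩, fun h => ⟨fun p => hle (h.surj p)⟩⟩,
    ⟨fun h => ?_, fun h => ⟨h.denseRange.mono hle⟩⟩⟩
  · exact OpenOrbit19.mem_range_graph_identity a i h1 a0 ha0 ⊤ (fun q _ _ => h.surj q) p trivial trivial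
  · haveI : LocallyOfFiniteType (X ⊗ X).hom :=
      inferInstanceAs (LocallyOfFiniteType (pullback.fst X.hom X.hom ≫ X.hom))
    haveI : GeometricallyIntegral (X ⊗ X).hom := AbRigid.geometricallyIntegral_tensorObj X X
    haveI : IsLocallyNoetherian (X ⊗ X).left := LocallyOfFiniteType.isLocallyNoetherian (X ⊗ X).hom
    haveI : IsIntegral (X ⊗ X).left := GeometricallyIntegral.isIntegral_of_subsingleton (X ⊗ X).hom
    obtain ⟨U, hU, b, hb, hs⟩ := OpenOrbit19.exists_stable_open a h
    obtain ⟨x, hx⟩ := hU
    obtain ⟨q, hq1, hq2⟩ := Scheme.Pullback.exists_preimage_pullback (f := X.hom) (g := X.hom) x x rfl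
    let O : Set (X ⊗ X).left := (fst X X).left.base ⁻¹' U ∩ (snd X X).left.base ⁻¹' U
    have hO : IsOpen O := (U.2.preimage (fst X X).left.continuous).inter (U.2.preimage (snd X X).left.continuous)
    refine ⟨(hO.dense ⟨q, show _ ∈ U from hq1.symm ▸ hx, show _ ∈ U from hq2.symm ▸ hx⟩).mono fun p hp => ?_⟩
    exact OpenOrbit19.mem_range_graph_identity a i h1 a0 ha0 U (fun r r1 r2 =>
      (OpenOrbit19.exists_graph_preimage a b hb hs r r1 r2).elim fun w hw => ⟨w, hw.1⟩) p hp.1 hp.2

end Groth.Agent.S14640
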