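import Groth.Statements.S14641
import Groth.Agent.Lib.AlgGrpBasic19.Basic
import Groth.Agent.Lib.FppfDesc19.Basic

set_option autoImplicit false
universe u
open CategoryTheory MonoidalCategory CartesianMonoidalCategory MonObj GrpObj AlgebraicGeometry CategoryTheory.Limits
open AlgGrp

namespace Groth.Agent.S14641

set_option backward.isDefEq.respectTransparency.types false
open CategoryTheory.Limits Groth.Agent.AlgGrpBasic19


/-- Over a field k, let G be a k-group scheme of finite type, i : H → G a closed subgroup scheme, and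
(Q, o) the quotient G/H: a k-scheme with a G-action and a rational point o exhibiting it as the
quotient (orbit map flat and surjective, G × H ≅ G ×_Q G). Let n : N → G be a closed subgroup scheme
which is the kernel of the action of G on Q, i.e. for every k-scheme T, a T-point g of G factors
through N exactly when g acts as the identity on Q_T (on all points of Q over T-schemes). Then N is
normal in G and contained in H, and N is the largest such subgroup: every closed subgroup scheme N'
of G which is normal in G and factors through H factors through N. -/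
theorem result (k : Type u) [Field k]
    (G H Q N : Over (Spec (CommRingCat.of k))) [GrpObj G] [LocallyOfFiniteType G.hom] [QuasiCompact G.hom]
    [GrpObj H] (i : H ⟶ G) [IsMonHom i] [IsClosedImmersion i.left]
    (a : AlgGrp.Action G Q) (o : 𝟙_ (Over (Spec (CommRingCat.of k))) ⟶ Q) (hQ : AGF.IsQuotient i Q a o)
    [GrpObj N] (n : N ⟶ G) [IsMonHom n] [IsClosedImmersion n.left]
    (hN : ∀ (T : Over (Spec (CommRingCat.of k))) (g : T ⟶ G),
      (∃ m : T ⟶ N, m ≫ n = g) ↔
        ∀ (T' : Over (Spec (CommRingCat.of k))) (s : T' ⟶ T) (x : T' ⟶ Q),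
          CartesianMonoidalCategory.lift (s ≫ g) x ≫ a.act = x) :
    AlgGrp.IsNormalHom n ∧ (∃ f : N ⟶ H, f ≫ i = n) ∧
      ∀ (N' : Over (Spec (CommRingCat.of k))) [GrpObj N'] (n' : N' ⟶ G) [IsMonHom n'] [IsClosedImmersion n'.left],
        AlgGrp.IsNormalHom n' → (∃ f : N' ⟶ H, f ≫ i = n') → ∃ f' : N' ⟶ N, f' ≫ n = n' := by
  obtain ⟨hQlft, hfl, hsurj, hpb⟩ := hQ
  have horb : ∀ {T : Over (Spec (CommRingCat.of k))} (g : T ⟶ G),
      g ≫ a.orbitMap o = lift g (toUnit T ≫ o) ≫ a.act := fun {T} g => by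
    rw [AlgGrp.Action.orbitMap, comp_lift_assoc, Category.comp_id, ← Category.assoc, comp_toUnit]
  -- the stabiliser of o is H
  have hfix : ∀ {T : Over (Spec (CommRingCat.of k))} (h : T ⟶ H),
      lift (h ≫ i) (toUnit T ≫ o) ≫ a.act = toUnit T ≫ o := fun {T} h => by
    have w := congrArg (fun q => lift (1 : T ⟶ G) h ≫ q) hpb.w
    simp only [lift_fst_assoc] at w
    rw [← Category.assoc (lift (1 : T ⟶ G) h), lift_whiskerLeft_assoc, ← Hom.mul_def, _root_.one_mul, horb, horb, act_one] at w
    exact w.symm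
  refine ⟨fun T g m => ?_, ?_, fun N' _ n' _ _ hnor hH => ?_⟩
  · obtain ⟨m', hm'⟩ := (hN T (g * (m ≫ n) * g⁻¹)).2 fun T' s x => by
      rw [MonObj.comp_mul, MonObj.comp_mul, act_mul, act_mul,
        (hN T (m ≫ n)).1 ⟨m, rfl⟩ T' s, ← act_mul, GrpObj.comp_inv, mul_inv_cancel, act_one]
    exact ⟨m', hm'.symm⟩
  · have e : (1 : N ⟶ G) ≫ a.orbitMap o = n ≫ a.orbitMap o := by
      rw [horb, horb, act_one]
      have := (hN N n).1 ⟨𝟙 N, Category.id_comp n⟩ N (𝟙 N) (toUnit N ≫ o)
      rw [Category.id_comp] at this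
      exact this.symm
    let p := hpb.lift (1 : N ⟶ G) n e
    have h1 : p ≫ fst G H = 1 := hpb.lift_fst _ _ _
    have h2 : p ≫ ((G ◁ i) ≫ μ[G]) = n := hpb.lift_snd _ _ _
    refine ⟨p ≫ snd G H, ?_⟩
    have e2 : p = lift (1 : N ⟶ G) (p ≫ snd G H) := by
      rw [← h1, ← comp_lift, lift_fst_snd, Category.comp_id]
    rw [e2, lift_whiskerLeft_assoc, ← Hom.mul_def, _root_.one_mul] at h2
    exact h2
  · obtain ⟨f, hf⟩ := hH
    refine (hN N' n').2 fun T' s x => ?_
    haveI := hQlft
    haveI := hfl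
    haveI := hsurj
    haveI : QuasiCompact (a.orbitMap o).left := quasiCompact_left _
    obtain ⟨T'', π, g, hπ1, hπ2, hπ3, hg⟩ := Groth.Agent.FppfDesc19.exists_cover_lift (a.orbitMap o) x
    haveI := epi_of_cover π
    obtain ⟨m, hm⟩ := hnor T'' g⁻¹ (π ≫ s)
    rw [_root_.inv_inv] at hm
    have hm2 : (π ≫ s) ≫ n' = g * (m ≫ n') * g⁻¹ := by rw [← hm]; group
    rw [← cancel_epi π, comp_lift_assoc, ← hg, ← Category.assoc π, hm2, horb, ← act_mul, inv_mul_cancel_right,
      act_mul, ← hf, ← Category.assoc, hfix]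

end Groth.Agent.S14641
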