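import Groth.Statements.S14643
import Groth.Agent.Lib.AlgGrpBasic19.Basic
import Groth.Agent.Lib.FppfDesc19.Basic

set_option autoImplicit false
universe u
open CategoryTheory MonoidalCategory CartesianMonoidalCategory MonObj GrpObj AlgebraicGeometry CategoryTheory.Limits
open AlgGrp

namespace Groth.Agent.S14643

set_option backward.isDefEq.respectTransparency.types false
set_option maxHeartbeats 1000000
open CategoryTheory.Limits Groth.Agent.AlgGrpBasic19

theorem isPullback_whiskerRight {S : Scheme.{u}} {X Y : Over S} (φ : X ⟶ Y) (Z : Over S) :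
    IsPullback (φ ▷ Z).left (fst X Z).left (fst Y Z).left φ.left := by
  have h2 : IsPullback (snd Y Z).left (fst Y Z).left Z.hom Y.hom := (IsPullback.of_hasPullback Y.hom Z.hom).flip
  have e : (φ ▷ Z).left ≫ (snd Y Z).left = (snd X Z).left := by rw [← Over.comp_left, whiskerRight_snd]
  have h1 : IsPullback ((φ ▷ Z).left ≫ (snd Y Z).left) (fst X Z).left Z.hom (φ.left ≫ Y.hom) := by
    rw [e, Over.w φ]; exact (IsPullback.of_hasPullback X.hom Z.hom).flip
  exact IsPullback.of_right h1 (by rw [← Over.comp_left, ← Over.comp_left, whiskerRight_fst]) h2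


/-- Over a field k, let G be a smooth k-group scheme of finite type acting on a variety X (a separated,
geometrically integral k-scheme of finite type). Let n : N → G be the kernel of the action: a closed
subgroup scheme such that, for every k-scheme T, a T-point of G factors through N exactly when it
acts as the identity on all points of X over T-schemes. Let π : G → Q be a homomorphism onto a
k-group scheme of finite type which is flat and surjective with kernel N (the quotient G/N). Then
there is a unique action of Q on X inducing the given one along π; this action of Q is faithful (a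
T-point of Q acting as the identity on all points of X over T-schemes is the unit); and X is
homogeneous under G (surjective graph morphism (g, x) ↦ (x, g·x)) if and only if it is homogeneous
under Q, and almost homogeneous under G (dominant graph morphism) if and only if it is almost
homogeneous under Q. -/
theorem result (k : Type u) [Field k]
    (G N Q X : Over (Spec (CommRingCat.of k))) [GrpObj G] [Smooth G.hom] [QuasiCompact G.hom]
    [IsSeparated X.hom] [LocallyOfFiniteType X.hom] [QuasiCompact X.hom] [GeometricallyIntegral X.hom] (a : AlgGrp.Action G X)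
    [GrpObj N] (n : N ⟶ G) [IsMonHom n] [IsClosedImmersion n.left]
    (hN : ∀ (T : Over (Spec (CommRingCat.of k))) (g : T ⟶ G),
      (∃ m : T ⟶ N, m ≫ n = g) ↔
        ∀ (T' : Over (Spec (CommRingCat.of k))) (s : T' ⟶ T) (x : T' ⟶ X), CartesianMonoidalCategory.lift (s ≫ g) x ≫ a.act = x)
    [GrpObj Q] [LocallyOfFiniteType Q.hom] [QuasiCompact Q.hom] (π : G ⟶ Q) [IsMonHom π] [Flat π.left] [Surjective π.left]
    (hker : AlgGrp.IsKernel n π) :
    (∃! b : AlgGrp.Action Q X, (π ▷ X) ≫ b.act = a.act) ∧
    ∀ b : AlgGrp.Action Q X, (π ▷ X) ≫ b.act = a.act →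
      (∀ (T : Over (Spec (CommRingCat.of k))) (q : T ⟶ Q),
        (∀ (T' : Over (Spec (CommRingCat.of k))) (s : T' ⟶ T) (x : T' ⟶ X), CartesianMonoidalCategory.lift (s ≫ q) x ≫ b.act = x) → q = 1) ∧
      (Surjective (CartesianMonoidalCategory.lift (CartesianMonoidalCategory.snd G X) a.act).left ↔
        Surjective (CartesianMonoidalCategory.lift (CartesianMonoidalCategory.snd Q X) b.act).left) ∧
      (IsDominant (CartesianMonoidalCategory.lift (CartesianMonoidalCategory.snd G X) a.act).left ↔
        IsDominant (CartesianMonoidalCategory.lift (CartesianMonoidalCategory.snd Q X) b.act).left) := by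
  have : QuasiCompact π.left := quasiCompact_left π
  have hsq := isPullback_whiskerRight π X
  have : Flat (π ▷ X).left := MorphismProperty.of_isPullback (P := @Flat) hsq.flip inferInstance
  have : Surjective (π ▷ X).left := MorphismProperty.of_isPullback (P := @Surjective) hsq.flip inferInstance
  have : QuasiCompact (π ▷ X).left := MorphismProperty.of_isPullback (P := @QuasiCompact) hsq.flip inferInstance
  have := epi_of_cover (π ▷ X)
  have hfac : ∀ {T : Over (Spec (CommRingCat.of k))} (g g' : T ⟶ G) (x : T ⟶ X), g ≫ π = g' ≫ π →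
      lift g x ≫ a.act = lift g' x ≫ a.act := by
    intro T g g' x e
    have e1 : (g⁻¹ * g') ≫ π = 1 := by rw [MonObj.mul_comp, GrpObj.inv_comp, e, inv_mul_cancel]
    let m := hker.lift (g⁻¹ * g') (toUnit T) (by rw [e1, Hom.one_def])
    have h := (hN T (g⁻¹ * g')).1 ⟨m, hker.lift_fst _ _ _⟩ T (𝟙 T) x
    rw [Category.id_comp] at h
    conv_rhs => rw [← mul_inv_cancel_left g g', act_mul, h]
  obtain ⟨bact, hb⟩ := exists_desc (π ▷ X) a.act fun T p q e => by
    have e1 := congrArg (fun f => f ≫ fst Q X) e
    have e2 := congrArg (fun f => f ≫ snd Q X) e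
    simp only [Category.assoc, whiskerRight_fst, whiskerRight_snd] at e1 e2
    have hp : p = lift (p ≫ fst G X) (p ≫ snd G X) := by rw [← comp_lift, lift_fst_snd, Category.comp_id]
    have hq : q = lift (q ≫ fst G X) (q ≫ snd G X) := by rw [← comp_lift, lift_fst_snd, Category.comp_id]
    rw [hp, hq, e2]
    exact hfac _ _ _ (by simpa using e1)
  have hpt : ∀ {T : Over (Spec (CommRingCat.of k))} (g : T ⟶ G) (x : T ⟶ X),
      lift (g ≫ π) x ≫ bact = lift g x ≫ a.act := fun {T} g x => by
    rw [← hb, lift_whiskerRight_assoc]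
  have hone : ∀ {T : Over (Spec (CommRingCat.of k))} (x : T ⟶ X), lift (1 : T ⟶ Q) x ≫ bact = x := fun {T} x => by
    rw [← MonObj.one_comp (f := π), hpt, act_one]
  have hmul : ∀ {T : Over (Spec (CommRingCat.of k))} (p q : T ⟶ Q) (x : T ⟶ X),
      lift (p * q) x ≫ bact = lift p (lift q x ≫ bact) ≫ bact := by
    intro T p q x
    obtain ⟨T₁, π₁, g, _, _, _, hg⟩ := Groth.Agent.FppfDesc19.exists_cover_lift π p
    obtain ⟨T₂, π₂, h, _, _, _, hh⟩ := Groth.Agent.FppfDesc19.exists_cover_lift π (π₁ ≫ q)
    have := epi_of_cover π₁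
    have := epi_of_cover π₂
    rw [← cancel_epi π₁, ← cancel_epi π₂]
    simp only [comp_lift_assoc, MonObj.comp_mul, ← hg, ← hh]
    rw [← Category.assoc π₂ g π, ← MonObj.mul_comp, hpt, hpt, hpt, act_mul]
  let b : AlgGrp.Action Q X :=
    { act := bact
      one_act := by
        have e : η[Q] ▷ X = lift (1 : 𝟙_ _ ⊗ X ⟶ Q) (snd _ X) := by
          apply CartesianMonoidalCategory.hom_ext
          · rw [whiskerRight_fst, lift_fst, Hom.one_def]; congr 1
          · rw [whiskerRight_snd, lift_snd]
        rw [e, hone, leftUnitor_hom]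
      mul_act := by
        have h := hmul (fst (Q ⊗ Q) X ≫ fst Q Q) (fst (Q ⊗ Q) X ≫ snd Q Q) (snd (Q ⊗ Q) X)
        have e : μ[Q] ▷ X = lift ((fst (Q ⊗ Q) X ≫ fst Q Q) * (fst (Q ⊗ Q) X ≫ snd Q Q)) (snd (Q ⊗ Q) X) := by
          apply CartesianMonoidalCategory.hom_ext
          · rw [whiskerRight_fst, lift_fst, ← MonObj.comp_mul, Hom.mul_def, lift_fst_snd, Category.id_comp]
          · rw [whiskerRight_snd, lift_snd]
        rw [e, h, ← lift_whiskerLeft_assoc, ← Category.assoc (α_ Q Q X).hom, ← Category.assoc]
        congr 1 }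
  refine ⟨⟨b, hb, fun b' hb' => ?_⟩, fun b' hb' => ?_⟩
  · obtain ⟨act', h1, h2⟩ := b'
    have : act' = bact := by rw [← cancel_epi (π ▷ X)]; exact hb'.trans hb.symm
    subst this
    rfl
  refine ⟨fun T q hq => ?_, ?_, ?_⟩
  · obtain ⟨T₁, π₁, g, _, _, _, hg⟩ := Groth.Agent.FppfDesc19.exists_cover_lift π q
    have := epi_of_cover π₁
    obtain ⟨m, hm⟩ := (hN T₁ g).2 fun T' s x => by
      have := hq T' (s ≫ π₁) x
      rwa [Category.assoc, ← hg, ← Category.assoc, ← lift_whiskerRight_assoc, hb'] at this
    rw [← cancel_epi π₁, ← hg, ← hm, Category.assoc, hker.w, MonObj.comp_one, ← Category.assoc, comp_toUnit,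
      Hom.one_def]
  all_goals
    have he : lift (snd G X) a.act = (π ▷ X) ≫ lift (snd Q X) b'.act := by
      rw [comp_lift, whiskerRight_snd, hb']
    rw [he, Over.comp_left]
    constructor <;> intro h
  · exact Surjective.of_comp (π ▷ X).left _
  · infer_instance
  · exact IsDominant.of_comp (π ▷ X).left _
  · infer_instance

end Groth.Agent.S14643
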