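import Groth.Statements.S14645
import Groth.Agent.Lib.AlgGrpBasic19.Basic
import Groth.Agent.Lib.ConstrPt19.Basic
import Groth.Agent.Lib.NRGIT21.Lift

set_option autoImplicit false
universe u
open CategoryTheory MonoidalCategory CartesianMonoidalCategory MonObj GrpObj AlgebraicGeometry CategoryTheory.Limits
open AlgGrp

namespace Groth.Agent.S14645

/-- Over a field k with algebraic closure K, let G be a smooth k-group scheme of finite type acting on a
variety X (a separated, geometrically integral k-scheme of finite type). Then X is homogeneous under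
G, i.e. the graph morphism G × X → X × X, (g, x) ↦ (x, g·x), is surjective, if and only if the
abstract group G(K) of K-points over k acts transitively on the set X(K): for all K-points x, y of X
there is a K-point g of G with g · x = y. -/
theorem result (k : Type u) [Field k]
    (G X : Over (Spec (CommRingCat.of k))) [GrpObj G] [Smooth G.hom] [QuasiCompact G.hom]
    [IsSeparated X.hom] [LocallyOfFiniteType X.hom] [QuasiCompact X.hom] [GeometricallyIntegral X.hom] (a : AlgGrp.Action G X)
    (K : Type u) [Field K] [Algebra k K] [IsAlgClosure k K] :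
    Surjective (CartesianMonoidalCategory.lift (CartesianMonoidalCategory.snd G X) a.act).left ↔
      ∀ x y : Over.mk (Spec.map (CommRingCat.ofHom (algebraMap k K))) ⟶ X, ∃ g : Over.mk (Spec.map (CommRingCat.ofHom (algebraMap k K))) ⟶ G, CartesianMonoidalCategory.lift g x ≫ a.act = y := by
  haveI : IsAlgClosed K := IsAlgClosure.isAlgClosed k
  haveI : LocallyOfFiniteType G.hom := inferInstance
  let f := CartesianMonoidalCategory.lift (CartesianMonoidalCategory.snd G X) a.act
  haveI : LocallyOfFiniteType (G ⊗ X).hom :=
    inferInstanceAs (LocallyOfFiniteType (Limits.pullback.fst G.hom X.hom ≫ G.hom))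
  haveI : LocallyOfFiniteType (X ⊗ X).hom :=
    inferInstanceAs (LocallyOfFiniteType (Limits.pullback.fst X.hom X.hom ≫ X.hom))
  haveI : QuasiCompact (G ⊗ X).hom :=
    inferInstanceAs (QuasiCompact (Limits.pullback.fst G.hom X.hom ≫ G.hom))
  haveI : QuasiCompact (X ⊗ X).hom :=
    inferInstanceAs (QuasiCompact (Limits.pullback.fst X.hom X.hom ≫ X.hom))
  haveI : LocallyOfFiniteType f.left := Groth.Agent.AlgGrpBasic19.lft_left f
  haveI : QuasiCompact f.left := Groth.Agent.AlgGrpBasic19.quasiCompact_left f
  constructor
  · intro hs x y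
    haveI : Surjective f.left := hs
    obtain ⟨t, ht⟩ := Groth.Agent.NRGIT21.exists_lift_point (T := Over.mk (Spec.map (CommRingCat.ofHom (algebraMap k K))))
      (Iso.refl _) f.left (Over.w f) (CartesianMonoidalCategory.lift x y)
    have ht' : t ≫ f = CartesianMonoidalCategory.lift x y := Over.OverMorphism.ext ht
    have h1 := congrArg (· ≫ fst X X) ht'
    have h2 := congrArg (· ≫ snd X X) ht'
    simp only [f, Category.assoc, lift_fst, lift_snd] at h1 h2
    exact ⟨t ≫ fst G X, by rw [← h1, ← comp_lift, lift_fst_snd, Category.comp_id]; exact h2⟩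
  · intro h
    haveI : IsLocallyNoetherian (X ⊗ X).left := LocallyOfFiniteType.isLocallyNoetherian (X ⊗ X).hom
    haveI : CompactSpace (X ⊗ X).left := QuasiCompact.compactSpace_of_compactSpace (X ⊗ X).hom
    haveI : JacobsonSpace (X ⊗ X).left := LocallyOfFiniteType.jacobsonSpace (X ⊗ X).hom
    haveI : LocallyOfFinitePresentation f.left := inferInstance
    refine Groth.Agent.ConstrPt19.surjective_of_closedPoints f.left fun y hy => ?_
    obtain ⟨w, hw⟩ := Groth.Agent.PtsDetect19.exists_point (k := k) (W := X ⊗ X) K y hy
    obtain ⟨g, hg⟩ := h (w ≫ fst X X) (w ≫ snd X X)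
    let p := CartesianMonoidalCategory.lift g (w ≫ fst X X)
    have hp : p ≫ f = w := by
      show p ≫ CartesianMonoidalCategory.lift (snd G X) a.act = w
      rw [comp_lift, lift_snd, hg, ← comp_lift, lift_fst_snd, Category.comp_id]
    refine ⟨p.left (IsLocalRing.closedPoint K), ?_⟩
    rw [← Scheme.Hom.comp_apply, ← Over.comp_left, hp]
    exact hw _

end Groth.Agent.S14645
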