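import Groth.Statements.S14647
import Groth.Agent.Lib.P1Aut12.Main
-- import your own Groth.Agent.* helpers here

set_option autoImplicit false
set_option backward.isDefEq.respectTransparency false
universe u
open CategoryTheory CategoryTheory.Limits AlgebraicGeometry
open AlgGrp

namespace Groth.Agent.S14647

/-- Over a field k, let P be a closed point of the projective line P¹_k whose residue field κ(P) is
purely inseparable over k with [κ(P) : k] ≥ 3 (this forces k to be imperfect). Then the centraliser
of P (with its reduced structure) in the automorphism group of P¹ is infinitesimal; on geometric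
points: for an algebraic closure K of k, every automorphism φ of P¹_k ×_k Spec K over Spec K which
induces the identity on the closed subscheme Spec κ(P) ×_k Spec K — meaning φ ∘ z = z for every
scheme T and every T-point z of P¹_k ×_k Spec K whose image in P¹_k factors through Spec κ(P) → P¹_k
— is the identity. -/
theorem result (k : Type u) [Field k]
    (P : ↥(CohB1.ProjSpace 1 k))
    (hpi : letI := ((CohB1.ProjSpace.toSpec 1 k).residueFieldMap P).hom.toAlgebra
      IsPurelyInseparable ↑((Spec (CommRingCat.of k)).residueField ((CohB1.ProjSpace.toSpec 1 k) P)) ↑((CohB1.ProjSpace 1 k).residueField P))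
    (hdeg : letI := ((CohB1.ProjSpace.toSpec 1 k).residueFieldMap P).hom.toAlgebra
      3 ≤ Module.finrank ↑((Spec (CommRingCat.of k)).residueField ((CohB1.ProjSpace.toSpec 1 k) P)) ↑((CohB1.ProjSpace 1 k).residueField P))
    (K : Type u) [Field K] [Algebra k K] [IsAlgClosure k K]
    (φ : pullback (CohB1.ProjSpace.toSpec 1 k) (Spec.map (CommRingCat.ofHom (algebraMap k K))) ≅ pullback (CohB1.ProjSpace.toSpec 1 k) (Spec.map (CommRingCat.ofHom (algebraMap k K))))
    (hφ : φ.hom ≫ pullback.snd (CohB1.ProjSpace.toSpec 1 k) (Spec.map (CommRingCat.ofHom (algebraMap k K))) = pullback.snd (CohB1.ProjSpace.toSpec 1 k) (Spec.map (CommRingCat.ofHom (algebraMap k K))))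
    (hfix : ∀ (T : Scheme.{u}) (z : T ⟶ pullback (CohB1.ProjSpace.toSpec 1 k) (Spec.map (CommRingCat.ofHom (algebraMap k K)))) (w : T ⟶ Spec ((CohB1.ProjSpace 1 k).residueField P)),
      z ≫ pullback.fst (CohB1.ProjSpace.toSpec 1 k) (Spec.map (CommRingCat.ofHom (algebraMap k K))) = w ≫ (CohB1.ProjSpace 1 k).fromSpecResidueField P → z ≫ φ.hom = z) :
    φ.hom = 𝟙 _ := by
  haveI : IsAlgClosed K := IsAlgClosure.isAlgClosed k
  haveI : Algebra.IsAlgebraic k K := IsAlgClosure.isAlgebraic
  exact Groth.Agent.P1Aut12.main P hpi hdeg φ hφ hfix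

end Groth.Agent.S14647
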