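import Groth.Statements.S14648
import Groth.Agent.Lib.GrpLim19.Basic
import Groth.Agent.Lib.OverProd19.Basic
import Groth.Agent.Lib.Descend.BaseChangeAt
-- import your own Groth.Agent.* helpers here

set_option autoImplicit false
universe u
open CategoryTheory MonoidalCategory CartesianMonoidalCategory MonObj GrpObj AlgebraicGeometry CategoryTheory.Limits
open AlgGrp

namespace Groth.Agent.S14648

set_option linter.style.haveILetI false
set_option backward.isDefEq.respectTransparency.types false
set_option backward.isDefEq.respectTransparency false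


/-- Over a field k, let G be a smooth connected k-group scheme of finite type acting on a variety X (a
separated, geometrically integral k-scheme of finite type), let ν : X̃ → X be the normalization of X
and let G act on X̃ so that ν is equivariant (such a lifted action exists and is unique; here it is
given). Then the commutative square with the action maps G × X̃ → X̃ and G × X → X as horizontal
sides and id_G × ν, ν as vertical sides is cartesian, and the two actions have the same kernel: for
every k-scheme T, a T-point g of G acts as the identity on all points of X over T-schemes if and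
only if it acts as the identity on all points of X̃ over T-schemes. (The quasi-compactness and
quasi-separatedness binders on the morphism from the generic point always hold; they are only needed
to form the normalization.) -/
theorem result (k : Type u) [Field k]
    (G X : Over (Spec (CommRingCat.of k))) [GrpObj G] [Smooth G.hom] [QuasiCompact G.hom] [ConnectedSpace ↥G.left]
    [IsSeparated X.hom] [LocallyOfFiniteType X.hom] [QuasiCompact X.hom] [GeometricallyIntegral X.hom] [IsIntegral X.left] [QuasiCompact (X.left.fromSpecStalk (genericPoint ↥X.left))] [QuasiSeparated (X.left.fromSpecStalk (genericPoint ↥X.left))]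
    (a : AlgGrp.Action G X) (b : AlgGrp.Action G (Over.mk (Curv2.normalizationι X.left ≫ X.hom)))
    (hb : (G ◁ (Over.homMk (Curv2.normalizationι X.left) rfl : Over.mk (Curv2.normalizationι X.left ≫ X.hom) ⟶ X)) ≫ a.act = b.act ≫ Over.homMk (Curv2.normalizationι X.left) rfl) :
    IsPullback b.act (G ◁ (Over.homMk (Curv2.normalizationι X.left) rfl : Over.mk (Curv2.normalizationι X.left ≫ X.hom) ⟶ X)) (Over.homMk (Curv2.normalizationι X.left) rfl : Over.mk (Curv2.normalizationι X.left ≫ X.hom) ⟶ X) a.act ∧
    ∀ (T : Over (Spec (CommRingCat.of k))) (g : T ⟶ G),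
      (∀ (T' : Over (Spec (CommRingCat.of k))) (s : T' ⟶ T) (x : T' ⟶ X), CartesianMonoidalCategory.lift (s ≫ g) x ≫ a.act = x) ↔
      (∀ (T' : Over (Spec (CommRingCat.of k))) (s : T' ⟶ T) (y : T' ⟶ Over.mk (Curv2.normalizationι X.left ≫ X.hom)), CartesianMonoidalCategory.lift (s ≫ g) y ≫ b.act = y) := by
  classical
  let N : Over (Spec (CommRingCat.of k)) := Over.mk (Curv2.normalizationι X.left ≫ X.hom)
  let ν : N ⟶ X := Over.homMk (Curv2.normalizationι X.left) rfl
  change IsPullback b.act (G ◁ ν) ν a.act ∧ ∀ (T : Over (Spec (CommRingCat.of k))) (g : T ⟶ G),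
      (∀ (T' : Over (Spec (CommRingCat.of k))) (s : T' ⟶ T) (x : T' ⟶ X), lift (s ≫ g) x ≫ a.act = x) ↔
      (∀ (T' : Over (Spec (CommRingCat.of k))) (s : T' ⟶ T) (y : T' ⟶ N), lift (s ≫ g) y ≫ b.act = y)
  replace hb : (G ◁ ν) ≫ a.act = b.act ≫ ν := hb
  refine ⟨?_, fun T g => ?_⟩
  · have hc : (AlgGrpBasic19.shear b).hom ≫ (G ◁ ν) = (G ◁ ν) ≫ (AlgGrpBasic19.shear a).hom := by
      apply CartesianMonoidalCategory.hom_ext
      · simp [AlgGrpBasic19.shear]; rfl
      · rw [Category.assoc, Category.assoc, AlgGrpBasic19.shear_hom_snd, hb, whiskerLeft_snd, ← Category.assoc,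
          AlgGrpBasic19.shear_hom_snd]
    refine IsPullback.of_iso (OverProd19.isPullback_whiskerLeft ν G) (AlgGrpBasic19.shear b).symm (Iso.refl N)
      (AlgGrpBasic19.shear a).symm (Iso.refl X) ?_ ?_ ?_ ?_
    · simp only [Iso.refl_hom, Category.comp_id, Iso.symm_hom, AlgGrpBasic19.shear_inv_act]; rfl
    · rw [Iso.symm_hom, Iso.symm_hom, ← cancel_epi (AlgGrpBasic19.shear b).hom, reassoc_of% hc, Iso.hom_inv_id,
        Category.comp_id, Iso.hom_inv_id_assoc]
    · simp
    · simp only [Iso.refl_hom, Category.comp_id, Iso.symm_hom, AlgGrpBasic19.shear_inv_act]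
  haveI : IsIntegralHom ν.left :=
    inferInstanceAs (IsIntegralHom (X.left.fromSpecStalk (genericPoint ↥X.left)).fromNormalization)
  let σ := X.left.fromSpecStalk (genericPoint ↥X.left)
  let τ := σ.toNormalization
  have hτσ : τ ≫ ν.left = σ := σ.toNormalization_fromNormalization
  haveI : IsSeparated ν.left := inferInstance
  haveI : IsSeparated N.hom := inferInstanceAs (IsSeparated (ν.left ≫ X.hom))
  haveI : QuasiCompact τ := inferInstance
  haveI hτd : IsSchemeTheoreticallyDominant τ := ⟨σ.ker_toNormalization⟩
  haveI : IsDominant σ := ⟨fun z => by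
    have h : genericPoint ↥X.left ∈ Set.range σ.base := by
      rw [Scheme.range_fromSpecStalk]; exact specializes_refl (genericPoint ↥X.left)
    exact closure_mono (Set.singleton_subset_iff.2 h) ((genericPoint_spec ↥X.left).symm ▸ trivial)⟩
  have hνd : IsSchemeTheoreticallyDominant ν.left := by
    refine ⟨eq_bot_iff.2 ?_⟩
    rw [← (IsSchemeTheoreticallyDominant.of_isDominant σ).ker_eq_bot, ← hτσ]
    exact Scheme.Hom.le_ker_comp τ ν.left
  have sd : ∀ {A B : Over (Spec (CommRingCat.of k))} (f : A ⟶ B), IsSchemeTheoreticallyDominant f.left →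
      QuasiCompact f.left → ∀ Z : Over (Spec (CommRingCat.of k)), (Z ◁ f).left.ker = ⊥ := fun {A B} f h1 h2 Z => by
    haveI := h1; haveI := h2
    haveI : IsSchemeTheoreticallyDominant ((Over.forget (Spec (CommRingCat.of k))).map f) := h1
    haveI : QuasiCompact ((Over.forget (Spec (CommRingCat.of k))).map f) := h2
    haveI : Flat ((Over.forget (Spec (CommRingCat.of k))).map (snd Z B)) := AbRigid.flat_snd_left Z B
    haveI : Flat (snd Z B).left := AbRigid.flat_snd_left Z B
    exact (IsSchemeTheoreticallyDominant.of_isPullback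
      ((OverProd19.isPullback_whiskerLeft f Z).map (Over.forget _))).ker_eq_bot
  constructor
  · intro h T' s y
    -- it suffices to treat the universal point
    suffices hu : lift (fst T N ≫ g) (snd T N) ≫ b.act = snd T N by
      have := congrArg (lift s y ≫ ·) hu
      simp only [comp_lift_assoc, lift_fst_assoc, lift_snd] at this
      exact this.trans (lift_snd s y)
    let E : Over (Spec (CommRingCat.of k)) := Over.mk (τ ≫ N.hom)
    let e : E ⟶ N := Over.homMk τ rfl
    refine GrpLim19.eq_of_comp_eq (T ◁ e) (sd e hτd (show QuasiCompact τ from inferInstance) T) _ _ (Over.OverMorphism.ext ?_)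
    -- the generic fibre of the normalization is the generic point
    haveI : Flat σ := Descend.flat_fromSpecStalk _
    haveI : IsSeparated (pullback.snd ν.left σ) := inferInstance
    let r : Spec _ ⟶ pullback ν.left σ := pullback.lift τ (𝟙 _) (by rw [hτσ, Category.id_comp])
    haveI : IsClosedImmersion (r ≫ pullback.snd ν.left σ) := by rw [pullback.lift_snd]; infer_instance
    haveI : IsClosedImmersion r := IsClosedImmersion.of_comp r (pullback.snd ν.left σ)
    have hr : IsPullback (𝟙 _) r τ (pullback.fst ν.left σ) := by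
      refine IsPullback.of_bot ?_ (by rw [Category.id_comp, pullback.lift_fst]) (IsPullback.of_hasPullback ν.left σ).flip.flip
      rw [pullback.lift_snd, hτσ]
      exact IsKernelPair.id_of_mono σ
    haveI : IsSchemeTheoreticallyDominant r := IsSchemeTheoreticallyDominant.of_isPullback hr
    haveI : IsIso r := IsClosedImmersion.isIso_iff_ker_eq_bot.2 r.ker_eq_bot
    have key : ∀ {W : Scheme.{u}} (y₁ y₂ : W ⟶ N.left) (z : W ⟶ Spec (X.left.presheaf.stalk (genericPoint ↥X.left))),
        y₁ ≫ ν.left = z ≫ σ → y₂ ≫ ν.left = z ≫ σ → y₁ = y₂ := fun {W} y₁ y₂ z h₁ h₂ => by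
      have ex : ∀ y : W ⟶ N.left, y ≫ ν.left = z ≫ σ → y = z ≫ τ := fun y hy => by
        have e1 : pullback.lift y z hy = z ≫ r := by
          rw [← cancel_mono (inv r), Category.assoc, IsIso.hom_inv_id, Category.comp_id]
          have e2 : inv r = pullback.snd ν.left σ := IsIso.inv_eq_of_hom_inv_id (pullback.lift_snd _ _ _)
          rw [e2, pullback.lift_snd]
        have := congrArg (· ≫ pullback.fst ν.left σ) e1
        simpa [r] using this
      exact (ex y₁ h₁).trans (ex y₂ h₂).symm
    have hh := h (T ⊗ N) (fst T N) (snd T N ≫ ν)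
    have hcmp : ((T ◁ e) ≫ lift (fst T N ≫ g) (snd T N) ≫ b.act) ≫ ν = ((T ◁ e) ≫ snd T N) ≫ ν := by
      simp only [Category.assoc, ← hb, lift_whiskerLeft_assoc, hh]
    have hw : ((T ◁ e) ≫ snd T N).left ≫ ν.left = (snd T E).left ≫ σ := by
      rw [← hτσ, ← Category.assoc (snd T E).left]
      exact congrArg (· ≫ ν.left) (congrArg CommaMorphism.left (whiskerLeft_snd T e))
    exact key _ _ (snd T E).left ((congrArg CommaMorphism.left hcmp).trans hw) hw
  · intro h T' s x
    suffices hu : lift (fst T X ≫ g) (snd T X) ≫ a.act = snd T X by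
      have := congrArg (lift s x ≫ ·) hu
      simpa only [comp_lift_assoc, lift_fst_assoc, lift_snd] using this
    refine GrpLim19.eq_of_comp_eq (T ◁ ν) (sd ν hνd inferInstance T) _ _ ?_
    have hh := h (T ⊗ N) (fst T N) (snd T N)
    rw [comp_lift_assoc, whiskerLeft_fst_assoc, whiskerLeft_snd, ← lift_whiskerLeft_assoc, hb, ← Category.assoc, hh]

end Groth.Agent.S14648
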