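import Groth.Statements.S1465
import Groth.Agent.Lib.Pinch4.CubeScheme
import Groth.Agent.Lib.Pinch4.FibreAffine

set_option autoImplicit false
universe u
open FlatMor

set_option backward.isDefEq.respectTransparency.types false

namespace Groth.Agent.S1465

open AlgebraicGeometry CategoryTheory Limits in
/-- Let i : Z → X be a closed immersion and j : Z → Y an integral morphism such that each fibre of j
lies in the preimage of an affine open of X. Let i' : Z' → X', j' : Z' → Y' and f : X' → X, g : Y' →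
Y, h : Z' → Z form cartesian squares over i and j, with f, g, h separated and locally quasi-finite.
Then the pushouts W of (i, j) and W' of (i', j') exist in the category of schemes, the induced W' →
W is separated and locally quasi-finite, and the squares comparing Y' → W', X' → W' with Y → W, X →
W are cartesian. -/
theorem result {X Y Z X' Y' Z' : Scheme.{u}}
    (i : Z ⟶ X) [IsClosedImmersion i] (j : Z ⟶ Y) [IsIntegralHom j]
    (h3 : ∀ y : Y, ∃ U : X.Opens, IsAffineOpen U ∧ j ⁻¹' {y} ⊆ (i ⁻¹ᵁ U : Set ↑Z))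
    (i' : Z' ⟶ X') (j' : Z' ⟶ Y') (f : X' ⟶ X) (g : Y' ⟶ Y) (h : Z' ⟶ Z)
    (hX : IsPullback h i' i f) (hY : IsPullback h j' j g)
    [IsSeparated f] [LocallyQuasiFinite f] [LocallyOfFiniteType f] [IsSeparated g] [LocallyQuasiFinite g] [LocallyOfFiniteType g]
    [IsSeparated h] [LocallyQuasiFinite h] [LocallyOfFiniteType h] :
    ∃ (W W' : Scheme.{u}) (a : Y ⟶ W) (b : X ⟶ W) (a' : Y' ⟶ W') (b' : X' ⟶ W') (k : W' ⟶ W),
      IsPushout j i a b ∧ IsPushout j' i' a' b' ∧ a' ≫ k = g ≫ a ∧ b' ≫ k = f ≫ b ∧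
      IsSeparated k ∧ LocallyQuasiFinite k ∧ LocallyOfFiniteType k ∧ IsPullback g a' a k ∧ IsPullback f b' b k := by
  haveI : IsClosedImmersion i' := MorphismProperty.of_isPullback hX inferInstance
  haveI : IsIntegralHom j' := MorphismProperty.of_isPullback hY inferInstance
  obtain ⟨W, b, a, H⟩ := Groth.Agent.Pinch4.exists_isPinch (Groth.Agent.Pinch4.cond_of_integral (i := i) (j := j) h3)
  obtain ⟨W', b', a', H'⟩ := Groth.Agent.Pinch4.exists_isPinch
    (Groth.Agent.Pinch4.cond_of_lqf (i' := i') (j' := j') hX.w hY.w h3)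
  have hc : i' ≫ f ≫ b = j' ≫ g ≫ a := by
    rw [← Category.assoc, ← hX.w, Category.assoc, H.w, ← Category.assoc, hY.w, Category.assoc]
  let k := H'.isPushout.desc (f ≫ b) (g ≫ a) hc
  have kb : b' ≫ k = f ≫ b := H'.isPushout.inl_desc _ _ _
  have ka : a' ≫ k = g ≫ a := H'.isPushout.inr_desc _ _ _
  obtain ⟨hb, ha⟩ := Groth.Agent.Pinch4.cube H H' hX hY kb ka
  haveI := H.isIntegralHom_a
  haveI := H.isClosedImmersion_b
  haveI : IsSeparated (b' ≫ k) := by rw [kb]; infer_instance
  haveI : IsSeparated (a' ≫ k) := by rw [ka]; infer_instance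
  exact ⟨W, W', a, b, a', b', k, H.isPushout.flip, H'.isPushout.flip, ka, kb, H'.isSeparated k,
    Groth.Agent.Pinch4.cube_lqf H H' hX hY kb ka, Groth.Agent.Pinch4.cube_lft H H' hX hY kb ka, ha, hb⟩

end Groth.Agent.S1465
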