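import Groth.Statements.S14654
import Groth.Agent.Lib.HomLoc29.Props

set_option autoImplicit false
universe u
open FiltBl

namespace Groth.Agent.S14654

open AlgebraicGeometry in
/-- Let A be a Noetherian ℕ-graded commutative ring which is normal, i.e. every localization of A at a
prime ideal is an integrally closed domain. Then the scheme Proj A is normal: every local ring of
Proj A is an integrally closed domain. -/
theorem result (A : Type u) [CommRing A] [IsNoetherianRing A]
    (𝒜 : ℕ → AddSubgroup A) [GradedRing 𝒜]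
    (hA : ∀ (p : Ideal A) [p.IsPrime], IsDomain (Localization.AtPrime p) ∧
      IsIntegrallyClosed (Localization.AtPrime p))
    (x : Proj 𝒜) :
    IsDomain ((Proj 𝒜).presheaf.stalk x) ∧ IsIntegrallyClosed ((Proj 𝒜).presheaf.stalk x) := by
  obtain ⟨hd, hi⟩ := hA x.asHomogeneousIdeal.toIdeal
  obtain ⟨h1, h2⟩ := HomLoc29.isDomain_and_isIntegrallyClosed (𝒜 := 𝒜) hd hi
  let e := Proj.stalkIso' 𝒜 x
  haveI : IsDomain ((Proj 𝒜).presheaf.stalk x) := e.toMulEquiv.isDomain _
  exact ⟨inferInstance, IsIntegrallyClosed.of_equiv e.symm⟩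

end Groth.Agent.S14654
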