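import Groth.Statements.S14659
import Groth.Agent.Lib.GrUnit28.Basic

set_option autoImplicit false
universe u
open FiltBl

namespace Groth.Agent.S14659

/-- Let R be a Noetherian ℤ-graded commutative ring which is regular (every localization at a prime is a
regular local ring), whose degree-0 subring R_0 is a local ring, with R_1 ≠ 0 and with a homogeneous
unit in some positive degree; let N be the least positive degree in which R has a unit and t ∈ R_N a
unit (so that R_N = t · R_0). Then C = R/(t − 1)R is a regular local ring. -/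
theorem result (R : Type u) [CommRing R]
    [IsNoetherianRing R] (𝒜 : ℤ → AddSubgroup R) [GradedRing 𝒜]
    (hreg : ∀ (p : Ideal R) [p.IsPrime], IsRegularLocalRing (Localization.AtPrime p))
    [IsLocalRing (GrLC.deg0 𝒜)] (h1 : ∃ x ∈ 𝒜 1, x ≠ 0) (N : ℕ) (hN : 0 < N) (t : R)
    (ht : t ∈ 𝒜 (N : ℤ)) (htu : IsUnit t)
    (hmin : ∀ (n : ℤ), 0 < n → n < (N : ℤ) → ∀ s ∈ 𝒜 n, ¬ IsUnit s) :
    IsRegularLocalRing (R ⧸ Ideal.span {t - 1}) := by
  obtain ⟨tu, rfl⟩ := htu
  exact GrUnit28.isRegularLocalRing_quotient 𝒜 N tu ht hN hmin hreg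

end Groth.Agent.S14659
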