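import Groth.Statements.S14666
import Groth.Agent.Lib.RigidRel.Collapse

set_option autoImplicit false
universe u
open CategoryTheory CategoryTheory.Limits AlgebraicGeometry
open AbSch

namespace Groth.Agent.S14666

/-- Let S be a locally Noetherian scheme, ξ : X ⟶ S a proper morphism all of whose geometric fibres are
integral and for which O_S ⟶ ξ_*O_X is an isomorphism (the map Γ(U, O_S) → Γ(ξ⁻¹U, O_X) is bijective
for every open U of S), v : Y ⟶ S an arbitrary S-scheme and f : X ⟶ Y a morphism over S. Let U be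
the set of points s of S such that f sends every point of the fibre ξ⁻¹(s) to one and the same point
of Y. Then U is open in S, and for every morphism τ : T ⟶ S the base change of f to T factors
through the projection X ×_S T ⟶ T — that is, there is r : T ⟶ Y with r ≫ v = τ and fst ≫ f = snd ≫
r on X ×_S T — if and only if τ maps every point of T into U. -/
theorem result {X Y S : Scheme.{u}} [IsLocallyNoetherian S]
    (ξ : X ⟶ S) [IsProper ξ] [GeometricallyIntegral ξ]
    (h0 : ∀ U : S.Opens, Function.Bijective (ξ.app U).hom)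
    (v : Y ⟶ S) (f : X ⟶ Y) (hf : f ≫ v = ξ) :
    IsOpen {s : ↥S | ∃ y : ↥Y, ∀ x : ↥X, ξ.base x = s → f.base x = y} ∧
    ∀ (T : Scheme.{u}) (τ : T ⟶ S),
      ((∃ r : T ⟶ Y, r ≫ v = τ ∧ pullback.fst ξ τ ≫ f = pullback.snd ξ τ ≫ r) ↔
        ∀ t : ↥T, τ.base t ∈ {s : ↥S | ∃ y : ↥Y, ∀ x : ↥X, ξ.base x = s → f.base x = y}) := by
  exact ⟨Groth.Agent.RigidRel.isOpen_collapsed ξ (fun U _ => h0 U) f,
    fun T τ => Groth.Agent.RigidRel.exists_factor_iff ξ (fun U _ => h0 U) f v hf T τ⟩

end Groth.Agent.S14666
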