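import Groth.Statements.S14668
import Groth.Agent.Lib.RegExt.AffineConst
import Groth.Agent.Lib.RegExt.GeomField
import Groth.Agent.Lib.RigidRel.Collapse
import Groth.Agent.Lib.RigidRel.Global
-- import your own Groth.Agent.* helpers here

set_option autoImplicit false
set_option linter.style.haveILetI false
universe u
open CategoryTheory CategoryTheory.Limits MonoidalCategory CartesianMonoidalCategory MonObj GrpObj AlgebraicGeometry
open AbSch

namespace Groth.Agent.S14668

/-- Let S be a locally Noetherian scheme, A an abelian scheme over S (an S-group scheme whose structure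
morphism is proper and flat with geometrically integral fibres), and P an S-scheme whose structure
morphism is proper and flat and whose geometric fibres are projective spaces: for every
algebraically closed field K and every K-point of S, the fibre P ×_S Spec K is isomorphic over Spec
K to projective n-space over K for some n. Then every S-morphism P ⟶ A factors through the structure
morphism of P: it is the composite of P ⟶ S with a section S ⟶ A. -/
theorem result {S : Scheme.{u}} [IsLocallyNoetherian S]
    (A : Over S) [GrpObj A] [IsProper A.hom] [Flat A.hom] [GeometricallyIntegral A.hom]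
    (P : Over S) [IsProper P.hom] [Flat P.hom]
    (hP : ∀ (K : Type u) [Field K] [IsAlgClosed K] (s : Spec (CommRingCat.of K) ⟶ S),
      ∃ (n : ℕ) (e : pullback P.hom s ≅ CohB1.ProjSpace n K), e.hom ≫ CohB1.ProjSpace.toSpec n K = pullback.snd P.hom s)
    (φ : P ⟶ A) :
    ∃ a : 𝟙_ (Over S) ⟶ A, φ = toUnit P ≫ a := by
  have hint : ∀ (K : Type u) [Field K] [IsAlgClosed K] (s : Spec (CommRingCat.of K) ⟶ S), IsIntegral (pullback P.hom s) := by
    intro K _ _ s
    obtain ⟨n, e, -⟩ := hP K s
    haveI := RegExt.isIntegral_projSpace n K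
    haveI : Nonempty (pullback P.hom s : Scheme.{u}) := ⟨e.inv.base (genericPoint (CohB1.ProjSpace n K))⟩
    exact isIntegral_of_isOpenImmersion e.hom
  haveI := RegExt.geometricallyIntegral_of_isAlgClosed P.hom hint
  haveI : GeometricallyConnected P.hom := ⟨fun K _ y Z fst snd hpb => by
    haveI : IsIntegral Z := GeometricallyIntegral.geometrically_isIntegral y fst snd hpb
    infer_instance⟩
  have h0 : ∀ U : S.Opens, IsAffineOpen U → Function.Bijective (P.hom.app U).hom := fun U hU =>
    RigidRel.bijective_app P.hom (RigidRel.constFibres_of_geometrically P.hom) hU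
  have hcol : ∀ s : S, s ∈ RigidRel.collapsed P.hom φ.left := by
    intro s
    let K := AlgebraicClosure (S.residueField s)
    let t : Spec (CommRingCat.of K) ⟶ S :=
      Spec.map (CommRingCat.ofHom (algebraMap (S.residueField s) K)) ≫ S.fromSpecResidueField s
    have ht : ∀ z, t.base z = s := fun z => S.fromSpecResidueField_apply s _
    obtain ⟨n, e, he⟩ := hP K t
    let AK := (Over.pullback t).obj A
    letI : GrpObj AK := Functor.grpObjObj
    haveI : IsProper AK.hom := by dsimp [AK]; infer_instance
    let ψ : CohB1.ProjSpace n K ⟶ pullback A.hom t :=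
      e.inv ≫ pullback.lift (pullback.fst P.hom t ≫ φ.left) (pullback.snd P.hom t)
        (by rw [Category.assoc, Over.w φ, pullback.condition])
    have hψ : ψ ≫ pullback.snd A.hom t = CohB1.ProjSpace.toSpec n K := by
      rw [Category.assoc, pullback.lift_snd, ← he, Iso.inv_hom_id_assoc]
    haveI := RegExt.isIntegral_projSpace n K
    let gp := genericPoint (CohB1.ProjSpace n K)
    refine ⟨(ψ ≫ pullback.fst A.hom t).base gp, fun x hx => ?_⟩
    obtain ⟨q, hq, -⟩ := Scheme.Pullback.exists_preimage_pullback (f := P.hom) (g := t) x
      (IsLocalRing.closedPoint K) (hx.trans (ht _).symm)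
    obtain ⟨w, rfl⟩ : ∃ w, e.inv.base w = q :=
      ⟨e.hom.base q, by rw [← Scheme.Hom.comp_apply, e.hom_inv_id]; rfl⟩
    obtain ⟨i, hi⟩ := ProjSpace.exists_mem_chart n K w
    have hgpi : gp ∈ (ProjSpace.chart n K i).opensRange :=
      ((genericPoint_spec _).mem_open_set_iff (ProjSpace.chart n K i).opensRange.2).2
        ⟨w, trivial, hi⟩
    obtain ⟨c, hc⟩ := RegExt.const_of_mvPolynomial AK (ProjSpace.chart n K i ≫ ψ) (by
      show (_ ≫ ψ) ≫ pullback.snd A.hom t = _
      rw [Category.assoc, hψ, ProjSpace.chart_toSpec]
      rfl)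
    have hall : ∀ v ∈ (ProjSpace.chart n K i).opensRange, ψ.base v = c.left.base (IsLocalRing.closedPoint K) := by
      rintro _ ⟨v, rfl⟩
      have := congrArg (fun a : _ ⟶ pullback A.hom t => a.base v) hc
      refine this.trans ?_
      rw [Scheme.Hom.comp_apply]
      exact congrArg c.left.base (Subsingleton.elim (α := PrimeSpectrum K) _ _)
    have h1 : φ.left.base x = (ψ ≫ pullback.fst A.hom t).base w := by
      rw [← hq]
      exact congrArg (fun a : _ ⟶ A.left => a.base w)
        (show (e.inv ≫ pullback.fst P.hom t) ≫ φ.left = ψ ≫ pullback.fst A.hom t by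
          simp only [ψ, Category.assoc, pullback.lift_fst])
    exact h1.trans (congrArg (pullback.fst A.hom t).base ((hall w hi).trans (hall gp hgpi).symm))
  obtain ⟨r, hr, hr'⟩ := (RigidRel.exists_factor_iff P.hom h0 φ.left A.hom (Over.w φ) S (𝟙 S)).2 fun s => hcol s
  refine ⟨Over.homMk r hr, ?_⟩
  ext1
  have h := congrArg (fun a => pullback.lift (𝟙 P.left) P.hom (by simp) ≫ a) hr'
  simp only [pullback.lift_fst_assoc, pullback.lift_snd_assoc, Category.id_comp] at h
  exact h

end Groth.Agent.S14668
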