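import Groth.Statements.S14670
import Groth.Agent.Lib.Miracle4
import Groth.Agent.Lib.RegLoc.UFD
import Groth.Agent.Lib.VarDim.Alg
import Mathlib.RingTheory.IntegralClosure.GoingDown
import Mathlib.RingTheory.Flat.Localization

set_option autoImplicit false
universe u
open CAlg

set_option backward.isDefEq.respectTransparency.types false

namespace Groth.Agent.S14670

/-- Let R be a regular local ring and S an integral domain containing R as a subring over which it is a
finitely generated module, such that the localization of S at each of its maximal ideals is a
Cohen–Macaulay local ring. Then S is a flat R-module. (The published statement does not require S to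
be a domain; in that generality it fails — for a discrete valuation ring R with residue field κ the
ring R × κ contains R diagonally, is finite over R with Cohen–Macaulay localizations, and is not
flat — and the printed argument needs every maximal ideal of S to have height dim R, which holds
when S is a domain by going down.) -/
theorem result (R S : Type u) [CommRing R] [CommRing S]
    [IsRegularLocalRing R] [IsDomain S] [Algebra R S] [Module.Finite R S]
    (hinj : Function.Injective (algebraMap R S))
    (hCM : ∀ (q : Ideal S) [q.IsMaximal], LocCoh.IsCohenMacaulayLocalRing (Localization.AtPrime q)) :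
    Module.Flat R S := by
  haveI := RegLoc.isDomain R
  haveI : UniqueFactorizationMonoid R := RegLoc.ufd_of_isRegularLocalRing R
  haveI : FaithfulSMul R S := (faithfulSMul_iff_algebraMap_injective _ _).2 hinj
  haveI : Algebra.HasGoingDown R S := inferInstance
  refine Module.flat_of_isLocalized_maximal (R := R) (S := S) (M := S)
    (fun P [P.IsMaximal] => Localization.AtPrime P) (fun P [P.IsMaximal] => Algebra.linearMap S (Localization.AtPrime P))
    fun P hP => ?_
  haveI := hCM P
  have hcomap : P.under R = IsLocalRing.maximalIdeal R :=
    IsLocalRing.eq_maximalIdeal (Ideal.IsMaximal.under R P)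
  haveI : P.LiesOver (IsLocalRing.maximalIdeal R) := ⟨hcomap.symm⟩
  haveI : IsLocalHom (algebraMap R (Localization.AtPrime P)) := ⟨fun a ha => by
    by_contra hna
    have h1 : algebraMap R S a ∈ P := by
      rw [← Ideal.mem_comap, show P.comap (algebraMap R S) = P.under R from rfl, hcomap]
      exact hna
    rw [IsScalarTower.algebraMap_apply R S (Localization.AtPrime P)] at ha
    exact (IsLocalization.AtPrime.isUnit_to_map_iff (Localization.AtPrime P) P _).1 ha h1⟩
  refine Miracle4.flat_of_ringKrullDim_eq ?_
  have hdimR : ringKrullDim (Localization.AtPrime P) = ringKrullDim R := by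
    rw [IsLocalization.AtPrime.ringKrullDim_eq_height P (Localization.AtPrime P),
      ← IsLocalRing.maximalIdeal_height_eq_ringKrullDim, ← hcomap]
    congr 1
    rw [show P = (⟨P, inferInstance⟩ : PrimeSpectrum S).asIdeal from rfl, PrimeSpectrum.height_eq_orderHeight,
      ← VarDim.height_comap_eq (R := R), ← PrimeSpectrum.height_eq_orderHeight]
    rfl
  have hfib : ringKrullDim (Localization.AtPrime P ⧸
      (IsLocalRing.maximalIdeal R).map (algebraMap R (Localization.AtPrime P))) = 0 := by
    set J := (IsLocalRing.maximalIdeal R).map (algebraMap R (Localization.AtPrime P))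
    haveI : Nontrivial (Localization.AtPrime P ⧸ J) := Ideal.Quotient.nontrivial_iff.2
      (ne_top_of_le_ne_top (IsLocalRing.maximalIdeal.isMaximal _).ne_top (IsLocalRing.map_maximalIdeal_le _))
    haveI : Subsingleton (PrimeSpectrum (Localization.AtPrime P ⧸ J)) := by
      refine ⟨fun a b => ?_⟩
      have key : ∀ c : PrimeSpectrum (Localization.AtPrime P ⧸ J),
          c.asIdeal.comap (Ideal.Quotient.mk J) = IsLocalRing.maximalIdeal (Localization.AtPrime P) := by
        intro c
        let Q := c.asIdeal.comap (Ideal.Quotient.mk J)
        haveI : Q.IsPrime := Ideal.IsPrime.comap _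
        let Q' := Q.comap (algebraMap S (Localization.AtPrime P))
        have hQ'P : Q' ≤ P := (IsLocalization.AtPrime.orderIsoOfPrime (Localization.AtPrime P) P ⟨Q, inferInstance⟩).2.2
        have hJQ : J ≤ Q := fun z hz => by
          show Ideal.Quotient.mk J z ∈ c.asIdeal
          rw [Ideal.Quotient.eq_zero_iff_mem.2 hz]
          exact zero_mem _
        have hm : IsLocalRing.maximalIdeal R ≤ Q'.under R := fun a ha => by
          show algebraMap S _ (algebraMap R S a) ∈ Q
          rw [← IsScalarTower.algebraMap_apply]
          exact hJQ (Ideal.mem_map_of_mem _ ha)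
        have hu : Q'.under R = IsLocalRing.maximalIdeal R :=
          ((IsLocalRing.maximalIdeal.isMaximal R).eq_of_le (Ideal.IsPrime.under R Q').ne_top hm).symm
        haveI : Q'.IsMaximal := Ideal.isMaximal_of_isIntegral_of_isMaximal_comap (R := R) Q'
          (show (Q'.under R).IsMaximal from hu ▸ inferInstance)
        have hQ'eq : Q' = P := Ideal.IsMaximal.eq_of_le inferInstance hP.ne_top hQ'P
        refine (IsLocalization.map_comap P.primeCompl (Localization.AtPrime P) Q).symm.trans ?_
        show Q'.map _ = _
        rw [hQ'eq, Localization.AtPrime.map_eq_maximalIdeal]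
      exact PrimeSpectrum.ext (Ideal.comap_injective_of_surjective _ Ideal.Quotient.mk_surjective
        ((key a).trans (key b).symm))
    exact le_antisymm Order.krullDim_nonpos_of_subsingleton ringKrullDim_nonneg_of_nontrivial
  rw [hfib, add_zero, hdimR]

end Groth.Agent.S14670
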