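import Groth.Statements.S14674
import Groth.Agent.Lib.Seesaw22.AbCubePow
import Groth.Agent.Lib.LimH13.ArrowModel

set_option autoImplicit false
universe u
open CategoryTheory CategoryTheory.Limits MonoidalCategory CartesianMonoidalCategory MonObj GrpObj AlgebraicGeometry
open AbSch

namespace Groth.Agent.S14674

/-- Let S be a locally Noetherian scheme, X an abelian scheme over S (an S-group scheme whose structure
morphism α is proper and flat with geometrically integral fibres) with unit section e : S ⟶ X, L an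
invertible O_X-module and n an integer; write [n] for the n-th multiple of the identity in the group
of S-endomorphisms of X. Then [n]^*L ⊗ α^*(e^*L)^{⊗ n²} is isomorphic to L^{⊗(n²+n)/2} ⊗
[-1]^*L^{⊗(n²−n)/2} ⊗ α^*e^*L; equivalently [n]^*L ≅ L^{⊗(n²+n)/2} ⊗ [-1]^*L^{⊗(n²−n)/2} ⊗
[0]^*L^{⊗(1−n²)} with [0]^*L = α^*e^*L (existence of an isomorphism of O_X-modules only). -/
theorem result {S : Scheme.{u}} [IsLocallyNoetherian S] (X : Over S) [GrpObj X] [IsProper X.hom] [Flat X.hom] [GeometricallyIntegral X.hom]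
    (L : X.left.Modules) (hL : PicF.IsInvertible L) (n : ℤ) :
    Nonempty (CohB1.tensorMod ((Scheme.Modules.pullback (𝟙 X ^ n).left).obj L)
        ((Scheme.Modules.pullback X.hom).obj (CohB1.tensorPow ((Scheme.Modules.pullback (η[X]).left).obj L) (n.natAbs ^ 2))) ≅
      CohB1.tensorMod (CohB1.tensorMod (CohB1.tensorPow L ((n ^ 2 + n) / 2).toNat)
          ((Scheme.Modules.pullback (𝟙 X ^ (-1 : ℤ)).left).obj (CohB1.tensorPow L ((n ^ 2 - n) / 2).toNat)))
        ((Scheme.Modules.pullback X.hom).obj ((Scheme.Modules.pullback (η[X]).left).obj L))) := by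
  haveI : LocallyOfFinitePresentation X.hom := Groth.Agent.LimH13.locallyOfFinitePresentation_of_noetherian X.hom
  letI : PicGrp.Law X.left := Groth.Agent.M2.law X.left
  letI : PicGrp.Law S := Groth.Agent.M2.law S
  have h1 := congrArg Subtype.val (Groth.Agent.Seesaw22.cls_zpow (A := X) (L := L) (hL := hL) n)
  have hη := PicLoc.isInvertible_pullback η[X].left hL
  have hone : Groth.Agent.Seesaw22.cls L hL (1 : X ⟶ X) =
      PicGrp.pullHom X.hom (Groth.Agent.M2.pullMul _) (PicGrp.cls _ hη) := by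
    apply Subtype.ext
    rw [PicGrp.pullHom_apply_val, PicGrp.cls_val, PicLoc.pullCl_cl]
    exact Groth.Agent.M2.cl_eq_of_iso ((Scheme.Modules.pullbackComp X.hom η[X].left).app L).symm
  have hinv : ∀ k, Groth.Agent.Seesaw22.cls L hL (𝟙 X)⁻¹ ^ k =
      PicGrp.pullHom (𝟙 X ^ (-1 : ℤ)).left (Groth.Agent.M2.pullMul _) (PicGrp.cls L hL ^ k) := fun k => by
    rw [map_pow, ← Groth.Agent.Seesaw22.cls_id, Groth.Agent.Seesaw22.pullHom_cls, Category.comp_id, zpow_neg_one]
  rw [hinv, hone, Groth.Agent.Seesaw22.cls_id, ← map_pow] at h1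
  simp only [Groth.Agent.Seesaw22.cls, PicGrp.mul_val, PicGrp.pullHom_apply_val, PicGrp.cls_pow_val,
    PicGrp.cls_val, PicLoc.pullCl_cl, PicGrp.mulCl_cl] at h1
  exact (PicGrp.cl_eq_cl_iff _ _).1 h1

end Groth.Agent.S14674
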