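import Groth.Statements.S14676
import Mathlib.Algebra.Module.FinitePresentation
import Mathlib.RingTheory.Henselian
import Mathlib.RingTheory.WittVector.Identities
import Mathlib.RingTheory.WittVector.Teichmuller
import Mathlib.RingTheory.WittVector.Domain
import Mathlib.Combinatorics.Nullstellensatz
import Mathlib.NumberTheory.Padics.PadicIntegers
import Mathlib.FieldTheory.Finite.Polynomial
import Mathlib.RingTheory.Polynomial.Basic
import Mathlib.RingTheory.Flat.Basic
import Mathlib.LinearAlgebra.Contraction
import Mathlib.LinearAlgebra.TensorProduct.RightExactness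

set_option autoImplicit false
universe u
open CAlg

namespace Groth.Agent.S14676
open TensorProduct

/-- Let A be a commutative ring which is separated and complete for the I-adic topology of an ideal I,
let P be any polynomial over A (not assumed monic) and a₀ an element of A such that P(a₀) lies in I
and P'(a₀) is a unit modulo I. Then there is a unique a in A congruent to a₀ modulo I with P(a) = 0. -/
theorem result (A : Type u) [CommRing A] (I : Ideal A) [IsAdicComplete I A]
    (P : Polynomial A) (a₀ : A) (h₀ : P.eval a₀ ∈ I)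
    (h₁ : IsUnit (Ideal.Quotient.mk I (P.derivative.eval a₀))) :
    ∃! a : A, a - a₀ ∈ I ∧ P.IsRoot a := by
  have hjac := IsAdicComplete.le_jacobson_bot I
  have := isLocalHom_of_le_jacobson_bot I hjac
  have hunit : ∀ c, c - a₀ ∈ I → IsUnit (P.derivative.eval c) := fun c hc => by
    apply IsUnit.of_map (Ideal.Quotient.mk I)
    convert h₁ using 1
    rw [Ideal.Quotient.eq]
    exact I.mem_of_dvd (Polynomial.sub_dvd_eval_sub c a₀ _) hc
  have hex : ∃ c : ℕ → A, c 0 = a₀ ∧ ∀ n, c (n + 1) = c n - P.eval (c n) * Ring.inverse (P.derivative.eval (c n)) :=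
    ⟨fun n => Nat.recOn n a₀ fun _ b => b - P.eval b * Ring.inverse (P.derivative.eval b), rfl, fun _ => rfl⟩
  obtain ⟨c, hc0, hc⟩ := hex
  have key : ∀ n, c n - a₀ ∈ I ∧ P.eval (c n) ∈ I ^ (n + 1) := by
    intro n
    induction n with
    | zero => rw [hc0, sub_self, zero_add, pow_one]; exact ⟨zero_mem _, h₀⟩
    | succ n ih =>
      have hu := hunit _ ih.1
      refine ⟨?_, ?_⟩
      · rw [hc, sub_right_comm]
        exact sub_mem ih.1 (I.mul_mem_right _ (Ideal.pow_le_self (Nat.succ_ne_zero n) ih.2))
      · obtain ⟨z, hz⟩ := P.binomExpansion (c n) (-(P.eval (c n) * Ring.inverse (P.derivative.eval (c n))))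
        rw [hc, sub_eq_add_neg, hz, mul_neg, mul_left_comm, Ring.mul_inverse_cancel _ hu, mul_one, add_neg_cancel, zero_add, neg_sq, mul_pow, sq (P.eval (c n))]
        refine Ideal.mul_mem_left _ _ (Ideal.mul_mem_right _ _ ?_)
        rw [pow_succ]
        exact Ideal.mul_mem_mul ih.2 (Ideal.pow_le_self (Nat.succ_ne_zero n) ih.2)
  obtain ⟨a, ha⟩ := IsPrecomplete.prec' (I := I) c (fun {m n} hmn => by
    induction n, hmn using Nat.le_induction with
    | base => rfl
    | succ n hmn ih =>
      refine ih.trans (SModEq.sub_mem.2 ?_)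
      rw [hc, sub_sub_cancel, smul_eq_mul, Ideal.mul_top]
      exact Ideal.pow_le_pow_right (by omega) (Ideal.mul_mem_right _ _ (key n).2))
  have ha' : ∀ n, c n - a ∈ I ^ n := fun n => by
    have := SModEq.sub_mem.1 (ha n); rwa [smul_eq_mul, Ideal.mul_top] at this
  have hI : a - a₀ ∈ I := by
    have h := sub_mem (key 1).1 (by simpa using ha' 1 : c 1 - a ∈ I)
    simpa using h
  have hroot : P.IsRoot a := by
    refine IsHausdorff.haus' (I := I) _ fun n => SModEq.zero.2 ?_
    rw [smul_eq_mul, Ideal.mul_top]
    have h1 := Ideal.mem_of_dvd _ (Polynomial.sub_dvd_eval_sub (c n) a P) (ha' n)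
    have h2 := sub_mem (Ideal.pow_le_pow_right (Nat.le_succ n) (key n).2) h1
    simpa using h2
  refine ⟨a, ⟨hI, hroot⟩, fun b ⟨hb, hb0⟩ => ?_⟩
  obtain ⟨z, hz⟩ := P.binomExpansion a (b - a)
  rw [add_sub_cancel, hb0.eq_zero, hroot.eq_zero, zero_add] at hz
  have hu : IsUnit (P.derivative.eval a + z * (b - a)) := by
    apply IsUnit.of_map (Ideal.Quotient.mk I)
    have : Ideal.Quotient.mk I (b - a) = 0 := Ideal.Quotient.eq_zero_iff_mem.2 (by simpa using sub_mem hb hI)
    rw [map_add, map_mul, this, mul_zero, add_zero]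
    exact (hunit a hI).map _
  have : (P.derivative.eval a + z * (b - a)) * (b - a) = 0 := by linear_combination -hz
  rwa [hu.mul_right_eq_zero, sub_eq_zero] at this

end Groth.Agent.S14676
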