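import Groth.Statements.S14677
import Mathlib
import Groth.Agent.Lib.H2Alg.ComplExact

set_option autoImplicit false
universe u
open CAlg

namespace Groth.Agent.S14677
open H2Alg

/-- Let A be a Noetherian commutative ring, I and J ideals of A and M a finitely generated A-module.
Then the map of I-adic completions induced by the inclusion of the submodule JM into M is injective
with image exactly J·M̂, where M̂ is the I-adic completion of M; that is, the completion of JM is J
times the completion of M. (The published statement does not say that A is Noetherian; its proof
uses exactness of completion on finitely generated modules, which needs it, so this row assumes A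
Noetherian.) -/
theorem result (A : Type u) [CommRing A] [IsNoetherianRing A] (I J : Ideal A)
    (M : Type u) [AddCommGroup M] [Module A M] [Module.Finite A M] :
    Function.Injective (AdicCompletion.map I (J • (⊤ : Submodule A M)).subtype) ∧
      LinearMap.range (AdicCompletion.map I (J • (⊤ : Submodule A M)).subtype) =
        (J.map (algebraMap A (AdicCompletion I A))) • (⊤ : Submodule (AdicCompletion I A) (AdicCompletion I M)) := by
  refine ⟨AdicCompletion.map_injective I (Submodule.injective_subtype _), le_antisymm ?_ ?_⟩
  · rintro _ ⟨y, rfl⟩
    obtain ⟨t, rfl⟩ := (AdicCompletion.ofTensorProduct_bijective_of_finite_of_isNoetherian I ↥(J • (⊤ : Submodule A M))).2 y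
    induction t using TensorProduct.induction_on with
    | zero => simp
    | add a b ha hb => rw [map_add, map_add]; exact add_mem ha hb
    | tmul a x =>
      rw [AdicCompletion.ofTensorProduct_tmul, map_smul, AdicCompletion.map_of]
      refine Submodule.smul_mem _ _ ?_
      obtain ⟨x, hx⟩ := x
      simp only [Submodule.subtype_apply]
      refine Submodule.smul_induction_on hx (fun r hr m _ => ?_) (fun a b ha hb => ?_)
      · rw [map_smul, ← algebraMap_smul (AdicCompletion I A) r]
        exact Submodule.smul_mem_smul (Ideal.mem_map_of_mem _ hr) trivial
      · rw [map_add]; exact add_mem ha hb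
  · rw [Submodule.smul_le]
    intro r hr z hz
    clear hz
    obtain ⟨t, rfl⟩ := (AdicCompletion.ofTensorProduct_bijective_of_finite_of_isNoetherian I M).2 z
    induction t using TensorProduct.induction_on with
    | zero => simp
    | add a b ha hb => rw [map_add, smul_add]; exact add_mem ha hb
    | tmul a x =>
      rw [AdicCompletion.ofTensorProduct_tmul, smul_comm]
      refine Submodule.smul_mem _ _ ?_
      rw [Ideal.map] at hr
      induction hr using Submodule.span_induction with
      | mem r hr =>
        obtain ⟨j, hj, rfl⟩ := hr
        refine ⟨AdicCompletion.of I _ ⟨j • x, Submodule.smul_mem_smul hj trivial⟩, ?_⟩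
        rw [AdicCompletion.map_of, Submodule.subtype_apply, map_smul, algebraMap_smul]
      | zero => rw [zero_smul]; exact zero_mem _
      | add a b _ _ ha hb => rw [add_smul]; exact add_mem ha hb
      | smul c r _ h => rw [smul_eq_mul, mul_smul]; exact Submodule.smul_mem _ c h

end Groth.Agent.S14677
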