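import Groth.Statements.S14678
import Groth.Agent.Lib.Misc24.FlatRealize

set_option autoImplicit false
universe u
open CategoryTheory CategoryTheory.Limits AlgebraicGeometry
open EtBase

namespace Groth.Agent.S14678

/-- Let S be a scheme, s a point of S and ℓ a finite field extension of the residue field κ(s). Then,
fppf-locally around s, ℓ occurs as a residue field: there are an affine scheme U', a flat morphism b
: U' ⟶ S locally of finite presentation (so with open image containing s) and a morphism t : Spec ℓ
⟶ U' over the canonical morphism Spec ℓ ⟶ Spec κ(s) ⟶ S which is a preimmersion, i.e. the inclusion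
of a point s' of U' above s together with an identification of κ(s') with ℓ over κ(s); such a point
is closed in its fibre over s. (The published statement gives an affine open neighbourhood U of s
and an fppf morphism U' ⟶ U; this row asks only for a flat, locally finitely presented U' ⟶ S, whose
open image then contains s.) -/
theorem result (S : Scheme.{u}) (s : ↥S)
    (ℓ : Type u) [Field ℓ] [Algebra (S.residueField s) ℓ] [Module.Finite (S.residueField s) ℓ] :
    ∃ (U' : Scheme.{u}) (b : U' ⟶ S) (t : Spec (CommRingCat.of ℓ) ⟶ U'),
      IsAffine U' ∧ Flat b ∧ LocallyOfFinitePresentation b ∧ IsPreimmersion t ∧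
        t ≫ b = Spec.map (CommRingCat.ofHom (algebraMap (S.residueField s) ℓ)) ≫ S.fromSpecResidueField s := by
  exact Groth.Agent.Misc24.exists_flat_lfp_preimmersion S s ℓ

end Groth.Agent.S14678
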