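import Groth.Statements.S14679
import Mathlib.AlgebraicGeometry.PullbackCarrier

set_option autoImplicit false
universe u
open CategoryTheory CategoryTheory.Limits AlgebraicGeometry
open EtBase

namespace Groth.Agent.S14679
open AlgebraicGeometry.Scheme.Pullback

/-- Given a morphism of schemes f : X ⟶ Y and a point x ∈ X with image y = f(x), such that the residue
field map κ(y) → κ(x) is bijective; let ℓ be an algebraic extension field of κ(y) and form the base
change X ×_Y Spec ℓ along Spec ℓ ⟶ Spec κ(y) ⟶ Y. Then there is exactly one point of X ×_Y Spec ℓ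
mapping to x under the first projection. (The published statement takes ℓ to be an algebraic closure
of κ(y), noting that any algebraic extension works, and also identifies the local ring at the point
with O_{X,x} ⊗_{O_{Y,y}} ℓ; this row allows any algebraic extension ℓ and states only the first
assertion.) -/
theorem result {X Y : Scheme.{u}} (f : X ⟶ Y) (x : ↥X)
    (hx : Function.Bijective (f.residueFieldMap x).hom)
    (ℓ : Type u) [Field ℓ] [Algebra (Y.residueField (f.base x)) ℓ] [Algebra.IsAlgebraic (Y.residueField (f.base x)) ℓ] :
    ∃! z : ↥(pullback f (Spec.map (CommRingCat.ofHom (algebraMap (Y.residueField (f.base x)) ℓ)) ≫ Y.fromSpecResidueField (f.base x))),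
      (pullback.fst f (Spec.map (CommRingCat.ofHom (algebraMap (Y.residueField (f.base x)) ℓ)) ≫ Y.fromSpecResidueField (f.base x))).base z = x := by
  set g := Spec.map (CommRingCat.ofHom (algebraMap (Y.residueField (f.base x)) ℓ)) ≫ Y.fromSpecResidueField (f.base x) with hg
  have hgp : ∀ q, g.base q = f.base x := fun q => by
    rw [hg]; show (_ ≫ Y.fromSpecResidueField (f.base x)) q = _
    rw [Scheme.Hom.comp_apply, Scheme.fromSpecResidueField_apply]
  obtain ⟨z, hz, -⟩ := Scheme.Pullback.exists_preimage_pullback (f := f) (g := g) x (IsLocalRing.closedPoint ℓ) (hgp _).symm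
  haveI h0 : IsIso (f.residueFieldMap x) := by
    have e : f.residueFieldMap x = (RingEquiv.ofBijective (f.residueFieldMap x).hom hx).toCommRingCatIso.hom := rfl
    rw [e]; infer_instance
  have key : ∀ T : Triplet f g, T.x = x → Subsingleton (Spec T.tensor) := by
    intro T hT
    obtain ⟨x', y', s, h1, h2⟩ := T
    change x' = x at hT
    subst hT
    haveI : IsIso ((Y.residueFieldCongr h1).inv ≫ f.residueFieldMap x') := IsIso.comp_isIso
    let T : Triplet f g := ⟨x', y', s, h1, h2⟩
    haveI : IsIso T.tensorInr := pushout_inr_iso_of_left_iso _ _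
    haveI : IsIso (Spec.map T.tensorInr) := inferInstance
    exact (Spec.map T.tensorInr).homeomorph.injective.subsingleton
  refine ⟨z, hz, fun z' hz' => ?_⟩
  refine carrierEquiv.injective ?_
  rw [carrierEquiv_eq_iff]
  refine ⟨Triplet.ext (hz'.trans hz.symm) (Subsingleton.elim _ _), ?_⟩
  haveI := key _ (show (carrierEquiv z).1.x = x from hz)
  exact Subsingleton.elim _ _

end Groth.Agent.S14679
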