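import Groth.Statements.S14680
import Mathlib
import Groth.Agent.Lib.H2Alg.ComplExact

set_option autoImplicit false
universe u
open CAlg

namespace Groth.Agent.S14680
open H2Alg

theorem eq_zero_of_completions {A : Type u} [CommRing A] {N : Type u} [AddCommGroup N] [Module A N] [Module.Finite A N]
    (h : ∀ m : Ideal A, m.IsMaximal → ∀ x : AdicCompletion m N, x = 0) : ∀ x : N, x = 0 := by
  have hann : (Submodule.annihilator (⊤ : Submodule A N)) = ⊤ := by
    by_contra hne
    obtain ⟨m, hm, hle⟩ := Ideal.exists_le_maximal _ hne
    have htop : (⊤ : Submodule A N) ≤ m • ⊤ := by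
      intro x _
      have := congrArg (fun y => y.val 1) (h m hm (AdicCompletion.of m N x))
      simpa [Submodule.Quotient.mk_eq_zero] using this
    obtain ⟨r, hr1, hr2⟩ := Submodule.exists_sub_one_mem_and_smul_eq_zero_of_fg_of_le_smul m ⊤ Module.Finite.fg_top htop
    have hrm : r ∈ m := hle (Submodule.mem_annihilator.2 hr2)
    exact hm.ne_top ((Ideal.eq_top_iff_one _).2 (by simpa using sub_mem hrm hr1))
  intro x
  have := Submodule.mem_annihilator.1 (show (1 : A) ∈ Submodule.annihilator (⊤ : Submodule A N) by rw [hann]; trivial) x Submodule.mem_top
  simpa using this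

/-- Let A be a Noetherian commutative ring and f : M' → M, g : M → M'' linear maps between finitely
generated A-modules. Then the sequence 0 → M' → M → M'' → 0 is exact — f injective, the image of f
equal to the kernel of g, g surjective — if and only if for every maximal ideal m of A the sequence
of m-adic completions 0 → M'^ → M^ → M''^ → 0 (maps induced by f and g) is exact in the same sense. -/
theorem result (A : Type u) [CommRing A] [IsNoetherianRing A]
    (M' M M'' : Type u) [AddCommGroup M'] [Module A M'] [AddCommGroup M] [Module A M] [AddCommGroup M''] [Module A M'']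
    [Module.Finite A M'] [Module.Finite A M] [Module.Finite A M''] (f : M' →ₗ[A] M) (g : M →ₗ[A] M'') :
    (Function.Injective f ∧ Function.Exact f g ∧ Function.Surjective g) ↔
      ∀ (m : Ideal A) [m.IsMaximal],
        Function.Injective (AdicCompletion.map m f) ∧ Function.Exact (AdicCompletion.map m f) (AdicCompletion.map m g) ∧
          Function.Surjective (AdicCompletion.map m g) := by
  constructor
  · rintro ⟨h1, h2, h3⟩ m _
    exact ⟨AdicCompletion.map_injective m h1, AdicCompletion.map_exact h1 h2 h3, AdicCompletion.map_surjective m h3⟩
  · intro h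
    have key : ∀ {X Y : Type u} [AddCommGroup X] [Module A X] [AddCommGroup Y] [Module A Y] [Module.Finite A Y]
        (u : X →ₗ[A] Y), Function.Surjective u →
        (∀ m : Ideal A, m.IsMaximal → ∀ z : AdicCompletion m X, AdicCompletion.map m u z = 0) → ∀ y : Y, y = 0 := by
      intro X Y _ _ _ _ _ u hu hz
      refine eq_zero_of_completions (A := A) (N := Y) fun m hm y => ?_
      obtain ⟨z, rfl⟩ := AdicCompletion.map_surjective m hu y
      exact hz m hm z
    have hgf : g ∘ₗ f = 0 := by
      set W := LinearMap.range (g ∘ₗ f)
      have := key (g ∘ₗ f).rangeRestrict (g ∘ₗ f).surjective_rangeRestrict fun m hm z => by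
        apply AdicCompletion.map_injective m W.injective_subtype
        rw [map_zero, AdicCompletion.map_comp_apply, LinearMap.subtype_comp_codRestrict, ← AdicCompletion.map_comp_apply]
        exact (h m).2.1.apply_apply_eq_zero z
      ext x
      exact congrArg Subtype.val (this ((g ∘ₗ f).rangeRestrict x))
    refine ⟨?_, ?_, ?_⟩
    · rw [← LinearMap.ker_eq_bot, LinearMap.ker_eq_bot']
      intro x hx
      have := eq_zero_of_completions (N := LinearMap.ker f) fun m hm z => by
        apply AdicCompletion.map_injective m (LinearMap.ker f).injective_subtype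
        apply (h m).1
        rw [map_zero, map_zero, AdicCompletion.map_comp_apply, LinearMap.comp_ker_subtype, AdicCompletion.map_zero]
        rfl
      exact congrArg Subtype.val (this ⟨x, hx⟩)
    · have hfK : ∀ x, f x ∈ LinearMap.ker g := fun x => LinearMap.congr_fun hgf x
      let f' := f.codRestrict _ hfK
      have hK := key (LinearMap.range f').mkQ (Submodule.mkQ_surjective _) fun m hm z => by
        have h0 : AdicCompletion.map m f (0 : AdicCompletion m M') = 0 := map_zero _
        have hz : AdicCompletion.map m g (AdicCompletion.map m (LinearMap.ker g).subtype z) = 0 := by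
          rw [AdicCompletion.map_comp_apply, LinearMap.comp_ker_subtype, AdicCompletion.map_zero]
          rfl
        obtain ⟨w, hw⟩ := ((h m).2.1 _).1 hz
        have hzw : z = AdicCompletion.map m f' w := by
          apply AdicCompletion.map_injective m (LinearMap.ker g).injective_subtype
          rw [AdicCompletion.map_comp_apply m f' (LinearMap.ker g).subtype, LinearMap.subtype_comp_codRestrict, hw]
        rw [hzw, AdicCompletion.map_comp_apply, LinearMap.range_mkQ_comp, AdicCompletion.map_zero]
        rfl
      intro y
      refine ⟨fun hy => ?_, ?_⟩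
      · have h1 := hK (Submodule.Quotient.mk ⟨y, hy⟩)
        rw [Submodule.Quotient.mk_eq_zero] at h1
        obtain ⟨x, hx⟩ := h1
        exact ⟨x, congrArg Subtype.val hx⟩
      · rintro ⟨x, rfl⟩
        exact LinearMap.congr_fun hgf x
    · have hC := key (LinearMap.range g).mkQ (Submodule.mkQ_surjective _) fun m hm z => by
        obtain ⟨w, rfl⟩ := (h m).2.2 z
        rw [AdicCompletion.map_comp_apply, LinearMap.range_mkQ_comp, AdicCompletion.map_zero]
        rfl
      intro y
      have h1 := hC (Submodule.Quotient.mk y)
      rwa [Submodule.Quotient.mk_eq_zero] at h1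

end Groth.Agent.S14680
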