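import Groth.Statements.S14681
import Groth.Agent.Lib.CubeField.EffAmple
import Groth.Agent.Lib.CubeField.FinInst

set_option autoImplicit false
universe u
open CategoryTheory CategoryTheory.Limits MonoidalCategory CartesianMonoidalCategory MonObj GrpObj AlgebraicGeometry
open AbVar

namespace Groth.Agent.S14681

/-- (b) ⇒ (e): let k be an algebraically closed field, A an abelian variety over k (a proper k-group
scheme whose structure morphism is geometrically integral), D an effective Cartier divisor on A
given by its ideal sheaf I, and L an invertible O_A-module with L ⊗ I ≅ O_A (so L = O_A(D)). Suppose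
the set of k-points a of A whose translation x ↦ x·a maps each irreducible component of the support
of D onto itself is finite. Then L is ample. -/
theorem result (k : Type u) [Field k] [IsAlgClosed k]
    (A : Over (Spec (CommRingCat.of k))) [GrpObj A] [IsProper A.hom] [GeometricallyIntegral A.hom]
    (I : A.left.IdealSheafData) (hI : BlowUp.IsEffCartierIdeal I)
    (L : A.left.Modules) (hL : PicF.IsInvertible L) (hLI : ClSub.IsInverseOf L (ClSub.idealMod I))
    (hb : Set.Finite {a : (𝟙_ (Over (Spec (CommRingCat.of k)))) ⟶ A |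
      ∀ Z ∈ irreducibleComponents ↥(I.support : Set ↥A.left),
        (fun x : ↥A.left => (𝟙 A * (toUnit A ≫ a)).left.base x) '' (Subtype.val '' Z) = Subtype.val '' Z}) :
    CohB1.IsAmple L := by
  haveI : IsIntegral A.left := GeometricallyIntegral.isIntegral_of_subsingleton A.hom
  obtain ⟨s, hs, hne⟩ := Groth.Agent.CubeField.exists_section_of_inverse hI hLI
  refine Groth.Agent.CubeField.isAmple_of_finite_componentStabilizer Groth.Agent.CubeField.finH1 hL s hne
    (hb.subset fun a ha Z hZ => ?_)
  have hD : (CohB1.genLocus L s : Set A.left)ᶜ = (I.support : Set A.left) := by rw [hs, compl_compl]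
  have hemb := I.support.isClosed.isClosedEmbedding_subtypeVal
  refine ha _ (hemb.isClosedMap _ (isClosed_of_mem_irreducibleComponents _ hZ))
    (hZ.1.image _ continuous_subtype_val.continuousOn) (by rw [hD]; rintro _ ⟨y, -, rfl⟩; exact y.2)
    fun T hTc hTi hTs hle => ?_
  rw [hD] at hTs
  have himg : Subtype.val '' (Subtype.val ⁻¹' T : Set ↥(I.support : Set A.left)) = T := by
    rw [Subtype.image_preimage_coe, Set.inter_eq_right.2 hTs]
  have hTi' : IsIrreducible (Subtype.val ⁻¹' T : Set ↥(I.support : Set A.left)) := by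
    refine ⟨?_, ?_⟩
    · obtain ⟨y, hy⟩ := hTi.nonempty
      exact ⟨⟨y, hTs hy⟩, hy⟩
    · rintro u v ⟨u', hu', rfl⟩ ⟨v', hv', rfl⟩ ⟨y, hy, hyu⟩ ⟨z, hz, hzv⟩
      obtain ⟨w, hw, hwuv⟩ := hTi.2 u' v' hu' hv' ⟨y.1, hy, hyu⟩ ⟨z.1, hz, hzv⟩
      exact ⟨⟨w, hTs hw⟩, hw, hwuv⟩
  have h2 : (Subtype.val ⁻¹' T : Set ↥(I.support : Set A.left)) ⊆ Z :=
    hZ.2 hTi' fun y hy => hle ⟨y, hy, rfl⟩
  exact subset_antisymm (himg ▸ Set.image_mono h2) hle

end Groth.Agent.S14681
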