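import Groth.Statements.S14683
import Groth.Agent.Lib.SekSuwa19.Basic
import Groth.Agent.Lib.AlgGrpBasic19.Basic
import Groth.Agent.Lib.DiagGL.Points
import Mathlib.GroupTheory.GroupAction.Quotient
import Mathlib.GroupTheory.Index
import Mathlib.RingTheory.RootsOfUnity.AlgebraicallyClosed
import Mathlib.RingTheory.TensorProduct.Basic
import Mathlib.LinearAlgebra.TensorProduct.Basis
import Mathlib.FieldTheory.IsAlgClosed.AlgebraicClosure
import Mathlib.RingTheory.Localization.FractionRing

set_option autoImplicit false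
universe u
open CategoryTheory AlgebraicGeometry MonoidalCategory CartesianMonoidalCategory MonObj GrpObj
open SekSuwa

namespace Groth.Agent.S14683

set_option backward.isDefEq.respectTransparency.types false
set_option maxHeartbeats 1000000
open Groth.Agent.DiagGL
open scoped TensorProduct

section
variable {R : Type u} [CommRing R]

theorem alg_sp (B : Type u) [CommRing B] [Algebra R B] (r : R) :
    alg (CoactBr.sp R B) r = (Scheme.ΓSpecIso (CommRingCat.of B)).inv (algebraMap R B r) := by
  rw [← ev_algebraMap (CoactBr.pt (AlgHom.id R B)), ev_pt]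
  rfl

theorem exists_pt {B C : Type u} [CommRing B] [Algebra R B] [CommRing C] [Algebra R C]
    (f : CoactBr.sp R C ⟶ CoactBr.sp R B) : ∃ φ : B →ₐ[R] C, f = CoactBr.pt φ := by
  let g : B →+* C := (Scheme.ΓSpecIso (CommRingCat.of C)).hom.hom.comp (ev f)
  refine ⟨⟨g, fun r => ?_⟩, ev_injective fun b => ?_⟩
  · show (Scheme.ΓSpecIso (CommRingCat.of C)).hom (ev f (algebraMap R B r)) = _
    rw [ev_algebraMap, alg_sp]
    exact Iso.inv_hom_id_apply _ _
  · rw [ev_pt]
    exact (Iso.hom_inv_id_apply _ _).symm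

theorem pt_injective {B C : Type u} [CommRing B] [Algebra R B] [CommRing C] [Algebra R C] :
    Function.Injective (CoactBr.pt : (B →ₐ[R] C) → (CoactBr.sp R C ⟶ CoactBr.sp R B)) := fun φ ψ h =>
  AlgHom.ext fun b => (ConcreteCategory.bijective_of_isIso (Scheme.ΓSpecIso (CommRingCat.of C)).inv).1 (by
    rw [← ev_pt, ← ev_pt, h])

theorem pt_comp {A B C : Type u} [CommRing A] [Algebra R A] [CommRing B] [Algebra R B] [CommRing C] [Algebra R C]
    (φ : A →ₐ[R] B) (ψ : B →ₐ[R] C) : CoactBr.pt ψ ≫ CoactBr.pt φ = CoactBr.pt (ψ.comp φ) := by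
  refine ev_injective fun a => ?_
  rw [ev_comp, ev_pt, ev_pt]
  exact (ConcreteCategory.congr_hom (Scheme.ΓSpecIso_inv_naturality (CommRingCat.ofHom ψ.toRingHom)) (φ a)).symm

variable {lam : R} {p : ℕ} (h : SekSuwa.DivCond lam p) {L : Type u} [Field L] [Algebra R L]

/-- Algebra points of `G_{λ,p}` are the roots of `P`. -/
noncomputable def pointEquiv (hp : 0 < p) :
    (SekSuwa.AK R lam p h →ₐ[R] L) ≃ {y : L // Polynomial.aeval y (SekSuwa.psiPoly lam p h) = 0} where
  toFun φ := ⟨φ SekSuwa.AK.t, by rw [Polynomial.aeval_algHom_apply, SekSuwa.AK.aeval_t, map_zero]⟩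
  invFun y := (AdjoinRoot.liftAlgHom _ (Algebra.ofId R L) y.1 y.2).comp (Groth.Agent.SekSuwa19.equiv h hp).symm.toAlgHom
  left_inv φ := by
    have h1 : (Groth.Agent.SekSuwa19.equiv h hp) (AdjoinRoot.root _) = SekSuwa.AK.t :=
      AdjoinRoot.liftAlgHom_root _ _ _ SekSuwa.AK.aeval_t
    apply (AlgHom.cancel_right (f := (Groth.Agent.SekSuwa19.equiv h hp).toAlgHom)
      (Groth.Agent.SekSuwa19.equiv h hp).surjective).1
    refine AdjoinRoot.algHom_ext ?_
    have h2 : (Groth.Agent.SekSuwa19.equiv h hp).symm SekSuwa.AK.t = AdjoinRoot.root _ := by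
      rw [← h1, AlgEquiv.symm_apply_apply]
    simp [h1, h2]
  right_inv y := by
    have h1 : (Groth.Agent.SekSuwa19.equiv h hp).symm SekSuwa.AK.t = AdjoinRoot.root _ := by
      rw [AlgEquiv.symm_apply_eq]
      exact (AdjoinRoot.liftAlgHom_root _ _ _ SekSuwa.AK.aeval_t).symm
    apply Subtype.ext
    simp [h1]

theorem roots_finite_card [IsAlgClosed L] [CharZero L] (hlam : algebraMap R L lam ≠ 0) (hp : 0 < p) :
    ∃ s : Finset L, s.card = p ∧ ∀ y, y ∈ s ↔ Polynomial.aeval y (SekSuwa.psiPoly lam p h) = 0 := by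
  classical
  haveI : NeZero p := ⟨hp.ne'⟩
  haveI : NeZero (p : L) := NeZero.charZero
  obtain ⟨ζ, hζ⟩ := HasEnoughRootsOfUnity.exists_primitiveRoot L p
  refine ⟨(Polynomial.nthRootsFinset p (1 : L)).image fun u => (u - 1) / algebraMap R L lam, ?_, fun y => ?_⟩
  · rw [Finset.card_image_of_injective _ (fun a b e => by
      simpa [div_left_inj' hlam] using e), hζ.card_nthRootsFinset]
  · have e := SekSuwa.aeval_psiPoly h y
    simp only [Finset.mem_image, Polynomial.mem_nthRootsFinset hp]
    constructor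
    · rintro ⟨u, hu, rfl⟩
      rw [mul_div_cancel₀ _ hlam, add_sub_cancel, hu, sub_self, map_pow] at e
      exact (mul_eq_zero.1 e).resolve_left (pow_ne_zero _ hlam)
    · intro hy
      refine ⟨1 + algebraMap R L lam * y, ?_, by rw [add_sub_cancel_left, mul_div_cancel_left₀ _ hlam]⟩
      rw [hy, mul_zero] at e
      exact sub_eq_zero.1 e.symm

theorem card_points [IsAlgClosed L] [CharZero L] (hlam : algebraMap R L lam ≠ 0) (hp : 0 < p) :
    Nat.card (CoactBr.sp R L ⟶ SekSuwa.GK R lam p h) = p := by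
  obtain ⟨s, hs, hs'⟩ := roots_finite_card h (L := L) hlam hp
  have e : (CoactBr.sp R L ⟶ SekSuwa.GK R lam p h) ≃ (SekSuwa.AK R lam p h →ₐ[R] L) :=
    (Equiv.ofBijective (CoactBr.pt : (SekSuwa.AK R lam p h →ₐ[R] L) → _)
      ⟨pt_injective, fun f => (exists_pt f).imp fun φ hφ => hφ.symm⟩).symm
  rw [Nat.card_congr (e.trans ((pointEquiv h hp).trans (Equiv.subtypeEquivRight fun y => (hs' y).symm))),
    Nat.card_eq_finsetCard, hs]

/-- An action of a group of prime order on a set of the same order with a fixed point is trivial. -/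
theorem smul_eq_self {G X : Type*} [Group G] [MulAction G X] {q : ℕ} (hq : q.Prime) (hG : Nat.card G = q)
    (hX : Nat.card X = q) (o : X) (ho : ∀ g : G, g • o = o) (g : G) (x : X) : g • x = x := by
  haveI : Finite X := Nat.finite_of_card_ne_zero (hX ▸ hq.ne_zero)
  have hdvd : (MulAction.orbit G x).ncard ∣ q := by
    rw [← MulAction.index_stabilizer, ← hG]
    exact Subgroup.index_dvd_card _
  rcases (Nat.dvd_prime hq).1 hdvd with h1 | h1
  · obtain ⟨z, hz⟩ := Set.ncard_eq_one.1 h1
    have e1 : g • x = z := by simpa [hz] using MulAction.mem_orbit x g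
    have e2 : x = z := by simpa [hz] using MulAction.mem_orbit_self (M := G) x
    rw [e1, ← e2]
  · have huniv : MulAction.orbit G x = Set.univ :=
      Set.eq_of_subset_of_ncard_le (Set.subset_univ _) (by rw [Set.ncard_univ, hX, h1]) (Set.toFinite _)
    obtain ⟨g', hg'⟩ : o ∈ MulAction.orbit G x := huniv ▸ Set.mem_univ o
    have hx : x = o := by
      rw [← inv_smul_smul g' x]
      exact (congrArg (g'⁻¹ • ·) hg').trans (ho _)
    rw [hx, ho]

end


/-- Let R be a discrete valuation ring of characteristic zero and residue characteristic p, and let λ, μ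
∈ R satisfy the divisibility condition under which the finite R-group schemes G_{λ,1} and G_{μ,1}
(the kernels of the isogenies ψ of the one-parameter groups with law s + t + λst, resp. μ) are
defined. Then every action of G_{μ,1} on G_{λ,1} by group automorphisms is trivial: for every
R-scheme T and all T-valued points g of G_{μ,1} and x of G_{λ,1}, g · x = x. An action by group
automorphisms is an action of the group scheme G_{μ,1} on the scheme G_{λ,1} whose action map is
multiplicative in the second variable on points. (The published statement is made under standing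
assumptions that R contains a primitive p²-th root of unity and that λ, μ have positive valuation;
this row drops both, which the argument does not use.) -/
theorem result (R : Type u) [CommRing R] [IsDomain R] [IsDiscreteValuationRing R] [CharZero R]
    (p : ℕ) [Fact p.Prime] [CharP (IsLocalRing.ResidueField R) p]
    (lam mu : R) (h₁ : SekSuwa.DivCond lam p) (h₂ : SekSuwa.DivCond mu p)
    (a : AlgGrp.Action (SekSuwa.GK R mu p h₂) (SekSuwa.GK R lam p h₁))
    (hmul : ∀ (T : Over (Spec (CommRingCat.of R))) (g : T ⟶ SekSuwa.GK R mu p h₂)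
      (x y : T ⟶ SekSuwa.GK R lam p h₁), lift g (x * y) ≫ a.act = (lift g x ≫ a.act) * (lift g y ≫ a.act))
    (T : Over (Spec (CommRingCat.of R))) (g : T ⟶ SekSuwa.GK R mu p h₂) (x : T ⟶ SekSuwa.GK R lam p h₁) :
    lift g x ≫ a.act = x := by
  classical
  have hp : 0 < p := (Fact.out : p.Prime).pos
  let A₂ := SekSuwa.AK R mu p h₂
  let A₁ := SekSuwa.AK R lam p h₁
  let B := A₂ ⊗[R] A₁
  let gu : CoactBr.sp R B ⟶ SekSuwa.GK R mu p h₂ :=
    CoactBr.pt (Algebra.TensorProduct.includeLeft : A₂ →ₐ[R] B)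
  let xu : CoactBr.sp R B ⟶ SekSuwa.GK R lam p h₁ :=
    CoactBr.pt (Algebra.TensorProduct.includeRight : A₁ →ₐ[R] B)
  suffices hu : lift gu xu ≫ a.act = xu by
    let φ : A₂ →+* Γ(T.left, ⊤) := ev g
    letI := (alg T).toAlgebra
    let F : B →ₐ[R] Γ(T.left, ⊤) :=
      Algebra.TensorProduct.lift (S := R) ⟨ev g, ev_algebraMap g⟩ ⟨ev x, ev_algebraMap x⟩ fun _ _ => .all _ _
    let t : T ⟶ CoactBr.sp R B := mk F.toRingHom fun r => F.commutes r
    have ht : ∀ b, ev t b = F b := fun b => by rw [ev_mk]; rfl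
    have h1 : t ≫ gu = g := ev_injective (A := A₂) fun b => by
      rw [ev_comp, ev_pt]
      show ev t (b ⊗ₜ[R] (1 : A₁)) = _
      rw [ht, Algebra.TensorProduct.lift_tmul, map_one, _root_.mul_one]
      rfl
    have h2 : t ≫ xu = x := ev_injective (A := A₁) fun b => by
      rw [ev_comp, ev_pt]
      show ev t ((1 : A₂) ⊗ₜ[R] b) = _
      rw [ht, Algebra.TensorProduct.lift_tmul, map_one, _root_.one_mul]
      rfl
    rw [← h1, ← h2, ← comp_lift_assoc, hu]
  obtain ⟨ψ, hψ⟩ := exists_pt (lift gu xu ≫ a.act)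
  rw [hψ]
  show CoactBr.pt ψ = CoactBr.pt _
  congr 1
  apply AlgHom.ext
  intro b
  rw [← sub_eq_zero]
  -- it suffices to test on geometric points of the generic fibre
  let L := AlgebraicClosure (FractionRing R)
  have hinjR : Function.Injective (algebraMap R L) := by
    rw [IsScalarTower.algebraMap_eq R (FractionRing R) L]
    exact (algebraMap (FractionRing R) L).injective.comp (IsFractionRing.injective R (FractionRing R))
  haveI : CharZero L := charZero_of_injective_ringHom hinjR
  have hlam : algebraMap R L lam ≠ 0 := (map_ne_zero_iff _ hinjR).2 (nonZeroDivisors.ne_zero h₁.1)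
  have hmu : algebraMap R L mu ≠ 0 := (map_ne_zero_iff _ hinjR).2 (nonZeroDivisors.ne_zero h₂.1)
  have hpts : ∀ Φ : B →ₐ[R] L, Φ (ψ b - Algebra.TensorProduct.includeRight b) = 0 := fun Φ => by
    rw [map_sub, sub_eq_zero]
    letI : MulAction (CoactBr.sp R L ⟶ SekSuwa.GK R mu p h₂) (CoactBr.sp R L ⟶ SekSuwa.GK R lam p h₁) :=
      { smul := fun g x => lift g x ≫ a.act
        one_smul := fun x => Groth.Agent.AlgGrpBasic19.act_one a x
        mul_smul := fun g g' x => Groth.Agent.AlgGrpBasic19.act_mul a g g' x }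
    have hfix : ∀ g : CoactBr.sp R L ⟶ SekSuwa.GK R mu p h₂,
        g • (1 : CoactBr.sp R L ⟶ SekSuwa.GK R lam p h₁) = 1 := fun g => by
      show lift g 1 ≫ a.act = 1
      have e := hmul _ g 1 1
      rw [_root_.one_mul] at e
      exact left_eq_mul.1 e
    have key : lift (CoactBr.pt Φ ≫ gu) (CoactBr.pt Φ ≫ xu) ≫ a.act = CoactBr.pt Φ ≫ xu :=
      smul_eq_self (Fact.out : p.Prime) (card_points h₂ hmu hp) (card_points h₁ hlam hp) 1 hfix
        (CoactBr.pt Φ ≫ gu) (CoactBr.pt Φ ≫ xu)
    rw [← comp_lift_assoc, hψ] at key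
    have e : Φ.comp ψ = Φ.comp Algebra.TensorProduct.includeRight :=
      pt_injective (by rw [← pt_comp, ← pt_comp]; exact key)
    exact DFunLike.congr_fun e b
  -- geometric points separate elements
  set z := ψ b - Algebra.TensorProduct.includeRight b
  let pb₂ := (AdjoinRoot.powerBasis' (Groth.Agent.SekSuwa19.monic h₂ hp)).map (Groth.Agent.SekSuwa19.equiv h₂ hp)
  let pb₁ := (AdjoinRoot.powerBasis' (Groth.Agent.SekSuwa19.monic h₁ hp)).map (Groth.Agent.SekSuwa19.equiv h₁ hp)
  let bB := pb₂.basis.tensorProduct pb₁.basis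
  haveI : Nontrivial R := inferInstance
  have hd₂ : pb₂.dim = p := Groth.Agent.SekSuwa19.natDegree_eq h₂ hp
  have hd₁ : pb₁.dim = p := Groth.Agent.SekSuwa19.natDegree_eq h₁ hp
  have hg₂ : pb₂.gen = (SekSuwa.AK.t : A₂) := AdjoinRoot.liftAlgHom_root _ _ _ SekSuwa.AK.aeval_t
  have hg₁ : pb₁.gen = (SekSuwa.AK.t : A₁) := AdjoinRoot.liftAlgHom_root _ _ _ SekSuwa.AK.aeval_t
  obtain ⟨s₂, hs₂, hs₂'⟩ := roots_finite_card h₂ (L := L) hmu hp
  obtain ⟨s₁, hs₁, hs₁'⟩ := roots_finite_card h₁ (L := L) hlam hp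
  have hvanish : ∀ y ∈ s₂, ∀ w ∈ s₁,
      ∑ i, (∑ j, algebraMap R L (bB.repr z (i, j)) * w ^ (j : ℕ)) * y ^ (i : ℕ) = 0 := by
    intro y hy w hw
    let φ₂ := (pointEquiv h₂ (L := L) hp).symm ⟨y, (hs₂' y).1 hy⟩
    let φ₁ := (pointEquiv h₁ (L := L) hp).symm ⟨w, (hs₁' w).1 hw⟩
    have e2 : φ₂ SekSuwa.AK.t = y := congrArg Subtype.val ((pointEquiv h₂ (L := L) hp).apply_symm_apply ⟨y, _⟩)
    have e1 : φ₁ SekSuwa.AK.t = w := congrArg Subtype.val ((pointEquiv h₁ (L := L) hp).apply_symm_apply ⟨w, _⟩)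
    have h := hpts (Algebra.TensorProduct.lift φ₂ φ₁ fun _ _ => .all _ _)
    conv_lhs at h => rw [← bB.sum_repr z]
    rw [map_sum, Fintype.sum_prod_type] at h
    conv_rhs => rw [← h]
    refine Finset.sum_congr rfl fun i _ => ?_
    rw [Finset.sum_mul]
    refine Finset.sum_congr rfl fun j _ => ?_
    simp only [bB, Module.Basis.tensorProduct_apply, PowerBasis.coe_basis, hg₁, hg₂, Algebra.smul_def]
    rw [map_mul, AlgHom.commutes, Algebra.TensorProduct.lift_tmul, map_pow, map_pow, e1, e2]
    ring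
  have hzero : ∀ {n : ℕ} (c : Fin n → L) (s : Finset L), n = s.card →
      (∀ y ∈ s, ∑ i, c i * y ^ (i : ℕ) = 0) → ∀ i, c i = 0 := by
    intro n c s hn hc i
    let P : Polynomial L := ∑ i : Fin n, Polynomial.monomial (i : ℕ) (c i)
    have hP : P = 0 := by
      by_contra hP
      refine hP (Polynomial.eq_zero_of_natDegree_lt_card_of_eval_eq_zero' P s
        (fun y hy => by simpa [P, Polynomial.eval_finset_sum] using hc y hy) ?_)
      rw [Polynomial.natDegree_lt_iff_degree_lt hP, ← hn, Polynomial.degree_lt_iff_coeff_zero]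
      intro k hk
      simp only [P, Polynomial.finset_sum_coeff, Polynomial.coeff_monomial]
      exact Finset.sum_eq_zero fun j _ => if_neg (by omega)
    have := congrArg (fun q => Polynomial.coeff q (i : ℕ)) hP
    simpa [P, Polynomial.coeff_monomial, Fin.val_inj] using this
  have hc : ∀ i j, bB.repr z (i, j) = 0 := fun i j => by
    apply hinjR
    rw [map_zero]
    exact hzero _ s₁ (hd₁.trans hs₁.symm)
      (fun w hw => hzero _ s₂ (hd₂.trans hs₂.symm) (fun y hy => hvanish y hy w hw) i) j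
  apply bB.repr.injective
  rw [map_zero]
  ext ⟨i, j⟩
  exact hc i j

end Groth.Agent.S14683
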