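import Groth.Statements.S14685
import Groth.Agent.Lib.RankP19.Scheme
-- import your own Groth.Agent.* helpers here

set_option autoImplicit false
set_option backward.isDefEq.respectTransparency.types false
universe u
open CategoryTheory AlgebraicGeometry
open SekSuwa

namespace Groth.Agent.S14685

set_option linter.style.haveILetI false
set_option backward.isDefEq.respectTransparency.types false


/-- Let R be a discrete valuation ring of characteristic zero and residue characteristic p containing a
primitive p-th root of unity, with fraction field K, and let G be a finite flat R-group scheme whose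
generic fibre is isomorphic, as a K-group scheme, to the constant group ℤ/pℤ. Then G is isomorphic
as an R-group scheme to G_{λ,1} = Spec R[T]/(((1 + λT)^p − 1)/λ^p) (the kernel of the isogeny ψ on
the one-parameter group with law s + t + λst) for some nonzero λ ∈ R for which that polynomial has
coefficients in R. -/
theorem result (R : Type u) [CommRing R] [IsDomain R] [IsDiscreteValuationRing R] [CharZero R]
    (p : ℕ) [Fact p.Prime] [CharP (IsLocalRing.ResidueField R) p]
    (ζ : R) (hζ : IsPrimitiveRoot ζ p)
    (G : Over (Spec (CommRingCat.of R))) [GrpObj G] [IsFinite G.hom] [Flat G.hom]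
    (e : Red.bc (Spec.map (CommRingCat.ofHom (algebraMap R (FractionRing R)))) G ≅ TwC.const (Spec (CommRingCat.of (FractionRing R))) (Multiplicative (ZMod p)))
    (he : TwC.IsConstGrp (Multiplicative (ZMod p)) (Red.bc (Spec.map (CommRingCat.ofHom (algebraMap R (FractionRing R)))) G) e) :
    ∃ (lam : R) (h : SekSuwa.DivCond lam p), lam ≠ 0 ∧ Nonempty (Grp.mk G ≅ Grp.mk (SekSuwa.GK R lam p h)) := by
  classical
  haveI : IsAffine G.left := isAffine_of_isAffineHom G.hom
  obtain ⟨⟨H₀⟩, ⟨eG⟩⟩ := (AlgebraicGeometry.essImage_hopfSpec (G := Grp.mk G)).2 ‹_›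
  obtain ⟨H, iH, iH', ⟨eG⟩⟩ : ∃ (A : Type u) (_ : CommRing A) (_ : HopfAlgebra R A),
      Nonempty (Grp.mk (CoactBr.sp R A) ≅ Grp.mk G) :=
    ⟨H₀.X, H₀.commRing, H₀.hopfAlgebra, ⟨eG⟩⟩
  obtain ⟨x, hmul, hx⟩ := @Groth.Agent.RankP19.exists_points R _ H iH iH' G _ eG (FractionRing R) _ _ (Multiplicative (ZMod p)) _ _ e he
  let eX : CoactBr.sp R H ≅ G :=
    ⟨eG.hom.hom.hom, eG.inv.hom.hom, by rw [← Mon.comp_hom', ← Grp.comp', eG.hom_inv_id]; rfl,
      by rw [← Mon.comp_hom', ← Grp.comp', eG.inv_hom_id]; rfl⟩
  haveI : IsIso eX.hom.left := inferInstanceAs (IsIso ((Over.forget _).map eX.hom))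
  have hfin : IsFinite (CoactBr.sp R H).hom := by rw [← Over.w eX.hom]; infer_instance
  have hflat : Flat (CoactBr.sp R H).hom := by rw [← Over.w eX.hom]; infer_instance
  change IsFinite (Spec.map (CommRingCat.ofHom (algebraMap R H))) at hfin
  change Flat (Spec.map (CommRingCat.ofHom (algebraMap R H))) at hflat
  haveI : Module.Finite R H := RingHom.finite_algebraMap.mp ((IsFinite.SpecMap_iff _).mp hfin)
  haveI : Module.Flat R H := RingHom.flat_algebraMap_iff.mp (Flat.SpecMap_iff.mp hflat)
  haveI : Module.Free R H := Module.free_of_flat_of_isLocalRing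
  let b₀ := Module.finBasis R H
  have hn : Module.finrank R H = p := by
    let L : (Fin (Module.finrank R H) → FractionRing R) →ₗ[FractionRing R]
        (Multiplicative (ZMod p) → FractionRing R) :=
      { toFun := fun c i => ∑ k, c k * x i (b₀ k)
        map_add' := fun c d => by
          funext i; simp only [Pi.add_apply, add_mul, Finset.sum_add_distrib]
        map_smul' := fun r c => by
          funext i; simp only [Pi.smul_apply, smul_eq_mul, Finset.mul_sum, mul_assoc, RingHom.id_apply] }
    have h := (LinearEquiv.ofBijective L (hx b₀)).finrank_eq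
    simpa using h
  let b : Module.Basis (Fin p) R H := b₀.reindex (finCongr hn)
  have hbij := hx b
  have hζ' : IsPrimitiveRoot (algebraMap R (FractionRing R) ζ) p :=
    hζ.map_of_injective (IsFractionRing.injective R (FractionRing R))
  set z := algebraMap R (FractionRing R) ζ with hz
  let χ : Multiplicative (ZMod p) → FractionRing R := fun i => z ^ (Multiplicative.toAdd i).val
  have hχ : ∀ i j, χ (i * j) = χ i * χ j := fun i j => by
    simp only [χ, toAdd_mul, ZMod.val_add]
    rw [← pow_add]
    conv_rhs => rw [← Nat.mod_add_div ((Multiplicative.toAdd i).val + (Multiplicative.toAdd j).val) p]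
    rw [pow_add z, pow_mul, hζ'.pow_eq_one, one_pow, _root_.mul_one]
  obtain ⟨g, hgx, hgc⟩ := Groth.Agent.RankP19.exists_groupLike_of_character b x hmul hbij χ hχ
  have hev : ∀ a a' : H, (∀ i, x i a = x i a') → a = a' := fun a a' h => b.ext_elem fun k =>
    IsFractionRing.injective R (FractionRing R) (congrFun (hbij.1 (funext fun i => by
      show ∑ k, algebraMap R _ (b.repr a k) * x i (b k) = ∑ k, algebraMap R _ (b.repr a' k) * x i (b k)
      rw [← Groth.Agent.RankP19.apply_eq_sum b, ← Groth.Agent.RankP19.apply_eq_sum b, h i])) k)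
  have hg0 : g ≠ 0 := fun h => by
    have h1 := hgx 1
    rw [h, map_zero] at h1
    exact pow_ne_zero _ (hζ'.ne_zero (Fact.out : p.Prime).ne_zero) h1.symm
  have hε : Coalgebra.counit (R := R) g = 1 := by
    have h := Coalgebra.rTensor_counit_comul (R := R) g
    rw [hgc, LinearMap.rTensor_tmul] at h
    have h' := congrArg (TensorProduct.lid R H) h
    rw [TensorProduct.lid_tmul, TensorProduct.lid_tmul] at h'
    exact smul_left_injective R hg0 h'
  have hg1 : g ≠ 1 := fun h => by
    have h1 := hgx (Multiplicative.ofAdd 1)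
    rw [h, map_one] at h1
    haveI : Fact (1 < p) := ⟨(Fact.out : p.Prime).one_lt⟩
    simp only [χ, toAdd_ofAdd, ZMod.val_one, pow_one] at h1
    exact hζ'.ne_one (Fact.out : p.Prime).one_lt h1.symm
  have hgp : g ^ p = 1 := hev _ _ fun i => by
    rw [map_pow, map_one, hgx, ← pow_mul, _root_.mul_comm, pow_mul, hζ'.pow_eq_one, one_pow]
  obtain ⟨lam, h, hl, ⟨F⟩⟩ := Groth.Agent.RankP19.exists_bialgEquiv_of_groupLike p b g hgc hε hg1 hgp
  exact ⟨lam, h, hl, ⟨eG.symm ≪≫ (AlgebraicGeometry.hopfSpec (CommRingCat.of R)).mapIso (CommHopfAlgCat.isoMk F).op⟩⟩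

end Groth.Agent.S14685
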