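import Groth.Statements.S14686
import Groth.Agent.Lib.RankP19.Scheme
import Groth.Agent.Lib.RankP19.Quot
import Groth.Agent.Lib.RankP19.Kernel
import Groth.Agent.Lib.RankP19.Exact
import Mathlib.GroupTheory.PGroup
import Mathlib.GroupTheory.Perm.Cycle.Type
import Mathlib.GroupTheory.SpecificGroups.Cyclic
-- import your own Groth.Agent.* helpers here

set_option autoImplicit false
universe u
open CategoryTheory AlgebraicGeometry
open SekSuwa

namespace Groth.Agent.S14686

open CategoryTheory.MonObj

set_option linter.style.haveILetI false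
set_option backward.isDefEq.respectTransparency.types false


/-- Let R be a discrete valuation ring of characteristic zero and residue characteristic p containing a
primitive p²-th root of unity, with fraction field K, and let G be a finite flat R-group scheme of
order p² (finite locally free of degree p² over Spec R) whose generic fibre is a constant K-group
scheme (so the underlying group has order p²). Then G is an extension of G_{μ,1} by G_{λ,1} for some
nonzero λ, μ ∈ R satisfying the divisibility condition defining these kernels: there are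
homomorphisms of R-group schemes G_{λ,1} → G and G → G_{μ,1} whose composite is trivial, with G a
pseudo-torsor under G_{λ,1} over G_{μ,1} and G → G_{μ,1} admitting sections locally for the fppf
topology. -/
theorem result (R : Type u) [CommRing R] [IsDomain R] [IsDiscreteValuationRing R] [CharZero R]
    (p : ℕ) [Fact p.Prime] [CharP (IsLocalRing.ResidueField R) p]
    (ζ : R) (hζ : IsPrimitiveRoot ζ (p ^ 2))
    (G : Over (Spec (CommRingCat.of R))) [GrpObj G] (hG : Mor2.IsFinLocFreeOfDeg (p ^ 2) G.hom)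
    (M : Type) [Group M] [Finite M]
    (e : Red.bc (Spec.map (CommRingCat.ofHom (algebraMap R (FractionRing R)))) G ≅ TwC.const (Spec (CommRingCat.of (FractionRing R))) M)
    (he : TwC.IsConstGrp M (Red.bc (Spec.map (CommRingCat.ofHom (algebraMap R (FractionRing R)))) G) e) :
    ∃ (lam mu : R) (h₁ : SekSuwa.DivCond lam p) (h₂ : SekSuwa.DivCond mu p)
      (u : SekSuwa.GK R lam p h₁ ⟶ G) (v : G ⟶ SekSuwa.GK R mu p h₂),
      lam ≠ 0 ∧ mu ≠ 0 ∧ NonAbH1.IsExactSeq Scheme.fppfPrecoverage u v := by
  classical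
  have hp : p.Prime := Fact.out
  haveI : Fintype M := Fintype.ofFinite M
  haveI := hG.1.1
  haveI := hG.1.2.1
  haveI : IsAffine G.left := isAffine_of_isAffineHom G.hom
  obtain ⟨⟨H₀⟩, ⟨eG⟩⟩ := (AlgebraicGeometry.essImage_hopfSpec (G := Grp.mk G)).2 ‹_›
  obtain ⟨A, iA, iA', ⟨eG⟩⟩ : ∃ (A : Type u) (_ : CommRing A) (_ : HopfAlgebra R A),
      Nonempty (Grp.mk (CoactBr.sp R A) ≅ Grp.mk G) :=
    ⟨H₀.X, H₀.commRing, H₀.hopfAlgebra, ⟨eG⟩⟩
  obtain ⟨x, hmul, hx⟩ := @Groth.Agent.RankP19.exists_points R _ A iA iA' G _ eG (FractionRing R) _ _ M _ _ e he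
  let eX : CoactBr.sp R A ≅ G :=
    ⟨eG.hom.hom.hom, eG.inv.hom.hom, by rw [← Mon.comp_hom', ← Grp.comp', eG.hom_inv_id]; rfl,
      by rw [← Mon.comp_hom', ← Grp.comp', eG.inv_hom_id]; rfl⟩
  haveI : IsIso eX.hom.left := inferInstanceAs (IsIso ((Over.forget _).map eX.hom))
  haveI : IsIso eX.inv.left := inferInstanceAs (IsIso ((Over.forget _).map eX.inv))
  have hfin : IsFinite (CoactBr.sp R A).hom := by rw [← Over.w eX.hom]; infer_instance
  have hflat : Flat (CoactBr.sp R A).hom := by rw [← Over.w eX.hom]; infer_instance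
  change IsFinite (Spec.map (CommRingCat.ofHom (algebraMap R A))) at hfin
  change Flat (Spec.map (CommRingCat.ofHom (algebraMap R A))) at hflat
  haveI : Module.Finite R A := RingHom.finite_algebraMap.mp ((IsFinite.SpecMap_iff _).mp hfin)
  haveI : Module.Flat R A := RingHom.flat_algebraMap_iff.mp (Flat.SpecMap_iff.mp hflat)
  haveI : Module.Free R A := Module.free_of_flat_of_isLocalRing
  let b := Module.finBasis R A
  let L : (Fin (Module.finrank R A) → FractionRing R) →ₗ[FractionRing R] (M → FractionRing R) :=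
    { toFun := fun c i => ∑ k, c k * x i (b k)
      map_add' := fun c d => by funext i; simp only [Pi.add_apply, add_mul, Finset.sum_add_distrib]
      map_smul' := fun r c => by
        funext i; simp only [Pi.smul_apply, smul_eq_mul, Finset.mul_sum, _root_.mul_assoc, RingHom.id_apply] }
  have hn : Module.finrank R A = Fintype.card M := by simpa using (LinearEquiv.ofBijective L (hx b)).finrank_eq
  have hcard : Fintype.card M = p ^ 2 := by
    rw [← hn]
    obtain ⟨q⟩ : Nonempty (PrimeSpectrum R) := inferInstance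
    haveI := hG.1.2.2
    haveI : Algebra.FinitePresentation R A := Algebra.FinitePresentation.of_finiteType.1 inferInstance
    haveI : Module.FinitePresentation R A := Module.finitePresentation_of_finite R A
    haveI : Module.Projective R A := Module.Flat.projective_of_finitePresentation
    have hfree : Module.rankAtStalk (R := R) A q = Module.finrank R A :=
      congrFun (Module.rankAtStalk_eq_finrank_of_free (R := R) (M := A)) q
    rw [← hfree, ← hG.2 q,
      ← Scheme.Hom.finrank_SpecMap_algebraMap R A q]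
    have hX : (CoactBr.sp R A).hom = eX.hom.left ≫ G.hom := (Over.w eX.hom).symm
    have h1 := congrFun (Scheme.Hom.finrank_comp_left_of_isIso eX.hom.left G.hom) q
    rw [← hX] at h1
    exact h1
  haveI : Nonempty (Fin (Module.finrank R A)) := ⟨⟨0, by rw [hn, hcard]; exact pow_pos hp.pos 2⟩⟩
  -- a subgroup of order `p` and the quotient character
  obtain ⟨m₀, hm₀⟩ := exists_prime_orderOf_dvd_card (G := M) p (by rw [hcard, pow_two]; exact dvd_mul_right p p)
  let N₀ : Subgroup M := Subgroup.zpowers m₀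
  have hMc : ∀ a c : M, a * c = c * a := by
    intro a c
    have hc : Nat.card M = p ^ 2 := by rw [Nat.card_eq_fintype_card, hcard]
    exact IsPGroup.commutative_of_card_eq_prime_sq hc a c
  haveI : N₀.Normal := ⟨fun a ha g => by rwa [hMc g a, _root_.mul_assoc, mul_inv_cancel, _root_.mul_one]⟩
  have hN₀ : Nat.card N₀ = p := by rw [Nat.card_zpowers, hm₀]
  have hMN : Nat.card (M ⧸ N₀) = p := by
    have h1 := Subgroup.card_eq_card_quotient_mul_card_subgroup N₀
    rw [hN₀, Nat.card_eq_fintype_card, hcard, pow_two] at h1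
    exact (Nat.eq_of_mul_eq_mul_right hp.pos h1).symm
  haveI : Fact (Nat.Prime (Nat.card (Multiplicative (ZMod p)))) := ⟨by simpa using hp⟩
  let φ : M →* Multiplicative (ZMod p) :=
    (mulEquivOfPrimeCardEq hMN (by simp : Nat.card (Multiplicative (ZMod p)) = p)).toMonoidHom.comp (QuotientGroup.mk' N₀)
  have hφ : ∀ m, φ m = 1 ↔ m ∈ N₀ := fun m => by simp [φ]
  let ψ : N₀ ≃* Multiplicative (ZMod p) := mulEquivOfPrimeCardEq hN₀ (by simp)
  have hζ' : IsPrimitiveRoot (algebraMap R (FractionRing R) ζ ^ p) p :=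
    (hζ.map_of_injective (IsFractionRing.injective R (FractionRing R))).pow (pow_pos hp.pos 2) (pow_two p)
  set z := algebraMap R (FractionRing R) ζ ^ p with hz
  let χ : Multiplicative (ZMod p) → FractionRing R := fun i => z ^ (Multiplicative.toAdd i).val
  have hχ : ∀ i j, χ (i * j) = χ i * χ j := fun i j => by
    simp only [χ, toAdd_mul, ZMod.val_add]
    rw [← pow_add]
    conv_rhs => rw [← Nat.mod_add_div ((Multiplicative.toAdd i).val + (Multiplicative.toAdd j).val) p]
    rw [pow_add z, pow_mul, hζ'.pow_eq_one, one_pow, _root_.mul_one]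
  have hχ1 : ∀ i, χ i = 1 ↔ i = 1 := fun i => by
    constructor
    · intro h1
      have h2 := hζ'.pow_inj (ZMod.val_lt _) hp.pos (h1.trans (pow_zero z).symm)
      exact Multiplicative.toAdd.injective ((ZMod.val_eq_zero _).1 h2)
    · rintro rfl; simp [χ]
  have hχp : ∀ i, χ i ^ p = 1 := fun i => by rw [← pow_mul, _root_.mul_comm, pow_mul, hζ'.pow_eq_one, one_pow]
  have mkG : ∀ {C : Type u} [CommRing C] [HopfAlgebra R C] [Module.Free R C] {n : Type} [Fintype n] (bC : Module.Basis n R C)
      {M' : Type} [Group M'] (y : M' → (C →ₐ[R] FractionRing R))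
      (hy : ∀ i j, WithConv.toConv (y i) * WithConv.toConv (y j) = WithConv.toConv (y (i * j)))
      (hbC : Function.Bijective fun (c : n → FractionRing R) (i : M') => ∑ k, c k * y i (bC k))
      (σ : M' →* Multiplicative (ZMod p)) (hσ : ∃ m, σ m ≠ 1),
      ∃ g : C, (∀ i, y i g = χ (σ i)) ∧ Coalgebra.comul (R := R) g = g ⊗ₜ[R] g ∧
        Coalgebra.counit (R := R) g = 1 ∧ g ≠ 1 ∧ g ^ p = 1 := by
    intro C _ _ _ n _ bC M' _ y hy hbC σ hσ
    obtain ⟨g, hgx, hgc⟩ := Groth.Agent.RankP19.exists_groupLike_of_character bC y hy hbC (fun i => χ (σ i))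
      fun i j => by rw [map_mul]; exact hχ _ _
    obtain ⟨m, hm⟩ := hσ
    have hg0 : g ≠ 0 := fun h => by
      have h1 := hgx 1
      rw [h, map_zero, map_one] at h1
      exact one_ne_zero (((hχ1 1).2 rfl).symm.trans h1.symm)
    refine ⟨g, hgx, hgc, ?_, fun h => hm ((hχ1 _).1 ((hgx m).symm.trans (by rw [h, map_one]))), ?_⟩
    · have h := Coalgebra.rTensor_counit_comul (R := R) g
      rw [hgc, LinearMap.rTensor_tmul] at h
      have h' := congrArg (TensorProduct.lid R C) h
      rw [TensorProduct.lid_tmul, TensorProduct.lid_tmul] at h'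
      exact smul_left_injective R hg0 h'
    · exact Groth.Agent.RankP19.ext_of_points bC y hbC fun i => by rw [map_pow, map_one, hgx, hχp]
  obtain ⟨g, hgx, hgc, hgε, hg1, hgp⟩ := mkG b x hmul (hx b) φ (by
    by_contra! hall
    have : N₀ = ⊤ := eq_top_iff.2 fun m _ => (hφ m).1 (hall m)
    rw [this, Subgroup.card_top, Nat.card_eq_fintype_card, hcard, pow_two] at hN₀
    exact hp.one_lt.ne' (Nat.eq_of_mul_eq_mul_right hp.pos (hN₀.trans (Nat.one_mul p).symm)))
  obtain ⟨mu, h₂, F, hmu, hgT, hli⟩ := Groth.Agent.RankP19.exists_bialgHom_of_groupLike p b g hgc hgε hg1 hgp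
  haveI hJ : (Ideal.span {F SekSuwa.AK.t}).IsHopfIdeal R := Groth.Agent.RankP19.isHopfIdeal_span F
  haveI := Groth.Agent.RankP19.isTorsionFree_quotient F hli
  let A' := A ⧸ Ideal.span {F SekSuwa.AK.t}
  have hN : ∀ i, i ∈ N₀ ↔ x i (F SekSuwa.AK.t) = 0 := fun i => by
    have h1 := hgx i
    rw [hgT, map_add, map_one, map_smul] at h1
    rw [← hφ, ← hχ1, ← h1]
    simp [hmu]
  obtain ⟨y, hymul, hy⟩ := Groth.Agent.RankP19.exists_points_quotient b x (hx b) hmul (F SekSuwa.AK.t) N₀ hN
  haveI : Module.Finite R A' := Module.Finite.of_surjective (Ideal.Quotient.mkₐ R _).toLinearMap Ideal.Quotient.mk_surjective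
  haveI : Module.Free R A' := Module.free_of_finite_type_torsion_free'
  let b₀ := Module.finBasis R A'
  let L' : (Fin (Module.finrank R A') → FractionRing R) →ₗ[FractionRing R] (N₀ → FractionRing R) :=
    { toFun := fun c i => ∑ k, c k * y i (b₀ k)
      map_add' := fun c d => by funext i; simp only [Pi.add_apply, add_mul, Finset.sum_add_distrib]
      map_smul' := fun r c => by
        funext i; simp only [Pi.smul_apply, smul_eq_mul, Finset.mul_sum, _root_.mul_assoc, RingHom.id_apply] }
  have hn' : Module.finrank R A' = p := by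
    have := (LinearEquiv.ofBijective L' (hy b₀)).finrank_eq
    rw [Module.finrank_pi, Module.finrank_pi, Fintype.card_fin, ← Nat.card_eq_fintype_card, hN₀] at this
    exact this
  obtain ⟨g', hgx', hgc', hgε', hg1', hgp'⟩ := mkG (b₀.reindex (finCongr hn')) y hymul (hy _) ψ.toMonoidHom (by
    haveI : Fact (1 < p) := ⟨hp.one_lt⟩
    refine ⟨ψ.symm (Multiplicative.ofAdd 1), fun h => ?_⟩
    rw [MulEquiv.coe_toMonoidHom, MulEquiv.apply_symm_apply] at h
    exact one_ne_zero (α := ZMod p) (Multiplicative.ofAdd.injective h))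
  obtain ⟨lam, h₁, hlam, ⟨E⟩⟩ :=
    Groth.Agent.RankP19.exists_bialgEquiv_of_groupLike p (b₀.reindex (finCongr hn')) g' hgc' hgε' hg1' hgp'
  let q : A →ₐc[R] SekSuwa.AK R lam p h₁ :=
    (E.symm : A' →ₐc[R] SekSuwa.AK R lam p h₁).comp (Bialgebra.Quotient.mkBialgHom (Ideal.span {F SekSuwa.AK.t}))
  have hq : Function.Surjective q := E.symm.surjective.comp Ideal.Quotient.mk_surjective
  haveI : IsMonHom eX.hom := eG.hom.hom.isMonHom_hom
  haveI : IsMonHom eX.inv := eG.inv.hom.isMonHom_hom
  let u : SekSuwa.GK R lam p h₁ ⟶ G := SekSuwa.specHom q ≫ eX.hom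
  let v : G ⟶ SekSuwa.GK R mu p h₂ := eX.inv ≫ SekSuwa.specHom F
  haveI : IsMonHom u := inferInstanceAs (IsMonHom (SekSuwa.specHom q ≫ eX.hom))
  haveI : IsMonHom v := inferInstanceAs (IsMonHom (eX.inv ≫ SekSuwa.specHom F))
  refine ⟨lam, mu, h₁, h₂, u, v, hlam, hmu, ?_⟩
  have hqF : SekSuwa.specHom q ≫ SekSuwa.specHom F = 1 := by
    rw [← SekSuwa.specHom_comp, ← SekSuwa.specHom_trivial]
    congr 1
    apply BialgHom.coe_toAlgHom_injective
    have hker : ∀ w, Ideal.Quotient.mk (Ideal.span {F SekSuwa.AK.t}) (F w) =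
        Ideal.Quotient.mk _ (F (algebraMap R _ (Coalgebra.counit (R := R) w))) := fun w => by
      obtain ⟨c, hc⟩ := Ideal.mem_span_singleton'.1 (Groth.Agent.RankP19.sub_counit_mem w)
      rw [Ideal.Quotient.eq, ← map_sub, ← hc, map_mul]
      exact Ideal.mul_mem_left _ _ (Ideal.subset_span rfl)
    refine AlgHom.ext fun w => ?_
    show E.symm (Ideal.Quotient.mk _ (F w)) = algebraMap R _ (Coalgebra.counit (R := R) w)
    rw [hker]
    show q (F (algebraMap R _ (Coalgebra.counit (R := R) w))) = _
    rw [AlgHomClass.commutes F, AlgHomClass.commutes q]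
  have huv : u ≫ v = 1 := by
    show (SekSuwa.specHom q ≫ eX.hom) ≫ eX.inv ≫ SekSuwa.specHom F = 1
    rw [Category.assoc, Iso.hom_inv_id_assoc]
    exact hqF
  haveI := Groth.Agent.RankP19.mono_specHom q hq
  haveI : Mono u := mono_comp _ _
  have hFf := Groth.Agent.RankP19.flat_of_li F hli
  have hFi := Groth.Agent.RankP19.injective_of_li F hli
  have hFfin : (Groth.Agent.RankP19.comorph F).Finite := by
    letI : Algebra (SekSuwa.AK R mu p h₂) A := (Groth.Agent.RankP19.comorph F).toAlgebra
    haveI : IsScalarTower R (SekSuwa.AK R mu p h₂) A :=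
      IsScalarTower.of_algebraMap_eq fun r => (AlgHomClass.commutes F r).symm
    exact RingHom.finite_algebraMap.2 (Module.Finite.of_restrictScalars_finite R (SekSuwa.AK R mu p h₂) A)
  haveI : IsNoetherianRing (SekSuwa.AK R mu p h₂) := IsNoetherianRing.of_finite R _
  let sF := Spec.map (CommRingCat.ofHom (Groth.Agent.RankP19.comorph F))
  haveI : Flat sF := Flat.SpecMap_iff.2 hFf
  haveI : IsFinite sF := (IsFinite.SpecMap_iff _).2 hFfin
  haveI : Surjective sF := ⟨hFfin.to_isIntegral.comap_surjective hFi⟩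
  haveI : LocallyOfFinitePresentation sF := by
    rw [HasRingHomProperty.Spec_iff (P := @LocallyOfFinitePresentation)]
    exact RingHom.FinitePresentation.of_finiteType.1 hFfin.finiteType
  let sI : G.left ⟶ Spec (CommRingCat.of A) := eX.inv.left
  haveI : IsIso sI := inferInstanceAs (IsIso eX.inv.left)
  have hv : v.left = sI ≫ sF := rfl
  haveI : Flat v.left := by
    have h' : Flat (sI ≫ sF) := inferInstance
    rw [hv]; exact h'
  haveI : Surjective v.left := by
    have h' : Surjective (sI ≫ sF) := inferInstance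
    rw [hv]; exact h'
  haveI : QuasiCompact v.left := by
    have h' : QuasiCompact (sI ≫ sF) := inferInstance
    rw [hv]; exact h'
  haveI : LocallyOfFinitePresentation v.left := by
    have h' : LocallyOfFinitePresentation (sI ≫ sF) := inferInstance
    rw [hv]; exact h'
  refine Groth.Agent.RankP19.isExactSeq_fppf_of_points u v huv fun T s t hst => ?_
  have hz' : (s⁻¹ * t) ≫ v = 1 := by rw [MonObj.mul_comp, GrpObj.inv_comp, hst, inv_mul_cancel]
  obtain ⟨k, hk⟩ := Groth.Agent.RankP19.exists_factor F q hq (fun {C} _ f hf => fun a ha => by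
    have h0 : Ideal.Quotient.mk (Ideal.span {F SekSuwa.AK.t}) a = 0 :=
      E.symm.injective ((RingHom.mem_ker.1 ha).trans (map_zero E.symm).symm)
    obtain ⟨c, rfl⟩ := Ideal.mem_span_singleton'.1 (Ideal.Quotient.eq_zero_iff_mem.1 h0)
    rw [RingHom.mem_ker, map_mul, hf, SekSuwa.AK.counit_t, map_zero, map_zero, mul_zero])
    ((s⁻¹ * t) ≫ eX.inv) (by rw [Category.assoc]; exact hz')
  have hku : k ≫ u = s⁻¹ * t := by
    show k ≫ SekSuwa.specHom q ≫ eX.hom = _
    rw [← Category.assoc, hk, Category.assoc, Iso.inv_hom_id, Category.comp_id]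
  refine ⟨k, show s * (k ≫ u) = t by rw [hku, mul_inv_cancel_left], fun k' hk' => ?_⟩
  rw [← cancel_mono u, hku]
  exact eq_inv_mul_iff_mul_eq.2 hk'

end Groth.Agent.S14686
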