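import Groth.Statements.S14694
import Groth.Agent.Lib.SekSuwa19.Basic

set_option autoImplicit false
universe u
open CategoryTheory AlgebraicGeometry
open SekSuwa

namespace Groth.Agent.S14694

/-- For any commutative ring R, λ ∈ R and N ≥ 1 such that λ is a non-zero-divisor and λ^N divides (1 +
λX)^N − 1 in R[X] with quotient P_{λ,N}, the R-group scheme G_{λ,N}, defined as the closed subscheme
of the affine R-group G^(λ) = Spec R[T, 1/(1+λT)] cut out by P_{λ,N}(T), is finite locally free of
degree N over Spec R (its coordinate ring is R[T]/(P_{λ,N}(T)) with P_{λ,N} monic of degree N). (The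
published text states this over a discrete valuation ring with N = p^n: G_{λ,n} is a commutative
finite flat group scheme of rank p^n.) -/
theorem result (R : Type u) [CommRing R] (lam : R) (N : ℕ) (hN : 0 < N) (h : SekSuwa.DivCond lam N) :
    Mor2.IsFinLocFreeOfDeg N (SekSuwa.GK R lam N h).hom := by
  let P := SekSuwa.psiPoly lam N h
  have hmon := SekSuwa19.monic h hN
  let e := SekSuwa19.equiv h hN
  haveI : Module.Free R (AdjoinRoot P) := hmon.free_adjoinRoot
  haveI : Module.Finite R (AdjoinRoot P) := hmon.finite_adjoinRoot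
  haveI : Module.Free R (SekSuwa.AK R lam N h) := Module.Free.of_equiv e.toLinearEquiv
  haveI : Module.Finite R (SekSuwa.AK R lam N h) := Module.Finite.equiv e.toLinearEquiv
  have hfp : (algebraMap R (SekSuwa.AK R lam N h)).FinitePresentation :=
    RingHom.finitePresentation_algebraMap.2 (Algebra.FinitePresentation.equiv e)
  have he : (SekSuwa.GK R lam N h).hom = Spec.map (CommRingCat.ofHom (algebraMap R (SekSuwa.AK R lam N h))) := rfl
  suffices H : Mor2.IsFinLocFreeOfDeg N (Spec.map (CommRingCat.ofHom (algebraMap R (SekSuwa.AK R lam N h)))) from he ▸ H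
  refine ⟨⟨?_, ?_, ?_⟩, fun y => ?_⟩
  · rw [IsFinite.SpecMap_iff, CommRingCat.hom_ofHom, RingHom.finite_algebraMap]; infer_instance
  · rw [HasRingHomProperty.Spec_iff (P := @Flat), CommRingCat.hom_ofHom, RingHom.flat_algebraMap_iff]; infer_instance
  · rw [HasRingHomProperty.Spec_iff (P := @LocallyOfFinitePresentation), CommRingCat.hom_ofHom]; exact hfp
  · haveI : Nontrivial R := PrimeSpectrum.nonempty_iff_nontrivial.1 ⟨y⟩
    erw [Scheme.Hom.finrank_SpecMap_algebraMap R (SekSuwa.AK R lam N h) y, Module.rankAtStalk_eq_finrank_of_free]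
    show Module.finrank R (SekSuwa.AK R lam N h) = N
    rw [← e.toLinearEquiv.finrank_eq, (AdjoinRoot.powerBasis' hmon).finrank, AdjoinRoot.powerBasis'_dim,
      SekSuwa19.natDegree_eq h hN]

end Groth.Agent.S14694
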