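import Groth.Statements.S14695
import Groth.Agent.Lib.TorsorSch25.Normal

set_option autoImplicit false
universe u
open CategoryTheory AlgebraicGeometry
open NonAbH1

namespace Groth.Agent.S14695

open MonoidalCategory CartesianMonoidalCategory MonObj

/-- In the case where the morphism Y → X is the identity of X: let X be a normal integral scheme
(integral, with every local ring an integrally closed domain), G and G' X-group schemes which are
finite and flat over X, and g : G → G' a homomorphism which becomes an isomorphism after base change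
to the spectrum of the function field of X. If an fppf G-torsor P over X becomes trivial after
extension of the structure group along g — there is an fppf G'-torsor P' over X with a g-equivariant
X-morphism P → P', and P' has a section over X — then P has a section over X. (The published
statement takes G, G' commutative and all schemes Noetherian, allows also composition with the
pull-back along a morphism Y → X admitting a rational section, and is phrased as injectivity of
H¹(X, G) → H¹(Y, G'_Y); this row is the case where Y → X is the identity of X, as the trivial-kernel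
assertion the argument establishes, for which commutativity and the Noetherian condition are not
needed.) -/
theorem result {X : Scheme.{u}} [IsIntegral X]
    (hX : Pi1.IsNormalScheme X) (G G' : Over X) [GrpObj G] [GrpObj G']
    [IsFinite G.hom] [Flat G.hom] [IsFinite G'.hom] [Flat G'.hom]
    (g : G ⟶ G') [IsMonHom g]
    (hg : IsIso ((Over.pullback (X.fromSpecStalk (genericPoint X))).map g))
    (P : Over X) (a : AlgGrp.Action G P) (hP : NonAbH1.IsTorsorFor Scheme.fppfPrecoverage a)
    (P' : Over X) (a' : AlgGrp.Action G' P') (hP' : NonAbH1.IsTorsorFor Scheme.fppfPrecoverage a')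
    (hpush : NonAbH1.IsPushforwardAlongSch g a a') (htriv : NonAbH1.HasSectionOver P' (𝟙 X)) :
    NonAbH1.HasSectionOver P (𝟙 X) := by
  haveI := TorsorSch25.isFinite_of_isTorsorFor_fppf hP
  obtain ⟨h, hh⟩ := hpush
  obtain ⟨s', hs'⟩ := htriv
  have hP₀ : NonAbH1.IsTorsorFor Scheme.fpqcPrecoverage a :=
    ⟨hP.1, hP.2.choose, Scheme.fppfPrecoverage_le_fpqcPrecoverage _ hP.2.choose_spec.1, hP.2.choose_spec.2⟩
  obtain ⟨hps, R, hR, hsec⟩ := hP₀
  have hact : ∀ (T : Over X) (γ : T ⟶ G) (p : T ⟶ P), lift γ p ≫ a.act ≫ h = lift (γ ≫ g) (p ≫ h) ≫ a'.act := by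
    intro T γ p
    rw [hh, comp_lift_assoc, lift_fst_assoc, lift_snd_assoc]
  let gX := X.fromSpecStalk (genericPoint X)
  haveI := hg
  have hbij : ∀ {T : Over X} (c : T ⟶ Over.mk gX), Function.Bijective (fun x : T ⟶ G => x ≫ g) := by
    intro T c
    let T₀ : Over (Spec (X.presheaf.stalk (genericPoint X))) := Over.mk c.left
    let i : (Over.map gX).obj T₀ ≅ T := Over.isoMk (Iso.refl _) (by
      show 𝟙 _ ≫ T.hom = c.left ≫ gX
      rw [Category.id_comp]; exact (Over.w c).symm)
    have hb := TorsorSch25.bijective_comp_of_isIso_pullback gX g T₀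
    refine ⟨fun x y e => ?_, fun y => ?_⟩
    · rw [← cancel_epi i.hom]
      exact hb.1 (by simp only [Category.assoc] at e ⊢; rw [e])
    · obtain ⟨x, hx⟩ := hb.2 (i.hom ≫ y)
      exact ⟨i.inv ≫ x, by simp only [Category.assoc] at hx ⊢; rw [hx, Iso.inv_hom_id_assoc]⟩
  let s₀ : Over.mk (𝟙 X) ⟶ P' := Over.homMk s' hs'
  let u₀ : Over.mk gX ⟶ Over.mk (𝟙 X) := Over.homMk gX (Category.comp_id _)
  obtain ⟨R', hR', hR''⟩ := TorsorSch25.exists_cover_over hR (Over.mk gX)
  obtain ⟨q, -⟩ := TorsorSch25.exists_glue (T := Over.mk gX) (Z := P) (fun T' c z => z ≫ h = c ≫ u₀ ≫ s₀)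
    (fun T' T'' b c z hz => by rw [Category.assoc, hz, Category.assoc])
    (fun T' c z z' hz hz' => by
      obtain ⟨γ, hγ, -⟩ := TorsorSch25.existsUnique_smul hps z z'
      have h1 : lift (γ ≫ g) (z ≫ h) ≫ a'.act = lift ((1 : T' ⟶ G) ≫ g) (z ≫ h) ≫ a'.act := by
        rw [← hact, reassoc_of% hγ, hz', MonObj.one_comp, AlgGrp.Action.lift_one_act, hz]
      have h2 := (hbij c).1 (TorsorSch25.smul_cancel hP'.1 h1)
      rw [← hγ, h2, AlgGrp.Action.lift_one_act])
    hR' (fun T' c hc => by
      obtain ⟨p⟩ := hR'' hsec c hc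
      obtain ⟨γ', hγ', -⟩ := TorsorSch25.existsUnique_smul hP'.1 (p ≫ h) (c ≫ u₀ ≫ s₀)
      obtain ⟨γ, hγ⟩ := (hbij c).2 γ'
      refine ⟨lift γ p ≫ a.act, ?_⟩
      rw [Category.assoc, hact, show γ ≫ g = γ' from hγ, hγ'])
  obtain ⟨s, hs, -⟩ := TorsorSch25.exists_section_of_generic hX P.hom q.left (Over.w q)
  exact ⟨s, hs⟩

end Groth.Agent.S14695
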