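import Groth.Statements.S14688
import Groth.Agent.S14695
import Groth.Agent.S14694
import Groth.Agent.Lib.SekSuwa19.Basic
import Groth.Agent.Lib.DiagGL.Points
import Mathlib.AlgebraicGeometry.Morphisms.Flat
import Mathlib.RingTheory.RootsOfUnity.Basic

set_option autoImplicit false
universe u
open CategoryTheory AlgebraicGeometry
open SekSuwa

namespace Groth.Agent.S14688

set_option backward.isDefEq.respectTransparency.types false
set_option maxHeartbeats 1000000
open CategoryTheory.Limits MonoidalCategory CartesianMonoidalCategory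
open Groth.Agent.DiagGL

section
variable {R : Type u} [CommRing R] {lam : R} {N : ℕ} (h : SekSuwa.DivCond lam N)

theorem ev_comp_alphaN {T : Over (Spec (CommRingCat.of R))} (x : T ⟶ CoactBr.sp R (SekSuwa.AK R lam N h))
    (b : MonoidAlgebra R (Multiplicative (ZMod N))) :
    ev (A := MonoidAlgebra R (Multiplicative (ZMod N))) (x ≫ SekSuwa.alphaN R lam N h) b =
      ev x (SekSuwa.alphaNHom R lam N h b) := by
  rw [show (x ≫ SekSuwa.alphaN R lam N h) =
    x ≫ CoactBr.pt (SekSuwa.alphaNHom R lam N h : _ →ₐ[R] SekSuwa.AK R lam N h) from rfl, ev_comp, ev_pt]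
  exact (ConcreteCategory.congr_hom (show (Scheme.ΓSpecIso (CommRingCat.of (SekSuwa.AK R lam N h))).inv ≫ (lft x).appTop =
    CommRingCat.ofHom (ev x) from rfl) _)

theorem bijective_comp_alphaN (hN : 0 < N) {T : Over (Spec (CommRingCat.of R))} (hu : IsUnit (alg T lam)) :
    Function.Bijective (fun x : T ⟶ SekSuwa.GK R lam N h => x ≫ SekSuwa.alphaN R lam N h) := by
  haveI : NeZero N := ⟨hN.ne'⟩
  letI := (alg T).toAlgebra
  let e := Groth.Agent.SekSuwa19.equiv h hN
  have he : e (AdjoinRoot.root _) = SekSuwa.AK.t := AdjoinRoot.liftAlgHom_root _ _ _ SekSuwa.AK.aeval_t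
  have hα := SekSuwa.alphaNHom_single_one R lam N h
  constructor
  · intro x y hxy
    let φ : SekSuwa.AK R lam N h →ₐ[R] Γ(T.left, ⊤) := ⟨ev (A := SekSuwa.AK R lam N h) x, ev_algebraMap _⟩
    let ψ : SekSuwa.AK R lam N h →ₐ[R] Γ(T.left, ⊤) := ⟨ev (A := SekSuwa.AK R lam N h) y, ev_algebraMap _⟩
    suffices hs : φ = ψ from ev_injective (A := SekSuwa.AK R lam N h) fun a => DFunLike.congr_fun hs a
    apply (AlgHom.cancel_right (f := e.toAlgHom) e.surjective).1
    refine AdjoinRoot.algHom_ext ?_
    show φ (e (AdjoinRoot.root _)) = ψ (e (AdjoinRoot.root _))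
    rw [he]
    have h1 : φ (1 + lam • SekSuwa.AK.t) = ψ (1 + lam • SekSuwa.AK.t) := by
      rw [← hα]
      show ev (A := SekSuwa.AK R lam N h) x _ = ev (A := SekSuwa.AK R lam N h) y _
      rw [← ev_comp_alphaN h x, ← ev_comp_alphaN h y]
      exact congrArg (fun z => ev (A := MonoidAlgebra R (Multiplicative (ZMod N))) z _) hxy
    rw [map_add, map_add, map_one, map_one, map_smul, map_smul, add_right_inj, Algebra.smul_def, Algebra.smul_def] at h1
    exact hu.mul_left_cancel h1
  · intro z
    let χ : MonoidAlgebra R (Multiplicative (ZMod N)) →ₐ[R] Γ(T.left, ⊤) :=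
      ⟨ev (A := MonoidAlgebra R (Multiplicative (ZMod N))) z, ev_algebraMap _⟩
    let g₀ : MonoidAlgebra R (Multiplicative (ZMod N)) := MonoidAlgebra.single (Multiplicative.ofAdd (1 : ZMod N)) 1
    have hg : ∀ m : ℕ, MonoidAlgebra.single (Multiplicative.ofAdd (m : ZMod N)) (1 : R) = g₀ ^ m := fun m => by
      rw [MonoidAlgebra.single_pow, one_pow, ← ofAdd_nsmul, nsmul_one]
    have hu1 : χ g₀ ^ N = 1 := by
      rw [← map_pow, ← hg, ZMod.natCast_self, ofAdd_zero, ← MonoidAlgebra.one_def, map_one]
    let y : Γ(T.left, ⊤) := ((hu.unit⁻¹ : Units Γ(T.left, ⊤)) : Γ(T.left, ⊤)) * (χ g₀ - 1)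
    have hy : 1 + algebraMap R Γ(T.left, ⊤) lam * y = χ g₀ := by
      rw [← mul_assoc, show algebraMap R Γ(T.left, ⊤) lam * ((hu.unit⁻¹ : Units Γ(T.left, ⊤)) : Γ(T.left, ⊤)) = 1 from hu.mul_val_inv,
        one_mul, add_sub_cancel]
    have hy0 : Polynomial.aeval y (SekSuwa.psiPoly lam N h) = 0 := by
      have := SekSuwa.aeval_psiPoly h y
      rw [hy, hu1, sub_self, map_pow] at this
      exact (hu.pow N).mul_right_eq_zero.1 this
    let φ : SekSuwa.AK R lam N h →ₐ[R] Γ(T.left, ⊤) :=
      (AdjoinRoot.liftAlgHom _ (Algebra.ofId R _) y hy0).comp e.symm.toAlgHom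
    have ht : φ SekSuwa.AK.t = y := by
      show AdjoinRoot.liftAlgHom _ _ y hy0 (e.symm _) = y
      rw [← he, AlgEquiv.symm_apply_apply, AdjoinRoot.liftAlgHom_root]
    refine ⟨mk (A := SekSuwa.AK R lam N h) φ.toRingHom fun r => φ.commutes r,
      ev_injective (A := MonoidAlgebra R (Multiplicative (ZMod N))) fun b => ?_⟩
    rw [ev_comp_alphaN h, ev_mk]
    show (φ.comp (SekSuwa.alphaNHom R lam N h : MonoidAlgebra R (Multiplicative (ZMod N)) →ₐ[R] SekSuwa.AK R lam N h)) b = χ b
    congr 1
    refine MonoidAlgebra.algHom_ext (fun a => ?_) (Subsingleton.elim _ _)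
    rw [show a = Multiplicative.ofAdd ((Multiplicative.toAdd a).val : ZMod N) by rw [ZMod.natCast_zmod_val]; rfl,
      hg, map_pow, map_pow, AlgHom.comp_apply]
    congr 1
    show φ (SekSuwa.alphaNHom R lam N h g₀) = χ g₀
    rw [hα, map_add, map_one, map_smul, ht, Algebra.smul_def, hy]

theorem isFinite_flat_diag (hN : 0 < N) :
    IsFinite (Red.diag R (ZMod N)).hom ∧ Flat (Red.diag R (ZMod N)).hom := by
  haveI : NeZero N := ⟨hN.ne'⟩
  show @IsFinite (Spec (CommRingCat.of (MonoidAlgebra R (Multiplicative (ZMod N))))) (Spec (CommRingCat.of R))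
    (Spec.map (CommRingCat.ofHom (algebraMap R (MonoidAlgebra R (Multiplicative (ZMod N)))))) ∧
    @Flat (Spec (CommRingCat.of (MonoidAlgebra R (Multiplicative (ZMod N))))) (Spec (CommRingCat.of R))
      (Spec.map (CommRingCat.ofHom (algebraMap R (MonoidAlgebra R (Multiplicative (ZMod N))))))
  rw [IsFinite.SpecMap_iff, HasRingHomProperty.Spec_iff (P := @Flat), CommRingCat.hom_ofHom,
    RingHom.finite_algebraMap, RingHom.flat_algebraMap_iff]
  exact ⟨Module.Finite.of_basis (MonoidAlgebra.basis (Multiplicative (ZMod N)) R), inferInstance⟩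

end

theorem isIso_pullback_map_of_bijective {S S' : Scheme.{u}} (f : S' ⟶ S) {G G' : Over S} (g : G ⟶ G')
    (hb : ∀ T : Over S', Function.Bijective (fun x : (Over.map f).obj T ⟶ G => x ≫ g)) :
    IsIso ((Over.pullback f).map g) := by
  have hbT : ∀ T : Over S', Function.Bijective (fun y : T ⟶ (Over.pullback f).obj G => y ≫ (Over.pullback f).map g) := by
    intro T
    let e := (Over.mapPullbackAdj f).homEquiv T G
    let e' := (Over.mapPullbackAdj f).homEquiv T G'
    have hcomp : (fun y : T ⟶ (Over.pullback f).obj G => y ≫ (Over.pullback f).map g) =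
        e' ∘ (fun x => x ≫ g) ∘ e.symm := by
      funext y
      rw [Function.comp_apply, Function.comp_apply, Adjunction.homEquiv_naturality_right, Equiv.apply_symm_apply]
    rw [hcomp]
    exact e'.bijective.comp ((hb T).comp e.symm.bijective)
  obtain ⟨n, hn⟩ := (hbT _).2 (𝟙 ((Over.pullback f).obj G'))
  exact ⟨n, (hbT _).1 (by simp [show n ≫ (Over.pullback f).map g = 𝟙 _ from hn]), hn⟩


/-- Let R be a discrete valuation ring of characteristic zero and residue characteristic p, n ≥ 1, λ ∈ R
satisfying the divisibility condition under which the finite flat R-group scheme G_{λ,n} (the kernel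
of ψ on the one-parameter group with law s + t + λst, of order p^n) and its homomorphism α^{λ,n} to
μ_{p^n} are defined, and X a normal integral scheme which is faithfully flat over Spec R. If an fppf
torsor P over X under G_{λ,n} becomes trivial after extension of the structure group along α^{λ,n} —
there is an fppf μ_{p^n}-torsor P' over X with an α^{λ,n}-equivariant X-morphism P → P', and P' has
a section over X — then P has a section over X. So H¹(X, G_{λ,n}) → H¹(X, μ_{p^n}) has trivial
kernel, and the groups H¹(X, G_{π^i,n}) for decreasing i form an increasing filtration of H¹(X,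
μ_{p^n}). (The published statement is the filtration itself, for the commutative groups in question
injectivity of these homomorphisms; the trivial-kernel assertion stated here is what the argument
establishes.) -/
theorem result (R : Type u) [CommRing R] [IsDomain R] [IsDiscreteValuationRing R] [CharZero R]
    (p : ℕ) [Fact p.Prime] [CharP (IsLocalRing.ResidueField R) p]
    (n : ℕ) (hn : 0 < n) (lam : R) (h : SekSuwa.DivCond lam (p ^ n))
    (X : Scheme.{u}) [IsIntegral X] (hX : Pi1.IsNormalScheme X)
    (f : X ⟶ Spec (CommRingCat.of R)) [Flat f] [Surjective f]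
    (P : Over X) (a : AlgGrp.Action (Red.bc f (SekSuwa.GK R lam (p ^ n) h)) P)
    (hP : NonAbH1.IsTorsorFor Scheme.fppfPrecoverage a)
    (P' : Over X) (a' : AlgGrp.Action (Red.bc f (Red.diag R (ZMod (p ^ n)))) P')
    (hP' : NonAbH1.IsTorsorFor Scheme.fppfPrecoverage a')
    (hpush : NonAbH1.IsPushforwardAlongSch ((Over.pullback f).map (SekSuwa.alphaN R lam (p ^ n) h)) a a')
    (htriv : NonAbH1.HasSectionOver P' (𝟙 X)) :
    NonAbH1.HasSectionOver P (𝟙 X) := by
  have hN : 0 < p ^ n := pow_pos (Fact.out : p.Prime).pos n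
  have hGK := (Groth.Agent.S14694.result R lam (p ^ n) hN h).1
  haveI hF1 : IsFinite (SekSuwa.GK R lam (p ^ n) h).hom := hGK.1
  haveI hF2 : Flat (SekSuwa.GK R lam (p ^ n) h).hom := hGK.2.1
  obtain ⟨hD1, hD2⟩ := isFinite_flat_diag (R := R) (N := p ^ n) hN
  haveI : IsFinite (Red.bc f (SekSuwa.GK R lam (p ^ n) h)).hom := by
    show IsFinite (pullback.snd _ f); exact MorphismProperty.pullback_snd _ _ hF1
  haveI : Flat (Red.bc f (SekSuwa.GK R lam (p ^ n) h)).hom := by
    show Flat (pullback.snd _ f); exact MorphismProperty.pullback_snd _ _ hF2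
  haveI : IsFinite (Red.bc f (Red.diag R (ZMod (p ^ n)))).hom := by
    show IsFinite (pullback.snd _ f); exact MorphismProperty.pullback_snd _ _ hD1
  haveI : Flat (Red.bc f (Red.diag R (ZMod (p ^ n)))).hom := by
    show Flat (pullback.snd _ f); exact MorphismProperty.pullback_snd _ _ hD2
  refine Groth.Agent.S14695.result hX _ _ ((Over.pullback f).map (SekSuwa.alphaN R lam (p ^ n) h)) ?_
    P a hP P' a' hP' hpush htriv
  -- `λ` is invertible at the generic point
  have hgen : f (genericPoint X) = (⟨⊥, Ideal.isPrime_bot⟩ : PrimeSpectrum R) := by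
    have hspec : (⟨⊥, Ideal.isPrime_bot⟩ : Spec (CommRingCat.of R)) ⤳ f (genericPoint X) :=
      (PrimeSpectrum.le_iff_specializes _ _).1 bot_le
    obtain ⟨y, hy, hfy⟩ := Flat.generalizingMap f hspec
    rw [← hfy, show y = genericPoint X from (hy.antisymm (genericPoint_specializes y)).eq]
  have hlam : IsUnit (alg (R := R) (Over.mk (X.fromSpecStalk (genericPoint X) ≫ f)) lam) := by
    set K := X.presheaf.stalk (genericPoint X)
    set m := X.fromSpecStalk (genericPoint X) ≫ f
    letI : Field K := inferInstanceAs (Field X.functionField)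
    have hpt : ∀ q : Spec K, q ∈ m ⁻¹ᵁ (Spec (CommRingCat.of R)).basicOpen ((Scheme.ΓSpecIso (CommRingCat.of R)).inv lam) := by
      intro q
      have hq : X.fromSpecStalk (genericPoint X) q = genericPoint X := by
        have : X.fromSpecStalk (genericPoint X) q ∈ Set.range (X.fromSpecStalk (genericPoint X)) := ⟨q, rfl⟩
        rw [Scheme.range_fromSpecStalk] at this
        exact (this.antisymm (genericPoint_specializes _)).eq
      show f (X.fromSpecStalk (genericPoint X) q) ∈
        (Spec (CommRingCat.of R)).basicOpen ((Scheme.ΓSpecIso (CommRingCat.of R)).inv lam)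
      rw [hq, hgen, basicOpen_eq_of_affine]
      exact fun hc => nonZeroDivisors.ne_zero h.1 hc
    have hz : m.appTop ((Scheme.ΓSpecIso (CommRingCat.of R)).inv lam) ≠ 0 := fun hz => by
      have := hpt (IsLocalRing.closedPoint K)
      rw [Scheme.preimage_basicOpen_top, show m.appTop ((Scheme.ΓSpecIso (CommRingCat.of R)).inv lam) = 0 from hz,
        Scheme.basicOpen_zero] at this
      exact this
    have hz' : (Scheme.ΓSpecIso K).hom (m.appTop ((Scheme.ΓSpecIso (CommRingCat.of R)).inv lam)) ≠ 0 := fun h0 => hz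
      ((ConcreteCategory.bijective_of_isIso (Scheme.ΓSpecIso K).hom).1 (h0.trans (map_zero _).symm))
    have := (isUnit_iff_ne_zero.2 hz').map (Scheme.ΓSpecIso K).inv.hom
    rwa [Iso.hom_inv_id_apply] at this
  have hiso : IsIso ((Over.pullback (X.fromSpecStalk (genericPoint X) ≫ f)).map (SekSuwa.alphaN R lam (p ^ n) h)) :=
    isIso_pullback_map_of_bijective _ _ fun T => bijective_comp_alphaN h hN (by
      show IsUnit ((T.hom ≫ X.fromSpecStalk (genericPoint X) ≫ f).appTop ((Scheme.ΓSpecIso (CommRingCat.of R)).inv lam))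
      rw [Scheme.Hom.comp_appTop]
      exact hlam.map T.hom.appTop.hom)
  exact (NatIso.isIso_map_iff (Over.pullbackComp (X.fromSpecStalk (genericPoint X)) f) _).1 hiso

end Groth.Agent.S14688
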