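import Groth.Statements.S14689
import Groth.Agent.Lib.SekSuwaTors19.Extend
-- import your own Groth.Agent.* helpers here

set_option autoImplicit false
universe u
open CategoryTheory AlgebraicGeometry
open SekSuwa

namespace Groth.Agent.S14689

set_option linter.style.haveILetI false
set_option backward.isDefEq.respectTransparency.types false


/-- Let R be a discrete valuation ring of characteristic zero and residue characteristic p containing a
primitive p²-th root of unity, λ, μ nonzero elements of the maximal ideal of R with μ satisfying the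
divisibility condition under which G_{μ,1} ⊂ G^(μ) = Spec R[T, 1/(1+μT)] (law s + t + μst) is
defined, and S_λ = Spec(R/λR). Then the map Hom_gr(G^(μ)|S_λ, 𝔾_m|S_λ) → Hom_gr(G_{μ,1}|S_λ,
𝔾_m|S_λ) induced by the inclusion G_{μ,1} → G^(μ) is surjective: every homomorphism of S_λ-group
schemes from the base change of G_{μ,1} to the (split) multiplicative group over S_λ is the
restriction of a homomorphism defined on the base change of G^(μ). -/
theorem result (R : Type u) [CommRing R] [IsDomain R] [IsDiscreteValuationRing R] [CharZero R]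
    (p : ℕ) [Fact p.Prime] [CharP (IsLocalRing.ResidueField R) p]
    (ζ : R) (hζ : IsPrimitiveRoot ζ (p ^ 2))
    (lam mu : R) (hlam : lam ≠ 0) (hlam' : lam ∈ IsLocalRing.maximalIdeal R)
    (hmu' : mu ∈ IsLocalRing.maximalIdeal R) (h : SekSuwa.DivCond mu p)
    (φ : Red.bc (Spec.map (CommRingCat.ofHom (Ideal.Quotient.mk (Ideal.span ({lam} : Set R))))) (SekSuwa.GK R mu p h) ⟶ Red.bc (Spec.map (CommRingCat.ofHom (Ideal.Quotient.mk (Ideal.span ({lam} : Set R))))) (Red.diag R ℤ)) [IsMonHom φ] :
    ∃ ψ : Red.bc (Spec.map (CommRingCat.ofHom (Ideal.Quotient.mk (Ideal.span ({lam} : Set R))))) (SekSuwa.G R mu) ⟶ Red.bc (Spec.map (CommRingCat.ofHom (Ideal.Quotient.mk (Ideal.span ({lam} : Set R))))) (Red.diag R ℤ),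
      IsMonHom ψ ∧ (Over.pullback (Spec.map (CommRingCat.ofHom (Ideal.Quotient.mk (Ideal.span ({lam} : Set R)))))).map (SekSuwa.incl R mu p h) ≫ ψ = φ := by
  haveI : Nontrivial (R ⧸ Ideal.span ({lam} : Set R)) := Ideal.Quotient.nontrivial_iff.mpr fun e => by
    rw [Ideal.span_singleton_eq_top] at e
    exact hlam' e
  exact Groth.Agent.SekSuwaTors19.exists_extension _ h (Fact.out : p.Prime).pos φ

end Groth.Agent.S14689
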