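import Groth.Statements.S14691
import Groth.Agent.Lib.Deligne19.Basic

set_option autoImplicit false
universe u
open CategoryTheory AlgebraicGeometry
open SekSuwa

namespace Groth.Agent.S14691

open CategoryTheory AlgebraicGeometry MonObj

/-- Let R be a discrete valuation ring of characteristic zero and residue characteristic p, and G a
commutative finite flat R-group scheme of order m (finite locally free of degree m over Spec R).
Then the endomorphism of Ext¹(G, 𝔾_m) induced by the m-th power map of the multiplicative group —
that is, multiplication by m on this group — is zero. Here Ext¹ is taken between the abelian sheaves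
of points of G and of the split multiplicative group on the big fppf site of Spec R. (The published
statement is made under a standing assumption that R contains a primitive p²-th root of unity; this
row does not assume it, the argument not using it.) -/
theorem result (R : Type u) [CommRing R] [IsDomain R] [IsDiscreteValuationRing R] [CharZero R]
    (p : ℕ) [Fact p.Prime] [CharP (IsLocalRing.ResidueField R) p]
    (G : Over (Spec (CommRingCat.of R))) [GrpObj G] [IsCommMonObj G]
    (m : ℕ) (hG : Mor2.IsFinLocFreeOfDeg m G.hom)
    (x : CGrpSh.ExtS Scheme.fppfPrecoverage G (Red.diag R ℤ) 1) : m • x = 0 := by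
  have hp := Groth.Agent.Deligne19.pow_card_eq_one G m hG
  have h0 : m • (𝟙 (CGrpSh.pts Scheme.fppfPrecoverage G)) = 0 := by
    apply Sheaf.hom_ext
    ext T y
    change m • y = 0
    apply ULift.ext
    change Additive.ofMul (y.down.toMul ^ m) = 0
    rw [← Category.comp_id y.down.toMul, ← MonObj.comp_pow, hp, MonObj.comp_one]
    rfl
  have h1 : ∀ k : ℕ, k • x =
      (Abelian.Ext.mk₀ (k • 𝟙 (CGrpSh.pts Scheme.fppfPrecoverage G))).comp x (zero_add 1) := by
    intro k
    induction k with
    | zero => simp
    | succ n ih => simp [succ_nsmul, ih, Abelian.Ext.mk₀_add, Abelian.Ext.add_comp]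
  rw [h1, h0]
  simp

end Groth.Agent.S14691
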