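import Groth.Statements.S14692
import Mathlib

set_option autoImplicit false
universe u
open CAlg

namespace Groth.Agent.S14692


open Polynomial in
theorem pow_sub_pow_le (p s : ℕ) (hp : 1 ≤ p) : ∀ d : ℕ,
    p ^ (s + d) - p ^ s ≤ d * (p ^ (s + d - 1) * (p - 1))
  | 0 => by simp
  | d + 1 => by
    have ih := pow_sub_pow_le p s hp d
    have h1 : p ^ (s + (d + 1)) - p ^ s = p ^ (s + d) * (p - 1) + (p ^ (s + d) - p ^ s) := by
      have h2 : p ^ (s + (d + 1)) = p ^ (s + d) * (p - 1) + p ^ (s + d) := by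
        rw [← Nat.mul_succ, Nat.succ_eq_add_one, Nat.sub_add_cancel hp, ← add_assoc, pow_succ]
      have h3 : p ^ s ≤ p ^ (s + d) := Nat.pow_le_pow_right hp (Nat.le_add_right s d)
      rw [h2, Nat.add_sub_assoc h3]
    have h4 : p ^ (s + d - 1) ≤ p ^ (s + d) := Nat.pow_le_pow_right hp (Nat.sub_le _ _)
    have h5 : d * (p ^ (s + d - 1) * (p - 1)) ≤ d * (p ^ (s + d) * (p - 1)) :=
      Nat.mul_le_mul_left d (Nat.mul_le_mul_right _ h4)
    rw [h1, show s + (d + 1) - 1 = s + d by omega, Nat.succ_mul]
    omega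

theorem dvd_choose_coeff {R : Type u} [CommRing R] (p : ℕ) [Fact p.Prime] (ϖ : R) (n j i : ℕ)
    (hj : ϖ ^ (p ^ (n - 1) * (p - 1) * (j + 1)) ∣ (p : R)) (hi : 0 < i) (hin : i < p ^ n) :
    ϖ ^ (j * (p ^ n - i) + 1) ∣ ((p ^ n).choose i : R) := by
  have hp : p.Prime := Fact.out
  set s := i.factorization p
  have hs : p ^ s ≤ i := Nat.le_of_dvd hi (Nat.ordProj_dvd i p)
  have hsn : s < n := (Nat.pow_lt_pow_iff_right hp.one_lt).1 (lt_of_le_of_lt hs hin)
  have hd : p ^ (n - s) ∣ (p ^ n).choose i := by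
    rw [← Nat.factorization_choose_prime_pow hp hin.le hi.ne']
    exact Nat.ordProj_dvd _ p
  obtain ⟨c, hc⟩ := hd
  rw [hc, Nat.cast_mul, Nat.cast_pow]
  refine dvd_mul_of_dvd_left (dvd_trans ?_ (pow_dvd_pow_of_dvd hj (n - s))) _
  rw [← pow_mul]
  refine pow_dvd_pow _ ?_
  have h1 := pow_sub_pow_le p s hp.one_le (n - s)
  rw [Nat.add_sub_cancel' hsn.le] at h1
  have h2 : j * (p ^ n - i) ≤ j * ((n - s) * (p ^ (n - 1) * (p - 1))) :=
    Nat.mul_le_mul_left j (le_trans (Nat.sub_le_sub_left hs _) h1)
  have h3 : 0 < (n - s) * (p ^ (n - 1) * (p - 1)) :=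
    Nat.mul_pos (by omega) (Nat.mul_pos (pow_pos hp.pos _) (by have := hp.two_le; omega))
  calc j * (p ^ n - i) + 1
      ≤ j * ((n - s) * (p ^ (n - 1) * (p - 1))) + (n - s) * (p ^ (n - 1) * (p - 1)) := by omega
    _ = p ^ (n - 1) * (p - 1) * (j + 1) * (n - s) := by ring


/-- Let R be a discrete valuation ring of characteristic zero and residue characteristic p, with
uniformizer π and a primitive p^n-th root of unity ζ (n ≥ 1), and A a Noetherian integrally closed
domain which is a faithfully flat R-algebra, in which πA is a prime ideal and every element that is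
a unit modulo π is a unit (as when A is π-adically complete, or local). Let f, g be units of A, j a
natural number with π^{p^{n−1}(p−1)(j+1)} dividing p (that is, j is less than the valuation of ζ −
1, so that the polynomials ((1 + π^{j}T)^{p^n} − 1)/π^{jp^n} and ((1 + π^{j+1}T)^{p^n} −
1)/π^{(j+1)p^n} have coefficients in R), and f₀ ∈ A with f·g^{p^n} = 1 + π^{j p^n}·f₀; suppose j is
maximal with this property: there is no unit g' of A with f·g'^{p^n} ≡ 1 modulo π^{(j+1)p^n}.
Suppose moreover that the algebra L = A[1/π][Z]/(Z^{p^n} − f) is an integral domain (the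
μ_{p^n}-torsor Z^{p^n} = f is connected on the generic fibre) and that, B denoting the integral
closure of A in L (the normalization of Spec A in that cover), the ideal πB is radical (the
normalization has reduced special fibre). Then f₀ is not congruent modulo πA to a p^n-th power. (The
published statement phrases the hypothesis on j as: the class of the torsor Z^{p^n} = f lies in
H¹(Spec A, G_{π^j,n}) and not in H¹(Spec A, G_{π^{j+1},n}); the conditions on g and g' are its
ring-theoretic form, which is the first assertion of the same lemma; A is there factorial and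
π-adically complete, or normal local, which this row keeps only through the consequences used:
integrally closed, and units lift modulo π.) -/
theorem result
    (R : Type u) [CommRing R] [IsDomain R] [IsDiscreteValuationRing R] [CharZero R]
    (p : ℕ) [Fact p.Prime] [CharP (IsLocalRing.ResidueField R) p] (ϖ : R) (hϖ : Irreducible ϖ)
    (n : ℕ) (hn : 0 < n) (ζ : R) (hζ : IsPrimitiveRoot ζ (p ^ n))
    (A : Type u) [CommRing A] [IsDomain A] [IsNoetherianRing A] [IsIntegrallyClosed A] [Algebra R A]
    [Module.FaithfullyFlat R A]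
    (hprime : (Ideal.span {algebraMap R A ϖ}).IsPrime)
    (hlift : ∀ a : A, IsUnit (Ideal.Quotient.mk (Ideal.span {algebraMap R A ϖ}) a) → IsUnit a)
    (f g : Aˣ) (j : ℕ) (hj : ϖ ^ (p ^ (n - 1) * (p - 1) * (j + 1)) ∣ (p : R)) (f₀ : A)
    (hfg : (f : A) * (g : A) ^ (p ^ n) = 1 + (algebraMap R A ϖ) ^ (j * p ^ n) * f₀)
    (hmax : ∀ (g' : Aˣ) (c : A), (f : A) * (g' : A) ^ (p ^ n) ≠ 1 + (algebraMap R A ϖ) ^ ((j + 1) * p ^ n) * c)
    [IsDomain (AdjoinRoot (Polynomial.X ^ (p ^ n) - Polynomial.C (algebraMap A (Localization.Away (algebraMap R A ϖ)) (f : A))))]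
    (hred : (Ideal.span {algebraMap A (integralClosure A (AdjoinRoot (Polynomial.X ^ (p ^ n) - Polynomial.C (algebraMap A (Localization.Away (algebraMap R A ϖ)) (f : A))))) (algebraMap R A ϖ)}).IsRadical)
    (g₀ : A) : f₀ - g₀ ^ (p ^ n) ∉ Ideal.span {(algebraMap R A ϖ)} := by
  classical
  intro hcon
  obtain ⟨k0, hk0⟩ := Ideal.mem_span_singleton.1 hcon
  have hp : p.Prime := Fact.out
  set N := p ^ n with hN
  have hN0 : 0 < N := pow_pos hp.pos n
  set π : A := algebraMap R A ϖ with hπ
  have hinj : Function.Injective (algebraMap R A) := FaithfulSMul.algebraMap_injective R A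
  have hπ0 : π ≠ 0 := (map_ne_zero_iff _ hinj).2 hϖ.ne_zero
  have hπp : π ∣ (p : A) := by
    have h : ϖ ∣ (p : R) := dvd_trans (dvd_pow_self ϖ (mul_pos (mul_pos (pow_pos hp.pos _)
      (by have := hp.two_le; omega)) (Nat.succ_pos j)).ne') hj
    simpa using map_dvd (algebraMap R A) h
  set K' := Localization.Away π
  set P : Polynomial K' := Polynomial.X ^ N - Polynomial.C (algebraMap A K' (f : A))
  set L := AdjoinRoot P
  set C := integralClosure A L
  have hpow : Submonoid.powers π ≤ nonZeroDivisors A := powers_le_nonZeroDivisors_of_noZeroDivisors hπ0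
  have hAK : Function.Injective (algebraMap A K') := IsLocalization.injective K' hpow
  haveI : IsDomain K' := IsLocalization.isDomain_localization hpow
  have hKL : Function.Injective (algebraMap K' L) := by
    refine AdjoinRoot.of.injective_of_degree_ne_zero ?_
    rw [Polynomial.degree_X_pow_sub_C hN0]
    exact_mod_cast hN0.ne'
  have hAL : Function.Injective (algebraMap A L) := by
    rw [IsScalarTower.algebraMap_eq A K' L, RingHom.coe_comp]
    exact hKL.comp hAK
  have hπu : IsUnit (algebraMap A L π) := by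
    rw [IsScalarTower.algebraMap_apply A K' L]
    exact (IsLocalization.Away.algebraMap_isUnit π).map _
  have hπL : algebraMap A L π ≠ 0 := hπu.ne_zero
  set πL := algebraMap A L π with hπL'
  -- the twisted root
  set y : L := AdjoinRoot.root P * algebraMap A L (g : A) with hy
  have hroot : (AdjoinRoot.root P) ^ N = algebraMap A L (f : A) := by
    have h := AdjoinRoot.eval₂_root P
    simp only [P, Polynomial.eval₂_sub, Polynomial.eval₂_pow, Polynomial.eval₂_X, Polynomial.eval₂_C,
      sub_eq_zero] at h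
    rw [IsScalarTower.algebraMap_apply A K' L]
    exact h
  have hyN : y ^ N = algebraMap A L (1 + π ^ (j * N) * f₀) := by
    rw [hy, mul_pow, hroot, ← map_pow, ← map_mul, hfg]
  obtain ⟨v, hv⟩ := (hπu.pow j).exists_left_inv
  set z : L := (y - 1) * v with hz
  have hyz : y = 1 + πL ^ j * z := by
    rw [hz]; linear_combination -(y - 1) * hv
  choose! cR hcR using fun (i : ℕ) (hi : 0 < i ∧ i < N) => dvd_choose_coeff p ϖ n j i hj hi.1 hi.2
  have hzN : z ^ N + πL * ∑ i ∈ Finset.Ico 1 N, algebraMap A L (algebraMap R A (cR i)) * z ^ i =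
      algebraMap A L f₀ := by
    apply mul_left_cancel₀ (pow_ne_zero (j * N) hπL)
    have hexp : y ^ N = 1 + (∑ i ∈ Finset.Ico 1 N, (πL ^ j * z) ^ i * (N.choose i : L)) +
        (πL ^ j * z) ^ N := by
      rw [hyz, add_comm (1 : L), add_pow, Finset.sum_range_succ, Finset.range_eq_Ico,
        Finset.sum_eq_sum_Ico_succ_bot hN0]
      simp
    have hterm : ∀ i ∈ Finset.Ico 1 N, (πL ^ j * z) ^ i * (N.choose i : L) =
        πL ^ (j * N) * (πL * (algebraMap A L (algebraMap R A (cR i)) * z ^ i)) := by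
      intro i hi
      rw [Finset.mem_Ico] at hi
      have h := congrArg (fun r => algebraMap A L (algebraMap R A r)) (hcR i ⟨hi.1, hi.2⟩)
      simp only [map_natCast, map_mul, map_pow, ← hN, ← hπ, ← hπL'] at h
      rw [h, mul_pow, ← pow_mul, show j * N = j * i + j * (N - i) by
        rw [← mul_add, Nat.add_sub_cancel' hi.2.le]]
      ring
    rw [hyN, map_add, map_one, map_mul, map_pow, Finset.sum_congr rfl hterm, ← Finset.mul_sum,
      ← Finset.mul_sum, mul_pow, ← pow_mul] at hexp
    linear_combination -hexp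
  have hzint : IsIntegral A z := by
    set T : Polynomial A :=
      Polynomial.C π * (∑ i ∈ Finset.Ico 1 N, Polynomial.C (algebraMap R A (cR i)) * Polynomial.X ^ i) -
        Polynomial.C f₀ with hT
    refine ⟨Polynomial.X ^ N + T, Polynomial.monic_X_pow_add ?_, ?_⟩
    · rw [Polynomial.degree_lt_iff_coeff_zero]
      intro m hm
      have hm0 : m ≠ 0 := by omega
      rw [hT, Polynomial.coeff_sub, Polynomial.coeff_C_mul, Polynomial.finset_sum_coeff,
        Finset.sum_eq_zero, mul_zero, Polynomial.coeff_C, if_neg hm0, sub_zero]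
      intro i hi
      rw [Finset.mem_Ico] at hi
      rw [Polynomial.coeff_C_mul_X_pow, if_neg (by omega)]
    · simp only [hT, Polynomial.eval₂_add, Polynomial.eval₂_sub, Polynomial.eval₂_pow, Polynomial.eval₂_X,
        Polynomial.eval₂_mul, Polynomial.eval₂_C, Polynomial.eval₂_finsetSum, ← hπL']
      linear_combination hzN
  let zC : C := ⟨z, hzint⟩
  obtain ⟨r, hr⟩ := exists_add_pow_prime_pow_eq hp (zC - algebraMap A C g₀) (algebraMap A C g₀) n
  rw [sub_add_cancel] at hr
  have hzC : algebraMap A C π ∣ zC ^ N - algebraMap A C f₀ := by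
    refine ⟨-(∑ i ∈ Finset.Ico 1 N, algebraMap A C (algebraMap R A (cR i)) * zC ^ i), Subtype.ext ?_⟩
    push_cast
    show z ^ N - algebraMap A L f₀ =
      πL * -(∑ i ∈ Finset.Ico 1 N, algebraMap A L (algebraMap R A (cR i)) * z ^ i)
    linear_combination hzN
  obtain ⟨wC, hwC⟩ : algebraMap A C π ∣ zC - algebraMap A C g₀ := by
    rw [← Ideal.mem_span_singleton]
    refine hred ⟨N, Ideal.mem_span_singleton.2 ?_⟩
    have h1 : (zC - algebraMap A C g₀) ^ N = (zC ^ N - algebraMap A C f₀) + algebraMap A C (f₀ - g₀ ^ N) -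
        algebraMap A C (p : A) * (zC - algebraMap A C g₀) * algebraMap A C g₀ * r := by
      rw [map_sub, map_pow, map_natCast]
      linear_combination -hr
    rw [h1]
    refine dvd_sub (dvd_add hzC (map_dvd _ ⟨k0, hk0⟩)) ?_
    exact ((map_dvd (algebraMap A C) hπp).mul_right _).mul_right _ |>.mul_right _
  set u : A := 1 + π ^ j * g₀ with hu
  have hyu : algebraMap A L u - y = -(πL ^ (j + 1) * (wC : L)) := by
    have h1 := congrArg (Subtype.val : C → L) hwC
    have h2 : z - algebraMap A L g₀ = πL * (wC : L) := h1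
    rw [hyz, hu, map_add, map_one, map_mul, map_pow, ← hπL']
    linear_combination -(πL ^ j) * h2
  -- conjugates
  have hζL : IsPrimitiveRoot (algebraMap A L (algebraMap R A ζ)) N := by
    exact hζ.map_of_injective (f := (algebraMap A L).comp (algebraMap R A)) (hAL.comp hinj)
  set ζL := algebraMap A L (algebraMap R A ζ) with hζL'
  have hσ : ∀ i : ℕ, ∃ θ : L, IsIntegral A θ ∧
      algebraMap A L u - ζL ^ i * y = πL ^ (j + 1) * θ := by
    intro i
    let σ : L →ₐ[K'] L := AdjoinRoot.liftAlgHom P (Algebra.ofId K' L) (ζL ^ i * AdjoinRoot.root P) (by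
      simp only [P, Polynomial.eval₂_sub, Polynomial.eval₂_pow, Polynomial.eval₂_X, Polynomial.eval₂_C]
      rw [mul_pow, ← pow_mul, mul_comm i, pow_mul, hζL.pow_eq_one, one_pow, one_mul, hroot, sub_eq_zero]
      exact IsScalarTower.algebraMap_apply A K' L _)
    have hσA : ∀ x : A, σ (algebraMap A L x) = algebraMap A L x := fun x => by
      rw [IsScalarTower.algebraMap_apply A K' L, AlgHom.commutes]
    have hσy : σ y = ζL ^ i * y := by
      rw [hy, map_mul, hσA, ← mul_assoc]
      congr 1
      exact AdjoinRoot.liftAlgHom_root P _ _ _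
    refine ⟨-σ (wC : L), ((IsIntegral.map (σ.restrictScalars A) wC.2) : IsIntegral A (σ (wC : L))).neg, ?_⟩
    rw [← hσy, ← hσA u, ← map_sub, hyu, map_neg, map_mul, map_pow, hπL', hσA]
    ring
  choose θ hθint hθ using hσ
  have hprod : algebraMap A L (u ^ N - (1 + π ^ (j * N) * f₀)) =
      πL ^ ((j + 1) * N) * ∏ i ∈ Finset.range N, θ i := by
    have h := congrArg (Polynomial.eval (algebraMap A L u)) (X_pow_sub_C_eq_prod hζL hN0 hyN)
    rw [Polynomial.eval_prod] at h
    simp only [Polynomial.eval_sub, Polynomial.eval_pow, Polynomial.eval_X, Polynomial.eval_C] at h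
    rw [map_sub, map_pow, h, Finset.prod_congr rfl fun i _ => hθ i, Finset.prod_mul_distrib,
      Finset.prod_const, Finset.card_range, ← pow_mul]
  obtain ⟨iv, hiv⟩ := (IsLocalization.Away.algebraMap_isUnit (S := K') π).exists_left_inv
  set a' : K' := algebraMap A K' (u ^ N - (1 + π ^ (j * N) * f₀)) * iv ^ ((j + 1) * N) with ha'
  have ha'L : algebraMap K' L a' = ∏ i ∈ Finset.range N, θ i := by
    apply mul_left_cancel₀ (pow_ne_zero ((j + 1) * N) hπL)
    rw [← hprod, ha', map_mul, map_pow, ← IsScalarTower.algebraMap_apply A K' L, mul_left_comm, ← mul_pow]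
    rw [hπL', IsScalarTower.algebraMap_apply A K' L π, ← map_mul, mul_comm (algebraMap A K' π), hiv,
      map_one, one_pow, mul_one]
  have ha'int : IsIntegral A a' := by
    rw [← isIntegral_algHom_iff (IsScalarTower.toAlgHom A K' L) hKL]
    show IsIntegral A (algebraMap K' L a')
    rw [ha'L]
    exact IsIntegral.prod _ fun i _ => hθint i
  let ψ : K' →ₐ[A] FractionRing A := IsLocalization.liftAlgHom (M := Submonoid.powers π)
    (f := Algebra.ofId A (FractionRing A)) (fun x => by
      exact IsUnit.mk0 _ ((map_ne_zero_iff _ (IsFractionRing.injective A (FractionRing A))).2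
        (nonZeroDivisors.ne_zero (hpow x.2))))
  obtain ⟨a, ha⟩ := IsIntegrallyClosed.isIntegral_iff.1 (ha'int.map ψ)
  have hkey : u ^ N - (1 + π ^ (j * N) * f₀) = π ^ ((j + 1) * N) * a := by
    apply IsFractionRing.injective A (FractionRing A)
    rw [map_mul, ha, ha', map_mul, map_pow, map_pow, AlgHom.commutes, mul_left_comm, ← mul_pow]
    rw [← AlgHom.commutes ψ π, ← map_mul, mul_comm (algebraMap A K' π), hiv, map_one, one_pow, mul_one]
  have huu : IsUnit u := by
    refine hlift u ((isUnit_pow_iff hN0.ne').1 ?_)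
    rw [← map_pow]
    have h1 : u ^ N = (f : A) * (g : A) ^ N + π ^ ((j + 1) * N) * a := by
      rw [hN] at hfg ⊢
      rw [hfg, ← hN]
      linear_combination hkey
    have h2 : Ideal.Quotient.mk (Ideal.span {π}) (π ^ ((j + 1) * N) * a) = 0 :=
      Ideal.Quotient.eq_zero_iff_mem.2 (Ideal.mem_span_singleton.2
        (dvd_mul_of_dvd_left (dvd_pow_self π (Nat.mul_pos (Nat.succ_pos j) hN0).ne') _))
    rw [h1, map_add, h2, add_zero, map_mul, map_pow]
    exact (f.isUnit.map _).mul ((g.isUnit.map _).pow _)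
  obtain ⟨uu, huu⟩ := huu
  refine hmax (g * uu⁻¹) (-a * ((uu⁻¹ : Aˣ) : A) ^ N) ?_
  have h3 : u * ((uu⁻¹ : Aˣ) : A) = 1 := by rw [← huu]; exact uu.mul_inv
  have h4 : u ^ N * ((uu⁻¹ : Aˣ) : A) ^ N = 1 := by rw [← mul_pow, h3, one_pow]
  rw [Units.val_mul, mul_pow, ← mul_assoc, hfg]
  linear_combination h4 - ((uu⁻¹ : Aˣ) : A) ^ N * hkey

end Groth.Agent.S14692
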