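import Groth.Statements.S14693
import Groth.Agent.Lib.SekSuwa19.Basic

set_option autoImplicit false
universe u
open CategoryTheory AlgebraicGeometry
open SekSuwa

namespace Groth.Agent.S14693

open MonoidalCategory CartesianMonoidalCategory MonObj

/-- For any commutative ring R, λ ∈ R and N such that λ is a non-zero-divisor and λ^N divides (1 + λX)^N
− 1 in R[X] with quotient P_{λ,N}, the closed subgroup scheme G_{λ,N} = Spec R[T]/(P_{λ,N}(T)) of
the affine R-group G^(λ) = Spec R[T, 1/(1+λT)] (group law s + t + λst) is the kernel of the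
homomorphism ψ_{λ,N} : G^(λ) → G^(λ^N), T ↦ P_{λ,N}(T): the square with sides the inclusion G_{λ,N}
→ G^(λ), ψ_{λ,N}, the unit section of G^(λ^N) and G_{λ,N} → Spec R is cartesian. (The published
text, over a discrete valuation ring and with N = p^n, introduces G_{λ,n} as the kernel of the
isogeny ψ_{λ,n}; this row is that assertion for every N, including the degenerate N = 0 where ψ is
trivial and G_{λ,0} = G^(λ).) -/
theorem result (R : Type u) [CommRing R] (lam : R) (N : ℕ) (h : SekSuwa.DivCond lam N) :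
    AlgGrp.IsKernel (SekSuwa.incl R lam N h) (SekSuwa.psi R lam N h) := by
  have hs : Function.Surjective (SekSuwa.AK.mkHom R lam N h) := Ideal.Quotient.mk_surjective
  haveI : IsClosedImmersion (SekSuwa.incl R lam N h).left := by
    rw [SekSuwa.incl, SekSuwa.specHom_left]
    exact IsClosedImmersion.spec_of_surjective _ hs
  haveI : Mono (SekSuwa.incl R lam N h) := by
    haveI : Mono ((Over.forget _).map (SekSuwa.incl R lam N h)) := inferInstanceAs (Mono (SekSuwa.incl R lam N h).left)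
    exact (Over.forget _).mono_of_mono_map (f := SekSuwa.incl R lam N h) inferInstance
  have key : ∀ c : Limits.PullbackCone (SekSuwa.psi R lam N h) η[SekSuwa.G R (lam ^ N)],
      ∃ g : c.pt ⟶ SekSuwa.GK R lam N h, g ≫ SekSuwa.incl R lam N h = c.fst := by
    intro c
    obtain ⟨φ, hφ⟩ := SekSuwa19.exists_toSpecΓ (B := CommRingCat.of (SekSuwa.A R lam)) c.fst.left
    have h1 : c.fst ≫ SekSuwa.psi R lam N h = c.fst ≫ SekSuwa.specHom
        ((Bialgebra.unitBialgHom R (SekSuwa.A R lam)).comp (Bialgebra.counitBialgHom R (SekSuwa.A R (lam ^ N)))) := by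
      rw [SekSuwa.specHom_trivial, MonObj.comp_one, c.condition, Subsingleton.elim c.snd (toUnit _)]; rfl
    have h2 : c.fst.left ≫ Spec.map (CommRingCat.ofHom ((SekSuwa.psiHom R lam N h : SekSuwa.A R (lam ^ N) →ₐc[R] SekSuwa.A R lam) : SekSuwa.A R (lam ^ N) →+* SekSuwa.A R lam)) =
        c.fst.left ≫ Spec.map (CommRingCat.ofHom (((Bialgebra.unitBialgHom R (SekSuwa.A R lam)).comp
          (Bialgebra.counitBialgHom R (SekSuwa.A R (lam ^ N))) : SekSuwa.A R (lam ^ N) →ₐc[R] SekSuwa.A R lam) : SekSuwa.A R (lam ^ N) →+* SekSuwa.A R lam)) :=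
      congrArg (fun q : c.pt ⟶ SekSuwa.G R (lam ^ N) => q.left) h1
    replace h2 : (c.pt.left.toSpecΓ ≫ Spec.map φ) ≫ Spec.map (CommRingCat.ofHom ((SekSuwa.psiHom R lam N h : SekSuwa.A R (lam ^ N) →ₐc[R] SekSuwa.A R lam) : SekSuwa.A R (lam ^ N) →+* SekSuwa.A R lam)) = (c.pt.left.toSpecΓ ≫ Spec.map φ) ≫ Spec.map (CommRingCat.ofHom (((Bialgebra.unitBialgHom R (SekSuwa.A R lam)).comp (Bialgebra.counitBialgHom R (SekSuwa.A R (lam ^ N))) : SekSuwa.A R (lam ^ N) →ₐc[R] SekSuwa.A R lam) : SekSuwa.A R (lam ^ N) →+* SekSuwa.A R lam)) := by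
      rw [← hφ]; exact h2
    rw [Category.assoc, Category.assoc, ← Spec.map_comp, ← Spec.map_comp] at h2
    have h3 := congr($(SekSuwa19.toSpecΓ_inj h2) (SekSuwa.A.t))
    have hk : φ (SekSuwa.kerGen lam N h) = 0 := by
      change φ (SekSuwa.psiHom R lam N h SekSuwa.A.t) = φ (algebraMap R (SekSuwa.A R lam)
        (CoalgebraStruct.counit (R := R) (SekSuwa.A.t : SekSuwa.A R (lam ^ N)))) at h3
      rw [SekSuwa.psiHom_t, SekSuwa.A.counit_t, map_zero, map_zero] at h3
      exact h3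
    let ψ : CommRingCat.of (SekSuwa.AK R lam N h) ⟶ Γ(c.pt.left, ⊤) :=
      CommRingCat.ofHom (Ideal.Quotient.lift (SekSuwa.kerIdeal lam N h) φ.hom (by
        intro z hz
        obtain ⟨a, rfl⟩ := Ideal.mem_span_singleton'.mp hz
        rw [map_mul]; exact mul_eq_zero_of_right _ hk))
    have hψ : CommRingCat.ofHom ((SekSuwa.AK.mkHom R lam N h : SekSuwa.A R lam →ₐc[R] SekSuwa.AK R lam N h) :
        SekSuwa.A R lam →+* SekSuwa.AK R lam N h) ≫ ψ = φ := by
      ext z; rfl
    have hg : (c.pt.left.toSpecΓ ≫ Spec.map ψ) ≫ (SekSuwa.incl R lam N h).left = c.fst.left := by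
      refine Eq.trans ?_ hφ.symm
      show (c.pt.left.toSpecΓ ≫ Spec.map ψ) ≫ Spec.map (CommRingCat.ofHom ((SekSuwa.AK.mkHom R lam N h :
        SekSuwa.A R lam →ₐc[R] SekSuwa.AK R lam N h) : SekSuwa.A R lam →+* SekSuwa.AK R lam N h)) = c.pt.left.toSpecΓ ≫ Spec.map φ
      rw [Category.assoc, ← Spec.map_comp, hψ]
    refine ⟨Over.homMk (c.pt.left.toSpecΓ ≫ Spec.map ψ) ?_, Over.OverMorphism.ext hg⟩
    have hw := Over.w (SekSuwa.incl R lam N h)
    exact ((congrArg ((c.pt.left.toSpecΓ ≫ Spec.map ψ) ≫ ·) hw).symm.trans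
      ((Category.assoc _ _ _).symm.trans (congrArg (· ≫ (SekSuwa.G R lam).hom) hg))).trans (Over.w c.fst)
  choose g hg using key
  refine ⟨⟨?_⟩, ⟨Limits.PullbackCone.IsLimit.mk _ g hg (fun c => toUnit_unique _ _)
    (fun c m h1 _ => (cancel_mono (SekSuwa.incl R lam N h)).mp (h1.trans (hg c).symm))⟩⟩
  rw [SekSuwa.incl_psi]; rfl

end Groth.Agent.S14693
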