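import Groth.Statements.S14696
import Groth.Agent.S11316
import Groth.Agent.Lib.SurfRR10.Proj
import Groth.Agent.Lib.SymSq10.Coh

set_option autoImplicit false
set_option maxHeartbeats 1000000
set_option linter.style.haveILetI false
set_option backward.isDefEq.respectTransparency false
set_option backward.isDefEq.respectTransparency.types false
universe u
open CategoryTheory CategoryTheory.Limits AlgebraicGeometry
open Surf

namespace Groth.Agent.S14696

open Groth.Agent.HypSq10 (rep rep_inv cls_rep chi hh)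
open Groth.Agent.SymSq10 (sdot)

noncomputable local instance instLawS14696 (Y : Scheme.{u}) : PicGrp.Law Y := M2.law Y


/-- Let k be an algebraically closed field and X an integral scheme of dimension two admitting a closed
immersion into some P^n_k over k, all of whose local rings are Cohen–Macaulay. Let (ω, t) be a
dualizing sheaf for X — ω coherent, t a k-linear form on H^2(X, ω), such that for every coherent F
and every k-linear form ψ on H^2(X, F) there is exactly one φ : F → ω with ψ = t ∘ H^2(φ) — and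
assume ω invertible. Then for every invertible O_X-module L one has 2 χ(L) = (L·L) - (L·ω) + 2
χ(O_X), where (A·B) = χ(O_X) - χ(A) - χ(B) + χ(A ⊗ B) is the intersection number (packaged as
FGA.intNum). (The published statement is for a Gorenstein surface, where the dualizing sheaf is
invertible and the local rings are Cohen–Macaulay; this row assumes those two consequences directly,
which is what the proof uses, and does not assume regularity in codimension one.) -/
theorem result (k : Type u) [Field k] [IsAlgClosed k] (X : Scheme.{u}) [X.Over (Spec (CommRingCat.of k))]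
    [IsIntegral X] (hdim : topologicalKrullDim X = 2)
    (hproj : ∃ (n : ℕ) (ι : X ⟶ CohB1.ProjSpace n k), IsClosedImmersion ι ∧ ι ≫ CohB1.ProjSpace.toSpec n k = (X ↘ (Spec (CommRingCat.of k))))
    (hCM : ∀ x : X, LocCoh.IsCohenMacaulayLocalRing (X.presheaf.stalk x))
    (ω : X.Modules) (hωcoh : Coh.IsCoh ω) (hωinv : PicF.IsInvertible ω) (t : Coh.HH X ω 2 →ₗ[k] k)
    (hdual : ∀ F : X.Modules, Coh.IsCoh F → ∀ ψ : Coh.HH X F 2 →ₗ[k] k,
        ∃! φ : F ⟶ ω, ∀ x : Coh.HH X F 2,
          ψ x = t (Sheaf.H.map ((SheafOfModules.toSheaf X.ringCatSheaf).map φ) 2 x))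
    (L : X.Modules) (hL : PicF.IsInvertible L) :
    2 * Curv2.euler k X L = FGA.intNum k X 2 ![L, L] (Coh.structureModule X) - FGA.intNum k X 2 ![L, ω] (Coh.structureModule X) + 2 * Curv2.euler k X (Coh.structureModule X) := by
  obtain ⟨N, ι, hι1, hι⟩ := hproj
  haveI := hι1
  haveI : IsProper (CohB1.ProjSpace.toSpec N k) := ProjSpace.isProper_toSpec N k
  haveI : IsProper (X ↘ Spec (CommRingCat.of k)) := by rw [← hι]; infer_instance
  haveI : IsNoetherian X := CohFound.isNoetherian_of_isProper (X ↘ Spec (CommRingCat.of k))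
  have hd : topologicalKrullDim X = ((2 : ℕ) : WithBot ℕ∞) := by rw [hdim]; rfl
  have heq : ∀ Z : Set ↥X, Z ∈ irreducibleComponents ↥X → topologicalKrullDim ↥Z = ((2 : ℕ) : WithBot ℕ∞) := by
    intro Z hZ
    rw [irreducibleComponents_eq_singleton, Set.mem_singleton_iff] at hZ
    subst hZ
    rw [(Homeomorph.Set.univ X).isHomeomorph.topologicalKrullDim_eq, hd]
  set w := PicGrp.cls ω hωinv with hw
  have hdu : ∀ (c : PicLoc.PicSet X) (p : ℕ), p ≤ 2 → hh k p c = hh k (2 - p) (c⁻¹ * w) := by
    intro c p hp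
    haveI := HilbObs3.hasSheafHom (rep c)
    obtain ⟨e⟩ := S11316.result k N 2 X ι hι hd hCM heq ω hωcoh t hdual (rep c)
      (M2.isFinLocFree_of_isInvertible (rep_inv c)) p hp
    obtain ⟨M, hM, ⟨a⟩⟩ := M2.exists_inverse (rep_inv c)
    obtain ⟨j⟩ := SurfRR10.nonempty_sheafHom_invertible (rep_inv c) a ω
    have hc : PicGrp.cls M hM = c⁻¹ := by
      have h := (PicGrp.cls_mul_cls_eq_one_iff (rep_inv c) hM).2 ⟨a⟩
      rw [cls_rep] at h
      exact eq_inv_of_mul_eq_one_right h
    obtain ⟨j'⟩ := (PicGrp.cls_eq_cls_iff (M2.isInvertible_tensor hM hωinv) (rep_inv (c⁻¹ * w))).1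
      (by rw [← AlgEquiv22.cls_tensor hM hωinv, hc, cls_rep])
    rw [hh, hh, ← Subspace.dual_finrank_eq, e.finrank_eq, (CurveCoh17.hequiv k (j ≪≫ j') (2 - p)).finrank_eq]
  have hsym : ∀ c : PicLoc.PicSet X, chi k (c⁻¹ * w) = chi k c := by
    intro c
    rw [SymSq10.chi_eq_hh2 (k := k) hd.le, SymSq10.chi_eq_hh2 (k := k) hd.le, hdu c 0 (by norm_num),
      hdu c 1 (by norm_num), hdu c 2 le_rfl]
    norm_num
    ring
  set c := PicGrp.cls L hL with hc
  have h1 := SymSq10.chi_mul' (k := k) c (c⁻¹ * w)
  have h2 := SymSq10.sdot_mul (k := k) hd.le (c⁻¹) w c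
  have h3 := SymSq10.sdot_mul (k := k) hd.le c c⁻¹ c
  rw [mul_inv_cancel, SymSq10.sdot_one_left] at h3
  rw [SymSq10.sdot_comm c (c⁻¹ * w), h2, hsym, mul_inv_cancel_left, SymSq10.sdot_comm w c] at h1
  have h4 := hsym 1
  rw [inv_one, one_mul] at h4
  rw [SymSq10.intNum_eq' hd.le hL hL, SymSq10.intNum_eq' hd.le hL hωinv, HypSq10.euler_eq_chi hL, ← HypSq10.chi_one,
    ← hc, ← hw]
  linarith

end Groth.Agent.S14696
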