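import Groth.Statements.S14697
import Groth.Agent.Lib.NormalRR10.Basic
import Groth.Agent.Lib.RegSmooth17.Scheme
import Groth.Agent.Lib.CMReg18.Proj

set_option autoImplicit false
set_option maxHeartbeats 1000000
set_option linter.style.haveILetI false
set_option backward.isDefEq.respectTransparency false
set_option backward.isDefEq.respectTransparency.types false
universe u
open CategoryTheory CategoryTheory.Limits AlgebraicGeometry
open Surf

namespace Groth.Agent.S14697

open Groth.Agent.HypSq10 (chi)
open Groth.Agent.SymSq10 (sdot)

noncomputable local instance instLawS14697 (Y : Scheme.{u}) : PicGrp.Law Y := M2.law Y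

theorem infinite_of_dim_pos {k : Type u} [Field k] {X : Scheme.{u}} (f : X ⟶ Spec (CommRingCat.of k))
    [IrreducibleSpace X] [LocallyOfFiniteType f] (hd : topologicalKrullDim X = ((2 : ℕ) : WithBot ℕ∞)) : Infinite X := by
  by_contra hfin
  rw [not_infinite_iff_finite] at hfin
  haveI := hfin
  haveI : JacobsonSpace X := LocallyOfFiniteType.jacobsonSpace f
  haveI : DiscreteTopology X := inferInstance
  haveI : Subsingleton X := ⟨fun a b => by
    obtain ⟨z, hza, hzb⟩ := nonempty_preirreducible_inter (isOpen_discrete ({a} : Set X)) (isOpen_discrete ({b} : Set X))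
      ⟨a, rfl⟩ ⟨b, rfl⟩
    exact (Set.mem_singleton_iff.1 hza).symm.trans (Set.mem_singleton_iff.1 hzb)⟩
  have h0 := topologicalKrullDim_zero_of_discreteTopology X
  rw [hd] at h0
  exact absurd h0 (by decide)


/-- Let k be an algebraically closed field and X an integral normal scheme of dimension two admitting a
closed immersion into some P^n_k over k. Let φ : Y → X be a k-morphism from an integral scheme Y of
dimension two with all local rings regular, itself admitting a closed immersion into some P^m_k over
k, such that φ restricts to an isomorphism over an open subset U of X with finite complement (any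
such resolution: φ may also fail to be an isomorphism over finitely many regular points). Let W be a
canonical module of Y, a second exterior power of Ω_{Y/k}, and L an invertible O_X-module. Then 2
χ(X, L) = (φ^*L · φ^*L) - (φ^*L · W) + 2 χ(X, O_X), the intersection numbers being taken on Y as
(A·B) = χ(O_Y) - χ(A) - χ(B) + χ(A ⊗ B) (packaged as FGA.intNum). In the published form D.D and
D.K_* are the intersection numbers of the Cartier divisor D of L with itself and with the direct
image K_* of a canonical divisor of Y, in the rational-valued pairing defined through the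
resolution; for a Cartier divisor both equal the numbers on Y written here. (The published statement
takes a resolved model, that is, φ an isomorphism exactly over the complement of the singular points
with exceptional curves nonsingular and crossing normally; this row allows any φ that is an
isomorphism over some open subset with finite complement, to which the same proof applies. The
published display has constant term the arithmetic genus p_a(X) = χ(O_X) - 1 of the surface; the
proof given establishes the constant χ(O_X) used here, and with p_a(X) the identity already fails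
for the trivial divisor, whose two sides would read χ(O_X) and χ(O_X) - 1.) -/
theorem result (k : Type u) [Field k] [IsAlgClosed k] (X : Scheme.{u}) [X.Over (Spec (CommRingCat.of k))]
    [IsIntegral X] (hdim : topologicalKrullDim X = 2)
    (hproj : ∃ (n : ℕ) (ι : X ⟶ CohB1.ProjSpace n k), IsClosedImmersion ι ∧ ι ≫ CohB1.ProjSpace.toSpec n k = (X ↘ (Spec (CommRingCat.of k))))
    (hnorm : Pi1.IsNormalScheme X) (U : X.Opens) (hU : ((U : Set X)ᶜ).Finite)
    (Y : Scheme.{u}) (φ : Y ⟶ X) [IsIntegral Y] (hdimY : topologicalKrullDim Y = 2)
    (hregY : ∀ y : Y, IsRegularLocalRing (Y.presheaf.stalk y))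
    (hprojY : ∃ (n : ℕ) (ι : Y ⟶ CohB1.ProjSpace n k), IsClosedImmersion ι ∧ ι ≫ CohB1.ProjSpace.toSpec n k = φ ≫ (X ↘ (Spec (CommRingCat.of k))))
    (hisoY : IsIso (φ ∣_ U))
    (W : Y.Modules) (hW : ExtPow.IsExtPow 2 (Omega.sheaf (φ ≫ (X ↘ (Spec (CommRingCat.of k))))) W)
    (L : X.Modules) (hL : PicF.IsInvertible L) :
    letI : Y.Over (Spec (CommRingCat.of k)) := ⟨φ ≫ (X ↘ (Spec (CommRingCat.of k)))⟩
    2 * Curv2.euler k X L =
      FGA.intNum k Y 2 ![(Scheme.Modules.pullback φ).obj L, (Scheme.Modules.pullback φ).obj L] (Coh.structureModule Y) -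
        FGA.intNum k Y 2 ![(Scheme.Modules.pullback φ).obj L, W] (Coh.structureModule Y) +
        2 * Curv2.euler k X (Coh.structureModule X) := by
  letI : Y.Over (Spec (CommRingCat.of k)) := ⟨φ ≫ (X ↘ (Spec (CommRingCat.of k)))⟩
  show 2 * Curv2.euler k X L = _
  obtain ⟨n, ι, hι1, hι⟩ := hproj
  obtain ⟨m, j, hj1, hj⟩ := hprojY
  haveI := hι1
  haveI := hj1
  haveI : IsProper (CohB1.ProjSpace.toSpec n k) := ProjSpace.isProper_toSpec n k
  haveI : IsProper (CohB1.ProjSpace.toSpec m k) := ProjSpace.isProper_toSpec m k
  haveI : IsProper (X ↘ Spec (CommRingCat.of k)) := by rw [← hι]; infer_instance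
  haveI : IsProper (Y ↘ Spec (CommRingCat.of k)) :=
    show IsProper (φ ≫ (X ↘ Spec (CommRingCat.of k))) by rw [← hj]; infer_instance
  haveI : IsNoetherian X := CohFound.isNoetherian_of_isProper (X ↘ Spec (CommRingCat.of k))
  haveI : IsNoetherian Y := CohFound.isNoetherian_of_isProper (Y ↘ Spec (CommRingCat.of k))
  haveI : Smooth (Y ↘ Spec (CommRingCat.of k)) := RegSmooth17.smooth_of_regular_of_perfectField _ hregY
  have hdX : topologicalKrullDim X = ((2 : ℕ) : WithBot ℕ∞) := by rw [hdim]; rfl
  have hdY : topologicalKrullDim Y = ((2 : ℕ) : WithBot ℕ∞) := by rw [hdimY]; rfl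
  have hne : (U : Set X).Nonempty := by
    by_contra hempty
    rw [Set.not_nonempty_iff_eq_empty] at hempty
    rw [hempty, Set.compl_empty] at hU
    haveI : Finite X := Set.finite_univ_iff.1 hU
    exact Set.infinite_univ_iff.2 (infinite_of_dim_pos (X ↘ Spec (CommRingCat.of k)) hdX) hU
  have hH : CohB1.IsAmple ((Scheme.Modules.pullback ι).obj (Twist.twistProjSpace n k 1)) :=
    Amp.isAmple_pullback_of_isAffineHom ι (CMReg18.isAmple_twistOne k)
  set c := PicGrp.cls L hL
  have hd := NormalRR10.defect (k := k) φ rfl hdX hdY U hisoY hU hne hH c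
  have hWi := SurfRR10.isInvertible_canonical (k := k) hdimY hW
  have hrr := SurfRR10.rr (k := k) hdimY hW hWi (Abel10.pc φ c)
  rw [SurfRR10.phi] at hrr
  have hLp := PicLoc.isInvertible_pullback φ hL
  have hc : PicGrp.cls ((Scheme.Modules.pullback φ).obj L) hLp = Abel10.pc φ c := (PicGrp.pullHom_cls φ _ _ hL).symm
  rw [HypSq10.euler_eq_chi hL, ← HypSq10.chi_one, SymSq10.intNum_eq' hdY.le hLp hLp,
    SymSq10.intNum_eq' hdY.le hLp hWi, hc]
  linarith

end Groth.Agent.S14697
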