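import Groth.Statements.S14698
import Groth.Agent.Lib.BiratPt18.Global
import Groth.Agent.Lib.TopDimLib.Basic
import Groth.Agent.Lib.NumConn10.Fibre

set_option autoImplicit false
set_option maxHeartbeats 1000000
set_option linter.style.haveILetI false
set_option backward.isDefEq.respectTransparency false
set_option backward.isDefEq.respectTransparency.types false
universe u
open CategoryTheory CategoryTheory.Limits AlgebraicGeometry
open Resolve

namespace Groth.Agent.S14698

open TopologicalSpace

theorem isIso_stalkMap {A B : Scheme.{u}} (f : A ⟶ B) (V : B.Opens) [IsIso (f ∣_ V)] (y : A) (hy : f y ∈ V) :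
    IsIso (f.stalkMap y) := by
  have h : IsIso ((f ∣_ V).stalkMap ⟨y, hy⟩) := inferInstance
  exact ((MorphismProperty.isomorphisms CommRingCat).arrow_mk_iso_iff
    (morphismRestrictStalkMap f V ⟨y, hy⟩)).1 h

theorem exists_preimage {A B : Scheme.{u}} (f : A ⟶ B) (V : B.Opens) [IsIso (f ∣_ V)] {b : B} (hb : b ∈ V) :
    ∃ a, f a = b := by
  obtain ⟨a, ha⟩ := (f ∣_ V).homeomorph.surjective ⟨b, hb⟩
  refine ⟨a.1, ?_⟩
  have := morphismRestrict_base_coe f V a
  rw [← this]
  exact congrArg Subtype.val ha

theorem dim_pos {T : Type u} [TopologicalSpace T] [T0Space T] [PreirreducibleSpace T] {a b : T} (hne : a ≠ b) :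
    1 ≤ topologicalKrullDim T := by
  haveI : Nonempty T := ⟨a⟩
  haveI : IrreducibleSpace T := { toNonempty := ⟨a⟩ }
  let top : IrreducibleCloseds T := ⟨Set.univ, IrreducibleSpace.isIrreducible_univ T, isClosed_univ⟩
  have key : ∃ c : T, closure ({c} : Set T) ≠ Set.univ := by
    by_contra h
    push Not at h
    exact hne (inseparable_iff_closure_eq.2 ((h a).trans (h b).symm)).eq
  obtain ⟨c, hc⟩ := key
  have h0 : (0 : WithBot ℕ∞) < topologicalKrullDim T :=
    Order.krullDim_pos_iff.2 ⟨⟨closure {c}, isIrreducible_singleton.closure, isClosed_closure⟩, top,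
      lt_of_le_of_ne (fun _ _ => trivial) fun e => hc (congrArg (fun Z : IrreducibleCloseds T => (Z : Set T)) e)⟩
  revert h0
  rcases topologicalKrullDim T with _ | (_ | n)
  · intro h; exact absurd h (not_lt_bot)
  · intro _; exact WithBot.coe_le_coe.2 le_top
  · intro h
    exact WithBot.coe_le_coe.2 (Order.one_le_iff_pos.2 (WithBot.coe_lt_coe.1 h))

theorem isOpen_of_component {T : Type u} [TopologicalSpace T] [NoetherianSpace T] {z : T}
    (hz : ({z} : Set T) ∈ irreducibleComponents T) : IsOpen ({z} : Set T) := by
  have hfin : ((irreducibleComponents T) \ {{z}}).Finite :=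
    NoetherianSpace.finite_irreducibleComponents.subset Set.sdiff_subset
  have hC : IsClosed (⋃ W ∈ (irreducibleComponents T) \ {{z}}, W) :=
    hfin.isClosed_biUnion fun W hW => isClosed_of_mem_irreducibleComponents W hW.1
  convert hC.isOpen_compl using 1
  ext w
  simp only [Set.mem_singleton_iff, Set.mem_compl_iff, Set.mem_iUnion, Set.mem_sdiff, exists_prop, not_exists,
    not_and]
  constructor
  · rintro rfl W ⟨hW, hne⟩ hw
    exact hne (hz.eq_of_ge hW.1 (Set.singleton_subset_iff.2 hw))
  · intro h
    by_contra hw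
    exact h _ ⟨irreducibleComponent_mem_irreducibleComponents w,
      fun e => hw (Set.mem_singleton_iff.1 (e ▸ mem_irreducibleComponent))⟩ mem_irreducibleComponent

/-- Let k be an algebraically closed field and X an integral normal scheme of dimension two admitting a
closed immersion into some P^n_k over k. Let φ : Y → X be a k-morphism from an integral scheme Y of
dimension two with all local rings regular, itself admitting a closed immersion into some P^m_k over
k, which restricts to an isomorphism over an open subset U of X with finite complement. Then for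
every point x of X at which the local ring is not regular, the fibre φ⁻¹(x) (with the topology
induced from Y) is nonempty and every irreducible component of it has dimension one: such a
desingularization is a monoidal model. (The published statement takes φ an isomorphism exactly over
the complement of the singular points; this row allows any open U with finite complement over which
φ is an isomorphism.) -/
theorem result (k : Type u) [Field k] [IsAlgClosed k] (X : Scheme.{u}) [X.Over (Spec (CommRingCat.of k))]
    [IsIntegral X] (hdim : topologicalKrullDim X = 2)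
    (hproj : ∃ (n : ℕ) (ι : X ⟶ CohB1.ProjSpace n k), IsClosedImmersion ι ∧ ι ≫ CohB1.ProjSpace.toSpec n k = (X ↘ (Spec (CommRingCat.of k))))
    (hnorm : Pi1.IsNormalScheme X) (U : X.Opens) (hU : ((U : Set X)ᶜ).Finite)
    (Y : Scheme.{u}) (φ : Y ⟶ X) [IsIntegral Y] (hdimY : topologicalKrullDim Y = 2)
    (hregY : ∀ y : Y, IsRegularLocalRing (Y.presheaf.stalk y))
    (hprojY : ∃ (n : ℕ) (ι : Y ⟶ CohB1.ProjSpace n k), IsClosedImmersion ι ∧ ι ≫ CohB1.ProjSpace.toSpec n k = φ ≫ (X ↘ (Spec (CommRingCat.of k))))
    (hisoY : IsIso (φ ∣_ U))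
    (x : X) (hx : ¬ IsRegularLocalRing (X.presheaf.stalk x)) :
    (φ.base ⁻¹' ({x} : Set X)).Nonempty ∧
      ∀ Z ∈ irreducibleComponents ↥(φ.base ⁻¹' ({x} : Set X)), topologicalKrullDim ↥Z = 1 := by
  classical
  let q := X ↘ Spec (CommRingCat.of k)
  haveI hqp : IsProper q := by
    obtain ⟨n, ι, hι, e⟩ := hproj
    haveI := hι
    show IsProper (X ↘ Spec (CommRingCat.of k))
    rw [← e]
    infer_instance
  haveI hφq : IsProper (φ ≫ q) := by
    obtain ⟨n, ι, hι, e⟩ := hprojY
    haveI := hι
    show IsProper (φ ≫ (X ↘ Spec (CommRingCat.of k)))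
    rw [← e]
    infer_instance
  haveI : IsProper φ := IsProper.of_comp φ q
  haveI : IsNoetherian X := CohFound.isNoetherian_of_isProper q
  haveI : IsNoetherian Y := CohFound.isNoetherian_of_isProper (φ ≫ q)
  haveI : IsIso (φ ∣_ U) := hisoY
  haveI : JacobsonSpace X := LocallyOfFiniteType.jacobsonSpace q
  have hUne : (U : Set X).Nonempty := by
    by_contra h
    rw [Set.not_nonempty_iff_eq_empty] at h
    rw [h, Set.compl_empty] at hU
    haveI : Finite X := Set.finite_univ_iff.1 hU
    haveI : T1Space X := ⟨fun w => by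
      have : closedPoints X = Set.univ := by
        rw [← closure_closedPoints (X := X)]
        refine (IsClosed.closure_eq ?_).symm
        rw [← Set.biUnion_of_singleton (closedPoints X)]
        exact (Set.toFinite _).isClosed_biUnion fun i hi => hi
      exact (this.symm ▸ Set.mem_univ w : w ∈ closedPoints X)⟩
    haveI : Subsingleton X := ⟨fun a b => by
      by_contra hne
      obtain ⟨c, hca, hcb⟩ := nonempty_preirreducible_inter (isOpen_discrete ({a} : Set X))
        (isOpen_discrete ({b} : Set X)) ⟨a, rfl⟩ ⟨b, rfl⟩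
      exact hne (hca.symm.trans hcb)⟩
    haveI : Subsingleton (IrreducibleCloseds X) := ⟨fun A B => by
      refine SetLike.coe_injective ?_
      rw [A.isIrreducible.nonempty.eq_univ, B.isIrreducible.nonempty.eq_univ]⟩
    have h2 : topologicalKrullDim X ≤ 0 := Order.krullDim_nonpos_of_subsingleton
    rw [hdim] at h2
    exact absurd h2 (by decide)
  have hsur : Function.Surjective φ := by
    rw [← Set.range_eq_univ]
    refine Set.eq_univ_of_univ_subset ?_
    rw [← (U.isOpen.dense hUne).closure_eq]
    exact closure_minimal (fun b hb => exists_preimage φ U hb) φ.isClosedMap.isClosed_range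
  have hgen : φ (genericPoint Y) = genericPoint X := by
    refine IsGenericPoint.eq ?_ (genericPoint_spec X)
    refine Set.eq_univ_of_univ_subset ?_
    intro b _
    obtain ⟨a, rfl⟩ := hsur b
    exact specializes_iff_mem_closure.1 ((genericPoint_specializes a).map φ.continuous)
  have hgU : φ (genericPoint Y) ∈ U := hgen ▸ ((genericPoint_spec X).mem_open_set_iff U.isOpen).2 (by simpa using hUne)
  obtain ⟨V, hV, hiso, -⟩ := Groth.Agent.BiratPt18.exists_open_of_normal φ (fun w => (hnorm w).2) hgen
    (isIso_stalkMap φ U _ hgU)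
  have hreg : ∀ W : X.Opens, IsIso (φ ∣_ W) → x ∉ W := by
    intro W hW hxW
    obtain ⟨y, rfl⟩ := hsur x
    haveI := isIso_stalkMap φ W y hxW
    haveI := hregY y
    exact hx (IsRegularLocalRing.of_ringEquiv (asIso (φ.stalkMap y)).commRingCatIsoToRingEquiv.symm)
  refine ⟨hsur x, fun Z hZ => ?_⟩
  haveI : NoetherianSpace ↥(φ.base ⁻¹' ({x} : Set X)) := NoetherianSpace.set _
  have hZirr : IsIrreducible Z := hZ.1
  haveI : PreirreducibleSpace Z := Subtype.preirreducibleSpace hZirr.2
  refine le_antisymm ?_ ?_
  · have hmem : ∀ z : Z, (fun z : Z => z.1.1) z ∈ (φ ⁻¹' (U : Set X)ᶜ : Set Y) := fun z hh => hreg U hisoY (by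
      have e : φ z.1.1 = x := z.1.2
      exact e ▸ hh)
    have hi : Topology.IsInducing (fun z : Z => z.1.1) :=
      Topology.IsInducing.subtypeVal.comp Topology.IsInducing.subtypeVal
    have h1 : topologicalKrullDim Z ≤ topologicalKrullDim ↥((φ ⁻¹' (U : Set X)ᶜ) : Set Y) :=
      Topology.IsInducing.topologicalKrullDim_le (hi.codRestrict hmem)
    have h2 : topologicalKrullDim ↥((φ ⁻¹' (U : Set X)ᶜ) : Set Y) < topologicalKrullDim Y :=
      TopDimLib.dim_lt_of_closed_ssubset (by rw [hdimY]; exact fun e => ENat.coe_ne_top 2 (WithBot.coe_injective e)) _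
        (U.isOpen.isClosed_compl.preimage φ.continuous) fun e => (e.symm ▸ Set.mem_univ (genericPoint Y) :
          genericPoint Y ∈ φ ⁻¹' (U : Set X)ᶜ) hgU
    have h3 := lt_of_le_of_lt h1 h2
    rw [hdimY] at h3
    revert h3
    rcases topologicalKrullDim Z with _ | (_ | n)
    · intro _; exact bot_le
    · intro h; exact absurd (WithBot.coe_lt_coe.1 h) not_top_lt
    · intro h
      have h' : ((n : ℕ∞)) < ((2 : ℕ) : ℕ∞) := WithBot.coe_lt_coe.1 h
      have : n < 2 := ENat.coe_lt_coe.1 h'
      exact WithBot.coe_le_coe.2 ((ENat.coe_le_coe.2 (show n ≤ 1 by omega)).trans_eq Nat.cast_one)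
  · obtain ⟨a, ha⟩ := hZirr.nonempty
    by_cases hb : ∃ b ∈ Z, b ≠ a
    · obtain ⟨b, hb, hne⟩ := hb
      exact dim_pos (a := (⟨b, hb⟩ : Z)) (b := ⟨a, ha⟩) fun e => hne (congrArg Subtype.val e)
    · push Not at hb
      have hZa : Z = {a} := Set.eq_singleton_iff_unique_mem.2 ⟨ha, hb⟩
      have ho := isOpen_of_component (hZa ▸ hZ)
      exact absurd (((φ.fiberHomeo x).isOpen_preimage).2 ho)
        (by
          have := hiso x (hreg V hV) ((φ.fiberHomeo x).symm a)
          rwa [← Homeomorph.image_symm, Set.image_singleton])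

end Groth.Agent.S14698
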