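import Groth.Statements.S1470
import Groth.Agent.Lib.Dev4.RelAssClosureDim

set_option autoImplicit false
universe u
open FlatMor
set_option maxSynthPendingDepth 3
open TensorProduct

set_option backward.isDefEq.respectTransparency.types false

namespace Groth.Agent.S1470



open AlgebraicGeometry CategoryTheory Limits Groth.Agent.FibDim14

open AlgebraicGeometry CategoryTheory Limits in
/-- Let f : X → S be locally of finite type, F a quasi-coherent O_X-module of finite type, and y a point
of the relative assassin of F with image t; let Y be the closure of y. For a point s of S and a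
point x of the fibre of Y over s which is generic in an irreducible component of that fibre, if F is
flat over S at x then x belongs to the relative assassin of F and the local dimension of the fibre
of Y over s at x equals the dimension of the fibre of Y over t (fibres taken as subspaces of X). -/
theorem result {X S : Scheme.{u}} (f : X ⟶ S) [LocallyOfFiniteType f]
    (F : X.Modules) (hF : Coh.IsCoh F) (y : X) (hy : y ∈ MoreMor.relAss f F) (s : S) (x : X) (hx : x ∈ closure ({y} : Set ↑X)) (hxs : f x = s)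
    (hgen : ∃ C ∈ irreducibleComponents ↑(closure ({y} : Set ↑X) ∩ f ⁻¹' {s}), IsGenericPoint (⟨x, hx, hxs⟩ : ↑(closure ({y} : Set ↑X) ∩ f ⁻¹' {s})) C)
    (hfl : FlatMod.IsFlatOverAt f F x) :
    x ∈ MoreMor.relAss f F ∧
      FlatMor.localDim ↑(closure ({y} : Set ↑X) ∩ f ⁻¹' {s}) ⟨x, hx, hxs⟩ = topologicalKrullDim ↑(closure ({y} : Set ↑X) ∩ f ⁻¹' {f y}) := by
  haveI := hF.1
  subst hxs
  obtain ⟨hass, hrd⟩ := Dev4.relAss_generic_point f F hF.2 hy (specializes_iff_mem_closure.2 hx) hgen hfl
  refine ⟨hass, ?_⟩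
  let Φ := Dev4.closureι y ≫ f
  obtain ⟨a, ha⟩ : x ∈ Set.range (Dev4.closureι y) := by rw [Dev4.range_closureι]; exact hx
  obtain ⟨b, hb⟩ : y ∈ Set.range (Dev4.closureι y) := by rw [Dev4.range_closureι]; exact subset_closure rfl
  have hΦa : Φ a = f x := by rw [Scheme.Hom.comp_apply, ha]
  have hΦb : Φ b = f y := by rw [Scheme.Hom.comp_apply, hb]
  have hmax : IsMaxFib Φ a := fun c hc he => by
    apply (Dev4.closureι y).isEmbedding.injective
    have hc1 : Dev4.closureι y c ∈ closure ({y} : Set X) := by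
      rw [← Dev4.range_closureι y]; exact ⟨c, rfl⟩
    have hc2 : f (Dev4.closureι y c) = f x := by rw [← Scheme.Hom.comp_apply, ← hΦa]; exact he
    have := Dev4.eq_of_specializes_generic hgen (z := ⟨_, hc1, hc2⟩)
      ((subtype_specializes_iff _ _).2 ((hc.map (Dev4.closureι y).continuous).trans (specializes_of_eq ha)))
    rw [ha]
    exact congrArg Subtype.val this
  have h1 : FlatMor.localDim ↑(closure ({y} : Set X) ∩ f ⁻¹' {f x}) ⟨x, hx, rfl⟩ = (rd f y : WithBot ℕ∞) := by
    obtain ⟨h, hh⟩ := Dev4.exists_fibre_homeo f y (Φ a)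
    have e1 : FlatMor.fibreDimAt Φ a = FlatMor.localDim ↑(closure ({y} : Set X) ∩ f ⁻¹' {Φ a}) (h (Φ.asFiber a)) :=
      localDim_of_isOpenEmbedding h.isOpenEmbedding _
    rw [FibGen4.fibreDimAt_eq_rd_of_isMaxFib Φ hmax, Dev4.rd_closureι, ha, hrd] at e1
    have key : ∀ (s : S) (p : ↑(closure ({y} : Set X) ∩ f ⁻¹' {s})), s = f x → p.1 = x →
        FlatMor.localDim ↑(closure ({y} : Set X) ∩ f ⁻¹' {s}) p = FlatMor.localDim ↑(closure ({y} : Set X) ∩ f ⁻¹' {f x}) ⟨x, hx, rfl⟩ := by
      rintro s p rfl hp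
      congr 1
      exact Subtype.ext hp
    rw [e1]
    exact (key (Φ a) _ hΦa (by rw [hh, Scheme.Hom.fiberι_asFiber, ha])).symm
  have h2 : topologicalKrullDim ↑(closure ({y} : Set X) ∩ f ⁻¹' {f y}) = (rd f y : WithBot ℕ∞) := by
    obtain ⟨h, hh⟩ := Dev4.exists_fibre_homeo f y (Φ b)
    have hval : ∀ z : ↥(Φ.fiber (Φ b)), Φ.asFiber b ⤳ z := fun z => by
      rw [← (Φ.fiberι (Φ b)).isEmbedding.isInducing.specializes_iff, Scheme.Hom.fiberι_asFiber,
        ← (Dev4.closureι y).isEmbedding.isInducing.specializes_iff, hb]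
      exact specializes_iff_mem_closure.2 ((h z).2.1 |> (hh z ▸ ·))
    have e2 := VarDim.dim_closure_singleton (toPt Φ (Φ b)) (Φ.asFiber b)
    rw [show closure {Φ.asFiber b} = Set.univ from Set.eq_univ_of_forall fun z => (hval z).mem_closure,
      IsHomeomorph.topologicalKrullDim_eq _ (Homeomorph.Set.univ _).isHomeomorph, ← rd_fiberι, Scheme.Hom.fiberι_asFiber,
      Dev4.rd_closureι, hb, IsHomeomorph.topologicalKrullDim_eq _ h.isHomeomorph] at e2
    rwa [← hΦb]
  rw [h1, h2]

end Groth.Agent.S1470
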