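import Groth.Statements.S14700
import Groth.Agent.Lib.NumConn10.Rational
import Groth.Agent.Lib.ExcTwist10.Basic
import Groth.Agent.Lib.CurveH1Min27.Pointed0

set_option autoImplicit false
universe u
open CategoryTheory CategoryTheory.Limits AlgebraicGeometry
open Surf

namespace Groth.Agent.S14700


open CategoryTheory CategoryTheory.Limits AlgebraicGeometry TopologicalSpace Groth.Agent
open Groth.Agent.NumPoly18 (ptIdeal isIntegral_pt)
open Groth.Agent.SymSq10 (sdot)
open Groth.Agent.NumConn10 (icl icl_mul icl_congr cartier_pt)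
open Groth.Agent.HypSq10 (chi)

noncomputable local instance instLawS14700 (Y : Scheme.{u}) : PicGrp.Law Y := M2.law Y

set_option backward.isDefEq.respectTransparency false
set_option backward.isDefEq.respectTransparency.types false

section Aux

variable {k : Type u} [Field k] [IsAlgClosed k] {X : Scheme.{u}} [X.Over (Spec (CommRingCat.of k))]
  [IsProper (X ↘ Spec (CommRingCat.of k))] [Smooth (X ↘ Spec (CommRingCat.of k))] [IsIntegral X]
  (hdim : topologicalKrullDim X = 2)
include k hdim

omit k hdim in
/-- A Cartier prime divisor times the ideal of curves not in it is their intersection. -/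
theorem mul_vanishing {a : X} {T : Closeds X} (hP : BlowUp.IsEffCartierIdeal (ptIdeal a))
    (hT : ∀ x ∈ (T : Set X), ∃ η ∈ (T : Set X), η ⤳ x ∧ ¬ a ⤳ η) :
    ptIdeal a * Scheme.IdealSheafData.vanishingIdeal T =
      Scheme.IdealSheafData.vanishingIdeal (⟨closure {a}, isClosed_closure⟩ ⊔ T) := by
  choose U hxU f hf hspan using hP
  refine Scheme.IdealSheafData.ext_of_iSup_eq_top U
    (top_le_iff.1 fun x _ => Opens.mem_iSup.2 ⟨x, hxU x⟩) fun x => ?_
  rw [Scheme.IdealSheafData.ideal_mul, Pi.mul_apply, hspan]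
  show Ideal.span {f x} * PrimeSpectrum.vanishingIdeal ((U x).2.fromSpec ⁻¹' (T : Set X)) =
    PrimeSpectrum.vanishingIdeal ((U x).2.fromSpec ⁻¹' (closure ({a} : Set X) ∪ (T : Set X)))
  have hPe : Ideal.span {f x} = PrimeSpectrum.vanishingIdeal ((U x).2.fromSpec ⁻¹' closure ({a} : Set X)) :=
    (hspan x).symm
  rw [Set.preimage_union, PrimeSpectrum.vanishingIdeal_union, ← hPe]
  refine le_antisymm Ideal.mul_le_inf fun y hy => ?_
  obtain ⟨z, rfl⟩ := Ideal.mem_span_singleton.1 hy.1
  refine Ideal.mul_mem_mul (Ideal.mem_span_singleton_self _) ((PrimeSpectrum.mem_vanishingIdeal _ _).2 fun q hq => ?_)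
  obtain ⟨η, hηT, hηq, hna⟩ := hT _ hq
  obtain ⟨p, rfl⟩ : η ∈ Set.range (U x).2.fromSpec := by
    rw [(U x).2.range_fromSpec]
    exact hηq.mem_open (U x).1.2 (by
      have := Set.mem_range_self (f := (U x).2.fromSpec) q
      rwa [(U x).2.range_fromSpec] at this)
  have hpq : p.asIdeal ≤ q.asIdeal :=
    (PrimeSpectrum.le_iff_specializes p q).2 ((U x).2.fromSpec.isOpenEmbedding.isInducing.specializes_iff.1 hηq)
  have hfp : f x ∉ p.asIdeal := fun hfp => hna (by
    rw [specializes_iff_mem_closure]
    have hcl : IsClosed ((U x).2.fromSpec ⁻¹' closure ({a} : Set X)) :=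
      isClosed_closure.preimage (U x).2.fromSpec.continuous
    have hm : p ∈ PrimeSpectrum.zeroLocus (Ideal.span {f x} : Set Γ(X, (U x).1)) :=
      (PrimeSpectrum.mem_zeroLocus _ _).2 (Ideal.span_le.2 (by simpa using hfp))
    rw [hPe, PrimeSpectrum.zeroLocus_vanishingIdeal_eq_closure, hcl.closure_eq] at hm
    exact hm)
  exact hpq ((p.2.mem_or_mem ((PrimeSpectrum.mem_vanishingIdeal _ _).1 hy.2 p hηT)).resolve_left hfp)

theorem euler_mul {I J : X.IdealSheafData} (hI : BlowUp.IsEffCartierIdeal I) (hJ : BlowUp.IsEffCartierIdeal J)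
    (h : BlowUp.IsEffCartierIdeal (I * J)) :
    Curv2.euler k X (ClSub.quotMod (I * J)) =
      Curv2.euler k X (ClSub.quotMod I) + Curv2.euler k X (ClSub.quotMod J) - sdot k (icl hI) (icl hJ) := by
  rw [SurfRR10.euler_quot (k := k) hdim h, SurfRR10.euler_quot (k := k) hdim hI, SurfRR10.euler_quot (k := k) hdim hJ]
  have he := icl_mul hI hJ h
  unfold NumConn10.icl at he ⊢
  rw [he, SymSq10.chi_mul']
  ring

variable {n : ℕ} {η : Fin n → X} (hη : ∀ i, topologicalKrullDim (closure ({η i} : Set X)) = 1)
  (hinj : Function.Injective η)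

include hη hinj in
/-- The union of finitely many curves as a divisor. -/
theorem prod_data (s : Finset (Fin n)) :
    ∃ h : BlowUp.IsEffCartierIdeal (∏ i ∈ s, ptIdeal (η i)),
      (∏ i ∈ s, ptIdeal (η i)) = Scheme.IdealSheafData.vanishingIdeal (s.sup fun i => (⟨closure {η i}, isClosed_closure⟩ : Closeds X)) ∧
      (∀ b, sdot k (icl h) b = ∑ i ∈ s, sdot k (icl (cartier_pt (k := k) hdim (hη i))) b) ∧
      Curv2.euler k X (ClSub.quotMod (∏ i ∈ s, ptIdeal (η i))) =
        (∑ i ∈ s, Curv2.euler k X (ClSub.quotMod (ptIdeal (η i)))) -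
          ∑ i ∈ s, ∑ j ∈ s, if i < j then sdot k (icl (cartier_pt (k := k) hdim (hη i))) (icl (cartier_pt (k := k) hdim (hη j))) else 0 := by
  classical
  induction s using Finset.induction_on_max with
  | empty =>
    have h1 : BlowUp.IsEffCartierIdeal (⊤ : X.IdealSheafData) := fun x => by
      obtain ⟨U, hU, hxU, -⟩ := exists_isAffineOpen_mem_and_subset (X := X) (x := x) (U := ⊤) trivial
      exact ⟨⟨U, hU⟩, hxU, 1, one_mem _, by simp [Ideal.span_singleton_one]⟩
    simp only [Finset.prod_empty, Scheme.IdealSheafData.one_eq_top]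
    refine ⟨h1, ?_, fun b => ?_, ?_⟩
    · simp
    · rw [NumConn10.icl_top h1 rfl, SymSq10.sdot_one_left]; simp
    · rw [SurfRR10.euler_quot (k := k) hdim h1, show PicGrp.cls _ (M2.isInvertible_idealMod ⊤ h1) = icl h1 from rfl,
        NumConn10.icl_top h1 rfl]
      simp
  | insert a s hlt ih =>
    obtain ⟨h, hv, hb, he⟩ := ih
    have has : a ∉ s := fun h' => lt_irrefl a (hlt a h')
    have ha := cartier_pt (k := k) hdim (hη a)
    rw [Finset.prod_insert has]
    refine ⟨EffCartier.isEffCartierIdeal_mul ha h, ?_, fun b => ?_, ?_⟩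
    · rw [hv, Finset.sup_insert]
      refine mul_vanishing ha fun x hx => ?_
      have hcoe : ∀ t : Finset (Fin n), (((t.sup fun i => (⟨closure {η i}, isClosed_closure⟩ : Closeds X)) : Closeds X) : Set X) = ⋃ i ∈ t, closure {η i} := by
        intro t
        induction t using Finset.induction_on with
        | empty => simp
        | insert b t hb ih' => simp [Finset.sup_insert, Closeds.coe_sup, ih']
      rw [hcoe] at hx
      obtain ⟨i, hi, hxi⟩ := Set.mem_iUnion₂.1 hx
      refine ⟨η i, by rw [hcoe]; exact Set.mem_biUnion hi (subset_closure rfl), specializes_iff_mem_closure.2 hxi, fun hsp => ?_⟩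
      have hne : η a ≠ η i := fun e => has (hinj e ▸ hi)
      have h1 := VarDim.sdim_lt_of_specializes (X ↘ Spec (CommRingCat.of k)) hsp hne
      rw [NumPoly18.sdim_eq_one (k := k) (hη a), NumPoly18.sdim_eq_one (k := k) (hη i)] at h1
      exact lt_irrefl _ h1
    · rw [icl_mul ha h, SymSq10.sdot_mul (SurfRR10.dim_eq (k := k) hdim).le, hb, Finset.sum_insert has]
    · rw [euler_mul (k := k) hdim ha h (EffCartier.isEffCartierIdeal_mul ha h), he, SymSq10.sdot_comm, hb]
      have e1 : ∀ i ∈ s, (∑ j ∈ insert a s, if i < j then sdot k (icl (cartier_pt (k := k) hdim (hη i))) (icl (cartier_pt (k := k) hdim (hη j))) else 0) =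
          sdot k (icl (cartier_pt (k := k) hdim (hη i))) (icl ha) +
          ∑ j ∈ s, if i < j then sdot k (icl (cartier_pt (k := k) hdim (hη i))) (icl (cartier_pt (k := k) hdim (hη j))) else 0 := fun i hi => by
        rw [Finset.sum_insert has, if_pos (hlt i hi)]
      have e2 : (∑ j ∈ insert a s, if a < j then sdot k (icl (cartier_pt (k := k) hdim (hη a))) (icl (cartier_pt (k := k) hdim (hη j))) else 0) = 0 :=
        Finset.sum_eq_zero fun j hj => if_neg (by
          rcases Finset.mem_insert.1 hj with rfl | hj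
          · exact lt_irrefl _
          · exact (hlt j hj).not_gt)
      rw [Finset.sum_insert has, Finset.sum_insert has, e2, Finset.sum_congr rfl e1, Finset.sum_add_distrib]
      ring

theorem euler_le_one (I : X.IdealSheafData) (hI : BlowUp.IsEffCartierIdeal I) [AlgebraicGeometry.IsReduced I.subscheme]
    [ConnectedSpace I.subscheme] :
    Curv2.euler k X (ClSub.quotMod I) ≤ 1 ∧
      (Curv2.euler k X (ClSub.quotMod I) = 1 → Subsingleton (Coh.HH X (ClSub.quotMod I) 1)) := by
  haveI : IsNoetherian X := CohFound.isNoetherian_of_isProper (X ↘ Spec (CommRingCat.of k))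
  let ι := I.subschemeι
  letI : I.subscheme.Over (Spec (CommRingCat.of k)) := ⟨ι ≫ (X ↘ Spec (CommRingCat.of k))⟩
  haveI : IsProper (I.subscheme ↘ Spec (CommRingCat.of k)) :=
    inferInstanceAs (IsProper (ι ≫ (X ↘ Spec (CommRingCat.of k))))
  haveI : (Coh.structureModule I.subscheme).IsQuasicoherent := M1.isQCoh_structureModule _
  have hd1 : topologicalKrullDim (CohB1.support (ClSub.quotMod I)) ≤ ((1 : ℕ) : WithBot ℕ∞) := by
    rw [NumPoly18.support_quotMod]
    exact NumConn10.dim_support_divisor (k := k) hdim hI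
  have hdY : topologicalKrullDim I.subscheme ≤ 1 :=
    ((AmpleFin18.dim_subscheme _ rfl).trans_le (NumConn10.dim_support_divisor (k := k) hdim hI))
  have h0 : Module.finrank k (Coh.HH X (ClSub.quotMod I) 0) ≤ 1 :=
    (CurveCoh17.nonempty_hequiv_push k ι rfl (Coh.structureModule I.subscheme) 0).some.finrank_eq.trans_le
      (CurveH1Min27.h0_le_one hdY)
  haveI : Module.Finite k (Coh.HH X (ClSub.quotMod I) 1) :=
    CohFound.finite_HH_of_isProper _ (CurveCoh17.isCoh_quotMod I) 1
  have he : Curv2.euler k X (ClSub.quotMod I) = Module.finrank k (Coh.HH X (ClSub.quotMod I) 0) -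
      Module.finrank k (Coh.HH X (ClSub.quotMod I) 1) := by
    rw [Curv2.euler, finsum_eq_finsetSum_of_support_subset (s := Finset.range 2)]
    · rw [Finset.sum_range_succ, Finset.sum_range_one]
      ring
    · intro i hi
      simp only [Finset.coe_range, Set.mem_Iio]
      by_contra hlt
      haveI := NumPoly18.subsingleton_HH_of_support (k := k) (CurveCoh17.isCoh_quotMod I) hd1 (show 1 < i by omega)
      exact hi (by simp [Module.finrank_zero_of_subsingleton])
  refine ⟨by omega, fun h1 => Module.finrank_zero_iff.1 (by omega : Module.finrank k (Coh.HH X (ClSub.quotMod I) 1) = 0)⟩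



end Aux

/-- Let k be an algebraically closed field and X an integral scheme of dimension two with all local
rings regular, admitting a closed immersion into some P^n_k over k. Let C_1, …, C_n be pairwise
distinct integral one-dimensional closed subschemes of X with ideal sheaves I_1, …, I_n, and let Y
be the reduced closed subscheme with ideal I_1 ∩ ⋯ ∩ I_n (their union); assume Y is connected. Then
χ(O_Y) ≤ 1, i.e. the arithmetic genus 1 - χ(O_Y) of Y is nonnegative. If moreover χ(O_Y) = 1, then
χ(O_{C_i}) = 1 for every i (each C_i has arithmetic genus zero) and Σ_{i<j} (C_i · C_j) = n - 1, so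
that the incidence graph of the C_i, which is connected with Σ_{i<j} (C_i · C_j) edges, contains no
cycle; here (C_i · C_j) = χ(O_X) - χ(I_i) - χ(I_j) + χ(I_i ⊗ I_j) is the intersection number
(packaged as FGA.intNum). (The published statement allows any integral projective surface regular in
codimension one; this row takes X with all local rings regular, where the intersection numbers used
by the proof are defined.) -/
theorem result (k : Type u) [Field k] [IsAlgClosed k] (X : Scheme.{u}) [X.Over (Spec (CommRingCat.of k))]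
    [IsIntegral X] (hdim : topologicalKrullDim X = 2)
    (hproj : ∃ (n : ℕ) (ι : X ⟶ CohB1.ProjSpace n k), IsClosedImmersion ι ∧ ι ≫ CohB1.ProjSpace.toSpec n k = (X ↘ (Spec (CommRingCat.of k))))
    (hreg : ∀ x : X, IsRegularLocalRing (X.presheaf.stalk x))
    (n : ℕ) (C : Fin n → X.IdealSheafData) (hCint : ∀ i, IsIntegral (C i).subscheme)
    (hCdim : ∀ i, topologicalKrullDim ((C i).support : Set X) = 1)
    (hCinj : Function.Injective fun i => ((C i).support : Set X))
    (hconn : _root_.IsConnected ((⨅ i, C i).support : Set X)) :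
    Curv2.euler k X (ClSub.quotMod (⨅ i, C i)) ≤ 1 ∧
      (Curv2.euler k X (ClSub.quotMod (⨅ i, C i)) = 1 →
        (∀ i, Curv2.euler k X (ClSub.quotMod (C i)) = 1) ∧
          (∑ i : Fin n, ∑ j : Fin n,
              if i < j then FGA.intNum k X 2 ![ClSub.idealMod (C i), ClSub.idealMod (C j)] (Coh.structureModule X) else 0) =
            (n : ℤ) - 1) := by
  classical
  obtain ⟨N, ι, hι1, hι⟩ := hproj
  haveI := hι1
  haveI := NumPoly18.isProper_of_closedImmersion ι hι
  haveI : Smooth (X ↘ Spec (CommRingCat.of k)) :=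
    RegSmooth17.smooth_of_regular_of_perfectField (X ↘ Spec (CommRingCat.of k)) hreg
  have hd : topologicalKrullDim X ≤ ((2 : ℕ) : WithBot ℕ∞) := by rw [hdim]; rfl
  choose η hη hC using fun i => ExcTwist10.exists_eq_ptIdeal (C i) (hCint i) (hCdim i)
  obtain rfl : C = fun i => ptIdeal (η i) := funext hC
  have hinj : Function.Injective η := fun i j e => hCinj (by simp [e])
  obtain ⟨hP, hv, -, he⟩ := prod_data (k := k) hdim hη hinj Finset.univ
  have hinf : (⨅ i, ptIdeal (η i)) = ∏ i, ptIdeal (η i) := by
    rw [hv]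
    refine le_antisymm ?_ (le_iInf fun i => ?_)
    · refine Scheme.IdealSheafData.le_support_iff_le_vanishingIdeal.1 (Finset.sup_le fun i _ => ?_)
      refine le_trans ?_ (Scheme.IdealSheafData.support_antitone (iInf_le _ i))
      exact (show (⟨closure {η i}, isClosed_closure⟩ : Closeds X) ≤ (ptIdeal (η i)).support from
        (Scheme.IdealSheafData.coe_support_vanishingIdeal _).ge)
    · exact Scheme.IdealSheafData.vanishingIdeal_antimono (Finset.le_sup (f := fun i => (⟨closure {η i}, isClosed_closure⟩ : Closeds X)) (Finset.mem_univ i))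
  simp only at hconn ⊢
  rw [hinf] at hconn ⊢
  haveI : AlgebraicGeometry.IsReduced (∏ i, ptIdeal (η i)).subscheme := by
    rw [hv]; exact RedSepLib.isReduced_vanishingIdeal_subscheme _
  haveI : ConnectedSpace (∏ i, ptIdeal (η i)).subscheme := by
    haveI := isConnected_iff_connectedSpace.1 hconn
    have h := (∏ i, ptIdeal (η i)).subschemeι.isClosedEmbedding.isEmbedding.toHomeomorph
    rw [Scheme.IdealSheafData.range_subschemeι] at h
    exact h.symm.surjective.connectedSpace h.symm.continuous
  obtain ⟨hle, heq⟩ := euler_le_one (k := k) hdim _ hP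
  refine ⟨hle, fun h1 => ?_⟩
  haveI := heq h1
  have hone : ∀ i, Curv2.euler k X (ClSub.quotMod (ptIdeal (η i))) = 1 := fun i => by
    obtain ⟨hQ, -, -, -⟩ := prod_data (k := k) hdim hη hinj (Finset.univ.erase i)
    have hci := cartier_pt (k := k) hdim (hη i)
    have h := NumConn10.surjective_h1 (k := k) hdim (ptIdeal (η i)) _ hci hQ
      (Finset.mul_prod_erase Finset.univ (fun i => ptIdeal (η i)) (Finset.mem_univ i)).symm (heq h1)
    haveI := (isIntegral_pt (η i)).1
    exact le_antisymm (euler_le_one (k := k) hdim _ hci).1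
      (NumConn10.one_le_euler_of_h1 (k := k) hdim hci (NumConn10.pt_ne_top (k := k) hdim) h).1
  refine ⟨hone, ?_⟩
  rw [h1, Finset.sum_congr rfl fun i _ => hone i, Finset.sum_const, Finset.card_univ, Fintype.card_fin,
    nsmul_eq_mul, mul_one] at he
  have hint : ∀ i j, FGA.intNum k X 2 ![ClSub.idealMod (ptIdeal (η i)), ClSub.idealMod (ptIdeal (η j))] (Coh.structureModule X) =
      sdot k (icl (cartier_pt (k := k) hdim (hη i))) (icl (cartier_pt (k := k) hdim (hη j))) := fun i j =>
    SymSq10.intNum_eq' hd (M2.isInvertible_idealMod _ (cartier_pt (k := k) hdim (hη i)))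
      (M2.isInvertible_idealMod _ (cartier_pt (k := k) hdim (hη j)))
  simp only [hint]
  push_cast at he ⊢
  linarith

end Groth.Agent.S14700
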