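import Groth.Statements.S14701
import Groth.Agent.S14700
import Groth.Agent.S14698
import Groth.Agent.S15544
import Groth.Agent.Lib.ExcH1_18.Main
import Groth.Agent.Lib.ExcTwist10.Basic
import Groth.Agent.Lib.GeomRed18.Smooth
import Groth.Agent.Lib.CurveCoh17.P1Apps

set_option autoImplicit false
universe u
open CategoryTheory CategoryTheory.Limits AlgebraicGeometry
open Resolve

namespace Groth.Agent.S14701


open CategoryTheory CategoryTheory.Limits AlgebraicGeometry TopologicalSpace Groth.Agent
open Groth.Agent.NumPoly18 (ptIdeal isIntegral_pt)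
open Groth.Agent.CohFound

noncomputable local instance instLawS14701 (Y : Scheme.{u}) : PicGrp.Law Y := M2.law Y

set_option backward.isDefEq.respectTransparency false

/-- An integral curve of genus zero over an algebraically closed field is the projective line. -/
theorem nonempty_iso_P1 {k : Type u} [Field k] [IsAlgClosed k] (C : Scheme.{u}) [C.Over (Spec (CommRingCat.of k))]
    [IsProper (C ↘ Spec (CommRingCat.of k))] [IsIntegral C] (hdim : topologicalKrullDim C = 1)
    (hH : Subsingleton (Coh.HH C (Coh.structureModule C) 1)) : Nonempty (C ≅ CohB1.ProjSpace 1 k) := by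
  haveI := hH
  have hg : Curv2.genus k C = 0 := Module.finrank_zero_of_subsingleton
  haveI : GeometricallyReduced (C ↘ Spec (CommRingCat.of k)) := by
    haveI : IsIso (CommRingCat.ofHom (algebraMap k k)) :=
      (ConcreteCategory.isIso_iff_bijective _).2 Function.bijective_id
    haveI : IsIso (Curv2.bcFst k C k) := inferInstanceAs (IsIso (pullback.fst _ _))
    haveI : AlgebraicGeometry.IsReduced (Curv2.bc k C k) := isReduced_of_isOpenImmersion (Curv2.bcFst k C k)
    exact GeomRed.geometricallyReduced_of_perfect k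
  obtain ⟨x, hx, hpid, hres⟩ := CurveCoh17.exists_rational_regular_point (k := k) hdim
  obtain ⟨e, -⟩ := CurveCoh17.exists_iso_P1_of_point hdim hg hx hpid hres
  exact ⟨e⟩



/-- Let k be an algebraically closed field and X an integral normal scheme of dimension two admitting a
closed immersion into some P^n_k over k. Let φ : Y → X be a k-morphism from an integral scheme Y of
dimension two with all local rings regular, itself admitting a closed immersion into some P^m_k over
k, which restricts to an isomorphism over an open subset U of X with finite complement, and assume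
R^1 φ_* O_Y = 0 (first right derived functor of the direct image on abelian sheaves), so that the
singular points of X are rational singularities. Let x be a point of X whose local ring is not
regular and E_1, …, E_n pairwise distinct integral one-dimensional closed subschemes of Y mapped by
φ to x such that every integral one-dimensional closed subscheme of Y mapped to x has the support of
one of them. Then every E_i is isomorphic to the projective line P^1_k, and Σ_{i<j} (E_i · E_j) = n
- 1, so that the incidence graph of the E_i (connected, as the fibre is connected) is a tree; here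
(E_i · E_j) = χ(O_Y) - χ(I_i) - χ(I_j) + χ(I_i ⊗ I_j), I_i the ideal sheaves (packaged as
FGA.intNum). (The published statement is for a resolved model, whose exceptional curves are
nonsingular with normal crossings, and takes rationality in any of five forms it quotes as
equivalent; this row assumes the vanishing of R^1 φ_* O_Y, the first of them, and the passage from
it to the nonpositivity of arithmetic genera of exceptional cycles used in the proof is taken from
the literature.) -/
theorem result (k : Type u) [Field k] [IsAlgClosed k] (X : Scheme.{u}) [X.Over (Spec (CommRingCat.of k))]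
    [IsIntegral X] (hdim : topologicalKrullDim X = 2)
    (hproj : ∃ (n : ℕ) (ι : X ⟶ CohB1.ProjSpace n k), IsClosedImmersion ι ∧ ι ≫ CohB1.ProjSpace.toSpec n k = (X ↘ (Spec (CommRingCat.of k))))
    (hnorm : Pi1.IsNormalScheme X) (U : X.Opens) (hU : ((U : Set X)ᶜ).Finite)
    (Y : Scheme.{u}) (φ : Y ⟶ X) [IsIntegral Y] (hdimY : topologicalKrullDim Y = 2)
    (hregY : ∀ y : Y, IsRegularLocalRing (Y.presheaf.stalk y))
    (hprojY : ∃ (n : ℕ) (ι : Y ⟶ CohB1.ProjSpace n k), IsClosedImmersion ι ∧ ι ≫ CohB1.ProjSpace.toSpec n k = φ ≫ (X ↘ (Spec (CommRingCat.of k))))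
    (hisoY : IsIso (φ ∣_ U))
    (hrat : IsZero ((Coh.RpushAb φ 1).obj (Coh.toAb (Coh.structureModule Y))))
    (x : X) (hx : ¬ IsRegularLocalRing (X.presheaf.stalk x))
    (n : ℕ) (E : Fin n → Y.IdealSheafData) (hEint : ∀ i, IsIntegral (E i).subscheme)
    (hEdim : ∀ i, topologicalKrullDim ((E i).support : Set Y) = 1)
    (hEpt : ∀ i, φ.base '' ((E i).support : Set Y) = {x})
    (hEinj : Function.Injective fun i => ((E i).support : Set Y))
    (hEall : ∀ F : Y.IdealSheafData, IsIntegral F.subscheme → topologicalKrullDim (F.support : Set Y) = 1 →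
      φ.base '' (F.support : Set Y) = {x} → ∃ i, (F.support : Set Y) = (E i).support) :
    letI : Y.Over (Spec (CommRingCat.of k)) := ⟨φ ≫ (X ↘ (Spec (CommRingCat.of k)))⟩
    (∀ i, Nonempty ((E i).subscheme ≅ CohB1.ProjSpace 1 k)) ∧
      (∑ i : Fin n, ∑ j : Fin n,
          if i < j then FGA.intNum k Y 2 ![ClSub.idealMod (E i), ClSub.idealMod (E j)] (Coh.structureModule Y) else 0) =
        (n : ℤ) - 1 := by
  classical
  letI : Y.Over (Spec (CommRingCat.of k)) := ⟨φ ≫ (X ↘ (Spec (CommRingCat.of k)))⟩
  let q := X ↘ Spec (CommRingCat.of k)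
  obtain ⟨N, ι, hι1, hι⟩ := hproj
  haveI := hι1
  haveI hqp : IsProper q := NumPoly18.isProper_of_closedImmersion ι hι
  obtain ⟨M, κ, hκ1, hκ⟩ := hprojY
  haveI := hκ1
  haveI hYp : IsProper (Y ↘ Spec (CommRingCat.of k)) := NumPoly18.isProper_of_closedImmersion κ hκ
  haveI : IsProper (φ ≫ q) := hYp
  haveI : IsProper φ := IsProper.of_comp φ q
  haveI : IsNoetherian X := CohFound.isNoetherian_of_isProper q
  haveI : IsNoetherian Y := CohFound.isNoetherian_of_isProper (φ ≫ q)
  haveI : IsIso (φ ∣_ U) := hisoY
  haveI : JacobsonSpace X := LocallyOfFiniteType.jacobsonSpace q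
  haveI : Smooth (Y ↘ Spec (CommRingCat.of k)) :=
    RegSmooth17.smooth_of_regular_of_perfectField (Y ↘ Spec (CommRingCat.of k)) hregY
  obtain ⟨hne, hcomp⟩ := S14698.result k X hdim ⟨N, ι, hι1, hι⟩ hnorm U hU Y φ hdimY hregY ⟨M, κ, hκ1, hκ⟩ hisoY x hx
  -- the fibre is closed
  have hxU : x ∉ U := fun hxU => by
    obtain ⟨y, rfl⟩ := hne
    haveI := S14698.isIso_stalkMap φ U y hxU
    haveI := hregY y
    exact hx (IsRegularLocalRing.of_ringEquiv (asIso (φ.stalkMap y)).commRingCatIsoToRingEquiv.symm)
  have hxc : IsClosed ({x} : Set X) := by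
    haveI : Finite ↥((U : Set X)ᶜ) := hU.to_subtype
    have hc := U.isOpen.isClosed_compl
    haveI : JacobsonSpace ↥((U : Set X)ᶜ) := JacobsonSpace.of_isClosedEmbedding hc.isClosedEmbedding_subtypeVal
    have h := hc.isClosedEmbedding_subtypeVal.isClosedMap {(⟨x, hxU⟩ : ↥((U : Set X)ᶜ))} (isClosed_discrete _)
    rwa [Set.image_singleton] at h
  have hFc : IsClosed (φ ⁻¹' {x}) := hxc.preimage φ.continuous
  -- the generic points
  have hgη : φ (genericPoint Y) = genericPoint X ∧ φ (genericPoint Y) ∈ U := by
    have hUne : (U : Set X).Nonempty := by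
      by_contra h
      rw [Set.not_nonempty_iff_eq_empty] at h
      rw [h, Set.compl_empty] at hU
      haveI : Finite X := Set.finite_univ_iff.1 hU
      haveI : Subsingleton X := ⟨fun a b => by
        by_contra hne'
        obtain ⟨c, hca, hcb⟩ := nonempty_preirreducible_inter (isOpen_discrete ({a} : Set X))
          (isOpen_discrete ({b} : Set X)) ⟨a, rfl⟩ ⟨b, rfl⟩
        exact hne' (hca.symm.trans hcb)⟩
      haveI : Subsingleton (IrreducibleCloseds X) := ⟨fun A B => by
        refine SetLike.coe_injective ?_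
        rw [A.isIrreducible.nonempty.eq_univ, B.isIrreducible.nonempty.eq_univ]⟩
      have h2 : topologicalKrullDim X ≤ 0 := Order.krullDim_nonpos_of_subsingleton
      rw [hdim] at h2
      exact absurd h2 (by decide)
    obtain ⟨b, hb⟩ := hUne
    obtain ⟨a, ha⟩ := S14698.exists_preimage φ U hb
    have hηU : φ (genericPoint Y) ∈ U := ((genericPoint_specializes a).map φ.continuous).mem_open U.isOpen (ha ▸ hb)
    refine ⟨((genericPoint_spec X).eq (Set.eq_univ_of_univ_subset ?_ : IsGenericPoint (φ (genericPoint Y)) Set.univ)).symm, hηU⟩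
    rw [← (U.isOpen.dense ⟨b, hb⟩).closure_eq]
    refine closure_minimal (fun c hc => ?_) isClosed_closure
    obtain ⟨d, rfl⟩ := S14698.exists_preimage φ U hc
    exact specializes_iff_mem_closure.1 ((genericPoint_specializes d).map φ.continuous)
  have hconnF : _root_.IsConnected (φ ⁻¹' {x}) := ⟨hne, by
    haveI := Groth.Agent.S15544.result (fun w => ⟨inferInstance, (hnorm w).2⟩) φ hgη.1
      (S14698.isIso_stalkMap φ U _ hgη.2) x
    rw [← φ.range_fiberι x]
    exact isPreconnected_range (φ.fiberι x).continuous⟩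
  -- dimensions of the fibres
  have hfd : ∀ v : X, topologicalKrullDim ↥(φ ⁻¹' {v} : Set Y) ≤ 1 := by
    intro v
    by_cases hv : v ∈ U
    · haveI : Subsingleton ↥(φ ⁻¹' {v}) := ⟨fun a b => Subtype.ext (PointBlowUp.eq_of_restrict φ U (a := a.1) (b := b.1)
        (show φ a.1 ∈ U by rw [show φ a.1 = v from a.2]; exact hv) ((show φ a.1 = v from a.2).trans (show φ b.1 = v from b.2).symm))⟩
      exact ExcH1_18.dim_le_zero_of_subsingleton.trans zero_le_one
    · refine (Snapper.dim_le_of_subset (show φ ⁻¹' {v} ⊆ φ ⁻¹' ((U : Set X)ᶜ) from fun a ha => by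
        show φ a ∈ (U : Set X)ᶜ
        rw [show φ a = v from ha]; exact hv) ?_)
      refine (ArithLW25.dim_closed_lt (U.isOpen.isClosed_compl.preimage φ.continuous) (fun h => ?_) (s := 1) ?_).trans (by simp)
      · exact (h.symm ▸ Set.mem_univ (genericPoint Y) : genericPoint Y ∈ φ ⁻¹' (U : Set X)ᶜ) hgη.2
      · rw [hdimY]; norm_num
  -- the exceptional curves fill the fibre
  choose η hη hC using fun i => ExcTwist10.exists_eq_ptIdeal (E i) (hEint i) (hEdim i)
  obtain rfl : E = fun i => ptIdeal (η i) := funext hC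
  have hsupp : ∀ a : Y, ((ptIdeal a).support : Set Y) = closure {a} := fun a =>
    Scheme.IdealSheafData.coe_support_vanishingIdeal _
  have hsub : ∀ i, closure {η i} ⊆ φ ⁻¹' {x} := fun i a ha =>
    (hEpt i).subset ⟨a, (hsupp _).symm.subset ha, rfl⟩
  have hcover : ∀ z ∈ φ ⁻¹' {x}, ∃ i, η i ⤳ z := by
    intro z hz
    haveI : NoetherianSpace ↥(φ.base ⁻¹' ({x} : Set X)) := NoetherianSpace.set _
    have hemb : Topology.IsClosedEmbedding (Subtype.val : ↥(φ.base ⁻¹' ({x} : Set X)) → Y) :=
      hFc.isClosedEmbedding_subtypeVal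
    let Z := irreducibleComponent (⟨z, hz⟩ : ↥(φ.base ⁻¹' ({x} : Set X)))
    have hZd := hcomp Z (irreducibleComponent_mem_irreducibleComponents _)
    have hZi : IsIrreducible (Subtype.val '' Z) :=
      isIrreducible_irreducibleComponent.image _ continuous_subtype_val.continuousOn
    have hZc : IsClosed (Subtype.val '' Z) := hemb.isClosedMap _ isClosed_irreducibleComponent
    obtain ⟨a, ha⟩ := QuasiSober.sober hZi hZc
    have haE : closure ({a} : Set Y) = Subtype.val '' Z := ha
    have hd1 : topologicalKrullDim ((ptIdeal a).support : Set Y) = 1 := by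
      rw [hsupp, haE, ← hZd]
      exact (IsHomeomorph.topologicalKrullDim_eq _ (hemb.isEmbedding.homeomorphImage Z).isHomeomorph).symm
    obtain ⟨i, hi⟩ := hEall (ptIdeal a) (isIntegral_pt a).1 hd1 (by
      rw [hsupp, haE]
      refine Set.Subset.antisymm (by rintro _ ⟨_, ⟨w, -, rfl⟩, rfl⟩; exact w.2) ?_
      rintro _ rfl
      exact ⟨z, ⟨⟨z, hz⟩, mem_irreducibleComponent, rfl⟩, hz⟩)
    refine ⟨i, specializes_iff_mem_closure.2 ?_⟩
    rw [← hsupp, ← hi, hsupp, haE]
    exact ⟨⟨z, hz⟩, mem_irreducibleComponent, rfl⟩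
  have hsuppInf : ((⨅ i, ptIdeal (η i)).support : Set Y) = φ ⁻¹' {x} := by
    refine Set.Subset.antisymm ?_ fun z hz => ?_
    · have hle : Scheme.IdealSheafData.vanishingIdeal (⟨φ ⁻¹' {x}, hFc⟩ : Closeds Y) ≤ ⨅ i, ptIdeal (η i) :=
        le_iInf fun i => Scheme.IdealSheafData.vanishingIdeal_antimono
          (show (⟨closure {η i}, isClosed_closure⟩ : Closeds Y) ≤ ⟨φ ⁻¹' {x}, hFc⟩ from hsub i)
      intro z hz
      exact (Scheme.IdealSheafData.coe_support_vanishingIdeal _).subset (Scheme.IdealSheafData.support_antitone hle hz)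
    · obtain ⟨i, hi⟩ := hcover z hz
      exact Scheme.IdealSheafData.support_antitone (iInf_le _ i) ((hsupp (η i)).symm.subset (specializes_iff_mem_closure.1 hi))
  -- no first cohomology on closed subschemes of the fibre
  have h1 : ∀ W : Y.IdealSheafData, (W.support : Set Y) ⊆ φ ⁻¹' {x} → Subsingleton (Coh.HH Y (ClSub.quotMod W) 1) := by
    intro W hW
    rw [ExcH1_18.subsingleton_HH_quotMod_iff]
    obtain ⟨V, hV, hPV, -⟩ := exists_isAffineOpen_mem_and_subset (X := X) (x := x) (U := ⊤) trivial
    obtain ⟨e⟩ := nonempty_sections_rpushAb φ (M1.isQCoh_structureModule Y) 1 hV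
    have hz : IsZero ((((CohTop.Rpush (φ.base : CohFound.sp Y ⟶ CohFound.sp X) 1).obj
        ((CohFound.abF Y).obj (Coh.structureModule Y))).obj).obj (Opposite.op V)) :=
      ((sheafToPresheaf _ _) ⋙ (evaluation _ _).obj (Opposite.op V)).map_isZero hrat
    haveI := AddCommGrpCat.subsingleton_of_isZero hz
    have h := ExcH1_18.subsingleton_closed φ hV (fun v _ => hfd v) W.subschemeι e.symm.injective.subsingleton
    have htop : W.subschemeι ⁻¹ᵁ φ ⁻¹ᵁ V = ⊤ := top_le_iff.1 fun z _ => by
      show φ (W.subschemeι z) ∈ V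
      rw [show φ (W.subschemeι z) = x from hW (W.range_subschemeι.le ⟨z, rfl⟩)]
      exact hPV
    rwa [htop] at h
  refine ⟨fun i => ?_, ?_⟩
  · let C := (ptIdeal (η i)).subscheme
    let j := (ptIdeal (η i)).subschemeι
    letI : C.Over (Spec (CommRingCat.of k)) := ⟨j ≫ (Y ↘ Spec (CommRingCat.of k))⟩
    haveI : IsProper (C ↘ Spec (CommRingCat.of k)) :=
      inferInstanceAs (IsProper (j ≫ (Y ↘ Spec (CommRingCat.of k))))
    haveI : IsIntegral C := (isIntegral_pt (η i)).1
    haveI : (Coh.structureModule C).IsQuasicoherent := M1.isQCoh_structureModule _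
    haveI := h1 (ptIdeal (η i)) ((hsupp _).subset.trans (hsub i))
    exact nonempty_iso_P1 C ((AmpleFin18.dim_subscheme _ rfl).trans (hEdim i))
      ((CurveCoh17.nonempty_hequiv_push k j rfl (Coh.structureModule C) 1).some.symm.toEquiv.subsingleton)
  · have hinj : Function.Injective η := fun a b e => hEinj (by simp [e])
    obtain ⟨hP, hv, -, -⟩ := S14700.prod_data (k := k) hdimY hη hinj Finset.univ
    have hinf : (⨅ i, ptIdeal (η i)) = ∏ i, ptIdeal (η i) := by
      rw [hv]
      refine le_antisymm ?_ (le_iInf fun i => ?_)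
      · refine Scheme.IdealSheafData.le_support_iff_le_vanishingIdeal.1 (Finset.sup_le fun i _ => ?_)
        refine le_trans ?_ (Scheme.IdealSheafData.support_antitone (iInf_le _ i))
        exact (show (⟨closure {η i}, isClosed_closure⟩ : Closeds Y) ≤ (ptIdeal (η i)).support from
          (Scheme.IdealSheafData.coe_support_vanishingIdeal _).ge)
      · exact Scheme.IdealSheafData.vanishingIdeal_antimono (Finset.le_sup (f := fun i => (⟨closure {η i}, isClosed_closure⟩ : Closeds Y)) (Finset.mem_univ i))
    obtain ⟨hle, heq⟩ := S14700.result k Y hdimY ⟨M, κ, hκ1, hκ⟩ hregY n (fun i => ptIdeal (η i)) hEint hEdim hEinj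
      (by rw [hsuppInf]; exact hconnF)
    refine (heq ?_).2
    have hne' : (⨅ i, ptIdeal (η i)) ≠ ⊤ := fun e => by
      have := hsuppInf
      rw [e] at this
      obtain ⟨z, hz⟩ := hne
      exact absurd (this.symm.subset hz) (by simp)
    refine le_antisymm hle ?_
    simp only [hinf] at hne' ⊢
    exact (NumConn10.one_le_euler_of_h1 (k := k) hdimY hP hne' (by rw [← hinf]; exact h1 _ hsuppInf.subset)).1

end Groth.Agent.S14701
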