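import Groth.Statements.S14702
import Groth.Agent.S14432
import Groth.Agent.S11318
import Groth.Agent.Lib.LciSurf12.Basic
import Groth.Agent.Lib.RegSmooth17.Scheme
import Groth.Agent.Lib.SmDim19.RelDimVariety
import Groth.Agent.Lib.ProjDeg17.Projection
import Groth.Agent.Lib.VB17.Proper
import Groth.Agent.S11924
-- import your own Groth.Agent.* helpers here

set_option autoImplicit false
set_option backward.isDefEq.respectTransparency false
universe u
open CategoryTheory CategoryTheory.Limits AlgebraicGeometry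
open ProjDual

namespace Groth.Agent.S14702

/-- Let k be an algebraically closed field and X an integral closed subscheme of P^N_k of dimension two
which is a local complete intersection (every local ring is a complete intersection) with only
finitely many non-regular points; let U ⊆ X be the open subset of regular points. Let (ω, t) be a
dualizing sheaf for X: ω coherent, t a k-linear form on H^2(X, ω), and for every coherent F and
every k-linear form ψ on H^2(X, F) there is exactly one φ : F → ω with ψ = t ∘ H^2(φ). Then the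
restriction of ω to U is isomorphic to ω_U, a second exterior power of the sheaf of differentials
Ω_{U/k} (existence of an isomorphism of O_U-modules; the published statement also asserts an unnamed
isomorphism). -/
theorem result (k : Type u) [Field k] [IsAlgClosed k] (N : ℕ)
    (X : Scheme.{u}) [X.Over (Spec (CommRingCat.of k))] [IsIntegral X] (hdim : topologicalKrullDim X = 2)
    (ι : X ⟶ CohB1.ProjSpace N k) [IsClosedImmersion ι] (hι : ι ≫ CohB1.ProjSpace.toSpec N k = X ↘ (Spec (CommRingCat.of k)))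
    (hlci : ∀ x : X, Pi1.IsCompleteIntersection (X.presheaf.stalk x))
    (U : X.Opens) (hUreg : ∀ x : X, x ∈ U ↔ IsRegularLocalRing (X.presheaf.stalk x)) (hU : ((U : Set X)ᶜ).Finite)
    (ω : X.Modules) (hωcoh : Coh.IsCoh ω) (t : Coh.HH X ω 2 →ₗ[k] k)
    (hdual : ∀ F : X.Modules, Coh.IsCoh F → ∀ ψ : Coh.HH X F 2 →ₗ[k] k,
        ∃! φ : F ⟶ ω, ∀ x : Coh.HH X F 2,
          ψ x = t (Sheaf.H.map ((SheafOfModules.toSheaf X.ringCatSheaf).map φ) 2 x))
    (W : (U : Scheme.{u}).Modules) (hW : ExtPow.IsExtPow 2 (Omega.sheaf (U.ι ≫ (X ↘ (Spec (CommRingCat.of k))))) W) :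
    Nonempty ((Scheme.Modules.restrictFunctor U.ι).obj ω ≅ W) := by
  let f := X ↘ Spec (CommRingCat.of k)
  let P := CohB1.ProjSpace N k
  haveI : IsLocallyNoetherian P := Groth.Agent.CohFound.ProjNum.isLocallyNoetherian_projSpace N k
  haveI := Groth.Agent.CMReg18.isProper_projSpace k (n := N)
  haveI hP : IsProper f := by
    show IsProper (X ↘ Spec (CommRingCat.of k))
    rw [← hι]
    infer_instance
  haveI : IsLocallyNoetherian X := LocallyOfFiniteType.isLocallyNoetherian ι
  haveI : IsNoetherian X := Groth.Agent.VB17.isNoetherian_of_over (k := k)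
  have hN : 2 ≤ N := by
    have h1 := (ι.isClosedEmbedding.toIsEmbedding.toIsInducing.topologicalKrullDim_le).trans
      (Groth.Agent.ProjDeg17.topologicalKrullDim_projSpace_le (k := k) N)
    rw [hdim] at h1
    exact_mod_cast h1
  haveI : ModSite.HasSheafHom (O := P.sheaf) ((Scheme.Modules.pushforward ι).obj (Coh.structureModule X)) :=
    Groth.Agent.CohMop.isLeftAdjoint_tenR _
  haveI : EnoughInjectives (ModSite.Mod P.sheaf) := inferInstanceAs (EnoughInjectives P.Modules)
  let O := Coh.structureModule X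
  haveI := Groth.Agent.ClImmProj14.upper_additive ι O
  haveI := fun Q : P.Modules => Groth.Agent.CohMop.additive_ihom Q
  obtain ⟨e⟩ := Groth.Agent.ClImmProj14.nonempty_extSh_iso ι O (N - 2) (Twist.twistProjSpace N k (-((N : ℤ) + 1)))
  let E := ((Groth.Agent.ClImmProj14.upper ι O).rightDerived (N - 2)).obj (Twist.twistProjSpace N k (-((N : ℤ) + 1)))
  obtain ⟨t', ht'⟩ := Groth.Agent.S14432.result k N 2 hN X ι hι hdim E ⟨e.symm⟩
  have hE : Coh.IsCoh E := by
    haveI := Groth.Agent.CohMop.isIso_counit_closedImmersion ι E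
    have h1 : Coh.IsCoh ((Scheme.Modules.pushforward ι).obj E) :=
      Groth.Agent.CohMop.isCoh_of_iso e
        (Groth.Agent.ProjDual12.isCoh_exd (k := k) (Groth.Agent.ProjDual12.isCoh_push ι (Groth.Agent.M1.isCoh_structureModule X)) (N - 2))
    exact Groth.Agent.CohMop.isCoh_of_iso (asIso ((Scheme.Modules.pullbackPushforwardAdjunction ι).counit.app E))
      (Groth.Agent.M1.isCoh_pullback ι h1)
  obtain ⟨φ, hφ, -⟩ := Groth.Agent.S11318.result k X 2 hdim ω E hωcoh hE t t' hdual ht'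
  obtain ⟨Z, hZ, hZU⟩ := ι.isClosedEmbedding.isInducing.isOpen_iff.1 U.isOpen
  let V : P.Opens := ⟨Z, hZ⟩
  obtain rfl : ι ⁻¹ᵁ V = U := TopologicalSpace.Opens.ext hZU
  have hA : ∀ x : ((ι ⁻¹ᵁ V) : Scheme.{u}), IsRegularLocalRing ((ι ⁻¹ᵁ V : Scheme.{u}).presheaf.stalk x) := fun x => by
    haveI := (hUreg x.1).1 x.2
    exact IsRegularLocalRing.of_ringEquiv ((ι ⁻¹ᵁ V).stalkIso x).commRingCatIsoToRingEquiv.symm
  haveI : LocallyOfFinitePresentation ((ι ⁻¹ᵁ V).ι ≫ f) := inferInstance
  haveI : Smooth ((ι ⁻¹ᵁ V).ι ≫ f) :=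
    Groth.Agent.RegSmooth17.smooth_of_regular_of_perfectField ((ι ⁻¹ᵁ V).ι ≫ f) hA
  have hne : ((ι ⁻¹ᵁ V : X.Opens) : Set X).Nonempty := ⟨genericPoint X, (hUreg _).2 (by
    letI := (inferInstanceAs (Field X.functionField) : Field (X.presheaf.stalk (genericPoint X)))
    infer_instance)⟩
  haveI : Nonempty ↥(ι ⁻¹ᵁ V : Scheme.{u}) := hne.to_subtype
  haveI : IsIntegral (ι ⁻¹ᵁ V : Scheme.{u}) := isIntegral_of_isOpenImmersion (ι ⁻¹ᵁ V).ι
  have hdimU : topologicalKrullDim ↥(ι ⁻¹ᵁ V : Scheme.{u}) = ((2 : ℕ) : WithBot ℕ∞) := by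
    rw [Groth.Agent.VarDim.dim_eq_sdim_genericPoint ((ι ⁻¹ᵁ V).ι ≫ f),
      Groth.Agent.VarDim.sdim_comp_of_surjective f (ι ⁻¹ᵁ V).ι, genericPoint_eq_of_isOpenImmersion (ι ⁻¹ᵁ V).ι,
      ← Groth.Agent.VarDim.dim_eq_sdim_genericPoint f]
    exact hdim
  haveI : SmoothOfRelativeDimension 2 ((ι ⁻¹ᵁ V).ι ≫ f) :=
    Groth.Agent.SmDim19.smoothOfRelativeDimension_of_smooth _ 2 hdimU
  haveI := Groth.Agent.ProjSpace.smoothOfRelativeDimension_toSpec N k
  have hp := Groth.Agent.Omega12.isFinLocFreeOfRank_receptacle_of_smooth (f := CohB1.ProjSpace.toSpec N k)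
    (Groth.Agent.Omega12.isUniversal_dOmega (f := CohB1.ProjSpace.toSpec N k)) N
  haveI : Coh.IsQCoh (Omega.sheaf (CohB1.ProjSpace.toSpec N k)) :=
    Groth.Agent.M2.isQCoh_of_isFinLocFree (Groth.Agent.M2.isFinLocFree_of_ofRank hp)
  have hL := Groth.Agent.Wedge2.isExtPow_extMod N (Omega.sheaf (CohB1.ProjSpace.toSpec N k))
  obtain ⟨a⟩ := Groth.Agent.Euler2.nonempty_det_omega_projSpace N k hL
  have hT : ExtPow.IsExtPow N (Omega.sheaf (CohB1.ProjSpace.toSpec N k)) (Twist.twistProjSpace N k (-((N : ℤ) + 1))) :=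
    Groth.Agent.Wedge2.isExtPow_of_iso (Iso.refl _)
      (a ≪≫ eqToIso (congrArg (Twist.twistProjSpace N k) (by ring))) hL
  haveI : SmoothOfRelativeDimension 2 ((ι ⁻¹ᵁ V).ι ≫ ι ≫ CohB1.ProjSpace.toSpec N k) := by
    rw [hι]; infer_instance
  exact Groth.Agent.LciSurf12.nonempty_restrict_iso (CohB1.ProjSpace.toSpec N k) ι N 2 V _ hT W
    (by rw [hι]; exact hW) ω ((Scheme.Modules.pushforward ι).mapIso (@asIso _ _ _ _ φ hφ) ≪≫ e.symm)

end Groth.Agent.S14702
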