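import Groth.Statements.S14703
import Groth.Agent.Lib.NumConn10.Mult
import Groth.Agent.Lib.ArInter.Deg
import Groth.Agent.Lib.RegSmooth17.Scheme
import Groth.Agent.Lib.NumPoly18.SurfCurves

set_option autoImplicit false
set_option maxHeartbeats 1000000
set_option linter.style.haveILetI false
set_option backward.isDefEq.respectTransparency false
set_option backward.isDefEq.respectTransparency.types false
universe u
open CategoryTheory CategoryTheory.Limits AlgebraicGeometry
open Surf

namespace Groth.Agent.S14703

open TopologicalSpace Opposite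
open Groth.Agent Groth.Agent.NumConn10
open Groth.Agent.SymSq10 (sdot)
open Groth.Agent.NumPoly18 (ptIdeal)

noncomputable local instance instLawStrict (Y : Scheme.{u}) : PicGrp.Law Y := M2.law Y

theorem prod_sum_replicate {M : Type*} [CommMonoid M] {α : Type*} (g : α → M) {s : ℕ} (ν : Fin s → α)
    (γ : Fin s → ℕ) (S : Finset (Fin s)) :
    ((∑ j ∈ S, Multiset.replicate (γ j) (ν j)).map g).prod = ∏ j ∈ S, g (ν j) ^ γ j := by
  classical
  induction S using Finset.induction_on with
  | empty => simp
  | insert a S ha ih =>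
    rw [Finset.sum_insert ha, Finset.prod_insert ha, Multiset.map_add, Multiset.prod_add, ih,
      Multiset.map_replicate, Multiset.prod_replicate]

theorem isClosed_singleton_of_mem_finite {X : Scheme.{u}} [JacobsonSpace X] {C : Set X} (hC : C.Finite)
    (hCc : IsClosed C) {w : X} (hw : w ∈ C) : IsClosed ({w} : Set X) := by
  have hsub : closure ({w} : Set X) ⊆ C := closure_minimal (Set.singleton_subset_iff.2 hw) hCc
  have h1 := closure_inter_closedPoints (X := X) (isClosed_closure (s := ({w} : Set X)))
  have hfin : (closure ({w} : Set X) ∩ closedPoints X).Finite := (hC.subset hsub).subset Set.inter_subset_left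
  have hc : IsClosed (closure ({w} : Set X) ∩ closedPoints X) := by
    rw [← Set.biUnion_of_singleton (closure ({w} : Set X) ∩ closedPoints X)]
    exact hfin.isClosed_biUnion fun v hv => hv.2
  rw [hc.closure_eq] at h1
  have hw' : w ∈ closure ({w} : Set X) ∩ closedPoints X := h1.symm ▸ subset_closure rfl
  exact hw'.2

/-- Let k be an algebraically closed field, X an integral scheme of dimension two admitting a closed
immersion into some P^n_k over k, and U ⊆ X open with finite complement. Let φ : Y → X be a
k-morphism from an integral scheme of dimension two with all local rings regular, itself admitting a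
closed immersion into some projective space over k, restricting to an isomorphism over U; let μ_1,
…, μ_s be distinct integral one-dimensional closed subschemes of Y, each mapped to a point, such
that every integral one-dimensional closed subscheme of Y mapped to a point has the support of one
of them. Let D be an effective Cartier divisor on X (an ideal sheaf I_D locally generated by one
nonzerodivisor) and D̃ an effective Cartier divisor on Y whose support contains no μ_j and whose
ideal agrees with the inverse-image ideal φ⁻¹I_D · O_Y on every affine open contained in φ⁻¹(U) —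
the strict transform of D. Then there are natural numbers γ_1, …, γ_s such that φ⁻¹I_D · O_Y =
I_{D̃} · ∏_j I_{μ_j}^{γ_j} (the total transform is the strict transform plus Σ γ_j μ_j) and Σ_j (μ_i
· μ_j) γ_j = -(D̃ · μ_i) for every i (the total transform meets every μ_i with intersection number
zero), where (A · B) = χ(O_Y) - χ(I_A) - χ(I_B) + χ(I_A ⊗ I_B) (packaged as FGA.intNum). (The
published statement writes the coefficient vector as γ = -d⁻¹ (D̃ · μ), with d = (μ_i · μ_j), for a
locally principal divisor on a normal surface and a resolution that is an isomorphism exactly off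
the singular points with exceptional fibres of pure dimension one; this row states the linear system
d γ = -(D̃ · μ), for effective Cartier divisors, any resolution that is an isomorphism over an open
subset with finite complement, and X not assumed normal.) -/
theorem result (k : Type u) [Field k] [IsAlgClosed k] (X : Scheme.{u}) [X.Over (Spec (CommRingCat.of k))]
    [IsIntegral X] (hdim : topologicalKrullDim X = 2)
    (hproj : ∃ (n : ℕ) (ι : X ⟶ CohB1.ProjSpace n k), IsClosedImmersion ι ∧ ι ≫ CohB1.ProjSpace.toSpec n k = (X ↘ (Spec (CommRingCat.of k))))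
    (U : X.Opens) (hU : ((U : Set X)ᶜ).Finite)
    (Y : Scheme.{u}) (φ : Y ⟶ X) [IsIntegral Y] (hdimY : topologicalKrullDim Y = 2)
    (hregY : ∀ y : Y, IsRegularLocalRing (Y.presheaf.stalk y))
    (hprojY : ∃ (n : ℕ) (ι : Y ⟶ CohB1.ProjSpace n k), IsClosedImmersion ι ∧ ι ≫ CohB1.ProjSpace.toSpec n k = φ ≫ (X ↘ (Spec (CommRingCat.of k))))
    (hiso : IsIso (φ ∣_ U))
    (s : ℕ) (μ : Fin s → Y.IdealSheafData) (hμint : ∀ j, IsIntegral (μ j).subscheme)
    (hμdim : ∀ j, topologicalKrullDim ((μ j).support : Set Y) = 1)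
    (hμpt : ∀ j, ∃ x : X, φ.base '' ((μ j).support : Set Y) = {x})
    (hμinj : Function.Injective fun j => ((μ j).support : Set Y))
    (hμall : ∀ E : Y.IdealSheafData, IsIntegral E.subscheme → topologicalKrullDim (E.support : Set Y) = 1 →
      (∃ x : X, φ.base '' (E.support : Set Y) = {x}) → ∃ j, (E.support : Set Y) = (μ j).support)
    (D : X.IdealSheafData) (hD : FGA.IsEffCartier D) (Dt : Y.IdealSheafData) (hDt : FGA.IsEffCartier Dt)
    (hDtexc : ∀ j, ¬ ((μ j).support : Set Y) ⊆ Dt.support)
    (hDtU : ∀ W : Y.affineOpens, (W : Y.Opens) ≤ φ ⁻¹ᵁ U → Dt.ideal W = (D.comap φ).ideal W) :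
    letI : Y.Over (Spec (CommRingCat.of k)) := ⟨φ ≫ (X ↘ (Spec (CommRingCat.of k)))⟩
    ∃ γ : Fin s → ℕ, D.comap φ = Dt * ∏ j : Fin s, μ j ^ γ j ∧
      ∀ i : Fin s, (∑ j : Fin s, FGA.intNum k Y 2 ![ClSub.idealMod (μ i), ClSub.idealMod (μ j)] (Coh.structureModule Y) * (γ j : ℤ)) =
        - FGA.intNum k Y 2 ![ClSub.idealMod Dt, ClSub.idealMod (μ i)] (Coh.structureModule Y) := by
  letI : Y.Over (Spec (CommRingCat.of k)) := ⟨φ ≫ (X ↘ (Spec (CommRingCat.of k)))⟩
  classical
  haveI hXp : IsProper (X ↘ Spec (CommRingCat.of k)) := by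
    obtain ⟨n, ι, hι, e⟩ := hproj
    haveI := hι
    rw [← e]
    infer_instance
  haveI hYp : IsProper (Y ↘ Spec (CommRingCat.of k)) := by
    obtain ⟨n, ι, hι, e⟩ := hprojY
    haveI := hι
    show IsProper (φ ≫ (X ↘ Spec (CommRingCat.of k)))
    rw [← e]
    infer_instance
  haveI : IsNoetherian Y := CohFound.isNoetherian_of_isProper (Y ↘ Spec (CommRingCat.of k))
  haveI : JacobsonSpace X := LocallyOfFiniteType.jacobsonSpace (X ↘ Spec (CommRingCat.of k))
  haveI : LocallyOfFinitePresentation (Y ↘ Spec (CommRingCat.of k)) := inferInstance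
  haveI : Smooth (Y ↘ Spec (CommRingCat.of k)) :=
    RegSmooth17.smooth_of_regular_of_perfectField (Y ↘ Spec (CommRingCat.of k)) hregY
  have hd := SurfRR10.dim_eq (k := k) (X := Y) hdimY
  have hreg := SurfRR10.regular (k := k) (X := Y)
  have hUc : IsClosed ((U : Set X)ᶜ) := U.isOpen.isClosed_compl
  have hUne : (U : Set X).Nonempty := by
    by_contra h
    rw [Set.not_nonempty_iff_eq_empty] at h
    rw [h, Set.compl_empty] at hU
    haveI : Finite X := Set.finite_univ_iff.1 hU
    haveI : DiscreteTopology X := discreteTopology_iff_isOpen_singleton.2 fun w => by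
      rw [← isClosed_compl_iff, ← Set.biUnion_of_singleton ({w}ᶜ : Set X)]
      exact (Set.toFinite _).isClosed_biUnion fun v _ =>
        isClosed_singleton_of_mem_finite hU isClosed_univ (Set.mem_univ v)
    have := hdim.symm.le.trans (topologicalKrullDim_zero_of_discreteTopology X)
    exact absurd this (by norm_num)
  have hinjU : ∀ a b : Y, φ a ∈ U → φ b ∈ U → φ a = φ b → a = b := fun a b ha hb hab => by
    haveI := hiso
    have h := (φ ∣_ U).isOpenEmbedding.injective (a₁ := ⟨a, ha⟩) (a₂ := ⟨b, hb⟩) (by
      apply Subtype.ext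
      have h1 := congrArg (fun ψ => ψ (⟨a, ha⟩ : ↑(φ ⁻¹ᵁ U))) (morphismRestrict_ι φ U)
      have h2 := congrArg (fun ψ => ψ (⟨b, hb⟩ : ↑(φ ⁻¹ᵁ U))) (morphismRestrict_ι φ U)
      exact h1.trans (hab.trans h2.symm))
    exact congrArg Subtype.val h
  -- the generic point
  have hgenD : φ (genericPoint Y) ∉ (D.support : Set X) := by
    have hgU : genericPoint X ∈ U := ((genericPoint_spec X).mem_open_set_iff U.isOpen).2 (by simpa using hUne)
    haveI := hiso
    obtain ⟨v, hv⟩ : ∃ v : Y, φ v = genericPoint X := by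
      let u := inv (φ ∣_ U) ⟨genericPoint X, hgU⟩
      refine ⟨(φ ⁻¹ᵁ U).ι u, ?_⟩
      have h := congrArg (fun ψ => ψ u) (morphismRestrict_ι φ U)
      refine h.symm.trans ?_
      show U.ι ((φ ∣_ U) (inv (φ ∣_ U) ⟨genericPoint X, hgU⟩)) = _
      rw [← Scheme.Hom.comp_apply (inv (φ ∣_ U)) (φ ∣_ U), IsIso.inv_hom_id]
      rfl
    intro hmem
    have hgg : genericPoint X ∈ (D.support : Set X) := by
      rw [← hv]
      exact ((genericPoint_specializes v).map φ.continuous).mem_closed D.support.isClosed hmem
    obtain ⟨W, hW, a, ha, hI⟩ := hD (genericPoint X)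
    rw [SetLike.mem_coe, Scheme.IdealSheafData.mem_support_iff_of_mem (U := W) hW, hI, Scheme.mem_zeroLocus_iff] at hgg
    haveI : Nonempty W.1 := ⟨⟨_, hW⟩⟩
    refine hgg a (Ideal.mem_span_singleton_self a) (((genericPoint_spec X).mem_open_set_iff (X.basicOpen a).isOpen).2 ?_)
    have h : ((X.basicOpen a : X.Opens) : Set X).Nonempty := Set.nonempty_iff_ne_empty.2 fun he =>
      nonZeroDivisors.ne_zero ha ((basicOpen_eq_bot_iff a).1 (Opens.ext he))
    simpa using h
  have hKc : BlowUp.IsEffCartierIdeal (D.comap φ) := ArInter.isEffCartier_comap φ hD hgenD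
  obtain ⟨sK, hsK, hprodK, hclK, -⟩ := exists_multiset (k := k) hdimY (D.comap φ) hKc
  obtain ⟨sD, hsD, hprodD, hclD, hsuD⟩ := exists_multiset (k := k) hdimY Dt hDt
  obtain ⟨ν, hν, hμν⟩ := SurfR.exists_conf μ (fun a b h => hμinj (congrArg (fun I : Y.IdealSheafData => (I.support : Set Y)) h))
    hμint hμdim
  have hsμ : ∀ j, ((μ j).support : Set Y) = closure {ν j} := fun j => by
    rw [(hμν j).1]; exact Scheme.IdealSheafData.coe_support_vanishingIdeal _
  have hνU : ∀ j, φ (ν j) ∉ U := fun j hjU => by
    obtain ⟨x, hx⟩ := hμpt j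
    rw [hsμ j] at hx
    have hsub : (closure {ν j} : Set Y).Subsingleton := fun a ha b hb => by
      have e : ∀ v ∈ closure ({ν j} : Set Y), φ v = x := fun v hv => Set.mem_singleton_iff.1 (hx ▸ ⟨v, hv, rfl⟩)
      have hxU : x ∈ U := e _ (subset_closure rfl) ▸ hjU
      exact hinjU a b ((e a ha).symm ▸ hxU) ((e b hb).symm ▸ hxU) ((e a ha).trans (e b hb).symm)
    haveI : Subsingleton (closure ({ν j} : Set Y)) := (Set.subsingleton_coe _).2 hsub
    have := (hμν j).2.symm.le.trans (topologicalKrullDim_zero_of_discreteTopology (closure ({ν j} : Set Y)))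
    exact absurd this (by norm_num)
  let γ : Fin s → ℕ := fun j => sK.count (ν j)
  have hsum : sK = sD + ∑ j, Multiset.replicate (γ j) (ν j) := by
    refine Multiset.ext.2 fun η => ?_
    rw [Multiset.count_add, Multiset.count_sum', Finset.sum_congr rfl fun j _ => Multiset.count_replicate η (ν j) (γ j)]
    by_cases hη : topologicalKrullDim (closure ({η} : Set Y)) = 1
    · by_cases hηU : φ η ∈ U
      · have hz : ∀ j, ν j ≠ η := fun j e => hνU j (e ▸ hηU)
        rw [Finset.sum_eq_zero fun j _ => by simp [hz j], add_zero]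
        obtain ⟨W, hW, hηW, hsub⟩ := exists_isAffineOpen_mem_and_subset (x := η) (U := φ ⁻¹ᵁ U) hηU
        exact count_eq_of_ideal_eq (k := k) hd sK sD hsK hsD ⟨W, hW⟩ hη hηW
          (by rw [← hprodK, ← hprodD, hDtU ⟨W, hW⟩ hsub])
      · have hcl : IsClosed ({φ η} : Set X) := isClosed_singleton_of_mem_finite hU hUc hηU
        have himg : φ.base '' closure ({η} : Set Y) = {φ η} := by
          refine Set.Subset.antisymm ?_ (Set.singleton_subset_iff.2 ⟨η, subset_closure rfl, rfl⟩)
          rintro _ ⟨v, hv, rfl⟩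
          exact ((specializes_iff_mem_closure.2 hv).map φ.continuous).mem_closed hcl rfl
        have hsuppη : ((ptIdeal η).support : Set Y) = closure {η} := Scheme.IdealSheafData.coe_support_vanishingIdeal _
        obtain ⟨j, hj⟩ := hμall (ptIdeal η) (NumPoly18.isIntegral_pt η).1 (by rw [hsuppη]; exact hη)
          ⟨φ η, by rw [hsuppη]; exact himg⟩
        rw [hsuppη, hsμ j] at hj
        obtain rfl : η = ν j := ((isGenericPoint_closure (x := η)).eq (by rw [IsGenericPoint]; exact hj.symm))
        have h0 : sD.count (ν j) = 0 := Multiset.count_eq_zero.2 fun hm => hDtexc j (by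
          intro v hv
          rw [hsμ j] at hv
          exact (hsuD v).2 ⟨ν j, hm, specializes_iff_mem_closure.2 hv⟩)
        rw [h0, zero_add, Finset.sum_eq_single j (fun i _ hij => if_neg fun e => hij (hν e))
          (fun h => absurd (Finset.mem_univ j) h)]
        simp [γ]
    · rw [Multiset.count_eq_zero.2 fun h => hη (hsK η h), Multiset.count_eq_zero.2 fun h => hη (hsD η h),
        Finset.sum_eq_zero fun j _ => if_neg fun e => hη (by rw [← e]; exact (hμν j).2), add_zero]
  refine ⟨γ, ?_, fun i => ?_⟩
  · rw [hprodK, hsum, Multiset.map_add, Multiset.prod_add, ← hprodD, prod_sum_replicate]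
    simp only [← fun j => (hμν j).1]
  · let c := ccl (k := k) hdimY
    have hDi := M2.isInvertible_idealMod D hD
    obtain ⟨eK⟩ := ArInter.nonempty_pullback_idealMod φ hD hKc
    have hclK' : icl hKc = PicGrp.cls _ (Twist.isInvertible_pullback φ hDi) := (PicGrp.cls_eq_cls_iff _ _).2 ⟨eK.symm⟩
    obtain ⟨x, hx⟩ := hμpt i
    rw [hsμ i] at hx
    have h0 := sdot_pullback_eq_zero (k := k) hdimY φ hDi (hμν i).2 x
      (fun v hv => Set.mem_singleton_iff.1 (hx ▸ ⟨v, specializes_iff_mem_closure.1 hv, rfl⟩))
    rw [← hclK', hclK hKc, hsum, Multiset.map_add, Multiset.prod_add, prod_sum_replicate,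
      SurfRR10.sdot_inv_right (k := k) hdimY, SurfRR10.sdot_mul_right (k := k) hdimY,
      Goodman10.sdot_prod (k := k) hreg hd] at h0
    have hμc : ∀ j, BlowUp.IsEffCartierIdeal (μ j) := fun j => by
      rw [(hμν j).1]; exact cartier_pt (k := k) hdimY (hμν j).2
    have hclμ : ∀ j, PicGrp.cls (ClSub.idealMod (μ j)) (M2.isInvertible_idealMod _ (hμc j)) = (c (ν j))⁻¹ := fun j => by
      show icl (hμc j) = _
      rw [icl_congr (hμc j) (cartier_pt (k := k) hdimY (hμν j).2) (hμν j).1, icl_pt' (k := k) hdimY (hμν j).2]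
    have hDt' : PicGrp.cls (ClSub.idealMod Dt) (M2.isInvertible_idealMod Dt hDt) = ((sD.map c).prod)⁻¹ := hclD hDt
    rw [SymSq10.intNum_eq' hd.le (M2.isInvertible_idealMod Dt hDt) (M2.isInvertible_idealMod _ (hμc i)), hDt',
      hclμ i, SurfRR10.sdot_inv_left (k := k) hdimY, SurfRR10.sdot_inv_right (k := k) hdimY, neg_neg,
      SymSq10.sdot_comm, Finset.sum_congr rfl fun j _ => by
        rw [SymSq10.intNum_eq' hd.le (M2.isInvertible_idealMod _ (hμc i)) (M2.isInvertible_idealMod _ (hμc j)),
          hclμ i, hclμ j, SurfRR10.sdot_inv_left (k := k) hdimY, SurfRR10.sdot_inv_right (k := k) hdimY, neg_neg,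
          mul_comm]]
    show ∑ j, (γ j : ℤ) * sdot k (c (ν i)) (c (ν j)) = - sdot k (c (ν i)) (sD.map c).prod
    have h0' : sdot k (c (ν i)) (sD.map c).prod + ∑ j, (γ j : ℤ) * sdot k (c (ν i)) (c (ν j)) = 0 := by
      have := h0
      linarith
    linarith

end Groth.Agent.S14703
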