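import Groth.Statements.S14705
import Groth.Agent.Lib.ProperFormalH7.Bc

set_option autoImplicit false
open CategoryTheory CategoryTheory.Limits AlgebraicGeometry
universe u
open FCompl

namespace Groth.Agent.S14705

/-- Let f : X ⟶ Y be a proper morphism of Noetherian schemes, 𝓘 an ideal of O_Y, 𝓚 = 𝓘 O_X its inverse
image ideal, X̂ and Ŷ the completions of X and Y along 𝓚 and 𝓘, f̂ : X̂ ⟶ Ŷ the extension of f to
the completions, and i : X̂ ⟶ X, j : Ŷ ⟶ Y the canonical morphisms of ringed spaces, so that f ∘ i =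
j ∘ f̂. Then for every coherent O_X-module F the base-change morphism j^*(f_* F) ⟶ f̂_*(i^* F) of
this square is an isomorphism; since F and f_* F are coherent, i^* F and j^*(f_* F) are their
completions, so this says that the completion of f_* F is the direct image of the completion of F. -/
theorem result (X Y : Scheme.{u}) [IsNoetherian X] [IsNoetherian Y]
    (f : X ⟶ Y) [IsProper f] (𝓘 : Y.IdealSheafData) (𝓚 : X.IdealSheafData) (h𝓚 : 𝓚 = 𝓘.comap f)
    (hpc : FSch.PowCompat f 𝓚 𝓘) (hX : (FSch.completionAlong X 𝓚).IsFormal) (hY : (FSch.completionAlong Y 𝓘).IsFormal)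
    (F : X.Modules) (hF : Coh.IsCoh F) :
    IsIso (FSch.schBcMap (FSch.completionMap f 𝓚 𝓘 hpc) hX hY f
      (FSch.completionToX X 𝓚) (FSch.completionToX_comm X 𝓚)
      (FSch.completionToX Y 𝓘) (FSch.completionToX_comm Y 𝓘)
      (FSch.completionMap_sq f 𝓚 𝓘 hpc) F) := by
  exact ProperFormalH7.isIso_schBcMap_completionMap f 𝓘 𝓚 hpc hX hY F h𝓚 hF

end Groth.Agent.S14705
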