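import Groth.Statements.S1471
import Groth.Agent.Lib.RedSep.Basic

set_option autoImplicit false
universe u
open FlatMor

set_option backward.isDefEq.respectTransparency.types false

namespace Groth.Agent.S1471

open AlgebraicGeometry CategoryTheory Limits TensorProduct

theorem isReduced_residueField_tensor {A R : Type u} [CommRing A] [CommRing R] [Algebra A R] [_root_.IsReduced R]
    (p : Ideal A) [p.IsPrime] (hp : p ∈ minimalPrimes A) : _root_.IsReduced (p.ResidueField ⊗[A] R) := by
  let Ap := Localization.AtPrime p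
  let R' := Ap ⊗[A] R
  letI : Algebra R R' := Algebra.TensorProduct.rightAlgebra
  have hloc : IsLocalization (Algebra.algebraMapSubmonoid R p.primeCompl) R' := inferInstance
  have hR' : _root_.IsReduced R' := isReduced_localizationPreserves (Algebra.algebraMapSubmonoid R p.primeCompl) R' ‹_›
  have hnil : ∀ x ∈ IsLocalRing.maximalIdeal Ap, algebraMap Ap R' x = 0 := by
    intro x hx
    have : Ring.KrullDimLE 0 Ap := .of_isLocalization _ hp _
    have hn : IsNilpotent x := Ring.KrullDimLE.isNilpotent_iff_mem_maximalIdeal.2 hx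
    exact (hn.map (algebraMap Ap R')).eq_zero
  let h : R' →ₐ[A] p.ResidueField ⊗[A] R := Algebra.TensorProduct.map (IsScalarTower.toAlgHom A Ap p.ResidueField) (AlgHom.id A R)
  let ρ : p.ResidueField →+* R' := Ideal.Quotient.lift (IsLocalRing.maximalIdeal Ap) (algebraMap Ap R') hnil
  let ρ' : p.ResidueField →ₐ[A] R' := { ρ with
    commutes' := fun r => by
      change ρ (algebraMap A p.ResidueField r) = _
      rw [IsScalarTower.algebraMap_apply A Ap p.ResidueField, IsScalarTower.algebraMap_apply A Ap R']
      exact Ideal.Quotient.lift_mk _ _ _ }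
  let ψ : p.ResidueField ⊗[A] R →ₐ[A] R' := Algebra.TensorProduct.lift ρ' Algebra.TensorProduct.includeRight fun _ _ => Commute.all _ _
  have hψh : ∀ z, ψ (h z) = z := fun z => by
    induction z using TensorProduct.induction_on with
    | zero => simp
    | add x y hx hy => rw [map_add, map_add, hx, hy]
    | tmul a r =>
      change ρ (algebraMap Ap p.ResidueField a) * ((1 : Ap) ⊗ₜ[A] r) = a ⊗ₜ r
      rw [show ρ (algebraMap Ap p.ResidueField a) = a ⊗ₜ[A] (1 : R) from (Ideal.Quotient.lift_mk _ _ _).trans rfl,
        Algebra.TensorProduct.tmul_mul_tmul, mul_one, one_mul]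
  have hsurj : Function.Surjective h := fun z => by
    induction z using TensorProduct.induction_on with
    | zero => exact ⟨0, map_zero h⟩
    | add x y hx hy =>
      obtain ⟨a, rfl⟩ := hx; obtain ⟨b, rfl⟩ := hy
      exact ⟨a + b, map_add h a b⟩
    | tmul a r =>
      obtain ⟨a, rfl⟩ := Ideal.Quotient.mk_surjective a
      exact ⟨a ⊗ₜ r, rfl⟩
  have hψ : Function.Injective ψ := fun x y hxy => by
    obtain ⟨a, rfl⟩ := hsurj x; obtain ⟨b, rfl⟩ := hsurj y
    rw [hψh, hψh] at hxy
    rw [hxy]
  exact isReduced_of_injective ψ hψ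

theorem isReduced_tensor_of_ker {A R L : Type u} [CommRing A] [CommRing R] [Algebra A R] [_root_.IsReduced R]
    [Field L] [Algebra A L] (p : Ideal A) [p.IsPrime] (hp : p ∈ minimalPrimes A)
    (hker : RingHom.ker (algebraMap A L) = p) (hgen : ∀ x : L, ∃ a b : A, algebraMap A L b ≠ 0 ∧ x * algebraMap A L b = algebraMap A L a) :
    _root_.IsReduced (L ⊗[A] R) := by
  let φ : (A ⧸ p) →+* L := Ideal.Quotient.lift p (algebraMap A L) fun a ha => by
    rw [← RingHom.mem_ker, hker]; exact ha
  have hφ : Function.Injective φ := RingHom.lift_injective_of_ker_le_ideal p (fun a ha => by rw [← RingHom.mem_ker, hker]; exact ha) hker.le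
  let ψ : p.ResidueField →+* L := IsFractionRing.lift (K := p.ResidueField) hφ
  let ψ' : p.ResidueField →ₐ[A] L := { ψ with
    commutes' := fun a => by
      change ψ (algebraMap A p.ResidueField a) = _
      rw [IsScalarTower.algebraMap_apply A (A ⧸ p) p.ResidueField]
      exact IsFractionRing.lift_algebraMap hφ _ }
  have hbij : Function.Bijective ψ' := ⟨ψ.injective, fun x => by
    obtain ⟨a, b, hb, hab⟩ := hgen x
    refine ⟨algebraMap A p.ResidueField a / algebraMap A p.ResidueField b, ?_⟩
    rw [map_div₀, AlgHom.commutes, AlgHom.commutes, div_eq_iff hb, hab]⟩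
  have := isReduced_residueField_tensor (R := R) p hp
  exact isReduced_of_injective (Algebra.TensorProduct.congr (AlgEquiv.ofBijective ψ' hbij) AlgEquiv.refl).symm
    (AlgEquiv.injective _)

theorem isReduced_fibre {A : CommRingCat.{u}} {Z : Scheme.{u}} [IsReduced Z] (h : Z ⟶ Spec A) (q : Spec A)
    (hq : q.asIdeal ∈ minimalPrimes A) : IsReduced (h.fiber q) := by
  obtain ⟨ρ, hρ⟩ := Spec.map_surjective ((Spec A).fromSpecResidueField q)
  letI : Algebra A ((Spec A).residueField q) := ρ.hom.toAlgebra
  have hker : RingHom.ker (algebraMap A ((Spec A).residueField q)) = q.asIdeal := by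
    have h1 := Scheme.fromSpecResidueField_apply q (default : Spec ((Spec A).residueField q))
    rw [← hρ] at h1
    rw [← congrArg PrimeSpectrum.asIdeal h1]
    ext a
    rw [RingHom.mem_ker, RingHom.algebraMap_toAlgebra]
    change _ ↔ ρ.hom a ∈ (default : Spec ((Spec A).residueField q)).asIdeal
    have : (default : Spec ((Spec A).residueField q)).asIdeal.IsPrime := (default : Spec ((Spec A).residueField q)).isPrime
    rw [Ideal.eq_bot_of_prime (default : Spec ((Spec A).residueField q)).asIdeal, Ideal.mem_bot]
  have hgen : ∀ x : (Spec A).residueField q, ∃ a b : A, algebraMap A ((Spec A).residueField q) b ≠ 0 ∧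
      x * algebraMap A ((Spec A).residueField q) b = algebraMap A ((Spec A).residueField q) a := fun x => by
    obtain ⟨s, rfl⟩ := Scheme.residue_surjective (Spec A) q x
    have hρ' : ρ = StructureSheaf.toStalk A q ≫ (Spec A).residue q := by
      apply Spec.map_injective
      rw [hρ, Spec.map_comp, Scheme.fromSpecResidueField]
      congr 1
      exact Spec.fromSpecStalk_eq' A q
    obtain ⟨⟨a, b⟩, hab⟩ := IsLocalization.surj (M := q.asIdeal.primeCompl) (S := (Spec.structureSheaf A).presheaf.stalk q) s
    refine ⟨a, b, ?_, ?_⟩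
    · rw [Ne, ← RingHom.mem_ker, hker]; exact b.2
    · rw [RingHom.algebraMap_toAlgebra, hρ']
      exact (map_mul ((Spec A).residue q).hom _ _).symm.trans (congrArg _ hab)
  suffices hk : ∀ k : Z.affineCover.I₀, IsReduced (pullback (h.fiberι q) (Z.affineCover.f k)) by
    have : ∀ k, IsReduced ((Z.affineCover.pullback₁ (h.fiberι q)).X k) := hk
    exact IsReduced.of_openCover (X := h.fiber q) (Z.affineCover.pullback₁ (h.fiberι q))
  intro k
  obtain ⟨ψ, hψ⟩ := Spec.map_surjective ((Z.affineCover.X k).isoSpec.inv ≫ Z.affineCover.f k ≫ h)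
  letI : Algebra A Γ(Z.affineCover.X k, ⊤) := ψ.hom.toAlgebra
  have : IsReduced (Z.affineCover.X k) := isReduced_of_isOpenImmersion (Z.affineCover.f k)
  have sq : IsPullback (pullback.snd (h.fiberι q) (Z.affineCover.f k))
      (pullback.fst (h.fiberι q) (Z.affineCover.f k) ≫ h.fiberToSpecResidueField q)
      (Z.affineCover.f k ≫ h) ((Spec A).fromSpecResidueField q) :=
    ((IsPullback.of_hasPullback (h.fiberι q) (Z.affineCover.f k)).paste_horiz
      (IsPullback.of_hasPullback h ((Spec A).fromSpecResidueField q)).flip).flip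
  have sq1 : IsPullback (pullback.snd (h.fiberι q) (Z.affineCover.f k) ≫ (Z.affineCover.X k).isoSpec.hom)
      (pullback.fst (h.fiberι q) (Z.affineCover.f k) ≫ h.fiberToSpecResidueField q)
      (Spec.map (CommRingCat.ofHom (algebraMap A Γ(Z.affineCover.X k, ⊤))))
      (Spec.map (CommRingCat.ofHom (algebraMap A ((Spec A).residueField q)))) :=
    sq.of_iso (Iso.refl _) (Z.affineCover.X k).isoSpec (Iso.refl _) (Iso.refl _) (by simp) (by simp)
      (((Category.comp_id _).trans (show _ = (Z.affineCover.X k).isoSpec.hom ≫ ((Z.affineCover.X k).isoSpec.inv ≫ Z.affineCover.f k ≫ h) by simp)).trans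
        (congrArg ((Z.affineCover.X k).isoSpec.hom ≫ ·) hψ.symm))
      ((Category.comp_id _).trans (hρ.symm.trans (Category.id_comp _).symm))
  let iso := sq1.isoPullback ≪≫ pullbackSymmetry _ _ ≪≫ pullbackSpecIso A ((Spec A).residueField q) Γ(Z.affineCover.X k, ⊤)
  have := isReduced_tensor_of_ker (R := Γ(Z.affineCover.X k, ⊤)) q.asIdeal hq hker hgen
  exact isReduced_of_isOpenImmersion iso.hom

open AlgebraicGeometry CategoryTheory Limits in
/-- Let f : X → Y and η a generic point of an irreducible component of Y. Then the fibre over η of the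
composite X_red → X → Y is reduced; since it is a closed subscheme of X_η with the same underlying
set, this says (X_η)_red = (X_red)_η. -/
theorem result {X Y : Scheme.{u}} (f : X ⟶ Y) (η : Y) (W : Set ↑Y) (hW : W ∈ irreducibleComponents ↑Y) (hη : IsGenericPoint η W) :
    IsReduced ((X.nilradical.subschemeι ≫ f).fiber η) := by
  let g := X.nilradical.subschemeι ≫ f
  have hred : IsReduced X.nilradical.subscheme := Groth.Agent.RedSepLib.isReduced_nilradical_subscheme X
  obtain ⟨V, hV, hηV, -⟩ := exists_isAffineOpen_mem_and_subset (X := Y) (x := η) (U := ⊤) trivial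
  let q := hV.primeIdealOf ⟨η, hηV⟩
  have hqη : hV.fromSpec q = η := hV.fromSpec_primeIdealOf ⟨η, hηV⟩
  have hqmin : q.asIdeal ∈ minimalPrimes Γ(Y, V) := by
    refine ⟨⟨q.2, bot_le⟩, fun J hJ hle => ?_⟩
    have := hJ.1
    let j : Spec Γ(Y, V) := ⟨J, this⟩
    have h1 : hV.fromSpec j ⤳ η := hqη ▸ ((PrimeSpectrum.le_iff_specializes j q).1 hle).map hV.fromSpec.continuous
    have h2 : W ⊆ closure {hV.fromSpec j} := by
      rw [← hη.def]
      exact closure_minimal (Set.singleton_subset_iff.2 h1.mem_closure) isClosed_closure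
    have h3 : η ⤳ hV.fromSpec j := by
      rw [specializes_iff_mem_closure, hη.def]
      exact hW.2 isIrreducible_singleton.closure h2 (subset_closure rfl)
    rw [← hqη, hV.fromSpec.isOpenEmbedding.isInducing.specializes_iff] at h3
    exact (PrimeSpectrum.le_iff_specializes q j).2 h3
  have : IsReduced (pullback g hV.fromSpec) := isReduced_of_isOpenImmersion (pullback.fst g hV.fromSpec)
  have hfibred := isReduced_fibre (pullback.snd g hV.fromSpec) q hqmin
  have sq := AlgebraicGeometry.isPullback_fiberToSpecResidueField_of_isPullback (IsPullback.of_hasPullback g hV.fromSpec) q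
  rw [← hqη]
  have : IsIso (hV.fromSpec.residueFieldMap q) := inferInstance
  have : IsIso (Spec.map (hV.fromSpec.residueFieldMap q)) := inferInstance
  let m := sq.isoPullback.hom ≫ pullback.fst (Scheme.Hom.fiberToSpecResidueField g (hV.fromSpec q))
    (Spec.map (hV.fromSpec.residueFieldMap q))
  have h1 : IsIso (pullback.fst (Scheme.Hom.fiberToSpecResidueField g (hV.fromSpec q))
    (Spec.map (hV.fromSpec.residueFieldMap q))) := inferInstance
  have : IsIso m := IsIso.comp_isIso' inferInstance h1
  exact @isReduced_of_isOpenImmersion _ _ (inv m) inferInstance hfibred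

end Groth.Agent.S1471
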