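import Groth.Statements.S14712
import Groth.Agent.Lib.LiftUnique19.Basic

set_option autoImplicit false
universe u
open CategoryTheory MonoidalCategory CartesianMonoidalCategory MonObj GrpObj AlgebraicGeometry Topology
open GIT

namespace Groth.Agent.S14712

/-- Over an algebraically closed field k, let G be a connected algebraic group (a smooth connected group
scheme of finite type) admitting no non-trivial homomorphism to the multiplicative group, acting on
a reduced scheme X of finite type over k (not necessarily separated), and let π : V → X be a line
bundle over X in total-space form (an affine morphism with a linear atlas of fibre coordinates).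
Then any two liftings of the action to fibrewise-linear bundle actions of G on V coincide: an
invertible sheaf on X admits at most one G-linearisation. (The published statement is over an
arbitrary field, with X geometrically reduced and the character condition imposed after extension to
an algebraically closed field; this row is the case of an algebraically closed ground field, to
which the published proof reduces. L is taken in total-space form: a linearisation is a lifted
bundle action.) -/
theorem result (k : Type u) [Field k] [IsAlgClosed k]
    (G X V : Over (Spec (CommRingCat.of k))) [GrpObj G]
    [Smooth G.hom] [LocallyOfFiniteType G.hom] [QuasiCompact G.hom] [ConnectedSpace G.left]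
    (hχ : ∀ (χ : G ⟶ Red.Gm (Spec (CommRingCat.of k))) [IsMonHom χ], χ = 1)
    [LocallyOfFiniteType X.hom] [QuasiCompact X.hom] [IsReduced X.left]
    (a : AlgGrp.Action G X) (π : V ⟶ X) (A : GLinSh.LinAtlas π)
    (Φ₁ Φ₂ : AlgGrp.Action G V) (h₁ : Φ₁.act ≫ π = (G ◁ π) ≫ a.act) (h₂ : Φ₂.act ≫ π = (G ◁ π) ≫ a.act)
    (hl₁ : GLinSh.IsLinearLift a π Φ₁ A.chart h₁) (hl₂ : GLinSh.IsLinearLift a π Φ₂ A.chart h₂) :
    Φ₁.act = Φ₂.act := by
  exact LiftUnique19.lift_eq hχ hl₁ hl₂

end Groth.Agent.S14712
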