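import Groth.Statements.S14717
import Groth.Agent.Lib.GITHM15.Locus
-- import your own Groth.Agent.* helpers here

set_option autoImplicit false
universe u
open CategoryTheory MonoidalCategory CartesianMonoidalCategory MonObj GrpObj AlgebraicGeometry Topology
open GIT

namespace Groth.Agent.S14717

/-- Let k be a field of characteristic zero, G a connected reductive algebraic group over k (affine,
smooth, with connected reductive geometric fibre) acting by σ on a finite-type k-scheme X (not
necessarily separated), and L a G-linearised line bundle on X, taken in total-space form (a line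
bundle V → X with a linear atlas and a fibrewise-linear lifting of the action; sections of L^n are
the weight-n functions on V, invariant sections those fixed by the lifted action, X_s the locus over
which s does not vanish identically on the fibre). Let x_1, …, x_m be finitely many semi-stable
points of X. Then there is an invariant section s of some L^n, n ≥ 1, such that X_s is an affine
open containing all the x_i; if moreover all the x_i are stable (no condition on stabilisers), s can
be chosen so that the action of G on X_s is closed. (The published statement is for any reductive G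
in any characteristic; this row is the characteristic-zero case with G connected. L is taken in
total-space form.) -/
theorem result (k : Type u) [Field k] [CharZero k]
    (G X : Over (Spec (CommRingCat.of k))) [GrpObj G] (hG : Red.IsReductive G)
    [LocallyOfFiniteType X.hom] [QuasiCompact X.hom]
    (a : AlgGrp.Action G X) (B : GLinSh.LinBun G a)
    (s : Finset X.left) (hs : ∀ x ∈ s, B.IsSemistablePt x) :
    ∃ (n : ℕ) (f : Γ(B.V.left, ⊤)) (Uf : X.left.Opens), 1 ≤ n ∧ B.IsInvSection n f ∧
      (Uf : Set X.left) = GLinSh.nonvanishing B.π f ∧ IsAffineOpen Uf ∧ (∀ x ∈ s, x ∈ Uf) ∧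
      ((∀ x ∈ s, B.IsStablePt x) → GLinSh.ClosedOrbitsOn a Uf) := by
  classical
  have hchoice : ∀ x ∈ s, ∃ (n : ℕ) (f : Γ(B.V.left, ⊤)), 1 ≤ n ∧ B.IsInvSection n f ∧
      x ∈ Groth.Agent.GITHM15.nv B n f ∧ IsAffineOpen (Groth.Agent.GITHM15.nv B n f) ∧
      (B.IsStablePt x → GLinSh.ClosedOrbitsOn a (Groth.Agent.GITHM15.nv B n f)) := fun x hx => by
    by_cases hst : B.IsStablePt x
    · obtain ⟨n, f, hn, hf, hxf, U, hU, haff, hcl⟩ := hst
      have hUe : Groth.Agent.GITHM15.nv B n f = U :=
        TopologicalSpace.Opens.ext (by rw [Groth.Agent.GITHM15.coe_nv B hf.1, hU])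
      exact ⟨n, f, hn, hf, by rw [hUe]; exact hU.ge hxf, hUe ▸ haff, fun _ => hUe ▸ hcl⟩
    · obtain ⟨n, f, hn, hf, hxf, U, hU, haff⟩ := hs x hx
      have hUe : Groth.Agent.GITHM15.nv B n f = U :=
        TopologicalSpace.Opens.ext (by rw [Groth.Agent.GITHM15.coe_nv B hf.1, hU])
      exact ⟨n, f, hn, hf, by rw [hUe]; exact hU.ge hxf, hUe ▸ haff, fun h => absurd h hst⟩
  choose! n f hn hf hxf haff hcl using hchoice
  let N := ∏ x ∈ s, n x
  have hN : 1 ≤ N := Finset.one_le_prod' hn
  suffices key : ∀ S : Finset X.left, S ⊆ s → ∃ g : Γ(B.V.left, ⊤), B.IsInvSection N g ∧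
      IsAffineOpen (Groth.Agent.GITHM15.nv B N g) ∧ (∀ x ∈ S, x ∈ Groth.Agent.GITHM15.nv B N g) ∧
      ((∀ x ∈ S, B.IsStablePt x) → GLinSh.ClosedOrbitsOn a (Groth.Agent.GITHM15.nv B N g)) by
    obtain ⟨g, h1, h2, h3, h4⟩ := key s subset_rfl
    exact ⟨N, g, _, hN, h1, Groth.Agent.GITHM15.coe_nv B h1.1, h2, h3, h4⟩
  intro S
  induction S using Finset.induction_on with
  | empty =>
    refine fun _ => ⟨0, ⟨Groth.Agent.GITHM15.HasWeight.zero B N, ?_⟩, ?_, fun x hx => absurd hx (Finset.notMem_empty x),
      fun _ => ?_⟩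
    · show B.lift.act.left.appTop 0 = (snd G B.V).left.appTop 0
      rw [map_zero, map_zero]
    · rw [Groth.Agent.GITHM15.nv_zero]
      exact isAffineOpen_bot _
    · rw [Groth.Agent.GITHM15.nv_zero]
      intro Ω _ _ T e fT hr
      haveI : IsEmpty ((fst X T).left ⁻¹ᵁ (⊥ : X.left.Opens)) := ⟨fun p => p.2⟩
      convert isClosed_empty using 1
      exact Set.eq_empty_of_forall_notMem fun p _ => p.2
  | insert x S hxS ih =>
    intro hsub
    have hx : x ∈ s := hsub (Finset.mem_insert_self x S)
    obtain ⟨g, hg, hga, hgm, hgc⟩ := ih ((Finset.subset_insert x S).trans hsub)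
    have hdvd : N / n x * n x = N := Nat.div_mul_cancel (Finset.dvd_prod_of_mem _ hx)
    have hm : 1 ≤ N / n x := by
      rcases Nat.eq_zero_or_pos (N / n x) with h | h
      · rw [h, zero_mul] at hdvd; omega
      · exact h
    have hnv : Groth.Agent.GITHM15.nv B N (f x ^ (N / n x)) = Groth.Agent.GITHM15.nv B (n x) (f x) := by
      have := Groth.Agent.GITHM15.nv_pow B (hf x hx).1 (N / n x) hm
      rwa [hdvd] at this
    have hq : B.IsInvSection N (f x ^ (N / n x)) := by
      refine ⟨?_, ?_⟩
      · have := Groth.Agent.GITHM15.HasWeight.pow B (hf x hx).1 (N / n x)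
        rwa [hdvd] at this
      · show B.lift.act.left.appTop _ = (snd G B.V).left.appTop _
        rw [map_pow, map_pow, show B.lift.act.left.appTop (f x) = _ from (hf x hx).2]
    have hmem : ∀ z ∈ insert x S, z ∈ Groth.Agent.GITHM15.nv B N g ⊔
        Groth.Agent.GITHM15.nv B N (f x ^ (N / n x)) := fun z hz => by
      rcases Finset.mem_insert.1 hz with rfl | h
      · exact Or.inr (by rw [hnv]; exact hxf _ hx)
      · exact Or.inl (hgm z h)
    obtain ⟨t, ht⟩ := Set.Finite.exists_notMem ((insert x S).finite_toSet.biUnion fun z hz =>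
      (Groth.Agent.GITHM15.subsingleton_bad B hg.1 hq.1 (hmem z hz)).finite)
    refine ⟨_, Groth.Agent.GITHM15.isInvSection_add_str_mul B hg hq t,
      Groth.Agent.GITHM15.isAffineOpen_nv_add B hg.1 hq.1 hga (by rw [hnv]; exact haff x hx) t, fun z hz => ?_,
      fun hst => Groth.Agent.GITHM15.closedOrbitsOn_add B hg hq (hgc fun z hz => hst z (Finset.mem_insert_of_mem hz))
        (by rw [hnv]; exact hcl x hx (hst x (Finset.mem_insert_self x S))) t⟩
    by_contra hbad
    exact ht (Set.mem_iUnion₂.2 ⟨z, hz, hbad⟩)

end Groth.Agent.S14717
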