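import Groth.Statements.S14718
import Groth.Agent.Lib.AmpleBun15.Pull
import Groth.Agent.Lib.GITQuot.Orbit
import Groth.Agent.Lib.Ample18.Separated
-- import your own Groth.Agent.* helpers here

set_option autoImplicit false
universe u
open CategoryTheory MonoidalCategory CartesianMonoidalCategory MonObj GrpObj AlgebraicGeometry Topology
open GIT

namespace Groth.Agent.S14718

/-- Let k be a field, G a group scheme over k acting by σ on a k-scheme X, φ : X → Y an invariant
k-morphism (φ ∘ σ = φ ∘ p₂) which is affine, and M an ample invertible sheaf on Y. Then there is a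
G-linearised line bundle L on X, taken in total-space form, with X = X^ss(L): every point x has an
invariant section s of some L^n, n ≥ 1, with s(x) ≠ 0 and X_s affine. If moreover (Y, φ) is a
geometric quotient of X by G, then X = X^s(L) for the same L (the action of G on those X_s is
closed; no condition on stabilisers). (The published statement assumes G reductive, X of finite type
and (Y, φ) a categorical quotient with Y quasi-projective; this row keeps only what the construction
uses: φ invariant and affine, M ample. L is taken in total-space form.) -/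
theorem result (k : Type u) [Field k]
    (G X Y : Over (Spec (CommRingCat.of k))) [GrpObj G]
    (a : AlgGrp.Action G X) (φ : X ⟶ Y) (hφ : GIT.IsInvariant a φ) [IsAffineHom φ.left]
    (M : Y.left.Modules) (hM : CohB1.IsAmple M) :
    ∃ B : GLinSh.LinBun G a, B.ssLocus = Set.univ ∧ (GIT.IsGeomQuot a φ → B.sLocus = Set.univ) := by
  obtain ⟨D⟩ := Groth.Agent.AmpleBun15.nonempty_space hM.1
  obtain ⟨B, hB⟩ := Groth.Agent.AmpleBun15.exists_linBun D a φ hφ
  have key : ∀ x : X.left, ∃ (n : ℕ) (f : Γ(B.V.left, ⊤)) (U : X.left.Opens), 1 ≤ n ∧ B.IsInvSection n f ∧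
      x ∈ GLinSh.nonvanishing B.π f ∧ (U : Set X.left) = GLinSh.nonvanishing B.π f ∧ IsAffineOpen U := fun x => by
    obtain ⟨n, s, hx, hA⟩ := hM.2.2 (φ.left x)
    obtain ⟨f, hf, hnv⟩ := hB (n + 1) s
    refine ⟨n + 1, f, φ.left ⁻¹ᵁ CohB1.genLocus _ s, Nat.le_add_left 1 n, hf, ?_, hnv.symm, hA.preimage φ.left⟩
    rw [hnv]
    exact hx
  refine ⟨B, Set.eq_univ_of_forall fun x => ?_, fun hq => Set.eq_univ_of_forall fun x => ?_⟩
  · obtain ⟨n, f, U, hn, hf, hx, hU, hA⟩ := key x
    exact ⟨n, f, hn, hf, hx, U, hU, hA⟩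
  · obtain ⟨n, f, U, hn, hf, hx, hU, hA⟩ := key x
    refine ⟨n, f, hn, hf, hx, U, hU, hA, fun Ω _ _ T e g _ => ?_⟩
    haveI : Y.left.IsSeparated := Groth.Agent.Amp.isSeparated_of_cover hM.1 (Groth.Agent.Amp.isAmple_iff.1 hM).2.2
    exact (Groth.Agent.GITQuot.isClosedAction hq Ω T e g).preimage continuous_subtype_val

end Groth.Agent.S14718
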