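import Groth.Statements.S1472
import Groth.Agent.Lib.Spread4.NormalFibre
import Groth.Agent.S1356
import Groth.Agent.Lib.GeomIrr18.Scheme
import Groth.Agent.Lib.VB17.Setup
-- import your own Groth.Agent.* helpers here

set_option autoImplicit false
universe u
open FlatMor

namespace Groth.Agent.S1472

open AlgebraicGeometry CategoryTheory Limits in
/-- Let h : Y → S be of finite presentation and normal (affine-locally its ring maps are flat with
geometrically normal fibres), let s be a point of S and T an open of the fibre over s which is
geometrically irreducible over the residue field of s. Then there are an affine elementary étale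
neighbourhood (S', s') of (S, s) and a quasi-compact open V of the base change of Y to S' such that
all fibres of V → S' are geometrically integral and the points of V over s' are exactly the points
of the base change over s' whose image in Y lies in T. -/
theorem result {Y S : Scheme.{u}} (h : Y ⟶ S) [LocallyOfFinitePresentation h] [QuasiCompact h] [QuasiSeparated h]
    (hn : ∀ (U : Y.Opens) (V : S.Opens) (hU : IsAffineOpen U) (hV : IsAffineOpen V) (hUV : U ≤ h ⁻¹ᵁ V),
      letI := (h.appLE V U hUV).hom.toAlgebra
      EGA4.IsNormalHom Γ(S, V) Γ(Y, U))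
    (s : S) (T : (h.fiber s).Opens) (hT : GeometricallyIrreducible (T.ι ≫ h.fiberToSpecResidueField s)) :
    ∃ (S' : Scheme.{u}) (g : S' ⟶ S) (s' : S'), IsAffine S' ∧ Hens2.IsEtaleNbhd g s' s ∧
      ∃ V : (pullback h g).Opens, IsCompact (V : Set ↑(pullback h g)) ∧ GeometricallyIntegral (V.ι ≫ pullback.snd h g) ∧
        ∀ y' : ↑(pullback h g), pullback.snd h g y' = s' → (y' ∈ V ↔ pullback.fst h g y' ∈ (h.fiberι s) '' (T : Set ↑(h.fiber s))) := by
  haveI : Flat h := by
    rw [HasRingHomProperty.iff_appLE (P := @Flat)]
    intro V U e
    letI := (h.appLE V.1 U.1 e).hom.toAlgebra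
    exact (hn U.1 V.1 U.2 V.2 e).1
  haveI : GeometricallyReduced h := ⟨fun K _ t Z fst snd hP => by
    have hN := Spread4.isNormalScheme_pullback_field h hn K t
    haveI : ∀ x, _root_.IsReduced ((pullback h t).presheaf.stalk x) := fun x => by
      haveI := (hN x).1
      infer_instance
    haveI : IsReduced (pullback h t) := isReduced_of_isReduced_stalk _
    exact isReduced_of_isOpenImmersion hP.isoPullback.hom⟩
  have hTc : GeometricallyConnected (T.ι ≫ h.fiberToSpecResidueField s) := by
    haveI := hT
    exact GeomIrr.geometricallyConnected_of_irreducible (T.ι ≫ h.fiberToSpecResidueField s)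
  obtain ⟨S', g, s', hS', hg, V, hV, hVc, hmem⟩ := S1356.result h s T hTc
  refine ⟨S', g, s', hS', hg, V, hV, ⟨fun K _ t Z fst snd hP => ?_⟩, hmem⟩
  haveI : ConnectedSpace Z := GeometricallyConnected.geometrically_connectedSpace (f := V.ι ≫ pullback.snd h g) t fst snd hP
  haveI : QuasiSeparated h := inferInstance
  haveI : CompactSpace V := isCompact_iff_compactSpace.1 hV
  haveI : IsAffine S' := hS'
  haveI : QuasiCompact (V.ι ≫ pullback.snd h g) := (HasAffineProperty.iff_of_isAffine (P := @QuasiCompact)).2 inferInstance
  haveI : LocallyOfFiniteType snd := MorphismProperty.of_isPullback hP inferInstance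
  haveI : QuasiCompact snd := MorphismProperty.of_isPullback hP inferInstance
  haveI : IsLocallyNoetherian Z := LocallyOfFiniteType.isLocallyNoetherian snd
  haveI : CompactSpace Z := QuasiCompact.compactSpace_of_compactSpace snd
  haveI : IsNoetherian Z := {}
  let P := pullback (pullback.snd h g) t
  let j : Z ⟶ P := pullback.lift (fst ≫ V.ι) snd (by rw [Category.assoc]; exact hP.w)
  have hj : IsPullback fst j V.ι (pullback.fst (pullback.snd h g) t) := by
    refine IsPullback.of_bot ?_ (pullback.lift_fst _ _ _).symm (IsPullback.of_hasPullback (pullback.snd h g) t)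
    rw [show j ≫ pullback.snd (pullback.snd h g) t = snd from pullback.lift_snd _ _ _]
    exact hP
  haveI : IsOpenImmersion j := MorphismProperty.of_isPullback hj inferInstance
  let j' : Z ⟶ pullback h (t ≫ g) := j ≫ (pullbackLeftPullbackSndIso h g t).hom
  have hN := Spread4.isNormalScheme_pullback_field h hn K (t ≫ g)
  refine VB17.isIntegral_of_connected fun z => ?_
  haveI := (hN (j' z)).1
  exact MulEquiv.isDomain _ (asIso (j'.stalkMap z)).symm.commRingCatIsoToRingEquiv.toMulEquiv

end Groth.Agent.S1472
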