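import Groth.Statements.S14726
import Groth.Agent.Lib.ValSmoothH7.Basic

set_option autoImplicit false
universe u
open ValPrufer

namespace Groth.Agent.S14726

/-- Let V be a valuation ring with maximal ideal m, A an integral domain that is a smooth V-algebra, and
p a prime ideal of A minimal among the primes containing mA (a generic point of the special fibre of
Spec A over V). Then A_p is a valuation ring, V → A_p is an injective local homomorphism, and every
nonzero element of A_p is a unit of A_p times the image of an element of V, so that V → A_p induces
a bijection on value groups. (The published statement takes A faithfully flat and a semilocalisation
of a smooth V-algebra at finitely many primes; the local ring A_p is then a local ring of the smooth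
algebra itself at such a prime, and faithful flatness follows from the existence of p, so this row
states the smooth case, which carries the whole content.) -/
theorem result
    (V : Type u) [CommRing V] [IsDomain V] [ValuationRing V]
    (A : Type u) [CommRing A] [IsDomain A] [Algebra V A] [Algebra.Smooth V A]
    (p : Ideal A) [p.IsPrime]
    (hp : p ∈ ((IsLocalRing.maximalIdeal V).map (algebraMap V A)).minimalPrimes) :
    ValuationRing (Localization.AtPrime p) ∧
      Function.Injective (algebraMap V (Localization.AtPrime p)) ∧
      IsLocalHom (algebraMap V (Localization.AtPrime p)) ∧
      ∀ x : Localization.AtPrime p, x ≠ 0 →
        ∃ (v : V) (w : (Localization.AtPrime p)ˣ), x = algebraMap V (Localization.AtPrime p) v * w := by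
  exact Groth.Agent.ValSmoothH7.generic_point_special_fibre p hp

end Groth.Agent.S14726
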