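import Groth.Statements.S14727


set_option autoImplicit false
universe u
open ValPrufer

namespace Groth.Agent.S14727

/-- Let R be a semilocal ring (finitely many maximal ideals) and I an ideal of R of co-height zero, i.e.
every prime ideal containing I is maximal. Then the canonical map from the I-adic completion of R to
the product, over the maximal ideals m ⊇ I, of the I-adic completions of the local rings R_m
(equivalently their IR_m-adic completions) is bijective; it is the continuous ring isomorphism of
the source, stated here as bijectivity of the canonical map of completed modules. -/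
theorem result
    (R : Type u) [CommRing R] (hR : Finite (MaximalSpectrum R)) (I : Ideal R)
    (hI : ∀ (p : Ideal R), p.IsPrime → I ≤ p → p.IsMaximal) :
    Function.Bijective (LinearMap.pi (fun m : {m : MaximalSpectrum R // I ≤ m.asIdeal} =>
      AdicCompletion.map I (Algebra.linearMap R (Localization.AtPrime m.1.asIdeal)))) := by
  classical
  haveI := hR
  let ι := {m : MaximalSpectrum R // I ≤ m.asIdeal}
  haveI : Fintype ι := Fintype.ofFinite ι
  let Jm : ℕ → ι → Ideal R := fun n m =>
    Submodule.comap (Algebra.linearMap R (Localization.AtPrime m.1.asIdeal))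
      (I ^ n • ⊤ : Submodule R (Localization.AtPrime m.1.asIdeal))
  have hmem : ∀ n (m : ι) (x : R), x ∈ Jm n m ↔ ∃ s ∉ m.1.asIdeal, s * x ∈ I ^ n := by
    intro n m x
    simp only [Jm, Submodule.mem_comap, Algebra.linearMap_apply, Ideal.smul_top_eq_map,
      Submodule.restrictScalars_mem]
    rw [IsLocalization.algebraMap_mem_map_algebraMap_iff m.1.asIdeal.primeCompl]
    rfl
  have hA : ∀ n x, (∀ m : ι, x ∈ Jm n m) → x ∈ I ^ n := by
    intro n x hx
    have htop : (I ^ n).colon ({x} : Set R) = ⊤ := by
      by_contra hne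
      obtain ⟨m, hm, hle⟩ := Ideal.exists_le_maximal _ hne
      by_cases hIm : I ≤ m
      · obtain ⟨s, hs, hsx⟩ := (hmem n ⟨⟨m, hm⟩, hIm⟩ x).mp (hx _)
        exact hs (hle (Submodule.mem_colon_singleton.mpr hsx))
      · obtain ⟨a, haI, ham⟩ := SetLike.not_le_iff_exists.mp hIm
        refine ham (hm.isPrime.mem_of_pow_mem n (hle (Submodule.mem_colon_singleton.mpr ?_)))
        exact Ideal.mul_mem_right _ _ (Ideal.pow_mem_pow haI n)
    have := Submodule.mem_colon_singleton.mp ((Ideal.eq_top_iff_one _).mp htop)
    rwa [one_smul] at this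
  have hprimes : ∀ n (m : ι), ∀ P : Ideal R, P.IsPrime → Jm n m ≤ P → P = m.1.asIdeal := by
    intro n m P hP hle
    haveI := hP
    haveI := m.1.isMaximal
    have hIn : I ^ n ≤ P := fun x hx => hle ((hmem n m x).mpr ⟨1, m.1.asIdeal.one_notMem,
      by simpa using hx⟩)
    rcases Nat.eq_zero_or_pos n with rfl | hn
    · exact absurd (top_le_iff.mp (by simpa using hIn)) hP.ne_top
    have hIP : I ≤ P := fun x hx => hP.mem_of_pow_mem n (hIn (Ideal.pow_mem_pow hx n))
    have hPmax := hI P hP hIP
    by_contra hne
    obtain ⟨t, htm, htP⟩ := SetLike.not_le_iff_exists.mp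
      (fun h => hne (m.1.isMaximal.eq_of_le hP.ne_top h).symm)
    have hrad : algebraMap R (Localization.AtPrime m.1.asIdeal) t ∈
        ((I ^ n).map (algebraMap R (Localization.AtPrime m.1.asIdeal))).radical := by
      rw [Ideal.radical_eq_sInf]
      refine Ideal.mem_sInf.mpr fun Q hQ => ?_
      obtain ⟨hQle, hQp⟩ := hQ
      haveI := hQp
      have h1 : I ≤ Q.comap (algebraMap R (Localization.AtPrime m.1.asIdeal)) := fun x hx =>
        (Ideal.IsPrime.comap (algebraMap R (Localization.AtPrime m.1.asIdeal))).mem_of_pow_mem n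
          (Ideal.map_le_iff_le_comap.mp hQle (Ideal.pow_mem_pow hx n))
      have h2 : Q.comap (algebraMap R (Localization.AtPrime m.1.asIdeal)) ≤ m.1.asIdeal := by
        intro x hx
        rw [← IsLocalization.AtPrime.to_map_mem_maximal_iff (Localization.AtPrime m.1.asIdeal)
          m.1.asIdeal x]
        exact IsLocalRing.le_maximalIdeal hQp.ne_top hx
      have h3 := (hI _ (Ideal.IsPrime.comap _) h1).eq_of_le m.1.isMaximal.ne_top h2
      exact (h3.ge htm : t ∈ Q.comap _)
    obtain ⟨N, hN⟩ := hrad
    refine htP (hP.mem_of_pow_mem N (hle ?_))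
    simp only [Jm, Submodule.mem_comap, Algebra.linearMap_apply, Ideal.smul_top_eq_map,
      Submodule.restrictScalars_mem, map_pow]
    exact hN
  have hinv : ∀ n (m : ι) (x : R), x ∉ m.1.asIdeal → ∃ u, u * x - 1 ∈ Jm n m := by
    intro n m x hx
    have htop : Ideal.span {x} ⊔ Jm n m = ⊤ := by
      by_contra hne
      obtain ⟨P, hP, hle⟩ := Ideal.exists_le_maximal _ hne
      obtain rfl := hprimes n m P hP.isPrime (le_sup_right.trans hle)
      exact hx (hle (Submodule.mem_sup_left (Ideal.mem_span_singleton_self x)))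
    obtain ⟨a, ha, b, hb, hab⟩ := Submodule.mem_sup.mp ((Ideal.eq_top_iff_one _).mp htop)
    obtain ⟨u, rfl⟩ := Ideal.mem_span_singleton'.mp ha
    refine ⟨u, ?_⟩
    rw [← hab, sub_add_cancel_left, neg_mem_iff]
    exact hb
  have hB : ∀ n (y : ∀ m : ι, Localization.AtPrime m.1.asIdeal), ∃ r : R, ∀ m : ι,
      algebraMap R (Localization.AtPrime m.1.asIdeal) r - y m ∈
        (I ^ n • ⊤ : Submodule R (Localization.AtPrime m.1.asIdeal)) := by
    intro n y
    have hT : ∀ m : ι, ∃ T, T ∉ m.1.asIdeal ∧ ∀ m' ≠ m, T ∈ Jm n m' := by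
      intro m
      haveI := m.1.isMaximal
      have : ∀ m' : ι, ∃ t, t ∉ m.1.asIdeal ∧ (m' ≠ m → t ∈ Jm n m') := by
        intro m'
        by_cases h : m' = m
        · exact ⟨1, m.1.asIdeal.one_notMem, fun h' => absurd h h'⟩
        have : ¬ Jm n m' ≤ m.1.asIdeal := fun hle => h (Subtype.ext (MaximalSpectrum.ext
          (hprimes n m' _ m.1.isMaximal.isPrime hle).symm))
        obtain ⟨t, ht, htm⟩ := SetLike.not_le_iff_exists.mp this
        exact ⟨t, htm, fun _ => ht⟩
      choose t ht ht' using this
      refine ⟨∏ m', t m', ?_, fun m' hm' => Ideal.mem_of_dvd _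
        (Finset.dvd_prod_of_mem t (Finset.mem_univ m')) (ht' m' hm')⟩
      exact (show ∏ m', t m' ∈ m.1.asIdeal.primeCompl from prod_mem fun m' _ => ht m')
    choose T hT hT' using hT
    choose v hv using fun m => hinv n m (T m) (hT m)
    choose a s has using fun m => IsLocalization.exists_mk'_eq m.1.asIdeal.primeCompl (y m)
    choose w hw using fun m => hinv n m (s m : R) (s m).2
    refine ⟨∑ m, a m * w m * v m * T m, fun m => ?_⟩
    have h1 : (∑ m', a m' * w m' * v m' * T m') - a m * w m ∈ Jm n m := by
      rw [← Finset.add_sum_erase _ _ (Finset.mem_univ m), add_sub_right_comm]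
      refine add_mem ?_ (Submodule.sum_mem _ fun m' hm' => Ideal.mul_mem_left _ _
        (hT' m' m (Finset.ne_of_mem_erase hm').symm))
      rw [show a m * w m * v m * T m - a m * w m = a m * w m * (v m * T m - 1) by ring]
      exact Ideal.mul_mem_left _ _ (hv m)
    have h2 : w m * (s m : R) - 1 ∈ Jm n m := hw m
    simp only [Jm, Submodule.mem_comap, Algebra.linearMap_apply, Ideal.smul_top_eq_map,
      Submodule.restrictScalars_mem, map_sub, map_mul, map_one] at h1 h2 ⊢
    have h3 : algebraMap R (Localization.AtPrime m.1.asIdeal) (a m) = y m * algebraMap R _ (s m : R) := by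
      rw [← has m, IsLocalization.mk'_spec]
    have e : algebraMap R (Localization.AtPrime m.1.asIdeal) (∑ m', a m' * w m' * v m' * T m') - y m =
        (algebraMap R _ (∑ m', a m' * w m' * v m' * T m') -
          algebraMap R _ (a m) * algebraMap R _ (w m)) +
        y m * (algebraMap R _ (w m) * algebraMap R _ (s m : R) - 1) := by
      rw [h3]; ring
    rw [e]
    exact add_mem h1 (Ideal.mul_mem_left _ _ h2)
  constructor
  · refine (injective_iff_map_eq_zero _).mpr fun x hx => AdicCompletion.ext fun n => ?_
    obtain ⟨r, hr⟩ := Submodule.mkQ_surjective (I ^ n • ⊤ : Submodule R R) (x.val n)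
    rw [AdicCompletion.val_zero, Pi.zero_apply, ← hr, Submodule.mkQ_apply, Submodule.Quotient.mk_eq_zero,
      smul_eq_mul, Ideal.mul_top]
    refine hA n r fun m => ?_
    have h := congrArg (fun z => (z m).val n) hx
    simp only [LinearMap.pi_apply, AdicCompletion.map_val_apply, ← hr, Submodule.mkQ_apply,
      LinearMap.reduceModIdeal_apply, Pi.zero_apply, AdicCompletion.val_zero,
      Submodule.Quotient.mk_eq_zero] at h
    exact h
  · intro z
    choose y hy using fun n (m : ι) => Submodule.mkQ_surjective
      (I ^ n • ⊤ : Submodule R (Localization.AtPrime m.1.asIdeal)) ((z m).val n)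
    choose r hr using fun n => hB n (y n)
    have hc : ∀ k n, k ≤ n → r k - r n ∈ I ^ k := by
      intro k n hkn
      refine hA k _ fun m => ?_
      have h1 := hr k m
      have h2 : algebraMap R (Localization.AtPrime m.1.asIdeal) (r n) - y n m ∈
          (I ^ k • ⊤ : Submodule R (Localization.AtPrime m.1.asIdeal)) :=
        Submodule.smul_mono (Ideal.pow_le_pow_right hkn) le_rfl (hr n m)
      have h3 : y k m - y n m ∈ (I ^ k • ⊤ : Submodule R (Localization.AtPrime m.1.asIdeal)) := by
        rw [← Submodule.Quotient.eq, ← Submodule.mkQ_apply, ← Submodule.mkQ_apply, hy, ← (z m).prop hkn, ← hy]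
        rfl
      show Algebra.linearMap R (Localization.AtPrime m.1.asIdeal) (r k - r n) ∈
        (I ^ k • ⊤ : Submodule R (Localization.AtPrime m.1.asIdeal))
      rw [map_sub, Algebra.linearMap_apply, Algebra.linearMap_apply]
      have h4 := sub_mem (add_mem h1 h3) h2
      convert h4 using 1
      ring
    refine ⟨AdicCompletion.mk I R ⟨r, fun {k n} hkn => ?_⟩, funext fun m => AdicCompletion.ext fun n => ?_⟩
    · rw [SModEq.sub_mem, smul_eq_mul, Ideal.mul_top]
      exact hc k n hkn
    · simp only [LinearMap.pi_apply, AdicCompletion.map_val_apply, ← hy n m, Submodule.mkQ_apply]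
      exact (Submodule.Quotient.eq _).mpr (hr n m)

end Groth.Agent.S14727
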