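import Groth.Statements.S14730
import Groth.Agent.Lib.PruferH7.Basic
import Groth.Agent.Lib.DimFormula14.Ineq
import Mathlib.RingTheory.KrullDimension.PID
import Mathlib.RingTheory.AlgebraicIndependent.TranscendenceBasis
import Mathlib.Algebra.Field.Subfield.Basic

set_option autoImplicit false
universe u
open ValPrufer

namespace Groth.Agent.S14730

/-- Let R be a semilocal Prüfer domain (an integral domain with finitely many maximal ideals whose
localisations at primes are valuation rings). Then R is the increasing union of subrings that are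
semilocal Prüfer domains of finite Krull dimension; equivalently, every finite subset of R is
contained in such a subring. -/
theorem result
    (R : Type u) [CommRing R] [IsDomain R]
    (hR : ∀ (p : Ideal R) [p.IsPrime], ValuationRing (Localization.AtPrime p))
    (hfin : Finite (MaximalSpectrum R)) (s : Finset R) :
    ∃ R' : Subring R, (↑s : Set R) ⊆ R' ∧
      (∀ (p : Ideal R') [p.IsPrime], ValuationRing (Localization.AtPrime p)) ∧
      Finite (MaximalSpectrum R') ∧ ringKrullDim R' < ⊤ := by
  classical
  let L := FractionRing R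
  let K : Subfield L := Subfield.closure (algebraMap R L '' (↑s : Set R))
  let T : Subring L := (algebraMap R L).range ⊓ K.toSubring
  obtain ⟨hT1, hT2, -⟩ := Groth.Agent.PruferH7.inter_subfield (L := L) R hR hfin K
  have hinj : Function.Injective (algebraMap R L) := IsFractionRing.injective R L
  let f : ↥(T.comap (algebraMap R L)) →+* T :=
    ((algebraMap R L).comp (T.comap (algebraMap R L)).subtype).codRestrict T fun x => x.2
  have hf : Function.Bijective f := by
    refine ⟨fun x y h => Subtype.ext (hinj (congrArg Subtype.val h)), ?_⟩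
    rintro ⟨y, hy⟩
    obtain ⟨a, ha⟩ := hy.1
    subst ha
    exact ⟨⟨a, hy⟩, rfl⟩
  let e : ↥(T.comap (algebraMap R L)) ≃+* T := RingEquiv.ofBijective f hf
  have hsT : ∀ a ∈ s, algebraMap R L a ∈ T := fun a ha => ⟨⟨a, rfl⟩, Subfield.subset_closure ⟨a, ha, rfl⟩⟩
  refine ⟨T.comap (algebraMap R L), fun a ha => hsT a ha, fun p hp => ?_, ?_, ?_⟩
  · rw [Groth.Agent.PruferH7.valuationRing_atPrime_iff]
    intro a b
    obtain ⟨n, u, hu, h⟩ := (Groth.Agent.PruferH7.valuationRing_atPrime_iff (p.comap e.symm.toRingHom)).1 (hT1 _) (e a) (e b)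
    refine ⟨e.symm n, e.symm u, hu, h.imp (fun h => ?_) (fun h => ?_)⟩ <;>
      exact e.injective (by rw [map_mul, map_mul, e.apply_symm_apply, e.apply_symm_apply]; exact h)
  · refine Finite.of_injective (fun m : MaximalSpectrum ↥(T.comap (algebraMap R L)) => (⟨m.asIdeal.comap e.symm.toRingHom,
      @Ideal.comap_isMaximal_of_surjective _ _ _ _ _ _ _ e.symm.toRingHom e.symm.surjective _ m.isMaximal⟩ : MaximalSpectrum T)) ?_
    intro m n h
    exact MaximalSpectrum.ext (Ideal.comap_injective_of_surjective e.symm.toRingHom e.symm.surjective (congrArg MaximalSpectrum.asIdeal h))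
  · rw [ringKrullDim_eq_of_ringEquiv e]
    suffices h : ∀ l : LTSeries (PrimeSpectrum T), l.length ≤ 1 + s.card by
      exact lt_of_le_of_lt (iSup_le fun l => Nat.cast_le.2 (h l)) (WithBot.coe_lt_coe.2 (ENat.coe_lt_top _))
    intro l
    let R0 : Subring T := (Int.castRingHom T).range
    have : IsNoetherianRing R0 := isNoetherianRing_range _
    have hdim0 : ringKrullDim R0 ≤ 1 :=
      (ringKrullDim_le_of_surjective (Int.castRingHom T).rangeRestrict (Int.castRingHom T).rangeRestrict_surjective).trans
        (IsPrincipalIdealRing.ringKrullDim_eq_one ℤ Int.not_isField).le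
    have hw : ∀ i : Fin l.length, ∃ x : T, x ∈ (l i.succ).asIdeal ∧ x ∉ (l i.castSucc).asIdeal := fun i =>
      SetLike.exists_of_lt (l.strictMono Fin.castSucc_lt_succ)
    choose x hx hx' using hw
    let s' : Finset T := s.attach.image fun a => ⟨algebraMap R L a.1, hsT a.1 a.2⟩
    let A : Subalgebra R0 T := Algebra.adjoin R0 ↑(s' ∪ Finset.univ.image x)
    have : Algebra.FiniteType R0 A := (Subalgebra.fg_iff_finiteType A).1 (Subalgebra.fg_adjoin_finset _)
    have hxA : ∀ i, x i ∈ A := fun i => Algebra.subset_adjoin (Finset.mem_coe.2 (Finset.mem_union_right _ (Finset.mem_image_of_mem _ (Finset.mem_univ i))))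
    have hsA : ∀ a ∈ s', a ∈ A := fun a ha => Algebra.subset_adjoin (Finset.mem_coe.2 (Finset.mem_union_left _ ha))
    let S : Set A := (↑) ⁻¹' (↑s' : Set T)
    have htr : Groth.Agent.DimFormula14.tr R0 A ≤ (s.card : ℕ∞) := by
      let B : Subalgebra R0 A := Algebra.adjoin R0 S
      let φ : A →+* L := T.subtype.comp A.val.toRingHom
      have hφ : Function.Injective φ := fun a b h => Subtype.ext (Subtype.ext h)
      have hB : ∀ y ∈ Subring.closure (algebraMap R L '' (↑s : Set R)), y ∈ B.toSubring.map φ := by
        intro y hy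
        refine Subring.closure_le.2 ?_ hy
        rintro _ ⟨a, ha, rfl⟩
        have hmem : (⟨algebraMap R L a, hsT a ha⟩ : T) ∈ s' := Finset.mem_image.2 ⟨⟨a, ha⟩, Finset.mem_attach _ _, rfl⟩
        exact ⟨⟨_, hsA _ hmem⟩, Algebra.subset_adjoin hmem, rfl⟩
      letI iB : CommRing ↥B := B.toCommRing
      have : Algebra.IsAlgebraic B A := ⟨fun a => by
        obtain ⟨y, hy, z, hz, hyz⟩ := Subfield.mem_closure_iff.1 (a : T).2.2
        obtain ⟨y', hy', rfl⟩ := hB y hy
        obtain ⟨z', hz', rfl⟩ := hB z hz
        by_cases hz0 : z' = 0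
        · have : (a : A) = 0 := hφ (by
            show ((a : T) : L) = φ 0
            rw [← hyz, hz0, map_zero, div_zero])
          rw [this]
          exact isAlgebraic_zero
        · have hza : z' * a = y' := hφ (by
            rw [map_mul, show φ a = φ y' / φ z' from hyz.symm, mul_div_cancel₀]
            exact fun h => hz0 (hφ (h.trans φ.map_zero.symm)))
          refine ⟨Polynomial.C (⟨z', hz'⟩ : B) * Polynomial.X - Polynomial.C (⟨y', hy'⟩ : B), fun h => hz0 ?_, ?_⟩
          · have := congrArg (Polynomial.coeff · 1) h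
            simp only [Polynomial.coeff_sub, Polynomial.coeff_C_mul, Polynomial.coeff_X_one, mul_one,
              Polynomial.coeff_C_ne_zero one_ne_zero, sub_zero, Polynomial.coeff_zero] at this
            exact congrArg Subtype.val this
          · simp only [map_sub, map_mul, Polynomial.aeval_C, Polynomial.aeval_X]
            exact sub_eq_zero.2 hza⟩
      have h := Algebra.IsAlgebraic.trdeg_le_cardinalMk R0 (S : Set A)
      refine (OrderHomClass.mono Cardinal.toENat h).trans ?_
      have hcard : Cardinal.mk S ≤ (s.card : Cardinal) := by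
        refine le_trans (Cardinal.mk_le_of_injective (f := fun a : S => (⟨a.1.1, a.2⟩ : (↑s' : Set T)))
          fun a b h => Subtype.ext (Subtype.ext (congrArg (fun z => z.1) h))) ?_
        exact (Cardinal.mk_coe_finset (s := s')).trans_le (Nat.cast_le.2 (Finset.card_image_le.trans (le_of_eq Finset.card_attach)))
      exact (OrderHomClass.mono Cardinal.toENat hcard).trans (le_of_eq (map_natCast _ _))
    let l' : LTSeries (PrimeSpectrum A) := LTSeries.mk l.length (fun i => PrimeSpectrum.comap A.val.toRingHom (l i)) (by
      refine Fin.strictMono_iff_lt_succ.2 fun i => lt_of_le_of_ne ?_ ?_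
      · exact fun a ha => (l.strictMono Fin.castSucc_lt_succ).le ha
      · exact fun h => hx' i ((SetLike.ext_iff.1 (congrArg PrimeSpectrum.asIdeal h) (⟨x i, hxA i⟩ : A)).2 (hx i)))
    let q := l'.last.asIdeal
    let p := q.under R0
    have hq : q.height + _ ≤ p.height + _ := Groth.Agent.DimFormula14.height_add_tr_le R0 A p q
    have h1 : (l'.length : ℕ∞) ≤ q.height :=
      (Order.length_le_height le_rfl).trans_eq (PrimeSpectrum.height_eq_orderHeight l'.last).symm
    have h2 : p.height ≤ 1 := by
      have := (Ideal.height_le_ringKrullDim_of_ne_top (I := p) (Ideal.IsPrime.ne_top inferInstance)).trans hdim0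
      exact_mod_cast this
    have h3 : (l.length : ℕ∞) ≤ ((1 + s.card : ℕ) : ℕ∞) := by
      rw [Nat.cast_add, Nat.cast_one]
      exact h1.trans (le_self_add.trans (hq.trans (add_le_add h2 htr)))
    exact_mod_cast h3

end Groth.Agent.S14730
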