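import Groth.Statements.S14731
import Groth.Agent.Lib.SmoothModelH7.Basic
import Mathlib.RingTheory.Etale.Basic
import Mathlib.Algebra.Algebra.Rat

set_option autoImplicit false
universe u
open ValPrufer

namespace Groth.Agent.S14731

/-- In characteristic zero, every field K generated as a field by a finite set is the fraction field of
a subring A of K of finite type and smooth over the integers. -/
theorem result
    (K : Type u) [Field K] [CharZero K] (s : Finset K)
    (hs : Subfield.closure (↑s : Set K) = ⊤) :
    ∃ A : Subring K, Algebra.FiniteType ℤ A ∧ Algebra.Smooth ℤ A ∧ IsFractionRing A K := by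
  haveI : Algebra.EssFiniteType ℚ K := by
    refine IntermediateField.fg_top_iff.1 ⟨s, ?_⟩
    rw [eq_top_iff]
    intro z _
    have h : Subfield.closure (↑s : Set K) ≤ (IntermediateField.adjoin ℚ (↑s : Set K)).toSubfield :=
      Subfield.closure_le.2 fun x hx => IntermediateField.subset_adjoin _ _ hx
    exact h (hs ▸ Subfield.mem_top z)
  haveI : Algebra.FormallyEtale ℤ ℚ := Algebra.FormallyEtale.of_isLocalization (nonZeroDivisors ℤ)
  haveI : Algebra.FormallySmooth ℤ K := Algebra.FormallySmooth.comp ℤ ℚ K
  obtain ⟨A, h1, h2, h3⟩ := Groth.Agent.SmoothModelH7.exists_smooth_model ℤ K s hs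
  refine ⟨A.toSubring, ?_, ?_, h3⟩
  · exact Algebra.FiniteType.equiv h1 (RingEquiv.refl _ : A ≃+* A.toSubring).toIntAlgEquiv
  · haveI := h2
    exact Algebra.Smooth.of_equiv (RingEquiv.refl _ : A ≃+* A.toSubring).toIntAlgEquiv

end Groth.Agent.S14731
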