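import Groth.Statements.S14733
import Groth.Agent.Lib.FibVal4

set_option autoImplicit false
open CategoryTheory AlgebraicGeometry
universe u
open ValPrufer

namespace Groth.Agent.S14733

/-- Let R be a Prüfer domain (an integral domain whose localisations at primes are valuation rings), X
an irreducible scheme and f : X ⟶ Spec R a dominant morphism of finite type. If the fibre of f over
a point γ of Spec R is nonempty, then it has the same dimension as the fibre over the generic point. -/
theorem result
    (R : Type u) [CommRing R] [IsDomain R]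
    (hR : ∀ (p : Ideal R) [p.IsPrime], ValuationRing (Localization.AtPrime p))
    (X : Scheme.{u}) [IrreducibleSpace X] (f : X ⟶ Spec (CommRingCat.of R))
    [LocallyOfFiniteType f] [QuasiCompact f] [IsDominant f] (γ : Spec (CommRingCat.of R))
    (h0 : Nonempty ↥(f.fiber γ)) :
    topologicalKrullDim ↥(f.fiber γ) =
      topologicalKrullDim ↥(f.fiber (genericPoint (Spec (CommRingCat.of R)))) := by
  have hfb : ∀ x : X, FlatMor.fibreDimAt f x = FlatMor.fibreDimAt f (genericPoint X) := by
    intro x
    let p : Ideal R := (f x : PrimeSpectrum R).asIdeal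
    haveI : p.IsPrime := (f x : PrimeSpectrum R).isPrime
    haveI : IsDomain (Localization.AtPrime p) :=
      IsLocalization.isDomain_of_le_nonZeroDivisors _ p.primeCompl_le_nonZeroDivisors
    haveI : ValuationRing (Localization.AtPrime p) := hR p
    let g : Spec (CommRingCat.of (Localization.AtPrime p)) ⟶ Spec (CommRingCat.of R) :=
      Spec.map (CommRingCat.ofHom (algebraMap R (Localization.AtPrime p)))
    haveI : IsPreimmersion g := IsPreimmersion.of_isLocalization p.primeCompl
    have hsq : IsPullback (Limits.pullback.fst f g) (Limits.pullback.snd f g) f g := IsPullback.of_hasPullback f g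
    have hgx : g (IsLocalRing.closedPoint (Localization.AtPrime p)) = f x :=
      PrimeSpectrum.ext (Localization.AtPrime.comap_maximalIdeal)
    obtain ⟨x', hx'1, hx'2⟩ := Scheme.Pullback.exists_preimage_pullback (f := f) (g := g) x
      (IsLocalRing.closedPoint (Localization.AtPrime p)) hgx.symm
    have hηb : (f (genericPoint X) : PrimeSpectrum R).asIdeal = ⊥ := by
      have h1 : IsGenericPoint (f (genericPoint X)) (Set.univ : Set (Spec (CommRingCat.of R))) := by
        have := (genericPoint_spec X).image f.continuous
        rwa [Set.image_univ, f.denseRange.closure_range] at this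
      have h2 := h1.specializes (y := (⟨⊥, Ideal.isPrime_bot⟩ : PrimeSpectrum R)) trivial
      exact le_bot_iff.1 ((PrimeSpectrum.le_iff_specializes (f (genericPoint X) : PrimeSpectrum R) _).2 h2)
    have hinj : Function.Injective (algebraMap R (Localization.AtPrime p)) :=
      IsLocalization.injective _ p.primeCompl_le_nonZeroDivisors
    obtain ⟨η', hη'1, hη'2⟩ := Scheme.Pullback.exists_preimage_pullback (f := f) (g := g) (genericPoint X)
      (⟨⊥, Ideal.isPrime_bot⟩ : PrimeSpectrum (Localization.AtPrime p)) (by
        refine PrimeSpectrum.ext (hηb.trans ?_)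
        exact ((RingHom.injective_iff_ker_eq_bot _).1 hinj).symm)
    obtain ⟨x'', h1, h2, hmax, hd⟩ := Groth.Agent.FibGen4.exists_isMaxFib (Limits.pullback.snd f g) x'
    have hsp : η' ⤳ x'' := by
      rw [← (Limits.pullback.fst f g).isEmbedding.isInducing.specializes_iff, hη'1]
      exact (genericPoint_spec X).specializes trivial
    have hηid : ((Limits.pullback.snd f g) η' : PrimeSpectrum (Localization.AtPrime p)).asIdeal = ⊥ := by
      rw [hη'2]
    obtain ⟨k1, k2⟩ := Groth.Agent.FibGen4.fibreDimAt_eq_of_valuationRing (Limits.pullback.snd f g) hmax hsp hηid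
    rw [← hx'1, ← Groth.Agent.FibDim14.fibreDimAt_baseChange hsq, ← hd, k1, ← k2,
      Groth.Agent.FibDim14.fibreDimAt_baseChange hsq, hη'1]
  have hgen : f (genericPoint X) = genericPoint (Spec (CommRingCat.of R)) := by
    refine ((genericPoint_spec _).eq ?_).symm
    have := (genericPoint_spec X).image f.continuous
    rwa [Set.image_univ, f.denseRange.closure_range] at this
  obtain ⟨z⟩ := h0
  have hz : f (f.fiberι _ z) = γ := by
    have hm : f.fiberι γ z ∈ Set.range (f.fiberι _) := ⟨z, rfl⟩
    rwa [f.range_fiberι] at hm
  refine le_antisymm ?_ ?_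
  · rw [Groth.Agent.FibGen4.dim_fiber_le_iff]
    intro x hx
    rw [hfb x]
    exact (Groth.Agent.FibGen4.dim_fiber_le_iff f _ _).1 le_rfl _ hgen
  · rw [Groth.Agent.FibGen4.dim_fiber_le_iff]
    intro x hx
    rw [hfb x, ← hfb _]
    exact (Groth.Agent.FibGen4.dim_fiber_le_iff f _ _).1 le_rfl _ hz

end Groth.Agent.S14733
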