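import Groth.Statements.S14735
import Mathlib
import Groth.Agent.Lib.DimClosedH1.Bound

set_option autoImplicit false
universe u
open ValPrufer

namespace Groth.Agent.S14735

section Aux

open IsLocalRing Order

set_option maxHeartbeats 1000000
set_option synthInstance.maxHeartbeats 200000

lemma key {R T : Type u} [CommRing R] [CommRing T] [Algebra R T] [Algebra.FiniteType R T]
    (p q0 : Ideal R) [p.IsPrime] [q0.IsPrime] (P Q : Ideal T) [P.IsPrime] [Q.IsPrime]
    [P.LiesOver p] [Q.LiesOver q0] (htQ : P ≤ Q)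
    (hval : ∀ a b : R, ∃ u ∉ q0, ∃ c, a * u = b * c ∨ b * u = a * c) :
    ∃ d e : ℕ, Algebra.trdeg (R ⧸ p) (T ⧸ P) = (d + e : ℕ) ∧ Algebra.trdeg (R ⧸ q0) (T ⧸ Q) = (e : ℕ) ∧
      (d = 0 → ∀ W : Ideal T, W.IsPrime → P ≤ W → W ≤ Q → W.under R = q0 → W = Q) ∧
      (d ≠ 0 → ∃ W : Ideal T, W.IsPrime ∧ P ≤ W ∧ W < Q ∧ W.under R = q0) ∧
      (2 ≤ d → ∃ W : Ideal T, W.IsPrime ∧ P < W ∧ W < Q) ∧
      (∀ r : Ideal R, r.IsPrime → p ≤ r → r ≤ q0 → ∃ W : Ideal T, W.IsPrime ∧ P ≤ W ∧ W ≤ Q ∧ W.under R = r) := by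
  let R1 := R ⧸ p
  let T1 := T ⧸ P
  let q : Ideal T1 := Q.map (Ideal.Quotient.mk P)
  have hqc : q.comap (Ideal.Quotient.mk P) = Q := by
    rw [Ideal.comap_map_of_surjective _ Ideal.Quotient.mk_surjective, ← RingHom.ker_eq_comap_bot,
      Ideal.mk_ker, sup_eq_left.mpr htQ]
  haveI : q.IsPrime := Ideal.map_isPrime_of_surjective Ideal.Quotient.mk_surjective (by rwa [Ideal.mk_ker])
  let p1 : Ideal R1 := q.under R1
  haveI : q.LiesOver p1 := ⟨rfl⟩
  let A := Localization.AtPrime p1
  let B := Localization.AtPrime q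
  letI : Algebra A B := (Localization.localRingHom p1 q (algebraMap R1 T1) rfl).toAlgebra
  haveI : IsLocalHom (algebraMap A B) :=
    inferInstanceAs (IsLocalHom (Localization.localRingHom p1 q (algebraMap R1 T1) rfl))
  haveI : IsScalarTower R1 A B := IsScalarTower.of_algebraMap_eq fun a => by
    show algebraMap R1 B a = Localization.localRingHom p1 q (algebraMap R1 T1) rfl (algebraMap R1 A a)
    rw [Localization.localRingHom_to_map, ← IsScalarTower.algebraMap_apply]
  haveI : FaithfulSMul R1 T1 := by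
    rw [faithfulSMul_iff_algebraMap_injective, injective_iff_map_eq_zero]
    intro a ha
    obtain ⟨a, rfl⟩ := Ideal.Quotient.mk_surjective a
    rw [Ideal.Quotient.eq_zero_iff_mem, P.over_def p]
    show algebraMap R T a ∈ P
    exact Ideal.Quotient.eq_zero_iff_mem.mp ha
  haveI : IsDomain A := IsLocalization.isDomain_localization (Ideal.primeCompl_le_nonZeroDivisors p1)
  haveI : IsDomain B := IsLocalization.isDomain_localization (Ideal.primeCompl_le_nonZeroDivisors q)
  have hT1B : Function.Injective (algebraMap T1 B) :=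
    IsLocalization.injective _ (M := q.primeCompl) (Ideal.primeCompl_le_nonZeroDivisors q)
  have hR1A : Function.Injective (algebraMap R1 A) :=
    IsLocalization.injective _ (M := p1.primeCompl) (Ideal.primeCompl_le_nonZeroDivisors p1)
  haveI : FaithfulSMul A B := by
    rw [faithfulSMul_iff_algebraMap_injective, injective_iff_map_eq_zero]
    intro a ha
    obtain ⟨⟨r, s⟩, hrs⟩ := IsLocalization.surj p1.primeCompl a
    have h1 : algebraMap R1 B r = 0 := by
      rw [IsScalarTower.algebraMap_apply R1 A B, ← hrs, map_mul, ha, zero_mul]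
    rw [IsScalarTower.algebraMap_apply R1 T1 B] at h1
    have h2 : r = 0 := FaithfulSMul.algebraMap_injective R1 T1
      ((hT1B (h1.trans (map_zero _).symm)).trans (map_zero _).symm)
    rw [h2, map_zero, mul_eq_zero] at hrs
    exact hrs.resolve_right (IsLocalization.map_units A s).ne_zero
  haveI : Algebra.FiniteType R1 T1 := by
    haveI : Algebra.FiniteType R T1 := Algebra.FiniteType.trans (S := T) inferInstance inferInstance
    exact Algebra.FiniteType.of_restrictScalars_finiteType R R1 T1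
  haveI : Algebra.EssFiniteType R1 B := by
    haveI : Algebra.EssFiniteType T1 B := Algebra.EssFiniteType.of_isLocalization B q.primeCompl
    exact Algebra.EssFiniteType.comp R1 T1 B
  haveI : Algebra.EssFiniteType A B := Algebra.EssFiniteType.of_comp R1 A B
  haveI : FaithfulSMul R1 A := (faithfulSMul_iff_algebraMap_injective _ _).mpr hR1A
  haveI : FaithfulSMul T1 B := (faithfulSMul_iff_algebraMap_injective _ _).mpr hT1B
  haveI : Algebra.EssFiniteType A B := inferInstance
  obtain ⟨d, e, P', hPp, hPo, hd, he, hC, hle⟩ := Groth.Agent.DimClosedH1.exists_prime_dim_trdeg A B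
  haveI := hPp
  haveI := hPo
  let φ : T →+* B := (algebraMap T1 B).comp (Ideal.Quotient.mk P)
  have hφQ : ∀ a : T, φ a ∈ maximalIdeal B ↔ a ∈ Q := fun a => by
    rw [show φ a = algebraMap T1 B (Ideal.Quotient.mk P a) from rfl,
      IsLocalization.AtPrime.to_map_mem_maximal_iff B q, ← Ideal.mem_comap, hqc]
  have hsq : ∀ r : R, φ (algebraMap R T r) = algebraMap R1 B (Ideal.Quotient.mk p r) := fun r => by
    rw [IsScalarTower.algebraMap_apply R1 T1 B]
    rfl
  have hp1 : ∀ r : R, algebraMap R1 A (Ideal.Quotient.mk p r) ∈ maximalIdeal A ↔ r ∈ q0 := fun r => by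
    rw [IsLocalization.AtPrime.to_map_mem_maximal_iff A p1, Q.over_def q0]
    show algebraMap R1 T1 (Ideal.Quotient.mk p r) ∈ q ↔ algebraMap R T r ∈ Q
    conv_rhs => rw [← hqc]
    rfl
  have hfracA : ∀ b : A, ∃ t s : R, algebraMap R1 A (Ideal.Quotient.mk p t) ∉ maximalIdeal A ∧
      b * algebraMap R1 A (Ideal.Quotient.mk p t) = algebraMap R1 A (Ideal.Quotient.mk p s) := fun b => by
    obtain ⟨⟨s, t⟩, hb⟩ := IsLocalization.surj p1.primeCompl b
    obtain ⟨s', hs'⟩ := Ideal.Quotient.mk_surjective s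
    obtain ⟨t', ht'⟩ := Ideal.Quotient.mk_surjective (t : R1)
    refine ⟨t', s', ?_, by rw [ht', hs']; exact hb⟩
    rw [ht', IsLocalization.AtPrime.to_map_mem_maximal_iff A p1]
    exact t.2
  have hfracB : ∀ b : B, ∃ t s : T, φ t ∉ maximalIdeal B ∧ b * φ t = φ s := fun b => by
    obtain ⟨⟨s, t⟩, hb⟩ := IsLocalization.surj q.primeCompl b
    obtain ⟨s', hs'⟩ := Ideal.Quotient.mk_surjective s
    obtain ⟨t', ht'⟩ := Ideal.Quotient.mk_surjective (t : T1)
    have e1 : φ t' = algebraMap T1 B t := congrArg (algebraMap T1 B) ht'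
    refine ⟨t', s', ?_, by rw [e1]; exact hb.trans (congrArg (algebraMap T1 B) hs'.symm)⟩
    rw [e1, IsLocalization.AtPrime.to_map_mem_maximal_iff B q]
    exact t.2
  have htrAB : Algebra.trdeg R1 T1 = Algebra.trdeg A B := by
    refine Groth.Agent.DimClosedH1.trdeg_square (fun b => ?_) (fun b => ?_)
    · obtain ⟨⟨s, t⟩, hb⟩ := IsLocalization.surj p1.primeCompl b
      exact ⟨t, s, (IsLocalization.map_units A t).ne_zero, hb⟩
    · obtain ⟨⟨s, t⟩, hb⟩ := IsLocalization.surj q.primeCompl b
      exact ⟨t, s, (IsLocalization.map_units B t).ne_zero, hb⟩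
  haveI : PreValuationRing A := ⟨fun x y => by
    obtain ⟨t, s, ht, hx⟩ := hfracA x
    obtain ⟨t', s', ht', hy⟩ := hfracA y
    let ι : R → A := fun r => algebraMap R1 A (Ideal.Quotient.mk p r)
    have hu : ∀ r, r ∉ q0 → IsUnit (ι r) := fun r hr => IsLocalRing.notMem_maximalIdeal.mp ((hp1 r).not.mpr hr)
    have hut : IsUnit (ι t) := IsLocalRing.notMem_maximalIdeal.mp ht
    have hut' : IsUnit (ι t') := IsLocalRing.notMem_maximalIdeal.mp ht'
    obtain ⟨u, hu', c, hc⟩ := hval (s * t') (s' * t)
    have hm : ∀ a b, ι (a * b) = ι a * ι b := fun a b => by simp [ι]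
    rcases hc with hc | hc
    · obtain ⟨w, hw⟩ := ((hut.mul hut').mul (hu u hu'))
      refine ⟨(↑w⁻¹ : A) * (ι c * ι t' * ι t), Or.inr ?_⟩
      apply w.isUnit.mul_left_cancel
      have h1 := congrArg ι hc
      rw [hm, hm, hm, hm, ← show x * ι t = ι s from hx, ← show y * ι t' = ι s' from hy] at h1
      calc (w : A) * (y * (↑w⁻¹ * (ι c * ι t' * ι t))) = y * (ι c * ι t' * ι t) := by
            rw [mul_left_comm y, ← mul_assoc, Units.mul_inv, one_mul]
        _ = x * ι t * ι t' * ι u := by linear_combination -h1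
        _ = w * x := by rw [hw]; ring
    · obtain ⟨w, hw⟩ := ((hut.mul hut').mul (hu u hu'))
      refine ⟨(↑w⁻¹ : A) * (ι c * ι t' * ι t), Or.inl ?_⟩
      apply w.isUnit.mul_left_cancel
      have h1 := congrArg ι hc
      rw [hm, hm, hm, hm, ← show x * ι t = ι s from hx, ← show y * ι t' = ι s' from hy] at h1
      calc (w : A) * (x * (↑w⁻¹ * (ι c * ι t' * ι t))) = x * (ι c * ι t' * ι t) := by
            rw [mul_left_comm x, ← mul_assoc, Units.mul_inv, one_mul]
        _ = y * ι t' * ι t * ι u := by linear_combination -h1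
        _ = w * y := by rw [hw]; ring⟩
  haveI : ValuationRing A := { }
  haveI : Module.IsTorsionFree A B := inferInstance
  haveI : Module.Flat A B := by
    rw [Module.Flat.flat_iff_torsion_eq_bot_of_isBezout, ← Submodule.isTorsionFree_iff_torsion_eq_bot]
    infer_instance
  have hge : ((d + e : ℕ) : Cardinal) ≤ Algebra.trdeg A B := by
    rw [← hC]
    letI : Algebra (ResidueField A) (B ⧸ P') := Ideal.Quotient.algebraOfLiesOver P' (maximalIdeal A)
    haveI : IsScalarTower A (ResidueField A) (B ⧸ P') := IsScalarTower.of_algebraMap_eq fun a => rfl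
    obtain ⟨ι, w, hw⟩ := exists_isTranscendenceBasis' (A ⧸ maximalIdeal A) (B ⧸ P')
    rw [← hw.cardinalMk_eq_trdeg]
    let ψ : B →ₐ[A] B ⧸ P' := Ideal.Quotient.mkₐ A P'
    have hψ : Function.Surjective ψ := Ideal.Quotient.mk_surjective
    refine (Groth.Agent.DimClosedH1.algebraicIndependent_of_flat ψ (Function.surjInv hψ ∘ w) ?_).cardinalMk_le_trdeg
    rw [show ψ ∘ Function.surjInv hψ ∘ w = w from funext fun i => Function.surjInv_eq hψ (w i)]
    exact hw.1
  haveI hmo : (maximalIdeal B).LiesOver (maximalIdeal A) := ⟨(IsLocalRing.maximalIdeal_comap (algebraMap A B)).symm⟩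
  letI algm : Algebra (A ⧸ maximalIdeal A) (B ⧸ maximalIdeal B) :=
    Ideal.Quotient.algebraOfLiesOver (maximalIdeal B) (maximalIdeal A)
  have hres : Algebra.trdeg (R ⧸ q0) (T ⧸ Q) = (e : ℕ) := by
    rw [← he]
    let a1 : R ⧸ q0 →+* A ⧸ maximalIdeal A := Ideal.Quotient.lift q0
      ((Ideal.Quotient.mk (maximalIdeal A)).comp ((algebraMap R1 A).comp (Ideal.Quotient.mk p)))
      fun r hr => Ideal.Quotient.eq_zero_iff_mem.mpr ((hp1 r).mpr hr)
    have ha1 : Function.Injective a1 := RingHom.lift_injective_of_ker_le_ideal _ _ fun r hr =>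
      (hp1 r).mp (Ideal.Quotient.eq_zero_iff_mem.mp (RingHom.mem_ker.mp hr))
    let a2 : T ⧸ Q →+* B ⧸ maximalIdeal B := Ideal.Quotient.lift Q ((Ideal.Quotient.mk (maximalIdeal B)).comp φ)
      fun r hr => Ideal.Quotient.eq_zero_iff_mem.mpr ((hφQ r).mpr hr)
    have ha2 : Function.Injective a2 := RingHom.lift_injective_of_ker_le_ideal _ _ fun r hr =>
      (hφQ r).mp ((Ideal.Quotient.eq_zero_iff_mem (I := maximalIdeal B)).mp (RingHom.mem_ker.mp hr))
    letI : Algebra (R ⧸ q0) (A ⧸ maximalIdeal A) := RingHom.toAlgebra (R := R ⧸ q0) (S := A ⧸ maximalIdeal A) a1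
    letI : Algebra (T ⧸ Q) (B ⧸ maximalIdeal B) := RingHom.toAlgebra (R := T ⧸ Q) (S := B ⧸ maximalIdeal B) a2
    letI : Algebra (R ⧸ q0) (B ⧸ maximalIdeal B) :=
      RingHom.toAlgebra (R := R ⧸ q0) (S := B ⧸ maximalIdeal B) (a2.comp (algebraMap (R ⧸ q0) (T ⧸ Q)))
    haveI : IsScalarTower (R ⧸ q0) (T ⧸ Q) (B ⧸ maximalIdeal B) := IsScalarTower.of_algebraMap_eq fun _ => rfl
    haveI : IsScalarTower (R ⧸ q0) (A ⧸ maximalIdeal A) (B ⧸ maximalIdeal B) :=
      IsScalarTower.of_algebraMap_eq fun x => by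
      obtain ⟨r, rfl⟩ := Ideal.Quotient.mk_surjective x
      show Ideal.Quotient.mk (maximalIdeal B) (φ (algebraMap R T r)) =
        Ideal.Quotient.mk (maximalIdeal B) (algebraMap A B (algebraMap R1 A (Ideal.Quotient.mk p r)))
      rw [hsq, IsScalarTower.algebraMap_apply R1 A B]
    haveI : FaithfulSMul (R ⧸ q0) (A ⧸ maximalIdeal A) := (faithfulSMul_iff_algebraMap_injective _ _).mpr ha1
    haveI : FaithfulSMul (T ⧸ Q) (B ⧸ maximalIdeal B) := (faithfulSMul_iff_algebraMap_injective _ _).mpr ha2
    haveI : FaithfulSMul (R ⧸ q0) (T ⧸ Q) := by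
      rw [faithfulSMul_iff_algebraMap_injective, injective_iff_map_eq_zero]
      intro a ha
      obtain ⟨a, rfl⟩ := Ideal.Quotient.mk_surjective a
      rw [Ideal.Quotient.eq_zero_iff_mem, Q.over_def q0]
      show algebraMap R T a ∈ Q
      exact Ideal.Quotient.eq_zero_iff_mem.mp ha
    haveI : FaithfulSMul (A ⧸ maximalIdeal A) (B ⧸ maximalIdeal B) := by
      rw [faithfulSMul_iff_algebraMap_injective, injective_iff_map_eq_zero]
      intro a ha
      obtain ⟨a, rfl⟩ := Ideal.Quotient.mk_surjective a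
      rw [Ideal.Quotient.eq_zero_iff_mem, (maximalIdeal B).over_def (maximalIdeal A)]
      show algebraMap A B a ∈ maximalIdeal B
      exact Ideal.Quotient.eq_zero_iff_mem.mp ha
    refine (Groth.Agent.DimClosedH1.trdeg_square (k := A ⧸ maximalIdeal A) (C := B ⧸ maximalIdeal B)
      (fun b => ?_) (fun b => ?_)).trans ?_
    · obtain ⟨b, rfl⟩ := Ideal.Quotient.mk_surjective b
      obtain ⟨t, s, ht, hb⟩ := hfracA b
      refine ⟨Ideal.Quotient.mk q0 t, Ideal.Quotient.mk q0 s, ?_, ?_⟩
      · exact fun h => ht (Ideal.Quotient.eq_zero_iff_mem.mp h)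
      · exact (map_mul (Ideal.Quotient.mk (maximalIdeal A)) _ _).symm.trans
          (congrArg (Ideal.Quotient.mk (maximalIdeal A)) hb)
    · obtain ⟨b, rfl⟩ := Ideal.Quotient.mk_surjective b
      obtain ⟨t, s, ht, hb⟩ := hfracB b
      refine ⟨Ideal.Quotient.mk Q t, Ideal.Quotient.mk Q s, ?_, ?_⟩
      · exact fun h => ht ((Ideal.Quotient.eq_zero_iff_mem (I := maximalIdeal B)).mp h)
      · exact (map_mul (Ideal.Quotient.mk (maximalIdeal B)) _ _).symm.trans
          (congrArg (Ideal.Quotient.mk (maximalIdeal B)) hb)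
    · rfl
  -- primes of `B` and primes of `T` between `P` and `Q`
  have hmono : ∀ W1 W2 : Ideal B, W1 < W2 → W1.comap φ < W2.comap φ := by
    intro W1 W2 h
    refine lt_of_le_of_ne (Ideal.comap_mono h.le) fun he => h.ne ?_
    rw [← IsLocalization.map_under q.primeCompl B W1, ← IsLocalization.map_under q.primeCompl B W2]
    exact congrArg _ (Ideal.comap_injective_of_surjective (Ideal.Quotient.mk P) Ideal.Quotient.mk_surjective he)
  have hPle : ∀ W : Ideal B, P ≤ W.comap φ := fun W a ha => by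
    show algebraMap T1 B (Ideal.Quotient.mk P a) ∈ W
    rw [Ideal.Quotient.eq_zero_iff_mem.mpr ha, map_zero]
    exact zero_mem _
  have hleQ : ∀ W : Ideal B, W ≠ ⊤ → W.comap φ ≤ Q := fun W h a ha =>
    (hφQ a).mp (IsLocalRing.le_maximalIdeal h ha)
  have hmQ : (maximalIdeal B).comap φ = Q := by ext a; exact hφQ a
  have hund : ∀ W : Ideal B, ∀ r : R, r ∈ (W.comap φ).under R ↔
      algebraMap R1 A (Ideal.Quotient.mk p r) ∈ W.under A := fun W r => by
    show φ (algebraMap R T r) ∈ W ↔ algebraMap A B (algebraMap R1 A (Ideal.Quotient.mk p r)) ∈ W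
    rw [hsq, IsScalarTower.algebraMap_apply R1 A B]
  refine ⟨d, e, htrAB.trans (le_antisymm hle hge), hres, ?_, ?_, ?_, ?_⟩
  · intro hd0 W hW hPW hWQ hWo
    let W1 : Ideal T1 := W.map (Ideal.Quotient.mk P)
    have hW1c : W1.comap (Ideal.Quotient.mk P) = W := by
      rw [Ideal.comap_map_of_surjective _ Ideal.Quotient.mk_surjective, ← RingHom.ker_eq_comap_bot,
        Ideal.mk_ker, sup_eq_left.mpr hPW]
    haveI : W1.IsPrime := Ideal.map_isPrime_of_surjective Ideal.Quotient.mk_surjective (by rw [Ideal.mk_ker]; exact hPW)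
    have hdis : Disjoint (q.primeCompl : Set T1) (W1 : Set T1) := by
      rw [Set.disjoint_right]
      intro x hx hx'
      exact hx' (Ideal.map_mono hWQ hx)
    let WB : Ideal B := W1.map (algebraMap T1 B)
    haveI hWp : WB.IsPrime := IsLocalization.isPrime_of_isPrime_disjoint q.primeCompl B W1 inferInstance hdis
    have hWc : WB.comap φ = W := by
      rw [show WB.comap φ = (WB.comap (algebraMap T1 B)).comap (Ideal.Quotient.mk P) from rfl]
      rw [show WB.comap (algebraMap T1 B) = W1 from IsLocalization.under_map_of_isPrime_disjoint q.primeCompl B inferInstance hdis]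
      exact hW1c
    have hIW : Ideal.map (algebraMap A B) (maximalIdeal A) ≤ WB := by
      refine Ideal.map_le_iff_le_comap.mpr fun a ha => ?_
      obtain ⟨t, s, ht, hb⟩ := hfracA a
      have hs : s ∈ (WB.comap φ).under R := by
        rw [hWc, hWo]; exact (hp1 s).mp (hb ▸ Ideal.mul_mem_right _ _ ha)
      rw [hund, ← hb] at hs
      have hs' : algebraMap A B a * algebraMap A B (algebraMap R1 A (Ideal.Quotient.mk p t)) ∈ WB := by
        rw [← map_mul]; exact hs
      exact (hWp.mem_or_mem hs').resolve_right fun h => hWp.ne_top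
        (Ideal.eq_top_of_isUnit_mem _ h ((IsLocalRing.notMem_maximalIdeal.mp ht).map (algebraMap A B)))
    by_contra hne
    have hlt : WB < maximalIdeal B := lt_of_le_of_ne (IsLocalRing.le_maximalIdeal hWp.ne_top) fun h =>
      hne (hWc.symm.trans (by rw [h, hmQ]))
    rw [ringKrullDim_quotient] at hd
    let z0 : PrimeSpectrum.zeroLocus (R := B) (Ideal.map (algebraMap A B) (maximalIdeal A) : Set B) :=
      ⟨⟨WB, hWp⟩, hIW⟩
    let z1 : PrimeSpectrum.zeroLocus (R := B) (Ideal.map (algebraMap A B) (maximalIdeal A) : Set B) :=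
      ⟨⟨maximalIdeal B, inferInstance⟩, IsLocalRing.map_maximalIdeal_le (algebraMap A B)⟩
    have h1 := Order.LTSeries.length_le_krullDim ((RelSeries.singleton _ z1).cons z0 (show z0 < z1 from hlt))
    rw [hd, hd0] at h1
    simp only [RelSeries.cons_length, RelSeries.singleton] at h1
    norm_cast at h1
  · intro hd0
    rw [ringKrullDim_quotient] at hd
    obtain ⟨l, hl⟩ := (Order.le_krullDim_iff (n := d)).mp hd.ge
    let i : Fin (l.length + 1) := ⟨0, by omega⟩
    let j : Fin (l.length + 1) := ⟨l.length, by omega⟩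
    have hij : l i < l j := l.strictMono (Fin.mk_lt_mk.mpr (by omega))
    refine ⟨(l i).1.asIdeal.comap φ, inferInstance, hPle _,
      lt_of_lt_of_le (hmono _ _ (show (l i).1.asIdeal < (l j).1.asIdeal from hij))
        (hleQ _ (l j).1.isPrime.ne_top), ?_⟩
    have hmA : (l i).1.asIdeal.under A = maximalIdeal A :=
      ((IsLocalRing.maximalIdeal.isMaximal A).eq_of_le (Ideal.IsPrime.ne_top inferInstance)
        (Ideal.map_le_iff_le_comap.mp (SetLike.coe_subset_coe.mp (l i).2))).symm
    ext r
    rw [hund, hmA]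
    exact hp1 r
  · intro hd2
    rw [ringKrullDim_quotient] at hd
    obtain ⟨l, hl⟩ := (Order.le_krullDim_iff (n := d)).mp hd.ge
    let i : Fin (l.length + 1) := ⟨0, by omega⟩
    let j : Fin (l.length + 1) := ⟨1, by omega⟩
    let h : Fin (l.length + 1) := ⟨2, by omega⟩
    have hij : l i < l j := l.strictMono (Fin.mk_lt_mk.mpr (by omega))
    have hjh : l j < l h := l.strictMono (Fin.mk_lt_mk.mpr (by omega))
    exact ⟨(l j).1.asIdeal.comap φ, inferInstance,
      lt_of_le_of_lt (hPle _) (hmono _ _ (show (l i).1.asIdeal < (l j).1.asIdeal from hij)),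
      lt_of_lt_of_le (hmono _ _ (show (l j).1.asIdeal < (l h).1.asIdeal from hjh))
        (hleQ _ (l h).1.isPrime.ne_top)⟩
  · intro r hr hpr hrq
    haveI := hr
    let r1 : Ideal R1 := r.map (Ideal.Quotient.mk p)
    have hr1c : r1.comap (Ideal.Quotient.mk p) = r := by
      rw [Ideal.comap_map_of_surjective _ Ideal.Quotient.mk_surjective, ← RingHom.ker_eq_comap_bot,
        Ideal.mk_ker, sup_eq_left.mpr hpr]
    haveI : r1.IsPrime := Ideal.map_isPrime_of_surjective Ideal.Quotient.mk_surjective (by rw [Ideal.mk_ker]; exact hpr)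
    have hdis : Disjoint (p1.primeCompl : Set R1) (r1 : Set R1) := by
      rw [Set.disjoint_right]
      intro x hx hx'
      obtain ⟨x, rfl⟩ := Ideal.Quotient.mk_surjective x
      have hxr : x ∈ r := hr1c ▸ hx
      exact hx' ((IsLocalization.AtPrime.to_map_mem_maximal_iff A p1 (Ideal.Quotient.mk p x)).mp ((hp1 x).mpr (hrq hxr)))
    let rA : Ideal A := r1.map (algebraMap R1 A)
    haveI : rA.IsPrime := IsLocalization.isPrime_of_isPrime_disjoint p1.primeCompl A r1 inferInstance hdis
    obtain ⟨WB, hWle, hWp, hWo⟩ := Ideal.exists_ideal_le_liesOver_of_le (R := A) (S := B) (p := rA)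
      (q := maximalIdeal A) (maximalIdeal B) (IsLocalRing.le_maximalIdeal (Ideal.IsPrime.ne_top inferInstance))
    haveI := hWp
    refine ⟨WB.comap φ, inferInstance, hPle _, hleQ _ hWp.ne_top, ?_⟩
    ext x
    rw [hund, ← hWo.over]
    show Ideal.Quotient.mk p x ∈ rA.comap (algebraMap R1 A) ↔ x ∈ r
    rw [show rA.comap (algebraMap R1 A) = r1 from IsLocalization.under_map_of_isPrime_disjoint p1.primeCompl A inferInstance hdis]
    exact Iff.of_eq (congrArg (x ∈ ·) hr1c)

end Aux


/-- Let R be a Prüfer domain (an integral domain whose localisations at primes are valuation rings) of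
finite Krull dimension and S an R-algebra of finite type. For a prime P of S over p = P ∩ R put δ(P)
= trdeg(S/P over R/p) − height(p), an integer. Then for primes P ⊊ Q of S one has δ(Q) < δ(P), and Q
covers P in the prime spectrum (no prime ideal lies strictly between P and Q) if and only if δ(P) =
δ(Q) + 1. (The published statement is phrased for the points of a scheme of finite type over R, with
the transcendence degree of residue fields and the codimension of the closure of the image point;
this row is the affine case, where these are the transcendence degree of S/P over R/p and the height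
of p.) -/
theorem result
    (R : Type u) [CommRing R] [IsDomain R]
    (hR : ∀ (p : Ideal R) [p.IsPrime], ValuationRing (Localization.AtPrime p))
    (hdim : ringKrullDim R < ⊤)
    (S : Type u) [CommRing S] [Algebra R S] [Algebra.FiniteType R S]
    (P Q : Ideal S) [P.IsPrime] [Q.IsPrime] (hPQ : P < Q) :
    ((Cardinal.toNat (Algebra.trdeg (R ⧸ Q.under R) (S ⧸ Q)) : ℤ) - ((Q.under R).height.toNat : ℤ)
        < (Cardinal.toNat (Algebra.trdeg (R ⧸ P.under R) (S ⧸ P)) : ℤ) - ((P.under R).height.toNat : ℤ)) ∧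
      ((⟨P, inferInstance⟩ : PrimeSpectrum S) ⋖ ⟨Q, inferInstance⟩ ↔ (Cardinal.toNat (Algebra.trdeg (R ⧸ P.under R) (S ⧸ P)) : ℤ) - ((P.under R).height.toNat : ℤ)
        = (Cardinal.toNat (Algebra.trdeg (R ⧸ Q.under R) (S ⧸ Q)) : ℤ) - ((Q.under R).height.toNat : ℤ) + 1) := by
  haveI : Module.IsTorsionFree R (FractionRing R) := inferInstance
  have hfin : ∀ (p : Ideal R) [p.IsPrime], p.height ≠ ⊤ := fun p _ h => by
    have h1 := Ideal.height_le_ringKrullDim_of_ne_top (I := p) (Ideal.IsPrime.ne_top inferInstance)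
    rw [h] at h1
    exact absurd (lt_of_le_of_lt h1 hdim) (lt_irrefl _)
  have hval : ∀ (q : Ideal R) [q.IsPrime] (a b : R), ∃ u ∉ q, ∃ c, a * u = b * c ∨ b * u = a * c := by
    intro q _ a b
    haveI := hR q
    obtain ⟨z, hz | hz⟩ := ValuationRing.cond (algebraMap R (Localization.AtPrime q) a)
      (algebraMap R (Localization.AtPrime q) b)
    all_goals
      obtain ⟨⟨c, u⟩, hcu⟩ := IsLocalization.surj q.primeCompl z
      refine ⟨u, u.2, c, ?_⟩
      have hinj := IsLocalization.injective (Localization.AtPrime q) (M := q.primeCompl)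
        (Ideal.primeCompl_le_nonZeroDivisors q)
    · right
      apply hinj
      rw [map_mul, map_mul, ← hcu, ← hz]; ring
    · left
      apply hinj
      rw [map_mul, map_mul, ← hcu, ← hz]; ring
  let δ : ∀ (W : Ideal S), ℤ := fun W => (Cardinal.toNat (Algebra.trdeg (R ⧸ W.under R) (S ⧸ W)) : ℤ) - ((W.under R).height.toNat : ℤ)
  have hstrict : ∀ (P Q : Ideal S) [P.IsPrime] [Q.IsPrime], P < Q →
      δ Q < δ P ∧ ((∀ W : Ideal S, W.IsPrime → P < W → ¬ W < Q) → δ P = δ Q + 1) := by
    intro P Q _ _ hPQ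
    obtain ⟨d, e, h1, h2, hA, hB, hC, hD⟩ := key (P.under R) (Q.under R) P Q hPQ.le (hval (Q.under R))
    have hP : δ P = (d + e : ℤ) - ((P.under R).height.toNat : ℤ) := by
      simp only [δ]
      rw [h1, Cardinal.toNat_natCast, Nat.cast_add]
    have hQ : δ Q = (e : ℤ) - ((Q.under R).height.toNat : ℤ) := by
      simp only [δ]
      rw [h2, Cardinal.toNat_natCast]
    have hle : P.under R ≤ Q.under R := Ideal.comap_mono hPQ.le
    rcases eq_or_lt_of_le hle with heq | hlt
    · have hd : d ≠ 0 := fun h0 => hPQ.ne (hA h0 P inferInstance le_rfl hPQ.le heq)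
      rw [hP, hQ, heq]
      refine ⟨by omega, fun hcov => ?_⟩
      have : d < 2 := by
        by_contra h
        obtain ⟨W, hW, h3, h4⟩ := hC (not_lt.mp h)
        exact hcov W hW h3 h4
      omega
    · have hh : (P.under R).height.toNat < (Q.under R).height.toNat := by
        haveI : (P.under R).FiniteHeight := ⟨Or.inr (hfin _)⟩
        haveI : (Q.under R).FiniteHeight := ⟨Or.inr (hfin _)⟩
        have h := Ideal.height_strict_mono_of_isPrime_of_isPrime hlt
        obtain ⟨n, hn⟩ := ENat.ne_top_iff_exists.mp (hfin (P.under R))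
        obtain ⟨m, hm⟩ := ENat.ne_top_iff_exists.mp (hfin (Q.under R))
        rw [← hn, ← hm] at h ⊢
        simpa using h
      rw [hP, hQ]
      refine ⟨by omega, fun hcov => ?_⟩
      have hd : d = 0 := by
        by_contra h
        obtain ⟨W, hW, h3, h4, h5⟩ := hB h
        refine hcov W hW (lt_of_le_of_ne h3 fun hPW => hlt.ne ?_) h4
        rw [← h5, hPW]
      have hsucc : (Q.under R).height ≤ (P.under R).height + 1 := by
        rw [(show (Q.under R).height = Order.height (⟨Q.under R, inferInstance⟩ : PrimeSpectrum R) from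
          PrimeSpectrum.height_eq_orderHeight ⟨Q.under R, inferInstance⟩), Order.height_eq_iSup_lt_height]
        refine iSup₂_le fun r hr => ?_
        have hrp : r.asIdeal ≤ P.under R := by
          by_contra hnle
          obtain ⟨a, har, hap⟩ := SetLike.not_le_iff_exists.mp hnle
          have hpr : P.under R ≤ r.asIdeal := fun b hb => by
            obtain ⟨u, hu, c, hc | hc⟩ := hval (Q.under R) a b
            · exfalso
              have : a * u ∈ P.under R := by rw [hc]; exact Ideal.mul_mem_right _ _ hb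
              exact (Ideal.IsPrime.mem_or_mem inferInstance this).elim hap (fun h => hu (hle h))
            · have : b * u ∈ r.asIdeal := by rw [hc]; exact Ideal.mul_mem_right _ _ har
              exact (r.isPrime.mem_or_mem this).resolve_right fun h => hu (hr.le h)
          obtain ⟨W, hW, h3, h4, h5⟩ := hD r.asIdeal r.isPrime hpr hr.le
          refine hcov W hW (lt_of_le_of_ne h3 fun hPW => hap ?_) (lt_of_le_of_ne h4 fun hWQ => ?_)
          · rw [hPW, h5]; exact har
          · rw [hWQ] at h5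
            exact hr.ne (PrimeSpectrum.ext h5.symm)
        rw [← PrimeSpectrum.height_eq_orderHeight r]
        exact add_le_add (Ideal.height_mono hrp) le_rfl
      obtain ⟨n, hn⟩ := ENat.ne_top_iff_exists.mp (hfin (P.under R))
      obtain ⟨m, hm⟩ := ENat.ne_top_iff_exists.mp (hfin (Q.under R))
      rw [← hn, ← hm] at hsucc hh ⊢
      simp only [ENat.toNat_coe] at hh ⊢
      have : m ≤ n + 1 := by exact_mod_cast hsucc
      omega
  refine ⟨(hstrict P Q hPQ).1, ⟨fun h => (hstrict P Q hPQ).2 fun W hW h1 h2 => ?_, fun h => ?_⟩⟩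
  · exact h.2 (c := ⟨W, hW⟩) h1 h2
  · refine ⟨hPQ, fun W h1 h2 => ?_⟩
    have a1 := (hstrict P W.asIdeal h1).1
    have a2 := (hstrict W.asIdeal Q h2).1
    have h' : δ P = δ Q + 1 := h
    omega

end Groth.Agent.S14735
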