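import Groth.Statements.S14734
import Groth.Agent.S14735

set_option autoImplicit false
universe u
open ValPrufer

namespace Groth.Agent.S14734

/-- Let R be a Prüfer domain (an integral domain whose localisations at primes are valuation rings) of
finite Krull dimension and S an R-algebra of finite type. Then S, and every localisation T of S at a
multiplicative subset, is catenary and of finite Krull dimension. (The published statement is for a
scheme X of finite type over R and the spectrum of any semilocalisation of X; catenarity is local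
and finiteness of dimension is checked on a finite affine cover, so this row states the affine case
together with arbitrary localisations.) -/
theorem result
    (R : Type u) [CommRing R] [IsDomain R]
    (hR : ∀ (p : Ideal R) [p.IsPrime], ValuationRing (Localization.AtPrime p))
    (hdim : ringKrullDim R < ⊤)
    (S : Type u) [CommRing S] [Algebra R S] [Algebra.FiniteType R S]
    (M : Submonoid S) (T : Type u) [CommRing T] [Algebra S T] [IsLocalization M T] :
    CAlg.IsCatenary S ∧ ringKrullDim S < ⊤ ∧ CAlg.IsCatenary T ∧ ringKrullDim T < ⊤ := by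
  classical
  obtain ⟨n, π, hπ⟩ := Algebra.FiniteType.iff_quotient_mvPolynomial''.1 ‹Algebra.FiniteType R S›
  obtain ⟨d, hd⟩ : ∃ d : ℕ, ∀ (p : Ideal R) [p.IsPrime], p.height.toNat ≤ d := by
    cases hk : ringKrullDim R with
    | bot =>
      refine ⟨0, fun p _ => ?_⟩
      have h1 := Ideal.height_le_ringKrullDim_of_ne_top (I := p) (Ideal.IsPrime.ne_top inferInstance)
      rw [hk] at h1
      simp at h1
    | coe k =>
      cases k with
      | top => rw [hk] at hdim; simp at hdim
      | coe k =>
        refine ⟨k, fun p _ => ENat.toNat_le_of_le_coe ?_⟩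
        have h1 := Ideal.height_le_ringKrullDim_of_ne_top (I := p) (Ideal.IsPrime.ne_top inferInstance)
        rw [hk] at h1
        exact WithBot.coe_le_coe.1 h1
  let δ : PrimeSpectrum S → ℤ := fun W =>
    (Cardinal.toNat (Algebra.trdeg (R ⧸ W.asIdeal.under R) (S ⧸ W.asIdeal)) : ℤ) - ((W.asIdeal.under R).height.toNat : ℤ)
  have hub : ∀ W, δ W ≤ n := by
    intro W
    have hlow : Algebra.trdeg (R ⧸ W.asIdeal.under R) (S ⧸ W.asIdeal) ≤ (n : Cardinal) := by
      let g : MvPolynomial (Fin n) (R ⧸ W.asIdeal.under R) →ₐ[R ⧸ W.asIdeal.under R] S ⧸ W.asIdeal :=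
        MvPolynomial.aeval fun i => Ideal.Quotient.mk _ (π (MvPolynomial.X i))
      have hg : Function.Surjective g := by
        intro z
        obtain ⟨z, rfl⟩ := Ideal.Quotient.mk_surjective z
        obtain ⟨f, rfl⟩ := hπ z
        refine ⟨MvPolynomial.map (Ideal.Quotient.mk _) f, ?_⟩
        show MvPolynomial.aeval (fun i => Ideal.Quotient.mk W.asIdeal (π (MvPolynomial.X i))) _ = _
        rw [show (Ideal.Quotient.mk (W.asIdeal.under R)) = algebraMap R (R ⧸ W.asIdeal.under R) from rfl,
          MvPolynomial.aeval_map_algebraMap]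
        exact congr($((MvPolynomial.aeval_unique ((Ideal.Quotient.mkₐ R W.asIdeal).comp π)).symm) f)
      have h2 := lift_trdeg_le_of_surjective g hg
      rw [MvPolynomial.trdeg_of_isDomain] at h2
      simp only [Cardinal.lift_id, Cardinal.mk_fin, Cardinal.lift_natCast] at h2
      exact h2
    have := Cardinal.toNat_le_toNat hlow (Cardinal.natCast_lt_aleph0)
    rw [Cardinal.toNat_natCast] at this
    show (_ : ℤ) - _ ≤ _
    omega
  have hlb : ∀ W, -(d : ℤ) ≤ δ W := by
    intro W
    have := hd (W.asIdeal.under R)
    show _ ≤ (_ : ℤ) - _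
    omega
  have hstrict : ∀ P Q : PrimeSpectrum S, P < Q → δ Q + 1 ≤ δ P := fun P Q h => by
    haveI := P.isPrime
    haveI := Q.isPrime
    exact (Groth.Agent.S14735.result R hR hdim S P.asIdeal Q.asIdeal h).1
  have hcov : ∀ P Q : PrimeSpectrum S, P ⋖ Q → δ P = δ Q + 1 := fun P Q h => by
    haveI := P.isPrime
    haveI := Q.isPrime
    exact (Groth.Agent.S14735.result R hR hdim S P.asIdeal Q.asIdeal h.lt).2.1 h
  have hlen : ∀ s : LTSeries (PrimeSpectrum S), δ s.last + s.length ≤ δ s.head ∧
      ((∀ i : Fin s.length, s (Fin.castSucc i) ⋖ s (Fin.succ i)) → δ s.last + s.length = δ s.head) := by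
    intro s
    have key : ∀ i : Fin (s.length + 1), δ (s i) + (i : ℕ) ≤ δ s.head ∧
        ((∀ j : Fin s.length, s (Fin.castSucc j) ⋖ s (Fin.succ j)) → δ (s i) + (i : ℕ) = δ s.head) := by
      intro i
      induction i using Fin.induction with
      | zero => exact ⟨by simp [RelSeries.head], fun _ => by simp [RelSeries.head]⟩
      | succ i ih =>
        have h1 := hstrict (s i.castSucc) (s i.succ) (s.step i)
        simp only [Fin.val_castSucc] at ih
        simp only [Fin.val_succ, Nat.cast_add, Nat.cast_one]
        refine ⟨by have := ih.1; omega, fun hc => ?_⟩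
        have h2 := hcov _ _ (hc i)
        have := ih.2 hc
        omega
    exact key (Fin.last _)
  have hcatS : CAlg.IsCatenary S := by
    refine ⟨fun p q _ => ⟨n + d, fun s _ _ => ?_⟩, fun s t h1 h2 hs ht => ?_⟩
    · have := (hlen s).1
      have := hub s.head
      have := hlb s.last
      omega
    · have e1 := (hlen s).2 hs
      have e2 := (hlen t).2 ht
      rw [h1, h2] at e1
      omega
  have hdimS : ringKrullDim S < ⊤ := by
    refine lt_of_le_of_lt (b := ((n + d : ℕ) : WithBot ℕ∞)) (iSup_le fun s => ?_) (WithBot.coe_lt_coe.2 (ENat.natCast_lt_top _))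
    have := (hlen s).1
    have := hub s.head
    have := hlb s.last
    exact_mod_cast (show s.length ≤ n + d by omega)
  let em : PrimeSpectrum T ↪o PrimeSpectrum S :=
    OrderEmbedding.ofMapLEIff (PrimeSpectrum.comap (algebraMap S T)) fun P Q => by
      refine ⟨fun h => ?_, fun h => Ideal.comap_mono h⟩
      show P.asIdeal ≤ Q.asIdeal
      rw [← IsLocalization.map_under M T P.asIdeal, ← IsLocalization.map_under M T Q.asIdeal]
      exact Ideal.map_mono h
  have hdown : ∀ (P : PrimeSpectrum T) (r : PrimeSpectrum S), r ≤ em P → ∃ R' : PrimeSpectrum T, em R' = r := by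
    intro P r hr
    have hdis : Disjoint (M : Set S) (r.asIdeal : Set S) := by
      have := ((IsLocalization.isPrime_iff_isPrime_disjoint M T P.asIdeal).1 P.isPrime).2
      exact this.mono_right hr
    exact ⟨⟨r.asIdeal.map (algebraMap S T), IsLocalization.isPrime_of_isPrime_disjoint M T _ r.isPrime hdis⟩,
      PrimeSpectrum.ext (IsLocalization.under_map_of_isPrime_disjoint M T r.isPrime hdis)⟩
  have hcovT : ∀ P Q : PrimeSpectrum T, P ⋖ Q → em P ⋖ em Q := fun P Q h => by
    refine ⟨em.lt_iff_lt.2 h.lt, fun r h1 h2 => ?_⟩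
    obtain ⟨R', rfl⟩ := hdown Q r h2.le
    exact h.2 (em.lt_iff_lt.1 h1) (em.lt_iff_lt.1 h2)
  refine ⟨hcatS, hdimS, ⟨fun p q _ => ⟨n + d, fun s _ _ => ?_⟩, fun s t h1 h2 hs ht => ?_⟩, ?_⟩
  · have := (hlen (s.map em em.strictMono)).1
    have := hub (s.map em em.strictMono).head
    have := hlb (s.map em em.strictMono).last
    have hl : (s.map em em.strictMono).length = s.length := rfl
    omega
  · exact hcatS.2 (s.map em em.strictMono) (t.map em em.strictMono)
      (by simp [h1]) (by simp [h2]) (fun i => hcovT _ _ (hs i)) (fun i => hcovT _ _ (ht i))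
  · exact lt_of_le_of_lt (Order.krullDim_le_of_strictMono em em.strictMono) hdimS

end Groth.Agent.S14734
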