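import Groth.Statements.S14737
import Groth.Agent.Lib.BLTorsH7.Main
import Groth.Agent.Lib.RegLoc.Basic
-- import your own Groth.Agent.* helpers here

set_option autoImplicit false
universe u
open CategoryTheory MonoidalCategory CartesianMonoidalCategory MonObj AlgebraicGeometry
open ValPrufer

namespace Groth.Agent.S14737
set_option linter.style.haveILetI false

/-- Let R be a regular local ring with fraction field K, r ∈ R, R̂ the r-adic completion of R, and G a
reductive R-group scheme. Assume the Grothendieck–Serre statement for R and G: every G-torsor for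
the fppf topology over Spec R that has a K-point has a section. Then G(R̂[1/r]) = G(R̂) · G(R[1/r]):
every point g of G over R̂[1/r] is the product, in the group of R̂[1/r]-points, of the restriction
of an R̂-point g₂ and the restriction of an R[1/r]-point g₁; the product is written through the pair
morphism h = (g₂, g₁) into G ×_R G followed by the multiplication of G. (The published statement is
the implication from the Grothendieck–Serre conjecture; only its instance for this R and this G
enters the proof, so that instance is the hypothesis here.) -/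
theorem result (R : Type u) [CommRing R] [IsRegularLocalRing R] (r : R)
    (G : Over (Spec (CommRingCat.of R))) [GrpObj G] (hG : Red.IsReductive G)
    (hGS : ∀ (X : Over (Spec (CommRingCat.of R))) (a : AlgGrp.Action G X),
      NonAbH1.IsTorsorFor Scheme.fppfPrecoverage a →
      NonAbH1.HasSectionOver X (Spec.map (CommRingCat.ofHom (algebraMap R (FractionRing R)))) →
      NonAbH1.HasSectionOver X (𝟙 (Spec (CommRingCat.of R))))
    (g : Spec (CommRingCat.of (Localization.Away
            (algebraMap R (AdicCompletion (Ideal.span {r}) R) r))) ⟶ G.left)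
    (hg : g ≫ G.hom = Spec.map (CommRingCat.ofHom (algebraMap R (Localization.Away
            (algebraMap R (AdicCompletion (Ideal.span {r}) R) r))))) :
    ∃ (g₁ : Spec (CommRingCat.of (Localization.Away r)) ⟶ G.left)
      (g₂ : Spec (CommRingCat.of (AdicCompletion (Ideal.span {r}) R)) ⟶ G.left)
      (h : Spec (CommRingCat.of (Localization.Away
            (algebraMap R (AdicCompletion (Ideal.span {r}) R) r))) ⟶ (G ⊗ G).left),
      g₁ ≫ G.hom = Spec.map (CommRingCat.ofHom (algebraMap R (Localization.Away r))) ∧
      g₂ ≫ G.hom = Spec.map (CommRingCat.ofHom (algebraMap R (AdicCompletion (Ideal.span {r}) R))) ∧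
      h ≫ (fst G G).left = Spec.map (CommRingCat.ofHom (algebraMap (AdicCompletion (Ideal.span {r}) R)
                (Localization.Away (algebraMap R (AdicCompletion (Ideal.span {r}) R) r)))) ≫ g₂ ∧
      h ≫ (snd G G).left = Spec.map (CommRingCat.ofHom (Localization.awayMap
                (algebraMap R (AdicCompletion (Ideal.span {r}) R)) r)) ≫ g₁ ∧
      g = h ≫ (μ[G]).left := by
  haveI : IsDomain R := Groth.Agent.RegLoc.isDomain R
  haveI : IsAffineHom G.hom := hG.1
  haveI : Smooth G.hom := hG.2.1
  by_cases hr : r = 0
  · subst hr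
    have h0 : ∀ (A : Type u) [CommRing A] (a : A), a = 0 →
        IsEmpty ↥(Spec (CommRingCat.of (Localization.Away a))) := fun A _ a ha => by
      haveI : Subsingleton (Localization.Away a) :=
        IsLocalization.subsingleton (M := Submonoid.powers a) (ha ▸ Submonoid.mem_powers a)
      exact inferInstanceAs (IsEmpty (PrimeSpectrum (Localization.Away a)))
    haveI := h0 _ (algebraMap R (AdicCompletion (Ideal.span {(0 : R)}) R) 0) (map_zero _)
    haveI := h0 _ (0 : R) rfl
    let g₂ : Groth.Agent.BLTorsH7.sp (R := R) (AdicCompletion (Ideal.span {(0 : R)}) R) ⟶ G := 1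
    exact ⟨isInitialOfIsEmpty.to _, g₂.left, isInitialOfIsEmpty.to _, isInitialOfIsEmpty.hom_ext _ _, Over.w g₂,
      isInitialOfIsEmpty.hom_ext _ _, isInitialOfIsEmpty.hom_ext _ _, isInitialOfIsEmpty.hom_ext _ _⟩
  let C := AdicCompletion (Ideal.span {r}) R
  haveI : Module.Flat R C := AdicCompletion.flat_of_isNoetherian _
  obtain ⟨g₁, g₂, hg'⟩ := Groth.Agent.BLTorsH7.exists_decomposition r C hr
    (Groth.Agent.BLTorsH7.exists_scalar_completion r) (AdicCompletion.evalOneₐ (Ideal.span {r})) hGS
    (Over.homMk g hg : Groth.Agent.BLTorsH7.sp (R := R) (Groth.Agent.BLTorsH7.Cr r C) ⟶ G)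
  let a := Groth.Agent.BLTorsH7.spHom (IsScalarTower.toAlgHom R C (Groth.Agent.BLTorsH7.Cr r C)) ≫ g₂
  let b := Groth.Agent.BLTorsH7.spHom (Groth.Agent.BLTorsH7.locMap r C) ≫ g₁
  refine ⟨g₁.left, g₂.left, (lift a b).left, Over.w g₁, Over.w g₂, ?_, ?_, ?_⟩
  · rw [← Over.comp_left, lift_fst]
    rfl
  · rw [← Over.comp_left, lift_snd]
    show Spec.map _ ≫ g₁.left = _
    refine congrArg (fun k => Spec.map (CommRingCat.ofHom k) ≫ g₁.left) ?_
    exact IsLocalization.ringHom_ext (Submonoid.powers r) (RingHom.ext fun x => by
      simp [Groth.Agent.BLTorsH7.locMap, Localization.awayMap, IsLocalization.Away.map,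
        IsScalarTower.algebraMap_apply R C (Groth.Agent.BLTorsH7.Cr r C)]
      rfl)
  · rw [← Over.comp_left]
    exact congrArg CommaMorphism.left hg'

end Groth.Agent.S14737
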