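import Groth.Statements.S14738
import Groth.Agent.Lib.PruferH7.Basic
import Mathlib.RingTheory.Ideal.Height
import Mathlib.RingTheory.Localization.Away.Basic
import Mathlib.RingTheory.Spectrum.Maximal.Basic

set_option autoImplicit false
universe u
open ValPrufer

namespace Groth.Agent.S14738

/-- Let R be a semilocal Prüfer domain (an integral domain with finitely many maximal ideals whose
localisations at primes are valuation rings) of finite Krull dimension, and m a maximal ideal of R.
Then there is a ∈ R with V(a) = {m}, i.e. m is the only prime ideal containing a, and there is b ∉ m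
such that R[1/b] is the localisation R_m (every element outside m becomes invertible after inverting
b); consequently the spectra of the local rings R_m form a Zariski open covering of Spec R. (The
published remark assumes positive Krull dimension to construct a; for R a field the assertions hold
with a = 0 and b = 1. It also takes b to be the product of the elements a_n chosen in the same way
for the other maximal ideals n; that choice fails as soon as a non-maximal prime lies in another
maximal ideal but not in m, e.g. for the intersection of two independent rank-two valuation rings of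
a field, so this row asserts only that some such b exists.) -/
theorem result
    (R : Type u) [CommRing R] [IsDomain R]
    (hR : ∀ (p : Ideal R) [p.IsPrime], ValuationRing (Localization.AtPrime p))
    (hfin : Finite (MaximalSpectrum R)) (hdim : ringKrullDim R < ⊤)
    (m : Ideal R) [m.IsMaximal] :
    (∃ a : R, ∀ (p : Ideal R), p.IsPrime → (a ∈ p ↔ p = m)) ∧
      ∃ b : R, b ∉ m ∧ IsLocalization.AtPrime (Localization.Away b) m := by
  classical
  have hcomp : ∀ (M : Ideal R) [M.IsPrime] (p q : Ideal R), p.IsPrime → q.IsPrime → p ≤ M → q ≤ M → p ≤ q ∨ q ≤ p := by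
    intro M _ p q hp hq hpM hqM
    by_contra hc
    simp only [not_or, SetLike.not_le_iff_exists] at hc
    obtain ⟨⟨x, hxp, hxq⟩, y, hyq, hyp⟩ := hc
    obtain ⟨n, s, hs, e | e⟩ := (Groth.Agent.PruferH7.valuationRing_atPrime_iff M).1 (hR M) x y
    · exact (hq.mem_or_mem (e ▸ q.mul_mem_left n hyq : s * x ∈ q)).elim (fun h => hs (hqM h)) hxq
    · exact (hp.mem_or_mem (e ▸ p.mul_mem_left n hxp : s * y ∈ p)).elim (fun h => hs (hpM h)) hyp
  have hspec : Finite (PrimeSpectrum R) := by
    choose M hM hle using fun p : PrimeSpectrum R => p.asIdeal.exists_le_maximal p.2.ne_top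
    obtain ⟨N, hN⟩ : ∃ N : ℕ, ∀ p : PrimeSpectrum R, p.asIdeal.height ≤ (N : ℕ∞) := by
      have h0 := ringKrullDim_nonneg_of_nontrivial (R := R)
      obtain ⟨d, hd⟩ := WithBot.ne_bot_iff_exists.1 (ne_bot_of_gt (lt_of_lt_of_le (WithBot.bot_lt_coe (0 : ℕ∞)) h0))
      obtain ⟨N, hN⟩ := ENat.ne_top_iff_exists.1 (show d ≠ ⊤ by rintro rfl; rw [← hd] at hdim; exact lt_irrefl _ hdim)
      refine ⟨N, fun p => ?_⟩
      have := Ideal.height_le_ringKrullDim_of_ne_top (I := p.asIdeal) p.2.ne_top
      rw [← hd, ← hN] at this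
      exact_mod_cast this
    refine Finite.of_injective (β := MaximalSpectrum R × Fin (N + 1))
      (fun p => (⟨M p, hM p⟩, ⟨p.asIdeal.height.toNat, Nat.lt_succ_of_le (ENat.toNat_le_of_le_coe (hN p))⟩)) fun p q h => ?_
    simp only [Prod.mk.injEq, MaximalSpectrum.mk.injEq, Fin.mk.injEq] at h
    have hfin : ∀ r : PrimeSpectrum R, r.asIdeal.height ≠ ⊤ := fun r => ne_top_of_le_ne_top (ENat.coe_ne_top N) (hN r)
    have hh : p.asIdeal.height = q.asIdeal.height := by
      rw [← ENat.coe_toNat (hfin p), ← ENat.coe_toNat (hfin q), h.2]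
    haveI := (hM p).isPrime
    have key : ∀ r r' : PrimeSpectrum R, r.asIdeal.height = r'.asIdeal.height → r.asIdeal ≤ r'.asIdeal → r = r' := by
      intro r r' hrr hle'
      by_contra hne
      have hlt : r.asIdeal < r'.asIdeal := lt_of_le_of_ne hle' fun e => hne (PrimeSpectrum.ext e)
      have : r.asIdeal.FiniteHeight := ⟨Or.inr (hfin r)⟩
      have := Ideal.height_strict_mono_of_isPrime hlt
      exact this.ne hrr
    rcases hcomp (M p) p.asIdeal q.asIdeal p.2 q.2 (hle p) (h.1 ▸ hle q) with h' | h'
    · exact key p q hh h'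
    · exact (key q p hh.symm h').symm
  cases nonempty_fintype (PrimeSpectrum R)
  constructor
  · have : ¬ (m : Set R) ⊆ ⋃ q ∈ (↑(Finset.univ.filter fun q : PrimeSpectrum R => q.asIdeal ≠ m) : Set (PrimeSpectrum R)), (q.asIdeal : Set R) := by
      intro h
      obtain ⟨q, hq, hmq⟩ := (Ideal.subset_union_prime (f := PrimeSpectrum.asIdeal)
        ⟨⊥, Ideal.isPrime_bot⟩ ⟨⊥, Ideal.isPrime_bot⟩ fun q _ _ _ => q.2).1 h
      exact (Finset.mem_filter.1 hq).2 ((‹m.IsMaximal›.eq_of_le q.2.ne_top hmq).symm)
    obtain ⟨a, ha, ha'⟩ := Set.not_subset.1 this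
    refine ⟨a, fun p hp => ⟨fun h => by_contra fun hpm => ha' ?_, fun h => h ▸ ha⟩⟩
    exact Set.mem_biUnion (x := (⟨p, hp⟩ : PrimeSpectrum R)) (Finset.mem_coe.2 (Finset.mem_filter.2 ⟨Finset.mem_univ _, hpm⟩)) h
  · have hex : ∀ q : PrimeSpectrum R, ∃ y : R, y ∉ m ∧ (¬ q.asIdeal ≤ m → y ∈ q.asIdeal) := fun q => by
      by_cases h : q.asIdeal ≤ m
      · exact ⟨1, (Ideal.ne_top_iff_one m).1 Ideal.IsPrime.ne_top', fun h' => absurd h h'⟩
      · obtain ⟨y, hy, hym⟩ := SetLike.not_le_iff_exists.1 h
        exact ⟨y, hym, fun _ => hy⟩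
    choose y hy hyq using hex
    have hb : ∏ q, y q ∉ m := fun h => by
      obtain ⟨q, -, hq⟩ := (Ideal.IsPrime.prod_mem_iff).1 h
      exact hy q hq
    refine ⟨∏ q, y q, hb, ?_⟩
    have hle : Submonoid.powers (∏ q, y q) ≤ m.primeCompl := Submonoid.powers_le.2 hb
    refine IsLocalization.of_le (Submonoid.powers (∏ q, y q)) m.primeCompl hle fun x hx => ?_
    by_contra hu
    obtain ⟨P, hP, hPx⟩ := exists_max_ideal_of_mem_nonunits hu
    have hPq := (IsLocalization.isPrime_iff_isPrime_disjoint (Submonoid.powers (∏ q, y q)) (Localization.Away (∏ q, y q)) P).1 hP.isPrime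
    let q0 : PrimeSpectrum R := ⟨P.comap (algebraMap R _), hPq.1⟩
    by_cases h : q0.asIdeal ≤ m
    · exact hx (h hPx)
    · refine Set.disjoint_left.1 hPq.2 (Submonoid.mem_powers _) ?_
      exact Ideal.mem_of_dvd _ (Finset.dvd_prod_of_mem y (Finset.mem_univ q0)) (hyq q0 h)

end Groth.Agent.S14738
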