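import Groth.Statements.S14741
import Groth.Agent.Lib.CohFound.Qcqs
import Groth.Agent.Lib.CohFound.HHBridge
import Groth.Agent.Lib.ProjSpace.Basic

set_option autoImplicit false
universe u
open CategoryTheory AlgebraicGeometry
open ValPrufer

namespace Groth.Agent.S14741

/-- Let R be a semilocal Prüfer domain (an integral domain with finitely many maximal ideals whose
localisations at primes are valuation rings) of finite Krull dimension, m ≥ 1, X a closed subscheme
of projective (m-1)-space over R which is flat over R, and F a finitely presented (equivalently,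
coherent) O_X-module. Then H^q(X, F) = 0 for all q > m. -/
theorem result
    (R : Type u) [CommRing R] [IsDomain R]
    (hR : ∀ (p : Ideal R) [p.IsPrime], ValuationRing (Localization.AtPrime p))
    (hfin : Finite (MaximalSpectrum R)) (hdim : ringKrullDim R < ⊤)
    (m : ℕ) (hm : 1 ≤ m) (X : Scheme.{u}) (ι : X ⟶ CohB1.ProjSpace (m - 1) R) [IsClosedImmersion ι]
    [Flat (ι ≫ CohB1.ProjSpace.toSpec (m - 1) R)]
    (F : X.Modules) (hF : CohB1.IsFP F) (q : ℕ) (hq : m < q) :
    Subsingleton (Coh.HH X F q) := by
  have : X.IsSeparated := by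
    open CategoryTheory CategoryTheory.Limits in
    exact ⟨by
      rw [show terminal.from X = (ι ≫ CohB1.ProjSpace.toSpec (m - 1) R) ≫ terminal.from _ from terminal.hom_ext _ _]
      infer_instance⟩
  haveI : Coh.IsQCoh F := by
    obtain ⟨σ, hσ⟩ := hF.exists_quasicoherentData
    exact σ.isQuasicoherent
  let U : Fin (m - 1 + 1) → X.Opens := fun j =>
    ι ⁻¹ᵁ (Groth.Agent.ProjSpace.chart (m - 1) R j).opensRange
  have hcov : (⊤ : X.Opens) = ⨆ j, U j := le_antisymm (fun x _ => by
    obtain ⟨j, hj⟩ := Groth.Agent.ProjSpace.exists_mem_chart (m - 1) R (ι x)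
    exact TopologicalSpace.Opens.mem_iSup.2 ⟨j, hj⟩) le_top
  have h := Groth.Agent.CohFound.subsingleton_hc_iSup_affine F (fun V W hV hW => hV.inf hW) (m - 1 + 1)
    U (fun j => (isAffineOpen_opensRange _).preimage ι) q (by omega)
  rw [← hcov] at h
  exact (Groth.Agent.CohFound.subsingleton_HH_iff F q).2 h

end Groth.Agent.S14741
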