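import Groth.Statements.S14742
import Groth.Agent.Lib.GlobalFP7.Prufer

set_option autoImplicit false
universe u
open ValPrufer

namespace Groth.Agent.S14742

/-- Let R be a Prüfer domain (an integral domain whose localisations at primes are valuation rings) and
A a finitely presented R-algebra. Then A is a coherent ring: every finitely generated ideal I of A
is finitely presented as an A-module. -/
theorem result
    (R : Type u) [CommRing R] [IsDomain R]
    (hR : ∀ (p : Ideal R) [p.IsPrime], ValuationRing (Localization.AtPrime p))
    (A : Type u) [CommRing A] [Algebra R A] [Algebra.FinitePresentation R A]
    (I : Ideal A) (hI : I.FG) : Module.FinitePresentation A I := by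
  exact Groth.Agent.GlobalFP7.finitePresentation_ideal_prufer R hR A I hI

end Groth.Agent.S14742
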