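import Groth.Statements.S14743


set_option autoImplicit false
universe u
open CategoryTheory MonoidalCategory CartesianMonoidalCategory MonObj GrpObj AlgebraicGeometry
open AlgGrp

namespace Groth.Agent.S14743

/-- Over an algebraically closed field k let L, G, B be commutative k-group schemes, i : L → G and π : G
→ B homomorphisms with i the kernel of π, and suppose that every k-morphism B × B → L is constant
(factors through a k-point of L). If π admits a section which is a morphism of k-schemes, then it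
admits a section which is a homomorphism, so the extension splits. (The published statement is for
algebraic groups, that is, of finite type over k; finiteness plays no role and is not assumed here.) -/
theorem result (k : Type u) [Field k] [IsAlgClosed k]
    (L G B : Over (Spec (CommRingCat.of k))) [GrpObj L] [GrpObj G] [GrpObj B]
    [IsCommMonObj L] [IsCommMonObj G] [IsCommMonObj B]
    (i : L ⟶ G) [IsMonHom i] (π : G ⟶ B) [IsMonHom π] (hker : AlgGrp.IsKernel i π)
    (hconst : ∀ f : B ⊗ B ⟶ L, ∃ l : 𝟙_ (Over (Spec (CommRingCat.of k))) ⟶ L, f = toUnit (B ⊗ B) ≫ l)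
    (s : B ⟶ G) (hs : s ≫ π = 𝟙 B) :
    ∃ s' : B ⟶ G, IsMonHom s' ∧ s' ≫ π = 𝟙 B := by
  let s0 : B ⟶ G := s * (toUnit B ≫ (η[B] ≫ s)⁻¹)
  have k0 : s0 ≫ π = 𝟙 B := by
    simp only [s0, MonObj.mul_comp, GrpObj.inv_comp, Category.assoc, hs]
    have e : η[B] = 1 := by simp [Hom.one_def]
    simp [e]
  have k1 : η[B] ≫ s0 = 1 := by
    simp only [s0, MonObj.comp_mul, ← Category.assoc, comp_toUnit]
    simp
  let m : B ⊗ B ⟶ B := μ[B]
  let f : B ⊗ B ⟶ G := (m ≫ s0) * ((fst B B ≫ s0) * (snd B B ≫ s0))⁻¹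
  have k2 : f ≫ π = toUnit (B ⊗ B) ≫ η[B] := by
    simp only [f, MonObj.mul_comp, GrpObj.inv_comp, Category.assoc, k0, Category.comp_id, m]
    have k3 : μ[B] = fst B B * snd B B := by simp [Hom.mul_def, lift_fst_snd]
    rw [k3, mul_inv_cancel]; simp [Hom.one_def]
  obtain ⟨l, hl⟩ := hconst (hker.lift f (toUnit _) k2)
  have k4 : toUnit (B ⊗ B) ≫ l ≫ i = f := by
    rw [← Category.assoc, ← hl]; exact hker.lift_fst f (toUnit _) k2
  have k5 : lift η[B] η[B] ≫ f = 1 := by
    simp only [f, m, MonObj.comp_mul, GrpObj.comp_inv, ← Category.assoc, lift_fst, lift_snd]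
    have k3 : lift η[B] η[B] ≫ μ[B] = η[B] := by
      have e : η[B] = 1 := by simp [Hom.one_def]
      rw [e, ← Hom.mul_def, _root_.mul_one]
    rw [k3, k1]; simp
  have k6 : l ≫ i = 1 := by
    rw [← k5, ← k4, ← Category.assoc, Subsingleton.elim (lift η[B] η[B] ≫ toUnit (B ⊗ B)) (𝟙 _),
      Category.id_comp]
  have k7 : f = 1 := by rw [← k4, k6, MonObj.comp_one]
  refine ⟨s0, ⟨?_, ?_⟩, k0⟩
  · rw [k1]; simp [Hom.one_def]
  · have k8 := mul_inv_eq_one.1 k7
    show μ[B] ≫ s0 = _
    rw [k8, Hom.mul_def]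
    simp

end Groth.Agent.S14743
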