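import Groth.Statements.S14746
import Groth.Agent.Lib.LangFix19.Basic
-- import your own Groth.Agent.* helpers here

set_option autoImplicit false
universe u
open CategoryTheory MonoidalCategory CartesianMonoidalCategory MonObj GrpObj AlgebraicGeometry CategoryTheory.Limits
open AlgGrp

namespace Groth.Agent.S14746

set_option linter.style.haveILetI false
set_option backward.isDefEq.respectTransparency.types false


/-- Over an algebraically closed field k let G be a k-group scheme of finite type, i : H → G a smooth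
connected affine closed subgroup scheme, and X = G/H the quotient with its G-action, base point o
and orbit map G → X. Let σ be an endomorphism of G restricting to a surjective endomorphism τ of H
and compatible with an endomorphism φ of X under the orbit map, and suppose σ has only finitely many
fixed k-points. Then the number of fixed k-points of σ equals the number of fixed k-points of τ
times the number of fixed k-points of φ. (The published statement allows any subgroup H and any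
restriction τ; for the square roots of unity inside the multiplicative group and the cube map the
count fails, and the published proof applies the surjectivity of the Lang map h ↦ h⁻¹τ(h) of H, so H
is taken smooth, connected and affine and τ surjective here.) -/
theorem result (k : Type u) [Field k] [IsAlgClosed k]
    (G H : Over (Spec (CommRingCat.of k))) [GrpObj G] [GrpObj H] [QuasiCompact G.hom] [LocallyOfFiniteType G.hom]
    (i : H ⟶ G) [IsMonHom i] [IsClosedImmersion i.left] [Smooth H.hom] [ConnectedSpace ↥H.left] [IsAffine H.left]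
    (X : Over (Spec (CommRingCat.of k))) (a : AlgGrp.Action G X) (o : 𝟙_ (Over (Spec (CommRingCat.of k))) ⟶ X)
    (hX : AGF.IsQuotient i X a o)
    (σ : G ⟶ G) [IsMonHom σ] (τ : H ⟶ H) [IsMonHom τ] (hτ : τ ≫ i = i ≫ σ) (hτs : Surjective τ.left)
    (φ : X ⟶ X) (hφ : a.orbitMap o ≫ φ = σ ≫ a.orbitMap o)
    (hfin : Finite {g : 𝟙_ (Over (Spec (CommRingCat.of k))) ⟶ G // g ≫ σ = g}) :
    Nat.card {g : 𝟙_ (Over (Spec (CommRingCat.of k))) ⟶ G // g ≫ σ = g} =
      Nat.card {h : 𝟙_ (Over (Spec (CommRingCat.of k))) ⟶ H // h ≫ τ = h} *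
        Nat.card {x : 𝟙_ (Over (Spec (CommRingCat.of k))) ⟶ X // x ≫ φ = x} := by
  classical
obtain ⟨hlft, -, hsurj, hP⟩ := hX
haveI := hlft
set q := a.orbitMap o with hq
have key : ∀ (g : 𝟙_ (Over (Spec (CommRingCat.of k))) ⟶ G) (h : 𝟙_ _ ⟶ H), lift g h ≫ (G ◁ i) ≫ μ[G] = g * (h ≫ i) := fun g h => by
  rw [lift_whiskerLeft_assoc, Hom.mul_def]
have inv : ∀ (g : 𝟙_ (Over (Spec (CommRingCat.of k))) ⟶ G) (h : 𝟙_ _ ⟶ H), (g * (h ≫ i)) ≫ q = g ≫ q := fun g h => by
  have := congrArg (lift g h ≫ ·) hP.w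
  rw [lift_fst_assoc, ← Category.assoc (lift g h), key] at this
  exact this.symm
have sep : ∀ (x y : 𝟙_ (Over (Spec (CommRingCat.of k))) ⟶ G), x ≫ q = y ≫ q → ∃ h : 𝟙_ _ ⟶ H, y = x * (h ≫ i) := fun x y e => by
  refine ⟨hP.lift x y e ≫ snd G H, ?_⟩
  have h2 := hP.lift_snd x y e
  have e3 : hP.lift x y e = lift x (hP.lift x y e ≫ snd G H) :=
    CartesianMonoidalCategory.hom_ext _ _ (by rw [lift_fst, hP.lift_fst]) (by rw [lift_snd])
  rw [e3, key] at h2
  exact h2.symm
haveI : Mono i := Over.mono_of_mono_left i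
have hc : ∀ h : 𝟙_ (Over (Spec (CommRingCat.of k))) ⟶ H, (h ≫ i) ≫ σ = (h ≫ τ) ≫ i := fun h => by
  rw [Category.assoc, ← hτ, Category.assoc]
-- every fixed point of `φ` lifts to a fixed point of `σ`
have hlift : ∀ x : {x : 𝟙_ (Over (Spec (CommRingCat.of k))) ⟶ X // x ≫ φ = x},
    ∃ g : {g : 𝟙_ (Over (Spec (CommRingCat.of k))) ⟶ G // g ≫ σ = g}, g.1 ≫ q = x.1 := by
  rintro ⟨x, hx⟩
  obtain ⟨g, rfl⟩ := LangFix19.exists_point_lift q x (hsurj.surj _)
  have hgq : (g ≫ σ) ≫ q = g ≫ q := by rw [Category.assoc, ← hφ, ← Category.assoc, hx]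
  obtain ⟨y, hy⟩ := sep _ _ hgq.symm
  have hfin' : Finite {h : 𝟙_ (Over (Spec (CommRingCat.of k))) ⟶ H // h * y * (h ≫ τ)⁻¹ = y} := by
    haveI := hfin
    refine Finite.of_injective (fun h => (⟨g * (h.1 ≫ i) * g⁻¹, ?_⟩ : {g : 𝟙_ (Over (Spec (CommRingCat.of k))) ⟶ G // g ≫ σ = g})) ?_
    · have e : (h.1 ≫ i) * (y ≫ i) = (y ≫ i) * ((h.1 ≫ τ) ≫ i) := by
        rw [← MonObj.mul_comp, ← MonObj.mul_comp, mul_inv_eq_iff_eq_mul.1 h.2]
      rw [MonObj.mul_comp, MonObj.mul_comp, GrpObj.inv_comp, hc, hy]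
      calc g * (y ≫ i) * ((h.1 ≫ τ) ≫ i) * (g * (y ≫ i))⁻¹
          = g * ((y ≫ i) * ((h.1 ≫ τ) ≫ i)) * (y ≫ i)⁻¹ * g⁻¹ := by group
        _ = _ := by rw [← e]; group
    · intro h h' e
      have e' := congrArg Subtype.val e
      simp only [mul_left_inj, mul_right_inj] at e'
      exact Subtype.ext ((cancel_mono i).1 e')
  have hfin1 : Finite {h : 𝟙_ (Over (Spec (CommRingCat.of k))) ⟶ H // h * 1 * (h ≫ τ)⁻¹ = 1} := by
    haveI := hfin
    refine Finite.of_injective (fun h => (⟨h.1 ≫ i, ?_⟩ : {g : 𝟙_ (Over (Spec (CommRingCat.of k))) ⟶ G // g ≫ σ = g})) ?_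
    · have e := h.2
      rw [_root_.mul_one, mul_inv_eq_one] at e
      rw [hc, ← e]
    · exact fun h h' e => Subtype.ext ((cancel_mono i).1 (congrArg Subtype.val e))
  obtain ⟨c, hcy⟩ := LangFix19.exists_eq_mul_inv τ y hfin' hfin1
  refine ⟨⟨g * (c ≫ i), ?_⟩, inv g c⟩
  rw [MonObj.mul_comp, hy, hc, hcy, _root_.mul_assoc, ← MonObj.mul_comp, inv_mul_cancel_right]
choose s hs using hlift
let F : {h : 𝟙_ (Over (Spec (CommRingCat.of k))) ⟶ H // h ≫ τ = h} × {x : 𝟙_ (Over (Spec (CommRingCat.of k))) ⟶ X // x ≫ φ = x} →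
    {g : 𝟙_ (Over (Spec (CommRingCat.of k))) ⟶ G // g ≫ σ = g} :=
  fun p => ⟨(s p.2).1 * (p.1.1 ≫ i), by rw [MonObj.mul_comp, (s p.2).2, hc, p.1.2]⟩
have hF : Function.Bijective F := by
  refine ⟨fun p p' e => ?_, fun g => ?_⟩
  · have e' : (s p.2).1 * (p.1.1 ≫ i) = (s p'.2).1 * (p'.1.1 ≫ i) := congrArg Subtype.val e
    have hx : p.2 = p'.2 := Subtype.ext (by rw [← hs p.2, ← hs p'.2, ← inv _ p.1.1, e', inv])
    rw [hx] at e'
    exact Prod.ext (Subtype.ext ((cancel_mono i).1 (mul_left_cancel e'))) hx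
  · have hx : (g.1 ≫ q) ≫ φ = g.1 ≫ q := by rw [Category.assoc, hφ, ← Category.assoc, g.2]
    obtain ⟨h, hh⟩ := sep _ _ (hs ⟨g.1 ≫ q, hx⟩)
    refine ⟨(⟨h, (cancel_mono i).1 ?_⟩, ⟨g.1 ≫ q, hx⟩), Subtype.ext hh.symm⟩
    refine mul_left_cancel (a := (s ⟨g.1 ≫ q, hx⟩).1) ?_
    rw [← hh, ← hc]
    conv_lhs => rw [← (s ⟨g.1 ≫ q, hx⟩).2]
    rw [← MonObj.mul_comp, ← hh, g.2]
rw [← Nat.card_congr (Equiv.ofBijective F hF), Nat.card_prod]

end Groth.Agent.S14746
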