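import Groth.Statements.S14751
import Groth.Agent.Lib.AbRigid.Basic
import Groth.Agent.Lib.AbRigid.Connected
import Groth.Agent.Lib.AbRigid.SmoothGI
import Groth.Agent.Lib.AbRigid.Maximal
import Mathlib.AlgebraicGeometry.Morphisms.Finite

set_option autoImplicit false
universe u
open CategoryTheory CategoryTheory.Limits MonoidalCategory CartesianMonoidalCategory MonObj GrpObj AlgebraicGeometry
open AlgGrp

namespace Groth.Agent.S14751

section Aux
open CategoryTheory CategoryTheory.Limits MonoidalCategory CartesianMonoidalCategory MonObj AlgebraicGeometry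
open scoped GrpObj

variable {k : Type u} [Field k]

lemma mu_eq_mul (W : Over (Spec (CommRingCat.of k))) [GrpObj W] : μ[W] = fst W W * snd W W := by
  rw [Hom.mul_def, lift_fst_snd, Category.id_comp]

lemma isMonHom_mul_of_commute {W V G : Over (Spec (CommRingCat.of k))} [GrpObj W] [GrpObj V] [GrpObj G]
    (a : W ⟶ G) (b : V ⟶ G) [IsMonHom a] [IsMonHom b]
    (h : ∀ {T : Over (Spec (CommRingCat.of k))} (x : T ⟶ W) (y : T ⟶ V), (x ≫ a) * (y ≫ b) = (y ≫ b) * (x ≫ a)) :
    IsMonHom ((a ⊗ₘ b) ≫ μ[G]) := by
  have hm : (a ⊗ₘ b) ≫ μ[G] = (fst W V ≫ a) * (snd W V ≫ b) := by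
    rw [Hom.mul_def, lift_fst_comp_snd_comp]
  rw [hm]
  refine ⟨?_, ?_⟩
  · rw [one_eq_one, MonObj.comp_mul, ← Category.assoc, ← Category.assoc, MonObj.one_comp, MonObj.one_comp,
      MonObj.one_comp, MonObj.one_comp, _root_.one_mul, one_eq_one]
  · rw [MonObj.comp_mul, mu_eq_mul, mu_eq_mul, MonObj.comp_mul, tensorHom_fst, tensorHom_snd,
      ← Category.assoc, ← Category.assoc, MonObj.mul_comp, MonObj.mul_comp, MonObj.mul_comp, MonObj.mul_comp,
      MonObj.comp_mul, MonObj.comp_mul]
    simp only [← Category.assoc]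
    rw [_root_.mul_assoc, _root_.mul_assoc, ← _root_.mul_assoc ((snd (W ⊗ V) (W ⊗ V) ≫ fst W V) ≫ a),
      h (snd (W ⊗ V) (W ⊗ V) ≫ fst W V) (fst (W ⊗ V) (W ⊗ V) ≫ snd W V), _root_.mul_assoc]

lemma isClosedImmersion_unit (G : Over (Spec (CommRingCat.of k))) [GrpObj G] : IsClosedImmersion η[G].left := by
  haveI := Groth.Agent.AbRigid.isSeparated_of_grpObj G
  haveI : IsClosedImmersion (η[G].left ≫ G.hom) := by
    rw [Over.w]; exact inferInstanceAs (IsClosedImmersion (𝟙 _))
  exact IsClosedImmersion.of_comp _ G.hom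

lemma isClosedImmersion_of_isKernel {M W G : Over (Spec (CommRingCat.of k))} [GrpObj G] {i : M ⟶ W} {q : W ⟶ G}
    (h : AlgGrp.IsKernel i q) : IsClosedImmersion i.left :=
  MorphismProperty.of_isPullback (P := @IsClosedImmersion) (h.map (Over.forget _)).flip (isClosedImmersion_unit G)

lemma isFinite_of_proper_affine {A N G M : Over (Spec (CommRingCat.of k))} [IsProper A.hom] [IsAffine N.left]
    [IsSeparated G.hom] (j : A ⟶ G) (i : N ⟶ G) [IsClosedImmersion j.left] [IsClosedImmersion i.left]
    (a : M ⟶ A) (n : M ⟶ N) (h : a ≫ j = n ≫ i) (hM : IsClosedImmersion (lift a n).left) :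
    IsFinite M.hom := by
  let P : Over (Spec (CommRingCat.of k)) := Over.mk (pullback.fst j.left i.left ≫ A.hom)
  haveI : IsProper P.hom := inferInstanceAs (IsProper (pullback.fst j.left i.left ≫ A.hom))
  haveI : IsAffine P.left := isAffine_of_isAffineHom (pullback.snd j.left i.left)
  haveI : IsAffineHom P.hom := inferInstance
  haveI : IsFinite P.hom := IsFinite.iff_isProper_and_isAffineHom.2 ⟨inferInstance, inferInstance⟩
  let pa : P ⟶ A := Over.homMk (pullback.fst j.left i.left) rfl
  let pn : P ⟶ N := Over.homMk (pullback.snd j.left i.left) (by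
    show pullback.snd j.left i.left ≫ N.hom = pullback.fst j.left i.left ≫ A.hom
    rw [← Over.w i, ← Over.w j, ← pullback.condition_assoc])
  let l : M ⟶ P := Over.homMk (pullback.lift a.left n.left (congrArg CommaMorphism.left h)) (by
    show pullback.lift a.left n.left _ ≫ pullback.fst j.left i.left ≫ A.hom = M.hom
    rw [pullback.lift_fst_assoc, Over.w])
  have hl : l ≫ lift pa pn = lift a n := by
    rw [comp_lift]
    congr 1 <;> apply Over.OverMorphism.ext
    · exact pullback.lift_fst _ _ _
    · exact pullback.lift_snd _ _ _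
  haveI : IsClosedImmersion (l.left ≫ (lift pa pn).left) := by rw [← Over.comp_left, hl]; exact hM
  haveI : IsSeparated (lift pa pn).left := by
    haveI : IsSeparated ((lift pa pn).left ≫ (A ⊗ N).hom) := by rw [Over.w]; infer_instance
    exact IsSeparated.of_comp _ (A ⊗ N).hom
  haveI : IsClosedImmersion l.left := IsClosedImmersion.of_comp l.left (lift pa pn).left
  rw [← Over.w l]
  infer_instance

end Aux


/-- Over an algebraically closed field k let G be a group variety (smooth connected k-group scheme of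
finite type), i : N → G an affine closed subgroup scheme which is the kernel of a flat surjective
homomorphism π : G → Q, and j : A → G an abelian subvariety (a smooth connected proper closed
subgroup scheme) with A · N = G, that is, the multiplication A × N → G is surjective. Then the
multiplication A × N → G is a homomorphism and an isogeny (surjective with finite kernel), and so is
the composite A → G → Q. (In the published statement N is the largest connected affine normal
subgroup variety and Q = G/N the Albanese quotient; only the listed properties are used.) -/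
theorem result (k : Type u) [Field k] [IsAlgClosed k]
    (G N A Q : Over (Spec (CommRingCat.of k))) [GrpObj G] [GrpObj N] [GrpObj A] [GrpObj Q]
    [Smooth G.hom] [QuasiCompact G.hom] [ConnectedSpace ↥G.left]
    (i : N ⟶ G) [IsMonHom i] [IsClosedImmersion i.left] [IsAffine N.left]
    (π : G ⟶ Q) [IsMonHom π] [Flat π.left] [Surjective π.left] (hker : AlgGrp.IsKernel i π)
    (j : A ⟶ G) [IsMonHom j] [IsClosedImmersion j.left] [Smooth A.hom] [ConnectedSpace ↥A.left] [IsProper A.hom]
    (hsurj : Surjective ((j ⊗ₘ i) ≫ μ[G]).left) :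
    IsMonHom ((j ⊗ₘ i) ≫ μ[G]) ∧ SGA7.IsIsogenyOver ((j ⊗ₘ i) ≫ μ[G]) ∧ SGA7.IsIsogenyOver (j ≫ π) := by
  haveI : GeometricallyReduced G.hom := Groth.Agent.AbRigid.geometricallyReduced_of_smooth G.hom
  haveI : GeometricallyIntegral G.hom := Groth.Agent.AbRigid.geometricallyIntegral_of_connected G
  haveI : GeometricallyReduced A.hom := Groth.Agent.AbRigid.geometricallyReduced_of_smooth A.hom
  haveI : GeometricallyIntegral A.hom := Groth.Agent.AbRigid.geometricallyIntegral_of_connected A
  haveI := Groth.Agent.AbRigid.isSeparated_of_grpObj G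
  haveI : Mono i := Over.mono_of_mono_left i
  have hcomm : snd A G * (fst A G ≫ j) = (fst A G ≫ j) * snd A G := by
    have h := Groth.Agent.AbRigid.rigidity A G G
      (snd A G * (fst A G ≫ j) * (snd A G)⁻¹ * (fst A G ≫ j)⁻¹) η[A] η[G] η[G] (by
        unfold Groth.Agent.AbRigid.slice
        simp only [MonObj.comp_mul, GrpObj.comp_inv, lift_snd, lift_fst_assoc, Category.id_comp, ← Hom.one_def,
          inv_one, _root_.one_mul, _root_.mul_one, mul_inv_cancel])
    simp only [MonObj.comp_mul, GrpObj.comp_inv, lift_snd, lift_fst_assoc, ← Hom.one_def, MonObj.one_comp,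
      inv_one, _root_.mul_one, mul_inv_cancel, MonObj.comp_one] at h
    exact mul_inv_eq_iff_eq_mul.1 (mul_inv_eq_one.1 h)
  have hc : ∀ {T : Over (Spec (CommRingCat.of k))} (x : T ⟶ A) (y : T ⟶ N),
      (x ≫ j) * (y ≫ i) = (y ≫ i) * (x ≫ j) := fun {T} x y => by
    have h := congrArg (lift x (y ≫ i) ≫ ·) hcomm
    simp only [MonObj.comp_mul, lift_snd, lift_fst_assoc] at h
    exact h.symm
  have hhom : IsMonHom ((j ⊗ₘ i) ≫ μ[G]) := isMonHom_mul_of_commute j i hc
  have hm : (j ⊗ₘ i) ≫ μ[G] = (fst A N ≫ j) * (snd A N ≫ i) := by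
    rw [Hom.mul_def, lift_fst_comp_snd_comp]
  have hiπ : i ≫ π = 1 := hker.w.trans Hom.one_def.symm
  refine ⟨hhom, ⟨hsurj, fun M iM hM => ?_⟩, ?_, fun M iM hM => ?_⟩
  · haveI : IsClosedImmersion (j ≫ GrpObj.inv).left := by
      haveI : IsIso (GrpObj.inv : G ⟶ G).left := inferInstanceAs (IsIso ((Over.forget _).map _))
      exact inferInstanceAs (IsClosedImmersion (j.left ≫ _))
    refine isFinite_of_proper_affine (j ≫ GrpObj.inv) i (iM ≫ fst A N) (iM ≫ snd A N) ?_ ?_
    · have h1 : iM ≫ ((fst A N ≫ j) * (snd A N ≫ i)) = 1 := by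
        rw [← hm, hM.w, Hom.one_def]
      rw [MonObj.comp_mul, mul_eq_one_iff_inv_eq] at h1
      rw [Category.assoc, Category.assoc, ← h1, ← Hom.inv_def, GrpObj.comp_inv, GrpObj.comp_inv]
    · rw [← comp_lift, lift_fst_snd, Category.comp_id]
      exact isClosedImmersion_of_isKernel hM
  · have h2 : ((j ⊗ₘ i) ≫ μ[G]) ≫ π = fst A N ≫ j ≫ π := by
      rw [hm, MonObj.mul_comp, Category.assoc, Category.assoc, hiπ, MonObj.comp_one, _root_.mul_one]
    haveI := hsurj
    haveI : Surjective ((fst A N).left ≫ (j ≫ π).left) := by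
      rw [← Over.comp_left, ← h2, Over.comp_left]; infer_instance
    exact Surjective.of_comp (fst A N).left (j ≫ π).left
  · have h1 : (iM ≫ j) ≫ π = toUnit M ≫ η[Q] := by rw [Category.assoc]; exact hM.w
    refine isFinite_of_proper_affine j i iM (hker.lift (iM ≫ j) (toUnit M) h1) (hker.lift_fst _ _ _).symm ?_
    haveI : IsClosedImmersion ((lift iM (hker.lift (iM ≫ j) (toUnit M) h1)).left ≫ (fst A N).left) := by
      rw [← Over.comp_left, lift_fst]; exact isClosedImmersion_of_isKernel hM
    haveI : IsSeparated (fst A N).left := by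
      haveI : IsSeparated N.hom := inferInstance
      show IsSeparated (pullback.fst A.hom N.hom)
      infer_instance
    exact IsClosedImmersion.of_comp _ (fst A N).left

end Groth.Agent.S14751
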