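import Groth.Statements.S14754
import Groth.Agent.Lib.DiagGL.Chars
import Groth.Prelude.Def_AlgGrp
import Mathlib.AlgebraicGeometry.Sites.Fpqc
import Mathlib.LinearAlgebra.LinearIndependent.Basic
import Mathlib.LinearAlgebra.FreeModule.PID
import Mathlib.FieldTheory.IsAlgClosed.Basic
import Mathlib.LinearAlgebra.Isomorphisms

set_option autoImplicit false
universe u
open CategoryTheory CategoryTheory.Limits MonoidalCategory CartesianMonoidalCategory MonObj GrpObj AlgebraicGeometry
open AlgGrp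

namespace Groth.Agent.S14754

set_option backward.isDefEq.respectTransparency.types false
open Groth.Agent.DiagGL

section
variable {k : Type u} [Field k]

theorem exists_separating [IsAlgClosed k] {n : ℕ} {m m' : Multiplicative (Fin n → ℤ)} (h : m ≠ m') :
    ∃ χ : Multiplicative (Fin n → ℤ) →* k, χ m ≠ χ m' := by
  classical
  obtain ⟨i, hi⟩ := Function.ne_iff.1 (show m.toAdd ≠ m'.toAdd from h)
  set d := (m.toAdd i - m'.toAdd i).natAbs with hd
  have hd0 : 0 < d := by omega
  obtain ⟨x, hx⟩ := Infinite.exists_notMem_finset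
    ((insert (0 : k) (Polynomial.X ^ d - Polynomial.C (1 : k)).roots.toFinset))
  simp only [Finset.mem_insert, Multiset.mem_toFinset, Polynomial.mem_roots (Polynomial.X_pow_sub_C_ne_zero hd0 (1 : k)),
    Polynomial.IsRoot.def, Polynomial.eval_sub, Polynomial.eval_pow, Polynomial.eval_X, Polynomial.eval_C,
    sub_eq_zero, not_or] at hx
  refine ⟨⟨⟨fun a => x ^ (a.toAdd i), by simp⟩, fun a b => by simp [zpow_add₀ hx.1]⟩, fun e => hx.2 ?_⟩
  have e' : x ^ (m.toAdd i - m'.toAdd i) = 1 := by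
    rw [zpow_sub₀ hx.1, show x ^ m.toAdd i = x ^ m'.toAdd i from e, div_self (zpow_ne_zero _ hx.1)]
  rcases Int.natAbs_eq (m.toAdd i - m'.toAdd i) with h1 | h1 <;> rw [h1, ← hd] at e'
  · exact_mod_cast e'
  · rw [zpow_neg, inv_eq_one, zpow_natCast] at e'
    exact e'

/-- A multiplicative function on the characters of a torus is a monomial. -/
theorem eq_of_of_multiplicative [IsAlgClosed k] {n : ℕ} (a : MonoidAlgebra k (Multiplicative (Fin n → ℤ)))
    (Ψ : (Multiplicative (Fin n → ℤ) →* k) →* k)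
    (hΨ : ∀ χ, MonoidAlgebra.lift k k _ χ a = Ψ χ) : ∃ m, a = MonoidAlgebra.of k _ m := by
  classical
  let E : Multiplicative (Fin n → ℤ) → ((Multiplicative (Fin n → ℤ) →* k) →* k) :=
    fun m => ⟨⟨fun χ => χ m, rfl⟩, fun _ _ => rfl⟩
  have hE : Function.Injective E := fun m m' h => by
    by_contra hne
    obtain ⟨χ, hχ⟩ := exists_separating (k := k) hne
    exact hχ (DFunLike.congr_fun h χ)
  have li := linearIndependent_monoidHom (Multiplicative (Fin n → ℤ) →* k) k
  have key : Finsupp.linearCombination k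
        (fun f : (Multiplicative (Fin n → ℤ) →* k) →* k => (f : (Multiplicative (Fin n → ℤ) →* k) → k))
        (Finsupp.mapDomain E a.coeff) =
      Finsupp.linearCombination k
        (fun f : (Multiplicative (Fin n → ℤ) →* k) →* k => (f : (Multiplicative (Fin n → ℤ) →* k) → k))
        (Finsupp.single Ψ 1) := by
    rw [Finsupp.linearCombination_mapDomain, Finsupp.linearCombination_single, one_smul]
    funext χ
    rw [← hΨ, MonoidAlgebra.lift_apply, Finsupp.linearCombination_apply]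
    simp only [Finsupp.sum, Finset.sum_apply, Pi.smul_apply, Function.comp]
    rfl
  have h := li key
  obtain ⟨m, hm⟩ : ∃ m, E m = Ψ := by
    by_contra! hne
    have := DFunLike.congr_fun h Ψ
    rw [Finsupp.mapDomain_of_notMem_range _ _ (by rintro ⟨m, hm⟩; exact hne m hm), Finsupp.single_eq_same] at this
    exact zero_ne_one this
  refine ⟨m, MonoidAlgebra.coeff_inj.1 (Finsupp.mapDomain_injective hE ?_)⟩
  rw [h, MonoidAlgebra.of_apply, MonoidAlgebra.coeff_single, Finsupp.mapDomain_single, hm]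

variable {n : ℕ}

local notation "σ(" n ")" => Red.diag k (Fin n → ℤ)

/-- The point attached to an algebra-valued character. -/
noncomputable def chPt {B : Type u} [CommRing B] [Algebra k B] (χ : Multiplicative (Fin n → ℤ) →* B) :
    CoactBr.sp k B ⟶ σ(n) :=
  CoactBr.pt (MonoidAlgebra.lift k B _ χ)

theorem ch_chPt {B : Type u} [CommRing B] [Algebra k B] (χ : Multiplicative (Fin n → ℤ) →* B)
    (m : Multiplicative (Fin n → ℤ)) :
    (charsDiag k (Fin n → ℤ)).ch (chPt χ) m = (Scheme.ΓSpecIso (CommRingCat.of B)).inv (χ m) := by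
  show ev (A := MonoidAlgebra k (Multiplicative (Fin n → ℤ))) (CoactBr.pt (MonoidAlgebra.lift k B _ χ))
    (MonoidAlgebra.of k _ m) = _
  rw [ev_pt, MonoidAlgebra.lift_of]

theorem ev_id_bijective :
    Function.Bijective (ev (A := MonoidAlgebra k (Multiplicative (Fin n → ℤ))) (𝟙 σ(n))) := by
  have h : ⇑(ev (A := MonoidAlgebra k (Multiplicative (Fin n → ℤ))) (𝟙 σ(n))) =
      ⇑(Scheme.ΓSpecIso (CommRingCat.of (MonoidAlgebra k (Multiplicative (Fin n → ℤ))))).inv.hom := by
    funext a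
    show ((Scheme.ΓSpecIso _).inv ≫ Scheme.Hom.appTop (𝟙 (Spec (CommRingCat.of (MonoidAlgebra k (Multiplicative (Fin n → ℤ))))))).hom a = _
    simp
  rw [h]
  exact ConcreteCategory.bijective_of_isIso _

/-- Character coordinates identify the group with the standard torus. -/
theorem exists_iso {G : Over (Spec (CommRingCat.of k))} [GrpObj G] (C : Chars (Fin n → ℤ) G) :
    ∃ e : σ(n) ≅ G, ∀ (T : Over (Spec (CommRingCat.of k))) (y : T ⟶ σ(n)) (m : Multiplicative (Fin n → ℤ)),
      C.ch (y ≫ e.hom) m = (charsDiag k (Fin n → ℤ)).ch y m := by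
  obtain ⟨φ, hφ⟩ := C.surj (T := σ(n)) ((charsDiag k (Fin n → ℤ)).ch (𝟙 _))
  obtain ⟨ψ, hψ⟩ := (charsDiag k (Fin n → ℤ)).surj (T := G) (C.ch (𝟙 G))
  have h1 : ∀ (T : Over (Spec (CommRingCat.of k))) (y : T ⟶ σ(n)) (m : Multiplicative (Fin n → ℤ)),
      C.ch (y ≫ φ) m = (charsDiag k (Fin n → ℤ)).ch y m := fun T y m => by
    rw [C.nat, hφ, ← (charsDiag k (Fin n → ℤ)).nat, Category.comp_id]
  have h2 : ∀ (T : Over (Spec (CommRingCat.of k))) (x : T ⟶ G) (m : Multiplicative (Fin n → ℤ)),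
      (charsDiag k (Fin n → ℤ)).ch (x ≫ ψ) m = C.ch x m := fun T x m => by
    rw [(charsDiag k (Fin n → ℤ)).nat, hψ, ← C.nat, Category.comp_id]
  refine ⟨⟨φ, ψ, (charsDiag k (Fin n → ℤ)).inj fun m => ?_, C.inj fun m => ?_⟩, h1⟩
  · rw [h2, hφ]
  · rw [h1, hψ]

theorem char_unique {G : Over (Spec (CommRingCat.of k))} [GrpObj G] (C : Chars (Fin n → ℤ) G)
    {m m' : Multiplicative (Fin n → ℤ)} (h : ∀ (T : Over (Spec (CommRingCat.of k))) (x : T ⟶ G), C.ch x m = C.ch x m') :
    m = m' := by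
  obtain ⟨e, he⟩ := exists_iso C
  have := h _ (𝟙 σ(n) ≫ e.hom)
  rw [he, he] at this
  exact MonoidAlgebra.of_injective (ev_id_bijective.1 this)

/-- A homomorphism of split tori is given on characters by a map of lattices. -/
theorem exists_char [IsAlgClosed k] {N : Type} [AddCommGroup N] {G Q : Over (Spec (CommRingCat.of k))}
    [GrpObj G] [GrpObj Q] (C : Chars (Fin n → ℤ) G) (D : Chars N Q) (f : G ⟶ Q) [IsMonHom f] :
    ∃ F : Multiplicative N →* Multiplicative (Fin n → ℤ),
      ∀ (T : Over (Spec (CommRingCat.of k))) (x : T ⟶ G) (a : Multiplicative N), D.ch (x ≫ f) a = C.ch x (F a) := by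
  obtain ⟨e, he⟩ := exists_iso C
  have hpt : ∀ (a : MonoidAlgebra k (Multiplicative (Fin n → ℤ))) (χ : Multiplicative (Fin n → ℤ) →* k),
      (chPt χ).left.appTop (ev (A := MonoidAlgebra k (Multiplicative (Fin n → ℤ))) (𝟙 σ(n)) a) =
        (Scheme.ΓSpecIso (CommRingCat.of k)).inv (MonoidAlgebra.lift k k _ χ a) := fun a χ => by
    rw [← ev_comp, Category.comp_id]
    exact ev_pt _ _
  have hex : ∀ b : Multiplicative N, ∃ m, ∀ (T : Over (Spec (CommRingCat.of k))) (x : T ⟶ G),
      D.ch (x ≫ f) b = C.ch x m := by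
    intro b
    obtain ⟨a, ha⟩ := ev_id_bijective.2 (D.ch (e.hom ≫ f) b)
    have hval : ∀ χ, (Scheme.ΓSpecIso (CommRingCat.of k)).inv (MonoidAlgebra.lift k k _ χ a) =
        D.ch ((chPt χ ≫ e.hom) ≫ f) b := fun χ => by
      rw [← hpt, ha, ← D.nat, Category.assoc]
    have hinj : Function.Injective ((Scheme.ΓSpecIso (CommRingCat.of k)).inv) :=
      (ConcreteCategory.bijective_of_isIso _).1
    have hone : chPt (1 : Multiplicative (Fin n → ℤ) →* k) ≫ e.hom = 1 := C.inj fun m => by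
      rw [he, ch_chPt, C.one]; exact map_one _
    have hmul : ∀ χ χ' : Multiplicative (Fin n → ℤ) →* k,
        chPt (χ * χ') ≫ e.hom = (chPt χ ≫ e.hom) * (chPt χ' ≫ e.hom) := fun χ χ' => C.inj fun m => by
      rw [C.mul, he, he, he, ch_chPt, ch_chPt, ch_chPt]
      exact map_mul (Scheme.ΓSpecIso (CommRingCat.of k)).inv.hom (χ m) (χ' m)
    let Ψ : (Multiplicative (Fin n → ℤ) →* k) →* k :=
      { toFun := fun χ => MonoidAlgebra.lift k k _ χ a
        map_one' := hinj (by rw [hval, hone, MonObj.one_comp, D.one]; exact (map_one _).symm)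
        map_mul' := fun χ χ' => hinj (by
          rw [hval, hmul, MonObj.mul_comp, D.mul, ← hval, ← hval]; exact (map_mul _ _ _).symm) }
    obtain ⟨m, rfl⟩ := eq_of_of_multiplicative a Ψ fun _ => rfl
    refine ⟨m, fun T x => ?_⟩
    have hC : C.ch e.hom m = D.ch (e.hom ≫ f) b := by
      rw [← Category.id_comp e.hom, he, Category.id_comp, ← ha]
      rfl
    rw [show x = (x ≫ e.inv) ≫ e.hom by simp, C.nat (x ≫ e.inv), hC, ← D.nat, ← Category.assoc]
  choose F hF using hex
  refine ⟨⟨⟨F, char_unique C fun T x => ?_⟩, fun a b => char_unique C fun T x => ?_⟩, fun T x a => hF a T x⟩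
  · rw [← hF, map_one, map_one]
  · show C.ch x (F (a * b)) = C.ch x (F a * F b)
    rw [← hF, map_mul, map_mul, hF, hF]

end


/-- Over an algebraically closed field k, every exact sequence of split tori splits: if K, G, Q are
split tori over k, i : K → G a closed subgroup scheme which is the kernel of a flat surjective
homomorphism π : G → Q, then π has a section which is a homomorphism. -/
theorem result (k : Type u) [Field k] [IsAlgClosed k]
    (K G Q : Over (Spec (CommRingCat.of k))) [GrpObj K] [GrpObj G] [GrpObj Q] (nK nG nQ : ℕ)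
    (hK : Red.IsSplitTorusWith (Fin nK → ℤ) K) (hG : Red.IsSplitTorusWith (Fin nG → ℤ) G)
    (hQ : Red.IsSplitTorusWith (Fin nQ → ℤ) Q)
    (i : K ⟶ G) [IsMonHom i] [IsClosedImmersion i.left]
    (π : G ⟶ Q) [IsMonHom π] [Flat π.left] [Surjective π.left] (hker : AlgGrp.IsKernel i π) :
    ∃ s : Q ⟶ G, IsMonHom s ∧ s ≫ π = 𝟙 Q := by
  obtain ⟨CK⟩ := nonempty_chars hK
  obtain ⟨CG⟩ := nonempty_chars hG
  obtain ⟨CQ⟩ := nonempty_chars hQ
  obtain ⟨F, hF⟩ := exists_char CG CQ π
  obtain ⟨Fi, hFi⟩ := exists_char CK CG i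
  -- `F` is injective as `π` is an epimorphism
  obtain ⟨eG, -⟩ := exists_iso CG
  obtain ⟨eQ, -⟩ := exists_iso CQ
  have : IsAffine G.left :=
    haveI : IsAffine ((Over.forget (Spec (CommRingCat.of k))).obj (Red.diag k (Fin nG → ℤ))) :=
      inferInstanceAs (IsAffine (Spec _))
    IsAffine.of_isIso ((Over.forget _).mapIso eG.symm).hom
  have : IsAffine Q.left :=
    haveI : IsAffine ((Over.forget (Spec (CommRingCat.of k))).obj (Red.diag k (Fin nQ → ℤ))) :=
      inferInstanceAs (IsAffine (Spec _))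
    IsAffine.of_isIso ((Over.forget _).mapIso eQ.symm).hom
  have : Epi π := by
    haveI : Epi ((Over.forget (Spec (CommRingCat.of k))).map π) := inferInstanceAs (Epi π.left)
    exact (Over.forget _).epi_of_epi_map (f := π) inferInstance
  have hFinj : Function.Injective F := by
    refine (injective_iff_map_eq_one F).2 fun b hb => char_unique CQ fun T x => ?_
    rw [map_one]
    let D := charsDiag k ℤ
    obtain ⟨w, hw⟩ := D.surj (T := Q) ((CQ.ch (𝟙 Q)).comp
      ⟨⟨fun z : Multiplicative ℤ => b ^ z.toAdd, by simp⟩, fun _ _ => by simp [zpow_add]⟩)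
    have hw1 : π ≫ w = π ≫ 1 := D.inj fun z => by
      have hz : CQ.ch π (b ^ z.toAdd) = 1 := by
        conv_lhs => rw [← Category.id_comp π, hF, map_zpow F, hb, one_zpow, map_one]
      rw [D.nat, D.nat, hw, D.one]
      refine Eq.trans ?_ (map_one π.left.appTop.hom).symm
      show π.left.appTop (CQ.ch (𝟙 Q) (b ^ z.toAdd)) = 1
      rw [← CQ.nat, Category.comp_id, hz]
    rw [cancel_epi] at hw1
    have h1 := DFunLike.congr_fun hw (Multiplicative.ofAdd 1)
    rw [hw1, D.one] at h1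
    simp only [MonoidHom.coe_comp, Function.comp_apply, MonoidHom.coe_mk, OneHom.coe_mk, toAdd_ofAdd, zpow_one] at h1
    rw [← Category.comp_id x, CQ.nat, ← h1, map_one]
  let F' : (Fin nQ → ℤ) →ₗ[ℤ] (Fin nG → ℤ) := (AddMonoidHom.toMultiplicative.symm F).toIntLinearMap
  let Fi' : (Fin nG → ℤ) →ₗ[ℤ] (Fin nK → ℤ) := (AddMonoidHom.toMultiplicative.symm Fi).toIntLinearMap
  let P := LinearMap.range F'
  -- the cokernel is torsion free
  have htor : ∀ (d : ℤ) (m : Fin nG → ℤ), d ≠ 0 → d • m ∈ P → m ∈ P := by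
    rintro d m hd ⟨b, hb⟩
    have h1 : Fi' (d • m) = 0 := by
      rw [← hb]
      show (Fi (F (Multiplicative.ofAdd b))).toAdd = 0
      rw [show Fi (F (Multiplicative.ofAdd b)) = 1 from char_unique CK fun T x => by
        rw [map_one, ← hFi, ← hF, Category.assoc, hker.w, ← Category.assoc, comp_toUnit, ← Hom.one_def, CQ.one]]
      rfl
    rw [map_smul, smul_eq_zero] at h1
    have h2 : Fi (Multiplicative.ofAdd m) = 1 := Multiplicative.toAdd.injective (h1.resolve_left hd)
    let χ : Multiplicative (Fin nG → ℤ) →* MonoidAlgebra k (Multiplicative ((Fin nG → ℤ) ⧸ P)) :=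
      (MonoidAlgebra.of k _).comp (AddMonoidHom.toMultiplicative P.mkQ.toAddMonoidHom)
    obtain ⟨x, hx⟩ := CG.surj (T := CoactBr.sp k (MonoidAlgebra k (Multiplicative ((Fin nG → ℤ) ⧸ P))))
      ((Scheme.ΓSpecIso (CommRingCat.of _)).inv.hom.toMonoidHom.comp χ)
    have hxπ : x ≫ π = 1 := CQ.inj fun a => by
      rw [hF, hx, CQ.one]
      show (Scheme.ΓSpecIso (CommRingCat.of _)).inv.hom (MonoidAlgebra.of k _
        (Multiplicative.ofAdd (P.mkQ (F' a.toAdd)))) = 1
      rw [show P.mkQ (F' a.toAdd) = 0 from (Submodule.Quotient.mk_eq_zero P).2 ⟨_, rfl⟩, ofAdd_zero, map_one, map_one]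
    let y := hker.lift x (toUnit _) (by rw [hxπ, Hom.one_def])
    have hy : CG.ch x (Multiplicative.ofAdd m) = 1 := by
      rw [← hker.lift_fst x (toUnit _) (by rw [hxπ, Hom.one_def]), hFi, h2, map_one]
    rw [hx] at hy
    have h3 := MonoidAlgebra.of_injective ((ConcreteCategory.bijective_of_isIso
      (Scheme.ΓSpecIso (CommRingCat.of (MonoidAlgebra k (Multiplicative ((Fin nG → ℤ) ⧸ P))))).inv).1
      (hy.trans (map_one _).symm) |>.trans (map_one (MonoidAlgebra.of k _)).symm)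
    exact (Submodule.Quotient.mk_eq_zero P).1 (Multiplicative.ofAdd.injective h3)
  have : Module.IsTorsionFree ℤ ((Fin nG → ℤ) ⧸ P) := by
    refine Module.IsTorsionFree.mk fun d hd => fun a b hab => ?_
    obtain ⟨a, rfl⟩ := P.mkQ_surjective a
    obtain ⟨b, rfl⟩ := P.mkQ_surjective b
    simp only [Submodule.mkQ_apply] at hab
    rw [← Submodule.Quotient.mk_smul, ← Submodule.Quotient.mk_smul, Submodule.Quotient.eq, ← smul_sub] at hab
    exact (Submodule.Quotient.eq P).2 (htor d _ hd.ne_zero hab)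
  obtain ⟨sec, hsec⟩ := Module.projective_lifting_property P.mkQ LinearMap.id P.mkQ_surjective
  have hinjF' : Function.Injective F' := fun a b h => Multiplicative.ofAdd.injective (hFinj h)
  let e := LinearEquiv.ofInjective F' hinjF'
  let R : (Fin nG → ℤ) →ₗ[ℤ] (Fin nQ → ℤ) := e.symm.toLinearMap ∘ₗ
    (LinearMap.id - sec ∘ₗ P.mkQ).codRestrict P fun m => (Submodule.Quotient.mk_eq_zero P).1 (by
      show P.mkQ (m - sec (P.mkQ m)) = 0
      rw [map_sub]; exact sub_eq_zero.2 (LinearMap.congr_fun hsec (P.mkQ m)).symm)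
  have hR : ∀ b, R (F' b) = b := fun b => by
    rw [LinearMap.comp_apply, LinearEquiv.coe_coe, LinearEquiv.symm_apply_eq]
    apply Subtype.ext
    show F' b - sec (P.mkQ (F' b)) = F' b
    rw [show P.mkQ (F' b) = 0 from (Submodule.Quotient.mk_eq_zero P).2 ⟨_, rfl⟩, map_zero, sub_zero]
  obtain ⟨s, hs⟩ := CG.surj (T := Q) ((CQ.ch (𝟙 Q)).comp (AddMonoidHom.toMultiplicative R.toAddMonoidHom))
  have hs' : ∀ {T : Over (Spec (CommRingCat.of k))} (q : T ⟶ Q) (m : Multiplicative (Fin nG → ℤ)),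
      CG.ch (q ≫ s) m = CQ.ch q (AddMonoidHom.toMultiplicative R.toAddMonoidHom m) := fun {T} q m => by
    rw [CG.nat, hs, MonoidHom.comp_apply, ← CQ.nat, Category.comp_id]
  refine ⟨s, ⟨?_, ?_⟩, CQ.inj fun a => ?_⟩
  · have hQ1 : η[Q] = (1 : 𝟙_ _ ⟶ Q) := by simp [Hom.one_def]
    have hG1 : η[G] = (1 : 𝟙_ _ ⟶ G) := by simp [Hom.one_def]
    rw [hQ1, hG1]
    refine CG.inj fun m => ?_
    rw [hs', CQ.one, CG.one]
  · refine CG.inj fun m => ?_
    have e1 : μ[Q] = fst Q Q * snd Q Q := by rw [Hom.mul_def, lift_fst_snd, Category.id_comp]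
    have e2 : (s ⊗ₘ s) ≫ μ[G] = (fst Q Q ≫ s) * (snd Q Q ≫ s) := by
      rw [Hom.mul_def]; congr 1
    rw [e1, e2, hs', CQ.mul, CG.mul, hs', hs']
  · rw [hF, hs]
    show CQ.ch (𝟙 Q) (Multiplicative.ofAdd (R (F' a.toAdd))) = _
    rw [hR]; rfl

end Groth.Agent.S14754
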