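import Groth.Statements.S14757
import Groth.Agent.Lib.AffPart25.Perfect
import Groth.Agent.S14582
import Groth.Agent.S7996

set_option autoImplicit false
universe u
open CategoryTheory CategoryTheory.Limits MonoidalCategory CartesianMonoidalCategory MonObj GrpObj AlgebraicGeometry
open AlgGrp

namespace Groth.Agent.S14757

set_option linter.style.haveILetI false
set_option backward.isDefEq.respectTransparency false
set_option backward.isDefEq.respectTransparency.types false

/-- Let k be a perfect field and G a group variety over k (smooth connected k-group scheme of finite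
type); let i : N → G be its largest smooth connected affine normal closed subgroup scheme G_lin
(every other such subgroup factors through it) and j : M → G its largest anti-affine closed subgroup
scheme G_ant (the global functions of M are the constants k, and every closed subgroup scheme with
that property factors through it). Then the multiplication G_ant × G_lin → G is a homomorphism and
is surjective. (The published statement says it is a quotient map; surjectivity is what the
published proof establishes, faithful flatness then being automatic for a surjective homomorphism of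
algebraic groups.) -/
theorem result (k : Type u) [Field k] [PerfectField k]
    (G : Over (Spec (CommRingCat.of k))) [GrpObj G] [Smooth G.hom] [QuasiCompact G.hom] [ConnectedSpace ↥G.left]
    (N : Over (Spec (CommRingCat.of k))) [GrpObj N] (i : N ⟶ G) [IsMonHom i] [IsClosedImmersion i.left]
    [Smooth N.hom] [ConnectedSpace ↥N.left] [IsAffine N.left] (hN : AlgGrp.IsNormalHom i)
    (hNmax : ∀ (N' : Over (Spec (CommRingCat.of k))) [GrpObj N'] (i' : N' ⟶ G) [IsMonHom i'] [IsClosedImmersion i'.left]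
      [Smooth N'.hom] [ConnectedSpace ↥N'.left] [IsAffine N'.left], AlgGrp.IsNormalHom i' → ∃ f : N' ⟶ N, f ≫ i = i')
    (M : Over (Spec (CommRingCat.of k))) [GrpObj M] (j : M ⟶ G) [IsMonHom j] [IsClosedImmersion j.left]
    (hM : Function.Bijective ((Scheme.ΓSpecIso (CommRingCat.of k)).inv ≫ M.hom.appTop).hom)
    (hMmax : ∀ (M' : Over (Spec (CommRingCat.of k))) [GrpObj M'] (j' : M' ⟶ G) [IsMonHom j'] [IsClosedImmersion j'.left],
      Function.Bijective ((Scheme.ΓSpecIso (CommRingCat.of k)).inv ≫ M'.hom.appTop).hom → ∃ f : M' ⟶ M, f ≫ j = j') :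
    IsMonHom ((j ⊗ₘ i) ≫ μ[G]) ∧ Surjective ((j ⊗ₘ i) ≫ μ[G]).left := by
  obtain ⟨L, _, l, Q, _, q, hlm, hlc, hla, hls, hlcon, hln, hqm, hqs, hqf, hk, hQp, hQs, hQc⟩ :=
    Groth.Agent.AffPart25.exists_chevalley_perfect G
  haveI := hlm; haveI := hlc; haveI := hla; haveI := hls; haveI := hlcon; haveI := hqm; haveI := hqs; haveI := hqf
  haveI := hQp
  obtain ⟨a, ha⟩ := hNmax L l hln
  obtain ⟨b, hb⟩ := Groth.Agent.AffPart25.exists_factor_kernel l q hk i
  haveI : Mono i := Over.mono_of_mono_left i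
  haveI : Mono l := Over.mono_of_mono_left l
  let e : L ≅ N := ⟨a, b, (cancel_mono l).1 (by rw [Category.assoc, hb, ha, Category.id_comp]),
    (cancel_mono i).1 (by rw [Category.assoc, ha, hb, Category.id_comp])⟩
  have hk' : AlgGrp.IsKernel i q :=
    IsPullback.of_iso hk e (Iso.refl _) (Iso.refl _) (Iso.refl _) (by simp [e, ha]) (toUnit_unique _ _) (by simp) (by simp)
  haveI : LocallyOfFiniteType M.hom := by rw [← Over.w j]; infer_instance
  haveI : QuasiCompact M.hom := by rw [← Over.w j]; infer_instance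
  obtain ⟨hs, -⟩ := Groth.Agent.S14582.result k G N i hN Q q hk' M j hM (fun M' _ _ _ j' _ _ h => hMmax M' j' h)
  have hc : ∀ {T : Over (Spec (CommRingCat.of k))} (m : T ⟶ M) (g : T ⟶ G), (m ≫ j) * g = g * (m ≫ j) := by
    intro T m g
    have := Groth.Agent.S7996.result k M G hM j T m T (𝟙 T) g
    simpa using this
  have e1 : ((j ⊗ₘ i) ≫ μ[G]) = (fst M N ≫ j) * (snd M N ≫ i) := by
    rw [Hom.mul_def, lift_fst_comp_snd_comp]
  refine ⟨⟨?_, ?_⟩, ?_⟩
  · have hη : η[M ⊗ N] ≫ fst M N = η[M] ∧ η[M ⊗ N] ≫ snd M N = η[N] := by simp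
    rw [e1, MonObj.comp_mul, ← Category.assoc, ← Category.assoc, hη.1, hη.2, IsMonHom.one_hom, IsMonHom.one_hom,
      one_eq_one, _root_.one_mul]
  · have hmf : μ[M ⊗ N] ≫ fst M N = (fst (M ⊗ N) (M ⊗ N) ≫ fst M N) * (snd (M ⊗ N) (M ⊗ N) ≫ fst M N) := by
      simp [Hom.mul_def, ← lift_fst_comp_snd_comp]
    have hms : μ[M ⊗ N] ≫ snd M N = (fst (M ⊗ N) (M ⊗ N) ≫ snd M N) * (snd (M ⊗ N) (M ⊗ N) ≫ snd M N) := by
      simp [Hom.mul_def, ← lift_fst_comp_snd_comp]
    rw [← lift_fst_comp_snd_comp ((j ⊗ₘ i) ≫ μ[G]) ((j ⊗ₘ i) ≫ μ[G]), ← Hom.mul_def, e1, MonObj.comp_mul,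
      MonObj.comp_mul, MonObj.comp_mul, ← Category.assoc, ← Category.assoc, hmf, hms, MonObj.mul_comp, MonObj.mul_comp]
    have h := hc (snd (M ⊗ N) (M ⊗ N) ≫ fst M N) ((fst (M ⊗ N) (M ⊗ N) ≫ snd M N) ≫ i)
    simp only [← Category.assoc] at h ⊢
    exact Commute.mul_mul_mul_comm h _ _
  · have he : (i ⊗ₘ j) ≫ μ[G] = (β_ N M).hom ≫ ((j ⊗ₘ i) ≫ μ[G]) := by
      rw [e1, MonObj.comp_mul, ← lift_fst_comp_snd_comp i j, ← Hom.mul_def, ← hc (snd N M) (fst N M ≫ i)]
      simp
    haveI : Surjective ((β_ N M).hom.left ≫ ((j ⊗ₘ i) ≫ μ[G]).left) := by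
      rw [← Over.comp_left, ← he]; exact hs
    exact Surjective.of_comp (β_ N M).hom.left _

end Groth.Agent.S14757
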