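import Groth.Statements.S14758
import Groth.Agent.Lib.HmapComp15.Basic
-- import your own Groth.Agent.* helpers here

set_option autoImplicit false
universe u
open CategoryTheory CategoryTheory.Limits MonoidalCategory CartesianMonoidalCategory MonObj GrpObj AlgebraicGeometry
open EtAdic

namespace Groth.Agent.S14758

/-- Let k be a field, ℓ, ν natural numbers, G and G' commutative k-group schemes and φ, ψ : G → G'
homomorphisms. If x ∈ H^r(G'_et, Z/ℓ^ν) is primitive, that is m^*x = p_1^*x + p_2^*x for the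
multiplication m and the projections p_1, p_2 of G' × G', then (φ + ψ)^*x = φ^*x + ψ^*x, where φ + ψ
is the sum in the group of homomorphisms. (The published lemma is for H^r_T(−, L) with T any of the
Zariski, étale or flat topologies and L any commutative algebraic group as coefficients; this row is
its case T = étale, L = Z/ℓ^ν constant, the one used later.) -/
theorem result (k : Type u) [Field k] (ℓ ν r : ℕ)
    (G G' : Over (Spec (CommRingCat.of k))) [GrpObj G] [GrpObj G'] [IsCommMonObj G] [IsCommMonObj G']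
    (φ ψ : G ⟶ G') [IsMonHom φ] [IsMonHom ψ]
    [hm : PreservesFiniteLimits (EtCoh.pull (μ[G']).left)]
    [h1 : PreservesFiniteLimits (EtCoh.pull (fst G' G').left)]
    [h2 : PreservesFiniteLimits (EtCoh.pull (snd G' G').left)]
    [hφ : PreservesFiniteLimits (EtCoh.pull φ.left)] [hψ : PreservesFiniteLimits (EtCoh.pull ψ.left)]
    [hs : PreservesFiniteLimits (EtCoh.pull (φ * ψ).left)]
    (x : EtAdic.Hmod G'.left ℓ r ν)
    (hx : EtAdic.Hmap ℓ (μ[G']).left hm r ν x =
      EtAdic.Hmap ℓ (fst G' G').left h1 r ν x + EtAdic.Hmap ℓ (snd G' G').left h2 r ν x) :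
    EtAdic.Hmap ℓ (φ * ψ).left hs r ν x = EtAdic.Hmap ℓ φ.left hφ r ν x + EtAdic.Hmap ℓ ψ.left hψ r ν x := by
  classical
  let l := lift φ ψ
  have e0 : (φ * ψ) = l ≫ μ[G'] := rfl
  have hcomp : ∀ {Z : Over (Spec (CommRingCat.of k))} (g : G' ⊗ G' ⟶ Z) (h : G ⟶ Z) (hg : PreservesFiniteLimits (EtCoh.pull g.left))
      (hh : PreservesFiniteLimits (EtCoh.pull h.left)) (y : EtAdic.Hmod Z.left ℓ r ν), l ≫ g = h →
      EtAdic.Hmap ℓ l.left inferInstance r ν (EtAdic.Hmap ℓ g.left hg r ν y) = EtAdic.Hmap ℓ h.left hh r ν y := by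
    intro Z g h hg hh y e
    subst e
    exact HmapComp15.Hmap_comp l.left g.left inferInstance hg hh r ν y
  rw [← hcomp μ[G'] (φ * ψ) hm hs x e0.symm, hx, map_add, hcomp _ φ h1 hφ x (lift_fst _ _), hcomp _ ψ h2 hψ x (lift_snd _ _)]


end Groth.Agent.S14758
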