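import Groth.Statements.S5331
import Groth.Agent.S0346

set_option autoImplicit false
universe u
open CategoryTheory CategoryTheory.Limits MonoidalCategory CartesianMonoidalCategory MonObj GrpObj AlgebraicGeometry
open SGA3

namespace Groth.Agent.S5331

/-- Let S be a scheme whose underlying topological space is discrete. Then every S-group scheme is
separated over S. -/
theorem result (S : Scheme.{u}) [DiscreteTopology S] (G : Over S) [GrpObj G] :
    IsSeparated G.hom := by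
  rw [(S0346.result S G).1]
  have he : η[G].left ≫ G.hom = 𝟙 S := Over.w η[G]
  let V : S → G.left.Opens := fun s => G.hom ⁻¹ᵁ ⟨{s}, isOpen_discrete _⟩
  have hV : TopologicalSpace.IsOpenCover V := by
    refine top_unique fun x _ => ?_
    simp only [TopologicalSpace.Opens.mem_iSup]
    exact ⟨G.hom.base x, rfl⟩
  refine IsZariskiLocalAtTarget.of_iSup_eq_top (P := @IsClosedImmersion) V hV fun s => ?_
  let U : S.Opens := ⟨{s}, isOpen_discrete _⟩
  have hc : (η[G].left ≫ G.hom) ∣_ U = (η[G].left ∣_ (G.hom ⁻¹ᵁ U)) ≫ (G.hom ∣_ U) :=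
    morphismRestrict_comp _ _ _
  haveI : IsIso (η[G].left ≫ G.hom) := by rw [he]; exact IsIso.id S
  haveI hi : IsIso ((η[G].left ≫ G.hom) ∣_ U) := inferInstance
  rw [hc] at hi
  haveI : IsIso ((η[G].left ∣_ (G.hom ⁻¹ᵁ U)) ≫ (G.hom ∣_ U)) := hi
  haveI : Subsingleton ↥(U : Scheme) :=
    ⟨fun a b => Subtype.ext ((show a.1 = s from a.2).trans (show b.1 = s from b.2).symm)⟩
  haveI : IsClosedImmersion (CategoryTheory.inv ((η[G].left ∣_ (G.hom ⁻¹ᵁ U)) ≫ (G.hom ∣_ U)) ≫ (η[G].left ∣_ (G.hom ⁻¹ᵁ U))) :=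
    isClosedImmersion_of_comp_eq_id (G.hom ∣_ U) _ (by simp)
  have h := (inferInstance : IsClosedImmersion (((η[G].left ∣_ (G.hom ⁻¹ᵁ U)) ≫ (G.hom ∣_ U)) ≫
    (CategoryTheory.inv ((η[G].left ∣_ (G.hom ⁻¹ᵁ U)) ≫ (G.hom ∣_ U)) ≫ (η[G].left ∣_ (G.hom ⁻¹ᵁ U)))))
  rw [IsIso.hom_inv_id_assoc] at h
  exact h

end Groth.Agent.S5331
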