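import Groth.Statements.S5353
import Groth.Agent.Lib.GrpQuot20.UnitDiag
import Groth.Agent.Lib.AlgSpDescent.FppfComp

set_option autoImplicit false
universe u
open CategoryTheory CategoryTheory.Limits MonoidalCategory CartesianMonoidalCategory MonObj GrpObj AlgebraicGeometry
open SGA3

namespace Groth.Agent.S5353

/-- Let A be a local artinian ring, G an A-group scheme which is flat and locally of finite type, i : G⁰
→ G an open subgroup scheme whose image is the connected component of the unit (the neutral
component), and p : G → Q a homomorphism of A-group schemes which is surjective, flat and locally of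
finite presentation with kernel G⁰ (Q is the quotient of G by G⁰). Then Q is etale over A. -/
theorem result (A : Type u) [CommRing A] [IsArtinianRing A] [IsLocalRing A] (G0 G Q : Over (Spec (CommRingCat.of A))) [GrpObj G0] [GrpObj G] [GrpObj Q]
    [Flat G.hom] [LocallyOfFiniteType G.hom] (i : G0 ⟶ G) [IsMonHom i] [IsOpenImmersion i.left]
    (pt : ↥(𝟙_ (Over (Spec (CommRingCat.of A)))).left) (hi : Set.range i.left.base = connectedComponent (η[G].left.base pt))
    (p : G ⟶ Q) [IsMonHom p] [Surjective p.left] [Flat p.left] [LocallyOfFinitePresentation p.left]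
    (hK : AlgGrp.IsKernel i p) : Etale Q.hom := by
  have e : p.left ≫ Q.hom = G.hom := Over.w p
  haveI : Flat (p.left ≫ Q.hom) := e ▸ inferInstance
  haveI : LocallyOfFiniteType (p.left ≫ Q.hom) := e ▸ inferInstance
  haveI : LocallyOfFiniteType Q.hom :=
    AlgSpDescent.locallyOfFiniteType_of_fppf_comp p.left Q.hom inferInstance inferInstance inferInstance inferInstance
  haveI : Flat Q.hom := H12.flat_of_flat_comp_refined p.left Q.hom p.left (𝟙 _) (Category.id_comp _)
  haveI : LocallyOfFinitePresentation Q.hom := inferInstance
  haveI : IsOpenImmersion η[Q].left :=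
    MorphismProperty.of_isPullback_of_descendsAlong (P := @IsOpenImmersion)
      (Q := @Surjective ⊓ @Flat ⊓ @LocallyOfFinitePresentation) (hK.map (Over.forget _))
      ⟨⟨‹Surjective p.left›, ‹Flat p.left›⟩, ‹LocallyOfFinitePresentation p.left›⟩ ‹IsOpenImmersion i.left›
  haveI := GrpQuot20.formallyUnramified_of_unit Q ‹IsOpenImmersion η[Q].left›
  exact Etale.of_formallyUnramified_of_flat Q.hom

end Groth.Agent.S5353
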