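import Groth.Statements.S14759
import Groth.Agent.Lib.Isogeny14.Kernel
import Groth.Agent.S3023
import Groth.Agent.S3030
import Groth.Agent.S5331
import Groth.Agent.S4091
import Groth.Agent.S3280
import Groth.Agent.S5353

set_option autoImplicit false
universe u
open CategoryTheory CategoryTheory.Limits MonoidalCategory CartesianMonoidalCategory MonObj GrpObj AlgebraicGeometry
open AlgGrp

namespace Groth.Agent.S14759

/-- Over a field k, every isogeny φ : G → H of k-group schemes of finite type (a surjective homomorphism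
with finite kernel) factors as φ = χ ∘ ψ with ψ : G → Q a purely inseparable isogeny (its kernel is
connected) followed by a separable isogeny χ : Q → H (its kernel is etale over k). (The published
definition of isogeny asks only for a finite kernel and an image of finite index in H; this row
takes φ surjective, which is the same notion when H is connected.) -/
theorem result (k : Type u) [Field k]
    (G H : Over (Spec (CommRingCat.of k))) [GrpObj G] [GrpObj H]
    [QuasiCompact G.hom] [LocallyOfFiniteType G.hom] [QuasiCompact H.hom] [LocallyOfFiniteType H.hom]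
    (φ : G ⟶ H) [IsMonHom φ] (hφ : SGA7.IsIsogenyOver φ) :
    ∃ (Q : Over (Spec (CommRingCat.of k))) (_ : GrpObj Q) (ψ : G ⟶ Q) (χ : Q ⟶ H),
      IsMonHom ψ ∧ IsMonHom χ ∧ ψ ≫ χ = φ ∧ SGA7.IsIsogenyOver ψ ∧ SGA7.IsIsogenyOver χ ∧
      (∀ (N : Over (Spec (CommRingCat.of k))) (n : N ⟶ G), AlgGrp.IsKernel n ψ → ConnectedSpace ↥N.left) ∧
      (∀ (N : Over (Spec (CommRingCat.of k))) (n : N ⟶ Q), AlgGrp.IsKernel n χ → Etale N.hom) := by
  obtain ⟨hsurj, hfin⟩ := hφ
  letI := Isogeny14.kerGrp φ
  haveI := Isogeny14.isMonHom_kerIncl φ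
  haveI := Isogeny14.mono_kerIncl φ
  let N := Isogeny14.kerOver φ
  let e := Isogeny14.kerIncl φ
  have hkN : AlgGrp.IsKernel e φ := IsPullback.of_map (Over.forget _)
    (Over.OverMorphism.ext (by
      show _ = _
      exact pullback.condition)) (IsPullback.of_hasPullback φ.left η[H].left)
  haveI : IsFinite N.hom := hfin N e hkN
  haveI : IsSeparated H.hom := Groth.Agent.S5331.result (Spec (CommRingCat.of k)) H
  haveI : IsSeparated G.hom := Groth.Agent.S5331.result (Spec (CommRingCat.of k)) G
  haveI : IsLocallyArtinian (Spec (CommRingCat.of k)) := inferInstance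
  haveI : IsLocallyArtinian N.left := .of_locallyQuasiFinite N.hom
  obtain ⟨N0, _, i0, _, hi0, hfl0, hrange⟩ := Groth.Agent.S3023.result k N
  haveI := hi0
  haveI := hfl0
  haveI : LocallyOfFinitePresentation i0.left := by
    haveI : IsLocallyNoetherian N.left := inferInstance
    infer_instance
  haveI : IsOpenImmersion i0.left := IsOpenImmersion.of_flat_of_mono i0.left
  haveI : Mono i0 := (Over.forget _).mono_of_mono_map (f := i0) (inferInstanceAs (Mono i0.left))
  let pt : ↥(𝟙_ (Over (Spec (CommRingCat.of k)))).left := IsLocalRing.closedPoint k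
  have hr : Set.range i0.left.base = {η[N].left.base pt} := by
    rw [hrange pt, connectedComponent_eq_singleton]
  haveI : Surjective η[N0].left := ⟨fun x => ⟨pt, i0.left.isOpenEmbedding.injective (by
    have h1 : i0.left (η[N0].left pt) = η[N].left pt := by
      show (η[N0].left ≫ i0.left) pt = _
      rw [← Over.comp_left, IsMonHom.one_hom (f := i0)]
    have h2 : i0.left x ∈ Set.range i0.left.base := ⟨x, rfl⟩
    rw [hr] at h2
    rw [h1]
    exact (Set.mem_singleton_iff.1 h2).symm)⟩⟩
  have hu : AlgGrp.IsNormalHom (i0 ≫ e) := by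
    intro T g n
    have hc : (g * (n ≫ i0 ≫ e) * g⁻¹) ≫ φ = 1 := by
      simp only [MonObj.mul_comp, GrpObj.inv_comp, Category.assoc, Isogeny14.kerIncl_comp, e,
        MonObj.comp_one, _root_.mul_one, mul_inv_cancel]
    have hc0 : (fst G N0 * (snd G N0 ≫ i0 ≫ e) * (fst G N0)⁻¹) ≫ φ = 1 := by
      simp only [MonObj.mul_comp, GrpObj.inv_comp, Category.assoc, Isogeny14.kerIncl_comp, e,
        MonObj.comp_one, _root_.mul_one, mul_inv_cancel]
    let c : T ⟶ N := Isogeny14.kerLift φ _ hc
    let c₀ : G ⊗ N0 ⟶ N := Isogeny14.kerLift φ _ hc0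
    have hcc : c = lift g n ≫ c₀ := by
      rw [← cancel_mono e, Category.assoc, Isogeny14.kerLift_incl, Isogeny14.kerLift_incl]
      simp only [MonObj.comp_mul, GrpObj.comp_inv, lift_fst, lift_snd_assoc]
    have hs : (ρ_ G).inv ≫ (G ◁ η[N0]) ≫ c₀ = toUnit G ≫ η[N] := by
      rw [← cancel_mono e]
      simp only [Category.assoc]
      rw [Isogeny14.kerLift_incl, IsMonHom.one_hom (f := e)]
      simp only [MonObj.comp_mul, GrpObj.comp_inv, whiskerLeft_fst, whiskerLeft_snd_assoc,
        rightUnitor_inv_fst, rightUnitor_inv_snd_assoc, IsMonHom.one_hom_assoc (f := i0),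
        IsMonHom.one_hom (f := e)]
      simp only [one_eq_one, MonObj.comp_one, _root_.mul_one, mul_inv_cancel]
    haveI : MorphismProperty.IsStableUnderComposition @Surjective := ⟨fun f g _ _ => inferInstance⟩
    haveI : Surjective (G ◁ η[N0]).left := by
      rw [Over.whiskerLeft_left]
      exact MorphismProperty.pullbackMap (P := @Surjective) (inferInstanceAs (Surjective (𝟙 G.left)))
        ‹Surjective η[N0].left› (Category.id_comp _).symm (Over.w η[N0]).symm
    haveI : IsIso (ρ_ G).inv.left := inferInstanceAs (IsIso ((Over.forget _).map (ρ_ G).inv))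
    haveI : Surjective ((ρ_ G).inv ≫ (G ◁ η[N0])).left := by
      rw [Over.comp_left]; infer_instance
    have hrc : Set.range c.left.base ⊆ Set.range i0.left.base := by
      rintro _ ⟨t, rfl⟩
      obtain ⟨y, hy⟩ := ((ρ_ G).inv ≫ (G ◁ η[N0])).left.surjective ((lift g n).left t)
      rw [hr, Set.mem_singleton_iff]
      show c.left t = η[N].left pt
      rw [hcc, Over.comp_left]
      show c₀.left ((lift g n).left t) = _
      rw [← hy]
      show ((((ρ_ G).inv ≫ (G ◁ η[N0])) ≫ c₀).left) y = _
      rw [Category.assoc, hs, Over.comp_left]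
      show η[N].left ((toUnit G).left y) = _
      exact congrArg _ (Subsingleton.elim (α := PrimeSpectrum k) _ _)
    let c' : T ⟶ N0 := Over.homMk (IsOpenImmersion.lift i0.left c.left hrc) (by
      rw [← Over.w i0, ← Category.assoc, IsOpenImmersion.lift_fac, Over.w])
    have hc' : c' ≫ i0 = c := Over.OverMorphism.ext (IsOpenImmersion.lift_fac _ _ _)
    exact ⟨c', by rw [reassoc_of% hc', Isogeny14.kerLift_incl]⟩
  haveI : Flat G.hom := inferInstance
  haveI : LocallyOfFiniteType N0.hom := by rw [← Over.w i0]; infer_instance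
  haveI : QuasiCompact N0.hom := by rw [← Over.w i0]; infer_instance
  haveI : Flat N0.hom := inferInstance
  haveI : QuasiCompact (i0 ≫ e).left := by
    haveI : QuasiCompact ((i0 ≫ e).left ≫ G.hom) := by rw [Over.w]; infer_instance
    exact QuasiCompact.of_comp _ G.hom
  obtain ⟨Q, _, ψ, _, _, hψs, hψp, hkψ, hsepQ, -, -⟩ := Groth.Agent.S3030.result k N0 G (i0 ≫ e) hu
  haveI := hψs
  haveI := hψp
  haveI := hsepQ
  haveI : QuasiCompact ψ.left := by
    haveI : QuasiCompact (ψ.left ≫ Q.hom) := by rw [Over.w]; infer_instance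
    exact QuasiCompact.of_comp _ Q.hom
  haveI : QuasiSeparated ψ.left := by
    haveI : QuasiSeparated (ψ.left ≫ Q.hom) := by rw [Over.w]; infer_instance
    exact QuasiSeparated.of_comp _ Q.hom
  obtain ⟨hQ1, hQ2⟩ := (Groth.Agent.S4091.result ψ.left Q.hom).1
    (by rw [Over.w]; exact ⟨inferInstance, inferInstance⟩)
  haveI := hQ1
  haveI := hQ2
  obtain ⟨χ, _, hχ, -⟩ := Groth.Agent.S3280.result k G N0 Q H ψ (i0 ≫ e) hkψ φ (by
    rw [Category.assoc, Isogeny14.kerIncl_comp, MonObj.comp_one, Hom.one_def])
  haveI := hsurj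
  haveI : Surjective χ.left := by
    haveI : Surjective (ψ.left ≫ χ.left) := by rw [← Over.comp_left, hχ]; infer_instance
    exact Surjective.of_comp ψ.left χ.left
  have hψker : ∀ (M : Over (Spec (CommRingCat.of k))) (m : M ⟶ G), AlgGrp.IsKernel m ψ →
      Nonempty (N0 ≅ M) := fun M m hm => ⟨hkψ.isoIsPullback _ _ hm⟩
  have hχker : ∀ (M : Over (Spec (CommRingCat.of k))) (m : M ⟶ Q), AlgGrp.IsKernel m χ →
      Etale M.hom ∧ IsFinite M.hom := by
    intro M m hm
    suffices h : Etale (Isogeny14.kerOver χ).hom ∧ IsFinite (Isogeny14.kerOver χ).hom by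
      have hk : AlgGrp.IsKernel (Isogeny14.kerIncl χ) χ := IsPullback.of_map (Over.forget _)
        (Over.OverMorphism.ext (by
          show _ = _
          exact pullback.condition)) (IsPullback.of_hasPullback χ.left η[H].left)
      let u := hm.isoIsPullback _ _ hk
      haveI := h.1
      haveI := h.2
      haveI : IsIso u.hom.left := inferInstanceAs (IsIso ((Over.forget _).map u.hom))
      rw [← Over.w u.hom]
      exact ⟨inferInstance, inferInstance⟩
    letI := Isogeny14.kerGrp χ
    haveI := Isogeny14.isMonHom_kerIncl χ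
    haveI := Isogeny14.mono_kerIncl χ
    let p : N ⟶ Isogeny14.kerOver χ := Isogeny14.kerLift χ (e ≫ ψ) (by
      rw [Category.assoc, hχ]; exact Isogeny14.kerIncl_comp φ)
    have hp : p ≫ Isogeny14.kerIncl χ = e ≫ ψ := Isogeny14.kerLift_incl χ _ _
    have hk : AlgGrp.IsKernel (Isogeny14.kerIncl χ) χ := IsPullback.of_map (Over.forget _)
      (Over.OverMorphism.ext (by
        show _ = _
        exact pullback.condition)) (IsPullback.of_hasPullback χ.left η[H].left)
    haveI : IsMonHom p := by
      refine ⟨?_, ?_⟩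
      · rw [← cancel_mono (Isogeny14.kerIncl χ), Category.assoc, hp,
          IsMonHom.one_hom (f := Isogeny14.kerIncl χ), IsMonHom.one_hom_assoc (f := e), IsMonHom.one_hom (f := ψ)]
      · rw [← cancel_mono (Isogeny14.kerIncl χ), Category.assoc, Category.assoc, hp,
          IsMonHom.mul_hom (f := Isogeny14.kerIncl χ), MonoidalCategory.tensorHom_comp_tensorHom_assoc, hp,
          IsMonHom.mul_hom (f := e ≫ ψ)]
    have hsq : IsPullback e p ψ (Isogeny14.kerIncl χ) := by
      refine IsPullback.of_bot ?_ hp.symm hk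
      rw [hχ, toUnit_unique (p ≫ toUnit _) (toUnit N)]
      exact hkN
    haveI : Surjective p.left :=
      MorphismProperty.of_isPullback (P := @Surjective) (hsq.map (Over.forget _)) ‹_›
    haveI : Flat p.left :=
      MorphismProperty.of_isPullback (P := @Flat) (hsq.map (Over.forget _)) ‹_›
    haveI : LocallyOfFinitePresentation p.left :=
      MorphismProperty.of_isPullback (P := @LocallyOfFinitePresentation) (hsq.map (Over.forget _)) ‹_›
    have hkp : AlgGrp.IsKernel i0 p := by
      refine IsPullback.of_right ?_ ?_ hsq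
      · rw [IsMonHom.one_hom (f := Isogeny14.kerIncl χ)]
        exact hkψ
      · rw [← cancel_mono (Isogeny14.kerIncl χ), Category.assoc, Category.assoc, hp,
          IsMonHom.one_hom (f := Isogeny14.kerIncl χ), ← Category.assoc]
        exact hkψ.w
    haveI : Etale (Isogeny14.kerOver χ).hom :=
      Groth.Agent.S5353.result k N0 N _ i0 pt (hrange pt) p hkp
    haveI : IsSeparated Q.hom := hsepQ
    haveI : UniversallyClosed (Isogeny14.kerOver χ).hom := by
      haveI : UniversallyClosed (p.left ≫ (Isogeny14.kerOver χ).hom) := by rw [Over.w]; infer_instance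
      exact UniversallyClosed.of_comp_surjective p.left _
    haveI : QuasiCompact (Isogeny14.kerOver χ).hom := inferInstance
    haveI : CompactSpace N.left := QuasiCompact.compactSpace_of_compactSpace N.hom
    haveI : Finite N.left := finite_of_compact_of_discrete
    haveI : Finite (Isogeny14.kerOver χ).left := Finite.of_surjective _ p.left.surjective
    haveI : LocallyQuasiFinite (Isogeny14.kerOver χ).hom :=
      LocallyQuasiFinite.of_finite_preimage_singleton _ fun _ => Set.toFinite _
    exact ⟨inferInstance, IsFinite.of_locallyQuasiFinite _⟩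
  refine ⟨Q, ‹_›, ψ, χ, ‹_›, ‹_›, hχ, ⟨‹_›, fun M m hm => ?_⟩, ⟨‹_›, fun M m hm => (hχker M m hm).2⟩,
    fun M m hm => ?_, fun M m hm => (hχker M m hm).1⟩
  · obtain ⟨u⟩ := hψker M m hm
    haveI : IsFinite N0.hom := by rw [← Over.w i0]; infer_instance
    haveI : IsIso u.inv.left := inferInstanceAs (IsIso ((Over.forget _).map u.inv))
    rw [← Over.w u.inv]
    infer_instance
  · obtain ⟨u⟩ := hψker M m hm
    haveI : ConnectedSpace N0.left := by
      haveI : Subsingleton N0.left := ⟨fun a b => i0.left.isOpenEmbedding.injective (by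
        have ha : i0.left a ∈ Set.range i0.left.base := ⟨a, rfl⟩
        have hb : i0.left b ∈ Set.range i0.left.base := ⟨b, rfl⟩
        rw [hr] at ha hb
        exact (Set.mem_singleton_iff.1 ha).trans (Set.mem_singleton_iff.1 hb).symm)⟩
      haveI : Nonempty N0.left := ⟨η[N0].left pt⟩
      exact ⟨inferInstance⟩
    haveI : IsIso u.hom.left := inferInstanceAs (IsIso ((Over.forget _).map u.hom))
    exact u.hom.left.homeomorph.surjective.connectedSpace u.hom.left.homeomorph.continuous

end Groth.Agent.S14759
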