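import Groth.Statements.S14763
import Groth.Agent.S14751
import Groth.Agent.Lib.GrpUnr20.Basic
import Groth.Agent.Lib.ConstrPt19.Basic
import Groth.Agent.Lib.AVQuotH1.Isog
import Groth.Agent.Lib.AVDegree22.MulRank
import Groth.Agent.Lib.AbRigid.SmoothGI
import Mathlib.AlgebraicGeometry.Group.Smooth
import Mathlib.AlgebraicGeometry.AlgClosed.Basic
import Mathlib.AlgebraicGeometry.Group.Abelian
-- import your own Groth.Agent.* helpers here

set_option autoImplicit false
universe u
open CategoryTheory CategoryTheory.Limits MonoidalCategory CartesianMonoidalCategory MonObj GrpObj AlgebraicGeometry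
open AlgGrp

namespace Groth.Agent.S14763

open CategoryTheory CategoryTheory.Limits MonoidalCategory CartesianMonoidalCategory MonObj AlgebraicGeometry

variable {k : Type u} [Field k]

/-- A surjective homomorphism of proper groups with finite kernel is finite. -/
theorem isFinite_of_isIsogenyOver {G H : Over (Spec (CommRingCat.of k))} [GrpObj G] [GrpObj H] [IsProper G.hom]
    [IsProper H.hom] (u : G ⟶ H) [IsMonHom u] (h : SGA7.IsIsogenyOver u) : IsFinite u.left := by
  let K := pullback u η[H]
  let i : K ⟶ G := pullback.fst u η[H]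
  have hK : AlgGrp.IsKernel i u := by
    have e : toUnit K = pullback.snd u η[H] := toUnit_unique _ _
    show IsPullback i (toUnit K) u η[H]
    rw [e]
    exact IsPullback.of_hasPullback u η[H]
  haveI : IsFinite K.hom := h.2 K i hK
  haveI : IsProper u.left := by
    haveI : IsProper (u.left ≫ H.hom) := by rw [Over.w u]; infer_instance
    exact IsProper.of_comp u.left H.hom
  haveI : LocallyQuasiFinite u.left := Groth.Agent.GrpUnr20.locallyQuasiFinite_of_kernel u i hK inferInstance
  exact (IsFinite.iff_isProper_and_locallyQuasiFinite u.left).2 ⟨inferInstance, inferInstance⟩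

/-- A rational point is closed. -/
theorem isClosed_point [IsAlgClosed k] {X : Over (Spec (CommRingCat.of k))} [LocallyOfFiniteType X.hom]
    (x : 𝟙_ (Over (Spec (CommRingCat.of k))) ⟶ X) :
    IsClosed ({x.left (IsLocalRing.closedPoint k)} : Set X.left) :=
  ((pointEquivClosedPoint X.hom) ⟨x.left, Over.w x⟩).2


set_option linter.style.haveILetI false
set_option backward.isDefEq.respectTransparency.types false


/-- Over an algebraically closed field k let G be a commutative group variety (smooth connected
commutative k-group scheme of finite type) written as an extension 0 → L → G → A → 0 of an abelian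
variety by its largest connected affine subgroup: i : L → G a smooth connected affine closed
subgroup scheme, kernel of a flat surjective homomorphism π : G → A onto an abelian variety A
(proper, smooth, connected). Then the following are equivalent: (a) for some d ≥ 1 there is a
homomorphism s : A → G with π ∘ s equal to multiplication by d on A (the class of the extension is
killed by d: its pullback along multiplication by d splits); (b) there is an abelian subvariety A'
of G (a smooth connected proper closed subgroup scheme) with A' · L = G, that is, the multiplication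
A' × L → G is surjective. (The published statement phrases (a) as the class of G having finite order
in the group of extension classes and (b) as G being isogenous to L × A; the published proof passes
through exactly the two conditions stated here.) -/
theorem result (k : Type u) [Field k] [IsAlgClosed k]
    (G L A : Over (Spec (CommRingCat.of k))) [GrpObj G] [GrpObj L] [GrpObj A] [IsCommMonObj G]
    [Smooth G.hom] [QuasiCompact G.hom] [ConnectedSpace ↥G.left]
    (i : L ⟶ G) [IsMonHom i] [IsClosedImmersion i.left] [IsAffine L.left] [Smooth L.hom] [ConnectedSpace ↥L.left]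
    (π : G ⟶ A) [IsMonHom π] [Flat π.left] [Surjective π.left] (hker : AlgGrp.IsKernel i π)
    [IsProper A.hom] [Smooth A.hom] [ConnectedSpace ↥A.left] :
    (∃ d : ℕ, 0 < d ∧ ∃ s : A ⟶ G, IsMonHom s ∧ s ≫ π = (𝟙 A) ^ d) ↔
      (∃ (A' : Over (Spec (CommRingCat.of k))) (_ : GrpObj A') (j : A' ⟶ G), IsMonHom j ∧ IsClosedImmersion j.left ∧
        Smooth A'.hom ∧ ConnectedSpace ↥A'.left ∧ IsProper A'.hom ∧ Surjective ((j ⊗ₘ i) ≫ μ[G]).left) := by
  classical
  haveI := Groth.Agent.AbRigid.isSeparated_of_grpObj G
  haveI : LocallyOfFiniteType G.hom := inferInstance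
  haveI : GeometricallyReduced A.hom := Groth.Agent.AbRigid.geometricallyReduced_of_smooth A.hom
  haveI : GeometricallyIntegral A.hom := Groth.Agent.AbRigid.geometricallyIntegral_of_connected A
  haveI := isCommMonObj_of_isProper_of_geometricallyIntegral A
  constructor
  · rintro ⟨d, hd, s, hs, hsπ⟩
    haveI := hs
    obtain ⟨Z, hZg, j, q, hj, hq, hjc, hZp, hZi, hqs, -, -, hqj⟩ := Groth.Agent.AbRigid.exists_image A G s
    haveI := hj; haveI := hjc; haveI := hZp; haveI := hZi; haveI := hq
    haveI : Smooth Z.hom := @smooth_of_grpObj k _ _ Z.hom _ (show GrpObj (Over.mk Z.hom) from hZg) _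
    haveI : IsIntegral Z.left := GeometricallyIntegral.isIntegral_of_subsingleton Z.hom
    haveI : LocallyOfFiniteType L.hom := inferInstance
    refine ⟨Z, hZg, j, hj, hjc, inferInstance, inferInstance, hZp, ?_⟩
    have hpow : Surjective (𝟙 A ^ d).left := (Groth.Agent.AVDegree22.isFinite_flat_surjective_pow A hd).2.2
    haveI : Surjective G.hom := ⟨fun p => ⟨η[G].left p, Subsingleton.elim (α := PrimeSpectrum k) _ p⟩⟩
    haveI := LocallyOfFiniteType.jacobsonSpace (Y := Spec _) G.hom
    haveI : CompactSpace G.left := QuasiCompact.compactSpace_of_compactSpace G.hom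
    haveI : QuasiSeparatedSpace G.left :=
      quasiSeparatedSpace_of_quasiSeparated G.hom
    haveI : QuasiCompact L.hom := inferInstance
    haveI : IsLocallyNoetherian G.left := LocallyOfFiniteType.isLocallyNoetherian G.hom
    haveI : QuasiCompact (Z ⊗ L).hom := inferInstanceAs (QuasiCompact (pullback.fst Z.hom L.hom ≫ Z.hom))
    haveI : LocallyOfFiniteType (Z ⊗ L).hom := inferInstanceAs (LocallyOfFiniteType (pullback.fst Z.hom L.hom ≫ Z.hom))
    let m := (j ⊗ₘ i) ≫ μ[G]
    haveI : LocallyOfFiniteType m.left := by
      haveI : LocallyOfFiniteType (m.left ≫ G.hom) := by rw [Over.w m]; infer_instance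
      exact locallyOfFiniteType_of_comp m.left G.hom
    haveI : QuasiCompact m.left := by
      haveI : QuasiCompact (m.left ≫ G.hom) := by rw [Over.w m]; infer_instance
      exact QuasiCompact.of_comp m.left G.hom
    refine Groth.Agent.ConstrPt19.surjective_of_closedPoints m.left fun y hy => ?_
    let g : 𝟙_ (Over (Spec (CommRingCat.of k))) ⟶ G := Over.homMk (pointOfClosedPoint G.hom y hy) (by simp)
    have hy' : g.left (IsLocalRing.closedPoint k) = y := pointOfClosedPoint_apply _ _ _ _
    -- a point of `A` with `d`-th power the image of `g`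
    obtain ⟨x, hx⟩ : ∃ x : 𝟙_ (Over (Spec (CommRingCat.of k))) ⟶ A, x ≫ (𝟙 A ^ d) = g ≫ π := by
      haveI := LocallyOfFiniteType.jacobsonSpace (Y := Spec _) A.hom
      haveI := hpow
      obtain ⟨a, ha, hac⟩ : ∃ a : A.left, (𝟙 A ^ d).left a = (g ≫ π).left (IsLocalRing.closedPoint k) ∧
          IsClosed ({a} : Set A.left) := by
        have hc : IsClosed ({(g ≫ π).left (IsLocalRing.closedPoint k)} : Set A.left) :=
          Groth.Agent.S14763.isClosed_point (g ≫ π)
        obtain ⟨a, ha, hac⟩ := nonempty_inter_closedPoints
          (X := A.left) (Z := (𝟙 A ^ d).left ⁻¹' {(g ≫ π).left (IsLocalRing.closedPoint k)})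
          (by obtain ⟨a, ha⟩ := (𝟙 A ^ d).left.surjective ((g ≫ π).left (IsLocalRing.closedPoint k))
              exact ⟨a, ha⟩)
          (hc.preimage (𝟙 A ^ d).left.continuous).isLocallyClosed
        exact ⟨a, ha, hac⟩
      refine ⟨Over.homMk (pointOfClosedPoint A.hom a hac) (by simp), Over.OverMorphism.ext ?_⟩
      refine ext_of_apply_closedPoint_eq A.hom (Over.w _) (Over.w _) ?_
      exact (congrArg (𝟙 A ^ d).left (pointOfClosedPoint_apply _ _ _ _)).trans ha
    let z : 𝟙_ (Over (Spec (CommRingCat.of k))) ⟶ Z := x ≫ q
    have hzπ : (z ≫ j) ≫ π = g ≫ π := by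
      rw [Category.assoc, Category.assoc, reassoc_of% hqj, hsπ, hx]
    have hker' : ((z ≫ j)⁻¹ * g) ≫ π = toUnit _ ≫ η[A] := by
      rw [MonObj.mul_comp, GrpObj.inv_comp, hzπ, inv_mul_cancel, Hom.one_def]
    let n := hker.lift ((z ≫ j)⁻¹ * g) (toUnit _) hker'
    have hn : n ≫ i = (z ≫ j)⁻¹ * g := hker.lift_fst _ _ _
    have hm : lift z n ≫ m = g := by
      show lift z n ≫ (j ⊗ₘ i) ≫ μ[G] = g
      rw [lift_map_assoc, ← Hom.mul_def, hn, mul_inv_cancel_left]
    exact ⟨(lift z n).left (IsLocalRing.closedPoint k), by rw [← hy', ← hm]; rfl⟩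
  · rintro ⟨A', hA'g, j, hj, hjc, hA's, hA'c, hA'p, hsurj⟩
    haveI := hj; haveI := hjc; haveI := hA's; haveI := hA'c; haveI := hA'p
    obtain ⟨-, -, hiso⟩ := Groth.Agent.S14751.result k G L A' A i π hker j hsurj
    haveI : GeometricallyReduced A'.hom := Groth.Agent.AbRigid.geometricallyReduced_of_smooth A'.hom
    haveI : GeometricallyIntegral A'.hom := Groth.Agent.AbRigid.geometricallyIntegral_of_connected A'
    haveI := isCommMonObj_of_isProper_of_geometricallyIntegral A'
    haveI : IsFinite (j ≫ π).left := Groth.Agent.S14763.isFinite_of_isIsogenyOver (j ≫ π) hiso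
    haveI : Surjective (j ≫ π).left := hiso.1
    obtain ⟨N, g, hN, hg, -, hgf⟩ :=
      Groth.Agent.AVQuotH1.exists_quasiInverse (Z := ⟨A'⟩) (Q := ⟨A⟩) (j ≫ π)
    haveI : IsMonHom g := hg
    exact ⟨N, hN, g ≫ j, inferInstance, by rw [Category.assoc]; exact hgf⟩

end Groth.Agent.S14763
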