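import Groth.Statements.S14764
import Groth.Agent.Lib.AffPart15.Inter
-- import your own Groth.Agent.* helpers here

set_option autoImplicit false
universe u
open CategoryTheory CategoryTheory.Limits MonoidalCategory CartesianMonoidalCategory MonObj GrpObj AlgebraicGeometry
open AlgGrp

namespace Groth.Agent.S14764

/-- Over an algebraically closed field k let G be a group variety (smooth connected k-group scheme of
finite type), i : G_lin → G its largest smooth connected affine normal closed subgroup scheme, j : D
→ G its largest anti-affine closed subgroup scheme G_ant (global functions the constants; every such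
subgroup factors through it), and i_D : D_lin → D the largest smooth connected affine normal closed
subgroup scheme of D. Then D_lin is contained in G_lin (i_D ∘ j factors through i) and has finite
index in the scheme-theoretic intersection D ∩ G_lin, in the sense that D_lin and D ×_G G_lin have
the same dimension; equivalently D_lin is the reduced identity component of D ∩ G_lin. -/
theorem result (k : Type u) [Field k] [IsAlgClosed k]
    (G : Over (Spec (CommRingCat.of k))) [GrpObj G] [Smooth G.hom] [QuasiCompact G.hom] [ConnectedSpace ↥G.left]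
    (N : Over (Spec (CommRingCat.of k))) [GrpObj N] (i : N ⟶ G) [IsMonHom i] [IsClosedImmersion i.left]
    [Smooth N.hom] [ConnectedSpace ↥N.left] [IsAffine N.left] (hN : AlgGrp.IsNormalHom i)
    (hNmax : (∀ (N' : Over (Spec (CommRingCat.of k))) [GrpObj N'] (i' : N' ⟶ G) [IsMonHom i'] [IsClosedImmersion i'.left]
      [Smooth N'.hom] [ConnectedSpace ↥N'.left] [IsAffine N'.left], AlgGrp.IsNormalHom i' → ∃ f : N' ⟶ N, f ≫ i = i'))
    (D : Over (Spec (CommRingCat.of k))) [GrpObj D] (j : D ⟶ G) [IsMonHom j] [IsClosedImmersion j.left]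
    (hD : Function.Bijective ((Scheme.ΓSpecIso (CommRingCat.of k)).inv ≫ D.hom.appTop).hom)
    (hDmax : ∀ (M' : Over (Spec (CommRingCat.of k))) [GrpObj M'] (j' : M' ⟶ G) [IsMonHom j'] [IsClosedImmersion j'.left],
      Function.Bijective ((Scheme.ΓSpecIso (CommRingCat.of k)).inv ≫ M'.hom.appTop).hom → ∃ f : M' ⟶ D, f ≫ j = j')
    (ND : Over (Spec (CommRingCat.of k))) [GrpObj ND] (iD : ND ⟶ D) [IsMonHom iD] [IsClosedImmersion iD.left]
    [Smooth ND.hom] [ConnectedSpace ↥ND.left] [IsAffine ND.left] (hND : AlgGrp.IsNormalHom iD)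
    (hNDmax : (∀ (N' : Over (Spec (CommRingCat.of k))) [GrpObj N'] (i' : N' ⟶ D) [IsMonHom i'] [IsClosedImmersion i'.left]
      [Smooth N'.hom] [ConnectedSpace ↥N'.left] [IsAffine N'.left], AlgGrp.IsNormalHom i' → ∃ f : N' ⟶ ND, f ≫ iD = i')) :
    (∃ g : ND ⟶ N, g ≫ i = iD ≫ j) ∧
      topologicalKrullDim ↥ND.left = topologicalKrullDim ↥(pullback j.left i.left) := by
  haveI : QuasiCompact D.hom := by rw [← Over.w j]; infer_instance
  haveI : LocallyOfFiniteType D.hom := by rw [← Over.w j]; infer_instance
  refine AffPart15.linearPart_inter j (fun g {H} _ _ _ _ h _ _ => ?_) i hN hNmax iD hNDmax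
  let φ : D ⟶ G := Chevalley25.cst D g * j * (Chevalley25.cst D g)⁻¹
  haveI : IsMonHom φ := TorsorSch25.isMonHom_of_points φ fun T x y => by
    simp only [φ, MonObj.comp_mul, GrpObj.comp_inv, Chevalley25.comp_cst, MonObj.mul_comp]
    group
  haveI : IsClosedImmersion φ.left := AffPart15.isClosedImmersion_conj j g
  obtain ⟨f, hf⟩ := hDmax D φ hD
  refine ⟨h ≫ f, ?_⟩
  rw [Category.assoc, hf]
  simp only [φ, MonObj.comp_mul, GrpObj.comp_inv, Chevalley25.comp_cst]


end Groth.Agent.S14764
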