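import Groth.Statements.S14767
import Groth.Agent.Lib.Subtr12.Basic


set_option autoImplicit false
universe u
set_option linter.style.haveILetI false
open CategoryTheory CategoryTheory.Limits AlgebraicGeometry
open Subtr

namespace Groth.Agent.S14767

/-- Let f : X ⟶ Y be a quasi-compact morphism of schemes. Then f is universally submersive if and only
if, for every valuation ring V and every morphism Spec V ⟶ Y, the base change X ×_Y Spec V ⟶ Spec V
is submersive (its underlying continuous map is a quotient map). (The published statement asks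
instead that f be universally submersive for the constructible topologies, which holds for
quasi-compact surjective morphisms; both sides here force f to be surjective.) -/
theorem result {X Y : Scheme.{u}} (f : X ⟶ Y) [QuasiCompact f] :
    SGA1.UnivSubmersive f ↔
      ∀ (V : Type u) [CommRing V] [IsDomain V] [ValuationRing V] (g : Spec (CommRingCat.of V) ⟶ Y),
        Topology.IsQuotientMap (pullback.snd f g) := by
  constructor
  · intro h V _ _ _ g
    exact h _ _ _ (IsPullback.of_hasPullback f g).flip
  · intro h X' Y' i₁ i₂ f' hP₀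
    show Topology.IsQuotientMap f'
    have hP := hP₀.flip
    haveI : QuasiCompact f' := MorphismProperty.of_isPullback hP ‹_›
    refine Topology.isQuotientMap_iff_isClosed.2 ⟨fun y => ?_, fun C => ⟨fun hC => hC.preimage f'.continuous,
      fun hC => ?_⟩⟩
    · obtain ⟨W, _, _, _, g, -, hg⟩ := ValSq12.exists_valRing_pair (specializes_refl y)
      obtain ⟨z, hz⟩ := (h W (g ≫ i₂)).surjective (IsLocalRing.closedPoint W)
      refine ⟨hP.lift (pullback.fst _ _) (pullback.snd _ _ ≫ g)
        (by rw [Category.assoc]; exact pullback.condition) z, ?_⟩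
      rw [← Scheme.Hom.comp_apply, hP.lift_snd, Scheme.Hom.comp_apply, hz, hg]
    let I := Scheme.IdealSheafData.vanishingIdeal (⟨_, hC⟩ : TopologicalSpace.Closeds X')
    let q := I.subschemeι ≫ f'
    have hq : Set.range q ⊆ C := by
      rintro _ ⟨w, rfl⟩
      rw [Scheme.Hom.comp_apply]
      have : I.subschemeι w ∈ (I.support : Set X') := by
        rw [← Scheme.IdealSheafData.range_subschemeι]; exact ⟨w, rfl⟩
      rw [Scheme.IdealSheafData.coe_support_vanishingIdeal] at this
      exact this
    have hCq : C ⊆ Set.range q := by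
      intro y hy
      obtain ⟨W, _, _, _, g, -, hg⟩ := ValSq12.exists_valRing_pair (specializes_refl y)
      obtain ⟨z, hz⟩ := (h W (g ≫ i₂)).surjective (IsLocalRing.closedPoint W)
      let l := hP.lift (pullback.fst f (g ≫ i₂)) (pullback.snd _ _ ≫ g)
        (by rw [Category.assoc]; exact pullback.condition)
      have hl : f' (l z) = y := by
        rw [← Scheme.Hom.comp_apply, hP.lift_snd, Scheme.Hom.comp_apply, hz, hg]
      obtain ⟨w, hw⟩ : l z ∈ Set.range I.subschemeι := by
        rw [Scheme.IdealSheafData.range_subschemeι, Scheme.IdealSheafData.coe_support_vanishingIdeal]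
        show f' (l z) ∈ C
        rw [hl]; exact hy
      exact ⟨w, by rw [Scheme.Hom.comp_apply, hw, hl]⟩
    refine isClosed_of_closure_subset fun y hy => ?_
    haveI : QuasiCompact q := inferInstance
    obtain ⟨w, hw⟩ := QF.exists_specializes_of_mem_closure q (closure_mono hCq hy)
    have hy' : q w ∈ C := hq ⟨w, rfl⟩
    obtain ⟨W, _, _, _, g, hg', hg⟩ := ValSq12.exists_valRing_pair hw
    let l := hP.lift (pullback.fst f (g ≫ i₂)) (pullback.snd _ _ ≫ g)
      (by rw [Category.assoc]; exact pullback.condition)
    have hpre : (pullback.snd f (g ≫ i₂)) ⁻¹' (g ⁻¹' C) = l ⁻¹' (f' ⁻¹' C) := by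
      ext z
      show g _ ∈ C ↔ f' (l z) ∈ C
      rw [← Scheme.Hom.comp_apply, ← Scheme.Hom.comp_apply, hP.lift_snd]
    have hcl : IsClosed (g ⁻¹' C) := (h W (g ≫ i₂)).isClosed_preimage.1
      (by rw [hpre]; exact hC.preimage l.continuous)
    rw [← hg]
    exact (IsLocalRing.specializes_closedPoint
      ((⟨⊥, Ideal.isPrime_bot⟩ : PrimeSpectrum W) : Spec (CommRingCat.of W))).mem_closed hcl
        (show g _ ∈ C by rw [hg']; exact hy')


end Groth.Agent.S14767
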