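import Groth.Statements.S14769
import Groth.Agent.Lib.Subtr12.Basic


set_option autoImplicit false
universe u
open CategoryTheory CategoryTheory.Limits AlgebraicGeometry
open Subtr

namespace Groth.Agent.S14769

/-- Let f : X ⟶ Y be any morphism of schemes. Then every base change of f has the lifting property for
ordered pairs of points if and only if, for every valuation ring V and morphism g : Spec V ⟶ Y,
there are a valuation ring V', a morphism a : Spec V' ⟶ X and a surjective morphism b : Spec V' ⟶
Spec V with a ≫ f = b ≫ g. (The published statement assumes f universally submersive for the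
constructible topologies and concludes universal subtrusiveness; for quasi-compact f the two agree.) -/
theorem result {X Y : Scheme.{u}} (f : X ⟶ Y) :
    Subtr.UnivSSubtrusive f ↔
      ∀ (V : Type u) [CommRing V] [IsDomain V] [ValuationRing V] (g : Spec (CommRingCat.of V) ⟶ Y),
        ∃ (V' : Type u) (_ : CommRing V') (_ : IsDomain V') (_ : ValuationRing V')
          (a : Spec (CommRingCat.of V') ⟶ X) (b : Spec (CommRingCat.of V') ⟶ Spec (CommRingCat.of V)),
          Surjective b ∧ a ≫ f = b ≫ g := by
  constructor
  · intro h V _ _ _ g
    obtain ⟨z, z', hz, h1, h2⟩ := Subtr12.isSSubtrusive_pullback h g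
      (y := IsLocalRing.closedPoint V) (y' := (⟨⊥, Ideal.isPrime_bot⟩ : PrimeSpectrum V))
      (IsLocalRing.specializes_closedPoint _)
    obtain ⟨W, _, _, _, m, hm⟩ := Subtr12.exists_valRing_surjective (pullback.snd f g) hz h1 h2
    exact ⟨W, inferInstance, inferInstance, inferInstance, m ≫ pullback.fst f g,
      m ≫ pullback.snd f g, hm, by simp only [Category.assoc, pullback.condition]⟩
  · intro h
    refine Subtr12.univ_of_forall_valRing f fun V _ _ _ g y y' hy => ?_
    obtain ⟨W, _, _, _, a, b, hb, hab⟩ := h V g
    haveI := hb
    obtain ⟨σ, hσ, hσ'⟩ := Subtr12.exists_section b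
    let l := pullback.lift a b hab
    refine ⟨l (σ y), l (σ y'), (hσ' _ _ hy).map l.continuous, ?_, ?_⟩ <;>
      rw [← Scheme.Hom.comp_apply, pullback.lift_snd, hσ]


end Groth.Agent.S14769
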