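import Groth.Statements.S14774
import Groth.Agent.Lib.EtEff25.Affine

set_option autoImplicit false
universe u
open CategoryTheory CategoryTheory.Limits AlgebraicGeometry
open Subtr

namespace Groth.Agent.S14774

open Groth.Agent.EtEff25

/-- Let g : S' ⟶ S be a quasi-compact morphism every base change of which has the lifting property for
ordered pairs of points. Then every descent datum relative to g whose underlying scheme is étale,
separated and quasi-compact over S' is isomorphic to the canonical descent datum of a scheme étale,
separated and quasi-compact over S. (The published result is stated for étale algebraic spaces,
which need not be separated; this row states the case of separated objects, where everything is a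
scheme. Descent data are taken in functor-of-points form. The published setting takes S
quasi-separated; the statement is local on S.) -/
theorem result {S' S : Scheme.{u}} (g : S' ⟶ S)
    [QuasiCompact g] (hg : Subtr.UnivSSubtrusive g)
    (D : Desc.SchDD g) [QuasiCompact D.obj.hom] [IsSeparated D.obj.hom] [Etale D.obj.hom] :
    ∃ U : Over S, QuasiCompact U.hom ∧ IsSeparated U.hom ∧ Etale U.hom ∧ Nonempty ((Desc.toDD g).obj U ≅ D) := by
  exact exists_effective_of_univSSubtrusive_qc hg D

end Groth.Agent.S14774
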