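import Groth.Statements.S14775
import Groth.Agent.Lib.EtEff25.Affine
import Groth.Agent.S14770

set_option autoImplicit false
universe u
open CategoryTheory CategoryTheory.Limits AlgebraicGeometry
open Subtr

namespace Groth.Agent.S14775

open Groth.Agent.EtEff25

/-- Let S and S' be Noetherian schemes and g : S' ⟶ S a universally submersive morphism. Then every
descent datum relative to g whose underlying scheme is étale, separated and quasi-compact over S' is
isomorphic to the canonical descent datum of a scheme étale, separated and quasi-compact over S.
(The published result is stated for étale algebraic spaces, which need not be separated; this row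
states the case of separated objects, where everything is a scheme. Descent data are taken in
functor-of-points form.) -/
theorem result {S' S : Scheme.{u}}
    [IsNoetherian S] [IsNoetherian S'] (g : S' ⟶ S) (hg : SGA1.UnivSubmersive g)
    (D : Desc.SchDD g) [QuasiCompact D.obj.hom] [IsSeparated D.obj.hom] [Etale D.obj.hom] :
    ∃ U : Over S, QuasiCompact U.hom ∧ IsSeparated U.hom ∧ Etale U.hom ∧ Nonempty ((Desc.toDD g).obj U ≅ D) := by
  haveI : QuasiCompact g := ⟨fun U _ _ => TopologicalSpace.NoetherianSpace.isCompact _⟩
  exact exists_effective_of_univSSubtrusive_qc (S14770.result g |>.1 hg) D

end Groth.Agent.S14775
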