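import Groth.Statements.S14778
import Groth.Agent.Lib.EtEff25.Subtr

set_option autoImplicit false
universe u
open CategoryTheory CategoryTheory.Limits AlgebraicGeometry
open Subtr

namespace Groth.Agent.S14778

open Groth.Agent.EtEff25

/-- Let S and S' be quasi-separated schemes and g : S' ⟶ S a morphism of finite presentation every base
change of which has the lifting property for ordered pairs of points. Then every descent datum
relative to g whose underlying scheme is étale and separated over S' is isomorphic to the canonical
descent datum of a scheme étale and separated over S. (The published result is stated for étale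
algebraic spaces, which need not be separated; this row states the case of separated objects, where
everything is a scheme. Descent data are taken in functor-of-points form.) -/
theorem result {S' S : Scheme.{u}}
    [QuasiSeparatedSpace S] [QuasiSeparatedSpace S'] (g : S' ⟶ S)
    [LocallyOfFinitePresentation g] [QuasiCompact g] [QuasiSeparated g] (hg : Subtr.UnivSSubtrusive g)
    (D : Desc.SchDD g) [IsSeparated D.obj.hom] [Etale D.obj.hom] :
    ∃ U : Over S, IsSeparated U.hom ∧ Etale U.hom ∧ Nonempty ((Desc.toDD g).obj U ≅ D) := by
  obtain ⟨U, h₁, h₂, -, h₄⟩ := exists_effective_of_univSSubtrusive hg D
  exact ⟨U, h₁, h₂, h₄⟩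

end Groth.Agent.S14778
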