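import Groth.Statements.S1478
import Groth.Agent.Lib.AffHom12.OmegaSect
import Groth.Agent.Lib.ModM1.Exact
import Mathlib.AlgebraicGeometry.Morphisms.FormallyUnramified

set_option autoImplicit false
universe u
open FlatMor

set_option backward.isDefEq.respectTransparency.types false

namespace Groth.Agent.S1478


open AlgebraicGeometry CategoryTheory Limits in
lemma kaehler_subsingleton_iff {X S : Scheme.{u}} (f : X ⟶ S) [QuasiSeparated f] (U : X.affineOpens) (V : S.affineOpens)
    (h : U.1 ≤ f ⁻¹ᵁ V.1) :
    (f.appLE V.1 U.1 h).hom.FormallyUnramified ↔ Subsingleton Γ(Omega.sheaf f, U.1) := by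
  let _ : Algebra Γ(S, V.1) Γ(X, U.1) := (f.appLE V.1 U.1 h).hom.toAlgebra
  obtain ⟨c⟩ := Groth.Agent.AffHom12.nonempty_chart f U.2 V.2 h rfl
  have hW := Groth.Agent.AffHom12.isAffineOpen_WW f U.2 V.2 h rfl
  let L := (OmAff.toSect f V.1 U.1 h).hom
  have hL : ∀ b, L (KaehlerDifferential.D Γ(S, V.1) Γ(X, U.1) b) = OmegaSh.dSect f U.1 b :=
    fun b => OmAff.toSect_d f V.1 U.1 h b
  let e := LinearEquiv.ofBijective L
    ⟨Groth.Agent.AffHom12.injective_L f U.2 c hW L hL, Groth.Agent.AffHom12.surjective_L f U.2 c hW L hL⟩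
  rw [RingHom.FormallyUnramified, Algebra.formallyUnramified_iff]
  exact e.toEquiv.subsingleton_congr


open AlgebraicGeometry CategoryTheory Limits in
/-- For separated morphisms (where the sheaf of differentials is literally the conormal sheaf of the
closed diagonal): a separated morphism f : X → S is formally unramified if and only if Ω_{X/S}, the
conormal sheaf of the diagonal, is the zero O_X-module. -/
theorem result {X S : Scheme.{u}} (f : X ⟶ S) [IsSeparated f] :
    FormallyUnramified f ↔ IsZero (Omega.sheaf f) := by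
  constructor
  · intro hf
    have key : ∀ (O : X.Opens) (s : Γ(Omega.sheaf f, O)), s = 0 := by
      intro O s
      refine Groth.Agent.M1.section_ext s 0 fun x hx => ?_
      obtain ⟨V, hV, hxV, -⟩ := exists_isAffineOpen_mem_and_subset (X := S) (x := f x) (U := ⊤) trivial
      obtain ⟨U, hU, hxU, hle⟩ := exists_isAffineOpen_mem_and_subset (X := X) (x := x) (U := O ⊓ f ⁻¹ᵁ V) ⟨hx, hxV⟩
      have hsub := (kaehler_subsingleton_iff f ⟨U, hU⟩ ⟨V, hV⟩ (fun y hy => (hle hy).2)).1
        (HasRingHomProperty.appLE @FormallyUnramified f hf ⟨V, hV⟩ ⟨U, hU⟩ _)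
      have hUO : U ≤ O := fun y hy => (hle hy).1
      rw [← (Omega.sheaf f).presheaf.germ_res_apply (homOfLE hUO) x hxU s,
        hsub.elim ((Omega.sheaf f).presheaf.map (homOfLE hUO).op s) 0, map_zero, map_zero]
    rw [IsZero.iff_id_eq_zero]
    refine Scheme.Modules.hom_ext _ _ fun O => ?_
    ext s
    exact (key O s).trans (key O _).symm
  · intro hz
    rw [HasRingHomProperty.iff_appLE (P := @FormallyUnramified)]
    intro V U e
    refine (kaehler_subsingleton_iff f U V e).2 ⟨fun s t => ?_⟩
    have h0 := congrArg (fun φ : Omega.sheaf f ⟶ Omega.sheaf f => φ.app U.1) ((IsZero.iff_id_eq_zero _).1 hz)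
    have : ∀ s : Γ(Omega.sheaf f, U.1), s = 0 := fun s => by
      have := congr($h0 s); simpa using this
    rw [this s, this t]

end Groth.Agent.S1478
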