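import Groth.Statements.S14783
import Groth.Agent.Lib.Subtr12.LocClosed


set_option autoImplicit false
universe u
open CategoryTheory CategoryTheory.Limits AlgebraicGeometry
open Subtr

namespace Groth.Agent.S14783

/-- Let f : S' ⟶ S be a quasi-compact morphism of schemes every base change of which has the lifting
property for ordered pairs of points, and E ⊆ S any subset. For E to be both locally closed and
retrocompact it is necessary and sufficient that f⁻¹(E) be both. -/
theorem result {S' S : Scheme.{u}} (f : S' ⟶ S)
    [QuasiCompact f] (hf : Subtr.UnivSSubtrusive f) (E : Set S) :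
    (IsLocallyClosed E ∧ IsRetrocompact E) ↔
      (IsLocallyClosed (f ⁻¹' E) ∧ IsRetrocompact (f ⁻¹' E)) := by
  constructor
  · rintro ⟨hl, hr⟩
    obtain ⟨Z, j, _, hj⟩ := Groth.Agent.Subtr12.exists_quasiCompact_range hl hr
    obtain ⟨Z', j', _, hj'⟩ := Groth.Agent.Subtr12.exists_quasiCompact_range_preimage f j
    refine ⟨hl.preimage f.continuous, ?_⟩
    rw [← hj, ← hj']
    exact Groth.Agent.Subtr12.isRetrocompact_range j'
  · rintro ⟨hl, hr⟩
    obtain ⟨Z, j, _, hj⟩ := Groth.Agent.Subtr12.exists_quasiCompact_range hl hr
    refine ⟨Groth.Agent.Subtr12.isLocallyClosed_of_preimage f hf hl j hj, ?_⟩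
    have hE : Set.range (j ≫ f) = E := by
      rw [show Set.range (j ≫ f) = f '' Set.range j from by rw [← Set.range_comp]; rfl, hj]
      exact Set.image_preimage_eq _ (Groth.Agent.Subtr12.surjective_of_univ hf)
    rw [← hE]
    exact Groth.Agent.Subtr12.isRetrocompact_range (j ≫ f)


end Groth.Agent.S14783
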