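import Groth.Statements.S14784
import Groth.Agent.Lib.Subtr12.LocClosed


set_option autoImplicit false
universe u
open CategoryTheory CategoryTheory.Limits AlgebraicGeometry
open Subtr

namespace Groth.Agent.S14784

/-- Let f : S' ⟶ S be a morphism of schemes of finite presentation every base change of which has the
lifting property for ordered pairs of points, and E ⊆ S a subset. Then E is locally closed if and
only if f⁻¹(E) is locally closed. (The published statement is for algebraic spaces; this row is the
case of schemes.) -/
theorem result {S' S : Scheme.{u}} (f : S' ⟶ S)
    [LocallyOfFinitePresentation f] [QuasiCompact f] [QuasiSeparated f]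
    (hf : Subtr.UnivSSubtrusive f) (E : Set S) :
    IsLocallyClosed E ↔ IsLocallyClosed (f ⁻¹' E) := ⟨fun h => h.preimage f.continuous, Groth.Agent.Subtr12.isLocallyClosed_of_preimage_fp f hf⟩


end Groth.Agent.S14784
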