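import Groth.Statements.S14788
import Groth.Agent.Lib.SubtrCl12.Basic


set_option autoImplicit false
universe u
open CategoryTheory CategoryTheory.Limits AlgebraicGeometry
open Subtr

namespace Groth.Agent.S14788

/-- (i) ⇔ (iv): a morphism of schemes f : X ⟶ Y has the lifting property for ordered pairs of points if
and only if, for every pro-constructible subset Z ⊆ Y, the image under f of the closure of f⁻¹(Z) is
the closure of Z. (In the published item (iv) the right-hand side is printed as Z itself; the
closure is meant, as the case of a non-closed point shows and as the proof uses.) -/
theorem result {X Y : Scheme.{u}} (f : X ⟶ Y) :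
    Subtr.IsSSubtrusive f ↔
      ∀ Z : Set Y, ProCons.IsProConstructible Z → f '' closure (f ⁻¹' Z) = closure Z := Groth.Agent.SubtrCl12.isSSubtrusive_iff f

end Groth.Agent.S14788
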