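import Groth.Statements.S14789
import Groth.Agent.Lib.Subtr12.Basic


set_option autoImplicit false
universe u
set_option linter.style.haveILetI false
open CategoryTheory CategoryTheory.Limits AlgebraicGeometry
open Subtr

namespace Groth.Agent.S14789

/-- Let f : X ⟶ Y be a morphism of schemes with the lifting property for ordered pairs of points, and U
⊆ Y a subset containing every maximal point of Y (every point all of whose generizations are equal
to it). Then the closure of f⁻¹(U) maps onto Y. -/
theorem result {X Y : Scheme.{u}} (f : X ⟶ Y)
    (hf : Subtr.IsSSubtrusive f) (U : Set Y) (hU : ∀ y : Y, (∀ y' : Y, y' ⤳ y → y' = y) → y ∈ U) :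
    f '' closure (f ⁻¹' U) = Set.univ := by
  refine Set.eq_univ_of_forall fun y => ?_
  have hC : IsIrreducible (irreducibleComponent y) := isIrreducible_irreducibleComponent
  have hg := hC.isGenericPoint_genericPoint isClosed_irreducibleComponent
  have hy' : hC.genericPoint ⤳ y := hg.specializes mem_irreducibleComponent
  have hmax : ∀ z : Y, z ⤳ hC.genericPoint → z = hC.genericPoint := by
    intro z hz
    have hsub : irreducibleComponent y ⊆ closure {z} := by
      rw [← isGenericPoint_def.1 hg]
      exact closure_minimal (Set.singleton_subset_iff.2 hz.mem_closure) isClosed_closure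
    have he : irreducibleComponent y = closure {z} :=
      eq_irreducibleComponent isIrreducible_singleton.closure.isPreirreducible hsub |>.symm
    exact (isGenericPoint_def.2 he.symm).eq hg
  obtain ⟨x, x', hx, h1, h2⟩ := hf hy'
  exact ⟨x, hx.mem_closed isClosed_closure (subset_closure (show f x' ∈ U from h2 ▸ hU _ hmax)), h1⟩


end Groth.Agent.S14789
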