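import Groth.Statements.S14790
import Groth.Agent.Lib.Subtr12.Closure
import Groth.Agent.Lib.DivDesc12.Stalk
import Groth.Agent.Lib.FlatH4.FlatLocusScheme
-- import your own Groth.Agent.* helpers here

set_option autoImplicit false
set_option backward.isDefEq.respectTransparency false
universe u
open CategoryTheory CategoryTheory.Limits AlgebraicGeometry
open Subtr

namespace Groth.Agent.S14790

/-- Take a scheme Y that is reduced, quasi-compact and quasi-separated, whose set of maximal points
(points with no proper generization) is quasi-compact, and f : X ⟶ Y a morphism of finite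
presentation. Then there is a dense quasi-compact open subset U ⊆ Y over which f is flat. -/
theorem result {X Y : Scheme.{u}} [IsReduced Y]
    [CompactSpace Y] [QuasiSeparatedSpace Y]
    (hgen : IsCompact {y : Y | ∀ y' : Y, y' ⤳ y → y' = y})
    (f : X ⟶ Y) [LocallyOfFinitePresentation f] [QuasiCompact f] [QuasiSeparated f] :
    ∃ U : Y.Opens, Dense (U : Set Y) ∧ IsCompact (U : Set Y) ∧ Flat (f ∣_ U) := by
  classical
  have key : ∀ η : Y, (∀ y' : Y, y' ⤳ η → y' = η) → ∃ V : Y.Opens, IsAffineOpen V ∧ η ∈ V ∧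
      ∀ x : X, f x ∈ V → (f.stalkMap x).hom.Flat := by
    intro η hη
    have hfield : IsField (Y.presheaf.stalk η) := by
      refine IsLocalRing.isField_iff_maximalIdeal_eq.2 (eq_bot_iff.2 fun a ha => ?_)
      have : a ∈ nilradical (Y.presheaf.stalk η) := by
        rw [nilradical_eq_sInf, Submodule.mem_sInf]
        intro q hq
        haveI : Ideal.IsPrime q := hq
        obtain ⟨y', hy', rfl⟩ := Groth.Agent.DivDesc12.exists_primeAt_eq η q
        obtain rfl := hη y' hy'
        rw [Groth.Agent.DivDesc12.primeAt_self]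
        exact ha
      rw [nilradical_eq_zero] at this
      exact this
    have hflat : ∀ x : X, f x = η → (f.stalkMap x).hom.Flat := by
      intro x hx
      subst hx
      letI := hfield.toField
      algebraize [(f.stalkMap x).hom]
      exact (inferInstance : Module.Flat (Y.presheaf.stalk (f x)) (X.presheaf.stalk x))
    have hC : IsClosed {x : X | (f.stalkMap x).hom.Flat}ᶜ :=
      (Groth.Agent.FlatH4.isOpen_flatLocus f).isClosed_compl
    have hn : η ∉ closure (f '' {x : X | (f.stalkMap x).hom.Flat}ᶜ) := fun h => by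
      obtain ⟨z, hz, hzη⟩ := Groth.Agent.Subtr12.exists_specializes_of_mem_closure_image f hC h
      exact hz (hflat z (hη _ hzη))
    obtain ⟨V, hV, hηV, hVO⟩ := exists_isAffineOpen_mem_and_subset (x := η)
      (U := (⟨(closure (f '' {x : X | (f.stalkMap x).hom.Flat}ᶜ))ᶜ, isClosed_closure.isOpen_compl⟩ : Y.Opens)) hn
    exact ⟨V, hV, hηV, fun x hx => by_contra fun h => hVO hx (subset_closure ⟨x, h, rfl⟩)⟩
  choose! V hVa hVm hVf using key
  obtain ⟨s, hs, hsfin, hcov⟩ := hgen.elim_finite_subcover_image (b := {y : Y | ∀ y' : Y, y' ⤳ y → y' = y})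
    (c := fun η => (V η : Set Y)) (fun η _ => (V η).isOpen) (fun η hη => Set.mem_biUnion hη (hVm η hη))
  let U : Y.Opens := ⟨⋃ η ∈ s, (V η : Set Y), isOpen_biUnion fun η _ => (V η).isOpen⟩
  refine ⟨U, ?_, hsfin.isCompact_biUnion fun η hη => (hVa η (hs hη)).isCompact, ?_⟩
  · intro y
    rw [mem_closure_iff]
    intro O hO hyO
    obtain ⟨η, hηy, hηmax⟩ := Groth.Agent.Subtr12.exists_maximal_generization y
    exact ⟨η, hηy.mem_open hO hyO, hcov hηmax⟩
  · rw [Flat.iff_flat_stalkMap]
    intro x
    have hxU : f x.1 ∈ U := x.2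
    obtain ⟨η, hη, hxη⟩ := Set.mem_iUnion₂.1 hxU
    exact (RingHom.Flat.respectsIso.arrow_mk_iso_iff (morphismRestrictStalkMap f U x)).2 (hVf η (hs hη) x.1 hxη)

end Groth.Agent.S14790
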