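import Groth.Statements.S14791
import Groth.Agent.Lib.Descend.Stage
import Groth.Agent.Lib.H12.Specialization
-- import your own Groth.Agent.* helpers here

set_option autoImplicit false
set_option backward.isDefEq.respectTransparency false
universe u
open CategoryTheory CategoryTheory.Limits AlgebraicGeometry
open Subtr

namespace Groth.Agent.S14791

/-- Let S = lim S_i be a cofiltered limit of schemes with affine transition morphisms, Y₀ a scheme over
a stage S_{i₀}, f₀ : X₀ ⟶ Y₀ a quasi-compact morphism, and write f_i, f for the base changes of f₀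
to the stages S_i and to S (realised as second projections of fibre products). If there is a stage
S_{i₁} such that f_i has the lifting property for ordered pairs of points for every stage S_i over
S_{i₁}, then f has it. (The published statement is about subtrusive morphisms and assumes f a
quotient map for the constructible topologies; this row keeps only the lifting property and assumes
f₀ quasi-compact, which makes the fibres quasi-compact as the filtered-intersection step of the
argument requires.) -/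
theorem result {I : Type u} [SmallCategory I] [IsCofiltered I]
    (D : I ⥤ Scheme.{u}) (c : Limits.Cone D) (hc : Limits.IsLimit c)
    [∀ (i j : I) (a : i ⟶ j), IsAffineHom (D.map a)] (i₀ : I)
    {X₀ Y₀ : Scheme.{u}} (f₀ : X₀ ⟶ Y₀) (g₀ : Y₀ ⟶ D.obj i₀) [QuasiCompact f₀]
    (h : ∃ (i₁ : I) (ψ : i₁ ⟶ i₀), ∀ (i : I) (φ : i ⟶ i₁),
      Subtr.IsSSubtrusive (pullback.snd f₀ (pullback.fst g₀ (D.map (φ ≫ ψ))))) :
    Subtr.IsSSubtrusive (pullback.snd f₀ (pullback.fst g₀ (c.π.app i₀))) := by
  obtain ⟨i₁, ψ, h⟩ := h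
  intro y y' hy
  let D' := Over.forget i₀ ⋙ D
  let c' : Cone D' := c.whisker (Over.forget i₀)
  have hc' : IsLimit c' := (Functor.Initial.isLimitWhiskerEquiv (Over.forget i₀) c).symm hc
  have hq : ∀ k, c'.π.app k ≫ (Descend.overT D i₀).app k = c.π.app i₀ := fun k => c.w k.hom
  let hY := IsPullback.of_hasPullback g₀ (c.π.app i₀)
  let t : Descend.pbDiagram D' (Descend.overT D i₀) g₀ ⟶ _ := Descend.pbFst D' (Descend.overT D i₀) g₀
  let e := Descend.pbCone D' (Descend.overT D i₀) g₀ c' hq hY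
  have he := Descend.pbIsLimit D' (Descend.overT D i₀) g₀ c' hq hY hc'
  have hqe : ∀ k, e.π.app k ≫ t.app k = pullback.fst g₀ (c.π.app i₀) :=
    fun k => Descend.pbCone_fst D' (Descend.overT D i₀) g₀ c' hq hY k
  let q := pullback.fst g₀ (c.π.app i₀)
  let hX := IsPullback.of_hasPullback f₀ q
  let E := Descend.pbDiagram _ t f₀
  let cX := Descend.pbCone _ t f₀ e hqe hX
  have hcX := Descend.pbIsLimit _ t f₀ e hqe hX he
  let f := pullback.snd f₀ q
  haveI : QuasiCompact f := MorphismProperty.pullback_snd _ _ inferInstance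
  let F := f ⁻¹' {y'}
  let A := f ⁻¹' {y}
  let C : Over i₀ → Set ↥(pullback f₀ q) := fun k => cX.π.app k ⁻¹' closure (cX.π.app k '' F)
  have hAc : IsCompact A := by
    have := isCompact_range (f.fiberι y).continuous
    rwa [f.range_fiberι] at this
  have hCmono : ∀ {k k' : Over i₀} (a : k' ⟶ k), C k' ⊆ C k := by
    intro k k' a z hz
    have e1 : ∀ w, cX.π.app k w = E.map a (cX.π.app k' w) := fun w => by
      show _ = (cX.π.app k' ≫ E.map a) w
      rw [cX.w]; rfl
    show cX.π.app k z ∈ closure (cX.π.app k '' F)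
    rw [e1 z]
    refine map_mem_closure (E.map a).continuous hz ?_
    rintro _ ⟨w, hw, rfl⟩
    exact ⟨w, hw, e1 w⟩
  have hne : ∀ k : Over i₀, (A ∩ C k).Nonempty := by
    intro k
    suffices hk₁ : ∀ (i : I) (φ : i ⟶ i₁), (A ∩ C (Over.mk (φ ≫ ψ))).Nonempty by
      obtain ⟨z, hzA, hz⟩ := hk₁ _ (IsCofiltered.minToRight k (Over.mk ψ)).left
      let a : Over.mk ((IsCofiltered.minToRight k (Over.mk ψ)).left ≫ ψ) ⟶ k :=
        Over.homMk (IsCofiltered.minToLeft k (Over.mk ψ)).left
          ((Over.w (IsCofiltered.minToLeft k (Over.mk ψ))).trans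
            (Over.w (IsCofiltered.minToRight k (Over.mk ψ))).symm)
      exact ⟨z, hzA, hCmono a hz⟩
    intro k₁ φ
    let π := e.π.app (Over.mk (φ ≫ ψ))
    obtain ⟨x, x', hx, hxy, hxy'⟩ := h k₁ φ (hy.map π.continuous)
    have hsq := Descend.pbCone_isPullback _ t f₀ e hqe hX (Over.mk (φ ≫ ψ))
    obtain ⟨a, ha, ha'⟩ := Scheme.exists_preimage_of_isPullback hsq x y hxy
    obtain ⟨b, hb, hb'⟩ := Scheme.exists_preimage_of_isPullback hsq x' y' hxy'
    refine ⟨a, ha', ?_⟩
    show cX.π.app _ a ∈ closure (cX.π.app _ '' F)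
    have hb'' : cX.π.app (Over.mk (φ ≫ ψ)) b = x' := hb
    have ha'' : cX.π.app (Over.mk (φ ≫ ψ)) a = x := ha
    rw [ha'']
    exact closure_mono (Set.singleton_subset_iff.mpr (show x' ∈ cX.π.app (Over.mk (φ ≫ ψ)) '' F from ⟨b, hb', hb''⟩)) hx.mem_closure
  obtain ⟨x, hxA, hxC⟩ : (A ∩ ⋂ k, C k).Nonempty := by
    by_contra hempty
    rw [Set.not_nonempty_iff_eq_empty] at hempty
    obtain ⟨u, hu⟩ := hAc.elim_finite_subfamily_closed C
      (fun k => isClosed_closure.preimage (cX.π.app k).continuous) hempty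
    obtain ⟨k, hk⟩ := IsCofiltered.inf_objs_exists u
    obtain ⟨z, hzA, hz⟩ := hne k
    exact hu.le ⟨hzA, Set.mem_iInter₂.mpr fun j hj => hCmono (hk hj).some hz⟩
  have hxcl : x ∈ closure F := by
    rw [mem_closure_iff]
    intro O hO hxO
    obtain ⟨W, ⟨k, V, hV, rfl⟩, hxW, hWO⟩ := TopologicalSpace.Opens.isBasis_iff_nbhd.mp
      (isBasis_preimage_isAffineOpen E cX hcX) (show x ∈ (⟨O, hO⟩ : (cX.pt).Opens) from hxO)
    obtain ⟨_, hv, w, hw, rfl⟩ := mem_closure_iff.mp (Set.mem_iInter.mp hxC k) _ V.2 hxW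
    exact ⟨w, hWO hv, hw⟩
  have hfr : QuasiCompact ((pullback g₀ (c.π.app i₀)).fromSpecResidueField y') :=
    ⟨fun U _ _ => (Set.toFinite _).isCompact⟩
  haveI : QuasiCompact (f.fiberι y') := MorphismProperty.pullback_fst _ _ hfr
  obtain ⟨v, hv⟩ := H12.exists_specializes_of_mem_closure_range (f.fiberι y') x
    (by rw [f.range_fiberι]; exact hxcl)
  exact ⟨x, f.fiberι y' v, hv, hxA, (f.range_fiberι y').le ⟨v, rfl⟩⟩

end Groth.Agent.S14791
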