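import Groth.Statements.S14797
import Groth.Agent.Lib.AlgSpDecent.MonoPoint
import Mathlib.AlgebraicGeometry.Morphisms.Proper
import Mathlib.AlgebraicGeometry.ZariskisMainTheorem


set_option autoImplicit false
universe u
open CategoryTheory CategoryTheory.Limits AlgebraicGeometry
open Subtr

namespace Groth.Agent.S14797

set_option backward.isDefEq.respectTransparency.types false

/-- Let g : S' ⟶ S be a quasi-compact universally submersive morphism of schemes and f : X ⟶ S an étale
morphism whose base change X ×_S S' ⟶ S' is finite. Then f is finite. (The published statement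
treats the properties universally closed, separated and quasi-compact one at a time as well; this
row is the finite case. It assumes g universally subtrusive, using it only through universal
submersiveness and, for quasi-compactness, through the constructible topology; for quasi-compact g
universal submersiveness suffices by the same proof.) -/
theorem result {X S S' : Scheme.{u}} (g : S' ⟶ S)
    [QuasiCompact g] (hg : SGA1.UnivSubmersive g) (f : X ⟶ S) [Etale f]
    [IsFinite (pullback.snd f g)] : IsFinite f := by
  have hfst : ∀ {T : Scheme.{u}} (t : T ⟶ S), Topology.IsQuotientMap (pullback.fst t g) := fun t =>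
    hg _ _ _ (IsPullback.of_hasPullback t g)
  have : UniversallyClosed f := by
    refine UniversallyClosed.mk (fun T' T i₁ i₂ f' hP₀ => ?_)
    have hP := hP₀.flip
    intro C hC
    rw [← (hfst i₂).isClosed_preimage]
    -- the base change to the pullback of `g`
    let T₁ := pullback i₂ g
    let P₁ := pullback f' (pullback.fst i₂ g)
    have sq := (IsPullback.of_hasPullback f' (pullback.fst i₂ g)).paste_horiz hP
    rw [pullback.condition] at sq
    have hfin : IsFinite (pullback.snd f' (pullback.fst i₂ g)) := by
      let l : P₁ ⟶ pullback f g := pullback.lift (pullback.fst _ _ ≫ i₁)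
        (pullback.snd _ _ ≫ pullback.snd i₂ g) (by rw [sq.w, Category.assoc])
      have hl : IsPullback l (pullback.snd f' (pullback.fst i₂ g)) (pullback.snd f g)
          (pullback.snd i₂ g) := by
        refine IsPullback.of_right ?_ (pullback.lift_snd _ _ _) (IsPullback.of_hasPullback f g)
        rw [pullback.lift_fst]
        exact sq
      exact MorphismProperty.of_isPullback hl inferInstance
    have heq : pullback.fst i₂ g ⁻¹' (f' '' C) =
        pullback.snd f' (pullback.fst i₂ g) '' (pullback.fst f' (pullback.fst i₂ g) ⁻¹' C) := by
      ext t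
      constructor
      · rintro ⟨c, hc, hct⟩
        obtain ⟨z, hz1, hz2⟩ := Scheme.Pullback.exists_preimage_pullback c t hct
        exact ⟨z, show _ ∈ C from hz1.symm ▸ hc, hz2⟩
      · rintro ⟨z, hz, rfl⟩
        exact ⟨_, hz, by rw [← Scheme.Hom.comp_apply, pullback.condition, Scheme.Hom.comp_apply]⟩
    rw [heq]
    exact (pullback.snd f' (pullback.fst i₂ g)).isClosedMap _
      (hC.preimage (pullback.fst f' (pullback.fst i₂ g)).continuous)
  have : IsSeparated f := by
    let π := pullback.fst f f ≫ f
    let δ : X ⟶ pullback f f := pullback.diagonal f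
    let q := pullback.fst π g
    let sf := pullback.snd f g
    have hδ₁ : δ ≫ pullback.fst f f = 𝟙 X := pullback.diagonal_fst f
    have hδ₂ : δ ≫ pullback.snd f f = 𝟙 X := pullback.diagonal_snd f
    let a₁ : pullback π g ⟶ pullback f g := pullback.lift (q ≫ pullback.fst f f) (pullback.snd π g)
      (by rw [Category.assoc]; exact pullback.condition)
    let a₂ : pullback π g ⟶ pullback f g := pullback.lift (q ≫ pullback.snd f f) (pullback.snd π g)
      (by rw [Category.assoc, ← pullback.condition (f := f) (g := f)]; exact pullback.condition)
    let l : pullback π g ⟶ pullback sf sf := pullback.lift a₁ a₂ ((pullback.lift_snd _ _ _).trans (pullback.lift_snd _ _ _).symm)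
    let m : pullback sf sf ⟶ pullback f f :=
      pullback.lift (pullback.fst sf sf ≫ pullback.fst f g) (pullback.snd sf sf ≫ pullback.fst f g)
        (by
          simp only [Category.assoc, pullback.condition (f := f) (g := g)]
          exact pullback.condition_assoc _)
    have hl₁ : l ≫ pullback.fst sf sf = a₁ := pullback.lift_fst _ _ _
    have hl₂ : l ≫ pullback.snd sf sf = a₂ := pullback.lift_snd _ _ _
    have hm₁ : m ≫ pullback.fst f f = pullback.fst sf sf ≫ pullback.fst f g := pullback.lift_fst _ _ _
    have hm₂ : m ≫ pullback.snd f f = pullback.snd sf sf ≫ pullback.fst f g := pullback.lift_snd _ _ _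
    have ha₁ : a₁ ≫ pullback.fst f g = q ≫ pullback.fst f f := pullback.lift_fst _ _ _
    have ha₂ : a₂ ≫ pullback.fst f g = q ≫ pullback.snd f f := pullback.lift_fst _ _ _
    have hb₁ : a₁ ≫ sf = pullback.snd π g := pullback.lift_snd _ _ _
    have hb₂ : a₂ ≫ sf = pullback.snd π g := pullback.lift_snd _ _ _
    have hd₁ : pullback.diagonal sf ≫ pullback.fst sf sf = 𝟙 _ := pullback.diagonal_fst sf
    have hd₂ : pullback.diagonal sf ≫ pullback.snd sf sf = 𝟙 _ := pullback.diagonal_snd sf
    have hlm : l ≫ m = q := by
      apply pullback.hom_ext
      · rw [Category.assoc, hm₁, reassoc_of% hl₁, ha₁]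
      · rw [Category.assoc, hm₂, reassoc_of% hl₂, ha₂]
    have hdm : pullback.diagonal sf ≫ m = pullback.fst f g ≫ δ := by
      apply pullback.hom_ext
      · rw [Category.assoc, hm₁, reassoc_of% hd₁, Category.assoc, hδ₁, Category.comp_id]
      · rw [Category.assoc, hm₂, reassoc_of% hd₂, Category.assoc, hδ₂, Category.comp_id]
    have hE : q ⁻¹' Set.range δ = l ⁻¹' Set.range (pullback.diagonal sf) := by
      ext p
      constructor
      · rintro ⟨x, hx⟩
        obtain ⟨z, -, hz⟩ := Scheme.Pullback.exists_preimage_pullback x p hx
        have hw : pullback.snd δ q ≫ a₁ = pullback.snd δ q ≫ a₂ := by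
          apply pullback.hom_ext
          · rw [Category.assoc, Category.assoc, ha₁, ha₂, ← reassoc_of% pullback.condition (f := δ) (g := q),
              ← reassoc_of% pullback.condition (f := δ) (g := q), hδ₁, hδ₂]
          · rw [Category.assoc, Category.assoc]
            exact (congrArg (pullback.snd δ q ≫ ·) (hb₁.trans hb₂.symm))
        refine ⟨(pullback.snd δ q ≫ a₁) z, ?_⟩
        have : (pullback.snd δ q ≫ a₁) ≫ pullback.diagonal sf = pullback.snd δ q ≫ l := by
          apply pullback.hom_ext
          · rw [Category.assoc, hd₁, Category.comp_id, Category.assoc, hl₁]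
          · rw [Category.assoc, hd₂, Category.comp_id, Category.assoc, hl₂, hw]
        rw [← Scheme.Hom.comp_apply, this, Scheme.Hom.comp_apply, hz]
      · rintro ⟨w, hw⟩
        refine ⟨pullback.fst f g w, ?_⟩
        rw [← Scheme.Hom.comp_apply, ← hdm, Scheme.Hom.comp_apply, hw, ← Scheme.Hom.comp_apply, hlm]
    have hcl : IsClosed (Set.range δ) := by
      rw [← (hfst π).isClosed_preimage, hE]
      exact (pullback.diagonal sf).isClosedEmbedding.isClosed_range.preimage l.continuous
    exact ⟨IsClosedImmersion.of_isPreimmersion δ hcl⟩
  have : LocallyQuasiFinite f := Groth.Agent.AlgSpDecent.locallyQuasiFinite_of_etale f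
  have : IsProper f := { }
  exact (IsFinite.iff_isProper_and_locallyQuasiFinite f).2 ⟨inferInstance, inferInstance⟩


end Groth.Agent.S14797
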