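import Groth.Statements.S14798
import Mathlib
import Groth.Prelude.Def_W4c2conddiscmodels
import Groth.Agent.Lib.HJH28.Basic

set_option autoImplicit false
open Finset
open HJFrac

namespace Groth.Agent.S14798
open Finset Groth.Agent.HJH28

/-- Let 0 < r < n be coprime integers and n/r = b₁ - 1/(b₂ - 1/(⋯ - 1/b_λ)) the Hirzebruch–Jung
expansion (λ ≥ 1, every b_i ≥ 2); let m₁, m₂ be positive integers prime to n with r m₂ + m₁ ≡ 0 mod
n, and let μ₁, …, μ_λ be positive integers solving the tridiagonal system b_i μ_i - μ_{i-1} -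
μ_{i+1} = 0 (1 ≤ i ≤ λ) with the conventions μ₀ = m₂ and μ_{λ+1} = m₁ (the multiplicity vector
attached to (n, r, m₂, m₁)). Then n/(m₁ m₂) = 1/(m₂ μ₁) + 1/(μ₁ μ₂) + ⋯ + 1/(μ_{λ-1} μ_λ) + 1/(μ_λ
m₁). -/
theorem result (l : ℕ) (hl : 1 ≤ l) (b : ℕ → ℤ)
    (hb : ∀ i, 1 ≤ i → i ≤ l → 2 ≤ b i)
    (n r : ℕ) (hr : 0 < r) (hrn : r < n) (hcop : Nat.Coprime r n)
    (hhj : (n : ℚ) / r = HJFrac.hjVal ((List.range l).map fun i => b (i + 1)))
    (m₁ m₂ : ℕ) (hm₁ : 0 < m₁) (hm₂ : 0 < m₂) (h₁ : Nat.Coprime m₁ n) (h₂ : Nat.Coprime m₂ n)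
    (hdvd : (n : ℤ) ∣ r * m₂ + m₁)
    (μ : ℕ → ℤ) (hμ0 : μ 0 = m₂) (hμl : μ (l + 1) = m₁) (hμpos : ∀ i, i ≤ l + 1 → 0 < μ i)
    (hsys : ∀ i, 1 ≤ i → i ≤ l → b i * μ i = μ (i - 1) + μ (i + 1)) :
    (n : ℚ) / ((m₁ : ℚ) * m₂) = ∑ i ∈ Finset.range (l + 1), 1 / ((μ i : ℚ) * (μ (i + 1) : ℚ)) := by
  obtain ⟨hn, -⟩ := cont_eq hl hb hr hcop hhj
  let F : ℕ → ℚ := fun i => (cont b l (l + 1 - i) : ℚ) / μ i
  have hstep : ∀ i ∈ Finset.range (l + 1), 1 / ((μ i : ℚ) * (μ (i + 1) : ℚ)) = (F i - F (i + 1)) / m₁ := by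
    intro i hi
    rw [Finset.mem_range] at hi
    have h := wronskian hsys (l - i) (by omega)
    rw [show l + 1 - (l - i) = i + 1 by omega, show l - (l - i) = i by omega, show l - i + 1 = l + 1 - i by omega, hμl] at h
    have h' : (μ (i + 1) : ℚ) * cont b l (l + 1 - i) - μ i * cont b l (l + 1 - (i + 1)) = m₁ := by
      rw [show l + 1 - (i + 1) = l - i by omega]; exact_mod_cast h
    have a1 : (μ i : ℚ) ≠ 0 := by exact_mod_cast (hμpos i (by omega)).ne'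
    have a2 : (μ (i + 1) : ℚ) ≠ 0 := by exact_mod_cast (hμpos (i + 1) (by omega)).ne'
    have a3 : (m₁ : ℚ) ≠ 0 := by exact_mod_cast hm₁.ne'
    simp only [F]
    field_simp
    linear_combination -h'
  rw [Finset.sum_congr rfl hstep, ← Finset.sum_div, Finset.sum_range_sub' F]
  simp only [F, Nat.sub_self, cont, Int.cast_zero, zero_div, sub_zero, Nat.sub_zero, hn, hμ0, Int.cast_natCast]
  ring

end Groth.Agent.S14798
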