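import Groth.Statements.S14799
import Mathlib
import Groth.Prelude.Def_W4c2conddiscmodels
import Groth.Agent.Lib.HJH28.Basic

set_option autoImplicit false
open HJFrac

namespace Groth.Agent.S14799
open Finset Groth.Agent.HJH28

/-- Let 0 < r < n be coprime integers and n/r = b₁ - 1/(b₂ - 1/(⋯ - 1/b_λ)) the Hirzebruch–Jung
expansion (λ ≥ 1, every b_i ≥ 2); let m₁, m₂ be positive integers prime to n with r m₂ + m₁ ≡ 0 mod
n, and let μ₁, …, μ_λ be positive integers with b_i μ_i = μ_{i-1} + μ_{i+1} for 1 ≤ i ≤ λ, where μ₀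
= m₂ and μ_{λ+1} = m₁. Then gcd(m₁, μ₁, …, μ_λ, m₂) = gcd(m₁, m₂); equivalently gcd(m₁, m₂) divides
every μ_i. -/
theorem result (l : ℕ) (hl : 1 ≤ l) (b : ℕ → ℤ)
    (hb : ∀ i, 1 ≤ i → i ≤ l → 2 ≤ b i)
    (n r : ℕ) (hr : 0 < r) (hrn : r < n) (hcop : Nat.Coprime r n)
    (hhj : (n : ℚ) / r = HJFrac.hjVal ((List.range l).map fun i => b (i + 1)))
    (m₁ m₂ : ℕ) (hm₁ : 0 < m₁) (hm₂ : 0 < m₂) (h₁ : Nat.Coprime m₁ n) (h₂ : Nat.Coprime m₂ n)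
    (hdvd : (n : ℤ) ∣ r * m₂ + m₁)
    (μ : ℕ → ℤ) (hμ0 : μ 0 = m₂) (hμl : μ (l + 1) = m₁) (hμpos : ∀ i, i ≤ l + 1 → 0 < μ i)
    (hsys : ∀ i, 1 ≤ i → i ≤ l → b i * μ i = μ (i - 1) + μ (i + 1)) :
    ∀ i, i ≤ l + 1 → ((Nat.gcd m₁ m₂ : ℕ) : ℤ) ∣ μ i := by
  obtain ⟨hn, hr'⟩ := cont_eq hl hb hr hcop hhj
  have h := wronskian hsys l le_rfl
  rw [Nat.add_sub_cancel_left, Nat.sub_self, hn, hr', hμ0, hμl] at h
  set g : ℤ := ((Nat.gcd m₁ m₂ : ℕ) : ℤ)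
  have g2 : g ∣ μ 0 := by rw [hμ0]; exact Int.natCast_dvd_natCast.2 (Nat.gcd_dvd_right _ _)
  have g1 : g ∣ μ 1 * n := by
    rw [show μ 1 * n = m₁ + (m₂ : ℤ) * r by linarith]
    exact dvd_add (Int.natCast_dvd_natCast.2 (Nat.gcd_dvd_left _ _)) (Dvd.dvd.mul_right (Int.natCast_dvd_natCast.2 (Nat.gcd_dvd_right _ _)) _)
  have g1' : g ∣ μ 1 := (Int.isCoprime_iff_nat_coprime.2 (by simpa [g] using Nat.Coprime.coprime_dvd_left (Nat.gcd_dvd_left m₁ m₂) h₁)).dvd_of_dvd_mul_right g1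
  intro i
  induction i using Nat.strong_induction_on with
  | _ i ih =>
    intro hi
    rcases i with _ | _ | i
    · exact g2
    · exact g1'
    · have hs := hsys (i + 1) (by omega) (by omega)
      rw [show i + 1 - 1 = i by omega, show i + 1 + 1 = i + 2 by omega] at hs
      rw [show μ (i + 2) = b (i + 1) * μ (i + 1) - μ i by linarith]
      exact dvd_sub (Dvd.dvd.mul_left (ih (i + 1) (by omega) (by omega)) _) (ih i (by omega) (by omega))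

end Groth.Agent.S14799
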