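import Groth.Statements.S1480
import Groth.Agent.Lib.FlatH4.TorsionImage
import Mathlib.AlgebraicGeometry.Morphisms.Flat
import Mathlib.AlgebraicGeometry.Morphisms.QuasiFinite
import Mathlib.AlgebraicGeometry.Morphisms.FinitePresentation

set_option autoImplicit false
universe u
open FlatMor

namespace Groth.Agent.S1480

open AlgebraicGeometry CategoryTheory Limits
theorem transfer {R T R' T' : Type u} [CommRing R] [CommRing T] [CommRing R'] [CommRing T'] [Algebra R T]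
    [Algebra R R'] [Algebra T T'] [Algebra R' T'] [Algebra R T'] [IsScalarTower R T T'] [IsScalarTower R R' T']
    [Module.Flat R' T'] (f : R) [IsLocalization.Away f R'] [IsLocalization.Away (algebraMap R T f) T']
    {r l : ℕ} (j : Fin l → R) (e : Fin r → T)
    (hspan : ∀ t : T, ∃ (n : ℕ) (c : Fin r → R),
      algebraMap R T (f ^ n) * t - ∑ i, algebraMap R T (c i) * e i ∈ (Ideal.span (Set.range j)).map (algebraMap R T))
    (hindep : ∀ a : Fin r → R, ∑ i, algebraMap R T (a i) * e i ∈ (Ideal.span (Set.range j)).map (algebraMap R T) →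
      ∀ i, ∃ n, f ^ n * a i ∈ Ideal.span (Set.range j))
    (g : T) (hg : ∀ m, algebraMap R T (j m) * g = 0) :
    ∃ (F : Ideal R') (φ : (Fin r → ↥F) →ₗ[R'] T'), Function.Injective φ ∧
      algebraMap T T' g ∈ LinearMap.range φ := by
  classical
  let J := Ideal.span (Set.range j)
  let j' := fun m => algebraMap R R' (j m)
  have hJ : Ideal.span (Set.range j') = J.map (algebraMap R R') := by
    rw [Ideal.map_span, ← Set.range_comp]; rfl
  have hJT : (J.map (algebraMap R R')).map (algebraMap R' T') = (J.map (algebraMap R T)).map (algebraMap T T') := by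
    rw [Ideal.map_map, Ideal.map_map, ← IsScalarTower.algebraMap_eq, ← IsScalarTower.algebraMap_eq]
  have hu : ∀ n : ℕ, IsUnit (algebraMap R R' (f ^ n)) := fun n => by
    rw [map_pow]; exact (IsLocalization.Away.algebraMap_isUnit f).pow n
  have hcomm : ∀ x : R, algebraMap R' T' (algebraMap R R' x) = algebraMap T T' (algebraMap R T x) := fun x => by
    rw [← IsScalarTower.algebraMap_apply, ← IsScalarTower.algebraMap_apply]
  refine Groth.Agent.FlatH4.exists_injective_of_basis_mod (R := R') j' (fun i => algebraMap T T' (e i))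
    (fun t' => ?_) (fun a ha => ?_) (algebraMap T T' g) (fun m => ?_)
  · obtain ⟨m, t, ht⟩ := IsLocalization.Away.surj (algebraMap R T f) t'
    obtain ⟨n, c, hc⟩ := hspan t
    obtain ⟨v, hv⟩ := hu (n + m)
    refine ⟨fun i => ↑v⁻¹ * algebraMap R R' (c i), ?_⟩
    rw [hJ, hJT]
    have h1 := Ideal.mem_map_of_mem (algebraMap T T') hc
    rw [map_sub, map_mul, map_sum, ← ht] at h1
    have h3 : algebraMap R' T' (↑v⁻¹ : R') * algebraMap R' T' v = 1 := by rw [← map_mul, Units.inv_mul, map_one]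
    rw [hv, hcomm] at h3
    convert Ideal.mul_mem_left _ (algebraMap R' T' (↑v⁻¹ : R')) h1 using 1
    simp only [map_mul, hcomm, mul_sub, Finset.mul_sum, mul_assoc]
    congr 1
    rw [pow_add, map_mul, map_mul, map_pow, map_pow, map_pow, map_pow] at h3
    rw [map_pow, map_pow]
    linear_combination (-t') * h3
  · intro i
    obtain ⟨M, a₀, ha₀⟩ : ∃ (M : ℕ) (a₀ : Fin r → R), ∀ i, algebraMap R R' (a₀ i) = algebraMap R R' (f ^ M) * a i := by
      obtain ⟨⟨_, M, rfl⟩, hM⟩ := IsLocalization.exist_integer_multiples_of_finite (Submonoid.powers f) a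
      choose a₀ ha₀ using hM
      exact ⟨M, a₀, fun i => (ha₀ i).trans (Algebra.smul_def _ _)⟩
    rw [hJ, hJT] at ha
    have h1 : algebraMap T T' (∑ i, algebraMap R T (a₀ i) * e i) ∈ (J.map (algebraMap R T)).map (algebraMap T T') := by
      convert Ideal.mul_mem_left _ (algebraMap R' T' (algebraMap R R' (f ^ M))) ha using 1
      rw [map_sum, Finset.mul_sum]
      refine Finset.sum_congr rfl fun i _ => ?_
      rw [map_mul, ← hcomm, ha₀, map_mul, mul_assoc]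
    rw [IsLocalization.algebraMap_mem_map_algebraMap_iff (Submonoid.powers (algebraMap R T f))] at h1
    obtain ⟨_, ⟨N, rfl⟩, hN⟩ := h1
    obtain ⟨n, hn⟩ := hindep (fun i => f ^ N * a₀ i) (by
      convert hN using 1
      rw [Finset.mul_sum]
      refine Finset.sum_congr rfl fun i _ => ?_
      rw [map_mul, map_pow, mul_assoc]) i
    rw [hJ]
    have h2 := Ideal.mem_map_of_mem (algebraMap R R') hn
    rw [map_mul, map_mul, ha₀, ← mul_assoc, ← mul_assoc] at h2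
    exact (Ideal.unit_mul_mem_iff_mem _ (((hu n).mul (hu N)).mul (hu M))).1 h2
  · rw [hcomm, ← map_mul, hg, map_zero]
theorem exists_local {X S : Scheme.{u}} (f : X ⟶ S) (g : Γ(X, ⊤)) (hg : g ≠ 0) :
    ∃ (U : S.Opens) (V : X.Opens), IsAffineOpen U ∧ IsAffineOpen V ∧ V ≤ f ⁻¹ᵁ U ∧
      X.presheaf.map (homOfLE le_top).op g ≠ (0 : Γ(X, V)) := by
  by_contra! hall
  refine hg (X.sheaf.eq_of_locally_eq' (fun p : {p : S.Opens × X.Opens // IsAffineOpen p.1 ∧ IsAffineOpen p.2 ∧ p.2 ≤ f ⁻¹ᵁ p.1} => p.1.2)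
    ⊤ (fun _ => homOfLE le_top) (fun x _ => ?_) g 0 fun p => ?_)
  · obtain ⟨U, hU, hxU, -⟩ := exists_isAffineOpen_mem_and_subset (X := S) (x := f x) (U := ⊤) (Set.mem_univ _)
    obtain ⟨V, hV, hxV, hVU⟩ := exists_isAffineOpen_mem_and_subset (x := x) (U := f ⁻¹ᵁ U) hxU
    exact TopologicalSpace.Opens.mem_iSup.2 ⟨⟨(U, V), hU, hV, hVU⟩, hxV⟩
  · exact (hall p.1.1 p.1.2 p.2.1 p.2.2.1 p.2.2.2).trans (map_zero _).symm
theorem main {X S : Scheme.{u}} (f : X ⟶ S) [Flat f] [LocallyOfFinitePresentation f] [LocallyQuasiFinite f]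
    (g : Γ(X, ⊤)) (hg : g ≠ 0) :
    ∃ (U : S.Opens) (hU : IsAffineOpen U) (V : X.Opens) (hV : IsAffineOpen V) (hVU : V ≤ f ⁻¹ᵁ U),
      X.presheaf.map (homOfLE le_top).op g ≠ (0 : Γ(X, V)) ∧
      ∃ (F : Ideal Γ(S, U)) (r : ℕ), 0 < r ∧
        letI := (f.appLE U V hVU).hom.toAlgebra
        ∃ φ : (Fin r → ↥F) →ₗ[Γ(S, U)] Γ(X, V), Function.Injective φ ∧ X.presheaf.map (homOfLE le_top).op g ∈ LinearMap.range φ := by
  classical
  obtain ⟨U₀, V₀, hU₀, hV₀, hle₀, hg₀⟩ := exists_local f g hg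
  let g₀ : Γ(X, V₀) := X.presheaf.map (homOfLE le_top).op g
  letI := (f.appLE U₀ V₀ hle₀).hom.toAlgebra
  haveI : Algebra.QuasiFinite Γ(S, U₀) Γ(X, V₀) := LocallyQuasiFinite.quasiFinite_appLE hU₀ hV₀ hle₀
  haveI : Algebra.FinitePresentation Γ(S, U₀) Γ(X, V₀) := f.finitePresentation_appLE hU₀ hV₀ hle₀
  obtain ⟨q, hq⟩ := Ideal.nonempty_minimalPrimes (I := Groth.Agent.FlatH4.sectionAnn g₀) fun h =>
    hg₀ (by simpa using Groth.Agent.FlatH4.mem_sectionAnn.1 ((Ideal.eq_top_iff_one _).1 h))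
  haveI : q.IsPrime := hq.1.1
  have hann : ∀ x, x * g₀ = 0 → x ∈ q := fun x hx => hq.1.2 (Groth.Agent.FlatH4.mem_sectionAnn.2 hx)
  obtain ⟨a, h, l, j, ha, hh, hj, hjg, hfin⟩ :=
    Groth.Agent.FlatH4.exists_finite_nhd (A := Γ(S, U₀)) (B := Γ(X, V₀)) g₀ q hq
  let y : Γ(X, V₀) := algebraMap Γ(S, U₀) Γ(X, V₀) a * h
  let U₁ := S.basicOpen a
  let V₁ := X.basicOpen y
  have hle₁ : V₁ ≤ f ⁻¹ᵁ U₁ := by
    refine (X.basicOpen_mul _ _).le.trans (inf_le_left.trans ?_)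
    exact (Scheme.basicOpen_appLE f V₀ U₀ hle₀ a).le.trans inf_le_right
  have hU₁ : IsAffineOpen U₁ := hU₀.basicOpen a
  have hV₁ : IsAffineOpen V₁ := hV₀.basicOpen y
  letI := (f.appLE U₁ V₁ hle₁).hom.toAlgebra
  letI : Algebra Γ(S, U₀) Γ(X, V₁) := ((algebraMap Γ(X, V₀) Γ(X, V₁)).comp (algebraMap Γ(S, U₀) Γ(X, V₀))).toAlgebra
  haveI : IsScalarTower Γ(S, U₀) Γ(X, V₀) Γ(X, V₁) := IsScalarTower.of_algebraMap_eq fun _ => rfl
  haveI : IsScalarTower Γ(S, U₀) Γ(S, U₁) Γ(X, V₁) := by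
    refine IsScalarTower.of_algebraMap_eq' (congr($((Scheme.Hom.appLE_map f hle₀
      (homOfLE (X.basicOpen_le y)).op).trans (Scheme.Hom.map_appLE f hle₁ (homOfLE (S.basicOpen_le a)).op).symm).hom))
  haveI := hU₀.isLocalization_basicOpen a
  haveI := hV₀.isLocalization_basicOpen y
  haveI : Module.Flat Γ(S, U₁) Γ(X, V₁) := f.flat_appLE hU₁ hV₁ hle₁
  haveI : Algebra.FinitePresentation Γ(S, U₁) Γ(X, V₁) := f.finitePresentation_appLE hU₁ hV₁ hle₁
  let j₁ := fun m => algebraMap Γ(S, U₀) Γ(S, U₁) (j m)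
  let J₁ := Ideal.span (Set.range j₁)
  have hJmap : J₁.map (algebraMap Γ(S, U₁) Γ(X, V₁)) =
      (Ideal.span (Set.range j)).map (algebraMap Γ(S, U₀) Γ(X, V₁)) := by
    rw [IsScalarTower.algebraMap_eq Γ(S, U₀) Γ(S, U₁) Γ(X, V₁), ← Ideal.map_map,
      Ideal.map_span (algebraMap Γ(S, U₀) Γ(S, U₁)), ← Set.range_comp]
    rfl
  haveI : Module.Finite Γ(S, U₁) (Γ(X, V₁) ⧸ J₁.map (algebraMap Γ(S, U₁) Γ(X, V₁))) := by
    rw [hJmap]
    exact hfin Γ(S, U₁) Γ(X, V₁)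
  have hyq : y ∉ q := fun hy => (Ideal.IsPrime.mem_or_mem inferInstance hy).elim ha hh
  have hdisj : Disjoint (Submonoid.powers y : Set Γ(X, V₀)) (q : Set Γ(X, V₀)) := Set.disjoint_left.2 fun z hz hzq => by
    obtain ⟨n, rfl⟩ := hz
    exact hyq (Ideal.IsPrime.mem_of_pow_mem inferInstance n hzq)
  let q₁ := q.map (algebraMap Γ(X, V₀) Γ(X, V₁))
  haveI : q₁.IsPrime := IsLocalization.isPrime_of_isPrime_disjoint _ _ q ‹_› hdisj
  have hJ₁q : J₁ ≤ q₁.under Γ(S, U₁) := Ideal.span_le.2 (by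
    rintro _ ⟨m, rfl⟩
    show algebraMap Γ(S, U₁) Γ(X, V₁) (algebraMap Γ(S, U₀) Γ(S, U₁) (j m)) ∈ q₁
    rw [← IsScalarTower.algebraMap_apply, IsScalarTower.algebraMap_apply Γ(S, U₀) Γ(X, V₀) Γ(X, V₁)]
    exact Ideal.mem_map_of_mem _ (hj m))
  obtain ⟨b, r, e, hb, hr, hspan, hindep⟩ :=
    Groth.Agent.FlatH4.exists_basis_mod J₁ ⟨Finset.univ.image j₁, by simp [J₁]⟩ q₁ hJ₁q
  let g₁ : Γ(X, V₁) := algebraMap Γ(X, V₀) Γ(X, V₁) g₀
  have hjg₁ : ∀ m, algebraMap Γ(S, U₁) Γ(X, V₁) (j₁ m) * g₁ = 0 := fun m => by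
    have hhu : IsUnit (algebraMap Γ(X, V₀) Γ(X, V₁) h) :=
      isUnit_of_dvd_unit (map_dvd _ (Dvd.intro_left _ rfl)) (IsLocalization.Away.algebraMap_isUnit y)
    refine hhu.mul_right_eq_zero.1 ?_
    show _ * (algebraMap Γ(S, U₁) Γ(X, V₁) (algebraMap Γ(S, U₀) Γ(S, U₁) (j m)) * g₁) = 0
    rw [← IsScalarTower.algebraMap_apply, IsScalarTower.algebraMap_apply Γ(S, U₀) Γ(X, V₀) Γ(X, V₁),
      ← map_mul, ← map_mul, ← mul_assoc, hjg, map_zero]
  let U₂ := S.basicOpen b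
  let V₂ := X.basicOpen (algebraMap Γ(S, U₁) Γ(X, V₁) b)
  have hle₂ : V₂ ≤ f ⁻¹ᵁ U₂ := (Scheme.basicOpen_appLE f V₁ U₁ hle₁ b).le.trans inf_le_right
  have hU₂ : IsAffineOpen U₂ := hU₁.basicOpen b
  have hV₂ : IsAffineOpen V₂ := hV₁.basicOpen _
  letI := (f.appLE U₂ V₂ hle₂).hom.toAlgebra
  letI : Algebra Γ(S, U₁) Γ(X, V₂) := ((algebraMap Γ(X, V₁) Γ(X, V₂)).comp (algebraMap Γ(S, U₁) Γ(X, V₁))).toAlgebra
  haveI : IsScalarTower Γ(S, U₁) Γ(X, V₁) Γ(X, V₂) := IsScalarTower.of_algebraMap_eq fun _ => rfl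
  haveI : IsScalarTower Γ(S, U₁) Γ(S, U₂) Γ(X, V₂) := by
    refine IsScalarTower.of_algebraMap_eq' (congr($((Scheme.Hom.appLE_map f hle₁
      (homOfLE (X.basicOpen_le _)).op).trans (Scheme.Hom.map_appLE f hle₂ (homOfLE (S.basicOpen_le b)).op).symm).hom))
  haveI := hU₁.isLocalization_basicOpen b
  haveI := hV₁.isLocalization_basicOpen (algebraMap Γ(S, U₁) Γ(X, V₁) b)
  haveI : Module.Flat Γ(S, U₂) Γ(X, V₂) := f.flat_appLE hU₂ hV₂ hle₂
  obtain ⟨F, φ, hφ, hφg⟩ := transfer (R := Γ(S, U₁)) (T := Γ(X, V₁)) (R' := Γ(S, U₂)) (T' := Γ(X, V₂))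
    b j₁ e hspan hindep g₁ hjg₁
  have hres : X.presheaf.map (homOfLE le_top).op g = algebraMap Γ(X, V₁) Γ(X, V₂) g₁ := by
    show _ = (X.presheaf.map _ ≫ X.presheaf.map _ ≫ X.presheaf.map _).hom g
    rw [← X.presheaf.map_comp, ← X.presheaf.map_comp]
    rfl
  refine ⟨U₂, hU₂, V₂, hV₂, hle₂, ?_, F, r, hr, φ, hφ, ?_⟩
  · rw [hres]
    intro h0
    obtain ⟨⟨_, n, rfl⟩, hn⟩ := (IsLocalization.map_eq_zero_iff
      (Submonoid.powers (algebraMap Γ(S, U₁) Γ(X, V₁) b)) _ g₁).1 h0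
    obtain ⟨m, z, hz⟩ := IsLocalization.Away.surj y ((algebraMap Γ(S, U₁) Γ(X, V₁) b) ^ n)
    have hz0 : algebraMap Γ(X, V₀) Γ(X, V₁) (z * g₀) = 0 := by
      rw [map_mul, ← hz, mul_right_comm]
      exact mul_eq_zero_of_left hn _
    obtain ⟨⟨_, k, rfl⟩, hk⟩ := (IsLocalization.map_eq_zero_iff (Submonoid.powers y) _ _).1 hz0
    have hzq : z ∈ q := (Ideal.IsPrime.mem_or_mem inferInstance (hann (y ^ k * z) (by rw [mul_assoc]; exact hk))).resolve_left
      fun h => hyq (Ideal.IsPrime.mem_of_pow_mem inferInstance k h)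
    have h2 := Ideal.mem_map_of_mem (algebraMap Γ(X, V₀) Γ(X, V₁)) hzq
    rw [← hz] at h2
    refine hb (Ideal.IsPrime.mem_of_pow_mem (inferInstance : q₁.IsPrime) n ?_)
    exact ((Ideal.IsPrime.mem_or_mem (inferInstance : q₁.IsPrime) h2).resolve_right fun h =>
      Ideal.IsPrime.ne_top (inferInstance : q₁.IsPrime)
        (Ideal.eq_top_of_isUnit_mem _ h ((IsLocalization.Away.algebraMap_isUnit y).pow m)))
  · rw [hres]; exact hφg

open AlgebraicGeometry CategoryTheory Limits in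
/-- Let f : X → S be flat, locally of finite presentation and locally quasi-finite, and g a nonzero
global function on X. Then there are affine opens V of X and U of S with f(V) ⊆ U and g nonzero on
V, an ideal F of O_S(U), a positive integer r and an injective O_S(U)-linear map from F^r to O_X(V)
whose image contains the restriction of g to V. -/
theorem result {X S : Scheme.{u}} (f : X ⟶ S) [Flat f] [LocallyOfFinitePresentation f] [LocallyQuasiFinite f]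
    (g : Γ(X, ⊤)) (hg : g ≠ 0) :
    ∃ (U : S.Opens) (hU : IsAffineOpen U) (V : X.Opens) (hV : IsAffineOpen V) (hVU : V ≤ f ⁻¹ᵁ U),
      X.presheaf.map (homOfLE le_top).op g ≠ (0 : Γ(X, V)) ∧
      ∃ (F : Ideal Γ(S, U)) (r : ℕ), 0 < r ∧
        letI := (f.appLE U V hVU).hom.toAlgebra
        ∃ φ : (Fin r → ↥F) →ₗ[Γ(S, U)] Γ(X, V), Function.Injective φ ∧ X.presheaf.map (homOfLE le_top).op g ∈ LinearMap.range φ := by
  exact main f g hg

end Groth.Agent.S1480
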