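import Groth.Statements.S14800
import Mathlib

set_option autoImplicit false
universe u
open Finset
open LabGraph

namespace Groth.Agent.S14800

/-- Let (G, β) be a finite multigraph with a multiplicity function (each β(v) is a positive integer
dividing Σ_{w ≠ v} β(w)·#edges(v, w)) and let C be a connecting chain of G (distinct vertices v₀, …,
v_k and distinct edges e₁, …, e_k, e_i joining v_{i-1} and v_i, every e_i a connecting edge) such
that β is constant on the vertices of C. Let G' be the contraction of C (the vertices of C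
identified to a single vertex, the edges of C removed) and β' the function it induces (β'([v]) =
β(v)). Then (G', β') is again a multigraph with a multiplicity function. -/
theorem result {V E : Type u} [Fintype V] [Fintype E] [DecidableEq V] [DecidableEq E]
    (ends : E → V × V) (β : V → ℤ) (hβ : LabGraph.IsMultFn ends β)
    {k : ℕ} (f : Fin (k + 1) → V) (e : Fin k → E) (hC : LabGraph.IsChain ends f e)
    (hconn : ∀ i, LabGraph.IsConnecting ends (e i)) (hconst : ∀ i j, β (f i) = β (f j)) :
    LabGraph.IsMultFn (DualGr.ctrEnds ends (univ.image e))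
      (LabGraph.ctrFn ends (univ.image e) β) := by
  classical
  let D := univ.image e
  let mk := DualGr.ctrMk ends D
  have hD : ∀ x y, DualGr.CtrRel ends D x y → β x = β y := by
    rintro x y ⟨d, hd, hxy⟩
    obtain ⟨i, -, rfl⟩ := Finset.mem_image.1 hd
    rcases hC.2.2 i with h | h <;> rw [hxy, Prod.mk.injEq] at h <;> rw [h.1, h.2] <;> exact hconst _ _
  have hgen : ∀ x y, Relation.EqvGen (DualGr.CtrRel ends D) x y → β x = β y := by
    intro x y h
    induction h with
    | rel _ _ h => exact hD _ _ h
    | refl => rfl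
    | symm _ _ _ ih => exact ih.symm
    | trans _ _ _ _ _ ih ih' => exact ih.trans ih'
  have hβ' : ∀ v, LabGraph.ctrFn ends D β (mk v) = β v := fun v =>
    hgen _ _ (Quotient.exact (Quotient.out_eq (s := DualGr.ctrSetoid ends D) (mk v)))
  intro c
  obtain ⟨v₀, rfl⟩ := DualGr.ctrMk_surjective ends D c
  let F : DualGr.CtrVert ends D → Finset V := fun d => univ.filter fun v => mk v = d
  have hF : ∀ (d : DualGr.CtrVert ends D) (w : V), w ∈ F d ↔ mk w = d := fun d w => by simp [F]
  -- multiplicities in the contraction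
  have hm : ∀ c d : DualGr.CtrVert ends D, c ≠ d → LabGraph.edgeMult (DualGr.ctrEnds ends D) c d =
      ∑ p ∈ F c ×ˢ F d, LabGraph.edgeMult ends p.1 p.2 := by
    intro c d hcd
    let A : Finset E := univ.filter fun x => (mk (ends x).1 = c ∧ mk (ends x).2 = d) ∨ (mk (ends x).1 = d ∧ mk (ends x).2 = c)
    have h1 : LabGraph.edgeMult (DualGr.ctrEnds ends D) c d = A.card := by
      refine Finset.card_bij (fun x _ => x.1) (fun x hx => ?_) (fun x _ y _ h => Subtype.ext h) (fun x hx => ?_)
      · simpa [A, mk, DualGr.ctrEnds, Prod.ext_iff] using hx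
      · have hxA : (mk (ends x).1 = c ∧ mk (ends x).2 = d) ∨ (mk (ends x).1 = d ∧ mk (ends x).2 = c) := by
          simpa [A] using hx
        refine ⟨⟨x, fun hxD => hcd ?_⟩, by simpa [A, mk, DualGr.ctrEnds, Prod.ext_iff] using hx, rfl⟩
        have := DualGr.ctrMk_fst_eq_ctrMk_snd ends D hxD
        rcases hxA with h | h
        · exact h.1.symm.trans (this.trans h.2)
        · exact h.2.symm.trans (this.symm.trans h.1)
    rw [h1, Finset.card_eq_sum_card_fiberwise (f := fun x => if mk (ends x).1 = c then ends x else ((ends x).2, (ends x).1))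
      (t := F c ×ˢ F d) (fun x hx => ?_)]
    · refine Finset.sum_congr rfl fun p hp => congrArg Finset.card ?_
      obtain ⟨v, w⟩ := p
      rw [Finset.mem_product, hF, hF] at hp
      ext x
      simp only [A, Finset.mem_filter, Finset.mem_univ, true_and]
      constructor
      · rintro ⟨-, h⟩
        split_ifs at h with hc
        · exact Or.inl h
        · rw [Prod.mk.injEq] at h
          exact Or.inr (Prod.ext h.2 h.1)
      · rintro (h | h)
        · rw [h]; exact ⟨Or.inl hp, if_pos hp.1⟩
        · rw [h]; exact ⟨Or.inr hp.symm, if_neg fun h' => hcd (h'.symm.trans hp.2)⟩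
    · simp only [A, Finset.coe_filter, Finset.mem_univ, true_and, Set.mem_setOf_eq] at hx
      simp only [Finset.coe_product, Set.mem_prod, Finset.mem_coe, hF]
      rcases hx with h | h
      · rw [if_pos h.1]; exact h
      · rw [if_neg fun h' => hcd (h'.symm.trans h.1)]; exact ⟨h.2, h.1⟩
  refine ⟨by rw [show LabGraph.ctrFn ends (univ.image e) β (DualGr.ctrMk ends D v₀) = β v₀ from hβ' v₀]; exact (hβ v₀).1, ?_⟩
  show LabGraph.ctrFn ends D β (mk v₀) ∣ _
  rw [hβ']
  have key : ∑ d ∈ univ.erase (mk v₀), LabGraph.ctrFn ends D β d * (LabGraph.edgeMult (DualGr.ctrEnds ends D) (mk v₀) d : ℤ) =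
      ∑ v ∈ F (mk v₀), ∑ w ∈ univ.filter (fun w => mk w ≠ mk v₀), β w * (LabGraph.edgeMult ends v w : ℤ) := by
    rw [Finset.sum_comm, ← Finset.sum_fiberwise_of_maps_to (g := mk) (t := univ.erase (mk v₀))
      (fun w hw => Finset.mem_erase.2 ⟨(Finset.mem_filter.1 hw).2, Finset.mem_univ _⟩)]
    refine Finset.sum_congr rfl fun d hd => ?_
    have hd' : d ≠ mk v₀ := (Finset.mem_erase.1 hd).1
    rw [hm _ _ hd'.symm, Nat.cast_sum, Finset.mul_sum, Finset.sum_product_right]
    refine Finset.sum_congr ?_ fun w hw => Finset.sum_congr rfl fun v hv => ?_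
    · ext w
      simp only [F, Finset.mem_filter, Finset.mem_univ, true_and]
      exact ⟨fun h => ⟨h ▸ hd', h⟩, fun h => h.2⟩
    · rw [← (Finset.mem_filter.1 hw).2, hβ']
  refine Eq.mpr (congrArg _ key) (Finset.dvd_sum fun v hv => ?_)
  have hv' : β v = β v₀ := by rw [← hβ' v, ← hβ' v₀, (hF _ _).1 hv]
  have := (hβ v).2
  rw [← Finset.sum_filter_add_sum_filter_not (univ.erase v) (fun w => mk w ≠ mk v₀)] at this
  have e1 : (univ.erase v).filter (fun w => mk w ≠ mk v₀) = univ.filter (fun w => mk w ≠ mk v₀) := by
    ext w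
    simp only [Finset.mem_filter, Finset.mem_erase, Finset.mem_univ, true_and, and_true, and_iff_right_iff_imp]
    exact fun h h' => h (h' ▸ (hF _ _).1 hv)
  rw [e1, hv'] at this
  refine (dvd_add_left (Finset.dvd_sum fun w hw => ?_)).1 this
  have hw' : mk w = mk v₀ := not_not.1 (Finset.mem_filter.1 hw).2
  exact dvd_mul_of_dvd_left (by rw [← hβ' w, hw', hβ']) _

end Groth.Agent.S14800
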