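import Groth.Statements.S14801
import Groth.Agent.Lib.LabChainH28.Basic

set_option autoImplicit false
universe u
open Finset
open LabGraph

namespace Groth.Agent.S14801

/-- Let (G, β) be a finite multigraph with a multiplicity function and α its matrix (α_{vw} = #edges(v,
w) for v ≠ w, diagonal entries defined by Σ_w β(w) α_{vw} = 0); let L be a connecting chain of
length m (vertices v₀, …, v_m, edges e₁, …, e_m, each connecting) with β(v_i) = m and α_{v_i v_i} =
-2 for all i; let (G', β') be the contraction of L and f : ℤ^{V(G')} → ℤ^{V(G)} the map extending a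
vector by zero along the section of V(G) → V(G') that sends the contracted vertex to v₀. Then f
carries ker β' into ker β, and there is a map h : ℤ^{V(G')} → ℤ^{V(G)} with f ∘ α' = α ∘ h, so that
f induces a homomorphism of component groups ker β'/im α' → ker β/im α; this homomorphism is
surjective. -/
theorem result {V E : Type u} [Fintype V] [Fintype E] [DecidableEq V] [DecidableEq E]
    (ends : E → V × V) (β : V → ℤ) (hβ : LabGraph.IsMultFn ends β)
    (m : ℕ) (f : Fin (m + 1) → V) (e : Fin m → E) (hC : LabGraph.IsChain ends f e)
    (hconn : ∀ i, LabGraph.IsConnecting ends (e i)) (hβm : ∀ i, β (f i) = m)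
    (hα : ∀ i, LabGraph.mfMatrix ends β (f i) (f i) = -2) :
    ∃ φ : LabGraph.CompGrp (DualGr.ctrEnds ends (univ.image e)) (LabGraph.ctrFn ends (univ.image e) β) →+
        LabGraph.CompGrp ends β,
      Function.Surjective φ ∧
      ∀ (x : LinearMap.ker (LabGraph.betaHom (LabGraph.ctrFn ends (univ.image e) β)))
        (y : LinearMap.ker (LabGraph.betaHom β)),
        (y : V → ℤ) = LabGraph.liftAt ends (univ.image e) (f 0) (x : DualGr.CtrVert ends (univ.image e) → ℤ) →
        φ (Submodule.Quotient.mk x) = Submodule.Quotient.mk y := by
  obtain ⟨F, S, hF0, h⟩ := Groth.Agent.LabChainH28.exists_data hβ f e hC hconn hβm hα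
  let D := univ.image e
  let L : (DualGr.CtrVert ends D → ℤ) →ₗ[ℤ] (V → ℤ) :=
    { toFun := LabGraph.liftAt ends D (f 0)
      map_add' := fun a b => by funext v; simp only [LabGraph.liftAt, Pi.add_apply]; split_ifs <;> simp
      map_smul' := fun a b => by funext v; simp only [LabGraph.liftAt, Pi.smul_apply, RingHom.id_apply]; split_ifs <;> simp }
  have hL : ∀ x ∈ LinearMap.ker (LabGraph.betaHom (LabGraph.ctrFn ends D β)),
      L x ∈ LinearMap.ker (LabGraph.betaHom β) := fun x hx => by
    rw [LinearMap.mem_ker] at hx ⊢
    have := Groth.Agent.LabChainH28.beta_lift h x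
    rw [hF0] at this
    exact this.trans hx
  let Q := (LinearMap.range (Matrix.mulVecLin (LabGraph.mfMatrix ends β))).comap
    (LinearMap.ker (LabGraph.betaHom β)).subtype
  let ψ := Q.mkQ.comp (L.restrict hL)
  have hψ : (LinearMap.range (Matrix.mulVecLin (LabGraph.mfMatrix (DualGr.ctrEnds ends D)
      (LabGraph.ctrFn ends D β)))).comap (LinearMap.ker (LabGraph.betaHom (LabGraph.ctrFn ends D β))).subtype
      ≤ LinearMap.ker ψ := by
    rintro ⟨x, hx⟩ ⟨y', hy'⟩
    simp only [Matrix.mulVecLin_apply, Submodule.coe_subtype] at hy'
    rw [LinearMap.mem_ker]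
    refine (Submodule.Quotient.mk_eq_zero _).2 ?_
    have := Groth.Agent.LabChainH28.lift_range h y'
    rw [hy', hF0] at this
    exact this
  refine ⟨(Submodule.liftQ _ ψ hψ).toAddMonoidHom, ?_, ?_⟩
  · intro q
    induction q using Submodule.Quotient.induction_on with
    | _ y =>
      obtain ⟨w, hw⟩ := Groth.Agent.LabChainH28.reduce h (y : V → ℤ)
      set z : V → ℤ := (y : V → ℤ) + (LabGraph.mfMatrix ends β).mulVec w with hz
      have hzl : L (DualGr.pushV ends D z) = z := by
        funext v
        show LabGraph.liftAt ends D (f 0) (DualGr.pushV ends D z) v = z v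
        simp only [LabGraph.liftAt, DualGr.pushV, LinearMap.coe_mk, AddHom.coe_mk, ← hF0]
        split_ifs with hv
        · rcases Groth.Agent.LabChainH28.mk_eq h hv.1 with r | ⟨⟨i, hi, r⟩, -⟩
          · exact absurd r hv.2
          · by_cases hi0 : i = 0
            · exact absurd (by rw [← r, hi0]) hv.2
            · rw [← r]; exact (hw i (by omega) hi).symm
        · rw [Finset.sum_eq_single v]
          · intro u hu hne
            simp only [mem_filter, mem_univ, true_and] at hu
            rcases Groth.Agent.LabChainH28.mk_eq h hu with r | ⟨⟨i, hi, r⟩, j, hj, r'⟩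
            · exact absurd r hne
            · by_cases hi0 : i = 0
              · exfalso
                apply hne
                have : v = F 0 := by
                  by_contra hh
                  exact hv ⟨r' ▸ Groth.Agent.LabChainH28.mk_chain h hj, hh⟩
                rw [this, ← r, hi0]
              · rw [← r]; exact hw i (by omega) hi
          · simp
      have hzker : LabGraph.betaHom β z = 0 := by
        rw [hz, map_add, Groth.Agent.LabChainH28.beta_alpha hβ, add_zero]
        exact y.2
      have hx : DualGr.pushV ends D z ∈ LinearMap.ker (LabGraph.betaHom (LabGraph.ctrFn ends D β)) := by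
        rw [LinearMap.mem_ker, ← Groth.Agent.LabChainH28.beta_lift h, hF0]
        exact (congrArg (LabGraph.betaHom β) hzl).trans hzker
      refine ⟨Submodule.Quotient.mk ⟨_, hx⟩, ?_⟩
      show Submodule.Quotient.mk (L.restrict hL ⟨_, hx⟩) = Submodule.Quotient.mk y
      rw [Submodule.Quotient.eq]
      refine ⟨w, ?_⟩
      simp only [Matrix.mulVecLin_apply, Submodule.coe_subtype, Submodule.coe_sub]
      change _ = L (DualGr.pushV ends D z) - (y : V → ℤ)
      rw [hzl, hz]; abel
  · intro x y hy
    show Submodule.Quotient.mk (L.restrict hL x) = Submodule.Quotient.mk y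
    congr 1
    exact Subtype.ext hy.symm

end Groth.Agent.S14801
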