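import Groth.Statements.S14802
import Groth.Agent.Lib.LabChainH28.Basic

set_option autoImplicit false
universe u
open Finset
open LabGraph

namespace Groth.Agent.S14802

/-- Let (G, β) be a connected finite multigraph with a multiplicity function and α its matrix; let L be
a connecting chain of length m (vertices v₀, …, v_m, edges e₁, …, e_m, each connecting) with β(v_i)
= m and α_{v_i v_i} = -2 for all i; let (G', β') be the contraction of L and f : ℤ^{V(G')} →
ℤ^{V(G)} the extension by zero along the section sending the contracted vertex to v₀. Then the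
homomorphism ker β'/im α' → ker β/im α induced by f is injective: if x ∈ ker β' and f(x) ∈ im α then
x ∈ im α'. With the surjectivity this gives Φ(G') ≅ Φ(G): the component group depends on the length
of such a chain only modulo m. -/
theorem result {V E : Type u} [Fintype V] [Fintype E] [DecidableEq V] [DecidableEq E]
    (ends : E → V × V) (β : V → ℤ) (hβ : LabGraph.IsMultFn ends β) (hG : LabGraph.Connected ends)
    (m : ℕ) (f : Fin (m + 1) → V) (e : Fin m → E) (hC : LabGraph.IsChain ends f e)
    (hconn : ∀ i, LabGraph.IsConnecting ends (e i)) (hβm : ∀ i, β (f i) = m)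
    (hα : ∀ i, LabGraph.mfMatrix ends β (f i) (f i) = -2)
    (x : DualGr.CtrVert ends (univ.image e) → ℤ)
    (hx : x ∈ LinearMap.ker (LabGraph.betaHom (LabGraph.ctrFn ends (univ.image e) β)))
    (hfx : LabGraph.liftAt ends (univ.image e) (f 0) x ∈
      LinearMap.range (Matrix.mulVecLin (LabGraph.mfMatrix ends β))) :
    x ∈ LinearMap.range (Matrix.mulVecLin
      (LabGraph.mfMatrix (DualGr.ctrEnds ends (univ.image e)) (LabGraph.ctrFn ends (univ.image e) β))) := by
  obtain ⟨F, S, hF0, h⟩ := Groth.Agent.LabChainH28.exists_data hβ f e hC hconn hβm hα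
  exact Groth.Agent.LabChainH28.injective h x (by rw [hF0]; exact hfx)

end Groth.Agent.S14802
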