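import Groth.Statements.S14803
import Groth.Agent.Lib.LabDetH28.Tree
import Groth.Agent.Lib.LabChainH28.Basic

set_option autoImplicit false
universe u
open Finset
open LabGraph

namespace Groth.Agent.S14803

open Classical in
/-- Let (G, β) be a connected finite multigraph with a multiplicity function, α its matrix (α_{vw} =
#edges(v, w) for v ≠ w, Σ_w β(w) α_{vw} = 0) and Φ(G) = ker β / im α its component group; let m be
the gcd of all the values β(v). Then Φ(G) is finite of order m² · Σ_T Π_v β(v)^{#N_T(v) - 2}, where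
T runs over the spanning trees of G and N_T(v) is the set of neighbours of v in T. (The published
statement gives this order for the Néron component group of a curve's Jacobian, G being the weighted
dual graph of a proper regular model and β its component multiplicities; this row states the
identity for every connected pair (G, β) with a positive multiplicity function.) -/
theorem result {V E : Type u} [Fintype V] [Fintype E] [DecidableEq V] [DecidableEq E]
    (ends : E → V × V) (β : V → ℤ) (hβ : LabGraph.IsMultFn ends β) (hG : LabGraph.Connected ends) :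
    (Nat.card (LabGraph.CompGrp ends β) : ℚ) =
      ((univ.gcd β : ℤ) : ℚ) ^ 2 *
        ∑ T ∈ univ.powerset.filter (fun T : Finset E => LabGraph.IsSpanningTree ends T),
          ∏ v : V, ((β v : ℚ) ^ ((LabGraph.nbrCount ends T v : ℤ) - 2)) := by
  obtain ⟨v₀⟩ := hG.1
  haveI : Nonempty V := ⟨v₀⟩
  let α := LabGraph.mfMatrix ends β
  let L := Matrix.diagonal β * α * Matrix.diagonal β
  have hpos : ∀ v, 0 < β v := fun v => (hβ v).1
  have hne : ∀ v, β v ≠ 0 := fun v => (hpos v).ne'
  have hLap : ∀ v w, L v w = β v * α v w * β w := fun v w => by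
    simp [L, Matrix.mul_diagonal, Matrix.diagonal_mul]
  have hrow : ∀ v, ∑ w, L v w = 0 := fun v => by
    simp only [hLap, mul_assoc, ← Finset.mul_sum]
    rw [show (∑ w, α v w * β w) = 0 from LabChainH28.alpha_beta hβ v, mul_zero]
  have hsymm : ∀ v w, L v w = L w v := fun v w => by
    rw [hLap, hLap, show α v w = α w v from LabChainH28.alpha_symm v w]; ring
  have hcol : ∀ w, ∑ v, L v w = 0 := fun w => by simp only [hsymm _ w, hrow]
  let wt : E → ℤ := fun e => β (ends e).1 * β (ends e).2
  let B := LabDetH28.inc ℤ ends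
  let M := B * Matrix.diagonal wt * B.transpose
  have hM : ∀ v w, M v w = ∑ e, B v e * wt e * B w e := fun v w => by
    simp only [M, Matrix.mul_apply, Matrix.mul_diagonal, Matrix.transpose_apply, Matrix.diagonal_apply, mul_ite,
      mul_zero, Finset.sum_ite_eq', mem_univ, if_true]
  have hoff : ∀ v w, v ≠ w → M v w = -L v w := by
    intro v w hvw
    rw [hM, hLap, show α v w = (LabGraph.edgeMult ends v w : ℤ) by simp [α, LabGraph.mfMatrix, hvw]]
    rw [LabGraph.edgeMult, Finset.card_filter, Nat.cast_sum, Finset.mul_sum, Finset.sum_mul,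
      ← Finset.sum_neg_distrib]
    refine Finset.sum_congr rfl fun e _ => ?_
    simp only [B, LabDetH28.inc, wt]
    by_cases h1 : (ends e).1 = v <;> by_cases h2 : (ends e).2 = v <;>
      by_cases h3 : (ends e).1 = w <;> by_cases h4 : (ends e).2 = w <;>
      simp_all [Prod.ext_iff] <;> ring
  have hML : M = -L := by
    ext v w
    by_cases hvw : v = w
    · subst hvw
      have h1 : ∑ u, M v u = 0 := by
        simp only [hM]
        rw [Finset.sum_comm]
        refine Finset.sum_eq_zero fun e _ => ?_
        rw [← Finset.mul_sum, LabDetH28.inc_sum]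
        simp
      have h2 := hrow v
      rw [← Finset.add_sum_erase _ _ (mem_univ v)] at h1 h2
      rw [Finset.sum_congr rfl (fun u hu => hoff v u (ne_of_mem_erase hu).symm), Finset.sum_neg_distrib] at h1
      rw [Matrix.neg_apply]
      linarith
    · exact hoff v w hvw
  set S := ∑ T ∈ univ.powerset.filter (fun T : Finset E => LabGraph.IsSpanningTree ends T),
    ∏ e ∈ T, wt e with hS
  set Lr := L.submatrix (fun v : {v // v ≠ v₀} => v.1) (fun v : {v // v ≠ v₀} => v.1) with hLr
  have hdetM : (-Lr).det = S := by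
    rw [hS, ← LabDetH28.matrix_tree ends v₀ wt]
    congr 1
    ext i j
    have := congrFun (congrFun hML i.1) j.1
    rw [hM] at this
    simp only [Matrix.neg_apply, hLr, Matrix.submatrix_apply] at this ⊢
    rw [← this, Matrix.mul_apply]
    refine Finset.sum_congr rfl fun e _ => ?_
    simp [Matrix.mul_diagonal, LabDetH28.incRed, B]
  have hSpos : 0 < S := by
    refine Finset.sum_pos (fun T _ => Finset.prod_pos fun e _ => mul_pos (hpos _) (hpos _)) ?_
    obtain ⟨T, -, hT⟩ := LabDetH28.exists_spanningTree ends univ (LabDetH28.connected_univ hG)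
    exact ⟨T, mem_filter.2 ⟨mem_powerset.2 (subset_univ T), hT⟩⟩
  have habs : (Lr.det.natAbs : ℤ) = S := by
    rw [Matrix.det_neg] at hdetM
    rcases neg_one_pow_eq_or ℤ (Fintype.card {v // v ≠ v₀}) with h | h <;> rw [h] at hdetM <;>
      rw [Int.natCast_natAbs]
    · rw [one_mul] at hdetM; rw [hdetM, abs_of_pos hSpos]
    · rw [neg_one_mul] at hdetM; rw [← abs_neg, hdetM, abs_of_pos hSpos]
  have hdet : Lr.det ≠ 0 := fun h => by
    rw [h] at habs; simp at habs; omega
  have hI : α.mulVecLin.toAddMonoidHom.range ≤ (LinearMap.ker (LabDetH28.wsum β)).toAddSubgroup := by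
    rintro _ ⟨x, rfl⟩
    show LabDetH28.wsum β (α.mulVec x) = 0
    rw [LabDetH28.wsum_apply]
    simp only [Matrix.mulVec, dotProduct, Finset.mul_sum]
    rw [Finset.sum_comm]
    refine Finset.sum_eq_zero fun u _ => ?_
    have h := LabChainH28.alpha_beta hβ u
    calc ∑ v, β v * (α v u * x u) = (∑ v, α u v * β v) * x u := by
          rw [Finset.sum_mul]
          exact Finset.sum_congr rfl fun v _ => by
            rw [show α v u = α u v from LabChainH28.alpha_symm v u]; ring
      _ = 0 := by rw [show (∑ v, α u v * β v) = 0 from h, zero_mul]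
  have hAβ : α.mulVec β = 0 := funext fun v => LabChainH28.alpha_beta hβ v
  have hker : ∀ x, α.mulVec x = 0 → ∃ a b : ℤ, a ≠ 0 ∧ a • x = b • β := by
    intro x hx
    refine ⟨β v₀, x v₀, hne v₀, ?_⟩
    set z := β v₀ • x - x v₀ • β with hz
    have hz0 : α.mulVec z = 0 := by
      rw [hz, Matrix.mulVec_sub, Matrix.mulVec_smul, Matrix.mulVec_smul, hx, hAβ, smul_zero, smul_zero, sub_zero]
    let z' : V → ℤ := fun v => z v * ∏ u ∈ univ.erase v, β u
    have hDz : (Matrix.diagonal β).mulVec z' = (∏ u, β u) • z := by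
      funext v
      rw [Matrix.mulVec_diagonal, Pi.smul_apply, smul_eq_mul, ← Finset.mul_prod_erase _ β (mem_univ v)]
      simp only [z']
      ring
    have hLz : L.mulVec z' = 0 := by
      rw [← Matrix.mulVec_mulVec, ← Matrix.mulVec_mulVec, hDz, Matrix.mulVec_smul, hz0, smul_zero, Matrix.mulVec_zero]
    have hz'0 : z' v₀ = 0 := by simp [z', hz, mul_comm]
    have hred : Lr.mulVec (fun u => z' u.1) = 0 := by
      funext u
      have h1 := congrFun hLz u.1
      rw [Matrix.mulVec, dotProduct, ← Finset.add_sum_erase _ _ (mem_univ v₀), hz'0, mul_zero, zero_add,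
        Finset.sum_subtype (univ.erase v₀) (p := fun v => v ≠ v₀) (by simp)] at h1
      exact h1
    have hz'' := Matrix.eq_zero_of_mulVec_eq_zero hdet hred
    funext v
    have hzv : z v = 0 := by
      by_cases h : v = v₀
      · subst h; simp [hz, mul_comm]
      · have h1 := congrFun hz'' ⟨v, h⟩
        exact (mul_eq_zero.1 h1).resolve_right (Finset.prod_ne_zero_iff.2 fun u _ => hne u)
    have := sub_eq_zero.1 hzv
    exact this
  have h := LabDetH28.relIndex_both hne hne α hI hAβ hker
  rw [LabDetH28.relIndex_laplacian L v₀ hrow hcol hdet, habs] at h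
  have hb : LabGraph.betaHom β = LabDetH28.wsum β := by
    refine LinearMap.ext fun x => ?_
    rw [LabDetH28.wsum_apply, LabGraph.betaHom, Fintype.linearCombination_apply]
    exact Finset.sum_congr rfl fun i _ => mul_comm _ _
  have hcardeq : Nat.card (LabGraph.CompGrp ends β) =
      α.mulVecLin.toAddMonoidHom.range.relIndex (LinearMap.ker (LabDetH28.wsum β)).toAddSubgroup := by
    rw [← hb]
    exact LabDetH28.natCard_quot _ _
  rw [← hcardeq, abs_of_pos (Finset.prod_pos fun v _ => hpos v)] at h
  have hq : (Nat.card (LabGraph.CompGrp ends β) : ℚ) * (∏ v, (β v : ℚ)) * (∏ v, (β v : ℚ)) =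
      ((univ.gcd β : ℤ) : ℚ) * ((univ.gcd β : ℤ) : ℚ) * (S : ℚ) := by exact_mod_cast h
  have hP : (∏ v, (β v : ℚ)) ≠ 0 := Finset.prod_ne_zero_iff.2 fun v _ => by exact_mod_cast hne v
  have hT : ∀ T ∈ univ.powerset.filter (fun T : Finset E => LabGraph.IsSpanningTree ends T),
      (∏ v : V, ((β v : ℚ) ^ ((LabGraph.nbrCount ends T v : ℤ) - 2))) =
        ((∏ e ∈ T, wt e : ℤ) : ℚ) / ((∏ v, (β v : ℚ)) * ∏ v, (β v : ℚ)) := by
    intro T hT
    have hT' := (mem_filter.1 hT).2
    have h1 : ∀ v, ((β v : ℚ) ^ ((LabGraph.nbrCount ends T v : ℤ) - 2)) =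
        (β v : ℚ) ^ (LabGraph.endCount ends T v) / ((β v : ℚ) * β v) := fun v => by
      rw [(LabDetH28.nbrCount_eq ends T hT' v).2, zpow_sub₀ (by exact_mod_cast hne v), zpow_natCast,
        zpow_two]
    rw [Finset.prod_congr rfl fun v _ => h1 v, Finset.prod_div_distrib, Finset.prod_mul_distrib]
    congr 1
    push_cast
    simp only [LabGraph.endCount, ← Finset.prod_pow_eq_pow_sum]
    rw [Finset.prod_comm]
    refine Finset.prod_congr rfl fun e _ => ?_
    simp only [pow_add, Finset.prod_mul_distrib, pow_ite, pow_one, pow_zero, Finset.prod_ite_eq, mem_univ, if_true,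
      wt, Int.cast_mul]
  rw [Finset.sum_congr rfl hT, ← Finset.sum_div, ← Int.cast_sum, ← hS, sq, mul_div_assoc',
    eq_div_iff (mul_ne_zero hP hP), ← mul_assoc]
  exact hq

end Groth.Agent.S14803
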