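import Groth.Statements.S14804
import Groth.Agent.Lib.LabDetH28.Tree
import Groth.Agent.Lib.LabChainH28.Basic

set_option autoImplicit false
universe u
open Finset
open LabGraph

namespace Groth.Agent.S14804

/-- In a connected finite multigraph G, a vertex v belongs to some cycle of G (here: v is an endpoint of
an edge of some circuit, a circuit being a minimal nonempty edge set meeting every vertex in an even
number of edge-ends, which includes loops and pairs of parallel edges) if and only if G has a
spanning tree T such that some edge outside T has v as an endpoint. (The published statement is for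
an arbitrary multigraph; when G is disconnected it has no spanning tree while a vertex may lie on a
cycle, so G is taken connected here, the case of dual graphs for which it is used.) -/
theorem result
    {V E : Type u} [Fintype V] [Fintype E] [DecidableEq V] [DecidableEq E]
    (ends : E → V × V) (hG : LabGraph.Connected ends) (v : V) :
    (∃ C : Finset E, LabGraph.IsCircuit ends C ∧ LabGraph.endCount ends C v ≠ 0) ↔
      ∃ T : Finset E, LabGraph.IsSpanningTree ends T ∧
        ∃ e : E, e ∉ T ∧ ((ends e).1 = v ∨ (ends e).2 = v) := by
  classical
  constructor
  · rintro ⟨C, hC, hv⟩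
    have hex : ∃ e ∈ C, (ends e).1 = v ∨ (ends e).2 = v := by
      by_contra h
      push Not at h
      exact hv (Finset.sum_eq_zero fun e he => by simp [h e he])
    obtain ⟨e, he, hev⟩ := hex
    let C' : Finset {e // e ∈ (univ : Finset E)} := univ.filter fun x => x.1 ∈ C
    have himg : C'.map (Function.Embedding.subtype _) = C := by
      ext x; simp [C']
    have hev' : ∀ w, Even (LabGraph.endCount (fun x : (univ : Finset E) => ends x.1) C' w) := fun w => by
      have := hC.2.1 w
      rw [← himg, LabGraph.endCount, Finset.sum_map] at this
      exact this
    obtain ⟨T, hT, hT'⟩ := LabDetH28.exists_spanningTree ends (univ.erase e)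
      (LabDetH28.connected_erase ends univ (LabDetH28.connected_univ hG) C' hev' ⟨e, mem_univ e⟩
        (by simp [C', he]))
    exact ⟨T, hT', e, fun h => (mem_erase.1 (hT h)).1 rfl, hev⟩
  · rintro ⟨T, hT, e, heT, hev⟩
    have hnot : ¬ DualGr.IsForest (V := V) (fun x : (insert e T : Finset E) => ends x.1) := fun h => by
      have h1 := LabDetH28.card_le_of_forest hG.1 h
      have h2 := ((LabDetH28.isSpanningTree_iff ends T).1 hT).2
      rw [Fintype.card_coe, card_insert_of_notMem heT] at h1
      omega
    simp only [DualGr.IsForest, not_forall, not_not] at hnot
    obtain ⟨C, hC⟩ := hnot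
    have hev' : ∀ w, Even (LabGraph.endCount ends (C.map (Function.Embedding.subtype _)) w) := fun w => by
      have := hC.2.1 w
      rw [LabGraph.endCount, Finset.sum_map]
      exact this
    obtain ⟨D, hD, hD'⟩ := LabDetH28.exists_circuit_subset ends _ (hC.1.map) hev'
    have heD : e ∈ D := by
      by_contra h
      refine LabDetH28.not_even_of_subset hT D (fun x hx => ?_) hD'.1 hD'.2.1
      obtain ⟨y, -, rfl⟩ := mem_map.1 (hD hx)
      exact (mem_insert.1 y.2).resolve_left fun h' => h (h' ▸ hx)
    refine ⟨D, hD', fun h0 => ?_⟩
    rw [LabGraph.endCount, Finset.sum_eq_zero_iff] at h0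
    have := h0 e heD
    rcases hev with h | h <;> simp [h] at this

end Groth.Agent.S14804
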