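import Groth.Statements.S14806
import Groth.Agent.Lib.LabDetH28.Index

set_option autoImplicit false
open Finset
open CompLat

namespace Groth.Agent.S14806

/-- Let n ≥ 1, let D, D' : ℤⁿ → ℤⁿ be given by diagonal matrices with nonzero diagonal entries, A : ℤⁿ →
ℤⁿ an integer matrix of rank n - 1, S : ℤⁿ → ℤ the sum of the coordinates and Δ : ℤ → ℤⁿ the
diagonal embedding, with S D A = 0 and A D' Δ = 0; let d, d' be the greatest common divisors of the
diagonal entries of D and of D' (dℤ = im(S D), d'ℤ = im(S D')). Then #(ker(S D)/im A) · |det D| ·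
|det D'| = d d' · #(ker S/im(D A D')). -/
theorem result (n : ℕ) (hn : 0 < n) (δ δ' : Fin n → ℤ) (hδ : ∀ i, δ i ≠ 0) (hδ' : ∀ i, δ' i ≠ 0)
    (A : Matrix (Fin n) (Fin n) ℤ) (hA : A.rank = n - 1)
    (hSDA : (∑ i : Fin n, (LinearMap.proj i : (Fin n → ℤ) →ₗ[ℤ] ℤ)) ∘ₗ
        (Matrix.mulVecLin (Matrix.diagonal δ)) ∘ₗ (Matrix.mulVecLin A) = 0)
    (hADΔ : (Matrix.mulVecLin A) ∘ₗ (Matrix.mulVecLin (Matrix.diagonal δ')) ∘ₗ
        (LinearMap.pi fun _ : Fin n => (LinearMap.id : ℤ →ₗ[ℤ] ℤ)) = 0) :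
    (Nat.card (LinearMap.ker ((∑ i : Fin n, (LinearMap.proj i : (Fin n → ℤ) →ₗ[ℤ] ℤ)) ∘ₗ (Matrix.mulVecLin (Matrix.diagonal δ))) ⧸
          (LinearMap.range (Matrix.mulVecLin A)).comap (LinearMap.ker ((∑ i : Fin n, (LinearMap.proj i : (Fin n → ℤ) →ₗ[ℤ] ℤ)) ∘ₗ (Matrix.mulVecLin (Matrix.diagonal δ)))).subtype) : ℤ) * |∏ i, δ i| * |∏ i, δ' i| =
      (univ.gcd δ) * (univ.gcd δ') * Nat.card (LinearMap.ker (∑ i : Fin n, (LinearMap.proj i : (Fin n → ℤ) →ₗ[ℤ] ℤ)) ⧸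
          (LinearMap.range ((Matrix.mulVecLin (Matrix.diagonal δ)) ∘ₗ (Matrix.mulVecLin A) ∘ₗ (Matrix.mulVecLin (Matrix.diagonal δ')))).comap (LinearMap.ker (∑ i : Fin n, (LinearMap.proj i : (Fin n → ℤ) →ₗ[ℤ] ℤ))).subtype) := by
  haveI : Nonempty (Fin n) := ⟨⟨0, hn⟩⟩
  let A' := Matrix.mulVecLin A
  let D := Matrix.mulVecLin (Matrix.diagonal δ)
  have hI : (LinearMap.range A').toAddSubgroup ≤ (LinearMap.ker (LabDetH28.wsum δ)).toAddSubgroup := by
    rintro _ ⟨x, rfl⟩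
    exact LinearMap.congr_fun hSDA x
  have h := LabDetH28.relIndex_scale hδ _ hI
  have hAδ : A'.toAddMonoidHom δ' = 0 := by
    have h0 := LinearMap.congr_fun hADΔ 1
    have h1 : Matrix.mulVecLin (Matrix.diagonal δ')
        ((LinearMap.pi fun _ : Fin n => (LinearMap.id : ℤ →ₗ[ℤ] ℤ)) 1) = δ' := by
      funext i; simp [Matrix.mulVec_diagonal]
    rw [LinearMap.comp_apply, LinearMap.comp_apply, h1] at h0
    exact h0
  have hker : ∀ x, A'.toAddMonoidHom x = 0 → ∃ a b : ℤ, a ≠ 0 ∧ a • x = b • δ' := by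
    intro x hx
    have h1 : Module.finrank ℤ (LinearMap.ker A') = 1 := by
      have e := Submodule.finrank_quotient_add_finrank (LinearMap.ker A')
      rw [LinearEquiv.finrank_eq A'.quotKerEquivRange, Module.finrank_fintype_fun_eq_card, Fintype.card_fin] at e
      have : Module.finrank ℤ (LinearMap.range A') = n - 1 := hA
      omega
    let b := Module.finBasisOfFinrankEq ℤ (LinearMap.ker A') h1
    have hx' : x ∈ LinearMap.ker A' := hx
    have hd' : δ' ∈ LinearMap.ker A' := hAδ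
    have e1 := b.sum_repr ⟨x, hx'⟩
    have e2 := b.sum_repr ⟨δ', hd'⟩
    rw [Fin.sum_univ_one] at e1 e2
    refine ⟨b.repr ⟨δ', hd'⟩ 0, b.repr ⟨x, hx'⟩ 0, fun h0 => ?_, ?_⟩
    · rw [h0, zero_smul] at e2
      exact hδ' ⟨0, hn⟩ (congrFun (congrArg Subtype.val e2).symm _)
    · have ex : x = b.repr ⟨x, hx'⟩ 0 • (b 0 : Fin n → ℤ) := (congrArg Subtype.val e1).symm
      have ed : δ' = b.repr ⟨δ', hd'⟩ 0 • (b 0 : Fin n → ℤ) := (congrArg Subtype.val e2).symm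
      conv_lhs => arg 2; rw [ex]
      conv_rhs => arg 2; rw [ed]
      rw [smul_smul, smul_smul, mul_comm]
  have h' := LabDetH28.relIndex_right hδ' A'.toAddMonoidHom hAδ hker
  set J := ((LabDetH28.dg δ').range.map A'.toAddMonoidHom).map (LabDetH28.dg δ) with hJ
  have hJ' : J = (LinearMap.range (D ∘ₗ A' ∘ₗ Matrix.mulVecLin (Matrix.diagonal δ'))).toAddSubgroup := by
    ext y
    simp only [hJ, AddSubgroup.mem_map, AddMonoidHom.mem_range, Submodule.mem_toAddSubgroup, LinearMap.mem_range]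
    constructor
    · rintro ⟨_, ⟨_, ⟨x, rfl⟩, rfl⟩, rfl⟩; exact ⟨x, rfl⟩
    · rintro ⟨x, rfl⟩; exact ⟨_, ⟨_, ⟨x, rfl⟩, rfl⟩, rfl⟩
  have h1 : J.relIndex ((LinearMap.range A').toAddSubgroup.map (LabDetH28.dg δ)) =
      ((LabDetH28.dg δ').range.map A'.toAddMonoidHom).relIndex (LinearMap.range A').toAddSubgroup :=
    AddSubgroup.relIndex_map_map_of_injective _ _ (LabDetH28.dg_injective hδ)
  have hle : (LinearMap.range A').toAddSubgroup.map (LabDetH28.dg δ) ≤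
      (LinearMap.ker (LabDetH28.tsum' (V := Fin n))).toAddSubgroup := by
    rintro _ ⟨x, hx, rfl⟩
    exact hI hx
  have h2 := AddSubgroup.relIndex_mul_relIndex J ((LinearMap.range A').toAddSubgroup.map (LabDetH28.dg δ)) _
    (AddSubgroup.map_mono (by rintro _ ⟨x, -, rfl⟩; exact ⟨x, rfl⟩)) hle
  rw [h1] at h2
  show ((LinearMap.range A').toAddSubgroup.relIndex (LinearMap.ker (LabDetH28.wsum δ)).toAddSubgroup : ℤ) *
      |∏ i, δ i| * |∏ i, δ' i| = univ.gcd δ * univ.gcd δ' *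
      ((LinearMap.range (D ∘ₗ A' ∘ₗ Matrix.mulVecLin (Matrix.diagonal δ'))).toAddSubgroup.relIndex
        (LinearMap.ker (LabDetH28.tsum' (V := Fin n))).toAddSubgroup : ℤ)
  rw [← hJ', ← h2, h, ← h']
  push_cast
  have e : ((LabDetH28.dg δ').range.map A'.toAddMonoidHom).relIndex A'.toAddMonoidHom.range =
      ((LabDetH28.dg δ').range.map A'.toAddMonoidHom).relIndex (LinearMap.range A').toAddSubgroup := rfl
  rw [e]
  ring

end Groth.Agent.S14806
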