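import Groth.Statements.S14807
import Mathlib.RingTheory.Ideal.AssociatedPrime.Finiteness
import Mathlib.RingTheory.Jacobson.Ring
import Mathlib.RingTheory.Artinian.Module
import Mathlib.RingTheory.Artinian.Ring
import Mathlib.RingTheory.Regular.IsSMulRegular
import Mathlib.RingTheory.AdicCompletion.Basic
import Mathlib.RingTheory.IntegralDomain
import Mathlib.RingTheory.FinitePresentation
import Mathlib.RingTheory.Flat.FaithfullyFlat.Basic
import Mathlib.RingTheory.Flat.FaithfullyFlat.Algebra
import Mathlib.RingTheory.IntegralClosure.IntegrallyClosed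
import Mathlib.LinearAlgebra.Matrix.MvPolynomial
import Mathlib.RingTheory.Polynomial.Basic
import Mathlib.RingTheory.Localization.FractionRing
import Mathlib.RingTheory.IntegralClosure.IsIntegral.Basic
import Mathlib.LinearAlgebra.TensorProduct.Tower
import Mathlib.RingTheory.Ideal.Quotient.Operations
import Mathlib.RingTheory.Ideal.Colon
import Mathlib.RingTheory.Support
import Mathlib.RingTheory.Noetherian.OfPrime
import Mathlib.RingTheory.HopkinsLevitzki
import Mathlib.RingTheory.Ideal.AssociatedPrime.Localization
import Mathlib.RingTheory.Flat.FaithfullyFlat.Descent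
import Mathlib.LinearAlgebra.TensorProduct.Quotient
import Mathlib.LinearAlgebra.TensorProduct.RightExactness
import Mathlib.RingTheory.PrincipalIdealDomain
import Mathlib.LinearAlgebra.Matrix.Charpoly.Basic
import Mathlib.RingTheory.Flat.Stability
import Mathlib.RingTheory.Nilpotent.Lemmas
import Mathlib.Algebra.Module.Projective
import Mathlib.RingTheory.LocalRing.ResidueField.Basic
import Mathlib.GroupTheory.OrderOfElement
import Mathlib.Algebra.EuclideanDomain.Int
import Mathlib.RingTheory.Spectrum.Maximal.Basic

set_option autoImplicit false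
universe u
open CAlg

namespace Groth.Agent.S14807
open TensorProduct

/-- Let G be a finite abelian group, written additively, and ℓ a prime number. Every sequence (g_n)_{n ≥
0} of elements of G with ℓ^n · g_n = 0 and ℓ · g_{n+1} = g_n for all n is identically zero; in other
words the inverse limit of the subgroups of ℓ^n-torsion elements, with transition maps
multiplication by ℓ, vanishes. -/
theorem result (G : Type u) [AddCommGroup G] [Finite G]
    (ℓ : ℕ) (hℓ : ℓ.Prime) (g : ℕ → G) (htor : ∀ n : ℕ, ℓ ^ n • g n = 0)
    (hcomp : ∀ n : ℕ, ℓ • g (n + 1) = g n) (n : ℕ) : g n = 0 := by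
  have key : ∀ m n : ℕ, ℓ ^ m • g (n + m) = g n := by
    intro m; induction m with
    | zero => simp
    | succ m ih => intro n; rw [pow_succ, mul_smul, ← add_assoc, hcomp, ih]
  rw [← key (Nat.card G) n]
  obtain ⟨j, -, hj⟩ := (Nat.dvd_prime_pow hℓ).1 (addOrderOf_dvd_iff_nsmul_eq_zero.2 (htor (n + Nat.card G)))
  rw [← addOrderOf_dvd_iff_nsmul_eq_zero, hj]
  refine pow_dvd_pow _ ?_
  have h1 := Nat.le_of_dvd Nat.card_pos (hj ▸ addOrderOf_dvd_natCard (g (n + Nat.card G)))
  exact ((Nat.lt_pow_self hℓ.one_lt).le).trans h1

end Groth.Agent.S14807
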