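import Groth.Statements.S14809
import Groth.Agent.Lib.RelAmple18.Generated

set_option autoImplicit false
universe u
open CategoryTheory CategoryTheory.Limits AlgebraicGeometry
open PicF

namespace Groth.Agent.S14809

/-- Let X be an integral scheme such that Γ(X, O_X) is a field and L an invertible O_X-module with a
nonzero global section (a nonzero morphism O_X → L). If some tensor power L^{⊗d} with d ≥ 1 is
isomorphic to O_X, then L itself is isomorphic to O_X. -/
theorem result (X : Scheme.{u}) [IsIntegral X]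
    (hfield : IsField (Γ(X, ⊤) : Type u)) (L : X.Modules) (hL : PicF.IsInvertible L)
    (s : Coh.structureModule X ⟶ L) (hs : s ≠ 0) (d : ℕ) (hd : 0 < d)
    (htriv : Nonempty (CohB1.tensorPow L d ≅ Coh.structureModule X)) :
    Nonempty (L ≅ Coh.structureModule X) := by
  obtain ⟨e⟩ := htriv
  haveI : Nonempty X := inferInstance
  let t := Groth.Agent.Amp.gval s
  have ht : t ≠ 0 := fun h0 => hs (Groth.Agent.M1.unit_hom_ext (by
    refine h0.trans ?_; rfl))
  have hgen : ∃ z, z ∈ CohB1.genLocus L s := by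
    by_contra hc
    push Not at hc
    refine ht (Groth.Agent.Amp.eq_of_gm fun z hz => ?_)
    obtain ⟨U, g, a, hzU, -, hU, hg, ha, heq⟩ := Groth.Agent.Amp.exists_local hL s (V := ⊤) (x := z) trivial
    have : X.basicOpen a = ⊥ := by rw [← heq]; exact le_bot_iff.mp fun y hy => (hc y hy.1).elim
    rw [basicOpen_eq_bot_iff] at this
    rw [← Groth.Agent.Amp.gm_res (le_top : U ≤ ⊤) hzU, ← ha, this, zero_smul]
    exact (map_zero _).trans (map_zero _).symm
  obtain ⟨z, hz⟩ := hgen
  obtain ⟨k, rfl⟩ := Nat.exists_eq_add_of_le hd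
  let σ := SecTwist.powHom s (k + 1)
  let e' : CohB1.tensorPow L (k + 1) ≅ Coh.structureModule X := eqToIso (by rw [Nat.add_comm]) ≪≫ e
  have hloc : CohB1.genLocus L s = X.basicOpen (show Γ(X, ⊤) from Groth.Agent.Amp.gval (σ ≫ e'.hom)) := by
    rw [← Groth.Agent.RA.genLocus_structureModule, Groth.Agent.Amp.genLocus_comp_iso,
      Groth.Agent.Amp.genLocus_powHom hL]
  have htop : CohB1.genLocus L s = ⊤ := by
    rw [hloc]
    refine Scheme.basicOpen_of_isUnit _ ?_
    have hne : (show Γ(X, ⊤) from Groth.Agent.Amp.gval (σ ≫ e'.hom)) ≠ 0 := fun h0 => by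
      rw [hloc, h0, Scheme.basicOpen_zero] at hz
      exact hz
    obtain ⟨b, hb⟩ := hfield.mul_inv_cancel hne
    exact IsUnit.of_mul_eq_one b hb
  have hiso : IsIso s := by
    rw [← Groth.Agent.Amp.secHom_gval s]
    refine Groth.Agent.Twist.isIso_of_bijective_app _ fun V => ?_
    have hg := Groth.Agent.Amp.isGenerator_genLocus hL s V (htop ▸ le_top)
    simp only [Groth.Agent.Amp.res_res] at hg
    have e2 : ⇑((Groth.Agent.M1.secHom (Groth.Agent.Amp.gval s)).app V) =
        fun r : Γ(X, V) => r • Groth.Agent.M1.mres L (le_top : V ≤ ⊤) (Groth.Agent.Amp.gval s) :=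
      funext (Groth.Agent.Twist.secHom_app (Groth.Agent.Amp.gval s) V)
    rw [e2]
    exact hg
  exact ⟨(asIso s).symm⟩

end Groth.Agent.S14809
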