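import Groth.Statements.S14810
import Groth.Agent.Lib.NumPoly18.SurfCones
import Groth.Agent.Lib.TateTors22.CurveThrough
import Groth.Agent.Lib.CurveAmple18.Main
import Groth.Agent.Lib.CubeField.Simple

set_option autoImplicit false
universe u
open CategoryTheory CategoryTheory.Limits AlgebraicGeometry
open Pic13

open Groth.Agent Groth.Agent.NumPoly18
namespace Groth.Agent.S14810

/-- Let X be an integral scheme, proper over a field k, such that Γ(X, O_X) is a field, and let L be an
invertible O_X-module which is numerically trivial: its restriction to every closed subscheme of X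
which is integral of dimension one has degree 0. If L has a nonzero global section (a nonzero
morphism O_X → L), then L is isomorphic to O_X. -/
theorem result (k : Type u) [Field k] (X : Scheme.{u})
    [X.Over (Spec (CommRingCat.of k))] [IsProper (X ↘ Spec (CommRingCat.of k))] [IsIntegral X]
    (hfield : IsField (Γ(X, ⊤) : Type u)) (L : X.Modules) (hL : PicF.IsInvertible L)
    (hnum : Pic13.IsNumEquivZero k X L) (s : Coh.structureModule X ⟶ L) (hs : s ≠ 0) :
    Nonempty (L ≅ Coh.structureModule X) := by
  have hne : (CohB1.genLocus L s : Set X).Nonempty := by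
    have h := CubeField.genLocus_nonempty_of_ne_zero hL (CurveAmple18.gval_ne_zero hs)
    rwa [Amp.secHom_gval] at h
  by_contra hcon
  have htop : CohB1.genLocus L s ≠ ⊤ := fun h => hcon (by
    haveI := CurveAmple18.isIso_of_genLocus_eq_top hL s h
    exact ⟨(asIso s).symm⟩)
  let F : Set X := (CohB1.genLocus L s : Set X)ᶜ
  have hF : IsClosed F := (CohB1.genLocus L s).isOpen.isClosed_compl
  have hFne : F.Nonempty := by
    by_contra h
    refine htop (TopologicalSpace.Opens.ext ?_)
    simpa [F, Set.not_nonempty_iff_eq_empty] using h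
  haveI : IsNoetherian X := CohFound.isNoetherian_of_isProper (X ↘ (Spec (CommRingCat.of k)))
  obtain ⟨x, hxF, hx⟩ := hF.exists_closed_singleton hFne
  have hη : genericPoint X ∉ F := by
    obtain ⟨p, hp⟩ := hne
    exact fun h => h ((genericPoint_specializes p).mem_open (CohB1.genLocus L s).isOpen hp)
  obtain ⟨y, hyx, hyF, hy1⟩ := TateTors22.exists_curve_avoiding (X ↘ (Spec (CommRingCat.of k))) x hx F hF hη
  have hy : topologicalKrullDim (closure ({y} : Set X)) = 1 := by
    refine le_antisymm hy1 ?_
    by_contra hlt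
    push Not at hlt
    rw [VarDim.dim_closure_singleton (X ↘ (Spec (CommRingCat.of k)))] at hlt
    have h0 : VarDim.sdim (X ↘ (Spec (CommRingCat.of k))) y = 0 := by
      have : VarDim.sdim (X ↘ (Spec (CommRingCat.of k))) y < 1 := by exact_mod_cast hlt
      omega
    have hyc := (VarDim.sdim_eq_zero_iff_isClosed (X ↘ (Spec (CommRingCat.of k))) y).1 h0
    have : x = y := by simpa [hyc.closure_eq] using hyx.mem_closure
    exact hyF (this ▸ hxF)
  obtain ⟨hI, z, hz, hzy⟩ := isIntegral_pt y
  haveI := hI
  let ι := (ptIdeal y).subschemeι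
  letI : (ptIdeal y).subscheme.Over (Spec (CommRingCat.of k)) := ⟨ι ≫ (X ↘ (Spec (CommRingCat.of k)))⟩
  haveI : IsProper ((ptIdeal y).subscheme ↘ (Spec (CommRingCat.of k))) :=
    inferInstanceAs (IsProper (ι ≫ (X ↘ (Spec (CommRingCat.of k)))))
  have hYd : topologicalKrullDim (ptIdeal y).subscheme = 1 :=
    (AmpleFin18.dim_subscheme _ (Scheme.IdealSheafData.coe_support_vanishingIdeal _)).trans hy
  have hL' := Twist.isInvertible_pullback ι hL
  let ψ := (PicLoc.pullbackStructureIso ι).symm.hom ≫ (Scheme.Modules.pullback ι).map s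
  have hgl : CohB1.genLocus ((Scheme.Modules.pullback ι).obj L) ψ = ι ⁻¹ᵁ CohB1.genLocus L s :=
    Amp.genLocus_pullback ι hL s (PicLoc.pullbackStructureIso ι).symm
  have hzg : z ∈ CohB1.genLocus ((Scheme.Modules.pullback ι).obj L) ψ := by
    rw [hgl]
    change ι z ∈ CohB1.genLocus L s
    rw [hzy]
    exact not_not.1 hyF
  have hψ : Amp.gval ψ ≠ 0 := fun h0 => by
    rw [← Amp.secHom_gval ψ, h0, Amp.genLocus_secHom_zero hL'] at hzg
    exact hzg.elim
  have hdeg := (CurveAmple18.deg_section (k := k) hYd.le hL' (Amp.gval ψ) hψ).2 (by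
    have h1 := cdeg_push (k := k) ι rfl hL
    rw [← curveDeg_eq_cdeg ι hYd.le hL, hnum _ ι hI hYd] at h1
    exact_mod_cast h1.symm)
  rw [Amp.secHom_gval ψ] at hdeg
  haveI := hdeg
  have htop' := CurveAmple18.genLocus_eq_top_of_isIso ψ
  obtain ⟨w, hw⟩ : x ∈ Set.range ι := (range_ptι y).ge hyx.mem_closure
  have hwg : w ∈ CohB1.genLocus ((Scheme.Modules.pullback ι).obj L) ψ := htop' ▸ trivial
  rw [hgl] at hwg
  exact hxF (hw ▸ hwg : x ∈ CohB1.genLocus L s)

end Groth.Agent.S14810
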