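import Groth.Statements.S14811
import Groth.Agent.Lib.NefBC1

set_option autoImplicit false
universe u
open CategoryTheory CategoryTheory.Limits AlgebraicGeometry
open Pic13

namespace Groth.Agent.S14811


section
set_option backward.isDefEq.respectTransparency false

open Groth.Agent Groth.Agent.NumPoly18

variable {k : Type u} [Field k] {X : Scheme.{u}} [X.Over (Spec (CommRingCat.of k))]
  [IsProper (X ↘ Spec (CommRingCat.of k))]

private theorem cdeg_add_inverse {L L' : X.Modules} (hL : PicF.IsInvertible L) (hL' : PicF.IsInvertible L')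
    (e : CohB1.tensorMod L L' ≅ Coh.structureModule X) (ξ : X) (hξ : topologicalKrullDim (closure ({ξ} : Set X)) = 1) :
    cdeg k L (ptMod ξ) + cdeg k L' (ptMod ξ) = 0 := by
  haveI : IsNoetherian X := CohFound.isNoetherian_of_isProper (X ↘ (Spec (CommRingCat.of k)))
  have h := md_cons_tensor (k := k) (r := 0) hL hL' (M := fun i => i.elim0) (fun i => i.elim0) (isCoh_ptMod ξ)
    (Snapper.dim_le_of_subset (support_ptMod ξ) (by rw [hξ]; rfl))
  have hc : ∀ A : X.Modules, md k (Fin.cons A (fun i : Fin 0 => i.elim0) : Fin (0 + 1) → X.Modules) (ptMod ξ) =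
      cdeg k A (ptMod ξ) := fun A => by
    rw [cdeg, const_eq_cons, Subsingleton.elim (fun i : Fin 0 => (i.elim0 : X.Modules)) (fun _ : Fin 0 => A)]
  simp only [hc] at h
  rw [← h, cdeg_eq, CurveCoh17.euler_iso (M2.tensorIso (Iso.refl _) e ≪≫ M2.tensorRUnit _), sub_self]

private theorem num_iff {L L' : X.Modules} (hL : PicF.IsInvertible L) (hL' : PicF.IsInvertible L')
    (e : CohB1.tensorMod L L' ≅ Coh.structureModule X) :
    Pic13.IsNumEquivZero k X L ↔ Nef k L ∧ Nef k L' := by
  constructor
  · intro h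
    have hn : Nef k L := nef_of_curveDeg hL fun Y i _ hY hd => (h Y i hY hd).ge
    refine ⟨hn, fun ξ hξ => ?_⟩
    have h0 : cdeg k L (ptMod ξ) = 0 := by
      have hY : topologicalKrullDim (ptIdeal ξ).subscheme = 1 :=
        (AmpleFin18.dim_subscheme _ (Scheme.IdealSheafData.coe_support_vanishingIdeal _)).trans hξ
      have h1 := curveDeg_eq_cdeg (k := k) (ptIdeal ξ).subschemeι hY.le hL
      rw [h _ (ptIdeal ξ).subschemeι (isIntegral_pt ξ).1 hY, Int.cast_zero] at h1
      exact h1.symm
    have := cdeg_add_inverse (k := k) hL hL' e ξ hξ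
    linarith
  · rintro ⟨h, h'⟩ Y i _ hY hd
    haveI : IsNoetherian X := CohFound.isNoetherian_of_isProper (X ↘ (Spec (CommRingCat.of k)))
    have hnum : NumEq k L (Coh.structureModule X) := fun ξ hξ => by
      have := cdeg_add_inverse (k := k) hL hL' e ξ hξ
      rw [cdeg_eq (Coh.structureModule X), CurveCoh17.euler_iso (M2.tensorRUnit _), sub_self]
      linarith [h ξ hξ, h' ξ hξ]
    have hO := PicLoc.isInvertible_structureModule X
    rw [curveDeg_eq_of_numEq hL hO hnum i hd.le]
    have e' : (Pic13.curveDeg k (i ≫ (X ↘ Spec (CommRingCat.of k)))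
        ((Scheme.Modules.pullback i).obj (Coh.structureModule X)) : ℚ) = 0 := by
      rw [curveDeg_eq_cdeg i hd.le hO, cdeg_eq, CurveCoh17.euler_iso (M2.tensorRUnit _), sub_self]
    exact_mod_cast e'

end


/-- Let X be a proper scheme over a field k, L an invertible O_X-module and k ⊆ E an arbitrary field
extension. Then L is numerically trivial on X (degree 0 on every closed subscheme of X which is
integral of dimension one) if and only if the pullback of L to X_E = X ×_k Spec E is numerically
trivial on X_E regarded as a scheme over E. -/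
theorem result (k : Type u) [Field k] (X : Scheme.{u})
    [X.Over (Spec (CommRingCat.of k))] [IsProper (X ↘ Spec (CommRingCat.of k))] (L : X.Modules) (hL : PicF.IsInvertible L)
    (E : Type u) [Field E] [Algebra k E] :
    Pic13.IsNumEquivZero k X L ↔
      @Pic13.IsNumEquivZero E _ (pullback (X ↘ Spec (CommRingCat.of k)) (Spec.map (CommRingCat.ofHom (algebraMap k E))))
        ⟨pullback.snd (X ↘ Spec (CommRingCat.of k)) (Spec.map (CommRingCat.ofHom (algebraMap k E)))⟩
        ((Scheme.Modules.pullback (pullback.fst (X ↘ Spec (CommRingCat.of k)) (Spec.map (CommRingCat.ofHom (algebraMap k E))))).obj L) := by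
  obtain ⟨L', hL', ⟨e⟩⟩ := M2.exists_inverse hL
  letI := NefBC1.overBC (k := k) E X
  haveI : IsProper (Curv2.bc k X E ↘ Spec (CommRingCat.of E)) := NefBC1.isProper_bcSnd E X
  have hp := PicLoc.isInvertible_pullback (Curv2.bcFst k X E) hL
  have hp' := PicLoc.isInvertible_pullback (Curv2.bcFst k X E) hL'
  have e' := (M2.pullTensorIso (Curv2.bcFst k X E) L L').symm ≪≫ (Scheme.Modules.pullback (Curv2.bcFst k X E)).mapIso e ≪≫
    Twist.pullbackUnitIso (Curv2.bcFst k X E)
  refine (num_iff hL hL' e).trans (Iff.trans ?_ (num_iff hp hp' e').symm)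
  exact ⟨fun h => ⟨NefBC1.nef_bc E X hL h.1, NefBC1.nef_bc E X hL' h.2⟩,
    fun h => ⟨NefBC1.nef_of_bc E X hL h.1, NefBC1.nef_of_bc E X hL' h.2⟩⟩

end Groth.Agent.S14811
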