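import Groth.Statements.S14813
import Groth.Agent.Lib.EtaleChi1.Main
import Groth.Agent.Lib.MumVan22.PushShear
import Groth.Agent.Lib.VB17.Sub
import Groth.Agent.Lib.Snapper.Vanish
import Groth.Agent.Lib.VB17.Duality

set_option autoImplicit false
universe u
open CategoryTheory CategoryTheory.Limits AlgebraicGeometry
open FGA

namespace Groth.Agent.S14813


open Groth.Agent CurveCoh17



/-- Let k be an arbitrary field and let X and X' be smooth, integral, proper k-schemes, X of dimension
n, with an étale k-morphism φ : X' → X (it is then finite étale); suppose φ is finite locally free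
of constant degree d. Then χ(O_{X'}) = d · χ(O_X), where χ denotes the alternating sum of dim_k
H^i(·, O) over 0 ≤ i ≤ n (X' has dimension n as well). -/
theorem result (k : Type u) [Field k] (X X' : Scheme.{u})
    [X.Over (Spec (CommRingCat.of k))] [X'.Over (Spec (CommRingCat.of k))]
    [IsProper (X ↘ Spec (CommRingCat.of k))] [IsProper (X' ↘ Spec (CommRingCat.of k))] [Smooth (X ↘ Spec (CommRingCat.of k))] [Smooth (X' ↘ Spec (CommRingCat.of k))]
    [IsIntegral X] [IsIntegral X'] (φ : X' ⟶ X) [Etale φ] (hφ : φ ≫ (X ↘ Spec (CommRingCat.of k)) = X' ↘ Spec (CommRingCat.of k))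
    (d : ℕ) (hd : Mor2.IsFinLocFreeOfDeg d φ) (n : ℕ) (hn : topologicalKrullDim X = n) :
    FGA.eulerCharLE k X' (Coh.structureModule X') n = d * FGA.eulerCharLE k X (Coh.structureModule X) n := by
  let sX := X ↘ Spec (CommRingCat.of k)
  haveI : IsProper (φ ≫ sX) := by rw [hφ]; infer_instance
  haveI : IsProper φ := IsProper.of_comp φ sX
  haveI : IsFinite φ := by
    haveI : LocallyQuasiFinite φ := AlgSpDecent.locallyQuasiFinite_of_etale φ
    exact (IsFinite.iff_isProper_and_locallyQuasiFinite φ).2 ⟨inferInstance, inferInstance⟩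
  obtain ⟨m, hm⟩ := VB17.exists_rank_of_isFinLocFree (CurveCoh17.isFinLocFree_pushO φ)
  let y : X := genericPoint X
  obtain ⟨V, hyV, ⟨eV⟩⟩ := hm y
  let c : Spec (CommRingCat.of (X.residueField y)) ⟶ X := X.fromSpecResidueField y
  have hcV : ∀ t, c t ∈ V := fun t => by
    show X.fromSpecResidueField y t ∈ V
    rw [Scheme.fromSpecResidueField_apply]; exact hyV
  obtain ⟨i1⟩ := PushShear22.nonempty_pull_free eV c hcV
  obtain ⟨i2⟩ := PushShear22.nonempty_pull_pushO φ c
  haveI : IsFinite (pullback.fst c φ) := MorphismProperty.pullback_fst (P := @IsFinite) _ _ inferInstance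
  have hfin := PushShear22.rank_eq_finrank (pullback.fst c φ) (i2.symm ≪≫ i1)
  rw [Scheme.Hom.finrank_pullback_fst, hd.2] at hfin
  subst hfin
  have hn' : topologicalKrullDim X' ≤ (n : WithBot ℕ∞) :=
    (AlgSpDecent.topologicalKrullDim_le_of_lqf φ).trans hn.le
  rw [Snapper.eulerCharLE_eq_euler n hn' (M1.isCoh_structureModule X'),
    Snapper.eulerCharLE_eq_euler n hn.le (M1.isCoh_structureModule X),
    euler_iso (PicLoc.pullbackStructureIso φ).symm]
  exact EtaleChi1.euler_pullback_etale d φ hφ hm _ (M1.isCoh_structureModule X)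

end Groth.Agent.S14813
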