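import Groth.Statements.S14816
import Mathlib

set_option autoImplicit false
universe u
open CategoryTheory MonoidalCategory CartesianMonoidalCategory MonObj GrpObj AlgebraicGeometry
open AbVar

namespace Groth.Agent.S14816

section Aux
open TensorProduct

variable {k : Type u} [Field k] (p : ℕ)

/-- the fixed points of the `N`-th iterate of Frobenius -/
abbrev Fix (N : ℕ) : Set k := {x | x ^ (p ^ N) = x}

variable [hp : Fact p.Prime] [CharP k p]

lemma fix_mono {N M : ℕ} (h : N ∣ M) {x : k} (hx : x ∈ Fix p N) : x ∈ Fix p M := by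
  obtain ⟨m, rfl⟩ := h
  show x ^ (p ^ (N * m)) = x
  induction m with
  | zero => simp
  | succ m ih => rw [Nat.mul_succ, pow_add, pow_mul, ih]; exact hx

lemma fix_closure {N : ℕ} {S : Set k} (hS : S ⊆ Fix p N) :
    (Subring.closure S : Set k) ⊆ Fix p N := by
  haveI : ExpChar k p := ExpChar.prime hp.out
  have : Subring.closure S ≤ RingHom.eqLocus (iterateFrobenius k p N) (RingHom.id k) := by
    rw [Subring.closure_le]
    intro x hx
    show iterateFrobenius k p N x = x
    rw [iterateFrobenius_def]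
    exact hS hx
  intro x hx
  have h := this hx
  change iterateFrobenius k p N x = x at h
  rwa [iterateFrobenius_def] at h

lemma fix_finite {N : ℕ} (hN : 0 < N) : (Fix p N : Set k).Finite := by
  have hne : (Polynomial.X ^ (p ^ N) - Polynomial.X : Polynomial k) ≠ 0 :=
    FiniteField.X_pow_card_sub_X_ne_zero _ (Nat.one_lt_pow hN.ne' hp.out.one_lt)
  refine (Polynomial.finite_setOf_isRoot hne).subset fun x hx => ?_
  show Polynomial.IsRoot _ x
  simp only [Polynomial.IsRoot, Polynomial.eval_sub, Polynomial.eval_pow, Polynomial.eval_X]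
  exact sub_eq_zero.mpr hx

omit hp [CharP k p] in
lemma common {κ : Type*} [Finite κ] {P : κ → ℕ → Prop}
    (hmono : ∀ i N M, N ∣ M → P i N → P i M) (h : ∀ i, ∃ N, 0 < N ∧ P i N) :
    ∃ N, 0 < N ∧ ∀ i, P i N := by
  cases nonempty_fintype κ
  choose N hN hP using h
  exact ⟨∏ i, N i, Finset.prod_pos fun i _ => hN i,
    fun i => hmono i _ _ (Finset.dvd_prod_of_mem N (Finset.mem_univ i)) (hP i)⟩

/-- `t` has coordinates in `Fix M` at every point whose generators do. -/
lemma ctl (halg : ∀ x : k, ∃ n : ℕ, 0 < n ∧ x ^ (p ^ n) = x) {T : Type u} [CommRing T]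
    [Algebra k T] (G : Set T) (hG : Algebra.adjoin k G = ⊤) (t : T) :
    ∃ N, 0 < N ∧ ∀ M, N ∣ M → ∀ φ : T →ₐ[k] k, (∀ g ∈ G, φ g ∈ Fix p M) → φ t ∈ Fix p M := by
  have ht : t ∈ Algebra.adjoin k G := hG ▸ Algebra.mem_top
  induction ht using Algebra.adjoin_induction with
  | mem x hx => exact ⟨1, one_pos, fun M _ φ h => h x hx⟩
  | algebraMap r =>
    obtain ⟨n, hn, hr⟩ := halg r
    refine ⟨n, hn, fun M hM φ _ => ?_⟩
    rw [AlgHom.commutes]
    exact fix_mono p hM hr
  | add x y _ _ hx hy =>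
    obtain ⟨N, hN, hx⟩ := hx
    obtain ⟨N', hN', hy⟩ := hy
    refine ⟨N * N', Nat.mul_pos hN hN', fun M hM φ h => ?_⟩
    rw [map_add]
    refine fix_closure p (subset_refl _) (add_mem (Subring.subset_closure ?_) (Subring.subset_closure ?_))
    · exact hx M (dvd_of_mul_right_dvd hM) φ h
    · exact hy M (dvd_of_mul_left_dvd hM) φ h
  | mul x y _ _ hx hy =>
    obtain ⟨N, hN, hx⟩ := hx
    obtain ⟨N', hN', hy⟩ := hy
    refine ⟨N * N', Nat.mul_pos hN hN', fun M hM φ h => ?_⟩
    rw [map_mul]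
    show (φ x * φ y) ^ _ = _
    rw [mul_pow, hx M (dvd_of_mul_right_dvd hM) φ h, hy M (dvd_of_mul_left_dvd hM) φ h]

/-- a chart on `A`: an open immersion of the spectrum of a finitely generated algebra -/
structure Chart (A : Over (Spec (CommRingCat.of k))) where
  B : Type u
  [ring : CommRing B]
  [alg : Algebra k B]
  gens : Finset B
  hgens : Algebra.adjoin k (gens : Set B) = ⊤
  j : Spec (CommRingCat.of B) ⟶ A.left
  [oi : IsOpenImmersion j]
  hj : j ≫ A.hom = Spec.map (CommRingCat.ofHom (algebraMap k B))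

attribute [instance] Chart.ring Chart.alg Chart.oi

variable {A : Over (Spec (CommRingCat.of k))}

/-- the point `a` lies in the chart with coordinates fixed by Frobenius^M -/
def Chart.Coord (C : Chart A) (M : ℕ) (a : 𝟙_ (Over (Spec (CommRingCat.of k))) ⟶ A) : Prop :=
  ∃ φ : C.B →ₐ[k] k, a.left = Spec.map (CommRingCat.ofHom φ.toRingHom) ≫ C.j ∧
    ∀ g ∈ C.gens, φ g ∈ Fix p M

lemma chart_exists [LocallyOfFiniteType A.hom] (U : A.left.Opens) (hU : IsAffineOpen U) :
    ∃ C : Chart A, Set.range C.j = (U : Set A.left) := by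
  obtain ⟨c, hc⟩ := Spec.map_surjective (hU.fromSpec ≫ A.hom)
  have hft : c.hom.FiniteType := by
    rw [← HasRingHomProperty.Spec_iff (P := @LocallyOfFiniteType), hc]
    infer_instance
  letI : Algebra k Γ(A.left, U) := c.hom.toAlgebra
  have hft' : Algebra.FiniteType k Γ(A.left, U) := hft
  obtain ⟨s, hs⟩ := hft'.out
  exact ⟨⟨Γ(A.left, U), s, hs, hU.fromSpec, hc.symm⟩, hU.range_fromSpec⟩

lemma alg_of_comp {B : Type u} [CommRing B] [Algebra k B] (j : Spec (CommRingCat.of B) ⟶ A.left)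
    (hj : j ≫ A.hom = Spec.map (CommRingCat.ofHom (algebraMap k B))) {T : Type u} [CommRing T]
    [Algebra k T] (f : CommRingCat.of B ⟶ CommRingCat.of T)
    (h : (Spec.map f ≫ j) ≫ A.hom = Spec.map (CommRingCat.ofHom (algebraMap k T))) :
    ∃ φ : B →ₐ[k] T, φ.toRingHom = f.hom := by
  rw [Category.assoc, hj, ← Spec.map_comp] at h
  have h' := Spec.map_injective h
  refine ⟨⟨f.hom, fun r => ?_⟩, rfl⟩
  exact congrArg (fun q => q.hom r) h'

lemma pt_w (a : 𝟙_ (Over (Spec (CommRingCat.of k))) ⟶ A) :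
    a.left ≫ A.hom = Spec.map (CommRingCat.ofHom (algebraMap k k)) := by
  have := Over.w a
  rw [this]
  exact (Spec.map_id _).symm

lemma coord_exists (halg : ∀ x : k, ∃ n : ℕ, 0 < n ∧ x ^ (p ^ n) = x) (C : Chart A)
    (a : 𝟙_ (Over (Spec (CommRingCat.of k))) ⟶ A) (h : Set.range a.left ⊆ Set.range C.j) :
    ∃ N, 0 < N ∧ C.Coord p N a := by
  obtain ⟨f, hf⟩ := Spec.map_surjective (IsOpenImmersion.lift C.j a.left h)
  have hfa : Spec.map f ≫ C.j = a.left := by rw [hf, IsOpenImmersion.lift_fac]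
  obtain ⟨φ, hφ⟩ := alg_of_comp C.j C.hj f (by rw [hfa]; exact pt_w a)
  obtain ⟨N, hN, hP⟩ := common (P := fun (g : C.gens) N => φ g ∈ Fix p N)
    (fun _ _ _ hd hx => fix_mono p hd hx) (fun g => halg (φ g))
  exact ⟨N, hN, φ, by rw [hφ]; exact hfa.symm, fun g hg => hP ⟨g, hg⟩⟩

lemma coord_mono (C : Chart A) {N M : ℕ} (h : N ∣ M)
    {a : 𝟙_ (Over (Spec (CommRingCat.of k))) ⟶ A} (ha : C.Coord p N a) : C.Coord p M a := by
  obtain ⟨φ, h1, h2⟩ := ha
  exact ⟨φ, h1, fun g hg => fix_mono p h (h2 g hg)⟩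

lemma coord_finite (C : Chart A) {M : ℕ} (hM : 0 < M) :
    {a : 𝟙_ (Over (Spec (CommRingCat.of k))) ⟶ A | C.Coord p M a}.Finite := by
  haveI : Finite ↥(Fix p M : Set k) := (fix_finite p hM).to_subtype
  let F : {a : 𝟙_ (Over (Spec (CommRingCat.of k))) ⟶ A // C.Coord p M a} → (C.gens → ↥(Fix p M : Set k)) :=
    fun a g => ⟨a.2.choose g, a.2.choose_spec.2 g g.2⟩
  have hF : Function.Injective F := by
    intro a b hab
    have h1 : a.2.choose = b.2.choose := AlgHom.ext_of_adjoin_eq_top C.hgens fun g hg =>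
      congrArg Subtype.val (congrFun hab ⟨g, hg⟩)
    apply Subtype.ext
    apply Over.OverMorphism.ext
    rw [a.2.choose_spec.1, b.2.choose_spec.1, h1]
  exact Set.finite_coe_iff.mp (Finite.of_injective F hF)

/-- the image of a morphism `Spec T ⟶ A` is controlled chart by chart -/
lemma coord_map (halg : ∀ x : k, ∃ n : ℕ, 0 < n ∧ x ^ (p ^ n) = x) {κ : Type*} [Finite κ]
    (C : κ → Chart A) (hC : ∀ x : A.left, ∃ i, x ∈ Set.range (C i).j)
    {T : Type u} [CommRing T] [Algebra k T] (G : Set T) (hG : Algebra.adjoin k G = ⊤)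
    (ν : Over.mk (Spec.map (CommRingCat.ofHom (algebraMap k T))) ⟶ A) :
    ∃ N, 0 < N ∧ ∀ M, N ∣ M → ∀ φ : T →ₐ[k] k, (∀ g ∈ G, φ g ∈ Fix p M) →
      ∀ e : 𝟙_ (Over (Spec (CommRingCat.of k))) ⟶ Over.mk (Spec.map (CommRingCat.ofHom (algebraMap k T))),
        e.left = Spec.map (CommRingCat.ofHom φ.toRingHom) → ∃ i, (C i).Coord p M (e ≫ ν) := by
  have hloc : ∀ q : PrimeSpectrum T, ∃ (i : κ) (h : T), h ∉ q.asIdeal ∧
      ∀ q' : PrimeSpectrum T, h ∉ q'.asIdeal → ν.left q' ∈ Set.range (C i).j := by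
    intro q
    obtain ⟨i, hi⟩ := hC (ν.left q)
    have hopen : IsOpen (⇑ν.left ⁻¹' Set.range (C i).j) :=
      (C i).j.isOpenEmbedding.isOpen_range.preimage ν.left.continuous
    obtain ⟨_, ⟨h, rfl⟩, hqh, hsub⟩ :=
      PrimeSpectrum.isTopologicalBasis_basic_opens.exists_subset_of_mem_open
        (show q ∈ ⇑ν.left ⁻¹' Set.range (C i).j from hi) hopen
    exact ⟨i, h, hqh, fun q' hq' => hsub hq'⟩
  choose idx h hh hsub using hloc
  obtain ⟨s, hs⟩ := isCompact_univ.elim_finite_subcover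
    (fun q : PrimeSpectrum T => (PrimeSpectrum.basicOpen (h q) : Set (PrimeSpectrum T)))
    (fun q => (PrimeSpectrum.basicOpen (h q)).isOpen)
    (fun q _ => Set.mem_iUnion.mpr ⟨q, hh q⟩)
  have key : ∀ q : s, ∃ N, 0 < N ∧ ∀ M, N ∣ M → ∀ φ : T →ₐ[k] k, (∀ g ∈ G, φ g ∈ Fix p M) →
      φ (h q) ≠ 0 →
      ∀ e : 𝟙_ (Over (Spec (CommRingCat.of k))) ⟶ Over.mk (Spec.map (CommRingCat.ofHom (algebraMap k T))),
        e.left = Spec.map (CommRingCat.ofHom φ.toRingHom) → (C (idx q)).Coord p M (e ≫ ν) := by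
    intro q
    let Th := Localization.Away (h q)
    let jh : Spec (CommRingCat.of Th) ⟶ Spec (CommRingCat.of T) :=
      Spec.map (CommRingCat.ofHom (algebraMap T Th))
    have hrange : Set.range (jh ≫ ν.left) ⊆ Set.range (C (idx q)).j := by
      rintro _ ⟨z, rfl⟩
      refine hsub q (jh z) ?_
      intro hz
      exact z.2.ne_top (Ideal.eq_top_of_isUnit_mem z.asIdeal hz
        (IsLocalization.Away.algebraMap_isUnit (h q)))
    obtain ⟨f, hf⟩ := Spec.map_surjective (IsOpenImmersion.lift (C (idx q)).j (jh ≫ ν.left) hrange)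
    have hfν : Spec.map f ≫ (C (idx q)).j = jh ≫ ν.left := by rw [hf, IsOpenImmersion.lift_fac]
    obtain ⟨ρ, hρ⟩ := alg_of_comp (C (idx q)).j (C (idx q)).hj f (by
      rw [hfν, Category.assoc, Over.w ν]
      change Spec.map _ ≫ Spec.map _ = _
      rw [← Spec.map_comp]
      rfl)
    have hg : ∀ g : (C (idx q)).gens, ∃ (n : ℕ) (t : T), ρ g * algebraMap T Th (h q) ^ n = algebraMap T Th t :=
      fun g => IsLocalization.Away.surj (h q) (ρ g)
    choose n t hnt using hg
    obtain ⟨N0, hN0, hP0⟩ := ctl p halg G hG (h q)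
    obtain ⟨N1, hN1, hP1⟩ := common
      (P := fun (g : (C (idx q)).gens) N => ∀ M, N ∣ M → ∀ φ : T →ₐ[k] k,
        (∀ g ∈ G, φ g ∈ Fix p M) → φ (t g) ∈ Fix p M)
      (fun _ _ _ hd hP M hM => hP M (hd.trans hM)) (fun g => ctl p halg G hG (t g))
    refine ⟨N0 * N1, Nat.mul_pos hN0 hN1, fun M hM φ hφ hne e he => ?_⟩
    let ψ : Th →ₐ[k] k := IsLocalization.liftAlgHom (M := Submonoid.powers (h q)) (f := φ) (by
      rintro ⟨_, m, rfl⟩
      rw [map_pow]
      exact (hne.isUnit).pow m)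
    have hψ : ∀ x, ψ (algebraMap T Th x) = φ x := fun x => by
      simp [ψ, IsLocalization.liftAlgHom_apply]
    refine ⟨ψ.comp ρ, ?_, fun g hgm => ?_⟩
    · rw [Over.comp_left, he]
      have e1 : Spec.map (CommRingCat.ofHom (ψ.comp ρ).toRingHom) =
          Spec.map (CommRingCat.ofHom ψ.toRingHom) ≫ Spec.map f := by
        rw [← Spec.map_comp]
        congr 1
        ext x
        show ψ (ρ x) = ψ (f.hom x)
        rw [← hρ]; rfl
      have e2 : Spec.map (CommRingCat.ofHom φ.toRingHom) =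
          Spec.map (CommRingCat.ofHom ψ.toRingHom) ≫ jh := by
        rw [← Spec.map_comp]
        congr 1
        ext x
        exact (hψ x).symm
      rw [e1, e2, Category.assoc, Category.assoc, hfν]
    · have h1 := congrArg ψ (hnt ⟨g, hgm⟩)
      rw [map_mul, map_pow, hψ, hψ] at h1
      have h0 := hP0 M (dvd_of_mul_right_dvd hM) φ hφ
      have ht := hP1 ⟨g, hgm⟩ M (dvd_of_mul_left_dvd hM) φ hφ
      show ψ (ρ g) ^ _ = ψ (ρ g)
      have hne' : φ (h q) ^ n ⟨g, hgm⟩ ≠ 0 := pow_ne_zero _ hne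
      rw [eq_div_iff hne' |>.mpr h1, div_pow, ht, ← pow_mul, mul_comm, pow_mul, h0]
  obtain ⟨N, hN, hP⟩ := common (fun _ _ _ hd hP M hM => hP M (hd.trans hM)) key
  refine ⟨N, hN, fun M hM φ hφ e he => ?_⟩
  have hker : (RingHom.ker φ.toRingHom).IsPrime := RingHom.ker_isPrime _
  obtain ⟨q, hqs, hq⟩ := Set.mem_iUnion₂.mp (hs (Set.mem_univ (⟨RingHom.ker φ.toRingHom, hker⟩ : PrimeSpectrum T)))
  exact ⟨idx q, hP ⟨q, hqs⟩ M hM φ hφ (fun h0 => hq (RingHom.mem_ker.mpr h0)) e he⟩

lemma coord_mul (halg : ∀ x : k, ∃ n : ℕ, 0 < n ∧ x ^ (p ^ n) = x) {κ : Type*} [Finite κ]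
    (C : κ → Chart A) (hC : ∀ x : A.left, ∃ i, x ∈ Set.range (C i).j) [GrpObj A] (i₁ i₂ : κ) :
    ∃ N, 0 < N ∧ ∀ M, N ∣ M → ∀ a b, (C i₁).Coord p M a → (C i₂).Coord p M b →
      ∃ i, (C i).Coord p M (a * b) := by
  classical
  let T := (C i₁).B ⊗[k] (C i₂).B
  let l : (C i₁).B →ₐ[k] T := Algebra.TensorProduct.includeLeft
  let r : (C i₂).B →ₐ[k] T := Algebra.TensorProduct.includeRight
  let W := Over.mk (Spec.map (CommRingCat.ofHom (algebraMap k T)))
  let f₁ : W ⟶ A := Over.homMk (Spec.map (CommRingCat.ofHom l.toRingHom) ≫ (C i₁).j) (by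
    rw [Category.assoc, (C i₁).hj, ← Spec.map_comp, ← CommRingCat.ofHom_comp]
    exact congrArg (fun q => Spec.map (CommRingCat.ofHom q)) (RingHom.ext fun c => l.commutes c))
  let f₂ : W ⟶ A := Over.homMk (Spec.map (CommRingCat.ofHom r.toRingHom) ≫ (C i₂).j) (by
    rw [Category.assoc, (C i₂).hj, ← Spec.map_comp, ← CommRingCat.ofHom_comp]
    exact congrArg (fun q => Spec.map (CommRingCat.ofHom q)) (RingHom.ext fun c => r.commutes c))
  let G : Set T := l '' (C i₁).gens ∪ r '' (C i₂).gens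
  have hG : Algebra.adjoin k G = ⊤ := by
    rw [eq_top_iff]
    intro z _
    induction z using TensorProduct.induction_on with
    | zero => exact zero_mem _
    | tmul x y =>
      rw [show x ⊗ₜ[k] y = l x * r y from
        ((Algebra.TensorProduct.tmul_mul_tmul x 1 1 y).trans (by rw [_root_.mul_one, _root_.one_mul])).symm]
      refine mul_mem ?_ ?_
      · have : l x ∈ (Algebra.adjoin k ((C i₁).gens : Set (C i₁).B)).map l :=
          ⟨x, by rw [(C i₁).hgens]; exact Algebra.mem_top, rfl⟩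
        rw [AlgHom.map_adjoin] at this
        exact Algebra.adjoin_mono Set.subset_union_left this
      · have : r y ∈ (Algebra.adjoin k ((C i₂).gens : Set (C i₂).B)).map r :=
          ⟨y, by rw [(C i₂).hgens]; exact Algebra.mem_top, rfl⟩
        rw [AlgHom.map_adjoin] at this
        exact Algebra.adjoin_mono Set.subset_union_right this
    | add x y hx hy => exact add_mem (hx trivial) (hy trivial)
  obtain ⟨N, hN, hP⟩ := coord_map p halg C hC G hG (f₁ * f₂)
  refine ⟨N, hN, fun M hM a b ⟨φ, ha, hφ⟩ ⟨ψ, hb, hψ⟩ => ?_⟩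
  let χ : T →ₐ[k] k := Algebra.TensorProduct.lift φ ψ fun x y => Commute.all (φ x) (ψ y)
  have hl : χ.comp l = φ := Algebra.TensorProduct.lift_comp_includeLeft φ ψ fun x y => Commute.all (φ x) (ψ y)
  have hr : χ.comp r = ψ := Algebra.TensorProduct.lift_comp_includeRight φ ψ fun x y => Commute.all (φ x) (ψ y)
  let e : 𝟙_ (Over (Spec (CommRingCat.of k))) ⟶ W :=
    Over.homMk (Spec.map (CommRingCat.ofHom χ.toRingHom)) (by
      change Spec.map _ ≫ Spec.map _ = _
      rw [← Spec.map_comp, ← CommRingCat.ofHom_comp]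
      exact (congrArg (fun q => Spec.map (CommRingCat.ofHom q))
        (RingHom.ext fun c => χ.commutes c)).trans (Spec.map_id _))
  have h1 : e ≫ f₁ = a := by
    apply Over.OverMorphism.ext
    rw [Over.comp_left, ha, ← hl]
    exact (Category.assoc _ _ _).symm.trans (congrArg (· ≫ (C i₁).j) (Spec.map_comp _ _).symm)
  have h2 : e ≫ f₂ = b := by
    apply Over.OverMorphism.ext
    rw [Over.comp_left, hb, ← hr]
    exact (Category.assoc _ _ _).symm.trans (congrArg (· ≫ (C i₂).j) (Spec.map_comp _ _).symm)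
  obtain ⟨i, hi⟩ := hP M hM χ (by
    rintro _ (⟨x, hx, rfl⟩ | ⟨x, hx, rfl⟩)
    · rw [← AlgHom.comp_apply, hl]; exact hφ x hx
    · rw [← AlgHom.comp_apply, hr]; exact hψ x hx) e rfl
  exact ⟨i, by rwa [MonObj.comp_mul, h1, h2] at hi⟩

end Aux


/-- Let k be an algebraically closed field of characteristic p > 0 which is algebraic over its prime
field (every element x satisfies x^(p^n) = x for some n ≥ 1) and let A be an abelian variety over k
(a proper, geometrically integral group scheme over k). Then every k-rational point of A has finite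
order in the group A(k) of k-points. -/
theorem result
    (p : ℕ) [Fact (Nat.Prime p)] (k : Type u) [Field k] [IsAlgClosed k] [CharP k p]
    (halg : ∀ x : k, ∃ n : ℕ, 0 < n ∧ x ^ (p ^ n) = x)
    (A : Over (Spec (CommRingCat.of k))) [GrpObj A] [IsProper A.hom] [GeometricallyIntegral A.hom]
    (a : 𝟙_ (Over (Spec (CommRingCat.of k))) ⟶ A) : IsOfFinOrder a := by
  classical
  haveI : CompactSpace A.left := QuasiCompact.compactSpace_of_compactSpace A.hom
  obtain ⟨s, hs⟩ := isCompact_univ.elim_finite_subcover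
    (fun U : A.left.affineOpens => ((U : A.left.Opens) : Set A.left)) (fun U => U.1.isOpen)
    (fun x _ => by
      obtain ⟨_, ⟨U, hU, rfl⟩, hxU, -⟩ :=
        A.left.isBasis_affineOpens.exists_subset_of_mem_open (Set.mem_univ x) isOpen_univ
      exact Set.mem_iUnion.mpr ⟨⟨U, hU⟩, hxU⟩)
  have hex : ∀ U : s, ∃ C : Chart A, Set.range C.j = ((U.1.1 : A.left.Opens) : Set A.left) :=
    fun U => chart_exists U.1.1 U.1.2
  choose C hC using hex
  have hcov : ∀ x : A.left, ∃ i, x ∈ Set.range (C i).j := by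
    intro x
    obtain ⟨U, hU, hx⟩ := Set.mem_iUnion₂.mp (hs (Set.mem_univ x))
    exact ⟨⟨U, hU⟩, by rw [hC]; exact hx⟩
  obtain ⟨N, hN, hmul⟩ := common (κ := s × s)
    (fun _ _ _ hd hP M hM => hP M (hd.trans hM)) (fun ij => coord_mul p halg C hcov ij.1 ij.2)
  let x₀ : A.left := a.left (IsLocalRing.closedPoint k)
  obtain ⟨i₀, hi₀⟩ := hcov x₀
  obtain ⟨N', hN', ha⟩ := coord_exists p halg (C i₀) a (by
    rintro _ ⟨y, rfl⟩
    haveI : Subsingleton (PrimeSpectrum k) := inferInstance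
    rwa [show y = IsLocalRing.closedPoint k from Subsingleton.elim (α := PrimeSpectrum k) _ _])
  let M := N' * N
  let S := {b : 𝟙_ (Over (Spec (CommRingCat.of k))) ⟶ A | ∃ i, (C i).Coord p M b}
  have hSfin : S.Finite := by
    have : S = ⋃ i, {b | (C i).Coord p M b} := by ext b; simp [S]
    rw [this]
    exact Set.finite_iUnion fun i => coord_finite p (C i) (Nat.mul_pos hN' hN)
  have haS : a ∈ S := ⟨i₀, coord_mono p (C i₀) (dvd_mul_right N' N) ha⟩
  have hpow : ∀ n : ℕ, a ^ (n + 1) ∈ S := by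
    intro n
    induction n with
    | zero => simpa using haS
    | succ n ih =>
      obtain ⟨i, hi⟩ := ih
      obtain ⟨j, hj⟩ := haS
      rw [pow_succ]
      exact hmul (i, j) M (dvd_mul_left N N') _ _ hi hj
  rw [← not_not (a := IsOfFinOrder a), ← injective_pow_iff_not_isOfFinOrder]
  intro hinj
  haveI := hSfin.to_subtype
  exact not_injective_infinite_finite (fun n : ℕ => (⟨a ^ (n + 1), hpow n⟩ : S))
    fun m n h => Nat.succ_injective (hinj (congrArg Subtype.val h))

end Groth.Agent.S14816
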