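import Groth.Statements.S14818
import Groth.Agent.Lib.NormTriv12.Basic
-- import your own Groth.Agent.* helpers here

set_option autoImplicit false
set_option backward.isDefEq.respectTransparency false
universe u
open CategoryTheory CategoryTheory.Limits AlgebraicGeometry
open PicF

namespace Groth.Agent.S14818

/-- Let X be a connected locally Noetherian scheme, f : X' → X a finite locally free morphism of
constant degree d (a finite flat covering of X of degree d) and L an invertible O_X-module whose
pullback f^*L is isomorphic to O_{X'}. Then L^{⊗d} ≅ O_X; in particular L has finite order in Pic(X)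
dividing the degree of f. -/
theorem result (X X' : Scheme.{u})
    [IsLocallyNoetherian X] [ConnectedSpace X] (f : X' ⟶ X) (d : ℕ) (hf : Mor2.IsFinLocFreeOfDeg d f)
    (L : X.Modules) (hL : PicF.IsInvertible L)
    (htriv : Nonempty ((Scheme.Modules.pullback f).obj L ≅ Coh.structureModule X')) :
    Nonempty (CohB1.tensorPow L d ≅ Coh.structureModule X) := by
  obtain ⟨e⟩ := htriv
  exact Groth.Agent.NormTriv12.tensorPow_trivial f hf hL e

end Groth.Agent.S14818
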