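import Groth.Statements.S14819
import Groth.Agent.Lib.PthRootDesc13.Basic
import Groth.Agent.Lib.PicThick4.Main
import Groth.Agent.Lib.TensorMod.PullTensor
import Groth.Agent.Lib.TensorMod.Invertible
import Groth.Agent.Lib.Snapper.Positive
import Groth.Agent.Lib.VeryAmple11.Crit
import Mathlib.AlgebraicGeometry.Morphisms.UniversallyOpen
import Mathlib.Algebra.CharP.Lemmas
set_option linter.style.haveILetI false
set_option backward.isDefEq.respectTransparency false
set_option backward.isDefEq.respectTransparency.types false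

set_option autoImplicit false
universe u
open CategoryTheory CategoryTheory.Limits AlgebraicGeometry
open PicF

namespace Groth.Agent.S14819


theorem eq_one_of_pow_prime_eq_one {R : Type u} [CommRing R] [_root_.IsReduced R] (p : ℕ) (hp : p.Prime)
    (h0 : (p : R) = 0) (a : R) (ha : a ^ p = 1) : a = 1 := by
  obtain ⟨c, hc⟩ := exists_add_pow_prime_eq hp (a - 1) (1 : R)
  rw [sub_add_cancel, ha, one_pow, h0, zero_mul, zero_mul, zero_mul, add_zero] at hc
  exact sub_eq_zero.mp (IsReduced.eq_zero _ ⟨p, left_eq_add.mp (by rw [add_comm]; exact hc)⟩)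

open Groth.Agent in
theorem key {X X' : Scheme.{u}} [IsIntegral X] (hnorm : ∀ x : X, IsIntegrallyClosed (X.presheaf.stalk x))
    (p : ℕ) [Fact p.Prime] [CharP (Γ(X, ⊤) : Type u) p]
    (hroot : ∀ u : (Γ(X', ⊤) : Type u), IsUnit u → ∃ v : (Γ(X', ⊤) : Type u), v ^ p = u)
    (f : X' ⟶ X) [FormallyUnramified f] [LocallyOfFiniteType f] (x' : X') (hx' : f x' = genericPoint X)
    (L : X.Modules) (hL : PicF.IsInvertible L) (φ : CohB1.tensorPow L p ≅ Coh.structureModule X)
    (ψ : (Scheme.Modules.pullback f).obj L ≅ Coh.structureModule X') :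
    Nonempty (L ≅ Coh.structureModule X) := by
  classical
  have hp : p.Prime := Fact.out
  have hex : ∀ x : X, ∃ (D : X.Opens) (e : Γ(L, D)), x ∈ D ∧ Twist.IsGen L D e := by
    intro x
    obtain ⟨U, e, hxU, -, -, he⟩ := Amp.exists_isGenerator hL (V := ⊤) (x := x) trivial
    exact ⟨U, e, hxU, he⟩
  choose D e hxD he using hex
  have hcov : ⨆ x, D x = ⊤ := top_le_iff.1 fun x _ => TopologicalSpace.Opens.mem_iSup.2 ⟨x, hxD x⟩
  choose g hg using fun x y => (he x (D x ⊓ D y) inf_le_left).2 (M1.mres L inf_le_right (e y))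
  simp only at hg
  let σ : Γ(CohB1.tensorPow L p, ⊤) := φ.inv.app ⊤ (M1.one ⊤)
  have hpw : ∀ x, Twist.IsGen (CohB1.tensorPow L p) (D x) (Amp.pw (e x) p) := fun x =>
    Twist.isGen_of_stalk fun _ hz => Amp.gen_pw hL hz (e x) p ((he x).stalk hz)
  choose s hs using fun x => (hpw x _ le_rfl).2 (M1.mres _ (le_top : D x ≤ ⊤) σ)
  simp only [M1.mres_id] at hs
  have hsu : ∀ x, IsUnit (s x) := by
    intro x
    have hone : φ.inv.app (D x) (M1.one _) = s x • Amp.pw (e x) p := by
      rw [hs x, ← M1.mres_one (le_top : D x ≤ ⊤)]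
      exact M1.app_mres φ.inv _ _
    obtain ⟨r, hr⟩ : ∃ r : Γ(X, D x),
        (show Γ(Coh.structureModule X, D x) from r) = φ.hom.app _ (Amp.pw (e x) p) := ⟨_, rfl⟩
    have h2 := congrArg (φ.hom.app (D x)) hone
    rw [Scheme.Modules.Hom.app_smul, ← hr] at h2
    have h3 : φ.hom.app (D x) (φ.inv.app (D x) (M1.one _)) = M1.one _ := by
      rw [← ConcreteCategory.comp_apply, ← Scheme.Modules.Hom.comp_app, φ.inv_hom_id]
      rfl
    rw [h3] at h2
    exact IsUnit.of_mul_eq_one _ h2.symm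
  have hsc : ∀ x y, PicThick4.rs (inf_le_left : D x ⊓ D y ≤ D x) (s x) =
      g x y ^ p * PicThick4.rs (inf_le_right : D x ⊓ D y ≤ D y) (s y) := by
    intro x y
    refine (hpw x _ inf_le_left).1 ?_
    show PicThick4.rs _ (s x) • M1.mres _ inf_le_left (Amp.pw (e x) p) =
      (g x y ^ p * PicThick4.rs _ (s y)) • M1.mres _ inf_le_left (Amp.pw (e x) p)
    have hx := congrArg (M1.mres _ (inf_le_left : D x ⊓ D y ≤ D x)) (hs x)
    have hy := congrArg (M1.mres _ (inf_le_right : D x ⊓ D y ≤ D y)) (hs y)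
    rw [M1.mres_smul, M1.mres_mres] at hx hy
    rw [mul_comm, mul_smul]
    refine hx.trans (hy.symm.trans ?_)
    congr 1
    refine (Amp.res_pw _ (e y) p).trans ?_
    show Amp.pw (M1.mres L _ (e y)) p = _
    rw [← hg x y, Amp.pw_smul]
    exact congrArg (g x y ^ p • ·) (Amp.res_pw _ (e x) p).symm
  -- upstairs
  have hwex : ∀ x, ∃ w : Γ(X', f ⁻¹ᵁ D x), (show Γ(Coh.structureModule X', f ⁻¹ᵁ D x) from w) =
      ψ.hom.app _ (M2.pullSec f L (e x)) := fun x => ⟨_, rfl⟩
  choose w hw using hwex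
  have hwu : ∀ x, IsUnit (w x) := by
    intro x
    obtain ⟨t, ht⟩ := ((he x).pullback f _ le_rfl).2 (ψ.inv.app _ (M1.one (f ⁻¹ᵁ D x)))
    simp only [M1.mres_id] at ht
    have h2 := congrArg (ψ.hom.app (f ⁻¹ᵁ D x)) ht
    rw [Scheme.Modules.Hom.app_smul, ← hw x] at h2
    have h3 : ψ.hom.app (f ⁻¹ᵁ D x) (ψ.inv.app (f ⁻¹ᵁ D x) (M1.one _)) = M1.one _ := by
      rw [← ConcreteCategory.comp_apply, ← Scheme.Modules.Hom.comp_app, ψ.inv_hom_id]
      rfl
    rw [h3] at h2
    refine IsUnit.of_mul_eq_one t ?_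
    rw [mul_comm]
    exact h2
  have hwc : ∀ x y, PicThick4.rs (f.preimage_mono (inf_le_right : D x ⊓ D y ≤ D y)) (w y) =
      f.app _ (g x y) * PicThick4.rs (f.preimage_mono (inf_le_left : D x ⊓ D y ≤ D x)) (w x) := by
    intro x y
    have key : ∀ {U W : X.Opens} (h : W ≤ U) (r : Γ(L, U)),
        M1.mres ((Scheme.Modules.pullback f).obj L) (f.preimage_mono h) (M2.pullSec f L r) =
          M2.pullSec f L (M1.mres L h r) := fun h r =>
      (M1.app_mres ((Scheme.Modules.pullbackPushforwardAdjunction f).unit.app L) h r).symm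
    have h1 := congrArg (ψ.hom.app _) (congrArg (M2.pullSec f L) (hg x y))
    rw [M2.pullSec_smul, Scheme.Modules.Hom.app_smul, ← key, ← key] at h1
    erw [M1.app_mres ψ.hom, M1.app_mres ψ.hom, ← hw x, ← hw y] at h1
    exact h1.symm
  let c : ∀ x, Γ(X', f ⁻¹ᵁ D x) := fun x => f.app _ (s x) * w x ^ p
  obtain ⟨C, hC, -⟩ := X'.sheaf.existsUnique_gluing' (fun x => f ⁻¹ᵁ D x) ⊤ (fun x => homOfLE le_top)
    (by rw [← Scheme.Hom.preimage_iSup, hcov, Scheme.Hom.preimage_top]) c (by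
      intro x y
      show PicThick4.rs (f.preimage_mono (inf_le_left : D x ⊓ D y ≤ D x)) (c x) =
        PicThick4.rs (f.preimage_mono (inf_le_right : D x ⊓ D y ≤ D y)) (c y)
      simp only [c, map_mul, map_pow]
      have e1 := congrArg (f.app (D x ⊓ D y)) (hsc x y)
      rw [map_mul, map_pow] at e1
      erw [PicThick4.app_rs, PicThick4.app_rs] at e1
      erw [e1, hwc x y]
      rw [mul_pow]
      ring)
  have hCu : IsUnit C := by
    refine X'.toRingedSpace.isUnit_of_isUnit_germ ⊤ C fun z hz => ?_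
    obtain ⟨x, hx⟩ := TopologicalSpace.Opens.mem_iSup.1
      (hcov.ge (show f z ∈ (⊤ : X.Opens) from trivial))
    erw [← X'.presheaf.germ_res_apply (homOfLE (le_top : f ⁻¹ᵁ D x ≤ ⊤)) z hx C]
    refine IsUnit.map _ ?_
    have h1 : IsUnit (c x) := ((hsu x).map _).mul ((hwu x).pow p)
    erw [hC x]
    exact h1
  obtain ⟨v, hv⟩ := hroot C hCu
  have hrootD : ∀ x, ∃ r : Γ(X, D x), r ^ p = s x := by
    intro x
    haveI : Nonempty (D x) := ⟨⟨x, hxD x⟩⟩
    obtain ⟨wi, hwi⟩ := (hwu x).exists_right_inv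
    refine PthRootDesc13.exists_pow_eq hnorm p f x' hx' (D x) (s x)
      (PicThick4.rs (le_top : f ⁻¹ᵁ D x ≤ ⊤) v * wi) ?_
    have h1 : PicThick4.rs (le_top : f ⁻¹ᵁ D x ≤ ⊤) C = c x := hC x
    rw [mul_pow, ← map_pow, hv, h1]
    simp only [c]
    rw [mul_assoc, ← mul_pow, hwi, one_pow, mul_one]
  choose r hr using hrootD
  have hru : ∀ x, IsUnit (r x) := fun x => (isUnit_pow_iff hp.ne_zero).1 (by rw [hr]; exact hsu x)
  have hp0 : ∀ V : X.Opens, (p : Γ(X, V)) = 0 := fun V => by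
    rw [← map_natCast (PicThick4.rs (le_top : V ≤ ⊤)) p, CharP.cast_eq_zero, map_zero]
  have hq : ∀ x, Twist.IsGen (Coh.structureModule X) (D x) (M1.one (X := X) (D x)) := fun x => by
    simpa using PicThick4.isGen_unit_smul (D x) 1 isUnit_one
  have hP : ∀ x, Twist.IsGen L (D x) (r x • e x) := fun x => VA11.isGen_smul_unit (he x) (hru x)
  refine ⟨(Twist.exists_iso_of_gen D hcov (fun x => r x • e x) (fun x => M1.one (X := X) (D x)) hP hq ?_).choose⟩
  intro x y V hx hy t ht
  show M1.mres _ hy (M1.one (D y)) = t • M1.mres _ hx (M1.one (D x))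
  have hpw1 : ∀ z (hz : V ≤ D z), M1.mres _ hz (Amp.pw (r z • e z) p) = M1.mres _ (le_top : V ≤ ⊤) σ :=
    fun z hz => by rw [Amp.pw_smul, hr, hs, M1.mres_mres]
  have ht' : t ^ p = 1 := by
    refine ((hpw x V hx).1 (a₁ := t ^ p * PicThick4.rs hx (s x)) (a₂ := PicThick4.rs hx (s x)) ?_) |>
      fun h => ((hsu x).map (PicThick4.rs hx)).mul_eq_right.1 h
    show (_ * _) • M1.mres _ hx (Amp.pw (e x) p) = _ • M1.mres _ hx (Amp.pw (e x) p)
    rw [mul_smul, ← M1.mres_smul, hs, M1.mres_mres]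
    refine Eq.trans ?_ (hpw1 y hy)
    refine Eq.trans ?_ (Amp.res_pw hy (r y • e y) p).symm
    show _ = Amp.pw (M1.mres L hy (r y • e y)) p
    rw [ht, Amp.pw_smul]
    refine congrArg (t ^ p • ·) ?_
    exact ((hpw1 x hx).symm.trans (Amp.res_pw hx (r x • e x) p))
  rw [eq_one_of_pow_prime_eq_one p hp (hp0 V) t ht', one_smul, M1.mres_one, M1.mres_one]

/-- Let X be an integral Noetherian scheme which is normal (all local rings integrally closed domains)
and whose ring of global functions Γ(X, O_X) is a field of characteristic p > 0; let L be an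
invertible O_X-module of exact order d in Pic(X), i.e. L^{⊗d} ≅ O_X with d ≥ 1 and L^{⊗i} not
isomorphic to O_X for 0 < i < d, and suppose p divides d. Let X' be a connected scheme such that
every unit of Γ(X', O_{X'}) has a p-th root. Then no finite étale morphism f : X' → X (a finite
étale covering of X by X') satisfies f^*L ≅ O_{X'}. -/
theorem result (X X' : Scheme.{u})
    [IsIntegral X] [IsNoetherian X] (hnorm : Pi1.IsNormalScheme X)
    (hfield : IsField (Γ(X, ⊤) : Type u)) (p : ℕ) [Fact (Nat.Prime p)] [CharP (Γ(X, ⊤) : Type u) p]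
    (L : X.Modules) (hL : PicF.IsInvertible L) (d : ℕ) (hd : 0 < d)
    (hord : Nonempty (CohB1.tensorPow L d ≅ Coh.structureModule X))
    (hmin : ∀ i : ℕ, 0 < i → i < d → IsEmpty (CohB1.tensorPow L i ≅ Coh.structureModule X))
    (hpd : p ∣ d) [ConnectedSpace X']
    (hroot : ∀ u : (Γ(X', ⊤) : Type u), IsUnit u → ∃ v : (Γ(X', ⊤) : Type u), v ^ p = u)
    (f : X' ⟶ X) [IsFinite f] [Etale f] :
    IsEmpty ((Scheme.Modules.pullback f).obj L ≅ Coh.structureModule X') := by
  obtain ⟨q, rfl⟩ := hpd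
  have hq0 : 0 < q := by
    rcases q with _ | q
    · simp at hd
    · exact q.succ_pos
  refine ⟨fun ψ => ?_⟩
  obtain ⟨x', hx'⟩ : ∃ x' : X', f x' = genericPoint X := by
    have h1 : IsClopen (Set.range f) := ⟨f.isClosedMap.isClosed_range, f.isOpenMap.isOpen_range⟩
    exact (h1.eq_univ (Set.range_nonempty _)).ge (Set.mem_univ _)
  haveI : CharP (Γ(X, ⊤) : Type u) p := inferInstance
  have hL' : PicF.IsInvertible (CohB1.tensorPow L q) := Groth.Agent.Amp.isInvertible_tensorPow hL q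
  obtain ⟨hI⟩ := hord
  obtain ⟨τ⟩ := key (fun x => (hnorm x).2) p hroot f x' hx' (CohB1.tensorPow L q) hL'
    (Groth.Agent.M2.tensorPowPow L q p ≪≫ eqToIso (by rw [Nat.mul_comm]) ≪≫ hI)
    (Groth.Agent.M2.pullTensorPowIso f L q ≪≫ Groth.Agent.M2.tensorPowIso ψ q ≪≫
      (Groth.Agent.Snapper.nonempty_tensorPow_unit q).some)
  exact (hmin q hq0 (by
    have := (Fact.out : p.Prime).one_lt
    nlinarith)).false τ

end Groth.Agent.S14819
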