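import Groth.Statements.S1482
import Groth.Agent.Lib.Weight4.Points

set_option autoImplicit false
universe u
open FlatMor

namespace Groth.Agent.S1482

open AlgebraicGeometry CategoryTheory Limits in
/-- Let f : X → S be locally of finite type, s a point of S and x_1, …, x_n pairwise distinct points
over s at which f is quasi-finite. Then there are an étale morphism g : U → S with a point u over s
and, for each i, finitely many opens V_{i,j} of X_U = X ×_S U, each finite over U and containing
exactly one point v_{i,j} over u, with κ(v_{i,j}) finite purely inseparable over κ(u), the v_{i,j}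
pairwise distinct, v_{i,j} mapping to x_i, and every point of X_U over u mapping to some x_i equal
to one of the v_{i,j}. -/
theorem result {X S : Scheme.{u}} (f : X ⟶ S) [LocallyOfFiniteType f] (s : S) {ι : Type} [Finite ι]
    (x : ι → ↑X) (hinj : Function.Injective x) (hs : ∀ i, f (x i) = s) (hx : ∀ i, f.QuasiFiniteAt (x i)) :
    ∃ (U : Scheme.{u}) (g : U ⟶ S) (u : U), Etale g ∧ g u = s ∧
      ∃ (J : ι → Type) (_ : ∀ i, Finite (J i)) (V : ∀ i, J i → (pullback f g).Opens) (v : ∀ i, J i → ↑(pullback f g)),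
        (∀ i j, v i j ∈ V i j ∧ IsFinite ((V i j).ι ≫ pullback.snd f g) ∧ pullback.snd f g (v i j) = u ∧
          (∀ w : ↑(pullback f g), w ∈ V i j → pullback.snd f g w = u → w = v i j) ∧
          (letI := ((pullback.snd f g).residueFieldMap (v i j)).hom.toAlgebra
           Module.Finite ↑(U.residueField (pullback.snd f g (v i j))) ↑((pullback f g).residueField (v i j)) ∧
           IsPurelyInseparable ↑(U.residueField (pullback.snd f g (v i j))) ↑((pullback f g).residueField (v i j))) ∧
          pullback.fst f g (v i j) = x i) ∧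
        (∀ i j i' j', v i j = v i' j' → i = i' ∧ HEq j j') ∧
        (∀ (w : ↑(pullback f g)) (i : ι), pullback.snd f g w = u → pullback.fst f g w = x i → ∃ j, w = v i j) := by
  classical
  obtain ⟨Ω, _, _, t, n, a, U, g, ū, W, ht, hainj, hapt, hall, hg, hū, hfin, huniq⟩ :=
    Groth.Agent.Weight.exists_split_points f s x hinj hs hx
  haveI := hfin
  choose v hvW hvu hvx hvuniq hvc hvres using fun l => Groth.Agent.Weight.piece_props (f := f) (huniq l)
  refine ⟨U, g, Groth.Agent.Weight.pt ū, hg, by rw [← Groth.Agent.Weight.pt_comp, hū, ht],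
    fun i => Fin (n i), fun i => inferInstance, fun i j => W ⟨i, j⟩, fun i j => v ⟨i, j⟩,
    fun i j => ⟨hvW _, hfin _, hvu _, hvuniq _, hvres _, (hvx _).trans (hapt _)⟩, ?_, ?_⟩
  · intro i j i' j' h
    have h1 : (⟨i, j⟩ : Σ i, Fin (n i)) = ⟨i', j'⟩ := by
      obtain ⟨b, hb, hbv⟩ := Groth.Agent.Weight.exists_inLift_of_mem (IsPullback.of_hasPullback f g)
        (W ⟨i, j⟩) ū (v ⟨i, j⟩) (hvW _) (hvu _)
      have hb' : Groth.Agent.Weight.InLift (IsPullback.of_hasPullback f g) (W ⟨i', j'⟩) ū b :=
        ⟨hb.1, by rw [hbv hb.1, show v ⟨i, j⟩ = v ⟨i', j'⟩ from h]; exact hvW _⟩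
      exact hainj (((huniq _ b).1 hb).symm.trans ((huniq _ b).1 hb'))
    exact ⟨(Sigma.mk.inj_iff.1 h1).1, (Sigma.mk.inj_iff.1 h1).2⟩
  · intro w i hwu hwx
    obtain ⟨c, hc, hcw⟩ := Groth.Agent.Weight.exists_lift_of_eq (pullback.snd f g) w
      (Groth.Agent.Weight.quasiFiniteAt_pullback_snd f g w (by rw [hwx]; exact hx i)) ū hwu
    obtain ⟨⟨i', j⟩, hl, rfl⟩ := hall i (c ≫ pullback.fst f g)
      (by rw [Category.assoc, pullback.condition, ← Category.assoc, hc, hū])
      (by rw [Groth.Agent.Weight.pt_comp, hcw, hwx])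
    exact ⟨j, by rw [← hcw]; exact hvc _ c hc hl.symm⟩

end Groth.Agent.S1482
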