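import Groth.Statements.S14821
import Groth.Agent.Lib.Fibration13.Basic

set_option autoImplicit false
universe u
open CategoryTheory CategoryTheory.Limits AlgebraicGeometry
open CohIII

set_option backward.isDefEq.respectTransparency false
set_option backward.isDefEq.respectTransparency.types false

namespace Groth.Agent.S14821

/-- Let k be a field and f : X → Y a surjective k-morphism between integral proper k-schemes which are
both normal (all local rings integrally closed domains). Then f is a fibration, i.e. O_Y → f_*O_X is
an isomorphism (Γ(U, O_Y) → Γ(f⁻¹U, O_X) is bijective for every open U ⊆ Y), exactly when K(Y) is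
algebraically closed inside K(X): every element of the function field of X which is integral over
the function field of Y, embedded through the stalk map of f at the generic points, lies in the
image of K(Y). (The published statement assumes only Y normal; without normality of X the forward
implication fails — for a quadratic field extension k ⊂ k', the projective line over k' with one
k'-rational point pinched to a k-rational point, mapped to Spec k, has ring of global functions k
although k is not algebraically closed in its function field k'(t) — and the published proof
resolves the indeterminacy of a rational map on the generic fibre by a graph whose projection is a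
fibration, which needs X normal; so this row assumes X normal as well. The reverse implication holds
without it.) -/
theorem result (k : Type u) [Field k]
    (X Y : Scheme.{u}) [X.Over (Spec (CommRingCat.of k))] [Y.Over (Spec (CommRingCat.of k))]
    [IsProper (X ↘ Spec (CommRingCat.of k))] [IsProper (Y ↘ Spec (CommRingCat.of k))] [IsIntegral X] [IsIntegral Y]
    (hX : Pi1.IsNormalScheme X) (hY : Pi1.IsNormalScheme Y) (f : X ⟶ Y) [Surjective f] (hf : f ≫ (Y ↘ Spec (CommRingCat.of k)) = X ↘ Spec (CommRingCat.of k))
    (h : f.base (genericPoint ↥X) ⤳ genericPoint ↥Y) :
    (∀ U : Y.Opens, IsIso (f.app U)) ↔
      ∀ x : ↑X.functionField, (CohIII.stalkToFunctionField f (genericPoint ↥Y) h).IsIntegralElem x → x ∈ (CohIII.stalkToFunctionField f (genericPoint ↥Y) h).range := by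
  haveI : IsSeparated (Y ↘ Spec (CommRingCat.of k)) := inferInstance
  haveI : IsProper (f ≫ (Y ↘ Spec (CommRingCat.of k))) := by rw [hf]; infer_instance
  haveI : IsProper f := IsProper.of_comp f (Y ↘ Spec (CommRingCat.of k))
  constructor
  · intro hU x hx
    exact Groth.Agent.Fibration13.algClosed_of_fibration f hX h hU x hx
  · intro hc U
    exact (ConcreteCategory.isIso_iff_bijective _).2
      (Groth.Agent.Fibration13.bijective_app_of_algClosed f hY h hc U)

end Groth.Agent.S14821
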