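import Groth.Statements.S14825
import Groth.Agent.Lib.AbRigid.HZero
import Groth.Agent.Lib.AbRigid.Hom
import Groth.Agent.Lib.AbRigid.Connected

set_option autoImplicit false
universe u
open CategoryTheory MonoidalCategory CartesianMonoidalCategory MonObj GrpObj AlgebraicGeometry
open AbVar

namespace Groth.Agent.S14825

open Groth.Agent.AbRigid

theorem eq_const_of_isIso_appTop {k : Type u} [Field k] {X Y : Scheme.{u}}
    (p : X ⟶ Spec (CommRingCat.of k)) (x : Spec (CommRingCat.of k) ⟶ X) (hx : x ≫ p = 𝟙 _) [IsIso p.appTop]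
    (f : X ⟶ Y) (hss : (Set.range f).Subsingleton) : f = p ≫ x ≫ f := by
  obtain ⟨U, hU, hxU, -⟩ := exists_isAffineOpen_mem_and_subset (X := Y)
    (x := f (x (IsLocalRing.closedPoint k))) (U := ⊤) trivial
  haveI : IsAffine (U : Scheme) := hU
  have hrange : Set.range f ⊆ Set.range U.ι := by
    rintro _ ⟨z, rfl⟩
    rw [Scheme.Opens.range_ι, hss ⟨z, rfl⟩ ⟨x (IsLocalRing.closedPoint k), rfl⟩]
    exact hxU
  let l : X ⟶ U := IsOpenImmersion.lift U.ι f hrange
  have h : p.appTop ≫ x.appTop = 𝟙 _ := by
    rw [← Scheme.Hom.comp_appTop, hx, Scheme.Hom.id_appTop]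
  have h3 : x.appTop ≫ p.appTop = 𝟙 _ := by
    rw [← cancel_epi p.appTop, reassoc_of% h, Category.comp_id]
  have hl : l = p ≫ x ≫ l := by
    refine ext_of_isAffine ?_
    rw [Scheme.Hom.comp_appTop, Scheme.Hom.comp_appTop, Category.assoc, h3, Category.comp_id]
  calc f = l ≫ U.ι := (IsOpenImmersion.lift_fac _ _ _).symm
    _ = (p ≫ x ≫ l) ≫ U.ι := by rw [← hl]
    _ = p ≫ x ≫ f := by simp [l]


/-- In the pointed case, let k be a field and X a proper k-scheme with H^0(X, O_X) one-dimensional and a
k-rational point x₀; let alb : X → A be the Albanese morphism (A an abelian variety over k — proper,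
geometrically integral group scheme — with alb(x₀) = 0, universal among pointed k-morphisms from X
to abelian varieties, the latter being geometrically reduced, connected, proper group schemes). Then
X has Albanese dimension zero, i.e. the image of alb is a single point of A (X is connected, so this
says the image is zero-dimensional), if and only if A is the trivial abelian variety, i.e. A → Spec
k is an isomorphism. (The published statement does not assume a rational point (it works with the
Albanese torsor); this row assumes one.) -/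
theorem result (k : Type u) [Field k] (X : Scheme.{u}) [X.Over (Spec (CommRingCat.of k))]
    [IsProper (X ↘ Spec (CommRingCat.of k))] (h0 : Module.finrank k (Coh.HH X (Coh.structureModule X) 0) = 1)
    (x₀ : 𝟙_ (Over (Spec (CommRingCat.of k))) ⟶ Over.mk (X ↘ Spec (CommRingCat.of k)))
    (A : Over (Spec (CommRingCat.of k))) [GrpObj A] [IsProper A.hom] [GeometricallyIntegral A.hom]
    (alb : Over.mk (X ↘ Spec (CommRingCat.of k)) ⟶ A) (halb : x₀ ≫ alb = η[A])
    (huniv : ∀ (B : Over (Spec (CommRingCat.of k))) [GrpObj B] [IsProper B.hom] [GeometricallyReduced B.hom] [ConnectedSpace ↥B.left]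
      (g : Over.mk (X ↘ Spec (CommRingCat.of k)) ⟶ B), x₀ ≫ g = η[B] → ∃! h : A ⟶ B, IsMonHom h ∧ alb ≫ h = g) :
    (Set.range alb.left.base).Subsingleton ↔ IsIso A.hom := by
  constructor
  · intro hss
    have hbij := bijective_appTop_of_finrank_hZero_eq_one k X h0
    haveI : IsIso (X ↘ Spec (CommRingCat.of k)).appTop := by
      haveI : IsIso ((Scheme.ΓSpecIso (CommRingCat.of k)).inv ≫ (X ↘ Spec (CommRingCat.of k)).appTop) := by
        rw [ConcreteCategory.isIso_iff_bijective]; exact hbij
      exact IsIso.of_isIso_comp_left (Scheme.ΓSpecIso (CommRingCat.of k)).inv _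
    have hc : alb.left = (X ↘ Spec (CommRingCat.of k)) ≫ (x₀ ≫ alb).left := by
      rw [Over.comp_left]
      exact eq_const_of_isIso_appTop (X ↘ Spec (CommRingCat.of k)) x₀.left (Over.w x₀) alb.left hss
    have halb' : alb = (1 : Over.mk (X ↘ Spec (CommRingCat.of k)) ⟶ A) := by
      ext1
      rw [hc, halb, Hom.one_def, Over.comp_left, Over.toUnit_left]
      rfl
    haveI : IsIntegral A.left := GeometricallyIntegral.isIntegral_of_subsingleton A.hom
    haveI : IsMonHom (1 : A ⟶ A) := isMonHom_of_one A A 1 (by
      rw [MonObj.comp_one, Hom.one_def, show toUnit (𝟙_ (Over (Spec (CommRingCat.of k)))) = 𝟙 _ from toUnit_unique _ _,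
        Category.id_comp])
    obtain ⟨h, -, huniq⟩ := huniv A alb halb
    have h1 : 𝟙 A = (1 : A ⟶ A) := (huniq _ ⟨inferInstance, Category.comp_id _⟩).trans
      (huniq _ ⟨inferInstance, by rw [MonObj.comp_one, halb']⟩).symm
    rw [Hom.one_def] at h1
    exact ⟨η[A].left, (congr(($h1).left)).symm, Over.w _⟩
  · intro hA
    intro a _ b _
    exact A.hom.homeomorph.injective (Subsingleton.elim _ _)

end Groth.Agent.S14825
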