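import Groth.Statements.S14828
import Groth.Agent.Lib.BC8.CartierAdj

set_option autoImplicit false
universe u
open CategoryTheory CategoryTheory.Limits AlgebraicGeometry
open Canon

namespace Groth.Agent.S14828


/-- Take any field k and a proper k-scheme X that is Cohen–Macaulay and equidimensional of dimension n
(the local ring at every closed point is Cohen–Macaulay of dimension n, and dim X = n), let (ω_X,
tr_X) be a dualizing sheaf of X in the sense that Hom(F, ω_X) → H^n(X, F)^∨, φ ↦ tr_X ∘ H^n(φ), is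
bijective for every quasi-coherent F, and let i : D → X be an effective Cartier divisor, i.e. a
closed subscheme whose ideal sheaf I is an invertible O_X-module, with O_X(D) an inverse of I. Then
(i) D is Cohen–Macaulay and every closed point of D has local ring of dimension n − 1, and (ii) for
every dualizing sheaf (ω_D, tr_D) of D in degree n − 1 there is an isomorphism ω_D ≅ (O_X(D) ⊗
ω_X)|_D (existence of an isomorphism; the canonical identification through Ext¹(O_D, ω_X) is not
constructed here). -/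
theorem result (k : Type u) [Field k]
    (X : Scheme.{u}) [X.Over (Spec (CommRingCat.of k))] [IsProper (X ↘ Spec (CommRingCat.of k))] (n : ℕ) (hn : topologicalKrullDim ↥X = n)
    (hCM : ∀ x : X, LocCoh.IsCohenMacaulayLocalRing (X.presheaf.stalk x))
    (heq : ∀ x : X, IsClosed ({x} : Set ↥X) → ringKrullDim (X.presheaf.stalk x) = n)
    (ωX : X.Modules) (trX : Coh.HH X ωX n →ₗ[k] k) (hωX : Canon.IsRDualOver k X n ωX trX)
    (D : Scheme.{u}) (i : D ⟶ X) [IsClosedImmersion i] (hI : PicF.IsInvertible (ClSub.idealMod i.ker))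
    (OD : X.Modules) (hOD : ClSub.IsInverseOf OD (ClSub.idealMod i.ker)) :
    letI : D.Over (Spec (CommRingCat.of k)) := ⟨i ≫ (X ↘ Spec (CommRingCat.of k))⟩
    (∀ d : D, LocCoh.IsCohenMacaulayLocalRing (D.presheaf.stalk d) ∧
        (IsClosed ({d} : Set ↥D) → ringKrullDim (D.presheaf.stalk d) = (n - 1 : ℕ))) ∧
      ∀ (ωD : D.Modules) (trD : Coh.HH D ωD (n - 1) →ₗ[k] k), Canon.IsRDualOver k D (n - 1) ωD trD →
        Nonempty (ωD ≅ (Scheme.Modules.pullback i).obj (CohB1.tensorMod OD ωX)) := by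
  letI : D.Over (Spec (CommRingCat.of k)) := ⟨i ≫ (X ↘ Spec (CommRingCat.of k))⟩
  haveI : IsLocallyNoetherian X := LocallyOfFiniteType.isLocallyNoetherian (X ↘ Spec (CommRingCat.of k))
  have h1 : ∀ d : D, LocCoh.IsCohenMacaulayLocalRing (D.presheaf.stalk d) ∧
      (IsClosed ({d} : Set ↥D) → ringKrullDim (D.presheaf.stalk d) = (n - 1 : ℕ) ∧ 1 ≤ n) := fun d => by
    obtain ⟨a, b⟩ := Groth.Agent.BC8.stalk_CM i hI d (hCM (i d))
    refine ⟨a, fun hd => ?_⟩
    have hx : IsClosed ({i d} : Set ↥X) := by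
      rw [← Set.image_singleton]; exact i.isClosedEmbedding.isClosedMap _ hd
    rw [heq _ hx] at b
    haveI := a
    have hne : (0 : WithBot ℕ∞) ≤ ringKrullDim (D.presheaf.stalk d) := ringKrullDim_nonneg_of_nontrivial
    generalize ringKrullDim (D.presheaf.stalk d) = r at b hne ⊢
    obtain ⟨t', rfl⟩ := WithBot.ne_bot_iff_exists.1 (fun e : r = ⊥ => by rw [e] at hne; exact absurd hne (by simp))
    have b' : t' + 1 = (n : ℕ∞) := by
      apply WithBot.coe_inj.1
      rw [WithBot.coe_add, WithBot.coe_one, b]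
      rfl
    cases t' using ENat.recTopCoe with
    | top => rw [top_add] at b'; exact absurd b'.symm (ENat.natCast_ne_top n)
    | coe t =>
      have h : t + 1 = n := by exact_mod_cast b'
      subst h
      exact ⟨rfl, by omega⟩
  refine ⟨fun d => ⟨(h1 d).1, fun hd => ((h1 d).2 hd).1⟩, fun ωD trD hωD => ?_⟩
  rcases isEmpty_or_nonempty D with hD | hD
  · have hz : ∀ C : D.Modules, IsZero C := fun C => Groth.Agent.DPerf.isZero_of_stalks fun x => isEmptyElim x
    exact ⟨(hz _).iso (hz _)⟩
  haveI : CompactSpace X := QuasiCompact.compactSpace_of_compactSpace (X ↘ Spec (CommRingCat.of k))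
  haveI : CompactSpace D := QuasiCompact.compactSpace_of_compactSpace i
  have hcl : ∀ y : D, ∃ c : D, IsClosed ({c} : Set D) ∧ c ≤ y := fun y => by
    obtain ⟨c, hc, hcl⟩ := (isClosed_closure (s := ({y} : Set D))).exists_closed_singleton ⟨y, subset_closure rfl⟩
    exact ⟨c, hcl, specializes_iff_mem_closure.mpr hc⟩
  obtain ⟨c₀, hc₀, -⟩ := hcl (Classical.arbitrary D)
  have hn1 : 1 ≤ n := ((h1 c₀).2 hc₀).2
  have hdimD : topologicalKrullDim D ≤ ((n - 1 : ℕ) : WithBot ℕ∞) := by
    rw [Groth.Agent.VarDim.scheme_dim_eq_iSup_height]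
    have hk : ∀ y : D, ((Order.coheight y : ℕ∞) : WithBot ℕ∞) ≤ ((n - 1 : ℕ) : WithBot ℕ∞) := fun y => by
      obtain ⟨c, hc, hcy⟩ := hcl y
      refine le_trans (WithBot.coe_le_coe.2 (Order.coheight_anti hcy)) ?_
      rw [← ringKrullDim_stalk_eq_coheight, ((h1 c).2 hc).1]
    refine le_trans (le_of_eq ?_) (iSup_le hk)
    rw [← Order.krullDim_eq_iSup_height, ← Order.krullDim_eq_iSup_coheight]
  exact Groth.Agent.BC8.nonempty_adjunction_formula k n hn hCM heq ωX (Groth.Agent.BC8.repr_of_isRDualOver hωX) i rfl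
    (n - 1) (by omega) hdimD hI OD hOD ωD (Groth.Agent.BC8.repr_of_isRDualOver hωD)


end Groth.Agent.S14828
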