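import Groth.Statements.S14830
import Groth.Agent.Lib.AbRigid.Hom
import Groth.Agent.Lib.AbRigid.Epi

set_option autoImplicit false
universe u
open CategoryTheory MonoidalCategory CartesianMonoidalCategory MonObj GrpObj AlgebraicGeometry
open AbVar

namespace Groth.Agent.S14830

/-- Let k be a field and X, Y proper, geometrically integral k-schemes with k-rational points x₀ and y₀.
Let albX : X → A and albY : Y → B be Albanese morphisms: A, B abelian varieties over k (proper,
geometrically integral group schemes), albX(x₀) = 0, albY(y₀) = 0, each universal among pointed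
k-morphisms into abelian varieties (geometrically reduced, connected, proper group schemes). Then
the product morphism albX × albY : X ×_k Y → A ×_k B is the Albanese morphism of X ×_k Y pointed at
(x₀, y₀): for every abelian variety C and every k-morphism g : X ×_k Y → C with g(x₀, y₀) = 0 there
is a unique homomorphism h : A ×_k B → C with (albX × albY) ≫ h = g. -/
theorem result (k : Type u) [Field k] (X Y : Scheme.{u}) [X.Over (Spec (CommRingCat.of k))] [Y.Over (Spec (CommRingCat.of k))]
    [IsProper (X ↘ Spec (CommRingCat.of k))] [IsProper (Y ↘ Spec (CommRingCat.of k))]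
    [GeometricallyIntegral (X ↘ Spec (CommRingCat.of k))] [GeometricallyIntegral (Y ↘ Spec (CommRingCat.of k))]
    (x₀ : 𝟙_ (Over (Spec (CommRingCat.of k))) ⟶ Over.mk (X ↘ Spec (CommRingCat.of k))) (y₀ : 𝟙_ (Over (Spec (CommRingCat.of k))) ⟶ Over.mk (Y ↘ Spec (CommRingCat.of k)))
    (A : Over (Spec (CommRingCat.of k))) [GrpObj A] [IsProper A.hom] [GeometricallyIntegral A.hom]
    (albX : Over.mk (X ↘ Spec (CommRingCat.of k)) ⟶ A) (halbX : x₀ ≫ albX = η[A])
    (hunivA : ∀ (C : Over (Spec (CommRingCat.of k))) [GrpObj C] [IsProper C.hom] [GeometricallyReduced C.hom] [ConnectedSpace ↥C.left]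
      (g : Over.mk (X ↘ Spec (CommRingCat.of k)) ⟶ C), x₀ ≫ g = η[C] → ∃! h : A ⟶ C, IsMonHom h ∧ albX ≫ h = g)
    (B : Over (Spec (CommRingCat.of k))) [GrpObj B] [IsProper B.hom] [GeometricallyIntegral B.hom]
    (albY : Over.mk (Y ↘ Spec (CommRingCat.of k)) ⟶ B) (halbY : y₀ ≫ albY = η[B])
    (hunivB : ∀ (C : Over (Spec (CommRingCat.of k))) [GrpObj C] [IsProper C.hom] [GeometricallyReduced C.hom] [ConnectedSpace ↥C.left]
      (g : Over.mk (Y ↘ Spec (CommRingCat.of k)) ⟶ C), y₀ ≫ g = η[C] → ∃! h : B ⟶ C, IsMonHom h ∧ albY ≫ h = g)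
    (C : Over (Spec (CommRingCat.of k))) [GrpObj C] [IsProper C.hom] [GeometricallyReduced C.hom] [ConnectedSpace ↥C.left]
    (g : Over.mk (X ↘ Spec (CommRingCat.of k)) ⊗ Over.mk (Y ↘ Spec (CommRingCat.of k)) ⟶ C) (hg : lift x₀ y₀ ≫ g = η[C]) :
    ∃! h : A ⊗ B ⟶ C, IsMonHom h ∧ (albX ⊗ₘ albY) ≫ h = g := by
  haveI : GeometricallyIntegral (A ⊗ B).hom := AbRigid.geometricallyIntegral_tensorObj A B
  haveI : IsProper (A ⊗ B).hom := by dsimp; infer_instance
  obtain ⟨hX, ⟨hX1, hX2⟩, hXu⟩ := hunivA C (lift (𝟙 _) (toUnit _ ≫ y₀) ≫ g) (by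
    rw [← Category.assoc, comp_lift, Category.comp_id, ← Category.assoc, toUnit_unique (x₀ ≫ toUnit _) (𝟙 _),
      Category.id_comp, hg])
  obtain ⟨hY, ⟨hY1, hY2⟩, hYu⟩ := hunivB C (lift (toUnit _ ≫ x₀) (𝟙 _) ≫ g) (by
    rw [← Category.assoc, comp_lift, Category.comp_id, ← Category.assoc, toUnit_unique (y₀ ≫ toUnit _) (𝟙 _),
      Category.id_comp, hg])
  haveI : IsProper (Over.mk (X ↘ Spec (CommRingCat.of k))).hom := by dsimp; infer_instance
  haveI : GeometricallyIntegral (Over.mk (X ↘ Spec (CommRingCat.of k))).hom := by dsimp; infer_instance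
  haveI : LocallyOfFiniteType (Over.mk (Y ↘ Spec (CommRingCat.of k))).hom := by dsimp; infer_instance
  haveI : GeometricallyIntegral (Over.mk (Y ↘ Spec (CommRingCat.of k))).hom := by dsimp; infer_instance
  have hsplit := AbRigid.eq_mul_of_axes _ _ C g x₀ y₀ hg
  refine ⟨(fst A B ≫ hX) * (snd A B ≫ hY), ⟨?_, ?_⟩, ?_⟩
  · refine AbRigid.isMonHom_of_one (A ⊗ B) C _ ?_
    simp only [one_eq_one, comp_mul, one_comp_assoc, one_comp, _root_.mul_one]
  · rw [comp_mul, tensorHom_fst_assoc, tensorHom_snd_assoc, hX2, hY2]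
    exact hsplit.symm
  · rintro h ⟨h1, h2⟩
    have h10 : η[A ⊗ B] ≫ h = η[C] := h1.one_hom
    have h10' : lift η[A] η[B] ≫ h = η[C] := by
      rw [← h10]; congr 1
      apply CartesianMonoidalCategory.hom_ext <;> simp [one_eq_one]
    rw [AbRigid.eq_mul_of_axes A B C h η[A] η[B] h10']
    congr 2
    · refine hXu _ ⟨AbRigid.isMonHom_of_one A C _ ?_, ?_⟩
      · rw [← Category.assoc, comp_lift, Category.comp_id, ← Category.assoc, toUnit_unique (η[A] ≫ toUnit A) (𝟙 _),
          Category.id_comp, h10']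
      · rw [← h2, ← Category.assoc, ← Category.assoc, lift_map, comp_lift, Category.comp_id, Category.id_comp,
          Category.assoc, halbY, ← Category.assoc, comp_toUnit]
    · refine hYu _ ⟨AbRigid.isMonHom_of_one B C _ ?_, ?_⟩
      · rw [← Category.assoc, comp_lift, Category.comp_id, ← Category.assoc, toUnit_unique (η[B] ≫ toUnit B) (𝟙 _),
          Category.id_comp, h10']
      · rw [← h2, ← Category.assoc, ← Category.assoc, lift_map, comp_lift, Category.comp_id, Category.id_comp,
          Category.assoc, halbX, ← Category.assoc, comp_toUnit]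

end Groth.Agent.S14830
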