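import Groth.Statements.S14831
import Groth.Agent.Lib.CycCover13.Sections
import Groth.Agent.Lib.TensorMod.PullTensor
import Groth.Agent.Lib.TensorMod.Invertible
import Groth.Agent.Lib.Snapper.Positive
import Groth.Agent.Lib.Ample18.Gen
import Groth.Agent.Lib.Ample18.Sections
import Groth.Agent.Lib.VeryAmple11.Crit
import Groth.Agent.Lib.P1Split17.Basis
import Groth.Agent.Lib.PicThick4.Main
import Groth.Agent.Lib.Pic18.GluePull
set_option linter.style.haveILetI false
set_option backward.isDefEq.respectTransparency false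
set_option backward.isDefEq.respectTransparency.types false

set_option autoImplicit false
universe u
open CategoryTheory CategoryTheory.Limits AlgebraicGeometry
open PicF

namespace Groth.Agent.S14831

open Groth.Agent in
/-- The cyclic cover data of a bundle with a trivialised `d`-th power. -/
theorem core {X : Scheme.{u}} [IsIntegral X] (hfield : IsField (Γ(X, ⊤) : Type u)) (L : X.Modules)
    (hL : PicF.IsInvertible L) (d : ℕ) (hd : 0 < d) (φ : CohB1.tensorPow L d ≅ Coh.structureModule X)
    (hmin : ∀ i : ℕ, 0 < i → i < d → IsEmpty (CohB1.tensorPow L i ≅ Coh.structureModule X)) :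
    ∃ D : CycCover13.Dat X d, ConnectedSpace D.cover ∧
      Nonempty ((Scheme.Modules.pullback D.proj).obj L ≅ Coh.structureModule D.cover) := by
  classical
  have hex : ∀ x : X, ∃ (D : X.Opens) (e : Γ(L, D)), x ∈ D ∧ IsAffineOpen D ∧ Twist.IsGen L D e := by
    intro x
    obtain ⟨U, e, hxU, -, hU, he⟩ := Amp.exists_isGenerator hL (V := ⊤) (x := x) trivial
    exact ⟨U, e, hxU, hU, he⟩
  choose V e hxV hV he using hex
  have hcov : ⨆ x, V x = ⊤ := top_le_iff.1 fun x _ => TopologicalSpace.Opens.mem_iSup.2 ⟨x, hxV x⟩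
  haveI hne : ∀ x, Nonempty (V x) := fun x => ⟨⟨x, hxV x⟩⟩
  choose g hg using fun x y => (he x (V x ⊓ V y) inf_le_left).2 (M1.mres L inf_le_right (e y))
  simp only at hg
  let σ : Γ(CohB1.tensorPow L d, ⊤) := φ.inv.app ⊤ (M1.one ⊤)
  have hpw : ∀ x n, Twist.IsGen (CohB1.tensorPow L n) (V x) (Amp.pw (e x) n) := fun x n =>
    Twist.isGen_of_stalk fun _ hz => Amp.gen_pw hL hz (e x) n ((he x).stalk hz)
  choose s hs using fun x => (hpw x d _ le_rfl).2 (M1.mres _ (le_top : V x ≤ ⊤) σ)
  simp only [M1.mres_id] at hs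
  have hsu : ∀ x, IsUnit (s x) := by
    intro x
    have hone : φ.inv.app (V x) (M1.one _) = s x • Amp.pw (e x) d := by
      rw [hs x, ← M1.mres_one (le_top : V x ≤ ⊤)]
      exact M1.app_mres φ.inv _ _
    obtain ⟨r, hr⟩ : ∃ r : Γ(X, V x),
        (show Γ(Coh.structureModule X, V x) from r) = φ.hom.app _ (Amp.pw (e x) d) := ⟨_, rfl⟩
    have h2 := congrArg (φ.hom.app (V x)) hone
    rw [Scheme.Modules.Hom.app_smul, ← hr] at h2
    have h3 : φ.hom.app (V x) (φ.inv.app (V x) (M1.one _)) = M1.one _ := by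
      rw [← ConcreteCategory.comp_apply, ← Scheme.Modules.Hom.comp_app, φ.inv_hom_id]
      rfl
    rw [h3] at h2
    exact IsUnit.of_mul_eq_one _ h2.symm
  have hsc : ∀ x y, PicThick4.rs (inf_le_left : V x ⊓ V y ≤ V x) (s x) =
      g x y ^ d * PicThick4.rs (inf_le_right : V x ⊓ V y ≤ V y) (s y) := by
    intro x y
    refine (hpw x d _ inf_le_left).1 ?_
    show PicThick4.rs _ (s x) • M1.mres _ inf_le_left (Amp.pw (e x) d) =
      (g x y ^ d * PicThick4.rs _ (s y)) • M1.mres _ inf_le_left (Amp.pw (e x) d)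
    have hx := congrArg (M1.mres _ (inf_le_left : V x ⊓ V y ≤ V x)) (hs x)
    have hy := congrArg (M1.mres _ (inf_le_right : V x ⊓ V y ≤ V y)) (hs y)
    rw [M1.mres_smul, M1.mres_mres] at hx hy
    rw [mul_comm, mul_smul]
    refine hx.trans (hy.symm.trans ?_)
    congr 1
    refine (Amp.res_pw _ (e y) d).trans ?_
    show Amp.pw (M1.mres L _ (e y)) d = _
    rw [← hg x y, Amp.pw_smul]
    exact congrArg (g x y ^ d • ·) (Amp.res_pw _ (e x) d).symm
  -- in the function field
  have hη : ∀ x, genericPoint X ∈ V x := fun x =>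
    ((genericPoint_spec X).mem_open_set_iff (V x).2).mpr ⟨x, trivial, hxV x⟩
  let η := genericPoint X
  haveI hne2 : ∀ x y, Nonempty (V x ⊓ V y : X.Opens) := fun x y => ⟨⟨η, hη x, hη y⟩⟩
  let G : X → X → X.functionField := fun x y =>
    CycCover13.toK (show η ∈ V x ⊓ V y from ⟨hη x, hη y⟩) (g x y)
  let S : X → X.functionField := fun x => CycCover13.toK (hη x) (s x)
  have hres : ∀ {U W : X.Opens} (h : W ≤ U) {p : X} (hp : p ∈ W) (a : Γ(X, U)),
      CycCover13.toK hp (X.presheaf.map (homOfLE h).op a) = CycCover13.toK (h hp) a := fun h p hp a =>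
    congrArg (algebraMap (X.presheaf.stalk p) X.functionField) (TopCat.Presheaf.germ_res_apply X.presheaf _ _ _ _)
  have hG : ∀ x y z, G x z = G y z * G x y := by
    intro x y z
    have hW : η ∈ V x ⊓ V y ⊓ V z := ⟨⟨hη x, hη y⟩, hη z⟩
    have h1 : V x ⊓ V y ⊓ V z ≤ V x ⊓ V y := inf_le_left
    have h2 : V x ⊓ V y ⊓ V z ≤ V y ⊓ V z := le_inf (inf_le_left.trans inf_le_right) inf_le_right
    have h3 : V x ⊓ V y ⊓ V z ≤ V x ⊓ V z := le_inf (inf_le_left.trans inf_le_left) inf_le_right
    have e1 := congrArg (M1.mres L h1) (hg x y)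
    have e2 := congrArg (M1.mres L h2) (hg y z)
    have e3 := congrArg (M1.mres L h3) (hg x z)
    rw [M1.mres_smul, M1.mres_mres, M1.mres_mres] at e1 e2 e3
    rw [← e1, smul_smul] at e2
    have key := (he x (V x ⊓ V y ⊓ V z) (inf_le_left.trans inf_le_left)).1 (e3.trans e2.symm)
    show CycCover13.toK _ (g x z) = CycCover13.toK _ (g y z) * CycCover13.toK _ (g x y)
    rw [← hres h3 hW, ← hres h2 hW, ← hres h1 hW, ← map_mul]
    exact congrArg (CycCover13.toK hW) key
  have hG1 : ∀ x, G x x = 1 := by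
    intro x
    have := (he x (V x ⊓ V x) inf_le_left).1 ((hg x x).trans (one_smul (Γ(X, V x ⊓ V x)) _).symm)
    show CycCover13.toK _ (g x x) = 1
    rw [show g x x = 1 from this, map_one]
  have hGinv : ∀ x y, G x y * G y x = 1 := fun x y => by rw [mul_comm, ← hG, hG1]
  have hSrel : ∀ x y, S x = G x y ^ d * S y := by
    intro x y
    have hW : η ∈ V x ⊓ V y := ⟨hη x, hη y⟩
    have := congrArg (CycCover13.toK hW) (hsc x y)
    rw [map_mul, map_pow] at this
    erw [hres, hres] at this
    exact this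
  have hS : ∀ x, S x ≠ 0 := fun x => ((hsu x).map (CycCover13.toK (hη x))).ne_zero
  let D : CycCover13.Dat X d :=
    { hd := hd
      ι := X
      c := (S η)⁻¹
      hc := inv_ne_zero (hS η)
      V := V
      aff := hV
      ne := hne
      cov := fun x => ⟨x, hxV x⟩
      b := fun x => G η x
      hb := fun x h0 => one_ne_zero ((hGinv η x).symm.trans (by rw [h0, zero_mul]))
      f := fun x => ↑(hsu x).unit⁻¹
      hfu := fun x => Units.isUnit _
      hf := fun x => by
        rw [← CycCover13.toK_eq (hη x)]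
        have hSx : S η = G η x ^ d * S x := hSrel η x
        have hb : G η x ≠ 0 := fun h0 => one_ne_zero ((hGinv η x).symm.trans (by rw [h0, zero_mul]))
        rw [hSx, mul_inv, ← mul_assoc, mul_inv_cancel₀ (pow_ne_zero _ hb), one_mul]
        refine eq_inv_of_mul_eq_one_right ?_
        show CycCover13.toK _ (s x) * _ = 1
        rw [← map_mul, IsUnit.mul_val_inv, map_one]
      htr := fun i j p hp => by
        refine ⟨X.presheaf.germ (V i ⊓ V j) p hp (g i j), ?_⟩
        show CycCover13.toK hp (g i j) * G η i = G η j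
        rw [CycCover13.toK_congr hp (show η ∈ V i ⊓ V j from ⟨hη i, hη j⟩)]
        exact (hG η i j).symm }
  refine ⟨D, CycCover13.connectedSpace D ?_, ?_⟩
  · intro k a hk hkd hmem
    by_contra ha
    have hb : ∀ x, G η x ≠ 0 := D.hb
    have hc : ∀ x p (hp : p ∈ V x), a / G η x ^ k ∈ (algebraMap (X.presheaf.stalk p) X.functionField).range :=
      fun x p hp => by
        obtain ⟨w, hw⟩ := hmem x p hp
        exact ⟨w, by rw [← hw]; exact (mul_div_cancel_right₀ _ (pow_ne_zero _ (hb x))).symm⟩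
    choose t ht using fun x => VarDim.exists_section_of_forall_stalk (V x) (a / G η x ^ k) (hc x)
    haveI : Nonempty (⊤ : X.Opens) := ⟨⟨η, trivial⟩⟩
    obtain ⟨z, hz⟩ := VarDim.exists_section_of_forall_stalk ⊤ (a ^ d * D.c ^ k) fun p _ => by
      obtain ⟨w, hw⟩ := hc p p (hxV p)
      refine ⟨w ^ d * X.presheaf.germ (V p) p (hxV p) (D.f p) ^ k, ?_⟩
      rw [map_mul, map_pow, map_pow, hw, VarDim.germ_functionField_eq]
      show (a / G η p ^ k) ^ d * (X.germToFunctionField (D.V p) (D.f p)) ^ k = _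
      rw [D.hf p, div_pow, mul_pow, ← pow_mul, ← pow_mul, mul_comm d k]
      field_simp [hb p]; rfl
    haveI : Nonempty (⊤ : X.Opens) := ⟨⟨η, trivial⟩⟩
    have hz0 : z ≠ 0 := fun h0 => by
      rw [h0, map_zero] at hz
      exact mul_ne_zero (pow_ne_zero _ ha) (pow_ne_zero _ D.hc) hz.symm
    have hzu : IsUnit z := by
      obtain ⟨w, hw⟩ := hfield.mul_inv_cancel hz0
      exact IsUnit.of_mul_eq_one w hw
    have htu : ∀ x, IsUnit (t x) := by
      intro x
      have : t x ^ d * D.f x ^ k = X.presheaf.map (homOfLE le_top).op z := by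
        refine X.germToFunctionField_injective (V x) ?_
        rw [← CycCover13.toK_eq (hη x), ← CycCover13.toK_eq (hη x), hres le_top (hη x),
          CycCover13.toK_eq (U := ⊤), hz, map_mul, map_pow, map_pow, CycCover13.toK_eq (hη x), ht,
          CycCover13.toK_eq (hη x)]
        show (a / G η x ^ k) ^ d * (X.germToFunctionField (D.V x) (D.f x)) ^ k = _
        rw [D.hf x, div_pow, mul_pow, ← pow_mul, ← pow_mul, mul_comm d k]
        field_simp [hb x]; rfl
      have h2 : IsUnit (t x ^ d * D.f x ^ k) := this ▸ hzu.map _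
      exact (isUnit_pow_iff hd.ne').1 (isUnit_of_mul_isUnit_left h2)
    refine (hmin k hk hkd).false (Twist.exists_iso_of_gen (P := CohB1.tensorPow L k) (Q := Coh.structureModule X) V hcov
      (fun x => Amp.pw (e x) k)
      (fun x => (↑(htu x).unit⁻¹ : Γ(X, V x)) • M1.one (V x)) (fun x => hpw x k)
      (fun x => VA11.isGen_smul_unit (Groth.Agent.P1Split.isGen_one (V x)) (Units.isUnit _))
      (fun x y W hx hy r hr => ?_)).choose
    have hxy : W ≤ V x ⊓ V y := le_inf hx hy
    have hr' : r = X.presheaf.map (homOfLE hxy).op (g x y) ^ k := by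
      refine (hpw x k W hx).1 (hr.symm.trans ?_)
      refine (Amp.res_pw hy (e y) k).trans ?_
      have := congrArg (M1.mres L hxy) (hg x y)
      rw [M1.mres_smul, M1.mres_mres, M1.mres_mres] at this
      show Amp.pw (M1.mres L hy (e y)) k = _
      rw [← this, Amp.pw_smul]
      exact congrArg (_ • ·) (Amp.res_pw hx (e x) k).symm
    rw [M1.mres_smul, M1.mres_smul, M1.mres_one, M1.mres_one, smul_smul]
    congr 1
    rw [hr']
    rcases isEmpty_or_nonempty W with hWe | ⟨⟨p, hp⟩⟩
    · haveI : Subsingleton Γ(X, W) := by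
        rw [show W = ⊥ from TopologicalSpace.Opens.ext (Set.eq_empty_of_forall_notMem fun p hp => hWe.false ⟨p, hp⟩)]
        infer_instance
      exact Subsingleton.elim _ _
    haveI : Nonempty W := ⟨⟨p, hp⟩⟩
    refine X.germToFunctionField_injective W ?_
    rw [map_mul, map_pow, ← CycCover13.toK_eq hp, ← CycCover13.toK_eq hp, ← CycCover13.toK_eq hp]
    erw [hres, hres, hres]
    have hinv : ∀ (i : X) (hi : p ∈ V i), CycCover13.toK hi (↑(htu i).unit⁻¹ : Γ(X, V i)) = (a / G η i ^ k)⁻¹ := by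
      intro i hi
      refine eq_inv_of_mul_eq_one_right ?_
      rw [← ht i, ← CycCover13.toK_eq hi, ← map_mul, IsUnit.mul_val_inv, map_one]
    rw [hinv x (hx hp), hinv y (hy hp), CycCover13.toK_congr (hxy hp) (show η ∈ V x ⊓ V y from ⟨hη x, hη y⟩)]
    show (a / G η y ^ k)⁻¹ = G x y ^ k * (a / G η x ^ k)⁻¹
    rw [hG η x y, mul_pow, inv_div, inv_div, mul_div_assoc]
  · refine Pic18.pullback_iso_of_gens D.proj V hcov e he
      (fun x => (D.root x) • M1.one (D.proj ⁻¹ᵁ V x))
      (fun x => VA11.isGen_smul_unit (Groth.Agent.P1Split.isGen_one (D.proj ⁻¹ᵁ V x)) (CycCover13.isUnit_root D x))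
      fun x y r hr => ?_
    have hr' : r = g x y := (he x _ inf_le_left).1 (hr.symm.trans (hg x y).symm)
    subst hr'
    rw [M1.mres_smul, M1.mres_smul, M1.mres_one, M1.mres_one, smul_smul]
    congr 1
    exact CycCover13.root_trans D x y (g x y) fun p hp => by
      rw [CycCover13.toK_congr hp (show η ∈ V x ⊓ V y from ⟨hη x, hη y⟩)]
      exact (hG η x y).symm

/-- Let X be an integral Noetherian scheme such that Γ(X, O_X) is a field, and L an invertible
O_X-module of exact order d ≥ 1 in Pic(X) (L^{⊗d} ≅ O_X and L^{⊗i} ≇ O_X for 0 < i < d). Then there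
are a connected scheme X' and a finite locally free morphism g : X' → X of constant degree d (a
finite flat covering of degree d) with g^*L ≅ O_{X'}; if moreover d is invertible in Γ(X, O_X), such
a g exists which is in addition étale. (The published proof constructs g as the spectrum of the
O_X-algebra O_X ⊕ L^{−1} ⊕ ⋯ ⊕ L^{−(d−1)}; this row states only existence.) -/
theorem result (X : Scheme.{u}) [IsIntegral X] [IsNoetherian X]
    (hfield : IsField (Γ(X, ⊤) : Type u)) (L : X.Modules) (hL : PicF.IsInvertible L) (d : ℕ) (hd : 0 < d)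
    (hord : Nonempty (CohB1.tensorPow L d ≅ Coh.structureModule X))
    (hmin : ∀ i : ℕ, 0 < i → i < d → IsEmpty (CohB1.tensorPow L i ≅ Coh.structureModule X)) :
    (∃ (X' : Scheme.{u}) (g : X' ⟶ X), ConnectedSpace ↥X' ∧ Mor2.IsFinLocFreeOfDeg d g ∧
        Nonempty ((Scheme.Modules.pullback g).obj L ≅ Coh.structureModule X')) ∧
      (IsUnit ((d : ℕ) : (Γ(X, ⊤) : Type u)) →
        ∃ (X' : Scheme.{u}) (g : X' ⟶ X), ConnectedSpace ↥X' ∧ Mor2.IsFinLocFreeOfDeg d g ∧ Etale g ∧
          Nonempty ((Scheme.Modules.pullback g).obj L ≅ Coh.structureModule X')) := by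
  obtain ⟨φ⟩ := hord
  obtain ⟨D, hconn, hiso⟩ := core hfield L hL d hd φ hmin
  exact ⟨⟨D.cover, D.proj, hconn, CycCover13.isFinLocFreeOfDeg D, hiso⟩,
    fun hdu => ⟨D.cover, D.proj, hconn, CycCover13.isFinLocFreeOfDeg D, CycCover13.etale D hdu, hiso⟩⟩

end Groth.Agent.S14831
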