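import Groth.Statements.S14833
import Groth.Agent.Lib.OmegaMono9.Main
-- import your own Groth.Agent.* helpers here

set_option autoImplicit false
universe u
open CategoryTheory CategoryTheory.Limits AlgebraicGeometry
open OmegaSh

namespace Groth.Agent.S14833

/-- Let k be a field and f : X → Z a surjective k-morphism between integral proper k-schemes, where X is
geometrically normal (its base change to an algebraic closure of k has integrally closed local
domains), Z is smooth over k, and the generic fibre of f is geometrically reduced over the function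
field of Z (equivalently K(Z) ⊆ K(X) is separable). Let d_Z : O_Z → Ω_Z and d_X : O_X → Ω_X be
universal k-derivations (sheaves of Kähler differentials over k) and c : f^*Ω_Z → Ω_X the O_X-linear
map compatible with them. Then for every open subscheme U ⊆ X which is smooth over k, the
restriction of c to U is a monomorphism of O_U-modules; in particular c is injective on the smooth
locus of X. -/
theorem result (k : Type u) [Field k]
    (X Z : Scheme.{u}) [X.Over (Spec (CommRingCat.of k))] [Z.Over (Spec (CommRingCat.of k))]
    [IsProper (X ↘ Spec (CommRingCat.of k))] [IsProper (Z ↘ Spec (CommRingCat.of k))] [IsIntegral X] [IsIntegral Z]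
    [Smooth (Z ↘ Spec (CommRingCat.of k))]
    (hgn : ∀ (K : Type u) [Field K] [Algebra k K] [IsAlgClosure k K],
      Pi1.IsNormalScheme (pullback (X ↘ Spec (CommRingCat.of k)) (Spec.map (CommRingCat.ofHom (algebraMap k K)))))
    (f : X ⟶ Z) [Surjective f] (hf : f ≫ (Z ↘ Spec (CommRingCat.of k)) = X ↘ Spec (CommRingCat.of k))
    (hsep : GeometricallyReduced (pullback.snd f (Z.fromSpecResidueField (genericPoint ↥Z))))
    (ΩZ : Z.Modules) (dZ : OmegaSh.Der (Z ↘ Spec (CommRingCat.of k)) ΩZ) (hdZ : OmegaSh.IsUniversal dZ)
    (ΩX : X.Modules) (dX : OmegaSh.Der (X ↘ Spec (CommRingCat.of k)) ΩX) (hdX : OmegaSh.IsUniversal dX)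
    (c : (Scheme.Modules.pullback f).obj ΩZ ⟶ ΩX) (hc : OmegaSh.IsDiffCompat f dZ dX c)
    (U : X.Opens) (hU : Smooth (U.ι ≫ (X ↘ Spec (CommRingCat.of k)))) :
    Mono ((Scheme.Modules.restrictFunctor U.ι).map c) := by
  haveI : LocallyOfFiniteType (f ≫ (Z ↘ Spec (CommRingCat.of k))) := by rw [hf]; infer_instance
  haveI : LocallyOfFiniteType f := locallyOfFiniteType_of_comp f (Z ↘ Spec (CommRingCat.of k))
  have hdom : DenseRange f.base := f.surjective.denseRange
  have hgen : f (genericPoint X) = genericPoint Z :=
    ((genericPoint_spec X).image f.continuous).eq (by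
      rw [Set.image_univ, hdom.closure_range]; exact genericPoint_spec Z)
  have hm := Groth.Agent.OmegaMono9.main hf hdom (Groth.Agent.OmegaMono9.geomReduced_generic f hgen hsep) hdZ hdX c hc
  haveI := hm
  infer_instance

end Groth.Agent.S14833
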