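import Groth.Statements.S1566
import Groth.Prelude.Def_ClSub2
import Groth.Agent.Lib.VB17.Proper
import Groth.Agent.Lib.CurveCoh17.AffPush
import Groth.Agent.Lib.CurveCoh17.Integral
import Groth.Agent.Lib.PushFin12.Basic
-- import your own Groth.Agent.* helpers here

set_option autoImplicit false
universe u
open CategoryTheory CategoryTheory.Limits AlgebraicGeometry
open Curves TopologicalSpace Groth.Agent.M1 Groth.Agent.M2 Groth.Agent.CurveCoh17

namespace Groth.Agent.S1566

/-- Let X be proper of dimension at most one over k and f : Y → X a finite morphism which is a closed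
immersion over a dense open of X. Then the k-dimension of H^1 of the structure sheaf of Y is at most
that of X. -/
theorem result (k : Type u) [Field k] (X Y : Scheme.{u}) [X.Over (Spec (CommRingCat.of k))] [Y.Over (Spec (CommRingCat.of k))]
    [IsProper (X ↘ (Spec (CommRingCat.of k)))] (hdim : topologicalKrullDim X ≤ 1) (f : Y ⟶ X) [IsFinite f] (hf : f ≫ (X ↘ (Spec (CommRingCat.of k))) = Y ↘ (Spec (CommRingCat.of k)))
    (U : X.Opens) (hU : Dense (U : Set X)) (hfU : IsClosedImmersion (f ∣_ U)) :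
    Curv2.genus k Y ≤ Curv2.genus k X := by
  haveI := VB17.isNoetherian_of_over (k := k) (X := X)
  haveI := VB17.isSeparated_of_over (k := k) (X := X)
  let P := (Scheme.Modules.pushforward f).obj (Coh.structureModule Y)
  let φ : Coh.structureModule X ⟶ P := ClSub.unitToPush f
  have hP : Coh.IsQCoh P := M1.isQCoh_push f (isQCoh_structureModule Y)
  -- `U` contains the generic points
  have hgen : ∀ g : X, (∀ y, y ⤳ g → y = g) → g ∈ U := fun g hg => by
    let G := {g' : X | ∀ y, y ⤳ g' → y = g'} \ {g}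
    have hclosed : IsClosed (⋃ g' ∈ G, closure ({g'} : Set X)) :=
      ((finite_maximal (X := X)).subset Set.sdiff_subset).isClosed_biUnion fun _ _ => isClosed_closure
    have hgV : g ∈ (⋃ g' ∈ G, closure ({g'} : Set X))ᶜ := fun h => by
      obtain ⟨g', hg', hgg'⟩ := Set.mem_iUnion₂.1 h
      exact hg'.2 (hg g' (specializes_iff_mem_closure.2 hgg'))
    obtain ⟨y, hy, hyU⟩ := hU.inter_open_nonempty _ hclosed.isOpen_compl ⟨g, hgV⟩
    obtain ⟨g', hg'y, hg'⟩ := exists_maximal_generization y
    by_cases h : g' = g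
    · subst h; exact hg'y.mem_open U.2 hyU
    · exact absurd (Set.mem_iUnion₂.2 ⟨g', ⟨hg', h⟩, specializes_iff_mem_closure.1 hg'y⟩) hy
  obtain ⟨S, hS, hScl⟩ := exists_finset_closedPoints hdim (C := (U : Set X)ᶜ) U.isOpen.isClosed_compl
    fun g hg hgC => hgC (hgen g hg)
  -- over `U` the map `O → f_* O` is surjective
  have hsurj : ∀ x ∈ U, Function.Surjective (stalkLin φ x) := fun x hx a => by
    obtain ⟨V, hxV, t, rfl⟩ := P.presheaf.exists_germ_eq a
    obtain ⟨_, ⟨W, hW, rfl⟩, hxW, hWV⟩ :=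
      X.isBasis_affineOpens.exists_subset_of_mem_open (show x ∈ (V ⊓ U : X.Opens) from ⟨hxV, hx⟩) (V ⊓ U).2
    have hWU : W ≤ U := fun y hy => (hWV hy).2
    have hWV' : W ≤ V := fun y hy => (hWV hy).1
    have e : U.ι ''ᵁ (U.ι ⁻¹ᵁ W) = W := by
      rw [Scheme.Hom.image_preimage_eq_opensRange_inf, Scheme.Opens.opensRange_ι]
      exact inf_eq_right.2 hWU
    have haff : IsAffineOpen (U.ι ⁻¹ᵁ W) := (U.ι.isAffineOpen_iff_of_isOpenImmersion).1 (e.symm ▸ hW)
    have hs1 : Function.Surjective (f.app (U.ι ''ᵁ (U.ι ⁻¹ᵁ W))) := by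
      have h1 := Scheme.Hom.app_surjective (f ∣_ U) _ haff
      rw [morphismRestrict_app] at h1
      intro b
      obtain ⟨c, hc⟩ := h1 (Y.presheaf.map (eqToHom (image_morphismRestrict_preimage f U (U.ι ⁻¹ᵁ W))).op b)
      exact ⟨c, (ConcreteCategory.bijective_of_isIso (Y.presheaf.map
        (eqToHom (image_morphismRestrict_preimage f U (U.ι ⁻¹ᵁ W))).op)).1 hc⟩
    rw [e] at hs1
    obtain ⟨c, hc⟩ := hs1 (mres P hWV' t)
    refine ⟨(Coh.structureModule X).presheaf.germ W x hxW c, ?_⟩
    rw [stalkLin_apply, germ_naturality φ W x hxW c]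
    refine (congrArg (P.presheaf.germ W x hxW) hc).trans ?_
    exact P.presheaf.germ_res_apply (homOfLE hWV') x hxW t
  have hC : SuppIn (cokernel φ) S := ⟨hScl, fun x hx => eq_zero_stalk_cokernel φ x (hsurj x (by
    by_contra hxU
    exact hx (Finset.mem_coe.1 (hS ▸ hxU : x ∈ (S : Set X)))))⟩
  -- surjectivity on `H¹`
  have h1 : Function.Surjective (hmap k (Abelian.factorThruImage φ) 1) := fun y => by
    haveI := subsingleton_HH_of_dim hdim (kernel φ) (isQCoh_kernel (isQCoh_structureModule X) hP φ) 0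
    exact (exact_hmap_hdelta k (kerSC_shortExact φ) 1 y).1 (Subsingleton.elim _ _)
  have h2 : Function.Surjective (hmap k (Abelian.image.ι φ) 1) := fun y => by
    haveI := hC.subsingleton_HH 0
    exact (exact_hmap_hmap k (cokerSC_shortExact φ) 1 y).1 (Subsingleton.elim _ _)
  haveI : (Coh.structureModule Y).IsQuasicoherent := isQCoh_structureModule Y
  obtain ⟨e⟩ := nonempty_hequiv_push k f hf (Coh.structureModule Y) 1
  haveI := VB17.fin_of_proper (k := k) (Coh.structureModule X) (CurveCoh17.isCoh_structureModule (X := X)) 1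
  exact LinearMap.finrank_le_finrank_of_surjective
    (f := e.toLinearMap ∘ₗ hmap k (Abelian.image.ι φ) 1 ∘ₗ hmap k (Abelian.factorThruImage φ) 1)
    (e.surjective.comp (h2.comp h1))


end Groth.Agent.S1566
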