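import Groth.Statements.S14835
import Groth.Agent.S1566
import Groth.Agent.Lib.PushStab17.Norm
import Groth.Agent.Lib.GenusLe17.Curve
import Groth.Agent.Lib.RegSmooth17.Scheme
import Groth.Agent.Lib.DVRVal.Curve

set_option autoImplicit false
universe u
open CategoryTheory CategoryTheory.Limits AlgebraicGeometry
open Curves

namespace Groth.Agent.S14835

/-- Let k be an algebraically closed field, C and B proper curves over k (proper k-schemes of dimension
one) with B connected and regular (all local rings regular), φ : C → B a k-morphism, and ι : C_i → C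
a closed integral one-dimensional subscheme (an integral component) such that the composite C_i → B
is finite. Then dim_k H^1(C, O_C) ≥ dim_k H^1(C_i, O_{C_i}) ≥ dim_k H^1(B, O_B). -/
theorem result (k : Type u) [Field k] [IsAlgClosed k]
    (C B Ci : Scheme.{u}) [C.Over (Spec (CommRingCat.of k))] [B.Over (Spec (CommRingCat.of k))] [Ci.Over (Spec (CommRingCat.of k))]
    [IsProper (C ↘ Spec (CommRingCat.of k))] [IsProper (B ↘ Spec (CommRingCat.of k))]
    (hC : topologicalKrullDim ↥C = 1) (hB : topologicalKrullDim ↥B = 1) [ConnectedSpace ↥B]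
    (hBreg : ∀ b : B, IsRegularLocalRing (B.presheaf.stalk b))
    (φ : C ⟶ B) (hφ : φ ≫ (B ↘ Spec (CommRingCat.of k)) = C ↘ Spec (CommRingCat.of k))
    (ι : Ci ⟶ C) [IsClosedImmersion ι] [IsIntegral Ci] (hCi : topologicalKrullDim ↥Ci = 1)
    (hι : ι ≫ (C ↘ Spec (CommRingCat.of k)) = Ci ↘ Spec (CommRingCat.of k)) [IsFinite (ι ≫ φ)] :
    Module.finrank k (Coh.HH Ci (Coh.structureModule Ci) 1) ≤ Module.finrank k (Coh.HH C (Coh.structureModule C) 1) ∧
      Module.finrank k (Coh.HH B (Coh.structureModule B) 1) ≤ Module.finrank k (Coh.HH Ci (Coh.structureModule Ci) 1) := by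
  have hιle : Curv2.genus k Ci ≤ Curv2.genus k C := by
    haveI : IsClosedImmersion (ι ∣_ (⊤ : C.Opens)) :=
      MorphismProperty.of_isPullback (isPullback_morphismRestrict ι ⊤).flip inferInstance
    exact Groth.Agent.S1566.result k C Ci hC.le ι hι ⊤ (by simp) inferInstance
  refine ⟨hιle, ?_⟩
  haveI : IsProper (Ci ↘ Spec (CommRingCat.of k)) := hι ▸ inferInstance
  haveI : Smooth (B ↘ Spec (CommRingCat.of k)) :=
    RegSmooth17.smooth_of_regular_of_perfectField (B ↘ Spec (CommRingCat.of k)) hBreg
  haveI := GeomIrr.geometricallyConnected_of_isSepClosed (B ↘ Spec (CommRingCat.of k))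
  haveI : QuasiCompact (Ci.fromSpecStalk (genericPoint Ci)) := inferInstance
  haveI : QuasiSeparated (Ci.fromSpecStalk (genericPoint Ci)) := inferInstance
  obtain ⟨hfin, hprop, ⟨U, hU, hiso⟩, hint, hd', -⟩ := PushStab17.normalization_data k Ci hCi
  haveI := hfin
  haveI := hiso
  haveI := hint
  let N := Curv2.normalization Ci
  let ν : N ⟶ Ci := Curv2.normalizationι Ci
  letI : N.Over (Spec (CommRingCat.of k)) := ⟨ν ≫ Ci ↘ Spec (CommRingCat.of k)⟩
  haveI : IsProper (N ↘ Spec (CommRingCat.of k)) := hprop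
  haveI : IsClosedImmersion (ν ∣_ U) := inferInstance
  have h1 : Curv2.genus k N ≤ Curv2.genus k Ci :=
    Groth.Agent.S1566.result k Ci N hCi.le ν rfl U (U.2.dense hU) inferInstance
  have hnorm := (Groth.Agent.S1585.result k Ci).2.2.2.2
  haveI := VB17.isNoetherian_of_over (k := k) (X := N)
  haveI : Smooth (N ↘ Spec (CommRingCat.of k)) :=
    RegSmooth17.smooth_of_regular_of_perfectField (N ↘ Spec (CommRingCat.of k)) fun x => by
      haveI := (hnorm x).1; haveI := (hnorm x).2
      exact DVRVal.isRegularLocalRing_of_normal _ ((VB17.ringKrullDim_stalk_le_topologicalKrullDim x).trans hd'.le)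
  haveI := GeomIrr.geometricallyConnected_of_isSepClosed (N ↘ Spec (CommRingCat.of k))
  haveI := VB17.isNoetherian_of_over (k := k) (X := B)
  haveI : IsFinite (ν ≫ ι ≫ φ) := inferInstance
  refine le_trans ?_ h1
  exact GenusLe17.genus_le_algClosed (k := k) (X := N) (Y := B) hd' hB (ν ≫ ι ≫ φ) (by
    rw [Category.assoc, Category.assoc, hφ, hι]; rfl)

end Groth.Agent.S14835
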