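import Groth.Statements.S14837
import Groth.Agent.Lib.EdgeOne28.Inj
import Groth.Agent.Lib.CohFound.ProperFinite
import Groth.Agent.Lib.ModM1.Coh
import Groth.Agent.Lib.CBC10.Crit2

set_option autoImplicit false
universe u
open CategoryTheory CategoryTheory.Limits AlgebraicGeometry
open Coh

namespace Groth.Agent.S14837

/-- Let k be a field and f : X → Y a k-morphism between proper k-schemes which is a fibration (Γ(V, O_Y)
→ Γ(f⁻¹V, O_X) bijective for every open V ⊆ Y). Then H^1(Y, O_Y) injects naturally into H^1(X, O_X)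
(edge map of the Leray spectral sequence); stated here as the inequality dim_k H^1(Y, O_Y) ≤ dim_k
H^1(X, O_X) of finite dimensions. -/
theorem result (k : Type u) [Field k] (X Y : Scheme.{u})
    [X.Over (Spec (CommRingCat.of k))] [Y.Over (Spec (CommRingCat.of k))] [IsProper (X ↘ Spec (CommRingCat.of k))] [IsProper (Y ↘ Spec (CommRingCat.of k))]
    (f : X ⟶ Y) (hf : f ≫ (Y ↘ Spec (CommRingCat.of k)) = X ↘ Spec (CommRingCat.of k)) (hfib : ∀ V : Y.Opens, IsIso (f.app V)) :
    Module.finrank k (Coh.HH Y (Coh.structureModule Y) 1) ≤ Module.finrank k (Coh.HH X (Coh.structureModule X) 1) := by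
  haveI := Groth.Agent.EdgeOne28.isIso_unitToPush_of_isIso_app f hfib
  haveI : Module.Finite k (Coh.HH X (Coh.structureModule X) 1) :=
    Groth.Agent.CohFound.finite_HH_of_isProper _ (Groth.Agent.M1.isCoh_structureModule X) 1
  let e : Coh.HH Y ((Scheme.Modules.pushforward f).obj (Coh.structureModule X)) 1 →ₗ[k]
      Coh.HH X (Coh.structureModule X) 1 :=
    { toFun := CohPull.pushEdge f (Coh.structureModule X) 1
      map_add' := map_add _
      map_smul' := fun c x => Groth.Agent.RR22.pushEdge_smul hf _ 1 c x }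
  refine LinearMap.finrank_le_finrank_of_injective
    (f := e.comp (Groth.Agent.CBC10.hmapLinEquiv k (asIso (ClSub.unitToPush f)) 1).toLinearMap) ?_
  exact (Groth.Agent.EdgeOne28.injective_pushEdge_one f _).comp
    (Groth.Agent.CBC10.hmapLinEquiv k (asIso (ClSub.unitToPush f)) 1).injective

end Groth.Agent.S14837
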