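import Groth.Statements.S14838
import Groth.Agent.S14828
import Groth.Agent.S14810
import Groth.Agent.Lib.NormTriv12.Basic
import Groth.Agent.Lib.NumPoly18.Surf
import Groth.Agent.Lib.NumPoly18.TauEuler
import Groth.Agent.Lib.SmDim19.RelDimVariety
-- import your own Groth.Agent.* helpers here

set_option autoImplicit false
set_option backward.isDefEq.respectTransparency false
universe u
open CategoryTheory CategoryTheory.Limits AlgebraicGeometry
open Canon

namespace Groth.Agent.S14838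

/-- Let k be a field and X an integral proper k-scheme of dimension n which is Gorenstein: every local
ring is Cohen–Macaulay and X carries an invertible dualizing sheaf (ω_X, tr_X) in degree n (Hom(F,
ω_X) → H^n(X, F)^∨ bijective for all quasi-coherent F); assume ω_X is numerically trivial. Let i : D
→ X be an integral effective Cartier divisor (integral closed subscheme with invertible ideal sheaf
I; O_X(D) an inverse of I) with a dualizing sheaf (ω_D, tr_D) in degree n − 1, let Y be a proper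
k-scheme and f : X → Y a surjective k-morphism, and let m₁, m₂, m₃ ≥ 1 be integers with: (i)
ω_D^{⊗m₁} ≅ O_D and O_D(m₂D) = (O_X(D)|_D)^{⊗m₂} has a nonzero global section; (ii) ω_X^{⊗m₃} ≅ f^*N
for some invertible O_Y-module N; (iii) the restriction f|_D factors as D → Z → Y with O_Z → α_*O_D
an isomorphism and β : Z → Y finite locally free of constant degree r (a flat Stein factorisation).
Then ω_X^{⊗(r·lcm(m₁,m₂,m₃))} ≅ O_X; thus ω_X has finite order in Pic(X) dividing r·lcm(m₁,m₂,m₃).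
(The published statement prints the bound r·lcm(m₁, m₂, m₂); its proof takes m to be a common
multiple for which (i) and (ii) hold with m in place of m₁, m₂ and m₃, i.e. m = lcm(m₁, m₂, m₃),
which is the bound this row states.) -/
theorem result (k : Type u) [Field k]
    (X : Scheme.{u}) [X.Over (Spec (CommRingCat.of k))] [IsProper (X ↘ Spec (CommRingCat.of k))] [IsIntegral X] (n : ℕ) (hn : topologicalKrullDim ↥X = n)
    (hCM : ∀ x : X, LocCoh.IsCohenMacaulayLocalRing (X.presheaf.stalk x))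
    (ωX : X.Modules) (trX : Coh.HH X ωX n →ₗ[k] k) (hωX : Canon.IsRDualOver k X n ωX trX) (hωXinv : PicF.IsInvertible ωX)
    (hnum : Pic13.IsNumEquivZero k X ωX)
    (D : Scheme.{u}) (i : D ⟶ X) [IsClosedImmersion i] [IsIntegral D] (hI : PicF.IsInvertible (ClSub.idealMod i.ker))
    (OD : X.Modules) (hOD : ClSub.IsInverseOf OD (ClSub.idealMod i.ker))
    (Y : Scheme.{u}) [Y.Over (Spec (CommRingCat.of k))] [IsProper (Y ↘ Spec (CommRingCat.of k))] (f : X ⟶ Y) [Surjective f] (hf : f ≫ (Y ↘ Spec (CommRingCat.of k)) = X ↘ Spec (CommRingCat.of k))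
    (m₁ m₂ m₃ : ℕ) (hm₁ : 0 < m₁) (hm₂ : 0 < m₂) (hm₃ : 0 < m₃)
    (N : Y.Modules) (hN : PicF.IsInvertible N) (hii : Nonempty (CohB1.tensorPow ωX m₃ ≅ (Scheme.Modules.pullback f).obj N))
    (Z : Scheme.{u}) (α : D ⟶ Z) (β : Z ⟶ Y) (hαβ : α ≫ β = i ≫ f) (hα : ∀ V : Z.Opens, IsIso (α.app V))
    (r : ℕ) (hβ : Mor2.IsFinLocFreeOfDeg r β) :
    letI : D.Over (Spec (CommRingCat.of k)) := ⟨i ≫ (X ↘ Spec (CommRingCat.of k))⟩
    ∀ (ωD : D.Modules) (trD : Coh.HH D ωD (n - 1) →ₗ[k] k), Canon.IsRDualOver k D (n - 1) ωD trD →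
      Nonempty (CohB1.tensorPow ωD m₁ ≅ Coh.structureModule D) →
      ∀ (s : Coh.structureModule D ⟶ CohB1.tensorPow ((Scheme.Modules.pullback i).obj OD) m₂), s ≠ 0 →
        Nonempty (CohB1.tensorPow ωX (r * Nat.lcm m₁ (Nat.lcm m₂ m₃)) ≅ Coh.structureModule X) := by
  letI : D.Over (Spec (CommRingCat.of k)) := ⟨i ≫ (X ↘ Spec (CommRingCat.of k))⟩
  intro ωD trD hωD hD s hs
  obtain ⟨tD⟩ := hD
  obtain ⟨eN⟩ := hii
  haveI : IsProper (D ↘ Spec (CommRingCat.of k)) :=
    inferInstanceAs (IsProper (i ≫ (X ↘ Spec (CommRingCat.of k))))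
  haveI : IsNoetherian X := CohFound.isNoetherian_of_isProper (X ↘ (Spec (CommRingCat.of k)))
  have hODinv : PicF.IsInvertible OD := M2.isInvertible_of_tensor_iso hI hOD.some
  -- the dualizing sheaf of `D`
  obtain ⟨e0⟩ := (Groth.Agent.S14828.result k X n hn hCM
    (fun x hx => SmDim19.ringKrullDim_stalk_closed (X ↘ Spec (CommRingCat.of k)) hn hx)
    ωX trX hωX D i hI OD hOD).2 ωD trD hωD
  let L := Nat.lcm m₁ (Nat.lcm m₂ m₃)
  obtain ⟨q₁, hq₁⟩ : m₁ ∣ L := Nat.dvd_lcm_left _ _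
  obtain ⟨q₂, hq₂⟩ : m₂ ∣ L := (Nat.dvd_lcm_left _ _).trans (Nat.dvd_lcm_right _ _)
  obtain ⟨q₃, hq₃⟩ : m₃ ∣ L := (Nat.dvd_lcm_right _ _).trans (Nat.dvd_lcm_right _ _)
  have hL : 0 < L := Nat.lcm_pos hm₁ (Nat.lcm_pos hm₂ hm₃)
  have hA := Twist.isInvertible_pullback i hODinv
  let A := (Scheme.Modules.pullback i).obj OD
  let B := (Scheme.Modules.pullback i).obj ωX
  let e1 : CohB1.tensorPow ωD L ≅ Coh.structureModule D :=
    eqToIso (congrArg (CohB1.tensorPow ωD) hq₁) ≪≫ (M2.tensorPowPow ωD m₁ q₁).symm ≪≫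
      M2.tensorPowIso tD q₁ ≪≫ NumPoly18.powUnitIso q₁
  let e2 : CohB1.tensorMod (CohB1.tensorPow A L) (CohB1.tensorPow B L) ≅ Coh.structureModule D :=
    (M2.tensorPowMul A B L).symm ≪≫
      M2.tensorPowIso (e0 ≪≫ M2.pullTensorIso i OD ωX).symm L ≪≫ e1
  let M := CohB1.tensorMod (CohB1.tensorPow OD L) (CohB1.tensorPow ωX L)
  let eM : (Scheme.Modules.pullback i).obj M ≅ Coh.structureModule D :=
    M2.pullTensorIso i _ _ ≪≫
      M2.tensorIso (M2.pullTensorPowIso i OD L) (M2.pullTensorPowIso i ωX L) ≪≫ e2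
  -- numerical triviality
  have hnumD : Pic13.IsNumEquivZero k D (CohB1.tensorPow A m₂) := by
    intro C j _ hC hd1
    haveI : IsLocallyNoetherian C := LocallyOfFiniteType.isLocallyNoetherian (j ≫ i)
    let F := (Scheme.Modules.pushforward (j ≫ i)).obj (Coh.structureModule C)
    have hc : Coh.IsCoh F := CohFound.isCoh_push_closedImm (j ≫ i) (M1.isCoh_structureModule C)
    have hdim : topologicalKrullDim (CohB1.support F) ≤ ((0 + 1 : ℕ) : WithBot ℕ∞) :=
      (NumPoly18.dim_support_push (j ≫ i) _).trans (by rw [hd1]; rfl)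
    letI : C.Over (Spec (CommRingCat.of k)) := ⟨(j ≫ i) ≫ (X ↘ Spec (CommRingCat.of k))⟩
    have hMinv : PicF.IsInvertible M :=
      M2.isInvertible_tensor (M2.isInvertible_tensorPow hODinv L) (M2.isInvertible_tensorPow hωXinv L)
    have hcdegM : NumPoly18.cdeg k M F = 0 := by
      rw [NumPoly18.cdeg_push (j ≫ i) rfl hMinv, Curv2.deg,
        CurveCoh17.euler_iso (((Scheme.Modules.pullbackComp j i).app M).symm ≪≫
          (Scheme.Modules.pullback j).mapIso eM ≪≫ PicLoc.pullbackStructureIso j)]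
      simp
    have hω : NumPoly18.cdeg k ωX F = 0 := by
      have h := NumPoly18.curveDeg_eq_cdeg (k := k) (j ≫ i) hd1.le hωXinv
      rw [hnum C (j ≫ i) hC hd1] at h
      simpa using h.symm
    let Z0 : Fin 0 → X.Modules := fun _ => OD
    have hZ0 : ∀ t, PicF.IsInvertible (Z0 t) := fun t => t.elim0
    have hcd : ∀ W : X.Modules,
        NumPoly18.cdeg k W F = NumPoly18.md k (Fin.cons W Z0 : Fin 1 → X.Modules) F := fun W => by
      rw [NumPoly18.cdeg, NumPoly18.const_eq_cons, Subsingleton.elim (fun _ : Fin 0 => W) Z0]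
    have hOD0 : NumPoly18.cdeg k OD F = 0 := by
      rw [hcd, NumPoly18.md_cons_tensor (M2.isInvertible_tensorPow hODinv L)
        (M2.isInvertible_tensorPow hωXinv L) hZ0 hc hdim,
        NumPoly18.md_cons_pow hODinv hZ0 hc hdim, NumPoly18.md_cons_pow hωXinv hZ0 hc hdim,
        ← hcd, ← hcd, hω, mul_zero, add_zero] at hcdegM
      exact (mul_eq_zero.1 hcdegM).resolve_left (by exact_mod_cast hL.ne')
    have h2 : NumPoly18.cdeg k (CohB1.tensorPow OD m₂) F = 0 := by
      rw [hcd, NumPoly18.md_cons_pow hODinv hZ0 hc hdim, ← hcd, hOD0, mul_zero]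
    rw [NumPoly18.cdeg_push (j ≫ i) rfl (M2.isInvertible_tensorPow hODinv m₂), Curv2.deg,
      CurveCoh17.euler_iso (((Scheme.Modules.pullbackComp j i).app (CohB1.tensorPow OD m₂)).symm ≪≫
        (Scheme.Modules.pullback j).mapIso (M2.pullTensorPowIso i OD m₂)), Nat.cast_one, one_mul] at h2
    haveI : IsProper (C ↘ Spec (CommRingCat.of k)) :=
      inferInstanceAs (IsProper ((j ≫ i) ≫ (X ↘ Spec (CommRingCat.of k))))
    haveI : IsNoetherian C := CohFound.isNoetherian_of_isProper (C ↘ (Spec (CommRingCat.of k)))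
    have hC' : topologicalKrullDim C ≤ ((1 : ℕ) : WithBot ℕ∞) := by rw [hd1]; rfl
    have hco : Coh.IsCoh ((Scheme.Modules.pullback j).obj (CohB1.tensorPow A m₂)) :=
      Snapper.isCoh_of_isInvertible (Twist.isInvertible_pullback j (M2.isInvertible_tensorPow hA m₂))
    show Pic13.curveDeg k ((j ≫ i) ≫ (X ↘ Spec (CommRingCat.of k))) _ = 0
    rw [Pic13.curveDeg]
    rw [Snapper.eulerCharLE_eq_euler 1 hC' hco,
      Snapper.eulerCharLE_eq_euler 1 hC' (M1.isCoh_structureModule C)]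
    exact_mod_cast h2
  -- `O_D(m₂ D)` is trivial
  obtain ⟨eA⟩ := Groth.Agent.S14810.result k D
    (isField_of_universallyClosed k (D ↘ Spec (CommRingCat.of k))) _ (M2.isInvertible_tensorPow hA m₂)
    hnumD s hs
  let eAL : CohB1.tensorPow A L ≅ Coh.structureModule D :=
    eqToIso (congrArg (CohB1.tensorPow A) hq₂) ≪≫ (M2.tensorPowPow A m₂ q₂).symm ≪≫
      M2.tensorPowIso eA q₂ ≪≫ NumPoly18.powUnitIso q₂
  let eB : CohB1.tensorPow B L ≅ Coh.structureModule D :=
    (M2.tensorLUnit _).symm ≪≫ M2.tensorIso eAL.symm (Iso.refl _) ≪≫ e2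
  let N' := CohB1.tensorPow N q₃
  have hN' : PicF.IsInvertible N' := M2.isInvertible_tensorPow hN q₃
  let eX : CohB1.tensorPow ωX L ≅ (Scheme.Modules.pullback f).obj N' :=
    eqToIso (congrArg (CohB1.tensorPow ωX) hq₃) ≪≫ (M2.tensorPowPow ωX m₃ q₃).symm ≪≫
      M2.tensorPowIso eN q₃ ≪≫ (M2.pullTensorPowIso f N q₃).symm
  let eZ : (Scheme.Modules.pullback α).obj ((Scheme.Modules.pullback β).obj N') ≅ Coh.structureModule D :=
    (Scheme.Modules.pullbackComp α β).app N' ≪≫ (Scheme.Modules.pullbackCongr hαβ).app N' ≪≫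
      ((Scheme.Modules.pullbackComp i f).app N').symm ≪≫ (Scheme.Modules.pullback i).mapIso eX.symm ≪≫
      M2.pullTensorPowIso i ωX L ≪≫ eB
  haveI : IsFinite β := hβ.1.1
  haveI : UniversallyClosed (α ≫ β ≫ (Y ↘ Spec (CommRingCat.of k))) := by
    rw [← Category.assoc, hαβ, Category.assoc, hf]
    infer_instance
  haveI : UniversallyClosed α :=
    UniversallyClosed.of_comp_of_isSeparated α (β ≫ (Y ↘ Spec (CommRingCat.of k)))
  obtain ⟨eβ⟩ := NormTriv12.trivial_of_isIso_app α hα (Twist.isInvertible_pullback β hN') eZ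
  obtain ⟨eY⟩ := NormTriv12.tensorPow_trivial β hβ hN' eβ
  exact ⟨eqToIso (congrArg (CohB1.tensorPow ωX) (mul_comm r L)) ≪≫ (M2.tensorPowPow ωX L r).symm ≪≫
    M2.tensorPowIso eX r ≪≫ (M2.pullTensorPowIso f N' r).symm ≪≫
    (Scheme.Modules.pullback f).mapIso eY ≪≫ PicLoc.pullbackStructureIso f⟩

end Groth.Agent.S14838
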