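import Groth.Statements.S14839
import Groth.Agent.Lib.CoalgH23.Coef
import Mathlib.LinearAlgebra.FiniteDimensional.Basic

set_option autoImplicit false
universe u v
open HopfRep

namespace Groth.Agent.S14839

open scoped TensorProduct
open scoped Groth.Agent.CoalgH23
open Groth.Agent.CoalgH23 WithConv

open TensorProduct in
/-- Over a field K, every simple coalgebra is finite-dimensional. Here a subcoalgebra of C is a subspace
B whose comultiplication lands in the image of B ⊗ B in C ⊗ C, and C is simple when it is nonzero
and its only subcoalgebras are 0 and C. -/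
theorem result {K : Type u} {C : Type v} [Field K] [AddCommGroup C]
    [Module K C] [Coalgebra K C] [Nontrivial C]
    (hsimple : ∀ B : Submodule K C,
      (∀ b ∈ B, CoalgebraStruct.comul (R := K) b ∈ LinearMap.range (TensorProduct.map B.subtype B.subtype)) →
        B = ⊥ ∨ B = ⊤) :
    Module.Finite K C := by
  classical
  obtain ⟨E, -, hE, hEf⟩ := exists_simple_le (k := K) (C := C) (V := C) (M := (⊤ : Submodule (WithConv (C →ₗ[K] K)) C))
    top_ne_bot
  have hne : E.restrictScalars K ≠ ⊥ := ((isSimpleModule_iff_minimal E).1 hE).1
  have htop : coef (C := C) (E.restrictScalars K) = ⊤ :=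
    (hsimple _ (isSubcoalg_coef (isSubcomod_restrictScalars E))).resolve_left (coef_ne_bot hne)
  have : FiniteDimensional K (E.restrictScalars K) := hEf
  let b := Module.finBasis K (E.restrictScalars K)
  choose S hS using fun i => TensorProduct.exists_finset (HopfRep.Comod.coact (k := K) (A := C) ((b i : E.restrictScalars K) : C))
  let t : Finset C := Finset.univ.biUnion fun i => (S i).image Prod.snd
  refine Module.Finite.of_fg_top ?_
  rw [← htop]
  refine Submodule.FG.of_le (Submodule.fg_span t.finite_toSet) (coef_le_iff.2 fun e he => ?_)
  have key : ∀ x : E.restrictScalars K, HopfRep.Comod.coact (k := K) (A := C) (x : C) ∈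
      LinearMap.range ((Submodule.span K (t : Set C)).subtype.lTensor C) := by
    intro x
    have hx : x ∈ Submodule.span K (Set.range b) := by rw [b.span_eq]; trivial
    induction hx using Submodule.span_induction with
    | mem y hy =>
      obtain ⟨i, rfl⟩ := hy
      rw [hS i]
      refine Submodule.sum_mem _ fun j hj => ?_
      exact ⟨j.1 ⊗ₜ[K] ⟨j.2, Submodule.subset_span (Finset.mem_coe.2 (Finset.mem_biUnion.2
        ⟨i, Finset.mem_univ i, Finset.mem_image_of_mem _ hj⟩))⟩, rfl⟩
    | zero => simp
    | add y z _ _ hy hz => rw [Submodule.coe_add, map_add]; exact add_mem hy hz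
    | smul c y _ hy => rw [Submodule.coe_smul, map_smul]; exact Submodule.smul_mem _ c hy
  exact key ⟨e, he⟩

end Groth.Agent.S14839
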