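import Groth.Statements.S1484
import Mathlib.RingTheory.Localization.FractionRing
import Mathlib.RingTheory.Algebraic.Integral
import Mathlib.FieldTheory.IntermediateField.Algebraic

set_option autoImplicit false
universe u
open FlatMor

namespace Groth.Agent.S1484

/-- Let R be a ring, p_1, …, p_r primes of R none of which is contained in another, k_i ⊆ κ(p_i)
subfields over which κ(p_i) is not algebraic, and J an ideal of R contained in none of the p_i. Then
some x ∈ J has image in κ(p_i) transcendental over k_i for every i. -/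
theorem result {R : Type u} [CommRing R] {r : ℕ} (p : Fin r → Ideal R) [∀ i, (p i).IsPrime]
    (hp : ∀ i j, i ≠ j → ¬ p i ≤ p j) (k : ∀ i, Subfield (p i).ResidueField)
    (hk : ∀ i, ¬ Algebra.IsAlgebraic ↥(k i) (p i).ResidueField) (J : Ideal R) (hJ : ∀ i, ¬ J ≤ p i) :
    ∃ x ∈ J, ∀ i, Transcendental ↥(k i) (algebraMap R (p i).ResidueField x) := by
  classical
  have key : ∀ i, ∃ y ∈ J, (∀ j, j ≠ i → y ∈ p j) ∧ Transcendental ↥(k i) (algebraMap R (p i).ResidueField y) := by
    intro i
    let I : Ideal R := J ⊓ (Finset.univ.erase i).inf p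
    have hI : ¬ I ≤ p i := by
      intro h
      rcases (Ideal.IsPrime.inf_le (inferInstance : (p i).IsPrime)).1 h with h | h
      · exact hJ i h
      · obtain ⟨j, hj, hle⟩ := (Ideal.IsPrime.inf_le' (inferInstance : (p i).IsPrime)).1 h
        exact hp j i (Finset.ne_of_mem_erase hj) hle
    obtain ⟨a, ha, hap⟩ := SetLike.not_le_iff_exists.1 hI
    by_contra! hc
    have halg : ∀ y ∈ I, IsAlgebraic ↥(k i) (algebraMap R (p i).ResidueField y) := fun y hy =>
      not_not.1 (hc y hy.1 fun j hj => (Finset.inf_le (f := p) (Finset.mem_erase.2 ⟨hj, Finset.mem_univ j⟩) : _ ≤ p j) hy.2)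
    have ha0 : algebraMap R (p i).ResidueField a ≠ 0 := fun h =>
      hap (Ideal.algebraMap_residueField_eq_zero.1 h)
    have hall : ∀ d : R, IsAlgebraic ↥(k i) (algebraMap R (p i).ResidueField d) := fun d => by
      have e : algebraMap R (p i).ResidueField d =
          algebraMap R (p i).ResidueField (d * a) * (algebraMap R (p i).ResidueField a)⁻¹ := by
        rw [map_mul, mul_inv_cancel_right₀ ha0]
      rw [e]
      exact (halg _ (I.mul_mem_left d ha)).mul (halg a ha).inv
    refine hk i ⟨fun x => ?_⟩
    obtain ⟨n, d, -, rfl⟩ := IsFractionRing.div_surjective (A := R ⧸ p i) (x : (p i).ResidueField)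
    obtain ⟨n, rfl⟩ := Ideal.Quotient.mk_surjective n
    obtain ⟨d, rfl⟩ := Ideal.Quotient.mk_surjective d
    rw [div_eq_mul_inv]
    exact (hall n).mul (hall d).inv
  choose y hyJ hyp hyt using key
  refine ⟨∑ j, y j, Submodule.sum_mem _ fun j _ => hyJ j, fun i => ?_⟩
  rw [map_sum, Finset.sum_eq_single i (fun j _ hj => Ideal.algebraMap_residueField_eq_zero.2 (hyp j i (Ne.symm hj)))
    (fun h => absurd (Finset.mem_univ i) h)]
  exact hyt i

end Groth.Agent.S1484
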