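import Groth.Statements.S14844
import Groth.Agent.Lib.CoalgH23.Basic

set_option autoImplicit false
universe u v w w'
open HopfRep

namespace Groth.Agent.S14844

open scoped Groth.Agent.CoalgH23
open Groth.Agent.CoalgH23 WithConv

open TensorProduct in
/-- Let R be a commutative ring and C an R-coalgebra, flat over R, which is the internal direct sum of
subcoalgebras D_i (submodules whose comultiplication lands in the image of D_i ⊗ D_i, independent
and with supremum C). Then every right C-comodule V is the internal direct sum of the subcomodules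
V_i, where V_i is the preimage under the coaction of the image of V ⊗ D_i in V ⊗ C, and the coaction
maps V_i into the image of V_i ⊗ D_i, so that the comodule structure of V_i reduces to a
D_i-comodule structure. (The published statement is for a flat sheaf of coalgebras over a base
scheme and left comodules on a scheme over it; this row is the case of an affine base with modules
of global sections, for right comodules.) -/
theorem result {R : Type u} {C : Type v} [CommRing R]
    [AddCommGroup C] [Module R C] [Coalgebra R C] [Module.Flat R C]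
    {ι : Type w} (D : ι → Submodule R C)
    (hD : ∀ i, ∀ d ∈ D i, CoalgebraStruct.comul (R := R) d ∈
      LinearMap.range (TensorProduct.map (D i).subtype (D i).subtype))
    (hind : iSupIndep D) (htop : iSup D = ⊤)
    {V : Type w'} [AddCommGroup V] [Module R V] [HopfRep.Comod R C V] :
    (∀ i, HopfRep.IsSubcomod (k := R) (A := C) ((LinearMap.range (LinearMap.lTensor V (D i).subtype)).comap
        (HopfRep.Comod.coact (k := R) (A := C) (V := V)))) ∧
    iSupIndep (fun i => ((LinearMap.range (LinearMap.lTensor V (D i).subtype)).comap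
        (HopfRep.Comod.coact (k := R) (A := C) (V := V)))) ∧
    (⨆ i, ((LinearMap.range (LinearMap.lTensor V (D i).subtype)).comap
        (HopfRep.Comod.coact (k := R) (A := C) (V := V)))) = ⊤ ∧
    ∀ i, ∀ v ∈ ((LinearMap.range (LinearMap.lTensor V (D i).subtype)).comap
        (HopfRep.Comod.coact (k := R) (A := C) (V := V))),
      HopfRep.Comod.coact (k := R) (A := C) v ∈
        LinearMap.range (TensorProduct.map ((LinearMap.range (LinearMap.lTensor V (D i).subtype)).comap
        (HopfRep.Comod.coact (k := R) (A := C) (V := V))).subtype (D i).subtype) := by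
  classical
  have hint : DirectSum.IsInternal D := (DirectSum.isInternal_submodule_iff_iSupIndep_and_iSup_eq_top D).2 ⟨hind, htop⟩
  let e := LinearEquiv.ofBijective (DirectSum.coeLinearMap D) hint
  let π : ι → C →ₗ[R] C := fun i => (D i).subtype ∘ₗ DirectSum.component R ι (fun j => D j) i ∘ₗ e.symm.toLinearMap
  have hπ_mem : ∀ i c, π i c ∈ D i := fun i c => Subtype.coe_prop _
  have hsymm : ∀ j, ∀ c (hc : c ∈ D j), e.symm c = DirectSum.lof R ι (fun j => D j) j ⟨c, hc⟩ := fun j c hc =>
    e.symm_apply_eq.2 (DirectSum.coeLinearMap_of D j ⟨c, hc⟩).symm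
  have hπ_eq : ∀ i, ∀ c ∈ D i, π i c = c := fun i c hc => by
    simp only [π, LinearMap.comp_apply, LinearEquiv.coe_coe, hsymm i c hc, DirectSum.component.lof_self]
    rfl
  have hπ_ne : ∀ i j, i ≠ j → ∀ c ∈ D j, π i c = 0 := fun i j hij c hc => by
    simp only [π, LinearMap.comp_apply, LinearEquiv.coe_coe, hsymm j c hc]
    rw [DirectSum.component.of]
    simp [hij.symm]
  let ε : C →ₗ[R] R := CoalgebraStruct.counit
  let L : (C →ₗ[R] R) → C ⊗[R] C →ₗ[R] C := fun χ => (TensorProduct.lid R C).toLinearMap ∘ₗ χ.rTensor C
  have hεL : ∀ c, L ε (CoalgebraStruct.comul (R := R) c) = c := fun c => by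
    have h := congrArg (TensorProduct.lid R C) (LinearMap.congr_fun (Coalgebra.rTensor_counit_comp_comul (R := R) (A := C)) c)
    simpa [L, ε] using h
  have hεS : ∀ c, slice ε (CoalgebraStruct.comul (R := R) c) = c := fun c =>
    LinearMap.congr_fun (actL_counit (k := R) (C := C) (V := C)) c
  have hπS : ∀ i c, slice (ε ∘ₗ π i) (CoalgebraStruct.comul (R := R) c) = π i c ∧
      L (ε ∘ₗ π i) (CoalgebraStruct.comul (R := R) c) = π i c := by
    intro i c
    have hc : c ∈ iSup D := htop ▸ Submodule.mem_top
    induction hc using Submodule.iSup_induction' with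
    | mem j x hx =>
      obtain ⟨y, hy⟩ := hD j x hx
      rcases eq_or_ne i j with rfl | hij
      · rw [hπ_eq i x hx]
        constructor
        · conv_rhs => rw [← hεS x]
          rw [← hy]
          clear hy
          induction y with
          | zero => simp
          | add a b ha hb => simp only [map_add, ha, hb]
          | tmul a b => simp [hπ_eq i b b.2]
        · conv_rhs => rw [← hεL x]
          rw [← hy]
          clear hy
          induction y with
          | zero => simp
          | add a b ha hb => simp only [map_add, ha, hb]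
          | tmul a b => simp [L, hπ_eq i a a.2]
      · rw [hπ_ne i j hij x hx, ← hy]
        clear hy
        induction y with
        | zero => simp
        | add a b ha hb => simp only [map_add, ha.1, ha.2, hb.1, hb.2, add_zero, and_self]
        | tmul a b => simp [L, hπ_ne i j hij a a.2, hπ_ne i j hij b b.2]
    | zero => simp
    | add a b _ _ iha ihb => simp only [map_add, iha.1, iha.2, ihb.1, ihb.2, and_self]
  let ρ := HopfRep.Comod.coact (k := R) (A := C) (V := V)
  let p : ι → V →ₗ[R] V := fun i => slice (ε ∘ₗ π i) ∘ₗ ρ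
  have hco : ∀ v, TensorProduct.assoc R V C C (ρ.rTensor C (ρ v)) =
      (CoalgebraStruct.comul (R := R) (A := C)).lTensor V (ρ v) := fun v =>
    LinearMap.congr_fun (HopfRep.Comod.coassoc (k := R) (A := C) (V := V)) v
  have hG2 : ∀ (χ : C →ₗ[R] R) (z : V ⊗[R] C),
      (slice χ : C ⊗[R] C →ₗ[R] C).lTensor V (TensorProduct.assoc R V C C (ρ.rTensor C z)) = ρ (slice χ z) := by
    intro χ z
    induction z with
    | zero => simp
    | add a b ha hb => simp only [map_add, ha, hb]
    | tmul v c =>
      simp only [LinearMap.rTensor_tmul, slice_tmul, map_smul]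
      generalize ρ v = y
      induction y with
      | zero => simp
      | add a b ha hb => simp only [TensorProduct.add_tmul, map_add, ha, hb, smul_add]
      | tmul a b => simp
  have hG1 : ∀ (χ : C →ₗ[R] R) (z : V ⊗[R] C),
      (L χ).lTensor V (TensorProduct.assoc R V C C (ρ.rTensor C z)) = (slice χ ∘ₗ ρ).rTensor C z := by
    intro χ z
    induction z with
    | zero => simp
    | add a b ha hb => simp only [map_add, ha, hb]
    | tmul v c =>
      simp only [LinearMap.rTensor_tmul, LinearMap.comp_apply]
      generalize ρ v = y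
      induction y with
      | zero => simp
      | add a b ha hb => simp only [TensorProduct.add_tmul, map_add, ha, hb]
      | tmul a b => simp [L, TensorProduct.smul_tmul']
  have hρp : ∀ i v, ρ (p i v) = (π i).lTensor V (ρ v) := fun i v => by
    rw [show p i v = slice (ε ∘ₗ π i) (ρ v) from rfl, ← hG2, hco, ← LinearMap.lTensor_comp_apply]
    exact LinearMap.congr_fun (congrArg (LinearMap.lTensor V) (LinearMap.ext fun c => (hπS i c).1)) _
  have hpρ : ∀ i v, (p i).rTensor C (ρ v) = (π i).lTensor V (ρ v) := fun i v => by
    rw [show p i = slice (ε ∘ₗ π i) ∘ₗ ρ from rfl, ← hG1, hco, ← LinearMap.lTensor_comp_apply]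
    exact LinearMap.congr_fun (congrArg (LinearMap.lTensor V) (LinearMap.ext fun c => (hπS i c).2)) _
  let Vi : ι → Submodule R V := fun i =>
    (LinearMap.range (LinearMap.lTensor V (D i).subtype)).comap (HopfRep.Comod.coact (k := R) (A := C) (V := V))
  have hp_mem : ∀ i v, p i v ∈ Vi i := fun i v => by
    refine ⟨((π i).codRestrict (D i) (hπ_mem i)).lTensor V (ρ v), ?_⟩
    change _ = ρ (p i v)
    rw [hρp, ← LinearMap.lTensor_comp_apply, LinearMap.subtype_comp_codRestrict]
  have hp_vi : ∀ i j, ∀ v ∈ Vi j, p i v = if i = j then v else 0 := by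
    intro i j v hv
    obtain ⟨y, hy⟩ := hv
    have h1 : slice (ε ∘ₗ π i) (ρ v) = if i = j then slice ε (ρ v) else 0 := by
      rw [show ρ v = (D j).subtype.lTensor V y from hy.symm, slice_lTensor, slice_lTensor]
      split_ifs with hij
      · subst hij
        congr 2
        exact LinearMap.ext fun c => congrArg ε (hπ_eq i c c.2)
      · rw [show (ε ∘ₗ π i) ∘ₗ (D j).subtype = 0 from LinearMap.ext fun c => by simp [hπ_ne i j hij c c.2]]
        simp [slice]
    rwa [show slice ε (ρ v) = v from LinearMap.congr_fun (actL_counit (k := R) (C := C) (V := V)) v] at h1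
  have hmap : ∀ i, ∀ v ∈ Vi i, ρ v ∈ LinearMap.range (TensorProduct.map (Vi i).subtype (D i).subtype) := by
    intro i v hv
    have hpv : p i v = v := by simpa using hp_vi i i v hv
    refine ⟨TensorProduct.map ((p i).codRestrict (Vi i) (hp_mem i)) ((π i).codRestrict (D i) (hπ_mem i)) (ρ v), ?_⟩
    rw [← LinearMap.comp_apply, ← TensorProduct.map_comp, LinearMap.subtype_comp_codRestrict,
      LinearMap.subtype_comp_codRestrict, ← LinearMap.lTensor_comp_rTensor, LinearMap.comp_apply, hpρ,
      ← hρp, hpv, ← hρp, hpv]
  refine ⟨fun i v hv => ?_, ?_, ?_, hmap⟩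
  · obtain ⟨y, hy⟩ := hmap i v hv
    refine ⟨(D i).subtype.lTensor (Vi i) y, ?_⟩
    rw [← LinearMap.comp_apply, LinearMap.rTensor_comp_lTensor]
    exact hy
  · refine iSupIndep_def.2 fun i => Submodule.disjoint_def.2 fun v hv hv' => ?_
    have h0 : (⨆ (j : ι) (_ : j ≠ i), Vi j) ≤ LinearMap.ker (p i) :=
      iSup₂_le fun j hj w hw => by rw [LinearMap.mem_ker, hp_vi i j w hw, if_neg hj.symm]
    have := LinearMap.mem_ker.1 (h0 hv')
    rwa [hp_vi i i v hv, if_pos rfl] at this
  · refine eq_top_iff.2 fun v _ => ?_
    have hc : ∀ c : C, ∃ s : Finset ι, ∀ t, s ⊆ t → ∑ i ∈ t, π i c = c := by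
      intro c
      have hc : c ∈ iSup D := htop ▸ Submodule.mem_top
      induction hc using Submodule.iSup_induction' with
      | mem j x hx =>
        exact ⟨{j}, fun t ht => (Finset.sum_eq_single j (fun i _ hij => hπ_ne i j hij x hx)
          fun h => absurd (ht (Finset.mem_singleton_self j)) h).trans (hπ_eq j x hx)⟩
      | zero => exact ⟨∅, fun t _ => by simp⟩
      | add a b _ _ iha ihb =>
        obtain ⟨s, hs⟩ := iha
        obtain ⟨s', hs'⟩ := ihb
        exact ⟨s ∪ s', fun t ht => by
          simp only [map_add, Finset.sum_add_distrib, hs t (Finset.union_subset_left ht),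
            hs' t (Finset.union_subset_right ht)]⟩
    have hz : ∀ z : V ⊗[R] C, ∃ s : Finset ι, ∀ t, s ⊆ t → ∑ i ∈ t, (π i).lTensor V z = z := by
      intro z
      induction z with
      | zero => exact ⟨∅, fun t _ => by simp⟩
      | tmul a c =>
        obtain ⟨s, hs⟩ := hc c
        exact ⟨s, fun t ht => by simp only [LinearMap.lTensor_tmul, ← TensorProduct.tmul_sum, hs t ht]⟩
      | add a b iha ihb =>
        obtain ⟨s, hs⟩ := iha
        obtain ⟨s', hs'⟩ := ihb
        exact ⟨s ∪ s', fun t ht => by
          simp only [map_add, Finset.sum_add_distrib, hs t (Finset.union_subset_left ht),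
            hs' t (Finset.union_subset_right ht)]⟩
    obtain ⟨s, hs⟩ := hz (ρ v)
    have hinj : ∀ x, slice ε (ρ x) = x := fun x => LinearMap.congr_fun (actL_counit (k := R) (C := C) (V := V)) x
    have hv : ∑ i ∈ s, p i v = v := by
      have h1 : ρ (∑ i ∈ s, p i v) = ρ v := by rw [map_sum]; simp only [hρp]; exact hs s subset_rfl
      rw [← hinj (∑ i ∈ s, p i v), h1, hinj]
    rw [← hv]
    exact Submodule.sum_mem _ fun i _ => le_iSup Vi i (hp_mem i v)

end Groth.Agent.S14844
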