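import Groth.Statements.S14843
import Groth.Agent.Lib.CoalgH23.Coef
import Groth.Agent.S14844

set_option autoImplicit false
universe u v
open HopfRep

namespace Groth.Agent.S14843

open scoped Groth.Agent.CoalgH23
open Groth.Agent.CoalgH23 WithConv

open TensorProduct in
open HopfRep in
theorem indep {K : Type u} {C : Type v} [Field K] [AddCommGroup C] [Module K C] [Coalgebra K C]
    [IsSemisimpleModule (WithConv (C →ₗ[K] K)) C] :
    iSupIndep (fun D : {D : Submodule K C // ∃ E : Submodule (WithConv (C →ₗ[K] K)) C,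
      IsSimpleModule (WithConv (C →ₗ[K] K)) E ∧ D = coef (E.restrictScalars K)} => D.1) := by
  refine iSupIndep_def.2 fun D => Submodule.disjoint_def.2 fun x hx hx' => ?_
  have hD : ∃ E : Submodule (WithConv (C →ₗ[K] K)) C,
      IsSimpleModule (WithConv (C →ₗ[K] K)) E ∧ D.1 = coef (E.restrictScalars K) := D.2
  have hsub : ∀ D' : Submodule K C, (∃ E : Submodule (WithConv (C →ₗ[K] K)) C,
      IsSimpleModule (WithConv (C →ₗ[K] K)) E ∧ D' = coef (E.restrictScalars K)) →
      IsSubcomod (k := K) (A := C) D' := by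
    rintro _ ⟨E', -, rfl⟩
    exact (isSubcoalg_coef (isSubcomod_restrictScalars E')).isSubcomod
  have hall : ∀ (D' : Submodule K C), (∃ E : Submodule (WithConv (C →ₗ[K] K)) C,
      IsSimpleModule (WithConv (C →ₗ[K] K)) E ∧ D' = coef (E.restrictScalars K)) →
      ∀ (T : Submodule (WithConv (C →ₗ[K] K)) C), IsSimpleModule (WithConv (C →ₗ[K] K)) T →
        T.restrictScalars K ≤ D' → coef (T.restrictScalars K) = D' := by
    rintro _ ⟨E', hE', rfl⟩ T hT hle
    have := finite_of_isSimpleModule E' hE'
    obtain ⟨f⟩ := nonempty_equiv_of_killed E' T fun χ hχ t ht =>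
      (isSubcoalg_coef (isSubcomod_restrictScalars E')).smul_eq_zero hχ (hle ht)
    exact eq_of_equiv f
  let IP := {T : Submodule (WithConv (C →ₗ[K] K)) C //
    IsSimpleModule (WithConv (C →ₗ[K] K)) T ∧ T ≤ ofSub D.1 (hsub D.1 hD)}
  let IQ := {T : Submodule (WithConv (C →ₗ[K] K)) C // IsSimpleModule (WithConv (C →ₗ[K] K)) T ∧
    ∃ D' : Submodule K C, (∃ E : Submodule (WithConv (C →ₗ[K] K)) C,
      IsSimpleModule (WithConv (C →ₗ[K] K)) E ∧ D' = coef (E.restrictScalars K)) ∧ D' ≠ D.1 ∧ T.restrictScalars K ≤ D'}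
  have hP : x ∈ ⨆ T : IP, LinearMap.range T.1.subtype :=
    le_iSup_simples (ofSub D.1 (hsub D.1 hD)) (show x ∈ ofSub D.1 (hsub D.1 hD) from hx)
  have hQ : x ∈ (⨆ T : IQ, LinearMap.range T.1.subtype).restrictScalars K := by
    refine SetLike.le_def.1 (iSup₂_le fun D' hne y hy => ?_) hx'
    have hy' : y ∈ ⨆ T : {T : Submodule (WithConv (C →ₗ[K] K)) C //
        IsSimpleModule (WithConv (C →ₗ[K] K)) T ∧ T ≤ ofSub D'.1 (hsub D'.1 D'.2)}, LinearMap.range T.1.subtype :=
      le_iSup_simples (ofSub D'.1 (hsub D'.1 D'.2)) (show y ∈ ofSub D'.1 (hsub D'.1 D'.2) from hy)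
    rw [Submodule.restrictScalars_mem]
    refine SetLike.le_def.1 (iSup_le fun T => ?_) hy'
    exact le_iSup (fun T : IQ => LinearMap.range T.1.subtype)
      ⟨T.1, T.2.1, D'.1, D'.2, fun h => hne (Subtype.ext h), T.2.2⟩
  rw [Submodule.restrictScalars_mem] at hQ
  refine Submodule.disjoint_def.1 (disjoint_iSup_simples (fun T : IP => T.1) (fun T : IQ => T.1)
    (fun T => T.2.1) (fun T => T.2.1) fun T T' f => ?_) x hP hQ
  obtain ⟨D', hD', hne, hle⟩ := T'.2.2
  exact hne (((hall D' hD' T'.1 T'.2.1 hle).symm.trans (eq_of_equiv f).symm).trans (hall D.1 hD T.1 T.2.1 T.2.2))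

/-- Over a field K, a coalgebra C is cosemisimple, i.e. C is the internal direct sum of a family of
simple subcoalgebras, if and only if every right C-comodule is completely reducible (every
subcomodule admits a complementary subcomodule). Here a subcoalgebra of C is a subspace B whose
comultiplication lands in the image of B ⊗ B, and a simple subcoalgebra is a nonzero subcoalgebra D
whose only subcoalgebras contained in D are 0 and D. (Comodules are quantified in the universe of C;
the published statement is for left comodules, and the equivalence of 'direct sum of simple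
subcomodules' with 'every subcomodule is a direct summand' is the standard one.) -/
theorem result {K : Type u} {C : Type v} [Field K]
    [AddCommGroup C] [Module K C] [Coalgebra K C] :
    (∃ (ι : Type v) (D : ι → Submodule K C), iSupIndep D ∧ iSup D = ⊤ ∧ ∀ i,
        D i ≠ ⊥ ∧ (∀ b ∈ D i, CoalgebraStruct.comul (R := K) b ∈ LinearMap.range (TensorProduct.map (D i).subtype (D i).subtype)) ∧
        ∀ B : Submodule K C, B ≤ D i → (∀ b ∈ B, CoalgebraStruct.comul (R := K) b ∈ LinearMap.range (TensorProduct.map B.subtype B.subtype)) → B = ⊥ ∨ B = D i) ↔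
      ∀ (V : Type v) [AddCommGroup V] [Module K V] [HopfRep.Comod K C V],
        HopfRep.IsSemisimpleComod K C V := by
  constructor
  · rintro ⟨ι, D, hind, htop, hD⟩ V _ _ _
    obtain ⟨-, -, hsup, -⟩ := Groth.Agent.S14844.result D (fun i => (hD i).2.1) hind htop (V := V)
    refine isSemisimpleComod_iff.2 ?_
    let P : (Σ i, {v : V // v ∈ (LinearMap.range (LinearMap.lTensor V (D i).subtype)).comap
        (HopfRep.Comod.coact (k := K) (A := C) (V := V))}) → Submodule (WithConv (C →ₗ[K] K)) V :=
      fun p => Submodule.span _ {p.2.1}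
    refine isSemisimpleModule_of_isSemisimpleModule_submodule' (p := P) (fun p => ?_) ?_
    · obtain ⟨E, -, hE, hEf, hcoef⟩ := exists_simple_coef_eq (hD p.1).1 (hD p.1).2.1 (hD p.1).2.2
      obtain ⟨n, e, he⟩ := exists_span_fin E
      exact isSemisimpleModule_of_ann e p.2.1 fun χ hχ => smul_eq_zero_of_coact_mem (hcoef ▸ he χ hχ) p.2.2
    · refine eq_top_iff.2 fun v _ => ?_
      have hle : (⨆ i, (LinearMap.range (LinearMap.lTensor V (D i).subtype)).comap
          (HopfRep.Comod.coact (k := K) (A := C) (V := V))) ≤ (⨆ p, P p).restrictScalars K :=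
        iSup_le fun i x hx => Submodule.mem_iSup_of_mem (p := P) ⟨i, x, hx⟩ (Submodule.mem_span_singleton_self x)
      exact hle (hsup ▸ Submodule.mem_top)
  · intro h
    have : IsSemisimpleModule (WithConv (C →ₗ[K] K)) C := isSemisimpleComod_iff.1 (h C)
    let ι := {D : Submodule K C // ∃ E : Submodule (WithConv (C →ₗ[K] K)) C,
      IsSimpleModule (WithConv (C →ₗ[K] K)) E ∧ D = coef (E.restrictScalars K)}
    refine ⟨ι, fun D => D.1, ?_, ?_, fun D => ?_⟩
    · exact indep
    · refine eq_top_iff.2 fun c _ => ?_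
      have hc := le_iSup_simples (⊤ : Submodule (WithConv (C →ₗ[K] K)) C) (Submodule.mem_top : c ∈ _)
      refine SetLike.le_def.1 (iSup_le fun T => ?_) (restrictScalars_iSup_le _ hc)
      rw [Submodule.range_subtype]
      exact le_trans (le_coef _) (le_iSup (fun D : ι => D.1) ⟨_, T.1, T.2.1, rfl⟩)
    · obtain ⟨_, E, hE, rfl⟩ := D
      have := finite_of_isSimpleModule E hE
      exact ⟨coef_ne_bot ((isSimpleModule_iff_minimal E).1 hE).1, isSubcoalg_coef (isSubcomod_restrictScalars E),
        fun B hB hBs => coef_minimal E hB hBs⟩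

end Groth.Agent.S14843
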