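import Groth.Statements.S14845
import Mathlib.AlgebraicGeometry.IdealSheaf.Functorial

set_option autoImplicit false
open CategoryTheory CategoryTheory.Limits AlgebraicGeometry
universe u
open HilbD

namespace Groth.Agent.S14845

/-- A section of a separated morphism is the closed subscheme of its kernel. -/
theorem exists_iso_section {P B : Scheme.{u}} (p : P ⟶ B) [IsSeparated p] (σ : B ⟶ P)
    (hσ : σ ≫ p = 𝟙 B) :
    ∃ e : B ⟶ σ.ker.subscheme, IsIso e ∧ e ≫ σ.ker.subschemeι = σ := by
  haveI : IsClosedImmersion (σ ≫ p) := by rw [hσ]; infer_instance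
  haveI : IsClosedImmersion σ := IsClosedImmersion.of_comp σ p
  haveI : IsIso σ.toImage := inferInstance
  exact ⟨σ.toImage, ‹_›, σ.toImage_imageι⟩

/-- The closed subscheme of the kernel of a section is finite locally free of degree one. -/
theorem isFinLocFreeOfDeg_section {P B : Scheme.{u}} (p : P ⟶ B) [IsSeparated p] (σ : B ⟶ P)
    (hσ : σ ≫ p = 𝟙 B) : Mor2.IsFinLocFreeOfDeg 1 (σ.ker.subschemeι ≫ p) := by
  obtain ⟨e, he, hes⟩ := exists_iso_section p σ hσ
  haveI : IsIso (e ≫ σ.ker.subschemeι ≫ p) := by
    rw [← Category.assoc, hes, hσ]; infer_instance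
  haveI : IsIso (σ.ker.subschemeι ≫ p) := IsIso.of_isIso_comp_left e _
  refine ⟨⟨inferInstance, inferInstance, inferInstance⟩, fun y => ?_⟩
  rw [Scheme.Hom.finrank_eq_one_of_isIso]
  rfl

/-- A closed subscheme which is finite locally free of degree one is the image of a section. -/
theorem exists_section_of_isFinLocFreeOfDeg {P B : Scheme.{u}} (p : P ⟶ B) [IsSeparated p]
    (I : P.IdealSheafData) (hI : Mor2.IsFinLocFreeOfDeg 1 (I.subschemeι ≫ p)) :
    ∃ σ : B ⟶ P, σ ≫ p = 𝟙 B ∧ σ.ker = I := by
  haveI := hI.1.1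
  haveI := hI.1.2.1
  haveI := hI.1.2.2
  haveI : IsIso (I.subschemeι ≫ p) :=
    (I.subschemeι ≫ p).isIso_iff_finrank_eq.mpr (funext hI.2)
  set σ := inv (I.subschemeι ≫ p) ≫ I.subschemeι with hσdef
  have hσ : σ ≫ p = 𝟙 B := by simp [σ]
  refine ⟨σ, hσ, le_antisymm ?_ ?_⟩
  · rw [← I.ker_subschemeι]
    have : I.subschemeι = (I.subschemeι ≫ p) ≫ σ := by
      rw [hσdef, ← Category.assoc, IsIso.hom_inv_id, Category.id_comp]
    exact le_of_le_of_eq (Scheme.Hom.le_ker_comp (I.subschemeι ≫ p) σ) (congrArg Scheme.Hom.ker this).symm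
  · rw [← I.ker_subschemeι]
    exact Scheme.Hom.le_ker_comp _ _

/-- A section is determined by its kernel. -/
theorem section_ext {P B : Scheme.{u}} (p : P ⟶ B) [IsSeparated p] (σ τ : B ⟶ P)
    (hσ : σ ≫ p = 𝟙 B) (hτ : τ ≫ p = 𝟙 B) (h : σ.ker = τ.ker) : σ = τ := by
  haveI : IsClosedImmersion (τ ≫ p) := by rw [hτ]; infer_instance
  haveI : IsClosedImmersion τ := IsClosedImmersion.of_comp τ p
  have hl := IsClosedImmersion.lift_fac τ σ h.ge
  have he : IsClosedImmersion.lift τ σ h.ge = 𝟙 B := by
    have := congr($hl ≫ p)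
    rwa [Category.assoc, hτ, hσ, Category.comp_id] at this
  rw [he, Category.id_comp] at hl
  exact hl.symm

/-- Kernels of sections are compatible with base change. -/
theorem ker_pullback_section {P P' B B' : Scheme.{u}} (p : P ⟶ B) [IsSeparated p] (p' : P' ⟶ B')
    (b : B' ⟶ B) (q : P' ⟶ P) (h : IsPullback q p' p b) (σ : B ⟶ P) (σ' : B' ⟶ P')
    (hσ : σ ≫ p = 𝟙 B) (hσ' : σ' ≫ p' = 𝟙 B') (hc : σ' ≫ q = b ≫ σ) :
    (pullback.snd σ.ker.subschemeι q).ker = σ'.ker := by
  obtain ⟨e, he, hes⟩ := exists_iso_section p σ hσ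
  have hpb : IsPullback b σ' σ q := by
    refine IsPullback.of_bot ?_ hc.symm h
    rw [hσ, hσ']
    exact IsPullback.of_vert_isIso ⟨by simp⟩
  haveI := he
  have h2 : IsPullback (b ≫ e) σ' σ.ker.subschemeι q :=
    hpb.of_iso (Iso.refl _) (asIso e) (Iso.refl _) (Iso.refl _)
      (by simp) (by simp) (by simp [hes]) (by simp)
  exact le_antisymm
    (le_of_le_of_eq (Scheme.Hom.le_ker_comp h2.isoPullback.hom _)
      (congrArg Scheme.Hom.ker h2.isoPullback_hom_snd))
    (le_of_le_of_eq (Scheme.Hom.le_ker_comp h2.isoPullback.inv σ')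
      (congrArg Scheme.Hom.ker h2.isoPullback_inv_snd))

/-- For a separated morphism f : X → S, the Hilbert functor of one point of X over S is represented by X
with the diagonal as universal family: the diagonal of X ×_S X (the graph of the identity section of
X over itself) is a closed subscheme finite locally free of degree 1 over X, and every closed
subscheme of X ×_S T which is finite locally free of degree 1 over T is its base change along a
unique S-morphism T → X. (The published statement takes S Noetherian, f locally of finite type and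
the Hilbert functor on locally Noetherian S-schemes with flat proper families of Hilbert polynomial
1; this row uses the functor of families finite locally free of degree 1 on all S-schemes, for which
the same argument applies without Noetherian hypotheses.) -/
theorem result {X S : Scheme.{u}} (f : X ⟶ S) [IsSeparated f] :
    ∃ Δ : HilbD.Obj f 1 (Over.mk f),
      Δ.1 = HilbD.secGraph f (Over.mk f) (𝟙 X) (Category.id_comp f) ∧
      HilbD.IsUniversal f 1 (Over.mk f) Δ := by
  have hΔ := isFinLocFreeOfDeg_section (pullback.snd f f)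
    (pullback.lift (𝟙 X) (𝟙 X) rfl) (pullback.lift_snd _ _ _)
  refine ⟨⟨HilbD.secGraph f (Over.mk f) (𝟙 X) (Category.id_comp f), hΔ⟩, rfl, ?_⟩
  intro T Z'
  obtain ⟨σ, hσ, hσker⟩ := exists_section_of_isFinLocFreeOfDeg (pullback.snd f T.hom) Z'.1 Z'.2
  have hx : (σ ≫ pullback.fst f T.hom) ≫ f = T.hom := by
    rw [Category.assoc, pullback.condition, reassoc_of% hσ]
  have hpull : ∀ g : T ⟶ Over.mk f, HilbD.pull f g
      (HilbD.secGraph f (Over.mk f) (𝟙 X) (Category.id_comp f)) =
      (pullback.lift g.left (𝟙 T.left) ((Over.w g).trans (Category.id_comp _).symm) :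
        T.left ⟶ pullback f T.hom).ker := by
    intro g
    refine ker_pullback_section (pullback.snd f f) (pullback.snd f T.hom) g.left (PicF.XTmap f g) ?_
      (pullback.lift (𝟙 X) (𝟙 X) rfl) _ (pullback.lift_snd _ _ _) (pullback.lift_snd _ _ _) ?_
    · refine IsPullback.of_right (h₁₂ := pullback.fst f f) (h₂₂ := f) (v₁₃ := f) ?_ ?_
        (IsPullback.of_hasPullback f f)
      · have e1 : PicF.XTmap f g ≫ pullback.fst f f = pullback.fst f T.hom :=
          (pullback.lift_fst _ _ _).trans (Category.comp_id _)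
        have e2 : g.left ≫ f = T.hom := Over.w g
        rw [e1, e2]
        exact IsPullback.of_hasPullback f T.hom
      · exact pullback.lift_snd _ _ _
    · unfold PicF.XTmap
      refine pullback.hom_ext ?_ ?_
      · rw [Category.assoc, Category.assoc]
        erw [pullback.lift_fst, pullback.lift_fst_assoc, pullback.lift_fst]
      · rw [Category.assoc, Category.assoc]
        erw [pullback.lift_snd, pullback.lift_snd_assoc, pullback.lift_snd]
        simp
  refine ⟨Over.homMk (σ ≫ pullback.fst f T.hom) hx, ?_, ?_⟩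
  · refine (hpull _).trans (Eq.trans ?_ hσker)
    congr 1
    refine pullback.hom_ext ?_ ?_
    · exact pullback.lift_fst _ _ _
    · exact (pullback.lift_snd _ _ _).trans hσ.symm
  · intro g hg
    have hg' : (pullback.lift g.left (𝟙 T.left) ((Over.w g).trans (Category.id_comp _).symm) :
        T.left ⟶ pullback f T.hom).ker = σ.ker := ((hpull g).symm.trans hg).trans hσker.symm
    have := section_ext (pullback.snd f T.hom) _ _ (pullback.lift_snd _ _ _) hσ hg'
    ext : 1
    exact ((pullback.lift_fst _ _ _).symm.trans congr($this ≫ pullback.fst f T.hom))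

end Groth.Agent.S14845
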