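import Groth.Statements.S14846
import Mathlib

set_option autoImplicit false
universe u v w
open Brauer

namespace Groth.Agent.S14846

open TensorProduct in
/-- Let L/K be a Galois extension with group Γ = Aut_K(L), and A a K-algebra which is a simple ring. If
L ⊗_K A is semisimple, then Γ, acting on L ⊗_K A through the first tensor factor, permutes its
simple components, i.e. its minimal nonzero two-sided ideals, transitively: any minimal two-sided
ideal is carried onto any other by some γ ⊗ id. -/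
theorem result
    {K : Type u} {L : Type v} [Field K] [Field L] [Algebra K L] [IsGalois K L]
    {A : Type w} [Ring A] [Algebra K A] [IsSimpleRing A]
    [IsSemisimpleRing (L ⊗[K] A)]
    (I J : TwoSidedIdeal (L ⊗[K] A)) (hI : IsAtom I) (hJ : IsAtom J) :
    ∃ γ : L ≃ₐ[K] L, (J : Set (L ⊗[K] A)) =
      Algebra.TensorProduct.map (γ : L →ₐ[K] L) (AlgHom.id K A) '' (I : Set (L ⊗[K] A)) := by
  classical
  let R := L ⊗[K] A
  let m : (L ≃ₐ[K] L) → (R →ₐ[K] R) := fun γ =>
    Algebra.TensorProduct.map (γ : L →ₐ[K] L) (AlgHom.id K A)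
  have hmt : ∀ γ l a, m γ (l ⊗ₜ[K] a) = γ l ⊗ₜ[K] a := fun γ l a => rfl
  have hcomp : ∀ γ δ x, m γ (m δ x) = m (γ * δ) x := by
    intro γ δ x
    induction x using TensorProduct.induction_on with
    | zero => simp
    | tmul l a => rw [hmt, hmt, hmt]; rfl
    | add x y hx hy => rw [map_add, map_add, map_add, hx, hy]
  have hone : ∀ x, m 1 x = x := by
    intro x
    induction x using TensorProduct.induction_on with
    | zero => simp
    | tmul l a => rw [hmt]; rfl
    | add x y hx hy => rw [map_add, hx, hy]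
  -- the conjugate ideals
  let G : (L ≃ₐ[K] L) → TwoSidedIdeal R := fun γ => TwoSidedIdeal.comap (m γ⁻¹) I
  have hG : ∀ γ x, x ∈ G γ ↔ x ∈ m γ '' (I : Set R) := by
    intro γ x
    constructor
    · intro hx
      exact ⟨m γ⁻¹ x, (TwoSidedIdeal.mem_comap _).1 hx, by rw [hcomp, mul_inv_cancel, hone]⟩
    · rintro ⟨y, hy, rfl⟩
      refine (TwoSidedIdeal.mem_comap _).2 ?_
      rw [hcomp, inv_mul_cancel, hone]
      exact hy
  let W : TwoSidedIdeal R := ⨆ γ, G γ
  have hWstab : ∀ γ x, x ∈ W → m γ x ∈ W := by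
    intro γ
    have : W ≤ TwoSidedIdeal.comap (m γ) W := iSup_le fun δ x hx => by
      obtain ⟨y, hy, rfl⟩ := (hG δ x).1 hx
      refine (TwoSidedIdeal.mem_comap _).2 ?_
      rw [hcomp]
      exact le_iSup G (γ * δ) ((hG _ _).2 ⟨y, hy, rfl⟩)
    exact fun x hx => (TwoSidedIdeal.mem_comap _).1 (this hx)
  have hW1 : (1 : R) ∈ W := by
    obtain ⟨x, hxI, hx0⟩ : ∃ x ∈ I, x ≠ 0 := by
      by_contra! h
      exact hI.1 (le_bot_iff.1 fun x hx => (TwoSidedIdeal.mem_bot _).2 (h x hx))
    have hxW : x ∈ W := le_iSup G 1 ((hG 1 x).2 ⟨x, hxI, hone x⟩)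
    let b := Module.Free.chooseBasis K A
    let c : R ≃ₗ[L] _ := (b.baseChange L).repr
    have hcm : ∀ γ y i, c (m γ y) i = γ (c y i) := by
      intro γ y i
      induction y using TensorProduct.induction_on with
      | zero => simp
      | tmul l a =>
        rw [hmt]
        show (b.baseChange L).repr (γ l ⊗ₜ[K] a) i = γ ((b.baseChange L).repr (l ⊗ₜ[K] a) i)
        erw [Module.Basis.baseChange_repr_tmul, Module.Basis.baseChange_repr_tmul]
        rw [map_smul]
      | add y z hy hz => simp [map_add, hy, hz]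
    have hex : ∃ n, ∃ y ∈ W, y ≠ 0 ∧ (c y).support.card = n := ⟨_, x, hxW, hx0, rfl⟩
    obtain ⟨y, hyW, hy0, hcard⟩ := Nat.find_spec hex
    obtain ⟨i, hi⟩ : (c y).support.Nonempty := Finsupp.support_nonempty_iff.2 (by simpa using hy0)
    rw [Finsupp.mem_support_iff] at hi
    have hsmulW : ∀ (l : L) (z : R), z ∈ W → l • z ∈ W := fun l z hz => by
      rw [Algebra.smul_def]; exact W.mul_mem_left _ _ hz
    let w := (c y i)⁻¹ • y
    have hwW : w ∈ W := hsmulW _ _ hyW
    have hwi : c w i = 1 := by simp [w, hi]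
    have hw : (c w).support ⊆ (c y).support := by
      rw [show c w = (c y i)⁻¹ • c y from map_smul c _ _]
      exact Finsupp.support_smul
    have hfix : ∀ γ, m γ w = w := by
      intro γ
      by_contra hne
      have hd : m γ w - w ≠ 0 := sub_ne_zero.2 hne
      have hdW : m γ w - w ∈ W := W.sub_mem (hWstab γ _ hwW) hwW
      refine Nat.find_min hex ?_ ⟨_, hdW, hd, rfl⟩
      rw [← hcard]
      refine Finset.card_lt_card ?_
      rw [Finset.ssubset_iff_of_subset]
      · refine ⟨i, Finsupp.mem_support_iff.2 hi, ?_⟩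
        simp [hcm, hwi]
      · intro j hj
        apply hw
        rw [Finsupp.mem_support_iff] at hj ⊢
        intro h0
        apply hj
        simp [hcm, h0]
    have hK : ∀ j, c w j ∈ Set.range (algebraMap K L) := by
      intro j
      rw [InfiniteGalois.mem_range_algebraMap_iff_fixed]
      intro γ
      rw [← hcm, hfix]
    choose f hf using hK
    let a : A := ∑ j ∈ (c w).support, f j • b j
    have hwa : w = (1 : L) ⊗ₜ[K] a := by
      rw [← (b.baseChange L).linearCombination_repr w, Finsupp.linearCombination_apply, TensorProduct.tmul_sum]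
      refine Finset.sum_congr rfl fun j _ => ?_
      show c w j • (b.baseChange L) j = _
      rw [← hf j, TensorProduct.tmul_smul, Module.Basis.baseChange_apply, algebraMap_smul]
    let incl : A →ₐ[K] R := Algebra.TensorProduct.includeRight
    let N : TwoSidedIdeal A := TwoSidedIdeal.comap incl W
    have haN : a ∈ N := (TwoSidedIdeal.mem_comap _).2 (show (1 : L) ⊗ₜ[K] a ∈ W from hwa ▸ hwW)
    have ha0 : a ≠ 0 := fun h => by
      rw [h, TensorProduct.tmul_zero] at hwa
      rw [hwa] at hwi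
      simp at hwi
    have hN : N = ⊤ := by
      rcases eq_bot_or_eq_top N with h | h
      · exact absurd ((TwoSidedIdeal.mem_bot _).1 (h ▸ haN)) ha0
      · exact h
    have h1 : (1 : A) ∈ N := hN ▸ trivial
    simpa [incl, ← Algebra.TensorProduct.one_def] using (TwoSidedIdeal.mem_comap _).1 h1
  obtain ⟨γ, x, hxG, y, hyJ, hxy⟩ : ∃ γ, ∃ x ∈ G γ, ∃ y ∈ J, y * x ≠ 0 := by
    by_contra! h
    let Ann : TwoSidedIdeal R := TwoSidedIdeal.mk' {x | ∀ y ∈ J, y * x = 0} (fun y _ => mul_zero y)
      (fun ha hb y hy => by rw [mul_add, ha y hy, hb y hy, add_zero])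
      (fun ha y hy => by rw [mul_neg, ha y hy, neg_zero])
      (fun {a b} hb y hy => by rw [← mul_assoc]; exact hb _ (J.mul_mem_right _ _ hy))
      (fun {a b} ha y hy => by rw [← mul_assoc, ha y hy, zero_mul])
    have hle : W ≤ Ann := iSup_le fun γ x hx => (TwoSidedIdeal.mem_mk' _ _ _ _ _ _ _).2 (h γ x hx)
    refine hJ.1 (le_bot_iff.1 fun y hy => (TwoSidedIdeal.mem_bot _).2 ?_)
    simpa using (TwoSidedIdeal.mem_mk' _ _ _ _ _ _ _).1 (hle hW1) y hy
  refine ⟨γ, ?_⟩
  have hinf : J ⊓ G γ ≠ ⊥ := fun h => hxy ((TwoSidedIdeal.mem_bot _).1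
    (h ▸ ((TwoSidedIdeal.mem_inf R).2 ⟨J.mul_mem_right _ _ hyJ, (G γ).mul_mem_left _ _ hxG⟩)))
  have hle : J ≤ G γ := by
    rcases hJ.le_iff.1 (inf_le_left : J ⊓ G γ ≤ J) with h | h
    · exact absurd h hinf
    · exact inf_eq_left.1 h
  refine Set.Subset.antisymm (fun z hz => (hG γ z).1 (hle hz)) ?_
  rintro _ ⟨z, hz, rfl⟩
  have hle2 : TwoSidedIdeal.comap (m γ) J ≤ I := fun t ht => by
    obtain ⟨u, hu, hut⟩ := (hG γ _).1 (hle ((TwoSidedIdeal.mem_comap _).1 ht))
    have := congrArg (m γ⁻¹) hut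
    rw [hcomp, hcomp, inv_mul_cancel, hone, hone] at this
    exact this ▸ hu
  rcases hI.le_iff.1 hle2 with h | h
  · exfalso
    apply hJ.1
    refine le_bot_iff.1 fun t ht => (TwoSidedIdeal.mem_bot _).2 ?_
    have : m γ⁻¹ t ∈ TwoSidedIdeal.comap (m γ) J := (TwoSidedIdeal.mem_comap _).2 (by
      rw [hcomp, mul_inv_cancel, hone]; exact ht)
    rw [h] at this
    have := congrArg (m γ) ((TwoSidedIdeal.mem_bot _).1 this)
    rwa [hcomp, mul_inv_cancel, hone, map_zero] at this
  · exact (TwoSidedIdeal.mem_comap _).1 (h.symm ▸ hz : z ∈ TwoSidedIdeal.comap (m γ) J)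
end Groth.Agent.S14846
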