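import Groth.Statements.S14848
import Mathlib.LinearAlgebra.Matrix.GeneralLinearGroup.Defs
import Mathlib.LinearAlgebra.Matrix.NonsingularInverse
import Mathlib.RingTheory.RootsOfUnity.PrimitiveRoots
import Mathlib.Tactic.LinearCombination
import Mathlib.Tactic.FinCases
import Mathlib.Tactic.Ring

set_option autoImplicit false
universe u v
open McKay

namespace Groth.Agent.S14848

/-- Let K be a field of characteristic zero, L an extension field of K and ξ ∈ L a primitive n-th root
of unity (n ≥ 1) with ξ + ξ⁻¹ ∈ K, say ξ + ξ⁻¹ = 2c with c ∈ K (the character of the natural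
two-dimensional representation of the cyclic group of order n takes values in K). Then the cyclic
group of order n is realisable over K as a subgroup of SL(2, K): there is an element of SL(2, K) of
order n. -/
theorem result {K : Type u} {L : Type v} [Field K] [Field L]
    [CharZero K] [Algebra K L] (n : ℕ) (hn : 1 ≤ n) (ξ : L) (hξ : IsPrimitiveRoot ξ n) (c : K)
    (hc : algebraMap K L (2 * c) = ξ + ξ⁻¹) :
    ∃ M : Matrix.SpecialLinearGroup (Fin 2) K, orderOf M = n := by
  classical
  rcases eq_or_lt_of_le hn with h1 | h1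
  · exact ⟨1, by rw [orderOf_one, h1]⟩
  rcases eq_or_lt_of_le (show 2 ≤ n from h1) with h2 | h3
  · subst h2
    refine ⟨-1, orderOf_eq_prime (neg_one_sq (R := Matrix.SpecialLinearGroup (Fin 2) K)) ?_⟩
    intro h
    have := congrFun (congrFun (congrArg Subtype.val h) 0) 0
    simp at this
    exact absurd this (by norm_num)
  let M : Matrix (Fin 2) (Fin 2) K := !![2 * c, -1; 1, 0]
  have hdet : M.det = 1 := by simp [M, Matrix.det_fin_two]
  let S : Matrix.SpecialLinearGroup (Fin 2) K := ⟨M, hdet⟩
  refine ⟨S, ?_⟩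
  have hξ0 : ξ ≠ 0 := hξ.ne_zero (by omega)
  set ML := (algebraMap K L).mapMatrix M with hML
  have heig : ∀ z : L, z ≠ 0 → algebraMap K L (2 * c) = z + z⁻¹ → ∀ k : ℕ, Matrix.mulVec (ML ^ k) ![z, 1] = z ^ k • ![z, 1] := by
    intro z hz hz' k
    induction k with
    | zero => simp
    | succ k ih =>
      have h0 : Matrix.mulVec ML ![z, 1] = z • ![z, 1] := by
        ext i; fin_cases i
        · simp [hML, M, Matrix.mulVec, dotProduct, Fin.sum_univ_two, Matrix.map_apply]; rw [map_mul] at hz'; linear_combination z * hz' + inv_mul_cancel₀ hz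
        · simp [hML, M, Matrix.mulVec, dotProduct, Fin.sum_univ_two, Matrix.map_apply]
      rw [pow_succ', ← Matrix.mulVec_mulVec, ih, Matrix.mulVec_smul, h0, smul_smul, pow_succ]
  have hev1 := heig ξ hξ0 hc
  have hev2 := heig ξ⁻¹ (inv_ne_zero hξ0) (by rw [inv_inv, add_comm]; exact hc)
  have hne : ξ ≠ ξ⁻¹ := by
    intro e
    have : ξ ^ 2 = 1 := by rw [sq]; nth_rewrite 2 [e]; exact mul_inv_cancel₀ hξ0
    have := Nat.le_of_dvd two_pos (hξ.dvd_of_pow_eq_one 2 this)
    omega
  have hsub : ξ - ξ⁻¹ ≠ 0 := sub_ne_zero.2 hne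
  rw [orderOf_eq_iff (by omega)]
  refine ⟨?_, fun k hk hk0 h => ?_⟩
  · apply Subtype.ext
    simp only [Matrix.SpecialLinearGroup.coe_pow, Matrix.SpecialLinearGroup.coe_one]
    apply Matrix.map_injective (algebraMap K L).injective
    show (algebraMap K L).mapMatrix (M ^ n) = (algebraMap K L).mapMatrix 1
    rw [map_pow, ← hML, map_one]
    let P : Matrix (Fin 2) (Fin 2) L := !![ξ, ξ⁻¹; 1, 1]
    have hP : ML ^ n * P = P := by
      have a1 := hev1 n
      have a2 := hev2 n
      rw [hξ.pow_eq_one, one_smul] at a1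
      rw [inv_pow, hξ.pow_eq_one, inv_one, one_smul] at a2
      ext i j
      fin_cases j
      · simpa [P, Matrix.mul_apply, Matrix.mulVec, dotProduct, Fin.sum_univ_two] using (congrFun a1 i).trans (by fin_cases i <;> simp [P])
      · simpa [P, Matrix.mul_apply, Matrix.mulVec, dotProduct, Fin.sum_univ_two] using (congrFun a2 i).trans (by fin_cases i <;> simp [P])
    have hu : IsUnit P.det := by
      rw [isUnit_iff_ne_zero, Matrix.det_fin_two]; simpa [P] using hsub
    calc ML ^ n = ML ^ n * (P * P⁻¹) := by rw [Matrix.mul_nonsing_inv _ hu, mul_one]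
    _ = 1 := by rw [← mul_assoc, hP, Matrix.mul_nonsing_inv _ hu]
  · have h' := congrArg Subtype.val h
    simp only [Matrix.SpecialLinearGroup.coe_pow, Matrix.SpecialLinearGroup.coe_one] at h'
    have h'' : ML ^ k = 1 := by rw [hML, ← map_pow]; rw [show M ^ k = 1 from h', map_one]
    have := congrFun (hev1 k) 1
    rw [h'', Matrix.one_mulVec] at this
    simp at this
    exact hξ.pow_ne_one_of_pos_of_lt hk0.ne' hk this.symm

end Groth.Agent.S14848
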