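import Groth.Statements.S14849
import Mathlib.GroupTheory.SpecificGroups.Quaternion
import Mathlib.LinearAlgebra.Matrix.SpecialLinearGroup
import Mathlib.RingTheory.RootsOfUnity.PrimitiveRoots
import Mathlib.Tactic.FinCases
import Mathlib.LinearAlgebra.Matrix.NonsingularInverse
import Mathlib.Tactic.Ring
import Mathlib.Tactic.LinearCombination

set_option autoImplicit false
universe u v
open McKay

namespace Groth.Agent.S14849

theorem sq_eq_neg_one {K : Type u} [CommRing K] (M : Matrix (Fin 2) (Fin 2) K)
    (hd : M.det = 1) (ht : M 0 0 + M 1 1 = 0) : M * M = -1 := by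
  rw [Matrix.det_fin_two] at hd
  ext i j
  fin_cases i <;> fin_cases j <;> simp [Matrix.mul_apply, Fin.sum_univ_two]
  · linear_combination (M 0 0) * ht - hd
  · linear_combination (M 0 1) * ht
  · linear_combination (M 1 0) * ht
  · linear_combination (M 1 1) * ht - hd

/-- Let K be a field of characteristic zero, L an extension field of K, n ≥ 2, and ξ ∈ L a primitive
2n-th root of unity with ξ + ξ⁻¹ = 2c for some c ∈ K. If the Hilbert symbol of -1 and c² - 1 over K
equals 1, i.e. x² - (c² - 1) y² = -1 has a solution in K, then the binary dihedral group of order 4n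
(generators σ, τ with τ² = σⁿ = (τσ)²) is isomorphic to a subgroup of SL(2, K). (The published
statement is an equivalence; this row is the direction realising the group from a solution of the
conic.) -/
theorem result {K : Type u} {L : Type v}
    [Field K] [Field L] [CharZero K] [Algebra K L] (n : ℕ) (hn : 2 ≤ n) (ξ : L)
    (hξ : IsPrimitiveRoot ξ (2 * n)) (c : K) (hc : algebraMap K L (2 * c) = ξ + ξ⁻¹)
    (hsol : ∃ x y : K, x ^ 2 - (c ^ 2 - 1) * y ^ 2 = -1) :
    ∃ f : QuaternionGroup n →* Matrix.SpecialLinearGroup (Fin 2) K, Function.Injective f := by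
  obtain ⟨x, y, hxy⟩ := hsol
  haveI : NeZero (2 * n) := ⟨by omega⟩
  have hξ0 : ξ ≠ 0 := hξ.ne_zero (by omega)
  have hξn : ξ ^ n = -1 := by
    refine (hξ.pow (by omega) (mul_comm 2 n)).eq_neg_one_of_two_right
  let s : Matrix.SpecialLinearGroup (Fin 2) K := ⟨!![0, -1; 1, 2 * c], by simp [Matrix.det_fin_two]⟩
  let τ : Matrix.SpecialLinearGroup (Fin 2) K := ⟨!![y, x + c * y; x - c * y, -y], by
    simp [Matrix.det_fin_two]; linear_combination -hxy⟩
  let P : Matrix (Fin 2) (Fin 2) L := !![1, 1; -ξ, -ξ⁻¹]
  have hP : P.det ≠ 0 := by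
    simp only [P, Matrix.det_fin_two_of]
    intro h
    have : ξ ^ 2 = 1 := by
      have h' : ξ = ξ⁻¹ := by linear_combination h
      rw [pow_two]; conv_lhs => arg 2; rw [h']
      exact mul_inv_cancel₀ hξ0
    have := (hξ.pow_eq_one_iff_dvd 2).1 this
    have := Nat.le_of_dvd two_pos this
    omega
  let φ : Matrix.SpecialLinearGroup (Fin 2) K →* Matrix (Fin 2) (Fin 2) L :=
    { toFun := fun g => (g : Matrix (Fin 2) (Fin 2) K).map (algebraMap K L)
      map_one' := by simp
      map_mul' := fun g h => by simp [Matrix.map_mul] }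
  have hφ : Function.Injective φ := fun g h e =>
    Subtype.ext (Matrix.map_injective (algebraMap K L).injective e)
  have hdiag : ∀ k : ℕ, φ (s ^ k) * P = P * Matrix.diagonal ![ξ ^ k, ξ⁻¹ ^ k] := by
    intro k
    induction k with
    | zero =>
      rw [pow_zero, map_one, one_mul]
      ext i j; fin_cases i <;> fin_cases j <;> simp [Matrix.mul_apply, Fin.sum_univ_two]
    | succ k ih =>
      have h1 : φ s * P = P * Matrix.diagonal ![ξ, ξ⁻¹] := by
        have hs : φ s = !![0, -1; 1, algebraMap K L (2 * c)] := by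
          show (!![0, -1; 1, 2 * c] : Matrix (Fin 2) (Fin 2) K).map (algebraMap K L) = _
          ext i j; fin_cases i <;> fin_cases j <;> simp
        rw [hs, hc]
        ext i j
        fin_cases i <;> fin_cases j <;>
          simp [P, Matrix.mul_apply, Fin.sum_univ_two, add_mul, hξ0]
      rw [pow_succ, map_mul, mul_assoc, h1, ← mul_assoc, ih, mul_assoc, Matrix.diagonal_mul_diagonal]
      congr 2
      ext i
      fin_cases i <;> simp [pow_succ]
  have hcancel : ∀ A B : Matrix (Fin 2) (Fin 2) L, A * P = B * P → A = B := fun A B h => by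
    have := congrArg (· * P⁻¹) h
    simpa [mul_assoc, Matrix.mul_nonsing_inv P (isUnit_iff_ne_zero.2 hP)] using this
  have hiff : ∀ k : ℕ, s ^ k = 1 ↔ ξ ^ k = 1 := by
    intro k
    constructor
    · intro h
      have h2 := hdiag k
      rw [h, map_one, one_mul] at h2
      have := congrFun (congrFun h2 0) 0
      simpa [P, Matrix.mul_apply, Fin.sum_univ_two, eq_comm] using this
    · intro h
      apply hφ
      apply hcancel
      rw [hdiag, h, inv_pow, h, map_one, one_mul]
      ext i j; fin_cases i <;> fin_cases j <;> simp [Matrix.mul_apply, Fin.sum_univ_two]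
  have hord : orderOf s = 2 * n := by
    rw [orderOf_eq_iff (by omega)]
    exact ⟨(hiff _).2 hξ.pow_eq_one, fun m hm hm0 h =>
      hξ.pow_ne_one_of_pos_of_lt hm0.ne' hm ((hiff m).1 h)⟩
  have hττ : φ (τ * τ) = -1 := by
    have : ((τ * τ : Matrix.SpecialLinearGroup (Fin 2) K) : Matrix (Fin 2) (Fin 2) K) = -1 := by
      rw [Matrix.SpecialLinearGroup.coe_mul]
      exact sq_eq_neg_one _ τ.2 (by simp [τ])
    show (((τ * τ : Matrix.SpecialLinearGroup (Fin 2) K) : Matrix (Fin 2) (Fin 2) K)).map _ = _
    rw [this]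
    ext i j; fin_cases i <;> fin_cases j <;> simp
  have hsn : s ^ n = τ * τ := by
    apply hφ
    apply hcancel
    rw [hdiag, hξn, inv_pow, hξn, hττ]
    ext i j; fin_cases i <;> fin_cases j <;> simp [P, Matrix.mul_apply, Fin.sum_univ_two]
  have hτs : τ * s * (τ * s) = τ * τ := by
    apply Subtype.ext
    rw [Matrix.SpecialLinearGroup.coe_mul (τ * s) (τ * s), Matrix.SpecialLinearGroup.coe_mul τ τ,
      sq_eq_neg_one _ (τ * s).2 (by
        simp [τ, s, Matrix.mul_apply, Fin.sum_univ_two]; ring),
      sq_eq_neg_one _ τ.2 (by simp [τ])]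
  have hconj : SemiconjBy τ s⁻¹ s := by
    have h1 : s * τ * s = τ := mul_left_cancel (a := τ) (by simpa [mul_assoc] using hτs)
    show τ * s⁻¹ = s * τ
    rw [mul_inv_eq_iff_eq_mul, h1]
  let p : ZMod (2 * n) → Matrix.SpecialLinearGroup (Fin 2) K := fun i => s ^ i.val
  have padd : ∀ i j, p (i + j) = p i * p j := fun i j => by
    simp only [p]
    rw [ZMod.val_add, ← pow_add]
    conv_rhs => rw [← pow_mod_orderOf, hord]
  have p0 : p 0 = 1 := by simp [p]
  have pneg : ∀ i, p (-i) = (p i)⁻¹ := fun i => by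
    rw [eq_inv_iff_mul_eq_one, ← padd, neg_add_cancel, p0]
  have pn : p (n : ZMod (2 * n)) = τ * τ := by
    show s ^ (n : ZMod (2 * n)).val = _
    rw [ZMod.val_natCast, Nat.mod_eq_of_lt (by omega), hsn]
  have psub : ∀ i j, p (i - j) = (p j)⁻¹ * p i := fun i j => by
    rw [show i - j = -j + i by ring, padd, pneg]
  have pτ : ∀ i, p i * τ = τ * (p i)⁻¹ := fun i => by
    show s ^ i.val * τ = τ * (s ^ i.val)⁻¹
    rw [← inv_pow]
    exact (hconj.pow_right _).eq.symm
  let f : QuaternionGroup n →* Matrix.SpecialLinearGroup (Fin 2) K :=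
    MonoidHom.mk' (fun q => match q with
      | QuaternionGroup.a i => p i
      | QuaternionGroup.xa i => τ * p i) (by
      rintro (i | i) (j | j)
      · simp only [QuaternionGroup.a_mul_a, padd]
      · simp only [QuaternionGroup.a_mul_xa, psub]
        rw [← mul_assoc, ← pτ, mul_assoc]
      · simp only [QuaternionGroup.xa_mul_a, padd, mul_assoc]
      · simp only [QuaternionGroup.xa_mul_xa]
        rw [show (n : ZMod (2 * n)) + j - i = n + (j - i) by ring, padd, pn, psub,
          ← mul_assoc, mul_assoc τ τ, ← pτ, mul_assoc τ (p i * τ), mul_assoc (p i) τ]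
        simp only [mul_assoc])
  refine ⟨f, (injective_iff_map_eq_one f).2 ?_⟩
  rintro (i | i) h
  · change p i = 1 at h
    have hd : orderOf s ∣ i.val := orderOf_dvd_of_pow_eq_one h
    rw [hord] at hd
    have hi : i.val = 0 := Nat.eq_zero_of_dvd_of_lt hd (ZMod.val_lt i)
    rw [(ZMod.val_eq_zero i).1 hi]; rfl
  · exfalso
    change τ * p i = 1 at h
    have hcomm : Commute τ s⁻¹ := by
      rw [mul_eq_one_iff_eq_inv.1 h]
      exact (Commute.pow_self s i.val).inv_inv
    have h2 : s ^ 2 = 1 := by
      have : s⁻¹ * τ = s * τ := hcomm.eq.symm.trans hconj.eq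
      have h' := mul_right_cancel this
      rw [pow_two]
      nth_rw 1 [← h']
      exact inv_mul_cancel s
    have hd := orderOf_dvd_of_pow_eq_one h2
    rw [hord] at hd
    have := Nat.le_of_dvd two_pos hd
    omega

end Groth.Agent.S14849
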