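import Groth.Statements.S1485
import Groth.Agent.Lib.FibH1_18.Point

set_option autoImplicit false
set_option linter.style.haveILetI false
set_option maxHeartbeats 1000000
set_option backward.isDefEq.respectTransparency false
set_option backward.isDefEq.respectTransparency.types false
-- import your own Groth.Agent.* helpers here

set_option autoImplicit false
universe u
open FlatMor

namespace Groth.Agent.S1485

open AlgebraicGeometry CategoryTheory Limits in
/-- Let f : X → Y be proper and y a point with fibre of dimension ≤ 1. Suppose there is a morphism g :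
Y' → Y whose image contains y such that, for the base change f' : X' → Y', H^1 of the structure
sheaf vanishes over the preimage of every affine open of Y' (that is, R^1 f'_* O = 0; taking g the
identity covers the case R^1 f_* O_X = 0). Then H^1(X_y, O_{X_y}) = 0. -/
theorem result {X Y Y' : Scheme.{u}} (f : X ⟶ Y) [IsProper f] (y : Y) (hdim : topologicalKrullDim ↑(f.fiber y) ≤ 1)
    (g : Y' ⟶ Y) (hy : y ∈ Set.range ⇑g)
    (hR1 : ∀ U : Y'.Opens, IsAffineOpen U → Subsingleton (Coh.HHon (pullback f g) (Coh.structureModule (pullback f g)) (pullback.snd f g ⁻¹ᵁ U) 1)) :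
    Subsingleton (Coh.HH (f.fiber y) (Coh.structureModule (f.fiber y)) 1) := by
  obtain ⟨y', rfl⟩ := hy
  obtain ⟨V₀, hyV, hV, hd'⟩ := Groth.Agent.VanFib13.exists_affine_nhd f (g y') 1 (by simpa using hdim)
  have hd : ∀ w ∈ V₀, topologicalKrullDim ↥(f ⁻¹' {w} : Set X) ≤ 1 := fun w hw => by simpa using hd' w hw
  obtain ⟨c⟩ := Groth.Agent.FibH1_18.nonempty_cov (A := Γ(Y, V₀)) (pullback.snd f hV.fromSpec)
  have hO := Groth.Agent.M1.isCoh_structureModule (pullback f hV.fromSpec)
  obtain ⟨U, hU, hyU, e⟩ := exists_isAffineOpen_mem_and_subset (X := Y') (x := y') (U := g ⁻¹ᵁ V₀) hyV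
  letI : Algebra Γ(Y, V₀) Γ(Y', U) := (g.appLE V₀ U e).hom.toAlgebra
  have hB := (Groth.Agent.FibH1_18.vanH_iff_HHon f (IsPullback.of_hasPullback f g) hV c hU e).2 (hR1 U hU)
  let q := (hU.primeIdealOf ⟨y', hyU⟩).asIdeal
  have hq : (hV.primeIdealOf ⟨g y', hyV⟩).asIdeal = Ideal.comap (g.appLE V₀ U e).hom q := by
    have h : Spec.map (g.appLE V₀ U e) (hU.primeIdealOf ⟨y', hyU⟩) = hV.primeIdealOf ⟨g y', hyV⟩ := by
      refine hV.fromSpec.isOpenEmbedding.injective ?_
      rw [hV.fromSpec_primeIdealOf, ← Scheme.Hom.comp_apply, IsAffineOpen.SpecMap_appLE_fromSpec g hV hU e,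
        Scheme.Hom.comp_apply, hU.fromSpec_primeIdealOf]
    rw [← h]; rfl
  have hK : RingHom.ker (algebraMap Γ(Y, V₀) q.ResidueField) = (hV.primeIdealOf ⟨g y', hyV⟩).asIdeal := by
    rw [hq, IsScalarTower.algebraMap_eq Γ(Y, V₀) Γ(Y', U) q.ResidueField, ← RingHom.comap_ker,
      Ideal.ker_algebraMap_residueField]
    rfl
  have hp := Groth.Agent.FibH1_18.vanH_residueField (A := Γ(Y, V₀)) _ (Groth.Agent.FibH1_18.dim_chart f hV hd) c
    hO.1 _ q.ResidueField hK (Groth.Agent.FibH1_18.vanH_of_algebra (A := Γ(Y, V₀)) _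
      (Groth.Agent.FibH1_18.dim_chart f hV hd) c hO.1 Γ(Y', U) _ hB)
  obtain ⟨φ, hker, hiff⟩ := Groth.Agent.FibH1_18.vanH_iff_fiber f hV c hyV
  let p := (hV.primeIdealOf ⟨g y', hyV⟩).asIdeal
  letI : Algebra Γ(Y, V₀) (Y.residueField (g y')) := φ.hom.toAlgebra
  let j : p.ResidueField →+* Y.residueField (g y') := Ideal.ResidueField.lift p φ.hom hker.ge (fun a ha => by
    refine isUnit_iff_ne_zero.2 fun h0 => ha ?_
    have h1 : a ∈ RingHom.ker φ.hom := h0
    rwa [hker] at h1)
  letI : Algebra p.ResidueField (Y.residueField (g y')) := j.toAlgebra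
  haveI : IsScalarTower Γ(Y, V₀) p.ResidueField (Y.residueField (g y')) :=
    IsScalarTower.of_algebraMap_eq fun a => (Ideal.ResidueField.lift_algebraMap _ _ _ _ a).symm
  exact hiff.1 (Groth.Agent.FibH1_18.vanH_of_algebra (A := Γ(Y, V₀)) _
    (Groth.Agent.FibH1_18.dim_chart f hV hd) c hO.1 p.ResidueField _ hp)

end Groth.Agent.S1485
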