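import Groth.Statements.S14850
import Groth.Agent.Lib.CoalgH23.Coef

set_option autoImplicit false
universe u v
open HopfRep

namespace Groth.Agent.S14850

open scoped Groth.Agent.CoalgH23
open Groth.Agent.CoalgH23 WithConv

open TensorProduct in
/-- Over a field K, a nonzero coalgebra C is simple if and only if C is isotypic as a right comodule
over itself, i.e. C is the internal direct sum of the images of a family of injective comodule maps
from one simple right C-comodule E. Here a subcoalgebra of C is a subspace B whose comultiplication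
lands in the image of B ⊗ B, and C is simple when its only subcoalgebras are 0 and C. (Stated for
the right regular comodule; the published statement allows left or right.) -/
theorem result {K : Type u} {C : Type v} [Field K] [AddCommGroup C]
    [Module K C] [Coalgebra K C] [Nontrivial C] :
    (∀ B : Submodule K C, (∀ b ∈ B, CoalgebraStruct.comul (R := K) b ∈ LinearMap.range (TensorProduct.map B.subtype B.subtype)) → B = ⊥ ∨ B = ⊤) ↔
    ∃ (E : Type v) (_ : AddCommGroup E) (_ : Module K E) (_ : HopfRep.Comod K C E),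
      HopfRep.IsSimpleComod K C E ∧
      ∃ (ι : Type v) (f : ι → (E →ₗ[K] C)),
        (∀ i, Hoch.IsComodHom C (f i) ∧ Function.Injective (f i)) ∧
        iSupIndep (fun i => LinearMap.range (f i)) ∧ (⨆ i, LinearMap.range (f i)) = ⊤ := by
  constructor
  · intro h
    obtain ⟨E, -, hE, hEf⟩ := exists_simple_le (k := K) (C := C) (V := C)
      (M := (⊤ : Submodule (WithConv (C →ₗ[K] K)) C)) top_ne_bot
    have hcoef : coef (E.restrictScalars K) = ⊤ := (h _ (isSubcoalg_coef (isSubcomod_restrictScalars E))).resolve_left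
      (coef_ne_bot ((isSimpleModule_iff_minimal E).1 hE).1)
    have hkill : ∀ χ : WithConv (C →ₗ[K] K), Ann (coef (E.restrictScalars K)) χ → ∀ c : C, χ • c = 0 := by
      intro χ hχ c
      have : χ = 0 := WithConv.ofConv_injective (LinearMap.ext fun d => hχ d (hcoef.symm ▸ Submodule.mem_top))
      subst this
      exact LinearMap.congr_fun (map_zero (repHom K C C)) c
    have hss : IsSemisimpleModule (WithConv (C →ₗ[K] K)) C := by
      refine isSemisimpleModule_of_isSemisimpleModule_submodule'
        (p := fun c : C => Submodule.span (WithConv (C →ₗ[K] K)) {c}) (fun c => ?_)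
        (eq_top_iff.2 fun c _ => Submodule.mem_iSup_of_mem c (Submodule.mem_span_singleton_self c))
      obtain ⟨n, e, he⟩ := exists_span_fin E
      exact isSemisimpleModule_of_ann e c fun χ hχ => hkill χ (he χ hχ) c
    obtain ⟨s, ind, hs, hsimple⟩ := IsSemisimpleModule.exists_sSupIndep_sSup_simples_eq_top (WithConv (C →ₗ[K] K)) C
    have hT : ∀ T : s, Nonempty (T.1 ≃ₗ[WithConv (C →ₗ[K] K)] E) := fun T => by
      have := hsimple T.1 T.2
      exact nonempty_equiv_of_killed E T.1 fun χ hχ t _ => hkill χ hχ t
    let ψ := fun T => (hT T).some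
    letI := subComod E
    let f : s → ((E.restrictScalars K) →ₗ[K] C) := fun T =>
      { toFun := fun x => ((ψ T).symm ⟨x.1, x.2⟩ : C)
        map_add' := fun x y => congrArg Subtype.val ((ψ T).symm.map_add ⟨x.1, x.2⟩ ⟨y.1, y.2⟩)
        map_smul' := fun a x => by
          have := congrArg Subtype.val ((ψ T).symm.map_smul (algebraMap K (WithConv (C →ₗ[K] K)) a) ⟨x.1, x.2⟩)
          simp only [Submodule.coe_smul, algebraMap_smul'] at this
          refine Eq.trans ?_ this
          exact congrArg (fun z : E => ((ψ T).symm z : C)) (Subtype.ext (algebraMap_smul' (C := C) a x.1).symm) }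
    have hrange : ∀ T : s, LinearMap.range (f T) = T.1.restrictScalars K := fun T => by
      ext c
      constructor
      · rintro ⟨x, rfl⟩; exact ((ψ T).symm ⟨x.1, x.2⟩).2
      · intro hc
        refine ⟨⟨((ψ T) ⟨c, hc⟩).1, ((ψ T) ⟨c, hc⟩).2⟩, ?_⟩
        exact congrArg Subtype.val ((ψ T).symm_apply_apply ⟨c, hc⟩)
    refine ⟨E.restrictScalars K, inferInstance, inferInstance, inferInstance, isSimpleComod_subComod E hE, s, f,
      fun T => ⟨isComodHom_iff.2 fun χ x => ?_, fun x y hxy => ?_⟩, ?_, ?_⟩
    · have h1 : ((χ • x : E.restrictScalars K) : C) = χ • (x : C) := isComodHom_iff.1 (isComodHom_subtype E) χ x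
      refine (congrArg (fun z => ((ψ T).symm z : C)) (?_ : (⟨((χ • x : E.restrictScalars K) : C), (χ • x : E.restrictScalars K).2⟩ : E) = χ • ⟨x.1, x.2⟩)).trans
        (congrArg Subtype.val ((ψ T).symm.map_smul χ ⟨x.1, x.2⟩))
      exact Subtype.ext h1
    · exact Subtype.ext (congrArg (fun z : E => (z : C)) ((ψ T).symm.injective (Subtype.ext hxy)))
    · refine iSupIndep_def.2 fun T => Submodule.disjoint_def.2 fun x hx hx' => ?_
      simp only [hrange] at hx hx'
      refine Submodule.disjoint_def.1 (iSupIndep_def.1 ((sSupIndep_iff _).1 ind) T) x hx ?_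
      have hle : (⨆ (N : s) (_ : N ≠ T), N.1.restrictScalars K) ≤ (⨆ (N : s) (_ : N ≠ T), N.1).restrictScalars K :=
        iSup₂_le fun N hN y hy => le_iSup₂ (f := fun (N : s) (_ : N ≠ T) => N.1) N hN hy
      exact hle hx'
    · simp only [hrange]
      refine eq_top_iff.2 fun v _ => restrictScalars_iSup_le _ ?_
      rw [Submodule.restrictScalars_mem, ← sSup_eq_iSup', hs]
      exact Submodule.mem_top
  · rintro ⟨E, _, _, _, hE, ι, f, hf, -, hsum⟩ B hB
    refine or_iff_not_imp_left.2 fun hB0 => ?_
    have := isSimpleComod_iff.1 hE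
    let F : ι → E →ₗ[WithConv (C →ₗ[K] K)] C := fun i => toDual (C := C) (f i) (hf i).1
    have htop : ∀ c : C, c ∈ ⨆ i, LinearMap.range (F i) := fun c => by
      have hle : (⨆ i, LinearMap.range (f i)) ≤ (⨆ i, LinearMap.range (F i)).restrictScalars K :=
        iSup_le fun i x hx => le_iSup (fun i => LinearMap.range (F i)) i hx
      exact hle (hsum ▸ Submodule.mem_top)
    obtain ⟨T, hTB, hT, -⟩ := exists_simple_le (k := K) (C := C) (V := C) (M := ofSub B (IsSubcoalg.isSubcomod hB))
      fun h => hB0 (by rw [← ofSub_restrictScalars (IsSubcoalg.isSubcomod hB), h]; exact Submodule.restrictScalars_bot K _ C)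
    obtain ⟨i, ⟨e⟩⟩ := exists_equiv_of_le_iSup_range (fun _ : ι => E) F T (fun c _ => htop c)
    rw [Submodule.eq_top_iff']
    by_contra! hc
    obtain ⟨c, hc⟩ := hc
    obtain ⟨χ, hχ, hne⟩ := exists_ann hc
    have hE0 : ∀ x : E, χ • x = 0 := fun x => by
      refine e.map_eq_zero_iff.1 ?_
      rw [map_smul]
      exact Subtype.ext (IsSubcoalg.smul_eq_zero hB hχ (hTB (e x).2))
    have hker : (⨆ i, LinearMap.range (f i)) ≤ LinearMap.ker (DistribSMul.toLinearMap K C χ) :=
      iSup_le fun i => by
        rintro _ ⟨x, rfl⟩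
        show χ • f i x = 0
        rw [← isComodHom_iff.1 (hf i).1, hE0, map_zero]
    have hC : slice χ.ofConv (CoalgebraStruct.comul (R := K) c) = 0 := hker (hsum ▸ Submodule.mem_top)
    have h1 : χ = 1 * χ := (one_mul χ).symm
    rw [h1, convMul_apply_slice, hC, map_zero] at hne
    exact hne rfl

end Groth.Agent.S14850
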