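import Groth.Statements.S14851
import Groth.Agent.Lib.CoalgH23.Coef

set_option autoImplicit false
universe u v w w'
open HopfRep

namespace Groth.Agent.S14851

open scoped Groth.Agent.CoalgH23
open Groth.Agent.CoalgH23 WithConv

open TensorProduct in
/-- The map E ↦ C(E) from isomorphism classes of simple comodules to simple subcoalgebras is injective,
that is: over a field K, two simple right comodules E, E' over a coalgebra C with the same
coefficient space D (the least subspace D' of C such that the coaction lands in E ⊗ D', resp. E' ⊗
D') are isomorphic as comodules. (The published statement is made for a cosemisimple coalgebra and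
for left comodules; the printed argument for this part uses neither restriction.) -/
theorem result {K : Type u} {C : Type v} [Field K]
    [AddCommGroup C] [Module K C] [Coalgebra K C]
    {E : Type w} [AddCommGroup E] [Module K E] [HopfRep.Comod K C E]
    {E' : Type w'} [AddCommGroup E'] [Module K E'] [HopfRep.Comod K C E']
    (hE : HopfRep.IsSimpleComod K C E) (hE' : HopfRep.IsSimpleComod K C E') (D : Submodule K C)
    (hD : IsLeast {D' : Submodule K C |
      ∀ e : E, HopfRep.Comod.coact (k := K) (A := C) e ∈ LinearMap.range (LinearMap.lTensor E D'.subtype)} D)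
    (hD' : IsLeast {D' : Submodule K C |
      ∀ e : E', HopfRep.Comod.coact (k := K) (A := C) e ∈ LinearMap.range (LinearMap.lTensor E' D'.subtype)} D) :
    ∃ e : E ≃ₗ[K] E', Hoch.IsComodHom C e.toLinearMap := by
  have := finite_of_isSimple hE
  have := isSimpleComod_iff.1 hE
  have := isSimpleComod_iff.1 hE'
  obtain rfl := hD.unique isLeast_coef
  have heq := hD'.unique isLeast_coef
  let b := Module.finBasis K E
  obtain ⟨f⟩ := nonempty_equiv_of_annihilator (R := WithConv (C →ₗ[K] K)) (S := E) (T := E') (b : _ → E) fun χ h t => by
    have h1 : DistribSMul.toLinearMap K E χ = 0 := b.ext h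
    have h2 : Ann (coef (C := C) (⊤ : Submodule K E')) χ := by
      rw [← heq]
      exact ann_coef_iff.2 fun e _ => LinearMap.congr_fun h1 e
    exact ann_coef_iff.1 h2 t Submodule.mem_top
  exact ⟨ofDualEquiv f.symm, isComodHom_ofDualEquiv _⟩

end Groth.Agent.S14851
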