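import Groth.Statements.S14852
import Groth.Agent.Lib.CoalgH23.Coef

set_option autoImplicit false
universe u v w w'
open HopfRep

namespace Groth.Agent.S14852

open scoped Groth.Agent.CoalgH23
open Groth.Agent.CoalgH23 WithConv

open TensorProduct in
/-- Over a field K, let C be a cosemisimple coalgebra and D₁ ≠ D₂ simple subcoalgebras of C. If V is a
right C-comodule whose coaction lands in V ⊗ D₁ and W one whose coaction lands in W ⊗ D₂, then the
only comodule map V → W is zero. Here a subcoalgebra of C is a subspace B whose comultiplication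
lands in the image of B ⊗ B, and a simple subcoalgebra is a nonzero subcoalgebra D whose only
subcoalgebras contained in D are 0 and D; cosemisimple means C is the internal direct sum of a
family of simple subcoalgebras. (The published statement is for quasi-coherent G-sheaves on a scheme
with trivial action of G = Spec C; this row is the statement on spaces of sections to which its
proof reduces.) -/
theorem result {K : Type u} {C : Type v} [Field K]
    [AddCommGroup C] [Module K C] [Coalgebra K C]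
    (hC : ∃ (ι : Type v) (D : ι → Submodule K C), iSupIndep D ∧ iSup D = ⊤ ∧ ∀ i,
        D i ≠ ⊥ ∧ (∀ b ∈ (D i), CoalgebraStruct.comul (R := K) b ∈ LinearMap.range (TensorProduct.map (D i).subtype (D i).subtype)) ∧
        ∀ B : Submodule K C, B ≤ D i → (∀ b ∈ B, CoalgebraStruct.comul (R := K) b ∈ LinearMap.range (TensorProduct.map B.subtype B.subtype)) → B = ⊥ ∨ B = D i)
    (D₁ D₂ : Submodule K C) (hne : D₁ ≠ D₂)
    (h₁ : D₁ ≠ ⊥ ∧ (∀ b ∈ D₁, CoalgebraStruct.comul (R := K) b ∈ LinearMap.range (TensorProduct.map D₁.subtype D₁.subtype)) ∧ ∀ B : Submodule K C, B ≤ D₁ → (∀ b ∈ B, CoalgebraStruct.comul (R := K) b ∈ LinearMap.range (TensorProduct.map B.subtype B.subtype)) → B = ⊥ ∨ B = D₁)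
    (h₂ : D₂ ≠ ⊥ ∧ (∀ b ∈ D₂, CoalgebraStruct.comul (R := K) b ∈ LinearMap.range (TensorProduct.map D₂.subtype D₂.subtype)) ∧ ∀ B : Submodule K C, B ≤ D₂ → (∀ b ∈ B, CoalgebraStruct.comul (R := K) b ∈ LinearMap.range (TensorProduct.map B.subtype B.subtype)) → B = ⊥ ∨ B = D₂)
    {V : Type w} [AddCommGroup V] [Module K V] [HopfRep.Comod K C V]
    {W : Type w'} [AddCommGroup W] [Module K W] [HopfRep.Comod K C W]
    (hV : ∀ v : V, HopfRep.Comod.coact (k := K) (A := C) v ∈ LinearMap.range (LinearMap.lTensor V D₁.subtype))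
    (hW : ∀ w : W, HopfRep.Comod.coact (k := K) (A := C) w ∈ LinearMap.range (LinearMap.lTensor W D₂.subtype))
    (φ : V →ₗ[K] W) (hφ : Hoch.IsComodHom C φ) : φ = 0 := by
  have hB : IsSubcoalg (D₁ ⊓ D₂) := isSubcoalg_of_ann_mul fun χ ψ hor => by
    have key : ∀ x : WithConv (C →ₗ[K] K), Ann (D₁ ⊓ D₂) x →
        ∃ a b, Ann D₁ a ∧ Ann D₂ b ∧ a + b = x := by
      intro x hx
      have hmem : x.ofConv ∈ (D₁ ⊓ D₂).dualAnnihilator := (Submodule.mem_dualAnnihilator _).2 hx
      rw [Subspace.dualAnnihilator_inf_eq] at hmem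
      obtain ⟨a, ha, b, hb, hab⟩ := Submodule.mem_sup.1 hmem
      exact ⟨toConv a, toConv b, (Submodule.mem_dualAnnihilator _).1 ha, (Submodule.mem_dualAnnihilator _).1 hb,
        congrArg toConv hab⟩
    intro c hc
    rcases hor with h | h
    · obtain ⟨a, b, ha, hb, rfl⟩ := key χ h
      rw [add_mul, WithConv.ofConv_add, LinearMap.add_apply,
        (show IsSubcoalg D₁ from h₁.2.1).ann_mul a ψ (Or.inl ha) c hc.1,
        (show IsSubcoalg D₂ from h₂.2.1).ann_mul b ψ (Or.inl hb) c hc.2, add_zero]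
    · obtain ⟨a, b, ha, hb, rfl⟩ := key ψ h
      rw [mul_add, WithConv.ofConv_add, LinearMap.add_apply,
        (show IsSubcoalg D₁ from h₁.2.1).ann_mul χ a (Or.inr ha) c hc.1,
        (show IsSubcoalg D₂ from h₂.2.1).ann_mul χ b (Or.inr hb) c hc.2, add_zero]
  have hbot : D₁ ⊓ D₂ = ⊥ := (h₁.2.2 _ inf_le_left hB).resolve_right fun e => by
    have hle : D₁ ≤ D₂ := inf_eq_left.1 e
    exact (h₂.2.2 D₁ hle h₁.2.1).elim h₁.1 hne
  obtain ⟨a, ha, b, hb, hab⟩ : ∃ a ∈ D₁.dualAnnihilator, ∃ b ∈ D₂.dualAnnihilator,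
      a + b = CoalgebraStruct.counit (R := K) (A := C) := by
    refine Submodule.mem_sup.1 ?_
    rw [← Subspace.dualAnnihilator_inf_eq, hbot, Submodule.dualAnnihilator_bot]
    trivial
  refine LinearMap.ext fun v => ?_
  have h1 : (1 : WithConv (C →ₗ[K] K)) = toConv a + toConv b := by
    rw [← toConv_add, hab, LinearMap.convOne_def]
    congr 1
  rw [LinearMap.zero_apply, ← one_smul (WithConv (C →ₗ[K] K)) (φ v), h1, add_smul,
    smul_eq_zero_of_coact_mem (D := D₂) ((Submodule.mem_dualAnnihilator _).1 hb) (hW (φ v)), add_zero,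
    ← isComodHom_iff.1 hφ, smul_eq_zero_of_coact_mem (D := D₁) ((Submodule.mem_dualAnnihilator _).1 ha) (hV v), map_zero]

end Groth.Agent.S14852
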