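import Groth.Statements.S14856
import Mathlib
import Groth.Agent.Lib.CI2.ValSubDedekind

set_option autoImplicit false
universe u
open CAlg

namespace Groth.Agent.S14856
open scoped TensorProduct
open Polynomial

/-- Let p be a prime and S a commutative ring in which p is a non-zero-divisor. For a p-typical Witt
vector x over S, a natural number m and an integer s ≥ 1, the power p^s divides each of the Witt
components x_0, …, x_m if and only if p^(n+s) divides the n-th ghost component w_n(x) = x_0^(p^n) +
p x_1^(p^(n-1)) + ⋯ + p^n x_n for every n ≤ m. -/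
theorem result (p : ℕ) [Fact p.Prime] (S : Type u) [CommRing S]
    (hS : ∀ y : S, (p : S) * y = 0 → y = 0) (x : WittVector p S) (m s : ℕ) (hs : 1 ≤ s) :
    (∀ i ≤ m, (p : S) ^ s ∣ x.coeff i) ↔
      (∀ n ≤ m, (p : S) ^ (n + s) ∣ WittVector.ghostComponent n x) := by
  have hg : ∀ n, WittVector.ghostComponent n x = ∑ j ∈ Finset.range (n + 1), (p : S) ^ j * x.coeff j ^ p ^ (n - j) := fun n => by
    rw [WittVector.ghostComponent_apply, wittPolynomial_eq_sum_C_mul_X_pow, map_sum]
    exact Finset.sum_congr rfl fun j _ => by simp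
  have hterm : ∀ n j, j ≤ n → (p : S) ^ s ∣ x.coeff j → (p : S) ^ (n + s) ∣ (p : S) ^ j * x.coeff j ^ p ^ (n - j) := by
    rintro n j hj ⟨c, hc⟩
    rw [hc, mul_pow, ← pow_mul, ← mul_assoc, ← pow_add]
    refine dvd_mul_of_dvd_left (pow_dvd_pow _ ?_) _
    have h1 : n - j < p ^ (n - j) := Nat.lt_pow_self (Fact.out : p.Prime).one_lt
    have h2 : n - j + s ≤ s * p ^ (n - j) := by
      calc n - j + s ≤ s * (n - j) + s := by have := Nat.le_mul_of_pos_left (n - j) hs; omega
        _ = s * (n - j + 1) := by ring
        _ ≤ _ := Nat.mul_le_mul_left _ h1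
    omega
  have hcancel : ∀ (i : ℕ) (y : S), (p : S) ^ i * y = 0 → y = 0 := by
    intro i
    induction i with
    | zero => intro y h; simpa using h
    | succ i ih => intro y h; exact ih y (hS _ (by rw [← mul_assoc, ← pow_succ']; exact h))
  constructor
  · intro h n hn
    rw [hg]
    exact Finset.dvd_sum fun j hj =>
      hterm n j (Nat.lt_succ_iff.1 (Finset.mem_range.1 hj)) (h j ((Nat.lt_succ_iff.1 (Finset.mem_range.1 hj)).trans hn))
  · intro h i
    induction i using Nat.strong_induction_on with
    | _ i ih =>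
      intro hi
      have h1 := h i hi
      rw [hg, Finset.sum_range_succ] at h1
      have h2 : (p : S) ^ (i + s) ∣ ∑ j ∈ Finset.range i, (p : S) ^ j * x.coeff j ^ p ^ (i - j) :=
        Finset.dvd_sum fun j hj => hterm i j (Finset.mem_range.1 hj).le
          (ih j (Finset.mem_range.1 hj) ((Finset.mem_range.1 hj).le.trans hi))
      obtain ⟨c, hc⟩ := (dvd_add_right h2).1 h1
      rw [Nat.sub_self, pow_zero, pow_one, pow_add, mul_assoc] at hc
      exact ⟨c, sub_eq_zero.1 (hcancel i _ (by rw [mul_sub, hc, sub_self]))⟩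

end Groth.Agent.S14856
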