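import Groth.Statements.S14857
import Mathlib.Algebra.Module.FinitePresentation
import Mathlib.RingTheory.Henselian
import Mathlib.RingTheory.WittVector.Identities
import Mathlib.RingTheory.WittVector.Teichmuller
import Mathlib.RingTheory.WittVector.Domain
import Mathlib.Combinatorics.Nullstellensatz
import Mathlib.NumberTheory.Padics.PadicIntegers
import Mathlib.FieldTheory.Finite.Polynomial
import Mathlib.RingTheory.Polynomial.Basic
import Mathlib.RingTheory.Flat.Basic
import Mathlib.LinearAlgebra.Contraction
import Mathlib.LinearAlgebra.TensorProduct.RightExactness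

set_option autoImplicit false
open CAlg

namespace Groth.Agent.S14857
open TensorProduct

/-- For a prime p, the Teichmüller representative [p^p] of the element p^p of the p-adic integers is
divisible by p in the ring of p-typical Witt vectors W(ℤ_p). -/
theorem result (p : ℕ) [Fact p.Prime] :
    (p : WittVector p ℤ_[p]) ∣ WittVector.teichmuller p ((p : ℤ_[p]) ^ p) := by
  set t := WittVector.teichmuller p (p : ℤ_[p])
  set y := (t - p : WittVector p ℤ_[p]).shift 1
  have hy : t - p = WittVector.verschiebung y := by
    refine (WittVector.eq_iterate_verschiebung (n := 1) fun i hi => ?_)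
    rw [Nat.lt_one_iff.1 hi]
    change WittVector.constantCoeff (t - (p : WittVector p ℤ_[p])) = 0
    rw [map_sub, map_natCast]
    exact sub_eq_zero.2 (WittVector.teichmuller_coeff_zero p _)
  have hsq : (p : WittVector p ℤ_[p]) ∣ (t - p) ^ 2 := by
    rw [hy, sq, ← WittVector.verschiebung_mul_frobenius, WittVector.frobenius_verschiebung]
    rw [show y * (y * p) = p • (y * y) by rw [nsmul_eq_mul]; ring, map_nsmul, nsmul_eq_mul]
    exact dvd_mul_right _ _
  have h2 : (p : WittVector p ℤ_[p]) ∣ t ^ 2 := by
    rw [show t ^ 2 = (t - p) ^ 2 + p * (2 * t - p) by ring]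
    exact dvd_add hsq (dvd_mul_right _ _)
  rw [map_pow]
  exact h2.trans (pow_dvd_pow _ (Fact.out : p.Prime).two_le)

end Groth.Agent.S14857
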