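import Groth.Statements.S14859
import Groth.Agent.Lib.Disp23.Key
import Mathlib.RingTheory.OrzechProperty
import Mathlib.RingTheory.FiniteType

set_option autoImplicit false
universe u v w
open Disp

namespace Groth.Agent.S14859

/-- Let p be a prime, R a commutative ring with p-typical Witt vectors W = W(R), and (P, Q, F, V⁻¹) a
3n-display over R with a normal decomposition P = L ⊕ T, Q = L + I_R·T. Then V⁻¹ ⊕ F : L ⊕ T → P is
a Frobenius-linear isomorphism; stated here in the case where L and T are free with bases (l_i) and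
(t_j): the family consisting of the V⁻¹(l_i) and the F(t_j) is a basis of the W-module P, i.e. it is
linearly independent over W and spans P. -/
theorem result (p : ℕ) [Fact p.Prime] (R : Type u) [CommRing R]
    (P : Type v) [AddCommGroup P] [Module (WittVector p R) P] (D : W4c1extbt610.Display3n p R P)
    (L T : Submodule (WittVector p R) P) (hLT : IsCompl L T)
    (hQ : D.Q = L ⊔ W4c1extbt610.IV p R • T) (hLQ : L ≤ D.Q)
    (ιL ιT : Type w) (bL : Module.Basis ιL (WittVector p R) L) (bT : Module.Basis ιT (WittVector p R) T) :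
    LinearIndependent (WittVector p R)
        (Sum.elim (fun i : ιL => D.Vinv ⟨(bL i : P), hLQ (bL i).2⟩) (fun j : ιT => D.F (bT j : P))) ∧
      Submodule.span (WittVector p R)
        (Set.range (Sum.elim (fun i : ιL => D.Vinv ⟨(bL i : P), hLQ (bL i).2⟩) (fun j : ιT => D.F (bT j : P)))) = ⊤ := by
  obtain ⟨φ, hφL, hφT, hφs⟩ := Disp23.exists_phi D hLT.symm hLQ
  have := D.finite
  let b : Module.Basis (ιL ⊕ ιT) (WittVector p R) P :=
    (bL.prod bT).map (Submodule.prodEquivOfIsCompl L T hLT)
  have hb : ∀ i, φ (b i) = Sum.elim (fun i : ιL => D.Vinv ⟨(bL i : P), hLQ (bL i).2⟩) (fun j : ιT => D.F (bT j : P)) i := by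
    rintro (i | j)
    · rw [show b (Sum.inl i) = (bL i : P) by simp [b]]
      exact hφL _ (bL i).2
    · rw [show b (Sum.inr j) = (bT j : P) by simp [b]]
      exact hφT _ (bT j).2
  have hspan : Submodule.span (WittVector p R)
      (Set.range (Sum.elim (fun i : ιL => D.Vinv ⟨(bL i : P), hLQ (bL i).2⟩) (fun j : ιT => D.F (bT j : P)))) = ⊤ := by
    rw [eq_top_iff, ← hφs hQ, Submodule.span_le]
    rintro _ ⟨x, rfl⟩
    rw [← b.linearCombination_repr x, Finsupp.linearCombination_apply, Finsupp.sum, map_sum]
    refine Submodule.sum_mem _ fun i _ => ?_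
    rw [LinearMap.map_smulₛₗ, hb]
    exact Submodule.smul_mem _ _ (Submodule.subset_span ⟨i, rfl⟩)
  refine ⟨?_, hspan⟩
  rcases subsingleton_or_nontrivial (WittVector p R) with hW | hW
  · exact linearIndependent_of_subsingleton
  have := Module.Finite.finite_basis b
  let g : P →ₗ[WittVector p R] P := b.constr ℕ
    (Sum.elim (fun i : ιL => D.Vinv ⟨(bL i : P), hLQ (bL i).2⟩) (fun j : ιT => D.F (bT j : P)))
  have hg : Function.Surjective g := by
    rw [← LinearMap.range_eq_top, Module.Basis.constr_range, hspan]
  have hinj := OrzechProperty.injective_of_surjective_endomorphism g hg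
  have := b.linearIndependent.map' g (LinearMap.ker_eq_bot.2 hinj)
  rwa [show g ∘ b = _ from funext fun i => b.constr_basis _ _ i] at this

end Groth.Agent.S14859
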