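import Groth.Statements.S14864
import Groth.Statements.S14051
import Groth.Statements.S9658
import Groth.Statements.S15329
import Groth.Statements.S14418
import Mathlib.RingTheory.WittVector.Identities
import Mathlib.RingTheory.WittVector.Domain
import Mathlib.RingTheory.WittVector.Truncated
import Mathlib.RingTheory.Nakayama
import Mathlib.Algebra.Homology.ShortComplex.ModuleCat
import Mathlib.Algebra.Homology.ShortComplex.ShortExact
import Mathlib.Algebra.Category.ModuleCat.EpiMono
import Mathlib.RingTheory.Ideal.AssociatedPrime.Finiteness

set_option autoImplicit false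
universe u
open CAlg

namespace Groth.Agent.S14864
open CAlg

open WittVector

variable {p : ℕ} [Fact p.Prime] {R : Type u} [CommRing R]

theorem eq_ver {x : WittVector p R} (h : x ∈ RingHom.ker (WittVector.constantCoeff : WittVector p R →+* R)) :
    ∃ y, x = verschiebung y := by
  refine ⟨x.shift 1, ?_⟩
  have h0 : x.coeff 0 = 0 := h
  simpa using eq_iterate_verschiebung (x := x) (n := 1) (fun i hi => by
    obtain rfl : i = 0 := by omega
    exact h0)

theorem ker_sq_le : (RingHom.ker (WittVector.constantCoeff : WittVector p R →+* R)) *
      RingHom.ker (WittVector.constantCoeff : WittVector p R →+* R) ≤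
    Ideal.span {(p : WittVector p R)} * RingHom.ker (WittVector.constantCoeff : WittVector p R →+* R) := by
  rw [Ideal.mul_le]
  intro a ha b hb
  obtain ⟨a, rfl⟩ := eq_ver ha
  obtain ⟨b, rfl⟩ := eq_ver hb
  rw [← verschiebung_mul_frobenius, frobenius_verschiebung, ← mul_assoc, mul_comm (a * b), ← nsmul_eq_mul,
    map_nsmul, nsmul_eq_mul]
  exact Ideal.mul_mem_mul (Ideal.mem_span_singleton_self _) (verschiebung_coeff_zero (a * b))

theorem pow_ker_le (n : ℕ) : (RingHom.ker (WittVector.constantCoeff : WittVector p R →+* R)) ^ (n + 1) ≤
    Ideal.span {(p : WittVector p R)} ^ n * RingHom.ker (WittVector.constantCoeff : WittVector p R →+* R) := by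
  induction n with
  | zero => simp
  | succ n ih =>
    calc _ = _ * _ := pow_succ _ _
      _ ≤ _ := Ideal.mul_mono_left ih
      _ ≤ _ := (mul_assoc _ _ _).le.trans (Ideal.mul_mono_right ker_sq_le)
      _ = _ := by rw [← mul_assoc, ← pow_succ]

/-- Let p be a prime and R a commutative ring in which p is nilpotent; write W = W(R) for the p-typical
Witt vectors, I ⊆ W for the kernel of the projection onto the zeroth component, and I_n ⊆ W for the
kernel of the truncation W → W_n(R). The p-adic topology on W equals its I-adic topology — every
power of the ideal pW contains some power of I and every power of I contains some power of pW — and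
this common topology is finer than the V-adic one: every I_n contains some power of pW. -/
theorem result (p : ℕ) [Fact p.Prime] (R : Type u) [CommRing R]
    (hp : IsNilpotent (p : R)) :
    (∀ n : ℕ, ∃ m : ℕ, (RingHom.ker (WittVector.constantCoeff : WittVector p R →+* R)) ^ m ≤ Ideal.span {(p : WittVector p R)} ^ n) ∧
      (∀ n : ℕ, ∃ m : ℕ, Ideal.span {(p : WittVector p R)} ^ m ≤ (RingHom.ker (WittVector.constantCoeff : WittVector p R →+* R)) ^ n) ∧
        ∀ n : ℕ, ∃ m : ℕ, Ideal.span {(p : WittVector p R)} ^ m ≤ RingHom.ker (WittVector.truncate (p := p) (R := R) n) := by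
  obtain ⟨k, hk⟩ := hp
  have hpk : (p : WittVector p R) ^ k ∈ RingHom.ker (WittVector.constantCoeff : WittVector p R →+* R) := by
    rw [RingHom.mem_ker, map_pow, map_natCast, hk]
  refine ⟨fun n => ⟨n + 1, (pow_ker_le n).trans Ideal.mul_le_left⟩, fun n => ⟨k * n, ?_⟩, fun n => ⟨k * n, ?_⟩⟩
  · rw [Ideal.span_singleton_pow, Ideal.span_le, Set.singleton_subset_iff, SetLike.mem_coe, pow_mul]
    exact Ideal.pow_mem_pow hpk n
  · rw [Ideal.span_singleton_pow, Ideal.span_le, Set.singleton_subset_iff, SetLike.mem_coe]
    have key : ∃ y, (p : WittVector p R) ^ (k * n) = verschiebung^[n] y := by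
      induction n with
      | zero => exact ⟨_, rfl⟩
      | succ n ih =>
        obtain ⟨y, hy⟩ := ih
        obtain ⟨z, hz⟩ := eq_ver hpk
        rw [Nat.mul_succ, pow_add, hy]
        refine ⟨z * WittVector.frobenius y, ?_⟩
        rw [iterate_verschiebung_mul_left, Function.iterate_succ_apply]
        congr 1
        have hf : ∀ j : ℕ, (WittVector.frobenius (p := p) (R := R))^[j] ((p : WittVector p R) ^ k) = (p : WittVector p R) ^ k := by
          intro j
          induction j with
          | zero => rfl
          | succ j ih => rw [Function.iterate_succ_apply', ih, map_pow, map_natCast]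
        rw [hf, hz, verschiebung_mul_frobenius, mul_comm]
    obtain ⟨y, hy⟩ := key
    rw [hy, WittVector.mem_ker_truncate]
    exact fun i hi => iterate_verschiebung_coeff_eq_zero _ hi

end Groth.Agent.S14864
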