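import Groth.Statements.S14860
import Groth.Agent.S14864
import Mathlib

set_option autoImplicit false
universe u v
open CAlg

namespace Groth.Agent.S14860
open CAlg
open scoped TensorProduct

variable {p : ℕ} [Fact p.Prime] {R : Type u} [CommRing R]
  {P : Type v} [AddCommGroup P] [Module (WittVector p R) P]

/-- the filtration on Witt vectors -/
noncomputable def K (p : ℕ) [Fact p.Prime] (R : Type u) [CommRing R] (n : ℕ) : Ideal (WittVector p R) :=
  RingHom.ker (WittVector.truncate (p := p) (R := R) n)

/-- the filtration on the module -/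
noncomputable def KP (p : ℕ) [Fact p.Prime] (R : Type u) [CommRing R] (P : Type v) [AddCommGroup P] [Module (WittVector p R) P] (n : ℕ) : Submodule (WittVector p R) P :=
  K p R n • ⊤

theorem mem_K {n : ℕ} {x : WittVector p R} : x ∈ K p R n ↔ ∀ i < n, x.coeff i = 0 :=
  WittVector.mem_ker_truncate n x

theorem trunc_eq {n : ℕ} {x y : WittVector p R} (h : x - y ∈ K p R n) {i : ℕ} (hi : i < n) :
    x.coeff i = y.coeff i := by
  have h1 : WittVector.truncate n x = WittVector.truncate n y := by
    rw [← sub_eq_zero, ← map_sub]; exact h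
  have := congrArg (TruncatedWittVector.coeff (⟨i, hi⟩ : Fin n)) h1
  rwa [WittVector.coeff_truncate, WittVector.coeff_truncate] at this

theorem K_mono {m n : ℕ} (h : m ≤ n) : K p R n ≤ K p R m := fun _ hx =>
  mem_K.2 fun i hi => mem_K.1 hx i (hi.trans_le h)

theorem KP_mono {m n : ℕ} (h : m ≤ n) : (KP p R P n : Submodule (WittVector p R) P) ≤ KP p R P m :=
  Submodule.smul_mono_left (K_mono h)

theorem exists_limit (z : ℕ → WittVector p R) (hz : ∀ n, z (n + 1) - z n ∈ K p R n) :
    ∃ a, ∀ n, a - z n ∈ K p R n := by
  have hch : ∀ m n, m ≤ n → z n - z m ∈ K p R m := by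
    intro m n h
    induction n, h using Nat.le_induction with
    | base => simp
    | succ n hn ih =>
      have := add_mem (K_mono hn (hz n)) ih
      simpa using this
  refine ⟨WittVector.mk p (fun i => (z (i + 1)).coeff i), fun n => ?_⟩
  show WittVector.truncate n (_ - z n) = 0
  rw [map_sub, sub_eq_zero]
  refine TruncatedWittVector.ext fun i => ?_
  rw [WittVector.coeff_truncate, WittVector.coeff_truncate, WittVector.coeff_mk]
  exact (trunc_eq (hch (i + 1) n i.2) (Nat.lt_succ_self _)).symm

theorem iInf_K : (⨅ n, K p R n) = ⊥ := TruncatedWittVector.iInf_ker_truncate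

theorem coord_mem {n : ℕ} {M : Type v} [AddCommGroup M] [Module (WittVector p R) M]
    (f : M →ₗ[WittVector p R] WittVector p R) {y : M}
    (hy : y ∈ K p R n • (⊤ : Submodule (WittVector p R) M)) : f y ∈ K p R n := by
  refine Submodule.smul_induction_on hy (fun a ha z _ => ?_) fun a b ha hb => ?_
  · rw [map_smul, smul_eq_mul]; exact Ideal.mul_mem_right _ _ ha
  · rw [map_add]; exact add_mem ha hb

theorem coord_mem' {n : ℕ} {M : Type u} [AddCommGroup M] [Module (WittVector p R) M]
    (f : M →ₗ[WittVector p R] WittVector p R) {y : M}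
    (hy : y ∈ K p R n • (⊤ : Submodule (WittVector p R) M)) : f y ∈ K p R n := by
  refine Submodule.smul_induction_on hy (fun a ha z _ => ?_) fun a b ha hb => ?_
  · rw [map_smul, smul_eq_mul]; exact Ideal.mul_mem_right _ _ ha
  · rw [map_add]; exact add_mem ha hb

variable {k : ℕ}

/-- vectors congruent to zero -/
def Small (n : ℕ) (v : Fin k → WittVector p R) : Prop := ∀ j, v j ∈ K p R n

theorem small_map {n : ℕ} {v : Fin k → WittVector p R} (hv : Small n v)
    (f : (Fin k → WittVector p R) →ₗ[WittVector p R] (Fin k → WittVector p R)) : Small n (f v) := fun i => by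
  rw [show v = ∑ j, v j • Pi.single j 1 from pi_eq_sum_univ' v, map_sum, Finset.sum_apply]
  exact Submodule.sum_mem _ fun j _ => by
    rw [map_smul, Pi.smul_apply, smul_eq_mul]; exact Ideal.mul_mem_right _ _ (hv j)

theorem small_linear {n : ℕ} {f g : (Fin k → WittVector p R) →ₗ[WittVector p R] (Fin k → WittVector p R)}
    (h : ∀ j, Small n (f (Pi.single j 1) - g (Pi.single j 1))) (v : Fin k → WittVector p R) :
    Small n (f v - g v) := fun i => by
  rw [← LinearMap.sub_apply, show v = ∑ j, v j • Pi.single j 1 from pi_eq_sum_univ' v, map_sum, Finset.sum_apply]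
  exact Submodule.sum_mem _ fun j _ => by
    rw [map_smul, Pi.smul_apply, smul_eq_mul]; exact Ideal.mul_mem_left _ _ (h j i)

variable (π : (Fin k → WittVector p R) →ₗ[WittVector p R] P)

theorem small_pi {n : ℕ} {v : Fin k → WittVector p R} (hv : Small n v) : π v ∈ KP p R P n := by
  rw [show v = ∑ j, v j • Pi.single j 1 from pi_eq_sum_univ' v, map_sum]
  exact Submodule.sum_mem _ fun j _ => by
    rw [map_smul]; exact Submodule.smul_mem_smul (hv j) trivial

theorem exists_small {m n : ℕ} (hgen : ∀ x : P, ∃ v, π v - x ∈ KP p R P m) {x : P} (hx : x ∈ KP p R P n) :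
    ∃ w, Small n w ∧ π w - x ∈ KP p R P m := by
  refine Submodule.smul_induction_on hx (fun a ha y _ => ?_) fun x y hx hy => ?_
  · obtain ⟨v, hv⟩ := hgen y
    refine ⟨a • v, fun j => Ideal.mul_mem_right _ _ ha, ?_⟩
    rw [map_smul, ← smul_sub]
    exact Submodule.smul_mem _ _ hv
  · obtain ⟨a, ha, ha'⟩ := hx
    obtain ⟨b, hb, hb'⟩ := hy
    exact ⟨a + b, fun j => add_mem (ha j) (hb j), by
      rw [map_add, add_sub_add_comm]; exact add_mem ha' hb'⟩

/-- a splitting at level `n` -/
structure Split (n : ℕ) where
  E : (Fin k → WittVector p R) →ₗ[WittVector p R] (Fin k → WittVector p R)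
  sec : ∀ v, π (E v) - π v ∈ KP p R P n
  desc : ∀ v, π v ∈ KP p R P n → Small n (E v)

theorem exists_split (n : ℕ) (hgen : ∀ x : P, ∃ v, π v - x ∈ KP p R P n)
    (hproj : Module.Projective (WittVector p R ⧸ K p R n) (P ⧸ (K p R n • (⊤ : Submodule (WittVector p R) P)))) :
    Nonempty (Split π n) := by
  haveI := hproj
  let M := (Fin k → WittVector p R) ⧸ (K p R n • (⊤ : Submodule (WittVector p R) (Fin k → WittVector p R)))
  let Q := P ⧸ (K p R n • (⊤ : Submodule (WittVector p R) P))
  let g₀ : M →ₗ[WittVector p R] Q := Submodule.mapQ _ _ π (by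
    rw [← Submodule.map_le_iff_le_comap, Submodule.map_smul'']
    exact Submodule.smul_mono le_rfl le_top)
  let g : M →ₗ[WittVector p R ⧸ K p R n] Q := g₀.extendScalarsOfSurjective Ideal.Quotient.mk_surjective
  have hgs : Function.Surjective g := fun q => by
    obtain ⟨x, rfl⟩ := Submodule.Quotient.mk_surjective _ q
    obtain ⟨v, hv⟩ := hgen x
    exact ⟨Submodule.Quotient.mk v, (Submodule.Quotient.eq _).2 hv⟩
  obtain ⟨t, ht⟩ := Module.projective_lifting_property g LinearMap.id hgs
  choose x hx using fun j => Submodule.Quotient.mk_surjective _ (t (Submodule.Quotient.mk (π (Pi.single j 1))))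
  let E := Fintype.linearCombination (WittVector p R) x
  have hE : ∀ v, (Submodule.Quotient.mk (E v) : M) = t (Submodule.Quotient.mk (π v)) := by
    have : (Submodule.mkQ _).comp E = ((t.restrictScalars (WittVector p R)).comp (Submodule.mkQ _)).comp π := by
      refine LinearMap.pi_ext' fun j => LinearMap.ext_ring ?_
      simp only [LinearMap.comp_apply, LinearMap.coe_single, Submodule.mkQ_apply, LinearMap.restrictScalars_apply]
      show _ = t (Submodule.Quotient.mk (π (Pi.single j 1)))
      rw [← hx j]
      congr 1
      simp [E, Fintype.linearCombination_apply_single]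
    exact fun v => LinearMap.congr_fun this v
  refine ⟨⟨E, fun v => ?_, fun v hv => ?_⟩⟩
  · have h1 : g (Submodule.Quotient.mk (E v)) = (Submodule.Quotient.mk (π v) : Q) := by
      rw [hE v]; exact LinearMap.congr_fun ht _
    exact (Submodule.Quotient.eq _).1 h1
  · have h0 : (Submodule.Quotient.mk (π v) : Q) = 0 := (Submodule.Quotient.mk_eq_zero _).2 hv
    have h1 := hE v
    rw [h0, map_zero, Submodule.Quotient.mk_eq_zero] at h1
    intro j
    exact coord_mem' (LinearMap.proj j : (Fin k → WittVector p R) →ₗ[WittVector p R] WittVector p R) h1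

theorem exists_next {n : ℕ} (hgen : ∀ x : P, ∃ v, π v - x ∈ KP p R P (n + 1)) (S : Split π n) (T : Split π (n + 1)) :
    ∃ S' : Split π (n + 1), ∀ v, Small n (S'.E v - S.E v) := by
  have hkp := KP_mono (P := P) (p := p) (R := R) (Nat.le_succ n)
  have hw : ∀ j, ∃ w, Small n w ∧
      π w - π (S.E (Pi.single j 1) - T.E (Pi.single j 1)) ∈ KP p R P (n + 1) := fun j => by
    refine exists_small π hgen ?_
    rw [map_sub, ← sub_sub_sub_cancel_right _ _ (π (Pi.single j 1))]
    exact sub_mem (S.sec _) (hkp (T.sec _))
  choose w hw hw' using hw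
  let U := Fintype.linearCombination (WittVector p R) (fun j => S.E (Pi.single j 1) - T.E (Pi.single j 1) - w j)
  have hU : ∀ j, U (Pi.single j 1) = S.E (Pi.single j 1) - T.E (Pi.single j 1) - w j := fun j => by
    simp [U, Fintype.linearCombination_apply_single]
  have hUk : ∀ v, π (U v) ∈ KP p R P (n + 1) := fun v => by
    rw [show v = ∑ j, v j • Pi.single j 1 from pi_eq_sum_univ' v, map_sum, map_sum]
    refine Submodule.sum_mem _ fun j _ => ?_
    rw [map_smul, map_smul]
    refine Submodule.smul_mem _ _ ?_
    rw [hU j, map_sub, ← neg_sub]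
    exact neg_mem (hw' j)
  refine ⟨⟨T.E + U.comp T.E, fun v => ?_, fun v hv => ?_⟩, fun v => ?_⟩
  · have := add_mem (T.sec v) (hUk (T.E v))
    convert this using 1
    simp only [LinearMap.add_apply, LinearMap.comp_apply, map_add]
    abel
  · intro j
    exact add_mem (T.desc v hv j) (small_map (T.desc v hv) U j)
  · have h1 : Small n (U (T.E v) - (S.E - T.E) (T.E v)) :=
      small_linear (fun j i => by
        rw [hU j]
        simpa using neg_mem (hw j i)) _
    have hd : π (T.E v - v) ∈ KP p R P (n + 1) := by rw [map_sub]; exact T.sec v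
    have h2 : Small n (S.E (T.E v - v)) := S.desc _ (hkp hd)
    have h3 : Small (n + 1) (T.E (T.E v - v)) := T.desc _ hd
    intro j
    have := add_mem (h1 j) (sub_mem (h2 j) (K_mono (Nat.le_succ n) (h3 j)))
    convert this using 1
    simp only [LinearMap.add_apply, LinearMap.comp_apply, LinearMap.sub_apply, map_sub, Pi.sub_apply, Pi.add_apply]
    abel

theorem backward (hp : IsNilpotent (p : R))
    (hsep : (⨅ n : ℕ, (KP p R P n : Submodule (WittVector p R) P)) = ⊥)
    (hfin : Module.Finite (WittVector p R ⧸ K p R 1) (P ⧸ (K p R 1 • (⊤ : Submodule (WittVector p R) P))))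
    (hproj : ∀ n : ℕ, Module.Projective (WittVector p R ⧸ K p R n) (P ⧸ (K p R n • (⊤ : Submodule (WittVector p R) P)))) :
    Module.Finite (WittVector p R) P ∧ Module.Projective (WittVector p R) P := by
  classical
  obtain ⟨k, g, hg⟩ := Module.Finite.exists_fin (R := WittVector p R ⧸ K p R 1)
    (M := P ⧸ (K p R 1 • (⊤ : Submodule (WittVector p R) P)))
  choose x hx using fun j => Submodule.Quotient.mk_surjective _ (g j)
  let π := Fintype.linearCombination (WittVector p R) x
  have hgen1 : ∀ y : P, ∃ v, π v - y ∈ KP p R P 1 := fun y => by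
    obtain ⟨c, hc⟩ := Submodule.mem_span_range_iff_exists_fun _ |>.1 (hg ▸ Submodule.mem_top :
      (Submodule.Quotient.mk y : P ⧸ (K p R 1 • (⊤ : Submodule (WittVector p R) P))) ∈ _)
    choose a ha using fun j => Ideal.Quotient.mk_surjective (c j)
    refine ⟨a, (Submodule.Quotient.eq _).1 ?_⟩
    refine Eq.trans ?_ hc
    rw [Fintype.linearCombination_apply, ← Submodule.mkQ_apply, map_sum]
    refine Finset.sum_congr rfl fun j _ => ?_
    rw [← hx j, ← ha j, map_smul]
    rfl
  have hgen : ∀ n, ∀ y : P, ∃ v, π v - y ∈ KP p R P n := by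
    intro n
    obtain ⟨a, ha⟩ := (Groth.Agent.S14864.result p R hp).2.2 n
    obtain ⟨m, hm⟩ := (Groth.Agent.S14864.result p R hp).1 a
    have hle : (K p R 1) ^ m ≤ K p R n := by
      refine le_trans (Ideal.pow_right_mono (fun z hz => ?_) m) (hm.trans ha)
      exact (mem_K.1 hz 0 Nat.one_pos : z.coeff 0 = 0)
    have hstep : ∀ m : ℕ, ∀ y : P, ∃ v, π v - y ∈ (K p R 1) ^ m • (⊤ : Submodule (WittVector p R) P) := by
      intro m
      induction m with
      | zero => intro y; exact ⟨0, by simp [Ideal.one_eq_top]⟩
      | succ m ih =>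
        intro y
        obtain ⟨v, hv⟩ := hgen1 y
        have : ∀ z ∈ (KP p R P 1 : Submodule (WittVector p R) P), ∃ v, π v - z ∈ (K p R 1) ^ (m + 1) • (⊤ : Submodule (WittVector p R) P) := by
          intro z hz
          refine Submodule.smul_induction_on hz (fun b hb y' _ => ?_) fun z1 z2 h1 h2 => ?_
          · obtain ⟨v', hv'⟩ := ih y'
            refine ⟨b • v', ?_⟩
            rw [map_smul, ← smul_sub, pow_succ', Submodule.mul_smul]
            exact Submodule.smul_mem_smul hb hv'
          · obtain ⟨v1, e1⟩ := h1
            obtain ⟨v2, e2⟩ := h2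
            exact ⟨v1 + v2, by rw [map_add, add_sub_add_comm]; exact add_mem e1 e2⟩
        obtain ⟨w, hw⟩ := this _ hv
        refine ⟨v - w, ?_⟩
        rw [map_sub, show π v - π w - y = -(π w - (π v - y)) by abel]
        exact neg_mem hw
    intro y
    obtain ⟨v, hv⟩ := hstep m y
    exact ⟨v, Submodule.smul_mono_left hle hv⟩
  let S0 : Split π 0 :=
    { E := LinearMap.id
      sec := fun v => by simp
      desc := fun v _ j => mem_K.2 fun i hi => absurd hi (Nat.not_lt_zero i) }
  choose next hnext using fun n (S : Split π n) =>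
    exists_next π (hgen (n + 1)) S (exists_split π (n + 1) (hgen (n + 1)) (hproj (n + 1))).some
  let S : ∀ n, Split π n := fun n => Nat.rec S0 next n
  have hS : ∀ n v, Small n ((S (n + 1)).E v - (S n).E v) := fun n v => hnext n (S n) v
  choose e he using fun j i => exists_limit (fun n => (S n).E (Pi.single j 1) i) (fun n => hS n _ i)
  let E := Fintype.linearCombination (WittVector p R) e
  have hE : ∀ n v, Small n (E v - (S n).E v) := fun n => small_linear (fun j i => by
    simpa [E, Fintype.linearCombination_apply_single] using he j i n)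
  have hzero : ∀ y : P, (∀ n, y ∈ KP p R P n) → y = 0 := fun y hy => by
    have := (Submodule.mem_iInf _).2 hy
    rwa [hsep, Submodule.mem_bot] at this
  have hsmall : ∀ v : Fin k → WittVector p R, (∀ n, Small n v) → v = 0 := fun v hv => funext fun i => by
    have := (Submodule.mem_iInf _).2 fun n => hv n i
    rwa [iInf_K, Submodule.mem_bot] at this
  have hEπ : ∀ v, π (E v) = π v := fun v => sub_eq_zero.1 <| hzero _ fun n => by
    have := add_mem (small_pi π (hE n v)) ((S n).sec v)
    rwa [map_sub, sub_add_sub_cancel] at this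
  have hker : ∀ v, π v = 0 → E v = 0 := fun v hv => hsmall _ fun n i => by
    have := add_mem (hE n v i) ((S n).desc v (by rw [hv]; exact zero_mem _) i)
    simpa using this
  have hsurj : Function.Surjective π := fun y => by
    choose v hv using fun n => hgen n y
    have hv2 : ∀ n i, E (v (n + 1)) i - E (v n) i ∈ K p R n := fun n i => by
      have hd : π (v (n + 1) - v n) ∈ KP p R P n := by
        rw [map_sub, ← sub_sub_sub_cancel_right _ _ y]
        exact sub_mem (KP_mono (Nat.le_succ n) (hv (n + 1))) (hv n)
      have := add_mem (hE n (v (n + 1) - v n) i) ((S n).desc _ hd i)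
      simpa [map_sub] using this
    choose l hl using fun i => exists_limit (fun n => E (v n) i) (fun n => hv2 n i)
    refine ⟨l, sub_eq_zero.1 <| hzero _ fun n => ?_⟩
    have := add_mem (small_pi π (v := l - E (v n)) fun i => hl i n) (hv n)
    rwa [map_sub, hEπ, sub_add_sub_cancel] at this
  haveI : Module.Finite (WittVector p R) P := Module.Finite.of_surjective π hsurj
  refine ⟨inferInstance, ?_⟩
  let s' : ((Fin k → WittVector p R) ⧸ LinearMap.ker π) →ₗ[WittVector p R] (Fin k → WittVector p R) :=
    (LinearMap.ker π).liftQ E fun v hv => hker v hv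
  let φ := π.quotKerEquivOfSurjective hsurj
  refine Module.Projective.of_split (s'.comp φ.symm.toLinearMap) π (LinearMap.ext fun y => ?_)
  obtain ⟨v, rfl⟩ := hsurj y
  have : φ.symm (π v) = Submodule.Quotient.mk v := by
    rw [LinearEquiv.symm_apply_eq]; rfl
  simp only [LinearMap.comp_apply, LinearEquiv.coe_coe, this, LinearMap.id_apply]
  exact hEπ v

/-- Let p be a prime and R a commutative ring in which p is nilpotent; write W = W(R) for the p-typical
Witt vectors and, for n ≥ 0, I_n ⊆ W for the ideal of Witt vectors whose first n components vanish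
(the kernel of the truncation W → W_n(R), so W/I_n = W_n(R)). For a W-module P conditions (i) and
(ii) below are equivalent: (i) P is a projective W-module of finite type; (ii) P is separated for
the filtration by the submodules I_n P, and for every n the W_n(R)-module P/I_n P is finitely
generated and projective. (The published statement is made for every ℤ_(p)-algebra R, the section's
standing convention; over R = ℚ, where W(ℚ) ≅ ℚ^ℕ by the ghost map, the module ⊕_ℕ ℚ satisfies (ii)
but is not finitely generated, and the published proof uses that I_1 is nilpotent in each W_n(R),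
which holds when p is nilpotent in R; so p is taken nilpotent here. The third equivalent condition
of the published statement, freeness Zariski-locally on R, is not rendered.) -/
theorem result (p : ℕ) [Fact p.Prime] (R : Type u) [CommRing R]
    (hp : IsNilpotent (p : R))
    (P : Type v) [AddCommGroup P] [Module (WittVector p R) P] :
    (Module.Finite (WittVector p R) P ∧ Module.Projective (WittVector p R) P) ↔
      ((⨅ n : ℕ, (RingHom.ker (WittVector.truncate (p := p) (R := R) n) • (⊤ : Submodule (WittVector p R) P))) = ⊥ ∧
        ∀ n : ℕ, Module.Finite (WittVector p R ⧸ RingHom.ker (WittVector.truncate (p := p) (R := R) n))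
              (P ⧸ (RingHom.ker (WittVector.truncate (p := p) (R := R) n) • (⊤ : Submodule (WittVector p R) P))) ∧
            Module.Projective (WittVector p R ⧸ RingHom.ker (WittVector.truncate (p := p) (R := R) n))
              (P ⧸ (RingHom.ker (WittVector.truncate (p := p) (R := R) n) • (⊤ : Submodule (WittVector p R) P)))) := by
  constructor
  · rintro ⟨hf, hpr⟩
    obtain ⟨k, π, hπ⟩ := Module.Finite.exists_fin' (WittVector p R) P
    obtain ⟨s, hs⟩ := Module.projective_lifting_property π LinearMap.id hπ
    refine ⟨?_, fun n => ⟨?_, ?_⟩⟩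
    · rw [eq_bot_iff]
      intro y hy
      rw [Submodule.mem_iInf] at hy
      have hsy : s y = 0 := funext fun i => by
        have h : ∀ n, s y i ∈ K p R n := fun n =>
          coord_mem ((LinearMap.proj i : (Fin k → WittVector p R) →ₗ[WittVector p R] WittVector p R).comp s) (hy n)
        have := (Submodule.mem_iInf _).2 h
        rwa [iInf_K, Submodule.mem_bot] at this
      have := LinearMap.congr_fun hs y
      simp only [LinearMap.comp_apply, LinearMap.id_apply, hsy, map_zero] at this
      simp [← this]
    · exact Module.Finite.of_restrictScalars_finite (WittVector p R) _ _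
    · let I := RingHom.ker (WittVector.truncate (p := p) (R := R) n)
      let f : Fin k → (P ⧸ I • (⊤ : Submodule (WittVector p R) P)) →ₗ[WittVector p R ⧸ I] (WittVector p R ⧸ I) := fun j =>
        LinearMap.extendScalarsOfSurjective Ideal.Quotient.mk_surjective (Submodule.liftQ _
          ((Submodule.mkQ I).comp ((LinearMap.proj j : (Fin k → WittVector p R) →ₗ[WittVector p R] WittVector p R).comp s))
          (fun y hy => LinearMap.mem_ker.2 ((Submodule.Quotient.mk_eq_zero I).2
            (coord_mem ((LinearMap.proj j : (Fin k → WittVector p R) →ₗ[WittVector p R] WittVector p R).comp s) hy))))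
      refine Module.Projective.of_split (LinearMap.pi f) (Fintype.linearCombination (WittVector p R ⧸ I)
        (fun j => (Submodule.Quotient.mk (π (Pi.single j 1)) : P ⧸ I • (⊤ : Submodule (WittVector p R) P))))
        (LinearMap.ext fun y => ?_)
      obtain ⟨y, rfl⟩ := Submodule.Quotient.mk_surjective _ y
      rw [LinearMap.comp_apply, Fintype.linearCombination_apply, LinearMap.id_apply]
      conv_rhs => rw [← LinearMap.id_apply (R := WittVector p R) y, ← hs, LinearMap.comp_apply,
        show s y = ∑ j, s y j • Pi.single j 1 from pi_eq_sum_univ' _, map_sum, ← Submodule.mkQ_apply, map_sum]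
      refine Finset.sum_congr rfl fun j _ => ?_
      rw [map_smul, map_smul]
      rfl
  · rintro ⟨hsep, h⟩
    exact backward hp hsep (h 1).1 fun n => (h n).2

end Groth.Agent.S14860
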