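import Groth.Statements.S14861
import Mathlib.RingTheory.WittVector.Basic
import Mathlib.RingTheory.WittVector.Truncated
import Mathlib.RingTheory.AdicCompletion.Basic

set_option autoImplicit false
universe u
open CAlg

namespace Groth.Agent.S14861
open CAlg

open WittVector

variable {p : ℕ} [Fact p.Prime] {R : Type u} [CommRing R]

theorem cancel (hR : ∀ y : R, (p : R) * y = 0 → y = 0) (u : ℕ) : ∀ (N : ℕ) (x : R),
    (p : R) ^ u * x ∈ Ideal.span {(p : R) ^ N} → x ∈ Ideal.span {(p : R) ^ (N - u)} := by
  induction u with
  | zero => intro N x h; simpa using h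
  | succ u ih =>
    intro N x h
    rcases N with _ | N
    · simp
    · rw [Nat.succ_sub_succ]
      refine ih N x ?_
      obtain ⟨c, hc⟩ := Ideal.mem_span_singleton'.1 h
      refine Ideal.mem_span_singleton'.2 ⟨c, ?_⟩
      have h0 := hR (c * (p : R) ^ N - (p : R) ^ u * x) (by linear_combination hc)
      exact sub_eq_zero.1 h0

theorem ghost_eq (x : WittVector p R) (i : ℕ) :
    WittVector.ghostComponent i x = ∑ j ∈ Finset.range (i + 1), (p : R) ^ j * x.coeff j ^ (p ^ (i - j)) := by
  simp [WittVector.ghostComponent_apply, wittPolynomial_eq_sum_C_mul_X_pow]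

theorem coeff_sub_mem (hR : ∀ y : R, (p : R) * y = 0 → y = 0) (z z' : WittVector p R) (m N : ℕ)
    (h : ∀ i < m, WittVector.ghostComponent i z - WittVector.ghostComponent i z' ∈ Ideal.span {(p : R) ^ N}) :
    ∀ i < m, z.coeff i - z'.coeff i ∈ Ideal.span {(p : R) ^ (N - i)} := by
  intro i
  induction i using Nat.strong_induction_on with
  | _ i ih =>
    intro hi
    refine cancel hR i N _ ?_
    have h1 := h i hi
    rw [ghost_eq, ghost_eq, Finset.sum_range_succ, Finset.sum_range_succ, Nat.sub_self, pow_zero, pow_one,
      pow_one, add_sub_add_comm, ← mul_sub, ← Finset.sum_sub_distrib] at h1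
    refine (Submodule.add_mem_iff_right _ (Submodule.sum_mem _ fun j hj => ?_)).1 h1
    rw [Finset.mem_range] at hj
    rw [← mul_sub]
    have h2 : z.coeff j ^ (p ^ (i - j)) - z'.coeff j ^ (p ^ (i - j)) ∈ Ideal.span {(p : R) ^ (N - j)} := by
      obtain ⟨c, hc⟩ := sub_dvd_pow_sub_pow (z.coeff j) (z'.coeff j) (p ^ (i - j))
      rw [hc]
      exact Ideal.mul_mem_right _ _ (ih j hj (hj.trans hi))
    refine Ideal.span_singleton_le_span_singleton.2 (pow_dvd_pow (p : R) (show N ≤ j + (N - j) by omega)) ?_
    rw [pow_add, ← Ideal.span_singleton_mul_span_singleton]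
    exact Ideal.mul_mem_mul (Ideal.mem_span_singleton_self _) h2

/-- Let p be a prime and R a commutative ring without p-torsion which is complete and separated for the
p-adic topology. Let a be a p-typical Witt vector over R and m, u natural numbers. Suppose that for
every s the equation p^u·x = a has a solution in the truncated Witt ring W_m(R/p^s R), i.e. there is
z ∈ W(R) such that the first m Witt components of p^u·z − a lie in p^s R. Then the equation has a
solution in W_m(R): there is x ∈ W(R) such that the first m Witt components of p^u·x − a vanish.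
(The published statement asks only that R have no p-torsion; R is moreover taken p-adically complete
and separated here, which is the standing situation of the surrounding argument and is what the
published proof uses when it passes to the limit over s.) -/
theorem result (p : ℕ) [Fact p.Prime] (R : Type u) [CommRing R]
    (hR : ∀ y : R, (p : R) * y = 0 → y = 0) [IsAdicComplete (Ideal.span {(p : R)}) R]
    (a : WittVector p R) (m u : ℕ)
    (h : ∀ s : ℕ, ∃ z : WittVector p R, ∀ i < m, ((p : WittVector p R) ^ u * z - a).coeff i ∈ Ideal.span {(p : R) ^ s}) :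
    ∃ x : WittVector p R, ∀ i < m, ((p : WittVector p R) ^ u * x - a).coeff i = 0 := by
  choose z hz using h
  have hpow : ∀ n, (Ideal.span {(p : R)} ^ n • ⊤ : Submodule R R) = Ideal.span {(p : R) ^ n} := fun n => by
    rw [Ideal.span_singleton_pow, smul_eq_mul, Ideal.mul_top]
  have hg : ∀ s, ∀ i < m, (p : R) ^ u * WittVector.ghostComponent i (z s) - WittVector.ghostComponent i a ∈
      Ideal.span {(p : R) ^ s} := by
    intro s i hi
    have : WittVector.ghostComponent i ((p : WittVector p R) ^ u * z s - a) ∈ Ideal.span {(p : R) ^ s} := by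
      rw [ghost_eq]
      refine Submodule.sum_mem _ fun j hj => Ideal.mul_mem_left _ _ ?_
      rw [Finset.mem_range] at hj
      exact Ideal.pow_mem_of_mem _ (hz s j (by omega)) _ (pow_pos (Fact.out : p.Prime).pos _)
    rwa [map_sub, map_mul, map_pow, map_natCast] at this
  have hlim : ∀ i, ∃ L : R, i < m → ∀ n, (z (n + (u + m))).coeff i - L ∈ Ideal.span {(p : R) ^ n} := by
    intro i
    by_cases hi : i < m
    · obtain ⟨L, hL⟩ := IsPrecomplete.prec (I := Ideal.span {(p : R)}) inferInstance
        (f := fun n => (z (n + (u + m))).coeff i) (fun {a' b'} hab => by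
          rw [SModEq.sub_mem, hpow]
          refine Ideal.span_singleton_le_span_singleton.2 (pow_dvd_pow (p : R) (show a' ≤ (a' + (u + m) - u) - i by omega)) ?_
          refine coeff_sub_mem hR _ _ m _ (fun j hj => cancel hR u _ _ ?_) i hi
          rw [mul_sub, ← sub_sub_sub_cancel_right _ _ (WittVector.ghostComponent j a)]
          refine sub_mem (hg _ j hj) ?_
          exact Ideal.span_singleton_le_span_singleton.2 (pow_dvd_pow (p : R) (by omega)) (hg _ j hj))
      exact ⟨L, fun _ n => by have := hL n; rwa [SModEq.sub_mem, hpow] at this⟩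
    · exact ⟨0, fun h => absurd h hi⟩
  choose L hL using hlim
  refine ⟨WittVector.mk p L, fun i hi => IsHausdorff.haus' (I := Ideal.span {(p : R)}) _ fun n => ?_⟩
  rw [SModEq.sub_mem, sub_zero, hpow]
  let π := WittVector.map (p := p) (Ideal.Quotient.mk (Ideal.span {(p : R) ^ n}))
  have h1 : WittVector.truncate m (π (z (n + (u + m)))) = WittVector.truncate m (π (WittVector.mk p L)) := by
    refine TruncatedWittVector.ext fun j => ?_
    rw [WittVector.coeff_truncate, WittVector.coeff_truncate, WittVector.map_coeff, WittVector.map_coeff,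
      Ideal.Quotient.eq]
    exact hL j j.2 n
  have h2 : WittVector.truncate m (π ((p : WittVector p R) ^ u * z (n + (u + m)) - a)) =
      WittVector.truncate m (π ((p : WittVector p R) ^ u * WittVector.mk p L - a)) := by
    simp only [map_sub, map_mul, map_pow, map_natCast, h1]
  have h3 := congrArg (fun t => TruncatedWittVector.coeff (⟨i, hi⟩ : Fin m) t) h2
  simp only [WittVector.coeff_truncate, π, WittVector.map_coeff] at h3
  rw [← Ideal.Quotient.eq_zero_iff_mem, ← h3, Ideal.Quotient.eq_zero_iff_mem]
  exact Ideal.span_singleton_le_span_singleton.2 (pow_dvd_pow (p : R) (by omega)) (hz _ i hi)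

end Groth.Agent.S14861
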