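import Groth.Statements.S14862
import Groth.Agent.S14861
import Groth.Agent.S14860
import Mathlib

set_option autoImplicit false
universe u
open CAlg

namespace Groth.Agent.S14862
open CAlg

open Groth.Agent.S14860 WittVector

theorem mem_of_pow_mul {p : ℕ} [Fact p.Prime] {S : Type u} [CommRing S] (hS : ∀ y : S, (p : S) * y = 0 → y = 0)
    (u r : ℕ) (y : WittVector p S) (h : (p : WittVector p S) ^ u * y ∈ K p S r) : y ∈ K p S r := by
  have hcancel : ∀ (m : ℕ) (z : S), (p : S) ^ m * z = 0 → z = 0 := by
    intro m
    induction m with
    | zero => intro z hz; simpa using hz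
    | succ m ih => intro z hz; exact ih z (hS _ (by rw [← hz]; ring))
  have hg : ∀ i < r, ghostComponent i y = 0 := fun i hi => by
    refine hcancel u _ ?_
    have : ghostComponent i ((p : WittVector p S) ^ u * y) = 0 := by
      rw [Groth.Agent.S14861.ghost_eq]
      refine Finset.sum_eq_zero fun j hj => ?_
      rw [Finset.mem_range] at hj
      rw [mem_K.1 h j (by omega), zero_pow (pow_pos (Fact.out : p.Prime).pos _).ne', mul_zero]
    rwa [map_mul, map_pow, map_natCast] at this
  refine mem_K.2 fun i => ?_
  induction i using Nat.strong_induction_on with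
  | _ i ih =>
    intro hi
    have h1 := hg i hi
    rw [Groth.Agent.S14861.ghost_eq, Finset.sum_range_succ, Nat.sub_self, pow_zero, pow_one,
      Finset.sum_eq_zero (fun j hj => by
        rw [Finset.mem_range] at hj
        rw [ih j hj (hj.trans hi), zero_pow (pow_pos (Fact.out : p.Prime).pos _).ne', mul_zero]), zero_add] at h1
    exact hcancel i _ h1

/-- Let p be a prime and S a commutative ring without p-torsion which is complete and separated for the
p-adic topology; write W = W(S) for the p-typical Witt vectors, I_r ⊆ W for the ideal of Witt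
vectors whose first r components vanish (the image of the r-th iterate of the Verschiebung) and
W(p^s S) ⊆ W for the ideal of Witt vectors all of whose components lie in p^s S (the kernel of W(S)
→ W(S/p^s S)). Then for every natural number u the ideal p^u W is closed for the linear topology on
W in which the ideals I_r + W(p^s S) form a neighbourhood basis of zero: the intersection over all r
and s of p^u W + I_r + W(p^s S) equals p^u W. (The published statement asks only that S have no
p-torsion; S is moreover taken p-adically complete and separated here, the case in which the result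
is applied and through which the published proof goes.) -/
theorem result (p : ℕ) [Fact p.Prime] (S : Type u) [CommRing S]
    (hS : ∀ y : S, (p : S) * y = 0 → y = 0) [IsAdicComplete (Ideal.span {(p : S)}) S] (u : ℕ) :
    (⨅ r : ℕ, ⨅ s : ℕ,
        Ideal.span {(p : WittVector p S) ^ u} ⊔ RingHom.ker (WittVector.truncate (p := p) (R := S) r) ⊔
          RingHom.ker (WittVector.map (p := p) (Ideal.Quotient.mk (Ideal.span {(p : S) ^ s})))) =
      Ideal.span {(p : WittVector p S) ^ u} := by
  refine le_antisymm (fun a ha => ?_) (le_iInf fun r => le_iInf fun s => le_sup_of_le_left le_sup_left)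
  have hx : ∀ r, ∃ x : WittVector p S, (p : WittVector p S) ^ u * x - a ∈ K p S r := by
    intro r
    have hs : ∀ s, ∃ z : WittVector p S, ∀ i < r,
        ((p : WittVector p S) ^ u * z - a).coeff i ∈ Ideal.span {(p : S) ^ s} := by
      intro s
      obtain ⟨b, hb, c, hc, hbc⟩ := Submodule.mem_sup.1 ((Submodule.mem_iInf _).1 ((Submodule.mem_iInf _).1 ha r) s)
      obtain ⟨z', hz', b', hb', hzb⟩ := Submodule.mem_sup.1 hb
      obtain ⟨z, rfl⟩ := Ideal.mem_span_singleton'.1 hz'
      refine ⟨z, fun i hi => Ideal.Quotient.eq_zero_iff_mem.1 ?_⟩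
      rw [← WittVector.map_coeff, show (p : WittVector p S) ^ u * z - a = -b' - c by
        rw [← hbc, ← hzb]; ring, map_sub, RingHom.mem_ker.1 hc, sub_zero, map_neg]
      have hmem : WittVector.map (Ideal.Quotient.mk (Ideal.span {(p : S) ^ s})) b' ∈
          K p (S ⧸ Ideal.span {(p : S) ^ s}) r :=
        mem_K.2 fun j hj => by rw [WittVector.map_coeff, mem_K.1 (hb' : b' ∈ K p S r) j hj, map_zero]
      exact mem_K.1 (neg_mem hmem) i hi
    obtain ⟨x, hx⟩ := Groth.Agent.S14861.result p S hS a r u hs
    exact ⟨x, mem_K.2 hx⟩
  choose x hx using hx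
  obtain ⟨L, hL⟩ := exists_limit x fun n => mem_of_pow_mul hS u n _ (by
    have := sub_mem (K_mono (Nat.le_succ n) (hx (n + 1))) (hx n)
    rwa [sub_sub_sub_cancel_right, ← mul_sub] at this)
  refine Ideal.mem_span_singleton'.2 ⟨L, ?_⟩
  refine sub_eq_zero.1 ?_
  have h : ∀ n, L * (p : WittVector p S) ^ u - a ∈ K p S n := fun n => by
    rw [show L * (p : WittVector p S) ^ u - a = (p : WittVector p S) ^ u * (L - x n) +
      ((p : WittVector p S) ^ u * x n - a) by ring]
    exact add_mem (Ideal.mul_mem_left _ _ (hL n)) (hx n)
  have := (Submodule.mem_iInf _).2 h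
  rwa [iInf_K, Submodule.mem_bot] at this

end Groth.Agent.S14862
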