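import Groth.Statements.S14867
import Groth.Agent.S14860
import Groth.Agent.Lib.DenseProj.Basic
import Mathlib

set_option autoImplicit false
universe u
open CAlg

namespace Groth.Agent.S14867
open CAlg

open Groth.Agent.S14860 Groth.Agent.DenseProj

variable {p : ℕ} [Fact p.Prime] {S R : Type u} [CommRing S] [CommRing R]

theorem map_K {φ : S →+* R} {n : ℕ} {x : WittVector p S} (h : x ∈ K p S n) : WittVector.map φ x ∈ K p R n :=
  mem_K.2 fun i hi => by rw [WittVector.map_coeff, mem_K.1 h i hi, map_zero]

theorem exists_pow_mem (hp : IsNilpotent (p : S)) {z : WittVector p S} (hz : IsNilpotent (z.coeff 0)) (n : ℕ) :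
    ∃ M, z ^ M ∈ K p S n := by
  obtain ⟨N, hN⟩ := hz
  obtain ⟨a, ha⟩ := (Groth.Agent.S14864.result p S hp).2.2 n
  obtain ⟨m, hm⟩ := (Groth.Agent.S14864.result p S hp).1 a
  refine ⟨N * m, ha (hm ?_)⟩
  rw [pow_mul]
  refine Ideal.pow_mem_pow ?_ m
  rw [RingHom.mem_ker, map_pow]
  exact hN

theorem eq_zero_of_K {x : WittVector p S} (h : ∀ n, x ∈ K p S n) : x = 0 := by
  have := (Submodule.mem_iInf _).2 h
  rwa [iInf_K, Submodule.mem_bot] at this

variable {k : ℕ}

/-- reduction of matrices modulo `K n` -/
noncomputable def red (p : ℕ) [Fact p.Prime] (S : Type u) [CommRing S] (k n : ℕ) :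
    Matrix (Fin k) (Fin k) (WittVector p S) →+* Matrix (Fin k) (Fin k) (WittVector p S ⧸ K p S n) :=
  (Ideal.Quotient.mk (K p S n)).mapMatrix

theorem red_eq_zero {n : ℕ} {X : Matrix (Fin k) (Fin k) (WittVector p S)} :
    red p S k n X = 0 ↔ ∀ i j, X i j ∈ K p S n := by
  simp [red, ← Matrix.ext_iff, Ideal.Quotient.eq_zero_iff_mem]

theorem red_eq {n : ℕ} {X Y : Matrix (Fin k) (Fin k) (WittVector p S)} :
    red p S k n X = red p S k n Y ↔ ∀ i j, X i j - Y i j ∈ K p S n := by
  rw [← sub_eq_zero, ← map_sub, red_eq_zero]; rfl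

theorem red_map (φ : S →+* R) {n : ℕ} {X Y : Matrix (Fin k) (Fin k) (WittVector p S)}
    (h : red p S k n X = red p S k n Y) :
    red p R k n (X.map (WittVector.map φ)) = red p R k n (Y.map (WittVector.map φ)) :=
  red_eq.2 fun i j => by
    simp only [Matrix.map_apply, ← map_sub]
    exact map_K (red_eq.1 h i j)

theorem matrix_nilpotent {A : Type u} [CommRing A] (X : Matrix (Fin k) (Fin k) A)
    (h : ∀ i j, IsNilpotent (X i j)) : IsNilpotent X := by
  let I : Ideal A := Ideal.span (Set.range fun ij : Fin k × Fin k => X ij.1 ij.2)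
  have hle : I ≤ nilradical A := by
    rw [Ideal.span_le]
    rintro _ ⟨ij, rfl⟩
    exact h ij.1 ij.2
  have hfg : I.FG := Submodule.fg_span (Set.finite_range _)
  obtain ⟨N, hN⟩ := Ideal.exists_pow_le_of_le_radical_of_fg (I := I) (J := (⊥ : Ideal A)) hle hfg
  have hpow : ∀ m i j, (X ^ m) i j ∈ I ^ m := by
    intro m
    induction m with
    | zero => intro i j; simp
    | succ m ih =>
      intro i j
      rw [pow_succ, pow_succ, Matrix.mul_apply]
      exact Ideal.sum_mem _ fun l _ => Ideal.mul_mem_mul (ih i l) (Ideal.subset_span ⟨(l, j), rfl⟩)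
  exact ⟨N, Matrix.ext fun i j => hN (hpow N i j)⟩

theorem exists_idem (φ : S →+* R) (hφ : Function.Surjective φ) (hnil : ∀ a, φ a = 0 → IsNilpotent a)
    (hp : IsNilpotent (p : S)) (e : Matrix (Fin k) (Fin k) (WittVector p R)) (he : e * e = e) :
    ∃ E : Matrix (Fin k) (Fin k) (WittVector p S), E * E = E ∧ E.map (WittVector.map φ) = e := by
  classical
  let Good (n : ℕ) (X : Matrix (Fin k) (Fin k) (WittVector p S)) : Prop :=
    red p S k n (X * X) = red p S k n X ∧ red p R k n (X.map (WittVector.map φ)) = red p R k n e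
  have h0 : Good 0 0 := ⟨red_eq.2 fun i j => mem_K.2 fun l hl => absurd hl (Nat.not_lt_zero l),
    red_eq.2 fun i j => mem_K.2 fun l hl => absurd hl (Nat.not_lt_zero l)⟩
  have hstep : ∀ n X, Good n X → ∃ Y, Good (n + 1) Y ∧ red p S k n Y = red p S k n X := by
    intro n X hX
    choose c hc using fun (i : Fin k) (j : Fin k) (l : ℕ) => hφ ((e i j).coeff l)
    let Z : Matrix (Fin k) (Fin k) (WittVector p S) := Matrix.of fun i j =>
      WittVector.mk p fun l => if l < n then (X i j).coeff l else c i j l
    have hZX : red p S k n Z = red p S k n X := red_eq.2 fun i j => by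
      show WittVector.truncate n (_ - _) = 0
      rw [map_sub, sub_eq_zero]
      exact TruncatedWittVector.ext fun l => by simp [Z, WittVector.coeff_truncate]
    have hZe : red p R k (n + 1) (Z.map (WittVector.map φ)) = red p R k (n + 1) e := red_eq.2 fun i j => by
      show WittVector.truncate (n + 1) (_ - _) = 0
      rw [map_sub, sub_eq_zero]
      refine TruncatedWittVector.ext fun l => ?_
      simp only [Z, WittVector.coeff_truncate, Matrix.map_apply, Matrix.of_apply, WittVector.map_coeff, WittVector.coeff_mk]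
      split_ifs with hl
      · rw [← WittVector.map_coeff]
        exact trunc_eq (red_eq.1 hX.2 i j) hl
      · exact hc i j l
    have hε : IsNilpotent (red p S k (n + 1) (Z - Z ^ 2)) := matrix_nilpotent _ fun i j => by
      have h2 : WittVector.map φ ((Z - Z ^ 2) i j) ∈ K p R (n + 1) := by
        have h := red_eq_zero.1 (show red p R k (n + 1) ((WittVector.map φ).mapMatrix (Z - Z ^ 2)) = 0 by
          rw [map_sub, map_pow, map_sub, map_pow, RingHom.mapMatrix_apply, hZe, pow_two, ← map_mul, he, sub_self])
        exact h i j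
      have h3 := mem_K.1 h2 0 (Nat.succ_pos n)
      rw [WittVector.map_coeff] at h3
      obtain ⟨M, hM⟩ := exists_pow_mem hp (hnil _ h3) (n + 1)
      exact ⟨M, (map_pow (Ideal.Quotient.mk (K p S (n + 1))) _ M).symm.trans (Ideal.Quotient.eq_zero_iff_mem.2 hM)⟩
    obtain ⟨N, hN⟩ := hε
    let Y := 1 - (1 - Z ^ (N + 1)) ^ (N + 1)
    have hpow : ∀ {M : Type u} [Ring M] (g : Matrix (Fin k) (Fin k) (WittVector p S) →+* M),
        g Z * g Z = g Z → g Y = g Z := fun g hg => by
      simp only [Y, map_sub, map_one, map_pow, IsIdempotentElem.pow_succ_eq N (show IsIdempotentElem (g Z) from hg),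
        IsIdempotentElem.pow_succ_eq N (show IsIdempotentElem (g Z) from hg).one_sub, sub_sub_cancel]
    refine ⟨Y, ⟨?_, ?_⟩, (hpow _ (by rw [hZX, ← map_mul, hX.1])).trans hZX⟩
    · rw [map_mul]
      have := isIdempotentElem_one_sub_one_sub_pow_pow (red p S k (n + 1) Z) (N + 1)
        (by rw [← map_pow, ← map_sub, pow_succ, hN, zero_mul])
      simp only [Y, map_sub, map_one, map_pow]
      exact this.eq
    · exact (hpow ((red p R k (n + 1)).comp (WittVector.map φ).mapMatrix) (by
        simp only [RingHom.comp_apply, RingHom.mapMatrix_apply]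
        rw [hZe, ← map_mul, he])).trans hZe
  choose next hnext hnext' using hstep
  let seq : (n : ℕ) → {X // Good n X} := fun n =>
    Nat.rec ⟨0, h0⟩ (fun m X => ⟨next m X.1 X.2, hnext m X.1 X.2⟩) n
  have hseq : ∀ n i j, (seq (n + 1)).1 i j - (seq n).1 i j ∈ K p S n := fun n i j =>
    red_eq.1 (hnext' n (seq n).1 (seq n).2) i j
  choose L hL using fun i j => exists_limit (fun n => (seq n).1 i j) (fun n => hseq n i j)
  have hLn : ∀ n, red p S k n (Matrix.of L) = red p S k n (seq n).1 := fun n => red_eq.2 fun i j => hL i j n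
  refine ⟨Matrix.of L, ?_, ?_⟩
  · refine Matrix.ext fun i j => sub_eq_zero.1 (eq_zero_of_K fun n => ?_)
    refine red_eq.1 ?_ i j
    rw [map_mul, hLn n, ← map_mul]
    exact (seq n).2.1
  · refine Matrix.ext fun i j => sub_eq_zero.1 (eq_zero_of_K fun n => ?_)
    refine red_eq.1 ?_ i j
    rw [red_map φ (hLn n)]
    exact (seq n).2.2

theorem ker_le_jacobson (φ : S →+* R) (hnil : ∀ a, φ a = 0 → IsNilpotent a) (hp : IsNilpotent (p : S)) :
    RingHom.ker (WittVector.map (p := p) φ) ≤ (⊥ : Ideal (WittVector p S)).jacobson := by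
  intro x hx
  rw [Ideal.mem_jacobson_bot]
  intro y
  have hz : x * y ∈ RingHom.ker (WittVector.map (p := p) φ) := Ideal.mul_mem_right _ _ hx
  generalize x * y = z at hz ⊢
  have hpow : ∀ n, ∃ M, z ^ M ∈ K p S n := exists_pow_mem hp
    (hnil (z.coeff 0) (by rw [← WittVector.map_coeff, RingHom.mem_ker.1 hz]; simp))
  choose M hM using hpow
  let u : ℕ → WittVector p S := fun n => ∑ i ∈ Finset.range (M n), (-z) ^ i
  have hu : ∀ n, (z + 1) * u n - 1 ∈ K p S n := fun n => by
    have h := geom_sum_mul (-z) (M n)
    have : (z + 1) * u n - 1 = -(-z) ^ M n := by linear_combination -h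
    rw [this, neg_pow]
    exact neg_mem (Ideal.mul_mem_left _ _ (hM n))
  obtain ⟨v, hv⟩ := exists_limit u fun n => by
    have h1 := hu n
    have h2 := K_mono (Nat.le_succ n) (hu (n + 1))
    have : u (n + 1) - u n = u n * ((z + 1) * u (n + 1) - 1) - u (n + 1) * ((z + 1) * u n - 1) := by ring
    rw [this]
    exact sub_mem (Ideal.mul_mem_left _ _ h2) (Ideal.mul_mem_left _ _ h1)
  refine IsUnit.of_mul_eq_one v (sub_eq_zero.1 (eq_zero_of_K fun n => ?_))
  rw [show (z + 1) * v - 1 = (z + 1) * (v - u n) + ((z + 1) * u n - 1) by ring]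
  exact add_mem (Ideal.mul_mem_left _ _ (hv n)) (hu n)

/-- Let p be a prime and S → R a surjective homomorphism of commutative rings such that every element of
its kernel 𝔞 is nilpotent and p is nilpotent in S; write J = W(𝔞) for the kernel of the induced
surjection W(S) → W(R) of rings of p-typical Witt vectors. Then finitely generated projective
modules lift along W(S) → W(R), uniquely up to isomorphism: for every finitely generated projective
W(R)-module P there is a finitely generated projective W(S)-module P̃ together with a surjection P̃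
→ P, semilinear over W(S) → W(R), whose kernel is J·P̃ (that is, an isomorphism W(R) ⊗_{W(S)} P̃ ≅
P); and for any two such pairs (P̃_1, π_1), (P̃_2, π_2) there is a W(S)-linear isomorphism P̃_1 ≅
P̃_2 compatible with π_1 and π_2. -/
theorem result (p : ℕ) [Fact p.Prime] (S R : Type u)
    [CommRing S] [CommRing R] (φ : S →+* R) (hφ : Function.Surjective φ)
    (hnil : ∀ a : S, φ a = 0 → IsNilpotent a) (hp : IsNilpotent (p : S))
    (P : Type u) [AddCommGroup P] [Module (WittVector p R) P]
    [Module.Finite (WittVector p R) P] [Module.Projective (WittVector p R) P] :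
    (∃ (P' : Type u) (_ : AddCommGroup P') (_ : Module (WittVector p S) P'),
        Module.Finite (WittVector p S) P' ∧ Module.Projective (WittVector p S) P' ∧
          ∃ π : P' →ₛₗ[WittVector.map (p := p) φ] P, Function.Surjective π ∧
            LinearMap.ker π = RingHom.ker (WittVector.map (p := p) φ) • (⊤ : Submodule (WittVector p S) P')) ∧
      ∀ (P₁ : Type u) [AddCommGroup P₁] [Module (WittVector p S) P₁]
        [Module.Finite (WittVector p S) P₁] [Module.Projective (WittVector p S) P₁]
        (P₂ : Type u) [AddCommGroup P₂] [Module (WittVector p S) P₂]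
        [Module.Finite (WittVector p S) P₂] [Module.Projective (WittVector p S) P₂]
        (π₁ : P₁ →ₛₗ[WittVector.map (p := p) φ] P) (π₂ : P₂ →ₛₗ[WittVector.map (p := p) φ] P),
        Function.Surjective π₁ →
          LinearMap.ker π₁ = RingHom.ker (WittVector.map (p := p) φ) • (⊤ : Submodule (WittVector p S) P₁) →
        Function.Surjective π₂ →
          LinearMap.ker π₂ = RingHom.ker (WittVector.map (p := p) φ) • (⊤ : Submodule (WittVector p S) P₂) →
        ∃ e : P₁ ≃ₗ[WittVector p S] P₂, ∀ x : P₁, π₂ (e x) = π₁ x := by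
  constructor
  · obtain ⟨q⟩ := exists_pres (R := WittVector p R) (M := P)
    obtain ⟨E, hEE, hEq⟩ := exists_idem φ hφ hnil hp q.e q.e_sq
    let P' := LinearMap.range (Matrix.mulVecLin E)
    let r : P' →ₗ[WittVector p S] (Fin q.k → WittVector p S) := P'.subtype
    let s := (Matrix.mulVecLin E).rangeRestrict
    have hs : ∀ z, s (r z) = z := fun z => by
      obtain ⟨z, v, rfl⟩ := z
      exact Subtype.ext (by simp [s, r, Matrix.mulVec_mulVec, hEE])
    have hfix : ∀ z : P', E.mulVec (z : Fin q.k → WittVector p S) = z := fun z => congrArg Subtype.val (hs z)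
    let π : P' →ₛₗ[WittVector.map (p := p) φ] P :=
      { toFun := fun z => q.π (fun i => WittVector.map φ ((z : Fin q.k → WittVector p S) i))
        map_add' := fun a b => by rw [← map_add]; congr 1; funext i; simp
        map_smul' := fun c a => by rw [← map_smul]; congr 1; funext i; simp }
    have hmv : ∀ v : Fin q.k → WittVector p S, (fun i => WittVector.map φ (E.mulVec v i)) =
        q.s (q.π fun i => WittVector.map φ (v i)) := fun v => by
      have hq : ∀ w, q.e.mulVec w = q.s (q.π w) := fun w => by rw [Pres.e, LinearMap.toMatrix'_mulVec]; rfl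
      rw [← hq]
      funext i
      rw [← hEq]
      exact RingHom.map_mulVec (WittVector.map φ) E v i
    refine ⟨P', inferInstance, inferInstance, Module.Finite.of_surjective s fun z => ⟨_, hs z⟩,
      Module.Projective.of_split r s (LinearMap.ext hs), π, fun z => ?_, le_antisymm ?_ ?_⟩
    · choose v hv using fun i => WittVector.map_surjective φ hφ (q.s z i)
      refine ⟨s v, ?_⟩
      show q.π (fun i => WittVector.map φ (E.mulVec v i)) = z
      rw [hmv, q.hs, show (fun i => WittVector.map φ (v i)) = q.s z from funext hv, q.hs]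
    · intro z hz
      have hz0 : ∀ i, WittVector.map φ ((z : Fin q.k → WittVector p S) i) = 0 := fun i => by
        have h := congrFun (hmv z) i
        rw [hfix] at h
        rw [h, show q.π (fun i => WittVector.map φ ((z : Fin q.k → WittVector p S) i)) = 0 from hz]
        simp
      rw [← hs z, show r z = ∑ j, r z j • Pi.single j 1 from pi_eq_sum_univ' _, map_sum]
      exact Submodule.sum_mem _ fun j _ => by
        rw [map_smul]; exact Submodule.smul_mem_smul (hz0 j) trivial
    · rw [Submodule.smul_le]
      intro a ha z _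
      rw [LinearMap.mem_ker, LinearMap.map_smulₛₗ, RingHom.mem_ker.1 ha, zero_smul]
  · intro P₁ _ _ _ _ P₂ _ _ _ _ π₁ π₂ hπ₁ hk₁ hπ₂ hk₂
    letI : Module (WittVector p S) P := Module.compHom P (WittVector.map (p := p) φ)
    let f₁ : P₁ →ₗ[WittVector p S] P := { toFun := π₁, map_add' := map_add π₁, map_smul' := fun c x => π₁.map_smulₛₗ c x }
    let f₂ : P₂ →ₗ[WittVector p S] P := { toFun := π₂, map_add' := map_add π₂, map_smul' := fun c x => π₂.map_smulₛₗ c x }
    obtain ⟨g, hg⟩ := Module.projective_lifting_property f₂ f₁ hπ₂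
    obtain ⟨h, hh⟩ := Module.projective_lifting_property f₁ f₂ hπ₁
    have hg' : ∀ x, π₂ (g x) = π₁ x := fun x => LinearMap.congr_fun hg x
    have hh' : ∀ x, π₁ (h x) = π₂ x := fun x => LinearMap.congr_fun hh x
    have hsg : Function.Surjective g := by
      rw [← LinearMap.range_eq_top, eq_top_iff]
      refine Submodule.le_of_le_smul_of_le_jacobson_bot Module.Finite.fg_top (ker_le_jacobson φ hnil hp) ?_
      intro y _
      obtain ⟨x, hx⟩ := hπ₁ (π₂ y)
      have : y - g x ∈ LinearMap.ker π₂ := by rw [LinearMap.mem_ker, map_sub, hg', hx, sub_self]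
      rw [hk₂] at this
      rw [← add_sub_cancel (g x) y]
      exact Submodule.add_mem_sup (LinearMap.mem_range_self g x) this
    have hsh : Function.Surjective h := by
      rw [← LinearMap.range_eq_top, eq_top_iff]
      refine Submodule.le_of_le_smul_of_le_jacobson_bot Module.Finite.fg_top (ker_le_jacobson φ hnil hp) ?_
      intro y _
      obtain ⟨x, hx⟩ := hπ₂ (π₁ y)
      have : y - h x ∈ LinearMap.ker π₁ := by rw [LinearMap.mem_ker, map_sub, hh', hx, sub_self]
      rw [hk₁] at this
      rw [← add_sub_cancel (h x) y]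
      exact Submodule.add_mem_sup (LinearMap.mem_range_self h x) this
    have hinj : Function.Injective g := by
      have := OrzechProperty.injective_of_surjective_endomorphism (h.comp g) (hsh.comp hsg)
      exact Function.Injective.of_comp this
    exact ⟨LinearEquiv.ofBijective g ⟨hinj, hsg⟩, hg'⟩

end Groth.Agent.S14867
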