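import Groth.Statements.S14869
import Mathlib.RingTheory.Ideal.AssociatedPrime.Finiteness
import Mathlib.RingTheory.Jacobson.Ring
import Mathlib.RingTheory.Artinian.Module
import Mathlib.RingTheory.Artinian.Ring
import Mathlib.RingTheory.Regular.IsSMulRegular
import Mathlib.RingTheory.AdicCompletion.Basic
import Mathlib.RingTheory.IntegralDomain
import Mathlib.RingTheory.FinitePresentation
import Mathlib.RingTheory.Flat.FaithfullyFlat.Basic
import Mathlib.RingTheory.Flat.FaithfullyFlat.Algebra
import Mathlib.RingTheory.IntegralClosure.IntegrallyClosed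
import Mathlib.LinearAlgebra.Matrix.MvPolynomial
import Mathlib.RingTheory.Polynomial.Basic
import Mathlib.RingTheory.Localization.FractionRing
import Mathlib.RingTheory.IntegralClosure.IsIntegral.Basic
import Mathlib.LinearAlgebra.TensorProduct.Tower
import Mathlib.RingTheory.Ideal.Quotient.Operations
import Mathlib.RingTheory.Ideal.Colon
import Mathlib.RingTheory.Support
import Mathlib.RingTheory.Noetherian.OfPrime
import Mathlib.RingTheory.HopkinsLevitzki
import Mathlib.RingTheory.Ideal.AssociatedPrime.Localization
import Mathlib.RingTheory.Flat.FaithfullyFlat.Descent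
import Mathlib.LinearAlgebra.TensorProduct.Quotient
import Mathlib.LinearAlgebra.TensorProduct.RightExactness
import Mathlib.RingTheory.PrincipalIdealDomain
import Mathlib.LinearAlgebra.Matrix.Charpoly.Basic
import Mathlib.RingTheory.Flat.Stability
import Mathlib.RingTheory.Nilpotent.Lemmas
import Mathlib.Algebra.Module.Projective
import Mathlib.RingTheory.LocalRing.ResidueField.Basic
import Mathlib.GroupTheory.OrderOfElement
import Mathlib.Algebra.EuclideanDomain.Int
import Mathlib.RingTheory.Spectrum.Maximal.Basic

set_option autoImplicit false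
universe u v w
open CAlg

namespace Groth.Agent.S14869
open TensorProduct

open TensorProduct in
/-- Let S → R be a surjective homomorphism of commutative rings, let π : P_1 → P_2 be a surjective
homomorphism of S-modules with P_2 projective, and let π̄ : R ⊗_S P_1 → R ⊗_S P_2 be its base
change. Then every R-linear section σ̄ of π̄ lifts to a section of π: there is an S-linear map σ :
P_2 → P_1 with π ∘ σ = id whose base change R ⊗_S σ is σ̄. -/
theorem result (S R : Type u) [CommRing S] [CommRing R] [Algebra S R]
    (hSR : Function.Surjective (algebraMap S R))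
    (P₁ : Type v) [AddCommGroup P₁] [Module S P₁]
    (P₂ : Type w) [AddCommGroup P₂] [Module S P₂] [Module.Projective S P₂]
    (π : P₁ →ₗ[S] P₂) (hπ : Function.Surjective π)
    (σ' : R ⊗[S] P₂ →ₗ[R] R ⊗[S] P₁) (hσ' : (π.baseChange R).comp σ' = LinearMap.id) :
    ∃ σ : P₂ →ₗ[S] P₁, π.comp σ = LinearMap.id ∧ σ.baseChange R = σ' := by
  obtain ⟨σ₀, h₀⟩ := Module.projective_lifting_property π LinearMap.id hπ
  let mk : P₁ →ₗ[S] R ⊗[S] P₁ := TensorProduct.mk S R P₁ 1
  let g : LinearMap.ker π →ₗ[S] R ⊗[S] P₁ := mk.comp (LinearMap.ker π).subtype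
  let d : P₂ →ₗ[S] R ⊗[S] P₁ := (σ'.restrictScalars S).comp (TensorProduct.mk S R P₂ 1) - mk.comp σ₀
  have hd : ∀ p, d p ∈ LinearMap.range g := by
    intro p
    have h1 : π.lTensor R (d p) = 0 := by
      have e := LinearMap.congr_fun hσ' ((1 : R) ⊗ₜ[S] p)
      have e0 : π (σ₀ p) = p := LinearMap.congr_fun h₀ p
      simp only [LinearMap.comp_apply, LinearMap.id_apply] at e
      change π.lTensor R (σ' (1 ⊗ₜ p) - 1 ⊗ₜ σ₀ p) = 0
      rw [map_sub, LinearMap.lTensor_tmul, e0, ← LinearMap.baseChange_eq_ltensor, e, sub_self]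
    obtain ⟨z, hz⟩ := ((lTensor_exact R (LinearMap.exact_subtype_ker_map π) hπ) (d p)).1 h1
    rw [← hz]
    clear hz
    induction z using TensorProduct.induction_on with
    | zero => simp
    | tmul r k =>
      obtain ⟨c, rfl⟩ := hSR r
      exact ⟨c • k, by simp [g, mk, Algebra.algebraMap_eq_smul_one, TensorProduct.smul_tmul]⟩
    | add x y hx hy => rw [map_add]; exact add_mem hx hy
  obtain ⟨δ, hδ⟩ := Module.projective_lifting_property g.rangeRestrict (d.codRestrict _ hd) g.surjective_rangeRestrict
  refine ⟨σ₀ + (LinearMap.ker π).subtype.comp δ, ?_, ?_⟩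
  · ext p; simp [show π (σ₀ p) = p from LinearMap.congr_fun h₀ p]
  · apply LinearMap.ext; intro z
    induction z using TensorProduct.induction_on with
    | zero => simp
    | tmul r p =>
      obtain ⟨c, rfl⟩ := hSR r
      have e : g (δ p) = d p := congrArg Subtype.val (LinearMap.congr_fun hδ p)
      simp only [g, d, mk, LinearMap.comp_apply, LinearMap.sub_apply, LinearMap.restrictScalars_apply, TensorProduct.mk_apply, Submodule.coe_subtype] at e
      rw [Algebra.algebraMap_eq_smul_one, ← TensorProduct.smul_tmul', LinearMap.map_smul_of_tower, LinearMap.map_smul_of_tower, LinearMap.baseChange_tmul]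
      simp [TensorProduct.tmul_add, e]
    | add x y hx hy => rw [map_add, map_add, hx, hy]

end Groth.Agent.S14869
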