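import Groth.Statements.S14870
import Groth.Agent.Lib.PLie23.Basic

set_option autoImplicit false
universe u v w
open PLie

namespace Groth.Agent.S14870

/-- Let `L` be a Lie algebra over a field of characteristic `p` equipped with a `p`-mapping `φ`, and let
`f : L → L'` be a surjective morphism of Lie algebras onto a Lie algebra with zero centre. Then the
kernel of `f` is stable under `φ`, i.e. it is a `p`-ideal. (The published statement is for
finite-dimensional Lie algebras; no finiteness is assumed in this row.) -/
theorem result
    (k : Type u) [Field k] (p : ℕ) [Fact p.Prime] [CharP k p]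
    (L : Type v) [LieRing L] [LieAlgebra k L] (L' : Type w) [LieRing L'] [LieAlgebra k L']
    (φ : PLie.PMap k p L) (f : L →ₗ⁅k⁆ L') (hf : Function.Surjective f)
    (hz : LieAlgebra.center k L' = ⊥) (x : L) (hx : f x = 0) :
    f (φ x) = 0 := by

  have hp : p ≠ 0 := (Fact.out : p.Prime).ne_zero
  have hc : f (φ.toFun x) ∈ LieAlgebra.center k L' := by
    rw [← Groth.Agent.PLie23.ad_eq_zero_iff]
    refine LinearMap.ext fun z => ?_
    obtain ⟨w, rfl⟩ := hf z
    rw [LieAlgebra.ad_apply, ← LieHom.map_lie, LinearMap.zero_apply]
    have : ⁅φ.toFun x, w⁆ ∈ f.ker := Groth.Agent.PLie23.lie_pMap_mem hp φ f.ker (by simpa using hx) w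
    simpa using this
  rw [hz] at hc
  simpa using hc


end Groth.Agent.S14870
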