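import Groth.Statements.S14871
import Groth.Agent.Lib.PLie23.Basic

set_option autoImplicit false
universe u v
open PLie

namespace Groth.Agent.S14871

/-- Let `L` be a finite-dimensional Lie algebra over a field of characteristic `p` equipped with a
`p`-mapping `φ`. Then the solvable radical of `L` is stable under `φ` (it is a `p`-subalgebra). -/
theorem result
    (k : Type u) [Field k] (p : ℕ) [Fact p.Prime] [CharP k p]
    (L : Type v) [LieRing L] [LieAlgebra k L] [Module.Finite k L]
    (φ : PLie.PMap k p L) (x : L) (hx : x ∈ LieAlgebra.radical k L) :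
    φ x ∈ LieAlgebra.radical k L := by

  have hp : p ≠ 0 := (Fact.out : p.Prime).ne_zero
  have hz := Groth.Agent.PLie23.lie_pMap_mem hp φ (LieAlgebra.radical k L) hx
  set z := φ.toFun x with hzdef
  let J := Groth.Agent.PLie23.adjoin (LieAlgebra.radical k L) z hz
  have hJJ : ⁅J, J⁆ ≤ LieAlgebra.radical k L := by
    rw [LieSubmodule.lie_le_iff]
    intro a ha b hb
    obtain ⟨a₁, ha₁, c₁, rfl⟩ := Groth.Agent.PLie23.mem_adjoin.mp ha
    rw [add_lie, smul_lie]
    exact add_mem (lie_mem_left k L _ a₁ b ha₁) (Submodule.smul_mem _ c₁ (hz b))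
  have hsol : LieAlgebra.IsSolvable J := by
    have h := LieAlgebra.le_solvable_ideal_solvable hJJ inferInstance
    rw [LieAlgebra.isSolvable_iff k] at h ⊢
    obtain ⟨n, hn⟩ := h
    refine ⟨n + 1, ?_⟩
    rw [LieIdeal.derivedSeries_eq_bot_iff] at hn ⊢
    rw [LieAlgebra.derivedSeriesOfIdeal_add, LieAlgebra.derivedSeriesOfIdeal_succ,
      LieAlgebra.derivedSeriesOfIdeal_zero]
    exact hn
  have hle : J ≤ LieAlgebra.radical k L :=
    (LieAlgebra.LieIdeal.solvable_iff_le_radical k L J).mp hsol
  exact hle (Groth.Agent.PLie23.mem_adjoin.mpr ⟨0, zero_mem _, 1, by simp⟩)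


end Groth.Agent.S14871
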