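import Groth.Statements.S14872
import Groth.Agent.Lib.PLie23.Basic

set_option autoImplicit false
universe u v
open PLie

namespace Groth.Agent.S14872

/-- Let `L` be a finite-dimensional Lie algebra over a field of characteristic `p` equipped with a
`p`-mapping `φ`, and let `N` be its nilradical, i.e. the ideal of `L` that is nilpotent as a Lie
ring and contains every ideal of `L` nilpotent as a Lie ring. Then `N` is stable under `φ` (it is a
`p`-subalgebra). (The nilradical is given here through its characterising property; it is not the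
largest submodule on which `L` acts nilpotently.) -/
theorem result
    (k : Type u) [Field k] (p : ℕ) [Fact p.Prime] [CharP k p]
    (L : Type v) [LieRing L] [LieAlgebra k L] [Module.Finite k L]
    (φ : PLie.PMap k p L) (N : LieIdeal k L) (hN : LieRing.IsNilpotent N)
    (hmax : ∀ I : LieIdeal k L, LieRing.IsNilpotent I → I ≤ N)
    (x : L) (hx : x ∈ N) : φ x ∈ N := by

  have hp : p ≠ 0 := (Fact.out : p.Prime).ne_zero
  have hz := Groth.Agent.PLie23.lie_pMap_mem hp φ N hx
  set z := φ.toFun x with hzdef
  let J := Groth.Agent.PLie23.adjoin N z hz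
  have hN' := (Groth.Agent.PLie23.lieIdeal_isNilpotent_iff N).mp hN
  obtain ⟨K, hK⟩ := Groth.Agent.PLie23.exists_flag_eq_bot (N : LieSubalgebra k L) hN'
  have hJ : LieRing.IsNilpotent J := by
    rw [Groth.Agent.PLie23.lieIdeal_isNilpotent_iff]
    intro y hy
    obtain ⟨a, ha, c, rfl⟩ := Groth.Agent.PLie23.mem_adjoin.mp hy
    refine Groth.Agent.PLie23.isNilpotent_of_flag hK _ fun m f hf => ?_
    rw [LieAlgebra.ad_apply, add_lie, smul_lie]
    refine add_mem (Groth.Agent.PLie23.lie_mem_flag_succ ha hf) (Submodule.smul_mem _ c ?_)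
    rw [hzdef, Groth.Agent.PLie23.ad_pow_lie]
    have key : ∀ n, ((LieAlgebra.ad k L x) ^ n) f ∈
        Groth.Agent.PLie23.flag (R := k) ((N : LieSubalgebra k L) : Set L) (m + n) := by
      intro n
      induction n with
      | zero => simpa using hf
      | succ n ih =>
        rw [pow_succ', Module.End.mul_apply, LieAlgebra.ad_apply]
        exact Groth.Agent.PLie23.lie_mem_flag_succ hx ih
    obtain ⟨q, hq⟩ := Nat.exists_eq_succ_of_ne_zero hp
    have hmono : Groth.Agent.PLie23.flag (R := k) ((N : LieSubalgebra k L) : Set L) (m + p) ≤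
        Groth.Agent.PLie23.flag (R := k) ((N : LieSubalgebra k L) : Set L) (m + 1) :=
      antitone_nat_of_succ_le Groth.Agent.PLie23.flag_succ_le (by omega)
    exact hmono (key p)
  exact hmax J hJ (Groth.Agent.PLie23.mem_adjoin.mpr ⟨0, zero_mem _, 1, by simp⟩)


end Groth.Agent.S14872
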