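import Groth.Statements.S14874
import Groth.Agent.Lib.PLie23.Basic
import Groth.Agent.S14872
import Groth.Agent.S14873

set_option autoImplicit false
universe u v
open PLie

namespace Groth.Agent.S14874

/-- Let `L` be a finite-dimensional Lie algebra over a field of characteristic `p` equipped with a
`p`-mapping `φ`. Let `N` be the nilradical of `L` (the ideal nilpotent as a Lie ring that contains
every such ideal) and `P` its `p`-radical (the largest ideal stable under `φ` all of whose elements
are `p`-nilpotent). Then `N = P` if and only if the centre of `L` is contained in `P`. -/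
theorem result
    (k : Type u) [Field k] (p : ℕ) [Fact p.Prime] [CharP k p]
    (L : Type v) [LieRing L] [LieAlgebra k L] [Module.Finite k L]
    (φ : PLie.PMap k p L)
    (N : LieIdeal k L) (hN : LieRing.IsNilpotent N)
    (hNmax : ∀ I : LieIdeal k L, LieRing.IsNilpotent I → I ≤ N)
    (P : LieIdeal k L) (hPsub : ∀ x ∈ P, φ x ∈ P) (hPnil : ∀ x ∈ P, PLie.IsPNilpotent φ x)
    (hPmax : ∀ J : LieIdeal k L, (∀ x ∈ J, φ x ∈ J) → (∀ x ∈ J, PLie.IsPNilpotent φ x) → J ≤ P) :
    N = P ↔ LieAlgebra.center k L ≤ P := by

  constructor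
  · rintro rfl
    apply hNmax
    rw [Groth.Agent.PLie23.lieIdeal_isNilpotent_iff]
    intro y hy
    rw [(Groth.Agent.PLie23.ad_eq_zero_iff y).mpr hy]
    exact IsNilpotent.zero
  · intro hc
    refine le_antisymm ?_ (hNmax P (Groth.Agent.S14873.result k p L φ P hPsub hPnil))
    refine hPmax N (fun x hx => Groth.Agent.S14872.result k p L φ N hN hNmax x hx) fun x hx => ?_
    obtain ⟨n, hn⟩ := (Groth.Agent.PLie23.lieIdeal_isNilpotent_iff N).mp hN x hx
    have hp2 : 2 ≤ p := (Fact.out : p.Prime).two_le
    have hmem : φ.toFun^[n] x ∈ LieAlgebra.center k L := by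
      rw [← Groth.Agent.PLie23.ad_eq_zero_iff, Groth.Agent.PLie23.ad_iterate]
      exact pow_eq_zero_of_le (Nat.lt_pow_self hp2).le hn
    obtain ⟨m, hm⟩ := hPnil _ (hc hmem)
    refine ⟨m + n, ?_⟩
    rw [Function.iterate_add_apply]
    exact hm


end Groth.Agent.S14874
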