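import Groth.Statements.S14875
import Groth.Agent.Lib.PLie23.Basic

set_option autoImplicit false
universe u v
open PLie

namespace Groth.Agent.S14875

/-- Let `L` be a finite-dimensional Lie algebra over a field of characteristic `p` equipped with a
`p`-mapping `φ`, whose Killing form is non-degenerate. Let `U` and `H` be Lie subalgebras of `L`
such that `H` is the normaliser of `U`, `U` is the set of elements of `H` that lie in the solvable
radical of `H` and are `p`-nilpotent, and the orthogonal of `U` for the Killing form is closed under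
the bracket. Then `U` is the orthogonal of `H` for the Killing form. (The published statement is for
the Lie algebra of a reductive group over a field of characteristic `p` with its canonical
`p`-structure; this row states it for any finite-dimensional Lie algebra with a `p`-mapping.) -/
theorem result
    (k : Type u) [Field k] (p : ℕ) [Fact p.Prime] [CharP k p]
    (L : Type v) [LieRing L] [LieAlgebra k L] [Module.Finite k L]
    (φ : PLie.PMap k p L) (hκ : (killingForm k L).Nondegenerate)
    (U H : LieSubalgebra k L) (hH : H = U.normalizer)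
    (hU : ∀ x : L, x ∈ U ↔ ∃ hx : x ∈ H, (⟨x, hx⟩ : ↥H) ∈ LieAlgebra.radical k ↥H ∧ PLie.IsPNilpotent φ x)
    (hperp : ∀ a b : L, (∀ y ∈ U, killingForm k L a y = 0) → (∀ y ∈ U, killingForm k L b y = 0) →
      ∀ y ∈ U, killingForm k L ⁅a, b⁆ y = 0) :
    ∀ x : L, x ∈ U ↔ ∀ h ∈ H, killingForm k L h x = 0 := by

  set B := killingForm k L with hB
  have hrefl : B.IsRefl := (LieModule.traceForm_isSymm k L L).isRefl
  have hUnil : ∀ u ∈ U, IsNilpotent (LieAlgebra.ad k L u) := by
    intro u hu
    obtain ⟨_, _, h⟩ := (hU u).mp hu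
    exact Groth.Agent.PLie23.isNilpotent_ad_of_isPNilpotent φ h
  obtain ⟨K, hK⟩ := Groth.Agent.PLie23.exists_flag_eq_bot U hUnil
  have hnorm : ∀ h ∈ H, ∀ s ∈ (U : Set L), ⁅h, s⁆ ∈ (U : Set L) := by
    intro h hh s hs
    rw [hH] at hh
    exact (LieSubalgebra.mem_normalizer_iff U h).mp hh s hs
  have horth : ∀ x ∈ U, ∀ h ∈ H, B h x = 0 := by
    intro x hx h hh
    rw [hB, LieModule.traceForm_apply_apply]
    refine IsNilpotent.eq_zero (LinearMap.isNilpotent_trace_of_isNilpotent ?_)
    refine Groth.Agent.PLie23.isNilpotent_of_flag hK _ fun m f hf => ?_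
    exact Groth.Agent.PLie23.flag_stable h (hnorm h hh) (m + 1) _
      (Groth.Agent.PLie23.lie_mem_flag_succ hx hf)
  intro x
  refine ⟨fun hx h hh => horth x hx h hh, fun hx => ?_⟩
  have hdd := LinearMap.BilinForm.orthogonal_orthogonal hκ hrefl U.toSubmodule
  have hmem : ∀ v, v ∈ B.orthogonal U.toSubmodule ↔ ∀ y ∈ U, B v y = 0 := by
    intro v
    rw [LinearMap.BilinForm.mem_orthogonal_iff]
    exact ⟨fun h y hy => hrefl _ _ (h y hy), fun h y hy => hrefl _ _ (h y hy)⟩
  have hdd' : ∀ v, (∀ b ∈ B.orthogonal U.toSubmodule, B b v = 0) → v ∈ U := by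
    intro v hv
    have : v ∈ B.orthogonal (B.orthogonal U.toSubmodule) := by
      rw [LinearMap.BilinForm.mem_orthogonal_iff]; exact hv
    rw [hdd] at this
    exact this
  have hVH : ∀ v ∈ B.orthogonal U.toSubmodule, v ∈ H := by
    intro v hv
    rw [hH, LieSubalgebra.mem_normalizer_iff]
    intro y hy
    refine hdd' _ fun b hb => ?_
    have := hperp b v ((hmem b).mp hb) ((hmem v).mp hv) y hy
    rw [hB, LieModule.traceForm_apply_lie_apply] at this
    exact this
  exact hdd' x fun b hb => hx b (hVH b hb)


end Groth.Agent.S14875
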