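import Groth.Statements.S14877
import Groth.Agent.Lib.TorsorSch25.Basic
import Groth.Agent.Lib.AlgGrpBasic19.Basic
import Groth.Agent.Lib.AlgSpDescent.SchemeSource

set_option autoImplicit false
universe u
open CategoryTheory MonoidalCategory CartesianMonoidalCategory MonObj GrpObj AlgebraicGeometry CategoryTheory.Limits
open AlgGrp

namespace Groth.Agent.S14877

set_option backward.isDefEq.respectTransparency.types false
open CategoryTheory.Limits Groth.Agent.TorsorSch25 Groth.Agent.AlgGrpBasic19

/-- Pointwise version of `flat_of_comp_flat_surjective`. -/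
theorem flat_of_local_covers {X Y : Scheme.{u}} (f : X ⟶ Y)
    (h : ∀ x : X, ∃ (W : Scheme.{u}) (g : W ⟶ X) (w : W), Flat g ∧ Flat (g ≫ f) ∧ g w = x) : Flat f := by
  refine Flat.of_stalkMap f fun x => ?_
  obtain ⟨W, g, w, _, _, rfl⟩ := h x
  have h : ((g ≫ f).stalkMap w).hom.Flat := Flat.stalkMap (g ≫ f) w
  rw [Scheme.Hom.stalkMap_comp] at h
  change ((g.stalkMap w).hom.comp (f.stalkMap (g w)).hom).Flat at h
  have hg : (g.stalkMap w).hom.Flat := Flat.stalkMap g w
  algebraize [(f.stalkMap (g w)).hom, (g.stalkMap w).hom,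
    (g.stalkMap w).hom.comp (f.stalkMap (g w)).hom]
  have : Module.FaithfullyFlat (X.presheaf.stalk (g w)) (W.presheaf.stalk w) :=
    @Module.FaithfullyFlat.of_flat_of_isLocalHom _ _ _ _ _ _ _ ‹_› (g.toLRSHom.prop w)
  exact Groth.Agent.AlgSpDescent.flat_of_faithfullyFlat_source (Y.presheaf.stalk (f (g w)))
    (X.presheaf.stalk (g w)) (W.presheaf.stalk w)


/-- Over an algebraically closed field k of characteristic zero, let G be an algebraic group (a smooth
k-group scheme of finite type) acting on a variety P (reduced, separated, of finite type over k),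
and let π : P → X be a geometric quotient by this action onto a variety X: π is invariant,
surjective and open, the map (g, p) ↦ (g·p, p) from G × P to P ×_X P is surjective on points, and
for every open U of X the sections of O_X over U are exactly the invariant sections of O_P over
π⁻¹U. Suppose the bundle is locally isotrivial: every point of X has an open neighbourhood U with a
finite étale surjective morphism U' → U and a morphism s : U' → P lifting U' → U → X such that (u,
g) ↦ g·s(u) exhibits U' × G as the fibre product U' ×_X P. Then the bundle is principal: (g, p) ↦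
(g·p, p) is an isomorphism of G × P onto P ×_X P, and π is flat. (The published definition of an
étale covering asks only for a finite étale morphism; this row also requires it to be surjective,
since an empty cover would make every bundle isotrivial.) -/
theorem result (k : Type u) [Field k] [IsAlgClosed k] [CharZero k]
    (G P X : Over (Spec (CommRingCat.of k))) [GrpObj G] [Smooth G.hom] [QuasiCompact G.hom]
    [LocallyOfFiniteType P.hom] [QuasiCompact P.hom] [IsSeparated P.hom] [IsReduced P.left]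
    [LocallyOfFiniteType X.hom] [QuasiCompact X.hom] [IsSeparated X.hom] [IsReduced X.left]
    (a : AlgGrp.Action G P) (π : P ⟶ X) (hinv : GIT.IsInvariant a π)
    (hq : Function.Surjective π.left.base ∧ IsOpenMap π.left.base ∧
      Function.Surjective (GIT.PsiY a π hinv).base ∧
      ∀ U : X.left.Opens, Function.Injective (π.left.app U) ∧
        Set.range (π.left.app U) = {f | GIT.IsInvSection a π U f})
    (hli : ∀ x : ↥X.left, ∃ (U : X.left.Opens) (_ : x ∈ U) (U' : Scheme.{u}) (φ : U' ⟶ ↑U)
      (_ : IsFinite φ) (_ : Etale φ) (_ : Surjective φ) (s : Over.mk (φ ≫ U.ι ≫ X.hom) ⟶ P),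
      s.left ≫ π.left = φ ≫ U.ι ∧
      IsPullback (fst (Over.mk (φ ≫ U.ι ≫ X.hom)) G).left (lift (snd (Over.mk (φ ≫ U.ι ≫ X.hom)) G) (fst (Over.mk (φ ≫ U.ι ≫ X.hom)) G ≫ s) ≫ a.act).left
        (φ ≫ U.ι) π.left) :
    IsIso (GIT.PsiY a π hinv) ∧ Flat π.left := by
  choose U hxU U' φ hfin het hsur s hs hpb using hli
  let c : ∀ x, U' x ⟶ X.left := fun x => φ x ≫ (U x).ι
  haveI : ∀ x, Etale (c x) := fun x => by haveI := het x; infer_instance
  have hc : ∀ x, x ∈ Set.range (c x) := fun x => by
    obtain ⟨z, hz⟩ := (hsur x).surj ⟨x, hxU x⟩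
    exact ⟨z, by simp [c, hz]⟩
  refine ⟨?_, ?_⟩
  · let R : Presieve X.left := Presieve.ofArrows U' c
    have hR : R ∈ Scheme.fpqcPrecoverage X.left := Scheme.fppfPrecoverage_le_fpqcPrecoverage _
      ((Scheme.ofArrows_mem_precoverage_iff _).2 ⟨fun x => ⟨x, hc x⟩, fun x => ⟨inferInstance, inferInstance⟩⟩)
    -- uniqueness and existence over the isotrivialising covers
    have key : ∀ (x : X.left) {T' : Over (Spec (CommRingCat.of k))}
        (t : T' ⟶ Over.mk (φ x ≫ (U x).ι ≫ X.hom)) (p₁ : T' ⟶ P), t.left ≫ c x = p₁.left ≫ π.left →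
        ∃! g : T' ⟶ G, lift g (t ≫ s x) ≫ a.act = p₁ := by
      intro x T' t p₁ e
      have hθ : ∀ g : T' ⟶ G, lift t g ≫ lift (snd (Over.mk (φ x ≫ (U x).ι ≫ X.hom)) G)
          (fst (Over.mk (φ x ≫ (U x).ι ≫ X.hom)) G ≫ s x) ≫ a.act = lift g (t ≫ s x) ≫ a.act := fun g => by
        rw [comp_lift_assoc, lift_snd, lift_fst_assoc]
      let l := (hpb x).lift t.left p₁.left e
      let L : T' ⟶ Over.mk (φ x ≫ (U x).ι ≫ X.hom) ⊗ G := Over.homMk l (by
        rw [← Over.w (fst (Over.mk (φ x ≫ (U x).ι ≫ X.hom)) G),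
          reassoc_of% ((hpb x).lift_fst t.left p₁.left e), Over.w t])
      have hL1 : L ≫ fst (Over.mk (φ x ≫ (U x).ι ≫ X.hom)) G = t :=
        Over.OverMorphism.ext ((hpb x).lift_fst t.left p₁.left e)
      have hL : L = lift t (L ≫ snd (Over.mk (φ x ≫ (U x).ι ≫ X.hom)) G) := by
        conv_rhs => rw [← hL1]
        rw [← comp_lift, lift_fst_snd, Category.comp_id]
      refine ⟨L ≫ snd (Over.mk (φ x ≫ (U x).ι ≫ X.hom)) G, ?_, fun g hg => ?_⟩
      · show lift _ _ ≫ _ = _
        rw [← hθ, ← hL]
        exact Over.OverMorphism.ext ((hpb x).lift_snd t.left p₁.left e)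
      · have : lift t g = L := by
          apply Over.OverMorphism.ext
          apply (hpb x).hom_ext
          · exact (congrArg CommaMorphism.left (lift_fst t g)).trans ((hpb x).lift_fst t.left p₁.left e).symm
          · exact (congrArg CommaMorphism.left ((hθ g).trans hg)).trans ((hpb x).lift_snd t.left p₁.left e).symm
        rw [← this, lift_snd]
    have hmain : ∀ (T : Over (Spec (CommRingCat.of k))) (p p' : T ⟶ P), p ≫ π = p' ≫ π →
        ∃! g : T ⟶ G, lift g p ≫ a.act = p' := by
      intro T p p' e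
      have hR' : R.pullbackArrows (p ≫ π).left ∈ Scheme.fpqcPrecoverage T.left :=
        Precoverage.pullbackArrows_mem _ hR
      have loc : ∀ ⦃T' : Over (Spec (CommRingCat.of k))⦄ (f : T' ⟶ T), R.pullbackArrows (p ≫ π).left f.left →
          ∃ (x : X.left) (t : T' ⟶ Over.mk (φ x ≫ (U x).ι ≫ X.hom)), t.left ≫ c x = (f ≫ p ≫ π).left := by
        intro T' f hf
        obtain ⟨V, v, hv, q, hq⟩ := exists_of_pullbackArrows hf
        obtain ⟨x⟩ := hv
        exact ⟨x, Over.homMk q (by
          show q ≫ φ x ≫ (U x).ι ≫ X.hom = T'.hom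
          rw [← Category.assoc (φ x), reassoc_of% hq, Over.w (p ≫ π), Over.w f]), hq⟩
      have ex : ∀ ⦃T' : Over (Spec (CommRingCat.of k))⦄ (f : T' ⟶ T), R.pullbackArrows (p ≫ π).left f.left →
          ∃! g : T' ⟶ G, lift g (f ≫ p) ≫ a.act = f ≫ p' := by
        intro T' f hf
        obtain ⟨x, t, ht⟩ := loc f hf
        obtain ⟨g₁, hg₁, -⟩ := key x t (f ≫ p) (by rw [ht, ← Category.assoc, Over.comp_left])
        obtain ⟨g₂, hg₂, hu₂⟩ := key x t (f ≫ p') (by rw [ht, e, ← Category.assoc, Over.comp_left])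
        refine ⟨g₂ * g₁⁻¹, ?_, fun g hg => ?_⟩
        · show lift _ _ ≫ _ = _
          rw [← hg₁, ← act_mul, inv_mul_cancel_right, hg₂]
        · have : g * g₁ = g₂ := hu₂ _ (show lift _ _ ≫ _ = _ by rw [act_mul, hg₁, hg])
          rw [← this, mul_inv_cancel_right]
      have uniq : ∀ ⦃T' : Over (Spec (CommRingCat.of k))⦄ (f : T' ⟶ T) (g g' : T' ⟶ G),
          lift g (f ≫ p) ≫ a.act = f ≫ p' → lift g' (f ≫ p) ≫ a.act = f ≫ p' → g = g' := by
        intro T' f g g' hg hg'
        refine hom_ext_of_cover (Precoverage.pullbackArrows_mem (f ≫ p ≫ π).left hR) fun V d hd => ?_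
        obtain ⟨V', v, hv, q, hq⟩ := exists_of_pullbackArrows hd
        obtain ⟨x⟩ := hv
        let t : V ⟶ Over.mk (φ x ≫ (U x).ι ≫ X.hom) := Over.homMk q (by
          show q ≫ φ x ≫ (U x).ι ≫ X.hom = V.hom
          rw [← Category.assoc (φ x), reassoc_of% hq, Over.w (f ≫ p ≫ π), Over.w d])
        have ht : t.left ≫ c x = (d ≫ f ≫ p ≫ π).left := hq
        obtain ⟨g₁, hg₁, -⟩ := key x t (d ≫ f ≫ p) (by
          rw [ht, ← Over.comp_left, Category.assoc, Category.assoc])
        obtain ⟨g₂, -, hu₂⟩ := key x t (d ≫ f ≫ p') (by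
          rw [ht, ← Over.comp_left, Category.assoc, Category.assoc, e])
        have h1 : ∀ g'' : T' ⟶ G, lift g'' (f ≫ p) ≫ a.act = f ≫ p' →
            lift ((d ≫ g'') * g₁) (t ≫ s x) ≫ a.act = d ≫ f ≫ p' := fun g'' h'' => by
          rw [act_mul, hg₁, ← comp_lift_assoc, h'']
        exact mul_right_cancel ((hu₂ _ (h1 g hg)).trans (hu₂ _ (h1 g' hg')).symm)
      obtain ⟨g, hg⟩ := exists_glue (T := T) (Z := G) (fun T' f g => lift g (f ≫ p) ≫ a.act = f ≫ p')
        (fun T' T'' b f z hz => by rw [Category.assoc, Category.assoc, ← hz, comp_lift_assoc])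
        uniq hR' (fun T' f hf => (ex f hf).exists)
      refine ⟨g, ?_, fun g' hg' => ?_⟩
      · refine hom_ext_of_cover hR' fun T' f hf => ?_
        rw [comp_lift_assoc]
        exact hg f hf
      · refine hom_ext_of_cover hR' fun T' f hf => (ex f hf).unique ?_ (hg f hf)
        show lift (f ≫ g') (f ≫ p) ≫ a.act = f ≫ p'
        rw [← comp_lift_assoc, hg']
    -- the universal pair of points
    let T : Over (Spec (CommRingCat.of k)) := Over.mk (pullback.fst π.left π.left ≫ P.hom)
    let p' : T ⟶ P := Over.homMk (pullback.fst π.left π.left) rfl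
    let p : T ⟶ P := Over.homMk (pullback.snd π.left π.left) (by
      show pullback.snd π.left π.left ≫ P.hom = pullback.fst π.left π.left ≫ P.hom
      conv_lhs => rw [← Over.w π, ← pullback.condition_assoc, Over.w π])
    obtain ⟨g, hg, -⟩ := hmain T p p' (Over.OverMorphism.ext pullback.condition.symm)
    let Ψ : G ⊗ P ⟶ T := Over.homMk (GIT.PsiY a π hinv) (by
      show GIT.PsiY a π hinv ≫ pullback.fst π.left π.left ≫ P.hom = _
      rw [GIT.PsiY]; erw [pullback.lift_fst_assoc]; rw [Over.w a.act])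
    have hΨ1 : Ψ ≫ p' = a.act := Over.OverMorphism.ext (pullback.lift_fst _ _ _)
    have hΨ2 : Ψ ≫ p = snd G P := Over.OverMorphism.ext (pullback.lift_snd _ _ _)
    refine ⟨(lift g p).left, ?_, ?_⟩
    · have h1 : Ψ ≫ lift g p = 𝟙 (G ⊗ P) := by
        have hu := (hmain _ (snd G P) a.act hinv.symm).unique
          (y₁ := Ψ ≫ g) (y₂ := fst G P) (by
            show lift (Ψ ≫ g) (snd G P) ≫ a.act = a.act
            rw [← hΨ2, ← comp_lift_assoc, hg, hΨ1])
          (by show lift (fst G P) (snd G P) ≫ a.act = a.act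
              rw [lift_fst_snd, Category.id_comp])
        rw [comp_lift, hu, hΨ2, lift_fst_snd]
      exact congrArg CommaMorphism.left h1
    · have h2 : lift g p ≫ Ψ ≫ p' = p' := by rw [hΨ1, hg]
      have h3 : lift g p ≫ Ψ ≫ p = p := by rw [hΨ2, lift_snd]
      apply pullback.hom_ext
      · rw [Category.assoc, Category.id_comp]; exact congrArg CommaMorphism.left h2
      · rw [Category.assoc, Category.id_comp]; exact congrArg CommaMorphism.left h3
  · refine flat_of_local_covers π.left fun p => ?_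
    set x := π.left p with hx
    obtain ⟨z, hz⟩ := hc x
    obtain ⟨w, hw1, hw2⟩ := Scheme.exists_preimage_of_isPullback (hpb x) z p hz
    haveI : Flat (lift (snd (Over.mk (φ x ≫ (U x).ι ≫ X.hom)) G)
        (fst (Over.mk (φ x ≫ (U x).ι ≫ X.hom)) G ≫ s x) ≫ a.act).left :=
      MorphismProperty.of_isPullback (P := @Flat) (hpb x) (inferInstanceAs (Flat (c x)))
    refine ⟨_, _, w, this, ?_, hw2⟩
    rw [← (hpb x).w]
    haveI : Flat G.hom := inferInstance
    haveI : Flat (fst (Over.mk (φ x ≫ (U x).ι ≫ X.hom)) G).left :=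
      (MorphismProperty.pullback_fst (P := @Flat) (φ x ≫ (U x).ι ≫ X.hom) G.hom ‹Flat G.hom› :
        Flat (pullback.fst (φ x ≫ (U x).ι ≫ X.hom) G.hom))
    haveI : Flat (φ x ≫ (U x).ι) := inferInstanceAs (Flat (c x))
    infer_instance

end Groth.Agent.S14877
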