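import Groth.Statements.S14879


set_option autoImplicit false
universe u
open Finset
open AlgGrp

namespace Groth.Agent.S14879

open Equiv

private lemma blockPerm_sum {k : Type u} [Field k] {n : ℕ} (M : Matrix (Fin n) (Fin n) k)
    (f : Fin n → Fin n) (ρ : Perm (Fin n)) :
    ∑ π : Perm (Fin n), (((Perm.sign π : ℤˣ) : ℤ) : k) * ∏ j, M (f j) (π (ρ j)) =
      (((Perm.sign ρ : ℤˣ) : ℤ) : k) * (M.submatrix f id).det := by
  rw [← Matrix.det_transpose, Matrix.det_apply', Finset.mul_sum]
  refine Fintype.sum_equiv (Equiv.mulRight ρ) _ _ (fun π => ?_)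
  simp only [Equiv.coe_mulRight, Matrix.transpose_apply, Matrix.submatrix_apply, id_eq, map_mul,
    Units.val_mul, Int.cast_mul, Perm.mul_apply]
  rw [← mul_assoc]
  congr 1
  rw [mul_left_comm, ← Int.cast_mul, ← Units.val_mul, Int.units_mul_self]
  simp

private lemma mul_permMatrix_apply {k : Type u} [Field k] {n : ℕ} (M : Matrix (Fin n) (Fin n) k)
    (π : Perm (Fin n)) (i j : Fin n) : (M * π.permMatrix k) i j = M i (π.symm j) := by
  simp [Equiv.Perm.permMatrix, PEquiv.mul_toMatrix_toPEquiv]


/-- Let k be a field of characteristic zero, n = p + r with p, r ≥ 1, M an n × n matrix over k, A a set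
of p row indices and B a set of r row indices, both listed increasingly. For a permutation π of the
indices, with permutation matrix P_π, let Y_A(M·P_π) be the minor of M·P_π on the rows A and the
first p columns, and Z_B(M·P_π) the minor on the rows B and the last r columns. Then the sum over
all π of sign(π)·Y_A(M·P_π)·Z_B(M·P_π) equals p!·r!·(−1)^N·det M when B is the complement of A,
where N is the number of pairs (a, b) with a in A, b outside A and b < a, and equals 0 otherwise.
Taking det M = 1 this says that the pairing (f, h) ↦ Σ_π sign(π) f(π) h(π) between the spans of the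
left p-minors and of the right r-minors is invariant under left translation by matrices of
determinant one and pairs Y_A with the signed complementary minor to p!·r!. (The published statement
asserts that the two families of minors are dual bases for this pairing, that is, the value 1 in
place of p!·r!; the p!·r! permutations preserving the two column blocks each contribute the same
signed term, so this row carries that factor, which is 1 only for n = 2.) -/
theorem result (k : Type u) [Field k] [CharZero k]
    (p r : ℕ) (hp : 1 ≤ p) (hr : 1 ≤ r) (M : Matrix (Fin (p + r)) (Fin (p + r)) k)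
    (A : Finset (Fin (p + r))) (hA : A.card = p) (B : Finset (Fin (p + r))) (hB : B.card = r) :
    ∑ π : Equiv.Perm (Fin (p + r)), (((Equiv.Perm.sign π : ℤˣ) : ℤ) : k) *
      ((M * π.permMatrix k).submatrix (A.orderEmbOfFin hA) (Fin.castAdd r)).det *
      ((M * π.permMatrix k).submatrix (B.orderEmbOfFin hB) (Fin.natAdd p)).det =
    if B = Aᶜ then ((p.factorial * r.factorial : ℕ) : k) *
      (-1 : k) ^ ((A ×ˢ Aᶜ).filter (fun ab => ab.2 < ab.1)).card * M.det else 0 := by
  classical
  set a : Fin p → Fin (p + r) := ⇑(A.orderEmbOfFin hA) with ha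
  set b : Fin r → Fin (p + r) := ⇑(B.orderEmbOfFin hB) with hb
  let f : Fin (p + r) → Fin (p + r) := Fin.addCases a b
  let ρ : Perm (Fin p) → Perm (Fin r) → Perm (Fin (p + r)) := fun s t =>
    finSumFinEquiv.permCongr (Equiv.Perm.sumCongr s t)
  have hρsign : ∀ s t, Perm.sign (ρ s t) = Perm.sign s * Perm.sign t := fun s t => by
    simp [ρ]
  have hρl : ∀ s t i, ρ s t (Fin.castAdd r i) = Fin.castAdd r (s i) := fun s t i => by
    simp [ρ, Equiv.permCongr_apply]
  have hρr : ∀ s t i, ρ s t (Fin.natAdd p i) = Fin.natAdd p (t i) := fun s t i => by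
    simp [ρ, Equiv.permCongr_apply]
  have key : ∀ π : Perm (Fin (p + r)),
      ((M * π.permMatrix k).submatrix a (Fin.castAdd r)).det *
        ((M * π.permMatrix k).submatrix b (Fin.natAdd p)).det =
      ∑ s : Perm (Fin p), ∑ t : Perm (Fin r),
        (((Perm.sign (ρ s t) : ℤˣ) : ℤ) : k) * ∏ j, M (f j) (π.symm (ρ s t j)) := by
    intro π
    rw [← Matrix.det_transpose, Matrix.det_apply', ← Matrix.det_transpose
      ((M * π.permMatrix k).submatrix b (Fin.natAdd p)), Matrix.det_apply', Finset.sum_mul_sum]
    refine Finset.sum_congr rfl (fun s _ => Finset.sum_congr rfl (fun t _ => ?_))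
    rw [Fin.prod_univ_add, hρsign]
    simp only [Matrix.transpose_apply, Matrix.submatrix_apply, mul_permMatrix_apply, hρl, hρr, f,
      Fin.addCases_left, Fin.addCases_right, Units.val_mul, Int.cast_mul]
    ring
  have main : ∑ π : Perm (Fin (p + r)), (((Perm.sign π : ℤˣ) : ℤ) : k) *
      ((M * π.permMatrix k).submatrix a (Fin.castAdd r)).det *
      ((M * π.permMatrix k).submatrix b (Fin.natAdd p)).det =
      ((p.factorial * r.factorial : ℕ) : k) * (M.submatrix f id).det := by
    simp only [mul_assoc, key, Finset.mul_sum]
    rw [Finset.sum_comm]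
    calc _ = ∑ _s : Perm (Fin p), ∑ _t : Perm (Fin r), (M.submatrix f id).det := by
          refine Finset.sum_congr rfl (fun s _ => ?_)
          rw [Finset.sum_comm]
          refine Finset.sum_congr rfl (fun t _ => ?_)
          have e := blockPerm_sum M f (ρ s t)
          calc _ = (((Perm.sign (ρ s t) : ℤˣ) : ℤ) : k) *
                ∑ π : Perm (Fin (p + r)), (((Perm.sign π : ℤˣ) : ℤ) : k) *
                  ∏ j, M (f j) (π (ρ s t j)) := by
                rw [Finset.mul_sum]
                refine Fintype.sum_equiv (Equiv.inv _) _ _ (fun π => ?_)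
                simp only [Equiv.inv_apply, Perm.inv_def, Equiv.Perm.sign_symm]
                ring
            _ = _ := by
                rw [e, ← mul_assoc, ← Int.cast_mul, ← Units.val_mul, Int.units_mul_self]
                simp
      _ = _ := by simp [Fintype.card_perm, mul_assoc]
  rw [main]
  split_ifs with hBA
  · subst hBA
    have hfinj : Function.Injective f := by
      intro i j
      refine Fin.addCases (fun i' => ?_) (fun i' => ?_) i <;>
        refine Fin.addCases (fun j' => ?_) (fun j' => ?_) j <;>
          simp only [f, Fin.addCases_left, Fin.addCases_right, ha, hb] <;> intro h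
      · rw [(A.orderEmbOfFin hA).injective h]
      · have h1 := Finset.orderEmbOfFin_mem A hA i'
        have h2 := Finset.orderEmbOfFin_mem Aᶜ hB j'
        rw [h] at h1
        exact absurd h1 (Finset.mem_compl.mp h2)
      · have h1 := Finset.orderEmbOfFin_mem A hA j'
        have h2 := Finset.orderEmbOfFin_mem Aᶜ hB i'
        rw [h] at h2
        exact absurd h1 (Finset.mem_compl.mp h2)
      · rw [((Aᶜ).orderEmbOfFin hB).injective h]
    let σ : Perm (Fin (p + r)) := Equiv.ofBijective f hfinj.bijective_of_finite
    have hσ : (M.submatrix f id).det = (((Perm.sign σ : ℤˣ) : ℤ) : k) * M.det :=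
      Matrix.det_permute σ M
    have hsign : (((Perm.sign σ : ℤˣ) : ℤ) : k) =
        (-1 : k) ^ ((A ×ˢ Aᶜ).filter (fun ab => ab.2 < ab.1)).card := by
      have hmap : ((A ×ˢ Aᶜ).filter (fun ab => ab.2 < ab.1)).card =
          ((Finset.univ : Finset (Fin p × Fin r)).filter (fun ij => b ij.2 < a ij.1)).card := by
        symm
        apply Finset.card_bij (fun ij _ => (a ij.1, b ij.2))
        · intro ij hij
          simp only [Finset.mem_filter, Finset.mem_univ, true_and] at hij
          simp only [Finset.mem_filter, Finset.mem_product, ha, hb]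
          exact ⟨⟨Finset.orderEmbOfFin_mem A hA _, Finset.orderEmbOfFin_mem Aᶜ hB _⟩, hij⟩
        · intro x _ y _ hxy
          simp only [Prod.mk.injEq, ha, hb] at hxy
          exact Prod.ext ((A.orderEmbOfFin hA).injective hxy.1)
            (((Aᶜ).orderEmbOfFin hB).injective hxy.2)
        · intro y hy
          simp only [Finset.mem_filter, Finset.mem_product] at hy
          obtain ⟨⟨hy1, hy2⟩, hy3⟩ := hy
          obtain ⟨i, hi⟩ : y.1 ∈ Set.range (A.orderEmbOfFin hA) := by
            rw [Finset.range_orderEmbOfFin]; exact hy1
          obtain ⟨j, hj⟩ : y.2 ∈ Set.range ((Aᶜ).orderEmbOfFin hB) := by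
            rw [Finset.range_orderEmbOfFin]; exact hy2
          refine ⟨(i, j), ?_, Prod.ext hi hj⟩
          simp only [Finset.mem_filter, Finset.mem_univ, true_and, ha, hb, hi, hj]
          exact hy3
      rw [hmap, Perm.sign_eq_prod_prod_Ioi]
      simp only [← Finset.filter_lt_eq_Ioi, Finset.prod_filter, Fin.prod_univ_add]
      have hll : ∀ i i' : Fin p, (if Fin.castAdd r i < Fin.castAdd r i' then
          (if σ (Fin.castAdd r i) < σ (Fin.castAdd r i') then (1 : ℤˣ) else -1) else 1) = 1 := by
        intro i i'
        simp only [σ, Equiv.ofBijective_apply, f, Fin.addCases_left, ha]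
        split_ifs with h1 h2
        · rfl
        · exact absurd ((A.orderEmbOfFin hA).strictMono h1) h2
        · rfl
      have hrr : ∀ j j' : Fin r, (if Fin.natAdd p j < Fin.natAdd p j' then
          (if σ (Fin.natAdd p j) < σ (Fin.natAdd p j') then (1 : ℤˣ) else -1) else 1) = 1 := by
        intro j j'
        simp only [σ, Equiv.ofBijective_apply, f, Fin.addCases_right, hb]
        split_ifs with h1 h2
        · rfl
        · exact absurd (((Aᶜ).orderEmbOfFin hB).strictMono (by simpa using h1)) h2
        · rfl
      have hrl : ∀ (j : Fin r) (i : Fin p), (if Fin.natAdd p j < Fin.castAdd r i then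
          (if σ (Fin.natAdd p j) < σ (Fin.castAdd r i) then (1 : ℤˣ) else -1) else 1) = 1 := by
        intro j i
        rw [if_neg]
        simp [Fin.lt_def]
        omega
      have hlr : ∀ (i : Fin p) (j : Fin r), (if Fin.castAdd r i < Fin.natAdd p j then
          (if σ (Fin.castAdd r i) < σ (Fin.natAdd p j) then (1 : ℤˣ) else -1) else 1) =
            if b j < a i then -1 else 1 := by
        intro i j
        have h0 : Fin.castAdd r i < Fin.natAdd p j := by simp [Fin.lt_def]; omega
        rw [if_pos h0]
        simp only [σ, Equiv.ofBijective_apply, f, Fin.addCases_left, Fin.addCases_right]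
        have hne : a i ≠ b j := fun h =>
          Finset.mem_compl.mp (Finset.orderEmbOfFin_mem Aᶜ hB j)
            (by have := Finset.orderEmbOfFin_mem A hA i; simp only [ha, hb] at h; rwa [h] at this)
        rcases lt_trichotomy (a i) (b j) with h | h | h
        · rw [if_pos h, if_neg (not_lt.mpr h.le)]
        · exact absurd h hne
        · rw [if_neg (not_lt.mpr h.le), if_pos h]
      simp only [hll, hrr, hrl, hlr, Finset.prod_const_one, one_mul, mul_one]
      rw [← Finset.prod_product', Finset.univ_product_univ, Finset.prod_ite, Finset.prod_const,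
        Finset.prod_const_one, mul_one]
      simp
    rw [hσ, hsign, mul_assoc]
  · have : ¬ Disjoint A B := by
      intro hd
      apply hBA
      apply Finset.eq_of_subset_of_card_le
      · intro x hx
        rw [Finset.mem_compl]
        exact fun hxA => Finset.disjoint_left.mp hd hxA hx
      · rw [Finset.card_compl, hA, hB, Fintype.card_fin]; omega
    obtain ⟨x, hxA, hxB⟩ := Finset.not_disjoint_iff.mp this
    obtain ⟨i, hi⟩ : x ∈ Set.range (A.orderEmbOfFin hA) := by
      rw [Finset.range_orderEmbOfFin]; exact hxA
    obtain ⟨j, hj⟩ : x ∈ Set.range (B.orderEmbOfFin hB) := by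
      rw [Finset.range_orderEmbOfFin]; exact hxB
    rw [Matrix.det_zero_of_row_eq (i := Fin.castAdd r i) (j := Fin.natAdd p j), mul_zero]
    · intro h; have := congrArg Fin.val h; simp at this; omega
    · funext c; simp [Matrix.submatrix_apply, f, ha, hb, hi, hj]

end Groth.Agent.S14879
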