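import Groth.Statements.S14883
import Groth.Agent.Lib.AssocBundle19.Basic
import Mathlib.AlgebraicGeometry.Morphisms.FlatDescent

set_option autoImplicit false
universe u
open CategoryTheory MonoidalCategory CartesianMonoidalCategory MonObj GrpObj AlgebraicGeometry CategoryTheory.Limits
open AlgGrp

namespace Groth.Agent.S14883

set_option backward.isDefEq.respectTransparency.types false
open CategoryTheory.Limits Groth.Agent.AssocBundle19 Groth.Agent.AlgGrpBasic19


/-- Over an algebraically closed field k of characteristic zero, let G be an algebraic group (a smooth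
k-group scheme of finite type) and H an algebraic subgroup (a smooth closed subgroup scheme, j : H →
G). Let π : G → B be the quotient of G by H (a geometric quotient for the action h·g = g·h⁻¹ which
is a principal H-bundle: (h, g) ↦ (g·h⁻¹, g) is an isomorphism H × G ≅ G ×_B G and π is flat). Let X
be a variety (reduced, separated, of finite type over k), proper over k, with an H-action and in
which every finite set of points lies in an affine open subset, and let qX : G × X → QX be the
associated bundle G_H(X), that is a geometric quotient for the action h·(g, x) = (g·h⁻¹, h·x) on G ×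
X which is a principal H-bundle, with structure map pX : QX → B satisfying pX ∘ qX = π ∘ pr₁, where
QX is a variety. Here a geometric quotient is an invariant, surjective, open morphism whose
fibre-pair map (h, y) ↦ (h·y, y) is surjective on points and whose sections over every open are
exactly the invariant sections. Then pX : G_H(X) → G/H is proper. -/
theorem result (k : Type u) [Field k] [IsAlgClosed k] [CharZero k]
    (G H : Over (Spec (CommRingCat.of k))) [GrpObj G] [Smooth G.hom] [QuasiCompact G.hom]
    [GrpObj H] (j : H ⟶ G) [IsMonHom j] [IsClosedImmersion j.left] [Smooth H.hom]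
    (B : Over (Spec (CommRingCat.of k))) [LocallyOfFiniteType B.hom] [QuasiCompact B.hom] [IsSeparated B.hom] [IsReduced B.left]
    (r : AlgGrp.Action H G) (hr : ∀ (T : Over (Spec (CommRingCat.of k))) (h : T ⟶ H) (g : T ⟶ G),
      lift h g ≫ r.act = g * (h ≫ j)⁻¹)
    (π : G ⟶ B) (hπinv : GIT.IsInvariant r π)
    (hπ : (Function.Surjective π.left.base ∧ IsOpenMap π.left.base ∧
      Function.Surjective (GIT.PsiY r π hπinv).base ∧
      (∀ U : B.left.Opens, Function.Injective (π.left.app U) ∧
        Set.range (π.left.app U) = {f | GIT.IsInvSection r π U f}) ∧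
      IsIso (GIT.PsiY r π hπinv) ∧ Flat π.left))
    (X : Over (Spec (CommRingCat.of k))) [IsProper X.hom] [IsReduced X.left]
    (hF : ∀ F : Finset ↥X.left, ∃ U : X.left.Opens, IsAffineOpen U ∧ (↑F : Set ↥X.left) ⊆ (U : Set ↥X.left))
    (aX : AlgGrp.Action H X) (b : AlgGrp.Action H (G ⊗ X))
    (hb : ∀ (T : Over (Spec (CommRingCat.of k))) (h : T ⟶ H) (g : T ⟶ G) (x : T ⟶ X),
      lift h (lift g x) ≫ b.act = lift (g * (h ≫ j)⁻¹) (lift h x ≫ aX.act))
    (QX : Over (Spec (CommRingCat.of k))) [LocallyOfFiniteType QX.hom] [QuasiCompact QX.hom] [IsSeparated QX.hom] [IsReduced QX.left] (qX : G ⊗ X ⟶ QX) (hqinv : GIT.IsInvariant b qX)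
    (hq : (Function.Surjective qX.left.base ∧ IsOpenMap qX.left.base ∧
      Function.Surjective (GIT.PsiY b qX hqinv).base ∧
      (∀ U : QX.left.Opens, Function.Injective (qX.left.app U) ∧
        Set.range (qX.left.app U) = {f | GIT.IsInvSection b qX U f}) ∧
      IsIso (GIT.PsiY b qX hqinv) ∧ Flat qX.left))
    (pX : QX ⟶ B) (hp : qX ≫ pX = fst G X ≫ π) :
    IsProper pX.left := by
  obtain ⟨hπs, -, -, -, hπi, hπf⟩ := hπ
  obtain ⟨hXs, -, -, -, hXi, hXf⟩ := hq
  haveI := hπf
  haveI := hXf
  haveI : Surjective π.left := ⟨hπs⟩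
  haveI : Surjective qX.left := ⟨hXs⟩
  haveI : QuasiCompact (G ⊗ X).hom := inferInstanceAs (QuasiCompact (pullback.fst G.hom X.hom ≫ G.hom))
  haveI : QuasiCompact qX.left := quasiCompact_left qX
  haveI : QuasiCompact π.left := quasiCompact_left π
  haveI : Mono j := Over.mono_of_mono_left j
  have hfst : ∀ {T : Over (Spec (CommRingCat.of k))} (h : T ⟶ H) (w : T ⟶ G ⊗ X),
      (lift h w ≫ b.act) ≫ fst G X = lift h (w ≫ fst G X) ≫ r.act := by
    intro T h w
    obtain ⟨g, x, rfl⟩ : ∃ g x, w = lift g x :=
      ⟨w ≫ fst _ _, w ≫ snd _ _, by rw [← comp_lift, lift_fst_snd, Category.comp_id]⟩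
    rw [hb, lift_fst, lift_fst, hr]
  have sq : IsPullback (fst G X) qX π pX := by
    refine isPullback_of_local _ _ _ _ hp.symm (fun T w w' e1 e2 => ?_) fun T v u e => ?_
    · obtain ⟨h, hh⟩ := exists_smul hXi w w' e2
      have : h = 1 := eq_one_of_translate j (g := w ≫ fst G X) (by rw [← hr, ← hfst, hh, e1])
      rw [← hh, this, act_one]
    · obtain ⟨T', π', w₀, h1, h2, h3, hw₀⟩ := Groth.Agent.FppfDesc19.exists_cover_lift qX u
      obtain ⟨h, hh⟩ := exists_smul hπi (w₀ ≫ fst G X) (π' ≫ v) (by
        rw [Category.assoc, ← hp, reassoc_of% hw₀, Category.assoc, e])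
      exact ⟨T', π', lift h w₀ ≫ b.act, h1, h2, h3, (hfst h w₀).trans hh, (comp_invariant hqinv h w₀).trans hw₀⟩
  have sq' : IsPullback (fst G X).left qX.left π.left pX.left :=
    (Over.forget (Spec (CommRingCat.of k))).map_isPullback sq
  haveI : IsProper (fst G X).left :=
    (MorphismProperty.pullback_fst (P := @IsProper) G.hom X.hom ‹IsProper X.hom› : IsProper (pullback.fst G.hom X.hom))
  haveI : UniversallyClosed pX.left := MorphismProperty.of_isPullback_of_descendsAlong (P := @UniversallyClosed)
    (Q := @Surjective ⊓ @Flat ⊓ @QuasiCompact) sq'.flip.flip ⟨⟨inferInstance, inferInstance⟩, inferInstance⟩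
    inferInstance
  haveI : IsSeparated (pX.left ≫ B.hom) := by rw [Over.w pX]; infer_instance
  haveI : IsSeparated pX.left := IsSeparated.of_comp pX.left B.hom
  haveI : LocallyOfFiniteType pX.left := lft_left pX
  exact ⟨⟩

end Groth.Agent.S14883
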