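import Groth.Statements.S14885


set_option autoImplicit false
universe u v
open CategoryTheory TopologicalSpace Opposite AlgebraicGeometry Topology
open AlgGrp

namespace Groth.Agent.S14885

/-- Let a group Γ act on a ringed space X (a topological space with a sheaf of rings) by automorphisms
τ_g, and let π : X → Y be a Γ-invariant morphism of ringed spaces which exhibits Y as the quotient
ringed space X/Γ: the underlying continuous map of π is a topological quotient map whose fibres are
exactly the Γ-orbits, and for every open subset V of Y the ring map O_Y(V) → O_X(π⁻¹V) is injective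
with image the sections s satisfying τ_g^♯(s) = s for all g. Then (Y, π) is a categorical quotient
for the action in the category of ringed spaces: every morphism of ringed spaces f : X → Z with f ∘
τ_g = f for all g (as morphisms of ringed spaces) factors uniquely as f = f̄ ∘ π. -/
theorem result (X Y : SheafedSpace CommRingCat.{u}) (Γ : Type v) [Group Γ]
    (τ : Γ →* Aut X) (π : X ⟶ Y) (hτ : ∀ g : Γ, (τ g).hom ≫ π = π)
    (h1 : IsQuotientMap π.hom.base)
    (h2 : ∀ x x' : X, π.hom.base x = π.hom.base x' ↔ ∃ g : Γ, (τ g).hom.hom.base x = x')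
    (h3 : ∀ V : Opens Y, Function.Injective (π.hom.c.app (op V)) ∧
      Set.range (π.hom.c.app (op V)) =
        {s | ∀ g : Γ, (τ g).hom.hom.c.app (op ((Opens.map π.hom.base).obj V)) s =
          X.presheaf.map (eqToHom (congrArg (fun f : X ⟶ Y => op ((Opens.map f.hom.base).obj V)) (hτ g).symm)) s})
    (Z : SheafedSpace CommRingCat.{u}) (f : X ⟶ Z) (hf : ∀ g : Γ, (τ g).hom ≫ f = f) :
    ∃! fbar : Y ⟶ Z, π ≫ fbar = f := by
  have hfac : Function.FactorsThrough f.hom.base π.hom.base := by
    intro x x' hxx'
    obtain ⟨g, hg⟩ := (h2 x x').1 hxx'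
    rw [← hg]
    exact (congrArg (fun m : X ⟶ Z => m.hom.base x) (hf g)).symm
  let b₀ : C(Y, Z) := Topology.IsQuotientMap.lift (f := π.hom.base.hom) h1 f.hom.base.hom hfac
  let b : Y.toPresheafedSpace.carrier ⟶ Z.toPresheafedSpace.carrier := TopCat.ofHom b₀
  have hb : π.hom.base ≫ b = f.hom.base :=
    TopCat.hom_ext (Topology.IsQuotientMap.lift_comp (f := π.hom.base.hom) h1 f.hom.base.hom hfac)
  have hop : ∀ V : Opens Z, (Opens.map π.hom.base).obj ((Opens.map b).obj V) = (Opens.map f.hom.base).obj V :=
    fun V => by rw [← hb]; rfl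
  -- the pullback of a section, seen over the preimage in `X`
  let w : ∀ V : Opens Z, Z.presheaf.obj (op V) ⟶ X.presheaf.obj (op ((Opens.map π.hom.base).obj ((Opens.map b).obj V))) :=
    fun V => f.hom.c.app (op V) ≫ X.presheaf.map (eqToHom (congrArg op (hop V).symm))
  have hinv : ∀ (V : Opens Z) (s : Z.presheaf.obj (op V)),
      w V s ∈ Set.range (π.hom.c.app (op ((Opens.map b).obj V))) := by
    intro V s
    rw [(h3 _).2]
    intro g
    have e := SheafedSpace.congr_hom_app (hf g) (op V)
    rw [SheafedSpace.comp_hom_c_app] at e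
    have n := (τ g).hom.hom.c.naturality (eqToHom (congrArg op (hop V).symm))
    have key : w V ≫ (τ g).hom.hom.c.app (op ((Opens.map π.hom.base).obj ((Opens.map b).obj V))) =
        w V ≫ X.presheaf.map (eqToHom (congrArg (fun f : X ⟶ Y => op ((Opens.map f.hom.base).obj ((Opens.map b).obj V))) (hτ g).symm)) := by
      show (f.hom.c.app (op V) ≫ _) ≫ _ = _
      rw [Category.assoc, n, reassoc_of% e]
      simp [w, eqToHom_map]
    exact congrArg (fun m => m s) key
  choose σ hσ using hinv
  have hinj := fun V : Opens Z => (h3 ((Opens.map b).obj V)).1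
  let cV : ∀ V : Opens Z, Z.presheaf.obj (op V) ⟶ Y.presheaf.obj (op ((Opens.map b).obj V)) := fun V =>
    CommRingCat.ofHom
      { toFun := σ V
        map_one' := hinj V (by rw [hσ, map_one, map_one])
        map_mul' := fun x y => hinj V (by rw [hσ, map_mul, map_mul, hσ, hσ])
        map_zero' := hinj V (by rw [hσ, map_zero, map_zero])
        map_add' := fun x y => hinj V (by rw [hσ, map_add, map_add, hσ, hσ]) }
  have hcV : ∀ V : Opens Z, cV V ≫ π.hom.c.app (op ((Opens.map b).obj V)) = w V := fun V => by
    ext s; exact hσ V s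
  let c : Z.presheaf ⟶ (TopCat.Presheaf.pushforward CommRingCat b).obj Y.presheaf :=
    { app := fun V => cV V.unop
      naturality := fun V V' i => by
        have hm : ∀ {A : CommRingCat.{u}} (p q : A ⟶ Y.presheaf.obj (op ((Opens.map b).obj V'.unop))),
            p ≫ π.hom.c.app _ = q ≫ π.hom.c.app _ → p = q := fun p q hpq => by
          ext s; exact hinj V'.unop (congrArg (fun m => m s) hpq)
        apply hm
        rw [Category.assoc, Category.assoc, hcV]
        show Z.presheaf.map i ≫ w V'.unop =
          cV V.unop ≫ Y.presheaf.map ((Opens.map b).op.map i) ≫ π.hom.c.app (op ((Opens.map b).obj V'.unop))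
        erw [π.hom.c.naturality ((Opens.map b).op.map i), reassoc_of% (hcV V.unop)]
        show Z.presheaf.map i ≫ f.hom.c.app V' ≫ _ = (f.hom.c.app V ≫ _) ≫ X.presheaf.map _
        rw [f.hom.c.naturality_assoc]
        simp only [TopCat.Presheaf.pushforward_obj_map, Category.assoc, ← X.presheaf.map_comp]
        congr 2 }
  let fbar : Y ⟶ Z := InducedCategory.homMk ⟨b, c⟩
  refine ⟨fbar, ?_, ?_⟩
  · refine SheafedSpace.ext _ _ hb ?_
    refine NatTrans.ext (funext fun V' => ?_)
    obtain ⟨V⟩ := V'
    show ((π ≫ fbar).hom.c.app (op V)) ≫ X.presheaf.map _ = f.hom.c.app (op V)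
    rw [SheafedSpace.comp_hom_c_app]
    show (cV V ≫ π.hom.c.app _) ≫ _ = _
    rw [hcV]
    simp [w, eqToHom_map]
    erw [eqToHom_trans]
    exact Category.comp_id _
  · intro h' hh'
    have hbase : h'.hom.base = b := by
      ext y
      obtain ⟨x, rfl⟩ := h1.surjective y
      exact (congrArg (fun m : X ⟶ Z => m.hom.base x) hh').trans
        (congrArg (fun m => m x) hb).symm
    refine SheafedSpace.ext _ _ hbase ?_
    refine NatTrans.ext (funext fun V' => ?_)
    obtain ⟨V⟩ := V'
    have e := SheafedSpace.congr_hom_app hh' (op V)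
    rw [SheafedSpace.comp_hom_c_app] at e
    show h'.hom.c.app (op V) ≫ Y.presheaf.map _ = cV V
    have m : (h'.hom.c.app (op V) ≫ Y.presheaf.map (eqToHom (congrArg (fun m => op ((Opens.map m).obj V)) hbase))) ≫
        π.hom.c.app (op ((Opens.map b).obj V)) = cV V ≫ π.hom.c.app (op ((Opens.map b).obj V)) := by
      rw [hcV, Category.assoc]
      erw [π.hom.c.naturality, reassoc_of% e]
      simp [w, eqToHom_map]
    ext s
    apply hinj V
    refine Eq.trans ?_ (congrArg (fun q => q s) m)
    rw [eqToHom_app]
    rfl

end Groth.Agent.S14885
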