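import Groth.Statements.S14886
import Groth.Agent.Lib.AssocBundle19.Basic
import Mathlib.AlgebraicGeometry.Morphisms.FlatDescent

set_option autoImplicit false
universe u
open CategoryTheory MonoidalCategory CartesianMonoidalCategory MonObj GrpObj AlgebraicGeometry CategoryTheory.Limits
open AlgGrp

namespace Groth.Agent.S14886

set_option backward.isDefEq.respectTransparency.types false
open CategoryTheory.Limits Groth.Agent.AssocBundle19 Groth.Agent.AlgGrpBasic19


/-- Over an algebraically closed field k of characteristic zero, let G be a connected algebraic group (a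
smooth connected k-group scheme of finite type) and H an algebraic subgroup (a smooth closed
subgroup scheme, j : H → G). Let π : G → B be the quotient of G by H (a geometric quotient for the
action h·g = g·h⁻¹ which is a principal H-bundle: (h, g) ↦ (g·h⁻¹, g) is an isomorphism H × G ≅ G
×_B G and π is flat). Let X and Y be varieties (reduced, separated, of finite type over k) with
H-actions, in each of which every finite set of points lies in an affine open subset, and let qX : G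
× X → QX, qY : G × Y → QY and qXY : G × (X × Y) → QXY be the associated bundles G_H(X), G_H(Y) and
G_H(X × Y): geometric quotients (invariant, surjective, open, fibre-pair map surjective on points,
sections = invariant sections) which are principal H-bundles, for the actions h·(g, x) = (g·h⁻¹,
h·x), h·(g, y) = (g·h⁻¹, h·y) and h·(g, x, y) = (g·h⁻¹, h·x, h·y), with QX, QY, QXY varieties over B
= G/H through pX, pY, pXY satisfying p ∘ q = π ∘ pr₁. Let fX : QXY → QX and fY : QXY → QY be the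
morphisms over B induced by the projections, fX ∘ qXY = qX ∘ (id × pr₁) and fY ∘ qXY = qY ∘ (id ×
pr₂). Then the square formed by fX, fY, pX, pY is cartesian: G_H(X × Y) is the fibre product of
G_H(X) and G_H(Y) over G/H. -/
theorem result (k : Type u) [Field k] [IsAlgClosed k] [CharZero k]
    (G H : Over (Spec (CommRingCat.of k))) [GrpObj G] [Smooth G.hom] [QuasiCompact G.hom]
    [ConnectedSpace ↥G.left] [GrpObj H] (j : H ⟶ G) [IsMonHom j] [IsClosedImmersion j.left] [Smooth H.hom]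
    (B : Over (Spec (CommRingCat.of k))) [LocallyOfFiniteType B.hom] [QuasiCompact B.hom] [IsSeparated B.hom] [IsReduced B.left]
    (r : AlgGrp.Action H G) (hr : ∀ (T : Over (Spec (CommRingCat.of k))) (h : T ⟶ H) (g : T ⟶ G),
      lift h g ≫ r.act = g * (h ≫ j)⁻¹)
    (π : G ⟶ B) (hπinv : GIT.IsInvariant r π)
    (hπ : (Function.Surjective π.left.base ∧ IsOpenMap π.left.base ∧
      Function.Surjective (GIT.PsiY r π hπinv).base ∧
      (∀ U : B.left.Opens, Function.Injective (π.left.app U) ∧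
        Set.range (π.left.app U) = {f | GIT.IsInvSection r π U f}) ∧
      IsIso (GIT.PsiY r π hπinv) ∧ Flat π.left))
    (X Y : Over (Spec (CommRingCat.of k))) [LocallyOfFiniteType X.hom] [QuasiCompact X.hom] [IsSeparated X.hom] [IsReduced X.left] [LocallyOfFiniteType Y.hom] [QuasiCompact Y.hom] [IsSeparated Y.hom] [IsReduced Y.left]
    (hFX : ∀ F : Finset ↥X.left, ∃ U : X.left.Opens, IsAffineOpen U ∧ (↑F : Set ↥X.left) ⊆ (U : Set ↥X.left))
    (hFY : ∀ F : Finset ↥Y.left, ∃ U : Y.left.Opens, IsAffineOpen U ∧ (↑F : Set ↥Y.left) ⊆ (U : Set ↥Y.left))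
    (aX : AlgGrp.Action H X) (aY : AlgGrp.Action H Y)
    (b : AlgGrp.Action H (G ⊗ X))
    (hb : ∀ (T : Over (Spec (CommRingCat.of k))) (h : T ⟶ H) (g : T ⟶ G) (x : T ⟶ X),
      lift h (lift g x) ≫ b.act = lift (g * (h ≫ j)⁻¹) (lift h x ≫ aX.act))
    (c : AlgGrp.Action H (G ⊗ Y))
    (hc : ∀ (T : Over (Spec (CommRingCat.of k))) (h : T ⟶ H) (g : T ⟶ G) (x : T ⟶ Y),
      lift h (lift g x) ≫ c.act = lift (g * (h ≫ j)⁻¹) (lift h x ≫ aY.act))
    (d : AlgGrp.Action H (G ⊗ (X ⊗ Y)))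
    (hd : ∀ (T : Over (Spec (CommRingCat.of k))) (h : T ⟶ H) (g : T ⟶ G) (x : T ⟶ X) (y : T ⟶ Y),
      lift h (lift g (lift x y)) ≫ d.act = lift (g * (h ≫ j)⁻¹) (lift (lift h x ≫ aX.act) (lift h y ≫ aY.act)))
    (QX QY QXY : Over (Spec (CommRingCat.of k))) [LocallyOfFiniteType QX.hom] [QuasiCompact QX.hom] [IsSeparated QX.hom] [IsReduced QX.left] [LocallyOfFiniteType QY.hom] [QuasiCompact QY.hom] [IsSeparated QY.hom] [IsReduced QY.left] [LocallyOfFiniteType QXY.hom] [QuasiCompact QXY.hom] [IsSeparated QXY.hom] [IsReduced QXY.left]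
    (qX : G ⊗ X ⟶ QX) (hqXinv : GIT.IsInvariant b qX) (hqX : (Function.Surjective qX.left.base ∧ IsOpenMap qX.left.base ∧
      Function.Surjective (GIT.PsiY b qX hqXinv).base ∧
      (∀ U : QX.left.Opens, Function.Injective (qX.left.app U) ∧
        Set.range (qX.left.app U) = {f | GIT.IsInvSection b qX U f}) ∧
      IsIso (GIT.PsiY b qX hqXinv) ∧ Flat qX.left))
    (qY : G ⊗ Y ⟶ QY) (hqYinv : GIT.IsInvariant c qY) (hqY : (Function.Surjective qY.left.base ∧ IsOpenMap qY.left.base ∧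
      Function.Surjective (GIT.PsiY c qY hqYinv).base ∧
      (∀ U : QY.left.Opens, Function.Injective (qY.left.app U) ∧
        Set.range (qY.left.app U) = {f | GIT.IsInvSection c qY U f}) ∧
      IsIso (GIT.PsiY c qY hqYinv) ∧ Flat qY.left))
    (qXY : G ⊗ (X ⊗ Y) ⟶ QXY) (hqXYinv : GIT.IsInvariant d qXY) (hqXY : (Function.Surjective qXY.left.base ∧ IsOpenMap qXY.left.base ∧
      Function.Surjective (GIT.PsiY d qXY hqXYinv).base ∧
      (∀ U : QXY.left.Opens, Function.Injective (qXY.left.app U) ∧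
        Set.range (qXY.left.app U) = {f | GIT.IsInvSection d qXY U f}) ∧
      IsIso (GIT.PsiY d qXY hqXYinv) ∧ Flat qXY.left))
    (pX : QX ⟶ B) (hpX : qX ≫ pX = fst G X ≫ π) (pY : QY ⟶ B) (hpY : qY ≫ pY = fst G Y ≫ π)
    (pXY : QXY ⟶ B) (hpXY : qXY ≫ pXY = fst G (X ⊗ Y) ≫ π)
    (fX : QXY ⟶ QX) (hfX : qXY ≫ fX = (G ◁ fst X Y) ≫ qX) (hfXp : fX ≫ pX = pXY)
    (fY : QXY ⟶ QY) (hfY : qXY ≫ fY = (G ◁ snd X Y) ≫ qY) (hfYp : fY ≫ pY = pXY) :
    IsPullback fX.left fY.left pX.left pY.left := by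
  obtain ⟨hπs, -, -, -, hπi, hπf⟩ := hπ
  obtain ⟨hXs, -, -, -, hXi, hXf⟩ := hqX
  obtain ⟨hYs, -, -, -, hYi, hYf⟩ := hqY
  obtain ⟨hXYs, -, -, -, hXYi, hXYf⟩ := hqXY
  haveI := hXf
  haveI := hYf
  haveI := hXYf
  haveI : Surjective qX.left := ⟨hXs⟩
  haveI : Surjective qY.left := ⟨hYs⟩
  haveI : Surjective qXY.left := ⟨hXYs⟩
  haveI : QuasiCompact (G ⊗ X).hom := inferInstanceAs (QuasiCompact (pullback.fst G.hom X.hom ≫ G.hom))
  haveI : QuasiCompact (G ⊗ Y).hom := inferInstanceAs (QuasiCompact (pullback.fst G.hom Y.hom ≫ G.hom))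
  haveI : QuasiCompact (X ⊗ Y).hom := inferInstanceAs (QuasiCompact (pullback.fst X.hom Y.hom ≫ X.hom))
  haveI : QuasiCompact (G ⊗ (X ⊗ Y)).hom :=
    inferInstanceAs (QuasiCompact (pullback.fst G.hom (X ⊗ Y).hom ≫ G.hom))
  haveI : QuasiCompact qX.left := quasiCompact_left qX
  haveI : QuasiCompact qY.left := quasiCompact_left qY
  haveI : QuasiCompact qXY.left := quasiCompact_left qXY
  haveI : Mono j := Over.mono_of_mono_left j
  have hwX : ∀ {T : Over (Spec (CommRingCat.of k))} (g : T ⟶ G) (x : T ⟶ X) (y : T ⟶ Y),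
      lift g (lift x y) ≫ qXY ≫ fX = lift g x ≫ qX := fun g x y => by
    rw [hfX, lift_whiskerLeft_assoc, lift_fst]
  have hwY : ∀ {T : Over (Spec (CommRingCat.of k))} (g : T ⟶ G) (x : T ⟶ X) (y : T ⟶ Y),
      lift g (lift x y) ≫ qXY ≫ fY = lift g y ≫ qY := fun g x y => by
    rw [hfY, lift_whiskerLeft_assoc, lift_snd]
  have hsp : ∀ {T A C : Over (Spec (CommRingCat.of k))} (w : T ⟶ A ⊗ C), ∃ a c, w = lift a c := fun {T A C} w =>
    ⟨w ≫ fst _ _, w ≫ snd _ _, by rw [← comp_lift, lift_fst_snd, Category.comp_id]⟩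
  have sq : IsPullback fX fY pX pY := by
    refine isPullback_of_local _ _ _ _ (hfXp.trans hfYp.symm) (fun T w w' e1 e2 => ?_) fun T v u e => ?_
    · obtain ⟨T₁, π₁, a₁, _, _, _, ha₁⟩ := Groth.Agent.FppfDesc19.exists_cover_lift qXY w
      obtain ⟨T₂, π₂, a₂, _, _, _, ha₂⟩ := Groth.Agent.FppfDesc19.exists_cover_lift qXY (π₁ ≫ w')
      haveI := epi_of_cover π₁
      haveI := epi_of_cover π₂
      rw [← cancel_epi π₁, ← cancel_epi π₂, ← ha₁, ← ha₂]
      obtain ⟨g, xy, h₁⟩ := hsp (π₂ ≫ a₁)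
      obtain ⟨x, y, rfl⟩ := hsp xy
      obtain ⟨g', xy', h₂⟩ := hsp a₂
      obtain ⟨x', y', rfl⟩ := hsp xy'
      rw [reassoc_of% h₁, h₂]
      have eX : lift g x ≫ qX = lift g' x' ≫ qX := by
        rw [← hwX g x y, ← hwX g' x' y', ← h₁, ← h₂, Category.assoc, reassoc_of% ha₁, reassoc_of% ha₂, e1]
      have eY : lift g y ≫ qY = lift g' y' ≫ qY := by
        rw [← hwY g x y, ← hwY g' x' y', ← h₁, ← h₂, Category.assoc, reassoc_of% ha₁, reassoc_of% ha₂, e2]
      obtain ⟨h, hh⟩ := exists_smul hXi _ _ eX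
      obtain ⟨h', hh'⟩ := exists_smul hYi _ _ eY
      rw [hb] at hh
      rw [hc] at hh'
      have eg := congrArg (· ≫ fst G X) hh
      have eg' := congrArg (· ≫ fst G Y) hh'
      simp only [lift_fst] at eg eg'
      have hh'' : h' = h := by
        rw [← cancel_mono j]
        exact inv_inj.1 (mul_left_cancel (eg'.trans eg.symm))
      subst hh''
      have ex := congrArg (· ≫ snd G X) hh
      have ey := congrArg (· ≫ snd G Y) hh'
      simp only [lift_snd] at ex ey
      rw [← eg, ← ex, ← ey, ← hd, comp_invariant hqXYinv]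
    · obtain ⟨T₁, π₁, a₁, _, _, _, ha₁⟩ := Groth.Agent.FppfDesc19.exists_cover_lift qX v
      obtain ⟨T₂, π₂, a₂, _, _, _, ha₂⟩ := Groth.Agent.FppfDesc19.exists_cover_lift qY (π₁ ≫ u)
      obtain ⟨g, x, h₁⟩ := hsp (π₂ ≫ a₁)
      obtain ⟨g', y, h₂⟩ := hsp a₂
      have eπ : g ≫ π = g' ≫ π := by
        have e1 : lift g x ≫ qX ≫ pX = lift g' y ≫ qY ≫ pY := by
          rw [← h₁, ← h₂, Category.assoc, reassoc_of% ha₁, reassoc_of% ha₂, e]
        rwa [hpX, hpY, lift_fst_assoc, lift_fst_assoc] at e1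
      obtain ⟨h, hh⟩ := exists_smul hπi g g' eπ
      rw [hr] at hh
      refine ⟨T₂, π₂ ≫ π₁, lift g' (lift (lift h x ≫ aX.act) y) ≫ qXY, ?_, ?_, ?_, ?_, ?_⟩
      · rw [Over.comp_left]; infer_instance
      · rw [Over.comp_left]; infer_instance
      · rw [Over.comp_left]; infer_instance
      · rw [Category.assoc, hwX, ← hh, ← hb, comp_invariant hqXinv, ← h₁, Category.assoc, ha₁, Category.assoc]
      · rw [Category.assoc, hwY, ← h₂, ha₂, Category.assoc]
  exact (Over.forget (Spec (CommRingCat.of k))).map_isPullback sq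

end Groth.Agent.S14886
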