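import Groth.Statements.S14887
import Groth.Agent.Lib.QFChart4
import Mathlib.AlgebraicGeometry.Morphisms.FinitePresentation

set_option autoImplicit false
universe u
open CategoryTheory AlgebraicGeometry
open FlatMor

set_option backward.isDefEq.respectTransparency.types false

namespace Groth.Agent.S14887


theorem ring_result {R B : Type u} [CommRing R] [IsDomain R] [ValuationRing R] [CommRing B]
    [Algebra R B] [Algebra.FiniteType R B] (P Q' Q : PrimeSpectrum B)
    (hQ'P : Q'.asIdeal ≤ P.asIdeal) (hQQ' : Q.asIdeal ≤ Q'.asIdeal)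
    (hmin : ∀ Q'' : Ideal B, Q''.IsPrime → Q''.under R = P.asIdeal.under R → Q'' ≤ P.asIdeal →
      Q'' = P.asIdeal)
    (hq : Q.asIdeal.under R = Q'.asIdeal.under R) : Q = Q' := by
  obtain ⟨n, b, hqf, hPA⟩ := Groth.Agent.QFChart4.exists_qf_chart P.asIdeal hmin
  letI := (MvPolynomial.aeval (R := R) b).toRingHom.toAlgebra
  have hC : (MvPolynomial.aeval (R := R) b).toRingHom.comp MvPolynomial.C = algebraMap R B :=
    RingHom.ext fun r => (MvPolynomial.aeval (R := R) b).commutes r
  have key : ∀ S : PrimeSpectrum B, S.asIdeal ≤ P.asIdeal →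
      S.asIdeal.comap (MvPolynomial.aeval (R := R) b).toRingHom =
        (S.asIdeal.under R).map MvPolynomial.C := by
    intro S hS
    rw [Groth.Agent.QFChart4.eq_map_C_of_le (P.asIdeal.under R) _
      ((Ideal.comap_mono hS).trans hPA.le) (Ideal.IsPrime.ne_top inferInstance),
      Ideal.comap_comap, hC]
  haveI : Algebra.QuasiFiniteAt (MvPolynomial (Fin n) R) Q'.asIdeal :=
    Algebra.QuasiFiniteAt.of_le hQ'P
  refine PrimeSpectrum.ext (Algebra.QuasiFiniteAt.eq_of_le_of_under_eq (R := MvPolynomial (Fin n) R)
    hQQ' ?_)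
  show Q.asIdeal.comap (MvPolynomial.aeval (R := R) b).toRingHom =
    Q'.asIdeal.comap (MvPolynomial.aeval (R := R) b).toRingHom
  rw [key Q (hQQ'.trans hQ'P), key Q' hQ'P, hq]


/-- Let R be a valuation ring and let φ : X → Spec R be flat and locally of finite presentation. Call x
∈ X fibre-generic when it is the generic point of an irreducible component of its fibre, i.e. no
point y ≠ x with φ y = φ x specializes to x. Then every generization of a fibre-generic point is
fibre-generic. (The published statement allows an arbitrary base scheme and takes φ finitely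
presented. Over a two-dimensional base it fails: for the affine line over the affine plane with
coordinates a, b, the closed point u = a/b of the generic fibre specializes to the generic point of
the fibre over a = b = 0, and the chain-lifting step of the published proof does not hold in that
generality. This row takes the base to be the spectrum of a valuation ring, the case in which the
result is applied to relative curves, and assumes only local finite presentation, the property being
local on X.) -/
theorem result
    (R : Type u) [CommRing R] [IsDomain R] [ValuationRing R] {X : Scheme.{u}}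
    (φ : X ⟶ Spec (CommRingCat.of R)) [Flat φ] [LocallyOfFinitePresentation φ]
    (x x' : X) (hgen : x' ⤳ x) (hx : ∀ y : X, y ⤳ x → φ y = φ x → y = x) :
    ∀ y : X, y ⤳ x' → φ y = φ x' → y = x' := by
  intro y hy hyφ
  obtain ⟨_, ⟨U, hU, rfl⟩, hxU, -⟩ :=
    X.isBasis_affineOpens.exists_subset_of_mem_open (Set.mem_univ x) isOpen_univ
  have hx'U : x' ∈ U := hgen.mem_open U.isOpen hxU
  have hyU : y ∈ U := hy.mem_open U.isOpen hx'U
  have hr : Set.range hU.fromSpec = (U : Set X) := hU.range_fromSpec
  obtain ⟨P, rfl⟩ : x ∈ Set.range hU.fromSpec := hr ▸ hxU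
  obtain ⟨Q', rfl⟩ : x' ∈ Set.range hU.fromSpec := hr ▸ hx'U
  obtain ⟨Q, rfl⟩ : y ∈ Set.range hU.fromSpec := hr ▸ hyU
  obtain ⟨ψ, hψ⟩ := Spec.map_surjective (hU.fromSpec ≫ φ)
  have hlft : LocallyOfFiniteType (Spec.map ψ) := by rw [hψ]; infer_instance
  rw [HasRingHomProperty.Spec_iff (P := @LocallyOfFiniteType)] at hlft
  algebraize [ψ.hom]
  have hpt : ∀ S, φ (hU.fromSpec S) = Spec.map ψ S := fun S => by rw [hψ]; rfl
  have hle : ∀ S S' : ↥(Spec Γ(X, U)), hU.fromSpec S ⤳ hU.fromSpec S' → S.asIdeal ≤ S'.asIdeal :=
    fun S S' h => (PrimeSpectrum.le_iff_specializes S S').2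
      ((hU.fromSpec.isOpenEmbedding.isInducing.specializes_iff).1 h)
  refine congrArg hU.fromSpec (ring_result (R := R) P Q' Q (hle _ _ hgen) (hle _ _ hy)
    (fun Q'' hQ'' h1 h2 => ?_) ?_)
  · have hs : hU.fromSpec ⟨Q'', hQ''⟩ ⤳ hU.fromSpec P :=
      ((PrimeSpectrum.le_iff_specializes ⟨Q'', hQ''⟩ P).1 h2).map hU.fromSpec.continuous
    have := hx _ hs (by rw [hpt, hpt]; exact PrimeSpectrum.ext h1)
    exact congrArg PrimeSpectrum.asIdeal (hU.fromSpec.isOpenEmbedding.injective this)
  · rw [hpt, hpt] at hyφ
    exact congrArg PrimeSpectrum.asIdeal hyφ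

end Groth.Agent.S14887
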