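import Groth.Statements.S14888
import Mathlib

set_option autoImplicit false
universe u
open CategoryTheory AlgebraicGeometry
open CAlg

namespace Groth.Agent.S14888

/-- Let R be a valuation ring whose spectrum is finite (finite height) and let f : X → Spec R be locally
of finite type with locally quasi-finite fibres. For every x ∈ X the canonical morphism Spec O_{X,x}
→ X is an open immersion, and the composite Spec O_{X,x} → Spec R is locally of finite type; in
particular O_{X,x} is finitely generated as an R-algebra. (The published statement takes X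
quasi-finite over Spec R; the assertions are local at x, so this row assumes only that X is locally
of finite type with discrete fibres.) -/
theorem result
    (R : Type u) [CommRing R] [IsDomain R] [ValuationRing R] [Finite (PrimeSpectrum R)]
    {X : Scheme.{u}} (f : X ⟶ Spec (CommRingCat.of R)) [LocallyOfFiniteType f] [LocallyQuasiFinite f]
    (x : X) :
    IsOpenImmersion (X.fromSpecStalk x) ∧ LocallyOfFiniteType (X.fromSpecStalk x ≫ f) := by
  obtain ⟨U, hU, hxU, -⟩ := exists_isAffineOpen_mem_and_subset (X := X) (x := x) (U := ⊤) trivial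
  haveI : IsAffine U.toScheme := hU
  haveI hfin : Finite ↥U := by
    haveI : QuasiCompact (U.ι ≫ f) := inferInstance
    have h : (Set.univ : Set U.toScheme) = ⋃ r : PrimeSpectrum R, (U.ι ≫ f) ⁻¹' {r} := by
      refine (Set.eq_univ_of_forall fun u => ?_).symm
      exact Set.mem_iUnion.2 ⟨(U.ι ≫ f) u, rfl⟩
    rw [← Set.finite_univ_iff]
    show (Set.univ : Set U.toScheme).Finite
    rw [h]
    exact Set.finite_iUnion fun r => (U.ι ≫ f).finite_preimage_singleton r
  let p := hU.primeIdealOf ⟨x, hxU⟩
  haveI : Finite (PrimeSpectrum Γ(X, U)) := by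
    refine Finite.of_injective (fun q => (⟨hU.fromSpec q, hU.range_fromSpec.le ⟨q, rfl⟩⟩ : U)) fun a b h => ?_
    exact hU.fromSpec.isOpenEmbedding.injective (congrArg Subtype.val h)
  classical
  haveI : Fintype (PrimeSpectrum Γ(X, U)) := Fintype.ofFinite _
  have hsel : ∀ q : PrimeSpectrum Γ(X, U), ∃ g, g ∉ p.asIdeal ∧ (¬ q.asIdeal ≤ p.asIdeal → g ∈ q.asIdeal) := by
    intro q
    by_cases h : q.asIdeal ≤ p.asIdeal
    · exact ⟨1, p.isPrime.one_notMem, fun h' => absurd h h'⟩
    · obtain ⟨g, hgq, hgp⟩ := Set.not_subset.1 h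
      exact ⟨g, hgp, fun _ => hgq⟩
  choose g hgp hgq using hsel
  let G := ∏ q, g q
  have hG : G ∉ p.asIdeal := fun h => by
    obtain ⟨q, -, hq⟩ := (p.isPrime.prod_mem_iff).1 h
    exact hgp q hq
  haveI : IsLocalization p.asIdeal.primeCompl (Localization.Away G) := by
    refine IsLocalization.of_le (Submonoid.powers G) _ (Submonoid.powers_le.2 hG) fun h hh => ?_
    by_contra hu
    obtain ⟨Q, hQ, hQm⟩ := exists_max_ideal_of_mem_nonunits (mem_nonunits_iff.2 hu)
    haveI := hQ.isPrime
    let q : PrimeSpectrum Γ(X, U) := ⟨Q.comap (algebraMap _ _), Ideal.IsPrime.comap _⟩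
    have hle : q.asIdeal ≤ p.asIdeal := by
      by_contra hnle
      have hmem : G ∈ q.asIdeal := Ideal.mem_of_dvd _ (Finset.dvd_prod_of_mem g (Finset.mem_univ q)) (hgq q hnle)
      exact hQ.ne_top (Ideal.eq_top_of_isUnit_mem _ hmem (IsLocalization.Away.algebraMap_isUnit G))
    exact hh (hle hQm)
  letI := TopCat.Presheaf.algebra_section_stalk X.presheaf (⟨x, hxU⟩ : U)
  haveI := hU.isLocalization_stalk ⟨x, hxU⟩
  haveI : IsLocalization.Away G (X.presheaf.stalk x) :=
    IsLocalization.isLocalization_of_algEquiv (Submonoid.powers G)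
      (IsLocalization.algEquiv p.asIdeal.primeCompl (Localization.Away G) (X.presheaf.stalk x))
  haveI : IsOpenImmersion (Spec.map (X.presheaf.germ U x hxU)) :=
    IsOpenImmersion.of_isLocalization (R := Γ(X, U)) (S := X.presheaf.stalk x) G
  have hopen : IsOpenImmersion (X.fromSpecStalk x) := by
    rw [← hU.fromSpecStalk_eq_fromSpecStalk hxU]
    exact inferInstanceAs (IsOpenImmersion (Spec.map _ ≫ hU.fromSpec))
  haveI := hopen
  exact ⟨hopen, inferInstance⟩

end Groth.Agent.S14888
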