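import Groth.Statements.S14891
import Mathlib

set_option autoImplicit false
universe u
open CAlg

namespace Groth.Agent.S14891
open MvPolynomial Cardinal

theorem key {K L Γ₀ Γ₁ : Type u} [Field K] [Field L] [Algebra K L]
    [LinearOrderedCommGroupWithZero Γ₀] [LinearOrderedCommGroupWithZero Γ₁]
    (vK : Valuation K Γ₀) (vL : Valuation L Γ₁) [vK.HasExtension vL]
    {I J : Type u} (X : I → Lˣ)
    (hX : ∀ a b : I →₀ ℕ, ∀ c : K, c ≠ 0 →
      vL ((a.prod fun i n => X i ^ n : Lˣ) : L) = vL (algebraMap K L c) * vL ((b.prod fun i n => X i ^ n : Lˣ) : L) → a = b)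
    (Y : J → vL.valuationSubring)
    (hY : AlgebraicIndependent (IsLocalRing.ResidueField vK.valuationSubring)
      fun j => IsLocalRing.residue vL.valuationSubring (Y j)) :
    AlgebraicIndependent K (Sum.elim (fun i => (X i : L)) (fun j => (Y j : L))) := by
  classical
  rw [algebraicIndependent_iff]
  intro f hf
  by_contra hf0
  let e := Finsupp.sumFinsuppEquivProdFinsupp (α := I) (β := J) (γ := ℕ)
  let mx : (I →₀ ℕ) → L := fun a => ((a.prod fun i n => X i ^ n : Lˣ) : L)
  let my : (J →₀ ℕ) → vL.valuationSubring := fun b => b.prod fun j n => Y j ^ n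
  have hYv : ∀ j, vL (Y j : L) = 1 := by
    intro j
    refine le_antisymm (Y j).2 (not_lt.mp fun h => ?_)
    refine hY.ne_zero j ?_
    rw [IsLocalRing.residue_eq_zero_iff, IsLocalRing.mem_maximalIdeal, mem_nonunits_iff]
    intro hu
    obtain ⟨w, hw⟩ := hu.exists_right_inv
    have hw' := congrArg (fun z : vL.valuationSubring => vL (z : L)) hw
    simp only [MulMemClass.coe_mul, map_mul, OneMemClass.coe_one, map_one] at hw'
    have : vL (Y j : L) * vL (w : L) < 1 := mul_lt_one_of_nonneg_of_lt_one_left zero_le' h w.2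
    rw [hw'] at this; exact lt_irrefl _ this
  have hmy : ∀ b, vL (my b : L) = 1 := by
    intro b
    simp only [my, Finsupp.prod]
    rw [SubmonoidClass.coe_finsetProd, map_prod]
    exact Finset.prod_eq_one fun j _ => by rw [SubmonoidClass.coe_pow, map_pow, hYv, one_pow]
  let t : (I ⊕ J →₀ ℕ) → L := fun α => algebraMap K L (coeff α f) * (mx (e α).1 * (my (e α).2 : L))
  have ht : aeval (Sum.elim (fun i => (X i : L)) (fun j => (Y j : L))) f = ∑ α ∈ f.support, t α := by
    rw [aeval_def, eval₂_eq]
    refine Finset.sum_congr rfl fun α _ => ?_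
    simp only [t]
    congr 1
    have hα : α = (e α).1.sumElim (e α).2 := by
      ext (i | j) <;> simp [e]
    show α.prod (fun i n => Sum.elim (fun i => (X i : L)) (fun j => (Y j : L)) i ^ n) = _
    conv_lhs => rw [hα, Finsupp.prod_sumElim]
    congr 1
    · simp [mx, Finsupp.prod, Units.coe_prod, Function.comp_def]
    · simp [my, Finsupp.prod, SubmonoidClass.coe_finsetProd, Function.comp_def]
  have hvt : ∀ α, vL (t α) = vL (algebraMap K L (coeff α f)) * vL (mx (e α).1) := by
    intro α; simp only [t, map_mul, hmy, mul_one]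
  have hsupp : f.support.Nonempty := support_nonempty.mpr hf0
  obtain ⟨α₀, hα₀, hmax⟩ := f.support.exists_max_image (fun α => vL (t α)) hsupp
  set T := f.support.filter (fun α => vL (t α) = vL (t α₀))
  have hmx0 : ∀ a, mx a ≠ 0 := fun a => Units.ne_zero _
  have hc : ∀ α ∈ f.support, algebraMap K L (coeff α f) ≠ 0 := fun α hα =>
    (map_ne_zero _).mpr (mem_support_iff.mp hα)
  have hsame : ∀ α ∈ T, (e α).1 = (e α₀).1 := by
    intro α hα
    obtain ⟨hα, heq⟩ := Finset.mem_filter.mp hα
    refine hX _ _ (coeff α₀ f / coeff α f)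
      (div_ne_zero (mem_support_iff.mp hα₀) (mem_support_iff.mp hα)) ?_
    rw [hvt, hvt] at heq
    rw [map_div₀, map_div₀, div_mul_eq_mul_div, eq_div_iff (by simpa using hc α hα), mul_comm]
    exact heq
  have hv0 : vL (t α₀) ≠ 0 := by
    rw [hvt]; exact mul_ne_zero (by simpa using hc α₀ hα₀) (by simpa using hmx0 _)
  let r : (I ⊕ J →₀ ℕ) → K := fun α => coeff α f / coeff α₀ f
  have hr : ∀ α ∈ T, vK (r α) ≤ 1 := by
    intro α hα
    rw [← Valuation.HasExtension.val_map_le_one_iff vK vL, map_div₀, map_div₀]
    have heq := (Finset.mem_filter.mp hα).2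
    rw [hvt, hvt, hsame α hα] at heq
    rw [mul_right_cancel₀ (by simpa using hmx0 _) heq, div_self (by simpa using hc α₀ hα₀)]
  let r' : (I ⊕ J →₀ ℕ) → vK.valuationSubring := fun α => if h : α ∈ T then ⟨r α, hr α h⟩ else 0
  let W : vL.valuationSubring := ∑ α ∈ T, algebraMap vK.valuationSubring vL.valuationSubring (r' α) * my (e α).2
  have hsum : ∑ α ∈ T, t α = algebraMap K L (coeff α₀ f) * mx (e α₀).1 * (W : L) := by
    have hco : (W : L) = ∑ α ∈ T, algebraMap K L (r α) * (my (e α).2 : L) := by
      simp only [W, AddSubmonoidClass.coe_finsetSum]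
      refine Finset.sum_congr rfl fun α hα => ?_
      rw [MulMemClass.coe_mul, Valuation.HasExtension.coe_algebraMap_valuationSubring_eq]
      simp [r', hα]
    rw [hco, Finset.mul_sum]
    refine Finset.sum_congr rfl fun α hα => ?_
    simp only [t, r, hsame α hα, map_div₀]
    field_simp [hc α₀ hα₀]
  have hW : vL (W : L) = 1 := by
    refine le_antisymm W.2 (not_lt.mp fun h => ?_)
    have hWres : IsLocalRing.residue vL.valuationSubring W = 0 := by
      rw [IsLocalRing.residue_eq_zero_iff, IsLocalRing.mem_maximalIdeal, mem_nonunits_iff]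
      intro hu
      obtain ⟨w, hw⟩ := hu.exists_right_inv
      have hw' := congrArg (fun z : vL.valuationSubring => vL (z : L)) hw
      simp only [MulMemClass.coe_mul, map_mul, OneMemClass.coe_one, map_one] at hw'
      have : vL (W : L) * vL (w : L) < 1 := mul_lt_one_of_nonneg_of_lt_one_left zero_le' h w.2
      rw [hw'] at this; exact lt_irrefl _ this
    let P : MvPolynomial J (IsLocalRing.ResidueField vK.valuationSubring) :=
      ∑ α ∈ T, monomial (e α).2 (IsLocalRing.residue vK.valuationSubring (r' α))
    have hP : aeval (fun j => IsLocalRing.residue vL.valuationSubring (Y j)) P = 0 := by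
      rw [← hWres]
      simp only [P, W, map_sum, map_mul, aeval_monomial,
        Valuation.HasExtension.algebraMap_residue_eq_residue_algebraMap]
      refine Finset.sum_congr rfl fun α _ => ?_
      simp [my, Finsupp.prod]
    have hT0 : α₀ ∈ T := Finset.mem_filter.mpr ⟨hα₀, rfl⟩
    have h1 := congrArg (coeff (e α₀).2) (algebraicIndependent_iff.mp hY P hP)
    rw [coeff_zero] at h1
    simp only [P, coeff_sum, coeff_monomial] at h1
    rw [Finset.sum_eq_single_of_mem α₀ hT0] at h1
    · rw [if_pos rfl] at h1
      have : r' α₀ = 1 := by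
        simp only [r', dif_pos hT0, r]
        exact Subtype.ext (div_self (mem_support_iff.mp hα₀))
      rw [this, map_one] at h1; exact one_ne_zero h1
    · intro α hα hne
      rw [if_neg]
      intro h
      exact hne (e.injective (Prod.ext (hsame α hα) h))
  have hmain : vL (∑ α ∈ T, t α) = vL (t α₀) := by
    rw [hsum, map_mul, map_mul, hW, mul_one, hvt]
  rw [ht, ← Finset.sum_filter_add_sum_filter_not _ (fun α => vL (t α) = vL (t α₀))] at hf
  have hlt : vL (∑ α ∈ f.support.filter (fun α => ¬ vL (t α) = vL (t α₀)), t α) < vL (∑ α ∈ T, t α) := by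
    rw [hmain]
    refine Valuation.map_sum_lt _ hv0 fun α hα => ?_
    obtain ⟨h1, h2⟩ := Finset.mem_filter.mp hα
    exact lt_of_le_of_ne (hmax α h1) h2
  have h3 := Valuation.map_add_eq_of_lt_left _ hlt
  rw [hf, map_zero, hmain] at h3
  exact hv0 h3.symm

/-- Let L/K be an extension of valued fields, i.e. v_L is a valuation on L whose restriction to K is
equivalent to v_K. Write E for the rational rank of the quotient of value groups |L^×|/|K^×| — here
the rank of the abelian group L^× modulo the subgroup generated by the units of the valuation ring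
of v_L and the image of K^× — and F for the transcendence degree of the residue field of v_L over
that of v_K. Then E + F ≤ tr.deg(L/K) (an inequality of cardinals). -/
theorem result
    {K L Γ₀ Γ₁ : Type u} [Field K] [Field L] [Algebra K L]
    [LinearOrderedCommGroupWithZero Γ₀] [LinearOrderedCommGroupWithZero Γ₁]
    (vK : Valuation K Γ₀) (vL : Valuation L Γ₁) [vK.HasExtension vL] :
    Module.rank ℤ (Additive Lˣ ⧸ Subgroup.toAddSubgroup
        (vL.valuationSubring.unitGroup ⊔ (Units.map (algebraMap K L).toMonoidHom).range)) +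
      Algebra.trdeg (IsLocalRing.ResidueField vK.valuationSubring)
        (IsLocalRing.ResidueField vL.valuationSubring) ≤ Algebra.trdeg K L := by
  classical
  obtain ⟨s, hs, hli⟩ := exists_set_linearIndependent_of_isDomain ℤ (Additive Lˣ ⧸ Subgroup.toAddSubgroup
    (vL.valuationSubring.unitGroup ⊔ (Units.map (algebraMap K L).toMonoidHom).range))
  obtain ⟨t, ht⟩ := exists_isTranscendenceBasis (IsLocalRing.ResidueField vK.valuationSubring)
    (IsLocalRing.ResidueField vL.valuationSubring)
  rw [← hs, ← ht.cardinalMk_eq_trdeg]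
  choose g hg using fun x : s => QuotientAddGroup.mk_surjective x.1
  choose Y hY using fun x : t => IsLocalRing.residue_surjective x.1
  have hind := key vK vL (fun x : s => (g x).toMul) (fun a b c hc hab => by
    have hmem : ((a.prod fun i n => (g i).toMul ^ n : Lˣ) * (b.prod fun i n => (g i).toMul ^ n : Lˣ)⁻¹)
        ∈ vL.valuationSubring.unitGroup ⊔ (Units.map (algebraMap K L).toMonoidHom).range := by
      refine Subgroup.mem_sup.mpr ⟨_, ?_, Units.map (algebraMap K L).toMonoidHom (Units.mk0 c hc), ⟨_, rfl⟩,
        inv_mul_cancel_right _ _⟩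
      rw [Valuation.mem_unitGroup_iff, Units.val_mul, Units.val_mul, map_mul, map_mul, Units.val_inv_eq_inv_val,
        Units.val_inv_eq_inv_val, map_inv₀, map_inv₀, hab]
      have h2 : vL ((b.prod fun i n => (g i).toMul ^ n : Lˣ) : L) ≠ 0 := by simp
      have h3 : vL (algebraMap K L c) ≠ 0 := by simpa using hc
      simp only [Units.coe_map, RingHom.toMonoidHom_eq_coe, MonoidHom.coe_coe, Units.val_mk0]
      field_simp
    let π := QuotientAddGroup.mk' (Subgroup.toAddSubgroup
      (vL.valuationSubring.unitGroup ⊔ (Units.map (algebraMap K L).toMonoidHom).range))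
    have hπ : ∀ a : s →₀ ℕ, π (Additive.ofMul (a.prod fun i n => (g i).toMul ^ n))
        = Finsupp.linearCombination ℤ (fun x : s => (x.1 : _)) (a.mapRange (fun n : ℕ => (n : ℤ)) Nat.cast_zero) := by
      intro a
      rw [Finsupp.linearCombination_apply, Finsupp.sum_mapRange_index (fun i => zero_smul ℤ i.1), Finsupp.prod, ofMul_prod,
        map_sum, Finsupp.sum]
      refine Finset.sum_congr rfl fun i _ => ?_
      rw [ofMul_pow, map_nsmul, natCast_zsmul, ofMul_toMul, ← hg i]
      rfl
    have h0 : π (Additive.ofMul (a.prod fun i n => (g i).toMul ^ n))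
        - π (Additive.ofMul (b.prod fun i n => (g i).toMul ^ n)) = 0 := by
      refine (map_sub π _ _).symm.trans ?_
      rw [← ofMul_div, div_eq_mul_inv]
      exact (QuotientAddGroup.eq_zero_iff _).mpr hmem
    rw [sub_eq_zero, hπ, hπ] at h0
    exact Finsupp.mapRange_injective _ Nat.cast_zero Nat.cast_injective (hli.linearIndependent h0))
    Y (by
      have : (fun j => IsLocalRing.residue vL.valuationSubring (Y j)) = ((↑) : t → _) := funext hY
      rw [this]; exact ht.1)
  have := hind.cardinalMk_le_trdeg
  rwa [mk_sum, lift_id, lift_id] at this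

end Groth.Agent.S14891
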