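import Groth.Statements.S14893
import Groth.Agent.Lib.ValDim26.Basic
import Mathlib.RingTheory.AlgebraicIndependent.TranscendenceBasis
import Mathlib.RingTheory.Ideal.Height

set_option autoImplicit false
universe u
open CAlg
set_option linter.style.haveILetI false

namespace Groth.Agent.S14893

theorem finite_primeSpectrum {S : Type u} [CommRing S] [IsDomain S] [ValuationRing S] (d : ℕ)
    (hd : ringKrullDim S ≤ (d : WithBot ℕ∞)) : Finite (PrimeSpectrum S) := by
  have hh : ∀ p : PrimeSpectrum S, p.asIdeal.height ≤ (d : ℕ∞) := fun p =>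
    WithBot.coe_le_coe.1 ((Ideal.height_le_ringKrullDim_of_ne_top p.2.ne_top).trans hd)
  have hne : ∀ p : PrimeSpectrum S, p.asIdeal.height ≠ ⊤ := fun p => ne_top_of_le_ne_top (ENat.coe_ne_top d) (hh p)
  refine Finite.of_injective (β := Fin (d + 1))
    (fun p => ⟨p.asIdeal.height.toNat, Nat.lt_succ_of_le (ENat.toNat_le_of_le_coe (hh p))⟩) fun p q h => ?_
  have heq : p.asIdeal.height = q.asIdeal.height := by
    rw [← ENat.coe_toNat (hne p), ← ENat.coe_toNat (hne q), show p.asIdeal.height.toNat = q.asIdeal.height.toNat from congrArg Fin.val h]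
  have key : ∀ r r' : PrimeSpectrum S, r.asIdeal.height = r'.asIdeal.height → r.asIdeal ≤ r'.asIdeal → r = r' := by
    intro r r' hrr hle
    by_contra hne'
    haveI : r.asIdeal.FiniteHeight := ⟨Or.inr (hne r)⟩
    exact (Ideal.height_strict_mono_of_isPrime (lt_of_le_of_ne hle fun e => hne' (PrimeSpectrum.ext e))).ne hrr
  rcases Std.Total.total (r := (· ≤ ·)) p.asIdeal q.asIdeal with h' | h'
  · exact key p q heq h'
  · exact (key q p heq.symm h').symm

theorem trdeg_closure_le {K : Type u} [Field K] (s : Finset K) :
    Algebra.trdeg (⊥ : Subfield (Subfield.closure (s : Set K))) (Subfield.closure (s : Set K)) ≤ (s.card : Cardinal.{u}) := by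
  let L := Subfield.closure (s : Set K)
  let t : Set L := Subtype.val ⁻¹' (s : Set K)
  let B := Algebra.adjoin (⊥ : Subfield L) t
  haveI : Algebra.IsAlgebraic B L := ⟨fun x => by
    obtain ⟨y, hy, z, hz, hyz⟩ := Subfield.mem_closure_iff.1 x.2
    have hsub : Subring.closure (s : Set K) ≤ B.toSubring.map L.subtype :=
      Subring.closure_le.2 fun a ha => ⟨⟨a, Subfield.subset_closure ha⟩, Algebra.subset_adjoin ha, rfl⟩
    obtain ⟨y', hy', rfl⟩ := hsub hy
    obtain ⟨z', hz', rfl⟩ := hsub hz
    have hx : x = y' / z' := Subtype.ext hyz.symm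
    rw [hx, div_eq_mul_inv]
    exact (isAlgebraic_algebraMap (⟨y', hy'⟩ : B)).mul (isAlgebraic_algebraMap (⟨z', hz'⟩ : B)).inv⟩
  refine (Algebra.IsAlgebraic.trdeg_le_cardinalMk (⊥ : Subfield L) t).trans ?_
  refine (Cardinal.mk_preimage_of_injective _ _ Subtype.val_injective).trans_eq ?_
  exact Cardinal.mk_coe_finset


/-- Every valuation ring R is a filtered union of subrings which are valuation rings with finite
spectrum (finite height): there is a nonempty directed index type and a monotone family of such
subrings of R whose supremum is R. -/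
theorem result
    (R : Type u) [CommRing R] [IsDomain R] [ValuationRing R] :
    ∃ (ι : Type u) (_ : Preorder ι) (_ : IsDirected ι (fun a b ↦ a ≤ b)) (_ : Nonempty ι)
      (F : ι → Subring R), Monotone F ∧ (⨆ i, F i) = ⊤ ∧
        ∀ i, ValuationRing (F i) ∧ Finite (PrimeSpectrum (F i)) := by
  classical
  let K := FractionRing R
  let A : ValuationSubring K :=
    { (algebraMap R K).range with
      mem_or_inv_mem' := fun x => by
        obtain ⟨a, ha⟩ | ⟨a, ha⟩ := ValuationRing.isInteger_or_isInteger R x
        · exact Or.inl ⟨a, ha⟩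
        · exact Or.inr ⟨a, ha⟩ }
  refine ⟨Finset K, inferInstance, inferInstance, inferInstance,
    fun s => (Subfield.closure (s : Set K)).toSubring.comap (algebraMap R K),
    fun s t hst r hr => Subfield.closure_mono (Finset.coe_subset.2 hst) hr, ?_, fun s => ?_⟩
  · refine eq_top_iff.2 fun r _ => ?_
    refine le_iSup (fun s : Finset K => (Subfield.closure (s : Set K)).toSubring.comap (algebraMap R K))
      {algebraMap R K r} ?_
    exact Subfield.subset_closure (by simp)
  · let L := Subfield.closure (s : Set K)
    let V : ValuationSubring L := A.comap L.subtype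
    let S := L.toSubring.comap (algebraMap R K)
    let f : S →+* V := RingHom.codRestrict
      ((((algebraMap R K).comp S.subtype).codRestrict L fun r => r.2)) V.toSubring fun r => ⟨r.1, rfl⟩
    have hf : Function.Bijective f := by
      constructor
      · intro a b h
        have := congrArg (fun v : V => ((v : L) : K)) h
        exact Subtype.ext (IsFractionRing.injective R K this)
      · rintro ⟨⟨x, hx⟩, r, hr⟩
        have hr' : algebraMap R K r = x := hr
        exact ⟨⟨r, show algebraMap R K r ∈ L by rw [hr']; exact hx⟩, Subtype.ext (Subtype.ext hr')⟩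
    let e := (RingEquiv.ofBijective f hf).symm
    obtain ⟨d, hd⟩ := Cardinal.lt_aleph0.1 ((trdeg_closure_le s).trans_lt Cardinal.natCast_lt_aleph0)
    haveI : Finite (PrimeSpectrum V) := finite_primeSpectrum (d + 1) (ValDim26.ringKrullDim_le V d hd)
    exact ⟨Function.Surjective.valuationRing e.toRingHom e.surjective,
      Finite.of_equiv _ (PrimeSpectrum.comapEquiv e).toEquiv⟩

end Groth.Agent.S14893
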