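import Groth.Statements.S14896
import Mathlib.RingTheory.Unramified.LocalStructure
import Mathlib.RingTheory.QuasiFinite.Basic
import Mathlib.RingTheory.Localization.Away.Basic

set_option autoImplicit false
set_option linter.style.haveILetI false
universe u
open CAlg

namespace Groth.Agent.S14896

/-- Let L/K be a finite extension of valued fields, v_L extending v_K, with K° = the valuation ring of
v_K having finite spectrum (finite height), and L° the valuation ring of v_L. If L° is local-étale
over K°, i.e. L° is the localization at a prime ideal of some étale K°-algebra B compatibly with the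
K°-algebra structures, then L° is étale over K°. (For valued fields of finite height 'unramified' in
the local-étale sense is thus the same as K° → L° étale; the published lemma phrases the hypothesis
as 'L/K unramified'.) -/
theorem result
    {K L Γ₀ Γ₁ : Type u} [Field K] [Field L] [Algebra K L] [FiniteDimensional K L]
    [LinearOrderedCommGroupWithZero Γ₀] [LinearOrderedCommGroupWithZero Γ₁]
    (vK : Valuation K Γ₀) (vL : Valuation L Γ₁) [vK.HasExtension vL]
    [Finite (PrimeSpectrum vK.valuationSubring)]
    (B : Type u) [CommRing B] [Algebra vK.valuationSubring B] [Algebra.Etale vK.valuationSubring B]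
    [Algebra B vL.valuationSubring] [IsScalarTower vK.valuationSubring B vL.valuationSubring]
    (P : Ideal B) [P.IsPrime] [IsLocalization.AtPrime vL.valuationSubring P] :
    Algebra.Etale vK.valuationSubring vL.valuationSubring := by
  classical
  haveI : Algebra.QuasiFinite vK.valuationSubring B := inferInstance
  haveI : Finite (PrimeSpectrum B) := Algebra.QuasiFinite.finite_primeSpectrum (R := vK.valuationSubring) B
  haveI := Fintype.ofFinite (PrimeSpectrum B)
  have hch : ∀ q : PrimeSpectrum B, ∃ g : B, g ∉ P ∧ (¬ q.asIdeal ≤ P → g ∈ q.asIdeal) := by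
    intro q
    by_cases hq : q.asIdeal ≤ P
    · exact ⟨1, fun h => (inferInstance : P.IsPrime).ne_top ((Ideal.eq_top_iff_one P).2 h), fun h => absurd hq h⟩
    · obtain ⟨g, hg, hgP⟩ := SetLike.not_le_iff_exists.1 hq
      exact ⟨g, hgP, fun _ => hg⟩
  choose g hgP hgq using hch
  set G := ∏ q, g q
  have hG : G ∈ P.primeCompl := fun h => by
    obtain ⟨q, -, hq⟩ := Ideal.IsPrime.prod_mem_iff.1 h
    exact hgP q hq
  have hunits : ∀ s ∈ P.primeCompl, IsUnit (algebraMap B (Localization.Away G) s) := by
    intro s hs
    by_contra hne
    obtain ⟨Q, hQ, hQs⟩ := exists_max_ideal_of_mem_nonunits hne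
    haveI := hQ.isPrime
    let q : PrimeSpectrum B := ⟨Q.comap (algebraMap B (Localization.Away G)), inferInstance⟩
    have hnle : ¬ q.asIdeal ≤ P := fun hle => hs (hle hQs)
    have hGQ : algebraMap B (Localization.Away G) G ∈ Q := by
      show G ∈ q.asIdeal
      exact Ideal.mem_of_dvd _ (Finset.dvd_prod_of_mem g (Finset.mem_univ q)) (hgq q hnle)
    exact hQ.ne_top (Ideal.eq_top_of_isUnit_mem _ hGQ (IsLocalization.Away.algebraMap_isUnit G))
  haveI : IsLocalization P.primeCompl (Localization.Away G) := by
    refine IsLocalization.of_le (Submonoid.powers G) P.primeCompl ?_ hunits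
    exact Submonoid.powers_le.2 hG
  exact Algebra.Etale.of_equiv
    ((IsLocalization.algEquiv P.primeCompl (Localization.Away G) vL.valuationSubring).restrictScalars vK.valuationSubring)

end Groth.Agent.S14896
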