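import Groth.Statements.S14898
import Groth.Agent.S0384
import Groth.Agent.Lib.AdmBlowUp4.Product
import Groth.Agent.Lib.EffCartier.Dense
-- import your own Groth.Agent.* helpers here

set_option autoImplicit false
set_option backward.isDefEq.respectTransparency false
universe u
open CategoryTheory CategoryTheory.Limits AlgebraicGeometry Groth.Agent
open FlatMor

namespace Groth.Agent.S14898

/-- Let S be integral, quasi-compact and quasi-separated and η̄ : Spec K̄ → S dominant, K̄ a field.
Suppose given finitely many K̄-quasi-modifications of S: schematically dominant t_i : Spec K̄ → T_i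
followed by separated, quasi-compact, locally finite type p_i : T_i → S with t_i ≫ p_i = η̄. Then
there is a K̄-modification of S — a schematically dominant s : Spec K̄ → S' followed by a proper q :
S' → S with s ≫ q = η̄ — and opens V_i ⊆ S' through which s factors, together with proper
S-morphisms r_i : V_i → T_i sending the K̄-point to t_i; that is, each V_i is a K̄-modification of
T_i sitting inside S' as an open subscheme over S. -/
theorem result
    {S : Scheme.{u}} [IsIntegral S] [CompactSpace S] [QuasiSeparatedSpace S]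
    (Kb : Type u) [Field Kb] (ηb : Spec (CommRingCat.of Kb) ⟶ S) [IsDominant ηb]
    {ι : Type u} [Finite ι] (T : ι → Scheme.{u}) (t : ∀ i, Spec (CommRingCat.of Kb) ⟶ T i)
    (p : ∀ i, T i ⟶ S) [∀ i, IsSchemeTheoreticallyDominant (t i)] [∀ i, IsSeparated (p i)]
    [∀ i, LocallyOfFiniteType (p i)] [∀ i, QuasiCompact (p i)] (hp : ∀ i, t i ≫ p i = ηb) :
    ∃ (S' : Scheme.{u}) (s : Spec (CommRingCat.of Kb) ⟶ S') (q : S' ⟶ S),
      IsSchemeTheoreticallyDominant s ∧ IsProper q ∧ s ≫ q = ηb ∧
      ∀ i, ∃ (V : S'.Opens) (v : Spec (CommRingCat.of Kb) ⟶ (V : Scheme.{u}))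
        (r : (V : Scheme.{u}) ⟶ T i),
        v ≫ V.ι = s ∧ IsProper r ∧ v ≫ r = t i ∧ r ≫ p i = V.ι ≫ q := by
  choose Tc j g hj hjq hg hjg using fun i => Groth.Agent.S0384.result (p i)
  let e := (Finite.equivFin ι).symm
  haveI := AdmBlowUp4.isProper_widePullback_base (fun k => Tc (e k)) (fun k => g (e k))
  haveI : QuasiSeparatedSpace (widePullback S (fun k => Tc (e k)) (fun k => g (e k)) : Scheme.{u}) :=
    quasiSeparatedSpace_of_quasiSeparated (WidePullback.base fun k => g (e k))
  let L : Spec (CommRingCat.of Kb) ⟶ widePullback S (fun k => Tc (e k)) (fun k => g (e k)) :=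
    WidePullback.lift ηb (fun k => t (e k) ≫ j (e k)) (fun k => by rw [Category.assoc, hjg, hp])
  haveI : QuasiCompact L := inferInstance
  let q := L.imageι ≫ WidePullback.base fun k => g (e k)
  haveI : IsProper q := inferInstance
  refine ⟨L.image, L.toImage, q, EffCartier.dominant_toImage L, inferInstance,
    by simp only [q]; rw [Scheme.Hom.toImage_imageι_assoc, WidePullback.lift_base], fun i => ?_⟩
  obtain ⟨k, rfl⟩ := e.surjective i
  let π : L.image ⟶ Tc (e k) := L.imageι ≫ WidePullback.π (fun k => g (e k)) k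
  have hπg : π ≫ g (e k) = q := by
    simp only [π, q, Category.assoc]
    rw [WidePullback.π_arrow (fun k => g (e k)) k]
  haveI : IsProper π := by
    haveI : IsProper (π ≫ g (e k)) := hπg ▸ inferInstance
    exact IsProper.of_comp π (g (e k))
  haveI := hj (e k)
  let V := π ⁻¹ᵁ (j (e k)).opensRange
  let r : (V : Scheme.{u}) ⟶ T (e k) := (π ∣_ (j (e k)).opensRange) ≫ (j (e k)).isoOpensRange.inv
  haveI : IsProper (π ∣_ (j (e k)).opensRange) :=
    MorphismProperty.of_isPullback (P := @IsProper) (isPullback_morphismRestrict π (j (e k)).opensRange).flip inferInstance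
  have hr : r ≫ j (e k) = V.ι ≫ π := by
    simp only [r, Category.assoc]
    rw [Scheme.Hom.isoOpensRange_inv_comp, morphismRestrict_ι]
  have hsπ : L.toImage ≫ π = t (e k) ≫ j (e k) := by
    simp only [π, L]
    rw [Scheme.Hom.toImage_imageι_assoc, WidePullback.lift_π]
  have hs : Set.range L.toImage ⊆ Set.range V.ι := by
    rintro _ ⟨x, rfl⟩
    rw [Scheme.Opens.range_ι]
    show π (L.toImage x) ∈ (j (e k)).opensRange
    rw [← Scheme.Hom.comp_apply, hsπ]
    exact ⟨t (e k) x, rfl⟩
  refine ⟨V, IsOpenImmersion.lift V.ι L.toImage hs, r, IsOpenImmersion.lift_fac _ _ _, inferInstance, ?_, ?_⟩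
  · rw [← cancel_mono (j (e k)), Category.assoc, hr, IsOpenImmersion.lift_fac_assoc, hsπ]
  · rw [← hjg (e k), ← Category.assoc, hr, Category.assoc, hπg]

end Groth.Agent.S14898
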