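import Groth.Statements.S1490
import Groth.Agent.Lib.Cube10.Main

set_option autoImplicit false
universe u
open FlatMor

namespace Groth.Agent.S1490

open AlgebraicGeometry CategoryTheory Limits in
/-- The cube principle for invertible modules: let X, Y, Z be schemes over S with X → S and Y → S flat,
proper, of finite presentation and with geometrically integral fibres, let x and y be sections of X
→ S and Y → S, and let Z be connected. Let L be an invertible module on (X ×_S Y) ×_S Z. If the
pullbacks of L to Y ×_S Z (along x) and to X ×_S Z (along y) are trivial and L is trivial on the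
fibre over some point z of Z, then L is trivial. -/
theorem result {S X Y Z : Scheme.{u}} (pX : X ⟶ S) (pY : Y ⟶ S) (pZ : Z ⟶ S)
    [Flat pX] [IsProper pX] [LocallyOfFinitePresentation pX] [GeometricallyIntegral pX]
    [Flat pY] [IsProper pY] [LocallyOfFinitePresentation pY] [GeometricallyIntegral pY] [ConnectedSpace ↑Z]
    (x : S ⟶ X) (hx : x ≫ pX = 𝟙 S) (y : S ⟶ Y) (hy : y ≫ pY = 𝟙 S)
    (L : (pullback (pullback.fst pX pY ≫ pX) pZ).Modules) (hL : PicF.IsInvertible L)
    (h₁ : Nonempty ((Scheme.Modules.pullback (pullback.map ((pullback.lift (pY ≫ x) (𝟙 Y) ((Category.assoc pY x pX).trans ((congrArg (fun t => pY ≫ t) hx).trans ((Category.comp_id pY).trans (Category.id_comp pY).symm)))) ≫ (pullback.fst pX pY ≫ pX)) pZ (pullback.fst pX pY ≫ pX) pZ (pullback.lift (pY ≫ x) (𝟙 Y) ((Category.assoc pY x pX).trans ((congrArg (fun t => pY ≫ t) hx).trans ((Category.comp_id pY).trans (Category.id_comp pY).symm)))) (𝟙 Z) (𝟙 S) (Category.comp_id _) ((Category.comp_id pZ).trans (Category.id_comp pZ).symm))).obj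 L ≅ Coh.structureModule _))
    (h₂ : Nonempty ((Scheme.Modules.pullback (pullback.map ((pullback.lift (𝟙 X) (pX ≫ y) ((Category.id_comp pX).trans ((Category.comp_id pX).symm.trans ((congrArg (fun t => pX ≫ t) hy).symm.trans (Category.assoc pX y pY).symm)))) ≫ (pullback.fst pX pY ≫ pX)) pZ (pullback.fst pX pY ≫ pX) pZ (pullback.lift (𝟙 X) (pX ≫ y) ((Category.id_comp pX).trans ((Category.comp_id pX).symm.trans ((congrArg (fun t => pX ≫ t) hy).symm.trans (Category.assoc pX y pY).symm)))) (𝟙 Z) (𝟙 S) (Category.comp_id _) ((Category.comp_id pZ).trans (Category.id_comp pZ).symm))).obj L ≅ Coh.structureModule _))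
    (h₃ : ∃ z : Z, Nonempty ((Scheme.Modules.pullback ((pullback.snd (pullback.fst pX pY ≫ pX) pZ).fiberι z)).obj L ≅ Coh.structureModule _)) :
    Nonempty (L ≅ Coh.structureModule (pullback (pullback.fst pX pY ≫ pX) pZ)) := by
  obtain ⟨W, hW, hmem, hT⟩ := Cube10.cube_rel pX pY pZ x hx y hy
    (pullback.lift (pY ≫ x) (𝟙 Y) ((Category.assoc pY x pX).trans ((congrArg (fun t => pY ≫ t) hx).trans ((Category.comp_id pY).trans (Category.id_comp pY).symm))))
    (pullback.lift_fst _ _ _) (pullback.lift_snd _ _ _)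
    (pullback.lift (𝟙 X) (pX ≫ y) ((Category.id_comp pX).trans ((Category.comp_id pX).symm.trans ((congrArg (fun t => pX ≫ t) hy).symm.trans (Category.assoc pX y pY).symm))))
    (pullback.lift_fst _ _ _) (pullback.lift_snd _ _ _) L hL h₁ h₂
  obtain ⟨z, hz⟩ := h₃
  have hne : (W : Set Z).Nonempty := ⟨z, (hmem z).2 hz⟩
  obtain rfl : W = ⊤ := TopologicalSpace.Opens.ext (IsClopen.eq_univ ⟨hW, W.isOpen⟩ hne)
  obtain ⟨e⟩ := hT
  let t := (pullback (pullback.fst pX pY ≫ pX) pZ).topIso
  have ht : Nonempty ((Scheme.Modules.pullback (t.inv ≫ t.hom)).obj L ≅ Coh.structureModule _) :=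
    (CubeField.isTriv_comp_iff t.inv t.hom L).1 (CubeField.IsTriv.pullback t.inv ⟨e⟩)
  rw [t.inv_hom_id] at ht
  obtain ⟨e'⟩ := ht
  exact ⟨((Scheme.Modules.pullbackId _).app L).symm ≪≫ e'⟩

end Groth.Agent.S1490
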