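import Groth.Statements.S14904
import Groth.Agent.Lib.AddModel19.Basic
import Groth.Agent.Lib.RankOne16.GaFibre
-- import your own Groth.Agent.* helpers here

set_option autoImplicit false
universe u
open CategoryTheory MonoidalCategory CartesianMonoidalCategory MonObj GrpObj AlgebraicGeometry
open Neron

namespace Groth.Agent.S14904

set_option linter.style.haveILetI false
set_option backward.isDefEq.respectTransparency.types false


/-- Let R be a complete discrete valuation ring with fraction field K of characteristic 0 and
algebraically closed residue field k of characteristic 0, and let G be an affine smooth R-group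
scheme of finite type together with an isomorphism of K-group schemes between its generic fibre and
the additive group over K (an affine smooth R-model of the additive group). Then the special fibre
G_k is connected and G is isomorphic to the additive group over R as an R-group scheme (existence of
an isomorphism of group schemes). -/
theorem result (R : Type u) [CommRing R] [IsDomain R] [IsDiscreteValuationRing R]
    [IsAdicComplete (IsLocalRing.maximalIdeal R) R] (K : Type u) [Field K] [Algebra R K] [IsFractionRing R K] [CharZero K]
    [IsAlgClosed (IsLocalRing.ResidueField R)] [CharZero (IsLocalRing.ResidueField R)]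
    (G : Over (Spec (CommRingCat.of R))) [GrpObj G] [Smooth G.hom] [IsAffineHom G.hom] [LocallyOfFiniteType G.hom]
    (e : Red.bc (Spec.map (CommRingCat.ofHom (algebraMap R K))) G ≅ Red.Ga (Spec (CommRingCat.of K))) [IsMonHom e.hom] :
    ConnectedSpace ↥(Red.bc (Spec.map (CommRingCat.ofHom (IsLocalRing.residue R))) G).left ∧
      ∃ e' : G ≅ Red.Ga (Spec (CommRingCat.of R)), IsMonHom e'.hom := by
  haveI : IsAffine G.left := isAffine_of_isAffineHom G.hom
  haveI : Infinite K := inferInstance
  obtain ⟨e', he'⟩ := AddModel19.exists_iso (K := K) G e
  refine ⟨?_, e', he'⟩
  let ψ := Spec.map (CommRingCat.ofHom (IsLocalRing.residue R))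
  obtain ⟨-, -, hc⟩ := RankOne16.props_bc_Ga (K := IsLocalRing.ResidueField R) ψ
  let i := (Over.pullback ψ).map e'.inv
  haveI := hc
  haveI : IsIso i.left := inferInstanceAs (IsIso ((Over.forget _).map i))
  exact i.left.homeomorph.surjective.connectedSpace i.left.homeomorph.continuous

end Groth.Agent.S14904
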