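import Groth.Statements.S14905
import Groth.Agent.Lib.AddModel19.PGroup
-- import your own Groth.Agent.* helpers here

set_option autoImplicit false
universe u
open CategoryTheory MonoidalCategory CartesianMonoidalCategory MonObj GrpObj AlgebraicGeometry
open Neron

namespace Groth.Agent.S14905

set_option linter.style.haveILetI false
set_option backward.isDefEq.respectTransparency.types false


/-- Let R be a complete discrete valuation ring with fraction field K of characteristic 0 and
algebraically closed residue field k of characteristic p > 0, and let G be an affine smooth R-group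
scheme of finite type together with an isomorphism of K-group schemes between its generic fibre and
the additive group over K. Then the group of connected components of the special fibre G_k is a
p-group: for every k-point x of G_k some power x^(p^m) lies in the connected component of the
identity; and the identity component of G is the additive group over R: there is a homomorphism of
R-group schemes from the additive group over R to G which is an open immersion. (The published
statement also asserts that every finite abelian p-group occurs as such a component group; this row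
does not state that.) -/
theorem result (R : Type u) [CommRing R] [IsDomain R] [IsDiscreteValuationRing R]
    [IsAdicComplete (IsLocalRing.maximalIdeal R) R] (K : Type u) [Field K] [Algebra R K] [IsFractionRing R K] [CharZero K]
    [IsAlgClosed (IsLocalRing.ResidueField R)]
    (p : ℕ) [Fact p.Prime] [CharP (IsLocalRing.ResidueField R) p]
    (G : Over (Spec (CommRingCat.of R))) [GrpObj G] [Smooth G.hom] [IsAffineHom G.hom] [LocallyOfFiniteType G.hom]
    (e : Red.bc (Spec.map (CommRingCat.ofHom (algebraMap R K))) G ≅ Red.Ga (Spec (CommRingCat.of K))) [IsMonHom e.hom] :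
    (∀ x : 𝟙_ (Over (Spec (CommRingCat.of (IsLocalRing.ResidueField R)))) ⟶ Red.bc (Spec.map (CommRingCat.ofHom (IsLocalRing.residue R))) G,
        ∃ m : ℕ, (x ^ (p ^ m)).left.base (IsLocalRing.closedPoint (IsLocalRing.ResidueField R)) ∈
          connectedComponent ((η[Red.bc (Spec.map (CommRingCat.ofHom (IsLocalRing.residue R))) G]).left.base (IsLocalRing.closedPoint (IsLocalRing.ResidueField R)))) ∧
      ∃ j : Red.Ga (Spec (CommRingCat.of R)) ⟶ G, IsMonHom j ∧ IsOpenImmersion j.left := by
  haveI : HenselianLocalRing R := ⟨fun f hf a h1 h2 =>
    HenselianRing.is_henselian f hf a h1 (h2.map (Ideal.Quotient.mk (IsLocalRing.maximalIdeal R)))⟩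
  haveI : IsAffine G.left := isAffine_of_isAffineHom G.hom
  haveI : IsCommMonObj G := ModelTors19.isComm (K := K) G fun T a b => (cancel_mono e.hom).1 (GaPts.gaFn_injective (by
    show Red.gaFn ((a * b) ≫ e.hom) = Red.gaFn ((b * a) ≫ e.hom)
    rw [MonObj.mul_comp, MonObj.mul_comp, GaPts.gaFn_mul, GaPts.gaFn_mul, add_comm]))
  obtain ⟨j, hj, hj'⟩ := AddModel19.exists_open_Ga (K := K) G e
  haveI := hj
  haveI := hj'
  obtain ⟨j₀, hj₀, hj₀'⟩ := AddModel19.exists_open_special j
  haveI := hj₀
  haveI := hj₀'
  refine ⟨fun x => ?_, j, hj, hj'⟩
  obtain ⟨m, hm⟩ := AddModel19.exists_pow_mem (K := K) e j₀ p x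
  refine ⟨m, ?_⟩
  rw [MonObj.one_eq_one]
  exact hm

end Groth.Agent.S14905
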