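import Groth.Statements.S14906
import Groth.Agent.Lib.MulModel19.Basic
-- import your own Groth.Agent.* helpers here

set_option autoImplicit false
universe u
open CategoryTheory MonoidalCategory CartesianMonoidalCategory MonObj GrpObj AlgebraicGeometry
open Neron

namespace Groth.Agent.S14906

set_option linter.style.haveILetI false
set_option backward.isDefEq.respectTransparency.types false


/-- Let R be a complete discrete valuation ring with fraction field K of characteristic 0 and
algebraically closed residue field k, and let G be an affine smooth R-group scheme of finite type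
together with an isomorphism of K-group schemes between its generic fibre and the multiplicative
group over K (an affine smooth R-model of the multiplicative group). Suppose the identity component
of the special fibre G_k is the multiplicative group: there is a homomorphism of k-group schemes
from the multiplicative group over k to G_k which is an open immersion. Then G_k is connected and G
is isomorphic to the multiplicative group over R as an R-group scheme (existence of an isomorphism
of group schemes). -/
theorem result (R : Type u) [CommRing R] [IsDomain R] [IsDiscreteValuationRing R]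
    [IsAdicComplete (IsLocalRing.maximalIdeal R) R] (K : Type u) [Field K] [Algebra R K] [IsFractionRing R K] [CharZero K]
    [IsAlgClosed (IsLocalRing.ResidueField R)]
    (G : Over (Spec (CommRingCat.of R))) [GrpObj G] [Smooth G.hom] [IsAffineHom G.hom] [LocallyOfFiniteType G.hom]
    (e : Red.bc (Spec.map (CommRingCat.ofHom (algebraMap R K))) G ≅ Red.Gm (Spec (CommRingCat.of K))) [IsMonHom e.hom]
    (j₀ : Red.Gm (Spec (CommRingCat.of (IsLocalRing.ResidueField R))) ⟶ Red.bc (Spec.map (CommRingCat.ofHom (IsLocalRing.residue R))) G) [IsMonHom j₀]
    [IsOpenImmersion j₀.left] :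
    ConnectedSpace ↥(Red.bc (Spec.map (CommRingCat.ofHom (IsLocalRing.residue R))) G).left ∧
      ∃ e' : G ≅ Red.Gm (Spec (CommRingCat.of R)), IsMonHom e'.hom := by
  haveI : HenselianLocalRing R := ⟨fun f hf a h1 h2 =>
    HenselianRing.is_henselian f hf a h1 (h2.map (Ideal.Quotient.mk (IsLocalRing.maximalIdeal R)))⟩
  haveI : IsAffine G.left := isAffine_of_isAffineHom G.hom
  haveI : IsCommMonObj G := ModelTors19.isComm (K := K) G fun T a b => (cancel_mono e.hom).1 (GmPts.gmFn_injective (by
    show Red.gmFn ((a * b) ≫ e.hom) = Red.gmFn ((b * a) ≫ e.hom)
    rw [MonObj.mul_comp, MonObj.mul_comp, GmPts.gmFn_mul, GmPts.gmFn_mul, mul_comm]))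
  obtain ⟨e', he'⟩ := MulModel19.exists_iso (K := K) G e j₀
  refine ⟨?_, e', he'⟩
  let c := Spec.map (CommRingCat.ofHom (IsLocalRing.residue R))
  let S' := Spec (CommRingCat.of (IsLocalRing.ResidueField R))
  let q := Limits.IsTerminal.from specULiftZIsTerminal (Spec (CommRingCat.of R))
  let q' := Limits.IsTerminal.from specULiftZIsTerminal S'
  have hq : c ≫ q = q' := Limits.IsTerminal.hom_ext specULiftZIsTerminal _ _
  let i : (Red.bc c (Red.Gm (Spec (CommRingCat.of R)))).left ≅ (Red.Gm S').left :=
    Limits.pullbackLeftPullbackSndIso (Red.diag (ULift.{u} ℤ) ℤ).hom q c ≪≫ Limits.pullback.congrHom rfl hq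
  let f := (Over.pullback c).map e'.inv
  haveI := MulModel19.connectedSpace_Gm (IsLocalRing.ResidueField R)
  haveI : ConnectedSpace (Red.bc c (Red.Gm (Spec (CommRingCat.of R)))).left :=
    i.inv.homeomorph.surjective.connectedSpace i.inv.homeomorph.continuous
  haveI : IsIso f.left := inferInstanceAs (IsIso ((Over.forget _).map f))
  exact f.left.homeomorph.surjective.connectedSpace f.left.homeomorph.continuous

end Groth.Agent.S14906
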