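import Groth.Statements.S14907
import Groth.Agent.Lib.ModelTors19.Basic
-- import your own Groth.Agent.* helpers here

set_option autoImplicit false
universe u
open CategoryTheory MonoidalCategory CartesianMonoidalCategory MonObj GrpObj AlgebraicGeometry
open Neron

namespace Groth.Agent.S14907

set_option linter.style.haveILetI false
set_option backward.isDefEq.respectTransparency.types false


/-- Let R be a complete discrete valuation ring with fraction field K of characteristic 0 and
algebraically closed residue field k of characteristic 0, and let G be an affine smooth R-group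
scheme of finite type together with an isomorphism of K-group schemes between its generic fibre and
the multiplicative group over K. Suppose the identity component of the special fibre G_k is the
additive group: there is a homomorphism of k-group schemes from the additive group over k to G_k
which is an open immersion. Then the group of connected components of G_k is cyclic: there is a
k-point x₀ of G_k such that every connected component of G_k contains (the point underlying) some
power x₀^m. (The further assertion that every cyclic group occurs is not stated.) -/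
theorem result (R : Type u) [CommRing R] [IsDomain R] [IsDiscreteValuationRing R]
    [IsAdicComplete (IsLocalRing.maximalIdeal R) R] (K : Type u) [Field K] [Algebra R K] [IsFractionRing R K] [CharZero K]
    [IsAlgClosed (IsLocalRing.ResidueField R)] [CharZero (IsLocalRing.ResidueField R)]
    (G : Over (Spec (CommRingCat.of R))) [GrpObj G] [Smooth G.hom] [IsAffineHom G.hom] [LocallyOfFiniteType G.hom]
    (e : Red.bc (Spec.map (CommRingCat.ofHom (algebraMap R K))) G ≅ Red.Gm (Spec (CommRingCat.of K))) [IsMonHom e.hom]
    (j₀ : Red.Ga (Spec (CommRingCat.of (IsLocalRing.ResidueField R))) ⟶ Red.bc (Spec.map (CommRingCat.ofHom (IsLocalRing.residue R))) G) [IsMonHom j₀]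
    [IsOpenImmersion j₀.left] :
    ∃ x₀ : 𝟙_ (Over (Spec (CommRingCat.of (IsLocalRing.ResidueField R)))) ⟶ Red.bc (Spec.map (CommRingCat.ofHom (IsLocalRing.residue R))) G,
      ∀ x : 𝟙_ (Over (Spec (CommRingCat.of (IsLocalRing.ResidueField R)))) ⟶ Red.bc (Spec.map (CommRingCat.ofHom (IsLocalRing.residue R))) G,
        ∃ m : ℕ, (x₀ ^ m).left.base (IsLocalRing.closedPoint (IsLocalRing.ResidueField R)) ∈ connectedComponent (x.left.base (IsLocalRing.closedPoint (IsLocalRing.ResidueField R))) := by
  haveI : HenselianRing R (IsLocalRing.maximalIdeal R) := inferInstance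
  haveI : HenselianLocalRing R := ⟨fun f hf a h1 h2 =>
    HenselianRing.is_henselian f hf a h1 (h2.map (Ideal.Quotient.mk (IsLocalRing.maximalIdeal R)))⟩
  haveI : IsCommMonObj G := ModelTors19.isComm (K := K) G fun T a b => (cancel_mono e.hom).1 (GmPts.gmFn_injective (by
    show Red.gmFn ((a * b) ≫ e.hom) = Red.gmFn ((b * a) ≫ e.hom)
    rw [MonObj.mul_comp, MonObj.mul_comp, GmPts.gmFn_mul, GmPts.gmFn_mul, mul_comm]))
  obtain ⟨x₀, hx₀⟩ := ModelTors19.exists_cyclic (G := G) (K := K) e j₀
  refine ⟨x₀, fun x => ?_⟩
  obtain ⟨n, hn, -, h⟩ := hx₀ x
  obtain ⟨i, hi⟩ := h 1 n (one_mul n) (Nat.cast_ne_zero.2 hn.ne')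
  exact ⟨i, by rw [pow_one] at hi; exact hi.symm⟩

end Groth.Agent.S14907
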