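import Groth.Statements.S14909
import Mathlib

set_option autoImplicit false
universe u
open Neron

namespace Groth.Agent.S14909

lemma span_pair_pow_le {A : Type u} [CommRing A] (x y : A) (n : ℕ) :
    (Ideal.span {x, y} : Ideal A) ^ (n + 2) ≤
      Ideal.span {y ^ (n + 2), x * y ^ (n + 1)} ⊔ Ideal.span {x ^ 2} * Ideal.span {x, y} ^ n := by
  induction n with
  | zero =>
    rw [zero_add, zero_add, pow_one, pow_zero, mul_one, pow_two (Ideal.span {x, y}),
      Ideal.span_pair_mul_span_pair, Ideal.span_le]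
    intro z hz
    simp only [Set.mem_insert_iff, Set.mem_singleton_iff] at hz
    rcases hz with rfl | rfl | rfl | rfl
    · exact Ideal.mem_sup_right (by rw [← pow_two]; exact Ideal.mem_span_singleton_self _)
    · exact Ideal.mem_sup_left (Ideal.subset_span (by simp))
    · exact Ideal.mem_sup_left (Ideal.subset_span (by simp [mul_comm]))
    · exact Ideal.mem_sup_left (Ideal.subset_span (by simp [pow_two]))
  | succ n ih =>
    rw [show n + 1 + 2 = (n + 2) + 1 from rfl, pow_succ]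
    refine (Ideal.mul_mono_left ih).trans ?_
    rw [Ideal.sup_mul, mul_assoc, ← pow_succ, Ideal.span_pair_mul_span_pair]
    refine sup_le (Ideal.span_le.mpr ?_) le_sup_right
    intro z hz
    simp only [Set.mem_insert_iff, Set.mem_singleton_iff] at hz
    rcases hz with rfl | rfl | rfl | rfl
    · exact Ideal.mem_sup_left (Ideal.subset_span (Or.inr (by
        show y ^ (n + 2) * x = x * y ^ (n + 1 + 1); ring)))
    · exact Ideal.mem_sup_left (Ideal.subset_span (Or.inl (by ring)))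
    · refine Ideal.mem_sup_right ?_
      have h1 : y ^ (n + 1) ∈ Ideal.span {x, y} ^ (n + 1) :=
        Ideal.pow_mem_pow (Ideal.subset_span (by simp)) _
      have h2 := Ideal.mul_mem_mul (Ideal.mem_span_singleton_self (x ^ 2)) h1
      rwa [show x * y ^ (n + 1) * x = x ^ 2 * y ^ (n + 1) by ring]
    · exact Ideal.mem_sup_left (Ideal.subset_span (Or.inr (by
        show x * y ^ (n + 1) * y = x * y ^ (n + 1 + 1); ring)))

lemma gen_core {A : Type u} [CommRing A] (x y : A) (I : Ideal A) (k : ℕ)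
    (hjac : (Ideal.span {x, y} : Ideal A) ≤ Ideal.jacobson ⊥)
    (hx2 : x ^ 2 ∈ Ideal.span {x, y} ^ 3 ⊔ I) :
    (Ideal.span {x, y} : Ideal A) ^ (k + 2) ≤ Ideal.span {y ^ (k + 2), x * y ^ (k + 1)} ⊔ I := by
  refine Submodule.le_of_le_smul_of_le_jacobson_bot (I := Ideal.span {x, y})
    (Ideal.FG.pow (Submodule.fg_span ((Set.finite_singleton y).insert x))) hjac ?_
  refine (span_pair_pow_le x y k).trans (sup_le (le_sup_left.trans le_sup_left) ?_)
  refine (Ideal.mul_mono_left ((Ideal.span_singleton_le_iff_mem _).mpr hx2)).trans ?_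
  rw [Ideal.sup_mul]
  have hI : I * Ideal.span {x, y} ^ k ≤ I := Ideal.mul_le_left
  have hI' : I ≤ Ideal.span {y ^ (k + 2), x * y ^ (k + 1)} ⊔ I := le_sup_right
  refine sup_le (le_trans ?_ le_sup_right) (le_trans (le_trans hI hI') le_sup_left)
  rw [smul_eq_mul, ← pow_add, ← pow_succ']
  exact Ideal.pow_le_pow_right (by omega)

lemma snd_aux {A : Type u} [CommRing A] (p q : A) :
    TrivSqZeroExt.snd (TrivSqZeroExt.inl p * (TrivSqZeroExt.inr (1 : A) * TrivSqZeroExt.inl q) :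
      TrivSqZeroExt A A) = p * q := by
  rw [TrivSqZeroExt.snd_mul, TrivSqZeroExt.snd_mul, TrivSqZeroExt.fst_mul]
  simp only [TrivSqZeroExt.fst_inl, TrivSqZeroExt.snd_inl, TrivSqZeroExt.fst_inr,
    TrivSqZeroExt.snd_inr, smul_eq_mul, MulOpposite.smul_eq_mul_unop, MulOpposite.unop_op]
  ring

lemma sup_pow_sup {A : Type u} [CommRing A] {M J I : Ideal A} (h : M ≤ J ⊔ I) (i : ℕ) :
    M ^ i ≤ J ^ i ⊔ I := by
  induction i with
  | zero => simp
  | succ i ih =>
    rw [pow_succ, pow_succ]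
    refine (Ideal.mul_mono ih h).trans ?_
    rw [Ideal.sup_mul, Ideal.mul_sup]
    exact sup_le (sup_le le_sup_left (Ideal.mul_le_right.trans le_sup_right))
      (Ideal.mul_le_left.trans le_sup_right)

/-- Evaluation of power series at a nilpotent pair. -/
noncomputable def evalNil {R : Type u} [CommRing R] {T : Type u} [CommRing T] [Algebra R T]
    (e : Fin 2 → T) (n : ℕ) (he : Ideal.span (Set.range e) ^ n = ⊥) :
    MvPowerSeries (Fin 2) R →+* T :=
  (Ideal.Quotient.lift (MvPolynomial.idealOfVars (Fin 2) R ^ n)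
    (MvPolynomial.aeval e).toRingHom (fun p hp => by
      have h1 : (MvPolynomial.idealOfVars (Fin 2) R ^ n).map (MvPolynomial.aeval e).toRingHom ≤ ⊥ := by
        rw [Ideal.map_pow, MvPolynomial.idealOfVars, Ideal.map_span, ← Set.range_comp, ← he]
        refine Ideal.pow_right_mono (Ideal.span_mono ?_) n
        rintro _ ⟨i, rfl⟩
        exact ⟨i, by simp⟩
      exact (Ideal.mem_bot).mp (h1 (Ideal.mem_map_of_mem _ hp)))).comp
    (MvPowerSeries.truncTotalAlgHom (Fin 2) R n).toRingHom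

lemma evalNil_coe {R : Type u} [CommRing R] {T : Type u} [CommRing T] [Algebra R T]
    (e : Fin 2 → T) (n : ℕ) (he : Ideal.span (Set.range e) ^ n = ⊥) (p : MvPolynomial (Fin 2) R) :
    evalNil e n he (p : MvPowerSeries (Fin 2) R) = MvPolynomial.aeval e p := by
  have h1 : (MvPowerSeries.truncTotalAlgHom (Fin 2) R n) (p : MvPowerSeries (Fin 2) R) =
      Ideal.Quotient.mk _ p :=
    (MvPowerSeries.truncTotalAlgHom (Fin 2) R n).commutes p
  simp only [evalNil, RingHom.comp_apply, AlgHom.toRingHom_eq_coe, RingHom.coe_coe, h1,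
    Ideal.Quotient.lift_mk]

lemma evalNil_X {R : Type u} [CommRing R] {T : Type u} [CommRing T] [Algebra R T]
    (e : Fin 2 → T) (n : ℕ) (he : Ideal.span (Set.range e) ^ n = ⊥) (i : Fin 2) :
    evalNil (R := R) e n he (MvPowerSeries.X i) = e i := by
  rw [show (MvPowerSeries.X i : MvPowerSeries (Fin 2) R) = ((MvPolynomial.X i : MvPolynomial (Fin 2) R) : MvPowerSeries (Fin 2) R) from (MvPolynomial.coe_X i).symm,
    evalNil_coe, MvPolynomial.aeval_X]

lemma evalNil_algebraMap {R : Type u} [CommRing R] {T : Type u} [CommRing T] [Algebra R T]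
    (e : Fin 2 → T) (n : ℕ) (he : Ideal.span (Set.range e) ^ n = ⊥) (r : R) :
    evalNil (R := R) e n he (algebraMap R (MvPowerSeries (Fin 2) R) r) = algebraMap R T r := by
  rw [show algebraMap R (MvPowerSeries (Fin 2) R) r = MvPowerSeries.C r from rfl,
    ← MvPolynomial.coe_C, evalNil_coe, MvPolynomial.aeval_C]

lemma kills {R : Type u} [CommRing R] (ϖ a₁ a₆ : R) (n : ℕ)
    {T : Type u} [CommRing T] [Algebra R T] (ex ey : T)
    (he : Ideal.span {ex, ey} ^ n = ⊥)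
    (hf : ey ^ 2 + algebraMap R T a₁ * (ex * ey) - ex ^ 3 - algebraMap R T a₆ = 0)
    (hg : 2 * ey + algebraMap R T a₁ * ex = 0) (hh : 3 * ex ^ 2 - algebraMap R T a₁ * ey = 0)
    (hπ : algebraMap R T ϖ ∈ Ideal.span {ex, ey})
    (x y : MvPowerSeries (Fin 2) R) (hx : x = MvPowerSeries.X 0) (hy : y = MvPowerSeries.X 1)
    (I M : Ideal (MvPowerSeries (Fin 2) R))
    (hI : I = Ideal.span {y ^ 2 + a₁ • (x * y) - x ^ 3 - algebraMap R (MvPowerSeries (Fin 2) R) a₆,
      2 * y + a₁ • x, 3 * x ^ 2 - a₁ • y})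
    (hM : M = Ideal.span {algebraMap R (MvPowerSeries (Fin 2) R) ϖ, x, y})
    (a b : R) (i j : ℕ) (hz : a • y ^ i + b • (x * y ^ j) ∈ M ^ n ⊔ I) :
    algebraMap R T a * ey ^ i + algebraMap R T b * (ex * ey ^ j) = 0 := by
  have hr : Set.range ![ex, ey] = {ex, ey} := by
    rw [Matrix.range_cons, Matrix.range_cons, Matrix.range_empty, Set.union_empty]; rfl
  have he' : Ideal.span (Set.range ![ex, ey]) ^ n = ⊥ := by rw [hr]; exact he
  let φ := evalNil (R := R) ![ex, ey] n he'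
  have hφx : φ x = ex := by rw [hx]; exact evalNil_X _ _ _ 0
  have hφy : φ y = ey := by rw [hy]; exact evalNil_X _ _ _ 1
  have hφr : ∀ r, φ (algebraMap R _ r) = algebraMap R T r := evalNil_algebraMap _ _ _
  have hI0 : I.map φ ≤ ⊥ := by
    rw [hI, Ideal.map_span, Ideal.span_le]
    rintro _ ⟨w, hw, rfl⟩
    simp only [Set.mem_insert_iff, Set.mem_singleton_iff] at hw
    rw [SetLike.mem_coe, Ideal.mem_bot]
    rcases hw with rfl | rfl | rfl
    · simp only [Algebra.smul_def, map_sub, map_add, map_pow, map_mul, hφx, hφy, hφr, hf]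
    · simp only [Algebra.smul_def, map_add, map_mul, map_ofNat, hφx, hφy, hφr, hg]
    · simp only [Algebra.smul_def, map_sub, map_pow, map_mul, map_ofNat, hφx, hφy, hφr, hh]
  have hM0 : (M ^ n).map φ ≤ ⊥ := by
    rw [Ideal.map_pow, ← he]
    refine Ideal.pow_right_mono ?_ n
    rw [hM, Ideal.map_span, Ideal.span_le]
    rintro _ ⟨w, hw, rfl⟩
    simp only [Set.mem_insert_iff, Set.mem_singleton_iff] at hw
    rcases hw with rfl | rfl | rfl
    · rw [hφr]; exact hπ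
    · rw [hφx]; exact Ideal.subset_span (by simp)
    · rw [hφy]; exact Ideal.subset_span (by simp)
  have h := Ideal.mem_map_of_mem φ hz
  rw [Ideal.map_sup] at h
  have h' := (sup_le hM0 hI0) h
  rw [Ideal.mem_bot] at h'
  simpa only [Algebra.smul_def, map_add, map_pow, map_mul, hφx, hφy, hφr] using h'

lemma gen (R : Type u) [CommRing R] [IsDomain R] [IsDiscreteValuationRing R]
    (ϖ a₁ a₆ : R) (hϖ : Irreducible ϖ) (v' : ℕ) (u₁ u₆ : Rˣ) (ha₁ : a₁ = u₁ * ϖ ^ (v' + 1))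
    (ha₆ : a₆ = u₆ * ϖ) (t2 : R) (ht2 : 2 = ϖ ^ (v' + 1) * t2)
    (hmax : ∀ r : R, ϖ ∣ r → r ∈ IsLocalRing.maximalIdeal R)
    (x y : MvPowerSeries (Fin 2) R) (hx : x = MvPowerSeries.X 0) (hy : y = MvPowerSeries.X 1)
    (I M : Ideal (MvPowerSeries (Fin 2) R))
    (hI : I = Ideal.span {y ^ 2 + a₁ • (x * y) - x ^ 3 - algebraMap R (MvPowerSeries (Fin 2) R) a₆,
      2 * y + a₁ • x, 3 * x ^ 2 - a₁ • y})
    (hM : M = Ideal.span {algebraMap R (MvPowerSeries (Fin 2) R) ϖ, x, y}) :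
    M ^ (2 * (v' + 1)) ⊔ I = Ideal.span {y ^ (2 * (v' + 1)), x * y ^ (2 * (v' + 1) - 1)} ⊔ I := by
  set J : Ideal (MvPowerSeries (Fin 2) R) := Ideal.span {x, y} with hJ
  set N : Ideal (MvPowerSeries (Fin 2) R) :=
    Ideal.span {y ^ (2 * (v' + 1)), x * y ^ (2 * (v' + 1) - 1)} with hN
  have hxJ : x ∈ J := Ideal.subset_span (by simp)
  have hyJ : y ∈ J := Ideal.subset_span (by simp)
  have hf : y ^ 2 + a₁ • (x * y) - x ^ 3 - algebraMap R (MvPowerSeries (Fin 2) R) a₆ ∈ I :=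
    hI ▸ Ideal.subset_span (by simp)
  have hh : 3 * x ^ 2 - a₁ • y ∈ I := hI ▸ Ideal.subset_span (by simp)
  have hu6 : (↑u₆⁻¹ : R) * a₆ = ϖ := by rw [ha₆, Units.inv_mul_cancel_left]
  have hπ : algebraMap R (MvPowerSeries (Fin 2) R) ϖ ∈ J ^ 2 ⊔ I := by
    rw [← hu6, map_mul]
    refine Ideal.mul_mem_left _ _ ?_
    have hA : algebraMap R (MvPowerSeries (Fin 2) R) a₆ = (y ^ 2 + a₁ • (x * y) - x ^ 3) -
      (y ^ 2 + a₁ • (x * y) - x ^ 3 - algebraMap R (MvPowerSeries (Fin 2) R) a₆) := by ring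
    rw [hA]
    refine sub_mem (Ideal.mem_sup_left (sub_mem (add_mem (Ideal.pow_mem_pow hyJ 2) ?_) ?_))
      (Ideal.mem_sup_right hf)
    · rw [Algebra.smul_def, pow_two]
      exact Ideal.mul_mem_left _ _ (Ideal.mul_mem_mul hxJ hyJ)
    · exact Ideal.pow_le_pow_right (by norm_num) (Ideal.pow_mem_pow hxJ 3)
  have hMJ : M ≤ J ⊔ I := by
    rw [hM, Ideal.span_le]
    intro w hw
    simp only [Set.mem_insert_iff, Set.mem_singleton_iff] at hw
    rcases hw with rfl | rfl | rfl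
    · exact sup_le_sup_right (Ideal.pow_le_self (by norm_num)) I hπ
    · exact Ideal.mem_sup_left hxJ
    · exact Ideal.mem_sup_left hyJ
  have hx2 : x ^ 2 ∈ J ^ 3 ⊔ I := by
    have h3 : IsUnit (algebraMap R (MvPowerSeries (Fin 2) R) 3) := by
      refine IsUnit.map _ ?_
      by_contra h
      have h3m : (3 : R) ∈ IsLocalRing.maximalIdeal R := h
      have h2m : (2 : R) ∈ IsLocalRing.maximalIdeal R :=
        hmax _ (ht2 ▸ dvd_mul_of_dvd_left (dvd_pow_self _ (by omega)) _)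
      have := sub_mem h3m h2m
      norm_num at this
    rw [← Ideal.unit_mul_mem_iff_mem _ h3, map_ofNat,
      show 3 * x ^ 2 = a₁ • y + (3 * x ^ 2 - a₁ • y) by ring]
    refine add_mem ?_ (Ideal.mem_sup_right hh)
    have e : a₁ • y = (algebraMap R (MvPowerSeries (Fin 2) R) ↑u₁ *
        algebraMap R (MvPowerSeries (Fin 2) R) ϖ ^ v') *
        (algebraMap R (MvPowerSeries (Fin 2) R) ϖ * y) := by
      rw [Algebra.smul_def, ha₁, map_mul, map_pow]; ring
    rw [e]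
    refine Ideal.mul_mem_left _ _ ?_
    have := Ideal.mul_mem_mul hπ hyJ
    rw [Ideal.sup_mul] at this
    have hIJ : I * J ≤ I := Ideal.mul_le_left
    have hle : J ^ 2 * J ⊔ I * J ≤ J ^ 3 ⊔ I := sup_le_sup (le_of_eq (pow_succ J 2).symm) hIJ
    exact hle this
  have hjac : J ≤ Ideal.jacobson ⊥ := by
    rw [hJ, Ideal.span_le]
    intro w hw
    simp only [Set.mem_insert_iff, Set.mem_singleton_iff] at hw
    rw [SetLike.mem_coe, Ideal.mem_jacobson_bot]
    intro z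
    rw [MvPowerSeries.isUnit_iff_constantCoeff]
    rcases hw with rfl | rfl <;> simp [hx, hy]
  have key : J ^ (2 * (v' + 1)) ≤ N ⊔ I := by
    have := gen_core x y I (2 * v') hjac hx2
    rw [hN, show 2 * (v' + 1) - 1 = 2 * v' + 1 by omega, show 2 * (v' + 1) = 2 * v' + 2 by omega]
    exact this
  refine le_antisymm (sup_le ?_ le_sup_right) (sup_le ?_ le_sup_right)
  · exact (sup_pow_sup hMJ _).trans (sup_le key le_sup_right)
  · rw [Ideal.span_le]
    have hxM : x ∈ M := hM ▸ Ideal.subset_span (by simp)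
    have hyM : y ∈ M := hM ▸ Ideal.subset_span (by simp)
    intro w hw
    simp only [Set.mem_insert_iff, Set.mem_singleton_iff] at hw
    rcases hw with rfl | rfl
    · exact Ideal.mem_sup_left (Ideal.pow_mem_pow hyM _)
    · refine Ideal.mem_sup_left ?_
      have := Ideal.mul_mem_mul hxM (Ideal.pow_mem_pow hyM (2 * (v' + 1) - 1))
      rw [← pow_succ', show 2 * (v' + 1) - 1 + 1 = 2 * (v' + 1) by omega] at this
      exact this

lemma indA (R : Type u) [CommRing R] [IsDomain R] [IsDiscreteValuationRing R]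
    (ϖ a₁ a₆ : R) (hϖ : Irreducible ϖ) (v' : ℕ) (u₁ u₆ : Rˣ) (ha₁ : a₁ = u₁ * ϖ ^ (v' + 1))
    (ha₆ : a₆ = u₆ * ϖ) (t2 : R) (ht2 : 2 = ϖ ^ (v' + 1) * t2)
    (hmax : ∀ r : R, ϖ ∣ r → r ∈ IsLocalRing.maximalIdeal R)
    (x y : MvPowerSeries (Fin 2) R) (hx : x = MvPowerSeries.X 0) (hy : y = MvPowerSeries.X 1)
    (I M : Ideal (MvPowerSeries (Fin 2) R))
    (hI : I = Ideal.span {y ^ 2 + a₁ • (x * y) - x ^ 3 - algebraMap R (MvPowerSeries (Fin 2) R) a₆,
      2 * y + a₁ • x, 3 * x ^ 2 - a₁ • y})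
    (hM : M = Ideal.span {algebraMap R (MvPowerSeries (Fin 2) R) ϖ, x, y})
    (a b : R) (hab : a • y ^ (2 * (v' + 1)) + b • (x * y ^ (2 * (v' + 1) - 1)) ∈
      M ^ (2 * (v' + 1) + 1) ⊔ I) : a ∈ IsLocalRing.maximalIdeal R := by
  let η : (QuadraticAlgebra R a₆ 0) := ⟨0, 1⟩
  have hη : η ^ 2 = algebraMap R (QuadraticAlgebra R a₆ 0) a₆ := by
    rw [pow_two, QuadraticAlgebra.algebraMap_eq]
    ext <;> simp [η]
  have hπQ : algebraMap R (QuadraticAlgebra R a₆ 0) ϖ = algebraMap R (QuadraticAlgebra R a₆ 0) ↑u₆⁻¹ * η ^ 2 := by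
    have hu6 : (↑u₆⁻¹ : R) * a₆ = ϖ := by simp [ha₆]
    rw [hη, ← map_mul, hu6]
  have hϖv : ∀ k : ℕ, η ^ (2 * k) ∣ algebraMap R (QuadraticAlgebra R a₆ 0) (ϖ ^ k) := fun k => by
    rw [map_pow, hπQ, mul_pow, ← pow_mul]; exact dvd_mul_left _ _
  have h2Q : η ^ (2 * (v' + 1)) ∣ (2 : (QuadraticAlgebra R a₆ 0)) := by
    rw [← map_ofNat (algebraMap R (QuadraticAlgebra R a₆ 0)) 2, ht2, map_mul]
    exact dvd_mul_of_dvd_left (hϖv _) _
  have ha1Q : η ^ (2 * (v' + 1)) ∣ algebraMap R (QuadraticAlgebra R a₆ 0) a₁ := by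
    rw [ha₁, map_mul]; exact dvd_mul_of_dvd_right (hϖv _) _
  have hreg : ∀ z : (QuadraticAlgebra R a₆ 0), η * z = 0 → z = 0 := by
    intro z hz
    have h6 : a₆ ≠ 0 := by rw [ha₆]; exact mul_ne_zero u₆.ne_zero hϖ.ne_zero
    have h1 := congrArg QuadraticAlgebra.re hz
    have h2 := congrArg QuadraticAlgebra.im hz
    simp [η] at h1 h2
    ext
    · simpa using h2
    · exact h1.resolve_left h6
  have hregn : ∀ (k : ℕ) (z w : (QuadraticAlgebra R a₆ 0)), η ^ k * z = η ^ k * w → z = w := by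
    intro k
    induction k with
    | zero => intro z w h; simpa using h
    | succ k ih =>
      intro z w h
      apply ih
      apply sub_eq_zero.mp
      apply hreg
      linear_combination h
  have hmemQ : ∀ r : R, η ∣ algebraMap R (QuadraticAlgebra R a₆ 0) r → r ∈ IsLocalRing.maximalIdeal R := by
    rintro r ⟨q, hq⟩
    apply hmax
    have h1 := congrArg QuadraticAlgebra.re hq
    rw [QuadraticAlgebra.algebraMap_eq] at h1
    simp [η] at h1
    rw [h1]
    exact dvd_mul_of_dvd_left (Dvd.intro_left _ ha₆.symm) _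
  let K : Ideal (QuadraticAlgebra R a₆ 0) := Ideal.span {η ^ (2 * (v' + 1) + 1)}
  let ρ : (QuadraticAlgebra R a₆ 0) →+* (QuadraticAlgebra R a₆ 0) ⧸ K := Ideal.Quotient.mk K
  have halg : ∀ r, algebraMap R ((QuadraticAlgebra R a₆ 0) ⧸ K) r = ρ (algebraMap R (QuadraticAlgebra R a₆ 0) r) := fun r => rfl
  have hK : ∀ z, η ^ (2 * (v' + 1) + 1) ∣ z → ρ z = 0 := fun z hz =>
    Ideal.Quotient.eq_zero_iff_mem.mpr (Ideal.mem_span_singleton.mpr hz)
  have h := kills ϖ a₁ a₆ (2 * (v' + 1) + 1) (T := (QuadraticAlgebra R a₆ 0) ⧸ K) 0 (ρ η) ?_ ?_ ?_ ?_ ?_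
    x y hx hy I M hI hM a b _ _ hab
  · rw [zero_mul, mul_zero, add_zero, halg, ← map_pow, ← map_mul] at h
    obtain ⟨q, hq⟩ := Ideal.mem_span_singleton.mp (Ideal.Quotient.eq_zero_iff_mem.mp h)
    exact hmemQ a ⟨q, hregn (2 * (v' + 1)) _ _ (by linear_combination hq)⟩
  · rw [Ideal.span_insert_zero, Ideal.span_singleton_pow, ← map_pow, hK _ dvd_rfl,
      Ideal.span_singleton_eq_bot]
  · rw [halg, halg]
    simp only [zero_mul, mul_zero, add_zero, zero_pow (by norm_num : 3 ≠ 0), sub_zero]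
    rw [← map_pow, hη, sub_self]
  · rw [mul_zero, add_zero, ← map_ofNat ρ 2, ← map_mul]
    exact hK _ (pow_succ η _ ▸ mul_dvd_mul_right h2Q η)
  · rw [halg, zero_pow (by norm_num), mul_zero, zero_sub, ← map_mul, ← map_neg]
    exact hK _ (dvd_neg.mpr (pow_succ η _ ▸ mul_dvd_mul_right ha1Q η))
  · rw [halg, hπQ, pow_two, ← mul_assoc, map_mul]
    exact Ideal.mul_mem_left _ _ (Ideal.subset_span (by simp))

lemma indB (R : Type u) [CommRing R] [IsDomain R] [IsDiscreteValuationRing R]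
    (ϖ a₁ a₆ : R) (hϖ : Irreducible ϖ) (v' : ℕ) (u₁ u₆ : Rˣ) (ha₁ : a₁ = u₁ * ϖ ^ (v' + 1))
    (ha₆ : a₆ = u₆ * ϖ) (t2 : R) (ht2 : 2 = ϖ ^ (v' + 1) * t2)
    (hmax : ∀ r : R, ϖ ∣ r → r ∈ IsLocalRing.maximalIdeal R)
    (x y : MvPowerSeries (Fin 2) R) (hx : x = MvPowerSeries.X 0) (hy : y = MvPowerSeries.X 1)
    (I M : Ideal (MvPowerSeries (Fin 2) R))
    (hI : I = Ideal.span {y ^ 2 + a₁ • (x * y) - x ^ 3 - algebraMap R (MvPowerSeries (Fin 2) R) a₆,
      2 * y + a₁ • x, 3 * x ^ 2 - a₁ • y})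
    (hM : M = Ideal.span {algebraMap R (MvPowerSeries (Fin 2) R) ϖ, x, y})
    (a b : R) (hab : a • y ^ (2 * (v' + 1)) + b • (x * y ^ (2 * (v' + 1) - 1)) ∈
      M ^ (2 * (v' + 1) + 1) ⊔ I) : b ∈ IsLocalRing.maximalIdeal R := by
  let η : (QuadraticAlgebra R a₆ 0) := ⟨0, 1⟩
  have hη : η ^ 2 = algebraMap R (QuadraticAlgebra R a₆ 0) a₆ := by
    rw [pow_two, QuadraticAlgebra.algebraMap_eq]
    ext <;> simp [η]
  have hπQ : algebraMap R (QuadraticAlgebra R a₆ 0) ϖ = algebraMap R (QuadraticAlgebra R a₆ 0) ↑u₆⁻¹ * η ^ 2 := by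
    have hu6 : (↑u₆⁻¹ : R) * a₆ = ϖ := by simp [ha₆]
    rw [hη, ← map_mul, hu6]
  have hϖv : ∀ k : ℕ, η ^ (2 * k) ∣ algebraMap R (QuadraticAlgebra R a₆ 0) (ϖ ^ k) := fun k => by
    rw [map_pow, hπQ, mul_pow, ← pow_mul]; exact dvd_mul_left _ _
  have h2Q : η ^ (2 * (v' + 1)) ∣ (2 : (QuadraticAlgebra R a₆ 0)) := by
    rw [← map_ofNat (algebraMap R (QuadraticAlgebra R a₆ 0)) 2, ht2, map_mul]
    exact dvd_mul_of_dvd_left (hϖv _) _
  have ha1Q : η ^ (2 * (v' + 1)) ∣ algebraMap R (QuadraticAlgebra R a₆ 0) a₁ := by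
    rw [ha₁, map_mul]; exact dvd_mul_of_dvd_right (hϖv _) _
  have hreg : ∀ z : (QuadraticAlgebra R a₆ 0), η * z = 0 → z = 0 := by
    intro z hz
    have h6 : a₆ ≠ 0 := by rw [ha₆]; exact mul_ne_zero u₆.ne_zero hϖ.ne_zero
    have h1 := congrArg QuadraticAlgebra.re hz
    have h2 := congrArg QuadraticAlgebra.im hz
    simp [η] at h1 h2
    ext
    · simpa using h2
    · exact h1.resolve_left h6
  have hregn : ∀ (k : ℕ) (z w : (QuadraticAlgebra R a₆ 0)), η ^ k * z = η ^ k * w → z = w := by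
    intro k
    induction k with
    | zero => intro z w h; simpa using h
    | succ k ih =>
      intro z w h
      apply ih
      apply sub_eq_zero.mp
      apply hreg
      linear_combination h
  have hmemQ : ∀ r : R, η ∣ algebraMap R (QuadraticAlgebra R a₆ 0) r → r ∈ IsLocalRing.maximalIdeal R := by
    rintro r ⟨q, hq⟩
    apply hmax
    have h1 := congrArg QuadraticAlgebra.re hq
    rw [QuadraticAlgebra.algebraMap_eq] at h1
    simp [η] at h1
    rw [h1]
    exact dvd_mul_of_dvd_left (Dvd.intro_left _ ha₆.symm) _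
  let K : Ideal (QuadraticAlgebra R a₆ 0) := Ideal.span {η ^ (2 * (v' + 1))}
  let ρ : (QuadraticAlgebra R a₆ 0) →+* (QuadraticAlgebra R a₆ 0) ⧸ K := Ideal.Quotient.mk K
  let T := TrivSqZeroExt ((QuadraticAlgebra R a₆ 0) ⧸ K) ((QuadraticAlgebra R a₆ 0) ⧸ K)
  let ι : (QuadraticAlgebra R a₆ 0) →+* T := (TrivSqZeroExt.inlHom ((QuadraticAlgebra R a₆ 0) ⧸ K) ((QuadraticAlgebra R a₆ 0) ⧸ K)).comp ρ
  have hK : ∀ z, η ^ (2 * (v' + 1)) ∣ z → ρ z = 0 := fun z hz =>
    Ideal.Quotient.eq_zero_iff_mem.mpr (Ideal.mem_span_singleton.mpr hz)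
  have hι : ∀ z, η ^ (2 * (v' + 1)) ∣ z → ι z = 0 := fun z hz => by
    show TrivSqZeroExt.inl (ρ z) = 0
    rw [hK z hz]; exact TrivSqZeroExt.inl_zero _
  have halg : ∀ r, algebraMap R T r = ι (algebraMap R (QuadraticAlgebra R a₆ 0) r) := fun r => rfl
  let ε : T := TrivSqZeroExt.inr 1
  have hεε : ε * ε = 0 := TrivSqZeroExt.inr_mul_inr _ _ _
  have hε2 : ε ^ 2 = 0 := by rw [pow_two, hεε]
  have hey : ι η ^ (2 * (v' + 1)) = 0 := by rw [← map_pow]; exact hι _ dvd_rfl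
  have h2 : (2 : T) = 0 := by rw [← map_ofNat ι 2]; exact hι _ h2Q
  have ha1 : algebraMap R T a₁ = 0 := by rw [halg]; exact hι _ ha1Q
  have h := kills ϖ a₁ a₆ (2 * (v' + 1) + 1) (T := T) ε (ι η) ?_ ?_ ?_ ?_ ?_
    x y hx hy I M hI hM a b _ _ hab
  · rw [hey, mul_zero, zero_add, halg] at h
    have h' := congrArg TrivSqZeroExt.snd h
    rw [← map_pow, TrivSqZeroExt.snd_zero] at h'
    have h'' : ρ (algebraMap R (QuadraticAlgebra R a₆ 0) b * η ^ (2 * (v' + 1) - 1)) = 0 := by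
      rw [map_mul, ← h']
      simp only [ι, ε, RingHom.comp_apply, TrivSqZeroExt.inlHom_apply]
      exact (snd_aux _ _).symm
    obtain ⟨q, hq⟩ := Ideal.mem_span_singleton.mp (Ideal.Quotient.eq_zero_iff_mem.mp h'')
    refine hmemQ b ⟨q, hregn (2 * (v' + 1) - 1) _ _ ?_⟩
    rw [← mul_assoc, ← pow_succ, show 2 * (v' + 1) - 1 + 1 = 2 * (v' + 1) by omega, ← hq,
      mul_comm]
  · rw [eq_bot_iff, show 2 * (v' + 1) + 1 = (2 * v' + 1) + 2 by omega]
    refine (span_pair_pow_le ε (ι η) _).trans (sup_le ?_ ?_)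
    · rw [Ideal.span_le]
      intro w hw
      simp only [Set.mem_insert_iff, Set.mem_singleton_iff] at hw
      rw [SetLike.mem_coe, Ideal.mem_bot]
      rcases hw with rfl | rfl
      · rw [show 2 * v' + 1 + 2 = 2 * (v' + 1) + 1 by omega, pow_succ, hey, zero_mul]
      · rw [show 2 * v' + 1 + 1 = 2 * (v' + 1) by omega, hey, mul_zero]
    · rw [hε2, Ideal.span_singleton_zero, Ideal.bot_mul]
  · rw [ha1, zero_mul, add_zero, pow_succ ε 2, hε2, zero_mul, sub_zero, halg, ← map_pow, hη,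
      sub_self]
  · rw [ha1, h2, zero_mul, zero_mul, add_zero]
  · rw [ha1, hε2, mul_zero, zero_mul, sub_zero]
  · rw [halg, hπQ, pow_two, ← mul_assoc, map_mul]
    exact Ideal.mul_mem_left _ _ (Ideal.subset_span (by simp))

/-- Let R be a discrete valuation ring with uniformizer ϖ, let a₁, a₆ ∈ R with a₁ of valuation v ≥ 1, a₆
of valuation 1, and 2 of valuation at least v (so the residue characteristic is 2; 2 = 0 is
allowed). In the power series ring S = R[[x, y]] let M = (ϖ, x, y) be the maximal ideal and I the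
ideal generated by y² + a₁xy − x³ − a₆, 2y + a₁x and 3x² − a₁y, so that S/I is a local ring with
maximal ideal m = M/I. Then the classes of y^(2v) and x·y^(2v−1) form a basis of the vector space
m^(2v)/m^(2v+1) over the residue field: M^(2v) + I = (y^(2v), x·y^(2v−1)) + I, and whenever a·y^(2v)
+ b·x·y^(2v−1) ∈ M^(2v+1) + I with a, b ∈ R, both a and b lie in the maximal ideal of R. (Generation
holds with any exponent i ≥ 1 in place of 2v: M^i + I = (y^i, x·y^(i−1)) + I.) -/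
theorem result (R : Type u) [CommRing R] [IsDomain R] [IsDiscreteValuationRing R]
    (ϖ a₁ a₆ : R) (hϖ : Irreducible ϖ) (v : ℕ) (hv : 1 ≤ v) (u₁ u₆ : Rˣ) (ha₁ : a₁ = u₁ * ϖ ^ v) (ha₆ : a₆ = u₆ * ϖ)
    (h2 : (2 : R) ∈ IsLocalRing.maximalIdeal R ^ v)
    (x y : MvPowerSeries (Fin 2) R) (hx : x = MvPowerSeries.X 0) (hy : y = MvPowerSeries.X 1)
    (I M : Ideal (MvPowerSeries (Fin 2) R))
    (hI : I = Ideal.span {y ^ 2 + a₁ • (x * y) - x ^ 3 - algebraMap R (MvPowerSeries (Fin 2) R) a₆,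
      2 * y + a₁ • x, 3 * x ^ 2 - a₁ • y})
    (hM : M = Ideal.span {algebraMap R (MvPowerSeries (Fin 2) R) ϖ, x, y}) :
    M ^ (2 * v) ⊔ I = Ideal.span {y ^ (2 * v), x * y ^ (2 * v - 1)} ⊔ I ∧
      ∀ a b : R, a • y ^ (2 * v) + b • (x * y ^ (2 * v - 1)) ∈ M ^ (2 * v + 1) ⊔ I →
        a ∈ IsLocalRing.maximalIdeal R ∧ b ∈ IsLocalRing.maximalIdeal R := by
  classical
  obtain ⟨t2, ht2⟩ : ∃ t : R, 2 = ϖ ^ v * t := by
    rw [hϖ.maximalIdeal_eq, Ideal.span_singleton_pow, Ideal.mem_span_singleton] at h2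
    exact h2
  have hmax : ∀ r : R, ϖ ∣ r → r ∈ IsLocalRing.maximalIdeal R := fun r hr => by
    rwa [hϖ.maximalIdeal_eq, Ideal.mem_span_singleton]
  obtain ⟨v', rfl⟩ : ∃ v', v = v' + 1 := ⟨v - 1, by omega⟩
  exact ⟨gen R ϖ a₁ a₆ hϖ v' u₁ u₆ ha₁ ha₆ t2 ht2 hmax x y hx hy I M hI hM, fun a b hab =>
    ⟨indA R ϖ a₁ a₆ hϖ v' u₁ u₆ ha₁ ha₆ t2 ht2 hmax x y hx hy I M hI hM a b hab,
    indB R ϖ a₁ a₆ hϖ v' u₁ u₆ ha₁ ha₆ t2 ht2 hmax x y hx hy I M hI hM a b hab⟩⟩

end Groth.Agent.S14909
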