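import Groth.Statements.S14910
import Groth.Agent.Lib.ModelTors19.Split
-- import your own Groth.Agent.* helpers here

set_option autoImplicit false
universe u
open CategoryTheory MonoidalCategory CartesianMonoidalCategory MonObj GrpObj AlgebraicGeometry
open Neron

namespace Groth.Agent.S14910

set_option linter.style.haveILetI false
set_option backward.isDefEq.respectTransparency.types false


/-- Let R be a complete discrete valuation ring with fraction field K and algebraically closed residue
field k, and N an R-group scheme which is a Néron model of its generic fibre N_K, an abelian variety
(proper and geometrically integral over K). Assume N_K has semi-abelian reduction: no geometric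
fibre of N contains a closed subgroup isomorphic to the additive group. Then N_K has split
reduction: the extension of the component group of the special fibre N_k by the identity component
splits, i.e. for every k-point x of N_k there is a k-point y of N_k lying in the connected component
of x such that, for every n, y^n = 1 if and only if x^n lies in the connected component of the
identity (y has the same order as the component of x). (The published statement covers semi-abelian
varieties with their Néron lft-models; this row is the case of an abelian variety, where the Néron
model is of finite type.) -/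
theorem result (R : Type u) [CommRing R] [IsDomain R]
    [IsDiscreteValuationRing R] [IsAdicComplete (IsLocalRing.maximalIdeal R) R] (K : Type u) [Field K] [Algebra R K]
    [IsFractionRing R K] [IsAlgClosed (IsLocalRing.ResidueField R)]
    (N : Over (Spec (CommRingCat.of R))) [GrpObj N] [IsCommMonObj N] (hN : SGA7.IsNeron R K N)
    [IsProper ((SGA7.genFib R K).obj N).hom] [GeometricallyIntegral ((SGA7.genFib R K).obj N).hom]
    (hss : SGA7.FibresUnipotentRankZero N)
    (x : 𝟙_ (Over (Spec (CommRingCat.of (IsLocalRing.ResidueField R)))) ⟶ Red.bc (Spec.map (CommRingCat.ofHom (IsLocalRing.residue R))) N) :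
    ∃ y : 𝟙_ (Over (Spec (CommRingCat.of (IsLocalRing.ResidueField R)))) ⟶ Red.bc (Spec.map (CommRingCat.ofHom (IsLocalRing.residue R))) N,
      y.left.base (IsLocalRing.closedPoint (IsLocalRing.ResidueField R)) ∈ connectedComponent (x.left.base (IsLocalRing.closedPoint (IsLocalRing.ResidueField R))) ∧
        ∀ n : ℕ, y ^ n = 1 ↔
          (x ^ n).left.base (IsLocalRing.closedPoint (IsLocalRing.ResidueField R)) ∈ connectedComponent ((η[Red.bc (Spec.map (CommRingCat.ofHom (IsLocalRing.residue R))) N]).left.base (IsLocalRing.closedPoint (IsLocalRing.ResidueField R))) := by
  obtain ⟨hsm, -, hqc, -⟩ := hN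
  let c := Spec.map (CommRingCat.ofHom (IsLocalRing.residue R))
  haveI : Smooth N.hom := hsm
  haveI : QuasiCompact N.hom := hqc
  haveI : Smooth (Red.bc c N).hom := inferInstanceAs (Smooth (Limits.pullback.snd N.hom c))
  haveI : QuasiCompact (Red.bc c N).hom := inferInstanceAs (QuasiCompact (Limits.pullback.snd N.hom c))
  simp only [MonObj.one_eq_one]
  refine ModelTors19.exists_split_of_noGa (fun j hj hjc => ?_) x
  haveI := hj
  haveI := hjc
  exact ModelTors19.noGa_special hss j

end Groth.Agent.S14910
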