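import Groth.Statements.S14911
import Groth.Agent.Lib.ModelTors19.Lift
-- import your own Groth.Agent.* helpers here

set_option autoImplicit false
universe u
open CategoryTheory MonoidalCategory CartesianMonoidalCategory MonObj GrpObj AlgebraicGeometry
open Neron

namespace Groth.Agent.S14911

set_option linter.style.haveILetI false
set_option backward.isDefEq.respectTransparency.types false


/-- Let R be a complete discrete valuation ring with fraction field K and algebraically closed residue
field k of characteristic p > 0, and N an R-group scheme which is a Néron model of its generic fibre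
N_K, an abelian variety (proper and geometrically integral over K). Then the p-primary part of
N_k(k) maps onto the p-primary part of the component group of the special fibre N_k: if x is a
k-point of N_k such that some x^(p^r) lies in the connected component of the identity, then the
connected component of x contains a k-point y with y^(p^s) = 1 for some s. (The published statement
covers semi-abelian varieties with their Néron lft-models; this row is the case of an abelian
variety, where the Néron model is of finite type.) -/
theorem result (R : Type u) [CommRing R] [IsDomain R]
    [IsDiscreteValuationRing R] [IsAdicComplete (IsLocalRing.maximalIdeal R) R] (K : Type u) [Field K] [Algebra R K]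
    [IsFractionRing R K] [IsAlgClosed (IsLocalRing.ResidueField R)] (p : ℕ) [Fact p.Prime] [CharP (IsLocalRing.ResidueField R) p]
    (N : Over (Spec (CommRingCat.of R))) [GrpObj N] [IsCommMonObj N] (hN : SGA7.IsNeron R K N)
    [IsProper ((SGA7.genFib R K).obj N).hom] [GeometricallyIntegral ((SGA7.genFib R K).obj N).hom]
    (x : 𝟙_ (Over (Spec (CommRingCat.of (IsLocalRing.ResidueField R)))) ⟶ Red.bc (Spec.map (CommRingCat.ofHom (IsLocalRing.residue R))) N)
    (r : ℕ) (hx : (x ^ (p ^ r)).left.base (IsLocalRing.closedPoint (IsLocalRing.ResidueField R)) ∈
      connectedComponent ((η[Red.bc (Spec.map (CommRingCat.ofHom (IsLocalRing.residue R))) N]).left.base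
        (IsLocalRing.closedPoint (IsLocalRing.ResidueField R)))) :
    ∃ y : 𝟙_ (Over (Spec (CommRingCat.of (IsLocalRing.ResidueField R)))) ⟶ Red.bc (Spec.map (CommRingCat.ofHom (IsLocalRing.residue R))) N,
      y.left.base (IsLocalRing.closedPoint (IsLocalRing.ResidueField R)) ∈
          connectedComponent (x.left.base (IsLocalRing.closedPoint (IsLocalRing.ResidueField R))) ∧
        ∃ s : ℕ, y ^ (p ^ s) = 1 := by
  obtain ⟨hsm, -, hqc, -⟩ := hN
  let c := Spec.map (CommRingCat.ofHom (IsLocalRing.residue R))
  haveI : Smooth N.hom := hsm
  haveI : QuasiCompact N.hom := hqc
  haveI : Smooth (Red.bc c N).hom := inferInstanceAs (Smooth (Limits.pullback.snd N.hom c))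
  haveI : QuasiCompact (Red.bc c N).hom := inferInstanceAs (QuasiCompact (Limits.pullback.snd N.hom c))
  rw [MonObj.one_eq_one] at hx
  exact ModelTors19.exists_primary_lift p r x hx

end Groth.Agent.S14911
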