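import Groth.Statements.S14926
import Groth.Agent.Lib.PerfEt29.Descend

set_option autoImplicit false
universe u
open CategoryTheory AlgebraicGeometry
open PerfSch

namespace Groth.Agent.S14926

/-- Let p be a prime and X a quasi-compact quasi-separated scheme of characteristic p. Let π : X' ⟶ X be
a perfection of X: X' is a perfect scheme of characteristic p (its absolute Frobenius is an
isomorphism) and every morphism from a perfect scheme of characteristic p to X factors uniquely
through π. For every invertible O_{X'}-module M there are n ≥ 0 and an invertible O_X-module L with
M^{⊗ p^n} isomorphic to π^*L. (The published statement is that pullback along π induces an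
isomorphism Pic(X)[1/p] ≅ Pic(X'); this row is the assertion that every class in Pic(X') has a
p^n-th multiple in the image of Pic(X).) -/
theorem result (p : ℕ) [Fact p.Prime] {X XP : Scheme.{u}} [FrobSch.IsCharP X p] [FrobSch.IsCharP XP p]
    [CompactSpace X] [QuasiSeparatedSpace X] (πX : XP ⟶ X) (hX : FrobSch.IsPerfection πX p)
    (M : XP.Modules) (hM : PicF.IsInvertible M) :
    ∃ (n : ℕ) (L : X.Modules), PicF.IsInvertible L ∧
      PicF.cl (CohB1.tensorPow M (p ^ n)) = PicF.pullCl πX (PicF.cl L) := by
  exact Groth.Agent.PerfEt29.exists_descend hX M hM

end Groth.Agent.S14926
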