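import Groth.Statements.S14932
import Groth.Agent.Lib.FrobDeg4.Field
import Groth.Agent.Lib.VarDim.Scheme
import Groth.Agent.Lib.WeilH13.Count
import Groth.Agent.Lib.RelFrobAlg28.Main
import Groth.Agent.Lib.FrobUH12.Basic
-- import your own Groth.Agent.* helpers here

set_option autoImplicit false
set_option maxHeartbeats 800000
set_option linter.style.haveILetI false
universe u
open CategoryTheory CategoryTheory.Limits AlgebraicGeometry
open Variety

namespace Groth.Agent.S14932
open TensorProduct

/-- Let k be a field of characteristic p > 0 and X a variety over k (an integral scheme, separated and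
of finite type over k) which is geometrically reduced over k, of dimension d. Then the Frobenius
twist X^(p) = X ×_{Spec k, F_k} Spec k, the base change of X along the absolute Frobenius of Spec k,
is an integral scheme, and the relative Frobenius F_{X/k} : X → X^(p) has degree p^d: the residue
field of the generic point of X is an extension of degree p^d of the residue field of its image in
X^(p). (The published item also says that X^(p) is separated and of finite type over k and that
F_{X/k} is finite and dominant; these hold for every base change of a separated morphism of finite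
type, respectively for the relative Frobenius of every scheme locally of finite type over a base of
characteristic p, and are not restated. It also states the equivalence of: X^(p) reduced, X
geometrically reduced, X has a nonempty open smooth over k; that equivalence is not part of this
row.) -/
theorem result (k : Type u) [Field k]
    (p : ℕ) [Fact p.Prime] [CharP k p] (X : Scheme.{u}) [X.Over (Spec (CommRingCat.of k))] [IsIntegral X]
    [IsSeparated (X ↘ (Spec (CommRingCat.of k)))] [LocallyOfFiniteType (X ↘ (Spec (CommRingCat.of k)))] [QuasiCompact (X ↘ (Spec (CommRingCat.of k)))]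
    [GeometricallyReduced (X ↘ (Spec (CommRingCat.of k)))] (d : ℕ) (hd : topologicalKrullDim X = d) :
    IsIntegral (FrobSch.frobTwist (X ↘ (Spec (CommRingCat.of k))) p) ∧
      (FrobSch.relFrob (X ↘ (Spec (CommRingCat.of k))) p).residueDegree (genericPoint X) = p ^ d := by
  let f := X ↘ Spec (CommRingCat.of k)
  haveI : FrobSch.IsCharP X p := FrobSch.IsCharP.of_hom f p
  let T := FrobSch.frobTwist f p
  let r := FrobSch.relFrob f p
  haveI hred : IsReduced T :=
    GeometricallyReduced.geometrically_isReduced (f := f) (FrobSch.frob (Spec (CommRingCat.of k)) p) _ _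
      (IsPullback.of_hasPullback _ _)
  haveI : IrreducibleSpace T := by
    obtain ⟨-, -, h⟩ := (Groth.Agent.S0415.result r).1 (Groth.Agent.FrobUH12.isUnivHomeo_relFrob p f)
    exact Function.Surjective.irreducibleSpace r.continuous h.surj
  refine ⟨isIntegral_of_irreducibleSpace_of_isReduced T, ?_⟩
  let ξ := genericPoint X
  let K := X.residueField ξ
  letI := VarDim.resAlg f ξ
  haveI : CharP K p := charP_of_injective_algebraMap (algebraMap k K).injective p
  haveI : ExpChar K p := ExpChar.prime Fact.out
  obtain ⟨U, hU, hξ, -⟩ := exists_isAffineOpen_mem_and_subset (U := (⊤ : X.Opens)) (x := ξ) trivial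
  haveI : Nonempty U := ⟨⟨ξ, hξ⟩⟩
  letI : Algebra k Γ(X, U) := (VarDim.baseToSections f U).toAlgebra
  haveI : Algebra.FiniteType k Γ(X, U) := VarDim.finiteType_baseToSections f hU
  let ev : Γ(X, U) →ₐ[k] K :=
    { (X.evaluation U ξ hξ).hom with
      commutes' := fun c => RingHom.congr_fun (VarDim.evaluation_comp_baseToSections f ξ hξ) c }
  have hevinj : Function.Injective ev := by
    show Function.Injective (X.evaluation U ξ hξ).hom
    rw [RingHom.injective_iff_ker_eq_bot, VarDim.ker_evaluation hU ξ hξ, hU.primeIdealOf_genericPoint,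
      genericPoint_eq_bot_of_affine]
    rfl
  letI : Algebra Γ(X, U) K := ev.toRingHom.toAlgebra
  haveI : IsScalarTower k Γ(X, U) K := IsScalarTower.of_algHom ev
  haveI : FaithfulSMul Γ(X, U) K := (faithfulSMul_iff_algebraMap_injective _ _).mpr hevinj
  haveI : IsFractionRing Γ(X, U) K := IsFractionRing.of_field _ _ fun z => by
    obtain ⟨a, c, h⟩ := VarDim.exists_evaluation_eq_div hU ξ hξ z
    exact ⟨a, c, h⟩
  haveI : Algebra.EssFiniteType k K := by
    haveI : Algebra.EssFiniteType Γ(X, U) K := Algebra.EssFiniteType.of_isLocalization _ (nonZeroDivisors Γ(X, U))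
    exact Algebra.EssFiniteType.comp k Γ(X, U) K
  -- reducedness of `Γ(X, U) ⊗ k̄`
  let kb := AlgebraicClosure k
  haveI : CharP kb p := charP_of_injective_algebraMap (algebraMap k kb).injective p
  haveI : ExpChar kb p := ExpChar.prime Fact.out
  haveI hBred : _root_.IsReduced (Γ(X, U) ⊗[k] kb) := by
    let y : Spec (CommRingCat.of kb) ⟶ Spec (CommRingCat.of k) := Spec.map (CommRingCat.ofHom (algebraMap k kb))
    haveI : IsReduced (pullback f y) :=
      GeometricallyReduced.geometrically_isReduced (f := f) y _ _ (IsPullback.of_hasPullback _ _)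
    have hcomp : hU.fromSpec ≫ f = Spec.map (CommRingCat.ofHom (algebraMap k Γ(X, U))) := by
      have h0 := (isAffineOpen_top (Spec (CommRingCat.of k))).SpecMap_appLE_fromSpec f hU (by simp)
      rw [← h0, IsAffineOpen.fromSpec_top, Scheme.isoSpec_Spec_inv, ← Spec.map_comp]
      rfl
    haveI : IsReduced (pullback (hU.fromSpec ≫ f) y) :=
      isReduced_of_isOpenImmersion (pullback.map (hU.fromSpec ≫ f) y f y hU.fromSpec (𝟙 _) (𝟙 _) (by simp) (by simp))
    haveI : IsReduced (pullback (Spec.map (CommRingCat.ofHom (algebraMap k Γ(X, U)))) y) := hcomp ▸ this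
    haveI : IsReduced (Spec (CommRingCat.of (Γ(X, U) ⊗[k] kb))) :=
      isReduced_of_isOpenImmersion (pullbackSpecIso k Γ(X, U) kb).inv
    exact (affine_isReduced_iff (CommRingCat.of (Γ(X, U) ⊗[k] kb))).mp this
  have hindB : ∀ (ι : Type u) (y : ι → Γ(X, U)), LinearIndependent k y →
      LinearIndependent k fun i => y i ^ p := by
    intro ι y hy
    rw [linearIndependent_iff']
    intro S a ha i hi
    choose c hc using fun j => IsAlgClosed.exists_pow_nat_eq (algebraMap k kb (a j)) (Fact.out : p.Prime).pos
    haveI : CharP (Γ(X, U) ⊗[k] kb) p :=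
      charP_of_injective_algebraMap (algebraMap k (Γ(X, U) ⊗[k] kb)).injective p
    haveI : ExpChar (Γ(X, U) ⊗[k] kb) p := ExpChar.prime Fact.out
    have ht : (∑ j ∈ S, y j ⊗ₜ[k] c j) ^ p = 0 := by
      rw [sum_pow_char]
      have h1 : ∀ j ∈ S, (y j ⊗ₜ[k] c j) ^ p = (a j • y j ^ p) ⊗ₜ[k] (1 : kb) := fun j _ => by
        rw [Algebra.TensorProduct.tmul_pow, hc, TensorProduct.smul_tmul, Algebra.algebraMap_eq_smul_one]
      rw [Finset.sum_congr rfl h1, ← TensorProduct.sum_tmul, ha, TensorProduct.zero_tmul]
    have hzero := IsReduced.eq_zero _ ⟨p, ht⟩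
    have hci : c i = 0 := by
      have hy' : LinearIndependent k fun j : S => y j := hy.comp _ Subtype.val_injective
      obtain ⟨g, hg⟩ := LinearMap.exists_extend
        ((Finsupp.lapply (⟨i, hi⟩ : S)).comp hy'.repr)
      have h2 := congrArg (TensorProduct.lid k kb).toLinearMap
        (congrArg (LinearMap.rTensor kb g) hzero)
      rw [map_sum, map_sum] at h2
      simp only [LinearMap.rTensor_tmul, LinearEquiv.coe_coe, TensorProduct.lid_tmul, map_zero] at h2
      have hgy : ∀ j : S, g (y j) = Finsupp.single j (1 : k) ⟨i, hi⟩ := fun j => by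
        have h3 := LinearMap.congr_fun hg ⟨y j, Submodule.subset_span ⟨j, rfl⟩⟩
        simp only [LinearMap.comp_apply, Submodule.subtype_apply, Finsupp.lapply_apply] at h3
        rw [h3, hy'.repr_eq_single j ⟨y j, _⟩ rfl]
      rw [← Finset.sum_coe_sort S (fun j => g (y j) • c j), Finset.sum_eq_single (⟨i, hi⟩ : S)] at h2
      · have h4 : g (y i) = 1 := by simpa using hgy ⟨i, hi⟩
        simpa [h4] using h2
      · intro j _ hj
        simp [hgy, Finsupp.single_eq_of_ne' hj]
      · simp
    refine (algebraMap k kb).injective ?_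
    rw [← hc, hci, zero_pow (Fact.out : p.Prime).ne_zero, map_zero]
  have hind : ∀ (ι : Type u) (y : ι → K), LinearIndependent k y →
      LinearIndependent k fun i => y i ^ p := by
    intro ι y hy
    rw [linearIndependent_iff_finset_linearIndependent]
    intro S
    obtain ⟨⟨s₀, hs₀⟩, hs⟩ := IsLocalization.exist_integer_multiples (nonZeroDivisors Γ(X, U)) S y
    have hσ : algebraMap Γ(X, U) K s₀ ≠ 0 :=
      (map_ne_zero_iff _ hevinj).mpr (nonZeroDivisors.ne_zero hs₀)
    choose w hw using fun j : S => hs j j.2
    have hw' : ∀ j : S, algebraMap Γ(X, U) K (w j) = algebraMap Γ(X, U) K s₀ * y j := fun j => by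
      rw [hw j, Algebra.smul_def]
    have h1 : LinearIndependent k w := by
      refine LinearIndependent.of_comp ev.toLinearMap ?_
      have h2 := (hy.comp (Subtype.val : S → ι) Subtype.val_injective).map'
        (LinearMap.mulLeft k (algebraMap Γ(X, U) K s₀)) (LinearMap.ker_eq_bot.mpr (mul_right_injective₀ hσ))
      rw [show (ev.toLinearMap ∘ w) = LinearMap.mulLeft k (algebraMap Γ(X, U) K s₀) ∘ (y ∘ (Subtype.val : S → ι))
        from funext hw']
      exact h2
    have h3 := (hindB _ w h1).map' ev.toLinearMap (LinearMap.ker_eq_bot.mpr hevinj)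
    refine LinearIndependent.of_comp (LinearMap.mulLeft k (algebraMap Γ(X, U) K s₀ ^ p)) ?_
    have h4 : (LinearMap.mulLeft k (algebraMap Γ(X, U) K s₀ ^ p) ∘ fun j : S => y j ^ p) =
        ev.toLinearMap ∘ fun j => w j ^ p := by
      funext j
      show algebraMap Γ(X, U) K s₀ ^ p * y j ^ p = ev (w j ^ p)
      rw [map_pow, ← mul_pow, ← hw' j]
      rfl
    exact h4 ▸ h3
  have htd : Algebra.trdeg k K = d := by
    rw [VarDim.trdeg_residueField f ξ]
    have h := VarDim.dim_eq_sdim_genericPoint f
    rw [hd] at h
    exact_mod_cast h.symm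
  have hdeg := FrobDeg4.finrank_adjoin_pow (k := k) (K := K) p d htd hind
  let L : IntermediateField k K := IntermediateField.adjoin k (Set.range fun y : K => y ^ p)
  change Module.finrank L K = p ^ d at hdeg
  let φ : T.residueField (r ξ) →+* K := (r.residueFieldMap ξ).hom
  let e := X.fromSpecResidueField ξ
  have hef : e ≫ f = Spec.map (CommRingCat.ofHom (algebraMap k K)) := WeilH13.fromSpecResidueField_comp f ξ
  let φp : K →+* L :=
    (frobenius K p).codRestrict L.toSubfield fun y => IntermediateField.subset_adjoin k _ ⟨y, rfl⟩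
  haveI : FrobSch.IsCharP (Spec (CommRingCat.of K)) p := FrobSch.isCharP_Spec K p
  let g : Spec (CommRingCat.of L) ⟶ T :=
    pullback.lift (Spec.map (CommRingCat.ofHom φp) ≫ e) (Spec.map (CommRingCat.ofHom (algebraMap k L)))
      (by
        rw [RelFrobAlg28.frob_Spec, Category.assoc, hef, ← Spec.map_comp, ← Spec.map_comp]
        congr 1
        ext c
        exact (map_pow (algebraMap k K) c p).symm)
  have hgr : Spec.map (CommRingCat.ofHom L.val.toRingHom) ≫ g = e ≫ r := by
    refine pullback.hom_ext ?_ ?_
    · rw [Category.assoc, pullback.lift_fst, ← Category.assoc, ← Spec.map_comp, Category.assoc,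
        FrobSch.relFrob_fst, ← FrobSch.frob_comp, RelFrobAlg28.frob_Spec]
      rfl
    · rw [Category.assoc, pullback.lift_snd, ← Spec.map_comp, Category.assoc, FrobSch.relFrob_snd, hef]
      rfl
  obtain ⟨⟨t', ψ⟩, hg⟩ := (Scheme.SpecToEquivOfField L T).symm.surjective g
  have hpair : (⟨t', ψ ≫ CommRingCat.ofHom L.val.toRingHom⟩ :
      Σ z, T.residueField z ⟶ CommRingCat.of K) = ⟨r ξ, r.residueFieldMap ξ⟩ := by
    apply (Scheme.SpecToEquivOfField K T).symm.injective
    show Spec.map (ψ ≫ CommRingCat.ofHom L.val.toRingHom) ≫ T.fromSpecResidueField t' =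
      Spec.map (r.residueFieldMap ξ) ≫ T.fromSpecResidueField (r ξ)
    rw [Spec.map_comp, Category.assoc]
    refine (congrArg (fun w => Spec.map (CommRingCat.ofHom L.val.toRingHom) ≫ w) hg).trans ?_
    rw [hgr]
    exact (r.SpecMap_residueFieldMap_fromSpecResidueField ξ).symm
  obtain ⟨rfl, hψ⟩ := Sigma.mk.inj_iff.mp hpair
  have hψ' := eq_of_heq hψ
  have hmem : ∀ z, φ z ∈ L := fun z => by
    have : (L.val.toRingHom (ψ.hom z)) = φ z :=
      RingHom.congr_fun (congrArg CommRingCat.Hom.hom hψ') z
    exact this ▸ (ψ.hom z).2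
  have hLle : ∀ y ∈ L, y ∈ φ.fieldRange := by
    intro y hy
    have hk : ∀ c : k, algebraMap k K c ∈ φ.fieldRange := by
      intro c
      have h := VarDim.baseToRes_comp (pullback.snd f (FrobSch.frob _ p)) r ξ
      rw [FrobSch.relFrob_snd] at h
      exact ⟨VarDim.baseToRes (pullback.snd f (FrobSch.frob _ p)) (r ξ) c, (RingHom.congr_fun h c).symm⟩
    have hpw : ∀ v : K, v ^ p ∈ φ.fieldRange := by
      let fst := pullback.fst f (FrobSch.frob (Spec (CommRingCat.of k)) p)
      have gen : ∀ P : Σ z, X.residueField z ⟶ CommRingCat.of K,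
          P = ⟨ξ, CommRingCat.ofHom (frobenius K p)⟩ → (∀ v, P.2.hom v ∈ φ.fieldRange) →
            ∀ v : K, v ^ p ∈ φ.fieldRange := by
        rintro _ rfl h v; exact h v
      refine gen ⟨fst (r ξ), fst.residueFieldMap (r ξ) ≫ r.residueFieldMap ξ⟩ ?_ (fun v => ⟨_, rfl⟩)
      apply (Scheme.SpecToEquivOfField K X).symm.injective
      show Spec.map (fst.residueFieldMap (r ξ) ≫ r.residueFieldMap ξ) ≫ X.fromSpecResidueField (fst (r ξ)) =
        Spec.map (CommRingCat.ofHom (frobenius K p)) ≫ X.fromSpecResidueField ξ
      rw [Spec.map_comp, Category.assoc, Scheme.Hom.SpecMap_residueFieldMap_fromSpecResidueField, ← Category.assoc,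
        Scheme.Hom.SpecMap_residueFieldMap_fromSpecResidueField, Category.assoc, FrobSch.relFrob_fst,
        ← RelFrobAlg28.frob_Spec, FrobSch.frob_comp]
    exact (IntermediateField.adjoin_le_iff.mpr
      (show _ ⊆ ((φ.fieldRange.toIntermediateField hk : IntermediateField k K) : Set K) from
        by rintro _ ⟨v, rfl⟩; exact hpw v)) hy
  let E : T.residueField (r ξ) ≃+* L := RingEquiv.ofBijective (φ.codRestrict L.toSubfield hmem)
    ⟨(φ.codRestrict L.toSubfield hmem).injective, fun ⟨y, hy⟩ => by
      obtain ⟨z, hz⟩ := hLle y hy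
      exact ⟨z, Subtype.ext hz⟩⟩
  show (letI := φ.toAlgebra; Module.finrank (T.residueField (r ξ)) K) = p ^ d
  letI := φ.toAlgebra
  rw [← hdeg]
  exact Algebra.finrank_eq_of_equiv_equiv E (RingEquiv.refl K) (RingHom.ext fun z => rfl)

end Groth.Agent.S14932
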