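import Groth.Statements.S14933
import Mathlib.AlgebraicGeometry.Morphisms.Flat
-- import your own Groth.Agent.* helpers here

set_option autoImplicit false
set_option linter.style.haveILetI false
set_option backward.isDefEq.respectTransparency.types false
universe u
open CategoryTheory CategoryTheory.Limits AlgebraicGeometry
open Variety

namespace Groth.Agent.S14933

open CategoryTheory CategoryTheory.Limits AlgebraicGeometry Opposite TopologicalSpace

theorem app_zero_of_appLE {X Y : Scheme.{u}} {f : X ⟶ Y} {F : X.Modules} (d : OmegaSh.Der f F)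
    {h : X ⟶ Y} (e : h = f) (B : Y.Opens) (U : X.Opens) (hle : U ≤ h ⁻¹ᵁ B) (b : Γ(Y, B)) :
    d.app U (h.appLE B U hle b) = 0 := by
  subst e
  show d.d (X := op U) (X.presheaf.map (homOfLE hle).op (h.app B b)) = 0
  rw [d.d_map (homOfLE hle).op]
  erw [d.d_app (X := op B) b]
  exact map_zero _

theorem app_pow_eq_zero {X Y : Scheme.{u}} (p : ℕ) [Fact p.Prime] [FrobSch.IsCharP X p]
    {f : X ⟶ Y} {F : X.Modules} (d : OmegaSh.Der f F) (U : X.Opens) (a : Γ(X, U)) :
    d.app U (a ^ p) = 0 := by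
  have hpow : ∀ n : ℕ, d.app U (a ^ (n + 1)) = ((n + 1 : ℕ) : Γ(X, U)) • (a ^ n • d.app U a) := by
    intro n
    induction n with
    | zero => simp
    | succ n ih =>
      rw [pow_succ]
      refine (d.d_mul (X := op U) _ _).trans ?_
      change a ^ (n + 1) • d.app U a + a • d.app U (a ^ (n + 1)) = _
      rw [ih, smul_smul, smul_smul, smul_smul, ← add_smul]
      congr 1
      push_cast
      ring
  obtain ⟨n, rfl⟩ : ∃ n, p = n + 1 := ⟨p - 1, by have := (Fact.out : p.Prime).pos; omega⟩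
  rw [hpow, FrobSch.natCast_eq_zero_app, zero_smul]

theorem app_frob_eq_zero {X Y : Scheme.{u}} (p : ℕ) [Fact p.Prime] [FrobSch.IsCharP X p]
    {f : X ⟶ Y} {F : X.Modules} (d : OmegaSh.Der f F) {h : X ⟶ X} (e : h = FrobSch.frob X p)
    (A : X.Opens) (U : X.Opens) (hle : U ≤ h ⁻¹ᵁ A) (a : Γ(X, A)) :
    d.app U (h.appLE A U hle a) = 0 := by
  subst e
  show d.d (X := op U) (X.presheaf.map (homOfLE hle).op ((FrobSch.frob X p).app A a)) = 0
  rw [d.d_map (homOfLE hle).op]
  erw [FrobSch.frob_app, app_pow_eq_zero p d A a]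
  exact map_zero _

/-- A derivation over the base kills all sections coming from the Frobenius twist. -/
theorem app_relFrob_eq_zero (p : ℕ) [Fact p.Prime] {X S : Scheme.{u}} [FrobSch.IsCharP S p]
    (f : X ⟶ S) {F : X.Modules} (d : OmegaSh.Der f F) (V : (FrobSch.frobTwist f p).Opens)
    (t : Γ(FrobSch.frobTwist f p, V)) :
    d.app ((FrobSch.relFrob f p) ⁻¹ᵁ V) ((FrobSch.relFrob f p).app V t) = 0 := by
  haveI : FrobSch.IsCharP X p := FrobSch.IsCharP.of_hom f p
  let Φ := FrobSch.relFrob f p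
  let fs := pullback.fst f (FrobSch.frob S p)
  let sn := pullback.snd f (FrobSch.frob S p)
  have hpiece : ∀ (A : X.Opens) (B : S.Opens), IsAffineOpen A → IsAffineOpen B → ∀ (hAB : A ≤ f ⁻¹ᵁ B)
      (s : Γ(FrobSch.frobTwist f p, fs ⁻¹ᵁ A ⊓ sn ⁻¹ᵁ B)),
      d.app (Φ ⁻¹ᵁ (fs ⁻¹ᵁ A ⊓ sn ⁻¹ᵁ B)) (Φ.app (fs ⁻¹ᵁ A ⊓ sn ⁻¹ᵁ B) s) = 0 := by
    intro A B hA hB hAB s
    have hpo := (isIso_pushoutSection_iff (IsPullback.of_hasPullback f (FrobSch.frob S p))
      (le_refl B : B ≤ (FrobSch.frob S p) ⁻¹ᵁ B) hAB rfl).1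
      (isIso_pushoutSection_of_isAffineOpen _ _ _ rfl hB hB hA)
    let W := fs ⁻¹ᵁ A ⊓ sn ⁻¹ᵁ B
    let U := Φ ⁻¹ᵁ W
    let δ : Γ(FrobSch.frobTwist f p, W) →+ Γ(F, U) := (d.app U).comp (Φ.app W).hom.toAddMonoidHom
    have hδ : ∀ x, δ x = d.app U (Φ.app W x) := fun _ => rfl
    let K : Subring Γ(FrobSch.frobTwist f p, W) :=
      { carrier := {x | δ x = 0}
        mul_mem' := fun {x y} hx hy => by
          simp only [Set.mem_ofPred_eq, hδ] at hx hy ⊢
          rw [map_mul]
          refine (d.d_mul (X := op U) _ _).trans ?_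
          change Φ.app W x • d.app U (Φ.app W y) + Φ.app W y • d.app U (Φ.app W x) = 0
          rw [hx, hy, smul_zero, smul_zero, add_zero]
        one_mem' := by
          simp only [Set.mem_ofPred_eq, hδ, map_one]
          exact d.d_one (op U)
        add_mem' := fun {x y} hx hy => by
          simp only [Set.mem_ofPred_eq, map_add] at hx hy ⊢
          rw [hx, hy, add_zero]
        zero_mem' := map_zero δ
        neg_mem' := fun {x} hx => by
          simp only [Set.mem_ofPred_eq, map_neg] at hx ⊢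
          rw [hx, neg_zero] }
    have hleA : W ≤ fs ⁻¹ᵁ A := inf_le_left
    have hleB : W ≤ sn ⁻¹ᵁ B := inf_le_right
    have hAmem : ∀ a, fs.appLE A W hleA a ∈ K := fun a => by
      show d.app U (Φ.app W (fs.appLE A W hleA a)) = 0
      have e : fs.appLE A W hleA ≫ Φ.app W = (Φ ≫ fs).appLE A U ((Φ.preimage_mono hleA)) := by
        rw [Scheme.Hom.app_eq_appLE, Scheme.Hom.appLE_comp_appLE]
      rw [← CommRingCat.comp_apply, e]
      exact app_frob_eq_zero p d (FrobSch.relFrob_fst f p) A U _ a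
    have hBmem : ∀ b, sn.appLE B W hleB b ∈ K := fun b => by
      show d.app U (Φ.app W (sn.appLE B W hleB b)) = 0
      have e : sn.appLE B W hleB ≫ Φ.app W = (Φ ≫ sn).appLE B U ((Φ.preimage_mono hleB)) := by
        rw [Scheme.Hom.app_eq_appLE, Scheme.Hom.appLE_comp_appLE]
      rw [← CommRingCat.comp_apply, e]
      exact app_zero_of_appLE d (FrobSch.relFrob_snd f p) B U _ b
    let lA : Γ(X, A) ⟶ CommRingCat.of K :=
      CommRingCat.ofHom ((fs.appLE A W hleA).hom.codRestrict K hAmem)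
    let lB : Γ(S, B) ⟶ CommRingCat.of K :=
      CommRingCat.ofHom ((sn.appLE B W hleB).hom.codRestrict K hBmem)
    have hw : f.appLE B A hAB ≫ lA = (FrobSch.frob S p).appLE B B le_rfl ≫ lB := by
      ext x
      exact congr($(hpo.w) x)
    let r := hpo.desc lA lB hw
    have hr : r ≫ CommRingCat.ofHom K.subtype = 𝟙 _ := by
      apply hpo.hom_ext
      · rw [reassoc_of% hpo.inl_desc lA lB hw, Category.comp_id]; rfl
      · rw [reassoc_of% hpo.inr_desc lA lB hw, Category.comp_id]; rfl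
    have hs : s = K.subtype (r.hom s) := (congr($hr s)).symm
    rw [hs]
    exact (r.hom s).2
  have hloc : ∀ x : ↥(Φ ⁻¹ᵁ V), ∃ (W : (FrobSch.frobTwist f p).Opens) (_ : Φ x.1 ∈ W) (_ : W ≤ V),
      ∀ s, d.app (Φ ⁻¹ᵁ W) (Φ.app W s) = 0 := by
    intro x
    obtain ⟨B, hB, hxB, -⟩ :=
      exists_isAffineOpen_mem_and_subset (X := S) (x := sn (Φ x.1)) (U := ⊤) trivial
    have hxA : fs (Φ x.1) ∈ f ⁻¹ᵁ B := by
      show f (fs (Φ x.1)) ∈ B
      rw [← Scheme.Hom.comp_apply, pullback.condition, Scheme.Hom.comp_apply, FrobSch.frob_apply]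
      exact hxB
    obtain ⟨A, hA, hxA', hAB⟩ := exists_isAffineOpen_mem_and_subset hxA
    let P := fs ⁻¹ᵁ A ⊓ sn ⁻¹ᵁ B
    have hPaff : IsAffineOpen P := by
      haveI : IsAffine (A : Scheme.{u}) := hA
      haveI : IsAffine (B : Scheme.{u}) := hB
      exact .of_isIso (Scheme.Hom.isPullback_resLE (IsPullback.of_hasPullback f (FrobSch.frob S p))
        (le_refl B : B ≤ (FrobSch.frob S p) ⁻¹ᵁ B) hAB rfl).isoPullback.hom
    have hxP : Φ x.1 ∈ P := ⟨hxA', hxB⟩
    obtain ⟨h, hhV, hxh⟩ := hPaff.exists_basicOpen_le (⟨Φ x.1, x.2⟩ : V) hxP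
    let D := (FrobSch.frobTwist f p).basicOpen h
    refine ⟨D, hxh, hhV, fun z => ?_⟩
    obtain ⟨n, s, hs⟩ := exists_eq_pow_mul_of_isCompact_of_isQuasiSeparated _ P hPaff.isCompact
      hPaff.isQuasiSeparated h z
    have hres : ∀ s' : Γ(FrobSch.frobTwist f p, P),
        d.app (Φ ⁻¹ᵁ D) (Φ.app D ((FrobSch.frobTwist f p).presheaf.map
          (homOfLE ((FrobSch.frobTwist f p).basicOpen_le h)).op s')) = 0 := by
      intro s'
      rw [← CommRingCat.comp_apply, Scheme.Hom.naturality, CommRingCat.comp_apply]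
      refine Eq.trans (d.d_map (X := op (Φ ⁻¹ᵁ P)) (Y := op (Φ ⁻¹ᵁ D))
        (homOfLE (Φ.preimage_mono ((FrobSch.frobTwist f p).basicOpen_le h))).op (Φ.app P s')) ?_
      erw [hpiece A B hA hB hAB s']
      exact map_zero _
    have e := congrArg (Φ.app D) hs
    simp only [TopCat.Presheaf.restrictOpenCommRingCat_apply, map_mul, ← map_pow] at e
    have hd := congrArg (d.app (Φ ⁻¹ᵁ D)) e
    have h1 : ∀ a b : Γ(X, Φ ⁻¹ᵁ D), d.app (Φ ⁻¹ᵁ D) (a * b) =
        a • d.app (Φ ⁻¹ᵁ D) b + b • d.app (Φ ⁻¹ᵁ D) a := fun a b => d.d_mul (X := op (Φ ⁻¹ᵁ D)) a b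
    rw [hres, h1, hres, smul_zero, add_zero] at hd
    have hu : IsUnit (Φ.app D ((FrobSch.frobTwist f p).presheaf.map
        (homOfLE ((FrobSch.frobTwist f p).basicOpen_le h)).op (h ^ n))) := by
      rw [map_pow]
      exact (((FrobSch.frobTwist f p).toRingedSpace.isUnit_res_basicOpen h).pow n).map _
    exact hu.smul_eq_zero.mp hd.symm
  choose W hxW hWV hW using hloc
  refine TopCat.Sheaf.eq_of_locally_eq' ⟨F.presheaf, F.isSheaf⟩ (fun x => Φ ⁻¹ᵁ W x) (Φ ⁻¹ᵁ V)
    (fun x => homOfLE (Φ.preimage_mono (hWV x))) (fun y hy => Opens.mem_iSup.mpr ⟨⟨y, hy⟩, hxW _⟩) _ _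
    fun x => ?_
  refine Eq.trans ?_ (map_zero _).symm
  refine (d.d_map (homOfLE (Φ.preimage_mono (hWV x))).op _).symm.trans ?_
  refine (congrArg (fun w => d.d w) (congr($(Scheme.Hom.naturality Φ (homOfLE (hWV x)).op) t)).symm).trans ?_
  exact hW x _


/-- Let p be a prime, S a scheme of characteristic p (p is zero in the structure sheaf) and f : X → S a
morphism of schemes, with relative Frobenius F_{X/S} : X → X^(p) = X ×_{S,F_S} S over S. Then the
sheaf of differentials of X over S is also the sheaf of differentials of X over X^(p): if Ω is an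
O_X-module and d : O_X → Ω a universal S-derivation, then d kills every section coming from X^(p),
i.e. there is a derivation O_X → Ω relative to F_{X/S} with the same values as d, and that
derivation is universal among derivations relative to F_{X/S}. -/
theorem result (p : ℕ) [Fact p.Prime]
    {X S : Scheme.{u}} [FrobSch.IsCharP S p] (f : X ⟶ S)
    (Ω : X.Modules) (d : OmegaSh.Der f Ω) (hd : OmegaSh.IsUniversal d) :
    ∃ d' : OmegaSh.Der (FrobSch.relFrob f p) Ω,
      (∀ (U : X.Opens) (s : Γ(X, U)), d'.app U s = d.app U s) ∧ OmegaSh.IsUniversal d' := by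
  haveI : FrobSch.IsCharP X p := FrobSch.IsCharP.of_hom f p
  let mk' : ∀ {G : X.Modules}, OmegaSh.Der f G → OmegaSh.Der (FrobSch.relFrob f p) G := fun {G} D =>
    { d := D.d
      d_mul := D.d_mul
      d_map := D.d_map
      d_app := fun {V} a => app_relFrob_eq_zero p f D V.unop a }
  let back : ∀ {G : X.Modules}, OmegaSh.Der (FrobSch.relFrob f p) G → OmegaSh.Der f G := fun {G} D =>
    { d := D.d
      d_mul := D.d_mul
      d_map := D.d_map
      d_app := fun {V} a => by
        have e : f.app V.unop = (FrobSch.relFrob f p ≫ Limits.pullback.snd f (FrobSch.frob S p)).appLE V.unop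
            (f ⁻¹ᵁ V.unop) (by rw [FrobSch.relFrob_snd]) := by
          rw [Scheme.Hom.app_eq_appLE]
          congr 1
          exact (FrobSch.relFrob_snd f p).symm
        show OmegaSh.Der.app D (f ⁻¹ᵁ V.unop) (f.app V.unop a) = 0
        rw [e, ← Scheme.Hom.appLE_comp_appLE _ _ V.unop (Limits.pullback.snd f (FrobSch.frob S p) ⁻¹ᵁ V.unop)
          (f ⁻¹ᵁ V.unop) le_rfl (by rw [← Scheme.Hom.comp_preimage, FrobSch.relFrob_snd]), CommRingCat.comp_apply]
        exact app_zero_of_appLE D rfl _ _ _ _ }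
  refine ⟨mk' d, fun U s => rfl, fun G D => ?_⟩
  obtain ⟨α, hα, huniq⟩ := hd G (back D)
  refine ⟨α, ?_, fun β hβ => huniq β ?_⟩
  · ext U x
    exact congrArg (fun E : OmegaSh.Der f G => E.d x) hα
  · ext U x
    exact congrArg (fun E : OmegaSh.Der (FrobSch.relFrob f p) G => E.d x) hβ

end Groth.Agent.S14933
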