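import Groth.Statements.S14937
import Groth.Agent.Lib.TateCons19.Count
import Groth.Agent.Lib.TateCons19.Algebra
-- import your own Groth.Agent.* helpers here

set_option autoImplicit false
universe u
open CategoryTheory MonoidalCategory CartesianMonoidalCategory MonObj GrpObj AlgebraicGeometry
open AbVar

namespace Groth.Agent.S14937

set_option linter.style.haveILetI false
set_option backward.isDefEq.respectTransparency.types false


/-- Lower bound: let A be an abelian variety of dimension g over a finite field k (a proper,
geometrically integral commutative group scheme over k). Then the rank of End_k(A) is at least 2g: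
there exist 2g endomorphisms of A (homomorphisms A → A) which are linearly independent over ℤ in the
additive group of k-morphisms A → A (pointwise product). The upper bound 4g² holds over any field. -/
theorem result (k : Type u) [Field k] [Finite k]
    (A : Over (Spec (CommRingCat.of k)))
    [GrpObj A] [IsCommMonObj A] [IsProper A.hom] [GeometricallyIntegral A.hom]
    (g : ℕ) (hg : topologicalKrullDim A.left = g) :
    ∃ e : Fin (2 * g) → (A ⟶ A), (∀ i, IsMonHom (e i)) ∧
      LinearIndependent ℤ (fun i => Additive.ofMul (e i)) := by
  classical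
  obtain ⟨π, _, hA⟩ := Groth.Agent.TateCons19.exists_isFrob A
  obtain ⟨l, hlp, hl⟩ := Groth.Agent.TateTors22.exists_prime_ne_zero k
  haveI : Fact l.Prime := ⟨hlp⟩
  let Ω := AlgebraicClosure k
  haveI := Groth.Agent.TateTors22.free_tateMod (A := A) Ω l hl
  haveI := Groth.Agent.TateTors22.finite_tateMod (A := A) Ω l hl
  haveI := Groth.Agent.TateTors22.finite_hom (A := A) (B := A)
  haveI := Groth.Agent.TateTors22.free_hom (A := A) (B := A)
  haveI := GeometricallyIntegral.isIntegral_of_subsingleton A.hom
  obtain ⟨P, -, -, -, hP⟩ := Groth.Agent.AVDegree22.exists_int_charpoly (K := Ω) (l := l) hl hg (EndAV.End.of π)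
  obtain ⟨hm, hd⟩ := Groth.Agent.TateCons19.charpoly_facts Ω l hl hg hP
  have hle : 2 * g ≤ Module.finrank ℤ (EndAV.Hom A A) := by
    rw [Groth.Agent.TateCons19.finrank_hom_eq_num Ω l hl hA hA (Groth.Agent.TateCons19.tateHyp Ω l hl hA hA) hP hP, ← hd]
    exact Groth.Agent.TateCons19.natDegree_le_num_self hm
  let b := Module.finBasis ℤ (EndAV.Hom A A)
  refine ⟨fun i => (b (Fin.castLE hle i)).toHom, fun i => inferInstance, ?_⟩
  exact (b.linearIndependent.comp _ (Fin.castLE_injective hle)).map'
    (Groth.Agent.TateTors22.toHomAdd (A := A) (B := A)).toIntLinearMap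
    (LinearMap.ker_eq_bot.2 fun x y h => EndAV.Hom.ext (Additive.ofMul.injective h))

end Groth.Agent.S14937
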