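import Groth.Statements.S14938
import Groth.Agent.Lib.TateCons19.Algebra
import Groth.Agent.Lib.Zeta25.Fatou
-- import your own Groth.Agent.* helpers here

set_option autoImplicit false
universe u
open CategoryTheory MonoidalCategory CartesianMonoidalCategory MonObj GrpObj AlgebraicGeometry
open AbVar

namespace Groth.Agent.S14938

set_option linter.style.haveILetI false
set_option backward.isDefEq.respectTransparency.types false


/-- Let A be an abelian variety over a finite field k with q elements (a proper, geometrically integral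
commutative group scheme over k) and π_A its q-Frobenius endomorphism (the identity on points and
the q-th power map on sections; a homomorphism). If an endomorphism f of A commutes with every
endomorphism of A, then for some integer N > 0 the multiple N·f is an integral linear combination of
the composition powers π_A^0 = id, π_A, π_A ∘ π_A, …; in other words the centre of ℚ ⊗ End_k(A) is
ℚ[π_A] (the reverse inclusion being that π_A is central). In the statement the group Hom_k(A, A) is
written multiplicatively, so N·f is f^N and the linear combination is a finite product of integer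
powers. -/
theorem result (k : Type u) [Field k] [Finite k]
    (A : Over (Spec (CommRingCat.of k)))
    [GrpObj A] [IsCommMonObj A] [IsProper A.hom] [GeometricallyIntegral A.hom]
    (πA : A ⟶ A) [IsMonHom πA] (hπAb : πA.left.base = 𝟙 _)
    (hπAle : ∀ U : A.left.Opens, U ≤ πA.left ⁻¹ᵁ U)
    (hπAapp : ∀ (U : A.left.Opens) (s : Γ(A.left, U)), (πA.left.appLE U U (hπAle U)).hom s = s ^ Nat.card k)
    (f : A ⟶ A) [IsMonHom f] (hf : ∀ h : A ⟶ A, IsMonHom h → f ≫ h = h ≫ f) :
    ∃ N : ℕ, 0 < N ∧ ∃ (d : ℕ) (a : Fin d → ℤ),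
      f ^ N = ∏ i : Fin d, ((fun h : A ⟶ A => h ≫ πA)^[(i : ℕ)] (𝟙 A)) ^ (a i) := by
  classical
  obtain ⟨l, hlp, hl⟩ := Groth.Agent.TateTors22.exists_prime_ne_zero k
  haveI : Fact l.Prime := ⟨hlp⟩
  let Ω := AlgebraicClosure k
  have hA : Groth.Agent.TateCons19.IsFrob k πA.left := ⟨hπAle, hπAapp⟩
  have hmem := Groth.Agent.TateCons19.mem_qAdj_of_central Ω l hl hA (Groth.Agent.TateCons19.tateHyp Ω l hl hA hA)
    (EndAV.End.of f) fun h => EndAV.End.ext (hf h.toHom inferInstance)
  rw [EndAV.QAdj, Algebra.adjoin_singleton_eq_range_aeval] at hmem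
  obtain ⟨p, hp : Polynomial.aeval (EndAV.toEnd0 (EndAV.End.of πA)) p = EndAV.toEnd0 (EndAV.End.of f)⟩ := hmem
  obtain ⟨P₀, b, hb, hP₀⟩ := Groth.Agent.Zeta25.exists_integral_multiple p
  have h1 : Polynomial.aeval (EndAV.End.of πA) (Polynomial.C b.sign * P₀) = (b.natAbs : ℤ) • EndAV.End.of f := by
    have h2 : Polynomial.aeval (EndAV.End.of πA) P₀ = b • EndAV.End.of f := by
      refine Groth.Agent.AVDegree22.toEnd0_injective ?_
      rw [← Polynomial.aeval_algHom_apply, ← Polynomial.aeval_map_algebraMap ℚ, algebraMap_int_eq, hP₀, map_mul,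
        Polynomial.aeval_C, hp, map_zsmul, ← Algebra.smul_def, Int.cast_smul_eq_zsmul]
    rw [map_mul, Polynomial.aeval_C, h2, eq_intCast (algebraMap ℤ (EndAV.End A)), ← zsmul_eq_mul, smul_smul,
      Int.natCast_natAbs, Int.sign_mul_self_eq_abs]
  have hpi : ∀ i : ℕ, ((fun h : A ⟶ A => h ≫ πA)^[i] (𝟙 A)) = (EndAV.End.of πA ^ i : EndAV.End A).toHom := by
    intro i
    induction i with
    | zero => rfl
    | succ i ih => rw [Function.iterate_succ_apply', ih, EndAV.End.toHom_pow_succ, EndAV.End.toHom_of]
  have hsum : ∀ (s : Finset ℕ) (x : ℕ → EndAV.End A) (c : ℕ → ℤ), (∑ i ∈ s, c i • x i : EndAV.End A).toHom = ∏ i ∈ s, (x i).toHom ^ c i := by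
    intro s x c
    induction s using Finset.induction_on with
    | empty => rfl
    | insert i s hi ih => rw [Finset.sum_insert hi, Finset.prod_insert hi, EndAV.End.toHom_add, EndAV.End.toHom_zsmul, ih]
  set Q := Polynomial.C b.sign * P₀ with hQ
  refine ⟨b.natAbs, Int.natAbs_pos.2 hb, Q.natDegree + 1, fun i => Q.coeff i, ?_⟩
  simp only [hpi]
  rw [Fin.prod_univ_eq_prod_range (fun i : ℕ => (EndAV.End.of πA ^ i : EndAV.End A).toHom ^ Q.coeff i), ← hsum,
    ← Polynomial.aeval_eq_sum_range, h1, EndAV.End.toHom_zsmul, zpow_natCast, EndAV.End.toHom_of]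

end Groth.Agent.S14938
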