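import Groth.Statements.S14941
import Groth.Agent.Lib.TatePol22.Bound
import Groth.Agent.Lib.TateFinD14.Main
import Groth.Agent.Lib.Index22.Index
import Groth.Agent.Lib.AbRigid.SmoothGI

set_option autoImplicit false
universe u
open CategoryTheory CategoryTheory.Limits MonoidalCategory CartesianMonoidalCategory MonObj GrpObj AlgebraicGeometry
open AbVar

namespace Groth.Agent.S14941

/-- Take a finite field k and an abelian variety A over it (a proper, geometrically integral commutative
group scheme over k) and an integer d ≥ 1. Up to isomorphism, only finitely many abelian varieties B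
over k are isogenous to A and carry a polarisation of degree d² defined over k. Here: B^t is a given
dual abelian variety (B^t, φ) for the fppf topology, a polarisation is a homomorphism λ : B → B^t
which on every geometric fibre is of the form Λ(L) = φ_L for an ample invertible sheaf L, its degree
d² means λ is finite locally free of rank d², B isogenous to A means there is a finite surjective
homomorphism A → B, and isomorphism is isomorphism of k-schemes (equivalently of abelian varieties,
after a translation). -/
theorem result (k : Type u) [Field k] [Finite k]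
    (A : Over (Spec (CommRingCat.of k)))
    [GrpObj A] [IsCommMonObj A] [IsProper A.hom] [GeometricallyIntegral A.hom]
    (d : ℕ) (hd : 1 ≤ d) :
    ∃ (n : ℕ) (Bs : Fin n → Over (Spec (CommRingCat.of k))),
      ∀ (B Bt : Over (Spec (CommRingCat.of k))) [GrpObj B] [IsCommMonObj B] [IsProper B.hom] [GeometricallyIntegral B.hom]
        [GrpObj Bt] [IsCommMonObj Bt] (φ : AgPol.DualMap B Bt),
        AbDual.IsDualAV Scheme.fppfPrecoverage B Bt φ →
        ∀ lam : B ⟶ Bt, AgPol.IsPolarization B Bt φ lam → AgPol.HasDegSq lam d →
        (∃ (u : A ⟶ B) (_ : IsMonHom u), IsFinite u.left ∧ Function.Surjective u.left.base) →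
        ∃ i : Fin n, Nonempty (B ≅ Bs i) := by
  classical
  obtain ⟨g, hg⟩ := Groth.Agent.Index22.exists_dim (A := A)
  obtain ⟨J, hJ, F, hF⟩ := Groth.Agent.TateFinD14.exists_finite_isoClasses (k := k) g (2 ^ (2 * g) * d ^ 2)
  haveI := hJ
  obtain ⟨n, ⟨e⟩⟩ := Finite.exists_equiv_fin J
  refine ⟨n, F ∘ e.symm, fun B Bt _ _ _ _ _ _ φ hφ lam hpol hdeg hu => ?_⟩
  obtain ⟨u, hum, huf, hus⟩ := hu
  haveI := hum; haveI := huf; haveI : Surjective u.left := ⟨hus⟩
  have hgB : topologicalKrullDim B.left = g := by
    haveI : IsIntegral A.left := GeometricallyIntegral.isIntegral_of_subsingleton A.hom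
    haveI : IsIntegral B.left := GeometricallyIntegral.isIntegral_of_subsingleton B.hom
    rw [← hg, Groth.Agent.AbRigid.dim_eq_of_isFinite_of_surjective A B u]
  obtain ⟨L, hL, hle⟩ := Groth.Agent.TatePol22.exists_ample_bound hφ lam hpol hdeg hgB
  obtain ⟨j, hj⟩ := hF B hgB L hL hle
  exact ⟨e j, by simpa using hj⟩

end Groth.Agent.S14941
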