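import Groth.Statements.S15655
import Groth.Agent.Lib.TateTors22.HomFinite
import Groth.Agent.Lib.AbRigid.Image

set_option autoImplicit false
universe u
open CategoryTheory MonoidalCategory CartesianMonoidalCategory MonObj GrpObj AlgebraicGeometry
open AbVar

namespace Groth.Agent.S15655

/-- Proof step: let A be a simple abelian variety over a field k — a proper, geometrically integral
commutative group scheme over k whose only abelian subvarieties over k (geometrically integral
closed subgroup schemes) are the trivial subgroup and A itself. Then every non-zero element of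
End⁰(A) = ℚ ⊗_ℤ End_k(A) (End_k(A) the ring of endomorphisms defined over k) is invertible: End⁰(A)
is a division algebra. (The published proposition is the semisimplicity of End⁰(A) for every abelian
variety; this row states the step of its proof for simple A.) -/
theorem result (k : Type u) [Field k]
    (A : Over (Spec (CommRingCat.of k)))
    [GrpObj A] [IsCommMonObj A] [IsProper A.hom] [GeometricallyIntegral A.hom]
    (hsimple : ∀ (B : Over (Spec (CommRingCat.of k))) [GrpObj B] [GeometricallyIntegral B.hom] (i : B ⟶ A) [IsMonHom i]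
      [IsClosedImmersion i.left], Subsingleton B.left ∨ IsIso i) :
    ∀ x : EndAV.End0 A, x ≠ 0 → IsUnit x := by
  have hzero : ∀ φ ψ : EndAV.End A, ψ ≠ 0 → φ * ψ = 0 → φ = 0 := by
    intro φ ψ hψ h
    obtain ⟨Z, gZ, i, q, hi, hq, hci, hZp, hZg, hqs, hqd, hqc, hqi⟩ :=
      Groth.Agent.AbRigid.exists_image A A ψ.toHom
    haveI := hi
    haveI := hci
    haveI := hZg
    rcases hsimple Z i with hsub | hiso
    · exfalso
      apply hψ
      haveI := hsub
      haveI : IsIntegral Z.left := GeometricallyIntegral.isIntegral_of_subsingleton Z.hom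
      let e : Spec (CommRingCat.of k) ⟶ Z.left := η[Z].left
      haveI : IsClosedImmersion e := isClosedImmersion_of_comp_eq_id (Y := Spec (.of k)) Z.hom e (Over.w η[Z])
      haveI : Surjective e := ⟨fun z => ⟨IsLocalRing.closedPoint k, Subsingleton.elim _ _⟩⟩
      haveI hie : IsIso e := isIso_of_isClosedImmersion_of_surjective e
      haveI : IsIso ((Over.forget _).map η[Z]) := hie
      haveI : IsIso η[Z] := isIso_of_reflects_iso η[Z] (Over.forget _)
      refine EndAV.End.ext ?_
      rw [← hqi, EndAV.End.toHom_zero, show q = 1 from ?_, MonObj.one_comp]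
      rw [Hom.one_def, ← IsIso.comp_inv_eq]
      exact toUnit_unique _ _
    · haveI := hiso
      haveI : IsReduced A.left := by
        haveI : IsIntegral A.left := GeometricallyIntegral.isIntegral_of_subsingleton A.hom
        infer_instance
      haveI : IsDominant ψ.toHom.left := by
        rw [← hqi, Over.comp_left]
        haveI : IsIso i.left := inferInstanceAs (IsIso ((Over.forget _).map i))
        infer_instance
      have h' : ψ.toHom ≫ φ.toHom = 1 := by rw [← EndAV.End.toHom_mul, h, EndAV.End.toHom_zero]
      refine EndAV.End.ext ?_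
      ext1
      rw [EndAV.End.toHom_zero]
      refine ext_of_isDominant_of_isSeparated A.hom (by rw [Over.w, Over.w]) ψ.toHom.left ?_
      rw [← Over.comp_left, ← Over.comp_left, h', MonObj.comp_one]
  haveI : Module.Finite ℤ (EndAV.End A) := Groth.Agent.TateTors22.finite_hom (A := A) (B := A)
  haveI : Module.Free ℤ (EndAV.End A) := Groth.Agent.TateTors22.free_hom (A := A) (B := A)
  have hinj : Function.Injective (EndAV.toEnd0 (A := A)) :=
    Algebra.TensorProduct.includeRight_injective Int.cast_injective
  have hrep : ∀ x : EndAV.End0 A, ∃ N : ℤ, N ≠ 0 ∧ ∃ φ : EndAV.End A, N • x = EndAV.toEnd0 φ := by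
    intro x
    induction x using TensorProduct.induction_on with
    | zero => exact ⟨1, one_ne_zero, 0, by rw [smul_zero, map_zero]⟩
    | tmul q φ =>
      refine ⟨q.den, Int.natCast_ne_zero.2 q.den_nz, q.num • φ, ?_⟩
      rw [EndAV.toEnd0_apply, TensorProduct.smul_tmul', TensorProduct.tmul_smul, TensorProduct.smul_tmul',
        zsmul_eq_mul, zsmul_eq_mul, _root_.mul_one]
      congr 1
      rw [Int.cast_natCast, mul_comm]
      exact q.mul_den_eq_num
    | add a b ha hb =>
      obtain ⟨N, hN, φ, hφ⟩ := ha
      obtain ⟨M, hM, χ, hχ⟩ := hb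
      refine ⟨N * M, mul_ne_zero hN hM, M • φ + N • χ, ?_⟩
      rw [map_add, map_zsmul, map_zsmul, ← hφ, ← hχ, smul_add, smul_smul, smul_smul, mul_comm M N]
  have hnz : ∀ x y : EndAV.End0 A, y ≠ 0 → x * y = 0 → x = 0 := by
    intro x y hy hxy
    obtain ⟨N, hN, φ, hφ⟩ := hrep x
    obtain ⟨M, hM, ψ, hψ⟩ := hrep y
    have hψ0 : ψ ≠ 0 := fun e => hy (by
      rw [e, map_zero, ← Int.cast_smul_eq_zsmul ℚ, smul_eq_zero] at hψ
      exact hψ.resolve_left (Int.cast_ne_zero.2 hM))
    have : φ * ψ = 0 := hinj (by rw [map_mul, ← hφ, ← hψ, smul_mul_smul_comm, hxy, smul_zero, map_zero])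
    rw [hzero φ ψ hψ0 this, map_zero, ← Int.cast_smul_eq_zsmul ℚ, smul_eq_zero] at hφ
    exact hφ.resolve_left (Int.cast_ne_zero.2 hN)
  intro x hx
  have hi : Function.Injective (LinearMap.mulLeft ℚ x) := (injective_iff_map_eq_zero _).2 fun y hy => by
    by_contra hy0
    exact hx (hnz x y hy0 hy)
  obtain ⟨y, hy⟩ := (LinearMap.injective_iff_surjective.1 hi) 1
  have hyx : y * x = 1 := hi (by
    show x * (y * x) = x * 1
    rw [← _root_.mul_assoc, show x * y = 1 from hy, _root_.one_mul, _root_.mul_one])
  exact ⟨⟨x, y, hy, hyx⟩, rfl⟩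

end Groth.Agent.S15655
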