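import Groth.Statements.S14942
import Groth.Agent.Lib.FrobPull22.CharFrob
import Groth.Agent.S15655

set_option autoImplicit false
universe u
open CategoryTheory MonoidalCategory CartesianMonoidalCategory MonObj GrpObj AlgebraicGeometry
open AbVar

namespace Groth.Agent.S14942

/-- Part 1: let A be a simple abelian variety over a finite field k with q elements — a proper,
geometrically integral commutative group scheme over k whose only abelian subvarieties over k
(geometrically integral closed subgroup schemes) are the trivial subgroup and A itself — with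
q-Frobenius endomorphism π_A (the identity on points, the q-th power map on sections; a
homomorphism). Let Ω be an algebraic closure of k, l a prime invertible in k, and assume (as is the
case) that the l-adic Tate module of Ω-points T_l A is free of finite rank over ℤ_l. Then the
characteristic polynomial of T_l(π_A), which has rational coefficients, is a power of the minimal
polynomial of π_A over ℚ: viewed over ℚ_l it equals h^n for some polynomial h with rational
coefficients irreducible over ℚ and some n. -/
theorem result (k Ω : Type u) [Field k] [Finite k] [Field Ω] [Algebra k Ω] [IsAlgClosure k Ω]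
    (l : ℕ) [Fact l.Prime] (hl : (l : k) ≠ 0) (A : Over (Spec (CommRingCat.of k)))
    [GrpObj A] [IsCommMonObj A] [IsProper A.hom] [GeometricallyIntegral A.hom]
    (hsimple : ∀ (B : Over (Spec (CommRingCat.of k))) [GrpObj B] [GeometricallyIntegral B.hom] (i : B ⟶ A) [IsMonHom i]
      [IsClosedImmersion i.left], Subsingleton B.left ∨ IsIso i)
    (πA : A ⟶ A) [IsMonHom πA] (hπAb : πA.left.base = 𝟙 _)
    (hπAle : ∀ U : A.left.Opens, U ≤ πA.left ⁻¹ᵁ U)
    (hπAapp : ∀ (U : A.left.Opens) (s : Γ(A.left, U)), (πA.left.appLE U U (hπAle U)).hom s = s ^ Nat.card k)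
    [Module.Free ℤ_[l] (AbDual.TateMod A l (SGA7.pt Ω))] [Module.Finite ℤ_[l] (AbDual.TateMod A l (SGA7.pt Ω))] :
    ∃ (h : Polynomial ℚ) (n : ℕ), Irreducible h ∧
      ((AbDual.tateMapₗ (l := l) (T := SGA7.pt Ω) πA).charpoly).map (algebraMap ℤ_[l] ℚ_[l]) =
        (h.map (algebraMap ℚ ℚ_[l])) ^ n := by
  haveI : IsAlgClosed Ω := IsAlgClosure.isAlgClosed k
  haveI := GeometricallyIntegral.isIntegral_of_subsingleton A.hom
  obtain ⟨g, hg⟩ : ∃ g : ℕ, topologicalKrullDim A.left = g := ⟨_, VarDim.dim_eq_sdim_genericPoint A.hom⟩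
  have hunit := Groth.Agent.S15655.result k A hsimple
  let φ : EndAV.End A := EndAV.End.of πA
  show ∃ (h : Polynomial ℚ) (n : ℕ), Irreducible h ∧
      ((EndAV.End.tateRep l (SGA7.pt (K := k) Ω) φ).charpoly).map (algebraMap ℤ_[l] ℚ_[l]) = _
  rcases subsingleton_or_nontrivial (EndAV.End0 A) with hs | hnt
  · refine ⟨Polynomial.X, 0, Polynomial.irreducible_X, ?_⟩
    haveI : Module.Finite ℤ (EndAV.End A) := Groth.Agent.TateTors22.finite_hom (A := A) (B := A)
    haveI : Module.Free ℤ (EndAV.End A) := Groth.Agent.TateTors22.free_hom (A := A) (B := A)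
    have h10 : (1 : EndAV.End A) = 0 :=
      Algebra.TensorProduct.includeRight_injective (A := ℚ) Int.cast_injective (Subsingleton.elim _ _)
    haveI : Subsingleton (AbDual.TateMod A l (SGA7.pt (K := k) Ω)) := ⟨fun a b => by
      have h1 : ∀ x, (EndAV.End.tateRep l (SGA7.pt (K := k) Ω) 1) x = (0 : AbDual.TateMod A l (SGA7.pt (K := k) Ω)) :=
        fun x => by rw [h10, map_zero]; rfl
      simp only [map_one, Module.End.one_apply] at h1
      rw [h1 a, h1 b]⟩
    rw [pow_zero, (LinearMap.charpoly_monic _).natDegree_eq_zero.1 (by rw [LinearMap.charpoly_natDegree, Module.finrank_zero_of_subsingleton]), Polynomial.map_one]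
  · haveI : NoZeroDivisors (EndAV.End0 A) := ⟨fun {a b} h => by
      by_cases ha : a = 0
      · exact Or.inl ha
      · exact Or.inr ((hunit a ha).mul_right_eq_zero.1 h)⟩
    haveI : IsDomain (EndAV.End0 A) := NoZeroDivisors.to_isDomain _
    have hirr : Irreducible (minpoly ℚ (EndAV.toEnd0 φ)) := minpoly.irreducible (AVDegree22.exists_int_minpoly φ).1
    obtain ⟨P, hP, hP'⟩ := AVDegree22.exists_charpoly_eq_minpoly_pow Ω hl hg φ hirr
    refine ⟨_, 2 * g / (minpoly ℚ (EndAV.toEnd0 φ)).natDegree, hirr, ?_⟩
    rw [← Polynomial.map_pow, ← hP', hP, Polynomial.map_map, Polynomial.map_map]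
    congr 1

end Groth.Agent.S14942
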