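import Groth.Statements.S14945
import Groth.Agent.Lib.TateCons19.Count
-- import your own Groth.Agent.* helpers here

set_option autoImplicit false
universe u
open CategoryTheory MonoidalCategory CartesianMonoidalCategory MonObj GrpObj AlgebraicGeometry
open scoped TensorProduct
open AbVar

namespace Groth.Agent.S14945

set_option linter.style.haveILetI false
set_option backward.isDefEq.respectTransparency.types false


/-- Clauses 1 and 2: let k be a finite field with algebraic closure Ω, l a prime invertible in k, and A,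
B abelian varieties over k (proper, geometrically integral commutative group schemes over k). For
each k-automorphism τ of Ω let ρ_A(τ), ρ_B(τ) be the ℤ_l-linear endomorphisms of the l-adic Tate
modules of Ω-points acting on every component by the Galois action of τ (this pins them). Then A and
B are isogenous over k — there are homomorphisms u : A → B, v : B → A and n > 0 with v ∘ u = n_A and
u ∘ v = n_B — if and only if V_l(A) = ℚ_l ⊗ T_l(A) and V_l(B) are isomorphic as Galois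
representations: there is a ℚ_l-linear isomorphism e : V_l(A) → V_l(B) with e ∘ (ℚ_l ⊗ ρ_A(τ)) =
(ℚ_l ⊗ ρ_B(τ)) ∘ e for every τ. -/
theorem result (k Ω : Type u) [Field k] [Finite k] [Field Ω] [Algebra k Ω] [IsAlgClosure k Ω]
    (l : ℕ) [Fact l.Prime] (hl : (l : k) ≠ 0) (A B : Over (Spec (CommRingCat.of k)))
    [GrpObj A] [IsCommMonObj A] [IsProper A.hom] [GeometricallyIntegral A.hom]
    [GrpObj B] [IsCommMonObj B] [IsProper B.hom] [GeometricallyIntegral B.hom]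
    (ρA : (Ω ≃ₐ[k] Ω) → Module.End ℤ_[l] (AbDual.TateMod A l (SGA7.pt Ω)))
    (hρA : ∀ (τ : Ω ≃ₐ[k] Ω) (z : AbDual.TateMod A l (SGA7.pt Ω)) (m : ℕ),
      (AbDual.TateMod.component A l (SGA7.pt Ω) m (ρA τ z)).toMul =
        SGA7.galAct τ (AbDual.TateMod.component A l (SGA7.pt Ω) m z).toMul)
    (ρB : (Ω ≃ₐ[k] Ω) → Module.End ℤ_[l] (AbDual.TateMod B l (SGA7.pt Ω)))
    (hρB : ∀ (τ : Ω ≃ₐ[k] Ω) (z : AbDual.TateMod B l (SGA7.pt Ω)) (m : ℕ),
      (AbDual.TateMod.component B l (SGA7.pt Ω) m (ρB τ z)).toMul =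
        SGA7.galAct τ (AbDual.TateMod.component B l (SGA7.pt Ω) m z).toMul) :
    (∃ (u : A ⟶ B) (_ : IsMonHom u) (v : B ⟶ A) (_ : IsMonHom v) (n : ℕ), 0 < n ∧
        u ≫ v = (𝟙 A) ^ n ∧ v ≫ u = (𝟙 B) ^ n) ↔
      ∃ e : (ℚ_[l] ⊗[ℤ_[l]] AbDual.TateMod A l (SGA7.pt Ω)) ≃ₗ[ℚ_[l]] (ℚ_[l] ⊗[ℤ_[l]] AbDual.TateMod B l (SGA7.pt Ω)),
        ∀ τ : Ω ≃ₐ[k] Ω, (e : (ℚ_[l] ⊗[ℤ_[l]] AbDual.TateMod A l (SGA7.pt Ω)) →ₗ[ℚ_[l]] (ℚ_[l] ⊗[ℤ_[l]] AbDual.TateMod B l (SGA7.pt Ω))) ∘ₗ (ρA τ).baseChange ℚ_[l] =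
          ((ρB τ).baseChange ℚ_[l]) ∘ₗ (e : (ℚ_[l] ⊗[ℤ_[l]] AbDual.TateMod A l (SGA7.pt Ω)) →ₗ[ℚ_[l]] (ℚ_[l] ⊗[ℤ_[l]] AbDual.TateMod B l (SGA7.pt Ω))) := by
  classical
  obtain ⟨πA, _, hA⟩ := Groth.Agent.TateCons19.exists_isFrob A
  obtain ⟨πB, _, hB⟩ := Groth.Agent.TateCons19.exists_isFrob B
  have hTA : ∀ z, AbDual.tateMapₗ (l := l) (T := SGA7.pt (K := k) Ω) πA z =
      ρA (Groth.Agent.TateCons19.frobAut (k := k) Ω) z := fun z => Groth.Agent.TateSub22.tate_ext Ω l fun n =>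
    (Groth.Agent.TateCons19.comp_isFrob Ω hA _).trans (hρA _ z n).symm
  have hTB : ∀ z, AbDual.tateMapₗ (l := l) (T := SGA7.pt (K := k) Ω) πB z =
      ρB (Groth.Agent.TateCons19.frobAut (k := k) Ω) z := fun z => Groth.Agent.TateSub22.tate_ext Ω l fun n =>
    (Groth.Agent.TateCons19.comp_isFrob Ω hB _).trans (hρB _ z n).symm
  have hVA : Groth.Agent.TateCons19.vMap Ω l (EndAV.Hom.of πA) =
      (ρA (Groth.Agent.TateCons19.frobAut (k := k) Ω)).baseChange ℚ_[l] :=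
    congrArg (LinearMap.baseChange ℚ_[l]) (LinearMap.ext hTA)
  have hVB : Groth.Agent.TateCons19.vMap Ω l (EndAV.Hom.of πB) =
      (ρB (Groth.Agent.TateCons19.frobAut (k := k) Ω)).baseChange ℚ_[l] :=
    congrArg (LinearMap.baseChange ℚ_[l]) (LinearMap.ext hTB)
  refine ⟨fun ⟨u, _, v, _, n, hn, huv, hvu⟩ => ?_, fun ⟨e, he⟩ => ?_⟩
  · obtain ⟨e, -, heu⟩ := Groth.Agent.TateCons19.exists_equiv_of_isogeny Ω l hl hA hB u v n hn huv hvu
    refine ⟨e, fun τ => ?_⟩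
    rw [heu]
    show (EndAV.Hom.tateMap l (SGA7.pt (K := k) Ω) (EndAV.Hom.of u)).baseChange ℚ_[l] ∘ₗ _ =
      _ ∘ₗ (EndAV.Hom.tateMap l (SGA7.pt (K := k) Ω) (EndAV.Hom.of u)).baseChange ℚ_[l]
    rw [← LinearMap.baseChange_comp, ← LinearMap.baseChange_comp]
    refine congrArg (LinearMap.baseChange ℚ_[l]) (LinearMap.ext fun z => Groth.Agent.TateSub22.tate_ext Ω l fun n => ?_)
    refine Eq.trans ?_ (hρB τ _ n).symm
    show (AbDual.TateMod.component A l (SGA7.pt Ω) n (ρA τ z)).toMul ≫ u = _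
    rw [hρA]
    exact Category.assoc _ _ _
  · refine Groth.Agent.TateCons19.exists_isogeny_of_equiv Ω l hl hA hB
      (Groth.Agent.TateCons19.tateHyp Ω l hl hA hB) (Groth.Agent.TateCons19.tateHyp Ω l hl hB hA) e fun x => ?_
    rw [hVA, hVB]
    exact LinearMap.congr_fun (he _) x

end Groth.Agent.S14945
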