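import Groth.Statements.S14947
import Groth.Agent.Lib.AVDegree22.CharPoly

set_option autoImplicit false
universe u
open CategoryTheory MonoidalCategory CartesianMonoidalCategory MonObj GrpObj AlgebraicGeometry
open AbVar

namespace Groth.Agent.S14947

/-- Degree as determinant: let A be an abelian variety over a finite field k (a proper, geometrically
integral commutative group scheme over k), Ω an algebraic closure of k, l a prime invertible in k,
and f an endomorphism of A (a homomorphism); assume (as is the case) that the l-adic Tate module of
Ω-points T_l A is free of finite rank over ℤ_l. If f is finite (an isogeny), its degree — the rank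
of the finite flat morphism f at any point of A — equals the determinant of T_l(f); if f is not
finite, the determinant of T_l(f) is 0 (the degree of a non-isogeny being 0 by convention). (The
published statement is the l-independence of the characteristic polynomial of Frobenius; this row
states the identity deg f = det T_l(f) that its proof establishes for every endomorphism.) -/
theorem result (k Ω : Type u) [Field k] [Finite k] [Field Ω] [Algebra k Ω] [IsAlgClosure k Ω]
    (l : ℕ) [Fact l.Prime] (hl : (l : k) ≠ 0) (A : Over (Spec (CommRingCat.of k)))
    [GrpObj A] [IsCommMonObj A] [IsProper A.hom] [GeometricallyIntegral A.hom]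
    (f : A ⟶ A) [IsMonHom f]
    [Module.Free ℤ_[l] (AbDual.TateMod A l (SGA7.pt Ω))] [Module.Finite ℤ_[l] (AbDual.TateMod A l (SGA7.pt Ω))] :
    (IsFinite f.left → ∀ a : A.left,
        ((Scheme.Hom.finrank f.left a : ℕ) : ℤ_[l]) = LinearMap.det (AbDual.tateMapₗ (l := l) (T := SGA7.pt Ω) f)) ∧
      (¬ IsFinite f.left → LinearMap.det (AbDual.tateMapₗ (l := l) (T := SGA7.pt Ω) f) = 0) := by
  haveI : AlgebraicGeometry.IsIntegral A.left := GeometricallyIntegral.isIntegral_of_subsingleton A.hom
  haveI : IsAlgClosed Ω := IsAlgClosure.isAlgClosed k
  refine ⟨fun hf a => ?_, fun hf => Groth.Agent.AVDegree22.det_eq_zero_of_not_isFinite Ω l hl (EndAV.End.of f) hf⟩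
  haveI : IsFinite (EndAV.End.of f).toHom.left := hf
  have h := Groth.Agent.AVDegree22.deg_eq_det Ω l hl (EndAV.End.of f) hf
  rw [← Groth.Agent.AVDegree22.finrank_eq_deg (EndAV.End.of f) a] at h
  show ((Scheme.Hom.finrank f.left a : ℕ) : ℤ_[l]) = _
  exact h

end Groth.Agent.S14947
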