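import Groth.Statements.S1495
import Groth.Agent.Lib.AmpleFib.Proper

set_option autoImplicit false
universe u
attribute [local instance] HasDerivedCategory.standard
open FlatMor

namespace Groth.Agent.S1495

open AlgebraicGeometry CategoryTheory Limits in
/-- Let f : X → Y be proper, L an invertible O_X-module and y a point such that the pullback of L to the
fibre X_y is ample. Then there is an open neighbourhood V of y such that L restricted to f⁻¹(V) is
ample relative to f⁻¹(V) → V. -/
theorem result {X Y : Scheme.{u}} (f : X ⟶ Y) [IsProper f] (L : X.Modules) (hL : PicF.IsInvertible L)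
    (y : Y) (hy : CohB1.IsAmple ((Scheme.Modules.pullback (f.fiberι y)).obj L)) :
    ∃ V : Y.Opens, y ∈ V ∧ RelAmple.IsRelAmple (f ∣_ V) (L.restrict (f ⁻¹ᵁ V).ι) := by
  obtain ⟨V, hV, hyV, hA⟩ := AmpleFib.exists_nhd_isAmple_proper f hL y hy
  haveI : IsAffine (V : Scheme) := hV
  exact ⟨V, hyV, (RA.isRelAmple_iff_isAmple (f ∣_ V)).2 hA⟩

end Groth.Agent.S1495
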