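import Groth.Statements.S14956
import Groth.Agent.Lib.Brauer25.AzumayaGlue

set_option autoImplicit false
universe u
open TensorProduct
open Brauer

namespace Groth.Agent.S14956

/-- Let B' = B ×_A A' be a fibre product of commutative rings with A' → A surjective and D' a B'-algebra
(associative, unital, not necessarily commutative). Then D' is an Azumaya algebra over B' if and
only if B ⊗_{B'} D' is an Azumaya algebra over B and A' ⊗_{B'} D' is an Azumaya algebra over A'.
(The published statement is for a quasi-coherent algebra on the pushout scheme Y of a closed
immersion and an affine morphism; this row is the case of an affine Y. Azumaya is taken in the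
finite-projective-faithful sense.) -/
theorem result (B' B A' A : Type u) [CommRing B'] [CommRing B] [CommRing A'] [CommRing A]
    [Algebra B' B] [Algebra B' A'] [Algebra B A] [Algebra A' A] [Algebra B' A] [IsScalarTower B' B A] [IsScalarTower B' A' A]
    (hsq : EtMil.IsFibreSquare B' B A' A)
    (D' : Type u) [Ring D'] [Algebra B' D'] :
    IsAzumaya B' D' ↔ IsAzumaya B (B ⊗[B'] D') ∧ IsAzumaya A' (A' ⊗[B'] D') := by
  constructor
  · intro h
    exact ⟨Groth.Agent.Brauer25.isAzumaya_baseChange (R := B') D' B,
      Groth.Agent.Brauer25.isAzumaya_baseChange (R := B') D' A'⟩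
  · rintro ⟨h1, h2⟩
    exact Groth.Agent.Brauer25.isAzumaya_of_pair hsq D'
end Groth.Agent.S14956
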