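import Groth.Statements.S14957
import Mathlib.RingTheory.Ideal.AssociatedPrime.Finiteness
import Mathlib.RingTheory.Jacobson.Ring
import Mathlib.RingTheory.Artinian.Module
import Mathlib.RingTheory.Artinian.Ring
import Mathlib.RingTheory.Regular.IsSMulRegular
import Mathlib.RingTheory.AdicCompletion.Basic
import Mathlib.RingTheory.IntegralDomain
import Mathlib.RingTheory.FinitePresentation
import Mathlib.RingTheory.Flat.FaithfullyFlat.Basic
import Mathlib.RingTheory.Flat.FaithfullyFlat.Algebra
import Mathlib.RingTheory.IntegralClosure.IntegrallyClosed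
import Mathlib.LinearAlgebra.Matrix.MvPolynomial
import Mathlib.RingTheory.Polynomial.Basic
import Mathlib.RingTheory.Localization.FractionRing
import Mathlib.RingTheory.IntegralClosure.IsIntegral.Basic
import Mathlib.LinearAlgebra.TensorProduct.Tower
import Mathlib.RingTheory.Ideal.Quotient.Operations
import Mathlib.RingTheory.Ideal.Colon
import Mathlib.RingTheory.Support
import Mathlib.RingTheory.Noetherian.OfPrime
import Mathlib.RingTheory.HopkinsLevitzki
import Mathlib.RingTheory.Ideal.AssociatedPrime.Localization
import Mathlib.RingTheory.Flat.FaithfullyFlat.Descent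
import Mathlib.LinearAlgebra.TensorProduct.Quotient
import Mathlib.LinearAlgebra.TensorProduct.RightExactness
import Mathlib.RingTheory.PrincipalIdealDomain
import Mathlib.LinearAlgebra.Matrix.Charpoly.Basic
import Mathlib.RingTheory.Flat.Stability
import Mathlib.RingTheory.Nilpotent.Lemmas
import Mathlib.Algebra.Module.Projective
import Mathlib.RingTheory.LocalRing.ResidueField.Basic
import Mathlib.GroupTheory.OrderOfElement
import Mathlib.Algebra.EuclideanDomain.Int
import Mathlib.RingTheory.Spectrum.Maximal.Basic

set_option autoImplicit false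
universe u
open CAlg

namespace Groth.Agent.S14957
open TensorProduct

/-- Let A be a commutative ring and u : M → M', w : M → N, w' : M' → N', v : N → N' a commutative square
of A-linear maps (w' ∘ u = v ∘ w). The square is cartesian, i.e. the induced map M → N ×_{N'} M' is
bijective, if and only if u induces a bijection from ker w onto ker w' and v induces an injection
from coker w into coker w'. Here the three conditions are written elementwise. -/
theorem result (A : Type u) [CommRing A]
    (M M' N N' : Type u) [AddCommGroup M] [Module A M] [AddCommGroup M'] [Module A M']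
    [AddCommGroup N] [Module A N] [AddCommGroup N'] [Module A N']
    (u : M →ₗ[A] M') (w : M →ₗ[A] N) (w' : M' →ₗ[A] N') (v : N →ₗ[A] N') (hc : w'.comp u = v.comp w) :
    (Function.Injective (w.prod u) ∧ ∀ (x : N) (y : M'), v x = w' y → ∃ m : M, w m = x ∧ u m = y) ↔
    (LinearMap.ker w ⊓ LinearMap.ker u = ⊥ ∧ Submodule.map u (LinearMap.ker w) = LinearMap.ker w' ∧
      ∀ x : N, v x ∈ LinearMap.range w' → x ∈ LinearMap.range w) := by
  have hc' : ∀ m, w' (u m) = v (w m) := fun m => LinearMap.congr_fun hc m
  rw [← LinearMap.ker_eq_bot, LinearMap.ker_prod]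
  refine and_congr_right fun _ => ?_
  constructor
  · intro H; refine ⟨le_antisymm ?_ ?_, ?_⟩
    · rintro _ ⟨m, hm, rfl⟩; simp only [LinearMap.mem_ker, hc']; simp [show w m = 0 from hm]
    · intro y hy; obtain ⟨m, h1, h2⟩ := H 0 y (by simp [show w' y = 0 from hy]); exact ⟨m, h1, h2⟩
    · rintro x ⟨y, hy⟩; obtain ⟨m, h1, -⟩ := H x y hy.symm; exact ⟨m, h1⟩
  · rintro ⟨hk, hr⟩ x y hxy
    obtain ⟨m, hm⟩ := hr x ⟨y, hxy.symm⟩
    have : y - u m ∈ LinearMap.ker w' := by simp [hc', hm, hxy]
    rw [← hk] at this; obtain ⟨k, hk1, hk2⟩ := this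
    exact ⟨m + k, by simp [hm, show w k = 0 from hk1], by simp [hk2]⟩

end Groth.Agent.S14957
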