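import Groth.Statements.S14958
import Groth.Agent.Lib.TorSurjH7.Basic
import Groth.Agent.Lib.PinchH7.Square

set_option autoImplicit false
universe u
open TensorProduct CategoryTheory CategoryTheory.Limits
open EtAlg

namespace Groth.Agent.S14958

/-- Let B' = B ×_A A' be a fibre product of commutative rings with A' → A surjective and L' a B'-module.
Then L' is a fixed point of the glueing adjunction, i.e. the canonical map from L' to the compatible
pairs in (B ⊗_{B'} L') × (A' ⊗_{B'} L') is injective (it is always surjective), if and only if the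
map Tor_1(L', B) ⊕ Tor_1(L', A') → Tor_1(L', A) over B' induced by B → A and A' → A is surjective.
Here Tor_1(L', –) is the first left derived functor of L' ⊗_{B'} – on B'-modules. -/
theorem result (B' B A' A : Type u) [CommRing B'] [CommRing B] [CommRing A'] [CommRing A]
    [Algebra B' B] [Algebra B' A'] [Algebra B A] [Algebra A' A] [Algebra B' A] [IsScalarTower B' B A] [IsScalarTower B' A' A]
    (hsq : EtMil.IsFibreSquare B' B A' A)
    (L' : Type u) [AddCommGroup L'] [Module B' L'] :
    (∀ l : L', ((1 : B) ⊗ₜ[B'] l : B ⊗[B'] L') = 0 → ((1 : A') ⊗ₜ[B'] l : A' ⊗[B'] L') = 0 → l = 0) ↔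
    Epi (biprod.desc
      (((Tor (ModuleCat.{u} B') 1).obj (ModuleCat.of B' L')).map
        (ModuleCat.ofHom (IsScalarTower.toAlgHom B' B A).toLinearMap))
      (((Tor (ModuleCat.{u} B') 1).obj (ModuleCat.of B' L')).map
        (ModuleCat.ofHom (IsScalarTower.toAlgHom B' A' A).toLinearMap))) := by
  classical
  let F := (Tor (ModuleCat.{u} B') 1).obj (ModuleCat.of B' L')
  let iB := (IsScalarTower.toAlgHom B' B A).toLinearMap
  let iA := (IsScalarTower.toAlgHom B' A' A).toLinearMap
  let q := Groth.Agent.PinchH7.sqDiff B' B A' A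
  let incl := Groth.Agent.PinchH7.sqIncl B' B' B A'
  have hq : Function.Surjective q := Groth.Agent.PinchH7.sqDiff_surjective hsq
  haveI : F.Additive := ⟨fun {X Y f g} => by
    let G := (MonoidalCategory.tensoringLeft (ModuleCat.{u} B')).obj (ModuleCat.of B' L')
    let P := ProjectiveResolution.of X
    let Q := ProjectiveResolution.of Y
    show (G.leftDerived 1).map (f + g) = (G.leftDerived 1).map f + (G.leftDerived 1).map g
    rw [G.leftDerived_map_eq 1 (f + g) (ProjectiveResolution.lift f P Q + ProjectiveResolution.lift g P Q)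
        (by rw [Preadditive.add_comp, ProjectiveResolution.lift_commutes, ProjectiveResolution.lift_commutes,
          Functor.map_add, Preadditive.comp_add]),
      G.leftDerived_map_eq 1 f _ (ProjectiveResolution.lift_commutes f P Q),
      G.leftDerived_map_eq 1 g _ (ProjectiveResolution.lift_commutes g P Q),
      Functor.map_add, Preadditive.add_comp, Preadditive.comp_add]⟩
  have he : Epi (biprod.desc (F.map (ModuleCat.ofHom iB)) (F.map (ModuleCat.ofHom iA))) ↔
      Epi (F.map (ModuleCat.ofHom q)) := by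
    have h1 : ModuleCat.ofHom (LinearMap.fst B' B A') ≫ ModuleCat.ofHom iB -
        ModuleCat.ofHom (LinearMap.snd B' B A') ≫ ModuleCat.ofHom iA = ModuleCat.ofHom q :=
      ModuleCat.hom_ext (LinearMap.ext fun x => (Groth.Agent.PinchH7.sqDiff_apply (R := B') x).symm)
    have h2 : ModuleCat.ofHom (LinearMap.inl B' B A') ≫ ModuleCat.ofHom q = ModuleCat.ofHom iB :=
      ModuleCat.hom_ext (LinearMap.ext fun x => by simp [q, iB, Groth.Agent.PinchH7.sqDiff])
    have h3 : -(ModuleCat.ofHom (LinearMap.inr B' B A') ≫ ModuleCat.ofHom q) = ModuleCat.ofHom iA :=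
      ModuleCat.hom_ext (LinearMap.ext fun x => by simp [q, iA, Groth.Agent.PinchH7.sqDiff])
    constructor
    · intro h
      refine epi_of_epi_fac (f := biprod.desc (F.map (ModuleCat.ofHom (LinearMap.inl B' B A')))
        (-F.map (ModuleCat.ofHom (LinearMap.inr B' B A')))) (h := biprod.desc (F.map (ModuleCat.ofHom iB)) (F.map (ModuleCat.ofHom iA))) ?_
      refine biprod.hom_ext' _ _ ?_ ?_ <;> simp only [biprod.inl_desc_assoc, biprod.inr_desc_assoc, biprod.inl_desc, biprod.inr_desc]
      · rw [← F.map_comp, h2]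
      · rw [Preadditive.neg_comp, ← F.map_comp, ← F.map_neg, h3]
    · intro h
      refine epi_of_epi_fac (f := biprod.lift (F.map (ModuleCat.ofHom (LinearMap.fst B' B A')))
        (-F.map (ModuleCat.ofHom (LinearMap.snd B' B A')))) (h := F.map (ModuleCat.ofHom q)) ?_
      rw [biprod.lift_desc, Preadditive.neg_comp, ← F.map_comp, ← F.map_comp, ← sub_eq_add_neg, ← F.map_sub, h1]
  rw [he, Groth.Agent.TorSurjH7.epi_tor_one_map_iff q hq]
  have hker : LinearMap.range incl = LinearMap.ker q := ((Groth.Agent.PinchH7.sq_exact hsq).linearMap_ker_eq).symm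
  let e : B' ≃ₗ[B'] LinearMap.ker q :=
    (LinearEquiv.ofInjective incl (Groth.Agent.PinchH7.sqIncl_injective hsq)).trans (LinearEquiv.ofEq _ _ hker)
  have hfac : (LinearMap.ker q).subtype.lTensor L' ∘ₗ (e.lTensor L').toLinearMap = incl.lTensor L' := by
    exact TensorProduct.ext' fun x y => rfl
  have hval : ∀ l : L', TensorProduct.prodRight B' B' L' B A' (incl.lTensor L' (l ⊗ₜ 1)) = (l ⊗ₜ 1, l ⊗ₜ 1) := fun l => by
    simp [incl, Groth.Agent.PinchH7.sqIncl]
  have hone : ∀ x : L' ⊗[B'] B', ∃ l, x = l ⊗ₜ 1 := fun x =>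
    ⟨TensorProduct.rid B' L' x, (TensorProduct.rid B' L').injective (by simp)⟩
  constructor
  · intro h
    rw [injective_iff_map_eq_zero]
    intro z hz
    obtain ⟨w, rfl⟩ := (e.lTensor L').surjective z
    obtain ⟨l, rfl⟩ := hone w
    have h1 := hval l
    rw [← hfac] at h1
    erw [LinearMap.comp_apply, hz, map_zero] at h1
    have hl : l = 0 := h l ((TensorProduct.comm B' L' B).symm.injective.eq_iff.1 (by simpa using (congrArg Prod.fst h1).symm))
      ((TensorProduct.comm B' L' A').symm.injective.eq_iff.1 (by simpa using (congrArg Prod.snd h1).symm))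
    simp [hl]
  · intro h l hB hA
    have hB' : (l ⊗ₜ[B'] (1 : B) : L' ⊗[B'] B) = 0 := by simpa using congrArg (TensorProduct.comm B' B L') hB
    have hA' : (l ⊗ₜ[B'] (1 : A') : L' ⊗[B'] A') = 0 := by simpa using congrArg (TensorProduct.comm B' A' L') hA
    have h1 := hval l
    rw [hB', hA', show ((0 : L' ⊗[B'] B), (0 : L' ⊗[B'] A')) = 0 from rfl, LinearEquiv.map_eq_zero_iff, ← hfac] at h1
    erw [LinearMap.comp_apply] at h1
    have h2 := (LinearEquiv.map_eq_zero_iff _).1 ((injective_iff_map_eq_zero _).1 h _ h1)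
    simpa using congrArg (TensorProduct.rid B' L') h2

end Groth.Agent.S14958
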