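import Groth.Statements.S1496
import Groth.Agent.Lib.RelAmple18.Twist
import Groth.Agent.Lib.AmpleImm18.General
import Groth.Agent.S4414
import Groth.Agent.Lib.QuotProj11.Proper

set_option autoImplicit false
universe u
attribute [local instance] HasDerivedCategory.standard
open FlatMor
open AlgebraicGeometry CategoryTheory Limits Groth.Agent

namespace Groth.Agent.S1496

open AlgebraicGeometry CategoryTheory Limits in
/-- Let S be a scheme carrying an ample invertible sheaf and f : X → S a morphism. Then f is a closed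
immersion into some projective space over S (f factors as a closed immersion X → Pⁿ_S followed by
the projection Pⁿ_S → S, for some n) if and only if f is proper and X carries an ample invertible
sheaf; and the latter holds if and only if f is proper and some O_X-module is ample relative to f. -/
theorem result {X S : Scheme.{u}} (hS : ∃ N : S.Modules, CohB1.IsAmple N) (f : X ⟶ S) :
    ((∃ (n : ℕ) (i : X ⟶ CohB1.ProjSpaceOver n S), IsClosedImmersion i ∧ i ≫ pullback.snd (CohB1.ProjSpace.toSpec n (ULift.{u} ℤ)) (specULiftZIsTerminal.from S) = f) ↔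
      (IsProper f ∧ ∃ L : X.Modules, CohB1.IsAmple L)) ∧
    ((IsProper f ∧ ∃ L : X.Modules, CohB1.IsAmple L) ↔ (IsProper f ∧ ∃ L : X.Modules, RelAmple.IsRelAmple f L)) := by
  obtain ⟨N, hN⟩ := hS
  haveI : CompactSpace S := (Groth.Agent.Amp.isAmple_iff.1 hN).2.1
  have hrel : ∀ {L : X.Modules}, IsProper f → CohB1.IsAmple L → RelAmple.IsRelAmple f L := fun hf h => by
    haveI := hf
    exact (RA.isRelAmple_def f).2 fun V hV => ((RA.isAmple_iff_ampleOn_top).1 h).mono le_top (RA.isCompact_preimage f hV)
  have hback : IsProper f → (∃ L : X.Modules, RelAmple.IsRelAmple f L) → ∃ L : X.Modules, CohB1.IsAmple L := by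
    rintro hf ⟨L, hL⟩
    haveI := hf
    haveI : CompactSpace X := QuasiCompact.compactSpace_of_compactSpace f
    obtain ⟨n₀, hn⟩ := RA.exists_isAmple_twist f hL hN
    exact ⟨_, hn n₀ le_rfl⟩
  refine ⟨⟨?_, ?_⟩, ⟨fun h => ⟨h.1, h.2.elim fun L hL => ⟨L, hrel h.1 hL⟩⟩, fun h => ⟨h.1, hback h.1 h.2⟩⟩⟩
  · rintro ⟨n, i, hi, hif⟩
    haveI : IsProper (CohB1.ProjSpaceOver.toBase n S) :=
      QuotProj11.isProper_of_isHProjective ⟨n, 𝟙 _, inferInstance, Category.id_comp _⟩
    have hp : IsProper f := by
      rw [← hif]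
      show IsProper (i ≫ CohB1.ProjSpaceOver.toBase n S)
      infer_instance
    haveI := hp
    exact ⟨hp, hback hp ⟨_, inferInstance, fun V => AmpleImm18.isAmple_restrict_twistOver f i hif V.2⟩⟩
  · rintro ⟨hp, L, hL⟩
    haveI := hp
    obtain ⟨m₀, hm⟩ := AmpleImm18.exists_immersion_over f hL (_root_.PicLoc.isInvertible_structureModule X)
    obtain ⟨n, i, hi, hif, -⟩ := hm m₀ le_rfl
    haveI := hi
    haveI : IsProper (CohB1.ProjSpaceOver.toBase n S) :=
      QuotProj11.isProper_of_isHProjective ⟨n, 𝟙 _, inferInstance, Category.id_comp _⟩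
    haveI : IsProper (i ≫ CohB1.ProjSpaceOver.toBase n S) := hif ▸ hp
    haveI : IsProper i := IsProper.of_comp i (CohB1.ProjSpaceOver.toBase n S)
    exact ⟨n, i, IsClosedImmersion.of_isPreimmersion i i.isClosedMap.isClosed_range, hif⟩

end Groth.Agent.S1496
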