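import Groth.Statements.S14965
import Groth.Agent.Lib.Brauer25.AzumayaGlue

set_option autoImplicit false
universe u
open TensorProduct
open Brauer

namespace Groth.Agent.S14965

/-- Let B' = B ×_A A' be a fibre product of commutative rings with A' → A surjective, N an Azumaya
B-algebra, M' an Azumaya A'-algebra and φ : A ⊗_B N ≅ A ⊗_{A'} M' an isomorphism of A-algebras. If a
B'-algebra D' with B'-algebra homomorphisms π₁ : D' → N and π₂ : D' → M' is the glued algebra N ×_φ
M', in the sense that (π₁, π₂) is injective with image the pairs (n, m') satisfying φ(1 ⊗ n) = 1 ⊗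
m', then D' is an Azumaya B'-algebra. (The published statement is for Azumaya algebras on the
pushout scheme of a closed immersion and an affine morphism, glued as u_*B' ×_{h_*} f_*A; this row
is the case of an affine pushout.) -/
theorem result (B' B A' A : Type u) [CommRing B'] [CommRing B] [CommRing A'] [CommRing A]
    [Algebra B' B] [Algebra B' A'] [Algebra B A] [Algebra A' A] [Algebra B' A] [IsScalarTower B' B A] [IsScalarTower B' A' A]
    (hsq : EtMil.IsFibreSquare B' B A' A)
    (N : Type u) [Ring N] [Algebra B N] [Algebra B' N] [IsScalarTower B' B N] [IsAzumaya B N]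
    (M' : Type u) [Ring M'] [Algebra A' M'] [Algebra B' M'] [IsScalarTower B' A' M'] [IsAzumaya A' M']
    (φ : A ⊗[B] N ≃ₐ[A] A ⊗[A'] M')
    (D' : Type u) [Ring D'] [Algebra B' D'] (π₁ : D' →ₐ[B'] N) (π₂ : D' →ₐ[B'] M')
    (hinj : ∀ d : D', π₁ d = 0 → π₂ d = 0 → d = 0)
    (himg : ∀ (n : N) (m' : M'), φ ((1 : A) ⊗ₜ[B] n) = (1 : A) ⊗ₜ[A'] m' ↔ ∃ d : D', π₁ d = n ∧ π₂ d = m') :
    IsAzumaya B' D' := by
  let ψ : A ⊗[B] N ≃ₗ[A] A ⊗[A'] M' := φ.toLinearEquiv
  let d : D' →ₗ[B'] EtMil.glue B' ψ := LinearMap.codRestrict _ (π₁.toLinearMap.prod π₂.toLinearMap)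
    (fun x => (himg (π₁ x) (π₂ x)).2 ⟨x, rfl, rfl⟩)
  have hd : Function.Bijective d := by
    refine ⟨(injective_iff_map_eq_zero _).2 fun x hx => ?_, fun y => ?_⟩
    · have h0 := congrArg Subtype.val hx
      exact hinj x (congrArg Prod.fst h0) (congrArg Prod.snd h0)
    · obtain ⟨x, h1, h2⟩ := (himg y.1.1 y.1.2).1 y.2
      exact ⟨x, Subtype.ext (Prod.ext h1 h2)⟩
  let e := LinearEquiv.ofBijective d hd
  let f₁ : B ⊗[B'] D' →ₐ[B] N := Algebra.TensorProduct.lift (Algebra.ofId B N) π₁
    (fun b x => Algebra.commutes b _)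
  let f₂ : A' ⊗[B'] D' →ₐ[A'] M' := Algebra.TensorProduct.lift (Algebra.ofId A' M') π₂
    (fun b x => Algebra.commutes b _)
  have h₁ : ∀ z, f₁ z = LinearMap.liftBaseChange B (EtMil.glueFst B' ψ) (e.toLinearMap.baseChange B z) := by
    intro z
    induction z using TensorProduct.induction_on with
    | zero => simp
    | tmul b x => simp [f₁, Algebra.smul_def, Algebra.ofId_apply]; rfl
    | add x y hx hy => rw [map_add, map_add, map_add, hx, hy]
  have h₂ : ∀ z, f₂ z = LinearMap.liftBaseChange A' (EtMil.glueSnd B' ψ) (e.toLinearMap.baseChange A' z) := by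
    intro z
    induction z using TensorProduct.induction_on with
    | zero => simp
    | tmul b x => simp [f₂, Algebra.smul_def, Algebra.ofId_apply]; rfl
    | add x y hx hy => rw [map_add, map_add, map_add, hx, hy]
  have hb₁ : Function.Bijective f₁ := by
    rw [funext h₁]
    exact (Groth.Agent.MilnorH7.glue_baseChange_fst_bijective ψ
      (Groth.Agent.MilnorH7.weak_of_isFibreSquare hsq)).comp (e.baseChange B' B D' _).bijective
  have hb₂ : Function.Bijective f₂ := by
    rw [funext h₂]
    exact (Groth.Agent.MilnorH7.glue_baseChange_snd_bijective ψ hsq).comp (e.baseChange B' A' D' _).bijective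
  haveI : IsAzumaya B (B ⊗[B'] D') := IsAzumaya.of_AlgEquiv B N (B ⊗[B'] D') (AlgEquiv.ofBijective f₁ hb₁).symm
  haveI : IsAzumaya A' (A' ⊗[B'] D') := IsAzumaya.of_AlgEquiv A' M' (A' ⊗[B'] D') (AlgEquiv.ofBijective f₂ hb₂).symm
  exact Groth.Agent.Brauer25.isAzumaya_of_pair hsq D'
end Groth.Agent.S14965
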