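import Groth.Statements.S14966
import Groth.Agent.Lib.MilnorSqH7.Glue

set_option autoImplicit false
universe u
open EtAlg

namespace Groth.Agent.S14966

/-- Let A → A' be an injective homomorphism of commutative rings and let I ⊆ A be the conductor, i.e.
the annihilator of the A-module A'/A. Then the conductor square formed by A → A/I, A → A', A/I →
A'/IA' and A' → A'/IA' is a fibre product square of rings with A' → A'/IA' surjective: A = A/I
×_{A'/IA'} A'. (The published Lemma is for the conductor square of a finite modification of schemes;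
this row is the underlying statement for one injective ring map, which needs no finiteness.) -/
theorem result (A A' : Type u) [CommRing A] [CommRing A'] [Algebra A A']
    (hinj : Function.Injective (algebraMap A A')) :
    EtMil.IsFibreSquare A (A ⧸ Module.annihilator A (A' ⧸ LinearMap.range (Algebra.linearMap A A'))) A'
      (A' ⧸ Ideal.map (algebraMap A A') (Module.annihilator A (A' ⧸ LinearMap.range (Algebra.linearMap A A')))) := by
  set J := Module.annihilator A (A' ⧸ LinearMap.range (Algebra.linearMap A A')) with hJ
  have hJmem : ∀ j ∈ J, ∀ a' : A', ∃ a : A, algebraMap A A' a = algebraMap A A' j * a' := by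
    intro j hj a'
    have h := Module.mem_annihilator.1 hj (Submodule.Quotient.mk a')
    rw [← Submodule.Quotient.mk_smul, Submodule.Quotient.mk_eq_zero] at h
    obtain ⟨a, ha⟩ := h
    exact ⟨a, by rw [← Algebra.smul_def]; exact ha⟩
  have hback : ∀ x ∈ Ideal.map (algebraMap A A') J, ∃ j ∈ J, algebraMap A A' j = x := by
    intro x hx
    induction hx using Submodule.span_induction with
    | mem r hr => exact hr
    | zero => exact ⟨0, zero_mem _, map_zero _⟩
    | add u v _ _ hu hv =>
      obtain ⟨z, hz, rfl⟩ := hu
      obtain ⟨w, hw, rfl⟩ := hv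
      exact ⟨z + w, add_mem hz hw, map_add _ _ _⟩
    | smul d u _ hu =>
      obtain ⟨j, hj, rfl⟩ := hu
      obtain ⟨a, ha⟩ := hJmem j hj d
      refine ⟨a, Module.mem_annihilator.2 fun q => ?_, by rw [ha, smul_eq_mul, mul_comm]⟩
      obtain ⟨a', rfl⟩ := Submodule.Quotient.mk_surjective _ q
      obtain ⟨b, hb⟩ := hJmem j hj (d * a')
      rw [← Submodule.Quotient.mk_smul, Submodule.Quotient.mk_eq_zero]
      refine ⟨b, ?_⟩
      show algebraMap A A' b = a • a'
      rw [Algebra.smul_def, ha, hb, mul_assoc]
  refine ⟨Ideal.Quotient.mk_surjective, ?_⟩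
  intro b a' hb
  obtain ⟨a, rfl⟩ := Ideal.Quotient.mk_surjective b
  have hb' : Ideal.Quotient.mk (J.map (algebraMap A A')) (algebraMap A A' a) =
      Ideal.Quotient.mk (J.map (algebraMap A A')) a' := hb
  rw [Ideal.Quotient.eq] at hb'
  obtain ⟨j, hj, hja⟩ := hback _ hb'
  refine ⟨a - j, ⟨?_, ?_⟩, ?_⟩
  · show Ideal.Quotient.mk J (a - j) = Ideal.Quotient.mk J a
    rw [Ideal.Quotient.eq]
    simpa using neg_mem hj
  · rw [map_sub, hja, sub_sub_cancel]
  · rintro z ⟨-, hz⟩
    apply hinj
    rw [hz, map_sub, hja, sub_sub_cancel]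

end Groth.Agent.S14966
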