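import Groth.Statements.S1497
import Groth.Agent.Lib.RelAmple18.Twist
import Groth.Agent.Lib.AmpleImm18.General
import Groth.Agent.S4414
import Groth.Agent.Lib.QuotProj11.Proper

set_option autoImplicit false
universe u
attribute [local instance] HasDerivedCategory.standard
open FlatMor
open AlgebraicGeometry CategoryTheory Limits Groth.Agent

namespace Groth.Agent.S1497

open AlgebraicGeometry CategoryTheory Limits in
/-- Let S be a scheme with an ample invertible sheaf and f : X → S a morphism. Then f is a quasi-compact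
immersion into some projective space P^n_S over S if and only if f is of finite type and X has an
ample invertible sheaf. -/
theorem result {X S : Scheme.{u}} (hS : ∃ N : S.Modules, CohB1.IsAmple N) (f : X ⟶ S) :
    (∃ (n : ℕ) (i : X ⟶ CohB1.ProjSpaceOver n S), IsImmersion i ∧ QuasiCompact i ∧ i ≫ pullback.snd (CohB1.ProjSpace.toSpec n (ULift.{u} ℤ)) (specULiftZIsTerminal.from S) = f) ↔
      (LocallyOfFiniteType f ∧ QuasiCompact f ∧ ∃ L : X.Modules, CohB1.IsAmple L) := by
  obtain ⟨N, hN⟩ := hS
  haveI : CompactSpace S := (Groth.Agent.Amp.isAmple_iff.1 hN).2.1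
  refine ⟨?_, ?_⟩
  · rintro ⟨n, i, hi, hq, hif⟩
    haveI := hi; haveI := hq
    haveI : IsProper (CohB1.ProjSpaceOver.toBase n S) :=
      QuotProj11.isProper_of_isHProjective ⟨n, 𝟙 _, inferInstance, Category.id_comp _⟩
    have hft : LocallyOfFiniteType f := by
      rw [← hif]
      show LocallyOfFiniteType (i ≫ CohB1.ProjSpaceOver.toBase n S)
      infer_instance
    have hqc : QuasiCompact f := by
      rw [← hif]
      show QuasiCompact (i ≫ CohB1.ProjSpaceOver.toBase n S)
      infer_instance
    haveI := hqc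
    haveI : CompactSpace X := QuasiCompact.compactSpace_of_compactSpace f
    obtain ⟨n₀, hn⟩ := RA.exists_isAmple_twist f
      (L := (Scheme.Modules.pullback i).obj (_root_.Twist.twistOver n S 1))
      ⟨hqc, fun V => AmpleImm18.isAmple_restrict_twistOver f i hif V.2⟩ hN
    exact ⟨hft, hqc, _, hn n₀ le_rfl⟩
  · rintro ⟨hft, hqc, L, hL⟩
    haveI := hft; haveI := hqc
    obtain ⟨m₀, hm⟩ := AmpleImm18.exists_immersion_over f hL (_root_.PicLoc.isInvertible_structureModule X)
    obtain ⟨n, i, hi, hif, -⟩ := hm m₀ le_rfl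
    haveI : IsProper (CohB1.ProjSpaceOver.toBase n S) :=
      QuotProj11.isProper_of_isHProjective ⟨n, 𝟙 _, inferInstance, Category.id_comp _⟩
    haveI : QuasiCompact (i ≫ CohB1.ProjSpaceOver.toBase n S) := hif ▸ hqc
    exact ⟨n, i, hi, QuasiCompact.of_comp i (CohB1.ProjSpaceOver.toBase n S), hif⟩

end Groth.Agent.S1497
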