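import Groth.Statements.S14972
import Groth.Agent.Lib.SemiAb10.IntPoly
import Groth.Agent.Lib.SemiAb10.Chain
import Groth.Agent.Lib.ShStab28.Filt

set_option autoImplicit false
set_option maxHeartbeats 1000000
set_option linter.style.haveILetI false
set_option backward.isDefEq.respectTransparency false
set_option backward.isDefEq.respectTransparency.types false
open CategoryTheory CategoryTheory.Limits AlgebraicGeometry
open Coherent

namespace Groth.Agent.S14972

open Groth.Agent Groth.Agent.ShStab28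

theorem ne_zero_of_dim {X : Scheme.{0}} {Q : X.Modules} {d : ℕ}
    (h : topologicalKrullDim ↥(CohB1.support Q) = (d : WithBot ℕ∞)) : ¬ IsZero Q := fun hz => by
  haveI : IsEmpty ↥(CohB1.support Q) := Set.isEmpty_coe_sort.mpr (by
    ext x
    simp only [Set.mem_empty_iff_false, iff_false]
    exact fun hx => hx (AddCommGrpCat.subsingleton_of_isZero
      ((Scheme.Modules.toPresheaf X ⋙ TopCat.Presheaf.stalkFunctor _ x).map_isZero hz)))
  haveI : IsEmpty (TopologicalSpace.IrreducibleCloseds ↥(CohB1.support Q)) :=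
    ⟨fun c => isEmptyElim c.isIrreducible.nonempty.some⟩
  rw [topologicalKrullDim, Order.krullDim_eq_bot] at h
  exact WithBot.bot_ne_coe h


/-- Over the complex numbers, let E be a coherent sheaf on projective n-space which is pure of dimension
d (its support and the support of every nonzero coherent subsheaf have dimension d). Then there is
exactly one finite chain of coherent subsheaves 0 = E_0 ⊂ E_1 ⊂ ⋯ ⊂ E_k = E such that each
successive quotient E_j/E_(j-1) is pure of dimension d and p-semistable (every nonzero coherent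
subsheaf G of it with Hilbert polynomial ψ satisfies ψ(m)/r(ψ) ≤ φ(m)/r(φ) for all large integers m,
φ being the Hilbert polynomial of the quotient and r denoting d! times the degree-d coefficient) and
the reduced Hilbert polynomials φ/r(φ) of consecutive quotients strictly decrease for large
arguments. The chain is recorded as a finite set of subobjects of E, totally ordered by inclusion,
containing 0 and E, all of whose members are coherent. (The published statement is for modules over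
a sheaf of rings of differential operators and filtrations by submodules stable under it, and does
not assume E pure, although quotients pure of dimension d force it; this row is the case of the
structure sheaf, where every coherent subsheaf is stable, and assumes E pure.) -/
theorem result (n d : ℕ)
    (E : (CohB1.ProjSpace n ℂ).Modules) (hE : Coh.IsCoh E)
    (hpure : (topologicalKrullDim ↥(CohB1.support E) = (d : WithBot ℕ∞) ∧
          ∀ (G : (CohB1.ProjSpace n ℂ).Modules) (ι : G ⟶ E), Mono ι → Coh.IsCoh G → ¬ IsZero G → topologicalKrullDim ↥(CohB1.support G) = (d : WithBot ℕ∞))) :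
    ∃! C : Finset (Subobject E),
      ⊥ ∈ C ∧ ⊤ ∈ C ∧ IsChain (fun A B : Subobject E => A ≤ B) (↑C : Set (Subobject E)) ∧
      (∀ A ∈ C, Coh.IsCoh (A : (CohB1.ProjSpace n ℂ).Modules)) ∧
      (∀ A ∈ C, ∀ B ∈ C, ∀ hAB : A < B, (∀ D ∈ C, ¬ (A < D ∧ D < B)) →
        (topologicalKrullDim ↥(CohB1.support (cokernel (Subobject.ofLE A B hAB.le))) = (d : WithBot ℕ∞) ∧
          ∀ (G : (CohB1.ProjSpace n ℂ).Modules) (ι : G ⟶ (cokernel (Subobject.ofLE A B hAB.le))), Mono ι → Coh.IsCoh G → ¬ IsZero G → topologicalKrullDim ↥(CohB1.support G) = (d : WithBot ℕ∞)) ∧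
        (∀ (G : (CohB1.ProjSpace n ℂ).Modules) (ι : G ⟶ (cokernel (Subobject.ofLE A B hAB.le))), Mono ι → Coh.IsCoh G → ¬ IsZero G →
          ∀ φ ψ : Polynomial ℚ, (∀ m : ℤ, (Curv2.euler ℂ (CohB1.ProjSpace n ℂ) (CohB1.tensorMod (cokernel (Subobject.ofLE A B hAB.le)) (Twist.twistProjSpace n ℂ m)) : ℚ) = φ.eval (m : ℚ)) → (∀ m : ℤ, (Curv2.euler ℂ (CohB1.ProjSpace n ℂ) (CohB1.tensorMod G (Twist.twistProjSpace n ℂ m)) : ℚ) = ψ.eval (m : ℚ)) →
            W4c2simpsonmod1.RedLE d ψ φ)) ∧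
      (∀ A ∈ C, ∀ B ∈ C, ∀ B' ∈ C, ∀ hAB : A < B, ∀ hBB : B < B',
        (∀ D ∈ C, ¬ (A < D ∧ D < B)) → (∀ D ∈ C, ¬ (B < D ∧ D < B')) →
        ∀ ψ ψ' : Polynomial ℚ, (∀ m : ℤ, (Curv2.euler ℂ (CohB1.ProjSpace n ℂ) (CohB1.tensorMod (cokernel (Subobject.ofLE A B hAB.le)) (Twist.twistProjSpace n ℂ m)) : ℚ) = ψ.eval (m : ℚ)) →
          (∀ m : ℤ, (Curv2.euler ℂ (CohB1.ProjSpace n ℂ) (CohB1.tensorMod (cokernel (Subobject.ofLE B B' hBB.le)) (Twist.twistProjSpace n ℂ m)) : ℚ) = ψ'.eval (m : ℚ)) →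
          W4c2simpsonmod1.RedLT d ψ' ψ) := by
  haveI : IsProper ((CohB1.ProjSpace n ℂ) ↘ Spec (CommRingCat.of ℂ)) := ProjSpace.isProper_toSpec (n := n) (R := ℂ)
  have hi : PicF.IsInvertible (Twist.twistProjSpace n ℂ 1) := Twist.isInvertible_twistProjSpace n ℂ 1
  have hpos := ShStab28.positive ℂ (SemiAb10.isAmple_O1 (k := ℂ) (n := n))
  have hP := pure_of_isPure hi hpos hE hpure.2
  have hE0 : ¬ IsZero E := ne_zero_of_dim hpure.1
  let S := ShStab28.sys ℂ (CohB1.ProjSpace n ℂ) _ hi hpos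
  -- a step of a chain
  have hstep : ∀ (A B : Subobject E) (h : A < B), Coh.IsCoh (A : (CohB1.ProjSpace n ℂ).Modules) →
      Coh.IsCoh (B : (CohB1.ProjSpace n ℂ).Modules) →
      (((topologicalKrullDim ↥(CohB1.support (cokernel (Subobject.ofLE A B h.le))) = (d : WithBot ℕ∞) ∧
          ∀ (G : (CohB1.ProjSpace n ℂ).Modules) (ι : G ⟶ (cokernel (Subobject.ofLE A B h.le))), Mono ι → Coh.IsCoh G → ¬ IsZero G → topologicalKrullDim ↥(CohB1.support G) = (d : WithBot ℕ∞)) ∧
        (∀ (G : (CohB1.ProjSpace n ℂ).Modules) (ι : G ⟶ (cokernel (Subobject.ofLE A B h.le))), Mono ι → Coh.IsCoh G → ¬ IsZero G →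
          ∀ φ ψ : Polynomial ℚ, (∀ m : ℤ, (Curv2.euler ℂ (CohB1.ProjSpace n ℂ) (CohB1.tensorMod (cokernel (Subobject.ofLE A B h.le)) (Twist.twistProjSpace n ℂ m)) : ℚ) = φ.eval (m : ℚ)) → (∀ m : ℤ, (Curv2.euler ℂ (CohB1.ProjSpace n ℂ) (CohB1.tensorMod G (Twist.twistProjSpace n ℂ m)) : ℚ) = ψ.eval (m : ℚ)) →
            W4c2simpsonmod1.RedLE d ψ φ)) ↔ S.SS d d (cokernel (Subobject.ofLE A B h.le))) := by
    intro A B h hA hB
    have hQ : Coh.IsCoh (cokernel (Subobject.ofLE A B h.le)) := S.ok_coker _ hA hB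
    have hQ0 : ¬ IsZero (cokernel (Subobject.ofLE A B h.le)) := Sys.not_isZero_coker h
    constructor
    · rintro ⟨⟨-, hp⟩, hs⟩
      have hp' := pure_of_isPure hi hpos hQ hp
      refine ⟨hp', fun G ι hι hG hG0 => ?_⟩
      refine (le_self_iff ((S.deg_mono ι hG hQ).1.trans hp'.2.1) hp'.2.1).mpr ?_
      refine (SemiAb10.w4_redLE_iff (hp'.2.2 G ι hι hG hG0) (hp'.alpha_pos hQ0)).mp ?_
      exact hs G ι hι hG hG0 _ _ (SemiAb10.euler_twist hQ) (SemiAb10.euler_twist hG)
    · intro hss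
      have hp := isPure_of_pure hi hpos hss.1
      refine ⟨⟨hp _ (𝟙 _) inferInstance hQ hQ0, hp⟩, fun G ι hι hG hG0 φ ψ hφ hψ => ?_⟩
      haveI := hι
      rw [SemiAb10.eq_hilb hQ hφ, SemiAb10.eq_hilb hG hψ]
      exact (SemiAb10.w4_redLE_iff (hss.1.2.2 G ι hι hG hG0) (hss.1.alpha_pos hQ0)).mpr
        ((le_self_iff ((S.deg_mono ι hG hQ).1.trans hss.1.2.1) hss.1.2.1).mp (hss.2 G ι hι hG hG0))
  obtain ⟨s, ⟨hh, hl, hss, hdec⟩, hu⟩ := Sys.existsUnique_hn S d hP
  classical
  have hok : ∀ j, Coh.IsCoh ((s j : Subobject E) : (CohB1.ProjSpace n ℂ).Modules) := by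
    intro j
    induction j using Fin.induction with
    | zero => exact (show S.ok ((s.head : Subobject E) : (CohB1.ProjSpace n ℂ).Modules) from hh.symm ▸ S.ok_bot_sub E)
    | succ i ih =>
      exact S.ok_ext (S := ShortComplex.mk (Subobject.ofLE _ _ (s.step i).le) (cokernel.π _) (cokernel.condition _))
        { exact := ShortComplex.exact_cokernel _ } ih (hss i).1.1
  refine ⟨Finset.univ.image fun j => s j, ⟨?_, ?_, ?_, ?_, ?_, ?_⟩, ?_⟩
  · exact Finset.mem_image.mpr ⟨0, Finset.mem_univ _, hh⟩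
  · exact Finset.mem_image.mpr ⟨Fin.last _, Finset.mem_univ _, hl⟩
  · rintro a ha b hb -
    simp only [Finset.coe_image, Finset.coe_univ, Set.image_univ, Set.mem_range] at ha hb
    obtain ⟨i, rfl⟩ := ha
    obtain ⟨j, rfl⟩ := hb
    exact (le_total i j).imp (fun h => s.monotone h) (fun h => s.monotone h)
  · intro A hA
    obtain ⟨j, -, rfl⟩ := Finset.mem_image.mp hA
    exact hok j
  · intro A hA B hB hAB hno
    obtain ⟨a, -, rfl⟩ := Finset.mem_image.mp hA
    obtain ⟨b, -, rfl⟩ := Finset.mem_image.mp hB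
    obtain ⟨i, rfl, rfl⟩ := SemiAb10.series_step_of_consec s hAB
      (fun j => hno _ (Finset.mem_image.mpr ⟨j, Finset.mem_univ _, rfl⟩))
    exact (hstep _ _ hAB (hok _) (hok _)).mpr (hss i)
  · intro A hA B hB B' hB' hAB hBB hno hno' ψ ψ' hψ hψ'
    obtain ⟨a, -, rfl⟩ := Finset.mem_image.mp hA
    obtain ⟨b, -, rfl⟩ := Finset.mem_image.mp hB
    obtain ⟨c, -, rfl⟩ := Finset.mem_image.mp hB'
    obtain ⟨i, hia, hib⟩ := SemiAb10.series_step_of_consec s hAB
      (fun j => hno _ (Finset.mem_image.mpr ⟨j, Finset.mem_univ _, rfl⟩))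
    obtain ⟨j, hjb, hjc⟩ := SemiAb10.series_step_of_consec s hBB
      (fun j => hno' _ (Finset.mem_image.mpr ⟨j, Finset.mem_univ _, rfl⟩))
    subst hia hib hjc
    have hij : i.val + 1 = j.val := by
      have := congrArg Fin.val hjb
      simp at this
      omega
    have e1 : ψ = S.hp (StabCat.factor s i) := SemiAb10.eq_hilb (hss i).1.1 hψ
    have e2 : ψ' = S.hp (StabCat.factor s j) := by
      refine (SemiAb10.eq_hilb (S.ok_coker _ (hok _) (hok _)) hψ').trans ?_
      show S.hp _ = _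
      rw [Sys.q_ofLE S _ (hok _) (hok _), StabCat.factor, Sys.q_ofLE S _ (hok _) (hok _), hjb]
    rw [e1, e2]
    exact (SemiAb10.w4_redLT_iff ((hss j).1.alpha_pos (Sys.not_isZero_coker (s.step j)))
      ((hss i).1.alpha_pos (Sys.not_isZero_coker (s.step i)))).mpr
      ((lt_self_iff (hss j).1.2.1 (hss i).1.2.1).mp (hdec i j hij))
  · rintro C ⟨hbot, htop, hchain, hcoh, hfac, hlt⟩
    obtain ⟨t, ht⟩ := SemiAb10.exists_series C hbot hchain
    have hokt : ∀ j, Coh.IsCoh ((t j : Subobject E) : (CohB1.ProjSpace n ℂ).Modules) := fun j => hcoh _ ((ht _).mpr ⟨j, rfl⟩)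
    obtain ⟨j0, hj0⟩ := (ht _).mp hbot
    obtain ⟨j1, hj1⟩ := (ht _).mp htop
    have hno : ∀ i : Fin t.length, ∀ D ∈ C, ¬ (t i.castSucc < D ∧ D < t i.succ) := fun i D hD => by
      obtain ⟨j, rfl⟩ := (ht D).mp hD
      exact SemiAb10.series_consec t i j
    have htss : ∀ i : Fin t.length, S.SS d d (StabCat.factor t i) := fun i =>
      (hstep _ _ (t.step i) (hokt _) (hokt _)).mp
        (hfac _ ((ht _).mpr ⟨_, rfl⟩) _ ((ht _).mpr ⟨_, rfl⟩) (t.step i) (hno i))
    have hts : t = s := by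
      refine hu t ⟨SemiAb10.head_eq_bot t hj0, SemiAb10.last_eq_top t hj1, htss, fun i j hij => ?_⟩
      have hb : j.castSucc = i.succ := Fin.ext (by simp; omega)
      have h2 : t i.succ < t j.succ := hb ▸ t.step j
      have := hlt _ ((ht _).mpr ⟨i.castSucc, rfl⟩) _ ((ht _).mpr ⟨i.succ, rfl⟩) _ ((ht _).mpr ⟨j.succ, rfl⟩)
        (t.step i) h2 (hno i) (fun D hD => hb ▸ hno j D hD) _ _
        (SemiAb10.euler_twist (S.ok_coker _ (hokt _) (hokt _))) (SemiAb10.euler_twist (S.ok_coker _ (hokt _) (hokt _)))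
      have ej : S.hp (cokernel (Subobject.ofLE _ _ h2.le)) = S.hp (StabCat.factor t j) := by
        rw [Sys.q_ofLE S _ (hokt _) (hokt _), StabCat.factor, Sys.q_ofLE S _ (hokt _) (hokt _), hb]
      change W4c2simpsonmod1.RedLT d (S.hp (cokernel (Subobject.ofLE _ _ h2.le))) (S.hp (StabCat.factor t i)) at this
      rw [ej] at this
      exact (lt_self_iff (htss j).1.2.1 (htss i).1.2.1).mpr
        ((SemiAb10.w4_redLT_iff ((htss j).1.alpha_pos (Sys.not_isZero_coker (t.step j)))
          ((htss i).1.alpha_pos (Sys.not_isZero_coker (t.step i)))).mp this)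
    ext x
    rw [ht x, hts]
    simp

end Groth.Agent.S14972
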