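import Groth.Agent.Lib.CoactOrb23.Inertia
import Mathlib.AlgebraicGeometry.Morphisms.Integral
import Mathlib.RingTheory.LocalRing.Module
import Groth.Prelude.Def_CoactBr
import Mathlib.RingTheory.Flat.Basic
import Mathlib.RingTheory.Finiteness.Defs
import Mathlib.RingTheory.LocalRing.Basic
import Mathlib.RingTheory.LocalRing.MaximalIdeal.Basic
import Mathlib.RingTheory.Ideal.Maps
-- import your own Groth.Agent.* helpers here

set_option autoImplicit false
universe u
open CategoryTheory MonoidalCategory CartesianMonoidalCategory MonObj AlgebraicGeometry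
open CoactBr

namespace Groth.Agent.S14979

/-- Let `R` be a local commutative ring, `A` a commutative Hopf algebra over `R` which is finite and
flat as an `R`-module (so `G = Spec A` is a finite flat group scheme over `S = Spec R`), and `B` a
commutative `R`-algebra with a coaction of `A` that is an algebra map (an action of `G` on `X = Spec
B`) whose ring of invariants is `R` itself: the structure map `R → B^A` is bijective, so that `S` is
the quotient `Y = Spec B^A`. Let `K` be a field over `R` in which exactly the maximal ideal of `R`
vanishes and `x : B → K` an `R`-algebra map, a point of `X` over the closed point of `Y`. Then the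
action is free — for every scheme `T` over `S`, every `T`-point of `G` fixing a `T`-point of `X` is
the unit — if and only if the inertia group scheme at `x` is trivial: for every `T` over `Spec K`,
every `T`-point of `G` fixing the point of `X` induced by `x` is the unit. (The published statement
does not say that `G` is finite over `S`; its proof uses it, and it is assumed here.) -/
theorem result
    (R A B K : Type u) [CommRing R] [IsLocalRing R] [CommRing A] [HopfAlgebra R A]
    [Module.Flat R A] [Module.Finite R A]
    [CommRing B] [Algebra R B] [HopfRep.Comod R A B] [GLin.IsCoactAlg R A B]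
    (hC : Function.Bijective (algebraMap R (GLin.invariants R A B)))
    [Field K] [Algebra R K] (hK : RingHom.ker (algebraMap R K) = IsLocalRing.maximalIdeal R)
    (x : B →ₐ[R] K) :
    (∀ (T : Over (Spec (CommRingCat.of R))) (ζ : T ⟶ CoactBr.sp R B) (g : T ⟶ CoactBr.sp R A),
        lift g ζ ≫ (CoactBr.action R A B).act = ζ → g = 1) ↔
      ∀ (T : Over (Spec (CommRingCat.of R))) (h : T ⟶ CoactBr.sp R K) (g : T ⟶ CoactBr.sp R A),
        lift g (h ≫ CoactBr.pt x) ≫ (CoactBr.action R A B).act = h ≫ CoactBr.pt x → g = 1 := by
  haveI : Module.Free R A := Module.free_of_flat_of_isLocalRing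
  refine ⟨fun hfree T h g hg => hfree T _ g hg, fun htriv T ζ g hg => ?_⟩
  refine Groth.Agent.CoactOrb23.eq_one_of_fix ζ g hg fun t hle => ?_
  obtain ⟨m, hm, hpm⟩ := Ideal.exists_le_maximal _ (ζ.left t).isPrime.ne_top
  refine Groth.Agent.CoactOrb23.not_badIdeal_le (⟨m, hm.isPrime⟩ : PrimeSpectrum B) ?_ (hle.trans hpm)
  refine (show Groth.Agent.CoactOrb23.Triv A x from htriv).of_agree _ (fun c hc => ?_)
  obtain ⟨r, hr⟩ := hC.2 ⟨c, hc⟩
  rw [← show algebraMap R B r = c from congrArg Subtype.val hr, x.commutes, AlgHom.commutes]
  haveI := Groth.Agent.CoactOrb23.isIntegral_invariants (R := R) (A := A) (B := B)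
  have hmax : (m.comap (algebraMap R B)).IsMaximal := by
    haveI := hm
    have h1 : (m.comap (algebraMap (GLin.invariants R A B) B)).IsMaximal :=
      Ideal.isMaximal_comap_of_isIntegral_of_isMaximal m
    have h2 := Ideal.comap_isMaximal_of_surjective (algebraMap R (GLin.invariants R A B)) hC.2
      (K := m.comap (algebraMap (GLin.invariants R A B) B))
    rw [Ideal.comap_comap, ← IsScalarTower.algebraMap_eq] at h2
    exact h2
  have e1 : algebraMap R K r = 0 ↔ r ∈ IsLocalRing.maximalIdeal R := by rw [← hK]; rfl
  rw [e1, ← IsLocalRing.eq_maximalIdeal hmax, IsScalarTower.algebraMap_apply R B,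
    Ideal.algebraMap_residueField_eq_zero]
  rfl

end Groth.Agent.S14979
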