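import Groth.Statements.S1498
import Groth.Agent.Lib.CMReg18.FlatTwistGen
import Groth.Agent.Lib.DPerf.RelAmp
-- import your own Groth.Agent.* helpers here

set_option autoImplicit false
universe u
attribute [local instance] HasDerivedCategory.standard
open FlatMor

namespace Groth.Agent.S1498

open AlgebraicGeometry CategoryTheory Limits in
/-- Parts (1) and (2) (the source moreover reconstructs X' as the relative Proj of the resulting
algebra, which is not stated here): let f : X → S be proper, flat and of finite presentation with S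
quasi-compact, and let L be an O_X-module ample relative to f. Then there is d₀ ≥ 0 such that for
every thickening i : S → S', every proper flat morphism of finite presentation f' : X' → S' with a
cartesian square over i, and every invertible O_{X'}-module L' pulling back to L, for all d ≥ d₀ the
cohomology H^p, p > 0, of L'^{⊗d} vanishes over the preimage of every affine open of S' and f'_*
L'^{⊗d} is a finite locally free O_{S'}-module. -/
theorem result {X S : Scheme.{u}} (f : X ⟶ S) [IsProper f] [Flat f] [LocallyOfFinitePresentation f] [CompactSpace ↑S]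
    (L : X.Modules) (hL : RelAmple.IsRelAmple f L) :
    ∃ d₀ : ℕ, ∀ (X' S' : Scheme.{u}) (i : S ⟶ S') (i' : X ⟶ X') (f' : X' ⟶ S') (hi : MoreMor.IsThickening i) (hc : IsPullback i' f f' i)
      (hf'₁ : IsProper f') (hf'₂ : Flat f') (hf'₃ : LocallyOfFinitePresentation f') (L' : X'.Modules) (hL' : PicF.IsInvertible L')
      (e : Nonempty ((Scheme.Modules.pullback i').obj L' ≅ L)) (d : ℕ), d₀ ≤ d →
        (∀ (U : S'.Opens) (p : ℕ), IsAffineOpen U → 0 < p → Subsingleton (Coh.HHon X' (CohB1.tensorPow L' d) (f' ⁻¹ᵁ U) p)) ∧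
        FlatMod.IsFinLocFree ((Scheme.Modules.pushforward f').obj (CohB1.tensorPow L' d)) := by
  classical
  haveI : HasInjectiveResolutions X.Modules := Groth.Agent.CohFound.hasInjectiveResolutions_modules X
  have hLi := Groth.Agent.RA.isInvertible_of_isRelAmple f hL
  have hF : CohB1.IsFP (Coh.structureModule X) :=
    Groth.Agent.M1.isFP_of_isFinLocFree (Groth.Agent.M2.isFinLocFree_of_isInvertible (PicLoc.isInvertible_structureModule X))
  have hfl : FlatMod.IsFlatOver f (Coh.structureModule X) :=
    Groth.Agent.DPerf.isFlatOver_of_isFlat _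
      (Groth.Agent.KFlat.Sch.isFlat_of_isFinLocFree (Groth.Agent.M2.isFinLocFree_of_isInvertible (PicLoc.isInvertible_structureModule X)))
  choose V N hsV hV using Groth.Agent.CMReg18.exists_nhd_vanishing_pow (f := f) hF hfl hL
  obtain ⟨t, ht⟩ := isCompact_univ.elim_finite_subcover (fun s => (V s : Set S)) (fun s => (V s).isOpen)
    fun s _ => Set.mem_iUnion.2 ⟨s, hsV s⟩
  refine ⟨t.sup N, ?_⟩
  intro X' S' i i' f' hi hc hf'₁ hf'₂ hf'₃ L' hL' e d hd
  obtain ⟨e⟩ := e
  haveI : HasInjectiveResolutions X'.Modules := Groth.Agent.CohFound.hasInjectiveResolutions_modules X'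
  haveI := hf'₁
  haveI := hf'₂
  haveI := hf'₃
  let G := CohB1.tensorPow L' d
  have hGi : PicF.IsInvertible G := Groth.Agent.Amp.isInvertible_tensorPow hL' d
  have hGlf : FlatMod.IsFinLocFree G :=
    Groth.Agent.M2.isFinLocFree_of_isInvertible hGi
  have hG : CohB1.IsFP G := Groth.Agent.M1.isFP_of_isFinLocFree hGlf
  have hGfl : FlatMod.IsFlatOver f' G :=
    Groth.Agent.DPerf.isFlatOver_of_isFlat _ (Groth.Agent.KFlat.Sch.isFlat_of_isFinLocFree hGlf)
  let ε : (Scheme.Modules.pullback i').obj G ≅ CohB1.tensorMod (Coh.structureModule X) (CohB1.tensorPow L d) :=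
    Groth.Agent.M2.pullTensorPowIso i' L' d ≪≫ Groth.Agent.M2.tensorPowIso e d ≪≫
      (Groth.Agent.M2.tensorLUnit _).symm
  have hvan : ∀ (s' : S') (p : ℕ), 1 ≤ p → Subsingleton (CohIII.fiberH f' G s' p) := by
    intro s' p hp
    obtain ⟨s, rfl⟩ := hi.2.surj s'
    obtain ⟨s₀, hst, hy⟩ := Set.mem_iUnion₂.1 (ht (Set.mem_univ s))
    have h0 := hV s₀ s hy d (le_trans (Finset.le_sup hst) hd) p hp
    letI : (f.fiber s).Over (Spec (CommRingCat.of (S.residueField s))) := ⟨f.fiberToSpecResidueField s⟩
    have h1 : Subsingleton (CohIII.fiberH f ((Scheme.Modules.pullback i').obj G) s p) :=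
      Groth.Agent.CMReg18.van_iso (S.residueField s) ((Scheme.Modules.pullback (f.fiberι s)).mapIso ε.symm) h0
    letI : (f'.fiber (i s)).Over (Spec (CommRingCat.of (S'.residueField (i s)))) :=
      ⟨f'.fiberToSpecResidueField (i s)⟩
    haveI : IsProper (f'.fiber (i s) ↘ Spec (CommRingCat.of (S'.residueField (i s)))) :=
      inferInstanceAs (IsProper (pullback.snd f' (S'.fromSpecResidueField (i s))))
    haveI : IsNoetherian (f'.fiber (i s)) :=
      Groth.Agent.CohFound.isNoetherian_of_isProper (f'.fiber (i s) ↘ Spec (CommRingCat.of (S'.residueField (i s))))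
    haveI : Module.Finite (S'.residueField (i s)) (CohIII.fiberH f' G (i s) p) :=
      Groth.Agent.CohFound.finite_HH_of_isProper (A := S'.residueField (i s)) _
        ((Groth.Agent.M1.isCoh_iff_isFP _).2 (Groth.Agent.M1.isFP_pullback _ hG)) p
    refine Module.finrank_zero_iff (R := S'.residueField (i s)).1 ?_
    refine (Groth.Agent.CMReg18.finrank_fiberH_baseChange hc hG s p).symm.trans ?_
    haveI := h1
    exact Module.finrank_zero_of_subsingleton
  obtain ⟨hlf, hz⟩ := Groth.Agent.CMReg18.isFinLocFree_push_of_vanishing (f := f') hG hGfl hvan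
  exact ⟨fun U p hU hp => (Groth.Agent.CMReg18.isZero_rpushAb_iff_affine f' (Groth.Agent.M1.isFP_isQCoh hG) p).1
    (hz p hp) U hU, hlf⟩

end Groth.Agent.S1498
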