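import Groth.Agent.Lib.CoactOrb23.Inertia
import Mathlib.AlgebraicGeometry.Morphisms.Integral
import Mathlib.RingTheory.LocalRing.Module
import Groth.Prelude.Def_CoactBr
import Mathlib.RingTheory.Flat.Basic
import Mathlib.RingTheory.Finiteness.Defs
import Mathlib.Algebra.Module.Projective
import Mathlib.RingTheory.Ideal.Maps
-- import your own Groth.Agent.* helpers here

set_option autoImplicit false
universe u
open CategoryTheory MonoidalCategory CartesianMonoidalCategory MonObj AlgebraicGeometry
open CoactBr

namespace Groth.Agent.S14981

/-- Let `R` be a commutative ring, `A` a commutative Hopf algebra over `R` which is finite locally free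
as an `R`-module (`G = Spec A`), `B` a commutative `R`-algebra, flat over `R`, with a coaction of
`A` that is an algebra map (an action of `G` on `X = Spec B`) whose ring of invariants is `R` itself
(the structure map `R → B^A` is bijective, so `S = Spec R` is the quotient), and `K₁`, `K₂` fields
over `R` in which the same prime `q` of `R` vanishes. Let `x₁ : B → K₁` and `x₂ : B → K₂` be
`R`-algebra maps, two points of `X` over the point `q` of `S`. If the inertia group scheme at `x₁`
is trivial (over every scheme `T` over `Spec K₁`, a `T`-point of `G` fixing the point of `X` induced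
by `x₁` is the unit), then so is the inertia group scheme at `x₂`. (The published statement is about
the canonical points of the primes of `B` over `q`; points with values in arbitrary fields are
treated here, and `G` finite over `S` is read as finite locally free, the standing flatness
included.) -/
theorem result
    (R A B K₁ K₂ : Type u) [CommRing R] [CommRing A] [HopfAlgebra R A]
    [Module.Flat R A] [Module.Finite R A] [Module.Projective R A]
    [CommRing B] [Algebra R B] [Module.Flat R B] [HopfRep.Comod R A B] [GLin.IsCoactAlg R A B]
    (hC : Function.Bijective (algebraMap R (GLin.invariants R A B)))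
    [Field K₁] [Algebra R K₁] [Field K₂] [Algebra R K₂]
    (hq : RingHom.ker (algebraMap R K₁) = RingHom.ker (algebraMap R K₂))
    (x₁ : B →ₐ[R] K₁) (x₂ : B →ₐ[R] K₂)
    (h₁ : ∀ (T : Over (Spec (CommRingCat.of R))) (h : T ⟶ CoactBr.sp R K₁) (g : T ⟶ CoactBr.sp R A),
      lift g (h ≫ CoactBr.pt x₁) ≫ (CoactBr.action R A B).act = h ≫ CoactBr.pt x₁ → g = 1)
    (T : Over (Spec (CommRingCat.of R))) (h : T ⟶ CoactBr.sp R K₂) (g : T ⟶ CoactBr.sp R A)
    (hg : lift g (h ≫ CoactBr.pt x₂) ≫ (CoactBr.action R A B).act = h ≫ CoactBr.pt x₂) :
    g = 1 := by
  refine (show Groth.Agent.CoactOrb23.Triv A x₁ from h₁).of_agree x₂ (fun c hc => ?_) T h g hg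
  obtain ⟨r, hr⟩ := hC.2 ⟨c, hc⟩
  rw [← show algebraMap R B r = c from congrArg Subtype.val hr, x₁.commutes, x₂.commutes]
  exact SetLike.ext_iff.1 hq r

end Groth.Agent.S14981
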