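import Groth.Agent.Lib.CoactOrb23.Inertia
import Mathlib.AlgebraicGeometry.Morphisms.Integral
import Mathlib.RingTheory.LocalRing.Module
import Groth.Prelude.Def_CoactBr
import Mathlib.RingTheory.Flat.Basic
import Mathlib.RingTheory.Finiteness.Defs
import Mathlib.Algebra.Module.Projective
import Mathlib.AlgebraicGeometry.Morphisms.Flat
import Mathlib.AlgebraicGeometry.Morphisms.FinitePresentation
import Mathlib.RingTheory.LocalRing.ResidueField.Defs
-- import your own Groth.Agent.* helpers here

set_option autoImplicit false
universe u
open CategoryTheory MonoidalCategory CartesianMonoidalCategory MonObj AlgebraicGeometry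
open CoactBr

namespace Groth.Agent.S14982

/-- Let `R` be a commutative ring, `A` a commutative Hopf algebra over `R` which is finite locally free
as an `R`-module (`G = Spec A` a finite flat group scheme over `S = Spec R`), `B` a commutative
`R`-algebra with a coaction of `A` that is an algebra map (an action of `G` on `X = Spec B`), `C =
B^A` the ring of invariants and `π : X → Y = Spec C` the quotient map. Let `K` be a field over `R`,
`x : B → K` an `R`-algebra map (a point of `X`) and `y` the image in `Y` of the point underlying
`x`. Then the inertia group scheme at `x` is trivial (for every scheme `T` over `Spec K`, every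
`T`-point of `G` fixing the point of `X` induced by `x` is the unit) if and only if there is a flat
morphism locally of finite presentation `Y' → Y` whose image contains `y` and over which the action
becomes free: for every scheme `T` over `S` and every `T`-point `ζ` of `X` whose composite with `π`
lifts to `Y'`, every `T`-point of `G` fixing `ζ` is the unit (this is freeness of the base-changed
action of `G ×_S Y'` on `X ×_Y Y'`, written through points of `G` and `X`). (`G` finite flat is read
as finite locally free. The published result also says that `X ×_Y Y'` is then a torsor under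
`G_{Y'}` and gives a third equivalent condition, that after a further fppf base change the action is
induced from an action of the trivial group; neither is stated here.) -/
theorem result
    (R A B K : Type u) [CommRing R] [CommRing A] [HopfAlgebra R A]
    [Module.Flat R A] [Module.Finite R A] [Module.Projective R A]
    [CommRing B] [Algebra R B] [HopfRep.Comod R A B] [GLin.IsCoactAlg R A B]
    [Field K] [Algebra R K] (x : B →ₐ[R] K) :
    (∀ (T : Over (Spec (CommRingCat.of R))) (h : T ⟶ CoactBr.sp R K) (g : T ⟶ CoactBr.sp R A),
        lift g (h ≫ CoactBr.pt x) ≫ (CoactBr.action R A B).act = h ≫ CoactBr.pt x → g = 1) ↔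
      ∃ (Y' : Scheme.{u}) (c : Y' ⟶ Spec (CommRingCat.of (GLin.invariants R A B))),
        Flat c ∧ LocallyOfFinitePresentation c ∧
        (∃ y' : Y', c.base y' =
          (Spec.map (CommRingCat.ofHom (x.toRingHom.comp (GLin.invariants R A B).val.toRingHom))).base
            (IsLocalRing.closedPoint K)) ∧
        ∀ (T : Over (Spec (CommRingCat.of R))) (ζ : T ⟶ CoactBr.sp R B),
          (∃ t : T.left ⟶ Y', t ≫ c = ζ.left ≫ Spec.map (CommRingCat.ofHom (GLin.invariants R A B).val.toRingHom)) →
          ∀ g : T ⟶ CoactBr.sp R A, lift g ζ ≫ (CoactBr.action R A B).act = ζ → g = 1 := by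
  let C := GLin.invariants R A B
  haveI := Groth.Agent.CoactOrb23.isIntegral_invariants (R := R) (A := A) (B := B)
  let π : Spec (CommRingCat.of B) ⟶ Spec (CommRingCat.of C) := Spec.map (CommRingCat.ofHom C.val.toRingHom)
  let y := (Spec.map (CommRingCat.ofHom (x.toRingHom.comp C.val.toRingHom))).base (IsLocalRing.closedPoint K)
  constructor
  · intro htriv
    haveI : IsIntegralHom π := IsIntegralHom.SpecMap_iff.2 fun b => Algebra.IsIntegral.isIntegral b
    let Z := π '' PrimeSpectrum.zeroLocus (Groth.Agent.CoactOrb23.badIdeal R A B : Set B)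
    have hZ : IsClosed Z := π.isClosedMap _ (PrimeSpectrum.isClosed_zeroLocus _)
    let W : (Spec (CommRingCat.of C)).Opens := ⟨Zᶜ, hZ.isOpen_compl⟩
    have hy : y ∈ W := by
      rintro ⟨p, hp, hpy⟩
      refine Groth.Agent.CoactOrb23.not_badIdeal_le p ?_ hp
      refine (show Groth.Agent.CoactOrb23.Triv A x from htriv).of_agree _ (fun c hc => ?_)
      have e := SetLike.ext_iff.1 (congrArg PrimeSpectrum.asIdeal hpy) ⟨c, hc⟩
      refine Iff.trans ?_ (e.symm.trans (show c ∈ p.asIdeal ↔ algebraMap B p.asIdeal.ResidueField c = 0 from
        Ideal.algebraMap_residueField_eq_zero.symm))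
      exact ⟨fun h0 => by
        show x c ∈ IsLocalRing.maximalIdeal K
        rw [h0]; exact zero_mem _, fun h0 => by
        have h0' : x c ∈ IsLocalRing.maximalIdeal K := h0
        rwa [IsLocalRing.maximalIdeal_eq_bot, Ideal.mem_bot] at h0'⟩
    refine ⟨W, W.ι, inferInstance, inferInstance, ⟨⟨y, hy⟩, rfl⟩, ?_⟩
    rintro T ζ ⟨t, ht⟩ g hg
    refine Groth.Agent.CoactOrb23.eq_one_of_fix ζ g hg fun z hle => ?_
    have e : W.ι (t z) = π (ζ.left z) := congrArg (fun q => q z) ht
    exact (show W.ι (t z) ∈ W from (t z).2) ⟨ζ.left z, hle, e.symm⟩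
  · rintro ⟨Y', c, hfl, hlfp, ⟨y', hy'⟩, hfree⟩ T h g hg
    let m : T.left ⟶ Spec (CommRingCat.of C) := (h ≫ CoactBr.pt x).left ≫ π
    haveI : Surjective (Limits.pullback.fst m c) := ⟨fun z => by
      obtain ⟨w, hw, -⟩ := Scheme.Pullback.exists_preimage_pullback z y' (f := m) (g := c) (by
        rw [hy']
        show π ((CoactBr.pt x).left (h.left z)) = _
        rw [show h.left z = IsLocalRing.closedPoint K from @Subsingleton.elim (PrimeSpectrum K) _ _ _]
        rfl)
      exact ⟨w, hw⟩⟩
    haveI : Flat (Limits.pullback.fst m c) := inferInstance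
    let T' : Over (Spec (CommRingCat.of R)) := Over.mk (Limits.pullback.fst m c ≫ T.hom)
    let q : T' ⟶ T := Over.homMk (Limits.pullback.fst m c) rfl
    have h1 : q ≫ g = 1 := by
      refine hfree T' (q ≫ h ≫ CoactBr.pt x) ⟨Limits.pullback.snd m c, Limits.pullback.condition.symm.trans ?_⟩ _ ?_
      · simp only [m, Over.comp_left, Category.assoc]
        rfl
      · have e := congrArg (q ≫ ·) hg
        simp only [← Category.assoc, CartesianMonoidalCategory.comp_lift] at e
        simpa only [Category.assoc] using e
    haveI : Epi q.left := Flat.epi_of_flat_of_surjective (Limits.pullback.fst m c)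
    have h2 : q ≫ g = q ≫ (1 : T ⟶ CoactBr.sp R A) := h1.trans (MonObj.comp_one q).symm
    exact Over.OverMorphism.ext ((cancel_epi q.left).1 (congrArg (fun m => m.left) h2))

end Groth.Agent.S14982
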