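import Groth.Statements.S14983
import Mathlib.RingTheory.Bialgebra.TensorProduct
import Mathlib.RingTheory.TensorProduct.Maps

set_option autoImplicit false
universe u v w w'
open HopfRep

namespace Groth.Agent.S14983

open scoped TensorProduct

/-- Let `R` be a commutative ring, `S` a commutative `R`-algebra, `A` a commutative Hopf algebra over
`R`, flat as an `R`-module, and `B` a commutative `R`-algebra with a coaction of `A` that is an
algebra map (an action of `G = Spec A` on `X = Spec B`). If the action is tame, i.e. admits a total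
integral (a comodule map `α : A → B` for the regular coaction on `A` with `α 1 = 1`), then so is its
base change along `R → S`: there is an `S`-linear map `S ⊗ A → S ⊗ B` which is a comodule map for
the base-changed coactions (regular coaction of the `S`-Hopf algebra `S ⊗ A` on itself, base-changed
coaction on `S ⊗ B`) and sends `1` to `1`. -/
theorem result
    (R : Type u) (S : Type v) (A : Type w) (B : Type w')
    [CommRing R] [CommRing S] [Algebra R S] [CommRing A] [HopfAlgebra R A] [Module.Flat R A]
    [CommRing B] [Algebra R B] [HopfRep.Comod R A B] [GLin.IsCoactAlg R A B]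
    (htame : ∃ α : A →ₗ[R] B, Hoch.IsComodHom A α ∧ α 1 = 1) :
    ∃ α' : TensorProduct R S A →ₗ[S] TensorProduct R S B,
      @Hoch.IsComodHom S _ (TensorProduct R S A) _ _ _ (TensorProduct R S A) _ _
        (HopfRep.Comod.regular S (TensorProduct R S A)) (TensorProduct R S B) _ _
        (CoactBr.Comod.baseChange R S A B) α' ∧ α' 1 = 1 := by
  obtain ⟨α, hα, hα1⟩ := htame
  refine ⟨α.baseChange S, ?_, by rw [Algebra.TensorProduct.one_def, LinearMap.baseChange_tmul, hα1]; rfl⟩
  refine TensorProduct.AlgebraTensorModule.curry_injective (LinearMap.ext_ring (LinearMap.ext fun a => ?_))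
  show (CoactBr.Comod.baseChange R S A B).coact ((1 : S) ⊗ₜ[R] α a) =
    (α.baseChange S).rTensor (S ⊗[R] A) (Coalgebra.comul (R := S) ((1 : S) ⊗ₜ[R] a))
  obtain ⟨s, hs⟩ := TensorProduct.exists_finset (HopfRep.Comod.coact (k := R) (A := A) (α a))
  rw [CoactBr.baseChange_coact_tmul_of_sum R S A B s 1 (α a) Prod.fst Prod.snd hs]
  let D : B ⊗[R] A →ₗ[R] (S ⊗[R] B) ⊗[S] (S ⊗[R] A) :=
    TensorProduct.lift (((TensorProduct.mk S (S ⊗[R] B) (S ⊗[R] A)).restrictScalars₁₂ R R).compl₁₂
      (TensorProduct.mk R S B 1) (TensorProduct.mk R S A 1))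
  have hD : ∀ b c, D (b ⊗ₜ[R] c) = ((1 : S) ⊗ₜ[R] b) ⊗ₜ[S] ((1 : S) ⊗ₜ[R] c) := fun b c => by simp [D]
  have h1 : D (HopfRep.Comod.coact (k := R) (A := A) (α a)) = s.sum fun i => ((1 : S) ⊗ₜ[R] i.1) ⊗ₜ[S] ((1 : S) ⊗ₜ[R] i.2) := by
    rw [hs, map_sum]; exact Finset.sum_congr rfl fun i _ => hD _ _
  rw [← h1, show HopfRep.Comod.coact (k := R) (A := A) (α a) = α.rTensor A (Coalgebra.comul (R := R) a) from
    LinearMap.congr_fun hα a, TensorProduct.comul_tmul, CommSemiring.comul_apply]
  induction Coalgebra.comul (R := R) a with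
  | zero => simp
  | add p q hp hq => simp only [map_add, TensorProduct.tmul_add, hp, hq]
  | tmul p q => simp [hD]


end Groth.Agent.S14983
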