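import Groth.Statements.S14984
import Mathlib.RingTheory.Bialgebra.TensorProduct
import Mathlib.RingTheory.TensorProduct.Maps

set_option autoImplicit false
universe u v w
open HopfRep

namespace Groth.Agent.S14984

open scoped TensorProduct

/-- Let `R` be a commutative ring, `A` a commutative Hopf algebra over `R`, flat as an `R`-module, `B` a
commutative `R`-algebra with a coaction of `A` that is an algebra map (an action of `G = Spec A` on
`X = Spec B`), and `C = B^A` the ring of invariants. If the action base-changed along `R → C` — the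
`C`-Hopf algebra `C ⊗ A` coacting on `C ⊗ B` — is tame, i.e. there is a `C`-linear comodule map `β :
C ⊗ A → C ⊗ B` (regular coaction on the source, base-changed coaction on the target) with `β 1 = 1`,
then the original action is tame: there is an `R`-linear comodule map `α : A → B` with `α 1 = 1`.
(The converse is the case `S = C` of stability of tameness under base change. The published lemma
also lists, as a third equivalent condition, tameness of the action of `C ⊗ A` on `B` itself over
`C`; that condition is not stated here.) -/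
theorem result
    (R : Type u) (A : Type v) (B : Type w)
    [CommRing R] [CommRing A] [HopfAlgebra R A] [Module.Flat R A]
    [CommRing B] [Algebra R B] [HopfRep.Comod R A B] [GLin.IsCoactAlg R A B]
    (h : ∃ β : TensorProduct R ↥(GLin.invariants R A B) A →ₗ[↥(GLin.invariants R A B)]
        TensorProduct R ↥(GLin.invariants R A B) B,
      @Hoch.IsComodHom ↥(GLin.invariants R A B) _ (TensorProduct R ↥(GLin.invariants R A B) A) _ _ _
        (TensorProduct R ↥(GLin.invariants R A B) A) _ _
        (HopfRep.Comod.regular ↥(GLin.invariants R A B) (TensorProduct R ↥(GLin.invariants R A B) A))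
        (TensorProduct R ↥(GLin.invariants R A B) B) _ _
        (CoactBr.Comod.baseChange R ↥(GLin.invariants R A B) A B) β ∧ β 1 = 1) :
    ∃ α : A →ₗ[R] B, Hoch.IsComodHom A α ∧ α 1 = 1 := by
  obtain ⟨β, hβ, hβ1⟩ := h
  let μ : ↥(GLin.invariants R A B) ⊗[R] B →ₐ[↥(GLin.invariants R A B)] B := Algebra.TensorProduct.lift (Algebra.ofId ↥(GLin.invariants R A B) B) (AlgHom.id R B) fun _ _ => Commute.all _ _
  let f₁ : ↥(GLin.invariants R A B) ⊗[R] B →ₐ[↥(GLin.invariants R A B)] B ⊗[R] A := Algebra.TensorProduct.lift (Algebra.ofId ↥(GLin.invariants R A B) (B ⊗[R] A))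
    (Algebra.TensorProduct.includeLeft : B →ₐ[R] B ⊗[R] A) fun _ _ => Commute.all _ _
  let f₂ : ↥(GLin.invariants R A B) ⊗[R] A →ₐ[↥(GLin.invariants R A B)] B ⊗[R] A := Algebra.TensorProduct.lift (Algebra.ofId ↥(GLin.invariants R A B) (B ⊗[R] A))
    (Algebra.TensorProduct.includeRight : A →ₐ[R] B ⊗[R] A) fun _ _ => Commute.all _ _
  let M : (↥(GLin.invariants R A B) ⊗[R] B) ⊗[↥(GLin.invariants R A B)] (↥(GLin.invariants R A B) ⊗[R] A) →ₐ[↥(GLin.invariants R A B)] B ⊗[R] A := Algebra.TensorProduct.lift f₁ f₂ fun _ _ => Commute.all _ _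
  have hinv : ∀ c : ↥(GLin.invariants R A B), HopfRep.Comod.coact (k := R) (A := A) (c : B) = (c : B) ⊗ₜ[R] (1 : A) := fun c => c.2
  have key : ∀ w : ↥(GLin.invariants R A B) ⊗[R] B, HopfRep.Comod.coact (k := R) (A := A) (μ w) =
      M ((CoactBr.Comod.baseChange R ↥(GLin.invariants R A B) A B).coact w) := by
    intro w
    induction w with
    | zero => simp
    | add p q hp hq => simp only [map_add, hp, hq]
    | tmul c b =>
      obtain ⟨s, hs⟩ := TensorProduct.exists_finset (HopfRep.Comod.coact (k := R) (A := A) b)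
      rw [CoactBr.baseChange_coact_tmul_of_sum R ↥(GLin.invariants R A B) A B s c b Prod.fst Prod.snd hs, map_sum,
        show μ (c ⊗ₜ[R] b) = (c : B) * b from Algebra.TensorProduct.lift_tmul _ _ _ _ _, GLin.IsCoactAlg.coact_mul, hinv, hs,
        Finset.mul_sum]
      refine Finset.sum_congr rfl fun i _ => ?_
      simp [M, f₁, f₂, Algebra.ofId_apply]
      rw [show algebraMap ↥(GLin.invariants R A B) (B ⊗[R] A) c = (c : B) ⊗ₜ[R] (1 : A) from rfl]
      simp [mul_comm]
  refine ⟨μ.toLinearMap.restrictScalars R ∘ₗ β.restrictScalars R ∘ₗ TensorProduct.mk R ↥(GLin.invariants R A B) A 1, ?_, ?_⟩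
  · refine LinearMap.ext fun a => ?_
    show HopfRep.Comod.coact (k := R) (A := A) (μ (β ((1 : ↥(GLin.invariants R A B)) ⊗ₜ[R] a))) = _
    rw [key, show (CoactBr.Comod.baseChange R ↥(GLin.invariants R A B) A B).coact (β ((1 : ↥(GLin.invariants R A B)) ⊗ₜ[R] a)) =
      β.rTensor (↥(GLin.invariants R A B) ⊗[R] A) (Coalgebra.comul (R := ↥(GLin.invariants R A B)) ((1 : ↥(GLin.invariants R A B)) ⊗ₜ[R] a)) from LinearMap.congr_fun hβ _,
      TensorProduct.comul_tmul, CommSemiring.comul_apply]
    show _ = LinearMap.rTensor A _ (Coalgebra.comul (R := R) a)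
    induction Coalgebra.comul (R := R) a with
    | zero => simp
    | add p q hp hq => simp only [map_add, TensorProduct.tmul_add, hp, hq]
    | tmul p q =>
      simp only [TensorProduct.AlgebraTensorModule.tensorTensorTensorComm_tmul, LinearMap.rTensor_tmul, M,
        Algebra.TensorProduct.lift_tmul]
      have h1 : ∀ w : ↥(GLin.invariants R A B) ⊗[R] B, f₁ w = μ w ⊗ₜ[R] (1 : A) := by
        intro w
        induction w with
        | zero => simp
        | add u v hu hv => simp only [map_add, hu, hv, TensorProduct.add_tmul]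
        | tmul c b =>
          simp only [f₁, μ, Algebra.TensorProduct.lift_tmul, Algebra.ofId_apply]
          rw [show algebraMap ↥(GLin.invariants R A B) (B ⊗[R] A) c = (c : B) ⊗ₜ[R] (1 : A) from rfl]
          simp
      rw [h1]
      simp [f₂]
  · show μ (β ((1 : ↥(GLin.invariants R A B)) ⊗ₜ[R] (1 : A))) = 1
    rw [← Algebra.TensorProduct.one_def, hβ1, map_one]


end Groth.Agent.S14984
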