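import Groth.Statements.S19545
import Mathlib
import Groth.Agent.Lib.H2Alg.Bass

set_option autoImplicit false
universe u
open CAlg

namespace Groth.Agent.S19545

/-- Let R be a Noetherian ring of Krull dimension d and P, P' finitely generated projective R-modules of
constant rank n > d at every prime which are stably isomorphic, i.e. P ⊕ R^m ≅ P' ⊕ R^m for some m.
Then P ≅ P'. -/
theorem result (R : Type u)
    [CommRing R] [IsNoetherianRing R] (d n : ℕ) (hdim : ringKrullDim R = d)
    (P P' : Type u) [AddCommGroup P] [Module R P] [Module.Finite R P] [Module.Projective R P]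
    [AddCommGroup P'] [Module R P'] [Module.Finite R P'] [Module.Projective R P']
    (hrk : ∀ p : PrimeSpectrum R, Module.rankAtStalk (R := R) P p = n)
    (hrk' : ∀ p : PrimeSpectrum R, Module.rankAtStalk (R := R) P' p = n) (hnd : d < n)
    (m : ℕ) (e : (P × (Fin m → R)) ≃ₗ[R] (P' × (Fin m → R))) :
    Nonempty (P ≃ₗ[R] P') := by
  induction m with
  | zero => exact ⟨LinearEquiv.prodUnique.symm.trans (e.trans LinearEquiv.prodUnique)⟩
  | succ m ih =>
    let c : (R × (Fin m → R)) ≃ₗ[R] (Fin (m + 1) → R) := Fin.consLinearEquiv R (fun _ : Fin (m + 1) => R)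
    let sh : ∀ (Q : Type u) [AddCommGroup Q] [Module R Q], ((Q × (Fin m → R)) × R) ≃ₗ[R] (Q × (Fin (m + 1) → R)) :=
      fun Q _ _ => (LinearEquiv.prodAssoc R _ _ _).trans
        ((LinearEquiv.refl R Q).prodCongr ((LinearEquiv.prodComm R _ _).trans c))
    obtain ⟨e'⟩ := Groth.Agent.H2Bass.cancel_one (P := P × (Fin m → R)) (P' := P' × (Fin m → R)) d hdim.le
      (fun p => by
        haveI := p.nontrivial
        rw [Module.rankAtStalk_prod, Pi.add_apply, hrk' p]
        omega)
      ((sh P).trans (e.trans (sh P').symm))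
    exact ih e'

end Groth.Agent.S19545
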