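import Groth.Statements.S14985
import Groth.Agent.S19545
import Mathlib

set_option autoImplicit false
universe u
open CAlg

namespace Groth.Agent.S14985
open TensorProduct

variable (R : Type u) [CommRing R]

/-- Isomorphism classes of modules. -/
def cls : Setoid (ModuleCat.{u} R) :=
  ⟨fun A B => Nonempty (A ≃ₗ[R] B), fun A => ⟨LinearEquiv.refl R A⟩, fun ⟨e⟩ => ⟨e.symm⟩, fun ⟨e⟩ ⟨e'⟩ => ⟨e.trans e'⟩⟩

/-- Isomorphism classes of modules. -/
def Cl : Type (u + 1) := Quotient (cls R)

variable {R}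

/-- The class of a module. -/
def cl (M : Type u) [AddCommGroup M] [Module R M] : Cl R := Quotient.mk (cls R) (ModuleCat.of R M)

theorem cl_eq {M N : Type u} [AddCommGroup M] [Module R M] [AddCommGroup N] [Module R N] (e : M ≃ₗ[R] N) :
    cl (R := R) M = cl N := Quotient.sound ⟨e⟩

theorem of_cl_eq {M N : Type u} [AddCommGroup M] [Module R M] [AddCommGroup N] [Module R N]
    (h : cl (R := R) M = cl N) : Nonempty (M ≃ₗ[R] N) := Quotient.exact h

noncomputable instance : Zero (Cl R) := ⟨cl PUnit.{u + 1}⟩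
noncomputable instance : One (Cl R) := ⟨cl R⟩
noncomputable instance : Add (Cl R) :=
  ⟨Quotient.map₂ (fun A B => ModuleCat.of R (A × B)) fun _ _ ⟨e⟩ _ _ ⟨e'⟩ => ⟨e.prodCongr e'⟩⟩
noncomputable instance : Mul (Cl R) :=
  ⟨Quotient.map₂ (fun A B => ModuleCat.of R (A ⊗[R] B)) fun _ _ ⟨e⟩ _ _ ⟨e'⟩ => ⟨TensorProduct.congr e e'⟩⟩

theorem zero_mul' (a : Cl R) : 0 * a = 0 := by
  induction a using Quotient.inductionOn with
  | _ A =>
    haveI : Subsingleton (PUnit.{u + 1} ⊗[R] A) := inferInstance
    exact cl_eq (LinearEquiv.ofSubsingleton _ _)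

theorem mul_comm' (a b : Cl R) : a * b = b * a := by
  induction a using Quotient.inductionOn with
  | _ A => induction b using Quotient.inductionOn with
    | _ B => exact cl_eq (TensorProduct.comm R A B)

theorem left_distrib' (a b c : Cl R) : a * (b + c) = a * b + a * c := by
  induction a using Quotient.inductionOn with
  | _ A => induction b using Quotient.inductionOn with
    | _ B => induction c using Quotient.inductionOn with
      | _ C => exact cl_eq (TensorProduct.prodRight R R A B C)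

noncomputable instance : CommSemiring (Cl R) where
  add_assoc a b c := by
    induction a using Quotient.inductionOn with
    | _ A => induction b using Quotient.inductionOn with
      | _ B => induction c using Quotient.inductionOn with
        | _ C => exact cl_eq (LinearEquiv.prodAssoc R A B C)
  zero_add a := by
    induction a using Quotient.inductionOn with
    | _ A => exact cl_eq (LinearEquiv.uniqueProd)
  add_zero a := by
    induction a using Quotient.inductionOn with
    | _ A => exact cl_eq (LinearEquiv.prodUnique)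
  add_comm a b := by
    induction a using Quotient.inductionOn with
    | _ A => induction b using Quotient.inductionOn with
      | _ B => exact cl_eq (LinearEquiv.prodComm R A B)
  mul_assoc a b c := by
    induction a using Quotient.inductionOn with
    | _ A => induction b using Quotient.inductionOn with
      | _ B => induction c using Quotient.inductionOn with
        | _ C => exact cl_eq (TensorProduct.assoc R A B C)
  one_mul a := by
    induction a using Quotient.inductionOn with
    | _ A => exact cl_eq (TensorProduct.lid R A)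
  mul_one a := by
    induction a using Quotient.inductionOn with
    | _ A => exact cl_eq (TensorProduct.rid R A)
  mul_comm := mul_comm'
  left_distrib := left_distrib'
  right_distrib a b c := by rw [mul_comm', left_distrib', mul_comm' c, mul_comm' c]
  zero_mul := zero_mul'
  mul_zero a := by rw [mul_comm', zero_mul']
  nsmul := nsmulRec

theorem cl_prod (A B : Type u) [AddCommGroup A] [Module R A] [AddCommGroup B] [Module R B] :
    cl (R := R) (A × B) = cl A + cl B := rfl

theorem cl_tensor (A B : Type u) [AddCommGroup A] [Module R A] [AddCommGroup B] [Module R B] :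
    cl (R := R) (A ⊗[R] B) = cl A * cl B := rfl

theorem natCast_eq : ∀ n : ℕ, (n : Cl R) = cl (Fin n → R)
  | 0 => by
    rw [Nat.cast_zero]
    exact cl_eq (LinearEquiv.ofSubsingleton _ _)
  | n + 1 => by
    rw [Nat.cast_succ, natCast_eq n, add_comm]
    exact cl_eq (Fin.consLinearEquiv R (fun _ : Fin (n + 1) => R))

/-- Being finite projective. -/
def FP (a : Cl R) : Prop :=
  Quotient.liftOn a (fun A : ModuleCat.{u} R => Module.Finite R A ∧ Module.Projective R A) fun _ _ ⟨e⟩ =>
    propext ⟨fun ⟨_, _⟩ => ⟨Module.Finite.equiv e, Module.Projective.of_equiv e⟩,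
      fun ⟨_, _⟩ => ⟨Module.Finite.equiv e.symm, Module.Projective.of_equiv e.symm⟩⟩

theorem fp_cl (A : Type u) [AddCommGroup A] [Module R A] [Module.Finite R A] [Module.Projective R A] : FP (cl (R := R) A) :=
  ⟨‹_›, ‹_›⟩

theorem fp_nat (n : ℕ) : FP (n : Cl R) := natCast_eq (R := R) n ▸ fp_cl _

theorem fp_add {a b : Cl R} : FP a → FP b → FP (a + b) := by
  induction a using Quotient.inductionOn with
  | _ A => induction b using Quotient.inductionOn with
    | _ B => exact fun ⟨_, _⟩ ⟨_, _⟩ => fp_cl (A × B)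

theorem fp_mul {a b : Cl R} : FP a → FP b → FP (a * b) := by
  induction a using Quotient.inductionOn with
  | _ A => induction b using Quotient.inductionOn with
    | _ B => exact fun ⟨_, _⟩ ⟨_, _⟩ => fp_cl (A ⊗[R] B)

theorem fp_compl {a : Cl R} : FP a → ∃ c l, a + c = (l : ℕ) := by
  induction a using Quotient.inductionOn with
  | _ A =>
    rintro ⟨hf, hpr⟩
    obtain ⟨n, π, hπ⟩ := Module.Finite.exists_fin' R A
    obtain ⟨σ, hσ⟩ := Module.projective_lifting_property π LinearMap.id hπ
    refine ⟨cl (LinearMap.ker π), n, ?_⟩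
    rw [natCast_eq]
    have hπσ : ∀ a, π (σ a) = a := fun a => LinearMap.congr_fun hσ a
    exact cl_eq
      ({ toFun := fun z => σ z.1 + z.2.1
         map_add' := fun y z => by simp only [Prod.fst_add, Prod.snd_add, map_add, Submodule.coe_add]; abel
         map_smul' := fun c z => by simp [smul_add]
         invFun := fun v => (π v, ⟨v - σ (π v), by rw [LinearMap.mem_ker, map_sub, hπσ, sub_self]⟩)
         left_inv := fun z => by
           have hz : π z.2.1 = 0 := z.2.2
           refine Prod.ext ?_ (Subtype.ext ?_)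
           · show π (σ z.1 + z.2.1) = z.1
             rw [map_add, hπσ, hz, add_zero]
           · show σ z.1 + z.2.1 - σ (π (σ z.1 + z.2.1)) = z.2.1
             rw [map_add π, hπσ, hz, add_zero, add_sub_cancel_left]
         right_inv := fun v => by simp } : (A × LinearMap.ker π) ≃ₗ[R] (Fin n → R))

/-- Stable isomorphism. -/
def St (a b : Cl R) : Prop := ∃ m : ℕ, a + m = b + m

theorem St.symm {a b : Cl R} : St a b → St b a := fun ⟨m, h⟩ => ⟨m, h.symm⟩

theorem St.add {a b a' b' : Cl R} : St a b → St a' b' → St (a + a') (b + b') := fun ⟨m, h⟩ ⟨m', h'⟩ =>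
  ⟨m + m', by rw [Nat.cast_add, add_add_add_comm, h, h', add_add_add_comm]⟩

theorem St.mul {a b c : Cl R} (hc : FP c) : St a b → St (a * c) (b * c) := fun ⟨m, h⟩ => by
  obtain ⟨c', l, hl⟩ := fp_compl hc
  refine ⟨m * l, ?_⟩
  rw [Nat.cast_mul, ← hl, mul_add, ← add_assoc, ← add_mul, h, add_mul, add_assoc]

section Ideal

open Polynomial

variable (x : Cl R) (r : ℕ)

/-- Evaluation at a class. -/
noncomputable def ev : ℕ[X] →+* Cl R := Polynomial.eval₂RingHom (Nat.castRingHom (Cl R)) x

theorem ev_X : ev x X = x := Polynomial.eval₂_X _ _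

theorem fp_ev (hx : FP x) (f : ℕ[X]) : FP (ev x f) := by
  induction f using Polynomial.induction_on' with
  | add f g hf hg => rw [map_add]; exact fp_add hf hg
  | monomial n a =>
    induction n with
    | zero => rw [monomial_zero_left, ev, coe_eval₂RingHom, eval₂_C]; exact fp_nat a
    | succ n ih => rw [← monomial_mul_X, map_mul, ev_X]; exact fp_mul ih hx

/-- The cast to integral polynomials. -/
noncomputable def cst : ℕ[X] →+* ℤ[X] := Polynomial.mapRingHom (Nat.castRingHom ℤ)

theorem cst_injective : Function.Injective cst := Polynomial.map_injective _ Int.ofNat_injective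

theorem exists_sub (q : ℤ[X]) : ∃ a b, q = cst a - cst b := by
  induction q using Polynomial.induction_on' with
  | add f g hf hg =>
    obtain ⟨a, b, rfl⟩ := hf
    obtain ⟨a', b', rfl⟩ := hg
    exact ⟨a + a', b + b', by rw [map_add, map_add]; ring⟩
  | monomial n z =>
    refine ⟨monomial n z.toNat, monomial n (-z).toNat, ?_⟩
    simp only [cst, coe_mapRingHom, map_monomial, ← map_sub]
    congr 1
    simp

/-- Stable relations. -/
def rel (hx : FP x) : Ideal ℤ[X] where
  carrier := {h | ∃ f g, h = cst f - cst g ∧ St (ev x f) (ev x g)}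
  zero_mem' := ⟨0, 0, by simp, 0, rfl⟩
  add_mem' := by
    rintro _ _ ⟨f, g, rfl, h⟩ ⟨f', g', rfl, h'⟩
    exact ⟨f + f', g + g', by rw [map_add, map_add]; ring, by rw [map_add, map_add]; exact h.add h'⟩
  smul_mem' := by
    rintro q _ ⟨f, g, rfl, h⟩
    obtain ⟨a, b, rfl⟩ := exists_sub q
    refine ⟨f * a + g * b, g * a + f * b, by rw [smul_eq_mul]; simp only [map_add, map_mul]; ring, ?_⟩
    simp only [map_add, map_mul]
    exact (h.mul (fp_ev x hx a)).add (h.symm.mul (fp_ev x hx b))

theorem pow_mul_mem (hx : FP x) (n k : ℕ) (hn : ((X : ℤ[X]) ^ n - (r : ℤ[X]) ^ n) ∈ rel x hx)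
    (hk : ((X : ℤ[X]) - (r : ℤ[X])) ^ k ∈ rel x hx) :
    ((n * r ^ (n - 1) : ℕ) : ℤ[X]) ^ k * ((X : ℤ[X]) - (r : ℤ[X])) ∈ rel x hx := by
  obtain ⟨C, hC⟩ := powAddExpansion ((r : ℤ[X])) ((X : ℤ[X]) - (r : ℤ[X])) n
  rw [add_sub_cancel] at hC
  set y : ℤ[X] := X - (r : ℤ[X])
  set M : ℤ[X] := ((n * r ^ (n - 1) : ℕ) : ℤ[X])
  have hM : M * y = (X ^ n - (r : ℤ[X]) ^ n) - C * y ^ 2 := by
    simp only [M, Nat.cast_mul, Nat.cast_pow]
    linear_combination (-1 : ℤ[X]) * hC
  have key : ∀ j i, i + j = k → 1 ≤ i → M ^ j * y ^ i ∈ rel x hx := by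
    intro j
    induction j with
    | zero => intro i hi _; rw [pow_zero, one_mul, show i = k by omega]; exact hk
    | succ j ih =>
      intro i hi hi1
      obtain ⟨i, rfl⟩ : ∃ i', i = i' + 1 := ⟨i - 1, by omega⟩
      rw [show M ^ (j + 1) * y ^ (i + 1) = (M ^ j * y ^ i) * (M * y) by ring, hM, mul_sub]
      refine sub_mem (Ideal.mul_mem_left _ _ hn) ?_
      rw [show M ^ j * y ^ i * (C * y ^ 2) = C * (M ^ j * y ^ (i + 2)) by ring]
      exact Ideal.mul_mem_left _ _ (ih (i + 2) (by omega) (by omega))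
  rcases k with _ | k
  · rw [pow_zero] at hk
    rw [pow_zero, one_mul, ← mul_one y]
    exact Ideal.mul_mem_left _ _ hk
  · rw [pow_succ', mul_assoc]
    refine Ideal.mul_mem_left _ _ ?_
    have := key k 1 (by omega) le_rfl
    rwa [pow_one] at this

theorem stable_of_mem (hx : FP x) (N : ℕ) (h : (N : ℤ[X]) * ((X : ℤ[X]) - (r : ℤ[X])) ∈ rel x hx) :
    St ((N : Cl R) * x) ((N * r : ℕ) : Cl R) := by
  obtain ⟨f, g, hfg, m, hm⟩ := h
  have he : f + ((N * r : ℕ) : ℕ[X]) = g + (N : ℕ[X]) * X := cst_injective (by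
    simp only [map_add, map_mul, map_natCast, Nat.cast_mul]
    rw [show cst X = (X : ℤ[X]) from Polynomial.map_X _]
    linear_combination (-1 : ℤ[X]) * hfg)
  have hev := congrArg (ev x) he
  rw [map_add, map_add, map_mul, map_natCast, map_natCast, ev_X] at hev
  obtain ⟨c, l, hl⟩ := fp_compl (fp_ev x hx f)
  refine ⟨l + m, ?_⟩
  rw [Nat.cast_add, ← hl]
  calc (N : Cl R) * x + (ev x f + c + m) = (N : Cl R) * x + c + (ev x f + m) := by ring
    _ = (ev x g + (N : Cl R) * x) + c + m := by rw [hm]; ring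
    _ = ((N * r : ℕ) : Cl R) + (ev x f + c + m) := by rw [← hev]; ring

end Ideal

section Local

variable [IsNoetherianRing R] {P : Type u} [AddCommGroup P] [Module R P] [Module.Finite R P] [Module.Projective R P]

theorem exists_pair (r : ℕ) (p : PrimeSpectrum R) (hr : Module.rankAtStalk (R := R) P p = r) :
    ∃ s ∉ p.asIdeal, ∃ (φ : P →ₗ[R] (Fin r → R)) (ψ : (Fin r → R) →ₗ[R] P),
      φ ∘ₗ ψ = s • LinearMap.id ∧ ψ ∘ₗ φ = s • LinearMap.id := by
  classical
  let Rp := Localization.AtPrime p.asIdeal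
  let L := LocalizedModule p.asIdeal.primeCompl P
  let f := LocalizedModule.mkLinearMap p.asIdeal.primeCompl P
  haveI : Module.Free Rp L := Module.free_of_flat_of_isLocalRing
  let b : Module.Basis (Fin r) Rp L := Module.finBasisOfFinrankEq Rp L hr
  choose xs hxs using fun i => IsLocalizedModule.surj p.asIdeal.primeCompl f (b i)
  let ψ : (Fin r → R) →ₗ[R] P := Fintype.linearCombination R fun i => (xs i).1
  let den : Fin r → R := fun i => ((xs i).2 : R)
  have hψ : ∀ c, f (ψ c) = ∑ i, algebraMap R Rp (c i * den i) • b i := fun c => by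
    rw [Fintype.linearCombination_apply, map_sum]
    refine Finset.sum_congr rfl fun i _ => ?_
    rw [map_smul, ← hxs, Submonoid.smul_def, smul_smul, ← algebraMap_smul Rp (c i * den i)]
  have hker : ∀ c, ψ c = 0 → ∃ g ∉ p.asIdeal, g • c = 0 := fun c hc => by
    have h := hψ c
    rw [hc, map_zero] at h
    have hi : ∀ i, ∃ g : p.asIdeal.primeCompl, (g : R) * (c i * den i) = 0 := fun i =>
      (IsLocalization.map_eq_zero_iff p.asIdeal.primeCompl Rp _).1
        (Fintype.linearIndependent_iff.1 b.linearIndependent _ h.symm i)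
    choose g hg using hi
    refine ⟨∏ i, (g i : R) * den i, fun hmem => ?_, funext fun i => ?_⟩
    · obtain ⟨i, -, hi⟩ := p.isPrime.prod_mem_iff.1 hmem
      rcases p.isPrime.mem_or_mem hi with h' | h'
      · exact (g i).2 h'
      · exact (xs i).2.2 h'
    · obtain ⟨d, hd⟩ := Finset.dvd_prod_of_mem (fun i => (g i : R) * den i) (Finset.mem_univ i)
      show (∏ i, (g i : R) * den i) * c i = 0
      rw [hd]
      linear_combination d * hg i
  have hcoker : ∀ y : P, ∃ g ∉ p.asIdeal, g • y ∈ LinearMap.range ψ := fun y => by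
    have hc : ∀ i, ∃ (a : R) (t : p.asIdeal.primeCompl), b.repr (f y) i * algebraMap R Rp t = algebraMap R Rp a := fun i => by
      obtain ⟨⟨a, t⟩, h⟩ := IsLocalization.surj p.asIdeal.primeCompl (b.repr (f y) i)
      exact ⟨a, t, h⟩
    choose a t hat using hc
    let d := ∏ i, ((t i : R) * den i)
    have hd : d ∉ p.asIdeal := fun hmem => by
      obtain ⟨i, -, hi⟩ := p.isPrime.prod_mem_iff.1 hmem
      rcases p.isPrime.mem_or_mem hi with h' | h'
      · exact (t i).2 h'
      · exact (xs i).2.2 h'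
    let c : Fin r → R := fun i => a i * ∏ l ∈ Finset.univ.erase i, ((t l : R) * den l)
    have hfy : f (d • y) = f (ψ c) := by
      rw [hψ, map_smul]
      conv_lhs => rw [← b.sum_repr (f y), Finset.smul_sum]
      refine Finset.sum_congr rfl fun i _ => ?_
      rw [← algebraMap_smul Rp d, smul_smul]
      congr 1
      simp only [c, d, ← Finset.mul_prod_erase _ _ (Finset.mem_univ i), map_mul]
      linear_combination (algebraMap R Rp (den i) * algebraMap R Rp (∏ l ∈ Finset.univ.erase i, ((t l : R) * den l))) * hat i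
    obtain ⟨g, hg⟩ := (IsLocalizedModule.eq_iff_exists p.asIdeal.primeCompl f).1 hfy
    refine ⟨g * d, p.isPrime.mul_notMem g.2 hd, (g : R) • c, ?_⟩
    rw [map_smul, ← smul_smul]
    exact hg.symm
  have kill : ∀ {N : Type u} [AddCommGroup N] [Module R N] (S : Submodule R N) (T : Finset N)
      (_ : ∀ z ∈ T, ∃ g ∉ p.asIdeal, g • z ∈ S), ∃ g ∉ p.asIdeal, ∀ z ∈ T, g • z ∈ S := by
    intro N _ _ S T hT
    choose g hg hgz using hT
    refine ⟨∏ z ∈ T.attach, g z.1 z.2, fun h => ?_, fun z hz => ?_⟩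
    · obtain ⟨z, -, hz⟩ := p.isPrime.prod_mem_iff.1 h
      exact hg _ _ hz
    · obtain ⟨d, hd⟩ := Finset.dvd_prod_of_mem (fun z : T => g z.1 z.2) (Finset.mem_attach T ⟨z, hz⟩)
      rw [hd, mul_comm, mul_smul]
      exact S.smul_mem d (hgz z hz)
  obtain ⟨T, hT⟩ := Module.Finite.fg_top (R := R) (M := P)
  obtain ⟨g, hg, hgT⟩ := kill (LinearMap.range ψ) T fun y _ => hcoker y
  have hgall : ∀ y, g • y ∈ LinearMap.range ψ := fun y => by
    have : Submodule.span R (T : Set P) ≤ (LinearMap.range ψ).comap (g • LinearMap.id : P →ₗ[R] P) :=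
      Submodule.span_le.2 fun z hz => hgT z hz
    exact this (hT ▸ Submodule.mem_top)
  obtain ⟨φ, hφ⟩ := Module.projective_lifting_property ψ.rangeRestrict
    ((g • LinearMap.id : P →ₗ[R] P).codRestrict _ hgall) ψ.surjective_rangeRestrict
  have hψφ : ψ ∘ₗ φ = g • LinearMap.id := LinearMap.ext fun y => congrArg Subtype.val (LinearMap.congr_fun hφ y)
  obtain ⟨K, hK⟩ := (IsNoetherian.noetherian (LinearMap.ker ψ))
  obtain ⟨g', hg', hg'K⟩ := kill (⊥ : Submodule R (Fin r → R)) K fun z hz => by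
    obtain ⟨a, ha, h0⟩ := hker z (LinearMap.mem_ker.1 (hK ▸ Submodule.subset_span hz))
    exact ⟨a, ha, by simp [h0]⟩
  have hg'all : ∀ c, ψ c = 0 → g' • c = 0 := fun c hc => by
    have : Submodule.span R (K : Set (Fin r → R)) ≤ LinearMap.ker (g' • LinearMap.id : (Fin r → R) →ₗ[R] _) :=
      Submodule.span_le.2 fun z hz => by simpa using hg'K z hz
    have h := this (hK.symm ▸ (LinearMap.mem_ker.2 hc) : c ∈ Submodule.span R (K : Set (Fin r → R)))
    simpa using h
  refine ⟨g' * g, p.isPrime.mul_notMem hg' hg, g' • φ, ψ, ?_, ?_⟩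
  · refine LinearMap.ext fun c => ?_
    show g' • φ (ψ c) = (g' * g) • c
    rw [mul_smul, ← sub_eq_zero, ← smul_sub]
    refine hg'all _ ?_
    rw [map_sub, map_smul, sub_eq_zero]
    exact LinearMap.congr_fun hψφ (ψ c)
  · rw [LinearMap.comp_smul, hψφ, smul_smul]

end Local

section MF

variable (P : Type u) [AddCommGroup P] [Module R P] (r : ℕ)

open Polynomial

/-- Matrix factorisations of a scalar. -/
def Reach (s : R) : Prop := ∃ (k : ℕ) (f g : ℕ[X]) (A B : ModuleCat.{u} R) (a : A →ₗ[R] B) (b : B →ₗ[R] A),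
  cl (R := R) A = ev (cl (R := R) P) f ∧ cl (R := R) B = ev (cl (R := R) P) g ∧ cst f - cst g = ((X : ℤ[X]) - (r : ℤ[X])) ^ k ∧
    (∀ z, b (a z) = s • z) ∧ ∀ z, a (b z) = s • z

theorem reach_zero : Reach P r (0 : R) :=
  ⟨0, 1, 0, ModuleCat.of R R, ModuleCat.of R PUnit, 0, 0, (map_one _).symm, (map_zero _).symm, by simp,
    fun z => by simp, fun z => by simp⟩

variable {P r}

theorem reach_add {s t : R} (hs : Reach P r s) (φ : P →ₗ[R] (Fin r → R)) (ψ : (Fin r → R) →ₗ[R] P)
    (h1 : φ ∘ₗ ψ = t • LinearMap.id) (h2 : ψ ∘ₗ φ = t • LinearMap.id) : Reach P r (s + t) := by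
  obtain ⟨k, f, g, A, B, a, b, hA, hB, hk, hba, hab⟩ := hs
  let F := Fin r → R
  let U : (A ⊗[R] P) × (B ⊗[R] F) →ₗ[R] (A ⊗[R] F) × (B ⊗[R] P) :=
    LinearMap.prod (φ.lTensor A ∘ₗ LinearMap.fst R _ _ - b.rTensor F ∘ₗ LinearMap.snd R _ _)
      (a.rTensor P ∘ₗ LinearMap.fst R _ _ + ψ.lTensor B ∘ₗ LinearMap.snd R _ _)
  let V : (A ⊗[R] F) × (B ⊗[R] P) →ₗ[R] (A ⊗[R] P) × (B ⊗[R] F) :=
    LinearMap.prod (ψ.lTensor A ∘ₗ LinearMap.fst R _ _ + b.rTensor P ∘ₗ LinearMap.snd R _ _)
      (φ.lTensor B ∘ₗ LinearMap.snd R _ _ - a.rTensor F ∘ₗ LinearMap.fst R _ _)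
  refine ⟨k + 1, f * X + g * (r : ℕ[X]), f * (r : ℕ[X]) + g * X, ModuleCat.of R ((A ⊗[R] P) × (B ⊗[R] F)),
    ModuleCat.of R ((A ⊗[R] F) × (B ⊗[R] P)), U, V, ?_, ?_, ?_, ?_, ?_⟩
  · rw [map_add, map_mul, map_mul, map_natCast, ev_X, ← hA, ← hB, natCast_eq]; rfl
  · rw [map_add, map_mul, map_mul, map_natCast, ev_X, ← hA, ← hB, natCast_eq]; rfl
  · rw [pow_succ, ← hk]
    simp only [map_add, map_mul, map_natCast]
    rw [show cst X = (X : ℤ[X]) from Polynomial.map_X _]
    ring
  all_goals
    have e1 : ∀ (N : Type u) [AddCommGroup N] [Module R N] (x : N ⊗[R] F),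
        φ.lTensor N (ψ.lTensor N x) = t • x := fun N _ _ x => by
      rw [← LinearMap.comp_apply, ← LinearMap.lTensor_comp, h1, LinearMap.lTensor_smul, LinearMap.lTensor_id]; rfl
    have e2 : ∀ (N : Type u) [AddCommGroup N] [Module R N] (x : N ⊗[R] P),
        ψ.lTensor N (φ.lTensor N x) = t • x := fun N _ _ x => by
      rw [← LinearMap.comp_apply, ← LinearMap.lTensor_comp, h2, LinearMap.lTensor_smul, LinearMap.lTensor_id]; rfl
    have e3 : ∀ (N : Type u) [AddCommGroup N] [Module R N] (x : A ⊗[R] N),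
        b.rTensor N (a.rTensor N x) = s • x := fun N _ _ x => by
      rw [← LinearMap.comp_apply, ← LinearMap.rTensor_comp, show b ∘ₗ a = s • LinearMap.id from LinearMap.ext hba,
        LinearMap.rTensor_smul, LinearMap.rTensor_id]; rfl
    have e4 : ∀ (N : Type u) [AddCommGroup N] [Module R N] (x : B ⊗[R] N),
        a.rTensor N (b.rTensor N x) = s • x := fun N _ _ x => by
      rw [← LinearMap.comp_apply, ← LinearMap.rTensor_comp, show a ∘ₗ b = s • LinearMap.id from LinearMap.ext hab,
        LinearMap.rTensor_smul, LinearMap.rTensor_id]; rfl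
    have e5 : ∀ {N N' K K' : Type u} [AddCommGroup N] [Module R N] [AddCommGroup N'] [Module R N']
        [AddCommGroup K] [Module R K] [AddCommGroup K'] [Module R K'] (c : N →ₗ[R] N') (d : K →ₗ[R] K') (x : N ⊗[R] K),
        c.rTensor K' (d.lTensor N x) = d.lTensor N' (c.rTensor K x) := fun c d x => by
      rw [← LinearMap.comp_apply, ← LinearMap.comp_apply, LinearMap.rTensor_comp_lTensor, LinearMap.lTensor_comp_rTensor]
    rintro ⟨y, z⟩
    refine Prod.ext ?_ ?_
    all_goals
      simp only [U, V, LinearMap.prod_apply, Function.prod_apply, Pi.prod, LinearMap.sub_apply, LinearMap.add_apply, LinearMap.comp_apply,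
        LinearMap.fst_apply, LinearMap.snd_apply, map_add, map_sub, e1, e2, e3, e4, e5, add_smul, Prod.smul_fst,
        Prod.smul_snd, Prod.fst_add, Prod.snd_add]
      abel

theorem exists_pow_mem [IsNoetherianRing R] [Module.Finite R P] [Module.Projective R P]
    (hr : ∀ p : PrimeSpectrum R, Module.rankAtStalk (R := R) P p = r) :
    ∃ k : ℕ, ((X : ℤ[X]) - (r : ℤ[X])) ^ k ∈ rel (cl (R := R) P) (fp_cl P) := by
  let S : Set R := {t | ∃ (φ : P →ₗ[R] (Fin r → R)) (ψ : (Fin r → R) →ₗ[R] P),
    φ ∘ₗ ψ = t • LinearMap.id ∧ ψ ∘ₗ φ = t • LinearMap.id}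
  have htop : Ideal.span S = ⊤ := by
    by_contra h
    obtain ⟨m, hm, hle⟩ := Ideal.exists_le_maximal _ h
    obtain ⟨s, hs, hsS⟩ := exists_pair r ⟨m, hm.isPrime⟩ (hr _)
    exact hs (hle (Ideal.subset_span hsS))
  have key : ∀ x ∈ Ideal.span S, ∀ c s, Reach P r s → Reach P r (s + c * x) := by
    intro x hx
    induction hx using Submodule.span_induction with
    | mem x hx =>
      obtain ⟨φ, ψ, h1, h2⟩ := hx
      intro c s hs
      refine reach_add hs (c • φ) ψ ?_ ?_
      · rw [LinearMap.smul_comp, h1, smul_smul]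
      · rw [LinearMap.comp_smul, h2, smul_smul]
    | zero => intro c s hs; rwa [mul_zero, add_zero]
    | add x y _ _ hx hy => intro c s hs; rw [mul_add, ← add_assoc]; exact hy c _ (hx c s hs)
    | smul a x _ hx => intro c s hs; rw [smul_eq_mul, ← mul_assoc]; exact hx _ s hs
  have h1 := key 1 (htop ▸ Submodule.mem_top) 1 0 (reach_zero P r)
  rw [one_mul, zero_add] at h1
  obtain ⟨k, f, g, A, B, a, b, hA, hB, hk, hba, hab⟩ := h1
  refine ⟨k, f, g, hk.symm, 0, ?_⟩
  rw [← hA, ← hB]
  congr 1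
  exact cl_eq (LinearEquiv.ofLinearMap a b (LinearMap.ext fun z => by simpa using hab z)
    (LinearMap.ext fun z => by simpa using hba z))

end MF

theorem rankAtStalk_tensorPower (P : Type u) [AddCommGroup P] [Module R P] [Module.Finite R P] [Module.Projective R P] :
    ∀ n : ℕ, Module.Finite R (TensorPower R (n + 1) P) ∧ Module.Projective R (TensorPower R (n + 1) P) ∧
      cl (R := R) (TensorPower R (n + 1) P) = cl P ^ (n + 1) ∧
      ∀ p, Module.rankAtStalk (R := R) (TensorPower R (n + 1) P) p = Module.rankAtStalk (R := R) P p ^ (n + 1)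
  | 0 => by
    let e : TensorPower R 1 P ≃ₗ[R] P := PiTensorProduct.subsingletonEquiv (0 : Fin 1)
    refine ⟨Module.Finite.equiv e.symm, Module.Projective.of_equiv e.symm, by rw [pow_one]; exact cl_eq e, fun p => ?_⟩
    rw [pow_one, Module.rankAtStalk_eq_of_equiv e]
  | n + 1 => by
    obtain ⟨hf, hp, hc, hr⟩ := rankAtStalk_tensorPower P n
    let e : TensorPower R (n + 1) P ⊗[R] P ≃ₗ[R] TensorPower R (n + 1 + 1) P :=
      (TensorProduct.congr (LinearEquiv.refl R _)
        (PiTensorProduct.subsingletonEquiv (0 : Fin 1) : TensorPower R 1 P ≃ₗ[R] P).symm).trans TensorPower.mulEquiv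
    refine ⟨Module.Finite.equiv e, Module.Projective.of_equiv e, ?_, fun p => ?_⟩
    · rw [pow_succ (cl (R := R) P) (n + 1), ← hc]; exact (cl_eq e).symm
    · rw [← Module.rankAtStalk_eq_of_equiv e, Module.rankAtStalk_tensorProduct, Pi.mul_apply, hr, ← pow_succ]

/-- Let R be a Noetherian commutative ring of finite Krull dimension and P a finitely generated
projective R-module. If the n-th tensor power of P is free for some n ≥ 1, then the direct sum of N
copies of P is free for some N ≥ 1. -/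
theorem result (R : Type u) [CommRing R] [IsNoetherianRing R]
    (hdim : ringKrullDim R < ⊤) (P : Type u) [AddCommGroup P] [Module R P] [Module.Finite R P]
    [Module.Projective R P] (n : ℕ) (hn : 1 ≤ n) (hfree : Module.Free R (TensorPower R n P)) :
    ∃ N : ℕ, 1 ≤ N ∧ Module.Free R (Fin N → P) := by
  classical
  rcases subsingleton_or_nontrivial R with hR | hR
  · haveI := Module.subsingleton R (Fin 1 → P)
    exact ⟨1, le_rfl, Module.Free.of_subsingleton R _⟩
  obtain ⟨n, rfl⟩ : ∃ n', n = n' + 1 := ⟨n - 1, by omega⟩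
  obtain ⟨hf, -, hc, hrk⟩ := rankAtStalk_tensorPower (R := R) P n
  haveI := hf
  haveI := hfree
  let F := TensorPower R (n + 1) P
  have hFr : ∀ p, Module.rankAtStalk (R := R) F p = Module.finrank R F := fun p => by
    rw [Module.rankAtStalk_eq_finrank_of_free, Pi.natCast_apply, Nat.cast_id]
  obtain ⟨p0⟩ : Nonempty (PrimeSpectrum R) := inferInstance
  let r := Module.rankAtStalk (R := R) P p0
  have hr : ∀ p, Module.rankAtStalk (R := R) P p = r := fun p =>
    Nat.pow_left_injective n.succ_ne_zero (show _ ^ (n + 1) = _ ^ (n + 1) by rw [← hrk, ← hrk, hFr, hFr])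
  rcases Nat.eq_zero_or_pos r with h0 | hpos
  · haveI : Subsingleton P := by
      rw [← Module.rankAtStalk_eq_zero_iff_subsingleton (R := R)]
      ext p; simp [hr, h0]
    exact ⟨1, le_rfl, Module.Free.of_subsingleton R _⟩
  open Polynomial in
  have hn' : ((X : ℤ[X]) ^ (n + 1) - (r : ℤ[X]) ^ (n + 1)) ∈ rel (cl (R := R) P) (fp_cl P) := by
    refine ⟨X ^ (n + 1), ((r ^ (n + 1) : ℕ) : ℕ[X]), ?_, 0, ?_⟩
    · simp [cst]
    · rw [map_pow, ev_X, map_natCast, natCast_eq, ← hc]
      congr 1
      refine (cl_eq ((Module.finBasisOfFinrankEq R F ?_).equivFun)).trans (natCast_eq _).symm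
      rw [← hFr p0, hrk]
  obtain ⟨k, hk⟩ := exists_pow_mem (R := R) (P := P) hr
  obtain ⟨d, hd⟩ : ∃ d : ℕ, ringKrullDim R = d := by
    have hb : ringKrullDim R ≠ ⊥ := fun h => by
      have := ringKrullDim_nonneg_of_nontrivial (R := R)
      rw [h] at this
      exact absurd this (not_le.2 (WithBot.bot_lt_coe _))
    obtain ⟨x, hx⟩ := WithBot.ne_bot_iff_exists.1 hb
    rw [← hx] at hdim
    have hxt : x ≠ ⊤ := fun h => by rw [h] at hdim; exact lt_irrefl _ hdim
    obtain ⟨d, rfl⟩ := WithTop.ne_top_iff_exists.1 hxt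
    exact ⟨d, hx.symm⟩
  let N0 := ((n + 1) * r ^ (n + 1 - 1)) ^ k
  have hmem := pow_mul_mem (cl (R := R) P) r (fp_cl P) (n + 1) k hn' hk
  rw [← Nat.cast_pow] at hmem
  let N := (d + 1) * N0
  have hmem' : (N : Polynomial ℤ) * ((Polynomial.X : Polynomial ℤ) - (r : Polynomial ℤ)) ∈ rel (cl (R := R) P) (fp_cl P) := by
    rw [Nat.cast_mul, mul_assoc]
    exact Ideal.mul_mem_left _ _ hmem
  obtain ⟨m, hm⟩ := stable_of_mem (cl (R := R) P) r (fp_cl P) N hmem'
  have hN : ((Fin N → P) : Type u) = (Fin N → P) := rfl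
  have hcl : cl (R := R) (Fin N → P) = (N : Cl R) * cl P := by
    rw [natCast_eq]
    exact cl_eq ((TensorProduct.comm R (Fin N → R) P).trans (TensorProduct.piScalarRight R R P (Fin N))).symm
  rw [← hcl, natCast_eq, natCast_eq, ← cl_prod, ← cl_prod] at hm
  obtain ⟨e⟩ := of_cl_eq hm
  have hN0 : 0 < N := Nat.mul_pos (Nat.succ_pos d) (pow_pos (Nat.mul_pos n.succ_pos (pow_pos hpos _)) _)
  haveI : Module.Projective R (Fin N → P) := Module.Projective.of_equiv
    (((TensorProduct.comm R (Fin N → R) P).trans (TensorProduct.piScalarRight R R P (Fin N))))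
  obtain ⟨e'⟩ := Groth.Agent.S19545.result R d (N * r) hd (Fin N → P) (Fin (N * r) → R)
    (fun p => by rw [Module.rankAtStalk_pi, finsum_eq_sum_of_fintype]; simp [hr])
    (fun p => by rw [Module.rankAtStalk_eq_finrank_of_free]; simp)
    (by
      calc d < (d + 1) := Nat.lt_succ_self d
        _ ≤ N := Nat.le_mul_of_pos_right _ (pow_pos (Nat.mul_pos n.succ_pos (pow_pos hpos _)) _)
        _ ≤ N * r := Nat.le_mul_of_pos_right _ hpos) m e
  exact ⟨N, hN0, Module.Free.of_equiv e'.symm⟩

end Groth.Agent.S14985
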