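import Groth.Statements.S14988
import Groth.Agent.Lib.TensorMod.Invertible
import Groth.Agent.Lib.KFlat.Scheme

set_option autoImplicit false
universe u
open CategoryTheory CategoryTheory.Limits AlgebraicGeometry
open ResProp

namespace Groth.Agent.S14988

open CategoryTheory Limits AlgebraicGeometry Groth.Agent

set_option backward.isDefEq.respectTransparency.types false

/-- In the case of schemes, let f : X ⟶ Y be a morphism of quasi-compact quasi-separated schemes. If
every quasi-coherent module on Y is a quotient of a direct sum of finite locally free modules (Y has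
the resolution property) and some family (W_i) of finite locally free modules on X is f-generating,
i.e. every quasi-coherent module on X is a quotient of a direct sum of modules W_i ⊗ f^*N with N
quasi-coherent on Y, then every quasi-coherent module on X is a quotient of a direct sum of finite
locally free modules (X has the resolution property). (The published statement is for quasi-compact
quasi-separated morphisms of algebraic stacks and assumes the family universally f-generating; this
row is the case of schemes and assumes the family only f-generating, which is what the argument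
uses.) -/
theorem result {X Y : Scheme.{u}}
    [CompactSpace X] [QuasiSeparatedSpace X] [CompactSpace Y] [QuasiSeparatedSpace Y] (f : X ⟶ Y)
    (hY : ∀ N : Y.Modules, Coh.IsQCoh N →
      ∃ (κ : Type u) (V : κ → Y.Modules) (π : (∐ V) ⟶ N), (∀ k, FlatMod.IsFinLocFree (V k)) ∧ Epi π)
    {ι : Type u} (W : ι → X.Modules) (hW : ∀ i, FlatMod.IsFinLocFree (W i))
    (hf : ∀ M : X.Modules, Coh.IsQCoh M →
      ∃ (κ : Type u) (j : κ → ι) (N : κ → Y.Modules)
        (π : (∐ fun k => CohB1.tensorMod (W (j k)) ((Scheme.Modules.pullback f).obj (N k))) ⟶ M),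
        (∀ k, Coh.IsQCoh (N k)) ∧ Epi π) :
    ∀ M : X.Modules, Coh.IsQCoh M →
      ∃ (κ : Type u) (E : κ → X.Modules) (π : (∐ E) ⟶ M), (∀ k, FlatMod.IsFinLocFree (E k)) ∧ Epi π := by
  intro M hM
  obtain ⟨κ, j, N, π, hN, hπ⟩ := hf M hM
  choose κ' V π' hV hπ' using fun k => hY (N k) (hN k)
  let F : κ → Y.Modules ⥤ X.Modules := fun k =>
    Scheme.Modules.pullback f ⋙ (KFlat.Sch.TX X).obj (W (j k))
  let E : (Σ k, κ' k) → X.Modules := fun p => (F p.1).obj (V p.1 p.2)
  refine ⟨Σ k, κ' k, E, Sigma.desc fun p =>
    (F p.1).map (Sigma.ι (V p.1) p.2 ≫ π' p.1) ≫ Sigma.ι (fun k => CohB1.tensorMod (W (j k))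
      ((Scheme.Modules.pullback f).obj (N k))) p.1 ≫ π, fun p => ?_, ?_⟩
  · exact M2.isFinLocFree_tensor (hW _) (M2.isFinLocFree_pullback f (hV _ _))
  · refine ⟨fun {Z} g h e => ?_⟩
    haveI := hπ
    rw [← cancel_epi π]
    refine Sigma.hom_ext _ _ fun k => ?_
    haveI : PreservesColimitsOfShape (Discrete (κ' k)) ((KFlat.Sch.TX X).obj (W (j k))) :=
      KFlat.Site.preservesColimitsOfShape_obj (O := X.sheaf) (W (j k))
    haveI : PreservesColimitsOfShape (Discrete (κ' k)) (Scheme.Modules.pullback f) :=
      (Scheme.Modules.pullbackPushforwardAdjunction f).leftAdjoint_preservesColimits.preservesColimitsOfShape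
    haveI : PreservesColimitsOfShape (Discrete (κ' k)) (F k) :=
      comp_preservesColimitsOfShape (Scheme.Modules.pullback f) ((KFlat.Sch.TX X).obj (W (j k)))
    haveI := hπ' k
    haveI : Epi ((F k).map (π' k)) := inferInstance
    apply (cancel_epi ((F k).map (π' k))).1
    refine (isColimitOfPreserves (F k) (coproductIsCoproduct (V k))).hom_ext fun ⟨l⟩ => ?_
    have := Sigma.ι E ⟨k, l⟩ ≫= e
    simp only [Sigma.ι_desc_assoc, Category.assoc, Functor.map_comp] at this
    exact this

end Groth.Agent.S14988
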