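import Groth.Statements.S14989
import Groth.Agent.Lib.ResProp14.TorsionFree

set_option autoImplicit false
universe u
open CategoryTheory CategoryTheory.Limits AlgebraicGeometry
open ResProp

namespace Groth.Agent.S14989

/-- In the case of schemes, on a Noetherian integral scheme Y with affine diagonal (any two affine opens
meet in an affine open) every coherent module is a quotient of a torsion-free coherent module,
torsion-freeness meaning that each stalk is a torsion-free module over the local ring. (The
published statement is for Noetherian integral algebraic stacks with affine diagonal; this row is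
the case of schemes.) -/
theorem result (Y : Scheme.{u}) [IsNoetherian Y] [IsIntegral Y]
    (hd : ∀ V W : Y.Opens, IsAffineOpen V → IsAffineOpen W → IsAffineOpen (V ⊓ W))
    (F : Y.Modules) (hF : Coh.IsCoh F) :
    ∃ (F' : Y.Modules) (π : F' ⟶ F), Coh.IsCoh F' ∧
      (∀ y : Y, NoZeroSMulDivisors ↥(Y.presheaf.stalk y) ↥(F'.presheaf.stalk y)) ∧ Epi π := by
  obtain ⟨G, π, hG, ht, hπ⟩ := Groth.Agent.ResProp14.exists_tf_coh_epi hd F hF
  exact ⟨G, π, hG, ht, hπ⟩

end Groth.Agent.S14989
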