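import Groth.Statements.S14990
import Groth.Agent.Lib.BertiniJets13.Chart
import Groth.Agent.Lib.MeroLib.ZeroScheme
import Groth.Agent.Lib.Twist.Gen
import Groth.Agent.Lib.TensorMod.Invertible
import Groth.Agent.Lib.Ample18.Gen
import Groth.Agent.Lib.FormalH7.ModPow
set_option linter.style.haveILetI false
set_option backward.isDefEq.respectTransparency false
set_option backward.isDefEq.respectTransparency.types false

set_option autoImplicit false
universe u
open CategoryTheory CategoryTheory.Limits AlgebraicGeometry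
open Variety

namespace Groth.Agent.S14990

open Groth.Agent in
/-- Elements landing in the square of the maximal ideal of the local ring at a maximal ideal. -/
theorem mem_sq_of_germ {A Ap : Type u} [CommRing A] [CommRing Ap] [Algebra A Ap] (M : Ideal A) [M.IsMaximal]
    [IsLocalization.AtPrime Ap M] [IsLocalRing Ap] {a : A}
    (ha : algebraMap A Ap a ∈ IsLocalRing.maximalIdeal Ap ^ 2) : a ∈ M ^ 2 := by
  rw [← IsLocalization.AtPrime.map_eq_maximalIdeal M Ap, ← Ideal.map_pow,
    IsLocalization.algebraMap_mem_map_algebraMap_iff M.primeCompl] at ha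
  obtain ⟨s, hs, hsa⟩ := ha
  have htop : Ideal.span {s} ⊔ M ^ 2 = ⊤ := Ideal.sup_pow_eq_top
    ((‹M.IsMaximal›).1.2 _ (by rw [right_lt_sup, Ideal.span_singleton_le_iff_mem]; exact hs))
  obtain ⟨r', hr', t, ht, hrt⟩ := Submodule.mem_sup.1 ((Ideal.eq_top_iff_one _).1 htop)
  obtain ⟨r, rfl⟩ := Ideal.mem_span_singleton'.1 hr'
  rw [← one_mul a, ← hrt, add_mul, mul_assoc]
  exact add_mem ((M ^ 2).mul_mem_left _ hsa) ((M ^ 2).mul_mem_right _ ht)

open Groth.Agent in
/-- Evaluation of a linear combination of sections. -/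
theorem sval_comb (k : Type u) [Field k] (Y : Scheme.{u}) [Y.Over (Spec (CommRingCat.of k))] (L : Y.Modules)
    {m : ℕ} (s : Fin m → (Coh.structureModule Y ⟶ L)) (c : Fin m → k) (U : Y.Opens) :
    PicF2.secVal L (∑ i : Fin m, Formal.smulMod k (Coh.structureModule Y) (c i) ≫ s i) U =
      (show Γ(L, U) from ∑ i : Fin m, FormalH7.mult Y (c i) U • MeroLib.sval L (s i) U) := by
  show (∑ i : Fin m, Formal.smulMod k (Coh.structureModule Y) (c i) ≫ s i).app U (M1.one U) = _
  have hadd : ∀ t : Finset (Fin m), (∑ i ∈ t, Formal.smulMod k (Coh.structureModule Y) (c i) ≫ s i).app U (M1.one U) =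
      ∑ i ∈ t, FormalH7.mult Y (c i) U • MeroLib.sval L (s i) U := by
    intro t
    induction t using Finset.induction with
    | empty => simp
    | insert i t hi ih =>
      rw [Finset.sum_insert hi, Finset.sum_insert hi, Scheme.Modules.Hom.add_app]
      show (Formal.smulMod k (Coh.structureModule Y) (c i) ≫ s i).app U (M1.one U) + _ = _
      rw [ih]
      congr 1
      rw [Scheme.Modules.Hom.comp_app, ConcreteCategory.comp_apply, FormalH7.smulMod_app,
        Scheme.Modules.Hom.app_smul]
      rfl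
  exact hadd Finset.univ

/-- Let k be an algebraically closed field, Y a scheme smooth and of finite type over k, L an invertible
O_Y-module, s_1, …, s_m global sections of L (morphisms O_Y ⟶ L) such that at every closed point p
the span of the s_i maps onto L_p/m_p^2 L_p, and f a further global section of L. Then the zero
scheme of f + Σ c_i s_i is smooth over k for all c outside the zero set of some nonzero polynomial
in m variables. (The published hypothesis is stated at every point of Y; it can only hold at closed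
points, which is where the argument uses it, so this row asks it at closed points.) -/
theorem result (k : Type u) [Field k] [IsAlgClosed k]
    (Y : Scheme.{u}) [Y.Over (Spec (CommRingCat.of k))] [Smooth (Y ↘ Spec (CommRingCat.of k))]
    [QuasiCompact (Y ↘ Spec (CommRingCat.of k))]
    (L : Y.Modules) (hL : FlatMod.IsFinLocFreeOfRank 1 L) (m : ℕ)
    (s : Fin m → (Coh.structureModule Y ⟶ L)) (f : Coh.structureModule Y ⟶ L)
    (hjet : ∀ p : Y, IsClosed ({p} : Set Y) → ∀ l : ↥(L.presheaf.stalk p), ∃ c : Fin m → k,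
      (L.presheaf.germ ⊤ p trivial)
          (PicF2.secVal L (∑ i : Fin m, Formal.smulMod k (Coh.structureModule Y) (c i) ≫ s i) ⊤) - l ∈
        (IsLocalRing.maximalIdeal ↥(Y.presheaf.stalk p)) ^ 2 •
          (⊤ : Submodule ↥(Y.presheaf.stalk p) ↥(L.presheaf.stalk p))) :
    ∃ q : MvPolynomial (Fin m) k, q ≠ 0 ∧ ∀ c : Fin m → k, MvPolynomial.eval c q ≠ 0 →
      Smooth ((PicF2.zeroScheme L (f + ∑ i : Fin m, Formal.smulMod k (Coh.structureModule Y) (c i) ≫ s i)).subschemeι ≫
        (Y ↘ Spec (CommRingCat.of k))) := by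
  classical
  let π := Y ↘ Spec (CommRingCat.of k)
  have hinv : PicF.IsInvertible L := (M2.isInvertible_iff_isFinLocFreeOfRank_one L).2 hL
  haveI : JacobsonSpace ↥Y := LocallyOfFiniteType.jacobsonSpace π
  haveI : CompactSpace Y := QuasiCompact.compactSpace_of_compactSpace π
  have hex : ∀ y : Y, ∃ (U : Y.Opens) (e : Γ(L, U)), y ∈ U ∧ IsAffineOpen U ∧ Twist.IsGen L U e := fun y => by
    obtain ⟨U, e, hyU, -, hU, he⟩ := Amp.exists_isGenerator hinv (V := ⊤) (x := y) trivial
    exact ⟨U, e, hyU, hU, he⟩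
  choose U e hyU hU he using hex
  have key : ∀ y : Y, ∃ q : MvPolynomial (Fin m) k, q ≠ 0 ∧ ∀ c : Fin m → k, MvPolynomial.eval c q ≠ 0 →
      ((Ideal.Quotient.mk ((PicF2.zeroScheme L
        (f + ∑ i : Fin m, Formal.smulMod k (Coh.structureModule Y) (c i) ≫ s i)).ideal ⟨U y, hU y⟩)).comp
        ((π.appLE ⊤ (U y) le_top).hom.comp (Scheme.ΓSpecIso (CommRingCat.of k)).inv.hom)).Smooth := by
    intro y
    let A : Type u := Γ(Y, U y)
    let ι : k →+* A := (π.appLE ⊤ (U y) le_top).hom.comp (Scheme.ΓSpecIso (CommRingCat.of k)).inv.hom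
    letI : Algebra k A := ι.toAlgebra
    have hι : ∀ a : k, algebraMap k A a = FormalH7.mult Y a (U y) := fun a => by
      show (π.appLE ⊤ (U y) le_top) ((Scheme.ΓSpecIso (CommRingCat.of k)).inv a) = _
      rw [Scheme.Hom.appLE]
      rfl
    haveI : Algebra.Smooth k A := by
      rw [← RingHom.smooth_algebraMap]
      refine RingHom.Smooth.comp (RingHom.Smooth.of_bijective (ConcreteCategory.bijective_of_isIso (Scheme.ΓSpecIso (CommRingCat.of k)).inv)) ?_
      exact HasRingHomProperty.appLE (P := @Smooth) π inferInstance ⟨⊤, isAffineOpen_top _⟩ ⟨U y, hU y⟩ le_top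
    obtain ⟨g₀, hg₀⟩ := (he y _ le_rfl).2 (MeroLib.sval L f (U y))
    choose g hg using fun i => (he y _ le_rfl).2 (MeroLib.sval L (s i) (U y))
    simp only [M1.mres_id] at hg₀ hg
    have hval : ∀ c : Fin m → k, PicF2.secVal L (∑ i : Fin m, Formal.smulMod k (Coh.structureModule Y) (c i) ≫ s i) (U y) =
        (show Γ(L, U y) from (∑ i, c i • g i) • e y) := fun c => by
      refine (sval_comb k Y L s c (U y)).trans ?_
      show (∑ i, _ : Γ(L, U y)) = (∑ i, c i • g i) • e y
      rw [Finset.sum_smul]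
      exact Finset.sum_congr rfl fun i _ => by rw [Algebra.smul_def, mul_smul, hg, hι]
    have hjetA : ∀ (M : Ideal A), M.IsMaximal → ∀ z : A, ∃ c : Fin m → k, (∑ i, c i • g i) - z ∈ M ^ 2 := by
      intro M hM z
      let q : PrimeSpectrum A := ⟨M, hM.isPrime⟩
      let p : Y := (hU y).fromSpec q
      have hpU : p ∈ U y := (hU y).range_fromSpec.le ⟨q, rfl⟩
      have hpc : IsClosed ({p} : Set Y) := by
        refine isClosed_singleton_of_isLocallyClosed_singleton ?_
        have hcq : IsClosed ({q} : Set (PrimeSpectrum A)) := (PrimeSpectrum.isClosed_singleton_iff_isMaximal q).2 hM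
        have := hcq.isLocallyClosed.image (hU y).fromSpec.isOpenEmbedding.isInducing
          (hU y).fromSpec.isOpenEmbedding.isOpen_range.isLocallyClosed
        rwa [Set.image_singleton] at this
      letI := Y.presheaf.algebra_section_stalk (⟨p, hpU⟩ : U y)
      haveI : IsLocalization.AtPrime (Y.presheaf.stalk p) M := (hU y).isLocalization_stalk' q hpU
      obtain ⟨c, hc⟩ := hjet p hpc (L.presheaf.germ (U y) p hpU (z • e y))
      refine ⟨c, mem_sq_of_germ (Ap := Y.presheaf.stalk p) M ?_⟩
      have hres : L.presheaf.germ ⊤ p trivial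
          (PicF2.secVal L (∑ i : Fin m, Formal.smulMod k (Coh.structureModule Y) (c i) ≫ s i) ⊤) =
          L.presheaf.germ (U y) p hpU ((∑ i, c i • g i) • e y) := by
        refine (L.presheaf.germ_res_apply (homOfLE le_top) p hpU _).symm.trans (congrArg _ ?_)
        exact (MeroLib.mres_sval L _ le_top).trans (hval c)
      have hc2 : L.presheaf.germ ⊤ p trivial
          (PicF2.secVal L (∑ i : Fin m, Formal.smulMod k (Coh.structureModule Y) (c i) ≫ s i) ⊤) -
          L.presheaf.germ (U y) p hpU (z • e y) ∈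
          (IsLocalRing.maximalIdeal ↥(Y.presheaf.stalk p)) ^ 2 •
            (⊤ : Submodule ↥(Y.presheaf.stalk p) ↥(L.presheaf.stalk p)) := hc
      rw [hres] at hc2
      have hgs : ∀ a : A, L.presheaf.germ (U y) p hpU (a • e y) =
          (Y.presheaf.germ (U y) p hpU a) • (L.presheaf.germ (U y) p hpU (e y) : L.presheaf.stalk p) := fun a =>
        M1.germ_smul _ _ _ _
      rw [hgs, hgs, ← sub_smul, ← map_sub] at hc2
      have hb := (he y).stalk hpU
      have htop : (⊤ : Submodule ↥(Y.presheaf.stalk p) ↥(L.presheaf.stalk p)) =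
          Submodule.span _ {(L.presheaf.germ (U y) p hpU (e y) : L.presheaf.stalk p)} :=
        (eq_top_iff.2 fun l _ => Submodule.mem_span_singleton.2 (hb.2 l)).symm
      rw [htop, Submodule.mem_smul_span_singleton] at hc2
      obtain ⟨w, hw, hw'⟩ := hc2
      rw [hb.1 hw'] at hw
      exact hw
    obtain ⟨G, hG, hgood⟩ := BertiniJets13.exists_good_poly_affine g₀ g hjetA
    refine ⟨G, hG, fun c hc => ?_⟩
    have hsec : MeroLib.sval L (f + ∑ i : Fin m, Formal.smulMod k (Coh.structureModule Y) (c i) ≫ s i) (U y) =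
        (g₀ + ∑ i, c i • g i) • e y := by
      rw [add_smul, hg₀]
      refine Eq.trans ?_ (congrArg (fun v : Γ(L, U y) => MeroLib.sval L f (U y) + v) (hval c))
      show (f + ∑ i : Fin m, Formal.smulMod k (Coh.structureModule Y) (c i) ≫ s i).app (U y) (M1.one _) = _
      rw [Scheme.Modules.Hom.add_app]
      rfl
    have hb : Function.Bijective fun r : A => r • e y := by
      have := he y _ le_rfl
      simpa only [M1.mres_id] using this
    have hideal : (PicF2.zeroScheme L (f + ∑ i : Fin m, Formal.smulMod k (Coh.structureModule Y) (c i) ≫ s i)).ideal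
        ⟨U y, hU y⟩ = Ideal.span {g₀ + ∑ i, c i • g i} := by
      rw [MeroLib.zeroScheme_ideal _ _ hinv, MeroLib.zI_eq_span L _ (e y) hb _ hsec]
    rw [hideal]
    haveI := hgood c hc
    exact RingHom.smooth_algebraMap.2 ‹Algebra.Smooth k (A ⧸ Ideal.span {g₀ + ∑ i, c i • g i})›
  choose q hq0 hqs using key
  obtain ⟨t, ht⟩ := isCompact_univ.elim_finite_subcover (fun y : Y => (U y : Set Y)) (fun y => (U y).2)
    (fun y _ => Set.mem_iUnion.2 ⟨y, hyU y⟩)
  refine ⟨∏ y ∈ t, q y, Finset.prod_ne_zero_iff.2 fun y _ => hq0 y, fun c hc => ?_⟩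
  rw [map_prod, Finset.prod_ne_zero_iff] at hc
  set J := PicF2.zeroScheme L (f + ∑ i : Fin m, Formal.smulMod k (Coh.structureModule Y) (c i) ≫ s i)
  have hcov : (⨆ y : t, J.subschemeι ⁻¹ᵁ U y) = ⊤ := top_le_iff.1 fun z _ => by
    obtain ⟨y, hy, hzy⟩ := Set.mem_iUnion₂.1 (ht (Set.mem_univ (J.subschemeι z)))
    exact TopologicalSpace.Opens.mem_iSup.2 ⟨⟨y, hy⟩, hzy⟩
  rw [IsZariskiLocalAtSource.iff_of_iSup_eq_top (P := @Smooth) _ hcov]
  intro y
  let W : Y.affineOpens := ⟨U y, hU y⟩
  let fW := J.subschemeCover.f W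
  haveI : IsOpenImmersion fW := J.subschemeCover.map_prop W
  have h1 : Smooth (fW ≫ J.subschemeι ≫ π) := by
    have e : fW ≫ J.subschemeι = Spec.map (CommRingCat.ofHom (Ideal.Quotient.mk (J.ideal W))) ≫ W.2.fromSpec := by
      rw [J.subschemeCover_map_subschemeι, Scheme.IdealSheafData.glueDataObjι, Category.assoc,
        IsAffineOpen.isoSpec_inv_ι]
    rw [← Category.assoc, e, Category.assoc,
      ← (isAffineOpen_top (Spec (CommRingCat.of k))).SpecMap_appLE_fromSpec π W.2 (le_top : W.1 ≤ π ⁻¹ᵁ ⊤)]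
    have hs := hqs y.1 c (hc y.1 y.2)
    rw [IsAffineOpen.fromSpec_top, Scheme.isoSpec_Spec_inv, ← Spec.map_comp, ← Spec.map_comp,
      HasRingHomProperty.Spec_iff (P := @Smooth)]
    exact hs
  have hr : fW.opensRange = J.subschemeι ⁻¹ᵁ U y := J.opensRange_subschemeCover_map W
  rw [← hr, ← Scheme.Hom.isoOpensRange_inv_comp, Category.assoc]
  exact (MorphismProperty.cancel_left_of_respectsIso @Smooth _ _).2 h1

end Groth.Agent.S14990
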