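import Groth.Statements.S14991
import Groth.Agent.Lib.RefHull26.DepthExt
import Groth.Agent.Lib.RefHull26.Algebra
import Groth.Agent.Lib.RefHull26.Free
import Groth.Agent.Lib.RamSam27.Normal
import Groth.Agent.Lib.FPExt12.Basic
import Groth.Agent.Lib.KFlat.FinLocFree
import Groth.Agent.Lib.SmDim19.RelDimVariety

set_option autoImplicit false
universe u
open CategoryTheory CategoryTheory.Limits AlgebraicGeometry
open ResProp

namespace Groth.Agent.S14991

theorem free_of_semilinear {A B M N : Type u} [CommRing A] [CommRing B] [AddCommGroup M] [Module A M]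
    [AddCommGroup N] [Module B N] (σ : A ≃+* B) (e : M ≃+ N) (h : ∀ (a : A) (m : M), e (a • m) = σ a • e m)
    [Module.Free A M] : Module.Free B N := by
  haveI := RingHomInvPair.of_ringEquiv σ
  haveI := RingHomInvPair.of_ringEquiv σ.symm
  let l : M ≃ₛₗ[(σ : A →+* B)] N := { e with map_smul' := h }
  exact Module.Free.of_equiv l

variable {X : Scheme.{u}}

theorem epi_stalk_of_restrict {A B : X.Modules} (f : A ⟶ B) (U : X.Opens)
    (h : Epi ((Scheme.Modules.restrictFunctor U.ι).map f)) (y : X) (hy : y ∈ U) :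
    Function.Surjective ((M1.stalkAb y).map f) := by
  let e := Scheme.Modules.restrictStalkNatIso U.ι (⟨y, hy⟩ : U)
  let g := (Scheme.Modules.restrictFunctor U.ι).map f
  haveI : Epi g := h
  have hsurj : Function.Surjective ((M1.stalkAb (⟨y, hy⟩ : U)).map g) := (M1.epi_iff_stalk g).1 inferInstance _
  intro b
  obtain ⟨a, ha⟩ := hsurj (e.inv.app B b)
  refine ⟨e.hom.app A a, ?_⟩
  refine (ConcreteCategory.congr_hom (e.hom.naturality f) a).symm.trans ?_
  show e.hom.app B ((M1.stalkAb (⟨y, hy⟩ : U)).map g a) = b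
  rw [ha]
  exact ConcreteCategory.congr_hom (e.inv_hom_id_app B) b

theorem isIso_restrict_of_stalk {A B : X.Modules} (f : A ⟶ B) (U : X.Opens)
    (h : ∀ y ∈ U, Function.Bijective ((M1.stalkAb y).map f)) :
    IsIso ((Scheme.Modules.restrictFunctor U.ι).map f) := by
  refine (M1.isIso_iff_stalk _).2 fun z => ?_
  let e := Scheme.Modules.restrictStalkNatIso U.ι z
  have hf : IsIso ((M1.stalkAb z.1).map f) := (ConcreteCategory.isIso_iff_bijective _).2 (h z.1 z.2)
  exact (ConcreteCategory.isIso_iff_bijective _).1 ((NatIso.isIso_map_iff e f).2 hf)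

theorem isReflexiveAt_of_finLocFree [IsLocallyNoetherian X] {F : X.Modules} {W : X.Opens}
    (h : FlatMod.IsFinLocFree (F.restrict W.ι)) {y : X} (hy : y ∈ W) : RefHull.IsReflexiveAt F y := by
  refine (RH26.isReflexiveAt_restrict_iff F W ⟨y, hy⟩).1 ?_
  obtain ⟨hFP, hfree⟩ := (M1.isFinLocFree_iff _).1 h
  haveI := M1.finite_stalk (M1.isFP_isQCoh hFP) (M1.isFP_isFT hFP) (⟨y, hy⟩ : W)
  haveI := hfree (⟨y, hy⟩ : W)
  show Module.IsReflexive _ _
  infer_instance

theorem bijective_res_of_depth [IsIntegral X] [IsLocallyNoetherian X] {F : X.Modules} (hF : Coh.IsCoh F) {U : X.Opens}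
    (hU : ∀ x : X, x ∉ U → (2 : ℕ∞) ≤ LocCoh.depth (X.presheaf.stalk x) (X.presheaf.stalk x)) (W : X.Opens)
    (hr : ∀ x ∈ W, RefHull.IsReflexiveAt F x) :
    Function.Bijective (F.presheaf.map (homOfLE (U.ι.image_preimage_le W)).op) := by
  have hinj := fun y (hy : y ∈ W) => RH26.injective_sp_of_isReflexiveAt hF (hr y hy)
  have hη := RH26.genericPoint_mem_of_depth hU
  refine ⟨fun s t e => RH26.section_ext' F fun y hy => hinj y hy ?_, fun t => ?_⟩
  · have hη' := (RH26.mem_image_preimage U W).2 ⟨RH26.mem_of_genericPoint W hy, hη⟩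
    have e' := congrArg (F.presheaf.germ _ _ hη') e
    rw [TopCat.Presheaf.germ_res_apply, TopCat.Presheaf.germ_res_apply] at e'
    rw [TopCat.Presheaf.germ_stalkSpecializes_apply, TopCat.Presheaf.germ_stalkSpecializes_apply]
    exact e'
  · rcases (W : Set X).eq_empty_or_nonempty with h0 | ⟨x₀, hx₀⟩
    · refine ⟨0, RH26.section_ext' F fun y hy => ?_⟩
      exact ((Set.eq_empty_iff_forall_notMem.1 h0) y ((RH26.mem_image_preimage U W).1 hy).1).elim
    · let a := F.presheaf.germ _ _ ((RH26.mem_image_preimage U W).2 ⟨RH26.mem_of_genericPoint W hx₀, hη⟩) t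
      obtain ⟨s, hs⟩ := RH26.exists_section_of_inStalk W hinj a fun y hy =>
        RH26.inStalk_of_depth hF hU (hr y hy) fun ξ hξ hu =>
          ⟨F.presheaf.germ _ ξ ((RH26.mem_image_preimage U W).2 ⟨hξ.mem_open W.isOpen hy, hu⟩) t,
            TopCat.Presheaf.germ_stalkSpecializes_apply _ _ _ _⟩
      refine ⟨s, RH26.section_ext' F fun y hy => hinj y ((RH26.mem_image_preimage U W).1 hy).1 ?_⟩
      rw [TopCat.Presheaf.germ_res_apply, hs, TopCat.Presheaf.germ_stalkSpecializes_apply]

/-- The unit is an isomorphism if the module is free near the complement. -/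
theorem isIso_unit_of_free_near [IsIntegral X] [IsLocallyNoetherian X] {F : X.Modules} (hF : Coh.IsCoh F) {U V : X.Opens}
    (hU : ∀ x : X, x ∉ U → (2 : ℕ∞) ≤ LocCoh.depth (X.presheaf.stalk x) (X.presheaf.stalk x))
    (hV : ∀ x : X, x ∉ U → x ∈ V) (hfree : FlatMod.IsFinLocFree (F.restrict V.ι)) :
    IsIso ((Scheme.Modules.restrictAdjunction U.ι).unit.app F) := by
  classical
  refine (RH26.isIso_unit_iff U).2 fun W => ?_
  have hb := bijective_res_of_depth hF hU (W ⊓ V) fun x hx => isReflexiveAt_of_finLocFree hfree hx.2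
  refine ⟨fun s t e => RH26.section_ext' F fun y hy => ?_, fun t => ?_⟩
  · have key : ∀ (z : X) (hz : z ∈ W) (hzU : z ∈ U), F.presheaf.germ W z hz s = F.presheaf.germ W z hz t :=
      fun z hz hzU => by
        have := congrArg (F.presheaf.germ _ z ((RH26.mem_image_preimage U W).2 ⟨hz, hzU⟩)) e
        rwa [TopCat.Presheaf.germ_res_apply, TopCat.Presheaf.germ_res_apply] at this
    by_cases hyU : y ∈ U
    · exact key y hy hyU
    · have h2 : F.presheaf.map (homOfLE (inf_le_left : W ⊓ V ≤ W)).op s =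
          F.presheaf.map (homOfLE (inf_le_left : W ⊓ V ≤ W)).op t := hb.1 (RH26.section_ext' F fun z hz => by
        rw [TopCat.Presheaf.germ_res_apply, TopCat.Presheaf.germ_res_apply, TopCat.Presheaf.germ_res_apply,
          TopCat.Presheaf.germ_res_apply]
        exact key z ((RH26.mem_image_preimage U _).1 hz).1.1 ((RH26.mem_image_preimage U _).1 hz).2)
      have := congrArg (F.presheaf.germ _ y (⟨hy, hV y hyU⟩ : y ∈ W ⊓ V)) h2
      rwa [TopCat.Presheaf.germ_res_apply, TopCat.Presheaf.germ_res_apply] at this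
  · obtain ⟨s', hs'⟩ := hb.2 (F.presheaf.map (homOfLE (U.ι.image_mono (U.ι.preimage_mono inf_le_left))).op t)
    have hagree : ∀ (y : X) (hy : y ∈ W ⊓ V) (hyU : y ∈ U),
        F.presheaf.germ _ y hy s' = F.presheaf.germ _ y ((RH26.mem_image_preimage U W).2 ⟨hy.1, hyU⟩) t :=
      fun y hy hyU => by
        have := congrArg (F.presheaf.germ _ y ((RH26.mem_image_preimage U _).2 ⟨hy, hyU⟩)) hs'
        rwa [TopCat.Presheaf.germ_res_apply, TopCat.Presheaf.germ_res_apply] at this
    obtain ⟨s, hs, -⟩ := RH26.exists_section_of_germs F W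
      (fun y hy => if hyU : y ∈ U then F.presheaf.germ _ y ((RH26.mem_image_preimage U W).2 ⟨hy, hyU⟩) t
        else F.presheaf.germ _ y (⟨hy, hV y hyU⟩ : y ∈ W ⊓ V) s') fun x hx => by
      by_cases hxU : x ∈ U
      · refine ⟨U.ι ''ᵁ (U.ι ⁻¹ᵁ W), (RH26.mem_image_preimage U W).2 ⟨hx, hxU⟩, U.ι.image_preimage_le W, t,
          fun y hy => ?_⟩
        rw [dif_pos ((RH26.mem_image_preimage U W).1 hy).2]
      · refine ⟨W ⊓ V, ⟨hx, hV x hxU⟩, inf_le_left, s', fun y hy => ?_⟩
        split_ifs with hyU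
        · exact hagree y hy hyU
        · rfl
    refine ⟨s, RH26.section_ext' F fun y hy => ?_⟩
    rw [TopCat.Presheaf.germ_res_apply, hs, dif_pos ((RH26.mem_image_preimage U W).1 hy).2]

/-- An epimorphism from a locally free module on the complement of a point extends to a map from a locally free module. -/
theorem exists_extension [IsIntegral X] [IsLocallyNoetherian X] [CompactSpace X] [QuasiSeparatedSpace X]
    {F : X.Modules} (hF : Coh.IsCoh F) {p : X} (hreg : IsRegularLocalRing (X.presheaf.stalk p))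
    (hdim : ringKrullDim (X.presheaf.stalk p) = 2)
    (hFp : ∃ W : X.Opens, p ∈ W ∧ FlatMod.IsFinLocFree (F.restrict W.ι))
    (U : X.Opens) (hUp : (U : Set X) = {p}ᶜ)
    (h : ∃ (E : (↑U : Scheme.{u}).Modules) (π : E ⟶ F.restrict U.ι), FlatMod.IsFinLocFree E ∧ Epi π) :
    ∃ (E : X.Modules) (Φ : E ⟶ F), FlatMod.IsFinLocFree E ∧ ∀ y ∈ U, Function.Surjective ((M1.stalkAb y).map Φ) := by
  haveI := hreg
  obtain ⟨E, π, hE, hπ⟩ := h
  obtain ⟨V, hpV, hV⟩ := hFp
  have hnot : ∀ x : X, x ∉ U → x = p := fun x hx => by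
    by_contra hne
    exact hx (show x ∈ (U : Set X) by rw [hUp]; exact hne)
  have hdepth : ∀ x : X, x ∉ U → (2 : ℕ∞) ≤ LocCoh.depth (X.presheaf.stalk x) (X.presheaf.stalk x) := fun x hx => by
    obtain rfl := hnot x hx
    exact RamSam27.two_le_depth_of_regular hdim.ge
  haveI hη := isIso_unit_of_free_near hF hdepth (fun x hx => hnot x hx ▸ hpV) hV
  haveI : AlgebraicGeometry.IsNoetherian X := {}
  obtain ⟨G, φ, e, hG, he⟩ := FPExt12.exists_fp_extension hF.1 (TopologicalSpace.NoetherianSpace.isCompact (U : Set X))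
    (M1.isFP_of_isFinLocFree hE) π
  have hGc : Coh.IsCoh G := (M1.isCoh_iff_isFP G).2 hG
  have hGrefl : ∀ y ∈ U, RefHull.IsReflexiveAt G y := fun y hy =>
    isReflexiveAt_of_finLocFree (M2.isFinLocFree_of_iso e.symm hE) hy
  let b := RefHull.bidualMap G
  have hbb : ∀ y ∈ U, Function.Bijective (RefHull.stalkMapₗ b y) := fun y hy =>
    (RH26.bijective_bidual_stalk_iff hGc y).2 (hGrefl y hy)
  haveI : IsIso ((Scheme.Modules.restrictFunctor U.ι).map b) := isIso_restrict_of_stalk b U hbb
  have hdd := RH26.isCoh_dual (RH26.isCoh_dual hGc)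
  have hE' : FlatMod.IsFinLocFree (RefHull.ddual G) := by
    refine RH26.isFinLocFree_of_stalks hdd fun y => ?_
    by_cases hy : y ∈ U
    · obtain ⟨hFP', hfree⟩ := (M1.isFinLocFree_iff _).1
        (M2.isFinLocFree_of_iso (asIso ((Scheme.Modules.restrictFunctor U.ι).map b)) (M2.isFinLocFree_of_iso e.symm hE))
      haveI := hfree (⟨y, hy⟩ : U)
      obtain ⟨σ, hσ⟩ := RH26.exists_restrict_stalk_equiv (RefHull.ddual G) U ⟨y, hy⟩
      exact free_of_semilinear (U.stalkIso ⟨y, hy⟩).commRingCatIsoToRingEquiv σ hσ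
    · obtain rfl := hnot y hy
      haveI := RegLoc.isDomain (X.presheaf.stalk y)
      haveI := M1.finite_stalk (RH26.isCoh_dual hGc).1 (M1.isFP_isFT (M1.isFP_of_isCoh (RH26.isCoh_dual hGc))) y
      haveI := RH26.isReflexive_dual (R := X.presheaf.stalk y) (M := (RefHull.dual G).presheaf.stalk y)
      haveI := RH26.finite_dual (R := X.presheaf.stalk y) (M := (RefHull.dual G).presheaf.stalk y)
      haveI := RH26.free_of_isReflexive_regular hdim.le (Module.Dual (X.presheaf.stalk y) ((RefHull.dual G).presheaf.stalk y))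
      exact Module.Free.of_equiv (RH26.dualEquiv (RH26.isCoh_dual hGc) y).symm
  let adj := Scheme.Modules.restrictAdjunction U.ι
  let Rf := Scheme.Modules.restrictFunctor U.ι
  let Φ : RefHull.ddual G ⟶ F := adj.homEquiv _ _ (inv (Rf.map b) ≫ Rf.map φ) ≫ inv (adj.unit.app F)
  have hbΦ : b ≫ Φ = φ := by
    refine (cancel_mono (adj.unit.app F)).1 ?_
    simp only [Φ, Category.assoc, IsIso.inv_hom_id, Category.comp_id]
    rw [← adj.homEquiv_naturality_left, IsIso.hom_inv_id_assoc, adj.homEquiv_unit]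
    exact (adj.unit.naturality φ).symm
  refine ⟨_, Φ, hE', fun y hy => ?_⟩
  have hepi : Epi (Rf.map φ) := by
    rw [← he]
    infer_instance
  have hs := epi_stalk_of_restrict φ U hepi y hy
  intro c
  obtain ⟨a, ha⟩ := hs c
  refine ⟨(M1.stalkAb y).map b a, ?_⟩
  exact (ConcreteCategory.congr_hom ((M1.stalkAb y).map_comp b Φ) a).symm.trans (by rw [hbΦ]; exact ha)


/-- In the case of schemes, let X be an integral scheme of dimension 2, separated and of finite type
over a field k and regular in codimension 1, F a coherent module on X, and p ≠ q regular closed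
points of X near each of which F is finite locally free. If F restricted to X minus q and F
restricted to X minus p are both quotients of finite locally free modules, then F is a quotient of a
finite locally free module on X. (The published statement is for algebraic spaces and also assumes F
locally free off a closed subset of codimension 2, an assumption the argument does not use; this row
is the case of schemes without it.) -/
theorem result {k : Type u} [Field k] (X : Scheme.{u})
    [X.Over (Spec (CommRingCat.of k))] [IsIntegral X] [IsSeparated (X ↘ Spec (CommRingCat.of k))]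
    [LocallyOfFiniteType (X ↘ Spec (CommRingCat.of k))] [QuasiCompact (X ↘ Spec (CommRingCat.of k))]
    (hdim : topologicalKrullDim ↥X = 2)
    (hR1 : ∀ x : X, ringKrullDim ↥(X.presheaf.stalk x) ≤ 1 → IsRegularLocalRing ↥(X.presheaf.stalk x))
    (F : X.Modules) (hF : Coh.IsCoh F) (p q : X) (hpq : p ≠ q)
    (hp : IsClosed ({p} : Set X)) (hq : IsClosed ({q} : Set X))
    (hpreg : IsRegularLocalRing ↥(X.presheaf.stalk p)) (hqreg : IsRegularLocalRing ↥(X.presheaf.stalk q))
    (hFp : ∃ W : X.Opens, p ∈ W ∧ FlatMod.IsFinLocFree (F.restrict W.ι))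
    (hFq : ∃ W : X.Opens, q ∈ W ∧ FlatMod.IsFinLocFree (F.restrict W.ι))
    (Up Uq : X.Opens) (hUp : (Up : Set X) = {p}ᶜ) (hUq : (Uq : Set X) = {q}ᶜ)
    (hp' : ∃ (E : (↑Up : Scheme.{u}).Modules) (π : E ⟶ F.restrict Up.ι), FlatMod.IsFinLocFree E ∧ Epi π)
    (hq' : ∃ (E : (↑Uq : Scheme.{u}).Modules) (π : E ⟶ F.restrict Uq.ι), FlatMod.IsFinLocFree E ∧ Epi π) :
    ∃ (E : X.Modules) (π : E ⟶ F), FlatMod.IsFinLocFree E ∧ Epi π := by
  haveI : CompactSpace X := QuasiCompact.compactSpace_of_compactSpace (X ↘ Spec (CommRingCat.of k))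
  haveI : IsLocallyNoetherian X := LocallyOfFiniteType.isLocallyNoetherian (X ↘ Spec (CommRingCat.of k))
  have hd : topologicalKrullDim ↥X = (2 : ℕ) := hdim
  obtain ⟨Ep, Φp, hEp, hsp⟩ := exists_extension hF hpreg
    (SmDim19.ringKrullDim_stalk_closed (X ↘ Spec (CommRingCat.of k)) hd hp) hFp Up hUp hp'
  obtain ⟨Eq, Φq, hEq, hsq⟩ := exists_extension hF hqreg
    (SmDim19.ringKrullDim_stalk_closed (X ↘ Spec (CommRingCat.of k)) hd hq) hFq Uq hUq hq'
  refine ⟨Ep ⊞ Eq, biprod.desc Φp Φq, KFlat.Sch.isFinLocFree_biprod hEp hEq, (M1.epi_iff_stalk _).2 fun y c => ?_⟩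
  by_cases hy : y ∈ Up
  · obtain ⟨a, ha⟩ := hsp y hy c
    refine ⟨(M1.stalkAb y).map (biprod.inl : Ep ⟶ Ep ⊞ Eq) a, ?_⟩
    rw [← ha]
    exact (ConcreteCategory.congr_hom ((M1.stalkAb y).map_comp biprod.inl (biprod.desc Φp Φq)) a).symm.trans
      (by rw [biprod.inl_desc])
  · have hyq : y ∈ (Uq : Set X) := by
      rw [hUq]
      intro hyq
      refine hy (show y ∈ (Up : Set X) by rw [hUp]; exact fun hyp => hpq (hyp.symm.trans hyq))
    obtain ⟨a, ha⟩ := hsq y hyq c
    refine ⟨(M1.stalkAb y).map (biprod.inr : Eq ⟶ Ep ⊞ Eq) a, ?_⟩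
    rw [← ha]
    exact (ConcreteCategory.congr_hom ((M1.stalkAb y).map_comp biprod.inr (biprod.desc Φp Φq)) a).symm.trans
      (by rw [biprod.inr_desc])

end Groth.Agent.S14991
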