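import Groth.Statements.S14994
import Mathlib
import Groth.Prelude.Def_FlatCA

set_option autoImplicit false
universe u
open CAlg

namespace Groth.Agent.S14994
open scoped TensorProduct

/-- Let A be a Noetherian integrally closed domain, M a finitely generated torsion-free A-module, N a
submodule of M and ι : M → M** the canonical map to the double dual. Write N** → M** for the double
dual of the inclusion N → M. Then every m ∈ M whose image ι(m) lies in the image of N** is a torsion
element modulo N: some nonzero a ∈ A satisfies a·m ∈ N. In other words the preimage of N** under ι
is contained in the saturation of N in M (the preimage of the torsion submodule of M/N), and the two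
coincide when M/N is torsion-free. (The published statement asserts equality of the preimage with
the saturation for every N; for N = xA inside M = A = k[x] the saturation is all of M while N** has
image xA = N under the identification M** = M, so only the inclusion stated here holds, and it is
the inclusion later used, for saturated N, where the two sides agree.) -/
theorem result (A : Type u) [CommRing A] [IsDomain A]
    [IsNoetherianRing A] [IsIntegrallyClosed A]
    (M : Type u) [AddCommGroup M] [Module A M] [Module.Finite A M] [NoZeroSMulDivisors A M]
    (N : Submodule A M) :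
    (LinearMap.range N.subtype.dualMap.dualMap).comap (Module.Dual.eval A M) ≤
      (Submodule.torsion A (M ⧸ N)).comap N.mkQ := by
  intro m hm
  obtain ⟨φ, hφ⟩ := hm
  let Q := (M ⧸ N) ⧸ Submodule.torsion A (M ⧸ N)
  rw [Submodule.mem_comap, ← Submodule.Quotient.mk_eq_zero (Submodule.torsion A (M ⧸ N))]
  haveI : Module.Free (FractionRing A) (LocalizedModule (nonZeroDivisors A) Q) := inferInstance
  let mk := LocalizedModule.mkLinearMap (nonZeroDivisors A) Q
  haveI : Module.FinitePresentation A Q := Module.finitePresentation_of_finite A Q
  let ι : (Q →ₗ[A] A) →ₗ[A] (LocalizedModule (nonZeroDivisors A) Q →ₗ[FractionRing A] FractionRing A) :=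
    IsLocalizedModule.mapExtendScalars (nonZeroDivisors A) mk (Algebra.linearMap A (FractionRing A)) (FractionRing A)
  haveI : IsLocalizedModule (nonZeroDivisors A) ι :=
    Module.FinitePresentation.isLocalizedModule_mapExtendScalars (nonZeroDivisors A) mk (Algebra.linearMap A (FractionRing A)) _
  set z : Q := Submodule.Quotient.mk (N.mkQ m)
  have hz : mk z = 0 := by
    apply Module.eval_apply_injective (FractionRing A)
    refine LinearMap.ext fun g => ?_
    rw [map_zero, LinearMap.zero_apply, Module.Dual.eval_apply]
    obtain ⟨⟨f, s⟩, hs⟩ := IsLocalizedModule.surj (nonZeroDivisors A) ι g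
    apply (IsLocalization.map_units (FractionRing A) s).mul_left_cancel
    rw [mul_zero, ← Algebra.smul_def]
    simp only [Submonoid.smul_def] at hs
    rw [← LinearMap.smul_apply, hs]
    refine (IsLocalizedModule.map_apply (nonZeroDivisors A) mk (Algebra.linearMap A (FractionRing A)) f z).trans ?_
    have hfz : f z = 0 := by
      let F : Module.Dual A M := f.comp ((Submodule.mkQ _).comp N.mkQ)
      have h1 := LinearMap.congr_fun hφ F
      have h2 : N.subtype.dualMap F = 0 := LinearMap.ext fun n => by
        show f (Submodule.Quotient.mk (N.mkQ (n : M))) = 0
        rw [show N.mkQ (n : M) = 0 from (Submodule.Quotient.mk_eq_zero N).2 n.2]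
        simp
      rw [LinearMap.dualMap_apply, h2, map_zero] at h1
      exact h1.symm
    rw [hfz, map_zero]
  obtain ⟨s, hs⟩ := (IsLocalizedModule.eq_zero_iff (nonZeroDivisors A) mk).1 hz
  haveI : Module.IsTorsionFree A Q := inferInstance
  exact (smul_eq_zero.1 hs).resolve_left (nonZeroDivisors.ne_zero s.2)

end Groth.Agent.S14994
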