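import Groth.Statements.S14995
import Groth.Agent.Lib.LocCohZ.DepthGlobal
-- import your own Groth.Agent.* helpers here

set_option autoImplicit false
set_option linter.style.haveILetI false
set_option backward.isDefEq.respectTransparency false
set_option backward.isDefEq.respectTransparency.types false
set_option maxHeartbeats 1600000
universe u
open CategoryTheory CategoryTheory.Limits AlgebraicGeometry
open Coherent

namespace Groth.Agent.S14995

/-- Let Y be a locally Noetherian scheme, E and F coherent O_Y-modules and U an open subset of Y such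
that for every point y of Y outside U the stalk E_y has depth at least 2 as a module over the local
ring O_{Y,y}. Then restricting morphisms to U is a bijection from Hom(F, E) onto Hom(F|_U, E|_U).
(The published statement is the case F = E; this row allows any coherent F.) -/
theorem result (Y : Scheme.{u}) [IsLocallyNoetherian Y]
    (E F : Y.Modules) (hE : Coh.IsCoh E) (hF : Coh.IsCoh F) (U : Y.Opens)
    (hdepth : ∀ y : Y, y ∉ U → (2 : ℕ∞) ≤ LocCoh.depth (Y.presheaf.stalk y) (E.presheaf.stalk y)) :
    Function.Bijective (fun φ : F ⟶ E => (Scheme.Modules.restrictFunctor U.ι).map φ) := by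
  open CategoryTheory.Limits Groth.Agent.LocCohZQ in
  let R := Scheme.Modules.restrictFunctor U.ι
  let adj := Scheme.Modules.restrictAdjunction U.ι
  let η := adj.unit.app E
  have hz := fun i (hi : i < 2) => (isZero_HZshM_iff U E i).2 ((vanish_iff_depth U E hE 2).2 hdepth i hi)
  haveI : PreservesFiniteLimits (DCoh.gammaZ U.ι) := preservesFiniteLimits_gammaZ U.ι
  haveI := preservesFiniteLimits_pp U.ι
  haveI : Mono η := Abelian.mono_of_kernel_ι_eq_zero _
    (((hz 0 (by omega)).of_iso ((DCoh.gammaZ U.ι).rightDerivedZeroIsoSelf.app E).symm).eq_of_src _ _)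
  haveI : Epi η := by
    obtain ⟨e⟩ := RDSeq.nonempty_cokernel_iso (gammaι U.ι) adj.unit
      (seq_zero U.ι) (fun I hI => @seq_shortExact _ _ U.ι _ I hI) (fun F => isZero_rightDerived_id F 0)
    refine Abelian.epi_of_cokernel_π_eq_zero _ (IsZero.eq_of_tgt ?_ _ _)
    exact (hz 1 (by omega)).of_iso ((e.app E) ≪≫ PreservesCokernel.iso ((evaluation _ _).obj E) _).symm
  haveI : IsIso η := isIso_of_mono_of_epi _
  have h : (fun φ : F ⟶ E => R.map φ) = fun φ => (adj.homEquiv F (R.obj E)).symm (φ ≫ η) := funext fun φ => by
    rw [Adjunction.homEquiv_counit, Functor.map_comp, Category.assoc]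
    erw [adj.left_triangle_components, Category.comp_id]
  show Function.Bijective fun φ : F ⟶ E => R.map φ
  rw [h]
  exact (Equiv.bijective _).comp ((Iso.homToEquiv (asIso η)).bijective)

end Groth.Agent.S14995
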