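import Groth.Statements.S14997
import Mathlib

set_option autoImplicit false
open HilbPol

namespace Groth.Agent.S14997

theorem lex_congr {ℓ : ℕ} (x y x' y' : Fin ℓ → ℚ)
    (h : ∀ j, (∀ i, i < j → x i = y i) → x' j - y' j = x j - y j) :
    toLex x ≤ toLex y ↔ toLex x' ≤ toLex y' := by
  have hpre : ∀ j : Fin ℓ, (∀ i, i < j → x i = y i) ↔ ∀ i, i < j → x' i = y' i := by
    intro j
    constructor
    · intro hp i hi
      have := h i fun i' hi' => hp i' (hi'.trans hi)
      rw [hp i hi, sub_self, sub_eq_zero] at this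
      exact this
    · intro hp i
      induction i using WellFoundedLT.induction with
      | _ i ih =>
        intro hi
        have := h i fun i' hi' => ih i' hi' (hi'.trans hi)
        rw [hp i hi, sub_self, eq_comm, sub_eq_zero] at this
        exact this
  rw [← not_lt, ← not_lt, not_iff_not]
  constructor
  · rintro ⟨j, hj, hlt⟩
    have hj' : ∀ i, i < j → x i = y i := fun i hi => (hj i hi).symm
    refine ⟨j, fun i hi => ((hpre j).1 hj' i hi).symm, ?_⟩
    have hlt' : y j < x j := hlt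
    show y' j < x' j
    linarith [h j hj']
  · rintro ⟨j, hj, hlt⟩
    have hj' : ∀ i, i < j → x' i = y' i := fun i hi => (hj i hi).symm
    refine ⟨j, fun i hi => ((hpre j).2 hj' i hi).symm, ?_⟩
    have hlt' : y' j < x' j := hlt
    show y j < x j
    linarith [h j ((hpre j).2 hj')]

open Polynomial in
theorem alpha_diff (d : ℕ) (a : ℚ) (P : ℚ[X]) (hP : P.natDegree = d) (m : ℕ) (hm : m ≤ d) :
    (P - P.comp (X - C a)).coeff m * (Nat.factorial m : ℚ) =
      - ∑ i ∈ Finset.range (d - m), P.coeff (m + (i + 1)) * (Nat.factorial (m + (i + 1)) : ℚ) * ((-a) ^ (i + 1) / (Nat.factorial (i + 1) : ℚ)) := by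
  have hcomp : P.comp (X - C a) = taylor (-a) P := by
    rw [taylor_apply, map_neg, sub_eq_add_neg]
  rw [coeff_sub, hcomp, taylor_coeff, eval_eq_sum_range' (n := d - m + 1) (by
    have := natDegree_hasseDeriv_le P m
    omega), Finset.sum_range_succ', hasseDeriv_coeff]
  simp only [zero_add, Nat.choose_self, Nat.cast_one, one_mul, pow_zero, mul_one]
  rw [sub_add_cancel_right, neg_mul, Finset.sum_mul]
  refine congrArg Neg.neg (Finset.sum_congr rfl fun i _ => ?_)
  rw [hasseDeriv_coeff, show i + 1 + m = m + (i + 1) by omega,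
    Nat.cast_choose ℚ (show m ≤ m + (i + 1) by omega), Nat.add_sub_cancel_left]
  have h1 : (m.factorial : ℚ) ≠ 0 := Nat.cast_ne_zero.2 m.factorial_ne_zero
  field_simp

open Polynomial in
/-- Let d and ℓ be natural numbers with ℓ + 1 ≤ d, let a be a nonzero rational number and let P, Q be
polynomials with rational coefficients, both of degree exactly d. For a polynomial R of degree e
write R(m) = Σ_i α_i(R) m^i / i! (so α_i(R) = i! · coeff_i(R)) and let r_ℓ(R) ∈ ℚ^ℓ be the vector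
(α_{e−1}(R)/α_e(R), …, α_{e−ℓ}(R)/α_e(R)) of the ℓ coefficients after the leading one of the reduced
polynomial R/α_e(R), ordered lexicographically. The polynomials P(m) − P(m − a) and Q(m) − Q(m − a)
have degree d − 1, and r_ℓ(P) ≤ r_ℓ(Q) lexicographically if and only if r_ℓ(P(m) − P(m − a)) ≤
r_ℓ(Q(m) − Q(m − a)) lexicographically (hence the same with strict inequalities, by exchanging P and
Q). When P and Q are the Hilbert polynomials of pure d-dimensional coherent sheaves E → F on a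
polarized projective scheme and D is a hypersurface section of degree a containing no associated
point of E or F, the Hilbert polynomials of E|_D and F|_D are P(m) − P(m − a) and Q(m) − Q(m − a),
and the two sides are the comparisons of the ℓ-truncated reduced Hilbert polynomials p_ℓ(E) ≥ p_ℓ(F)
and p_ℓ(E|_D) ≥ p_ℓ(F|_D). (The published statement is phrased for the sheaves; this row is the
statement about their Hilbert polynomials that the displayed coefficient formula yields.) -/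
theorem result (d ℓ : ℕ) (hℓ : ℓ + 1 ≤ d) (a : ℚ) (ha : a ≠ 0)
    (P Q : ℚ[X]) (hP : P.natDegree = d) (hQ : Q.natDegree = d) (hP0 : P ≠ 0) (hQ0 : Q ≠ 0) :
    toLex (fun j : Fin ℓ => ((P).coeff (d - 1 - (j : ℕ)) * (Nat.factorial (d - 1 - (j : ℕ)) : ℚ)) / ((P).coeff (d) * (Nat.factorial (d) : ℚ))) ≤ toLex (fun j : Fin ℓ => ((Q).coeff (d - 1 - (j : ℕ)) * (Nat.factorial (d - 1 - (j : ℕ)) : ℚ)) / ((Q).coeff (d) * (Nat.factorial (d) : ℚ))) ↔
      toLex (fun j : Fin ℓ => ((P - P.comp (X - C a)).coeff ((d - 1) - 1 - (j : ℕ)) * (Nat.factorial ((d - 1) - 1 - (j : ℕ)) : ℚ)) / ((P - P.comp (X - C a)).coeff ((d - 1)) * (Nat.factorial ((d - 1)) : ℚ))) ≤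
        toLex (fun j : Fin ℓ => ((Q - Q.comp (X - C a)).coeff ((d - 1) - 1 - (j : ℕ)) * (Nat.factorial ((d - 1) - 1 - (j : ℕ)) : ℚ)) / ((Q - Q.comp (X - C a)).coeff ((d - 1)) * (Nat.factorial ((d - 1)) : ℚ))) := by
  refine lex_congr _ _ _ _ fun j hj => ?_
  have hjlt : (j : ℕ) < ℓ := j.2
  have hlead : ∀ R : Polynomial ℚ, R.natDegree = d →
      (R - R.comp (Polynomial.X - Polynomial.C a)).coeff (d - 1) * (Nat.factorial (d - 1) : ℚ) = a * (R.coeff d * (Nat.factorial d : ℚ)) := by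
    intro R hR
    rw [alpha_diff d a R hR (d - 1) (by omega), show d - (d - 1) = 1 by omega, Finset.sum_range_one, show d - 1 + (0 + 1) = d by omega]
    simp
    ring
  have hp0 : P.coeff d * (Nat.factorial d : ℚ) ≠ 0 := mul_ne_zero (by rw [← hP]; exact Polynomial.leadingCoeff_ne_zero.2 hP0) (by positivity)
  have hq0 : Q.coeff d * (Nat.factorial d : ℚ) ≠ 0 := mul_ne_zero (by rw [← hQ]; exact Polynomial.leadingCoeff_ne_zero.2 hQ0) (by positivity)
  have hterm : ∀ i ∈ Finset.range ((j : ℕ) + 1), P.coeff (d - 1 - 1 - (j : ℕ) + (i + 1 + 1)) * (Nat.factorial (d - 1 - 1 - (j : ℕ) + (i + 1 + 1)) : ℚ) / (P.coeff d * (Nat.factorial d : ℚ)) =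
      Q.coeff (d - 1 - 1 - (j : ℕ) + (i + 1 + 1)) * (Nat.factorial (d - 1 - 1 - (j : ℕ) + (i + 1 + 1)) : ℚ) / (Q.coeff d * (Nat.factorial d : ℚ)) := by
    intro i hi
    rw [Finset.mem_range] at hi
    rcases Nat.lt_or_ge i (j : ℕ) with hij | hij
    · have := hj ⟨(j : ℕ) - i - 1, by omega⟩ (by show (j : ℕ) - i - 1 < (j : ℕ); omega)
      simp only at this
      rw [show d - 1 - ((j : ℕ) - i - 1) = d - 1 - 1 - (j : ℕ) + (i + 1 + 1) by omega] at this
      exact this
    · rw [show d - 1 - 1 - (j : ℕ) + (i + 1 + 1) = d by omega, div_self hp0, div_self hq0]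
  have hsum : ∀ R : Polynomial ℚ, (∑ i ∈ Finset.range ((j : ℕ) + 1), R.coeff (d - 1 - 1 - (j : ℕ) + (i + 1 + 1)) * (Nat.factorial (d - 1 - 1 - (j : ℕ) + (i + 1 + 1)) : ℚ) * ((-a) ^ (i + 1 + 1) / (Nat.factorial (i + 1 + 1) : ℚ))) / (R.coeff d * (Nat.factorial d : ℚ)) =
      ∑ i ∈ Finset.range ((j : ℕ) + 1), R.coeff (d - 1 - 1 - (j : ℕ) + (i + 1 + 1)) * (Nat.factorial (d - 1 - 1 - (j : ℕ) + (i + 1 + 1)) : ℚ) / (R.coeff d * (Nat.factorial d : ℚ)) * ((-a) ^ (i + 1 + 1) / (Nat.factorial (i + 1 + 1) : ℚ)) := by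
    intro R
    rw [Finset.sum_div]
    exact Finset.sum_congr rfl fun i _ => by rw [div_mul_eq_mul_div]
  have heq : (∑ i ∈ Finset.range ((j : ℕ) + 1), P.coeff (d - 1 - 1 - (j : ℕ) + (i + 1 + 1)) * (Nat.factorial (d - 1 - 1 - (j : ℕ) + (i + 1 + 1)) : ℚ) * ((-a) ^ (i + 1 + 1) / (Nat.factorial (i + 1 + 1) : ℚ))) / (P.coeff d * (Nat.factorial d : ℚ)) =
      (∑ i ∈ Finset.range ((j : ℕ) + 1), Q.coeff (d - 1 - 1 - (j : ℕ) + (i + 1 + 1)) * (Nat.factorial (d - 1 - 1 - (j : ℕ) + (i + 1 + 1)) : ℚ) * ((-a) ^ (i + 1 + 1) / (Nat.factorial (i + 1 + 1) : ℚ))) / (Q.coeff d * (Nat.factorial d : ℚ)) := by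
    rw [hsum, hsum]
    exact Finset.sum_congr rfl fun i hi => by rw [hterm i hi]
  have hR : ∀ R : Polynomial ℚ, R.natDegree = d → R.coeff d * (Nat.factorial d : ℚ) ≠ 0 →
      (R - R.comp (Polynomial.X - Polynomial.C a)).coeff (d - 1 - 1 - (j : ℕ)) * (Nat.factorial (d - 1 - 1 - (j : ℕ)) : ℚ) / (a * (R.coeff d * (Nat.factorial d : ℚ))) =
        R.coeff (d - 1 - (j : ℕ)) * (Nat.factorial (d - 1 - (j : ℕ)) : ℚ) / (R.coeff d * (Nat.factorial d : ℚ)) -
          (∑ i ∈ Finset.range ((j : ℕ) + 1), R.coeff (d - 1 - 1 - (j : ℕ) + (i + 1 + 1)) * (Nat.factorial (d - 1 - 1 - (j : ℕ) + (i + 1 + 1)) : ℚ) * ((-a) ^ (i + 1 + 1) / (Nat.factorial (i + 1 + 1) : ℚ))) / (R.coeff d * (Nat.factorial d : ℚ)) / a := by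
    intro R hR h0
    rw [alpha_diff d a R hR (d - 1 - 1 - (j : ℕ)) (by omega), show d - (d - 1 - 1 - (j : ℕ)) = (j : ℕ) + 1 + 1 by omega, Finset.sum_range_succ']
    rw [show d - 1 - 1 - (j : ℕ) + (0 + 1) = d - 1 - (j : ℕ) by omega]
    simp only [zero_add, pow_one, Nat.factorial_one, Nat.cast_one, div_one]
    field_simp
    ring
  simp only [hlead P hP, hlead Q hQ, hR P hP hp0, hR Q hQ hq0]
  rw [heq]
  ring

end Groth.Agent.S14997
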