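import Groth.Statements.S14998
import Groth.Agent.Lib.GUniv19.Basic
import Mathlib.AlgebraicGeometry.IdealSheaf.Subscheme

set_option autoImplicit false
universe u
open CategoryTheory CategoryTheory.Limits AlgebraicGeometry
open AlgGrp

namespace Groth.Agent.S14998

private lemma exists_map {Z S T Y : Scheme.{u}} (ι : Z ⟶ S) [IsClosedImmersion ι] (q : S ⟶ T) (g : Y ⟶ T) :
    ∃ m : pullback (ι ≫ q) g ⟶ pullback q g, IsClosedImmersion m ∧
      m ≫ pullback.fst q g = pullback.fst (ι ≫ q) g ≫ ι ∧ m ≫ pullback.snd q g = pullback.snd (ι ≫ q) g ∧
      Set.range m = pullback.fst q g ⁻¹' Set.range ι := by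
  refine ⟨Limits.pullback.map (ι ≫ q) g q g ι (𝟙 _) (𝟙 _) (by simp) (by simp), ?_, ?_, ?_, ?_⟩
  · exact MorphismProperty.pullbackMap (P := @IsClosedImmersion) (inferInstance : IsClosedImmersion ι) (inferInstance : IsClosedImmersion (𝟙 Y)) rfl rfl
  · exact pullback.lift_fst _ _ _
  · rw [Limits.pullback.map, pullback.lift_snd, Category.comp_id]
  · rw [Scheme.Pullback.range_map]
    simp


/-- Let k be a field and G a group scheme over k (a group object of schemes over Spec k) acting on a
k-scheme R of finite type. Let f : R → S and q : S → T be morphisms of k-schemes of finite type such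
that q is separated, f is invariant under the action, and the composite p = q ∘ f is G-universally
closed: p is invariant and for every discrete valuation ring A over k with fraction field K, every
K-point of R and A-point of T over k forming a commutative square with p admit an A-point of R over
T restricting on Spec K to a translate of the given K-point by a K-point of G. Then the
set-theoretic image f(R) is closed in S, and the reduced closed subscheme of S with underlying set
f(R) is proper over T. (The published statement fixes a connected algebraic group over the complex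
numbers; this row allows any group scheme over any field, which is what the printed argument uses.) -/
theorem result (k : Type u) [Field k]
    (G R S T : Over (Spec (CommRingCat.of k))) [GrpObj G]
    [LocallyOfFiniteType R.hom] [CompactSpace ↥R.left] [LocallyOfFiniteType S.hom] [CompactSpace ↥S.left]
    [LocallyOfFiniteType T.hom] [CompactSpace ↥T.left]
    (a : AlgGrp.Action G R) (f : R ⟶ S) (q : S ⟶ T) [IsSeparated q.left]
    (hf : W4c2lssmoduli.IsInvariantMor a f) (hp : W4c2lssmoduli.IsGUnivClosed a (f ≫ q)) :
    IsClosed (Set.range f.left.base) ∧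
      IsProper ((Scheme.IdealSheafData.vanishingIdeal
          (⟨closure (Set.range f.left.base), isClosed_closure⟩ : TopologicalSpace.Closeds ↥S.left)).subschemeι ≫ q.left) := by
  have hcl : IsClosed (Set.range f.left.base) := GUniv19.isClosed_range hf hp
  refine ⟨hcl, ?_⟩
  let C : TopologicalSpace.Closeds ↥S.left := ⟨closure (Set.range f.left.base), isClosed_closure⟩
  let J := Scheme.IdealSheafData.vanishingIdeal C
  let ι' := J.subschemeι
  haveI : IsLocallyNoetherian S.left := LocallyOfFiniteType.isLocallyNoetherian S.hom
  haveI : IsLocallyNoetherian T.left := LocallyOfFiniteType.isLocallyNoetherian T.hom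
  haveI : CompactSpace J.subscheme := ι'.isClosedEmbedding.compactSpace
  haveI : LocallyOfFiniteType q.left :=
    haveI : LocallyOfFiniteType (q.left ≫ T.hom) := by rw [Over.w]; infer_instance
    locallyOfFiniteType_of_comp _ T.hom
  have hrange : Set.range ι' = Set.range f.left := by
    simp only [ι', J, Scheme.IdealSheafData.range_subschemeι, Scheme.IdealSheafData.coe_support_vanishingIdeal, C]
    exact hcl.closure_eq
  haveI : QuasiSeparatedSpace T.left := inferInstance
  haveI : QuasiCompact (ι' ≫ q.left) := inferInstance
  haveI : UniversallyClosed (ι' ≫ q.left) := by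
    refine DVRVal.universallyClosed_of_finiteType (ι' ≫ q.left) fun {Y'} g hg => ?_
    haveI := hg
    haveI : IsLocallyNoetherian Y' := LocallyOfFiniteType.isLocallyNoetherian g
    refine (isClosedMap_iff_specializingMap _).mpr fun z y' (hy : _ ⤳ y') => ?_
    obtain ⟨m, hmc, hm1', hm2', hmr⟩ := exists_map ι' q.left g
    have hm2 : ∀ w, Limits.pullback.snd q.left g (m w) = Limits.pullback.snd (ι' ≫ q.left) g w := fun w => by
      rw [← Scheme.Hom.comp_apply, hm2']
    have hm1 : ∀ w, Limits.pullback.fst q.left g (m w) = ι' (Limits.pullback.fst (ι' ≫ q.left) g w) := fun w => by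
      rw [← Scheme.Hom.comp_apply, hm1', Scheme.Hom.comp_apply]
    obtain ⟨z₁, h1, h2, h3⟩ := GUniv19.exists_specializes hf hp g (m z)
      (by rw [← hrange, hm1]; exact Set.mem_range_self _) y' (by rw [hm2]; exact hy)
    have hz₁ : z₁ ∈ Set.range m := by
      rw [hmr]
      rw [Set.mem_preimage, hrange]; exact h2
    obtain ⟨w, rfl⟩ := hz₁
    exact ⟨w, m.isClosedEmbedding.isInducing.specializes_iff.1 h1, by rw [← hm2]; exact h3⟩
  exact {}

end Groth.Agent.S14998
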