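import Groth.Statements.S14999
import Groth.Agent.S14998
import Groth.Agent.Lib.NormFin18.Apps
import Mathlib.AlgebraicGeometry.GammaSpecAdjunction
import Mathlib.AlgebraicGeometry.Morphisms.Finite
import Mathlib.AlgebraicGeometry.FunctionField

set_option autoImplicit false
universe u
open CategoryTheory CategoryTheory.Limits AlgebraicGeometry
open AlgGrp

namespace Groth.Agent.S14999

/-- The ring map dual to a morphism to an affine scheme. -/
private noncomputable def dual {W : Scheme.{u}} {R : CommRingCat.{u}} (g : W ⟶ Spec R) : R ⟶ Γ(W, ⊤) :=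
  (Scheme.ΓSpecIso R).inv ≫ g.appTop

private lemma toSpecΓ_dual {W : Scheme.{u}} {R : CommRingCat.{u}} (g : W ⟶ Spec R) :
    W.toSpecΓ ≫ Spec.map (dual g) = g := by
  rw [dual, Spec.map_comp, ← Category.assoc, ← Scheme.toSpecΓ_naturality, Category.assoc,
    toSpecΓ_SpecMap_ΓSpecIso_inv, Category.comp_id]

private lemma dual_toSpecΓ {W : Scheme.{u}} {R : CommRingCat.{u}} (φ : R ⟶ Γ(W, ⊤)) :
    dual (W.toSpecΓ ≫ Spec.map φ) = φ := by
  rw [dual, Scheme.Hom.comp_appTop, Scheme.toSpecΓ_appTop, ← Scheme.ΓSpecIso_inv_naturality_assoc]
  simp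

private lemma dual_comp {W : Scheme.{u}} {R R' : CommRingCat.{u}} (g : W ⟶ Spec R) (φ : R' ⟶ R) :
    dual (g ≫ Spec.map φ) = φ ≫ dual g := by
  rw [dual, dual, Scheme.Hom.comp_appTop, ← Scheme.ΓSpecIso_inv_naturality_assoc]

private lemma dual_comp' {V W : Scheme.{u}} {R : CommRingCat.{u}} (h : V ⟶ W) (g : W ⟶ Spec R) :
    dual (h ≫ g) = dual g ≫ h.appTop := by
  rw [dual, dual, Scheme.Hom.comp_appTop, Category.assoc]

private lemma preimage_basicOpen {W : Scheme.{u}} {R : CommRingCat.{u}} (g : W ⟶ Spec R) (r : R) :
    g ⁻¹ᵁ PrimeSpectrum.basicOpen r = W.basicOpen (dual g r) := by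
  conv_lhs => rw [← toSpecΓ_dual g]
  rw [Scheme.Hom.comp_preimage, SpecMap_preimage_basicOpen, Scheme.toSpecΓ_preimage_basicOpen]

/-- A section is integral when the image of the associated map to the line is proper over the base. -/
private lemma isIntegralElem_of_isProper {W : Scheme.{u}} [IsReduced W] {A : Type u} [CommRing A]
    (g : W ⟶ Spec (CommRingCat.of (Polynomial A))) (hcl : IsClosed (Set.range g))
    (hp : IsProper ((Scheme.IdealSheafData.vanishingIdeal
      (⟨closure (Set.range g), isClosed_closure⟩ : TopologicalSpace.Closeds _)).subschemeι ≫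
        Spec.map (CommRingCat.ofHom Polynomial.C))) :
    ((dual g).hom.comp Polynomial.C).IsIntegralElem (dual g Polynomial.X) := by
  let C : TopologicalSpace.Closeds _ := ⟨closure (Set.range g), isClosed_closure⟩
  let J := Scheme.IdealSheafData.vanishingIdeal C
  have hrange : Set.range J.subschemeι = Set.range g := by
    rw [Scheme.IdealSheafData.range_subschemeι, Scheme.IdealSheafData.coe_support_vanishingIdeal]
    exact hcl.closure_eq
  haveI : IsProper (J.subschemeι ≫ Spec.map (CommRingCat.ofHom Polynomial.C)) := hp
  haveI : IsFinite (J.subschemeι ≫ Spec.map (CommRingCat.ofHom Polynomial.C)) :=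
    IsFinite.iff_isProper_and_isAffineHom.2 ⟨inferInstance, inferInstance⟩
  have hfin : ((J.subschemeι ≫ Spec.map (CommRingCat.ofHom Polynomial.C)).appTop).hom.Finite :=
    IsFinite.finite_app _ (⊤ : (Spec (CommRingCat.of A)).Opens) (isAffineOpen_top _)
  have hint : ((dual J.subschemeι).hom.comp Polynomial.C).IsIntegral := by
    have : (dual J.subschemeι).hom.comp Polynomial.C =
        (dual (J.subschemeι ≫ Spec.map (CommRingCat.ofHom Polynomial.C))).hom := by
      rw [dual_comp]; rfl
    rw [this, dual, CommRingCat.hom_comp]
    exact (hfin.comp (RingHom.Finite.of_surjective _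
      (ConcreteCategory.bijective_of_isIso (Scheme.ΓSpecIso (CommRingCat.of A)).inv).2)).to_isIntegral
  obtain ⟨P, hP, he⟩ := hint (dual J.subschemeι Polynomial.X)
  refine ⟨P, hP, ?_⟩
  rw [← Polynomial.hom_eval₂, Polynomial.eval₂_C_X] at he ⊢
  rw [← basicOpen_eq_bot_iff, ← preimage_basicOpen, eq_bot_iff]
  intro y hy
  obtain ⟨z, hz⟩ : g y ∈ Set.range J.subschemeι := hrange ▸ Set.mem_range_self y
  have : z ∈ J.subschemeι ⁻¹ᵁ PrimeSpectrum.basicOpen P := by
    show J.subschemeι z ∈ PrimeSpectrum.basicOpen P
    rw [hz]; exact hy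
  rw [preimage_basicOpen, he, Scheme.basicOpen_zero] at this
  exact this.elim

/-- Invariant sections are integral over the base. -/
private lemma isIntegralElem_invariant (k : Type u) [Field k]
    (G Y : Over (Spec (CommRingCat.of k))) [GrpObj G]
    [LocallyOfFiniteType Y.hom] [CompactSpace ↥Y.left] [IsReduced Y.left]
    (A : Type u) [CommRing A] [Algebra k A] [Algebra.FiniteType k A]
    (a : AlgGrp.Action G Y)
    (p : Y ⟶ Over.mk (Spec.map (CommRingCat.ofHom (algebraMap k A))))
    (hp : W4c2lssmoduli.IsGUnivClosed a p) (s : Γ(Y.left, ⊤))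
    (hs : a.act.left.appTop s = (CartesianMonoidalCategory.snd G Y).left.appTop s) :
    (dual p.left).hom.IsIntegralElem s := by
  let φ : CommRingCat.of (Polynomial A) ⟶ Γ(Y.left, ⊤) :=
    CommRingCat.ofHom (Polynomial.eval₂RingHom (dual p.left).hom s)
  let g := Y.left.toSpecΓ ≫ Spec.map φ
  let c : Spec (CommRingCat.of (Polynomial A)) ⟶ Spec (CommRingCat.of A) := Spec.map (CommRingCat.ofHom Polynomial.C)
  have hgc : g ≫ c = p.left := by
    conv_rhs => rw [← toSpecΓ_dual p.left]
    simp only [g, c, Category.assoc, ← Spec.map_comp]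
    congr 2
    ext x
    simp [φ]
  let S : Over (Spec (CommRingCat.of k)) := Over.mk (c ≫ Spec.map (CommRingCat.ofHom (algebraMap k A)))
  let T : Over (Spec (CommRingCat.of k)) := Over.mk (Spec.map (CommRingCat.ofHom (algebraMap k A)))
  let f : Y ⟶ S := Over.homMk g (by
    simp only [S, Over.mk_hom]
    rw [← Category.assoc, hgc]
    exact Over.w p)
  let q : S ⟶ T := Over.homMk c rfl
  have hfq : f ≫ q = p := Over.OverMorphism.ext hgc
  have hpi : a.act.left.appTop ∘ (dual p.left) = (CartesianMonoidalCategory.snd G Y).left.appTop ∘ (dual p.left) := by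
    have h := congrArg (fun m => (CommRingCat.Hom.hom (dual (CommaMorphism.left m)) : A → _)) hp.1
    simpa [dual_comp'] using h
  have hf : W4c2lssmoduli.IsInvariantMor a f := by
    refine Over.OverMorphism.ext ?_
    show a.act.left ≫ g = (CartesianMonoidalCategory.snd G Y).left ≫ g
    rw [← toSpecΓ_dual (a.act.left ≫ g), ← toSpecΓ_dual ((CartesianMonoidalCategory.snd G Y).left ≫ g),
      dual_comp' a.act.left g, dual_comp' (CartesianMonoidalCategory.snd G Y).left g, show dual g = φ from dual_toSpecΓ φ]
    congr 2
    ext1
    refine Polynomial.ringHom_ext (fun x => ?_) ?_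
    · simpa [φ] using congrFun hpi x
    · simpa [φ] using hs
  haveI : LocallyOfFiniteType T.hom := (HasRingHomProperty.Spec_iff (P := @LocallyOfFiniteType)).2
    (RingHom.finiteType_algebraMap.2 ‹_›)
  haveI : LocallyOfFiniteType c := (HasRingHomProperty.Spec_iff (P := @LocallyOfFiniteType)).2
    ((RingHom.finiteType_algebraMap (A := A) (B := Polynomial A)).2 inferInstance)
  haveI : LocallyOfFiniteType S.hom := inferInstanceAs (LocallyOfFiniteType (c ≫ T.hom))
  haveI : CompactSpace S.left := inferInstanceAs (CompactSpace (Spec (CommRingCat.of (Polynomial A))))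
  haveI : CompactSpace T.left := inferInstanceAs (CompactSpace (Spec (CommRingCat.of A)))
  haveI : IsSeparated q.left := inferInstanceAs (IsSeparated c)
  obtain ⟨h1, h2⟩ := Groth.Agent.S14998.result k G Y S T a f q hf (hfq ▸ hp)
  have h := isIntegralElem_of_isProper g h1 h2
  rw [dual_toSpecΓ] at h
  convert h using 1
  · ext x; simp [φ]
  · simp [φ]


/-- Let k be a field, A a finitely generated k-algebra and G a group scheme over k acting on an integral
k-scheme Y of finite type; let p : Y → Spec A be a morphism over k which is G-universally closed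
(invariant under the action, and for every discrete valuation ring over k with fraction field K
every commutative square of a K-point of Y and a point of Spec A with values in that ring lifts, up
to translation of the K-point by a K-point of G, to a point of Y with values in the ring). Call a
global function s on Y invariant when its pullbacks along the action morphism and along the
projection G ×_k Y → Y agree. Then the invariant global functions form a finite A-module: there are
finitely many invariant functions such that every invariant function is a linear combination of them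
with coefficients from A (acting on Γ(Y, O_Y) through p). (The published statement is for an
integral G-stable closed subscheme Y of a G-universally closed scheme over Spec A, with k the
complex numbers and G a connected algebraic group; such a Y is itself G-universally closed over Spec
A, and the printed argument uses only a field k and a group scheme G.) -/
theorem result (k : Type u) [Field k]
    (G Y : Over (Spec (CommRingCat.of k))) [GrpObj G]
    [LocallyOfFiniteType Y.hom] [CompactSpace ↥Y.left] [IsIntegral Y.left]
    (A : Type u) [CommRing A] [Algebra k A] [Algebra.FiniteType k A]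
    (a : AlgGrp.Action G Y)
    (p : Y ⟶ Over.mk (Spec.map (CommRingCat.ofHom (algebraMap k A))))
    (hp : W4c2lssmoduli.IsGUnivClosed a p) :
    ∃ t : Finset ↑Γ(Y.left, ⊤),
      (∀ s ∈ t, a.act.left.appTop s = (CartesianMonoidalCategory.snd G Y).left.appTop s) ∧
      ∀ s : ↑Γ(Y.left, ⊤), a.act.left.appTop s = (CartesianMonoidalCategory.snd G Y).left.appTop s →
        ∃ c : ↑Γ(Y.left, ⊤) → A,
          s = ∑ x ∈ t, ((Scheme.ΓSpecIso (CommRingCat.of A)).inv ≫ p.left.appTop) (c x) * x := by
  classical
  let η := genericPoint Y.left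
  letI alg : Algebra A Γ(Y.left, ⊤) := (dual p.left).hom.toAlgebra
  letI algK : Algebra A (Y.left.residueField η) :=
    ((Y.left.evaluation ⊤ η trivial).hom.comp (dual p.left).hom).toAlgebra
  haveI : IsScalarTower A A (Y.left.residueField η) := IsScalarTower.left _
  let ev : Γ(Y.left, ⊤) →ₐ[A] Y.left.residueField η :=
    { (Y.left.evaluation ⊤ η trivial).hom with commutes' := fun _ => rfl }
  have hev : Function.Injective ev := by
    rw [injective_iff_map_eq_zero]
    intro y hy
    rw [← basicOpen_eq_bot_iff, eq_bot_iff]
    intro z hz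
    have hη : η ∈ Y.left.basicOpen y :=
      ((genericPoint_spec Y.left).mem_open_set_iff (Y.left.basicOpen y).2).2 ⟨z, trivial, hz⟩
    exact absurd hy ((Y.left.evaluation_ne_zero_iff_mem_basicOpen (U := ⊤) η trivial y).2 hη)
  haveI : LocallyOfFiniteType p.left :=
    haveI : LocallyOfFiniteType (p.left ≫ Spec.map (CommRingCat.ofHom (algebraMap k A))) := by
      rw [show p.left ≫ Spec.map (CommRingCat.ofHom (algebraMap k A)) = Y.hom from Over.w p]; infer_instance
    locallyOfFiniteType_of_comp p.left (Spec.map (CommRingCat.ofHom (algebraMap k A)))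
  haveI : Algebra.EssFiniteType A (Y.left.residueField η) := RingHom.essFiniteType_algebraMap.1
    ((RingHom.FiniteType.of_surjective _
      (ConcreteCategory.bijective_of_isIso (Scheme.ΓSpecIso (CommRingCat.of A)).inv).2).essFiniteType.comp
        (NormFin18.essFiniteType_toResidue (show Y.left ⟶ Spec (CommRingCat.of A) from p.left) (isAffineOpen_top _) η trivial
          (NormFin18.essFiniteType_residueFieldMap (show Y.left ⟶ Spec (CommRingCat.of A) from p.left) η)))
  haveI : Module.Finite A (integralClosure A (Y.left.residueField η)) :=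
    NormFin18.finite_integralClosure_field _ _ (NormFin18.isNagata_of_finiteType k A)
  haveI : IsNoetherianRing A := Algebra.FiniteType.isNoetherianRing k A
  have hpi : ∀ x : A, a.act.left.appTop (algebraMap A Γ(Y.left, ⊤) x) =
      (CartesianMonoidalCategory.snd G Y).left.appTop (algebraMap A Γ(Y.left, ⊤) x) := fun x => by
    have h := congrArg (fun m => CommRingCat.Hom.hom (dual (CommaMorphism.left m)) x) hp.1
    simpa [dual_comp', RingHom.algebraMap_toAlgebra] using h
  let M : Submodule A Γ(Y.left, ⊤) :=
    { carrier := {s | a.act.left.appTop s = (CartesianMonoidalCategory.snd G Y).left.appTop s}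
      add_mem' := fun {x y} hx hy => by
        simp only [Set.mem_ofPred_eq] at hx hy ⊢
        rw [map_add, map_add, hx, hy]
      zero_mem' := by simp
      smul_mem' := fun c x hx => by
        simp only [Set.mem_ofPred_eq] at hx ⊢
        rw [Algebra.smul_def, map_mul, map_mul, hx, hpi] }
  have hM : ∀ x : M, ev x ∈ integralClosure A (Y.left.residueField η) := fun x =>
    (show IsIntegral A (x : Γ(Y.left, ⊤)) from isIntegralElem_invariant k G Y A a p hp x x.2).map ev
  let g : M →ₗ[A] integralClosure A (Y.left.residueField η) :=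
    LinearMap.codRestrict (Subalgebra.toSubmodule (integralClosure A (Y.left.residueField η)))
      (ev.toLinearMap.comp M.subtype) hM
  haveI : Module.Finite A M := Module.Finite.of_injective g fun x y h =>
    Subtype.ext (hev (congrArg Subtype.val h :))
  obtain ⟨t, ht⟩ := (Module.Finite.iff_fg (N := M)).1 ‹_›
  refine ⟨t, fun s hs => (ht ▸ Submodule.subset_span hs : s ∈ M), fun s hs => ?_⟩
  obtain ⟨c, -, hc⟩ := Submodule.mem_span_finset.1 (ht.symm ▸ hs : s ∈ Submodule.span A (t : Set Γ(Y.left, ⊤)))
  exact ⟨c, hc.symm.trans (Finset.sum_congr rfl fun x _ => Algebra.smul_def _ _)⟩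

end Groth.Agent.S14999
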