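import Groth.Statements.S1500
import Groth.Agent.Lib.RelAmple18.Twist
import Groth.Agent.Lib.CubeField.DivSection

set_option autoImplicit false
universe u
open FlatMor

namespace Groth.Agent.S1500

open AlgebraicGeometry CategoryTheory Limits in
/-- Let D_1, …, D_m be effective Cartier divisors on X (ideal sheaves locally generated by a
nonzerodivisor) with empty common support, and L_1, …, L_m invertible O_X-modules with L_i ample on
the open complement of D_i. Then X has an ample family of invertible modules. -/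
theorem result {X : Scheme.{u}} {m : ℕ} (D : Fin m → X.IdealSheafData)
    (hD : ∀ i, BlowUp.IsEffCartierIdeal (D i)) (hcap : ⋂ i, ((D i).support : Set ↑X) = ∅)
    (L : Fin m → X.Modules) (hL : ∀ i, PicF.IsInvertible (L i)) (hamp : ∀ i, CohB1.IsAmple ((L i).restrict (Scheme.Opens.ι (D i).support.compl))) :
    MoreMor.HasAmpleFamily X := by
  choose M hM _ σ hσ using fun i => Groth.Agent.CubeField.exists_inverse_section_of_effCartier (hD i)
  have hσ' : ∀ i, CohB1.genLocus _ (σ i) = (D i).support.compl := fun i => TopologicalSpace.Opens.ext (hσ i)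
  have hamp' : ∀ i, CohB1.IsAmple ((L i).restrict (CohB1.genLocus _ (σ i)).ι) := fun i => by
    rw [hσ' i]; exact hamp i
  have hcov : ∀ x : X, ∃ i, x ∈ CohB1.genLocus _ (σ i) := fun x => by
    by_contra h
    push Not at h
    have hx : x ∈ ⋂ i, ((D i).support : Set ↑X) := Set.mem_iInter.2 fun i => by
      by_contra hi
      exact h i ((hσ i).ge hi)
    rw [hcap] at hx
    exact hx
  haveI : CompactSpace X := by
    refine ⟨?_⟩
    have hu : (Set.univ : Set X) = ⋃ i, (CohB1.genLocus _ (σ i) : Set X) := by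
      ext x; simpa using hcov x
    rw [hu]
    refine isCompact_iUnion fun i => ?_
    haveI := (hamp' i).2.1
    exact isCompact_iff_compactSpace.mpr ‹_›
  haveI : QuasiSeparatedSpace X := Groth.Agent.RA.quasiSeparatedSpace_of_loci M hM σ
    (fun x _ => TopologicalSpace.Opens.mem_iSup.mpr (hcov x))
    fun i => Groth.Agent.Amp.quasiSeparatedSpace_of_isAmple (hamp' i)
  refine ⟨inferInstance, fun x => ?_⟩
  obtain ⟨i, hx⟩ := hcov x
  obtain ⟨m, G', ⟨s', hs'⟩, hxG', hA'⟩ := (Groth.Agent.Amp.isAmple_iff.mp (hamp' i)).2.2 ⟨x, hx⟩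
  obtain ⟨q₀, hq⟩ := Groth.Agent.RA.exists_locus_extend (hM i)
    (Groth.Agent.M2.isInvertible_tensorPow (hL i) (m + 1)) (σ i)
    (s' ≫ (Groth.Agent.M2.restrictTensorPowIso _ (L i) (m + 1)).symm.hom)
  obtain ⟨t, ht⟩ := hq q₀ le_rfl
  rw [Groth.Agent.Amp.genLocus_comp_iso, hs'] at ht
  refine ⟨_, 1, t ≫ (Groth.Agent.M2.tensorPowOne _).symm.hom,
    Groth.Agent.M2.isInvertible_tensor (Groth.Agent.M2.isInvertible_tensorPow (hL i) _)
      (Groth.Agent.M2.isInvertible_tensorPow (hM i) q₀), le_rfl, ?_, ?_⟩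
  · rw [Groth.Agent.Amp.genLocus_comp_iso, ht]; exact ⟨⟨x, hx⟩, hxG', rfl⟩
  · rw [Groth.Agent.Amp.genLocus_comp_iso, ht]; exact hA'.image_of_isOpenImmersion _

end Groth.Agent.S1500
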