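import Groth.Statements.S15002
import Groth.Agent.Lib.ShStab28.Positive
import Groth.Agent.Lib.ShStab28.Scalar
import Groth.Agent.Lib.NumPoly18.HilbBinom
import Groth.Agent.Lib.NumPoly18.SurfProj

set_option autoImplicit false
universe u
open CategoryTheory CategoryTheory.Limits AlgebraicGeometry
open Coherent

namespace Groth.Agent.S15002

theorem lex_no_split {ℓ : ℕ} (u v w : Fin ℓ → ℚ) {a b : ℚ} (ha : 0 < a) (hb : 0 < b)
    (h : ∀ i, (a + b) * w i = a * u i + b * v i) (h1 : toLex u < toLex w) (h2 : toLex v < toLex w) : False := by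
  obtain ⟨i, hi, hlt⟩ := h1
  obtain ⟨j, hj, hlt'⟩ := h2
  simp only [Pi.toLex_apply] at hi hlt hj hlt'
  rcases lt_trichotomy i j with hij | rfl | hij
  · have := h i
    rw [hj i hij] at this
    nlinarith [mul_lt_mul_of_pos_left hlt ha]
  · have := h i
    nlinarith [mul_lt_mul_of_pos_left hlt ha, mul_lt_mul_of_pos_left hlt' hb]
  · have := h j
    rw [hi j hij] at this
    nlinarith [mul_lt_mul_of_pos_left hlt' hb]


open Polynomial in
/-- Let k be an algebraically closed field and X an integral scheme, smooth and proper over k, with a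
closed immersion ι into projective N-space over k compatible with the structure maps; write E(m) = E
⊗ ι^*O(m). Let 1 ≤ ℓ ≤ d and let E be a coherent O_X-module whose Hilbert polynomial P (χ(E(m)) =
P(m) for all integers m) is nonzero of degree d, which is pure of dimension d (every nonzero
coherent subsheaf of E has support of Krull dimension d) and ℓ-stable: writing R(m) = Σ_i α_i(R)
m^i/i! for a polynomial R, for every coherent subsheaf F of E with Hilbert polynomial Q such that 0
< α_d(Q) < α_d(P), the vector (α_{d−1}(Q)/α_d(Q), …, α_{d−ℓ}(Q)/α_d(Q)) is strictly smaller than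
(α_{d−1}(P)/α_d(P), …, α_{d−ℓ}(P)/α_d(P)) in the lexicographic order. Then E is simple: every
endomorphism φ of E is multiplication by a scalar, i.e. there is c ∈ k with φ(s) = c·s for every
local section s of E. (The published statement gives more generally, for such E, that the
endomorphisms of the restriction of E to the complement of any closed subset meeting the support of
E in codimension at least ℓ + 1 are the scalars; this row is the case of the empty closed subset.) -/
theorem result (k : Type u) [Field k] [IsAlgClosed k]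
    (X : Scheme.{u}) [X.Over (Spec (CommRingCat.of k))] [IsIntegral X]
    [Smooth (X ↘ Spec (CommRingCat.of k))] [IsProper (X ↘ Spec (CommRingCat.of k))]
    (N : ℕ) (ι : X ⟶ CohB1.ProjSpace N k) [IsClosedImmersion ι] (hι : ι ≫ CohB1.ProjSpace.toSpec N k = X ↘ Spec (CommRingCat.of k))
    (d ℓ : ℕ) (hℓ : 1 ≤ ℓ) (hℓd : ℓ ≤ d)
    (E : X.Modules) (hE : Coh.IsCoh E) (P : ℚ[X]) (hPd : P.natDegree = d) (hP0 : P ≠ 0)
    (hP : ∀ m : ℤ, (Curv2.euler k X (Pic13.twistOn k ι E m) : ℚ) = P.eval (m : ℚ))
    (hpure : ∀ (F : X.Modules) (j : F ⟶ E), Mono j → Coh.IsCoh F → ¬ IsZero F →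
      topologicalKrullDim (CohB1.support F) = (d : WithBot ℕ∞))
    (hst : ∀ (F : X.Modules) (j : F ⟶ E), Mono j → Coh.IsCoh F → ∀ Q : ℚ[X],
      (∀ m : ℤ, (Curv2.euler k X (Pic13.twistOn k ι F m) : ℚ) = Q.eval (m : ℚ)) →
        0 < Q.coeff d → Q.coeff d < P.coeff d →
          toLex (fun j : Fin ℓ => ((Q).coeff (d - 1 - (j : ℕ)) * (Nat.factorial (d - 1 - (j : ℕ)) : ℚ)) / ((Q).coeff d * (Nat.factorial d : ℚ))) < toLex (fun j : Fin ℓ => ((P).coeff (d - 1 - (j : ℕ)) * (Nat.factorial (d - 1 - (j : ℕ)) : ℚ)) / ((P).coeff d * (Nat.factorial d : ℚ))))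
    (φ : E ⟶ E) :
    ∃ c : k, ∀ (V : X.Opens) (s : E.val.obj (Opposite.op V)),
      (φ.val.app (Opposite.op V)) s = (X.ringCatSheaf.obj.map (homOfLE (le_top : V ≤ ⊤)).op (Coh.toGlobal (X ↘ Spec (CommRingCat.of k)) c : X.ringCatSheaf.obj.obj (Opposite.op ⊤))) • s := by
  classical
  let L : X.Modules := (Scheme.Modules.pullback ι).obj (Twist.twistProjSpace N k 1)
  have hA : CohB1.IsAmple L := Agent.NumPoly18.isAmple_pullback_twistProjSpace ι
  have hL : PicF.IsInvertible L := hA.1
  have hpos := Agent.ShStab28.positive k hA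
  haveI : IsNoetherian X := Agent.CohFound.isNoetherian_of_isProper (X ↘ Spec (CommRingCat.of k))
  let S := Agent.ShStab28.sys k X L hL hpos
  -- Hilbert polynomials on the natural numbers
  have hnat : ∀ (F : X.Modules), Coh.IsCoh F → ∀ m : ℕ,
      (Curv2.euler k X (Pic13.twistOn k ι F (m : ℤ)) : ℚ) = (S.hp F).eval (m : ℚ) := fun F hF m => by
    rw [Agent.NumPoly18.euler_twistOn]
    exact Agent.ShStab28.hilb_spec k hL hF m
  -- on all integers
  have hint : ∀ (F : X.Modules), Coh.IsCoh F → ∀ m : ℤ,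
      (Curv2.euler k X (Pic13.twistOn k ι F m) : ℚ) = (S.hp F).eval (m : ℚ) := by
    intro F hF m
    let M : ℕ := m.natAbs
    have hF' : Coh.IsCoh (Pic13.twistOn k ι F (-(M : ℤ))) := Agent.CurveCoh17.isCoh_tensor hF
      (Agent.Snapper.isCoh_of_isInvertible (Agent.Twist.isInvertible_pullback ι
        (Agent.Twist.isInvertible_twistProjSpace N k _)))
    have hsh : ∀ j : ℕ, Curv2.euler k X (Pic13.twistOn k ι (Pic13.twistOn k ι F (-(M : ℤ))) (j : ℤ)) =
        Curv2.euler k X (Pic13.twistOn k ι F (-(M : ℤ) + (j : ℤ))) := fun j =>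
      Agent.CurveCoh17.euler_iso (Agent.M2.tensorAssoc _ _ _ ≪≫ Agent.M2.tensorIso (Iso.refl F)
        ((Agent.M2.pullTensorIso ι _ _).symm ≪≫ (Scheme.Modules.pullback ι).mapIso
          (Agent.Twist.nonempty_tensor_iso (CohB1.polyGrading N k) (-(M : ℤ)) (j : ℤ)
            (Agent.Twist.iSup_basicOpen_one N k)).some))
    have hcomp : S.hp (Pic13.twistOn k ι F (-(M : ℤ))) = (S.hp F).comp (Polynomial.X - Polynomial.C (M : ℚ)) := by
      refine Polynomial.eq_of_infinite_eval_eq _ _ (Set.Infinite.mono ?_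
        (Set.infinite_range_of_injective (f := fun j : ℕ => ((j + M : ℕ) : ℚ))
          (fun a b h => by simpa using h)))
      rintro _ ⟨j, rfl⟩
      show (S.hp (Pic13.twistOn k ι F (-(M : ℤ)))).eval ((j + M : ℕ) : ℚ) = _
      rw [← hnat _ hF' (j + M), hsh, Polynomial.eval_comp, Polynomial.eval_sub, Polynomial.eval_X,
        Polynomial.eval_C, show -(M : ℤ) + ((j + M : ℕ) : ℤ) = (j : ℤ) by push_cast; ring, hnat F hF j]
      push_cast
      ring_nf
    obtain ⟨j, hj⟩ : ∃ j : ℕ, m = -(M : ℤ) + (j : ℤ) := ⟨(m + (M : ℤ)).toNat, by omega⟩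
    rw [hj, ← hsh, hnat _ hF' j, hcomp, Polynomial.eval_comp, Polynomial.eval_sub, Polynomial.eval_X,
      Polynomial.eval_C]
    push_cast
    ring_nf
  have hEP : S.hp E = P := Agent.ShStab28.hilb_eq k fun m => by
    have h := hP (m : ℤ)
    rw [Agent.NumPoly18.euler_twistOn] at h
    exact h.trans (by norm_num)
  have hc : ∀ (F : X.Modules) (j : F ⟶ E), Mono j → Coh.IsCoh F → ¬ IsZero F → 0 < (S.hp F).coeff d := by
    intro F j hj hF h0
    obtain ⟨h1, h2⟩ := hpos F hF d (hpure F j hj hF h0)
    rw [← h1]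
    exact h2
  -- a nonzero endomorphism is invertible
  have key : ∀ ψ : E ⟶ E, ψ ≠ 0 → IsIso ψ := by
    intro ψ hψ
    let p := Abelian.factorThruImage ψ
    let i := Abelian.image.ι ψ
    have hfac : p ≫ i = ψ := Abelian.image.fac ψ
    have hI : Coh.IsCoh (Abelian.image ψ) := S.ok_image ψ hE hE
    have hI0 : ¬ IsZero (Abelian.image ψ) := fun h => hψ (by rw [← hfac, h.eq_of_tgt p 0, CategoryTheory.Limits.zero_comp])
    have hadd : S.hp E = S.hp (kernel p) + S.hp (Abelian.image ψ) := S.hp_epi p hE hI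
    by_cases hK0 : IsZero (kernel p)
    · haveI : Mono p := Preadditive.mono_of_kernel_zero (hK0.eq_of_src _ _)
      haveI : IsIso p := isIso_of_mono_of_epi p
      rw [S.hp_zero hK0, zero_add] at hadd
      haveI : IsIso i := S.isIso_of_hp i hI hE hadd.symm
      rw [← hfac]
      infer_instance
    · exfalso
      have hK : Coh.IsCoh (kernel p) := S.ok_ker p hE hI
      have hcK := hc _ (kernel.ι p) inferInstance hK hK0
      have hcI := hc _ i inferInstance hI hI0
      rw [hEP] at hadd
      have hPc : P.coeff d = (S.hp (kernel p)).coeff d + (S.hp (Abelian.image ψ)).coeff d := by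
        rw [hadd, Polynomial.coeff_add]
      refine lex_no_split _ _ _ hcK hcI (fun t => ?_)
        (hst _ (kernel.ι p) inferInstance hK _ (hint _ hK) hcK (by linarith))
        (hst _ i inferInstance hI _ (hint _ hI) hcI (by linarith))
      · rw [← hPc]
        have hd0 : (0 : ℚ) < (d.factorial : ℚ) := by exact_mod_cast d.factorial_pos
        have hPd0 : P.coeff d ≠ 0 := by linarith
        field_simp
        rw [hadd, Polynomial.coeff_add]
  have hne : (CohB1.support E).Nonempty := by
    refine Set.nonempty_iff_ne_empty.2 fun h => hP0 ?_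
    rw [← hEP]
    exact S.hp_zero (Agent.Snapper.isZero_of_support_empty h)
  obtain ⟨c, hc'⟩ := Agent.ShStab28.exists_sub_smulHom_not_isIso k hE hne φ
  have hzero : φ - Agent.ThetaGrp19.smulHom E (Coh.toGlobal (X ↘ Spec (CommRingCat.of k)) c) = 0 := by
    by_contra hψ
    exact hc' (key _ hψ)
  refine ⟨c, fun V s => ?_⟩
  rw [sub_eq_zero] at hzero
  rw [hzero]
  rfl

end Groth.Agent.S15002
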