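import Groth.Statements.S15004
import Groth.Agent.Lib.IncidenceHarb

set_option autoImplicit false
universe u v
open Harb

namespace Groth.Agent.S15004

/-- Let C be a finite family of d curves, recorded as an incidence relation between a type of points and
a finite index type, such that any two distinct curves of the family meet in exactly h points; for a
point p write r_p for the number of curves of the family through p. Then for every curve C_i of the
family, Σ_{p ∈ C_i} (r_p − 1) = h (d − 1), the sum being finitely supported. (The published
statement is for a transversal arrangement of curves on a geometrically ruled surface with invariant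
e, all numerically equivalent to a C₀ + b f, where any two of the curves meet transversally in h =
2ab − a²e points; only this common pairwise intersection count enters the proof, and this row states
the identity for an abstract incidence relation.) -/
theorem result (P : Type u) (ι : Type v) [Fintype ι]
    (inc : P → ι → Prop) (h : ℕ)
    (hfin : ∀ i j : ι, i ≠ j → {p : P | inc p i ∧ inc p j}.Finite)
    (hcount : ∀ i j : ι, i ≠ j → {p : P | inc p i ∧ inc p j}.ncard = h) (i : ι) :
    ∑ᶠ p ∈ {p : P | inc p i}, (Nat.card {j : ι // inc p j} - 1) = h * (Fintype.card ι - 1) := by
  classical
  rw [finsum_mem_eq_sum_of_subset (t := (Groth.Agent.IncidenceHarb.multiple inc hfin).filter (inc · i))]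
  · exact Groth.Agent.IncidenceHarb.sum_pred inc h hfin hcount i
  · rintro p ⟨hp, hne⟩
    rw [Function.mem_support] at hne
    refine Finset.mem_coe.2 (Finset.mem_filter.2 ⟨(Groth.Agent.IncidenceHarb.mem_multiple inc hfin).2 ?_, hp⟩)
    show 2 ≤ Nat.card {j : ι // inc p j}
    omega
  · intro p hp
    exact (Finset.mem_filter.1 hp).2

end Groth.Agent.S15004
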