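import Groth.Statements.S15005
import Groth.Agent.Lib.IncidenceHarb

set_option autoImplicit false
universe u v
open Harb

namespace Groth.Agent.S15005

/-- Let C be a finite family of d curves, recorded as an incidence relation between a type of points and
a finite index type, such that any two distinct curves of the family meet in exactly h points; let
t_k be the number of k-fold points (points lying on exactly k curves of the family). Then f₂ − f₁ =
Σ_{k ≥ 2} k(k − 1) t_k equals h d(d − 1), where f_i = Σ_{k ≥ 2} k^i t_k. (The published statement is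
for a transversal arrangement of curves on a geometrically ruled surface with invariant e, all
numerically equivalent to a C₀ + b f, where any two of the curves meet transversally in h = 2ab −
a²e points; only this common pairwise intersection count enters the proof, and this row states the
identity for an abstract incidence relation.) -/
theorem result (P : Type u) (ι : Type v) [Fintype ι]
    (inc : P → ι → Prop) (h : ℕ)
    (hfin : ∀ i j : ι, i ≠ j → {p : P | inc p i ∧ inc p j}.Finite)
    (hcount : ∀ i j : ι, i ≠ j → {p : P | inc p i ∧ inc p j}.ncard = h) :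
    ∑ k ∈ Finset.Icc 2 (Fintype.card ι), k * (k - 1) * Nat.card {p : P // Nat.card {j : ι // inc p j} = k} =
      h * (Fintype.card ι * (Fintype.card ι - 1)) := by
  classical
  set S := Groth.Agent.IncidenceHarb.multiple inc hfin
  have hmem : ∀ p, p ∈ S ↔ 2 ≤ Nat.card {j : ι // inc p j} := fun p => Groth.Agent.IncidenceHarb.mem_multiple inc hfin
  have hfib : ∀ k ∈ Finset.Icc 2 (Fintype.card ι), k * (k - 1) * Nat.card {p : P // Nat.card {j : ι // inc p j} = k} =
      ∑ p ∈ S.filter (fun p => Nat.card {j : ι // inc p j} = k), Nat.card {j : ι // inc p j} * (Nat.card {j : ι // inc p j} - 1) := by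
    intro k hk
    rw [Finset.sum_congr rfl (g := fun _ => k * (k - 1)) (fun p hp => by rw [(Finset.mem_filter.1 hp).2]),
      Finset.sum_const, smul_eq_mul, mul_comm (Finset.card _)]
    congr 1
    rw [← Nat.card_eq_finsetCard]
    refine Nat.card_congr (Equiv.subtypeEquivRight fun p => ?_)
    rw [Finset.mem_filter, hmem]
    exact ⟨fun e => ⟨e ▸ (Finset.mem_Icc.1 hk).1, e⟩, fun e => e.2⟩
  rw [Finset.sum_congr rfl hfib, Finset.sum_fiberwise_of_maps_to]
  swap
  · intro p hp
    refine Finset.mem_Icc.2 ⟨(hmem p).1 hp, ?_⟩
    rw [Nat.card_eq_fintype_card]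
    exact Fintype.card_subtype_le _
  have hi : ∀ i : ι, ∑ p ∈ S.filter (inc · i), (Nat.card {j : ι // inc p j} - 1) = h * (Fintype.card ι - 1) :=
    fun i => Groth.Agent.IncidenceHarb.sum_pred inc h hfin hcount i
  calc ∑ p ∈ S, Nat.card {j : ι // inc p j} * (Nat.card {j : ι // inc p j} - 1)
      = ∑ p ∈ S, ∑ i : ι, if inc p i then Nat.card {j : ι // inc p j} - 1 else 0 := by
        refine Finset.sum_congr rfl fun p _ => ?_
        rw [← Finset.sum_filter, Finset.sum_const, smul_eq_mul]
        congr 1
        exact Groth.Agent.IncidenceHarb.mult_eq inc p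
    _ = ∑ i : ι, h * (Fintype.card ι - 1) := by
        rw [Finset.sum_comm]
        exact Finset.sum_congr rfl fun i _ => by rw [← Finset.sum_filter]; exact hi i
    _ = h * (Fintype.card ι * (Fintype.card ι - 1)) := by
        rw [Finset.sum_const, Finset.card_univ, smul_eq_mul]; ring

end Groth.Agent.S15005
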