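import Groth.Statements.S15008
import Groth.Agent.Lib.CanDual17.Conductor
-- import your own Groth.Agent.* helpers here

set_option autoImplicit false
universe u
open CategoryTheory
open TFCurv

set_option backward.isDefEq.respectTransparency.types false

namespace Groth.Agent.S15008
open Groth.Agent.CanDual17

/-- Let O be a one-dimensional Noetherian local domain with algebraically closed residue field whose
integral closure O~ in its fraction field K is a finite O-module, and suppose O is not Gorenstein.
If w is an O-submodule of K with O ⊆ w ⊆ O~ whose injective dimension as an O-module is at most one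
(a canonical ideal placed between O and O~), then length(w/O) + length(O~/C) = 2 · length(O~/O),
where C is the conductor of O in O~. -/
theorem result (O : Type u) [CommRing O] [IsDomain O] [IsNoetherianRing O] [IsLocalRing O] (hdim : ringKrullDim O = 1) [IsAlgClosed (IsLocalRing.ResidueField O)] (K : Type u) [Field K] [Algebra O K] [IsFractionRing O K] (hfin : Module.Finite O ↥(integralClosure O K)) (hG : ¬ LocCoh.IsGorensteinLocalRing O) (ω : Submodule O K) (hω1 : (1 : Submodule O K) ≤ ω) (hω2 : ω ≤ (Subalgebra.toSubmodule (integralClosure O K))) (hωinj : HasInjectiveDimensionLT (ModuleCat.of O ↥ω) 2) : Module.length O (↥ω ⧸ Submodule.comap ω.subtype (1 : Submodule O K)) + Module.length O (↥(integralClosure O K) ⧸ ((1 : Submodule O K).colon (Subalgebra.toSubmodule (integralClosure O K))) • (⊤ : Submodule O ↥(integralClosure O K))) = 2 * Module.length O (↥(integralClosure O K) ⧸ Submodule.comap (Subalgebra.toSubmodule (integralClosure O K)).subtype (1 : Submodule O K)) := by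
  haveI := krullDimLE_of_dim hdim
  haveI := hωinj
  have hnf := not_isField_of_dim hdim
  let P : Submodule O K := Subalgebra.toSubmodule (integralClosure O K)
  have h1P : (1 : Submodule O K) ≤ P := hω1.trans hω2
  have hω0 : ω ≠ ⊥ := fun h => one_ne_bot (le_bot_iff.1 (h ▸ hω1))
  have hPfg : P.FG := Module.Finite.iff_fg.1 (show Module.Finite O ↥P from hfin)
  have hωfg : ω.FG := hPfg.of_le hω2
  have hPspan : Submodule.span K (P : Set K) = ⊤ := span_eq_top_mono h1P span_one
  -- the conductor is the largest overring submodule of `ω`
  have hC : dual (LinearMap.mul K K) 1 P = dual (LinearMap.mul K K) ω P := by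
    refine le_antisymm (fun x hx y hy => hω1 (hx y hy)) fun x hx y hy => ?_
    show x * y ∈ (1 : Submodule O K)
    rw [← dual_self hnf ω hω0 hωfg]
    intro w hw
    show x * y * w ∈ ω
    rw [mul_assoc]
    exact hx _ ((integralClosure O K).mul_mem hy (hω2 hw))
  have hC1 : dual (LinearMap.mul K K) 1 P ≤ 1 := fun x hx => by simpa using hx 1 (h1P (Submodule.mem_one.2 ⟨1, map_one _⟩))
  have hCspan : Submodule.span K (dual (LinearMap.mul K K) 1 P : Set K) = ⊤ := dual_span_eq_top span_one hPfg
  have key : len (dual (LinearMap.mul K K) 1 P) 1 = len ω P := by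
    have h := len_dual hnf ω hω0 hωfg (B := LinearMap.mul K K) mul_bijective mul_symm one_fg hC1 hCspan
    rw [dual_one, hC, dual_dual hnf ω hω0 hωfg mul_bijective mul_symm hPfg hPspan] at h
    rw [hC]
    exact h.symm
  have h2 : Module.length O (↥(integralClosure O K) ⧸ ((1 : Submodule O K).colon (Subalgebra.toSubmodule (integralClosure O K))) •
      (⊤ : Submodule O ↥(integralClosure O K))) = len (dual (LinearMap.mul K K) 1 P) P := by
    rw [len, ← map_colon_smul_top (integralClosure O K),
      Submodule.comap_map_eq_of_injective (Submodule.injective_subtype _)]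
    rfl
  rw [h2, ← len_add hC1 h1P, key]
  show len 1 ω + (len ω P + len 1 P) = 2 * len 1 P
  rw [← add_assoc, len_add hω1 hω2, two_mul]

end Groth.Agent.S15008
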