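import Groth.Statements.S1501
import Groth.Agent.Lib.AmpleHomeo5.Main

set_option autoImplicit false
set_option linter.style.haveILetI false
set_option backward.isDefEq.respectTransparency false
universe u
open FlatMor

namespace Groth.Agent.S1501

open AlgebraicGeometry CategoryTheory Limits TopologicalSpace

theorem ampleOn_pullback_iff {Z X : Scheme.{u}} (i : Z ⟶ X) [IsClosedImmersion i] [Surjective i] {L : X.Modules}
    (hL : PicF.IsInvertible L) (U : X.Opens) :
    RA.AmpleOn ((Scheme.Modules.pullback i).obj L) (i ⁻¹ᵁ U) ↔ RA.AmpleOn L U := by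
  haveI : IsClosedImmersion (i ∣_ U) := IsZariskiLocalAtTarget.restrict (P := @IsClosedImmersion) inferInstance U
  haveI : Surjective (i ∣_ U) := IsZariskiLocalAtTarget.restrict (P := @Surjective) inferInstance U
  rw [RA.AmpleOn, RA.AmpleOn, RA.isAmple_restrict_iff_pullback, RA.isAmple_pullback_comp_iff,
    RA.isAmple_pullback_congr (morphismRestrict_ι i U).symm, ← RA.isAmple_pullback_comp_iff,
    AmpleHomeo5.isAmple_pullback_iff (i ∣_ U) (PicLoc.isInvertible_pullback _ hL), RA.isAmple_restrict_iff_pullback]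

open AlgebraicGeometry CategoryTheory Limits in
/-- Let (f, f') : (X ⊂ X') → (S ⊂ S') be a morphism of thickenings (iX : X → X' and iS : S → S'
thickenings with f ≫ iS = iX ≫ f') and L' an invertible O_{X'}-module with pullback L to X. Then L'
is ample relative to f' if and only if L is ample relative to f. -/
theorem result {X X' S S' : Scheme.{u}} (iX : X ⟶ X') (iS : S ⟶ S') (f : X ⟶ S) (f' : X' ⟶ S')
    (hX : MoreMor.IsThickening iX) (hS : MoreMor.IsThickening iS) (w : iX ≫ f' = f ≫ iS)
    (L' : X'.Modules) (hL' : PicF.IsInvertible L') :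
    RelAmple.IsRelAmple f' L' ↔ RelAmple.IsRelAmple f ((Scheme.Modules.pullback iX).obj L') := by
  obtain ⟨_, _⟩ := hX
  obtain ⟨_, _⟩ := hS
  have hf : ∀ V : S'.Opens, f ⁻¹ᵁ (iS ⁻¹ᵁ V) = iX ⁻¹ᵁ (f' ⁻¹ᵁ V) := fun V => by
    rw [← Scheme.Hom.comp_preimage, ← Scheme.Hom.comp_preimage, w]
  constructor
  · intro h
    haveI := h.1
    haveI : QuasiCompact (f ≫ iS) := w ▸ inferInstance
    haveI : QuasiCompact f := QuasiCompact.of_comp f iS
    refine RA.isRelAmple_of_local f fun y => ?_
    obtain ⟨V, hV, hy, -⟩ := exists_isAffineOpen_mem_and_subset (x := iS y) (U := ⊤) trivial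
    refine ⟨iS ⁻¹ᵁ V, hV.preimage iS, hy, ?_⟩
    rw [hf, ampleOn_pullback_iff iX hL']
    exact (RA.isRelAmple_def f').1 h V hV
  · intro h
    haveI := h.1
    haveI : QuasiCompact f' := by
      refine ⟨fun U hU hU' => ?_⟩
      have h1 := (f ≫ iS).isCompact_preimage (U := ⟨U, hU⟩) hU'
      rw [← w, Scheme.Hom.comp_preimage] at h1
      have h2 := h1.image iX.continuous
      rw [Opens.map_coe, Set.image_preimage_eq _ iX.surjective] at h2
      exact h2
    refine (RA.isRelAmple_def f').2 fun V hV => ?_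
    rw [← ampleOn_pullback_iff iX hL', ← hf]
    exact (RA.isRelAmple_def f).1 h _ (hV.preimage iS)

end Groth.Agent.S1501
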