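import Groth.Statements.S15010
import Groth.Agent.Lib.TFLat17.Basic

set_option autoImplicit false
universe u
open TFCurv

namespace Groth.Agent.S15010

/-- Let O be a one-dimensional Noetherian local domain with algebraically closed residue field whose
integral closure O~ in its fraction field K is a finite O-module. If M and N are O-submodules of K^n
with O^n ⊆ M ⊆ O~^n and O^n ⊆ N ⊆ O~^n, then every O-linear isomorphism M → N is the restriction of
x ↦ A·x for an invertible n × n matrix A with entries in O~. -/
theorem result (O : Type u) [CommRing O] [IsDomain O] [IsNoetherianRing O] [IsLocalRing O] (hdim : ringKrullDim O = 1) [IsAlgClosed (IsLocalRing.ResidueField O)] (K : Type u) [Field K] [Algebra O K] [IsFractionRing O K] (hfin : Module.Finite O ↥(integralClosure O K)) (n : ℕ) (M N : Submodule O (Fin n → K)) (hM1 : Submodule.pi Set.univ (fun _ : Fin n => (1 : Submodule O K)) ≤ M) (hM2 : M ≤ Submodule.pi Set.univ (fun _ : Fin n => (Subalgebra.toSubmodule (integralClosure O K)))) (hN1 : Submodule.pi Set.univ (fun _ : Fin n => (1 : Submodule O K)) ≤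 N) (hN2 : N ≤ Submodule.pi Set.univ (fun _ : Fin n => (Subalgebra.toSubmodule (integralClosure O K)))) (φ : ↥M ≃ₗ[O] ↥N) : ∃ A : Matrix (Fin n) (Fin n) ↥(integralClosure O K), IsUnit A ∧ ∀ x : ↥M, ((φ x : ↥N) : Fin n → K) = (A.map (algebraMap ↥(integralClosure O K) K)).mulVec (x : Fin n → K) := by
  exact Groth.Agent.TFLat17.exists_matrix_of_equiv n M N hM1 hM2 hN1 hN2 φ

end Groth.Agent.S15010
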