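import Groth.Statements.S15013
import Groth.Agent.Lib.TorOne17.Basic
import Mathlib.Algebra.Homology.DerivedCategory.Ext.ExactSequences
import Mathlib.Algebra.Homology.DerivedCategory.Ext.EnoughProjectives

set_option autoImplicit false
universe u
open CategoryTheory
open TFCurv

namespace Groth.Agent.S15013

/-- Let O be a one-dimensional Noetherian local domain with algebraically closed residue field whose
integral closure O~ in its fraction field K is a finite O-module, and let w be a canonical ideal of
O, taken here as a nonzero finitely generated O-submodule of K whose injective dimension as an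
O-module is at most one. Then Ext^i_O(M, w) vanishes for all i ≥ 1 and every finitely generated
torsion-free O-module M. -/
theorem result (O : Type u) [CommRing O] [IsDomain O] [IsNoetherianRing O] [IsLocalRing O] (hdim : ringKrullDim O = 1) [IsAlgClosed (IsLocalRing.ResidueField O)] (K : Type u) [Field K] [Algebra O K] [IsFractionRing O K] (hfin : Module.Finite O ↥(integralClosure O K)) (ω : Submodule O K) (hω0 : ω ≠ ⊥) (hωfg : ω.FG) (hωinj : HasInjectiveDimensionLT (ModuleCat.of O ↥ω) 2) (M : Type u) [AddCommGroup M] [Module O M] [Module.Finite O M] [NoZeroSMulDivisors O M] (i : ℕ) (hi : 1 ≤ i) : Subsingleton (Abelian.Ext (ModuleCat.of O M) (ModuleCat.of O ↥ω) i) := by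
  haveI : Module.IsTorsionFree O M := inferInstance
  obtain ⟨n, g, hg⟩ := TorOne17.exists_embedding_free O M
  let S : ShortComplex (ModuleCat.{u} O) :=
    ShortComplex.mk (ModuleCat.ofHom g) (ModuleCat.ofHom (LinearMap.range g).mkQ) (by
      ext x
      exact (Submodule.Quotient.mk_eq_zero _).2 ⟨x, rfl⟩)
  have hS : S.ShortExact :=
    { exact := (ShortComplex.moduleCat_exact_iff _).2 fun x hx => (Submodule.Quotient.mk_eq_zero _).1 hx
      mono_f := (ModuleCat.mono_iff_injective _).2 hg
      epi_g := (ModuleCat.epi_iff_surjective _).2 (Submodule.mkQ_surjective _) }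
  haveI : Projective S.X₂ :=
    (IsProjective.iff_projective (R := O) (ModuleCat.of O (Fin n → O))).1 inferInstance
  refine subsingleton_of_forall_eq 0 fun x => ?_
  haveI := hωinj
  obtain ⟨y, hy⟩ := Abelian.Ext.contravariant_sequence_exact₁ hS (Y := ModuleCat.of O ↥ω) x (n₁ := 1 + i) rfl
    ((HasInjectiveDimensionLT.subsingleton (ModuleCat.of O ↥ω) 2 (1 + i) (by omega) S.X₃).elim _ _)
  obtain ⟨j, rfl⟩ : ∃ j, i = j + 1 := ⟨i - 1, by omega⟩
  rw [← hy, Abelian.Ext.eq_zero_of_projective y, Abelian.Ext.comp_zero]

end Groth.Agent.S15013
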