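import Groth.Statements.S15019
import Groth.Agent.Lib.NumSemigroup.Basic
-- import your own Groth.Agent.* helpers here

set_option autoImplicit false
open TFCurv

namespace Groth.Agent.S15019
open Groth.Agent

/-- Let Γ be a numerical semigroup (a submonoid of (ℕ, +) with finite complement), Γ ≠ ℕ, with conductor
c (every n ≥ c lies in Γ, c − 1 does not), let e be its multiplicity (the least nonzero element of
Γ), and let S ⊆ ℕ be a Γ-module in normal form: 0 ∈ S and γ + s ∈ S for all γ ∈ Γ, s ∈ S. Then the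
set of gaps n of S with S ∪ {n} again a Γ-module (n + γ ∈ S for every nonzero γ ∈ Γ) has at most e −
1 elements, and so does the set of nonzero s ∈ S with S ∖ {s} again a Γ-module (s − γ ∉ S for every
nonzero γ ∈ Γ with γ ≤ s). -/
theorem result (Γ : AddSubmonoid ℕ) (c : ℕ) (hc : ∀ n : ℕ, c ≤ n → n ∈ Γ) (hc0 : c ≠ 0) (hc1 : c - 1 ∉ Γ) (e : ℕ) (he : e ∈ Γ) (he0 : e ≠ 0) (hemin : ∀ γ : ℕ, γ ∈ Γ → γ ≠ 0 → e ≤ γ) (S : Set ℕ) (hS0 : (0 : ℕ) ∈ S) (hS : ∀ γ : ℕ, γ ∈ Γ → ∀ s : ℕ, s ∈ S → γ + s ∈ S) : {n : ℕ | n ∉ S ∧ ∀ γ : ℕ, γ ∈ Γ → γ ≠ 0 → n + γ ∈ S}.encard ≤ ((e - 1 : ℕ) : ℕ∞) ∧ {s : ℕ | s ∈ S ∧ s ≠ 0 ∧ ∀ γ : ℕ, γ ∈ Γ → γ ≠ 0 → γ ≤ s → s - γ ∉ S}.encard ≤ ((e - 1 : ℕ) : ℕ∞) := by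
  refine ⟨NumSemigroup.ncard_le_sub_one he0 ?_ ?_, NumSemigroup.ncard_le_sub_one he0 ?_ ?_⟩
  · rintro a ⟨-, ha⟩ b ⟨hb, -⟩ hab h
    have := ha _ (NumSemigroup.sub_mem_of_mod_eq he hab.le h) (by omega)
    rw [Nat.add_sub_cancel' hab.le] at this
    exact hb this
  · rintro a ⟨ha, -⟩ h
    obtain ⟨k, rfl⟩ := Nat.dvd_of_mod_eq_zero h
    exact ha (by simpa [mul_comm] using hS _ (NumSemigroup.mul_mem he k) 0 hS0)
  · rintro a ⟨ha, -, -⟩ b ⟨-, -, hb⟩ hab h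
    have := hb _ (NumSemigroup.sub_mem_of_mod_eq he hab.le h) (by omega) (by omega)
    rw [show b - (b - a) = a by omega] at this
    exact this ha
  · rintro a ⟨-, ha0, ha⟩ h
    obtain ⟨k, rfl⟩ := Nat.dvd_of_mod_eq_zero h
    have := ha _ (by simpa [mul_comm] using NumSemigroup.mul_mem he k) ha0 le_rfl
    simp [hS0] at this

end Groth.Agent.S15019
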