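import Groth.Statements.S1502
import Groth.Agent.Lib.AmpleCover4.Main
import Groth.Agent.S0590
-- import your own Groth.Agent.* helpers here

set_option autoImplicit false
universe u
open FlatMor

namespace Groth.Agent.S1502

open AlgebraicGeometry CategoryTheory Limits in
/-- Let X be quasi-compact and quasi-separated. Then there is a morphism f : Y → X which is proper, of
finite presentation and completely decomposed (every point of X is the image of a point with trivial
residue field extension) such that Y has an ample family of invertible modules. -/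
theorem result (X : Scheme.{u}) [CompactSpace ↑X] [QuasiSeparatedSpace ↑X] :
    ∃ (Y : Scheme.{u}) (f : Y ⟶ X), IsProper f ∧ LocallyOfFinitePresentation f ∧
      (∀ x : X, ∃ y : Y, f y = x ∧ Function.Bijective (f.residueFieldMap y)) ∧ MoreMor.HasAmpleFamily Y := by
  obtain ⟨I, _, _, _, D, c, hc, haff, hft, ⟨e⟩⟩ := Groth.Agent.S0590.result X
  let i : Iᵒᵖ := Opposite.op (Classical.arbitrary I)
  haveI : CompactSpace (D.obj i) := (hft i).1
  haveI : IsNoetherianRing (CommRingCat.of (ULift.{u} ℤ)) := isNoetherianRing_of_ringEquiv ℤ ULift.ringEquiv.symm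
  haveI : IsLocallyNoetherian (D.obj i) :=
    haveI := (hft i).2
    LocallyOfFiniteType.isLocallyNoetherian (IsTerminal.from specULiftZIsTerminal (D.obj i))
  haveI : IsNoetherian (D.obj i) := ⟨⟩
  haveI := haff
  haveI : IsAffineHom (c.π.app i) := isAffineHom_π_app _ _ hc i
  let π : X ⟶ D.obj i := e.inv ≫ c.π.app i
  haveI : IsAffineHom π := inferInstanceAs (IsAffineHom (e.inv ≫ c.π.app i))
  obtain ⟨Y₀, f₀, hf₀, hamp, hcd⟩ := Groth.Agent.AmpleCover4.exists_cdCover (X := D.obj i) ⊤
  haveI := hf₀
  haveI : LocallyOfFinitePresentation f₀ :=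
    haveI : IsLocallyNoetherian Y₀ := LocallyOfFiniteType.isLocallyNoetherian f₀
    inferInstance
  refine ⟨pullback f₀ π, pullback.snd f₀ π, inferInstance, inferInstance, fun x => ?_,
    Groth.Agent.S7184.result (pullback.fst f₀ π) (Or.inl (MorphismProperty.pullback_fst _ _ inferInstance)) hamp⟩
  obtain ⟨y₀, hy₀, hbij⟩ := hcd (π x) trivial
  let g := Spec.map (π.residueFieldMap x) ≫ Spec.map ((D.obj i).residueFieldCongr hy₀).hom
  haveI : IsIso (f₀.residueFieldMap y₀) := (ConcreteCategory.isIso_iff_bijective _).2 hbij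
  let l₀ := g ≫ Spec.map (inv (f₀.residueFieldMap y₀)) ≫ Y₀.fromSpecResidueField y₀
  have hl : l₀ ≫ f₀ = X.fromSpecResidueField x ≫ π := by
    simp only [l₀, g, Category.assoc]
    rw [← Scheme.Hom.SpecMap_residueFieldMap_fromSpecResidueField f₀ y₀, ← Spec.map_comp_assoc (f₀.residueFieldMap y₀),
      IsIso.hom_inv_id, Spec.map_id, Category.id_comp, Scheme.residueFieldCongr_fromSpecResidueField,
      Scheme.Hom.SpecMap_residueFieldMap_fromSpecResidueField]
  let l := pullback.lift l₀ (X.fromSpecResidueField x) hl
  have hlf : l ≫ pullback.snd f₀ π = X.fromSpecResidueField x := pullback.lift_snd _ _ _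
  let p := IsLocalRing.closedPoint (X.residueField x)
  refine ⟨l p, ?_, ?_⟩
  · rw [← Scheme.Hom.comp_apply, hlf]; exact Scheme.fromSpecResidueField_apply x _
  · have h : Function.Bijective ((l ≫ pullback.snd f₀ π).residueFieldMap p) := by
      refine Groth.Agent.AmpleCover4.bijective_residue_congr hlf.symm _ ⟨RingHom.injective _,
        Ideal.Quotient.lift_surjective_of_surjective _ _
          (Ideal.Quotient.mk_surjective.comp ((X.fromSpecResidueField x).stalkMap_surjective p))⟩
    rw [Scheme.residueFieldMap_comp] at h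
    refine ⟨RingHom.injective _, fun b => ?_⟩
    obtain ⟨a, ha⟩ := h.2 (l.residueFieldMap p b)
    exact ⟨a, RingHom.injective (l.residueFieldMap p).hom ha⟩

end Groth.Agent.S1502
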