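import Groth.Statements.S19528
import Groth.Agent.Lib.CanDual17.ValueSet
-- import your own Groth.Agent.* helpers here

set_option autoImplicit false
universe u
open CategoryTheory
open TFCurv

set_option backward.isDefEq.respectTransparency.types false

namespace Groth.Agent.S19528
open Groth.Agent.CanDual17
set_option maxHeartbeats 800000

/-- Let k be an algebraically closed field and A ≠ k[[t]] a k-subalgebra of k[[t]] that is closed in the
t-adic topology and over which k[[t]] is a finite module (as for the complete local ring of a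
unibranch curve singularity inside its normalisation), let Γ ⊆ ℕ be the set of t-orders of the
nonzero elements of A (its value semigroup) with conductor c (every n ≥ c lies in Γ, c ≥ 1, c − 1 ∉
Γ), and suppose A is not Gorenstein. Let ω be a finitely generated A-submodule of k[[t]] containing
1 whose injective dimension as an A-module is at most one (a canonical ideal of A placed between A
and k[[t]]). Then for every finitely generated A-submodule M of k[[t]] containing 1 (a rank-one
torsion-free module in normal form) the A-linear maps M → ω are the multiplications by power series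
u with uM ⊆ ω, and the set of orders of such u is the dual of the value set of M: a natural number n
is the order of some u with uM ⊆ ω if and only if n ≥ c or c − 1 − n is not the order of any element
of M. (For M = A this is the first assertion, that the value set of ω is the dual of Γ. The
published statement does not exclude the Gorenstein case; this row assumes that A is not Gorenstein,
as the printed argument for the value set of ω does.) -/
theorem result (k : Type u) [Field k] [IsAlgClosed k] (A : Subalgebra k (PowerSeries k)) (hA : Module.Finite ↥A (PowerSeries k)) (hcl : ∀ f : PowerSeries k, (∀ n : ℕ, ∃ g ∈ A, (n : ℕ∞) ≤ PowerSeries.order (f - g)) → f ∈ A) (hsing : A ≠ ⊤) (Γ : Set ℕ) (hΓ : ∀ n : ℕ, n ∈ Γ ↔ ∃ f ∈ A, PowerSeries.order f = n) (c : ℕ) (hc : ∀ n : ℕ, c ≤ n → n ∈ Γ) (hc0 : c ≠ 0) (hc1 : c - 1 ∉ Γ) (hG : ¬ LocCoh.IsGorensteinLocalRing ↥A) (ω : Submodule ↥A (PowerSeries k)) (hω1 : (1 : PowerSeries k) ∈ ω) (hωfg : ω.FG) (hωinj : HasInjectiveDimensionLT (ModuleCat.of ↥A ↥ω) 2) (M :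 Submodule ↥A (PowerSeries k)) (hMfg : M.FG) (hM1 : (1 : PowerSeries k) ∈ M) (n : ℕ) : (∃ u : PowerSeries k, PowerSeries.order u = n ∧ ∀ m ∈ M, u * m ∈ ω) ↔ (c ≤ n ∨ ¬ ∃ m ∈ M, PowerSeries.order m = ((c - 1 - n : ℕ) : ℕ∞)) := by
  classical
  have hA' := hA
  have hall : ∀ j, c ≤ j → j ∈ Groth.Agent.Branch.ordSet (Subalgebra.toSubmodule A) := fun j hj => by
    obtain ⟨f, hf, hfj⟩ := (hΓ j).1 (hc j hj)
    exact ⟨f, hf, hfj⟩
  have hcond : ∀ f : PowerSeries k, (c : ℕ∞) ≤ f.order → f ∈ A := fun f hf => hcl f fun N => by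
    obtain ⟨g, hg, hgN⟩ := Groth.Agent.Branch.approx hall hf N
    exact ⟨g, hg, hgN⟩
  haveI := isNoetherianRing_A A c hcond
  haveI := isLocalRing_A A c hcond
  haveI := krullDimLE_A A c hcond
  haveI := isFractionRing_KK A c hcond
  have hnf := not_isField_A A c hcond
  haveI := isNoetherian_powerSeries A c hcond
  let W : Submodule ↥A (KK k) := ω.map (emb A)
  let P : Submodule ↥A (KK k) := (⊤ : Submodule ↥A (PowerSeries k)).map (emb A)
  let N : Submodule ↥A (KK k) := M.map (emb A)
  let Cc : Submodule ↥A (KK k) := (tail A ⊤ c).map (emb A)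
  haveI hinj : HasInjectiveDimensionLT (ModuleCat.of ↥A ↥W) 2 :=
    @hasInjectiveDimensionLT_of_iso _ _ _ _ _
      (Submodule.equivMapOfInjective (emb A) (emb_injective A) ω).toModuleIso 2 hωinj
  have hW0 : W ≠ ⊥ := fun h => by
    have h1 : emb A 1 ∈ W := ⟨1, hω1, rfl⟩
    rw [h, Submodule.mem_bot, emb_one] at h1
    exact one_ne_zero h1
  have hWfg : W.FG := hωfg.map _
  have hPfg : P.FG := (IsNoetherian.noetherian _).map _
  have hNfg : N.FG := hMfg.map _
  have h1N : (1 : Submodule ↥A (KK k)) ≤ N := fun x hx => by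
    obtain ⟨r, rfl⟩ := Submodule.mem_one.1 hx
    refine ⟨r • (1 : PowerSeries k), M.smul_mem r hM1, ?_⟩
    rw [algebraMap_eq_emb, Subalgebra.smul_def, smul_eq_mul, mul_one]
  have hNP : N ≤ P := Submodule.map_mono le_top
  have hNspan := span_eq_top_mono h1N (span_one (O := ↥A) (K := KK k))
  have hPspan := span_eq_top_mono (h1N.trans hNP) (span_one (O := ↥A) (K := KK k))
  have hC1 : Cc ≤ 1 := by
    rintro _ ⟨f, hf, rfl⟩
    exact Submodule.mem_one.2 ⟨⟨f, hcond f hf.2⟩, algebraMap_eq_emb A _⟩
  have hC : dual (LinearMap.mul (KK k) (KK k)) W P = Cc := by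
    refine le_antisymm (fun z hz => ?_) ?_
    · -- `z k[[t]]` lands in the endomorphisms of `ω`
      have hzA : ∀ g : PowerSeries k, ∃ a : ↥A, algebraMap ↥A (KK k) a = z * emb A g := fun g => by
        refine Submodule.mem_one.1 (?_ : z * emb A g ∈ (1 : Submodule ↥A (KK k)))
        rw [← dual_self hnf W hW0 hWfg]
        rintro _ ⟨w, hw, rfl⟩
        show z * emb A g * emb A w ∈ W
        rw [mul_assoc, ← emb_mul]
        exact hz _ ⟨g * w, trivial, rfl⟩
      obtain ⟨a, ha⟩ := hzA 1
      rw [algebraMap_eq_emb, emb_one, mul_one] at ha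
      refine ⟨a, ⟨trivial, ?_⟩, ha⟩
      by_contra hlt
      have ha0 : (a : PowerSeries k) ≠ 0 := fun h => hlt (by simp [h])
      obtain ⟨j, hj⟩ := Groth.Agent.Branch.exists_order_eq ha0
      have hjc : j < c := by
        by_contra hge
        exact hlt (hj ▸ by exact_mod_cast Nat.le_of_not_lt hge)
      obtain ⟨b, hb⟩ := hzA (PowerSeries.X ^ (c - 1 - j))
      rw [algebraMap_eq_emb, ← ha, ← emb_mul] at hb
      refine hc1 ((hΓ _).2 ⟨b, b.2, ?_⟩)
      rw [emb_injective A hb, PowerSeries.order_mul, hj, PowerSeries.order_X_pow, ← Nat.cast_add]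
      congr 1
      omega
    · rintro _ ⟨f, hf, rfl⟩ _ ⟨g, -, rfl⟩
      show emb A f * emb A g ∈ W
      rw [← emb_mul]
      have hfg : f * g ∈ A := hcond _ (le_trans (le_add_right hf.2) (PowerSeries.le_order_mul _ _))
      refine ⟨(⟨_, hfg⟩ : ↥A) • (1 : PowerSeries k), ω.smul_mem _ hω1, ?_⟩
      rw [Subalgebra.smul_def, smul_eq_mul, mul_one]
  -- no element of order `c - 1` in `ω`
  have hno : ∀ f ∈ ω, f.order ≠ ((c - 1 : ℕ) : ℕ∞) := by
    intro f hf hfo
    have hmem : emb A (PowerSeries.X ^ (c - 1)) ∈ dual (LinearMap.mul (KK k) (KK k)) W P := by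
      rintro _ ⟨g, -, rfl⟩
      show emb A _ * emb A g ∈ W
      rw [← emb_mul]
      refine ⟨_, ?_, rfl⟩
      have hV : ∀ h : PowerSeries k, (c : ℕ∞) ≤ h.order → h ∈ ω.restrictScalars k := fun h hh => by
        have := ω.smul_mem (⟨h, hcond h hh⟩ : ↥A) hω1
        rwa [Subalgebra.smul_def, smul_eq_mul, mul_one] at this
      refine Groth.Agent.Branch.mem_of_le_order (V := ω.restrictScalars k) (m := c - 1) hV (fun n hn => ?_)
        (Groth.Agent.Branch.le_order_of_X_pow_dvd (Dvd.intro g rfl))
      rcases eq_or_lt_of_le hn with rfl | hlt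
      · exact ⟨f, hf, hfo⟩
      · exact Groth.Agent.Branch.mem_ordSet_of_le hV (by omega)
    rw [hC] at hmem
    obtain ⟨f', hf', he⟩ := hmem
    have h := hf'.2
    rw [emb_injective A he, PowerSeries.order_X_pow, ENat.coe_le_coe] at h
    omega
  -- the multipliers
  let D : Submodule ↥A (PowerSeries k) :=
    { carrier := {u | ∀ m ∈ M, u * m ∈ ω}
      add_mem' := fun ha hb m hm => by rw [add_mul]; exact ω.add_mem (ha m hm) (hb m hm)
      zero_mem' := fun m _ => by rw [zero_mul]; exact ω.zero_mem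
      smul_mem' := fun a u hu m hm => by rw [smul_mul_assoc]; exact ω.smul_mem a (hu m hm) }
  have hD : D.map (emb A) = dual (LinearMap.mul (KK k) (KK k)) W N := by
    refine le_antisymm ?_ fun z hz => ?_
    · rintro _ ⟨u, hu, rfl⟩ _ ⟨m, hm, rfl⟩
      exact ⟨u * m, hu m hm, emb_mul A u m⟩
    · obtain ⟨u, hu, hzu⟩ : z ∈ W := by
        have h := hz (emb A 1) ⟨1, hM1, rfl⟩
        simpa [emb_one] using h
      refine ⟨u, fun m hm => ?_, hzu⟩
      obtain ⟨q, hq, hqe⟩ := hz (emb A m) ⟨m, hm, rfl⟩
      have : q = u * m := emb_injective A (hqe.trans (by rw [emb_mul, hzu]; rfl))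
      exact this ▸ hq
  -- both value sets below the conductor
  let SD := (Finset.range c).filter fun n : ℕ => ∃ f ∈ D, f.order = (n : ℕ∞)
  let SM := (Finset.range c).filter fun n : ℕ => ∃ f ∈ M, f.order = (n : ℕ∞)
  let T := (Finset.range c).filter fun n : ℕ => ¬ ∃ f ∈ M, f.order = ((c - 1 - n : ℕ) : ℕ∞)
  have hsub : SD ⊆ T := by
    intro i hi
    obtain ⟨hic, u, hu, hui⟩ := Finset.mem_filter.1 hi
    refine Finset.mem_filter.2 ⟨hic, fun ⟨m, hm, hmo⟩ => hno _ (hu m hm) ?_⟩
    rw [PowerSeries.order_mul, hui, hmo, ← Nat.cast_add]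
    congr 1
    have := Finset.mem_range.1 hic
    omega
  have hcard : SD.card + SM.card = c := by
    have hcCD : Cc ≤ D.map (emb A) := by rw [hD, ← hC]; exact dual_anti hNP
    have hCN : Cc ≤ N := hC1.trans h1N
    have key : len Cc (D.map (emb A)) = len N P := by
      rw [hD, ← hC]
      exact len_dual hnf W hW0 hWfg mul_bijective mul_symm hPfg hNP hNspan
    have htD : len Cc (D.map (emb A)) = ((SD.card : ℕ) : ℕ∞) := by
      have h := len_tail A c hcond D c
      rwa [show (tail A D c).map (emb A) = Cc from le_antisymm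
        (Submodule.map_mono fun f hf => ⟨trivial, hf.2⟩) (by
          rintro _ ⟨f, hf, rfl⟩
          obtain ⟨u, hu, hue⟩ := hcCD ⟨f, hf, rfl⟩
          exact ⟨f, ⟨emb_injective A hue ▸ hu, hf.2⟩, rfl⟩)] at h
    have htM : len Cc N = ((SM.card : ℕ) : ℕ∞) := by
      have h := len_tail A c hcond M c
      rwa [show (tail A M c).map (emb A) = Cc from le_antisymm
        (Submodule.map_mono fun f hf => ⟨trivial, hf.2⟩) (by
          rintro _ ⟨f, hf, rfl⟩
          obtain ⟨u, hu, hue⟩ := hCN ⟨f, hf, rfl⟩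
          exact ⟨f, ⟨emb_injective A hue ▸ hu, hf.2⟩, rfl⟩)] at h
    have htP : len Cc P = ((c : ℕ) : ℕ∞) := by
      have h := len_tail A c hcond ⊤ c
      rw [show ((Finset.range c).filter fun n : ℕ => ∃ f ∈ (⊤ : Submodule ↥A (PowerSeries k)), f.order = (n : ℕ∞)) =
        Finset.range c from Finset.filter_true_of_mem fun i _ => ⟨PowerSeries.X ^ i, trivial, PowerSeries.order_X_pow i⟩,
        Finset.card_range] at h
      exact h
    have h := len_add hCN hNP
    rw [← key, htM, htD, htP, ← Nat.cast_add, ENat.coe_inj] at h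
    omega
  have hTcard : T.card + SM.card = c := by
    have hbij : T.card = ((Finset.range c).filter fun n : ℕ => ¬ ∃ f ∈ M, f.order = (n : ℕ∞)).card := by
      refine Finset.card_bij (fun i _ => c - 1 - i) (fun i hi => ?_) (fun i hi j hj hij => ?_) fun i hi => ?_
      · obtain ⟨h1, h2⟩ := Finset.mem_filter.1 hi
        exact Finset.mem_filter.2 ⟨Finset.mem_range.2 (by omega), h2⟩
      · have h1 := Finset.mem_range.1 (Finset.mem_filter.1 hi).1
        have h2 := Finset.mem_range.1 (Finset.mem_filter.1 hj).1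
        omega
      · obtain ⟨h1, h2⟩ := Finset.mem_filter.1 hi
        have h1' := Finset.mem_range.1 h1
        refine ⟨c - 1 - i, Finset.mem_filter.2 ⟨Finset.mem_range.2 (by omega), ?_⟩, by omega⟩
        rwa [show c - 1 - (c - 1 - i) = i by omega]
    rw [hbij, add_comm, Finset.card_filter_add_card_filter_not, Finset.card_range]
  have hST : SD = T := Finset.eq_of_subset_of_card_le hsub (by omega)
  by_cases hn : c ≤ n
  · refine iff_of_true ⟨PowerSeries.X ^ n, PowerSeries.order_X_pow n, fun m hm => ?_⟩ (Or.inl hn)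
    have hmem : PowerSeries.X ^ n * m ∈ A := hcond _ (le_trans (by exact_mod_cast hn)
      (Groth.Agent.Branch.le_order_of_X_pow_dvd (Dvd.intro m rfl)))
    have := ω.smul_mem (⟨_, hmem⟩ : ↥A) hω1
    rwa [Subalgebra.smul_def, smul_eq_mul, mul_one] at this
  · have hnr : n ∈ Finset.range c := Finset.mem_range.2 (by omega)
    constructor
    · rintro ⟨u, hu, huM⟩
      have h : n ∈ T := hST ▸ Finset.mem_filter.2 ⟨hnr, u, huM, hu⟩
      exact Or.inr (Finset.mem_filter.1 h).2
    · rintro (h | h)
      · exact absurd h hn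
      · have h' : n ∈ SD := hST.symm ▸ Finset.mem_filter.2 ⟨hnr, h⟩
        obtain ⟨-, u, hu, huo⟩ := Finset.mem_filter.1 h'
        exact ⟨u, huo, hu⟩

end Groth.Agent.S19528
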