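import Groth.Statements.S15022
import Groth.Agent.S19528
-- import your own Groth.Agent.* helpers here

set_option autoImplicit false
universe u
open CategoryTheory
open TFCurv

set_option backward.isDefEq.respectTransparency.types false

namespace Groth.Agent.S15022
open Groth.Agent.CanDual17
set_option maxHeartbeats 800000

/-- Let k be an algebraically closed field and A ≠ k[[t]] a k-subalgebra of k[[t]] that is closed in the
t-adic topology and over which k[[t]] is a finite module (as for the complete local ring of a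
unibranch curve singularity inside its normalisation), and let Γ ⊆ ℕ be the set of t-orders of the
nonzero elements of A (its value semigroup); let c be the conductor of Γ (every n ≥ c lies in Γ, c −
1 does not) and suppose A is not Gorenstein. If w is an A-submodule of k[[t]] with 1 ∈ w whose
injective dimension as an A-module is at most one (a canonical ideal of A placed between A and
k[[t]]), then the value set of w is the dual of Γ: a natural number n is the t-order of some element
of w exactly when n ≥ c or c − 1 − n is a gap of Γ. (The published statement does not exclude the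
Gorenstein case; this row assumes that A is not Gorenstein.) -/
theorem result (k : Type u) [Field k] [IsAlgClosed k] (A : Subalgebra k (PowerSeries k)) (hA : Module.Finite ↥A (PowerSeries k)) (hcl : ∀ f : PowerSeries k, (∀ n : ℕ, ∃ g ∈ A, (n : ℕ∞) ≤ PowerSeries.order (f - g)) → f ∈ A) (hsing : A ≠ ⊤) (Γ : Set ℕ) (hΓ : ∀ n : ℕ, n ∈ Γ ↔ ∃ f ∈ A, PowerSeries.order f = n) (c : ℕ) (hc : ∀ n : ℕ, c ≤ n → n ∈ Γ) (hc0 : c ≠ 0) (hc1 : c - 1 ∉ Γ) (hG : ¬ LocCoh.IsGorensteinLocalRing ↥A) (ω : Submodule ↥A (PowerSeries k)) (hω1 : (1 : PowerSeries k) ∈ ω) (hωfg : ω.FG) (hωinj : HasInjectiveDimensionLT (ModuleCat.of ↥A ↥ω) 2) (n : ℕ) : (∃ f ∈ ω, PowerSeries.order f = n) ↔ (c ≤ n ∨ c - 1 - n ∉ Γ) := by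
  have h := Groth.Agent.S19528.result k A hA hcl hsing Γ hΓ c hc hc0 hc1 hG ω hω1 hωfg hωinj
    (Submodule.span ↥A {(1 : PowerSeries k)}) (Submodule.fg_span_singleton _) (Submodule.mem_span_singleton_self _) n
  have h1 : (∃ f ∈ ω, PowerSeries.order f = n) ↔
      ∃ u : PowerSeries k, PowerSeries.order u = n ∧ ∀ m ∈ Submodule.span ↥A {(1 : PowerSeries k)}, u * m ∈ ω := by
    constructor
    · rintro ⟨f, hf, hfo⟩
      refine ⟨f, hfo, fun m hm => ?_⟩
      obtain ⟨a, rfl⟩ := Submodule.mem_span_singleton.1 hm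
      rw [mul_smul_comm, mul_one]
      exact ω.smul_mem a hf
    · rintro ⟨u, hu, huM⟩
      exact ⟨u, by simpa using huM 1 (Submodule.mem_span_singleton_self _), hu⟩
  have h2 : (∃ m ∈ Submodule.span ↥A {(1 : PowerSeries k)}, PowerSeries.order m = ((c - 1 - n : ℕ) : ℕ∞)) ↔ c - 1 - n ∈ Γ := by
    rw [hΓ]
    constructor
    · rintro ⟨m, hm, hmo⟩
      obtain ⟨a, rfl⟩ := Submodule.mem_span_singleton.1 hm
      exact ⟨_, a.2, by simpa [Subalgebra.smul_def] using hmo⟩
    · rintro ⟨f, hf, hfo⟩
      refine ⟨f, Submodule.mem_span_singleton.2 ⟨⟨f, hf⟩, ?_⟩, hfo⟩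
      rw [Subalgebra.smul_def, smul_eq_mul, mul_one]
  rw [h1, h, h2]

end Groth.Agent.S15022
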