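import Groth.Statements.S15023
import Groth.Agent.Lib.Branch.Conductor
import Groth.Agent.Lib.NumSemigroup.Basic
import Mathlib.RingTheory.Localization.BaseChange
import Mathlib.LinearAlgebra.Dimension.FreeAndStrongRankCondition
-- import your own Groth.Agent.* helpers here

set_option autoImplicit false
universe u
open TFCurv

namespace Groth.Agent.S15023
open Groth.Agent

/-- Let k be an algebraically closed field and A ≠ k[[t]] a k-subalgebra of k[[t]] that is closed in the
t-adic topology, over which k[[t]] is a finite module, and such that every power series is carried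
into A by multiplication with some nonzero element of A (so k[[t]] lies in the fraction field of A
and is its normalisation, as for the complete local ring of a unibranch curve singularity), and let
Γ ⊆ ℕ be the set of t-orders of the nonzero elements of A (its value semigroup); assume moreover
that A is the monomial ring of Γ (a power series lies in A exactly when all its exponents lie in Γ),
and let δ be the number of gaps of Γ. Then every finitely generated torsion-free A-module of rank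
one is isomorphic to an A-submodule M' of k[[t]] with t^{2δ} k[[t]] ⊆ M' and dim_k(k[[t]]/M') = δ,
equivalently dim_k(M'/t^{2δ}k[[t]]) = δ: every isomorphism class of rank-one torsion-free modules is
represented by a δ-dimensional A-stable subspace of k[[t]]/t^{2δ}k[[t]]. -/
theorem result (k : Type u) [Field k] [IsAlgClosed k] (A : Subalgebra k (PowerSeries k)) (hA : Module.Finite ↥A (PowerSeries k)) (hcl : ∀ f : PowerSeries k, (∀ n : ℕ, ∃ g ∈ A, (n : ℕ∞) ≤ PowerSeries.order (f - g)) → f ∈ A) (hsing : A ≠ ⊤) (hbir : ∀ f : PowerSeries k, ∃ a ∈ A, a ≠ 0 ∧ a * f ∈ A) (Γ : Set ℕ) (hΓ : ∀ n : ℕ, n ∈ Γ ↔ ∃ f ∈ A, PowerSeries.order f = n) (hmono : ∀ f : PowerSeries k, f ∈ A ↔ ∀ n : ℕ, PowerSeries.coeff n f ≠ 0 → n ∈ Γ) (M : Type u) [AddCommGroup M] [Module ↥A M] [Module.Finite ↥A M] [NoZeroSMulDivisors ↥A M] (hrk : Module.finrank (FractionRing ↥A) (TensorProduct ↥A (FractionRing ↥A) M) = 1) : ∃ M' : Submodule ↥A (PowerSeries k), (Ideal.span {(PowerSeries.X : PowerSeries k) ^ (2 *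 Γᶜ.ncard)}).restrictScalars ↥A ≤ M' ∧ Nonempty (M ≃ₗ[↥A] ↥M') ∧ Module.finrank k (PowerSeries k ⧸ M'.restrictScalars k) = Γᶜ.ncard := by
  classical
  haveI := hA
  obtain ⟨N, hN⟩ := Branch.exists_conductor A hbir
  have hS : Branch.ordSet (Subalgebra.toSubmodule A) = Γ := Set.ext fun n => (hΓ n).symm
  set K := FractionRing ↥A
  -- an element `m₀` with `M` isomorphic to an ideal of `A`
  obtain ⟨x₀, hx₀⟩ : ∃ x : M, x ≠ 0 := by
    by_contra h
    push Not at h
    haveI : Subsingleton M := ⟨fun a b => by rw [h a, h b]⟩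
    haveI : Subsingleton (TensorProduct ↥A K M) := by
      refine ⟨fun a b => ?_⟩
      have hz : ∀ t : TensorProduct ↥A K M, t = 0 := fun t => by
        induction t with
        | zero => rfl
        | tmul p q => rw [h q, TensorProduct.tmul_zero]
        | add p q hp hq => rw [hp, hq, add_zero]
      rw [hz a, hz b]
    rw [Module.finrank_zero_of_subsingleton] at hrk
    exact zero_ne_one hrk
  let ι : M →ₗ[↥A] TensorProduct ↥A K M := TensorProduct.mk ↥A K M 1
  haveI hι : IsLocalizedModule (nonZeroDivisors ↥A) ι :=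
    (isLocalizedModule_iff_isBaseChange (nonZeroDivisors ↥A) K ι).2 (TensorProduct.isBaseChange ↥A M K)
  have hinj : Function.Injective ι := by
    intro p q hpq
    obtain ⟨s, hs⟩ := (IsLocalizedModule.eq_iff_exists (nonZeroDivisors ↥A) ι).1 hpq
    exact smul_right_injective M (nonZeroDivisors.ne_zero s.2) hs
  have hcomm : ∀ m : M, ∃ p : ↥A × ↥A, p.1 ≠ 0 ∧ p.1 • m = p.2 • x₀ := by
    intro m
    have hne : ι x₀ ≠ 0 := fun h => hx₀ (hinj (h.trans ι.map_zero.symm))
    obtain ⟨x, hx⟩ := (finrank_eq_one_iff_of_nonzero' (ι x₀) hne).1 hrk (ι m)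
    obtain ⟨q, r, hr, rfl⟩ := IsFractionRing.div_surjective (A := ↥A) x
    refine ⟨(r, q), nonZeroDivisors.ne_zero hr, hinj ?_⟩
    have hr0 : algebraMap ↥A K r ≠ 0 := IsFractionRing.to_map_ne_zero_of_mem_nonZeroDivisors hr
    rw [map_smul, map_smul, ← hx, ← algebraMap_smul K r, ← algebraMap_smul K q (ι x₀), smul_smul,
      mul_div_cancel₀ _ hr0]
  obtain ⟨s, hs⟩ := (Module.Finite.fg_top : (⊤ : Submodule ↥A M).FG)
  choose p hp0 hp using hcomm
  set a := ∏ m ∈ s, (p m).1 with ha
  have ha0 : a ≠ 0 := Finset.prod_ne_zero_iff.2 fun m _ => hp0 m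
  have hall : ∀ m : M, a • m ∈ Submodule.span ↥A {x₀} := by
    intro m
    have hm : m ∈ Submodule.span ↥A (s : Set M) := by rw [hs]; trivial
    induction hm using Submodule.span_induction with
    | mem g hg =>
      rw [ha, ← Finset.prod_erase_mul s _ hg, mul_smul, hp g, smul_smul]
      exact Submodule.smul_mem _ _ (Submodule.subset_span rfl)
    | zero => rw [smul_zero]; exact zero_mem _
    | add x y _ _ hx hy => rw [smul_add]; exact add_mem hx hy
    | smul r x _ hx => rw [smul_comm]; exact Submodule.smul_mem _ _ hx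
  let e : ↥A ≃ₗ[↥A] ↥(Submodule.span ↥A ({x₀} : Set M)) := LinearEquiv.toSpanNonzeroSingleton ↥A M x₀ hx₀
  let φ : M →ₗ[↥A] PowerSeries k :=
    (Algebra.linearMap ↥A (PowerSeries k)).comp
      (e.symm.toLinearMap.comp ((LinearMap.lsmul ↥A M a).codRestrict _ hall))
  have hφ : Function.Injective φ := by
    intro p q hpq
    simp only [φ, LinearMap.comp_apply, Algebra.linearMap_apply, LinearEquiv.coe_coe] at hpq
    have := congrArg Subtype.val (e.symm.injective (Subtype.val_injective hpq))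
    exact smul_right_injective M ha0 this
  -- divide by an element of least order
  obtain ⟨n₀, ⟨f₀, ⟨m₀, rfl⟩, hn₀⟩, hmin⟩ :
      ∃ n₀ : ℕ, (∃ f, f ∈ LinearMap.range φ ∧ f.order = (n₀ : ℕ∞)) ∧
        ∀ f ∈ LinearMap.range φ, (n₀ : ℕ∞) ≤ f.order := by
    have hex : ∃ n : ℕ, ∃ f, f ∈ LinearMap.range φ ∧ f.order = (n : ℕ∞) := by
      obtain ⟨n, hn⟩ := Branch.exists_order_eq (f := φ x₀) fun h => hx₀ (hφ (h.trans φ.map_zero.symm))
      exact ⟨n, _, ⟨x₀, rfl⟩, hn⟩
    refine ⟨Nat.find hex, Nat.find_spec hex, fun f hf => ?_⟩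
    rcases eq_or_ne f 0 with rfl | hf0
    · simp
    obtain ⟨n, hn⟩ := Branch.exists_order_eq hf0
    rw [hn]
    exact_mod_cast Nat.find_min' hex ⟨f, hf, hn⟩
  obtain ⟨u, hu⟩ := PowerSeries.isUnit_divided_by_X_pow_order (f := φ m₀) (fun h => by
    rw [h, PowerSeries.order_zero] at hn₀
    exact absurd hn₀.symm (by simp))
  have hφm₀ : φ m₀ = PowerSeries.X ^ n₀ * (u : PowerSeries k) := by
    rw [hu]
    have := PowerSeries.X_pow_order_mul_divXPowOrder (f := φ m₀)
    rw [hn₀, ENat.toNat_natCast] at this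
    exact this.symm
  let ψ : PowerSeries k →ₗ[↥A] PowerSeries k := LinearMap.mulLeft ↥A (φ m₀)
  have hψ : Function.Injective ψ := mul_right_injective₀ (by
    rw [hφm₀]; exact mul_ne_zero (pow_ne_zero _ PowerSeries.X_ne_zero) u.ne_zero)
  have hφψ : LinearMap.range φ ≤ LinearMap.range ψ := by
    intro f hf
    obtain ⟨w, hw⟩ := Branch.X_pow_dvd_of_le_order (hmin f hf)
    refine ⟨(u⁻¹ : (PowerSeries k)ˣ) * w, ?_⟩
    change φ m₀ * _ = f
    rw [hw, hφm₀, mul_assoc, Units.mul_inv_cancel_left]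
  -- the module with least order zero
  let M₁ : Submodule ↥A (PowerSeries k) := (LinearMap.range φ).comap ψ
  have hM₁ : M₁.map ψ = LinearMap.range φ := Submodule.map_comap_eq_self hφψ
  have e₁ : M ≃ₗ[↥A] ↥M₁ :=
    (LinearEquiv.ofInjective φ hφ).trans
      ((LinearEquiv.ofEq _ _ hM₁.symm).trans (Submodule.equivMapOfInjective ψ hψ M₁).symm)
  have h1 : (1 : PowerSeries k) ∈ M₁ := ⟨m₀, (mul_one _).symm⟩
  set V₁ : Submodule k (PowerSeries k) := M₁.restrictScalars k with hV₁
  have hAV : ∀ f ∈ A, f ∈ V₁ := by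
    intro f hf
    have := M₁.smul_mem (⟨f, hf⟩ : ↥A) h1
    rwa [Subalgebra.smul_def, smul_eq_mul, mul_one] at this
  have hN₁ : ∀ f : PowerSeries k, (N : ℕ∞) ≤ f.order → f ∈ V₁ := fun f hf => hAV f (hN f hf)
  set S₁ := Branch.ordSet V₁ with hS₁
  set d := S₁ᶜ.ncard with hd
  have hΓS : Γ ⊆ S₁ := by
    intro n hn
    obtain ⟨f, hf, hfn⟩ := (hΓ n).1 hn
    exact ⟨f, hAV f hf, hfn⟩
  have hΓfin : Γᶜ.Finite := hS ▸ Branch.finite_compl_ordSet hN
  have hdδ : d ≤ Γᶜ.ncard := Set.ncard_le_ncard (Set.compl_subset_compl.2 hΓS) hΓfin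
  -- the conductor of `M₁`
  have hexc : ∃ cS : ℕ, ∀ n, cS ≤ n → n ∈ S₁ := ⟨N, fun n hn => Branch.mem_ordSet_of_le hN₁ hn⟩
  set cS := Nat.find hexc with hcS
  have hcS0 : ∀ n, cS ≤ n → n ∈ S₁ := Nat.find_spec hexc
  have hcS1 : cS = 0 ∨ cS - 1 ∉ S₁ := by
    by_contra h
    push Not at h
    have := Nat.find_min hexc (show cS - 1 < cS by omega)
    exact this fun n hn => by
      rcases eq_or_lt_of_le hn with rfl | h'
      · exact h.2
      · exact hcS0 n (by omega)
  have hsemi : ∀ γ ∈ Γ, ∀ n ∈ S₁, γ + n ∈ S₁ := by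
    rintro γ hγ n ⟨g, hg, hgn⟩
    obtain ⟨f, hf, hfγ⟩ := (hΓ γ).1 hγ
    refine ⟨f * g, ?_, by rw [PowerSeries.order_mul, hfγ, hgn, Nat.cast_add]⟩
    have := M₁.smul_mem (⟨f, hf⟩ : ↥A) (show g ∈ M₁ from hg)
    rwa [Subalgebra.smul_def, smul_eq_mul] at this
  have hbound : cS ≤ Γᶜ.ncard + d := by
    have h₁ : Nat.count (fun m => m ∈ S₁) cS ≤ Γᶜ.ncard := by
      rw [← NumSemigroup.ncard_inter_Iio]
      rcases hcS1 with h0 | hcS1
      · rw [h0]; simp
      refine Set.ncard_le_ncard_of_injOn (fun s => cS - 1 - s) ?_ ?_ hΓfin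
      · rintro s ⟨hs, hsc⟩ hmem
        have := hsemi _ hmem s hs
        rw [Set.mem_Iio] at hsc
        rw [show cS - 1 - s + s = cS - 1 by omega] at this
        exact hcS1 this
      · rintro s ⟨-, hs⟩ t ⟨-, ht⟩ h
        rw [Set.mem_Iio] at hs ht
        simp only at h
        omega
    have := NumSemigroup.count_add_ncard_compl hcS0
    omega
  -- shift
  set j := Γᶜ.ncard - d with hj
  let T : PowerSeries k →ₗ[↥A] PowerSeries k :=
    LinearMap.mulLeft ↥A (PowerSeries.X ^ j : PowerSeries k)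
  have hT : Function.Injective T := mul_right_injective₀ (pow_ne_zero _ PowerSeries.X_ne_zero)
  refine ⟨M₁.map T, ?_, ⟨e₁.trans (Submodule.equivMapOfInjective T hT M₁)⟩, ?_⟩
  · intro f hf
    rw [Submodule.restrictScalars_mem, Ideal.mem_span_singleton] at hf
    obtain ⟨w, rfl⟩ := hf
    refine ⟨PowerSeries.X ^ (2 * Γᶜ.ncard - j) * w, ?_, ?_⟩
    · refine Branch.mem_of_le_order hN₁ hcS0 ?_
      rw [PowerSeries.order_mul, PowerSeries.order_X_pow]
      exact le_add_right (by exact_mod_cast (show cS ≤ 2 * Γᶜ.ncard - j by omega))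
    · simp only [T, LinearMap.mulLeft_apply]
      rw [← mul_assoc, ← pow_add, show j + (2 * Γᶜ.ncard - j) = 2 * Γᶜ.ncard by omega]
  · set V₂ := (M₁.map T).restrictScalars k with hV₂
    have hN₂ : ∀ f : PowerSeries k, ((j + N : ℕ) : ℕ∞) ≤ f.order → f ∈ V₂ := by
      intro f hf
      obtain ⟨w, rfl⟩ := Branch.X_pow_dvd_of_le_order hf
      refine ⟨PowerSeries.X ^ N * w, hN₁ _ (Branch.le_order_of_X_pow_dvd (Dvd.intro w rfl)), ?_⟩
      simp only [T, LinearMap.mulLeft_apply]
      rw [pow_add, mul_assoc]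
    rw [Branch.finrank_quotient hN₂]
    have hset : (Branch.ordSet V₂)ᶜ = Set.Iio j ∪ (fun n => j + n) '' S₁ᶜ := by
      ext n
      constructor
      · intro hn
        rcases lt_or_ge n j with h | h
        · exact Or.inl h
        · refine Or.inr ⟨n - j, fun hmem => hn ?_, by simp only; omega⟩
          obtain ⟨g, hg, hgo⟩ := hmem
          refine ⟨PowerSeries.X ^ j * g, ⟨g, hg, rfl⟩, ?_⟩
          rw [PowerSeries.order_mul, PowerSeries.order_X_pow, hgo, ← Nat.cast_add,
            show j + (n - j) = n by omega]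
      · rintro h ⟨f, ⟨g, hg, rfl⟩, hf⟩
        change (PowerSeries.X ^ j * g).order = _ at hf
        rw [PowerSeries.order_mul, PowerSeries.order_X_pow] at hf
        rcases eq_or_ne g 0 with rfl | hg0
        · rw [PowerSeries.order_zero, add_top] at hf
          exact absurd hf (by simp)
        obtain ⟨i, hi⟩ := Branch.exists_order_eq hg0
        rw [hi, ← Nat.cast_add, Nat.cast_inj] at hf
        rcases h with h | ⟨i', hi', h⟩
        · rw [Set.mem_Iio] at h; omega
        · simp only at h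
          exact hi' ⟨g, hg, by rw [hi]; congr 1; omega⟩
    rw [hset, Set.ncard_union_eq ?_ (Set.finite_Iio j) ((Branch.finite_compl_ordSet hN₁).image _),
      Set.ncard_image_of_injective _ (add_right_injective j), ← Finset.coe_Iio, Set.ncard_coe_finset,
      Nat.card_Iio, ← hd]
    · omega
    · rw [Set.disjoint_left]
      rintro x hx ⟨i, -, rfl⟩
      rw [Set.mem_Iio] at hx
      simp only at hx
      omega

end Groth.Agent.S15023
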