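import Groth.Statements.S15025
import Groth.Agent.Lib.TorOne17.Basic
import Mathlib.RingTheory.KrullDimension.Field

set_option autoImplicit false
universe u
open CategoryTheory
open TFCurv

namespace Groth.Agent.S15025

/-- Let O be a one-dimensional Noetherian local domain with algebraically closed residue field whose
integral closure O~ in its fraction field K is a finite O-module, M a finitely generated
torsion-free O-module and g : M → O^n an injective O-linear map whose cokernel T' has finite length.
Then the torsion submodule of O~ ⊗_O M is O-linearly isomorphic to Tor_1^O(O~, T') (existence of an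
isomorphism only). -/
theorem result (O : Type u) [CommRing O] [IsDomain O] [IsNoetherianRing O] [IsLocalRing O] (hdim : ringKrullDim O = 1) [IsAlgClosed (IsLocalRing.ResidueField O)] (K : Type u) [Field K] [Algebra O K] [IsFractionRing O K] (hfin : Module.Finite O ↥(integralClosure O K)) (M : Type u) [AddCommGroup M] [Module O M] [Module.Finite O M] [NoZeroSMulDivisors O M] (n : ℕ) (g : M →ₗ[O] (Fin n → O)) (hg : Function.Injective g) (hT : IsFiniteLength O ((Fin n → O) ⧸ LinearMap.range g)) : Nonempty (↥(Submodule.torsion O (TensorProduct O ↥(integralClosure O K) M)) ≃ₗ[O] ↑(((Tor (ModuleCat.{u} O) 1).obj (ModuleCat.of O ↥(integralClosure O K))).obj (ModuleCat.of O ((Fin n → O) ⧸ LinearMap.range g)))) := by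
  have hnf : ¬ IsField O := fun h => by rw [ringKrullDim_eq_zero_of_isField h] at hdim; exact zero_ne_one hdim
  obtain ⟨a, ha0, hkill⟩ := TorOne17.exists_smul_eq_zero_of_isFiniteLength O hnf hT
  obtain ⟨h, -, hh⟩ := TorOne17.exists_quasi_inverse O g hg (a := a) fun x => by
    rw [← Submodule.Quotient.mk_eq_zero, Submodule.Quotient.mk_smul]
    exact hkill _
  obtain ⟨e⟩ := TorOne17.nonempty_tor_one_equiv ↥(integralClosure O K) (LinearMap.range g).mkQ
    (Submodule.mkQ_surjective _)
  let eM : M ≃ₗ[O] LinearMap.ker (LinearMap.range g).mkQ :=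
    (LinearEquiv.ofInjective g hg).trans (LinearEquiv.ofEq _ _ (Submodule.ker_mkQ _).symm)
  let eT := LinearEquiv.lTensor ↥(integralClosure O K) eM
  have hcomp : (LinearMap.ker (LinearMap.range g).mkQ).subtype.comp eM.toLinearMap = g := LinearMap.ext fun _ => rfl
  have key : ∀ z, z ∈ Submodule.torsion O (TensorProduct O ↥(integralClosure O K) M) ↔
      (LinearMap.ker (LinearMap.range g).mkQ).subtype.lTensor ↥(integralClosure O K) (eT z) = 0 := by
    intro z
    rw [show (LinearMap.ker (LinearMap.range g).mkQ).subtype.lTensor ↥(integralClosure O K) (eT z) =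
      g.lTensor ↥(integralClosure O K) z from
      (LinearMap.congr_fun (LinearMap.lTensor_comp _ _ eM.toLinearMap) z).symm.trans (by rw [hcomp]),
      Submodule.mem_torsion_iff]
    constructor
    · rintro ⟨⟨b, hb⟩, hbz⟩
      refine TorOne17.smul_ne_zero_tensor_free O _ n (nonZeroDivisors.ne_zero hb) _ ?_
      rw [← map_smul]
      exact (congrArg _ hbz).trans (map_zero _)
    · intro hz
      refine ⟨⟨a, mem_nonZeroDivisors_of_ne_zero ha0⟩, ?_⟩
      have := LinearMap.congr_fun (congrArg (LinearMap.lTensor ↥(integralClosure O K)) hh) z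
      rw [LinearMap.lTensor_comp, LinearMap.comp_apply, hz, map_zero, LinearMap.lTensor_smul, LinearMap.lTensor_id] at this
      exact this.symm
  refine ⟨(LinearEquiv.ofSubmodules eT _ _ ?_).trans e.symm⟩
  ext y
  obtain ⟨z, rfl⟩ := eT.surjective y
  rw [Submodule.mem_map_equiv, LinearEquiv.symm_apply_apply, key]
  exact Iff.rfl

end Groth.Agent.S15025
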