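import Groth.Statements.S15026
import Groth.Agent.Lib.Curve17.PicSurj
import Groth.Agent.Lib.PushStab17.Norm

set_option autoImplicit false
universe u
open CategoryTheory CategoryTheory.Limits AlgebraicGeometry
open TFCurv

namespace Groth.Agent.S15026

/-- Let X be an integral proper curve (integral, proper, of dimension one) over an algebraically closed
field k, with normalisation ν : X~ → X. Then every invertible module N on X~ is isomorphic to ν^*L
for some invertible module L on X: the pullback map Pic(X) → Pic(X~) is surjective. (The published
statement is the short exact sequence 0 → ⊕_x O~_x^×/O_x^× → Pic(X) → Pic(X~) → 0; only its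
surjectivity is stated here.) -/
theorem result (k : Type u) [Field k] [IsAlgClosed k] (X : Scheme.{u}) [X.Over (Spec (CommRingCat.of k))] [IsIntegral X] [IsProper (X ↘ Spec (CommRingCat.of k))] (hdim : topologicalKrullDim X = 1) [QuasiCompact (X.fromSpecStalk (genericPoint X))] [QuasiSeparated (X.fromSpecStalk (genericPoint X))] (N : (Curv2.normalization X).Modules) (hN : PicF.IsInvertible N) : ∃ L : X.Modules, PicF.IsInvertible L ∧ Nonempty ((Scheme.Modules.pullback (Curv2.normalizationι X)).obj L ≅ N) := by
  haveI : IsNoetherian X := (Groth.Agent.VB17.curveLike (k := k) (X := X) hdim).noetherian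
  obtain ⟨hfin, -, ⟨U, hU, hiso⟩, -⟩ := Groth.Agent.PushStab17.normalization_data k X hdim
  haveI := hfin
  haveI := hiso
  exact Groth.Agent.Curve17.exists_invertible_pullback_iso hdim.le _ U hU N hN

end Groth.Agent.S15026
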