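import Groth.Statements.S15027
import Groth.Agent.Lib.Curve17.ModifCurve
import Groth.Agent.Lib.TensorNat17.Basic
import Groth.Agent.Lib.VB17.Line

set_option autoImplicit false
universe u
open CategoryTheory CategoryTheory.Limits AlgebraicGeometry
open TFCurv

open Groth.Agent.M1 Groth.Agent.M2 Groth.Agent.P1Split Groth.Agent.CurveCoh17 Groth.Agent.Curve17 TensorProduct

set_option backward.isDefEq.respectTransparency.types false

namespace Groth.Agent.S15027

theorem subsingleton_stalk_cokernel {X : Scheme.{u}} {A B : X.Modules} (f : A ⟶ B) (x : X)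
    (h : Function.Surjective (stalkLin f x)) : Subsingleton ((cokernel f).presheaf.stalk x) := by
  refine ⟨fun a b => ?_⟩
  have hz : ∀ c : (cokernel f).presheaf.stalk x, c = 0 := fun c => by
    obtain ⟨b', rfl⟩ := (M1.epi_iff_stalk (cokernel.π f)).1 inferInstance x c
    obtain ⟨a', rfl⟩ := h b'
    rw [stalkLin_apply, ← M1.stalk_comp_apply, cokernel.condition, Functor.map_zero]
    rfl
  rw [hz a, hz b]


/-- Let X be an integral proper curve (integral, proper, of dimension one) over an algebraically closed
field k, and let F be a coherent torsion-free O_X-module of rank n (its stalk at the generic point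
has dimension n over the function field). Then there are finite locally free modules E, E' of rank
n, a monomorphism E → F and a monomorphism F → E', whose cokernels have zero stalk at every point of
X with regular local ring (they are torsion modules supported at the singular points). (The
published statement identifies the two cokernels with sums of the local torsion modules of minimal
length attached to the stalks at the singular points; this row asserts only that the cokernels are
supported at the singular points.) -/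
theorem result (k : Type u) [Field k] [IsAlgClosed k] (X : Scheme.{u}) [X.Over (Spec (CommRingCat.of k))] [IsIntegral X] [IsProper (X ↘ Spec (CommRingCat.of k))] (hdim : topologicalKrullDim X = 1) (F : X.Modules) (hFc : Coh.IsCoh F) (hFt : TorSh.IsTorsionFree F) (n : ℕ) (hn : Module.finrank (X.presheaf.stalk (genericPoint X)) (F.presheaf.stalk (genericPoint X)) = n) : (∃ (E : X.Modules) (i : E ⟶ F), FlatMod.IsFinLocFreeOfRank n E ∧ Mono i ∧ ∀ x : X, IsRegularLocalRing (X.presheaf.stalk x) → Subsingleton ((cokernel i).presheaf.stalk x)) ∧ (∃ (E' : X.Modules) (j : F ⟶ E'), FlatMod.IsFinLocFreeOfRank n E' ∧ Mono j ∧ ∀ x : X, IsRegularLocalRing (X.presheaf.stalk x) → Subsingleton ((cokernel j).presheaf.stalk x)) := by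
  classical
  haveI : IsNoetherian X := (VB17.curveLike (k := k) (X := X) hdim).noetherian
  let η := genericPoint X
  haveI hfin : ∀ x : X, Module.Finite (X.presheaf.stalk x) (F.presheaf.stalk x) := fun x =>
    M1.finite_stalk hFc.1 hFc.2 x
  haveI := hFt
  haveI htf : ∀ x : X, Module.IsTorsionFree (X.presheaf.stalk x) (F.presheaf.stalk x) := hFt
  have hFP := M1.isFP_of_isCoh hFc
  obtain ⟨W, hηW, hWreg⟩ := exists_regular_open (X := X) k
  haveI hfree : ∀ x : X, IsRegularLocalRing (X.presheaf.stalk x) →
      Module.Free (X.presheaf.stalk x) (F.presheaf.stalk x) := free_stalk_of_regular hdim.le hFc hFt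
  haveI := hfree η (hWreg η hηW)
  obtain ⟨DF, eF, hηDF, heF⟩ := exists_isBas_of_free_stalk hFP hn η
  let D₀ := DF ⊓ W
  let e₀ := fun i => mres F (inf_le_left : D₀ ≤ DF) (eF i)
  have he₀ : IsBas F D₀ e₀ := heF.mres _
  have hη₀ : η ∈ D₀ := ⟨hηDF, hηW⟩
  choose v t hvi ht htv hvη using fun x : X => Curve17.exists_lattice hFc.1 x (DetDeg13.isBas_bij he₀ hη₀)
  let C : ∀ x : X, Submodule (X.presheaf.stalk x) (F.presheaf.stalk x) := fun x =>
    if IsRegularLocalRing (X.presheaf.stalk x) then ⊤ else LinearMap.range (Fintype.linearCombination (X.presheaf.stalk x) (v x))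
  have hCreg : ∀ x, IsRegularLocalRing (X.presheaf.stalk x) → C x = ⊤ := fun x hx => if_pos hx
  have hCsing : ∀ x, ¬ IsRegularLocalRing (X.presheaf.stalk x) →
      C x = LinearMap.range (Fintype.linearCombination (X.presheaf.stalk x) (v x)) := fun x hx => if_neg hx
  obtain ⟨hG, hGr⟩ := isFinLocFreeOfRank_subMod (C := C) hdim.le he₀ hη₀ (fun x hx => hCreg x (hWreg x hx.2))
    fun x hx => by
      by_cases hr : IsRegularLocalRing (X.presheaf.stalk x)
      · haveI := hfree x hr
        obtain ⟨D, e, hxD, he⟩ := exists_isBas_of_free_stalk hFP hn x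
        have hb := DetDeg13.isBas_bij he hxD
        refine ⟨fun i => F.presheaf.germ D x hxD (e i), hb.1, ?_, ?_⟩
        · rw [hCreg x hr]; exact (LinearMap.range_eq_top.2 hb.2).symm
        · have : (fun i => spF F (genericPoint_specializes x) (F.presheaf.germ D x hxD (e i))) =
              fun i => (F.presheaf.germ D η ((genericPoint_specializes x).mem_open D.2 hxD) (e i) :
                F.presheaf.stalk η) := funext fun i => spF_germ F _ _ _ _
          rw [this]
          exact DetDeg13.isBas_bij he _
      · exact ⟨v x, hvi x, hCsing x hr, hvη x⟩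
  refine ⟨⟨_, subι F C, hG, inferInstance, fun x hx => subsingleton_stalk_cokernel _ x fun a =>
    hGr x (by rw [hCreg x hx]; trivial)⟩, ?_⟩
  -- the ideal of denominators
  let O := Coh.structureModule X
  let C' : ∀ x : X, Submodule (X.presheaf.stalk x) (O.presheaf.stalk x) := fun x =>
    if IsRegularLocalRing (X.presheaf.stalk x) then ⊤ else Submodule.span (X.presheaf.stalk x) {RH26.str x (t x)}
  have hC'reg : ∀ x, IsRegularLocalRing (X.presheaf.stalk x) → C' x = ⊤ := fun x hx => if_pos hx
  have hC'sing : ∀ x, ¬ IsRegularLocalRing (X.presheaf.stalk x) →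
      C' x = Submodule.span (X.presheaf.stalk x) {RH26.str x (t x)} := fun x hx => if_neg hx
  have hO1 : FlatMod.IsFinLocFreeOfRank 1 O :=
    (isInvertible_iff_isFinLocFreeOfRank_one _).1 (PicLoc.isInvertible_structureModule X)
  obtain ⟨DO, eO, hηDO, heO⟩ := P1Split.exists_isBas_nhd hO1 η
  have hspan : ∀ (R M : Type u) [CommRing R] [AddCommGroup M] [Module R M] (m : M),
      LinearMap.range (Fintype.linearCombination R (fun _ : Fin 1 => m)) = Submodule.span R {m} := fun R M _ _ _ m => by
    rw [Fintype.range_linearCombination, Set.range_const]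
  have hbij : ∀ (R : Type u) [CommRing R] (M : Type u) [AddCommGroup M] [Module R M] (e : R ≃ₗ[R] M) (r : R),
      IsUnit r → Function.Bijective (Fintype.linearCombination R (fun _ : Fin 1 => e r)) := fun R _ M _ _ e r hr => by
    have : (fun c => Fintype.linearCombination R (fun _ : Fin 1 => e r) c) = fun c => e (c 0 * r) := funext fun c => by
      rw [Fintype.linearCombination_apply, Fin.sum_univ_one, ← map_smul, smul_eq_mul]
    show Function.Bijective fun c => Fintype.linearCombination R (fun _ : Fin 1 => e r) c
    rw [this]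
    refine e.bijective.comp ⟨fun c d h => funext fun i => ?_, fun a => ⟨fun _ => a * ↑hr.unit⁻¹, ?_⟩⟩
    · rw [Fin.fin_one_eq_zero i]; exact hr.mul_left_inj.1 h
    · show a * ↑hr.unit⁻¹ * r = a
      rw [mul_assoc, IsUnit.val_inv_mul, mul_one]
  obtain ⟨hL, hLr⟩ := isFinLocFreeOfRank_subMod (C := C') hdim.le (heO.mres (inf_le_left : DO ⊓ W ≤ DO))
    ⟨hηDO, hηW⟩ (fun x hx => hC'reg x (hWreg x hx.2)) fun x hx => by
      have hsp : ∀ r, spF O (genericPoint_specializes x) (RH26.str x r) =
          RH26.str η (spO (genericPoint_specializes x) r) := fun r => by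
        obtain ⟨U, hU, r₀, rfl⟩ := X.presheaf.exists_germ_eq r
        rw [RH26.str_one_germ, spF_germ, spO_germ, RH26.str_one_germ]
      by_cases hr : IsRegularLocalRing (X.presheaf.stalk x)
      · refine ⟨fun _ => RH26.str x 1, (hbij _ _ (RH26.str x) 1 isUnit_one).1, ?_, ?_⟩
        · rw [hC'reg x hr]
          exact (LinearMap.range_eq_top.2 (hbij _ _ (RH26.str x) 1 isUnit_one).2).symm
        · rw [funext fun _ : Fin 1 => hsp 1, map_one]
          exact hbij _ _ (RH26.str η) 1 isUnit_one
      · refine ⟨fun _ => RH26.str x (t x), fun c d h => funext fun i => ?_, (hC'sing x hr).trans (hspan _ _ _).symm, ?_⟩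
        · rw [Fintype.linearCombination_apply, Fintype.linearCombination_apply, Fin.sum_univ_one, Fin.sum_univ_one,
            ← map_smul, ← map_smul] at h
          rw [Fin.fin_one_eq_zero i]
          exact mul_right_cancel₀ (ht x) ((RH26.str x).injective h)
        · rw [funext fun _ : Fin 1 => hsp (t x)]
          exact hbij _ _ (RH26.str η) _ (RH26.sp_ne_zero (ht x))
  have hLi : PicF.IsInvertible (subMod O C') := (isInvertible_iff_isFinLocFreeOfRank_one _).2 hL
  let φ := mulHom (subι O C') F
  have hφmem : ∀ (x : X) a, stalkLin φ x a ∈ C x := fun x a => by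
    obtain ⟨r, -, hrC, -, hall⟩ := exists_mulHom_stalk hLi (subι O C') F x
    obtain ⟨f, hf, -⟩ := hall a
    rw [hf]
    by_cases hr : IsRegularLocalRing (X.presheaf.stalk x)
    · rw [hCreg x hr]; trivial
    · have hr' : RH26.str x r ∈ C' x := range_stL_subι_le x hrC
      rw [hC'sing x hr, Submodule.mem_span_singleton] at hr'
      obtain ⟨c, hc⟩ := hr'
      rw [← map_smul] at hc
      rw [← (RH26.str x).injective hc, smul_assoc, hCsing x hr]
      exact Submodule.smul_mem _ c (htv x f)
  haveI : Mono φ := (M1.mono_iff_stalk φ).2 fun x => by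
    obtain ⟨r, hr0, -, -, hall⟩ := exists_mulHom_stalk hLi (subι O C') F x
    refine (injective_iff_map_eq_zero (stalkLin φ x)).2 fun a ha => ?_
    obtain ⟨f, hf, h0⟩ := hall a
    rw [ha] at hf
    exact h0 ((smul_eq_zero.1 hf.symm).resolve_left hr0)
  obtain ⟨c, hc⟩ := M1.Sub.exists_lift φ ⟨_, subι F C, inferInstance⟩ fun T m =>
    (exists_preimage_iff F C _).2 fun x hx => by
      have := hφmem x ((CohB1.tensorMod (subMod O C') F).presheaf.germ T x hx m)
      rwa [stalkLin_apply, germ_naturality] at this
  have hc' : c ≫ subι F C = φ := hc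
  haveI : Mono (c ≫ subι F C) := hc'.symm ▸ inferInstance
  haveI : Mono c := mono_of_mono c (subι F C)
  have hcs : ∀ x, IsRegularLocalRing (X.presheaf.stalk x) → Function.Surjective (stalkLin c x) := fun x hx g => by
    obtain ⟨l, hl⟩ := hLr x (show RH26.str x 1 ∈ C' x by rw [hC'reg x hx]; trivial)
    refine ⟨(stalkEquiv _ F x).symm (l ⊗ₜ stalkLin (subι F C) x g), ?_⟩
    apply (M1.mono_iff_stalk (subι F C)).1 inferInstance x
    rw [stalkLin_apply, ← M1.stalk_comp_apply]
    refine (congrArg (fun h => (stalkAb x).map h _) hc').trans ?_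
    refine (stalkLin_mulHom (subι O C') F x l (stalkLin (subι F C) x g)).trans ?_
    rw [show stalkLin (subι O C') x l = RH26.str x 1 from hl, LinearEquiv.symm_apply_apply, one_smul]
    rfl
  obtain ⟨D, hD, ⟨e⟩⟩ := exists_inverse hLi
  have hD1 := (isInvertible_iff_isFinLocFreeOfRank_one D).1 hD
  let c' := (tensorComm F (subMod O C')).hom ≫ c
  haveI : Mono (tensorMap c' (𝟙 D)) := VB17.mono_tensorMap c' hD
  refine ⟨CohB1.tensorMod (subMod F C) D, (untwist e F).inv ≫ tensorMap c' (𝟙 D),
    by simpa using isFinLocFreeOfRank_tensor hG hD1, mono_comp _ _,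
    fun x hx => subsingleton_stalk_cokernel _ x fun z => ?_⟩
  have hc's : Function.Surjective (stalkLin c' x) := fun g => by
    obtain ⟨a, rfl⟩ := hcs x hx g
    obtain ⟨b, rfl⟩ := (M1.epi_iff_stalk (tensorComm F (subMod O C')).hom).1 inferInstance x a
    exact ⟨b, M1.stalk_comp_apply _ _ x b⟩
  obtain ⟨w, hw⟩ := LinearMap.rTensor_surjective (D.presheaf.stalk x) hc's (stalkEquiv _ D x z)
  obtain ⟨b, hb⟩ := (M1.epi_iff_stalk (untwist e F).inv).1 inferInstance x ((stalkEquiv _ D x).symm w)
  refine ⟨b, (M1.stalk_comp_apply _ _ x b).trans ((congrArg (stalkLin (tensorMap c' (𝟙 D)) x) hb).trans ?_)⟩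
  apply (stalkEquiv _ D x).injective
  rw [stalkEquiv_natural, LinearEquiv.apply_symm_apply, hw]

end Groth.Agent.S15027
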