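import Groth.Statements.S15028
import Groth.Agent.Lib.VB17.Proper

set_option autoImplicit false
universe u
open CategoryTheory CategoryTheory.Limits AlgebraicGeometry
open TFCurv

namespace Groth.Agent.S15028

open CategoryTheory CategoryTheory.Limits AlgebraicGeometry Groth.Agent.VB17 Groth.Agent.CurveCoh17

/-- Let X be an integral proper curve (integral, proper, of dimension one) over an algebraically closed
field k, and let f : E → F be a monomorphism of coherent torsion-free O_X-modules which is
generically an isomorphism (the stalk of its cokernel at the generic point vanishes), with E of rank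
n at the generic point. Then deg E ≤ deg F, degrees being taken as modules of rank n (Euler
characteristic minus n times that of O_X), and equality holds if and only if f is an isomorphism.
(The published statement covers in the same words bundles with parabolic structure and a weight α <
1; only the case without parabolic structure is stated here.) -/
theorem result (k : Type u) [Field k] [IsAlgClosed k] (X : Scheme.{u}) [X.Over (Spec (CommRingCat.of k))] [IsIntegral X] [IsProper (X ↘ Spec (CommRingCat.of k))] (hdim : topologicalKrullDim X = 1) (E F : X.Modules) (hEc : Coh.IsCoh E) (hFc : Coh.IsCoh F) (hEt : TorSh.IsTorsionFree E) (hFt : TorSh.IsTorsionFree F) (n : ℕ) (hn : Module.finrank (X.presheaf.stalk (genericPoint X)) (E.presheaf.stalk (genericPoint X)) = n) (f : E ⟶ F) [Mono f] (hgen : Subsingleton ((cokernel f).presheaf.stalk (genericPoint X))) : Curv2.deg k X E n ≤ Curv2.deg k X F n ∧ (Curv2.deg k X E n = Curv2.deg k X F n ↔ IsIso f) := by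
  have hX := curveLike (k := k) hdim
  haveI := hX.noetherian
  have hinj := (Groth.Agent.M1.mono_iff_stalk f).1 inferInstance
  obtain ⟨S, hS⟩ := exists_suppIn_of_maximal hX.dim (Groth.Agent.M1.isCoh_cokernel hEc.1 hFc f)
    fun g hg => eq_genericPoint_of_maximal hg ▸ fun a => Subsingleton.elim a 0
  have hK0 : ∀ x, ∀ a : (kernel f).presheaf.stalk x, a = 0 := fun x => eq_zero_stalk_kernel f x (hinj x)
  have hK : SuppIn (kernel f) S := ⟨hS.closed, fun x _ => hK0 x⟩
  obtain ⟨hk, hc, he⟩ := euler_sub f (hX.adm hEc) (hX.adm hFc) hK hS
  haveI := finrank_h0_of_empty (suppIn_empty_of_isZero hK0)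
  rw [Module.finrank_zero_of_subsingleton (M := Coh.HH X (kernel f) 0)] at he
  refine ⟨by rw [Curv2.deg, Curv2.deg]; omega, fun heq => ?_, fun h => ?_⟩
  · haveI := hc
    have hc0 : Module.finrank k (Coh.HH X (cokernel f) 0) = 0 := by
      rw [Curv2.deg, Curv2.deg] at heq; omega
    haveI : Subsingleton (Coh.HH X (cokernel f) 0) := Module.finrank_zero_iff.1 hc0
    haveI : Subsingleton Γ(cokernel f, (⊤ : X.Opens)) := (hh0 (cokernel f)).symm.injective.subsingleton
    haveI : Epi f := Preadditive.epi_of_cokernel_zero ((isZero_of_stalk fun x a => by
      by_cases hxS : x ∈ S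
      · classical
        obtain ⟨s, hs⟩ := hS.exists_section ⊤ fun y => if h : y = x then h ▸ a else 0
        have h1 := hs x hxS (TopologicalSpace.Opens.mem_top x)
        rw [dif_pos rfl] at h1
        exact h1.symm.trans (by rw [Subsingleton.elim s 0, map_zero])
      · exact hS.zero x hxS a).eq_of_tgt _ _)
    exact isIso_of_mono_of_epi f
  · rw [Curv2.deg, Curv2.deg, euler_iso (asIso f)]

end Groth.Agent.S15028
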