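import Groth.Statements.S15029
import Groth.Agent.Lib.NumSemigroup.Basic
-- import your own Groth.Agent.* helpers here

set_option autoImplicit false
open TFCurv

namespace Groth.Agent.S15029
open Groth.Agent

/-- Let Γ be a numerical semigroup (a submonoid of (ℕ, +) with finite complement), Γ ≠ ℕ, with conductor
c (every n ≥ c lies in Γ, c − 1 does not), and let S ⊆ ℕ be a Γ-module in normal form (0 ∈ S and γ +
s ∈ S for γ ∈ Γ, s ∈ S). If S ≠ ℕ then some gap n of S can be added (n + γ ∈ S for every nonzero γ ∈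
Γ, so S ∪ {n} is a Γ-module), and if S ≠ Γ then some s ∈ S outside Γ can be removed (s − γ ∉ S for
every nonzero γ ∈ Γ with γ ≤ s, so S ∖ {s} is a Γ-module containing Γ); iterating, S is joined to ℕ
and to Γ by chains in the diagram of Γ-modules, which is therefore connected. -/
theorem result (Γ : AddSubmonoid ℕ) (c : ℕ) (hc : ∀ n : ℕ, c ≤ n → n ∈ Γ) (hc0 : c ≠ 0) (hc1 : c - 1 ∉ Γ) (S : Set ℕ) (hS0 : (0 : ℕ) ∈ S) (hS : ∀ γ : ℕ, γ ∈ Γ → ∀ s : ℕ, s ∈ S → γ + s ∈ S) : (S ≠ Set.univ → ∃ n : ℕ, n ∉ S ∧ ∀ γ : ℕ, γ ∈ Γ → γ ≠ 0 → n + γ ∈ S) ∧ ((↑Γ : Set ℕ) ≠ S → ∃ s : ℕ, s ∈ S ∧ s ∉ Γ ∧ ∀ γ : ℕ, γ ∈ Γ → γ ≠ 0 → γ ≤ s → s - γ ∉ S) := by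
  classical
  have hsub : ∀ γ, γ ∈ Γ → γ ∈ S := fun γ hγ => by simpa using hS γ hγ 0 hS0
  constructor
  · intro hne
    obtain ⟨m, hm⟩ := (Set.ne_univ_iff_exists_notMem S).1 hne
    let T := (Finset.range c).filter fun y => y ∉ S
    have hb : ∀ y, y ∉ S → y < c := fun y hy => not_le.1 fun h => hy (hsub _ (hc y h))
    have hT : T.Nonempty := ⟨m, by simp [T, hm, hb m hm]⟩
    refine ⟨T.max' hT, (Finset.mem_filter.1 (T.max'_mem hT)).2, fun γ hγ hγ0 => ?_⟩
    by_contra hcon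
    have := T.le_max' (T.max' hT + γ) (Finset.mem_filter.2 ⟨Finset.mem_range.2 (hb _ hcon), hcon⟩)
    omega
  · intro hne
    have hex : ∃ s, s ∈ S ∧ s ∉ Γ := by
      by_contra h
      push Not at h
      exact hne (Set.ext fun x => ⟨hsub x, h x⟩)
    refine ⟨Nat.find hex, (Nat.find_spec hex).1, (Nat.find_spec hex).2, fun γ hγ hγ0 hle hmem => ?_⟩
    have hlt : Nat.find hex - γ < Nat.find hex := by omega
    have := Nat.find_min hex hlt
    push Not at this
    apply (Nat.find_spec hex).2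
    have := Γ.add_mem hγ (this hmem)
    rwa [show γ + (Nat.find hex - γ) = Nat.find hex by omega] at this

end Groth.Agent.S15029
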