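import Groth.Statements.S1503
import Groth.Agent.Lib.PCMor4.Local

set_option autoImplicit false
universe u
attribute [local instance] HasDerivedCategory.standard
open FlatMor

set_option backward.isDefEq.respectTransparency.types false

namespace Groth.Agent.S1503

open AlgebraicGeometry CategoryTheory Limits in
/-- Let f : X → S with S locally Noetherian. Then f is pseudo-coherent (affine-locally: pseudo-coherent
ring maps) if and only if f is locally of finite type. -/
theorem result {X S : Scheme.{u}} (f : X ⟶ S) [IsLocallyNoetherian S] :
    MoreMor.IsPseudoCoherentMor f ↔ LocallyOfFiniteType f := by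
  rw [PCMor4.isPseudoCoherentMor_iff, PCMor4.pcMor, affineLocally_iff_forall_isAffineOpen]
  constructor
  · intro h
    exact ⟨fun {U} hU {V} hV e => PCMor4.finiteType_of_pch (h hU hV e)⟩
  · intro h U hU V hV e
    haveI : IsNoetherianRing Γ(S, U) := IsLocallyNoetherian.component_noetherian ⟨U, hU⟩
    exact PCMor4.pch_of_noetherian _ (f.finiteType_appLE hU hV e)

end Groth.Agent.S1503
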