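import Groth.Statements.S15030
import Groth.Agent.Lib.MonoExt1.Basic

set_option autoImplicit false
universe u
open CategoryTheory
open TFCurv

namespace Groth.Agent.S15030

/-- Let k be an algebraically closed field of characteristic zero, δ ≥ 1, and A ⊂ k[[t]] the complete
local ring of the A_{2δ} singularity, i.e. the k-subalgebra of power series all of whose exponents
lie in the semigroup generated by 2 and 2δ + 1 (so A = k[[t², t^{2δ+1}]]). For 0 ≤ i ≤ δ let M_i ⊂
k[[t]] be the A-submodule generated by 1 and t^{2δ+1−2i} (these represent all rank-one torsion-free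
A-modules). Then for 0 ≤ i, j ≤ δ the A-module Ext¹_A(M_i, M_j) has length 2·min(i, j) (length over
A equals k-dimension here). (The published statement also covers the two-branch case n = 2δ − 1 with
the same value; only the one-branch case is stated.) -/
theorem result (k : Type u) [Field k] [IsAlgClosed k] [CharZero k] (δ : ℕ) (hδ : 1 ≤ δ) (A : Subalgebra k (PowerSeries k)) (hmono : ∀ f : PowerSeries k, f ∈ A ↔ ∀ n : ℕ, PowerSeries.coeff n f ≠ 0 → n ∈ AddSubmonoid.closure ({2, 2 * δ + 1} : Set ℕ)) (i j : ℕ) (hi : i ≤ δ) (hj : j ≤ δ) : Module.length ↥A (Abelian.Ext (ModuleCat.of ↥A ↥(Submodule.span ↥A ({1, (PowerSeries.X : PowerSeries k) ^ (2 * δ + 1 - 2 * i)} : Set (PowerSeries k)))) (ModuleCat.of ↥A ↥(Submodule.span ↥A ({1, (PowerSeries.X : PowerSeries k) ^ (2 * δ + 1 - 2 * j)} : Set (PowerSeries k)))) 1) = ((2 * min i j : ℕ) : ℕ∞) := by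
  have hS : ∀ p : ℕ, p ∈ AddSubmonoid.closure ({2, 2 * δ + 1} : Set ℕ) ↔ p % 2 = 0 ∨ 2 * δ + 1 ≤ p := by
    intro p
    rw [AddSubmonoid.mem_closure_pair]
    simp only [smul_eq_mul]
    constructor
    · rintro ⟨a, b, rfl⟩
      rcases Nat.eq_zero_or_pos b with rfl | hb
      · simp
      · right
        nlinarith
    · intro h
      rcases Nat.mod_two_eq_zero_or_one p with hp | hp
      · exact ⟨p / 2, 0, by omega⟩
      · exact ⟨(p - (2 * δ + 1)) / 2, 1, by omega⟩
  have hA := Groth.Agent.MonoExt1.isMonoRing_subalgebra A (S := {p | p % 2 = 0 ∨ 2 * δ + 1 ≤ p})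
    (fun f => (hmono f).trans ⟨fun h m hm => (hS m).1 (h m hm), fun h m hm => (hS m).2 (h m hm)⟩)
  let Δ : ℕ → Set ℕ := fun j => {p | p % 2 = 0 ∨ 2 * δ + 1 - 2 * j ≤ p}
  let e : ℕ → Fin 2 → ℕ := fun j => ![0, 2 * δ + 1 - 2 * j]
  have hΔ : ∀ j, Groth.Agent.MonoExt1.Closed {p | p % 2 = 0 ∨ 2 * δ + 1 ≤ p} (Δ j) :=
    fun j s hs p hp => by
      simp only [Δ, Set.mem_ofPred_eq] at *
      omega
  have hmem : ∀ j, j ≤ δ → ∀ p, p ∈ Δ j ↔
      ∃ l, ∃ q ∈ ({p | p % 2 = 0 ∨ 2 * δ + 1 ≤ p} : Set ℕ), p = e j l + q := by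
    intro j hj p
    simp only [Δ, Set.mem_ofPred_eq, Fin.exists_fin_two, e, Matrix.cons_val_zero, Matrix.cons_val_one]
    constructor
    · intro h
      by_cases hp : p % 2 = 0
      · exact Or.inl ⟨p, Or.inl hp, (zero_add p).symm⟩
      · exact Or.inr ⟨p - (2 * δ + 1 - 2 * j), Or.inl (by omega), by omega⟩
    · rintro (⟨q, hq, rfl⟩ | ⟨q, hq, rfl⟩) <;> omega
  have hG : ∀ j : ℕ, ({1, (PowerSeries.X : PowerSeries k) ^ (2 * δ + 1 - 2 * j)} : Set (PowerSeries k)) =
      Set.range fun l => (PowerSeries.X : PowerSeries k) ^ e j l := by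
    intro j
    ext f
    simp [e, Fin.exists_fin_two, eq_comm]
  rw [hG i, hG j, Groth.Agent.MonoExt1.span_eq_mono hA (e j) (hΔ j) (hmem j hj) (Or.inl rfl)]
  let Γ : Set ℕ := {p | (p % 2 = 0 ∧ 2 * i ≤ p + 2 * j) ∨ 2 * δ + 1 - 2 * j ≤ p}
  have hrel : ∀ a : Fin (1 + 1) → A,
      ∑ l, algebraMap A (PowerSeries k) (a l) * PowerSeries.X ^ e i l = 0 →
      ∀ (l : Fin 1) (m : ℕ), PowerSeries.coeff m (algebraMap A (PowerSeries k) (a l.succ)) ≠ 0 →
        e i l.succ + m ∈ ({p | p % 2 = 0 ∨ 2 * δ + 1 ≤ p} : Set ℕ) := by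
    intro a ha l m hm
    obtain rfl : l = 0 := Subsingleton.elim _ _
    rw [Fin.sum_univ_two] at ha
    refine (hA.2 _).1 ⟨-(a 0), rfl⟩ (e i (Fin.succ 0) + m) ?_
    have h1 : algebraMap A (PowerSeries k) (-(a 0)) =
        algebraMap A (PowerSeries k) (a 1) * PowerSeries.X ^ e i 1 := by
      rw [map_neg]
      simp only [e, Matrix.cons_val_zero, pow_zero, mul_one] at ha ⊢
      linear_combination -ha
    rw [h1, Fin.succ_zero_eq_one, add_comm, PowerSeries.coeff_mul_X_pow]
    exact hm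
  obtain ⟨hΓ, hgood⟩ := Groth.Agent.MonoExt1.good_of_supp hA (e i) rfl (hΔ j) (2 * i) (fun _ => Γ)
    (fun l p => by
      obtain rfl : l = 0 := Subsingleton.elim _ _
      simp only [Γ, Δ, Set.mem_ofPred_eq, Set.mem_image, e, Fin.succ_zero_eq_one, Matrix.cons_val_one,
        Matrix.cons_val_fin_one]
      constructor
      · intro h q hq hq'
        exact ⟨p + q - 2 * i, by omega, by omega⟩
      · intro h
        obtain ⟨d, hd, he⟩ := h (2 * i) (by omega) (by omega)
        obtain ⟨d', hd', he'⟩ := h (2 * δ + 1) (by omega) (by omega)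
        omega)
    hrel
  have hH : (Δ j \ Γ : Set ℕ) = ↑((Finset.range (i - j)).image (fun t => 2 * t)) := by
    ext p
    simp only [Δ, Γ, Set.mem_sdiff, Set.mem_ofPred_eq, Finset.coe_image, Set.mem_image, Finset.coe_range,
      Set.mem_Iio]
    constructor
    · intro h; exact ⟨p / 2, by omega, by omega⟩
    · rintro ⟨t, ht, rfl⟩; omega
  have hc : (Γ \ (fun p => 2 * i + p) '' Δ j : Set ℕ) =
      ↑((Finset.range (min i j)).image (fun t => 2 * (i - j + t)) ∪
        (Finset.range i).image (fun t => 2 * δ + 1 - 2 * j + 2 * t)) := by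
    ext p
    simp only [Δ, Γ, Set.mem_sdiff, Set.mem_ofPred_eq, Finset.coe_union, Set.mem_union, Finset.coe_image,
      Set.mem_image, Finset.coe_range, Set.mem_Iio]
    constructor
    · rintro ⟨h1, h2⟩
      by_cases hp : p % 2 = 0
      · refine Or.inl ⟨p / 2 - (i - j), ?_, by omega⟩
        by_contra hlt
        exact h2 ⟨p - 2 * i, by omega, by omega⟩
      · refine Or.inr ⟨(p - (2 * δ + 1 - 2 * j)) / 2, ?_, by omega⟩
        by_contra hlt
        exact h2 ⟨p - 2 * i, by omega, by omega⟩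
    · rintro (⟨t, ht, rfl⟩ | ⟨t, ht, rfl⟩)
      · exact ⟨by omega, fun ⟨d, hd, he⟩ => by omega⟩
      · exact ⟨by omega, fun ⟨d, hd, he⟩ => by omega⟩
  have key := Groth.Agent.MonoExt1.length_ext_add hA (e i) (H := Γ) (Or.inl rfl) (hΔ j) _
    rfl rfl (2 * i) (Or.inl (by omega))
    (fun l => by fin_cases l <;> simp [e] <;> omega) (fun _ => Γ) hΓ hgood
    (fun p => by
      simp only [Fin.forall_fin_one, Γ, Δ, Set.mem_ofPred_eq, e, Fin.succ_zero_eq_one, Matrix.cons_val_one,
        Matrix.cons_val_fin_one]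
      omega)
    (hH ▸ Finset.finite_toSet _) (fun l => hc ▸ Finset.finite_toSet _)
  refine Groth.Agent.MonoExt1.eq_of_add_eq key ?_
  rw [Finset.sum_const, Finset.card_univ, Fintype.card_fin, one_smul, hH, hc, Set.ncard_coe_finset,
    Set.ncard_coe_finset, Finset.card_image_of_injective _ (fun a b (h : 2 * a = 2 * b) => by omega),
    Finset.card_union_of_disjoint, Finset.card_image_of_injective _ (fun a b (h : 2 * (i - j + a) = 2 * (i - j + b)) => by omega),
    Finset.card_image_of_injective _ (fun a b (h : 2 * δ + 1 - 2 * j + 2 * a = 2 * δ + 1 - 2 * j + 2 * b) => by omega),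
    Finset.card_range, Finset.card_range, Finset.card_range]
  · omega
  · rw [Finset.disjoint_left]
    intro p hp hp'
    obtain ⟨t, -, rfl⟩ := Finset.mem_image.1 hp
    obtain ⟨t', -, ht'⟩ := Finset.mem_image.1 hp'
    omega

end Groth.Agent.S15030
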