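import Groth.Statements.S15031
import Groth.Agent.Lib.MonoExt1.Cubical

set_option autoImplicit false
universe u
open CategoryTheory
open TFCurv

namespace Groth.Agent.S15031

/-- Let k be an algebraically closed field, n ≥ 2, and A = R_n ⊂ k[[t]] the monomial ring of the cubical
semigroup ⟨n, n+1, …, 2n−1⟩, i.e. the k-subalgebra of power series with no terms of degree 1, …,
n−1. For 0 ≤ i ≤ n − 2 let M_i ⊂ k[[t]] be the A-submodule generated by 1, t, …, t^i (the monomial
module whose value set is Γ_n together with 1, …, i). Then the A-module Ext¹_A(M_i, M_i) has length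
i·(n − 2 − i); as the A-endomorphisms of M_i are the scalars, this number is the invariant χ₁(M_i) =
dim Ext¹(M_i, M_i) − dim(End(M_i)/A). (The published statement asserts the value for every module
with this value set; only the monomial module is stated here.) -/
theorem result (k : Type u) [Field k] [IsAlgClosed k] (n : ℕ) (hn : 2 ≤ n) (A : Subalgebra k (PowerSeries k)) (hmono : ∀ f : PowerSeries k, f ∈ A ↔ ∀ m : ℕ, PowerSeries.coeff m f ≠ 0 → (m = 0 ∨ n ≤ m)) (i : ℕ) (hi : i + 2 ≤ n) : Module.length ↥A (Abelian.Ext (ModuleCat.of ↥A ↥(Submodule.span ↥A ((fun a : ℕ => (PowerSeries.X : PowerSeries k) ^ a) '' Set.Iic i))) (ModuleCat.of ↥A ↥(Submodule.span ↥A ((fun a : ℕ => (PowerSeries.X : PowerSeries k) ^ a) '' Set.Iic i))) 1) = ((i * (n - 2 - i) : ℕ) : ℕ∞) := by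
  have hA := Groth.Agent.MonoExt1.isMonoRing_subalgebra A (S := {m | m = 0 ∨ n ≤ m}) hmono
  let e : Fin (i + 1) → ℕ := fun l => l.val
  let Δ : Set ℕ := {p | p ≤ i ∨ n ≤ p}
  have hΔ : Groth.Agent.MonoExt1.Closed {m | m = 0 ∨ n ≤ m} Δ := fun s hs p hp => by
    simp only [Δ, Set.mem_ofPred_eq] at *
    omega
  have hG : ((fun a : ℕ => (PowerSeries.X : PowerSeries k) ^ a) '' Set.Iic i) =
      Set.range fun l => (PowerSeries.X : PowerSeries k) ^ e l := by
    rw [Set.range_comp']
    congr 1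
    ext p
    simp only [Set.mem_Iic, Set.mem_range, e]
    exact ⟨fun h => ⟨⟨p, Nat.lt_succ_of_le h⟩, rfl⟩, fun ⟨l, hl⟩ => by omega⟩
  have hmem : ∀ p, p ∈ Δ ↔ ∃ l, ∃ q ∈ ({m | m = 0 ∨ n ≤ m} : Set ℕ), p = e l + q := by
    intro p
    simp only [Δ, Set.mem_ofPred_eq, e]
    constructor
    · rintro (h | h)
      · exact ⟨⟨p, Nat.lt_succ_of_le h⟩, 0, Or.inl rfl, rfl⟩
      · exact ⟨0, p, Or.inr h, (zero_add p).symm⟩
    · rintro ⟨l, q, hq, rfl⟩
      have := l.isLt
      omega
  rw [hG, Groth.Agent.MonoExt1.span_eq_mono hA e hΔ hmem (Or.inl rfl)]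
  obtain ⟨hΓ, hgood⟩ := Groth.Agent.MonoExt1.good_of_supp hA e rfl hΔ n (fun _ => {p | n ≤ p})
    (fun l p => by
      have hl := l.isLt
      simp only [Set.mem_ofPred_eq, Set.mem_image, e, Fin.val_succ, Δ]
      constructor
      · intro h q hq hq'
        exact ⟨p + q - n, by omega, by omega⟩
      · intro h
        by_contra hp
        obtain ⟨d, hd, he⟩ := h n (by omega) (by omega)
        obtain ⟨d', hd', he'⟩ := h (n + (i + 1 - p)) (by omega) (by omega)
        omega)
    (Groth.Agent.MonoExt1.cubical_supp hA n (fun m => Iff.rfl) e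
      (fun a b h => Fin.ext h) (fun l => lt_of_lt_of_le l.isLt (by omega)))
  have key := Groth.Agent.MonoExt1.length_ext_add hA e (H := {p | p = 0 ∨ n ≤ p}) (Or.inl rfl) hΔ _
    (Groth.Agent.MonoExt1.span_eq_mono hA e hΔ hmem (Or.inl rfl)).symm rfl n (Or.inr le_rfl)
    (fun l => Or.inr (Nat.le_add_right _ _)) (fun _ => {p | n ≤ p}) hΓ hgood
    (fun p => ⟨fun hp => ⟨by simp [Δ] at *; omega, fun l => by
        have hl := l.isLt
        simp [Δ, e] at *
        omega⟩, fun ⟨h1, h2⟩ => by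
        simp only [Δ, Set.mem_ofPred_eq] at h1 ⊢
        by_contra hp
        have h3 := h2 ⟨i - p, by omega⟩
        simp only [e, Fin.val_succ, Set.mem_ofPred_eq, Δ] at h3
        omega⟩)
    ((Set.finite_lt_nat n).subset (fun p hp => by
      simp only [Set.mem_sdiff, Set.mem_ofPred_eq, Δ] at hp ⊢; omega))
    (fun l => (Set.finite_lt_nat (2 * n)).subset (fun p hp => by
      simp only [Set.mem_sdiff, Set.mem_ofPred_eq, Set.mem_image, Δ] at hp ⊢
      by_contra hlt
      exact hp.2 ⟨p - n, by omega, by omega⟩))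
  have hc : ({p | n ≤ p} \ (fun p => n + p) '' Δ : Set ℕ) = ↑(Finset.Ico (n + i + 1) (2 * n)) := by
    ext p
    simp only [Set.mem_sdiff, Set.mem_ofPred_eq, Set.mem_image, Δ, Finset.coe_Ico, Set.mem_Ico]
    constructor
    · rintro ⟨h1, h2⟩
      by_contra hne
      exact h2 ⟨p - n, by omega, by omega⟩
    · rintro ⟨h1, h2⟩
      exact ⟨by omega, fun ⟨d, hd, he⟩ => by omega⟩
  have hd : (Δ \ {p | p = 0 ∨ n ≤ p} : Set ℕ) = ↑(Finset.Icc 1 i) := by
    ext p
    simp only [Set.mem_sdiff, Set.mem_ofPred_eq, Δ, Finset.coe_Icc, Set.mem_Icc]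
    omega
  refine Groth.Agent.MonoExt1.eq_of_add_eq key ?_
  rw [Finset.sum_const, Finset.card_univ, Fintype.card_fin, smul_eq_mul, hc, hd, Set.ncard_coe_finset,
    Set.ncard_coe_finset, Nat.card_Ico, Nat.card_Icc]
  obtain ⟨m, rfl⟩ : ∃ m, n = m + i + 2 := ⟨n - i - 2, by omega⟩
  rw [show 2 * (m + i + 2) - (m + i + 2 + i + 1) = m + 1 by omega,
    show m + i + 2 - 2 - i = m by omega, Nat.add_sub_cancel]
  ring

end Groth.Agent.S15031
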