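import Groth.Statements.S15032
import Groth.Agent.Lib.MonoExt1.Cubical

set_option autoImplicit false
universe u
open CategoryTheory
open TFCurv

namespace Groth.Agent.S15032


open Groth.Agent.MonoExt1 in
theorem length_end_quot {k : Type u} [Field k] {A : Type u} [CommRing A] [Algebra A (PowerSeries k)]
    (n : ℕ) (hn : 1 ≤ n) (hA : IsMonoRing (k := k) A {m | m = 0 ∨ n ≤ m}) :
    Module.length A ((PowerSeries k →ₗ[A] PowerSeries k) ⧸
      LinearMap.range (Algebra.lsmul A A (PowerSeries k) : A →ₐ[A] Module.End A (PowerSeries k)).toLinearMap) =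
      ((n - 1 : ℕ) : ℕ∞) := by
  have hU : Closed {m | m = 0 ∨ n ≤ m} (Set.univ : Set ℕ) := fun _ _ _ _ => trivial
  have hS : Closed {m | m = 0 ∨ n ≤ m} {m | m = 0 ∨ n ≤ m} := fun s hs p hp => by
    simp only [Set.mem_ofPred_eq] at *; omega
  obtain ⟨tn, htn⟩ := X_pow_mem hA (q := n) (Or.inr le_rfl)
  have hlin : ∀ (φ : PowerSeries k →ₗ[A] PowerSeries k) (f : PowerSeries k), φ f = f * φ 1 := by
    intro φ f
    obtain ⟨b, hb⟩ := (hA.2 (PowerSeries.X ^ n * f)).2 fun m hm => by
      rw [PowerSeries.coeff_X_pow_mul'] at hm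
      split_ifs at hm with h
      · exact Or.inr h
      · exact absurd rfl hm
    apply mul_left_cancel₀ (pow_ne_zero n PowerSeries.X_ne_zero)
    have h1 : tn • f = b • (1 : PowerSeries k) := by
      rw [Algebra.smul_def, Algebra.smul_def, htn, hb, mul_one]
    have h2 := congrArg φ h1
    rw [map_smul, map_smul, Algebra.smul_def, Algebra.smul_def, htn, hb] at h2
    rw [h2]
    ring
  let ev : (PowerSeries k →ₗ[A] PowerSeries k) ≃ₗ[A] ↥(mono (k := k) A Set.univ) :=
    LinearEquiv.ofBijective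
      (LinearMap.codRestrict _ (LinearMap.applyₗ' A (1 : PowerSeries k))
        (fun φ => (mem_mono hA hU).2 fun _ _ => trivial))
      ⟨fun φ ψ h => LinearMap.ext fun f => by
          have h1 : φ 1 = ψ 1 := congrArg Subtype.val h
          rw [hlin φ f, hlin ψ f, h1],
        fun g => ⟨LinearMap.mulRight A (g : PowerSeries k), Subtype.ext (one_mul _)⟩⟩
  have hR : (LinearMap.range (Algebra.lsmul A A (PowerSeries k) :
      A →ₐ[A] Module.End A (PowerSeries k)).toLinearMap).map ev.toLinearMap =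
      (mono (k := k) A {m | m = 0 ∨ n ≤ m}).comap (mono (k := k) A Set.univ).subtype := by
    ext g
    rw [Submodule.mem_comap, mem_mono hA hS]
    constructor
    · rintro ⟨φ, ⟨a, rfl⟩, rfl⟩ m hm
      refine (hA.2 _).1 ⟨a, rfl⟩ m ?_
      simpa [ev, Algebra.smul_def] using hm
    · intro h
      obtain ⟨a, ha⟩ := (hA.2 _).2 h
      exact ⟨_, ⟨a, rfl⟩, Subtype.ext (by simpa [ev, Algebra.smul_def] using ha)⟩
  rw [(Submodule.Quotient.equiv _ _ ev hR).length_eq]
  have hfin : (Set.univ \ {m | m = 0 ∨ n ≤ m} : Set ℕ) = ↑(Finset.Ico 1 n) := by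
    ext p; simp; omega
  exact length_quot hA (Or.inl rfl) _ hS hU (Set.subset_univ _) (hfin ▸ Finset.finite_toSet _)
    (by rw [hfin, Set.ncard_coe_finset, Nat.card_Ico])


/-- Let k be an algebraically closed field, n ≥ 2, and A = R_n ⊂ k[[t]] the monomial ring of the cubical
semigroup ⟨n, n+1, …, 2n−1⟩, i.e. the k-subalgebra of power series with no terms of degree 1, …,
n−1. For the normalisation R~ = k[[t]] viewed as an A-module, χ₁(R~) = (n − 1)², where χ₁(M) = dim_k
Ext¹_A(M, M) − dim_k(End_A(M)/A): the length of the A-module Ext¹_A(k[[t]], k[[t]]) equals (n − 1)²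
plus the length of the A-linear endomorphisms of k[[t]] modulo multiplications by elements of A. -/
theorem result (k : Type u) [Field k] [IsAlgClosed k] (n : ℕ) (hn : 2 ≤ n) (A : Subalgebra k (PowerSeries k)) (hmono : ∀ f : PowerSeries k, f ∈ A ↔ ∀ m : ℕ, PowerSeries.coeff m f ≠ 0 → (m = 0 ∨ n ≤ m)) : Module.length ↥A (Abelian.Ext (ModuleCat.of ↥A (PowerSeries k)) (ModuleCat.of ↥A (PowerSeries k)) 1) = (((n - 1) ^ 2 : ℕ) : ℕ∞) + Module.length ↥A ((PowerSeries k →ₗ[↥A] PowerSeries k) ⧸ LinearMap.range (Algebra.lsmul ↥A ↥A (PowerSeries k) : ↥A →ₐ[↥A] Module.End ↥A (PowerSeries k)).toLinearMap) := by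
  have hA := Groth.Agent.MonoExt1.isMonoRing_subalgebra A (S := {m | m = 0 ∨ n ≤ m}) hmono
  obtain ⟨r, rfl⟩ : ∃ r, n = r + 1 := ⟨n - 1, by omega⟩
  let e : Fin (r + 1) → ℕ := fun l => l.val
  have hU : Groth.Agent.MonoExt1.Closed {m | m = 0 ∨ r + 1 ≤ m} (Set.univ : Set ℕ) :=
    fun _ _ _ _ => trivial
  have hspan : Submodule.span A (Set.range fun l => (PowerSeries.X : PowerSeries k) ^ e l) = ⊤ := by
    rw [Groth.Agent.MonoExt1.span_eq_mono hA e hU (fun p => ⟨fun _ => by
      by_cases h : p ≤ r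
      · exact ⟨⟨p, Nat.lt_succ_of_le h⟩, 0, Or.inl rfl, rfl⟩
      · exact ⟨0, p, Or.inr (by omega), (zero_add p).symm⟩, fun _ => trivial⟩) (Or.inl rfl),
      eq_top_iff]
    exact fun f _ => (Groth.Agent.MonoExt1.mem_mono hA hU).2 fun _ _ => trivial
  obtain ⟨hΓ, hgood⟩ := Groth.Agent.MonoExt1.good_of_supp hA e rfl hU (r + 1) (fun _ => Set.univ)
    (fun l p => by
      simp only [Set.mem_univ, Set.mem_image, true_and, true_iff, e, Fin.val_succ]
      intro q hq hq'
      simp only [Set.mem_ofPred_eq] at hq hq'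
      have := l.isLt
      exact ⟨p + q - (r + 1), by omega⟩)
    (Groth.Agent.MonoExt1.cubical_supp hA (r + 1) (fun m => Iff.rfl) e
      (fun a b h => Fin.ext h) (fun l => l.isLt))
  have hc : (Set.univ \ (fun p => r + 1 + p) '' (Set.univ : Set ℕ) : Set ℕ) =
      ↑(Finset.range (r + 1)) := by
    ext p
    simp only [Set.mem_sdiff, Set.mem_univ, Set.mem_image, true_and, Finset.coe_range, Set.mem_Iio]
    constructor
    · intro h
      by_contra hne
      exact h ⟨p - (r + 1), by omega⟩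
    · rintro h ⟨d, he⟩
      omega
  have key := Groth.Agent.MonoExt1.length_ext_add hA e (H := Set.univ) (Or.inl rfl) hU ⊤ hspan.symm rfl
    (r + 1) (Or.inr le_rfl) (fun l => Or.inr (Nat.le_add_right _ _)) (fun _ => Set.univ) hΓ hgood
    (fun p => by simp) (by simp) (fun l => hc ▸ Finset.finite_toSet _)
  rw [Set.sdiff_self, Set.ncard_empty, Nat.cast_zero, add_zero, Finset.sum_const, Finset.card_univ,
    Fintype.card_fin, smul_eq_mul, hc, Set.ncard_coe_finset, Finset.card_range] at key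
  have htopM : Groth.Agent.MonoExt1.mono (k := k) A Set.univ = ⊤ := eq_top_iff.2 fun f _ =>
    (Groth.Agent.MonoExt1.mem_mono hA hU).2 fun _ _ => trivial
  rw [htopM] at key
  have e1 : ModuleCat.of A (⊤ : Submodule A (PowerSeries k)) ≅ ModuleCat.of A (PowerSeries k) :=
    (Submodule.topEquiv (R := A) (M := PowerSeries k)).toModuleIso
  have hext : Module.length A (CategoryTheory.Abelian.Ext (ModuleCat.of A (⊤ : Submodule A (PowerSeries k)))
      (ModuleCat.of A (⊤ : Submodule A (PowerSeries k))) 1) =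
      Module.length A (CategoryTheory.Abelian.Ext (ModuleCat.of A (PowerSeries k))
        (ModuleCat.of A (PowerSeries k)) 1) :=
    (LinearEquiv.ofLinear
      (((CategoryTheory.Abelian.Ext.mk₀ e1.inv).precompOfLinear A _ (zero_add 1)) ∘ₗ
        ((CategoryTheory.Abelian.Ext.mk₀ e1.hom).postcompOfLinear A _ (add_zero 1)))
      (((CategoryTheory.Abelian.Ext.mk₀ e1.hom).precompOfLinear A _ (zero_add 1)) ∘ₗ
        ((CategoryTheory.Abelian.Ext.mk₀ e1.inv).postcompOfLinear A _ (add_zero 1)))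
      (LinearMap.ext fun x => by simp)
      (LinearMap.ext fun x => by simp)).length_eq
  rw [← hext, key, length_end_quot (r + 1) (by omega) hA, ← Nat.cast_add]
  congr 1
  rw [Nat.add_sub_cancel]
  ring

end Groth.Agent.S15032
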