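import Groth.Statements.S15033
import Groth.Agent.Lib.MonoExt1.Basic

set_option autoImplicit false
universe u
open CategoryTheory
open TFCurv

namespace Groth.Agent.S15033


open Groth.Agent.MonoExt1 in
theorem cubical_supp {k : Type u} [Field k] {A : Type u} [CommRing A] [Algebra A (PowerSeries k)]
    {S : Set ℕ} (hA : IsMonoRing (k := k) A S) (n : ℕ) (hS : ∀ m, m ∈ S ↔ m = 0 ∨ n ≤ m) {r : ℕ}
    (e : Fin (r + 1) → ℕ) (he : Function.Injective e) (hlt : ∀ l, e l < n)
    (a : Fin (r + 1) → A)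
    (ha : ∑ l, algebraMap A (PowerSeries k) (a l) * PowerSeries.X ^ e l = 0) (l : Fin r) (m : ℕ)
    (hm : PowerSeries.coeff m (algebraMap A (PowerSeries k) (a l.succ)) ≠ 0) : e l.succ + m ∈ S := by
  rcases (hS m).1 ((hA.2 _).1 ⟨_, rfl⟩ m hm) with rfl | h
  · exfalso
    apply hm
    have h1 := congrArg (PowerSeries.coeff (e l.succ)) ha
    rw [map_sum, map_zero, Finset.sum_eq_single l.succ] at h1
    · simpa [PowerSeries.coeff_mul_X_pow'] using h1
    · intro b _ hb
      rw [PowerSeries.coeff_mul_X_pow']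
      split_ifs with hle
      · by_contra hne
        rcases (hS _).1 ((hA.2 _).1 ⟨_, rfl⟩ _ hne) with h | h
        · exact hb (he (by omega))
        · have := hlt l.succ
          omega
      · rfl
    · simp
  · exact (hS _).2 (Or.inr (by omega))


/-- Let k be an algebraically closed field, n ≥ 2, and A = R_n ⊂ k[[t]] the monomial ring of the cubical
semigroup ⟨n, n+1, …, 2n−1⟩, i.e. the k-subalgebra of power series with no terms of degree 1, …,
n−1. For 0 ≤ i < n − 1 let R_{n−i} ⊂ k[[t]] be the A-submodule generated by 1, t^{n−i}, t^{n−i+1},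
…, t^{n−1}, i.e. the overring of A consisting of the power series with no terms of degree 1, …, n −
i − 1. Then the A-module Ext¹_A(R_{n−i}, R_{n−i}) has length i·(n − 1). Since the A-endomorphisms of
R_{n−i} are the multiplications by elements of R_{n−i}, of colength i over A, this is the published
value χ₁(R_{n−i}) = i·(n − 2) of χ₁(M) = dim Ext¹(M, M) − dim(End(M)/A). -/
theorem result (k : Type u) [Field k] [IsAlgClosed k] (n : ℕ) (hn : 2 ≤ n) (A : Subalgebra k (PowerSeries k)) (hmono : ∀ f : PowerSeries k, f ∈ A ↔ ∀ m : ℕ, PowerSeries.coeff m f ≠ 0 → (m = 0 ∨ n ≤ m)) (i : ℕ) (hi : i + 2 ≤ n) : Module.length ↥A (Abelian.Ext (ModuleCat.of ↥A ↥(Submodule.span ↥A ((fun a : ℕ => (PowerSeries.X : PowerSeries k) ^ a) '' ({0} ∪ Set.Icc (n - i) (n - 1))))) (ModuleCat.of ↥A ↥(Submodule.span ↥A ((fun a : ℕ => (PowerSeries.X : PowerSeries k) ^ a) '' ({0} ∪ Set.Icc (n - i) (n - 1))))) 1) = ((i * (n - 1) : ℕ) : ℕ∞) := by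
  have hA := Groth.Agent.MonoExt1.isMonoRing_subalgebra A (S := {m | m = 0 ∨ n ≤ m}) hmono
  let e : Fin (i + 1) → ℕ := Fin.cons 0 fun l => n - i + l.val
  let Δ : Set ℕ := {p | p = 0 ∨ n - i ≤ p}
  have hΔ : Groth.Agent.MonoExt1.Closed {m | m = 0 ∨ n ≤ m} Δ := fun s hs p hp => by
    simp only [Δ, Set.mem_ofPred_eq] at *
    omega
  have hG : ((fun a : ℕ => (PowerSeries.X : PowerSeries k) ^ a) '' ({0} ∪ Set.Icc (n - i) (n - 1))) =
      Set.range fun l => (PowerSeries.X : PowerSeries k) ^ e l := by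
    rw [Set.range_comp']
    congr 1
    ext p
    simp only [Set.mem_union, Set.mem_singleton_iff, Set.mem_Icc, Set.mem_range, e]
    constructor
    · rintro (rfl | ⟨h1, h2⟩)
      · exact ⟨0, rfl⟩
      · exact ⟨Fin.succ (⟨p - (n - i), by omega⟩ : Fin i), by simp only [Fin.cons_succ]; omega⟩
    · rintro ⟨l, rfl⟩
      refine Fin.cases ?_ (fun l => ?_) l
      · exact Or.inl rfl
      · right; simp; omega
  have hmem : ∀ p, p ∈ Δ ↔ ∃ l, ∃ q ∈ ({m | m = 0 ∨ n ≤ m} : Set ℕ), p = e l + q := by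
    intro p
    simp only [Δ, Set.mem_ofPred_eq, Fin.exists_fin_succ, e, Fin.cons_zero, Fin.cons_succ]
    constructor
    · intro h
      by_cases hp : p = 0 ∨ n ≤ p
      · exact Or.inl ⟨p, hp, (zero_add p).symm⟩
      · exact Or.inr ⟨⟨p - (n - i), by omega⟩, 0, Or.inl rfl, by simp; omega⟩
    · rintro (⟨q, hq, rfl⟩ | ⟨l, q, hq, rfl⟩) <;> omega
  rw [hG, Groth.Agent.MonoExt1.span_eq_mono hA e hΔ hmem (Or.inl rfl)]
  have hinj : Function.Injective e := by
    intro l l' h
    revert h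
    refine Fin.cases ?_ (fun a => ?_) l <;> refine Fin.cases ?_ (fun b => ?_) l' <;> simp [e] <;>
      omega
  obtain ⟨hΓ, hgood⟩ := Groth.Agent.MonoExt1.good_of_supp hA e rfl hΔ n (fun _ => {p | n - i ≤ p})
    (fun l p => by
      simp only [Set.mem_ofPred_eq, Set.mem_image, e, Fin.cons_succ, Δ]
      constructor
      · intro h q hq hq'
        exact ⟨p + q - n, by omega, by omega⟩
      · intro h
        obtain ⟨d, hd, he⟩ := h (2 * n + p) (by omega) (by omega)
        obtain ⟨d', hd', he'⟩ := h n (by omega) (by omega)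
        by_contra hp
        obtain ⟨d'', hd'', he''⟩ := h (n + 1) (by omega) (by omega)
        have hp0 : p = 0 := by omega
        subst hp0
        obtain ⟨d3, hd3, he3⟩ := h (2 * n - i - 1) (by omega) (by omega)
        omega)
    (cubical_supp hA n (fun m => Iff.rfl) e hinj
      (fun l => by refine Fin.cases ?_ (fun l => ?_) l <;> simp [e] <;> omega))
  have key := Groth.Agent.MonoExt1.length_ext_add hA e (H := Δ) (Or.inl rfl) hΔ _
    (Groth.Agent.MonoExt1.span_eq_mono hA e hΔ hmem (Or.inl rfl)).symm rfl n (Or.inr le_rfl)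
    (fun l => Or.inr (Nat.le_add_right _ _)) (fun _ => {p | n - i ≤ p}) hΓ hgood
    (fun p => ⟨fun hp => ⟨hp, fun l => by simp [Δ, e] at *; omega⟩, fun h => h.1⟩)
    (by simp) (fun l => (Set.finite_lt_nat (2 * n)).subset (fun p hp => by
      simp only [Set.mem_sdiff, Set.mem_ofPred_eq, Set.mem_image, Δ] at hp ⊢
      by_contra hlt
      exact hp.2 ⟨p - n, by omega, by omega⟩))
  have hc : ({p | n - i ≤ p} \ (fun p => n + p) '' Δ : Set ℕ) =
      ↑((Finset.Ico (n - i) (2 * n - i)).erase n) := by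
    ext p
    simp only [Set.mem_sdiff, Set.mem_ofPred_eq, Set.mem_image, Δ, Finset.coe_erase,
      Set.mem_singleton_iff, Finset.coe_Ico, Set.mem_Ico]
    constructor
    · rintro ⟨h1, h2⟩
      by_contra hne
      exact h2 ⟨p - n, by omega, by omega⟩
    · rintro ⟨⟨h1, h2⟩, h3⟩
      exact ⟨h1, fun ⟨d, hd, he⟩ => by omega⟩
  refine Groth.Agent.MonoExt1.eq_of_add_eq key ?_
  rw [Finset.sum_const, Finset.card_univ, Fintype.card_fin, smul_eq_mul, hc, Set.ncard_coe_finset,
    Set.sdiff_self, Set.ncard_empty, add_zero]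
  rcases Nat.eq_zero_or_pos i with rfl | hpos
  · simp
  rw [Finset.card_erase_of_mem (Finset.mem_Ico.2 ⟨by omega, by omega⟩), Nat.card_Ico]
  congr 1
  omega

end Groth.Agent.S15033
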