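import Groth.Statements.S15034
import Groth.Agent.Lib.Branch.Basic
import Mathlib.RingTheory.Nakayama
import Mathlib.RingTheory.PowerSeries.NoZeroDivisors
import Mathlib.Tactic
-- import your own Groth.Agent.* helpers here

set_option autoImplicit false
universe u
open TFCurv

namespace Groth.Agent.S15034
open Groth.Agent
set_option linter.style.haveILetI false

/-- Let k be an algebraically closed field and A ≠ k[[t]] a k-subalgebra of k[[t]] that is closed in the
t-adic topology and over which k[[t]] is a finite module (as for the complete local ring of a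
unibranch curve singularity inside its normalisation), and let Γ ⊆ ℕ be the set of t-orders of the
nonzero elements of A (its value semigroup). Let M, N be finitely generated A-submodules of k[[t]]
containing 1 (rank-one torsion-free modules in normal form), with value sets Γ(M), Γ(N) (orders of
their nonzero elements); the A-linear maps M → N are the multiplications by power series u with uM ⊆
N. Then the order of every such nonzero u satisfies n + Γ(M) ⊆ Γ(N), and although the set of these
orders can be smaller than S = {n | n + Γ(M) ⊆ Γ(N)}, the two sets have the same conductor: for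
every c', all integers n ≥ c' are orders of multipliers exactly when all n ≥ c' lie in S. -/
theorem result (k : Type u) [Field k] [IsAlgClosed k] (A : Subalgebra k (PowerSeries k)) (hA : Module.Finite ↥A (PowerSeries k)) (hcl : ∀ f : PowerSeries k, (∀ n : ℕ, ∃ g ∈ A, (n : ℕ∞) ≤ PowerSeries.order (f - g)) → f ∈ A) (hsing : A ≠ ⊤) (Γ : Set ℕ) (hΓ : ∀ n : ℕ, n ∈ Γ ↔ ∃ f ∈ A, PowerSeries.order f = n) (M N : Submodule ↥A (PowerSeries k)) (hMfg : M.FG) (hNfg : N.FG) (hM1 : (1 : PowerSeries k) ∈ M) (hN1 : (1 : PowerSeries k) ∈ N) (ΓM ΓN : Set ℕ) (hΓM : ∀ n : ℕ, n ∈ ΓM ↔ ∃ f ∈ M, PowerSeries.order f = n) (hΓN : ∀ n : ℕ, n ∈ ΓN ↔ ∃ f ∈ N, PowerSeries.order f = n) : (∀ n : ℕ, (∃ u : PowerSeries k, PowerSeries.order u = n ∧ ∀ m ∈ M, u * m ∈ N) → ∀ a ∈ ΓM, n + a ∈ ΓN) ∧ ∀ c' : ℕ, (∀ n : ℕ, c' ≤ n → ∃ u : PowerSeries k, PowerSeries.order u = n ∧ ∀ m ∈ M, u * m ∈ N) ↔ (∀ n : ℕ, c' ≤ n → ∀ a ∈ ΓM, n + a ∈ ΓN) := by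
  classical
  have hfst : ∀ n : ℕ, (∃ u : PowerSeries k, PowerSeries.order u = n ∧ ∀ m ∈ M, u * m ∈ N) →
      ∀ a ∈ ΓM, n + a ∈ ΓN := by
    rintro n ⟨u, hu, huM⟩ a ha
    obtain ⟨m, hm, hma⟩ := (hΓM a).1 ha
    exact (hΓN _).2 ⟨u * m, huM m hm, by rw [PowerSeries.order_mul, hu, hma, Nat.cast_add]⟩
  refine ⟨hfst, fun c' => ⟨fun h n hn => hfst n (h n hn), fun h n hn => ?_⟩⟩
  refine ⟨PowerSeries.X ^ n, PowerSeries.order_X_pow n, ?_⟩
  have hall : ∀ j, c' ≤ j → j ∈ Branch.ordSet (N.restrictScalars k) := fun j hj => by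
    obtain ⟨f, hf, hfj⟩ := (hΓN _).1 (h j hj 0 ((hΓM 0).2 ⟨1, hM1, by simp⟩))
    exact ⟨f, hf, by simpa using hfj⟩
  -- an element of positive order in `A`
  obtain ⟨a, haA, e, he0, hae⟩ : ∃ a ∈ A, ∃ e : ℕ, e ≠ 0 ∧ a.order = (e : ℕ∞) := by
    by_contra hno
    push Not at hno
    have hconst : ∀ a ∈ A, a = PowerSeries.C (PowerSeries.constantCoeff a) := by
      intro a ha
      by_contra hne
      have hb : a - PowerSeries.C (PowerSeries.constantCoeff a) ∈ A :=
        A.sub_mem ha (A.algebraMap_mem _)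
      obtain ⟨e, he⟩ := Branch.exists_order_eq (sub_ne_zero.2 hne)
      refine hno _ hb e ?_ he
      rintro rfl
      exact (PowerSeries.order_eq_nat.1 he).1 (by simp)
    obtain ⟨s, hs⟩ := (hA.fg_top : (⊤ : Submodule A (PowerSeries k)).FG)
    have hspan : Submodule.span k (s : Set (PowerSeries k)) = ⊤ := by
      refine eq_top_iff.2 fun f _ => ?_
      have hf : f ∈ Submodule.span A (s : Set (PowerSeries k)) := by rw [hs]; trivial
      clear * - hf hconst
      induction hf using Submodule.span_induction with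
      | mem g hg => exact Submodule.subset_span hg
      | zero => exact zero_mem _
      | add x y _ _ hx hy => exact add_mem hx hy
      | smul r x _ hx =>
        rw [Subalgebra.smul_def, smul_eq_mul, hconst _ r.2, ← PowerSeries.smul_eq_C_mul]
        exact Submodule.smul_mem _ _ hx
    haveI : Module.Finite k (PowerSeries k) := ⟨⟨s, hspan⟩⟩
    have hli : LinearIndependent k (fun i : Fin (Module.finrank k (PowerSeries k) + 1) =>
        (PowerSeries.monomial (i : ℕ) (1 : k))) := by
      rw [Fintype.linearIndependent_iff]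
      intro g hg i
      have := congrArg (PowerSeries.coeff (i : ℕ)) hg
      simp only [map_sum, map_smul, PowerSeries.coeff_monomial, smul_eq_mul, mul_ite, mul_one,
        mul_zero, map_zero] at this
      rw [Finset.sum_eq_single i (fun j _ hji => if_neg fun h => hji (Fin.ext h.symm))
        (fun h => absurd (Finset.mem_univ i) h)] at this
      simpa using this
    have := hli.fintype_card_le_finrank
    rw [Fintype.card_fin] at this
    omega
  -- `1 - (maximal ideal)` consists of units of `A`
  have hunit : ∀ b ∈ A, (1 : ℕ∞) ≤ PowerSeries.order b → ∃ v ∈ A, (1 - b) * v = 1 := by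
    intro b hb hb1
    have hu : IsUnit (1 - b) := by
      rw [PowerSeries.isUnit_iff_constantCoeff, map_sub, map_one, ← PowerSeries.coeff_zero_eq_constantCoeff_apply,
        PowerSeries.coeff_of_lt_order 0 (lt_of_lt_of_le (by simp) hb1), sub_zero]
      exact isUnit_one
    refine ⟨↑hu.unit⁻¹, hcl _ fun j => ⟨∑ i ∈ Finset.range j, b ^ i,
      sum_mem fun i _ => pow_mem hb i, ?_⟩, hu.mul_val_inv⟩
    have : (↑hu.unit⁻¹ : PowerSeries k) - ∑ i ∈ Finset.range j, b ^ i = ↑hu.unit⁻¹ * b ^ j := by
      have hg := geom_sum_mul_neg b j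
      calc (↑hu.unit⁻¹ : PowerSeries k) - ∑ i ∈ Finset.range j, b ^ i
          = ↑hu.unit⁻¹ * (1 - (∑ i ∈ Finset.range j, b ^ i) * (1 - b)) := by
            rw [mul_sub, mul_one, mul_comm (∑ i ∈ Finset.range j, b ^ i), ← mul_assoc,
              hu.val_inv_mul, one_mul]
        _ = _ := by rw [hg]; ring
    rw [this]
    refine le_trans ?_ (PowerSeries.le_order_mul _ _)
    refine le_add_left (le_trans ?_ (PowerSeries.le_order_pow _ _))
    have hj := nsmul_le_nsmul_right hb1 j
    simpa using hj
  let L : Submodule A (PowerSeries k) :=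
    (⊤ : Submodule A (PowerSeries k)).map (LinearMap.mulLeft A (PowerSeries.X ^ c' : PowerSeries k))
  have hLfg : L.FG := hA.fg_top.map _
  have hle : L ≤ N := by
    refine Submodule.le_of_le_smul_of_le_jacobson_bot (I := Ideal.span {(⟨a, haA⟩ : A)}) hLfg ?_ ?_
    · rw [Ideal.span_singleton_le_iff_mem, Ideal.mem_jacobson_bot]
      intro y
      obtain ⟨v, hv, hv'⟩ := hunit (-(a * y)) (A.neg_mem (A.mul_mem haA y.2)) (by
        rw [PowerSeries.order_neg, PowerSeries.order_mul, hae]
        exact le_add_right (by exact_mod_cast Nat.one_le_iff_ne_zero.2 he0))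
      refine IsUnit.of_mul_eq_one ⟨v, hv⟩ (Subtype.ext ?_)
      change (a * (y : PowerSeries k) + 1) * v = 1
      linear_combination hv' 
    · rintro _ ⟨w, -, rfl⟩
      set f := LinearMap.mulLeft A (PowerSeries.X ^ c' : PowerSeries k) w with hf
      obtain ⟨g, hg, hfg⟩ := Branch.approx (V := N.restrictScalars k) (m := c') hall
        (f := f) (Branch.le_order_of_X_pow_dvd (Dvd.intro w rfl)) (c' + e)
      obtain ⟨z, hz⟩ := Branch.X_pow_dvd_of_le_order hfg
      have ha0 : a ≠ 0 := fun h0 => by
        rw [h0, PowerSeries.order_zero] at hae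
        exact absurd hae (by simp)
      obtain ⟨u, hu⟩ := PowerSeries.isUnit_divided_by_X_pow_order ha0
      have hau : a = PowerSeries.X ^ e * (u : PowerSeries k) := by
        rw [hu]
        have := PowerSeries.X_pow_order_mul_divXPowOrder (f := a)
        rw [hae, ENat.toNat_natCast] at this
        exact this.symm
      have hfg' : f - g = (⟨a, haA⟩ : A) • (PowerSeries.X ^ c' * ((↑u⁻¹ : PowerSeries k) * z)) := by
        rw [hz, Subalgebra.smul_def, smul_eq_mul]
        change _ = a * _
        have := u.mul_inv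
        linear_combination (-PowerSeries.X ^ (c' + e) * z) * this -
          (PowerSeries.X ^ c' * ((↑u⁻¹ : PowerSeries k) * z)) * hau
      refine Submodule.mem_sup.2 ⟨g, hg, f - g, ?_, add_sub_cancel g f⟩
      rw [hfg']
      exact Submodule.smul_mem_smul (Ideal.mem_span_singleton_self _) ⟨_, trivial, rfl⟩
  intro m _
  obtain ⟨j, rfl⟩ := Nat.exists_eq_add_of_le hn
  refine hle ⟨PowerSeries.X ^ j * m, trivial, ?_⟩
  simp only [LinearMap.mulLeft_apply]
  rw [pow_add, mul_assoc]

end Groth.Agent.S15034
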