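import Groth.Statements.S15036
import Groth.Agent.Lib.NumSemigroup.Basic
-- import your own Groth.Agent.* helpers here

set_option autoImplicit false
open TFCurv

namespace Groth.Agent.S15036
open Groth.Agent

/-- Let Γ be a numerical semigroup (a submonoid of (ℕ, +) with finite complement), Γ ≠ ℕ, with conductor
c (every n ≥ c lies in Γ, c − 1 does not); let S ⊆ ℕ be a Γ-module in normal form (0 ∈ S, γ + s ∈ S
for γ ∈ Γ, s ∈ S) with conductor c(S) (all n ≥ c(S) in S, c(S) − 1 ∉ S), and let s be a gap of S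
such that S ∪ {s} is again a Γ-module. Enumerate S increasingly as s_0 < s_1 < ⋯ and put τ_i(S) =
s_i + ℓ(S), where ℓ counts the gaps of Γ filled; since ℓ(S ∪ {s}) = ℓ(S) + 1, the termwise
comparison τ(S) ≤ τ(S ∪ {s}) says that the i-th element of S is at most one more than the i-th
element of S ∪ {s} for every i. This holds if and only if s = c(S) − 1, the largest gap of S. -/
theorem result (Γ : AddSubmonoid ℕ) (c : ℕ) (hc : ∀ n : ℕ, c ≤ n → n ∈ Γ) (hc0 : c ≠ 0) (hc1 : c - 1 ∉ Γ) (S : Set ℕ) (hS0 : (0 : ℕ) ∈ S) (hS : ∀ γ : ℕ, γ ∈ Γ → ∀ s : ℕ, s ∈ S → γ + s ∈ S) (cS : ℕ) (hcS : ∀ n : ℕ, cS ≤ n → n ∈ S) (hcS0 : cS ≠ 0) (hcS1 : cS - 1 ∉ S) (s : ℕ) (hs : s ∉ S) (hs' : ∀ γ : ℕ, γ ∈ Γ → γ ≠ 0 → s + γ ∈ S) : (∀ i : ℕ, Nat.nth (fun m => m ∈ S) i ≤ Nat.nth (fun m => m ∈ insert s S) i + 1) ↔ s + 1 = cS := by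
  classical
  have hinf := NumSemigroup.infinite_of_cofinite hcS
  have hinf' := NumSemigroup.infinite_of_cofinite (S := insert s S) (cS := cS)
    fun n hn => Or.inr (hcS n hn)
  have hscS : s < cS := not_le.1 fun h => hs (hcS s h)
  constructor
  · intro h
    have hall : ∀ m, s < m → m ∈ S := by
      intro m hm
      set i := Nat.count (fun m => m ∈ S) m with hi
      have h1 : m ≤ Nat.nth (fun m => m ∈ S) i := Nat.le_nth_count hinf m
      have h2 : Nat.nth (fun m => m ∈ insert s S) i < m := by
        apply Nat.nth_lt_of_lt_count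
        rw [NumSemigroup.count_insert_of_lt hs hm]
        omega
      have h3 := h i
      rw [show m = Nat.nth (fun m => m ∈ S) i by omega]
      exact Nat.nth_mem_of_infinite hinf i
    by_contra hne
    exact hcS1 (hall _ (by omega))
  · rintro rfl i
    have hall : ∀ m, s < m → m ∈ S := fun m hm => hcS m hm
    set m := Nat.nth (fun m => m ∈ insert s S) i with hm
    have hci : Nat.count (fun m => m ∈ insert s S) m = i := Nat.count_nth_of_infinite hinf' i
    suffices i < Nat.count (fun m => m ∈ S) (m + 1 + 1) by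
      have := Nat.nth_lt_of_lt_count this
      omega
    rw [Nat.count_succ, Nat.count_succ]
    rcases lt_trichotomy m s with h | h | h
    · rw [NumSemigroup.count_insert_of_le h.le] at hci
      have hmS : m ∈ S :=
        (Nat.nth_mem_of_infinite hinf' i : m ∈ insert s S).resolve_left h.ne
      rw [if_pos hmS]
      omega
    · rw [NumSemigroup.count_insert_of_le h.le] at hci
      rw [if_pos (hall _ (by omega : s < m + 1))]
      omega
    · rw [NumSemigroup.count_insert_of_lt hs h] at hci
      rw [if_pos (hall _ h), if_pos (hall _ (by omega : s < m + 1))]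
      omega

end Groth.Agent.S15036
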