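import Groth.Statements.S15038
import Groth.Agent.Lib.NumSemigroup.Basic
-- import your own Groth.Agent.* helpers here

set_option autoImplicit false
open TFCurv

namespace Groth.Agent.S15038
open Groth.Agent

/-- Let Γ be a numerical semigroup (a submonoid of (ℕ, +) with finite complement), Γ ≠ ℕ, with conductor
c (every n ≥ c lies in Γ, c − 1 does not). If Γ is symmetric (for x < c, x is a gap exactly when c −
1 − x ∈ Γ) and its multiplicity e, the least nonzero element of Γ, is greater than 2, then Γ is
generated as an additive monoid by at most e − 1 elements. -/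
theorem result (Γ : AddSubmonoid ℕ) (c : ℕ) (hc : ∀ n : ℕ, c ≤ n → n ∈ Γ) (hc0 : c ≠ 0) (hc1 : c - 1 ∉ Γ) (hsymm : ∀ x : ℕ, x < c → (x ∉ Γ ↔ c - 1 - x ∈ Γ)) (e : ℕ) (he : e ∈ Γ) (he0 : e ≠ 0) (hemin : ∀ γ : ℕ, γ ∈ Γ → γ ≠ 0 → e ≤ γ) (he2 : 2 < e) : ∃ G : Finset ℕ, G.card ≤ e - 1 ∧ AddSubmonoid.closure (↑G : Set ℕ) = Γ := by
  classical
  have h1 : (1 : ℕ) ∉ Γ := fun h => by have := hemin 1 h one_ne_zero; omega
  have h2 : (2 : ℕ) ∉ Γ := fun h => by have := hemin 2 h two_ne_zero; omega
  let w := c - 1 + e
  let Ap : Finset ℕ := (Finset.range (c + e)).filter fun n => n ∈ Γ ∧ (e ≤ n → n - e ∉ Γ)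
  refine ⟨insert e ((Ap.erase 0).erase w), ?_, ?_⟩
  · have hinj : Set.InjOn (fun a => a % e) (Ap : Set ℕ) := by
      have key : ∀ a ∈ Ap, ∀ b ∈ Ap, a < b → a % e = b % e → False := by
        intro a ha b hb hab h
        obtain ⟨k, hk⟩ := (Nat.modEq_iff_dvd' hab.le).1 h
        rcases Nat.eq_zero_or_pos k with rfl | hk0
        · simp at hk; omega
        · have hek : e ≤ e * k := Nat.le_mul_of_pos_right e hk0
          have hbe : e ≤ b := by omega
          apply ((Finset.mem_filter.1 hb).2.2 hbe)
          have := add_mem (Finset.mem_filter.1 ha).2.1 (NumSemigroup.mul_mem he (k - 1))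
          rwa [show a + (k - 1) * e = b - e by rw [Nat.sub_mul, one_mul, mul_comm k e]; omega] at this
      intro a ha b hb h
      rcases lt_trichotomy a b with h' | h' | h'
      · exact (key a ha b hb h' h).elim
      · exact h'
      · exact (key b hb a ha h' h.symm).elim
    have hcard : Ap.card ≤ e := by
      refine (Finset.card_le_card_of_injOn (fun a => a % e) (fun a _ => ?_) hinj).trans
        (le_of_eq (Finset.card_range e))
      exact Finset.mem_range.2 (Nat.mod_lt _ (by omega))
    have h0 : 0 ∈ Ap := by
      simp only [Ap, Finset.mem_filter, Finset.mem_range]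
      exact ⟨by omega, Γ.zero_mem, fun h => by omega⟩
    have hw : w ∈ Ap.erase 0 := by
      simp only [Ap, Finset.mem_erase, Finset.mem_filter, Finset.mem_range, w]
      refine ⟨by omega, by omega, hc _ (by omega), fun _ => ?_⟩
      rwa [Nat.add_sub_cancel]
    have := Finset.card_insert_le e ((Ap.erase 0).erase w)
    rw [Finset.card_erase_of_mem hw, Finset.card_erase_of_mem h0] at this
    omega
  · refine le_antisymm (AddSubmonoid.closure_le.2 ?_) fun n hn => ?_
    · intro x hx
      simp only [Finset.coe_insert, Set.mem_insert_iff, Finset.mem_coe, Finset.mem_erase, Ap,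
        Finset.mem_filter] at hx
      rcases hx with rfl | h
      · exact he
      · exact h.2.2.2.1
    induction n using Nat.strong_induction_on with
    | _ n ih =>
      rcases Nat.eq_zero_or_pos n with rfl | hn0
      · exact zero_mem _
      by_cases hsub : e ≤ n ∧ n - e ∈ Γ
      · rw [show n = e + (n - e) by omega]
        exact add_mem (AddSubmonoid.subset_closure (Finset.mem_coe.2 (Finset.mem_insert_self _ _)))
          (ih _ (by omega) hsub.2)
      push Not at hsub
      by_cases hnw : n = w
      · obtain ⟨a, ha, ha0, hac, han, hna⟩ :=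
          NumSemigroup.exists_decomp hc hc0 hsymm h1 h2 (n := n) (by omega)
        rw [show n = a + (n - a) by omega]
        exact add_mem (ih _ (by omega) ha) (ih _ (by omega) hna)
      · refine AddSubmonoid.subset_closure (Finset.mem_coe.2 (Finset.mem_insert_of_mem ?_))
        simp only [Finset.mem_erase, Ap, Finset.mem_filter, Finset.mem_range]
        refine ⟨hnw, by omega, ?_, hn, hsub⟩
        by_contra hge
        exact hsub (by omega) (hc _ (by omega))

end Groth.Agent.S15038
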