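import Groth.Statements.S18772
import Groth.Agent.Lib.CurveCoh17.Birational
import Groth.Agent.Lib.SmoothReg17.Basic
import Groth.Agent.Lib.RefHull26.Local
import Groth.Agent.Lib.TensorMod.PullStalk
-- import your own Groth.Agent.* helpers here

set_option autoImplicit false
universe u
open CategoryTheory CategoryTheory.Limits AlgebraicGeometry
open TFNodal

namespace Groth.Agent.S18772

open Groth.Agent.M1 Groth.Agent.M2
open scoped TensorProduct

theorem eq_zero_of_stalk {Y : Scheme.{u}} {M N : Y.Modules} (φ : M ⟶ N)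
    (h : ∀ x z, (M1.stalkAb x).map φ z = 0) : φ = 0 := by
  refine Scheme.Modules.hom_ext _ _ fun U => ?_
  ext s
  refine M1.section_ext _ _ fun x hx => ?_
  refine ((M1.germ_naturality φ U x hx s).symm.trans (h x _)).trans ?_
  exact (map_zero _).symm

theorem injective_sp {Y : Scheme.{u}} {r : ℕ} {E : Y.Modules} (hE : FlatMod.IsFinLocFreeOfRank r E) {η y : Y}
    (h : η ⤳ y) [IsDomain (Y.presheaf.stalk y)] :
    Function.Injective (E.presheaf.stalkSpecializes h) := by
  rw [injective_iff_map_eq_zero]
  intro v hv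
  obtain ⟨e⟩ := CurveCoh17.nonempty_stalk_equiv hE y
  haveI : Module.IsTorsionFree (Y.presheaf.stalk y) (E.presheaf.stalk y) :=
    Function.Injective.moduleIsTorsionFree _ e.injective fun c a => map_smul e c a
  haveI : Coh.IsQCoh E := M2.isQCoh_of_isFinLocFree (M2.isFinLocFree_of_ofRank hE)
  obtain ⟨U, hU, hxU, -⟩ := exists_isAffineOpen_mem_and_subset (x := y) (U := (⊤ : Y.Opens)) trivial
  have hηU : η ∈ U := h.mem_open U.2 hxU
  obtain ⟨a, m, ha, he⟩ := M1.exists_germ_smul_eq E hU hxU v
  have hm : E.presheaf.germ U η hηU m = 0 := by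
    have e := congrArg (E.presheaf.stalkSpecializes h) he
    rw [Cyc26.stalkSpecializes_smul, hv, smul_zero, TopCat.Presheaf.germ_stalkSpecializes_apply] at e
    exact e.symm
  obtain ⟨s, hs, hsm⟩ := M1.exists_smul_eq_zero_of_germ_eq_zero E hU hηU m hm
  have hs0 : Y.presheaf.germ U y hxU s ≠ 0 := fun h0 => by
    have := congrArg (Y.presheaf.stalkSpecializes h) h0
    rw [TopCat.Presheaf.germ_stalkSpecializes_apply, map_zero] at this
    exact hs.ne_zero this
  have e : Y.presheaf.germ U y hxU s • E.presheaf.germ U y hxU m = 0 := by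
    rw [← M1.germ_smul E hxU, hsm, map_zero]
  rw [smul_eq_zero_iff_right hs0] at e
  rw [e] at he
  exact ha.smul_eq_zero.1 he

/-- Let k be algebraically closed of characteristic zero, X a connected proper curve over k (dimension
one) whose closed points are smooth points or nodes, and π : Y → X its normalization, given as a
finite morphism from a smooth k-scheme that is an isomorphism over the complement U of the nodes
with dense preimage of U; let F be a coherent O_X-module, torsion free of rank r with type a(x) at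
each node x (stalk free of rank r off the nodes, isomorphic to O_x^{a(x)} ⊕ m_x^{r − a(x)} at a node
x). Let p : π^*F → E₀ be an epimorphism onto a locally free O_Y-module of rank r and β : F → π_*E₀
the composite of the unit with π_*p. Then every monomorphism f : F → π_*E into the direct image of a
locally free O_Y-module E of rank r factors as β followed by π_*λ for exactly one λ : E₀ → E. -/
theorem result (k : Type u) [Field k] [IsAlgClosed k] [CharZero k]
    (X : Scheme.{u}) [X.Over (Spec (CommRingCat.of k))] [IsProper (X ↘ Spec (CommRingCat.of k))]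
    [ConnectedSpace X] (hdim : topologicalKrullDim X = 1) (hnod : Curv2.AtWorstNodal k X)
    (Y : Scheme.{u}) (π : Y ⟶ X) [IsFinite π] [Smooth (π ≫ (X ↘ Spec (CommRingCat.of k)))]
    (U : X.Opens) (hU : ∀ x : X, x ∈ U ↔ ¬ Curv2.IsNode k X x) (hUiso : IsIso (π ∣_ U))
    (hUd : Dense ((π ⁻¹ᵁ U : Y.Opens) : Set Y))
    (r : ℕ) (F : X.Modules) (hF : Coh.IsCoh F) (a : X → ℕ)
    (hfree : ∀ x : X, ¬ Curv2.IsNode k X x →
      Nonempty (F.presheaf.stalk x ≃ₗ[X.presheaf.stalk x] (Fin r → X.presheaf.stalk x)))
    (htype : ∀ x : X, Curv2.IsNode k X x → a x ≤ r ∧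
      Nonempty (F.presheaf.stalk x ≃ₗ[X.presheaf.stalk x]
        ((Fin (a x) → X.presheaf.stalk x) × (Fin (r - a x) → IsLocalRing.maximalIdeal (X.presheaf.stalk x)))))
    (E₀ : Y.Modules) (hE₀ : FlatMod.IsFinLocFreeOfRank r E₀)
    (p : (Scheme.Modules.pullback π).obj F ⟶ E₀) [Epi p]
    (E : Y.Modules) (hE : FlatMod.IsFinLocFreeOfRank r E)
    (f : F ⟶ (Scheme.Modules.pushforward π).obj E) [Mono f] :
    ∃! lam : E₀ ⟶ E, (Scheme.Modules.pullbackPushforwardAdjunction π).unit.app F ≫
      (Scheme.Modules.pushforward π).map p ≫ (Scheme.Modules.pushforward π).map lam = f := by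
  classical
  haveI : IsLocallyNoetherian X := LocallyOfFiniteType.isLocallyNoetherian (X ↘ Spec (CommRingCat.of k))
  haveI : CompactSpace X := QuasiCompact.compactSpace_of_compactSpace (X ↘ Spec (CommRingCat.of k))
  haveI : IsLocallyNoetherian Y := LocallyOfFiniteType.isLocallyNoetherian π
  haveI : CompactSpace Y := QuasiCompact.compactSpace_of_compactSpace π
  haveI : IsNoetherian Y := {}
  haveI : ∀ y : Y, IsDomain (Y.presheaf.stalk y) :=
    SmoothReg17.isDomain_stalk (π ≫ (X ↘ Spec (CommRingCat.of k)))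
  let ad := Scheme.Modules.pullbackPushforwardAdjunction π
  let g : (Scheme.Modules.pullback π).obj F ⟶ E := (ad.homEquiv _ _).symm f
  have hadj : ∀ lam : E₀ ⟶ E, (ad.unit.app F ≫ (Scheme.Modules.pushforward π).map p ≫
      (Scheme.Modules.pushforward π).map lam = f) ↔ p ≫ lam = g := fun lam => by
    rw [← Functor.map_comp]
    show (ad.homEquiv _ _) (p ≫ lam) = f ↔ _
    rw [← Equiv.eq_symm_apply]
  have hsurj : ∀ y, Function.Surjective ((M1.stalkAb y).map p) := (M1.epi_iff_stalk p).1 inferInstance
  have hker : kernel.ι p ≫ g = 0 := by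
    refine eq_zero_of_stalk _ fun y z => ?_
    obtain ⟨η, hη, hmax⟩ := CurveCoh17.exists_maximal_generization y
    refine injective_sp hE hη (Eq.trans ?_ (map_zero (E.presheaf.stalkSpecializes hη).hom).symm)
    have hηU : η ∈ π ⁻¹ᵁ U := CurveCoh17.mem_of_dense_of_maximal hUd hmax
    obtain ⟨e⟩ := hfree (π η) ((hU _).1 hηU)
    obtain ⟨e₀⟩ := CurveCoh17.nonempty_stalk_equiv hE₀ η
    let T : ((Scheme.Modules.pullback π).obj F).presheaf.stalk η ≃ₗ[Y.presheaf.stalk η]
        (Fin r → Y.presheaf.stalk η) :=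
      (M2.pullStalkEquiv π η F).symm ≪≫ₗ (LinearEquiv.baseChange _ _ _ _ e) ≪≫ₗ
        TensorProduct.piScalarRight _ _ _ _
    let q : (Fin r → Y.presheaf.stalk η) →ₗ[Y.presheaf.stalk η] (Fin r → Y.presheaf.stalk η) :=
      e₀.toLinearMap ∘ₗ CurveCoh17.stalkLin p η ∘ₗ T.symm.toLinearMap
    have hq : Function.Surjective q :=
      e₀.surjective.comp ((hsurj η).comp T.symm.surjective)
    have hqi := OrzechProperty.injective_of_surjective_endomorphism q hq
    have hpi : Function.Injective (CurveCoh17.stalkLin p η) := fun a b hab => T.injective (hqi (by simp [q, hab]))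
    obtain ⟨z', hz'⟩ : ∃ z', z' = (M1.stalkAb η).map (kernel.ι p) ((kernel p).presheaf.stalkSpecializes hη z) := ⟨_, rfl⟩
    have h0 : z' = 0 := hpi (Eq.trans ?_ (map_zero (CurveCoh17.stalkLin p η)).symm)
    swap
    · show (M1.stalkAb η).map p z' = 0
      rw [hz']
      show ((M1.stalkAb η).map (kernel.ι p) ≫ (M1.stalkAb η).map p) _ = 0
      rw [← Functor.map_comp, kernel.condition, Functor.map_zero]
      rfl
    refine (ConcreteCategory.congr_hom (TopCat.Presheaf.stalkSpecializes_stalkFunctor_map
      (kernel.ι p ≫ g).mapPresheaf hη) z).symm.trans ?_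
    show (M1.stalkAb η).map (kernel.ι p ≫ g) _ = 0
    rw [Functor.map_comp]
    show (M1.stalkAb η).map g ((M1.stalkAb η).map (kernel.ι p) _) = 0
    exact (congrArg ((M1.stalkAb η).map g) (hz'.symm.trans h0)).trans (map_zero _)
  obtain ⟨lam, hlam⟩ := CokernelCofork.IsColimit.desc' (Abelian.epiIsCokernelOfKernel _ (kernelIsKernel p)) g hker
  exact ⟨lam, (hadj lam).2 hlam, fun l hl => (cancel_epi p).1 (((hadj l).1 hl).trans hlam.symm)⟩

end Groth.Agent.S18772
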