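import Groth.Statements.S15039
import Groth.Agent.Lib.PushStab17.Norm
import Groth.Agent.Lib.TFNodal17.Push
import Groth.Agent.Lib.RefHull26.Misc
import Groth.Agent.Lib.RefHull26.Local
import Groth.Agent.Lib.RefHull26.Free
import Groth.Agent.Lib.VB17.Proper
import Groth.Agent.Lib.DirImg11.Basic
import Groth.Agent.S18772
import Groth.Agent.S1585
-- import your own Groth.Agent.* helpers here

set_option autoImplicit false
universe u
open CategoryTheory CategoryTheory.Limits AlgebraicGeometry
open TFCurv

open TopologicalSpace Opposite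
open scoped TensorProduct

namespace Groth.Agent.S15039

open Groth.Agent Groth.Agent.M1 Groth.Agent.M2 Groth.Agent.CurveCoh17

set_option backward.isDefEq.respectTransparency false
set_option backward.isDefEq.respectTransparency.types false
set_option maxHeartbeats 1000000

theorem bijective_one_tmul {K K' M : Type u} [CommRing K] [CommRing K'] [Algebra K K'] [AddCommGroup M] [Module K M]
    (h : Function.Bijective (algebraMap K K')) : Function.Bijective fun a : M => (1 : K') ⊗ₜ[K] a := by
  let el : K ≃ₗ[K] K' := LinearEquiv.ofBijective (Algebra.linearMap K K') h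
  have he : (fun a : M => (1 : K') ⊗ₜ[K] a) = (LinearEquiv.rTensor M el) ∘ (TensorProduct.lid K M).symm := by
    funext a
    simp [el]
  rw [he]
  exact (LinearEquiv.rTensor M el).bijective.comp (TensorProduct.lid K M).symm.bijective

variable {X Y : Scheme.{u}}

/-- Injectivity of specialisation, for the generic point named otherwise. -/
theorem injective_sp' [IsIntegral Y] {E : Y.Modules} (hq : Coh.IsQCoh E) (ht : TorSh.IsTorsionFree E) {η y : Y}
    (hη : η = genericPoint Y) (h : η ⤳ y) : Function.Injective (E.presheaf.stalkSpecializes h) := by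
  subst hη
  haveI := ht y
  exact RH26.injective_sp_of_isTorsionFree hq y

theorem stalk_sp {A B : Y.Modules} (φ : A ⟶ B) {η y : Y} (h : η ⤳ y) (z : A.presheaf.stalk y) :
    stalkLin φ η (A.presheaf.stalkSpecializes h z) = B.presheaf.stalkSpecializes h (stalkLin φ y z) :=
  ConcreteCategory.congr_hom (TopCat.Presheaf.stalkSpecializes_stalkFunctor_map φ.mapPresheaf h) z

theorem section_eq_zero [IsIntegral Y] {E : Y.Modules} (hq : Coh.IsQCoh E) (ht : TorSh.IsTorsionFree E) {W : Y.Opens}
    (hη : genericPoint Y ∈ W) (s : Γ(E, W)) (h : E.presheaf.germ W (genericPoint Y) hη s = 0) : s = 0 := by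
  refine M1.section_ext _ _ fun y hy => injective_sp' hq ht rfl (genericPoint_specializes y) ?_
  rw [map_zero, map_zero, TopCat.Presheaf.germ_stalkSpecializes_apply]
  exact h

theorem hom_eq_zero [IsIntegral Y] {A B : Y.Modules} (hq : Coh.IsQCoh B) (ht : TorSh.IsTorsionFree B) (φ : A ⟶ B)
    (h : ∀ a, stalkLin φ (genericPoint Y) a = 0) : φ = 0 := by
  refine S18772.eq_zero_of_stalk _ fun y z => injective_sp' hq ht rfl (genericPoint_specializes y) ?_
  show _ = _
  rw [map_zero]
  exact (stalk_sp φ (genericPoint_specializes y) z).symm.trans (h _)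

theorem isTorsionFree_of_rank [IsIntegral Y] {n : ℕ} {E : Y.Modules} (hE : FlatMod.IsFinLocFreeOfRank n E) :
    TorSh.IsTorsionFree E := fun y => by
  obtain ⟨e⟩ := CurveCoh17.nonempty_stalk_equiv hE y
  exact Function.Injective.moduleIsTorsionFree _ e.injective fun c a => map_smul e c a

section Counit

variable (π : Y ⟶ X)

theorem counit_app_pullSec' (M : Y.Modules) {V : X.Opens} (s : Γ((Scheme.Modules.pushforward π).obj M, V)) :
    ((Scheme.Modules.pullbackPushforwardAdjunction π).counit.app M).app (π ⁻¹ᵁ V)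
      (M2.pullSec π ((Scheme.Modules.pushforward π).obj M) s) = (s : Γ(M, π ⁻¹ᵁ V)) :=
  congr(($((Scheme.Modules.pullbackPushforwardAdjunction π).right_triangle_components M)).app V s)

theorem stalk_counit_tmul (M : Y.Modules) {y : Y} {V : X.Opens} (hy : π y ∈ V)
    (s : Γ((Scheme.Modules.pushforward π).obj M, V)) :
    stalkLin ((Scheme.Modules.pullbackPushforwardAdjunction π).counit.app M) y
      (M2.pullStalkEquiv π y ((Scheme.Modules.pushforward π).obj M)
        (1 ⊗ₜ ((Scheme.Modules.pushforward π).obj M).presheaf.germ V (π y) hy s)) =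
      M.presheaf.germ (π ⁻¹ᵁ V) y hy (s : Γ(M, π ⁻¹ᵁ V)) := by
  rw [M2.pullStalkEquiv_tmul]
  exact (M1.germ_naturality _ (π ⁻¹ᵁ V) y hy _).trans (congrArg _ (counit_app_pullSec' π M s))

theorem epi_counit [IsAffineHom π] (M : Y.Modules) (hM : Coh.IsQCoh M) :
    Epi ((Scheme.Modules.pullbackPushforwardAdjunction π).counit.app M) := by
  refine (M1.epi_iff_stalk _).2 fun y a => ?_
  obtain ⟨V, hV, hyV, -⟩ := exists_isAffineOpen_mem_and_subset (x := π y) (U := (⊤ : X.Opens)) trivial
  haveI := hM
  obtain ⟨r, m, hr, he⟩ := M1.exists_germ_smul_eq M (hV.preimage π) (show y ∈ π ⁻¹ᵁ V from hyV) a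
  refine ⟨(hr.unit⁻¹).1 • M2.pullStalkEquiv π y ((Scheme.Modules.pushforward π).obj M)
    (1 ⊗ₜ ((Scheme.Modules.pushforward π).obj M).presheaf.germ V (π y) hyV m), ?_⟩
  show stalkLin _ y _ = a
  rw [map_smul, stalk_counit_tmul, ← he, smul_smul, hr.val_inv_mul, one_smul]

variable (U : X.Opens) [IsIso (π ∣_ U)]

theorem bijective_stalkMap [IsIntegral Y] (h : genericPoint Y ∈ π ⁻¹ᵁ U) :
    Function.Bijective (π.stalkMap (genericPoint Y)) := by
  haveI : IsIso ((π ∣_ U).stalkMap ⟨genericPoint Y, h⟩) := inferInstance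
  have h1 : IsIso (π.stalkMap (genericPoint Y)) :=
    ((MorphismProperty.isomorphisms CommRingCat.{u}).arrow_mk_iso_iff
      (morphismRestrictStalkMap π U ⟨genericPoint Y, h⟩)).1
      ((MorphismProperty.isomorphisms.iff _).2 inferInstance) |> (MorphismProperty.isomorphisms.iff _).1
  exact ConcreteCategory.bijective_of_isIso (π.stalkMap (genericPoint Y))

theorem injective_stalk_counit [IsIntegral Y] (h : genericPoint Y ∈ π ⁻¹ᵁ U) {E : Y.Modules} (hq : Coh.IsQCoh E)
    (ht : TorSh.IsTorsionFree E) :
    Function.Injective (stalkLin ((Scheme.Modules.pullbackPushforwardAdjunction π).counit.app E) (genericPoint Y)) := by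
  rw [injective_iff_map_eq_zero]
  intro a ha
  obtain ⟨d, rfl⟩ := (M2.pullStalkEquiv π (genericPoint Y) _).surjective a
  obtain ⟨m, rfl⟩ := (bijective_one_tmul (bijective_stalkMap π U h)).2 d
  obtain ⟨V, hV, s, rfl⟩ := ((Scheme.Modules.pushforward π).obj E).presheaf.exists_germ_eq m
  rw [stalk_counit_tmul] at ha
  have hs : (s : Γ(E, π ⁻¹ᵁ V)) = 0 := section_eq_zero hq ht (show genericPoint Y ∈ π ⁻¹ᵁ V from hV) _ ha
  rw [show ((Scheme.Modules.pushforward π).obj E).presheaf.germ V (π (genericPoint Y)) hV s = 0 from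
    (congrArg _ hs).trans (map_zero _)]
  show M2.pullStalkEquiv π (genericPoint Y) ((Scheme.Modules.pushforward π).obj E) (1 ⊗ₜ 0) = 0
  rw [TensorProduct.tmul_zero, map_zero]

theorem exists_desc_counit [IsIntegral Y] [IsAffineHom π] (h : genericPoint Y ∈ π ⁻¹ᵁ U) {E E' : Y.Modules}
    (hq : Coh.IsQCoh E) (ht : TorSh.IsTorsionFree E) (hq' : Coh.IsQCoh E') (ht' : TorSh.IsTorsionFree E')
    (φ : (Scheme.Modules.pushforward π).obj E ⟶ (Scheme.Modules.pushforward π).obj E') :
    ∃ ψ : E ⟶ E', (Scheme.Modules.pullbackPushforwardAdjunction π).counit.app E ≫ ψ =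
      (Scheme.Modules.pullback π).map φ ≫ (Scheme.Modules.pullbackPushforwardAdjunction π).counit.app E' := by
  haveI := epi_counit π E hq
  let ε := (Scheme.Modules.pullbackPushforwardAdjunction π).counit.app E
  let g := (Scheme.Modules.pullback π).map φ ≫ (Scheme.Modules.pullbackPushforwardAdjunction π).counit.app E'
  have hk : kernel.ι ε ≫ g = 0 := by
    refine hom_eq_zero hq' ht' _ fun a => ?_
    have h0 : stalkLin (kernel.ι ε) (genericPoint Y) a = 0 := by
      refine injective_stalk_counit π U h hq ht ?_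
      rw [map_zero, ← stalkLin_comp, kernel.condition]
      exact M1.stalkAb_map_zero _ _
    rw [stalkLin_comp, h0, map_zero]
  obtain ⟨ψ, hψ⟩ := CokernelCofork.IsColimit.desc' (Abelian.epiIsCokernelOfKernel _ (kernelIsKernel ε)) g hk
  exact ⟨ψ, hψ⟩

theorem nonempty_iso_of_push_iso [IsIntegral Y] [IsAffineHom π] (h : genericPoint Y ∈ π ⁻¹ᵁ U) {E E' : Y.Modules}
    (hq : Coh.IsQCoh E) (ht : TorSh.IsTorsionFree E) (hq' : Coh.IsQCoh E') (ht' : TorSh.IsTorsionFree E')
    (e : (Scheme.Modules.pushforward π).obj E ≅ (Scheme.Modules.pushforward π).obj E') : Nonempty (E ≅ E') := by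
  obtain ⟨ψ, hψ⟩ := exists_desc_counit π U h hq ht hq' ht' e.hom
  obtain ⟨ψ', hψ'⟩ := exists_desc_counit π U h hq' ht' hq ht e.inv
  haveI := epi_counit π E hq
  haveI := epi_counit π E' hq'
  refine ⟨⟨ψ, ψ', ?_, ?_⟩⟩
  · rw [← cancel_epi ((Scheme.Modules.pullbackPushforwardAdjunction π).counit.app E), reassoc_of% hψ, hψ',
      ← Functor.map_comp_assoc, e.hom_inv_id, CategoryTheory.Functor.map_id, Category.id_comp]
    exact (Category.comp_id _).symm
  · rw [← cancel_epi ((Scheme.Modules.pullbackPushforwardAdjunction π).counit.app E'), reassoc_of% hψ', hψ,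
      ← Functor.map_comp_assoc, e.inv_hom_id, CategoryTheory.Functor.map_id, Category.id_comp]
    exact (Category.comp_id _).symm

end Counit

section Exist

variable [IsIntegral X] [IsIntegral Y] (π : Y ⟶ X) [IsFinite π] (hη : π (genericPoint Y) = genericPoint X)

include hη

theorem push_smul_eq_zero {E : Y.Modules} (hq : Coh.IsQCoh E) (ht : TorSh.IsTorsionFree E)
    (hb : Function.Bijective (π.stalkMap (genericPoint Y))) {x : X} {c : X.presheaf.stalk x} (hc : c ≠ 0)
    (d : ((Scheme.Modules.pushforward π).obj E).presheaf.stalk x) (h : c • d = 0) : d = 0 := by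
  obtain ⟨A, hxA, r, rfl⟩ := X.presheaf.germ_exist c
  obtain ⟨B, hxB, s, rfl⟩ := ((Scheme.Modules.pushforward π).obj E).presheaf.exists_germ_eq d
  have hAB : x ∈ A ⊓ B := ⟨hxA, hxB⟩
  rw [← X.presheaf.germ_res_apply (homOfLE (inf_le_left : A ⊓ B ≤ A)) x hAB r,
    ← M1.germ_mres ((Scheme.Modules.pushforward π).obj E) (inf_le_right : A ⊓ B ≤ B) hAB s,
    ← M1.germ_smul _ hAB] at h
  obtain ⟨W, hxW, i, i', e0⟩ := ((Scheme.Modules.pushforward π).obj E).presheaf.germ_eq x hAB hAB _ 0
    (h.trans (map_zero _).symm)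
  have hηW : genericPoint X ∈ W := (genericPoint_specializes x).mem_open W.2 hxW
  have hη' : genericPoint Y ∈ π ⁻¹ᵁ W := show π (genericPoint Y) ∈ W from hη ▸ hηW
  set r' := X.presheaf.map i.op (X.presheaf.map (homOfLE (inf_le_left : A ⊓ B ≤ A)).op r) with hr'
  set s' := M1.mres ((Scheme.Modules.pushforward π).obj E) i.le
    (M1.mres ((Scheme.Modules.pushforward π).obj E) (inf_le_right : A ⊓ B ≤ B) s) with hs'
  have e1 : r' • s' = 0 := by
    refine Eq.trans ?_ (e0.trans (map_zero _))
    exact (Scheme.Modules.map_smul _ _ _ _).symm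
  have hne : Y.presheaf.germ (π ⁻¹ᵁ W) (genericPoint Y) hη' (π.app W r') ≠ 0 := by
    rw [← Scheme.Hom.germ_stalkMap_apply π W (genericPoint Y) hη']
    intro h0
    have h1 : X.presheaf.germ W (π (genericPoint Y)) hη' r' = 0 := hb.1 (h0.trans (map_zero _).symm)
    have hsp : π (genericPoint Y) ⤳ x := hη ▸ genericPoint_specializes x
    have h2 : X.presheaf.stalkSpecializes hsp (X.presheaf.germ A x hxA r) = 0 := by
      rw [TopCat.Presheaf.germ_stalkSpecializes_apply, ← h1, hr', TopCat.Presheaf.germ_res_apply,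
        TopCat.Presheaf.germ_res_apply]
    refine hc ?_
    have key : ∀ {ξ : X} (hξ : ξ = genericPoint X) (hs : ξ ⤳ x),
        Function.Injective (X.presheaf.stalkSpecializes hs) := by
      intro ξ hξ hs; subst hξ; exact RH26.sp_injective x
    exact key hη hsp (h2.trans (map_zero _).symm)
  have h3 : (s' : Γ(E, π ⁻¹ᵁ W)) = 0 := by
    refine section_eq_zero hq ht hη' _ ?_
    have h4 : Y.presheaf.germ (π ⁻¹ᵁ W) (genericPoint Y) hη' (π.app W r') •
        E.presheaf.germ (π ⁻¹ᵁ W) (genericPoint Y) hη' (s' : Γ(E, π ⁻¹ᵁ W)) = 0 := by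
      rw [← M1.germ_smul E hη']
      exact (congrArg _ e1).trans (map_zero _)
    exact ((isUnit_iff_ne_zero.2 hne : IsUnit (show Y.functionField from _))).smul_eq_zero.1 h4
  have h5 : ((Scheme.Modules.pushforward π).obj E).presheaf.germ W x hxW s' = 0 :=
    (congrArg _ h3).trans (map_zero _)
  rwa [hs', M1.germ_mres, M1.germ_mres] at h5

theorem finrank_generic {F : X.Modules} {n : ℕ}
    (hF : ∀ x : X, Nonempty (F.presheaf.stalk x ≃ₗ[X.presheaf.stalk x]
      (Fin n → integralClosure (X.presheaf.stalk x) X.functionField))) :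
    Nonempty (F.presheaf.stalk (π (genericPoint Y)) ≃ₗ[X.presheaf.stalk (π (genericPoint Y))]
      (Fin n → X.presheaf.stalk (π (genericPoint Y)))) := by
  rw [hη]
  suffices H : ∀ x : X, x = genericPoint X → Function.Bijective (Algebra.linearMap (X.presheaf.stalk x)
      (integralClosure (X.presheaf.stalk x) X.functionField)) by
    obtain ⟨e⟩ := hF (genericPoint X)
    exact ⟨e ≪≫ₗ LinearEquiv.piCongrRight fun _ => (LinearEquiv.ofBijective _ (H _ rfl)).symm⟩
  intro x hx
  have hfield : IsField (X.presheaf.stalk x) := hx ▸ RH26.isField_η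
  refine ⟨fun a b h => IsFractionRing.injective (X.presheaf.stalk x) X.functionField
    (congrArg Subtype.val h), fun w => ?_⟩
  obtain ⟨a, ha⟩ := (IsField.localization_map_bijective (Rₘ := X.functionField)
    (M := nonZeroDivisors (X.presheaf.stalk x)) zero_notMem_nonZeroDivisors hfield).2 w.1
  exact ⟨a, Subtype.ext ha⟩

variable [IsNoetherian X] [IsNoetherian Y] (hY : Pi1.IsNormalScheme Y) (hdimY : topologicalKrullDim Y ≤ 1)
  (U : X.Opens) (hU : (U : Set X).Nonempty) [IsIso (π ∣_ U)]

include hY hdimY hU

theorem exists_push_iso (n : ℕ) (F : X.Modules) (hF : Coh.IsCoh F)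
    (hFs : ∀ x : X, Nonempty (F.presheaf.stalk x ≃ₗ[X.presheaf.stalk x]
      (Fin n → integralClosure (X.presheaf.stalk x) X.functionField))) :
    ∃ E : Y.Modules, FlatMod.IsFinLocFreeOfRank n E ∧ Nonempty ((Scheme.Modules.pushforward π).obj E ≅ F) := by
  have hmem : genericPoint Y ∈ π ⁻¹ᵁ U := by
    obtain ⟨x, hx⟩ := hU
    show π (genericPoint Y) ∈ U
    rw [hη]
    exact (genericPoint_specializes x).mem_open U.2 hx
  have hUd : Dense (U : Set X) := U.2.dense hU
  have hUd' : Dense ((π ⁻¹ᵁ U : Y.Opens) : Set Y) := (π ⁻¹ᵁ U).2.dense ⟨_, hmem⟩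
  have hb := bijective_stalkMap π U hmem
  haveI : Coh.IsQCoh F := hF.1
  have htF : TorSh.IsTorsionFree F := fun x => by
    obtain ⟨e⟩ := hFs x
    haveI : Module.IsTorsionFree (X.presheaf.stalk x) X.functionField := by
      refine Module.isTorsionFree_iff_smul_eq_zero.2 fun c v h => ?_
      rw [Algebra.smul_def, mul_eq_zero] at h
      exact h.imp_left fun h => IsFractionRing.injective (X.presheaf.stalk x) X.functionField (h.trans (map_zero _).symm)
    exact Function.Injective.moduleIsTorsionFree (fun a i => ((e a i : integralClosure _ _) : X.functionField))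
      (fun a b h => e.injective (funext fun i => Subtype.ext (congrFun h i))) fun c a => by
        funext i; simp
  let G := (Scheme.Modules.pullback π).obj F
  have hG : Coh.IsCoh G := M1.isCoh_pullback π hF
  haveI hdom : ∀ y : Y, IsDomain (Y.presheaf.stalk y) := fun y => (hY y).1
  haveI hpid : ∀ y : Y, IsPrincipalIdealRing (Y.presheaf.stalk y) := fun y =>
    RH26.isPrincipalIdealRing_of_normal hY ((VB17.ringKrullDim_stalk_le_topologicalKrullDim y).trans hdimY)
  let E := RefHull.ddual G
  let p : G ⟶ E := RefHull.bidualMap G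
  have hE : Coh.IsCoh E := RH26.isCoh_dual (RH26.isCoh_dual hG)
  have htE : TorSh.IsTorsionFree E := fun y =>
    RH26.isTorsionFree_of_injective_sp ((RH26.closed1_dual hY (RH26.isCoh_dual hG)).1 y)
  haveI hp : Epi p := (M1.epi_iff_stalk p).2 fun y => RH26.surjective_bidual_of_pid hG y
  have hpη : Function.Bijective (stalkLin p (genericPoint Y)) :=
    (RH26.bijective_bidual_stalk_iff hG _).2 (RH26.isReflexiveAt_generic hG)
  have hfl : FlatMod.IsFinLocFree E := RH26.isFinLocFree_of_stalks hE fun y => by
    haveI := htE y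
    exact RH26.free_of_isPrincipal hE
  obtain ⟨m, hm⟩ := VB17.exists_rank_of_isFinLocFree hfl
  have hmn : m = n := by
    obtain ⟨eF⟩ := finrank_generic π hη hFs
    let T : G.presheaf.stalk (genericPoint Y) ≃ₗ[Y.presheaf.stalk (genericPoint Y)]
        (Fin n → Y.presheaf.stalk (genericPoint Y)) :=
      (M2.pullStalkEquiv π (genericPoint Y) F).symm ≪≫ₗ (LinearEquiv.baseChange _ _ _ _ eF) ≪≫ₗ
        TensorProduct.piScalarRight _ _ _ _
    obtain ⟨e'⟩ := CurveCoh17.nonempty_stalk_equiv hm (genericPoint Y)
    have h := LinearEquiv.finrank_eq ((LinearEquiv.ofBijective _ hpη).symm ≪≫ₗ T)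
    rwa [e'.finrank_eq, Module.finrank_fin_fun, Module.finrank_fin_fun] at h
  subst hmn
  refine ⟨E, hm, ?_⟩
  let β := (Scheme.Modules.pullbackPushforwardAdjunction π).unit.app F ≫ (Scheme.Modules.pushforward π).map p
  haveI : IsIso β := by
    refine (M1.isIso_iff_stalk _).2 fun x => ⟨?_, ?_⟩
    · show Function.Injective (stalkLin β x)
      rw [injective_iff_map_eq_zero]
      intro a ha
      have hsp : π (genericPoint Y) ⤳ x := hη ▸ genericPoint_specializes x
      refine injective_sp' hF.1 htF hη hsp ?_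
      rw [map_zero]
      have h0 : stalkLin β (π (genericPoint Y)) (F.presheaf.stalkSpecializes hsp a) = 0 := by
        exact (stalk_sp β hsp a).trans ((congrArg _ ha).trans (map_zero _))
      obtain ⟨V, hV, s, hs⟩ := F.presheaf.exists_germ_eq (F.presheaf.stalkSpecializes hsp a)
      rw [← hs] at h0 ⊢
      have h1 : E.presheaf.germ (π ⁻¹ᵁ V) (genericPoint Y) hV (p.app (π ⁻¹ᵁ V) (M2.pullSec π F s)) = 0 := by
        have h2 := congrArg (TopCat.Presheaf.stalkPushforward AddCommGrpCat.{u} π.base E.presheaf (genericPoint Y)) h0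
        rw [map_zero] at h2
        refine Eq.trans ?_ h2
        refine Eq.trans ?_ (congrArg _ (M1.germ_naturality β V _ hV s).symm)
        exact (TopCat.Presheaf.stalkPushforward_germ_apply AddCommGrpCat.{u} π.base E.presheaf V (genericPoint Y) hV _).symm
      refine (bijective_one_tmul hb).1 ((M2.pullStalkEquiv π (genericPoint Y) F).injective (hpη.1 ?_))
      show stalkLin p (genericPoint Y) (M2.pullStalkEquiv π (genericPoint Y) F (1 ⊗ₜ _)) =
        stalkLin p (genericPoint Y) (M2.pullStalkEquiv π (genericPoint Y) F (1 ⊗ₜ 0))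
      rw [TensorProduct.tmul_zero, map_zero, map_zero, M2.pullStalkEquiv_tmul]
      exact (M1.germ_naturality p (π ⁻¹ᵁ V) (genericPoint Y) hV _).trans h1
    · show Function.Surjective (stalkLin β x)
      intro b
      haveI : Epi ((Scheme.Modules.pushforward π).map p) := DirImg11.epi_pushforward_map hG.1 hE.1 p
      obtain ⟨t, rfl⟩ := (M1.epi_iff_stalk ((Scheme.Modules.pushforward π).map p)).1 inferInstance x b
      obtain ⟨t, rfl⟩ := (TFNodal17.pushPullStalk π F x).surjective t
      induction t using TensorProduct.induction_on with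
      | zero => exact ⟨0, by rw [map_zero, map_zero]; exact (map_zero _).symm⟩
      | add a b ha hb =>
        obtain ⟨a', ha'⟩ := ha
        obtain ⟨b', hb'⟩ := hb
        exact ⟨a' + b', by rw [map_add, map_add, ha', hb']; exact (map_add _ _ _).symm⟩
      | tmul f s =>
        obtain ⟨eS, heS⟩ := NormStalk17.exists_stalk_equiv π hY U hUd hUd' x
        have he1 : eS (TFNodal17.u₁ π x) = 1 := by
          rw [← heS, stalkLin_apply, M1.germ_naturality]
          rfl
        obtain ⟨⟨a, c⟩, hac⟩ := IsLocalization.surj (nonZeroDivisors (X.presheaf.stalk x))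
          ((eS s : integralClosure _ _) : FractionRing (X.presheaf.stalk x))
        have hcs : (c : X.presheaf.stalk x) • s = a • TFNodal17.u₁ π x := by
          apply eS.injective
          rw [map_smul, map_smul, he1]
          refine Subtype.ext ?_
          show (c : X.presheaf.stalk x) • ((eS s : integralClosure _ _) : FractionRing (X.presheaf.stalk x)) =
            a • (1 : FractionRing (X.presheaf.stalk x))
          rw [Algebra.smul_def, Algebra.smul_def, mul_one, mul_comm]
          exact hac
        obtain ⟨eF⟩ := hFs x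
        let al := FractionRing.algEquiv (X.presheaf.stalk x) X.functionField
        let w : integralClosure (X.presheaf.stalk x) X.functionField :=
          ⟨al (eS s : integralClosure _ _).1, IsIntegral.map al.toAlgHom (eS s : integralClosure _ _).2⟩
        have hw : w * algebraMap (X.presheaf.stalk x) _ c = algebraMap (X.presheaf.stalk x) _ a := by
          refine Subtype.ext ?_
          show al (eS s : integralClosure _ _).1 * algebraMap (X.presheaf.stalk x) X.functionField c = _
          rw [← al.commutes, ← map_mul, hac, al.commutes]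
          rfl
        refine ⟨eF.symm fun i => w * eF f i, ?_⟩
        have hcg : (c : X.presheaf.stalk x) • eF.symm (fun i => w * eF f i) = a • f := by
          apply eF.injective
          rw [map_smul, map_smul, LinearEquiv.apply_symm_apply]
          funext i
          rw [Pi.smul_apply, Pi.smul_apply, Algebra.smul_def, Algebra.smul_def, ← mul_assoc,
            mul_comm _ w, hw]
        refine sub_eq_zero.1 (push_smul_eq_zero π hη hE.1 htE hb (nonZeroDivisors.ne_zero c.2) _ ?_)
        rw [smul_sub]
        show (c : X.presheaf.stalk x) • stalkLin β x _ -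
          (c : X.presheaf.stalk x) • stalkLin ((Scheme.Modules.pushforward π).map p) x _ = 0
        rw [← map_smul, ← map_smul, hcg, stalkLin_comp, TFNodal17.stalkLin_unit, ← map_smul, sub_eq_zero]
        refine congrArg (stalkLin _ x) (congrArg (TFNodal17.pushPullStalk π F x) ?_)
        rw [TFNodal17.jmap_apply, TensorProduct.smul_tmul, ← hcs, TensorProduct.tmul_smul]
  exact ⟨(asIso β).symm⟩

end Exist


/-- Let X be an integral proper curve (integral, proper, of dimension one) over an algebraically closed
field k, with normalisation ν : X~ → X, and write Õ_x for the integral closure of the local ring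
O_{X,x} in the function field of X. Then ν_* induces a bijection from isomorphism classes of locally
free modules of rank n on X~ to isomorphism classes of coherent O_X-modules all of whose stalks F_x
are isomorphic to Õ_x^n as O_{X,x}-modules: every such module is isomorphic to ν_*E for some locally
free E of rank n on X~, and two locally free modules of rank n on X~ with isomorphic direct images
are isomorphic. -/
theorem result (k : Type u) [Field k] [IsAlgClosed k] (X : Scheme.{u}) [X.Over (Spec (CommRingCat.of k))] [IsIntegral X] [IsProper (X ↘ Spec (CommRingCat.of k))] (hdim : topologicalKrullDim X = 1) [QuasiCompact (X.fromSpecStalk (genericPoint X))] [QuasiSeparated (X.fromSpecStalk (genericPoint X))] (n : ℕ) : (∀ F : X.Modules, Coh.IsCoh F → (∀ x : X, Nonempty (↑(F.presheaf.stalk x) ≃ₗ[↑(X.presheaf.stalk x)] (Fin n → ↥(integralClosure ↑(X.presheaf.stalk x) X.functionField)))) → ∃ E : (Curv2.normalization X).Modules, FlatMod.IsFinLocFreeOfRank n E ∧ Nonempty ((Coh.push (Curv2.normalizationι X)).obj E ≅ F)) ∧ (∀ E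 E' : (Curv2.normalization X).Modules, FlatMod.IsFinLocFreeOfRank n E → FlatMod.IsFinLocFreeOfRank n E' → Nonempty ((Coh.push (Curv2.normalizationι X)).obj E ≅ (Coh.push (Curv2.normalizationι X)).obj E') → Nonempty (E ≅ E')) := by
  haveI : IsNoetherian X := VB17.isNoetherian_of_over (k := k) (X := X)
  obtain ⟨hfin, hprop, ⟨U, hU, hiso⟩, hint, hdimY, hη⟩ := PushStab17.normalization_data k X hdim
  obtain ⟨-, -, -, -, hY⟩ := S1585.result k X
  haveI := hfin
  haveI := hint
  haveI := hiso
  haveI : IsLocallyNoetherian (Curv2.normalization X) := LocallyOfFiniteType.isLocallyNoetherian (Curv2.normalizationι X)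
  haveI : CompactSpace (Curv2.normalization X) := QuasiCompact.compactSpace_of_compactSpace (Curv2.normalizationι X)
  haveI : IsNoetherian (Curv2.normalization X) := {}
  refine ⟨fun F hF hFs => exists_push_iso (Curv2.normalizationι X) hη hY hdimY.le U hU n F hF hFs, ?_⟩
  intro E E' hE hE' ⟨e⟩
  have hmem : genericPoint (Curv2.normalization X) ∈ Curv2.normalizationι X ⁻¹ᵁ U := by
    obtain ⟨x, hx⟩ := hU
    show Curv2.normalizationι X (genericPoint (Curv2.normalization X)) ∈ U
    rw [hη]
    exact (genericPoint_specializes x).mem_open U.2 hx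
  exact nonempty_iso_of_push_iso (Curv2.normalizationι X) U hmem (CurveCoh17.isCoh_of_ofRank hE).1
    (isTorsionFree_of_rank hE) (CurveCoh17.isCoh_of_ofRank hE').1 (isTorsionFree_of_rank hE') e

end Groth.Agent.S15039
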