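import Groth.Statements.S15040
import Groth.Agent.Lib.CanDual17.ExtDual
-- import your own Groth.Agent.* helpers here

set_option autoImplicit false
universe u
open CategoryTheory
open TFCurv

set_option backward.isDefEq.respectTransparency.types false

namespace Groth.Agent.S15040
open Groth.Agent.CanDual17

/-- Let O be a one-dimensional Gorenstein local domain with algebraically closed residue field whose
integral closure O~ in its fraction field K is a finite O-module, and let M be an intermediate ring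
O ⊆ M ⊆ O~ (an overring of O), viewed as an O-module. Put M⁻¹ = {x ∈ K | x·M ⊆ O}, which lies in O
and is identified with an ideal of O. Then Ext¹_O(M, M) and Hom_O(M⁻¹, O/M⁻¹) are isomorphic abelian
groups (existence of an additive isomorphism only). -/
theorem result (O : Type u) [CommRing O] [IsDomain O] [LocCoh.IsGorensteinLocalRing O] (hdim : ringKrullDim O = 1) [IsAlgClosed (IsLocalRing.ResidueField O)] (K : Type u) [Field K] [Algebra O K] [IsFractionRing O K] (hfin : Module.Finite O ↥(integralClosure O K)) (M : Subalgebra O K) (hM : M ≤ integralClosure O K) : Nonempty (Abelian.Ext (ModuleCat.of O ↥M) (ModuleCat.of O ↥M) 1 ≃+ (↥((1 : Submodule O K) / Subalgebra.toSubmodule M) →ₗ[O] (O ⧸ Submodule.comap (Algebra.linearMap O K) ((1 : Submodule O K) / Subalgebra.toSubmodule M)))) := by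
  haveI := krullDimLE_of_dim hdim
  haveI := hasInjectiveDimensionLT_one (O := O) (K := K) hdim
  have hnf := not_isField_of_dim hdim
  let P : Submodule O K := Subalgebra.toSubmodule M
  have hPfg : P.FG := (Module.Finite.iff_fg.1 (show Module.Finite O ↥(Subalgebra.toSubmodule (integralClosure O K)) from hfin)).of_le hM
  have h1P : (1 : Submodule O K) ≤ P := fun x hx => by
    obtain ⟨r, rfl⟩ := Submodule.mem_one.1 hx
    exact M.algebraMap_mem r
  have hPs : Submodule.span K (P : Set K) = ⊤ := span_eq_top_mono h1P span_one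
  have hI : (1 : Submodule O K) / Subalgebra.toSubmodule M = dual (LinearMap.mul K K) 1 P := (dual_mul_eq_div 1 P).symm
  rw [hI]
  set I := dual (LinearMap.mul K K) 1 P with hIdef
  haveI : Module.Finite O ↥P := Module.Finite.iff_fg.2 hPfg
  haveI := isTorsionFree K P
  have hIfg : I.FG := dual_fg mul_bijective one_fg hPfg hPs
  haveI : Module.Finite O ↥I := Module.Finite.iff_fg.2 hIfg
  haveI := isTorsionFree K I
  have hI1 : I ≤ 1 := fun x hx => by simpa using hx 1 (h1P (Submodule.mem_one.2 ⟨1, map_one _⟩))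
  obtain ⟨e₁⟩ := nonempty_ext_addEquiv hnf (1 : Submodule O K) one_ne_bot one_fg 1 ↥P ↥P
  let ι : ModuleCat.of O (↥P →ₗ[O] ↥(1 : Submodule O K)) ≅ ModuleCat.of O ↥I :=
    (dualEquiv (LinearMap.mul K K) (1 : Submodule O K) mul_bijective hPs).symm.toModuleIso
  let e₂ : Abelian.Ext (ModuleCat.of O (↥P →ₗ[O] ↥(1 : Submodule O K))) (ModuleCat.of O (↥P →ₗ[O] ↥(1 : Submodule O K))) 1 ≃+
      Abelian.Ext (ModuleCat.of O ↥I) (ModuleCat.of O ↥I) 1 :=
    { toFun := fun x => ((Abelian.Ext.mk₀ ι.inv).comp x (zero_add 1)).comp (Abelian.Ext.mk₀ ι.hom) (add_zero 1)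
      invFun := fun x => ((Abelian.Ext.mk₀ ι.hom).comp x (zero_add 1)).comp (Abelian.Ext.mk₀ ι.inv) (add_zero 1)
      left_inv := fun x => by
        simp [Abelian.Ext.comp_assoc_of_second_deg_zero, Abelian.Ext.mk₀_comp_mk₀, Abelian.Ext.mk₀_comp_mk₀_assoc]
      right_inv := fun x => by
        simp [Abelian.Ext.comp_assoc_of_second_deg_zero, Abelian.Ext.mk₀_comp_mk₀, Abelian.Ext.mk₀_comp_mk₀_assoc]
      map_add' := fun x y => by simp [Abelian.Ext.comp_add, Abelian.Ext.add_comp] }
  -- the ideal as a submodule of the ring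
  let J : Ideal O := Submodule.comap (Algebra.linearMap O K) I
  let f : ↥I →ₗ[O] O := (oneEquiv O K).symm.toLinearMap.comp (Submodule.inclusion hI1)
  have hf : ∀ z : ↥I, algebraMap O K (f z) = z.1 := fun z => by
    rw [← oneEquiv_apply]
    exact congrArg Subtype.val ((oneEquiv O K).apply_symm_apply _)
  have hz : (Submodule.mkQ J).comp f = 0 := LinearMap.ext fun z => (Submodule.Quotient.mk_eq_zero J).2 (by
    show algebraMap O K (f z) ∈ I
    rw [hf]; exact z.2)
  let S : ShortComplex (ModuleCat.{u} O) :=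
    ShortComplex.mk (ModuleCat.ofHom f) (ModuleCat.ofHom (Submodule.mkQ J)) (ModuleCat.hom_ext hz)
  have hS : S.ShortExact :=
    { exact := (ShortComplex.moduleCat_exact_iff _).2 fun r hr => ⟨⟨algebraMap O K r,
        show r ∈ J from (Submodule.Quotient.mk_eq_zero J).1 hr⟩, IsFractionRing.injective O K (hf _)⟩
      mono_f := (ModuleCat.mono_iff_injective _).2 fun a b h => Subtype.ext (by
        rw [← hf a, ← hf b]; exact congrArg _ h)
      epi_g := (ModuleCat.epi_iff_surjective _).2 (Submodule.mkQ_surjective J) }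
  haveI : HasInjectiveDimensionLT (ModuleCat.of O O) 2 :=
    (GorenLib.gorenstein_of_dim (n := 1) (by rw [hdim]; rfl)).2.1
  haveI hvan := subsingleton_ext ↥I (ModuleCat.of O O) 1 le_rfl
  let δ : (↥I →ₗ[O] (O ⧸ J)) →+ Abelian.Ext (ModuleCat.of O ↥I) (ModuleCat.of O ↥I) 1 :=
    { toFun := fun φ => (Abelian.Ext.mk₀ (ModuleCat.ofHom φ : ModuleCat.of O ↥I ⟶ S.X₃)).comp hS.extClass (zero_add 1)
      map_zero' := by simp [S]
      map_add' := fun φ ψ => by rw [show (ModuleCat.ofHom (φ + ψ) : ModuleCat.of O ↥I ⟶ S.X₃) = ModuleCat.ofHom φ + ModuleCat.ofHom ψ from rfl, Abelian.Ext.mk₀_add, Abelian.Ext.add_comp] }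
  have hδ : Function.Bijective δ := by
    refine ⟨(injective_iff_map_eq_zero δ).2 fun φ hφ => ?_, fun x => ?_⟩
    · obtain ⟨y, hy⟩ := Abelian.Ext.covariant_sequence_exact₃ (ModuleCat.of O ↥I) hS
        (Abelian.Ext.mk₀ (ModuleCat.ofHom φ : ModuleCat.of O ↥I ⟶ S.X₃)) (zero_add 1) hφ
      obtain ⟨g, rfl⟩ := Abelian.Ext.homEquiv₀.symm.surjective y
      simp only [Abelian.Ext.homEquiv₀_symm_apply, Abelian.Ext.mk₀_comp_mk₀] at hy
      have hgf : g ≫ S.g = ModuleCat.ofHom φ := Abelian.Ext.homEquiv₀.symm.injective (by simpa using hy)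
      refine LinearMap.ext fun z => ?_
      rw [show φ z = Submodule.Quotient.mk (g.hom z) from (congr($(hgf).hom z)).symm, LinearMap.zero_apply,
        Submodule.Quotient.mk_eq_zero]
      -- a map from the ideal to the ring is a multiplication by an element of the overring
      have hIs : Submodule.span K (I : Set K) = ⊤ := dual_span_eq_top span_one hPfg
      obtain ⟨a, ha⟩ := exists_eq_pairing (B := LinearMap.mul K K) mul_bijective hIs ((Algebra.linearMap O K).comp g.hom)
      have haP : a ∈ P := by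
        rw [← dual_dual hnf (1 : Submodule O K) one_ne_bot one_fg mul_bijective mul_symm hPfg hPs]
        intro w hw
        rw [ha ⟨w, hw⟩]
        exact Submodule.mem_one.2 ⟨g.hom ⟨w, hw⟩, rfl⟩
      show algebraMap O K (g.hom z) ∈ I
      rw [show algebraMap O K (g.hom z) = a * z.1 from (ha z).symm]
      intro q hq
      show a * z.1 * q ∈ (1 : Submodule O K)
      rw [mul_comm a, mul_assoc]
      exact z.2 _ (M.mul_mem haP hq)
    · obtain ⟨y, hy⟩ := Abelian.Ext.covariant_sequence_exact₁ (ModuleCat.of O ↥I) hS x (hvan.elim _ _) (n₀ := 0) rfl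
      obtain ⟨g, rfl⟩ := Abelian.Ext.homEquiv₀.symm.surjective y
      exact ⟨g.hom, by simpa [δ] using hy⟩
  exact ⟨(e₁.trans e₂).trans (AddEquiv.ofBijective δ hδ).symm⟩

end Groth.Agent.S15040
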