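import Groth.Statements.S15041
import Groth.Agent.Lib.MonoExt1.Basic

set_option autoImplicit false
universe u
open CategoryTheory
open TFCurv

namespace Groth.Agent.S15041


/-- the semigroup generated by `3` and `4` -/
abbrev S34 : Set ℕ := {p | p = 0 ∨ p = 3 ∨ p = 4 ∨ 6 ≤ p}

theorem mem_closure_34 (p : ℕ) : p ∈ AddSubmonoid.closure ({3, 4} : Set ℕ) ↔ p ∈ S34 := by
  rw [AddSubmonoid.mem_closure_pair]
  simp only [smul_eq_mul, Set.mem_ofPred_eq]
  constructor
  · rintro ⟨a, b, rfl⟩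
    rcases b with _ | _ | b <;> rcases a with _ | _ | a <;> omega
  · intro h
    rcases (by omega : p % 3 = 0 ∨ p % 3 = 1 ∨ p % 3 = 2) with h3 | h3 | h3
    · exact ⟨p / 3, 0, by omega⟩
    · exact ⟨(p - 4) / 3, 1, by omega⟩
    · exact ⟨(p - 8) / 3, 2, by omega⟩

open Groth.Agent.MonoExt1 in
theorem length_pair {k : Type u} [Field k] {A : Type u} [CommRing A] [Algebra A (PowerSeries k)]
    (hA : IsMonoRing (k := k) A S34) (ε c : ℕ) (hc : c ∈ S34) (hce : c + ε ∈ S34) (Δ Γ H : Set ℕ)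
    (hΔ : Closed S34 Δ) (hmem : ∀ p, p ∈ Δ ↔ p ∈ S34 ∨ ∃ q ∈ S34, p = ε + q)
    (hΓ : ∀ p, p ∈ Γ ↔ ∀ q ∈ S34, ε + q ∈ S34 → ∃ d ∈ Δ, c + d = p + q)
    (hH : ∀ p, p ∈ H ↔ p ∈ Δ ∧ ε + p ∈ Δ) (a b n : ℕ)
    (ha : ∃ s : Finset ℕ, s.card = a ∧ (Δ \ H : Set ℕ) = ↑s)
    (hb : ∃ s : Finset ℕ, s.card = b ∧ (Γ \ (fun p => c + p) '' Δ : Set ℕ) = ↑s)
    (hn : n + a = b) :
    Module.length A (CategoryTheory.Abelian.Ext
      (ModuleCat.of A ↥(Submodule.span A ({1, (PowerSeries.X : PowerSeries k) ^ ε} : Set (PowerSeries k))))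
      (ModuleCat.of A ↥(Submodule.span A ({1, (PowerSeries.X : PowerSeries k) ^ ε} : Set (PowerSeries k)))) 1) =
      (n : ℕ∞) := by
  obtain ⟨sa, rfl, hsa⟩ := ha
  obtain ⟨sb, rfl, hsb⟩ := hb
  let e : Fin (1 + 1) → ℕ := ![0, ε]
  have hG : ({1, (PowerSeries.X : PowerSeries k) ^ ε} : Set (PowerSeries k)) =
      Set.range fun l => (PowerSeries.X : PowerSeries k) ^ e l := by
    ext f
    simp [e, Fin.exists_fin_two, eq_comm]
  have hmem' : ∀ p, p ∈ Δ ↔ ∃ l, ∃ q ∈ S34, p = e l + q := by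
    intro p
    rw [hmem, Fin.exists_fin_two]
    simp [e]
  have hsp := span_eq_mono hA e hΔ hmem' (Or.inl rfl)
  rw [hG, hsp]
  have hrel : ∀ a : Fin (1 + 1) → A,
      ∑ l, algebraMap A (PowerSeries k) (a l) * PowerSeries.X ^ e l = 0 →
      ∀ (l : Fin 1) (m : ℕ), PowerSeries.coeff m (algebraMap A (PowerSeries k) (a l.succ)) ≠ 0 →
        e l.succ + m ∈ S34 := by
    intro a ha l m hm
    obtain rfl : l = 0 := Subsingleton.elim _ _
    rw [Fin.sum_univ_two] at ha
    refine (hA.2 _).1 ⟨-(a 0), rfl⟩ (e (Fin.succ 0) + m) ?_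
    have h1 : algebraMap A (PowerSeries k) (-(a 0)) =
        algebraMap A (PowerSeries k) (a 1) * PowerSeries.X ^ e 1 := by
      rw [map_neg]
      simp only [e, Matrix.cons_val_zero, pow_zero, mul_one] at ha ⊢
      linear_combination -ha
    rw [h1, Fin.succ_zero_eq_one, add_comm, PowerSeries.coeff_mul_X_pow]
    exact hm
  obtain ⟨hΓc, hgood⟩ := good_of_supp hA e rfl hΔ c (fun _ => Γ)
    (fun l p => by
      obtain rfl : l = 0 := Subsingleton.elim _ _
      simp only [hΓ p, Set.mem_image, e, Fin.succ_zero_eq_one, Matrix.cons_val_one,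
        Matrix.cons_val_fin_one]) hrel
  have key := length_ext_add hA e (H := H) (Or.inl rfl) hΔ _ hsp.symm rfl c hc
    (Fin.forall_fin_two.2 ⟨by simpa [e] using hc, by simpa [e] using hce⟩) (fun _ => Γ) hΓc hgood
    (fun p => by simp [hH p, e])
    (hsa ▸ Finset.finite_toSet _) (fun l => hsb ▸ Finset.finite_toSet _)
  refine eq_of_add_eq key ?_
  simpa [hsa, hsb, Set.ncard_coe_finset] using hn

open Groth.Agent.MonoExt1 in
theorem length_full {k : Type u} [Field k] {A : Type u} [CommRing A] [Algebra A (PowerSeries k)]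
    (hA : IsMonoRing (k := k) A S34) :
    Module.length A (CategoryTheory.Abelian.Ext
      (ModuleCat.of A ↥(Submodule.span A
        ({1, (PowerSeries.X : PowerSeries k), PowerSeries.X ^ 2} : Set (PowerSeries k))))
      (ModuleCat.of A ↥(Submodule.span A
        ({1, (PowerSeries.X : PowerSeries k), PowerSeries.X ^ 2} : Set (PowerSeries k)))) 1) =
      (6 : ℕ∞) := by
  let e : Fin (2 + 1) → ℕ := fun l => l.val
  have hU : Closed S34 (Set.univ : Set ℕ) := fun _ _ _ _ => trivial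
  have hG : ({1, (PowerSeries.X : PowerSeries k), PowerSeries.X ^ 2} : Set (PowerSeries k)) =
      Set.range fun l => (PowerSeries.X : PowerSeries k) ^ e l := by
    ext f
    simp [e, Fin.exists_fin_succ, eq_comm]
  have hsp := span_eq_mono hA e hU (fun p => ⟨fun _ => by
      rcases (by omega : p ≤ 2 ∨ p = 5 ∨ (p = 0 ∨ p = 3 ∨ p = 4 ∨ 6 ≤ p) ∨ False) with h | h | h | h
      · exact ⟨⟨p, by omega⟩, 0, Or.inl rfl, rfl⟩
      · exact ⟨1, 4, Or.inr (Or.inr (Or.inl rfl)), by simp [e, h]⟩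
      · exact ⟨0, p, h, (zero_add p).symm⟩
      · exact h.elim, fun _ => trivial⟩) (Or.inl rfl)
  rw [hG, hsp]
  let Γ : Set ℕ := {p | 3 ≤ p}
  have hΓc : Closed S34 Γ := fun s hs p hp => by simp only [Γ, Set.mem_ofPred_eq] at *; omega
  have h6 : Closed S34 ((fun p => 6 + p) '' (Set.univ : Set ℕ)) := shift_closed hU 6
  have hmem6 : ∀ m, m ∈ (fun p => 6 + p) '' (Set.univ : Set ℕ) ↔ 6 ≤ m := fun m =>
    ⟨fun ⟨d, _, hd⟩ => by simp only at hd; omega, fun h => ⟨m - 6, trivial, by simp only; omega⟩⟩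
  have hgood : ∀ g : Fin 2 → PowerSeries k,
      (∀ a : Fin (2 + 1) → A, ∑ l, algebraMap A (PowerSeries k) (a l) * PowerSeries.X ^ e l = 0 →
        ∑ l : Fin 2, algebraMap A (PowerSeries k) (a l.succ) * g l ∈
          mono (k := k) A ((fun p => 6 + p) '' (Set.univ : Set ℕ))) ↔
      ∀ l, g l ∈ mono (k := k) A ((fun _ => Γ) l) := by
    intro g
    constructor
    · intro h
      obtain ⟨t3, ht3⟩ := X_pow_mem hA (q := 3) (Or.inr (Or.inl rfl))
      obtain ⟨t4, ht4⟩ := X_pow_mem hA (q := 4) (Or.inr (Or.inr (Or.inl rfl)))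
      have h1 := h ![-t4, t3, 0] (by
        simp [Fin.sum_univ_succ, e, ht3, ht4]
        ring)
      have h2 := h ![0, -t4, t3] (by
        simp [Fin.sum_univ_succ, e, ht3, ht4]
        ring)
      simp only [Fin.sum_univ_two, Matrix.cons_val_succ, Matrix.cons_val_zero, Matrix.cons_val_one,
        Matrix.cons_val_fin_one, map_zero, zero_mul, add_zero, ht3, map_neg, ht4] at h1 h2
      rw [X_pow_mul_mem_iff hA h6] at h1
      have hg0 : ∀ m, PowerSeries.coeff m (g 0) ≠ 0 → 3 ≤ m := fun m hm => by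
        have := (hmem6 _).1 (h1 m hm)
        omega
      have h4 : PowerSeries.X ^ 4 * g 0 ∈ mono (k := k) A ((fun p => 6 + p) '' (Set.univ : Set ℕ)) :=
        (X_pow_mul_mem_iff hA h6 4).2 fun m hm => (hmem6 _).2 (by have := hg0 m hm; omega)
      have h5 : PowerSeries.X ^ 3 * g 1 ∈ mono (k := k) A ((fun p => 6 + p) '' (Set.univ : Set ℕ)) := by
        have := Submodule.add_mem _ h2 h4
        simpa [neg_mul] using this
      rw [X_pow_mul_mem_iff hA h6] at h5
      intro l
      refine (mem_mono hA hΓc).2 fun m hm => ?_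
      show 3 ≤ m
      revert hm
      refine Fin.cases (hg0 m) (fun l' => ?_) l
      obtain rfl : l' = 0 := Subsingleton.elim _ _
      intro hm
      have := (hmem6 _).1 (h5 m hm)
      omega
    · intro h a ha
      have hz : PowerSeries.coeff 0 (algebraMap A (PowerSeries k) (a 1)) = 0 ∧
          PowerSeries.coeff 0 (algebraMap A (PowerSeries k) (a 2)) = 0 := by
        have h0 : ∀ (x : A) (m : ℕ), m = 1 ∨ m = 2 → PowerSeries.coeff m (algebraMap A (PowerSeries k) x) = 0 := by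
          intro x m hm
          by_contra hne
          have := (hA.2 _).1 ⟨x, rfl⟩ m hne
          simp only [Set.mem_ofPred_eq] at this
          omega
        have e1 := congrArg (PowerSeries.coeff 1) ha
        have e2 := congrArg (PowerSeries.coeff 2) ha
        simp [Fin.sum_univ_succ, e, PowerSeries.coeff_mul_X_pow', h0] at e1 e2
        exact ⟨by simpa using e1, by simpa using e2⟩
      refine Submodule.sum_mem _ fun l _ => (mem_mono hA h6).2 fun m hm => ?_
      obtain ⟨p, q, rfl, hp, hq⟩ := exists_coeff_mul_ne hm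
      have hq3 : 3 ≤ q := (mem_mono hA hΓc).1 (h l) q hq
      have hpS := (hA.2 _).1 ⟨_, rfl⟩ p hp
      have hp0 : p ≠ 0 := by
        rintro rfl
        revert hp
        fin_cases l
        · exact fun hp => hp hz.1
        · exact fun hp => hp hz.2
      simp only [Set.mem_ofPred_eq] at hpS
      exact (hmem6 _).2 (by omega)
  have key := length_ext_add hA e (H := Set.univ) (Or.inl rfl) hU _ hsp.symm rfl 6
    (Or.inr (Or.inr (Or.inr le_rfl))) (fun l => Or.inr (Or.inr (Or.inr (Nat.le_add_right _ _))))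
    (fun _ => Γ) (fun _ => hΓc) hgood (fun p => by simp) (by simp)
    (fun l => (Set.finite_lt_nat 6).subset (fun p hp => by
      simp only [Set.mem_sdiff, hmem6] at hp
      simp only [Set.mem_ofPred_eq]
      omega))
  refine eq_of_add_eq key ?_
  have hc : (Γ \ (fun p => 6 + p) '' (Set.univ : Set ℕ) : Set ℕ) = ↑(Finset.Ico 3 6) := by
    ext p
    simp only [Γ, Set.mem_sdiff, hmem6, Set.mem_ofPred_eq, Finset.coe_Ico, Set.mem_Ico]
    omega
  rw [Set.sdiff_self, Set.ncard_empty, Finset.sum_const, hc, Set.ncard_coe_finset]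
  simp


/-- Let k be an algebraically closed field of characteristic zero and A ⊂ k[[t]] the complete local ring
of the E_6 singularity, i.e. the k-subalgebra of power series all of whose exponents lie in the
semigroup generated by 3 and 4 (A = k[[t³, t⁴]]). Its rank-one torsion-free modules are A, M₁ = A +
A·t⁵, its dual M₁* = A + A·t, M₂ = A + A·t² and M₃ = A + A·t + A·t² = k[[t]], of index 0, 1, 1, 2,
3. Then Ext¹_A(M, M) has length 2·index(M): length 2 for M₁ and for M₁*, 4 for M₂ and 6 for M₃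
(length over A equals k-dimension). As End_A(M₁) = End_A(M₁*) = M₁, End_A(M₂) = M₂, End_A(M₃) = M₃
have colength 1, 1, 2, 3 over A, this is the identity χ₁(M) = dim Ext¹(M, M) − dim(End(M)/A) =
index(M). -/
theorem result (k : Type u) [Field k] [IsAlgClosed k] [CharZero k] (A : Subalgebra k (PowerSeries k)) (hmono : ∀ f : PowerSeries k, f ∈ A ↔ ∀ n : ℕ, PowerSeries.coeff n f ≠ 0 → n ∈ AddSubmonoid.closure ({3, 4} : Set ℕ)) : Module.length ↥A (Abelian.Ext (ModuleCat.of ↥A ↥(Submodule.span ↥A ({1, (PowerSeries.X : PowerSeries k) ^ 5} : Set (PowerSeries k)))) (ModuleCat.of ↥A ↥(Submodule.span ↥A ({1, (PowerSeries.X : PowerSeries k) ^ 5} : Set (PowerSeries k)))) 1) = 2 ∧ Module.length ↥A (Abelian.Ext (ModuleCat.of ↥A ↥(Submodule.span ↥A ({1, (PowerSeries.X : PowerSeries k)} : Set (PowerSeries k)))) (ModuleCat.of ↥A ↥(Submodule.span ↥A ({1, (PowerSeries.X : PowerSeries k)} : Set (PowerSeries k)))) 1) = 2 ∧ Module.length ↥A (Abelian.Ext (ModuleCat.of ↥A ↥(Submodule.span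 ↥A ({1, (PowerSeries.X : PowerSeries k) ^ 2} : Set (PowerSeries k)))) (ModuleCat.of ↥A ↥(Submodule.span ↥A ({1, (PowerSeries.X : PowerSeries k) ^ 2} : Set (PowerSeries k)))) 1) = 4 ∧ Module.length ↥A (Abelian.Ext (ModuleCat.of ↥A ↥(Submodule.span ↥A ({1, (PowerSeries.X : PowerSeries k), (PowerSeries.X : PowerSeries k) ^ 2} : Set (PowerSeries k)))) (ModuleCat.of ↥A ↥(Submodule.span ↥A ({1, (PowerSeries.X : PowerSeries k), (PowerSeries.X : PowerSeries k) ^ 2} : Set (PowerSeries k)))) 1) = 6 := by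
  have hA := Groth.Agent.MonoExt1.isMonoRing_subalgebra A (S := S34)
    (fun f => (hmono f).trans ⟨fun h m hm => (mem_closure_34 m).1 (h m hm),
      fun h m hm => (mem_closure_34 m).2 (h m hm)⟩)
  refine ⟨?_, ?_, ?_, length_full hA⟩
  · refine length_pair hA 5 3 (Or.inr (Or.inl rfl)) (Or.inr (Or.inr (Or.inr (by omega))))
      {p | p = 0 ∨ 3 ≤ p} {p | 3 ≤ p} {p | p = 0 ∨ 3 ≤ p}
      (fun s hs p hp => by simp only [Set.mem_ofPred_eq] at *; omega) ?_ ?_ ?_ 0 2 2
      ⟨∅, rfl, by simp⟩ ⟨{4, 5}, rfl, ?_⟩ rfl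
    · intro p
      simp only [Set.mem_ofPred_eq]
      exact ⟨fun h => (by omega : (p = 0 ∨ p = 3 ∨ p = 4 ∨ 6 ≤ p) ∨ p = 5).imp_right
        fun h => ⟨0, Or.inl rfl, by omega⟩, fun h => by rcases h with h | ⟨q, hq, rfl⟩ <;> omega⟩
    · intro p
      simp only [Set.mem_ofPred_eq]
      constructor
      · exact fun h q hq hq' => ⟨p + q - 3, by omega, by omega⟩
      · intro h
        obtain ⟨d, hd, he⟩ := h 3 (by omega) (by omega)
        obtain ⟨d', hd', he'⟩ := h 4 (by omega) (by omega)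
        omega
    · intro p
      simp only [Set.mem_ofPred_eq]
      omega
    · ext p
      simp only [Set.mem_sdiff, Set.mem_ofPred_eq, Set.mem_image, Finset.coe_insert, Finset.coe_singleton,
        Set.mem_insert_iff, Set.mem_singleton_iff]
      exact ⟨fun ⟨h1, h2⟩ => by by_contra hne; exact h2 ⟨p - 3, by omega, by omega⟩,
        fun h => ⟨by omega, fun ⟨d, hd, he⟩ => by omega⟩⟩
  · rw [show ({1, (PowerSeries.X : PowerSeries k)} : Set (PowerSeries k)) = {1, PowerSeries.X ^ 1} by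
      rw [pow_one]]
    refine length_pair hA 1 3 (Or.inr (Or.inl rfl)) (Or.inr (Or.inr (Or.inl rfl)))
      {p | p ≠ 2} {p | p ≠ 2} {p | p ≠ 2 ∧ p ≠ 1}
      (fun s hs p hp => by simp only [Set.mem_ofPred_eq] at *; omega) ?_ ?_ ?_ 1 3 2
      ⟨{1}, rfl, ?_⟩ ⟨{0, 1, 5}, rfl, ?_⟩ rfl
    · intro p
      simp only [Set.mem_ofPred_eq]
      exact ⟨fun h => (by omega : (p = 0 ∨ p = 3 ∨ p = 4 ∨ 6 ≤ p) ∨ p = 1 ∨ p = 5).imp_right
        fun h => ⟨p - 1, by omega, by omega⟩, fun h => by rcases h with h | ⟨q, hq, rfl⟩ <;> omega⟩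
    · intro p
      simp only [Set.mem_ofPred_eq]
      constructor
      · exact fun h q hq hq' => ⟨p + q - 3, by omega, by omega⟩
      · intro h
        obtain ⟨d, hd, he⟩ := h 3 (by omega) (by omega)
        omega
    · intro p
      simp only [Set.mem_ofPred_eq]
      omega
    · ext p
      simp only [Set.mem_sdiff, Set.mem_ofPred_eq, Finset.coe_singleton, Set.mem_singleton_iff]
      omega
    · ext p
      simp only [Set.mem_sdiff, Set.mem_ofPred_eq, Set.mem_image, Finset.coe_insert, Finset.coe_singleton,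
        Set.mem_insert_iff, Set.mem_singleton_iff]
      exact ⟨fun ⟨h1, h2⟩ => by by_contra hne; exact h2 ⟨p - 3, by omega, by omega⟩,
        fun h => ⟨by omega, fun ⟨d, hd, he⟩ => by omega⟩⟩
  · refine length_pair hA 2 4 (Or.inr (Or.inr (Or.inl rfl))) (Or.inr (Or.inr (Or.inr (by omega))))
      {p | p ≠ 1} {p | p ≠ 1} {p | p ≠ 1}
      (fun s hs p hp => by simp only [Set.mem_ofPred_eq] at *; omega) ?_ ?_ ?_ 0 4 4
      ⟨∅, rfl, by simp⟩ ⟨{0, 2, 3, 5}, rfl, ?_⟩ rfl
    · intro p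
      simp only [Set.mem_ofPred_eq]
      exact ⟨fun h => (by omega : (p = 0 ∨ p = 3 ∨ p = 4 ∨ 6 ≤ p) ∨ p = 2 ∨ p = 5).imp_right
        fun h => ⟨p - 2, by omega, by omega⟩, fun h => by rcases h with h | ⟨q, hq, rfl⟩ <;> omega⟩
    · intro p
      simp only [Set.mem_ofPred_eq]
      constructor
      · exact fun h q hq hq' => ⟨p + q - 4, by omega, by omega⟩
      · intro h
        obtain ⟨d, hd, he⟩ := h 4 (by omega) (by omega)
        omega
    · intro p
      simp only [Set.mem_ofPred_eq]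
      omega
    · ext p
      simp only [Set.mem_sdiff, Set.mem_ofPred_eq, Set.mem_image, Finset.coe_insert, Finset.coe_singleton,
        Set.mem_insert_iff, Set.mem_singleton_iff]
      exact ⟨fun ⟨h1, h2⟩ => by by_contra hne; exact h2 ⟨p - 4, by omega, by omega⟩,
        fun h => ⟨by omega, fun ⟨d, hd, he⟩ => by omega⟩⟩

end Groth.Agent.S15041
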