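import Groth.Statements.S15042
import Mathlib.AlgebraicGeometry.Morphisms.Flat

set_option autoImplicit false
set_option linter.style.haveILetI false
open CategoryTheory AlgebraicGeometry
universe u
open Quiet

namespace Groth.Agent.S15042

open Polynomial in
/-- A `p`-th root extraction commutes with base change. -/
theorem isPushout_root (p : ℕ) {A A' : Type u} [CommRing A] [CommRing A'] (ψ : A →+* A') (a : A)
    (χ : Quiet.RootRing p A a →+* Quiet.RootRing p A' (ψ a))
    (hχ : χ.comp (AdjoinRoot.of _) = (AdjoinRoot.of _).comp ψ) (hχr : χ (AdjoinRoot.root _) = AdjoinRoot.root _) :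
    IsPushout (CommRingCat.ofHom (AdjoinRoot.of (X ^ p - C a : A[X]))) (CommRingCat.ofHom ψ)
      (CommRingCat.ofHom χ) (CommRingCat.ofHom (AdjoinRoot.of (X ^ p - C (ψ a) : A'[X]))) := by
  have w : CommRingCat.ofHom (AdjoinRoot.of (X ^ p - C a : A[X])) ≫ CommRingCat.ofHom χ =
      CommRingCat.ofHom ψ ≫ CommRingCat.ofHom (AdjoinRoot.of (X ^ p - C (ψ a) : A'[X])) := by
    ext x
    exact RingHom.congr_fun hχ x
  have hroot : ∀ s : Limits.PushoutCocone (CommRingCat.ofHom (AdjoinRoot.of (X ^ p - C a : A[X]))) (CommRingCat.ofHom ψ),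
      (X ^ p - C (ψ a) : A'[X]).eval₂ s.inr.hom (s.inl.hom (AdjoinRoot.root _)) = 0 := fun s => by
    have h1 : s.inr.hom (ψ a) = s.inl.hom (AdjoinRoot.of (X ^ p - C a : A[X]) a) :=
      (RingHom.congr_fun (congrArg CommRingCat.Hom.hom s.condition) a).symm
    have h2 : AdjoinRoot.root (X ^ p - C a : A[X]) ^ p = AdjoinRoot.of (X ^ p - C a : A[X]) a := by
      have := AdjoinRoot.eval₂_root (X ^ p - C a : A[X])
      rwa [eval₂_sub, eval₂_pow, eval₂_X, eval₂_C, sub_eq_zero] at this
    rw [eval₂_sub, eval₂_pow, eval₂_X, eval₂_C, h1, ← map_pow, h2, sub_self]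
  refine ⟨⟨w⟩, ⟨Limits.PushoutCocone.IsColimit.mk _
    (fun s => CommRingCat.ofHom (AdjoinRoot.lift s.inr.hom (s.inl.hom (AdjoinRoot.root _)) (hroot s)))
    (fun s => ?_) (fun s => ?_) (fun s m h1 h2 => ?_)⟩⟩
  · refine CommRingCat.hom_ext (AdjoinRoot.ringHom_ext (RingHom.ext fun x => ?_) ?_)
    · have hx := RingHom.congr_fun hχ x
      simp only [RingHom.comp_apply] at hx
      simp [hx]
      exact (RingHom.congr_fun (congrArg CommRingCat.Hom.hom s.condition) x).symm
    · simp [hχr]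
  · refine CommRingCat.hom_ext (RingHom.ext fun x => ?_)
    simp
  · refine CommRingCat.hom_ext (AdjoinRoot.ringHom_ext (RingHom.ext fun x => ?_) ?_)
    · have := RingHom.congr_fun (congrArg CommRingCat.Hom.hom h2) x
      simpa using this
    · have := RingHom.congr_fun (congrArg CommRingCat.Hom.hom h1) (AdjoinRoot.root _)
      simp [hχr] at this
      simpa using this

open Polynomial in
/-- Root towers are stable under base change. -/
theorem isRootTower_pushout (p n : ℕ) :
    ∀ (A B A' B' : Type u) [CommRing A] [CommRing B] [CommRing A'] [CommRing B'] [Algebra A B] [Algebra A' B']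
      (ψ : A →+* A') (ι : B →+* B'),
      IsPushout (CommRingCat.ofHom (algebraMap A B)) (CommRingCat.ofHom ψ) (CommRingCat.ofHom ι)
        (CommRingCat.ofHom (algebraMap A' B')) →
      Quiet.IsRootTower p n A B → Quiet.IsRootTower p n A' B' := by
  induction n with
  | zero =>
    intro A B A' B' _ _ _ _ _ _ ψ ι h hT
    simp only [Quiet.IsRootTower] at hT ⊢
    obtain ⟨e⟩ := hT
    haveI : IsIso (CommRingCat.ofHom (algebraMap A B)) := by
      rw [ConcreteCategory.isIso_iff_bijective]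
      refine Function.bijective_iff_has_inverse.2 ⟨e, fun x => e.commutes x, fun x => ?_⟩
      exact e.injective (e.commutes (e x))
    haveI := h.isIso_inr_of_isIso
    exact ⟨(AlgEquiv.ofBijective (Algebra.ofId A' B')
      (ConcreteCategory.bijective_of_isIso (CommRingCat.ofHom (algebraMap A' B')))).symm⟩
  | succ n ih =>
    intro A B A' B' _ _ _ _ _ _ ψ ι h hT
    simp only [Quiet.IsRootTower] at hT ⊢
    obtain ⟨a, algR, htow, hT⟩ := hT
    let χ : Quiet.RootRing p A a →+* Quiet.RootRing p A' (ψ a) :=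
      AdjoinRoot.lift ((AdjoinRoot.of _).comp ψ) (AdjoinRoot.root _) (by
        have := AdjoinRoot.eval₂_root (X ^ p - C (ψ a) : A'[X])
        simpa using this)
    have hl := isPushout_root p ψ a χ (RingHom.ext fun x => by simp [χ]) (by simp [χ])
    have hρβ : CommRingCat.ofHom (AdjoinRoot.of (X ^ p - C a : A[X])) ≫
        CommRingCat.ofHom (algebraMap (Quiet.RootRing p A a) B) = CommRingCat.ofHom (algebraMap A B) := by
      ext x
      exact (IsScalarTower.algebraMap_apply A (Quiet.RootRing p A a) B x).symm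
    have w : CommRingCat.ofHom (AdjoinRoot.of (X ^ p - C a : A[X])) ≫
        (CommRingCat.ofHom (algebraMap (Quiet.RootRing p A a) B) ≫ CommRingCat.ofHom ι) =
        CommRingCat.ofHom ψ ≫ CommRingCat.ofHom (algebraMap A' B') := by
      rw [← Category.assoc, hρβ, h.w]
    let β' := hl.desc _ _ w
    letI : Algebra (Quiet.RootRing p A' (ψ a)) B' := β'.hom.toAlgebra
    have h2 : CommRingCat.ofHom (AdjoinRoot.of (X ^ p - C (ψ a) : A'[X])) ≫ β' =
        CommRingCat.ofHom (algebraMap A' B') := hl.inr_desc _ _ w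
    refine ⟨ψ a, inferInstance, IsScalarTower.of_algebraMap_eq fun x => ?_, ih _ _ _ _ χ ι ?_ hT⟩
    · exact (RingHom.congr_fun (congrArg CommRingCat.Hom.hom h2) x).symm
    · have h3 : CommRingCat.ofHom (algebraMap (Quiet.RootRing p A' (ψ a)) B') = β' := rfl
      rw [h3]
      refine IsPushout.of_left ?_ (hl.inl_desc _ _ w).symm hl
      rw [hρβ, h2]
      exact h

/-- Extractions of roots are stable under base change. -/
theorem isPthRoot_baseChange (p : ℕ) {X S T Y : Scheme.{u}} {f : T ⟶ S} {g : Y ⟶ X} {iX : X ⟶ S} {iY : Y ⟶ T}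
    (H : IsPullback g iY iX f) (hr : Quiet.IsPthRoot p iX) : Quiet.IsPthRoot p iY := by
  intro t
  obtain ⟨US, htU, hUX, n, hT⟩ := hr (f t)
  obtain ⟨_, ⟨(UT : T.Opens), hUT, rfl⟩, htT, hle⟩ :=
    T.isBasis_affineOpens.exists_subset_of_mem_open (show t ∈ f ⁻¹ᵁ US.1 from htU) (f ⁻¹ᵁ US.1).2
  have hle' : UT ≤ f ⁻¹ᵁ US.1 := hle
  have hUY : iY ⁻¹ᵁ UT = g ⁻¹ᵁ (iX ⁻¹ᵁ US.1) ⊓ iY ⁻¹ᵁ UT := by
    refine (inf_eq_right.2 ?_).symm
    rw [← Scheme.Hom.comp_preimage, H.w, Scheme.Hom.comp_preimage]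
    exact iY.preimage_mono hle'
  haveI : IsAffine US.1.toScheme := US.2
  haveI : IsAffine UT.toScheme := hUT
  haveI : IsAffine (iX ⁻¹ᵁ US.1).toScheme := hUX
  have hP := (isIso_pushoutSection_iff H hle' (le_refl _) hUY).1
    (isIso_pushoutSection_of_isAffineOpen H hle' (le_refl _) hUY US.2 hUT hUX)
  refine ⟨⟨UT, hUT⟩, htT, .of_isIso (Scheme.Hom.isPullback_resLE H hle' (le_refl _) hUY).isoPullback.hom, n, ?_⟩
  letI := (iX.app US.1).hom.toAlgebra
  letI := (iY.app UT).hom.toAlgebra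
  refine isRootTower_pushout p n _ _ _ _ (f.appLE US.1 UT hle').hom
    (g.appLE (iX ⁻¹ᵁ US.1) (iY ⁻¹ᵁ UT) (by rw [hUY]; exact inf_le_left)).hom ?_ hT
  simp only [RingHom.algebraMap_toAlgebra, CommRingCat.ofHom_hom]
  rw [iX.app_eq_appLE, iY.app_eq_appLE]
  exact hP

/-- Over a scheme `X` of prime characteristic `p`, if `f : Y ⟶ X` is quasi-etale (locally on the source
an extraction of `p`-th roots followed by an etale morphism) and `Y'` with its projections `g' : Y'
⟶ Y`, `f' : Y' ⟶ X'` is the fibre product of `f` and a morphism `g : X' ⟶ X`, then `f'` is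
quasi-etale. -/
theorem result (p : ℕ) [Fact p.Prime] {X Y X' Y' : Scheme.{u}} [FrobSch.IsCharP X p]
    (f : Y ⟶ X) (g : X' ⟶ X) (f' : Y' ⟶ X') (g' : Y' ⟶ Y) (H : IsPullback g' f' f g)
    (hf : Quiet.IsQuiet p f) : Quiet.IsQuiet p f' := by
  intro y'
  obtain ⟨V, Y₁, r, e, hy, hr, he, hre⟩ := hf (g' y')
  let r' : (g' ⁻¹ᵁ V).toScheme ⟶ Limits.pullback e g := Limits.pullback.lift (g' ∣_ V ≫ r) ((g' ⁻¹ᵁ V).ι ≫ f')
    (by rw [Category.assoc, hre, morphismRestrict_ι_assoc, H.w, Category.assoc])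
  have h1 := (isPullback_morphismRestrict g' V).paste_vert H
  rw [← hre] at h1
  have h2 : IsPullback (g' ∣_ V) r' r (Limits.pullback.fst e g) := by
    refine IsPullback.of_bot ?_ (Limits.pullback.lift_fst _ _ _).symm (IsPullback.of_hasPullback e g)
    rw [Limits.pullback.lift_snd]
    exact h1
  exact ⟨g' ⁻¹ᵁ V, Limits.pullback e g, r', Limits.pullback.snd e g, hy, isPthRoot_baseChange p h2 hr,
    (haveI := he; inferInstance), Limits.pullback.lift_snd _ _ _⟩

end Groth.Agent.S15042
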