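import Groth.Statements.S15043
import Groth.Agent.Lib.QuietComp28.Basic
import Groth.Agent.S0075

set_option autoImplicit false
set_option linter.style.haveILetI false
set_option backward.isDefEq.respectTransparency.types false
open CategoryTheory AlgebraicGeometry
universe u
open Quiet

namespace Groth.Agent.S15043

/-- Over a scheme `X` of prime characteristic `p`, the composite of quasi-etale morphisms `g : Z ⟶ Y`
and `f : Y ⟶ X` (each locally on its source an extraction of `p`-th roots followed by an etale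
morphism) is quasi-etale. -/
theorem result (p : ℕ) [Fact p.Prime] {X Y Z : Scheme.{u}} [FrobSch.IsCharP X p]
    (f : Y ⟶ X) (g : Z ⟶ Y) (hf : Quiet.IsQuiet p f) (hg : Quiet.IsQuiet p g) :
    Quiet.IsQuiet p (g ≫ f) := by
  have hp : p.Prime := Fact.out
  haveI := FrobSch.IsCharP.of_hom f p
  intro z
  obtain ⟨W, Z₁, rg, eg, hzW, hrg, heg, hge⟩ := hg z
  obtain ⟨V, Y', r, e, hyV, hr, he, hre⟩ := hf (g z)
  haveI := he
  haveI := heg
  haveI : FrobSch.IsCharP Y' p := FrobSch.IsCharP.of_hom e p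
  obtain ⟨hint, hinj, hsurj⟩ := QuietComp28.univHomeo_of_isPthRoot p hp r hr
  haveI := S0075.result r
  let Z₁' : Z₁.Opens := eg ⁻¹ᵁ V
  let eg' : Z₁'.toScheme ⟶ V := eg ∣_ V
  haveI : Etale eg' := MorphismProperty.of_isPullback (isPullback_morphismRestrict eg V).flip heg
  let O : Y'.Etale := (EtCoh.bc r).objPreimage (Scheme.Etale.mk eg')
  let i : Limits.pullback O.hom r ≅ Z₁'.toScheme :=
    (Scheme.Etale.forget V.toScheme ⋙ CategoryTheory.Over.forget V.toScheme).mapIso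
      ((EtCoh.bc r).objObjPreimageIso (Scheme.Etale.mk eg'))
  have hi : i.hom ≫ eg' = Limits.pullback.snd O.hom r :=
    CategoryTheory.Over.w ((Scheme.Etale.forget V.toScheme).map
      ((EtCoh.bc r).objObjPreimageIso (Scheme.Etale.mk eg')).hom)
  let q : Z₁'.toScheme ⟶ O.left := i.inv ≫ Limits.pullback.fst O.hom r
  haveI he2 : Etale O.hom := O.prop
  have hq : IsPullback eg' q r O.hom :=
    (IsPullback.of_hasPullback O.hom r).flip.of_iso i (Iso.refl _) (Iso.refl _) (Iso.refl _)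
      (by simp [hi]) (by simp [q]) (by simp) (by simp)
  haveI : FrobSch.IsCharP O.left p := FrobSch.IsCharP.of_hom (O.hom ≫ e) p
  have hq' : Quiet.IsPthRoot p q := S15042.isPthRoot_baseChange p hq hr
  have hrg' : Quiet.IsPthRoot p (rg ∣_ Z₁') :=
    S15042.isPthRoot_baseChange p (isPullback_morphismRestrict rg Z₁').flip hrg
  let W' : W.toScheme.Opens := rg ⁻¹ᵁ Z₁'
  have hzW' : (⟨z, hzW⟩ : W.toScheme) ∈ W' := by
    show eg (rg ⟨z, hzW⟩) ∈ V
    rw [← Scheme.Hom.comp_apply, hge]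
    exact hyV
  let R : W'.toScheme ⟶ O.left := rg ∣_ Z₁' ≫ q
  have hR : Quiet.IsPthRoot p R := QuietComp28.isPthRoot_comp p hp _ _ hrg' hq'
  have hR' : Quiet.IsPthRoot p ((W.ι.isoImage W').inv ≫ R) :=
    S15042.isPthRoot_baseChange p (IsPullback.of_horiz_isIso (fst := (W.ι.isoImage W').inv)
      (snd := (W.ι.isoImage W').inv ≫ R) (f := R) (g := 𝟙 O.left) ⟨by simp⟩) hR
  refine ⟨W.ι ''ᵁ W', O.left, _, O.hom ≫ e, ⟨⟨z, hzW⟩, hzW', rfl⟩, hR', inferInstance, ?_⟩
  have hw : q ≫ O.hom = eg' ≫ r := hq.w.symm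
  calc ((W.ι.isoImage W').inv ≫ R) ≫ O.hom ≫ e
      = (W.ι.isoImage W').inv ≫ rg ∣_ Z₁' ≫ (eg' ≫ r) ≫ e := by
        simp only [R, Category.assoc]
        rw [reassoc_of% hw]
    _ = (W.ι.isoImage W').inv ≫ W'.ι ≫ W.ι ≫ g ≫ f := by
        rw [Category.assoc eg', hre, morphismRestrict_ι_assoc, morphismRestrict_ι_assoc, reassoc_of% hge]
    _ = (W.ι ''ᵁ W').ι ≫ g ≫ f := by rw [Scheme.Hom.isoImage_inv_ι_assoc]

end Groth.Agent.S15043
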