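import Groth.Statements.S18934
import Groth.Agent.Lib.CI2.SyntScheme
import Groth.Prelude

set_option autoImplicit false
universe u
open Synt

namespace Groth.Agent.S18934

theorem dim0 (k B : Type u) [Field k] [CommRing B] [Algebra k B] [Module.Finite k B] [Nontrivial B] :
    ringKrullDim B = 0 := by
  haveI : IsArtinianRing B := IsArtinianRing.of_finite k B
  exact ringKrullDimZero_iff_ringKrullDim_eq_zero.mp inferInstance

open Polynomial in
/-- Let p be a prime, A a commutative ring and a an element of A. Then the A-algebra A[T]/(T^p − a) is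
syntomic and faithfully flat over A. This is the step of the source's proof showing that adjoining a
p-th root of any element is a covering for the syntomic topology. -/
theorem result (p : ℕ) [Fact p.Prime]
    (A : Type u) [CommRing A] (a : A) :
    Synt.IsSyntomic A (AdjoinRoot (X ^ p - C a)) ∧ Module.FaithfullyFlat A (AdjoinRoot (X ^ p - C a)) := by
  have hp : p ≠ 0 := (Fact.out : p.Prime).ne_zero
  have hm : (X ^ p - C a).Monic := monic_X_pow_sub_C a hp
  set f : A[X] := X ^ p - C a with hf
  haveI : Module.Free A (AdjoinRoot f) := Module.Free.of_basis (AdjoinRoot.powerBasis' hm).basis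
  haveI : Module.Finite A (AdjoinRoot f) := (AdjoinRoot.powerBasis' hm).finite
  let e : MvPolynomial (Fin 1) A ≃ₐ[A] A[X] := (MvPolynomial.uniqueAlgEquiv A (Fin 1))
  let F : Fin 1 → MvPolynomial (Fin 1) A := fun _ => e.symm f
  let E : Synt.RelGCIRing A 1 1 F ≃ₐ[A] AdjoinRoot f :=
    Ideal.quotientEquivAlg _ _ e (by
      rw [Ideal.map_span, ← Set.range_comp]
      congr 1
      ext x
      simp [F]
      exact eq_comm)
  haveI : Module.Finite A (Synt.RelGCIRing A 1 1 F) := Module.Finite.equiv E.symm.toLinearEquiv
  have hrel : Synt.IsRelGCI A 1 1 F := fun q hq => by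
    refine ⟨le_rfl, ?_⟩
    rw [dim0 q.asIdeal.ResidueField (q.asIdeal.Fiber (Synt.RelGCIRing A 1 1 F))]
    simp
  refine ⟨Groth.Agent.CI2.isSyntomic_congr E (Groth.Agent.CI2.isSyntomic_of_isRelGCI hrel), ?_⟩
  haveI : Nontrivial A → Nontrivial (AdjoinRoot f) := fun _ => nontrivial_of_ne _ _
    ((AdjoinRoot.powerBasis' hm).basis.ne_zero ⟨0, by simp [hf, Nat.pos_of_ne_zero hp]⟩)
  rcases subsingleton_or_nontrivial A with hA | hA
  · exact { submodule_ne_top := fun {m} hm' => absurd (Subsingleton.elim m ⊤) hm'.ne_top }
  · haveI := this hA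
    infer_instance

end Groth.Agent.S18934
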