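import Groth.Statements.S15044
import Groth.Agent.S9758
import Groth.Agent.S18934
import Groth.Agent.Lib.CI2.Gci
import Groth.Agent.Lib.CI2.Synt

set_option autoImplicit false
set_option linter.style.haveILetI false
open CategoryTheory AlgebraicGeometry
universe u
open Quiet

namespace Groth.Agent.S15044

open MvPolynomial in
/-- A root tower is finite free and presented by as many equations as variables. -/
theorem exists_presentation (p : ℕ) (hp : p ≠ 0) (n : ℕ) :
    ∀ (A B : Type u) [CommRing A] [CommRing B] [Algebra A B], Quiet.IsRootTower p n A B →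
      Module.Free A B ∧ Module.Finite A B ∧ ∃ (F : Fin n → MvPolynomial (Fin n) A)
        (ψ : MvPolynomial (Fin n) A →ₐ[A] B), Function.Surjective ψ ∧ RingHom.ker ψ = Ideal.span (Set.range F) := by
  induction n with
  | zero =>
    intro A B _ _ _ hT
    simp only [Quiet.IsRootTower] at hT
    obtain ⟨e⟩ := hT
    refine ⟨Module.Free.of_equiv e.symm.toLinearEquiv, Module.Finite.equiv e.symm.toLinearEquiv, Fin.elim0,
      aeval Fin.elim0, fun b => ⟨C (e b), by
        rw [aeval_C]
        exact e.injective (e.commutes _)⟩, ?_⟩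
    rw [Set.range_eq_empty, Ideal.span_empty, RingHom.ker_eq_bot_iff_eq_zero]
    intro x hx
    obtain ⟨a, rfl⟩ : ∃ a, C a = x := ⟨x.coeff 0, (eq_C_of_isEmpty x).symm⟩
    change aeval Fin.elim0 (C a : MvPolynomial (Fin 0) A) = 0 at hx
    rw [aeval_C] at hx
    have h := congrArg e hx
    rw [e.commutes, map_zero] at h
    simp_all
  | succ n ih =>
    intro A B _ _ _ hT
    simp only [Quiet.IsRootTower] at hT
    obtain ⟨a, algR, htow, hT⟩ := hT
    obtain ⟨hfree, hfin, G, θ, hθ, hker⟩ := ih _ _ hT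
    have hm : (Polynomial.X ^ p - Polynomial.C a : Polynomial A).Monic := Polynomial.monic_X_pow_sub_C a hp
    haveI : Module.Free A (Quiet.RootRing p A a) := Module.Free.of_basis (AdjoinRoot.powerBasis' hm).basis
    haveI : Module.Finite A (Quiet.RootRing p A a) := (AdjoinRoot.powerBasis' hm).finite
    haveI := hfree; haveI := hfin
    refine ⟨Module.Free.trans (R := A) (S := Quiet.RootRing p A a) (M := B),
      Module.Finite.trans (Quiet.RootRing p A a) B, ?_⟩
    let π : MvPolynomial (Fin (n + 1)) A →ₐ[A] MvPolynomial (Fin n) (Quiet.RootRing p A a) :=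
      aeval (Fin.cons (C (AdjoinRoot.root _)) X)
    let f : MvPolynomial (Fin (n + 1)) A := X 0 ^ p - C a
    let σ₀ : Quiet.RootRing p A a →+* MvPolynomial (Fin (n + 1)) A ⧸ Ideal.span {f} :=
      AdjoinRoot.lift ((Ideal.Quotient.mk _).comp C) (Ideal.Quotient.mk _ (X 0)) (by
        rw [Polynomial.eval₂_sub, Polynomial.eval₂_pow, Polynomial.eval₂_X, Polynomial.eval₂_C,
          RingHom.comp_apply, ← map_pow, ← map_sub]
        exact Ideal.Quotient.eq_zero_iff_mem.2 (Ideal.subset_span rfl))
    let σ : MvPolynomial (Fin n) (Quiet.RootRing p A a) →+* MvPolynomial (Fin (n + 1)) A ⧸ Ideal.span {f} :=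
      eval₂Hom σ₀ fun i => Ideal.Quotient.mk _ (X i.succ)
    have hσπ : σ.comp π.toRingHom = Ideal.Quotient.mk (Ideal.span {f}) := by
      refine ringHom_ext (fun r => ?_) (fun i => ?_)
      · show σ (π (C r)) = _
        rw [show π (C r) = C (AdjoinRoot.of _ r) by
          simp only [π, aeval_C]; rfl]
        simp [σ, σ₀]
      · show σ (π (X i)) = _
        refine Fin.cases ?_ (fun j => ?_) i <;> simp [π, σ, σ₀]
    have hπ : Function.Surjective π := by
      rw [← AlgHom.range_eq_top, eq_top_iff]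
      intro x _
      induction x using MvPolynomial.induction_on with
      | C r =>
        induction r using AdjoinRoot.induction_on with
        | ih q =>
          refine ⟨Polynomial.aeval (X (0 : Fin (n + 1))) q, ?_⟩
          show π _ = _
          have e : (π.comp (Polynomial.aeval (X (0 : Fin (n + 1))))) =
              ((IsScalarTower.toAlgHom A (Quiet.RootRing p A a) (MvPolynomial (Fin n) (Quiet.RootRing p A a))).comp
                (AdjoinRoot.mkₐ _)) := by
            refine Polynomial.algHom_ext ?_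
            simp [π]
          exact AlgHom.congr_fun e q
      | add x y hx hy => exact π.range.add_mem (hx trivial) (hy trivial)
      | mul_X x i hx => exact π.range.mul_mem (hx trivial) ⟨X i.succ, by simp [π]⟩
    choose G' hG' using fun i => hπ (G i)
    refine ⟨Fin.cons f G', (θ.restrictScalars A).comp π, hθ.comp hπ, le_antisymm (fun x hx => ?_) ?_⟩
    · have hx' : π x ∈ Ideal.span (Set.range G) := by
        rw [← hker]
        exact hx
      have hmap : (Ideal.span (Set.range G')).map π.toRingHom = Ideal.span (Set.range G) := by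
        rw [Ideal.map_span, ← Set.range_comp]
        congr 2
        exact funext hG'
      obtain ⟨y, hy, hxy⟩ := (Ideal.mem_map_iff_of_surjective π.toRingHom hπ).1 (hmap ▸ hx')
      have hd : x - y ∈ Ideal.span {f} := by
        rw [← Ideal.Quotient.eq_zero_iff_mem, map_sub, ← hσπ, RingHom.comp_apply, RingHom.comp_apply]
        rw [show π.toRingHom y = π.toRingHom x from hxy, sub_self]
      rw [← sub_add_cancel x y, Fin.range_cons]
      exact Ideal.add_mem _ (Ideal.span_mono (Set.singleton_subset_iff.2 (Set.mem_insert _ _)) hd)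
        (Ideal.span_mono (Set.subset_insert _ _) hy)
    · rw [Ideal.span_le]
      rintro _ ⟨i, rfl⟩
      show θ (π _) = 0
      refine Fin.cases ?_ (fun j => ?_) i
      · have h0 : π f = 0 := by
          have h := AdjoinRoot.eval₂_root (Polynomial.X ^ p - Polynomial.C a : Polynomial A)
          rw [Polynomial.eval₂_sub, Polynomial.eval₂_pow, Polynomial.eval₂_X, Polynomial.eval₂_C] at h
          simp only [π, f, map_sub, map_pow, aeval_X, aeval_C, Fin.cons_zero]
          change (C (AdjoinRoot.root _) : MvPolynomial (Fin n) (Quiet.RootRing p A a)) ^ p - C (AdjoinRoot.of _ a) = 0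
          rw [← map_pow, ← map_sub, h, map_zero]
        rw [Fin.cons_zero, h0, map_zero]
      · rw [Fin.cons_succ, hG']
        exact (RingHom.mem_ker).1 (hker ▸ Ideal.subset_span ⟨j, rfl⟩)

/-- Root towers are syntomic. -/
theorem isSyntomic_of_isRootTower (p : ℕ) (hp : p ≠ 0) (n : ℕ) (A B : Type u) [CommRing A] [CommRing B]
    [Algebra A B] (hT : Quiet.IsRootTower p n A B) : Synt.IsSyntomic A B := by
  obtain ⟨_, _, F, ψ, hψ, hker⟩ := exists_presentation p hp n A B hT
  let E : Synt.RelGCIRing A n n F ≃ₐ[A] B :=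
    (Ideal.quotientEquivAlgOfEq A hker.symm).trans (Ideal.quotientKerAlgEquivOfSurjective hψ)
  haveI : Module.Finite A (Synt.RelGCIRing A n n F) := Module.Finite.equiv E.symm.toLinearEquiv
  refine CI2.isSyntomic_congr E (CI2.isSyntomic_of_isRelGCI fun q hq => ⟨le_rfl, ?_⟩)
  rw [S18934.dim0 q.asIdeal.ResidueField (q.asIdeal.Fiber (Synt.RelGCIRing A n n F))]
  simp

/-- Root extractions are syntomic. -/
theorem isSyntomicMor_of_isPthRoot (p : ℕ) (hp : p ≠ 0) {X Y : Scheme.{u}} (r : Y ⟶ X)
    (hr : Quiet.IsPthRoot p r) : Synt.IsSyntomicMor r := by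
  intro y
  obtain ⟨U, hyU, hV, n, hT⟩ := hr (r y)
  refine ⟨⟨r ⁻¹ᵁ U.1, hV⟩, U, le_refl _, hyU, ?_⟩
  letI := (r.app U.1).hom.toAlgebra
  have h := isSyntomic_of_isRootTower p hp n _ _ hT
  rw [← r.app_eq_appLE]
  exact h

/-- Over a scheme `X` of prime characteristic `p`, a quasi-etale morphism `f : Y ⟶ X` (locally on the
source an extraction of `p`-th roots followed by an etale morphism) is syntomic: every point of `Y`
has an affine open neighbourhood mapping into an affine open of `X` such that the induced ring map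
is flat, finitely presented and has local complete intersection fibres. -/
theorem result (p : ℕ) [Fact p.Prime] {X Y : Scheme.{u}} [FrobSch.IsCharP X p]
    (f : Y ⟶ X) (hf : Quiet.IsQuiet p f) : Synt.IsSyntomicMor f := by
  intro y
  obtain ⟨V, Y', r, e, hy, hr, he, hre⟩ := hf y
  haveI := he
  obtain ⟨hflat, hK⟩ := (S9758.result r).2 (isSyntomicMor_of_isPthRoot p (Fact.out : p.Prime).ne_zero r hr)
  haveI : Flat (r ≫ e) := inferInstance
  have hK' : ∀ v, Synt.IsKoszulAt (r ≫ e) v := fun v => by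
    obtain ⟨U, P, i, π, hvU, hft, hi, hπ, hfac⟩ := hK v
    refine ⟨U, P, i, π ≫ e, hvU, ?_, hi, inferInstance, by rw [reassoc_of% hfac]⟩
    rw [← Category.assoc]
    infer_instance
  obtain ⟨U, W, hle, hyU, hS⟩ := (S9758.result (r ≫ e)).1 ⟨inferInstance, hK'⟩ ⟨y, hy⟩
  have hle' : V.ι ''ᵁ U.1 ≤ f ⁻¹ᵁ W.1 := by
    rintro _ ⟨z, hz, rfl⟩
    have h := hle hz
    show f (V.ι z) ∈ W.1
    rw [← Scheme.Hom.comp_apply, ← hre]
    exact h
  refine ⟨⟨V.ι ''ᵁ U.1, U.2.image_of_isOpenImmersion V.ι⟩, W, hle', ⟨⟨y, hy⟩, hyU, rfl⟩, ?_⟩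
  have key : ∀ (m : (V : Scheme.{u}) ⟶ X), m = r ≫ e → ∀ (h : U.1 ≤ m ⁻¹ᵁ W.1),
      letI := (m.appLE W.1 U.1 h).hom.toAlgebra
      Synt.IsSyntomic Γ(X, W.1) Γ(V.toScheme, U.1) := by
    rintro _ rfl h
    exact hS
  have h' : U.1 ≤ (V.ι ≫ f) ⁻¹ᵁ W.1 := by rw [← hre]; exact hle
  have h := key (V.ι ≫ f) hre.symm h'
  have heq : (V.ι ≫ f).appLE W.1 U.1 h' = f.appLE W.1 (V.ι ''ᵁ U.1) hle' := by
    exact ((Scheme.Hom.comp_appLE V.ι f W.1 U.1 h').trans
      (congrArg (f.app W.1 ≫ ·) (V.ι_appLE (f ⁻¹ᵁ W.1) U.1 (show U.1 ≤ V.ι ⁻¹ᵁ (f ⁻¹ᵁ W.1) from h')))).trans rfl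
  rw [heq] at h
  exact h

end Groth.Agent.S15044
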