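import Groth.Statements.S15045
import Groth.Agent.Lib.QuietComp28.Basic
import Groth.Agent.S0075

set_option autoImplicit false
set_option linter.style.haveILetI false
set_option backward.isDefEq.respectTransparency.types false
open CategoryTheory AlgebraicGeometry
universe u
open Quiet

namespace Groth.Agent.S15045

open Polynomial in
/-- Root towers lift along surjections. -/
theorem exists_tower_lift (p n : ℕ) : ∀ (A₀ A B : Type u) [CommRing A₀] [CommRing A] [CommRing B] [Algebra A B]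
    (ψ : A₀ →+* A), Function.Surjective ψ → Quiet.IsRootTower p n A B →
    ∃ (B₀ : Type u) (_ : CommRing B₀) (_ : Algebra A₀ B₀) (ι : B₀ →+* B), Quiet.IsRootTower p n A₀ B₀ ∧
      IsPushout (CommRingCat.ofHom (algebraMap A₀ B₀)) (CommRingCat.ofHom ψ) (CommRingCat.ofHom ι)
        (CommRingCat.ofHom (algebraMap A B)) := by
  induction n with
  | zero =>
    intro A₀ A B _ _ _ _ ψ _ hT
    simp only [Quiet.IsRootTower] at hT ⊢
    obtain ⟨e⟩ := hT
    refine ⟨A₀, inferInstance, Algebra.id A₀, (algebraMap A B).comp ψ, ⟨AlgEquiv.refl⟩, ?_⟩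
    haveI : IsIso (CommRingCat.ofHom (algebraMap A B)) := by
      rw [ConcreteCategory.isIso_iff_bijective]
      refine Function.bijective_iff_has_inverse.2 ⟨e, fun x => e.commutes x, fun x => ?_⟩
      exact e.injective (e.commutes (e x))
    haveI : IsIso (CommRingCat.ofHom (algebraMap A₀ A₀)) := inferInstanceAs (IsIso (𝟙 (CommRingCat.of A₀)))
    exact IsPushout.of_horiz_isIso ⟨by ext; rfl⟩
  | succ n ih =>
    intro A₀ A B _ _ _ _ ψ hψ hT
    simp only [Quiet.IsRootTower] at hT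
    obtain ⟨a, algR, htow, hT⟩ := hT
    obtain ⟨a₀, rfl⟩ := hψ a
    let χ : Quiet.RootRing p A₀ a₀ →+* Quiet.RootRing p A (ψ a₀) :=
      AdjoinRoot.lift ((AdjoinRoot.of _).comp ψ) (AdjoinRoot.root _) (by
        have := AdjoinRoot.eval₂_root (X ^ p - C (ψ a₀) : A[X])
        simpa using this)
    have hl := S15042.isPushout_root p ψ a₀ χ (RingHom.ext fun x => by simp [χ]) (by simp [χ])
    have hχ : Function.Surjective χ := fun y => by
      induction y using AdjoinRoot.induction_on with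
      | ih q =>
        induction q using Polynomial.induction_on' with
        | add q₁ q₂ h₁ h₂ =>
          obtain ⟨x₁, e₁⟩ := h₁
          obtain ⟨x₂, e₂⟩ := h₂
          exact ⟨x₁ + x₂, by rw [map_add, e₁, e₂, map_add]⟩
        | monomial i c =>
          obtain ⟨c₀, rfl⟩ := hψ c
          refine ⟨AdjoinRoot.of _ c₀ * AdjoinRoot.root _ ^ i, ?_⟩
          rw [← C_mul_X_pow_eq_monomial, map_mul, map_pow, map_mul, map_pow, AdjoinRoot.mk_X, AdjoinRoot.mk_C]
          simp [χ]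
    obtain ⟨B₀, _, _, ι, hT₀, hP⟩ := ih _ _ B χ hχ hT
    letI alg : Algebra A₀ B₀ :=
      ((algebraMap (Quiet.RootRing p A₀ a₀) B₀).comp (algebraMap A₀ (Quiet.RootRing p A₀ a₀))).toAlgebra
    refine ⟨B₀, inferInstance, alg, ι, ?_, ?_⟩
    · simp only [Quiet.IsRootTower]
      exact ⟨a₀, inferInstance, IsScalarTower.of_algebraMap_eq fun _ => rfl, hT₀⟩
    · have h : CommRingCat.ofHom (AdjoinRoot.of (X ^ p - C (ψ a₀) : A[X])) ≫
          CommRingCat.ofHom (algebraMap (Quiet.RootRing p A (ψ a₀)) B) = CommRingCat.ofHom (algebraMap A B) := by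
        ext x
        exact (IsScalarTower.algebraMap_apply A (Quiet.RootRing p A (ψ a₀)) B x).symm
      rw [← h]
      exact hl.paste_horiz hP

/-- The spectrum of a root tower is a root extraction. -/
theorem isPthRoot_specMap (p : ℕ) {n : ℕ} (A B : Type u) [CommRing A] [CommRing B] [Algebra A B]
    (hT : Quiet.IsRootTower p n A B) : Quiet.IsPthRoot p (Spec.map (CommRingCat.ofHom (algebraMap A B))) := by
  intro x
  refine ⟨⟨⊤, isAffineOpen_top _⟩, trivial, isAffineOpen_top _, n, ?_⟩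
  letI := ((Spec.map (CommRingCat.ofHom (algebraMap A B))).app ⊤).hom.toAlgebra
  refine S15042.isRootTower_pushout p n A B Γ(Spec (CommRingCat.of A), ⊤)
    Γ(Spec (CommRingCat.of B), (Spec.map (CommRingCat.ofHom (algebraMap A B))) ⁻¹ᵁ ⊤)
    (Scheme.ΓSpecIso (CommRingCat.of A)).inv.hom (Scheme.ΓSpecIso (CommRingCat.of B)).inv.hom ?_ hT
  simp only [RingHom.algebraMap_toAlgebra, CommRingCat.ofHom_hom]
  haveI : IsIso (CommRingCat.ofHom (Scheme.ΓSpecIso (CommRingCat.of A)).inv.hom) :=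
    inferInstanceAs (IsIso (Scheme.ΓSpecIso (CommRingCat.of A)).inv)
  haveI : IsIso (CommRingCat.ofHom (R := B)
      (S := ↑Γ(Spec (CommRingCat.of B), (Spec.map (CommRingCat.ofHom (algebraMap A B))) ⁻¹ᵁ ⊤))
      (Scheme.ΓSpecIso (CommRingCat.of B)).inv.hom) :=
    inferInstanceAs (IsIso (Scheme.ΓSpecIso (CommRingCat.of B)).inv)
  exact IsPushout.of_vert_isIso ⟨Scheme.ΓSpecIso_inv_naturality _⟩

/-- Let `T` be a scheme of prime characteristic `p`, `i : U ⟶ T` a closed immersion which is surjective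
on points, and `f' : U' ⟶ U` quasi-etale (locally on `U'` an extraction of `p`-th roots followed by
an etale morphism). Then every point of `U'` has an open neighbourhood `V` which is the base change
along `i` of a quasi-etale `T`-scheme: there are a quasi-etale `q : T' ⟶ T` and `j : V ⟶ T'` making
`V`, with `j` and `V ⟶ U' ⟶ U`, the fibre product of `q` and `i`. (The published statement asks `U ⟶
T` to be a closed nil-immersion, a term it does not define; this row takes any closed immersion that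
is surjective on points, which is all the printed argument uses.) -/
theorem result (p : ℕ) [Fact p.Prime] {T U U' : Scheme.{u}}
    [FrobSch.IsCharP T p] (i : U ⟶ T) [IsClosedImmersion i] [Surjective i] (f' : U' ⟶ U)
    (hf' : Quiet.IsQuiet p f') (u : U') :
    ∃ (V : U'.Opens) (T' : Scheme.{u}) (q : T' ⟶ T) (j : (V : Scheme.{u}) ⟶ T'),
      u ∈ V ∧ Quiet.IsQuiet p q ∧ IsPullback j (V.ι ≫ f') q i := by
  have hp : p.Prime := Fact.out
  haveI := FrobSch.IsCharP.of_hom i p
  obtain ⟨V, Y, r, e, huV, hr, he, hre⟩ := hf' u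
  haveI := he
  haveI : UniversallyInjective i := inferInstance
  haveI := S0075.result i
  -- lift the etale part
  let O : T.Etale := (EtCoh.bc i).objPreimage (Scheme.Etale.mk e)
  let φ : Limits.pullback O.hom i ≅ Y :=
    (Scheme.Etale.forget U ⋙ CategoryTheory.Over.forget U).mapIso ((EtCoh.bc i).objObjPreimageIso (Scheme.Etale.mk e))
  have hφ : φ.hom ≫ e = Limits.pullback.snd O.hom i :=
    CategoryTheory.Over.w ((Scheme.Etale.forget U).map ((EtCoh.bc i).objObjPreimageIso (Scheme.Etale.mk e)).hom)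
  haveI : Etale O.hom := O.prop
  let k : Y ⟶ O.left := φ.inv ≫ Limits.pullback.fst O.hom i
  have hk : IsPullback k e O.hom i :=
    (IsPullback.of_hasPullback O.hom i).of_iso φ (Iso.refl _) (Iso.refl _) (Iso.refl _)
      (by simp [k]) (by simp [hφ]) (by simp) (by simp)
  haveI : IsClosedImmersion k := MorphismProperty.of_isPullback hk.flip inferInstance
  haveI : FrobSch.IsCharP Y p := FrobSch.IsCharP.of_hom e p
  -- a small affine piece
  obtain ⟨U₀, hyU₀, hV₀, n, hT₀⟩ := hr (r ⟨u, huV⟩)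
  obtain ⟨O₀, hO₀, hO₀k⟩ := k.isEmbedding.isInducing.isOpen_iff.1 U₀.1.isOpen
  obtain ⟨_, ⟨(W : Scheme.Opens O.left), hW, rfl⟩, hyW, hWle⟩ :=
    (Scheme.isBasis_affineOpens O.left).exists_subset_of_mem_open
      (show k (r ⟨u, huV⟩) ∈ O₀ by rw [← Set.mem_preimage, hO₀k]; exact hyU₀) hO₀
  have hle : k ⁻¹ᵁ W ≤ U₀.1 := fun y hy => by
    rw [← SetLike.mem_coe, ← hO₀k]
    exact hWle hy
  have hWY : IsAffineOpen (k ⁻¹ᵁ W) := hW.preimage k
  obtain ⟨hV₁, hT₁⟩ := QuietComp28.tower_of_le p r U₀.2 hV₀ hT₀ hWY hle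
  letI := (r.app (k ⁻¹ᵁ W)).hom.toAlgebra
  obtain ⟨B₀, _, _, ι, hTB, hP⟩ := exists_tower_lift p n Γ(O.left, W) Γ(Y, k ⁻¹ᵁ W)
    Γ(V.toScheme, r ⁻¹ᵁ (k ⁻¹ᵁ W)) (k.app W).hom (k.app_surjective W hW) hT₁
  let a := Spec.map (CommRingCat.ofHom (algebraMap Γ(O.left, W) B₀))
  -- the square over the affine piece
  have h1 := isPullback_SpecMap_of_isPushout _ _ _ _ hP
  have h2 : IsPullback (Spec.map (k.app W)) hWY.fromSpec hW.fromSpec k := by
    refine IsOpenImmersion.isPullback _ _ _ _ ?_ ?_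
    · have h := IsAffineOpen.SpecMap_appLE_fromSpec k hW hWY le_rfl
      rw [← k.app_eq_appLE] at h
      exact h.symm
    · rw [IsAffineOpen.opensRange_fromSpec, IsAffineOpen.opensRange_fromSpec]
  let rB := Spec.map (CommRingCat.ofHom (algebraMap Γ(Y, k ⁻¹ᵁ W) Γ(V.toScheme, r ⁻¹ᵁ (k ⁻¹ᵁ W))))
  have h3 : IsPullback (Spec.map (CommRingCat.ofHom ι)) ((rB ≫ hWY.fromSpec) ≫ e)
      ((a ≫ hW.fromSpec) ≫ O.hom) i := (h1.paste_vert h2).paste_vert hk
  let V₁ : V.toScheme.Opens := r ⁻¹ᵁ (k ⁻¹ᵁ W)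
  have hr1 : rB ≫ hWY.fromSpec = hV₁.fromSpec ≫ r := by
    have h := IsAffineOpen.SpecMap_appLE_fromSpec r hWY hV₁ le_rfl
    rw [← r.app_eq_appLE] at h
    exact h
  let ε : (V.ι ''ᵁ V₁).toScheme ≅ Spec Γ(V.toScheme, V₁) := (V.ι.isoImage V₁).symm ≪≫ hV₁.isoSpec
  refine ⟨V.ι ''ᵁ V₁, Spec (CommRingCat.of B₀), (a ≫ hW.fromSpec) ≫ O.hom,
    ε.hom ≫ Spec.map (CommRingCat.ofHom ι), ⟨⟨u, huV⟩, hyW, rfl⟩, fun z => ?_, ?_⟩
  · refine ⟨⊤, W.toScheme, (Spec (CommRingCat.of B₀)).topIso.hom ≫ a ≫ hW.isoSpec.inv, W.ι ≫ O.hom, trivial, ?_,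
      inferInstance, ?_⟩
    · exact S15042.isPthRoot_baseChange p (IsPullback.of_horiz_isIso
        (fst := (Spec (CommRingCat.of B₀)).topIso.hom)
        (snd := (Spec (CommRingCat.of B₀)).topIso.hom ≫ a ≫ hW.isoSpec.inv) (f := a) (g := hW.isoSpec.hom) ⟨by simp⟩)
        (isPthRoot_specMap p _ _ hTB)
    · simp only [Category.assoc]
      rw [IsAffineOpen.isoSpec_inv_ι_assoc]
      rfl
  · refine h3.of_iso ε.symm (Iso.refl _) (Iso.refl _) (Iso.refl _) ?_ ?_ (by simp) (by simp)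
    · rw [Iso.refl_hom, Category.comp_id, Iso.symm_hom]
      exact (ε.inv_hom_id_assoc _).symm
    · rw [Iso.refl_hom, Category.comp_id, hr1]
      simp only [ε, Iso.symm_hom, Iso.trans_inv, Iso.symm_inv, Category.assoc]
      rw [hre, Scheme.Hom.isoImage_hom_ι_assoc, IsAffineOpen.isoSpec_inv_ι_assoc]

end Groth.Agent.S15045
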