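import Groth.Statements.S15048
import Groth.Agent.Lib.OT.Deligne

set_option autoImplicit false
universe u v
open Hopf

namespace Groth.Agent.S15048

/-- Let R be a commutative ring and A a commutative and cocommutative Hopf algebra over R which is
finitely generated and projective as an R-module and has rank n at every prime of R (a commutative
finite locally free group scheme G = Spec A over Spec R of constant order n). Then n kills G: in the
convolution group of R-algebra endomorphisms of A the n-th power of the identity is the neutral
element, the counit followed by the unit; equivalently every point g of G with values in an
R-algebra satisfies gⁿ = 1. (The published setting has a Noetherian base ring; the argument is the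
same for any commutative base ring, which is allowed here.) -/
theorem result (R : Type u) [CommRing R] (A : Type v) [CommRing A] [HopfAlgebra R A]
    [Coalgebra.IsCocomm R A] [Module.Finite R A] [Module.Projective R A] (n : ℕ)
    (hn : ∀ p : PrimeSpectrum R, Module.rankAtStalk A p = n) :
    (WithConv.toConv (AlgHom.id R A)) ^ n = 1 := by
  exact Groth.Agent.OT.convPow_eq_one_of_rankAtStalk_eq n hn

end Groth.Agent.S15048
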