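import Groth.Statements.S15049
import Groth.Agent.Lib.LubinTate.Formal

set_option autoImplicit false
universe u
open LubinTate

namespace Groth.Agent.S15049
open Groth.Agent.LubinTate

/-- Let O be a discrete valuation ring with finite residue field of cardinality q, π a uniformizer of O,
and f = πT + T^q ∈ O[[T]]. Then there is a one-dimensional commutative formal group law F(X,Y) over
O for which f is an endomorphism, f(F(X,Y)) = F(f(X), f(Y)); and F is the unique power series in
O[[X,Y]] with zero constant term and linear part X + Y satisfying this identity. (The published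
statement is for the ring of integers of a finite extension of ℚ_p or of 𝔽_q((X)); completeness is
not used and any discrete valuation ring with finite residue field is allowed here.) -/
theorem result (O : Type u) [CommRing O] [IsDomain O] [IsDiscreteValuationRing O]
    [Finite (IsLocalRing.ResidueField O)] (π : O) (hπ : Irreducible π) (f : PowerSeries O)
    (hf : f = π • PowerSeries.X + PowerSeries.X ^ Nat.card (IsLocalRing.ResidueField O)) :
    ∃ F : FormalGroup O, F.IsComm ∧
      PowerSeries.subst F.toPowerSeries f =
        MvPowerSeries.subst (fun i : Fin 2 => PowerSeries.subst (MvPowerSeries.X i : MvPowerSeries (Fin 2) O) f) F.toPowerSeries ∧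
      ∀ G : MvPowerSeries (Fin 2) O, G.constantCoeff = 0 → G.coeff (Finsupp.single 0 1) = 1 →
        G.coeff (Finsupp.single 1 1) = 1 →
        PowerSeries.subst G f =
        MvPowerSeries.subst (fun i : Fin 2 => PowerSeries.subst (MvPowerSeries.X i : MvPowerSeries (Fin 2) O) f) G →
        G = F.toPowerSeries := by

  obtain ⟨F, hc, hs⟩ := exists_formalGroup O hπ
  refine ⟨F, hc, (isSol_fin hf F.zero_constantCoeff).1 hs, fun G h0 h1 h2 hG => ?_⟩
  refine IsSol.ext (two_le_card O) hπ.ne_zero hπ.not_isUnit ((isSol_fin hf h0).2 hG) hs h0 F.zero_constantCoeff
    fun i => ?_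
  fin_cases i
  · exact h1.trans F.lin_coeff_X.symm
  · exact h2.trans F.lin_coeff_Y.symm

end Groth.Agent.S15049
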