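import Groth.Statements.S15051
import Groth.Agent.Lib.LubinTate.Formal

set_option autoImplicit false
universe u
open LubinTate

namespace Groth.Agent.S15051
open Groth.Agent.LubinTate

/-- Let O be a discrete valuation ring with finite residue field of cardinality q, π a uniformizer of O,
and f = πT + T^q ∈ O[[T]]; let F be a one-dimensional formal group law over O for which f is an
endomorphism, f(F(X,Y)) = F(f(X), f(Y)), and g ∈ O[[T]] a power series with zero constant term which
commutes with f, g(f(T)) = f(g(T)). Then g is an endomorphism of F, that is g(F(X,Y)) = F(g(X),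
g(Y)); so α ↦ [α] maps O into the endomorphisms of the Lubin–Tate formal group. (The published
statement is for the ring of integers of a finite extension of ℚ_p or of 𝔽_q((X)); completeness is
not used and any discrete valuation ring with finite residue field is allowed here.) -/
theorem result (O : Type u) [CommRing O] [IsDomain O] [IsDiscreteValuationRing O]
    [Finite (IsLocalRing.ResidueField O)] (π : O) (hπ : Irreducible π) (f : PowerSeries O)
    (hf : f = π • PowerSeries.X + PowerSeries.X ^ Nat.card (IsLocalRing.ResidueField O))
    (F : FormalGroup O)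
    (hF : PowerSeries.subst F.toPowerSeries f =
        MvPowerSeries.subst (fun i : Fin 2 => PowerSeries.subst (MvPowerSeries.X i : MvPowerSeries (Fin 2) O) f) F.toPowerSeries)
    (g : PowerSeries O) (hg0 : g.constantCoeff = 0)
    (hgf : PowerSeries.subst g f = PowerSeries.subst f g) :
    PowerSeries.subst F.toPowerSeries g =
      MvPowerSeries.subst (fun i : Fin 2 => PowerSeries.subst (MvPowerSeries.X i : MvPowerSeries (Fin 2) O) g)
        F.toPowerSeries := by

  have hq := two_le_card O
  have hq0 : Nat.card (IsLocalRing.ResidueField O) ≠ 0 := by omega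
  have hFs := (isSol_fin hf F.zero_constantCoeff).2 hF
  have hgs := (isSol_unit hf hg0).2 hgf
  let gX : Fin 2 → MvPowerSeries (Fin 2) O := fun i => PowerSeries.subst (MvPowerSeries.X i : MvPowerSeries (Fin 2) O) g
  have hgX0 : ∀ i, MvPowerSeries.constantCoeff (gX i) = 0 := fun i =>
    constantCoeff_subst_zero (fun _ => MvPowerSeries.constantCoeff_X i) hg0
  have hgXs : ∀ i, IsSol π (Nat.card (IsLocalRing.ResidueField O)) (gX i) := fun i =>
    hgs.subst hq0 (fun _ => MvPowerSeries.constantCoeff_X i) (fun _ => isSol_X π hq0 i)
  refine IsSol.ext hq hπ.ne_zero hπ.not_isUnit (hgs.subst hq0 (fun _ => F.zero_constantCoeff) (fun _ => hFs))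
    (hFs.subst hq0 hgX0 hgXs) (constantCoeff_subst_zero (fun _ => F.zero_constantCoeff) hg0)
    (constantCoeff_subst_zero hgX0 F.zero_constantCoeff) fun j => ?_
  refine (single_subst g hg0 F.zero_constantCoeff j).trans ?_
  rw [coeff_single_subst hgX0 F.zero_constantCoeff, Fin.sum_univ_two, F.lin_coeff_X, F.lin_coeff_Y, one_mul, one_mul]
  simp only [gX, single_subst g hg0 (MvPowerSeries.constantCoeff_X _)]
  fin_cases j <;> simp [MvPowerSeries.coeff_X, Finsupp.single_left_inj, F.lin_coeff_X, F.lin_coeff_Y]

end Groth.Agent.S15051
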