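import Groth.Statements.S15052
import Groth.Agent.Lib.LubinTate.Formal

set_option autoImplicit false
universe u
open LubinTate

namespace Groth.Agent.S15052
open Groth.Agent.LubinTate

/-- Let O be a discrete valuation ring with finite residue field of cardinality q, π a uniformizer of O,
and f = πT + T^q ∈ O[[T]]; let K be the fraction field of O and F a one-dimensional formal group law
over O for which f is an endomorphism, f(F(X,Y)) = F(f(X), f(Y)). Then there is a unique power
series ℓ ∈ K[[T]] with zero constant term and linear coefficient 1 such that ℓ(f(T)) = π·ℓ(T); this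
logarithm is a homomorphism to the additive formal group, ℓ(F(T,S)) = ℓ(T) + ℓ(S), and it is
O-linear in the sense that ℓ(g(T)) = α·ℓ(T) for every α ∈ O and every series g ∈ O[[T]] with zero
constant term and linear coefficient α commuting with f. (The published statement is for the ring of
integers of a finite extension of ℚ_p; completeness is not used and any discrete valuation ring with
finite residue field is allowed here.) -/
theorem result (O : Type u) [CommRing O] [IsDomain O] [IsDiscreteValuationRing O]
    [Finite (IsLocalRing.ResidueField O)] (K : Type u) [Field K] [Algebra O K] [IsFractionRing O K]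
    (π : O) (hπ : Irreducible π) (f : PowerSeries O)
    (hf : f = π • PowerSeries.X + PowerSeries.X ^ Nat.card (IsLocalRing.ResidueField O))
    (F : FormalGroup O)
    (hF : PowerSeries.subst F.toPowerSeries f =
        MvPowerSeries.subst (fun i : Fin 2 => PowerSeries.subst (MvPowerSeries.X i : MvPowerSeries (Fin 2) O) f) F.toPowerSeries) :
    ∃ ℓ : PowerSeries K, (ℓ.constantCoeff = 0 ∧ ℓ.coeff 1 = 1 ∧
      PowerSeries.subst (PowerSeries.map (algebraMap O K) f) ℓ = algebraMap O K π • ℓ) ∧
      (∀ ℓ' : PowerSeries K, ℓ'.constantCoeff = 0 → ℓ'.coeff 1 = 1 →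
        PowerSeries.subst (PowerSeries.map (algebraMap O K) f) ℓ' = algebraMap O K π • ℓ' → ℓ' = ℓ) ∧
      PowerSeries.subst ((F.toPowerSeries).map (algebraMap O K)) ℓ =
        PowerSeries.subst (MvPowerSeries.X (0 : Fin 2) : MvPowerSeries (Fin 2) K) ℓ +
          PowerSeries.subst (MvPowerSeries.X (1 : Fin 2) : MvPowerSeries (Fin 2) K) ℓ ∧
      (∀ (α : O) (g : PowerSeries O), g.constantCoeff = 0 → g.coeff 1 = α →
        PowerSeries.subst g f = PowerSeries.subst f g →
        PowerSeries.subst (PowerSeries.map (algebraMap O K) g) ℓ = algebraMap O K α • ℓ) := by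

  let a := algebraMap O K
  have ha : Function.Injective a := IsFractionRing.injective O K
  let q := Nat.card (IsLocalRing.ResidueField O)
  have hq : 2 ≤ q := two_le_card O
  have hq0 : q ≠ 0 := by omega
  have hu : ∀ n, 2 ≤ n → a π ^ n - a π ≠ 0 := fun n hn h => by
    apply slope_ne_zero hπ.ne_zero hπ.not_isUnit hn
    apply ha
    rw [map_sub, map_pow, map_zero]
    linear_combination -h
  have hfK : PowerSeries.map a f = a π • PowerSeries.X + PowerSeries.X ^ q := by
    rw [hf, map_add, map_pow, PowerSeries.map_X, PowerSeries.smul_eq_C_mul, map_mul, PowerSeries.map_C,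
      PowerSeries.map_X, PowerSeries.smul_eq_C_mul]
  have hmap : ∀ {σ : Type} [Fintype σ] (φ : MvPowerSeries σ O), IsSol π q φ →
      IsSol (a π) q (MvPowerSeries.map a φ) := by
    intro σ _ φ hφ
    have h := congrArg (MvPowerSeries.map a) hφ
    rw [MvPowerSeries.map_subst (hasSubst_tw π hq0)] at h
    rw [IsSol]
    simp only [map_add, map_pow, MvPowerSeries.smul_eq_C_mul, map_mul, MvPowerSeries.map_C] at h ⊢
    rw [h]
    congr 1
    funext i
    simp [tw, MvPowerSeries.smul_eq_C_mul]
  obtain ⟨l, l0, l1, le⟩ := exists_isEig (σ := Unit) hq hu (fun _ => (1 : K))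
  have hl1 : PowerSeries.coeff 1 (l : PowerSeries K) = 1 := (coeff_one (R := K) l).symm.trans (l1 ())
  refine ⟨l, ⟨l0, hl1, ?_⟩, fun l' h0' h1' he' => ?_, ?_, fun α g hg0 hg1 hgf => ?_⟩
  · rw [subst_by_f hfK]; exact le
  · rw [subst_by_f hfK] at he'
    refine IsEig.ext hq hu he' le h0' l0 fun i => ?_
    rw [l1]
    exact (coeff_one l').trans h1'
  · have hFs := (isSol_fin hf F.zero_constantCoeff).2 hF
    let FK := MvPowerSeries.map a F.toPowerSeries
    have hFK0 : MvPowerSeries.constantCoeff FK = 0 := by
      simp [FK, MvPowerSeries.constantCoeff_map, F.zero_constantCoeff]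
    have hX : ∀ i : Fin 2, IsEig (a π) q (PowerSeries.subst (MvPowerSeries.X i : MvPowerSeries (Fin 2) K) (l : PowerSeries K)) :=
      fun i => le.subst hq0 (fun _ => MvPowerSeries.constantCoeff_X i) (fun _ => isSol_X _ hq0 i)
    have hX0 : ∀ i : Fin 2, MvPowerSeries.constantCoeff
        (PowerSeries.subst (MvPowerSeries.X i : MvPowerSeries (Fin 2) K) (l : PowerSeries K)) = 0 :=
      fun i => constantCoeff_subst_zero (fun _ => MvPowerSeries.constantCoeff_X i) l0
    refine IsEig.ext hq hu (le.subst hq0 (fun _ => hFK0) (fun _ => hmap _ hFs)) ((hX 0).add hq0 (hX 1))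
      (constantCoeff_subst_zero (fun _ => hFK0) l0) (by rw [map_add, hX0, hX0, add_zero]) fun j => ?_
    refine (single_subst (R := K) l l0 hFK0 j).trans ?_
    rw [hl1, one_mul, map_add, single_subst (R := K) l l0 (MvPowerSeries.constantCoeff_X _),
      single_subst (R := K) l l0 (MvPowerSeries.constantCoeff_X _), hl1]
    fin_cases j <;> simp [FK, MvPowerSeries.coeff_X, Finsupp.single_left_inj, F.lin_coeff_X, F.lin_coeff_Y]
  · have hgs := hmap (σ := Unit) g ((isSol_unit hf hg0).2 hgf)
    have hgK0 : MvPowerSeries.constantCoeff (MvPowerSeries.map a (g : MvPowerSeries Unit O)) = 0 := by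
      rw [MvPowerSeries.constantCoeff_map, show MvPowerSeries.constantCoeff (g : MvPowerSeries Unit O) = 0 from hg0, map_zero]
    refine IsEig.ext hq hu (le.subst hq0 (fun _ => hgK0) (fun _ => hgs)) (le.smul hq0 (a α))
      (constantCoeff_subst_zero (fun _ => hgK0) l0) (by rw [MvPowerSeries.constantCoeff_smul, l0, smul_zero]) fun j => ?_
    refine (single_subst (R := K) l l0 hgK0 j).trans ?_
    rw [MvPowerSeries.coeff_smul, l1, MvPowerSeries.coeff_map, coeff_one, hg1, hl1, one_mul, mul_one]

end Groth.Agent.S15052
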