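import Groth.Statements.S15054

set_option autoImplicit false
universe u
open BTGrp AlgebraicGeometry CategoryTheory CategoryTheory.Limits MonObj MonoidalCategory CartesianMonoidalCategory

namespace Groth.Agent.S15054

theorem pow_kills {S : Scheme.{u}} {ℓ h : ℕ} (G : BTGrp.ProBT ℓ S h) (t : ℕ) (T : Over S) (x : T ⟶ G.G t) :
    x ^ ℓ ^ t = 1 := by
  have hk := G.isKernel t
  haveI : IsSplitMono (η[G.G (t + 1)]) := IsSplitMono.mk' ⟨toUnit _, toUnit_unique _ _⟩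
  haveI : Mono (G.incl t) := hk.mono_fst_of_mono
  rw [← cancel_mono (G.incl t), MonObj.pow_comp, MonObj.one_comp]
  have := congrArg (fun φ => x ≫ φ) hk.w
  simp only [MonObj.comp_pow, Category.comp_id] at this
  rw [this, MonObj.one_eq_one, MonObj.comp_one, MonObj.comp_one]

/-- For an ℓ-divisible group, every composite of inclusions G(1) ⟶ G(t+1) is the kernel of
multiplication by ℓ on G(t+1). -/
theorem result {S : Scheme.{u}} (ℓ h : ℕ) [Fact ℓ.Prime] (G : BTGrp.ProBT ℓ S h)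
    (i : (t : ℕ) → (G.G 1 ⟶ G.G (t + 1))) (hi0 : i 0 = 𝟙 (G.G 1))
    (hi : ∀ t : ℕ, i (t + 1) = i t ≫ G.incl (t + 1)) (t : ℕ) :
    AlgGrp.IsKernel (i t) ((𝟙 (G.G (t + 1))) ^ ℓ) := by
  haveI hη : ∀ n, IsSplitMono (η[G.G n]) := fun n => IsSplitMono.mk' ⟨toUnit _, toUnit_unique _ _⟩
  haveI hinc : ∀ n, Mono (G.incl n) := fun n => (G.isKernel n).mono_fst_of_mono
  suffices H : Mono (i t) ∧ IsMonHom (i t) ∧
      ∀ (T : Over S) (x : T ⟶ G.G (t + 1)), x ^ ℓ = 1 → ∃ z, z ≫ i t = x by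
    obtain ⟨hm, hhom, hf⟩ := H
    have hw : i t ≫ (𝟙 (G.G (t + 1))) ^ ℓ = toUnit (G.G 1) ≫ η[G.G (t + 1)] := by
      rw [MonObj.comp_pow, Category.comp_id, ← Category.id_comp (i t), ← MonObj.pow_comp,
        show (𝟙 (G.G 1)) ^ ℓ = 1 by simpa using pow_kills G 1 _ (𝟙 (G.G 1)), MonObj.one_comp,
        MonObj.one_eq_one, MonObj.comp_one]
    have hfac : ∀ s : PullbackCone ((𝟙 (G.G (t + 1))) ^ ℓ) η[G.G (t + 1)], ∃ z, z ≫ i t = s.fst := fun s => hf _ s.fst (by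
      have := s.condition
      rw [MonObj.comp_pow, Category.comp_id] at this
      exact this.trans ((congrArg (s.snd ≫ ·) (MonObj.one_eq_one _)).trans (MonObj.comp_one _)))
    exact ⟨⟨hw⟩, ⟨PullbackCone.IsLimit.mk hw (fun s => (hfac s).choose) (fun s => (hfac s).choose_spec)
      (fun s => toUnit_unique _ _) fun s m hm1 _ => by rw [← cancel_mono (i t), hm1, (hfac s).choose_spec]⟩⟩
  induction t with
  | zero =>
    rw [hi0]
    exact ⟨inferInstance, inferInstance, fun T x _ => ⟨x, Category.comp_id x⟩⟩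
  | succ t ih =>
    obtain ⟨hm, hhom, hf⟩ := ih
    rw [hi]
    refine ⟨mono_comp _ _, inferInstance, fun T x hx => ?_⟩
    have hx' : x ^ ℓ ^ (t + 1) = 1 := by rw [pow_succ', pow_mul, hx, one_pow]
    have e : x ≫ (𝟙 (G.G (t + 1 + 1))) ^ (ℓ ^ (t + 1)) = toUnit T ≫ η[G.G (t + 1 + 1)] := by
      rw [MonObj.comp_pow, Category.comp_id, hx', MonObj.one_eq_one, MonObj.comp_one]
    obtain ⟨y, hy⟩ : ∃ y, y ≫ G.incl (t + 1) = x :=
      ⟨(G.isKernel (t + 1)).lift x (toUnit T) e, (G.isKernel (t + 1)).lift_fst _ _ _⟩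
    have hy' : y ^ ℓ = 1 := by rw [← cancel_mono (G.incl (t + 1)), MonObj.pow_comp, MonObj.one_comp, hy, hx]
    obtain ⟨z, hz⟩ := hf T y hy'
    exact ⟨z, by rw [← Category.assoc, hz, hy]⟩

end Groth.Agent.S15054
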