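import Groth.Agent.Lib.BTProj23.Basic
import Groth.Agent.Lib.AbRigid.KernelPair
import Groth.Agent.S15054
import Groth.Prelude.Def_BT
import Mathlib.CategoryTheory.Monoidal.Cartesian.Over
import Mathlib.CategoryTheory.Monoidal.Cartesian.Grp
import Mathlib.RingTheory.Noetherian.Defs
-- import your own Groth.Agent.* helpers here

set_option autoImplicit false
universe u
open CategoryTheory CategoryTheory.Limits MonoidalCategory CartesianMonoidalCategory MonObj GrpObj AlgebraicGeometry
open BTGrp

namespace Groth.Agent.S15055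

/-- Let R be a Noetherian ring, ℓ a prime and G = (G_ν)_ν an ℓ-divisible (Barsotti–Tate) group of height
h over Spec R, given as the system of its finite locally free layers G_ν of order ℓ^{νh} with
inclusions exhibiting G_ν as the ℓ^ν-torsion of G_{ν+1} and projections j_t : G_{t+1} → G_t through
which multiplication by ℓ on G_{t+1} factors. Let i_t : G_1 → G_{t+1} be the iterated inclusions
(i_0 = id, i_{t+1} = i_t followed by G_{t+1} → G_{t+2}). Then for every t the sequence 1 → G_1 →
G_{t+1} → G_t → 1 is exact: i_t is the kernel of j_t, and j_t is finite locally free of degree ℓ^h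
and surjective; in particular multiplication by ℓ is an epimorphism of fppf sheaves on the
ℓ-divisible group, with kernel of order ℓ^h. (The published statement treats the sequence 0 → G_v →
G_{v+t} → G_t → 0 for every v; this row is its case v = 1, combined with the consequence, stated
separately in the text, that multiplication by ℓ on the ℓ-divisible group is finite locally free of
degree ℓ^h and surjective.) -/
theorem result (R : Type u) [CommRing R] [IsNoetherianRing R] (ℓ h : ℕ)
    [Fact ℓ.Prime] (G : BTGrp.ProBT ℓ (Spec (CommRingCat.of R)) h)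
    (i : (t : ℕ) → (G.G 1 ⟶ G.G (t + 1))) (hi0 : i 0 = 𝟙 (G.G 1))
    (hi : ∀ t : ℕ, i (t + 1) = i t ≫ G.incl (t + 1)) (t : ℕ) :
    AlgGrp.IsKernel (i t) (G.proj t) ∧ Mor2.IsFinLocFreeOfDeg (ℓ ^ h) (G.proj t).left ∧
      Surjective (G.proj t).left := by
  have hk := Groth.Agent.S15054.result ℓ h G i hi0 hi t
  haveI hη : IsSplitMono (η[G.G (t + 1)]) := IsSplitMono.mk' ⟨toUnit _, toUnit_unique _ _⟩
  haveI hinc : Mono (G.incl t) := by
    haveI : IsSplitMono (η[G.G (t + 1)]) := hη
    exact (G.isKernel t).mono_fst_of_mono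
  have hη' : η[G.G t] ≫ G.incl t = η[G.G (t + 1)] := IsMonHom.one_hom (G.incl t)
  have hker : AlgGrp.IsKernel (i t) (G.proj t) := by
    have hw : i t ≫ G.proj t = toUnit (G.G 1) ≫ η[G.G t] := by
      rw [← cancel_mono (G.incl t), Category.assoc, Category.assoc, G.proj_incl, hη', hk.w]
    refine ⟨⟨hw⟩, ⟨PullbackCone.IsLimit.mk hw
      (fun c => hk.lift c.fst c.snd (by rw [← G.proj_incl, ← Category.assoc, c.condition, Category.assoc, hη']))
      (fun c => hk.lift_fst _ _ _) (fun c => toUnit_unique _ _)
      (fun c m h1 _ => hk.hom_ext (by rw [hk.lift_fst]; exact h1) (toUnit_unique _ _))⟩⟩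
  refine ⟨hker, ?_⟩
  have hkp := (Groth.Agent.AbRigid.isPullback_kernelPair (G.proj t) (i t) hker).map
    (Over.forget (Spec (CommRingCat.of R)))
  have h1 : Mor2.IsFinLocFreeOfDeg (ℓ ^ h) (G.G 1).hom := by simpa using G.finLocFree 1
  have h2 := Groth.Agent.HilbBC25.isFinLocFreeOfDeg_of_isPullback
    ((IsPullback.of_hasPullback (G.G (t + 1)).hom (G.G 1).hom).flip) h1
  have he : (fst (G.G (t + 1)) (G.G 1)).left = pullback.fst (G.G (t + 1)).hom (G.G 1).hom := rfl
  rw [← he] at h2
  have h3 := Groth.Agent.HilbBC25.isFinLocFreeOfDeg_of_isPullback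
    (IsPullback.of_horiz_isIso (fst := hkp.isoPullback.inv)
      (snd := pullback.fst (G.proj t).left (G.proj t).left)
      (f := (fst (G.G (t + 1)) (G.G 1)).left) (g := 𝟙 _) ⟨by
        rw [Category.comp_id]; exact hkp.isoPullback_inv_fst⟩) h2
  haveI : NeZero ℓ := ⟨(Fact.out : ℓ.Prime).ne_zero⟩
  refine Groth.Agent.BTProj23.finLocFreeOfDeg_of_kernelPair (e := ℓ ^ (t * h)) (G.proj t).left (G.G t).hom ?_
    (G.finLocFree t) h3.1.1 h3.1.2.1 h3.2 (pow_ne_zero h (Fact.out : ℓ.Prime).ne_zero)
  rw [Over.w, ← pow_add, show h + t * h = (t + 1) * h by ring]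
  exact G.finLocFree (t + 1)

end Groth.Agent.S15055
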