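import Groth.Statements.S15056
import Mathlib.FieldTheory.IsAlgClosed.AlgebraicClosure
import Mathlib.RingTheory.Noetherian.Nilpotent
import Mathlib.RingTheory.LocalRing.ResidueField.Ideal
-- import your own Groth.Agent.* helpers here

set_option autoImplicit false
universe u
open scoped TensorProduct
open FrobAlg

namespace Groth.Agent.S15056

/-- Let p be a prime number, R a Noetherian ring of characteristic p and A a finitely generated
commutative Hopf algebra over R (an affine algebraic R-group G = Spec A). The n-fold relative
Frobenius of G is the trivial homomorphism exactly when a^(p^n) = 0 for every a in the augmentation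
ideal; G has finite Frobenius height when this holds for some n. Then G has finite Frobenius height
if and only if A is a finite R-module and, for every algebraically closed field K and every ring
homomorphism R → K, the base change K ⊗_R A is a local ring (G is finite over R with connected
geometric fibres). -/
theorem result (p : ℕ) [Fact p.Prime] (R : Type u) [CommRing R] [CharP R p]
    [IsNoetherianRing R] (A : Type u) [CommRing A] [HopfAlgebra R A] [Algebra.FiniteType R A] :
    (∃ n : ℕ, ∀ a : A, Bialgebra.counitAlgHom R A a = 0 → a ^ p ^ n = 0) ↔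
      (Module.Finite R A ∧ ∀ (K : Type u) [Field K] [IsAlgClosed K] [Algebra R K], IsLocalRing (K ⊗[R] A)) := by
  haveI : IsNoetherianRing A := Algebra.FiniteType.isNoetherianRing R A
  let I : Ideal A := RingHom.ker (Bialgebra.counitAlgHom R A)
  have hI : ∀ a, a - algebraMap R A (Bialgebra.counitAlgHom R A a) ∈ I := fun a => by
    simp [I, RingHom.mem_ker]
  constructor
  · rintro ⟨n, hn⟩
    have hpn : 0 < p ^ n := pow_pos (Fact.out : p.Prime).pos n
    have hint : Algebra.IsIntegral R A := ⟨fun a => by
      have h1 : IsIntegral R (a - algebraMap R A (Bialgebra.counitAlgHom R A a)) :=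
        IsIntegral.of_pow hpn (by rw [hn _ (hI a)]; exact isIntegral_zero)
      simpa using h1.add (isIntegral_algebraMap (x := Bialgebra.counitAlgHom R A a))⟩
    refine ⟨Algebra.IsIntegral.finite, fun K _ _ _ => ?_⟩
    let εK : K ⊗[R] A →ₐ[K] K := Algebra.TensorProduct.lift (AlgHom.id K K)
      ((Algebra.ofId R K).comp (Bialgebra.counitAlgHom R A)) fun _ _ => Commute.all _ _
    haveI : Nontrivial (K ⊗[R] A) := εK.toRingHom.domain_nontrivial
    refine IsLocalRing.of_isUnit_or_isUnit_one_sub_self fun z => ?_
    have hnil : IsNilpotent (z - algebraMap K (K ⊗[R] A) (εK z)) := by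
      induction z using TensorProduct.induction_on with
      | zero => simp
      | add x y hx hy =>
        have := (Commute.all _ _).isNilpotent_add hx hy
        rw [show x + y - algebraMap K (K ⊗[R] A) (εK (x + y)) =
          (x - algebraMap K (K ⊗[R] A) (εK x)) + (y - algebraMap K (K ⊗[R] A) (εK y)) by rw [map_add, map_add]; ring]
        exact this
      | tmul c a =>
        refine ⟨p ^ n, ?_⟩
        have e : c ⊗ₜ[R] a - algebraMap K (K ⊗[R] A) (εK (c ⊗ₜ[R] a)) =
            c ⊗ₜ[R] (a - algebraMap R A (Bialgebra.counitAlgHom R A a)) := by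
          rw [TensorProduct.tmul_sub]
          congr 1
          simp [εK, Algebra.algebraMap_eq_smul_one, TensorProduct.smul_tmul', TensorProduct.tmul_smul,
            Algebra.TensorProduct.one_def]
        rw [e, Algebra.TensorProduct.tmul_pow, hn _ (hI a), TensorProduct.tmul_zero]
    by_cases hc : εK z = 0
    · right
      rw [hc, map_zero, sub_zero] at hnil
      exact hnil.isUnit_one_sub
    · left
      simpa using hnil.isUnit_add_left_of_commute ((IsUnit.mk0 _ hc).map (algebraMap K (K ⊗[R] A))) (Commute.all _ _)
  · rintro ⟨hfin, hloc⟩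
    have hle : I ≤ nilradical A := by
      rw [nilradical_eq_sInf]
      refine le_sInf fun P hP => ?_
      haveI : P.IsPrime := hP
      let K := AlgebraicClosure (P.ResidueField)
      letI : Algebra R K := ((algebraMap P.ResidueField K).comp ((algebraMap A P.ResidueField).comp (algebraMap R A))).toAlgebra
      let χ : A →ₐ[R] K :=
        { (algebraMap P.ResidueField K).comp (algebraMap A P.ResidueField) with commutes' := fun r => rfl }
      let χK : K ⊗[R] A →ₐ[K] K := Algebra.TensorProduct.lift (AlgHom.id K K) χ fun _ _ => Commute.all _ _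
      let εK : K ⊗[R] A →ₐ[K] K := Algebra.TensorProduct.lift (AlgHom.id K K)
        ((Algebra.ofId R K).comp (Bialgebra.counitAlgHom R A)) fun _ _ => Commute.all _ _
      haveI := hloc K
      have hmax : ∀ ψ : K ⊗[R] A →ₐ[K] K, RingHom.ker ψ = IsLocalRing.maximalIdeal (K ⊗[R] A) := fun ψ => by
        haveI := RingHom.ker_isMaximal_of_surjective ψ fun c => ⟨algebraMap K _ c, ψ.commutes c⟩
        exact IsLocalRing.eq_maximalIdeal inferInstance
      intro a ha
      have h1 : (1 : K) ⊗ₜ[R] a ∈ RingHom.ker εK := by
        have ha' : Bialgebra.counitAlgHom R A a = 0 := ha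
        simp [εK, RingHom.mem_ker, ha']
      rw [hmax εK, ← hmax χK, RingHom.mem_ker] at h1
      have h2 : algebraMap A P.ResidueField a = 0 := by
        apply (algebraMap P.ResidueField K).injective
        rw [map_zero, ← h1]
        show _ = χK ((1 : K) ⊗ₜ[R] a)
        simp [χK, χ]
      exact Ideal.algebraMap_residueField_eq_zero.mp h2
    obtain ⟨N, hN⟩ := IsNoetherianRing.isNilpotent_nilradical A
    refine ⟨N, fun a ha => pow_eq_zero_of_le (Nat.lt_pow_self (Fact.out : p.Prime).one_lt).le ?_⟩
    have := Ideal.pow_mem_pow (hle (show a ∈ I from ha)) N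
    rw [hN] at this
    exact this
end Groth.Agent.S15056
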