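import Groth.Statements.S15058
import Groth.Agent.Lib.LubinTate.Inverse

set_option autoImplicit false
universe u
open FmlGrp

namespace Groth.Agent.S15058

/-- Let R be a commutative ring and F(X,Y) ∈ R[[X,Y]] a one-dimensional formal group law (zero constant
term, linear part X + Y, associative). Then there is a power series g(X) ∈ R[[X]] with zero constant
term which is a two-sided inverse for F, F(X, g(X)) = 0 = F(g(X), X), and it is unique: every power
series with zero constant term which is a right inverse or a left inverse equals g. (The published
text proves this for formal group laws of any finite dimension with coefficients in a complete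
Noetherian local ring; the argument is a formal degree-by-degree construction, and this row states
the one-dimensional case over an arbitrary commutative ring.) -/
theorem result (R : Type u) [CommRing R] (F : FormalGroup R) :
    ∃ g : PowerSeries R, g.constantCoeff = 0 ∧
      F.toPowerSeries.subst ![PowerSeries.X, g] = (0 : PowerSeries R) ∧
      F.toPowerSeries.subst ![g, PowerSeries.X] = (0 : PowerSeries R) ∧
      ∀ k : PowerSeries R, k.constantCoeff = 0 →
        (F.toPowerSeries.subst ![PowerSeries.X, k] = (0 : PowerSeries R) ∨
          F.toPowerSeries.subst ![k, PowerSeries.X] = (0 : PowerSeries R)) → k = g := by
  exact Groth.Agent.LubinTate.exists_inverse F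

end Groth.Agent.S15058
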