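import Groth.Statements.S15059
import Groth.Agent.Lib.QuotHopf23.Basic
-- import your own Groth.Agent.* helpers here

set_option autoImplicit false
universe u v
open scoped TensorProduct
open Hopf

namespace Groth.Agent.S15059

/-- Let R be a Noetherian ring, A a commutative Hopf algebra over R which is finitely generated and
projective as an R-module (a finite flat R-group G = Spec A) and I a Hopf ideal of A such that A/I
is projective over R (a finite flat closed subgroup G' = Spec (A/I) of G). Let B ⊆ A be the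
R-subalgebra of functions invariant under right translation by G', namely the equaliser of the two
algebra maps A → A ⊗_R (A/I) given by a ↦ (id ⊗ π)(Δ a) and a ↦ a ⊗ 1, so that the quotient G/G' is
Spec B and its rank is the index (G : G'). Then for every prime q of R the rank of A at q is the
rank of A/I at q times the rank of B at q: the order of G is the order of G' times the index. -/
theorem result (R : Type u) [CommRing R] [IsNoetherianRing R] (A : Type v) [CommRing A]
    [HopfAlgebra R A] [Module.Finite R A] [Module.Projective R A] (I : Ideal A) [I.IsHopfIdeal R]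
    [Module.Projective R (A ⧸ I)] (q : PrimeSpectrum R) :
    Module.rankAtStalk A q =
      Module.rankAtStalk (A ⧸ I) q *
        Module.rankAtStalk
          (↥(AlgHom.equalizer
            ((Algebra.TensorProduct.map (AlgHom.id R A) (Ideal.Quotient.mkₐ R I)).comp (Bialgebra.comulAlgHom R A))
            (Algebra.TensorProduct.includeLeft : A →ₐ[R] A ⊗[R] (A ⧸ I)))) q := by
  classical
  haveI : Module.Finite R (A ⧸ I) := Module.Finite.of_surjective (Ideal.Quotient.mkₐ R I).toLinearMap Ideal.Quotient.mk_surjective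
  set C := QuotHopf23.inv R I
  change Module.rankAtStalk A q = Module.rankAtStalk (A ⧸ I) q * Module.rankAtStalk ↥C q
  haveI : Module.Finite ↥C A := QuotHopf23.finite_over_inv I
  haveI : Module.Projective ↥C A := QuotHopf23.projective_over_inv I
  haveI : Module.FaithfullyFlat ↥C A := QuotHopf23.faithfullyFlat_over_inv I
  haveI : Module.Finite R ↥C := QuotHopf23.finite_inv I
  haveI : Module.Projective R ↥C := QuotHopf23.projective_inv I
  have hP : ∀ P : PrimeSpectrum ↥C,
      Module.rankAtStalk A P = Module.rankAtStalk (A ⧸ I) (P.comap (algebraMap R ↥C)) := by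
    intro P
    obtain ⟨P', rfl⟩ := PrimeSpectrum.comap_surjective_of_faithfullyFlat (A := ↥C) (B := A) P
    let e : A ⊗[↥C] A ≃ₗ[A] A ⊗[R] (A ⧸ I) :=
      LinearEquiv.ofBijective (QuotHopf23.galois (R := R) I).toLinearMap (QuotHopf23.galois_bijective I)
    rw [← Module.rankAtStalk_baseChange (R := ↥C) (M := A) P', congrFun (Module.rankAtStalk_eq_of_equiv e) P']
    rw [Module.rankAtStalk_baseChange (R := R) (M := A ⧸ I) P']
    rfl
  let k := q.asIdeal.ResidueField
  letI : Algebra ↥C (k ⊗[R] ↥C) := Algebra.TensorProduct.rightAlgebra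
  haveI : IsArtinianRing (k ⊗[R] ↥C) := IsArtinianRing.of_finite k _
  let M := (k ⊗[R] ↥C) ⊗[↥C] A
  have hfree : Module.Free (k ⊗[R] ↥C) M := by
    refine Module.free_of_flat_of_finrank_eq (k ⊗[R] ↥C) M (Module.rankAtStalk (A ⧸ I) q) fun P => ?_
    letI := Ideal.Quotient.field P.1
    have h1 := congrFun (Module.rankAtStalk_eq_finrank_of_free (R := (k ⊗[R] ↥C) ⧸ P.1)
      (M := ((k ⊗[R] ↥C) ⧸ P.1) ⊗[k ⊗[R] ↥C] M)) ⟨⊥, Ideal.isPrime_bot⟩
    rw [Module.rankAtStalk_baseChange (R := k ⊗[R] ↥C) (S := (k ⊗[R] ↥C) ⧸ P.1) (M := M),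
      Module.rankAtStalk_baseChange (R := ↥C) (S := k ⊗[R] ↥C) (M := A), hP] at h1
    refine h1.symm.trans (congrArg (Module.rankAtStalk (A ⧸ I)) ?_)
    set Q := PrimeSpectrum.comap (algebraMap (k ⊗[R] ↥C) ((k ⊗[R] ↥C) ⧸ P.1)) ⟨⊥, Ideal.isPrime_bot⟩
    have e2 : (algebraMap ↥C (k ⊗[R] ↥C)).comp (algebraMap R ↥C) = (algebraMap k (k ⊗[R] ↥C)).comp (algebraMap R k) := by
      ext r
      exact (Algebra.TensorProduct.tmul_one_eq_one_tmul r).symm
    rw [← PrimeSpectrum.comap_comp_apply, e2, PrimeSpectrum.comap_comp_apply,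
      Subsingleton.elim (PrimeSpectrum.comap (algebraMap k (k ⊗[R] ↥C)) Q) ⟨⊥, Ideal.isPrime_bot⟩]
    refine PrimeSpectrum.ext ?_
    show Ideal.comap (algebraMap R k) ⊥ = q.asIdeal
    rw [← RingHom.ker_eq_comap_bot]
    exact Ideal.ker_algebraMap_residueField q.asIdeal
  have hrank : Nontrivial (k ⊗[R] ↥C) → Module.finrank (k ⊗[R] ↥C) M = Module.rankAtStalk (A ⧸ I) q := by
    intro hnt
    obtain ⟨P, hP'⟩ := Ideal.exists_maximal (k ⊗[R] ↥C)
    have := congrFun (Module.rankAtStalk_eq_finrank_of_free (R := k ⊗[R] ↥C) (M := M)) ⟨P, hP'.isPrime⟩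
    rw [Module.rankAtStalk_baseChange, hP] at this
    refine this.symm.trans (congrArg (Module.rankAtStalk (A ⧸ I)) ?_)
    have e2 : (algebraMap ↥C (k ⊗[R] ↥C)).comp (algebraMap R ↥C) = (algebraMap k (k ⊗[R] ↥C)).comp (algebraMap R k) := by
      ext r
      exact (Algebra.TensorProduct.tmul_one_eq_one_tmul r).symm
    rw [← PrimeSpectrum.comap_comp_apply, e2, PrimeSpectrum.comap_comp_apply,
      Subsingleton.elim (PrimeSpectrum.comap (algebraMap k (k ⊗[R] ↥C)) ⟨P, hP'.isPrime⟩) ⟨⊥, Ideal.isPrime_bot⟩]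
    refine PrimeSpectrum.ext ?_
    show Ideal.comap (algebraMap R k) ⊥ = q.asIdeal
    rw [← RingHom.ker_eq_comap_bot]
    exact Ideal.ker_algebraMap_residueField q.asIdeal
  rw [Module.rankAtStalk_eq, Module.rankAtStalk_eq (M := ↥C)]
  show Module.finrank k (k ⊗[R] A) = _ * Module.finrank k (k ⊗[R] ↥C)
  rw [← (Algebra.IsPushout.cancelBaseChange R k ↥C (k ⊗[R] ↥C) A).finrank_eq]
  show Module.finrank k M = _
  rcases subsingleton_or_nontrivial (k ⊗[R] ↥C) with h | h
  · haveI : Subsingleton M := Module.subsingleton (k ⊗[R] ↥C) M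
    rw [Module.finrank_zero_of_subsingleton (R := k) (M := k ⊗[R] ↥C),
      Module.finrank_zero_of_subsingleton (R := k) (M := M), mul_zero]
  · rw [← Module.finrank_mul_finrank k (k ⊗[R] ↥C) M, hrank h, mul_comm]

end Groth.Agent.S15059
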