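import Groth.Statements.S15061
import Groth.Agent.Lib.UnitComp23.Basic
import Groth.Agent.Lib.QuotHopf23.Basic
-- import your own Groth.Agent.* helpers here

set_option autoImplicit false
universe u
open scoped TensorProduct
open Hopf

namespace Groth.Agent.S15061

/-- Let R be a henselian Noetherian local ring and A a commutative Hopf algebra over R which is finite
and flat as an R-module (a finite flat R-group G = Spec A, not assumed commutative); let e ∈ A be an
idempotent with ε(e) = 1 such that A/(1 − e) is a local ring, so that G⁰ = Spec A/(1 − e) is the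
connected component of the unit section, and let B ⊆ A be the subalgebra of functions invariant
under right translation by G⁰: the equaliser of a ↦ (id ⊗ π)(Δ a) and a ↦ a ⊗ 1 into A ⊗_R A/(1 −
e). Then B is a sub-Hopf-algebra of A (comultiplication and antipode preserve it), B is finite étale
over R, A is faithfully flat over B, and the ideal of A generated by the elements of B killed by the
counit is exactly (1 − e). In other words G^ét := Spec B is a finite étale R-group, G → G^ét is a
faithfully flat homomorphism, and its kernel is G⁰: the sequence 1 → G⁰ → G → G^ét → 1 is exact. -/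
theorem result (R : Type u) [CommRing R] [HenselianLocalRing R] [IsNoetherianRing R]
    (A : Type u) [CommRing A] [HopfAlgebra R A] [Module.Finite R A] [Module.Flat R A]
    (e : A) (he : IsIdempotentElem e) (hε : Bialgebra.counitAlgHom R A e = 1)
    [IsLocalRing (A ⧸ Ideal.span ({1 - e} : Set A))] :
    SGA3.IsHopfSubalgebra R A
        (AlgHom.equalizer
          ((Algebra.TensorProduct.map (AlgHom.id R A) (Ideal.Quotient.mkₐ R (Ideal.span ({1 - e} : Set A)))).comp
            (Bialgebra.comulAlgHom R A))
          (Algebra.TensorProduct.includeLeft : A →ₐ[R] A ⊗[R] (A ⧸ Ideal.span ({1 - e} : Set A)))) ∧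
      Algebra.Etale R ↥(AlgHom.equalizer
          ((Algebra.TensorProduct.map (AlgHom.id R A) (Ideal.Quotient.mkₐ R (Ideal.span ({1 - e} : Set A)))).comp
            (Bialgebra.comulAlgHom R A))
          (Algebra.TensorProduct.includeLeft : A →ₐ[R] A ⊗[R] (A ⧸ Ideal.span ({1 - e} : Set A)))) ∧
      Module.FaithfullyFlat ↥(AlgHom.equalizer
          ((Algebra.TensorProduct.map (AlgHom.id R A) (Ideal.Quotient.mkₐ R (Ideal.span ({1 - e} : Set A)))).comp
            (Bialgebra.comulAlgHom R A))
          (Algebra.TensorProduct.includeLeft : A →ₐ[R] A ⊗[R] (A ⧸ Ideal.span ({1 - e} : Set A)))) A ∧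
      SGA3.augIdealSpan R A
        (AlgHom.equalizer
          ((Algebra.TensorProduct.map (AlgHom.id R A) (Ideal.Quotient.mkₐ R (Ideal.span ({1 - e} : Set A)))).comp
            (Bialgebra.comulAlgHom R A))
          (Algebra.TensorProduct.includeLeft : A →ₐ[R] A ⊗[R] (A ⧸ Ideal.span ({1 - e} : Set A)))) =
        Ideal.span ({1 - e} : Set A) := by
  haveI : Module.Projective R A := by
    haveI : Module.FinitePresentation R A := Module.finitePresentation_of_finite R A
    exact Module.Flat.projective_of_finitePresentation
  set I := Ideal.span ({1 - e} : Set A) with hI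
  haveI : I.IsHopfIdeal R := UnitComp23.isHopfIdeal e he hε
  haveI : Module.Projective R (A ⧸ I) := by
    let π := (Ideal.Quotient.mkₐ R I).toLinearMap
    let s : A ⧸ I →ₗ[R] A :=
      Submodule.liftQ (I.restrictScalars R) (LinearMap.mulLeft R e) (fun x hx => by
        obtain ⟨c, rfl⟩ := Ideal.mem_span_singleton'.1 hx
        show e * (c * (1 - e)) = 0
        rw [mul_left_comm, mul_sub, mul_one, he.eq, sub_self, mul_zero]) ∘ₗ
        (Submodule.Quotient.restrictScalarsEquiv R I).symm.toLinearMap
    refine Module.Projective.of_split s π (LinearMap.ext fun y => ?_)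
    obtain ⟨a, rfl⟩ := Ideal.Quotient.mk_surjective y
    show Ideal.Quotient.mk I (e * a) = Ideal.Quotient.mk I a
    rw [map_mul, UnitComp23.mk_self, one_mul]
  have hN : QuotHopf23.IsNormal R I := fun T _ _ g h hh a ha => by
    have h1 := UnitComp23.isNormal e he hε T g.ofConv h.ofConv hh a ha
    refine Eq.trans ?_ h1
    exact congrArg (fun x : WithConv (A →ₐ[R] T) => x.ofConv a)
      (DynLim23.conv3_eq g.ofConv h.ofConv (g.ofConv.comp (HopfAlgebra.antipodeAlgHom R A))).symm
  haveI : Module.Finite R ↥(QuotHopf23.inv R I) := QuotHopf23.finite_inv I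
  haveI : Module.Projective R ↥(QuotHopf23.inv R I) := QuotHopf23.projective_inv I
  haveI : Algebra.FormallyUnramified R ↥(QuotHopf23.inv R I) :=
    QuotHopf23.formallyUnramified_inv I he.one_sub hI
  haveI : Algebra.FinitePresentation R ↥(QuotHopf23.inv R I) := Algebra.FinitePresentation.of_finiteType.1 inferInstance
  refine ⟨⟨fun b hb => QuotHopf23.comul_mem I hN hb, fun b hb => QuotHopf23.antipode_mem I hN hb⟩,
    Algebra.Etale.of_formallyUnramified_of_flat, QuotHopf23.faithfullyFlat_over_inv I, QuotHopf23.augIdeal_eq I⟩

end Groth.Agent.S15061
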