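import Groth.Statements.S15063
import Groth.Agent.Lib.UnitComp23.Basic

set_option autoImplicit false
universe u
open Hopf

namespace Groth.Agent.S15063

/-- Let R be a henselian Noetherian local ring and A a commutative Hopf algebra over R which is finite
and flat as an R-module (a finite flat R-group G = Spec A, not assumed commutative); let e ∈ A be an
idempotent with ε(e) = 1 such that A/(1 − e) is a local ring, so that Spec A/(1 − e) is the
connected component G⁰ of G containing the unit section. Then G⁰ is normal in G: for every
commutative R-algebra T, every T-valued point g of G and every T-valued point h of G killing the
ideal (1 − e), the conjugate g·h·g⁻¹ again kills (1 − e). (The published statement is for a flat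
affine algebraic R-group and also asserts that G⁰ is an open and closed flat subgroup; this row
states the normality clause for finite flat G.) -/
theorem result (R : Type u) [CommRing R] [HenselianLocalRing R] [IsNoetherianRing R]
    (A : Type u) [CommRing A] [HopfAlgebra R A] [Module.Finite R A] [Module.Flat R A]
    (e : A) (he : IsIdempotentElem e) (hε : Bialgebra.counitAlgHom R A e = 1)
    [IsLocalRing (A ⧸ Ideal.span ({1 - e} : Set A))] :
    SGA3.IsNormalHopfIdeal R A (Ideal.span ({1 - e} : Set A)) := by
  exact UnitComp23.isNormal e he hε

end Groth.Agent.S15063
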