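import Groth.Statements.S15064
import Groth.Agent.Lib.Simple23.Basic

set_option autoImplicit false
universe u
open scoped TensorProduct
open Hopf

namespace Groth.Agent.S15064

open TensorProduct


/-- Let k be a field of characteristic p > 0 and A a finite-dimensional commutative and cocommutative
Hopf algebra over k (a finite commutative k-group G = Spec A) which is bi-infinitesimal — A is a
local ring and so is the dual algebra Hom_k(A, k) with the convolution product (G and its Cartier
dual are connected) — with dim_k A > 1, and assume G is simple: every Hopf ideal of A is either zero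
or the augmentation ideal (G has no closed subgroup schemes other than G and 1). Then G is
isomorphic to α_p: A has a primitive element x (Δ(x) = x ⊗ 1 + 1 ⊗ x) with x^p = 0 whose powers 1,
x, …, x^(p−1) are linearly independent over k, and dim_k A = p (so A = k[x]/(x^p) with x primitive). -/
theorem result (k : Type u) [Field k] (p : ℕ) [Fact p.Prime] [CharP k p]
    (A : Type u) [CommRing A] [HopfAlgebra k A] [Coalgebra.IsCocomm k A] [FiniteDimensional k A] [IsLocalRing A]
    (hdual : IsLocalRing (WithConv (A →ₗ[k] k))) (hA : 1 < Module.finrank k A)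
    (hsimple : ∀ I : Ideal A, I.IsHopfIdeal k → I = ⊥ ∨ I = RingHom.ker (Bialgebra.counitAlgHom k A)) :
    ∃ x : A, Coalgebra.comul x = x ⊗ₜ[k] (1 : A) + (1 : A) ⊗ₜ[k] x ∧ x ^ p = 0 ∧
      LinearIndependent k (fun i : Fin p => x ^ (i : ℕ)) ∧ Module.finrank k A = p := by
  haveI : IsLocalRing (CartDual.D k A) := hdual
  obtain ⟨x, hx0, hx⟩ := Simple23.exists_primitive (k := k) (A := A) hA
  have hxP : Unip23.IsPrim (k := k) x := hx
  have hI := Unip23.isHopfIdeal_span_prim hxP
  have hxpP : Coalgebra.comul (R := k) (x ^ p) = (x ^ p) ⊗ₜ[k] (1 : A) + (1 : A) ⊗ₜ[k] (x ^ p) := by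
    haveI : Nontrivial (A ⊗[k] A) := ((Algebra.TensorProduct.lmul' k (S := A)).toRingHom).domain_nontrivial
    haveI : CharP (A ⊗[k] A) p := charP_of_injective_algebraMap (algebraMap k (A ⊗[k] A)).injective p
    rw [Bialgebra.comul_pow, hx, add_pow_char (p := p)]
    simp [Algebra.TensorProduct.tmul_pow]
  have hxp : x ^ p = 0 := Simple23.pow_eq_zero hsimple p (Unip23.counit_of_isPrim hxP)
    (Unip23.isHopfIdeal_span_prim (hxpP : Unip23.IsPrim (k := k) (x ^ p)))
  have hfin := Simple23.finrank_eq hsimple p hI hx0 hxp hA
  exact ⟨x, hx, hxp, Simple23.linearIndependent_powers p (Simple23.adjoin_eq_top hsimple hI hx0)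
    (c := 0) (by rw [hxp, map_zero]) hfin, hfin⟩


end Groth.Agent.S15064
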