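import Groth.Statements.S15065
import Groth.Agent.Lib.FinRed23.Basic
import Mathlib.RingTheory.Ideal.Quotient.Nilpotent

set_option autoImplicit false
universe u
open Hopf

namespace Groth.Agent.S15065

open WithConv
open scoped TensorProduct

/-- Let k be an algebraically closed field and A a finite-dimensional commutative and cocommutative Hopf
algebra over k which is reduced (a finite étale commutative k-group G = Spec A), with dim_k A > 1,
and assume G is simple: every Hopf ideal of A is either zero or the augmentation ideal (no closed
subgroup schemes other than G and 1). Then the order dim_k A is a prime number ℓ, so that G is the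
constant group ℤ/ℓℤ. (The published statement lists the simple finite commutative groups over an
algebraically closed field of characteristic p > 0; the étale case does not use the characteristic
and is stated here for any algebraically closed field.) -/
theorem result (k : Type u) [Field k] [IsAlgClosed k] (A : Type u) [CommRing A] [HopfAlgebra k A]
    [Coalgebra.IsCocomm k A] [FiniteDimensional k A] [IsReduced A] (hA : 1 < Module.finrank k A)
    (hsimple : ∀ I : Ideal A, I.IsHopfIdeal k → I = ⊥ ∨ I = RingHom.ker (Bialgebra.counitAlgHom k A)) :
    (Module.finrank k A).Prime := by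
  classical
  let G := WithConv (A →ₐ[k] k)
  have hfin : Finite G := by
    have := Groth.Agent.FinRed23.finite_points (k := k) (E := A)
    exact Finite.of_equiv _ (WithConv.equiv (A →ₐ[k] k)).symm
  have hcard : Nat.card G = Module.finrank k A := by
    rw [← Groth.Agent.FinRed23.card_points (k := k) (E := A)]
    exact Nat.card_congr (WithConv.equiv _)
  by_contra hp
  let q := (Module.finrank k A).minFac
  have hq : q.Prime := Nat.minFac_prime (by omega)
  have : Fact q.Prime := ⟨hq⟩
  obtain ⟨g, hg⟩ := exists_prime_orderOf_dvd_card' (G := G) q (by rw [hcard]; exact Nat.minFac_dvd _)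
  let H : Subgroup G := Subgroup.zpowers g
  let I : Ideal A :=
    { carrier := {a | ∀ h ∈ H, (h : G).ofConv a = 0}
      add_mem' := fun ha hb h hh => by rw [map_add, ha h hh, hb h hh, add_zero]
      zero_mem' := fun h _ => map_zero _
      smul_mem' := fun c a ha h hh => by rw [smul_eq_mul, map_mul, ha h hh, mul_zero] }
  have memI : ∀ a, a ∈ I ↔ ∀ h ∈ H, (h : G).ofConv a = 0 := fun a => Iff.rfl
  have := Groth.Agent.FinRed23.finite_points (k := k) (E := A)
  let π : A →ₐ[k] (H → k) := Pi.algHom k _ fun h => (h : G).ofConv
  have hI : I.IsHopfIdeal k := by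
    have hco : (I.restrictScalars k).IsCoideal := by
      rw [Submodule.isCoideal_iff]
      refine ⟨fun x hx => ?_, fun x hx => ?_⟩
      · have h1 := (memI x).1 hx 1 H.one_mem
        simpa [AlgHom.convOne_def] using h1
      · have hred : IsReduced (A ⧸ I) := by
          refine (Ideal.isRadical_iff_quotient_reduced I).1 fun a ⟨n, hn⟩ h hh => ?_
          have h2 := (memI _).1 hn h hh
          rw [map_pow] at h2
          exact pow_eq_zero_iff'.1 h2 |>.1
        show Algebra.TensorProduct.map (Ideal.Quotient.mkₐ k I) (Ideal.Quotient.mkₐ k I)
          (Coalgebra.comul (R := k) x) = 0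
        refine Groth.Agent.FinRed23.eq_zero_of_forall_two_points fun χ ψ => ?_
        have hmemH : ∀ χ : (A ⧸ I) →ₐ[k] k, toConv (χ.comp (Ideal.Quotient.mkₐ k I)) ∈ H := by
          intro χ
          by_contra hnot
          let e := Groth.Agent.FinRed23.evalEquiv k A
          let c := toConv (χ.comp (Ideal.Quotient.mkₐ k I))
          let a := e.symm (Pi.single c.ofConv 1)
          have ha : ∀ t : A →ₐ[k] k, t a = (Pi.single c.ofConv 1 : (A →ₐ[k] k) → k) t := fun t =>
            congrFun (e.apply_symm_apply _) t
          have haI : a ∈ I := fun h hh => by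
            rw [ha, Pi.single_eq_of_ne]
            intro heq
            exact hnot (by rw [← toConv_ofConv h, heq] at hh; exact hh)
          have := ha c.ofConv
          rw [Pi.single_eq_same] at this
          have h3 : Ideal.Quotient.mkₐ k I a = 0 := Ideal.Quotient.eq_zero_iff_mem.2 haI
          simp only [c, ofConv_toConv, AlgHom.comp_apply, h3, map_zero, zero_ne_one] at this
        have e1 : (Algebra.TensorProduct.lift χ ψ (fun _ _ => Commute.all _ _)).comp
            (Algebra.TensorProduct.map (Ideal.Quotient.mkₐ k I) (Ideal.Quotient.mkₐ k I)) =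
            Algebra.TensorProduct.lift (χ.comp (Ideal.Quotient.mkₐ k I)) (ψ.comp (Ideal.Quotient.mkₐ k I))
              (fun _ _ => Commute.all _ _) := by
          ext a <;> simp
        rw [← AlgHom.comp_apply, e1, Groth.Agent.FinRed23.lift_comul]
        exact (memI x).1 hx _ (H.mul_mem (hmemH χ) (hmemH ψ))
    refine { hco with antipode_mem := fun x hx h hh => ?_ }
    exact (memI x).1 hx h⁻¹ (H.inv_mem hh)
  rcases hsimple I hI with h | h
  · have hinj : Function.Injective π := (injective_iff_map_eq_zero _).2 fun a ha => by
      have : a ∈ I := fun g hg => congrFun ha ⟨g, hg⟩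
      rwa [h, Ideal.mem_bot] at this
    let _ := Fintype.ofFinite H
    have h1 := LinearMap.finrank_le_finrank_of_injective (f := π.toLinearMap) hinj
    rw [Module.finrank_fintype_fun_eq_card, ← Nat.card_eq_fintype_card, Nat.card_zpowers, hg] at h1
    exact hp (((Nat.le_antisymm h1 (Nat.minFac_le (by omega))) ▸ hq))
  · have hg1 : g = 1 := by
      apply WithConv.ofConv_injective
      ext a
      have hmem : a - algebraMap k A (Bialgebra.counitAlgHom k A a) ∈ I := by
        rw [h, RingHom.mem_ker, map_sub, AlgHom.commutes]; simp
      have := (memI _).1 hmem g (Subgroup.mem_zpowers g)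
      rw [map_sub, AlgHom.commutes, sub_eq_zero] at this
      simpa [AlgHom.convOne_def] using this
    rw [hg1, orderOf_one] at hg
    exact hq.ne_one hg.symm


end Groth.Agent.S15065
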