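import Groth.Statements.S15066
import Groth.Agent.Lib.Simple23.Basic

set_option autoImplicit false
universe u
open Hopf

namespace Groth.Agent.S15066

open TensorProduct


/-- Let k be an algebraically closed field of characteristic p > 0 and A a finite-dimensional
commutative and cocommutative Hopf algebra over k (a finite commutative k-group G = Spec A) which is
a local ring (G connected) and whose dual algebra Hom_k(A, k) with the convolution product is
reduced (the Cartier dual of G is étale, i.e. G is multiplicative), with dim_k A > 1, and assume G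
is simple: every Hopf ideal of A is either zero or the augmentation ideal (no closed subgroup
schemes other than G and 1). Then G is isomorphic to μ_p: A has a group-like element g (Δ(g) = g ⊗
g, ε(g) = 1) with g^p = 1 whose powers 1, g, …, g^(p−1) are linearly independent over k, and dim_k A
= p (so A = k[g]/(g^p − 1)). -/
theorem result (k : Type u) [Field k] [IsAlgClosed k] (p : ℕ) [Fact p.Prime]
    [CharP k p] (A : Type u) [CommRing A] [HopfAlgebra k A] [Coalgebra.IsCocomm k A] [FiniteDimensional k A]
    [IsLocalRing A] (hdual : IsReduced (WithConv (A →ₗ[k] k))) (hA : 1 < Module.finrank k A)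
    (hsimple : ∀ I : Ideal A, I.IsHopfIdeal k → I = ⊥ ∨ I = RingHom.ker (Bialgebra.counitAlgHom k A)) :
    ∃ g : A, IsGroupLikeElem k g ∧ g ^ p = 1 ∧ LinearIndependent k (fun i : Fin p => g ^ (i : ℕ)) ∧
      Module.finrank k A = p := by
  haveI : IsReduced (CartDual.D k A) := hdual
  obtain ⟨g, hg1, hg⟩ := Simple23.exists_groupLike (k := k) (A := A) hA
  haveI : Nontrivial A := (Bialgebra.counitAlgHom k A).toRingHom.domain_nontrivial
  haveI : CharP A p := charP_of_injective_algebraMap (algebraMap k A).injective p
  have hI := Simple23.isHopfIdeal_span_sub_one hg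
  have hx0 : g - 1 ≠ 0 := sub_ne_zero.2 hg1
  have hxp : (g - 1) ^ p = 0 := by
    refine Simple23.pow_eq_zero hsimple p (by rw [map_sub, map_one, Bialgebra.counitAlgHom_apply, hg.counit_eq_one, sub_self]) ?_
    rw [sub_pow_char, one_pow]
    exact Simple23.isHopfIdeal_span_sub_one (hg.pow (n := p))
  have hfin := Simple23.finrank_eq hsimple p hI hx0 hxp hA
  have hgp : g ^ p = 1 := by rwa [sub_pow_char, one_pow, sub_eq_zero] at hxp
  refine ⟨g, hg, hgp, Simple23.linearIndependent_powers p (c := 1) ?_ (by rw [hgp, map_one]) hfin, hfin⟩
  rw [← top_le_iff, ← Simple23.adjoin_eq_top hsimple hI hx0, Algebra.adjoin_le_iff, Set.singleton_subset_iff]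
  exact sub_mem (Algebra.self_mem_adjoin_singleton k g) (one_mem _)


end Groth.Agent.S15066
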