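import Groth.Statements.S15067
import Groth.Agent.Lib.ConnExt23.Basic

set_option autoImplicit false
universe u
open scoped TensorProduct
open Hopf

namespace Groth.Agent.S15067

/-- Let R be a henselian Noetherian local ring, A and A'' commutative Hopf algebras over R which are
finite and flat as R-modules (finite flat R-groups G = Spec A, G'' = Spec A''), and A'' → A an
R-algebra homomorphism compatible with the comultiplications and counits (a homomorphism π : G →
G'') making A a faithfully flat A''-module (π faithfully flat). Let J ⊆ A be the ideal generated by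
the image of the augmentation ideal of A'', so that G' = Spec A/J is the kernel of π and 1 → G' → G
→ G'' → 1 is an exact sequence of finite flat R-groups. Then: (2) if A'' and A/J are local rings
(G'' and G' connected), A is a local ring (G is connected); (3) if A'' and A/J are étale over R (G''
and G' finite étale), A is étale over R (G is finite étale). -/
theorem result (R : Type u) [CommRing R] [HenselianLocalRing R] [IsNoetherianRing R]
    (A A'' : Type u) [CommRing A] [HopfAlgebra R A] [Module.Finite R A] [Module.Flat R A]
    [CommRing A''] [HopfAlgebra R A''] [Module.Finite R A''] [Module.Flat R A'']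
    [Algebra A'' A] [IsScalarTower R A'' A] [Module.FaithfullyFlat A'' A]
    (hΔ : (Bialgebra.comulAlgHom R A).comp (IsScalarTower.toAlgHom R A'' A) =
      (Algebra.TensorProduct.map (IsScalarTower.toAlgHom R A'' A) (IsScalarTower.toAlgHom R A'' A)).comp
        (Bialgebra.comulAlgHom R A''))
    (hε : (Bialgebra.counitAlgHom R A).comp (IsScalarTower.toAlgHom R A'' A) = Bialgebra.counitAlgHom R A'') :
    ((IsLocalRing A'' ∧
        IsLocalRing (A ⧸ (RingHom.ker (Bialgebra.counitAlgHom R A'')).map (algebraMap A'' A))) → IsLocalRing A) ∧
      ((Algebra.Etale R A'' ∧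
        Algebra.Etale R (A ⧸ (RingHom.ker (Bialgebra.counitAlgHom R A'')).map (algebraMap A'' A))) →
        Algebra.Etale R A) := by
  haveI : Module.Finite A'' A := Module.Finite.of_restrictScalars_finite R A'' A
  have hne : RingHom.ker (Bialgebra.counitAlgHom R A'') ≠ ⊤ := RingHom.ker_ne_top _
  refine ⟨fun ⟨h1, h2⟩ => ?_, fun ⟨h1, h2⟩ => ?_⟩
  · haveI := h1
    haveI := h2
    exact ConnExt23.isLocalRing_of_quotient _ hne
  · haveI := h1
    haveI := h2
    haveI : Module.Free R A := Module.free_of_flat_of_isLocalRing
    haveI : Module.Free R A'' := Module.free_of_flat_of_isLocalRing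
    have h'' : RingHom.ker (Bialgebra.counitAlgHom R A'') ^ 2 = RingHom.ker (Bialgebra.counitAlgHom R A'') :=
      (Groth.Agent.S18472.result R A'').1 h1
    have hJ : (RingHom.ker (Bialgebra.counitAlgHom R A'')).map (algebraMap A'' A) ≤
        RingHom.ker (Bialgebra.counitAlgHom R A) := Ideal.map_le_iff_le_comap.2 fun x hx => by
      have := DFunLike.congr_fun hε x
      simp only [AlgHom.comp_apply, IsScalarTower.coe_toAlgHom'] at this
      show Bialgebra.counitAlgHom R A (algebraMap A'' A x) = 0
      rw [this]
      exact hx
    refine (Groth.Agent.S18472.result R A).2 (le_antisymm (Ideal.pow_le_self two_ne_zero) ?_)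
    refine (ConnExt23.ker_eq_of_quotient _ hJ).trans (sup_le le_rfl ?_)
    conv_lhs => rw [← h'', Ideal.map_pow]
    exact Ideal.pow_right_mono hJ 2

end Groth.Agent.S15067
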