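import Groth.Statements.S15068
import Groth.Agent.Lib.ConnExt23.Basic

set_option autoImplicit false
universe u
open scoped TensorProduct
open Hopf

namespace Groth.Agent.S15068

/-- Let R be a henselian Noetherian local ring, A and A'' commutative Hopf algebras over R which are
finite and flat as R-modules, and A'' → A an R-algebra homomorphism compatible with
comultiplications and counits making A faithfully flat over A'' (a faithfully flat homomorphism π :
G → G'' of finite flat R-groups); let J ⊆ A be the ideal generated by the image of the augmentation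
ideal of A'' (G' = Spec A/J = ker π, so 1 → G' → G → G'' → 1 is exact). Assume A'' is a local ring
(G'' connected) and A/J is étale over R (G' finite étale), and let e ∈ A be an idempotent with ε(e)
= 1 such that A/(1 − e) is local (G⁰ = Spec A/(1 − e), the unit component of G). Then the composite
A'' → A → A/(1 − e) is bijective: the restriction G⁰ → G'' of π is an isomorphism, whose inverse
splits the extension, G ≅ G' × G''. -/
theorem result (R : Type u) [CommRing R] [HenselianLocalRing R]
    [IsNoetherianRing R] (A A'' : Type u) [CommRing A] [HopfAlgebra R A] [Module.Finite R A] [Module.Flat R A]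
    [CommRing A''] [HopfAlgebra R A''] [Module.Finite R A''] [Module.Flat R A'']
    [Algebra A'' A] [IsScalarTower R A'' A] [Module.FaithfullyFlat A'' A]
    (hΔ : (Bialgebra.comulAlgHom R A).comp (IsScalarTower.toAlgHom R A'' A) =
      (Algebra.TensorProduct.map (IsScalarTower.toAlgHom R A'' A) (IsScalarTower.toAlgHom R A'' A)).comp
        (Bialgebra.comulAlgHom R A''))
    (hε : (Bialgebra.counitAlgHom R A).comp (IsScalarTower.toAlgHom R A'' A) = Bialgebra.counitAlgHom R A'')
    [IsLocalRing A''] [Algebra.Etale R (A ⧸ (RingHom.ker (Bialgebra.counitAlgHom R A'')).map (algebraMap A'' A))]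
    (e : A) (he : IsIdempotentElem e) (heε : Bialgebra.counitAlgHom R A e = 1)
    [IsLocalRing (A ⧸ Ideal.span ({1 - e} : Set A))] :
    Function.Bijective ((Ideal.Quotient.mkₐ R (Ideal.span ({1 - e} : Set A))).comp (IsScalarTower.toAlgHom R A'' A)) := by
  classical
  let I : Ideal A := Ideal.span {1 - e}
  let A0 := A ⧸ I
  let ψ := (Ideal.Quotient.mkₐ R I).comp (IsScalarTower.toAlgHom R A'' A)
  haveI : Module.Finite A'' A := Module.Finite.of_restrictScalars_finite R A'' A
  haveI : Module.Finite A'' A0 := Module.Finite.of_surjective (Ideal.Quotient.mkₐ A'' I).toLinearMap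
    Ideal.Quotient.mk_surjective
  have hI : I ≤ RingHom.ker (Bialgebra.counitAlgHom R A) := by
    rw [Ideal.span_le]
    rintro x rfl
    simp only [SetLike.mem_coe, RingHom.mem_ker, map_sub, map_one, heε, sub_self]
  set K := (RingHom.ker (Bialgebra.counitAlgHom R A'')).map (algebraMap A'' A) with hK
  have hJ : K ≤ RingHom.ker (Bialgebra.counitAlgHom R A) := Ideal.map_le_iff_le_comap.2 fun x hx => by
    have := DFunLike.congr_fun hε x
    simp only [AlgHom.comp_apply, IsScalarTower.coe_toAlgHom'] at this
    show Bialgebra.counitAlgHom R A (algebraMap A'' A x) = 0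
    rw [this]
    exact hx
  -- the augmentation ideal of the component
  let m : Ideal A0 := (RingHom.ker (Bialgebra.counitAlgHom R A)).map (Ideal.Quotient.mk I)
  let Jm : Ideal A0 := K.map (Ideal.Quotient.mk I)
  have hm : m ≤ m ^ 2 ⊔ Jm := by
    rw [← Ideal.map_pow, ← Ideal.map_sup]
    exact Ideal.map_mono (ConnExt23.ker_eq_of_quotient _ hJ)
  have hne : m ≠ ⊤ := fun h => by
    have := congrArg (Ideal.comap (Ideal.Quotient.mk I)) h
    rw [Ideal.comap_map_of_surjective _ Ideal.Quotient.mk_surjective, ← RingHom.ker_eq_comap_bot, Ideal.mk_ker,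
      sup_eq_left.2 hI, Ideal.comap_top] at this
    exact RingHom.ker_ne_top _ this
  haveI : IsNoetherianRing A0 := isNoetherian_of_tower R inferInstance
  have hmJ : m ≤ Jm := by
    refine Submodule.le_of_le_smul_of_le_jacobson_bot (IsNoetherian.noetherian m) (I := m) ?_ ?_
    · rw [IsLocalRing.jacobson_eq_maximalIdeal ⊥ bot_ne_top]
      exact IsLocalRing.le_maximalIdeal hne
    · rw [smul_eq_mul, ← pow_two, sup_comm]
      exact hm
  have hsurj : Function.Surjective (algebraMap A'' A0) := by
    let P : Submodule A'' A0 := LinearMap.range (Algebra.linearMap A'' A0)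
    suffices (⊤ : Submodule A'' A0) ≤ P by
      intro x
      exact this (Submodule.mem_top)
    refine Submodule.le_of_le_smul_of_le_jacobson_bot Module.Finite.fg_top
      (I := RingHom.ker (Bialgebra.counitAlgHom R A'')) ?_ ?_
    · rw [IsLocalRing.jacobson_eq_maximalIdeal ⊥ bot_ne_top]
      exact IsLocalRing.le_maximalIdeal (RingHom.ker_ne_top _)
    · intro x _
      obtain ⟨a, rfl⟩ := Ideal.Quotient.mk_surjective x
      have ha : Ideal.Quotient.mk I (a - algebraMap R A (Bialgebra.counitAlgHom R A a)) ∈ Jm := hmJ
        (Ideal.mem_map_of_mem _ (by simp [RingHom.mem_ker]))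
      rw [show Ideal.Quotient.mk I a = algebraMap A'' A0 (algebraMap R A'' (Bialgebra.counitAlgHom R A a)) +
        Ideal.Quotient.mk I (a - algebraMap R A (Bialgebra.counitAlgHom R A a)) by
        rw [map_sub, IsScalarTower.algebraMap_apply R A'' A (Bialgebra.counitAlgHom R A a)]
        exact (add_sub_cancel _ _).symm]
      refine Submodule.add_mem_sup ⟨_, rfl⟩ ?_
      have e1 : Jm = (RingHom.ker (Bialgebra.counitAlgHom R A'')).map (algebraMap A'' A0) := by
        show Ideal.map (Ideal.Quotient.mk I) K = _
        rw [hK, Ideal.map_map]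
        rfl
      rw [Ideal.smul_top_eq_map, Submodule.restrictScalars_mem, ← e1]
      exact ha
  haveI : Nontrivial A0 := IsLocalRing.toNontrivial
  haveI : Module.Flat A'' A0 := by
    let i : A0 →ₗ[A''] A := (Submodule.liftQ (I.restrictScalars A'') (LinearMap.mulLeft A'' e) (by
      intro x hx
      obtain ⟨y, rfl⟩ := Ideal.mem_span_singleton'.1 hx
      rw [LinearMap.mem_ker, LinearMap.mulLeft_apply]
      linear_combination (-y) * he.eq) : (A ⧸ I.restrictScalars A'') →ₗ[A''] A)
    refine Module.Flat.of_retract i (Ideal.Quotient.mkₐ A'' I).toLinearMap (LinearMap.ext fun x => ?_)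
    obtain ⟨a, rfl⟩ := Ideal.Quotient.mk_surjective x
    show Ideal.Quotient.mk I (e * a) = Ideal.Quotient.mk I a
    rw [Ideal.Quotient.eq]
    exact Ideal.mem_span_singleton'.2 ⟨-a, by ring⟩
  haveI : Module.Free A'' A0 := Module.free_of_flat_of_isLocalRing
  exact ⟨(FaithfulSMul.algebraMap_injective A'' A0), hsurj⟩

end Groth.Agent.S15068
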