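import Groth.Statements.S1507
import Groth.Agent.Lib.PCMor4.Quot

set_option autoImplicit false
universe u
attribute [local instance] HasDerivedCategory.standard
open FlatMor

set_option backward.isDefEq.respectTransparency.types false

namespace Groth.Agent.S1507

/-- Let A → B be flat and of finite presentation and I an ideal of B. Then A → B/I is a pseudo-coherent
ring map if and only if I is a pseudo-coherent B-module. -/
theorem result {A B : Type u} [CommRing A] [CommRing B] [Algebra A B] [Module.Flat A B] [Algebra.FinitePresentation A B] (I : Ideal B) :
    MoreMor.IsPseudoCoherentHom A (B ⧸ I) ↔ DRing.IsPseudoCoherentModule' B ↥I := by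
  rw [PCMor4.isPseudoCoherentHom_iff, show algebraMap A (B ⧸ I) = (Ideal.Quotient.mk I).comp (algebraMap A B) from rfl,
    PCMor4.pc'_iff_PCn, PCMor4.pch_quotient_iff _ (RingHom.flat_algebraMap_iff.2 inferInstance)
    (RingHom.finitePresentation_algebraMap.2 inferInstance)]

end Groth.Agent.S1507
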