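import Groth.Statements.S1689
import Groth.Agent.Lib.RefHull26.Free
import Groth.Agent.Lib.AlgSpRel14.FlatDim
-- import your own Groth.Agent.* helpers here

set_option autoImplicit false
universe u
open CategoryTheory CategoryTheory.Limits AlgebraicGeometry TopologicalSpace
open SDiv

namespace Groth.Agent.S1689

/-- Let X be a locally Noetherian scheme of dimension at most 2 all of whose local rings are regular,
and F a coherent module on X. Then F is reflexive (every stalk is a reflexive module over the local
ring) if and only if F is finite locally free. -/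
theorem result (X : Scheme.{u}) [IsLocallyNoetherian X]
    (hreg : ∀ x : ↥X, IsRegularLocalRing (X.presheaf.stalk x)) (hdim : topologicalKrullDim ↥X ≤ 2) (F : X.Modules)
    (hF : Coh.IsCoh F) : (∀ x : ↥X, Module.IsReflexive (X.presheaf.stalk x) (F.presheaf.stalk x)) ↔ FlatMod.IsFinLocFree F := by
  haveI := fun x : X => Groth.Agent.M1.finite_stalk hF.1 (Groth.Agent.M1.isFP_isFT (Groth.Agent.M1.isFP_of_isCoh hF)) x
  constructor
  · intro h
    refine (Groth.Agent.M1.isFinLocFree_iff F).2 ⟨Groth.Agent.M1.isFP_of_isCoh hF, fun x => ?_⟩
    haveI := hreg x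
    haveI := h x
    exact Groth.Agent.RH26.free_of_isReflexive_regular ((Groth.Agent.AlgSpRel14.stalkDim_le_dim X x).trans hdim) _
  · intro h x
    haveI := ((Groth.Agent.M1.isFinLocFree_iff F).1 h).2 x
    infer_instance

end Groth.Agent.S1689
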