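import Groth.Statements.S15070
import Groth.Agent.S1689
import Groth.Agent.Lib.RefHull26.AlgKer
import Groth.Agent.Lib.VB17.Sub
import Groth.Agent.Lib.CohFound.ProjQuot
import Groth.Agent.Lib.SmoothReg17.Basic
-- import your own Groth.Agent.* helpers here

set_option autoImplicit false
set_option backward.isDefEq.respectTransparency false
universe u
open CategoryTheory CategoryTheory.Limits AlgebraicGeometry
open OrdSurf Groth.Agent

namespace Groth.Agent.S15070

/-- Let k be an algebraically closed field of characteristic zero and X a smooth projective surface over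
k (an integral k-scheme, smooth over k, of dimension two, admitting a closed immersion over k into
some projective space P^n_k). Let N be a coherent O_X-module all of whose stalks are torsion-free
modules over the local rings, M a finite locally free O_X-module and φ : M → N an epimorphism of
O_X-modules. Then the kernel of φ is a finite locally free O_X-module. -/
theorem result (k : Type u) [Field k] [IsAlgClosed k] [CharZero k]
    (X : Scheme.{u}) [X.Over (Spec (CommRingCat.of k))] [IsIntegral X]
    [Smooth (X ↘ Spec (CommRingCat.of k))] (hdim : topologicalKrullDim X = 2)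
    (hproj : ∃ (n : ℕ) (ι : X ⟶ CohB1.ProjSpace n k), IsClosedImmersion ι ∧
      ι ≫ CohB1.ProjSpace.toSpec n k = X ↘ Spec (CommRingCat.of k))
    (N : X.Modules) (hN : Coh.IsCoh N) (hNtf : TorSh.IsTorsionFree N)
    (M : X.Modules) (hM : FlatMod.IsFinLocFree M) (φ : M ⟶ N) [Epi φ] :
    FlatMod.IsFinLocFree (kernel φ) := by
  obtain ⟨n, ι, hι, hιk⟩ := hproj
  haveI := hι
  haveI : IsLocallyNoetherian X := LocallyOfFiniteType.isLocallyNoetherian (X ↘ Spec (CommRingCat.of k))
  have hMc : Coh.IsCoh M := CohFound.isCoh_of_isFinLocFree hM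
  let S : ShortComplex X.Modules := ShortComplex.mk (kernel.ι φ) φ (kernel.condition φ)
  have hexact : S.Exact := S.exact_of_f_is_kernel (kernelIsKernel φ)
  refine (Groth.Agent.S1689.result X (fun x => SmoothReg17.isRegularLocalRing_stalk (X ↘ Spec (CommRingCat.of k)) x)
    hdim.le (kernel φ) (CurveCoh17.isCoh_kernel hMc hN.1 φ)).1 fun x => ?_
  haveI : Module.Free (X.presheaf.stalk x) (M.presheaf.stalk x) := ((M1.isFinLocFree_iff M).1 hM).2 x
  haveI : Module.Finite (X.presheaf.stalk x) (M.presheaf.stalk x) :=
    M1.finite_stalk hMc.1 (M1.isFP_isFT (M1.isFP_of_isCoh hMc)) x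
  have hKc : Coh.IsCoh (kernel φ) := CurveCoh17.isCoh_kernel hMc hN.1 φ
  haveI : Module.Finite (X.presheaf.stalk x) ((kernel φ).presheaf.stalk x) :=
    M1.finite_stalk hKc.1 (M1.isFP_isFT (M1.isFP_of_isCoh hKc)) x
  haveI : Module.Finite (X.presheaf.stalk x) (N.presheaf.stalk x) :=
    M1.finite_stalk hN.1 (M1.isFP_isFT (M1.isFP_of_isCoh hN)) x
  haveI := hNtf x
  haveI : IsNoetherianRing (X.presheaf.stalk x) := inferInstance
  haveI : Module.IsReflexive (X.presheaf.stalk x) (M.presheaf.stalk x) := inferInstance
  have hinj := (M1.mono_iff_stalk S.f).1 (inferInstanceAs (Mono (kernel.ι φ))) x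
  refine RH26.isReflexive_of_exact (CurveCoh17.stalkLin S.f x) (CurveCoh17.stalkLin S.g x) hinj ?_
  intro b
  refine ⟨fun hb => (M1.exact_iff_stalk_eq_zero S).1 hexact x b hb, ?_⟩
  rintro ⟨a, rfl⟩
  rw [← CurveCoh17.stalkLin_comp, S.zero]
  show (M1.stalkAb x).map (0 : S.X₁ ⟶ S.X₃) a = 0
  rw [Functor.map_zero]
  rfl

end Groth.Agent.S15070
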