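import Groth.Statements.S15071
import Groth.Agent.Lib.RefHull26.Closed
import Groth.Agent.Lib.RefHull26.Normal
import Groth.Agent.Lib.CohFound.ProjQuot
import Groth.Agent.Lib.SmoothReg17.Basic
import Groth.Agent.Lib.VB17.Sub
-- import your own Groth.Agent.* helpers here

set_option autoImplicit false
set_option backward.isDefEq.respectTransparency false
universe u
open CategoryTheory CategoryTheory.Limits AlgebraicGeometry
open OrdSurf Groth.Agent

namespace Groth.Agent.S15071

/-- Let k be an algebraically closed field of characteristic zero and X a smooth projective surface over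
k (an integral k-scheme, smooth over k, of dimension two, admitting a closed immersion over k into
some projective space P^n_k). Let φ : M → N be a monomorphism between finite locally free
O_X-modules. Then either φ is an isomorphism, or the support of the cokernel of φ contains a point
of X whose local ring has Krull dimension at most one, i.e. the support has codimension at most one
in X. (The published statement phrases the first alternative as M and N being isomorphic; the
argument shows that the given monomorphism is an isomorphism, which is the form stated here.) -/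
theorem result (k : Type u) [Field k] [IsAlgClosed k] [CharZero k]
    (X : Scheme.{u}) [X.Over (Spec (CommRingCat.of k))] [IsIntegral X]
    [Smooth (X ↘ Spec (CommRingCat.of k))] (hdim : topologicalKrullDim X = 2)
    (hproj : ∃ (n : ℕ) (ι : X ⟶ CohB1.ProjSpace n k), IsClosedImmersion ι ∧
      ι ≫ CohB1.ProjSpace.toSpec n k = X ↘ Spec (CommRingCat.of k))
    (M N : X.Modules) (hM : FlatMod.IsFinLocFree M) (hN : FlatMod.IsFinLocFree N)
    (φ : M ⟶ N) [Mono φ] :
    IsIso φ ∨ ∃ x : X, x ∈ CohB1.support (cokernel φ) ∧ ringKrullDim (X.presheaf.stalk x) ≤ 1 := by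
  obtain ⟨n, ι, hι, hιk⟩ := hproj
  haveI := hι
  haveI : IsLocallyNoetherian X := LocallyOfFiniteType.isLocallyNoetherian (X ↘ Spec (CommRingCat.of k))
  by_cases hex : ∃ x : X, x ∈ CohB1.support (cokernel φ) ∧ ringKrullDim (X.presheaf.stalk x) ≤ 1
  · exact Or.inr hex
  refine Or.inl ?_
  have hX : Pi1.IsNormalScheme X := RH26.isNormalScheme_of_regular fun x =>
    SmoothReg17.isRegularLocalRing_stalk (X ↘ Spec (CommRingCat.of k)) x
  have hcl : ∀ {F : X.Modules}, FlatMod.IsFinLocFree F → RH26.Closed1 F := by
    intro F hF
    have hFc : Coh.IsCoh F := CohFound.isCoh_of_isFinLocFree hF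
    refine (RH26.isReflexive_iff_closed1 hX hFc).1 ?_
    show IsIso (RefHull.bidualMap F)
    refine (RH26.isIso_iff_stalkMapₗ _).2 fun x => (RH26.bijective_bidual_stalk_iff hFc x).2 ?_
    haveI : Module.Free (X.presheaf.stalk x) (F.presheaf.stalk x) := ((M1.isFinLocFree_iff F).1 hF).2 x
    haveI : Module.Finite (X.presheaf.stalk x) (F.presheaf.stalk x) :=
      M1.finite_stalk hFc.1 (M1.isFP_isFT (M1.isFP_of_isCoh hFc)) x
    show Module.IsReflexive (X.presheaf.stalk x) (F.presheaf.stalk x)
    infer_instance
  have hsurj : ∀ x : X, ringKrullDim (X.presheaf.stalk x) ≤ 1 →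
      Function.Surjective (RefHull.stalkMapₗ φ x) := by
    intro x hx b
    have hsub : Subsingleton ((cokernel φ).presheaf.stalk x) := by
      by_contra h
      exact hex ⟨x, h, hx⟩
    let S : ShortComplex X.Modules := ShortComplex.mk φ (cokernel.π φ) (cokernel.condition φ)
    have hS : S.Exact := S.exact_of_g_is_cokernel (cokernelIsCokernel φ)
    exact (M1.exact_iff_stalk_eq_zero S).1 hS x b (@Subsingleton.elim _ hsub _ _)
  refine RH26.isIso_of_codim_one φ (hcl hM) (hcl hN)
    ⟨(M1.mono_iff_stalk φ).1 inferInstance _, hsurj _ ?_⟩ fun ξ hξ => hsurj ξ hξ.le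
  rw [ringKrullDim_eq_zero_of_isField
    (isField_stalk_of_closure_mem_irreducibleComponents X _ (by simp [irreducibleComponents_eq_singleton]))]
  exact zero_le_one

end Groth.Agent.S15071
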