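import Groth.Statements.S15077
import Groth.Agent.Lib.Klein12.Basic
import Groth.Agent.Lib.ProjSpace.Basic
-- import your own Groth.Agent.* helpers here

set_option autoImplicit false
set_option backward.isDefEq.respectTransparency false
universe u
open CategoryTheory CategoryTheory.Limits AlgebraicGeometry
open OrdSurf Groth.Agent

namespace Groth.Agent.S15077

/-- Let k be an algebraically closed field of characteristic zero and X a smooth projective surface over
k (an integral k-scheme, smooth over k, of dimension two, admitting a closed immersion over k into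
some projective space P^n_k). Let I and J be invertible O_X-modules that are two-torsion, I ⊗ I ≅
O_X and J ⊗ J ≅ O_X, let K = I ⊗ J, and let F = O_X ⊕ I ⊕ J ⊕ K (so that O_X, I, J, K form a Klein
four-group of classes in Pic X when I, J, K are nontrivial and distinct). Then for every invertible
O_X-module L, the O_X-modules F ⊗ L and F are isomorphic if and only if L is isomorphic to one of
O_X, I, J, K. (The published statement is for the abelian surface E_1 × E_2, with I and J pulled
back from two-torsion line bundles on the two elliptic curves and F the underlying module of the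
quaternion algebra built from them; this row is stated on any smooth projective surface for any
two-torsion invertible I and J.) -/
theorem result (k : Type u) [Field k] [IsAlgClosed k] [CharZero k]
    (X : Scheme.{u}) [X.Over (Spec (CommRingCat.of k))] [IsIntegral X]
    [Smooth (X ↘ Spec (CommRingCat.of k))] (hdim : topologicalKrullDim X = 2)
    (hproj : ∃ (n : ℕ) (ι : X ⟶ CohB1.ProjSpace n k), IsClosedImmersion ι ∧
      ι ≫ CohB1.ProjSpace.toSpec n k = X ↘ Spec (CommRingCat.of k))
    (I J : X.Modules) (hI : PicF.IsInvertible I) (hJ : PicF.IsInvertible J)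
    (hI2 : Nonempty (CohB1.tensorMod I I ≅ Coh.structureModule X))
    (hJ2 : Nonempty (CohB1.tensorMod J J ≅ Coh.structureModule X))
    (L : X.Modules) (hL : PicF.IsInvertible L) :
    Nonempty (CohB1.tensorMod (Coh.structureModule X ⊞ I ⊞ J ⊞ CohB1.tensorMod I J) L ≅
        Coh.structureModule X ⊞ I ⊞ J ⊞ CohB1.tensorMod I J) ↔
      (Nonempty (L ≅ Coh.structureModule X) ∨ Nonempty (L ≅ I) ∨ Nonempty (L ≅ J) ∨
        Nonempty (L ≅ CohB1.tensorMod I J)) := by
  obtain ⟨n, ι, hι, hιk⟩ := hproj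
  haveI := hι
  haveI : IsProper (CohB1.ProjSpace.toSpec n k) := ProjSpace.isProper_toSpec (n := n) (R := k)
  haveI : IsProper (X ↘ Spec (CommRingCat.of k)) := by rw [← hιk]; infer_instance
  obtain ⟨eI⟩ := hI2
  obtain ⟨eJ⟩ := hJ2
  let O := Coh.structureModule X
  let K := CohB1.tensorMod I J
  let eIK : CohB1.tensorMod I K ≅ J := (M2.tensorAssoc I I J).symm ≪≫ M2.tensorIso eI (Iso.refl J) ≪≫
    M2.tensorLUnit J
  let eKI : CohB1.tensorMod K I ≅ J := M2.tensorComm K I ≪≫ eIK
  let eKJ : CohB1.tensorMod K J ≅ I := M2.tensorAssoc I J J ≪≫ M2.tensorIso (Iso.refl I) eJ ≪≫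
    M2.tensorRUnit I
  let eJK : CohB1.tensorMod J K ≅ I := M2.tensorComm J K ≪≫ eKJ
  let eKK : CohB1.tensorMod K K ≅ O := M2.tensorAssoc I J K ≪≫ M2.tensorIso (Iso.refl I) eJK ≪≫ eI
  constructor
  · rintro ⟨e⟩
    have hΓ : IsField Γ(X, ⊤) := isField_of_universallyClosed (K := k) (X ↘ Spec (CommRingCat.of k))
    let u : O ⟶ O ⊞ I ⊞ J ⊞ K := biprod.inl
    let v : O ⊞ I ⊞ J ⊞ K ⟶ O := biprod.fst
    let e' := (Klein12.distrib O I J K L).symm ≪≫ e
    have h0 : (u ≫ e'.inv) ≫ (e'.hom ≫ v) ≠ 0 := by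
      rw [Category.assoc, e'.inv_hom_id_assoc, biprod.inl_fst]
      exact Klein12.id_ne_zero
    have fin : ∀ {A : X.Modules}, PicF.IsInvertible A → (CohB1.tensorMod A A ≅ O) →
        ∀ (a : O ⟶ CohB1.tensorMod A L) (b : CohB1.tensorMod A L ⟶ O), a ≫ b ≠ 0 → Nonempty (L ≅ A) :=
      fun hA eA a b hab => (Klein12.nonempty_iso_of_comp_ne_zero hΓ (M2.isInvertible_tensor hA hL) a b hab).map
        (Klein12.isoOfTensor eA)
    rcases Klein12.comp_ne_zero _ _ h0 with h1 | h1
    · exact Or.inl (fin (PicLoc.isInvertible_structureModule X) (M2.tensorLUnit O) _ _ h1)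
    rcases Klein12.comp_ne_zero _ _ h1 with h2 | h2
    · exact Or.inr (Or.inl (fin hI eI _ _ h2))
    rcases Klein12.comp_ne_zero _ _ h2 with h3 | h3
    · exact Or.inr (Or.inr (Or.inl (fin hJ eJ _ _ h3)))
    · exact Or.inr (Or.inr (Or.inr (fin (M2.isInvertible_tensor hI hJ) eKK _ _ h3)))
  · rintro (⟨⟨e⟩⟩ | ⟨⟨e⟩⟩ | ⟨⟨e⟩⟩ | ⟨⟨e⟩⟩)
    · exact ⟨M2.tensorIso (Iso.refl _) e ≪≫ M2.tensorRUnit _⟩
    · exact ⟨M2.tensorIso (Iso.refl _) e ≪≫ Klein12.distrib O I J K I ≪≫ biprod.mapIso (M2.tensorLUnit I)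
        (biprod.mapIso eI (biprod.mapIso (M2.tensorComm J I) eKI)) ≪≫ Klein12.swap12 O I J K⟩
    · exact ⟨M2.tensorIso (Iso.refl _) e ≪≫ Klein12.distrib O I J K J ≪≫ biprod.mapIso (M2.tensorLUnit J)
        (biprod.mapIso (Iso.refl K) (biprod.mapIso eJ eKJ)) ≪≫ Klein12.swap13 O I J K⟩
    · exact ⟨M2.tensorIso (Iso.refl _) e ≪≫ Klein12.distrib O I J K K ≪≫ biprod.mapIso (M2.tensorLUnit K)
        (biprod.mapIso eIK (biprod.mapIso eJK eKK)) ≪≫ Klein12.swap14 O I J K⟩

end Groth.Agent.S15077
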