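import Groth.Statements.S15079
import Groth.Agent.Lib.MovLemH7.Twist
import Mathlib.RingTheory.AdjoinRoot
import Mathlib.RingTheory.Finiteness.Basic

set_option autoImplicit false
universe u v
open MovLem

namespace Groth.Agent.S15079

/-- Let k be an infinite perfect field, r, m ≥ 1, and let f be an irreducible polynomial in t over
k[x_1, …, x_r] whose constant term in t is a unit of k[x_1, …, x_r], so that the hypersurface Z : f
= 0 in affine (r+1)-space with coordinates x_1, …, x_r, t is integral and does not meet the divisor
t = 0 (the modulus condition in cubical degree one). Then there are a nonzero polynomial h in k[x_1,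
…, x_r] and an integer s₀ such that for every s ≥ s₀, every field K over k and every point g of K^r
with h(g) ≠ 0, the translate of Z_K by the automorphism x_i ↦ x_i + t^{s(m+1)} g_i, t ↦ t is finite
and surjective over affine r-space over K: the quotient of K[x_1, …, x_r][t] by the translated
equation is a finitely generated K[x_1, …, x_r]-module and K[x_1, …, x_r] maps injectively into it.
(The published statement allows every nonzero point g of affine r-space; for r = 2 and f = x_1 t − 1
the point g = (0, 1) translates Z to itself, which is not finite over the affine plane, so the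
conclusion is stated here for g in a nonempty open subset h ≠ 0, which is what the published proof
establishes.) -/
theorem result
    {k : Type u} [Field k] [Infinite k] [PerfectField k] (r m : ℕ) (hr : 1 ≤ r) (hm : 1 ≤ m)
    (f : Polynomial (MvPolynomial (Fin r) k)) (hirr : Irreducible f) (h0 : IsUnit (f.coeff 0)) :
    ∃ h : MvPolynomial (Fin r) k, h ≠ 0 ∧ ∃ s₀ : ℕ, ∀ s : ℕ, s₀ ≤ s →
      ∀ (K : Type v) [Field K] [Algebra k K] (g : Fin r → K), MvPolynomial.aeval g h ≠ 0 →
        ∀ F : Polynomial (MvPolynomial (Fin r) K),
          F = Polynomial.eval₂ (MvPolynomial.aeval (fun i : Fin r => Polynomial.C (MvPolynomial.X i) + Polynomial.C (MvPolynomial.C (g i)) * Polynomial.X ^ (s * (m + 1))) : MvPolynomial (Fin r) k →ₐ[k] Polynomial (MvPolynomial (Fin r) K)).toRingHom Polynomial.X f →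
          Module.Finite (MvPolynomial (Fin r) K) (Polynomial (MvPolynomial (Fin r) K) ⧸ Ideal.span {F}) ∧
          Function.Injective ((Ideal.Quotient.mk (Ideal.span {F})).comp (algebraMap (MvPolynomial (Fin r) K) (Polynomial (MvPolynomial (Fin r) K)))) := by
  obtain ⟨h, hh, d₀, j₀, -, hz, H⟩ := Groth.Agent.MovLemH7.exists_leading.{u, v} f hirr.ne_zero
  have hpos : ¬ (d₀ = 0 ∧ j₀ = 0) := fun ⟨a, b⟩ => hirr.not_isUnit <| by
    rw [(hz a b).1]; exact h0.map Polynomial.C
  refine ⟨h, hh, f.natDegree + 1, fun s hs K _ _ g hg F hF => ?_⟩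
  have : s * 1 ≤ s * (m + 1) := Nat.mul_le_mul_left s (by omega)
  obtain ⟨c, hc, hdeg, hlead⟩ := H (s * (m + 1)) (by omega) K g hg
  have eF : F = Polynomial.eval₂ (Groth.Agent.MovLemH7.tw (k := k) g (s * (m + 1))).toRingHom Polynomial.X f := hF
  rw [← eF] at hdeg hlead
  have hF0 : F ≠ 0 := fun h => by
    rw [h, Polynomial.leadingCoeff_zero] at hlead
    exact hc ((MvPolynomial.C_eq_zero).mp hlead.symm)
  have hFpos : 0 < F.natDegree := by
    rw [hdeg]
    rcases Nat.eq_zero_or_pos d₀ with a | a
    · have : j₀ ≠ 0 := fun b => hpos ⟨a, b⟩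
      omega
    · exact Nat.add_pos_left (Nat.mul_pos a (by omega)) _
  have hu : IsUnit (Polynomial.C (MvPolynomial.C c⁻¹) : Polynomial (MvPolynomial (Fin r) K)) :=
    ((IsUnit.mk0 _ (inv_ne_zero hc)).map MvPolynomial.C).map Polynomial.C
  refine ⟨?_, ?_⟩
  · rw [← Ideal.span_singleton_mul_left_unit hu F]
    refine Polynomial.Monic.finite_quotient ?_
    refine Polynomial.monic_C_mul_of_mul_leadingCoeff_eq_one ?_
    rw [hlead, ← map_mul, inv_mul_cancel₀ hc, map_one]
  · rw [injective_iff_map_eq_zero]
    intro a ha
    by_contra ha0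
    rw [RingHom.comp_apply, Ideal.Quotient.eq_zero_iff_dvd] at ha
    have := Polynomial.natDegree_le_of_dvd ha (by simpa using ha0)
    simp at this
    omega

end Groth.Agent.S15079
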