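import Groth.Statements.S15080
import Mathlib
import Groth.Agent.Lib.Shuffle.Basic

set_option autoImplicit false
open W4c2movlemaddchow

namespace Groth.Agent.S15080

open Groth.Agent.ShuffleLib W4c2movlemaddchow

/-- Let r, s, t ≥ 1. For an (r+s, t)-shuffle τ of r+s+t letters and an (r, s)-shuffle σ of the first r+s
letters, the composite τ ∘ (σ × id), where σ × id acts as σ on the first r+s letters and fixes the
last t, is an (r, s, t)-shuffle, and (τ, σ) ↦ τ ∘ (σ × id) is a bijection from such pairs onto the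
set of all (r, s, t)-shuffles. (A (p₁, …, p_s)-shuffle is a permutation that is monotone on each of
the consecutive blocks of sizes p₁, …, p_s; composites apply the right-hand factor first.) -/
theorem result (r s t : ℕ) (hr : 1 ≤ r) (hs : 1 ≤ s) (ht : 1 ≤ t) :
    Set.BijOn
      (fun p : Equiv.Perm (Fin (r + s + t)) × Equiv.Perm (Fin (r + s)) =>
        p.1 * W4c2movlemaddchow.extRight (r + s) t p.2)
      ({τ | W4c2movlemaddchow.IsShuffle₂ (r + s) t τ} ×ˢ {σ | W4c2movlemaddchow.IsShuffle₂ r s σ})
      {ν | W4c2movlemaddchow.IsShuffle₃ r s t ν} := by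
  refine ⟨?_, ?_, ?_⟩
  · rintro ⟨τ, σ⟩ ⟨⟨hτ1, hτ2⟩, hσ1, hσ2⟩
    exact ⟨fun i j h => by simpa [extRight_castAdd] using hτ1 (hσ1 h),
      fun i j h => by simpa [extRight_castAdd] using hτ1 (hσ2 h),
      fun i j h => by simpa [extRight_natAdd] using hτ2 h⟩
  · rintro ⟨τ, σ⟩ ⟨⟨hτ1, -⟩, -⟩ ⟨τ', σ'⟩ ⟨⟨hτ1', -⟩, -⟩ h
    simp only at h
    have hp : ∀ x, τ (extRight (r + s) t σ x) = τ' (extRight (r + s) t σ' x) := fun x => congrArg (fun π : Equiv.Perm _ => π x) h
    let f : Fin (r + s) → Fin (r + s + t) := fun i => τ (Fin.castAdd t (σ i))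
    have e1 : f ∘ σ.symm = fun i => τ (Fin.castAdd t i) := funext fun i => by simp [f]
    have e2 : f ∘ σ'.symm = fun i => τ' (Fin.castAdd t i) := funext fun i => by
      have := hp (Fin.castAdd t (σ'.symm i))
      simpa [f, extRight_castAdd] using this
    have e := Tuple.unique_monotone (e1 ▸ hτ1 : Monotone (f ∘ σ.symm)) (e2 ▸ hτ1' : Monotone (f ∘ σ'.symm))
    rw [e1, e2] at e
    have hττ : τ = τ' := Equiv.ext fun x => by
      induction x using Fin.addCases with
      | left i => exact congrFun e i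
      | right l => simpa [extRight_natAdd] using hp (Fin.natAdd _ l)
    subst hττ
    rw [mul_right_inj] at h
    exact Prod.ext rfl (extRight_inj _ _ h)
  · rintro ν ⟨h1, h2, h3⟩
    let f : Fin (r + s) → Fin (r + s + t) := fun i => ν (Fin.castAdd t i)
    have hf : Function.Injective f := ν.injective.comp (Fin.castAdd_injective _ _)
    refine ⟨(ν * extRight (r + s) t (Tuple.sort f), (Tuple.sort f).symm), ⟨⟨?_, ?_⟩, ?_, ?_⟩, ?_⟩
    · simpa [extRight_castAdd, Function.comp_def] using Tuple.monotone_sort f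
    · simpa [extRight_natAdd] using h3
    · exact mono_inv_sort f hf _ h1
    · exact mono_inv_sort f hf _ h2
    · refine Equiv.ext fun x => ?_
      induction x using Fin.addCases with
      | left i => simp [extRight_castAdd]
      | right l => simp [extRight_natAdd]

end Groth.Agent.S15080
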