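import Groth.Statements.S15081
import Mathlib
import Groth.Agent.Lib.Shuffle.Basic

set_option autoImplicit false
open W4c2movlemaddchow

namespace Groth.Agent.S15081

open Groth.Agent.ShuffleLib W4c2movlemaddchow

/-- Let r, s, t ≥ 1. For an (r, s+t)-shuffle τ' of r+s+t letters and an (s, t)-shuffle σ' of the last
s+t letters, the composite τ' ∘ (id × σ'), where id × σ' fixes the first r letters and acts as σ' on
the last s+t, is an (r, s, t)-shuffle, and (τ', σ') ↦ τ' ∘ (id × σ') is a bijection from such pairs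
onto the set of all (r, s, t)-shuffles. (Shuffles are permutations monotone on each consecutive
block; composites apply the right-hand factor first.) -/
theorem result (r s t : ℕ) (hr : 1 ≤ r) (hs : 1 ≤ s) (ht : 1 ≤ t) :
    Set.BijOn
      (fun p : Equiv.Perm (Fin (r + s + t)) × Equiv.Perm (Fin (s + t)) =>
        p.1 * W4c2movlemaddchow.extLeft r s t p.2)
      ({τ | W4c2movlemaddchow.IsShuffle₂ r (s + t) ((finCongr (Nat.add_assoc r s t)).permCongr τ)} ×ˢ
        {σ | W4c2movlemaddchow.IsShuffle₂ s t σ})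
      {ν | W4c2movlemaddchow.IsShuffle₃ r s t ν} := by
  have hcases : ∀ x : Fin (r + s + t), (∃ i, x = Fin.castAdd t (Fin.castAdd s i)) ∨ ∃ k, x = rAdd r s t k := by
    intro x
    induction x using Fin.addCases with
    | left i =>
      induction i using Fin.addCases with
      | left i => exact Or.inl ⟨i, rfl⟩
      | right j => exact Or.inr ⟨_, (rAdd_castAdd r s t j).symm⟩
    | right l => exact Or.inr ⟨_, (rAdd_natAdd r s t l).symm⟩
  refine ⟨?_, ?_, ?_⟩
  · rintro ⟨τ, σ⟩ ⟨hτ, hσ1, hσ2⟩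
    obtain ⟨hτ1, hτ2⟩ := (shuffle_left_iff r s t τ).1 hτ
    exact ⟨fun i j h => by simpa [extLeft_first] using hτ1 h,
      fun i j h => by simpa [← rAdd_castAdd, extLeft_rAdd] using hτ2 (hσ1 h),
      fun i j h => by simpa [← rAdd_natAdd, extLeft_rAdd] using hτ2 (hσ2 h)⟩
  · rintro ⟨τ, σ⟩ ⟨hτ, -⟩ ⟨τ', σ'⟩ ⟨hτ', -⟩ h
    simp only at h
    obtain ⟨-, hτ2⟩ := (shuffle_left_iff r s t τ).1 hτ
    obtain ⟨-, hτ2'⟩ := (shuffle_left_iff r s t τ').1 hτ'
    have hp : ∀ x, τ (extLeft r s t σ x) = τ' (extLeft r s t σ' x) := fun x => congrArg (fun π : Equiv.Perm _ => π x) h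
    let f : Fin (s + t) → Fin (r + s + t) := fun i => τ (rAdd r s t (σ i))
    have e1 : f ∘ σ.symm = fun i => τ (rAdd r s t i) := funext fun i => by simp [f]
    have e2 : f ∘ σ'.symm = fun i => τ' (rAdd r s t i) := funext fun i => by
      have := hp (rAdd r s t (σ'.symm i))
      simpa [f, extLeft_rAdd] using this
    have e := Tuple.unique_monotone (e1 ▸ hτ2 : Monotone (f ∘ σ.symm)) (e2 ▸ hτ2' : Monotone (f ∘ σ'.symm))
    rw [e1, e2] at e
    have hττ : τ = τ' := Equiv.ext fun x => by
      rcases hcases x with ⟨i, rfl⟩ | ⟨k, rfl⟩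
      · simpa [extLeft_first] using hp (Fin.castAdd t (Fin.castAdd s i))
      · exact congrFun e k
    subst hττ
    rw [mul_right_inj] at h
    exact Prod.ext rfl (extLeft_inj _ _ _ h)
  · rintro ν ⟨h1, h2, h3⟩
    let f : Fin (s + t) → Fin (r + s + t) := fun i => ν (rAdd r s t i)
    have hf : Function.Injective f := ν.injective.comp (rAdd_inj r s t)
    refine ⟨(ν * extLeft r s t (Tuple.sort f), (Tuple.sort f).symm), ⟨(shuffle_left_iff r s t _).2 ⟨?_, ?_⟩, ?_, ?_⟩, ?_⟩
    · simpa [extLeft_first] using h1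
    · simpa [extLeft_rAdd, Function.comp_def] using Tuple.monotone_sort f
    · exact mono_inv_sort f hf _ (by simpa [f, Function.comp_def, rAdd_castAdd] using h2)
    · exact mono_inv_sort f hf _ (by simpa [f, Function.comp_def, rAdd_natAdd] using h3)
    · refine Equiv.ext fun x => ?_
      rcases hcases x with ⟨i, rfl⟩ | ⟨k, rfl⟩
      · simp [extLeft_first]
      · simp [extLeft_rAdd]

end Groth.Agent.S15081
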