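import Groth.Statements.S15083
import Mathlib.LinearAlgebra.Matrix.SpecialLinearGroup
import Mathlib.LinearAlgebra.Matrix.Notation

set_option autoImplicit false
universe u
open MovLem

namespace Groth.Agent.S15083

/-- Let K be a field and r ≥ 1. For every element A of the special linear group SL_{r+1}(K) there is an
algebraic path in SL_{r+1} from the identity to A defined over K: a matrix M of determinant 1 with
entries in the polynomial ring K[y] such that M(0) is the identity matrix and M(1) = A. (The
published statement takes K to be the function field of SL_{r+1} over the ground field, A its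
generic point viewed as a K-rational point, and the parameter space to be the projective line minus
the point 1, with endpoints 0 and ∞; this row gives the path for an arbitrary K-point A on the
affine line with endpoints 0 and 1, which is what the published construction provides before
composing with the coordinate change y ↦ y/(y − 1).) -/
theorem result
    (K : Type u) [Field K] (r : ℕ) (hr : 1 ≤ r)
    (A : Matrix.SpecialLinearGroup (Fin (r + 1)) K) :
    ∃ M : Matrix.SpecialLinearGroup (Fin (r + 1)) (Polynomial K),
      Matrix.SpecialLinearGroup.map (Polynomial.evalRingHom (0 : K)) M = 1 ∧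
      Matrix.SpecialLinearGroup.map (Polynomial.evalRingHom (1 : K)) M = A := by
  classical
  haveI : Nontrivial (Fin (r + 1)) := Fin.nontrivial_iff_two_le.mpr (by omega)
  let e0 : Matrix.SpecialLinearGroup (Fin (r + 1)) (Polynomial K) →* Matrix.SpecialLinearGroup (Fin (r + 1)) K :=
    Matrix.SpecialLinearGroup.map (Polynomial.evalRingHom (0 : K))
  let e1 : Matrix.SpecialLinearGroup (Fin (r + 1)) (Polynomial K) →* Matrix.SpecialLinearGroup (Fin (r + 1)) K :=
    Matrix.SpecialLinearGroup.map (Polynomial.evalRingHom (1 : K))
  let P : Matrix.SpecialLinearGroup (Fin (r + 1)) K → Prop := fun B => ∃ M, e0 M = 1 ∧ e1 M = B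
  have hmul : ∀ B C, P B → P C → P (B * C) := by
    rintro B C ⟨M, hM0, hM1⟩ ⟨N, hN0, hN1⟩
    exact ⟨M * N, by rw [map_mul, hM0, hN0, one_mul], by rw [map_mul, hM1, hN1]⟩
  have htr : ∀ (i j : Fin (r + 1)) (hij : i ≠ j) (c : K), P (Matrix.SpecialLinearGroup.transvection hij c) := by
    intro i j hij c
    refine ⟨⟨Matrix.transvection i j (Polynomial.C c * Polynomial.X), Matrix.det_transvection_of_ne i j hij _⟩, ?_, ?_⟩
    all_goals
      refine Subtype.ext (Matrix.ext fun a b => ?_)
      by_cases hab : i = a ∧ j = b
      · obtain ⟨rfl, rfl⟩ := hab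
        simp [e0, e1, Matrix.SpecialLinearGroup.map_apply_coe, Matrix.transvection, Matrix.SpecialLinearGroup.transvection_coe, hij]
      · rcases eq_or_ne a b with rfl | hd <;>
          simp [e0, e1, Matrix.SpecialLinearGroup.map_apply_coe, Matrix.transvection, Matrix.SpecialLinearGroup.transvection_coe, Matrix.single_apply, hab, *]
  have hdg : ∀ (i j : Fin (r + 1)) (hij : i ≠ j) (a : K) (ha : a ≠ 0), P (Matrix.SpecialLinearGroup.diag2n hij a ha) := by
    intro i j hij a ha
    have e : Matrix.SpecialLinearGroup.diag2n hij a ha = Matrix.SpecialLinearGroup.transvection hij a *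
      Matrix.SpecialLinearGroup.transvection hij.symm (- a⁻¹) *
      Matrix.SpecialLinearGroup.transvection hij a *
      Matrix.SpecialLinearGroup.transvection hij (-1) *
      Matrix.SpecialLinearGroup.transvection hij.symm 1 *
      Matrix.SpecialLinearGroup.transvection hij (-1) := by
      refine Subtype.ext (Matrix.ext fun a' b' => ?_)
      simp [Matrix.SpecialLinearGroup.diag2n_coe, Matrix.SpecialLinearGroup.transvection_coe, mul_add, add_mul,
        Matrix.single_mul_single_of_ne _ _ _ _ hij, Matrix.single_mul_single_of_ne _ _ _ _ hij.symm,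
        Matrix.diagonal_apply, Matrix.single_apply, Matrix.one_apply, mul_inv_cancel₀ ha, inv_mul_cancel₀ ha]
      grind
    rw [e]
    refine hmul _ _ (hmul _ _ (hmul _ _ (hmul _ _ (hmul _ _ ?_ ?_) ?_) ?_) ?_) ?_
    all_goals exact htr _ _ _ _
  exact Matrix.SpecialLinearGroup.diagonal_transvection_induction' P A (fun i j hij c hc => hdg i j hij c hc) htr hmul

end Groth.Agent.S15083
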