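import Groth.Statements.S15084
import Mathlib.RingTheory.IntegralClosure.IntegrallyClosed
import Mathlib.RingTheory.LocalRing.Basic

set_option autoImplicit false
universe u
open MovLem

namespace Groth.Agent.S15084

/-- Let A be a Noetherian integrally closed domain with fraction field K, let B be a domain with
fraction field L, and let A → B be an injective ring homomorphism, with K → L the induced map of
fraction fields, such that Spec B → Spec A is surjective (every prime ideal of A is the contraction
of a prime ideal of B). If a ∈ K is such that its image in L lies in B, then a ∈ A. (The published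
statement: for a surjective morphism f : Y → X of normal integral separated schemes of finite type
over a perfect field and a Cartier divisor D on X, if f^*D is effective then D is effective; a
Cartier divisor is locally the divisor of a nonzero rational function a, effectivity of div(a) on a
normal scheme means that a is a regular function, and this row is that local statement, which is
what the published proof establishes.) -/
theorem result
    (A B K L : Type u) [CommRing A] [IsDomain A] [IsNoetherianRing A] [IsIntegrallyClosed A]
    [CommRing B] [IsDomain B] [Field K] [Field L]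
    [Algebra A B] [Algebra A K] [IsFractionRing A K] [Algebra B L] [IsFractionRing B L]
    [Algebra K L] [Algebra A L] [IsScalarTower A K L] [IsScalarTower A B L]
    (hinj : Function.Injective (algebraMap A B))
    (hsurj : ∀ p : Ideal A, p.IsPrime → ∃ q : Ideal B, q.IsPrime ∧ q.comap (algebraMap A B) = p)
    (a : K) (ha : algebraMap K L a ∈ (algebraMap B L).range) :
    a ∈ (algebraMap A K).range := by
  classical
  by_contra hcon
  obtain ⟨b, hb⟩ := ha
  let D : K → Ideal A := fun x => Submodule.comap (LinearMap.toSpanSingleton A K x) (LinearMap.range (Algebra.linearMap A K))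
  have hD : ∀ (x : K) (s : A), s ∈ D x ↔ algebraMap A K s * x ∈ (algebraMap A K).range := by
    intro x s
    simp only [D, Submodule.mem_comap, LinearMap.toSpanSingleton_apply, Algebra.smul_def, LinearMap.mem_range,
      RingHom.mem_range, Algebra.linearMap_apply]
  obtain ⟨P, ⟨z, hz, rfl⟩, hmax⟩ := set_has_maximal_iff_noetherian.mpr (inferInstance : IsNoetherian A A)
    {P | ∃ z : A, algebraMap A K z * a ∉ (algebraMap A K).range ∧ D (algebraMap A K z * a) = P}
    ⟨_, 1, by simpa using hcon, rfl⟩
  set x := algebraMap A K z * a with hx
  have hP : (D x).IsPrime := by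
    refine ⟨fun h => hz ?_, fun {s t} hst => ?_⟩
    · simpa using (hD x 1).mp (h ▸ trivial)
    by_contra! hc
    have hs : algebraMap A K (s * z) * a ∉ (algebraMap A K).range := by
      rw [map_mul, mul_assoc]; exact fun h => hc.1 ((hD _ _).mpr h)
    have hle : D x ≤ D (algebraMap A K (s * z) * a) := fun r hr => by
      rw [hD] at hr ⊢
      obtain ⟨q, hq⟩ := hr
      exact ⟨s * q, by rw [map_mul, map_mul, hq, hx]; ring⟩
    have : D x = D (algebraMap A K (s * z) * a) :=
      hle.eq_or_lt.resolve_right (hmax _ ⟨s * z, hs, rfl⟩)
    refine hc.2 (this ▸ (hD _ t).mpr ?_)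
    have h2 := (hD _ _).mp hst
    rw [hx, map_mul] at h2
    rwa [map_mul, show algebraMap A K t * (algebraMap A K s * algebraMap A K z * a) =
      algebraMap A K s * algebraMap A K t * (algebraMap A K z * a) by ring]
  obtain ⟨q, hq, hqD⟩ := hsurj (D x) hP
  -- `x` multiplies `D x` into itself
  have hstab : ∀ r ∈ D x, ∃ t ∈ D x, algebraMap A K t = algebraMap A K r * x := by
    intro r hr
    obtain ⟨t, ht⟩ := (hD _ _).mp hr
    refine ⟨t, ?_, ht⟩
    rw [← hqD, Ideal.mem_comap]
    have hr' : algebraMap A B r ∈ q := by rwa [← hqD] at hr
    have e : algebraMap A B t = algebraMap A B r * (algebraMap A B z * b) := by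
      apply IsFractionRing.injective B L
      rw [map_mul, map_mul, hb, ← IsScalarTower.algebraMap_apply, ← IsScalarTower.algebraMap_apply,
        ← IsScalarTower.algebraMap_apply, IsScalarTower.algebraMap_apply A K L, ht, hx]
      simp only [map_mul, ← IsScalarTower.algebraMap_apply A K L]
    rw [e]
    exact q.mul_mem_right _ hr'
  refine hz (IsIntegrallyClosed.isIntegral_iff.mp ?_)
  let M : Submodule A K := Submodule.map (Algebra.linearMap A K) (D x)
  refine isIntegral_of_smul_mem_submodule M ?_ ((IsNoetherian.noetherian (D x)).map _) x ?_
  · obtain ⟨⟨n, d⟩, hnd⟩ := IsLocalization.surj (nonZeroDivisors A) x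
    intro h
    have : (algebraMap A K d.1) ∈ M := ⟨d.1, (hD _ _).mpr ⟨n, by rw [← hnd, mul_comm]⟩, rfl⟩
    rw [h, Submodule.mem_bot] at this
    exact nonZeroDivisors.ne_zero d.2 (IsFractionRing.to_map_eq_zero_iff.mp this)
  · rintro _ ⟨r, hr, rfl⟩
    obtain ⟨t, ht, e⟩ := hstab r hr
    exact ⟨t, ht, by simp only [Algebra.linearMap_apply, e, smul_eq_mul, mul_comm]⟩

end Groth.Agent.S15084
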