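import Groth.Statements.S15085
import Groth.Agent.Lib.H12.Dim
import Groth.Agent.Lib.TopDimLib.Basic
import Mathlib.AlgebraicGeometry.Morphisms.Proper
import Groth.Agent.Lib.H12.DimZero
import Mathlib.RingTheory.KrullDimension.Polynomial
import Mathlib.RingTheory.KrullDimension.Field

set_option autoImplicit false
universe u
open CategoryTheory CategoryTheory.Limits AlgebraicGeometry
open MovLem

set_option linter.style.haveILetI false
set_option backward.isDefEq.respectTransparency.types false

namespace Groth.Agent.S15085

theorem dim_ne_top {k : Type u} [Field k] {X : Scheme.{u}} (sX : X ⟶ Spec (CommRingCat.of k))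
    [IsAffine X] [LocallyOfFiniteType sX] : topologicalKrullDim (X : Type u) ≠ ⊤ := by
  have hft : sX.appTop.hom.FiniteType := (HasRingHomProperty.iff_of_isAffine (P := @LocallyOfFiniteType)).1 inferInstance
  have hft' : ((Scheme.ΓSpecIso (CommRingCat.of k)).inv ≫ sX.appTop).hom.FiniteType :=
    hft.comp (RingHom.FiniteType.of_surjective _ (Scheme.ΓSpecIso (CommRingCat.of k)).commRingCatIsoToRingEquiv.symm.surjective)
  let A := Γ(X, ⊤)
  letI : Algebra k A := ((Scheme.ΓSpecIso (CommRingCat.of k)).inv ≫ sX.appTop).hom.toAlgebra
  haveI : Algebra.FiniteType k A := hft'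
  obtain ⟨n, g, hg⟩ := Algebra.FiniteType.iff_quotient_mvPolynomial''.1 (inferInstance : Algebra.FiniteType k A)
  have h1 : ringKrullDim A ≤ (n : WithBot ℕ∞) := by
    refine (ringKrullDim_le_of_surjective g.toRingHom hg).trans ?_
    rw [MvPolynomial.ringKrullDim_of_isNoetherianRing, Nat.card_fin, ringKrullDim_eq_zero_of_field, zero_add]
  have h2 : topologicalKrullDim (X : Type u) = ringKrullDim A := by
    rw [← PrimeSpectrum.topologicalKrullDim_eq_ringKrullDim]
    exact IsHomeomorph.topologicalKrullDim_eq _ (Scheme.homeoOfIso X.isoSpec).isHomeomorph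
  rw [h2]
  intro h
  rw [h] at h1
  exact absurd (lt_of_le_of_lt h1 (WithBot.coe_lt_coe.2 (ENat.coe_lt_top n))) (lt_irrefl _)

theorem dim_range_of_finite {X Y : Scheme.{u}} (f : X ⟶ Y) [IsFinite f] :
    topologicalKrullDim ↥(Set.range f) = topologicalKrullDim (X : Type u) := by
  have hcl : IsClosed (Set.range f) := f.isClosedMap.isClosed_range
  haveI : QuasiSober ↥(Set.range f) := hcl.isClosedEmbedding_subtypeVal.quasiSober
  let F : X → ↥(Set.range f) := fun z => ⟨f z, z, rfl⟩
  have hF : Continuous F := Continuous.subtype_mk f.continuous _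
  refine le_antisymm (Groth.Agent.H12.topologicalKrullDim_le_of_surjective_of_lift F ?_ (Or.inl ?_))
    (Groth.Agent.H12.topologicalKrullDim_le_of_eq_of_specializes F hF fun a b hab h => ?_)
  · rintro ⟨_, z, rfl⟩
    exact ⟨z, rfl⟩
  · refine IsClosedMap.specializingMap fun C hC => ?_
    convert (f.isClosedMap C hC).preimage continuous_subtype_val using 1
    ext y
    constructor
    · rintro ⟨c, hc, rfl⟩; exact ⟨c, hc, rfl⟩
    · rintro ⟨c, hc, hy⟩; exact ⟨c, hc, Subtype.ext hy⟩
  · exact Groth.Agent.H12.eq_of_specializes_of_isIntegralHom f hab (congrArg Subtype.val h)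


/-- Let k be a field, X an affine scheme of finite type over k which is equidimensional (all irreducible
components have the same dimension), B̂ a proper smooth geometrically integral k-scheme and B ⊆ B̂ a
nonempty affine open subscheme. Let Z be an integral closed subscheme of X ×_k B of dimension dim X
(that is, of codimension dim B, the product X ×_k B being equidimensional of dimension dim X + dim
B). Then the projection Z → X is finite and maps Z onto an irreducible component of X if and only if
Z is closed in X ×_k B̂. (The published statement allows X to be essentially of finite type, i.e.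
also a localization of such a scheme at finitely many points, takes B̂ projective of positive
dimension, and phrases the dimension condition as codimension dim B; this row is the finite-type
case with properness in place of projectivity.) -/
theorem result
    {k : Type u} [Field k] {X Bhat Z : Scheme.{u}}
    (sX : X ⟶ Spec (CommRingCat.of k)) (sB : Bhat ⟶ Spec (CommRingCat.of k))
    [IsAffine X] [LocallyOfFiniteType sX]
    (hXeq : ∀ T ∈ irreducibleComponents (X : Type u), topologicalKrullDim T = topologicalKrullDim X)
    [IsProper sB] [Smooth sB] [GeometricallyIntegral sB]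
    (B : Bhat.Opens) (hB : IsAffineOpen B) (hBne : (B : Set Bhat).Nonempty)
    [IsIntegral Z] (ι : Z ⟶ ((pullback.snd sX sB) ⁻¹ᵁ B).toScheme) [IsClosedImmersion ι]
    (hZ : topologicalKrullDim Z = topologicalKrullDim X)
    (j : Z ⟶ pullback sX sB) (hj : j = ι ≫ ((pullback.snd sX sB) ⁻¹ᵁ B).ι) :
    (IsFinite (j ≫ pullback.fst sX sB) ∧
        Set.range (j ≫ pullback.fst sX sB).base ∈ irreducibleComponents (X : Type u)) ↔
      IsClosed (Set.range j.base) := by
  haveI : IsAffine ((B : Scheme.{u})) := hB
  haveI : IsAffineHom sX := isAffineHom_of_isAffine sX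
  haveI : IsAffineHom (pullback.snd sX sB) := MorphismProperty.pullback_snd _ _ inferInstance
  haveI : IsAffine (((pullback.snd sX sB) ⁻¹ᵁ B).toScheme) :=
    IsAffineOpen.preimage hB (pullback.snd sX sB)
  haveI : IsAffine Z := isAffine_of_isAffineHom ι
  constructor
  · rintro ⟨hfin, -⟩
    haveI : IsProper j := IsProper.of_comp j (pullback.fst sX sB)
    exact j.isClosedMap.isClosed_range
  · intro hcl
    haveI : IsImmersion j := by rw [hj]; infer_instance
    haveI : IsClosedImmersion j := IsClosedImmersion.of_isPreimmersion j hcl
    haveI hfin : IsFinite (j ≫ pullback.fst sX sB) :=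
      IsFinite.iff_isProper_and_isAffineHom.2 ⟨inferInstance, isAffineHom_of_isAffine _⟩
    refine ⟨hfin, ?_⟩
    let p := j ≫ pullback.fst sX sB
    have hirr : IsIrreducible (Set.range p) := by
      have := (IrreducibleSpace.isIrreducible_univ (Z : Type u)).image p p.continuous.continuousOn
      rwa [Set.image_univ] at this
    have hclp : IsClosed (Set.range p) := p.isClosedMap.isClosed_range
    obtain ⟨T, hT, hle, -⟩ : ∃ T ∈ irreducibleComponents (X : Type u), Set.range p ⊆ T ∧ True := by
      obtain ⟨T, hT, hle⟩ := exists_mem_irreducibleComponents_subset_of_isIrreducible _ hirr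
      exact ⟨T, hT, hle, trivial⟩
    suffices Set.range p = T by
      rw [show Set.range (j ≫ pullback.fst sX sB).base = T from this]; exact hT
    by_contra hne
    haveI : IrreducibleSpace ↥T :=
      haveI := Subtype.preirreducibleSpace hT.1.isPreirreducible
      ⟨hT.1.nonempty.to_subtype⟩
    have hlt := Groth.Agent.TopDimLib.dim_lt_of_closed_ssubset (X := ↥T) (by rw [hXeq T hT]; exact dim_ne_top sX)
      (Subtype.val ⁻¹' Set.range p) (hclp.preimage continuous_subtype_val) (fun h => hne (Set.Subset.antisymm hle
        fun x hx => (Set.eq_univ_iff_forall.1 h ⟨x, hx⟩ : _)))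
    have he : topologicalKrullDim ↥(Subtype.val ⁻¹' Set.range p : Set ↥T) = topologicalKrullDim ↥(Set.range p) := by
      refine IsHomeomorph.topologicalKrullDim_eq _
        (Homeomorph.isHomeomorph (?_ : ↥(Subtype.val ⁻¹' Set.range p : Set ↥T) ≃ₜ ↥(Set.range p)))
      exact
        { toFun := fun x => ⟨x.1.1, x.2⟩
          invFun := fun x => ⟨⟨x.1, hle x.2⟩, x.2⟩
          left_inv := fun x => rfl
          right_inv := fun x => rfl
          continuous_toFun := by fun_prop
          continuous_invFun := by fun_prop }
    rw [he, dim_range_of_finite p, hXeq T hT, hZ] at hlt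
    exact lt_irrefl _ hlt

end Groth.Agent.S15085
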