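import Groth.Statements.S15086
import Groth.Agent.Lib.GeomIrr18.Count
-- import your own Groth.Agent.* helpers here

set_option autoImplicit false
universe u
open CategoryTheory CategoryTheory.Limits AlgebraicGeometry
open MovLem

namespace Groth.Agent.S15086

/-- Let k be an infinite perfect field with algebraic closure k̄, let φ : X → Y be a finite morphism of
k-schemes locally of finite type, let x be a closed point of X and y = φ(x). Let π_X : X_{k̄} → X
and π_Y : Y_{k̄} → Y be the base-change projections and φ_{k̄} : X_{k̄} → Y_{k̄} the induced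
morphism. Then the number of points of π_Y⁻¹(y) is at most the number of points of π_X⁻¹(x);
equality holds if and only if the residue field extension k(y) → k(x) is an isomorphism; and
equality holds whenever φ_{k̄} is injective on π_X⁻¹(x). (Cardinalities are taken in ℕ ∪ {∞}; both
fibres are in fact finite.) -/
theorem result
    {k : Type u} [Field k] [Infinite k] [PerfectField k] {X Y : Scheme.{u}}
    (sX : X ⟶ Spec (CommRingCat.of k)) (sY : Y ⟶ Spec (CommRingCat.of k))
    [LocallyOfFiniteType sX] [LocallyOfFiniteType sY]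
    (φ : X ⟶ Y) (hφ : φ ≫ sY = sX) [IsFinite φ]
    (i : Spec (CommRingCat.of (AlgebraicClosure k)) ⟶ Spec (CommRingCat.of k))
    (hi : i = Spec.map (CommRingCat.ofHom (algebraMap k (AlgebraicClosure k))))
    (φbar : pullback sX i ⟶ pullback sY i)
    (h1 : φbar ≫ pullback.fst sY i = pullback.fst sX i ≫ φ)
    (h2 : φbar ≫ pullback.snd sY i = pullback.snd sX i)
    (x : X) (hx : IsClosed ({x} : Set X)) :
    ((pullback.fst sY i).base ⁻¹' {φ.base x}).encard ≤ ((pullback.fst sX i).base ⁻¹' {x}).encard ∧
      (((pullback.fst sY i).base ⁻¹' {φ.base x}).encard = ((pullback.fst sX i).base ⁻¹' {x}).encard ↔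
          Function.Bijective (φ.residueFieldMap x).hom) ∧
      (Set.InjOn φbar.base ((pullback.fst sX i).base ⁻¹' {x}) →
        ((pullback.fst sY i).base ⁻¹' {φ.base x}).encard = ((pullback.fst sX i).base ⁻¹' {x}).encard) := by
  classical
  let Ω := AlgebraicClosure k
  have key : ∀ (Z : Scheme.{u}) (p : Z ⟶ Spec (CommRingCat.of k)) [LocallyOfFiniteType p] (z : Z)
      (hz : IsClosed ({z} : Set Z)) (α : CommRingCat.of k ⟶ Z.residueField z)
      (hα : Spec.map α = Z.fromSpecResidueField z ≫ p),
      letI := α.hom.toAlgebra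
      FiniteDimensional k (Z.residueField z) ∧
        ((pullback.fst p i).base ⁻¹' {z}).Finite ∧
        ((pullback.fst p i).base ⁻¹' {z}).encard = (Module.finrank k (Z.residueField z) : ℕ∞) := by
    intro Z p _ z hz α hα
    letI := α.hom.toAlgebra
    haveI hfin : IsFinite (Z.fromSpecResidueField z ≫ p) := by
      rw [isClosed_singleton_iff_isClosedImmersion] at hz
      rw [isFinite_iff_locallyOfFiniteType_of_jacobsonSpace]
      infer_instance
    haveI hF : FiniteDimensional k (Z.residueField z) := by
      rw [← hα] at hfin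
      exact (IsFinite.SpecMap_iff α).1 hfin
    haveI : Algebra.IsSeparable k (Z.residueField z) := inferInstance
    obtain ⟨hfinP, hcard⟩ := Groth.Agent.GeomIrr.card_primeSpectrum_tensor (k := k) Ω (Z.residueField z)
    obtain ⟨q, -, -, hq, hqi⟩ := Groth.Agent.GeomIrr.exists_bcMap p i (Z.fromSpecResidueField z)
    haveI := hqi inferInstance
    rw [Scheme.range_fromSpecResidueField] at hq
    let F : Type u := Z.residueField z
    let eF := (pullback.congrHom (f₁ := Z.fromSpecResidueField z ≫ p) (g₁ := i)
      (f₂ := Spec.map (CommRingCat.ofHom (algebraMap k F))) (g₂ := Spec.map (CommRingCat.ofHom (algebraMap k Ω)))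
      hα.symm hi ≪≫ pullbackSymmetry _ _ ≪≫ pullbackSpecIso k Ω F).hom.homeomorph
    haveI : Finite ↥(Spec (CommRingCat.of (TensorProduct k Ω F))) := hfinP
    haveI : Finite ↥(pullback (Z.fromSpecResidueField z ≫ p) i) := Finite.of_equiv _ eF.symm.toEquiv
    rw [← hq]
    refine ⟨hF, Set.finite_range _, ?_⟩
    rw [← Set.image_univ, q.isEmbedding.injective.encard_image, Set.encard_univ, ENat.card_eq_coe_natCard,
      Nat.card_congr eF.toEquiv]
    exact congrArg _ hcard
  let αy : CommRingCat.of k ⟶ Y.residueField (φ.base x) := Spec.preimage (Y.fromSpecResidueField (φ.base x) ≫ sY)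
  let αx : CommRingCat.of k ⟶ X.residueField x := Spec.preimage (X.fromSpecResidueField x ≫ sX)
  have hy : IsClosed ({φ.base x} : Set Y) := by
    have := φ.isClosedMap _ hx
    rwa [Set.image_singleton] at this
  letI := αy.hom.toAlgebra
  letI := αx.hom.toAlgebra
  obtain ⟨hFy, hfy, hcy⟩ := key Y sY (φ.base x) hy αy (Spec.map_preimage _)
  obtain ⟨hFx, hfx, hcx⟩ := key X sX x hx αx (Spec.map_preimage _)
  have hcomm : αy ≫ φ.residueFieldMap x = αx := by
    apply Spec.map_injective
    rw [Spec.map_comp, Spec.map_preimage, Spec.map_preimage, Scheme.Hom.SpecMap_residueFieldMap_fromSpecResidueField_assoc, hφ]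
  let ρ : Y.residueField (φ.base x) →ₐ[k] X.residueField x :=
    { (φ.residueFieldMap x).hom with
      commutes' := fun c => ConcreteCategory.congr_hom hcomm c }
  have hρ : Function.Injective ρ := (φ.residueFieldMap x).hom.injective
  have hle : Module.finrank k (Y.residueField (φ.base x)) ≤ Module.finrank k (X.residueField x) :=
    LinearMap.finrank_le_finrank_of_injective (f := ρ.toLinearMap) hρ
  have hEq : ((pullback.fst sY i).base ⁻¹' {φ.base x}).encard ≤ ((pullback.fst sX i).base ⁻¹' {x}).encard := by
    rw [hcy, hcx]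
    exact_mod_cast hle
  refine ⟨hEq, ⟨fun h => ⟨hρ, ?_⟩, fun h => ?_⟩, fun hinj => le_antisymm hEq ?_⟩
  · rw [hcy, hcx] at h
    exact (LinearMap.injective_iff_surjective_of_finrank_eq_finrank (f := ρ.toLinearMap) (by exact_mod_cast h)).1 hρ
  · rw [hcy, hcx]
    exact congrArg _ (LinearEquiv.ofBijective ρ.toLinearMap h).finrank_eq
  · rw [← hinj.encard_image]
    refine Set.encard_le_encard ?_
    rintro _ ⟨w, hw, rfl⟩
    show (pullback.fst sY i).base (φbar.base w) = φ.base x
    rw [← Scheme.Hom.comp_apply, h1, Scheme.Hom.comp_apply, show (pullback.fst sX i).base w = x from hw]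

end Groth.Agent.S15086
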