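import Groth.Statements.S15087
import Groth.Agent.Lib.MovLemH7.Basic
-- import your own Groth.Agent.* helpers here

set_option autoImplicit false
universe u v w
open MovLem

namespace Groth.Agent.S15087

/-- Let k be an infinite perfect field, r, m, s ≥ 1 and d ≥ 0, and put N = s(m+1). In affine space with
coordinates x_1, …, x_r, t, y_1, …, y_d (the cube of dimension d taken as affine d-space with faces
given by setting some coordinates equal to 0 or 1), let Z = V(I) be an integral closed subscheme of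
dimension r which does not meet the hyperplane t = 0 and which meets every face {y_i = ε_i for i ∈
S} (S nonempty, ε_i ∈ {0, 1}) in dimension at most r − |S|. Let Σ be a finite set of closed points
of affine r-space over k. Then there is a nonzero polynomial h in k[g_1, …, g_r] such that for every
field K over k and every g ∈ K^r with h(g) ≠ 0, the translate of Z_K by x ↦ x + t^N g meets no set
{x ∈ Σ} × A^1 × F with F a proper face: for every field L over K, every point ξ of affine r-space
over L lying on a point of Σ, every t ∈ L and every y ∈ L^d lying on a proper face, the point (ξ +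
t^N g, t, y) is not a zero of I. (The published statement assumes that Z is an irreducible
admissible additive cycle meeting the faces through Σ properly; the two consequences of
admissibility that its proof uses — Z misses t = 0, and Z meets all faces properly — are the
hypotheses here, and the dense open subset of affine r-space is given as the locus h ≠ 0.) -/
theorem result
    {k : Type u} [Field k] [Infinite k] [PerfectField k] (r m s d : ℕ) (hr : 1 ≤ r) (hm : 1 ≤ m) (hs : 1 ≤ s)
    (I : Ideal (MvPolynomial (Fin r ⊕ (Unit ⊕ Fin d)) k)) (hI : I.IsPrime)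
    (hdim : ringKrullDim (MvPolynomial (Fin r ⊕ (Unit ⊕ Fin d)) k ⧸ I) = r)
    (ht0 : I ⊔ Ideal.span {MvPolynomial.X (Sum.inr (Sum.inl ()))} = ⊤)
    (hface : ∀ (S : Finset (Fin d)), S.Nonempty → ∀ (ε : Fin d → k), (∀ i, ε i = 0 ∨ ε i = 1) →
      ringKrullDim (MvPolynomial (Fin r ⊕ (Unit ⊕ Fin d)) k ⧸
        (I ⊔ Ideal.span ((fun i => MvPolynomial.X (Sum.inr (Sum.inr i)) - MvPolynomial.C (ε i)) '' (S : Set (Fin d))))) ≤ (r - S.card : ℕ))
    (Sigma : Finset (Ideal (MvPolynomial (Fin r) k))) (hSigma : ∀ P ∈ Sigma, P.IsMaximal) :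
    ∃ h : MvPolynomial (Fin r) k, h ≠ 0 ∧
      ∀ (K : Type v) [Field K] [Algebra k K] (g : Fin r → K), MvPolynomial.aeval g h ≠ 0 →
        ∀ (L : Type w) [Field L] [Algebra k L] [Algebra K L] [IsScalarTower k K L]
          (ξ : Fin r → L) (t : L) (y : Fin d → L),
          ∀ P ∈ Sigma, (∀ p ∈ P, MvPolynomial.aeval ξ p = 0) →
            ∀ (S : Finset (Fin d)), S.Nonempty → ∀ (ε : Fin d → k), (∀ i, ε i = 0 ∨ ε i = 1) →
              (∀ i ∈ S, y i = algebraMap k L (ε i)) →
                ¬ (∀ q ∈ I, MvPolynomial.aeval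
                    (Sum.elim (fun i => ξ i + t ^ (s * (m + 1)) * algebraMap K L (g i))
                      (Sum.elim (fun _ : Unit => t) y)) q = 0) := by
  classical
  let σ := Fin r ⊕ (Unit ⊕ Fin d)
  let ε' : Finset (Fin d) → Fin d → k := fun U i => if i ∈ U then 1 else 0
  let J : Finset (Fin d) → Finset (Fin d) → Ideal (MvPolynomial σ k) := fun S U =>
    I ⊔ Ideal.span ((fun i => MvPolynomial.X (Sum.inr (Sum.inr i)) - MvPolynomial.C (ε' U i)) '' (S : Set (Fin d)))
  have key : ∀ q : {P // P ∈ Sigma} × {S : Finset (Fin d) // S.Nonempty} × Finset (Fin d),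
      ∃ h : MvPolynomial (Fin r) k, h ≠ 0 ∧
        ∀ (L : Type w) [CommRing L] [Algebra k L] (g ξ : Fin r → L) (ρ : (MvPolynomial σ k ⧸ J q.2.1.1 q.2.2) →ₐ[k] L),
          (∀ p ∈ q.1.1, MvPolynomial.aeval ξ p = 0) →
          (∀ i, ρ (Ideal.Quotient.mk _ (MvPolynomial.X (Sum.inl i))) =
            ξ i + ρ (Ideal.Quotient.mk _ (MvPolynomial.X (Sum.inr (Sum.inl ())))) ^ (s * (m + 1)) * g i) →
          MvPolynomial.aeval g h = 0 := by
    rintro ⟨⟨P, hP⟩, ⟨S, hS⟩, U⟩
    refine MovLemH7.exists_avoid (MvPolynomial σ k ⧸ J S U) ?_ _ _ ?_ _ P (hSigma P hP)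
    · refine (hface S hS (ε' U) fun i => ?_).trans_lt ?_
      · by_cases hi : i ∈ U <;> simp [ε', hi]
      · exact Nat.cast_lt.2 (Nat.sub_lt hr hS.card_pos)
    · have h1 := congrArg (Ideal.map (Ideal.Quotient.mk (J S U))) ht0
      rw [Ideal.map_sup, Ideal.map_top, (Ideal.map_eq_bot_iff_le_ker _).2 (by rw [Ideal.mk_ker]; exact le_sup_left),
        bot_sup_eq, Ideal.map_span, Set.image_singleton] at h1
      exact Ideal.span_singleton_eq_top.1 h1
  choose h hne hh using key
  refine ⟨∏ q, h q, Finset.prod_ne_zero_iff.2 fun q _ => hne q, ?_⟩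
  intro K _ _ g hg L _ _ _ _ ξ t y P hP hξ S hS ε hε hy hI'
  refine hg ?_
  let q : {P // P ∈ Sigma} × {S : Finset (Fin d) // S.Nonempty} × Finset (Fin d) :=
    (⟨P, hP⟩, ⟨S, hS⟩, Finset.univ.filter fun i => ε i = 1)
  have hq : ∀ i, ε' q.2.2 i = ε i := fun i => by
    rcases hε i with h | h <;> simp [ε', q, h]
  let pt : σ → L := Sum.elim (fun i => ξ i + t ^ (s * (m + 1)) * algebraMap K L (g i)) (Sum.elim (fun _ : Unit => t) y)
  have hker : ∀ z ∈ J q.2.1.1 q.2.2, MvPolynomial.aeval pt z = 0 := by
    intro z hz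
    have h2 : J q.2.1.1 q.2.2 ≤ RingHom.ker (MvPolynomial.aeval (R := k) pt) := by
      refine sup_le (fun w hw => hI' w hw) (Ideal.span_le.2 ?_)
      rintro _ ⟨i, hi, rfl⟩
      show MvPolynomial.aeval pt _ = 0
      rw [map_sub, MvPolynomial.aeval_X, MvPolynomial.aeval_C, hq]
      exact sub_eq_zero.2 (hy i hi)
    exact h2 hz
  have h0 := hh q L (fun i => algebraMap K L (g i)) ξ (Ideal.Quotient.liftₐ _ (MvPolynomial.aeval pt) hker) hξ
    (fun i => by
      show MvPolynomial.aeval pt (MvPolynomial.X (Sum.inl i)) =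
        ξ i + MvPolynomial.aeval pt (MvPolynomial.X (Sum.inr (Sum.inl ()))) ^ (s * (m + 1)) * algebraMap K L (g i)
      simp [pt])
  rw [map_prod]
  refine Finset.prod_eq_zero (Finset.mem_univ q) ((map_eq_zero (algebraMap K L)).1 ?_)
  exact (MvPolynomial.aeval_algebraMap_apply L g (h q)).symm.trans h0

end Groth.Agent.S15087
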