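import Groth.Statements.S15088
import Groth.Agent.Lib.MovLemH7.Basic
-- import your own Groth.Agent.* helpers here

set_option autoImplicit false
set_option maxHeartbeats 800000
universe u v
open MovLem

namespace Groth.Agent.S15088

/-- Let k be an infinite perfect field, r, m, s ≥ 1 and d ≥ 0, and put N = s(m+1). In affine space with
coordinates x_1, …, x_r, t, y_1, …, y_d let Z = V(I) be an integral closed subscheme of dimension r
which does not meet t = 0 and such that neither the projection of Z to the x-coordinates nor its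
projection to the t-line is dominant (I contains a nonzero polynomial in the x's alone and a nonzero
polynomial in t alone). Let Σ be a finite set of closed points of affine r-space over k. Then there
is a nonzero polynomial h in k[g_1, …, g_r] such that for every field K over k and every g ∈ K^r
with h(g) ≠ 0 the translate Z_g = {(x, t, y) : (x + t^N g, t, y) ∈ Z_K} of Z_K is empty over an open
neighbourhood of the points of affine r-space over K lying over Σ: the closure of the image of Z_g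
in affine r-space over K (the zero set of the contraction to K[x_1, …, x_r] of the ideal of Z_g)
contains no point lying over a point of Σ. (The published statement assumes that Z is an irreducible
admissible additive cycle meeting the faces through Σ properly; of this its proof uses only that Z
misses t = 0, which is a hypothesis here, and the dense open subset of affine r-space is given as
the locus h ≠ 0.) -/
theorem result
    {k : Type u} [Field k] [Infinite k] [PerfectField k] (r m s d : ℕ) (hr : 1 ≤ r) (hm : 1 ≤ m) (hs : 1 ≤ s)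
    (I : Ideal (MvPolynomial (Fin r ⊕ (Unit ⊕ Fin d)) k)) (hI : I.IsPrime)
    (hdim : ringKrullDim (MvPolynomial (Fin r ⊕ (Unit ⊕ Fin d)) k ⧸ I) = r)
    (ht0 : I ⊔ Ideal.span {MvPolynomial.X (Sum.inr (Sum.inl ()))} = ⊤)
    (hx : Ideal.comap (MvPolynomial.rename (Sum.inl : Fin r → Fin r ⊕ (Unit ⊕ Fin d)) :
        MvPolynomial (Fin r) k →ₐ[k] MvPolynomial (Fin r ⊕ (Unit ⊕ Fin d)) k) I ≠ ⊥)
    (ht : Ideal.comap (MvPolynomial.rename (fun _ : Unit => (Sum.inr (Sum.inl ()) : Fin r ⊕ (Unit ⊕ Fin d))) :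
        MvPolynomial Unit k →ₐ[k] MvPolynomial (Fin r ⊕ (Unit ⊕ Fin d)) k) I ≠ ⊥)
    (Sigma : Finset (Ideal (MvPolynomial (Fin r) k))) (hSigma : ∀ P ∈ Sigma, P.IsMaximal) :
    ∃ h : MvPolynomial (Fin r) k, h ≠ 0 ∧
      ∀ (K : Type v) [Field K] [Algebra k K] (g : Fin r → K), MvPolynomial.aeval g h ≠ 0 →
        ∀ P ∈ Sigma,
          Ideal.comap (MvPolynomial.rename (Sum.inl : Fin r → Fin r ⊕ (Unit ⊕ Fin d)) :
              MvPolynomial (Fin r) K →ₐ[K] MvPolynomial (Fin r ⊕ (Unit ⊕ Fin d)) K)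
            (Ideal.map (MvPolynomial.aeval
                (Sum.elim (fun i : Fin r => MvPolynomial.X (Sum.inl i) +
                    MvPolynomial.X (Sum.inr (Sum.inl ())) ^ (s * (m + 1)) * MvPolynomial.C (g i))
                  (fun j : Unit ⊕ Fin d => MvPolynomial.X (Sum.inr j))) :
                MvPolynomial (Fin r ⊕ (Unit ⊕ Fin d)) k →ₐ[k] MvPolynomial (Fin r ⊕ (Unit ⊕ Fin d)) K) I) ⊔
            Ideal.map (MvPolynomial.map (algebraMap k K) : MvPolynomial (Fin r) k →+* MvPolynomial (Fin r) K) P = ⊤ := by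
  classical
  let σ := Fin r ⊕ (Unit ⊕ Fin d)
  let tv : MvPolynomial σ k := MvPolynomial.X (Sum.inr (Sum.inl ()))
  obtain ⟨f, hfI, hf0⟩ := Submodule.exists_mem_ne_zero_of_ne_bot hx
  rw [Ideal.mem_comap] at hfI
  obtain ⟨q0, hq0I, hq00⟩ := Submodule.exists_mem_ne_zero_of_ne_bot ht
  rw [Ideal.mem_comap] at hq0I
  have htI : tv ∉ I := fun h => hI.ne_top (by
    rw [← ht0]; exact (sup_eq_left.2 ((Ideal.span_singleton_le_iff_mem I).2 h)).symm)
  obtain ⟨p, hp, hp0, hpI⟩ : ∃ p : Polynomial k, p.Monic ∧ p.coeff 0 ≠ 0 ∧ Polynomial.aeval tv p ∈ I := by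
    let p0 : Polynomial k := MvPolynomial.pUnitAlgEquiv k q0
    have e : (Polynomial.aeval tv).comp (MvPolynomial.pUnitAlgEquiv k).toAlgHom =
        MvPolynomial.rename (fun _ : Unit => (Sum.inr (Sum.inl ()) : σ)) := by
      refine MvPolynomial.algHom_ext fun _ => ?_
      simp [tv]
    have h0 : p0 ≠ 0 := (map_ne_zero_iff _ (MvPolynomial.pUnitAlgEquiv k).injective).2 hq00
    have h1 : Polynomial.aeval tv p0 ∈ I := by
      have := AlgHom.congr_fun e q0
      simp only [AlgHom.comp_apply] at this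
      exact this ▸ hq0I
    obtain ⟨q, hq, hdvd⟩ := Polynomial.exists_eq_pow_rootMultiplicity_mul_and_not_dvd p0 h0 0
    rw [map_zero, sub_zero] at hq hdvd
    have hqI : Polynomial.aeval tv q ∈ I := by
      rw [hq, map_mul, map_pow, Polynomial.aeval_X] at h1
      exact (hI.mem_or_mem h1).resolve_left fun h => htI (hI.mem_of_pow_mem _ h)
    have hq0 : q ≠ 0 := fun h => h0 (by rw [hq, h, mul_zero])
    refine ⟨q * Polynomial.C q.leadingCoeff⁻¹, Polynomial.monic_mul_leadingCoeff_inv hq0, ?_, ?_⟩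
    · rw [Polynomial.coeff_mul_C]
      exact mul_ne_zero (fun h => hdvd (Polynomial.X_dvd_iff.2 h)) (inv_ne_zero (Polynomial.leadingCoeff_ne_zero.2 hq0))
    · rw [map_mul]
      exact I.mul_mem_right _ hqI
  haveI := hp.finite_adjoinRoot
  have hA : ringKrullDim (MvPolynomial (Fin r) k ⧸ Ideal.span {f}) < (r : WithBot ℕ∞) := by
    have h1 := ringKrullDim_quotient_succ_le_of_nonZeroDivisor (mem_nonZeroDivisors_of_ne_zero hf0)
    rw [VarDim.ringKrullDim_mvPolynomial k r] at h1
    generalize ringKrullDim (MvPolynomial (Fin r) k ⧸ Ideal.span {f}) = z at h1 ⊢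
    induction z with
    | bot => exact WithBot.bot_lt_coe _
    | coe n =>
      induction n with
      | top =>
        have h2 : ((⊤ : ℕ∞) : WithBot ℕ∞) ≤ ((r : ℕ∞) : WithBot ℕ∞) := h1
        exact absurd (WithBot.coe_le_coe.1 h2) (not_le.2 (ENat.natCast_lt_top r))
      | coe j =>
        have h2 : ((j + 1 : ℕ) : WithBot ℕ∞) ≤ (r : WithBot ℕ∞) := by push_cast; exact h1
        exact Nat.cast_lt.2 (Nat.cast_le.1 h2)
  have hroot : IsUnit (AdjoinRoot.root p) := by
    have h1 := congrArg (AdjoinRoot.mk p) (Polynomial.X_mul_divX_add p)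
    rw [map_add, map_mul, AdjoinRoot.mk_X, AdjoinRoot.mk_self, AdjoinRoot.mk_C, add_eq_zero_iff_eq_neg] at h1
    exact isUnit_of_mul_isUnit_left (y := AdjoinRoot.mk p p.divX)
      (h1 ▸ (((isUnit_iff_ne_zero.2 hp0).map (AdjoinRoot.of p)).neg))
  have key : ∀ P : {P // P ∈ Sigma}, ∃ h : MvPolynomial (Fin r) k, h ≠ 0 ∧
      ∀ (L : Type v) [CommRing L] [Algebra k L] (g ξ : Fin r → L)
        (ρA : (MvPolynomial (Fin r) k ⧸ Ideal.span {f}) →ₐ[k] L) (ρR : AdjoinRoot p →ₐ[k] L),
        (∀ q ∈ P.1, MvPolynomial.aeval ξ q = 0) →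
        (∀ i, ρA (Ideal.Quotient.mk _ (MvPolynomial.X i)) = ξ i + ρR (AdjoinRoot.root p) ^ (s * (m + 1)) * g i) →
        MvPolynomial.aeval g h = 0 :=
    fun P => MovLemH7.exists_avoid_tensor _ _ hA _ _ hroot _ P.1 (hSigma P.1 P.2)
  choose h hne hh using key
  refine ⟨∏ P, h P, Finset.prod_ne_zero_iff.2 fun P _ => hne P, ?_⟩
  intro K _ _ g hg P hP
  by_contra hne'
  obtain ⟨M, hM, hle⟩ := Ideal.exists_le_maximal _ hne'
  refine hg ?_
  let θ : MvPolynomial σ k →ₐ[k] MvPolynomial σ K := MvPolynomial.aeval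
    (Sum.elim (fun i : Fin r => MvPolynomial.X (Sum.inl i) +
        MvPolynomial.X (Sum.inr (Sum.inl ())) ^ (s * (m + 1)) * MvPolynomial.C (g i))
      (fun j : Unit ⊕ Fin d => MvPolynomial.X (Sum.inr j)))
  let J := Ideal.map θ I
  let R := MvPolynomial (Fin r) K
  let ι : R →ₐ[K] MvPolynomial σ K := MvPolynomial.rename Sum.inl
  let p' : Polynomial R := p.map (algebraMap k R)
  haveI := (hp.map (algebraMap k R)).finite_adjoinRoot
  have hpJ : (p'.map ((Ideal.Quotient.mk J).comp ι.toRingHom)).eval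
      (Ideal.Quotient.mk J (MvPolynomial.X (Sum.inr (Sum.inl ())))) = 0 := by
    have h2 : Polynomial.aeval (Ideal.Quotient.mkₐ k J (θ tv)) p = 0 := by
      rw [Polynomial.aeval_algHom_apply, Polynomial.aeval_algHom_apply]
      exact Ideal.Quotient.eq_zero_iff_mem.2 (Ideal.mem_map_of_mem θ hpI)
    have hθ : θ tv = MvPolynomial.X (Sum.inr (Sum.inl ())) := MvPolynomial.aeval_X _ _
    rw [hθ] at h2
    rw [Polynomial.eval_map, Polynomial.eval₂_map,
      show ((Ideal.Quotient.mk J).comp ι.toRingHom).comp (algebraMap k R) = algebraMap k (MvPolynomial σ K ⧸ J) from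
        RingHom.ext fun c => by
          show Ideal.Quotient.mk J ((ι.restrictScalars k) (algebraMap k R c)) = _
          rw [AlgHom.commutes]
          rfl]
    exact h2
  let ψ : AdjoinRoot p' →+* MvPolynomial σ K ⧸ J :=
    AdjoinRoot.lift ((Ideal.Quotient.mk J).comp ι.toRingHom) _ (by rw [← Polynomial.eval_map]; exact hpJ)
  obtain ⟨Q, hQ0, hQ, hQM⟩ := Ideal.exists_ideal_over_prime_of_isIntegral M (RingHom.ker ψ) (fun z hz => hle (by
    refine Ideal.mem_sup_left ?_
    rw [Ideal.mem_comap, RingHom.mem_ker] at hz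
    rw [Ideal.mem_comap]
    refine Ideal.Quotient.eq_zero_iff_mem.1 ?_
    rw [AdjoinRoot.algebraMap_eq] at hz
    simpa [ψ] using hz))
  haveI := hQ
  let L := AdjoinRoot p' ⧸ Q
  let t : L := Ideal.Quotient.mk Q (AdjoinRoot.root p')
  let ξ : Fin r → L := fun i => algebraMap R L (MvPolynomial.X i)
  let gL : Fin r → L := fun i => algebraMap K L (g i)
  have hξ : ∀ q ∈ P, MvPolynomial.aeval ξ q = 0 := fun q hq => by
    have h1 : (MvPolynomial.map (algebraMap k K) q : R) ∈ M :=
      hle (Ideal.mem_sup_right (Ideal.mem_map_of_mem _ hq))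
    rw [← hQM, Ideal.mem_comap, ← Ideal.Quotient.eq_zero_iff_mem] at h1
    rw [← h1]
    show MvPolynomial.aeval ξ q = algebraMap R L (MvPolynomial.map (algebraMap k K) q)
    have e : (IsScalarTower.toAlgHom k R L).comp (MvPolynomial.mapAlgHom (Algebra.ofId k K)) = MvPolynomial.aeval ξ :=
      MvPolynomial.algHom_ext fun i => by simp [ξ, R]
    rw [← e]
    rfl
  have hfL : MvPolynomial.aeval (fun i => ξ i + t ^ (s * (m + 1)) * gL i) f = 0 := by
    let z : AdjoinRoot p' := MvPolynomial.aeval (R := k) (fun i => algebraMap R _ (MvPolynomial.X i) +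
      AdjoinRoot.root p' ^ (s * (m + 1)) * algebraMap K (AdjoinRoot p') (g i)) f
    have hz : z ∈ Q := hQ0 (by
      rw [RingHom.mem_ker]
      have h1 : θ (MvPolynomial.rename Sum.inl f) ∈ J := Ideal.mem_map_of_mem θ hfI
      rw [← Ideal.Quotient.eq_zero_iff_mem] at h1
      rw [← h1]
      have e : ψ.comp (MvPolynomial.aeval (R := k) (fun i => algebraMap R _ (MvPolynomial.X i) +
          AdjoinRoot.root p' ^ (s * (m + 1)) * algebraMap K (AdjoinRoot p') (g i))).toRingHom =
          (Ideal.Quotient.mk J).comp (θ.comp (MvPolynomial.rename Sum.inl)).toRingHom := by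
        refine MvPolynomial.ringHom_ext (fun c => ?_) (fun i => ?_)
        · simp [ψ, ι, R, AdjoinRoot.algebraMap_eq, IsScalarTower.algebraMap_apply k R (AdjoinRoot p'),
            IsScalarTower.algebraMap_apply k K (MvPolynomial (Fin r) K),
            IsScalarTower.algebraMap_apply k K (MvPolynomial σ K), MvPolynomial.algebraMap_eq]
        · simp [ψ, ι, θ, R, AdjoinRoot.algebraMap_eq, IsScalarTower.algebraMap_apply K R (AdjoinRoot p'),
            MvPolynomial.algebraMap_eq]
      exact RingHom.congr_fun e f)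
    rw [← Ideal.Quotient.eq_zero_iff_mem] at hz
    rw [← hz]
    show _ = Ideal.Quotient.mkₐ k Q z
    rw [MvPolynomial.comp_aeval_apply]
    rfl
  let ρA : (MvPolynomial (Fin r) k ⧸ Ideal.span {f}) →ₐ[k] L := Ideal.Quotient.liftₐ (Ideal.span {f})
    (MvPolynomial.aeval fun i => ξ i + t ^ (s * (m + 1)) * gL i) (fun w hw => by
      obtain ⟨c, rfl⟩ := Ideal.mem_span_singleton'.1 hw
      rw [map_mul, hfL, mul_zero])
  let ρR : AdjoinRoot p →ₐ[k] L := AdjoinRoot.liftAlgHom p (Algebra.ofId k L) t (by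
    have h1 : Polynomial.aeval t p' = 0 := by
      show Polynomial.aeval (Ideal.Quotient.mkₐ R Q (AdjoinRoot.root p')) p' = 0
      rw [Polynomial.aeval_algHom_apply, AdjoinRoot.aeval_eq, AdjoinRoot.mk_self, map_zero]
    rw [Polynomial.aeval_map_algebraMap] at h1
    exact h1)
  have h0 := hh ⟨P, hP⟩ L gL ξ ρA ρR hξ (fun i => by
    rw [show ρR (AdjoinRoot.root p) = t from AdjoinRoot.liftAlgHom_root p (Algebra.ofId k L) t _]
    exact MvPolynomial.aeval_X _ i)
  rw [map_prod]
  refine Finset.prod_eq_zero (Finset.mem_univ (⟨P, hP⟩ : {P // P ∈ Sigma})) ((map_eq_zero (algebraMap K L)).1 ?_)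
  exact (MvPolynomial.aeval_algebraMap_apply L g (h ⟨P, hP⟩)).symm.trans h0

end Groth.Agent.S15088
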