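import Groth.Statements.S15092
import Groth.Agent.Lib.NumConn10.Fibre
import Groth.Agent.Lib.ArInter.Deg
import Groth.Agent.Lib.BlanchardNS19
import Groth.Agent.Lib.CurveCoh17.RegPoint
import Groth.Agent.Lib.CurveCoh17.Point
import Groth.Agent.Lib.SecDiv18.Basic
import Groth.Agent.Lib.FMBase13.Lambda
import Groth.Agent.Lib.Index22.Index
import Groth.Agent.Lib.SurfRR10.Adj
import Groth.Agent.Lib.NumPoly18.HodgeIndex
import Groth.Agent.Lib.FormalH7.Ideal

set_option autoImplicit false
set_option maxHeartbeats 1000000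
set_option linter.style.haveILetI false
set_option backward.isDefEq.respectTransparency false
set_option backward.isDefEq.respectTransparency.types false
universe u
open CategoryTheory CategoryTheory.Limits AlgebraicGeometry TopologicalSpace
open Surf

namespace Groth.Agent.S15092

open TopologicalSpace Opposite
open Groth.Agent Groth.Agent.NumConn10
open Groth.Agent.SymSq10 (sdot)
open Groth.Agent.NumPoly18 (ptIdeal)

noncomputable local instance instLawRelCan (Y : Scheme.{u}) : PicGrp.Law Y := M2.law Y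

section Fib

variable {k : Type u} [Field k] [IsAlgClosed k] {X : Scheme.{u}} [X.Over (Spec (CommRingCat.of k))]
  [IsProper (X ↘ Spec (CommRingCat.of k))] [Smooth (X ↘ Spec (CommRingCat.of k))] [IsIntegral X]
  (hdim : topologicalKrullDim X = 2)
include k hdim

/-- A closed fibre of a surjective map to a curve. -/
theorem fibre_data {C : Scheme.{u}} [C.Over (Spec (CommRingCat.of k))] [IsProper (C ↘ Spec (CommRingCat.of k))]
    [Smooth (C ↘ Spec (CommRingCat.of k))] [IsIntegral C] (hdimC : topologicalKrullDim C = 1) (f : X ⟶ C)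
    [Surjective f] (p : C) (hp : IsClosed ({p} : Set C)) :
    ∃ (hc : BlowUp.IsEffCartierIdeal ((Scheme.IdealSheafData.vanishingIdeal (⟨{p}, hp⟩ : Closeds C)).comap f))
      (s : Multiset X), s ≠ 0 ∧ (∀ η ∈ s, topologicalKrullDim (closure ({η} : Set X)) = 1) ∧
      (∀ x, f x = p ↔ ∃ η ∈ s, η ⤳ x) ∧ icl hc = ((s.map (ccl (k := k) hdim)).prod)⁻¹ ∧
      sdot k (icl hc) (icl hc) = 0 ∧
      ∀ (η : X), topologicalKrullDim (closure ({η} : Set X)) = 1 → ∀ c : C, (∀ x, η ⤳ x → f x = c) →
        sdot k (ccl (k := k) hdim η) (icl hc) = 0 := by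
  classical
  haveI : IsNoetherian C := CohFound.isNoetherian_of_isProper (C ↘ Spec (CommRingCat.of k))
  let P := Scheme.IdealSheafData.vanishingIdeal (⟨{p}, hp⟩ : Closeds C)
  have hPi := CurveCoh17.isInvertible_pointIdeal hdimC (SurfRR10.regular (k := k) (X := C)) hp
  have hPc : BlowUp.IsEffCartierIdeal P := SecDiv.isEffCartierIdeal_of_isInvertible P hPi
  have hsupp : ∀ x, x ∈ ((P.comap f).support : Set X) ↔ f x = p := fun x => by
    rw [Scheme.IdealSheafData.support_comap]
    show f x ∈ (P.support : Set C) ↔ _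
    rw [Scheme.IdealSheafData.coe_support_vanishingIdeal]
    exact Set.mem_singleton_iff
  have hgen : f (genericPoint X) ∉ (P.support : Set C) := by
    rw [Scheme.IdealSheafData.coe_support_vanishingIdeal]
    intro h
    obtain ⟨x, hx⟩ := f.surjective (genericPoint C)
    have h2 := (genericPoint_specializes x).map f.continuous
    rw [hx] at h2
    exact CurveCoh17.genericPoint_ne_of_isClosed hdimC hp (h2.mem_closed hp h)
  have hFc : BlowUp.IsEffCartierIdeal (P.comap f) := ArInter.isEffCartier_comap f hPc hgen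
  obtain ⟨eF⟩ := ArInter.nonempty_pullback_idealMod f hPc hFc
  have hcl : icl hFc = PicGrp.cls _ (Twist.isInvertible_pullback f hPi) := (PicGrp.cls_eq_cls_iff _ _).2 ⟨eF.symm⟩
  obtain ⟨s, hs, -, hclF, hsu⟩ := exists_multiset (k := k) hdim (P.comap f) hFc
  have horth : ∀ (η : X), topologicalKrullDim (closure ({η} : Set X)) = 1 → ∀ c : C, (∀ x, η ⤳ x → f x = c) →
      sdot k (ccl (k := k) hdim η) (icl hFc) = 0 := fun η hη c hc => by
    rw [hcl]; exact sdot_pullback_eq_zero (k := k) hdim f hPi hη c hc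
  have hfib : ∀ x, f x = p ↔ ∃ η ∈ s, η ⤳ x := fun x => (hsupp x).symm.trans (hsu x)
  have hs0 : s ≠ 0 := fun h0 => by
    obtain ⟨x, hx⟩ := f.surjective p
    obtain ⟨η, hη, -⟩ := (hfib x).1 hx
    rw [h0] at hη
    exact Multiset.notMem_zero η hη
  refine ⟨hFc, s, hs0, hs, hfib, hclF hFc, ?_, horth⟩
  nth_rw 1 [hclF hFc]
  rw [SurfRR10.sdot_inv_left (k := k) hdim, SymSq10.sdot_comm,
    Finset.prod_multiset_map_count, Goodman10.sdot_prod (k := k) (SurfRR10.regular (k := k)) (SurfRR10.dim_eq (k := k) hdim),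
    Finset.sum_eq_zero, neg_zero]
  intro η hη
  rw [SymSq10.sdot_comm, horth η (hs η (Multiset.mem_toFinset.1 hη)) p fun x hx =>
    (hfib x).2 ⟨η, Multiset.mem_toFinset.1 hη, hx⟩, mul_zero]

/-- Hodge index: a null class orthogonal to an ample class is numerically trivial. -/
theorem sdot_eq_zero_of_null {H : X.Modules} (hH : CohB1.IsAmple H) (v : PicLoc.PicSet X)
    (hv0 : sdot k v v = 0) (hvh : sdot k v (PicGrp.cls H hH.1) = 0) (K : PicLoc.PicSet X) :
    sdot k v K = 0 := by
  have hd := SurfRR10.dim_eq (k := k) hdim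
  let h := PicGrp.cls H hH.1
  have hodge : ∀ c, sdot k c h = 0 → sdot k c c ≤ 0 := fun c hc => by
    have e1 := NumPoly18.hodge_index (k := k) hd hH (HypSq10.rep_inv c) (by
      rw [SurfRR10.dot_eq_sdot (k := k) hdim (HypSq10.rep_inv c) hH.1, HypSq10.cls_rep]; exact_mod_cast hc)
    rw [SurfRR10.dot_eq_sdot (k := k) hdim (HypSq10.rep_inv c) (HypSq10.rep_inv c), HypSq10.cls_rep] at e1
    exact_mod_cast e1
  have hz : ∀ (a b : PicLoc.PicSet X) (n : ℤ), sdot k (a ^ n) b = n * sdot k a b := fun a b n => by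
    rcases n with n | n
    · rw [Int.ofNat_eq_natCast, zpow_natCast, SurfRR10.sdot_pow_left (k := k) hdim]
    · rw [zpow_negSucc, SurfRR10.sdot_inv_left (k := k) hdim, SurfRR10.sdot_pow_left (k := k) hdim,
        Int.negSucc_eq]
      push_cast; ring
  have hzr : ∀ (a b : PicLoc.PicSet X) (n : ℤ), sdot k b (a ^ n) = n * sdot k b a := fun a b n => by
    rw [SymSq10.sdot_comm, hz, SymSq10.sdot_comm]
  let K' := K ^ (sdot k h h) * h ^ (- sdot k K h)
  have hK' : sdot k K' h = 0 := by
    show sdot k (K ^ (sdot k h h) * h ^ (- sdot k K h)) h = 0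
    rw [SymSq10.sdot_mul hd.le, hz, hz]; ring
  have hvK' : sdot k v K' = sdot k h h * sdot k v K := by
    show sdot k v (K ^ (sdot k h h) * h ^ (- sdot k K h)) = _
    rw [SurfRR10.sdot_mul_right (k := k) hdim, hzr, hzr, hvh]; ring
  clear_value K'
  have key : ∀ n : ℤ, 2 * n * sdot k v K' + sdot k K' K' ≤ 0 := fun n => by
    have e := hodge (v ^ n * K') (by rw [SymSq10.sdot_mul hd.le, hz, hvh, hK']; ring)
    have e2 : sdot k (v ^ n * K') (v ^ n * K') = 2 * n * sdot k v K' + sdot k K' K' := by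
      rw [SymSq10.sdot_mul hd.le, SurfRR10.sdot_mul_right (k := k) hdim, SurfRR10.sdot_mul_right (k := k) hdim,
        SymSq10.sdot_comm (a := K') (b := v ^ n), hz v (v ^ n) n, hzr v v n, hz v K' n, hv0]
      ring
    linarith
  have hhh : 0 < sdot k h h := by
    have e1 := NumPoly18.dot_self_pos (k := k) hd hH
    rw [SurfRR10.dot_eq_sdot (k := k) hdim hH.1 hH.1] at e1
    exact_mod_cast e1
  have hzero : sdot k v K' = 0 := by
    have h1 := key (|sdot k K' K'| + 1)
    have h2 := key (-(|sdot k K' K'| + 1))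
    have h3 := abs_nonneg (sdot k K' K')
    have h4 := neg_abs_le (sdot k K' K')
    rcases lt_trichotomy (sdot k v K') 0 with hlt | he | hgt
    · nlinarith
    · exact he
    · nlinarith
  rw [hvK'] at hzero
  exact (mul_eq_zero.1 hzero).resolve_left hhh.ne'

end Fib

/-- Let k be an algebraically closed field, X a smooth projective surface over k (integral, proper and
smooth, of dimension 2), C a smooth projective curve over k (integral, proper and smooth, of
dimension 1) and f : X → C a semi-stable fibration: a surjective k-morphism with O_C → f_*O_X an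
isomorphism which is an at-worst-nodal family (flat, of finite presentation, all fibres
one-dimensional with at worst nodal singularities), whose fibre over some closed point q₀ is smooth
with χ(O) = 1 − g for some g ≥ 2 (computed on X through the direct image of the structure sheaf of
the fibre), and with no exceptional curve of the first kind in a fibre (no integral vertical curve E
with χ(O_E) = 1 and E² = −1). Let ω_{X/C} = ω_X ⊗ (f^*Ω_{C/k})^{-1} be the relative dualizing
module, ω_X a second exterior power of Ω_{X/k} and (f^*Ω_{C/k})^{-1} a tensor inverse of f^*Ω_{C/k}.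
Let D ⊆ X be an integral curve (integral closed subscheme of dimension 1) lying in a fibre of f, and
O_X(D) a tensor inverse of its ideal sheaf. Then (ω_{X/C}·O_X(D)) ≥ 0; and if (ω_{X/C}·O_X(D)) = 0
then χ(O_D) = 1 and (D·D) = −2, that is, D is a smooth rational curve of self-intersection −2. Here
(L·L') = χ(O_X) − χ(L) − χ(L') + χ(L ⊗ L') for invertible L, L'. -/
theorem result (k : Type u) [Field k] [IsAlgClosed k]
    (X : Scheme.{u}) [X.Over (Spec (CommRingCat.of k))] [IsProper (X ↘ (Spec (CommRingCat.of k)))]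
    [Smooth (X ↘ (Spec (CommRingCat.of k)))] [IsIntegral X] (hdim : topologicalKrullDim X = 2)
    (C : Scheme.{u}) [C.Over (Spec (CommRingCat.of k))] [IsProper (C ↘ (Spec (CommRingCat.of k)))]
    [Smooth (C ↘ (Spec (CommRingCat.of k)))] [IsIntegral C] (hdimC : topologicalKrullDim C = 1)
    (f : X ⟶ C) [f.IsOver (Spec (CommRingCat.of k))] [Surjective f] (hconn : IsIso (ClSub.unitToPush f))
    (hss : Curv2.IsNodalFamily f)
    (q₀ : C) (hq₀ : IsClosed ({q₀} : Set C)) (hsm : Smooth (f.fiberToSpecResidueField q₀))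
    (g : ℕ) (hg2 : 2 ≤ g) (hg : Curv2.euler k X (ClSub.quotMod (f.fiberι q₀).ker) = 1 - (g : ℤ))
    (hmin : ∀ E : X.IdealSheafData, IsIntegral E.subscheme → topologicalKrullDim (E.support : Set X) = 1 →
      (∃ c : C, ∀ x : X, x ∈ E.support → f.base x = c) → Curv2.euler k X (ClSub.quotMod E) = 1 →
      FGA.intNum k X 2 ![ClSub.idealMod E, ClSub.idealMod E] (Coh.structureModule X) ≠ -1)
    (WX : X.Modules) (hWX : ExtPow.IsExtPow 2 (Omega.sheaf (X ↘ (Spec (CommRingCat.of k)))) WX)
    (M : X.Modules) (hM : ClSub.IsInverseOf M ((Scheme.Modules.pullback f).obj (Omega.sheaf (C ↘ (Spec (CommRingCat.of k))))))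
    (D : X.IdealSheafData) (hD : IsIntegral D.subscheme) (hD1 : topologicalKrullDim (D.support : Set X) = 1)
    (hDv : ∃ c : C, ∀ x : X, x ∈ D.support → f.base x = c)
    (LD : X.Modules) (hLD : ClSub.IsInverseOf LD (ClSub.idealMod D)) :
    0 ≤ FGA.intNum k X 2 ![(CohB1.tensorMod WX M), LD] (Coh.structureModule X) ∧
      (FGA.intNum k X 2 ![(CohB1.tensorMod WX M), LD] (Coh.structureModule X) = 0 →
        Curv2.euler k X (ClSub.quotMod D) = 1 ∧ FGA.intNum k X 2 ![LD, LD] (Coh.structureModule X) = -2) := by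
  classical
  have hd := SurfRR10.dim_eq (k := k) hdim
  have hfk : f ≫ (C ↘ Spec (CommRingCat.of k)) = X ↘ Spec (CommRingCat.of k) := comp_over f (Spec (CommRingCat.of k))
  haveI : IsProper (f ≫ (C ↘ Spec (CommRingCat.of k))) := by rw [hfk]; infer_instance
  haveI : IsProper f := IsProper.of_comp f (C ↘ Spec (CommRingCat.of k))
  haveI : IsNoetherian C := CohFound.isNoetherian_of_isProper (C ↘ Spec (CommRingCat.of k))
  have hWi := SurfRR10.isInvertible_canonical (k := k) hdim hWX
  let K := PicGrp.cls WX hWi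
  have hΩ : PicF.IsInvertible (Omega.sheaf (C ↘ Spec (CommRingCat.of k))) := by
    haveI := CurveCartier25.smoothOfRelativeDimension_one (C ↘ Spec (CommRingCat.of k)) hdimC
    refine (M2.isInvertible_iff_isFinLocFreeOfRank_one _).2 fun x => ?_
    obtain ⟨V, hV, U, hU, hx, e, hs⟩ :=
      SmoothOfRelativeDimension.exists_isStandardSmoothOfRelativeDimension (n := 1) (f := C ↘ Spec (CommRingCat.of k)) x
    exact Omega12.free_nbhd_of_chart _ (Omega12.isUniversal_dOmega _) 1 x hV hU hx e hs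
  obtain ⟨eM⟩ := hM
  have hfΩ := Twist.isInvertible_pullback f hΩ
  have hMi : PicF.IsInvertible M := FMBase13.isInvertible_of_inverse hfΩ (M2.tensorComm _ _ ≪≫ eM)
  have hMcls := Index22.cls_inverse hfΩ hMi ⟨M2.tensorComm _ _ ≪≫ eM⟩
  obtain ⟨ξ, hDξ, hξ⟩ := SurfR.exists_eq_ptIdeal D hD hD1
  obtain ⟨c, hc⟩ := hDv
  have hsD : (D.support : Set X) = closure {ξ} := by
    rw [hDξ]; exact Scheme.IdealSheafData.coe_support_vanishingIdeal _
  have hξc : ∀ x, ξ ⤳ x → f x = c := fun x hx =>
    hc x (show x ∈ (D.support : Set X) from hsD ▸ specializes_iff_mem_closure.1 hx)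
  have hcclosed : IsClosed ({c} : Set C) := by
    have he : (f.base : X → C) '' closure {ξ} = {c} := by
      refine Set.Subset.antisymm ?_ (Set.singleton_subset_iff.2 ⟨ξ, subset_closure rfl, hξc ξ specializes_rfl⟩)
      rintro _ ⟨v, hv, rfl⟩
      exact hξc v (specializes_iff_mem_closure.2 hv)
    rw [← he]
    exact f.isClosedMap _ isClosed_closure
  have hDc : BlowUp.IsEffCartierIdeal D := by rw [hDξ]; exact cartier_pt (k := k) hdim hξ
  have hclD : icl hDc = (ccl (k := k) hdim ξ)⁻¹ := by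
    rw [icl_congr hDc (cartier_pt (k := k) hdim hξ) hDξ, icl_pt' (k := k) hdim hξ]
  obtain ⟨eLD⟩ := hLD
  have hDi := M2.isInvertible_idealMod D hDc
  have hLDi : PicF.IsInvertible LD := FMBase13.isInvertible_of_inverse hDi (M2.tensorComm _ _ ≪≫ eLD)
  have hLDcls : PicGrp.cls LD hLDi = ccl (k := k) hdim ξ := by
    rw [Index22.cls_inverse hDi hLDi ⟨M2.tensorComm _ _ ≪≫ eLD⟩]
    show (icl hDc)⁻¹ = _
    rw [hclD, inv_inv]
  set κ := sdot k (ccl (k := k) hdim ξ) K with hκ
  set σ := sdot k (ccl (k := k) hdim ξ) (ccl (k := k) hdim ξ) with hσ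
  have hadj : σ + κ = -2 * Curv2.euler k X (ClSub.quotMod D) := by
    have h := SurfRR10.adjunction (k := k) hdim hWX hWi hDc
    change sdot k (icl hDc) (icl hDc) - sdot k (icl hDc) K = _ at h
    rw [hclD, SurfRR10.sdot_inv_left (k := k) hdim, SurfRR10.sdot_inv_right (k := k) hdim,
      SurfRR10.sdot_inv_left (k := k) hdim] at h
    rw [hκ, hσ]
    linarith
  have hval : FGA.intNum k X 2 ![(CohB1.tensorMod WX M), LD] (Coh.structureModule X) = κ := by
    rw [SymSq10.intNum_eq' hd.le (M2.isInvertible_tensor hWi hMi) hLDi, ← AlgEquiv22.cls_tensor hWi hMi, hMcls,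
      hLDcls, SymSq10.sdot_mul hd.le, SurfRR10.sdot_inv_left (k := k) hdim, SymSq10.sdot_comm,
      SymSq10.sdot_comm (b := ccl (k := k) hdim ξ), sdot_pullback_eq_zero (k := k) hdim f hΩ hξ c hξc]
    simp [hκ, K]
  have hLL : FGA.intNum k X 2 ![LD, LD] (Coh.structureModule X) = σ := by
    rw [SymSq10.intNum_eq' hd.le hLDi hLDi, hLDcls]
  have hII : FGA.intNum k X 2 ![ClSub.idealMod D, ClSub.idealMod D] (Coh.structureModule X) = σ := by
    rw [SymSq10.intNum_eq' hd.le hDi hDi]
    show sdot k (icl hDc) (icl hDc) = _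
    rw [hclD, SurfRR10.sdot_inv_left (k := k) hdim, SurfRR10.sdot_inv_right (k := k) hdim, neg_neg]
  rw [hval, hLL]
  have hχ : Curv2.euler k X (ClSub.quotMod D) ≤ 1 := by
    letI : D.subscheme.Over (Spec (CommRingCat.of k)) := ⟨D.subschemeι ≫ (X ↘ Spec (CommRingCat.of k))⟩
    haveI := hD
    haveI : IsProper (D.subscheme ↘ Spec (CommRingCat.of k)) :=
      inferInstanceAs (IsProper (D.subschemeι ≫ (X ↘ Spec (CommRingCat.of k))))
    rw [SurfRR10.euler_quot_eq (k := k) hdim D,
      SurfRR10.euler_le_one (k := k) (X := D.subscheme) ((AmpleFin18.dim_subscheme D rfl).trans hD1).le]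
    omega
  rcases lt_or_ge σ 0 with hneg | hpos
  · have hex : ¬ (Curv2.euler k X (ClSub.quotMod D) = 1 ∧ σ = -1) := fun h =>
      hmin D hD hD1 ⟨c, hc⟩ h.1 (hII.trans h.2)
    exact ⟨by omega, fun h0 => by omega⟩
  -- the curve is the whole fibre
  obtain ⟨hFc, s, hs0, hs, hfib, hclF, hFF, horth⟩ := fibre_data (k := k) hdim hdimC f c hcclosed
  obtain ⟨η₀, hη₀, hη₀ξ⟩ := (hfib ξ).1 (hξc ξ specializes_rfl)
  obtain rfl : η₀ = ξ := Goodman10.eq_of_spec (k := k) hd (hs η₀ hη₀) hξ hη₀ξ
  have hrow := horth η₀ hξ c hξc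
  rw [hclF, SurfRR10.sdot_inv_right (k := k) hdim, neg_eq_zero, Finset.prod_multiset_map_count,
    Goodman10.sdot_prod (k := k) (SurfRR10.regular (k := k)) hd] at hrow
  have hnn : ∀ η ∈ s.toFinset, η ≠ η₀ → 0 ≤ sdot k (ccl (k := k) hdim η₀) (ccl (k := k) hdim η) ∧
      ((∃ x, η₀ ⤳ x ∧ η ⤳ x) → 0 < sdot k (ccl (k := k) hdim η₀) (ccl (k := k) hdim η)) := fun η hη hne =>
    Goodman10.sdot_curve_nonneg (k := k) (SurfRR10.regular (k := k)) hd hξ (hs η (Multiset.mem_toFinset.1 hη)) hne
  have hterms : ∀ η ∈ s.toFinset, 0 ≤ (s.count η : ℤ) * sdot k (ccl (k := k) hdim η₀) (ccl (k := k) hdim η) := fun η hη => by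
    refine mul_nonneg (Int.natCast_nonneg _) ?_
    by_cases hne : η = η₀
    · rw [hne]; exact hpos
    · exact (hnn η hη hne).1
  have hzero := (Finset.sum_eq_zero_iff_of_nonneg hterms).1 hrow
  have hbij : ∀ U : C.Opens, IsAffineOpen U → Function.Bijective (f.app U).hom := fun U _ => by
    haveI := hconn
    haveI : IsIso ((Scheme.Modules.toPresheaf C).map (ClSub.unitToPush f)) := inferInstance
    exact ConcreteCategory.bijective_of_isIso (((Scheme.Modules.toPresheaf C).map (ClSub.unitToPush f)).app (op U))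
  have hall : ∀ η ∈ s, η = η₀ := by
    by_contra hcon
    push Not at hcon
    obtain ⟨η₁, hη₁, hne⟩ := hcon
    have hpre := BlanchardNS19.isPreconnected_fibre f hbij c
    have hrest : IsClosed (⋃ η ∈ {η | η ∈ s ∧ η ≠ η₀}, closure ({η} : Set X)) :=
      ((s.toFinset.finite_toSet).subset fun η hη => Multiset.mem_toFinset.2 hη.1).isClosed_biUnion fun η _ => isClosed_closure
    obtain ⟨x, -, hx1, hx2⟩ := isPreconnected_closed_iff.1 hpre _ _ (isClosed_closure (s := ({η₀} : Set X))) hrest (fun x hx => by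
        obtain ⟨η, hη, hηx⟩ := (hfib x).1 hx
        by_cases he : η = η₀
        · exact Or.inl (specializes_iff_mem_closure.1 (he ▸ hηx))
        · exact Or.inr (Set.mem_biUnion (show η ∈ {η | η ∈ s ∧ η ≠ η₀} from ⟨hη, he⟩) (specializes_iff_mem_closure.1 hηx)))
      ⟨η₀, hξc η₀ specializes_rfl, subset_closure rfl⟩
      ⟨η₁, (hfib η₁).2 ⟨η₁, hη₁, specializes_rfl⟩,
        Set.mem_biUnion (show η₁ ∈ {η | η ∈ s ∧ η ≠ η₀} from ⟨hη₁, hne⟩) (subset_closure rfl)⟩
    obtain ⟨η, hη, hηx⟩ := Set.mem_iUnion₂.1 hx2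
    have h1 := (hnn η (Multiset.mem_toFinset.2 hη.1) hη.2).2
      ⟨x, specializes_iff_mem_closure.2 hx1, specializes_iff_mem_closure.2 hηx⟩
    have h2 := hzero η (Multiset.mem_toFinset.2 hη.1)
    have h3 : 0 < (s.count η : ℤ) := Int.natCast_pos.2 (Multiset.count_pos.2 hη.1)
    exact absurd h2 (mul_pos h3 h1).ne'
  have hrep : s = Multiset.replicate s.card η₀ := Multiset.eq_replicate.2 ⟨rfl, hall⟩
  have hclF' : icl hFc = ((ccl (k := k) hdim η₀) ^ s.card)⁻¹ := by
    rw [hclF, hrep, Multiset.map_replicate, Multiset.prod_replicate, Multiset.card_replicate]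
  -- the smooth fibre
  obtain ⟨hF0, s0, hs00, hs0', hfib0, hclF0, hFF0, horth0⟩ := fibre_data (k := k) hdim hdimC f q₀ hq₀
  have hker : (f.fiberι q₀).ker = (Scheme.IdealSheafData.vanishingIdeal (⟨{q₀}, hq₀⟩ : Closeds C)).comap f := by
    rw [← CurveCoh17.ker_fromSpecResidueField hq₀]
    haveI : IsClosedImmersion (C.fromSpecResidueField q₀) := by
      have : IsClosedImmersion (C.fromSpecResidueField q₀) := IsClosedImmersion.of_isPreimmersion _ (by
        rw [Scheme.range_fromSpecResidueField]; exact hq₀)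
      exact this
    exact FormalH7.ker_of_isPullback (IsPullback.of_hasPullback f (C.fromSpecResidueField q₀))
  rw [hker] at hg
  have hadj0 := SurfRR10.adjunction (k := k) hdim hWX hWi hF0
  change sdot k (icl hF0) (icl hF0) - sdot k (icl hF0) K = _ at hadj0
  rw [hFF0, hg] at hadj0
  obtain ⟨H, hH⟩ := SurfRR10.exists_ample (k := k) hdim
  have hneg' : ∀ {p : C} (hp : IsClosed ({p} : Set C)) (hc' : BlowUp.IsEffCartierIdeal ((Scheme.IdealSheafData.vanishingIdeal (⟨{p}, hp⟩ : Closeds C)).comap f))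
      (t : Multiset X), t ≠ 0 → (∀ η ∈ t, topologicalKrullDim (closure ({η} : Set X)) = 1) →
      icl hc' = ((t.map (ccl (k := k) hdim)).prod)⁻¹ → sdot k (icl hc') (PicGrp.cls H hH.1) < 0 := by
    intro p hp hc' t ht0 ht he
    rw [he, SurfRR10.sdot_inv_left (k := k) hdim, SymSq10.sdot_comm, Finset.prod_multiset_map_count,
      Goodman10.sdot_prod (k := k) (SurfRR10.regular (k := k)) hd, neg_lt_zero]
    obtain ⟨η, hη⟩ := Multiset.exists_mem_of_ne_zero ht0
    have hposη : ∀ η ∈ t.toFinset, 0 < sdot k (PicGrp.cls H hH.1) (ccl (k := k) hdim η) := fun η hη => by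
      have h1 := ht η (Multiset.mem_toFinset.1 hη)
      rw [SymSq10.sdot_comm, ccl, Goodman10.cl'_eq (k := k) _ _ h1]
      exact SurfRR10.pos_of_isAmple (k := k) hdim h1 hH
    exact Finset.sum_pos (fun v hv => mul_pos (Int.natCast_pos.2 (Multiset.count_pos.2 (Multiset.mem_toFinset.1 hv))) (hposη v hv))
      ⟨η, Multiset.mem_toFinset.2 hη⟩
  have ha := hneg' hcclosed hFc s hs0 hs hclF
  have hb := hneg' hq₀ hF0 s0 hs00 hs0' hclF0
  set a := - sdot k (icl hFc) (PicGrp.cls H hH.1) with ha'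
  set b := - sdot k (icl hF0) (PicGrp.cls H hH.1) with hb'
  have hcross : sdot k (icl hF0) (icl hFc) = 0 := by
    rw [hclF', SurfRR10.sdot_inv_right (k := k) hdim, SymSq10.sdot_comm, SurfRR10.sdot_pow_left (k := k) hdim,
      horth0 η₀ hξ c hξc]
    simp
  obtain ⟨an, han⟩ := Int.eq_ofNat_of_zero_le (a := a) (by omega)
  obtain ⟨bn, hbn⟩ := Int.eq_ofNat_of_zero_le (a := b) (by omega)
  let v := icl hF0 ^ an * (icl hFc ^ bn)⁻¹
  have hsplit : ∀ u, sdot k v u = (an : ℤ) * sdot k (icl hF0) u - (bn : ℤ) * sdot k (icl hFc) u := fun u => by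
    show sdot k (icl hF0 ^ an * (icl hFc ^ bn)⁻¹) u = _
    rw [SymSq10.sdot_mul hd.le, SurfRR10.sdot_inv_left (k := k) hdim, SurfRR10.sdot_pow_left (k := k) hdim,
      SurfRR10.sdot_pow_left (k := k) hdim]
    ring
  have hvv : sdot k v v = 0 := by
    rw [hsplit, SymSq10.sdot_comm (b := v), SymSq10.sdot_comm (a := icl hFc) (b := v), hsplit, hsplit,
      hFF0, hFF, hcross, SymSq10.sdot_comm (a := icl hFc) (b := icl hF0), hcross]
    ring
  have hvh : sdot k v (PicGrp.cls H hH.1) = 0 := by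
    rw [hsplit, ← han, ← hbn, ha', hb']
    ring
  have hvK := sdot_eq_zero_of_null (k := k) hdim hH v hvv hvh K
  rw [hsplit, hclF', SurfRR10.sdot_inv_left (k := k) hdim, SurfRR10.sdot_pow_left (k := k) hdim] at hvK
  have hcard : 0 < s.card := Multiset.card_pos.2 hs0
  have han' : (0 : ℤ) < an := by omega
  have hbn' : (0 : ℤ) < bn := by omega
  have hK0 : sdot k (icl hF0) K < 0 := by
    have : (2 : ℤ) ≤ g := by exact_mod_cast hg2
    linarith
  have hκpos : 0 < κ := by
    rw [hκ]
    by_contra hle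
    have h1 : (an : ℤ) * sdot k (icl hF0) K < 0 := mul_neg_of_pos_of_neg han' hK0
    have h2 : (bn : ℤ) * ((s.card : ℤ) * sdot k (ccl (k := k) hdim η₀) K) ≤ 0 :=
      mul_nonpos_of_nonneg_of_nonpos hbn'.le (mul_nonpos_of_nonneg_of_nonpos (Int.natCast_nonneg _) (not_lt.1 hle))
    linarith
  exact ⟨hκpos.le, fun h0 => absurd h0 hκpos.ne'⟩

end Groth.Agent.S15092
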