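import Groth.Statements.S15098
import Groth.Agent.Lib.NumPoly18.EffClass

set_option autoImplicit false
universe u
open CategoryTheory CategoryTheory.Limits AlgebraicGeometry TopologicalSpace
open Surf

open Groth.Agent Groth.Agent.NumPoly18
namespace Groth.Agent.S15098

/-- Let k be an algebraically closed field, X a smooth projective surface over k (integral, proper and
smooth, of dimension 2) and D an effective Cartier divisor on X, given by its ideal sheaf I_D, which
is numerically positive: (D·D) > 0 and (D·Γ) ≥ 0 for every integral curve Γ ⊆ X, that is χ(O_Γ ⊗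
I_D) − χ(O_Γ) ≤ 0. Then D is numerically connected: whenever D = D₁ + D₂ with D₁, D₂ non-zero
effective Cartier divisors (I_D = I_{D₁}·I_{D₂} with both ideal sheaves different from O_X), (D₁·D₂)
> 0. Intersection numbers of divisors are computed on their ideal sheaves: (D₁·D₂) = χ(O_X) −
χ(I_{D₁}) − χ(I_{D₂}) + χ(I_{D₁} ⊗ I_{D₂}). (The published lemma sits in a positive-characteristic
setting; its argument does not use the characteristic, so none is assumed here.) -/
theorem result (k : Type u) [Field k] [IsAlgClosed k]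
    (X : Scheme.{u}) [X.Over (Spec (CommRingCat.of k))] [IsProper (X ↘ (Spec (CommRingCat.of k)))]
    [Smooth (X ↘ (Spec (CommRingCat.of k)))] [IsIntegral X] (hdim : topologicalKrullDim X = 2)
    (D : X.IdealSheafData) (hD : FGA.IsEffCartier D)
    (hpos : 0 < FGA.intNum k X 2 ![(ClSub.idealMod D), (ClSub.idealMod D)] (Coh.structureModule X))
    (hnef : ∀ Γ : X.IdealSheafData, IsIntegral Γ.subscheme → topologicalKrullDim (Γ.support : Set X) = 1 →
      Curv2.euler k X (CohB1.tensorMod (ClSub.quotMod Γ) (ClSub.idealMod D)) - Curv2.euler k X (ClSub.quotMod Γ) ≤ 0)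
    (D₁ D₂ : X.IdealSheafData) (hD₁ : FGA.IsEffCartier D₁) (hD₂ : FGA.IsEffCartier D₂)
    (hne₁ : D₁ ≠ ⊤) (hne₂ : D₂ ≠ ⊤) (hsum : D = D₁ * D₂) :
    0 < FGA.intNum k X 2 ![(ClSub.idealMod D₁), (ClSub.idealMod D₂)] (Coh.structureModule X) := by
  haveI : IsNoetherian X := CohFound.isNoetherian_of_isProper (X ↘ (Spec (CommRingCat.of k)))
  have hd : topologicalKrullDim X = ((2 : ℕ) : WithBot ℕ∞) := by simpa using hdim
  have hI := M2.isInvertible_idealMod D hD
  have hI₁ := M2.isInvertible_idealMod D₁ hD₁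
  have hI₂ := M2.isInvertible_idealMod D₂ hD₂
  obtain ⟨e⟩ := CurveCoh17.nonempty_idealMod_mul hD₁ hD₂
  let eD : CohB1.tensorMod (ClSub.idealMod D₁) (ClSub.idealMod D₂) ≅ ClSub.idealMod D :=
    e ≪≫ eqToIso (by rw [hsum])
  obtain ⟨J, hJ, ⟨eJ⟩⟩ := M2.exists_inverse hI
  have hnefJ : Nef k J := fun ξ hξ => by
    obtain ⟨hint, -⟩ := isIntegral_pt ξ
    have hξ' : topologicalKrullDim ((ptIdeal ξ).support : Set X) = 1 := by
      rw [← Scheme.IdealSheafData.range_subschemeι, range_ptι]; exact hξ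
    have h := hnef (ptIdeal ξ) hint hξ'
    have hd1 : topologicalKrullDim (CohB1.support (ptMod ξ)) ≤ ((0 + 1 : ℕ) : WithBot ℕ∞) :=
      Snapper.dim_le_of_subset (support_ptMod ξ) (by rw [hξ]; rfl)
    have h' := md_cons_inverse (k := k) (r := 0) hI hJ eJ (M := fun _ : Fin 0 => J) (fun i => i.elim0)
      (isCoh_ptMod ξ) hd1
    rw [cdeg, const_eq_cons, h', neg_nonneg, md_cons, md_zero_vars, md_zero_vars, sub_nonpos]
    have h2 : Curv2.euler k X (CohB1.tensorMod (ptMod ξ) (ClSub.idealMod D)) ≤ Curv2.euler k X (ptMod ξ) :=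
      sub_nonpos.mp h
    exact_mod_cast h2
  have hdd : 0 < dot k (ClSub.idealMod D) (ClSub.idealMod D) := by
    rw [← intNum2 hd.le hI hI]; exact_mod_cast hpos
  have hnonneg : ∀ E : X.IdealSheafData, FGA.IsEffCartier E →
      0 ≤ dot k (ClSub.idealMod D) (ClSub.idealMod E) := fun E hE => by
    have hEd : topologicalKrullDim (CohB1.support (ClSub.quotMod E)) ≤ ((1 : ℕ) : WithBot ℕ∞) :=
      (support_quotMod E).symm ▸ dim_support_effCartier hE (e := 1) hd.le
    have h0 := cdeg_nonneg_of_nef hJ hnefJ (CurveCoh17.isCoh_quotMod E) (by simpa using hEd)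
    have h' := md_cons_inverse (k := k) (r := 0) hI hJ eJ (M := fun _ : Fin 0 => J) (fun i => i.elim0)
      (CurveCoh17.isCoh_quotMod E) hEd
    rw [cdeg, const_eq_cons, h', neg_nonneg] at h0
    rw [dot_comm, dot_idealMod hE hI, cdeg, const_eq_cons, Subsingleton.elim (fun _ : Fin 0 => ClSub.idealMod D)
      (fun _ : Fin 0 => J)]
    linarith
  have key : ∀ (E : X.IdealSheafData), FGA.IsEffCartier E → E ≠ ⊤ →
      dot k (ClSub.idealMod D) (ClSub.idealMod E) = 0 → dot k (ClSub.idealMod E) (ClSub.idealMod E) ≠ 0 := by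
    intro E hE hne h0 hEE
    obtain ⟨η, hη, hη1⟩ := exists_curve_in_divisor (k := k) hd hE hne
    obtain ⟨W, str, hW, hWi, hWd, f, _, hf, hgen, hdeg, A, hA, hneg⟩ := exists_dot_pullback_neg (k := k) hd hE hη hη1
    letI : W.Over (Spec (CommRingCat.of k)) := ⟨str⟩
    haveI := hW
    haveI := hWi
    have hIE := M2.isInvertible_idealMod E hE
    have hP := Twist.isInvertible_pullback f hI
    have hPE := Twist.isInvertible_pullback f hIE
    have t : ∀ {P Q : X.Modules}, PicF.IsInvertible P → PicF.IsInvertible Q →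
        dot k ((Scheme.Modules.pullback f).obj P) ((Scheme.Modules.pullback f).obj Q) = dot k P Q :=
      fun hP' hQ' => dot_pullback_one f hf hgen hdeg hWd hP' hQ'
    have hz := radical (k := k) hWd hA hP hPE (by rw [t hI hI]; exact hdd) (by rw [t hI hIE, h0])
      (by rw [t hIE hIE, hEE]) hA.1
    linarith
  have hm : ∀ (E : X.IdealSheafData), FGA.IsEffCartier E → E ≠ ⊤ →
      dot k (ClSub.idealMod D) (ClSub.idealMod D) * dot k (ClSub.idealMod E) (ClSub.idealMod E) ≤
        dot k (ClSub.idealMod D) (ClSub.idealMod E) ^ 2 := by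
    intro E hE hne
    obtain ⟨η, hη, hη1⟩ := exists_curve_in_divisor (k := k) hd hE hne
    obtain ⟨W, str, hW, hWi, hWd, f, _, hf, hgen, hdeg, A, hA, hneg⟩ := exists_dot_pullback_neg (k := k) hd hE hη hη1
    letI : W.Over (Spec (CommRingCat.of k)) := ⟨str⟩
    haveI := hW
    haveI := hWi
    have hIE := M2.isInvertible_idealMod E hE
    have t : ∀ {P Q : X.Modules}, PicF.IsInvertible P → PicF.IsInvertible Q →
        dot k ((Scheme.Modules.pullback f).obj P) ((Scheme.Modules.pullback f).obj Q) = dot k P Q :=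
      fun hP' hQ' => dot_pullback_one f hf hgen hdeg hWd hP' hQ'
    have h := mul_le_sq (k := k) hWd hA (Twist.isInvertible_pullback f hI) (Twist.isInvertible_pullback f hIE)
      (by rw [t hI hI]; exact hdd)
    rwa [t hI hI, t hI hIE, t hIE hIE] at h
  have s1 : dot k (ClSub.idealMod D) (ClSub.idealMod D₁) =
      dot k (ClSub.idealMod D₁) (ClSub.idealMod D₁) + dot k (ClSub.idealMod D₁) (ClSub.idealMod D₂) := by
    rw [dot_congr eD.symm (Iso.refl _), dot_tensor hd.le hI₁ hI₂ hI₁, dot_comm (ClSub.idealMod D₂)]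
  have s2 : dot k (ClSub.idealMod D) (ClSub.idealMod D₂) =
      dot k (ClSub.idealMod D₁) (ClSub.idealMod D₂) + dot k (ClSub.idealMod D₂) (ClSub.idealMod D₂) := by
    rw [dot_congr eD.symm (Iso.refl _), dot_tensor hd.le hI₁ hI₂ hI₂]
  have s0 : dot k (ClSub.idealMod D) (ClSub.idealMod D) =
      dot k (ClSub.idealMod D) (ClSub.idealMod D₁) + dot k (ClSub.idealMod D) (ClSub.idealMod D₂) := by
    rw [← dot_tensor_right hd.le hI₁ hI₂ hI]
    exact dot_congr (Iso.refl _) eD.symm
  have main : 0 < dot k (ClSub.idealMod D₁) (ClSub.idealMod D₂) := by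
    have ha := hnonneg D₁ hD₁
    have hb := hnonneg D₂ hD₂
    have k1 := key D₁ hD₁ hne₁
    have k2 := key D₂ hD₂ hne₂
    have m1 := hm D₁ hD₁ hne₁
    rw [s0] at m1 hdd
    by_contra hneg
    push Not at hneg
    rcases eq_or_lt_of_le ha with h | h
    · have hz : dot k (ClSub.idealMod D₁) (ClSub.idealMod D₁) ≤ 0 := by
        rw [← h] at m1 hdd
        nlinarith
      exact k1 h.symm (by linarith)
    · rcases eq_or_lt_of_le hb with h' | h'
      · have m2 := hm D₂ hD₂ hne₂
        rw [s0, ← h'] at m2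
        exact k2 h'.symm (by nlinarith)
      · nlinarith [mul_pos h h']
  rw [← intNum2 hd.le hI₁ hI₂] at main
  exact_mod_cast main

end Groth.Agent.S15098
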