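import Groth.Statements.S15099
import Groth.Agent.Lib.NumConn10.Main

set_option autoImplicit false
set_option maxHeartbeats 1000000
set_option linter.style.haveILetI false
set_option backward.isDefEq.respectTransparency false
set_option backward.isDefEq.respectTransparency.types false
universe u
open CategoryTheory CategoryTheory.Limits AlgebraicGeometry TopologicalSpace
open Surf

namespace Groth.Agent.S15099

open Groth.Agent.NumPoly18 (ptIdeal)
open Groth.Agent.SymSq10 (sdot)

noncomputable local instance instLawS15099 (Y : Scheme.{u}) : PicGrp.Law Y := M2.law Y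


/-- Let k be an algebraically closed field, X a smooth projective surface over k (integral, proper and
smooth, of dimension 2) and D a non-zero effective Cartier divisor on X (ideal sheaf I_D ≠ O_X)
which is numerically connected: whenever D = D₁ + D₂ with D₁, D₂ non-zero effective Cartier divisors
(I_D = I_{D₁}·I_{D₂}, both different from O_X), (D₁·D₂) = χ(O_X) − χ(I_{D₁}) − χ(I_{D₂}) + χ(I_{D₁}
⊗ I_{D₂}) > 0. Then H⁰(D, O_D) = k, i.e. it is one-dimensional over k (computed on X through the
direct image of O_D). (The published lemma sits in a positive-characteristic setting; the printed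
argument does not use the characteristic, so none is assumed here.) -/
theorem result (k : Type u) [Field k] [IsAlgClosed k]
    (X : Scheme.{u}) [X.Over (Spec (CommRingCat.of k))] [IsProper (X ↘ (Spec (CommRingCat.of k)))]
    [Smooth (X ↘ (Spec (CommRingCat.of k)))] [IsIntegral X] (hdim : topologicalKrullDim X = 2)
    (D : X.IdealSheafData) (hD : FGA.IsEffCartier D) (hD0 : D ≠ ⊤)
    (hnc : ∀ D₁ D₂ : X.IdealSheafData, FGA.IsEffCartier D₁ → FGA.IsEffCartier D₂ → D₁ ≠ ⊤ → D₂ ≠ ⊤ →
      D = D₁ * D₂ → 0 < FGA.intNum k X 2 ![(ClSub.idealMod D₁), (ClSub.idealMod D₂)] (Coh.structureModule X)) :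
    Module.finrank k (Coh.HH X (ClSub.quotMod D) 0) = 1 := by
  haveI : IsNoetherian X := CohFound.isNoetherian_of_isProper (X ↘ Spec (CommRingCat.of k))
  have hO := PicLoc.isInvertible_structureModule X
  have h := (NumConn10.finrank_le_one_and_iso (k := k) hdim (Z := D) hD (fun J K hJ hK hJt hKt hm => ?_) hO
    (fun ξ hξ _ => ?_) hD0).1
  · rw [(CurveCoh17.hequiv k (show NumConn10.tw D (Coh.structureModule X) ≅ ClSub.quotMod D from
      M2.tensorRUnit (ClSub.quotMod D)) 0).finrank_eq] at h
    haveI : Module.Finite k (Coh.HH X (ClSub.quotMod D) 0) :=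
      CohFound.finite_HH_of_isProper _ (CurveCoh17.isCoh_quotMod D) 0
    refine le_antisymm h (Nat.one_le_iff_ne_zero.2 fun h0 => hD0 ?_)
    haveI := (Module.finrank_zero_iff (R := k)).1 h0
    refine (Scheme.IdealSheafData.support_eq_bot_iff D).1 (SetLike.coe_injective (Set.eq_empty_of_forall_notMem
      fun x hx => ?_))
    obtain ⟨e⟩ := NumConn10.exists_twEquiv D hO x
    haveI := NumConn10.nontrivial_stalk D hO hx
    haveI : Nontrivial ((ClSub.quotMod D).presheaf.stalk x) := e.symm.toEquiv.nontrivial
    have h2 : (ClSub.toSubscheme D).app ⊤ (M1.one ⊤) = 0 :=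
      (CurveCoh17.hh0 (ClSub.quotMod D)).symm.injective (Subsingleton.elim _ _)
    have h3 : CurveCoh17.stalkLin (ClSub.toSubscheme D) x (NumConn10.oneAt x) = 0 := by
      show (M1.stalkAb x).map (ClSub.toSubscheme D) ((Coh.structureModule X).presheaf.germ ⊤ x trivial (M1.one ⊤)) = 0
      rw [M1.germ_naturality, h2, map_zero]
    obtain ⟨y, hy⟩ := exists_ne (0 : (ClSub.quotMod D).presheaf.stalk x)
    obtain ⟨b, hb⟩ := NumConn10.surjective_toSubscheme D x y
    obtain ⟨c, rfl⟩ := NumConn10.exists_smul_one x b
    exact hy (by rw [← hb, map_smul, h3, smul_zero])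
  · have h := hnc J K hJ hK hJt hKt hm
    rwa [SymSq10.intNum_eq' (SurfRR10.dim_eq (k := k) hdim).le (M2.isInvertible_idealMod J hJ)
      (M2.isInvertible_idealMod K hK)] at h
  · rw [show PicGrp.cls (Coh.structureModule X) hO = (1 : PicLoc.PicSet X) from PicGrp.cls_structureModule_eq_one ..,
      SymSq10.sdot_comm, SymSq10.sdot_one_left]

end Groth.Agent.S15099
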