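import Groth.Statements.S15100
import Groth.Agent.S14608
import Mathlib

set_option autoImplicit false
universe u
open TensorProduct
open CAlg

namespace Groth.Agent.S15100
open TensorProduct

/-- Let V be a discrete valuation ring with uniformizer u and V → R → A commutative V-algebras with A an
R-algebra compatibly; assume A is a Noetherian local domain of Krull dimension 3 with u in its
maximal ideal, that Ω_{A/V} is a free A-module of rank 2 and that A ⊗_R Ω_{R/V} is a free A-module
of rank 1. Suppose that on the special fibre Ω_{A/R} is locally free exactly away from the closed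
point: for every prime P of A containing u other than the maximal ideal the localization (Ω_{A/R})_P
is free over A_P, while Ω_{A/R} is not free over A. Then Ω_{A/R} is not locally free on the generic
fibre: there is a prime Q of A not containing u with (Ω_{A/R})_Q not free over A_Q. (In the
published statement R is a regular local ring of dimension 2 and A a local ring of dimension 3, both
smooth over V, which yields the two freeness hypotheses used here, and the hypothesis is phrased as
local freeness of Ω of the special fibre of A over that of R away from the closed point.) -/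
theorem result
    (V R A : Type u) [CommRing V] [IsDomain V] [IsDiscreteValuationRing V] [CommRing R] [CommRing A]
    [IsDomain A] [IsNoetherianRing A] [IsLocalRing A]
    [Algebra V R] [Algebra V A] [Algebra R A] [IsScalarTower V R A]
    (u : V) (hu : Irreducible u) (huA : algebraMap V A u ∈ IsLocalRing.maximalIdeal A)
    (hdimA : ringKrullDim A = 3)
    (hΩA : Module.Free A (Ω[A⁄V])) (hrkA : Module.finrank A (Ω[A⁄V]) = 2)
    (hΩR : Module.Free A (A ⊗[R] Ω[R⁄V])) (hrkR : Module.finrank A (A ⊗[R] Ω[R⁄V]) = 1)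
    (h0 : ∀ P : PrimeSpectrum A, algebraMap V A u ∈ P.asIdeal → P.asIdeal ≠ IsLocalRing.maximalIdeal A →
      Module.Free (Localization.AtPrime P.asIdeal) (LocalizedModule P.asIdeal.primeCompl (Ω[A⁄R])))
    (hm : ¬ Module.Free A (Ω[A⁄R])) :
    ∃ Q : PrimeSpectrum A, algebraMap V A u ∉ Q.asIdeal ∧
      ¬ Module.Free (Localization.AtPrime Q.asIdeal) (LocalizedModule Q.asIdeal.primeCompl (Ω[A⁄R])) := by
  classical
  haveI : Module.Finite A (Ω[A⁄V]) := Module.finite_of_finrank_pos (by omega)
  haveI : Module.Finite A (A ⊗[R] Ω[R⁄V]) := Module.finite_of_finrank_pos (by omega)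
  let δ := KaehlerDifferential.mapBaseChange V R A
  let π := KaehlerDifferential.map V R A A
  have hπ : Function.Surjective π := KaehlerDifferential.map_surjective V R A
  have hex : Function.Exact δ π := KaehlerDifferential.exact_mapBaseChange_map V R A
  let ω := (Module.finBasisOfFinrankEq A (A ⊗[R] Ω[R⁄V]) hrkR)
  let e := (Module.finBasisOfFinrankEq A (Ω[A⁄V]) hrkA)
  set v := δ (ω 0)
  let δ₁ : A →ₗ[A] Ω[A⁄V] := LinearMap.toSpanSingleton A _ v
  have hrange : LinearMap.range δ = LinearMap.range δ₁ := by
    rw [LinearMap.range_toSpanSingleton, LinearMap.range_eq_map, ← ω.span_eq, Submodule.map_span,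
      ← Set.range_comp, show (δ ∘ ω : Fin 1 → _) = fun _ => v from funext fun i => by rw [Subsingleton.elim i 0]; rfl,
      Set.range_const]
  let q : ((Ω[A⁄V]) ⧸ LinearMap.range δ₁) ≃ₗ[A] Ω[A⁄R] :=
    (Submodule.quotEquivOfEq _ _ (by rw [hex.linearMap_ker_eq, hrange])).trans (π.quotKerEquivOfSurjective hπ)
  have hv : v ≠ 0 := by
    intro hv
    refine hm (Module.Free.of_equiv (R := A) (M := Ω[A⁄V]) (LinearEquiv.ofBijective π ⟨?_, hπ⟩))
    rw [← LinearMap.ker_eq_bot, hex.linearMap_ker_eq, hrange, LinearMap.range_toSpanSingleton, hv]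
    simp
  set a := e.repr v 0
  set b := e.repr v 1
  have hve : v = a • e 0 + b • e 1 := by
    conv_lhs => rw [← e.sum_repr v]
    rw [Fin.sum_univ_two]
  -- freeness at `P` means that `v` does not vanish at `P`
  have hcrit : ∀ P : PrimeSpectrum A,
      Module.Free (Localization.AtPrime P.asIdeal) (LocalizedModule P.asIdeal.primeCompl (Ω[A⁄R])) →
      ¬ Ideal.span {a, b} ≤ P.asIdeal := by
    intro P hP hle
    have h3 : Module.Free (Localization.AtPrime P.asIdeal)
        (LocalizedModule P.asIdeal.primeCompl ((Ω[A⁄V]) ⧸ LinearMap.range δ₁)) :=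
      Module.Free.of_equiv (IsLocalizedModule.mapEquiv P.asIdeal.primeCompl
        (LocalizedModule.mkLinearMap P.asIdeal.primeCompl (Ω[A⁄R]))
        (LocalizedModule.mkLinearMap P.asIdeal.primeCompl ((Ω[A⁄V]) ⧸ LinearMap.range δ₁))
        (Localization.AtPrime P.asIdeal) q.symm)
    have hex1 := ((Groth.Agent.S14608.result A A (Ω[A⁄V]) δ₁ P.asIdeal).1.out 2 0).1 h3
    have h0' : δ₁.lTensor P.asIdeal.ResidueField (1 ⊗ₜ[A] 1) = 0 := by
      rw [LinearMap.lTensor_tmul, LinearMap.toSpanSingleton_apply, one_smul, hve, tmul_add, tmul_smul, tmul_smul,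
        ← algebraMap_smul P.asIdeal.ResidueField a, ← algebraMap_smul P.asIdeal.ResidueField b,
        Ideal.algebraMap_residueField_eq_zero.2 (hle (Ideal.subset_span (by simp))),
        Ideal.algebraMap_residueField_eq_zero.2 (hle (Ideal.subset_span (by simp))), zero_smul, zero_smul, add_zero]
    obtain ⟨z, hz⟩ := (hex1 _).1 h0'
    have hk : LinearMap.ker δ₁ = ⊥ := by
      rw [LinearMap.ker_eq_bot']
      intro r hr
      rw [LinearMap.toSpanSingleton_apply] at hr
      exact (smul_eq_zero.1 hr).resolve_right hv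
    haveI : Subsingleton (LinearMap.ker δ₁) := by rw [hk]; infer_instance
    rw [Subsingleton.elim z 0, map_zero] at hz
    have h1 := congrArg (TensorProduct.rid A P.asIdeal.ResidueField) hz
    rw [map_zero, TensorProduct.rid_tmul, one_smul] at h1
    exact zero_ne_one h1
  have hab : Ideal.span {a, b} ≤ IsLocalRing.maximalIdeal A := by
    refine IsLocalRing.le_maximalIdeal fun htop => hm ?_
    obtain ⟨s, t, hst⟩ := Ideal.mem_span_pair.1 ((Ideal.eq_top_iff_one _).1 htop)
    let f : (Ω[A⁄V]) →ₗ[A] A := s • e.coord 0 + t • e.coord 1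
    have hf : f v = 1 := hst
    let σ : ((Ω[A⁄V]) ⧸ LinearMap.range δ₁) →ₗ[A] Ω[A⁄V] :=
      (LinearMap.range δ₁).liftQ (LinearMap.id - δ₁.comp f) (by
        rintro _ ⟨r, rfl⟩
        simp [δ₁, hf])
    haveI : Module.Projective A ((Ω[A⁄V]) ⧸ LinearMap.range δ₁) :=
      Module.Projective.of_split σ (LinearMap.range δ₁).mkQ (Submodule.linearMap_qext _ (LinearMap.ext fun x => by
        simp [σ, sub_eq_self, Submodule.Quotient.mk_eq_zero]))
    haveI : Module.Free A ((Ω[A⁄V]) ⧸ LinearMap.range δ₁) := Module.free_of_flat_of_isLocalRing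
    exact Module.Free.of_equiv q
  obtain ⟨Q, hQ, hQm⟩ := Ideal.exists_minimalPrimes_le hab
  haveI : Q.IsPrime := hQ.1.1
  refine ⟨⟨Q, inferInstance⟩, fun huQ => ?_, fun hfree => hcrit _ hfree hQ.1.2⟩
  refine hcrit ⟨Q, inferInstance⟩ (h0 _ huQ fun hQe => ?_) hQ.1.2
  have h1 := Ideal.height_le_card_of_mem_minimalPrimes_span (Set.toFinite {a, b}) hQ
  change Q = _ at hQe
  have h3 : (Q.height : WithBot ℕ∞) = 3 := by
    rw [hQe, IsLocalRing.maximalIdeal_height_eq_ringKrullDim, hdimA]
  have h4 : Q.height ≤ 2 := h1.trans (by exact_mod_cast (Set.ncard_insert_le a {b}).trans (by simp))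
  have h5 : (Q.height : WithBot ℕ∞) ≤ ((2 : ℕ∞) : WithBot ℕ∞) := WithBot.coe_le_coe.2 h4
  rw [h3] at h5
  exact absurd h5 (by decide)

end Groth.Agent.S15100
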