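import Groth.Statements.S15104
import Groth.Agent.Lib.ArInter.ModelInt
-- import your own Groth.Agent.* helpers here

set_option autoImplicit false
universe u
open CategoryTheory CategoryTheory.Limits AlgebraicGeometry
open Models

namespace Groth.Agent.S15104

/-- Let R be a discrete valuation ring with algebraically closed residue field k and fraction field K, C
a smooth proper curve over K with H⁰(C, O_C) = K and dim_K H¹(C, O_C) = g ≥ 2, and X → Spec R a
minimal regular model of C: a regular proper model none of whose vertical prime divisors is an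
exceptional curve of the first kind. Let Γ₁, …, Γ_n enumerate the irreducible components of the
closed fibre, with multiplicities r_i having gcd 1, and suppose the closed fibre is not reduced
(some r_i ≥ 2). Then dim_k H¹((X_k)_red, O) < g, the left side computed as the R-length of H¹(X, O_X
/ I) for I the ideal sheaf of the reduced closed fibre. (The published lemma states this for any
regular model with gcd(r_i) = 1; its proof uses, in the last step, that the component added last is
not an exceptional curve, the standing hypothesis of the result it serves, and the inequality fails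
after blowing up a node of a reduced semi-stable fibre, so minimality is assumed here.) -/
theorem result
    (R : Type u) [CommRing R] [IsDomain R] [IsDiscreteValuationRing R]
    (hk : IsAlgClosed (IsLocalRing.ResidueField R))
    (C : Scheme.{u}) (fC : C ⟶ (Spec (CommRingCat.of (FractionRing R)))) [IsProper fC] [Smooth fC]
    (hC0 : Models.hRank (FractionRing R) C fC (Coh.structureModule C) 0 = 1)
    (g : ℕ) (hg2 : 2 ≤ g) (hg : Models.curveGenus (FractionRing R) C fC = g)
    (X : Scheme.{u}) (p : X ⟶ (Spec (CommRingCat.of R))) (hX : Models.IsMinimalModel R X p C fC)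
    {n : ℕ} (Γ : Fin n → ArSurf.VertComp R (Over.mk p)) (hΓ : Models.IsComponentList R (Over.mk p) Γ)
    (hgcd : Models.multGcd R (Over.mk p) Γ = 1) (hnr : ∃ i, 2 ≤ Models.mult R (Over.mk p) (Γ i)) :
    Models.lengthH R (Over.mk p) (ClSub.quotMod (Models.redFibreIdeal R (Over.mk p))) 1 < g := by
  haveI := hk
  have hbij := Groth.Agent.CurveR1_10.bijective_appTop_of_hRank fC hC0
  haveI := Groth.Agent.ArInter.isIntegral_of_smooth_constants fC hbij
  have hH0 : IsIso fC.appTop := (ConcreteCategory.isIso_iff_bijective _).mpr hbij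
  have hR := hX.1
  have hS : Groth.Agent.ArInter.IsSurf (Over.mk p) :=
    ⟨hR.2.1, Groth.Agent.ArInter.isIntegral_of_isModel' hR.1 hR.2.2, hR.1.1⟩
  have hconn := Groth.Agent.ArInter.isConnected_specialFibreSet' hH0 hR
  obtain ⟨π, hπ⟩ := IsDiscreteValuationRing.exists_irreducible R
  obtain ⟨L, D, i₀, -, -, hL, hr₀, -⟩ := Groth.Agent.ArInter.exists_chain_of_connected hS hR.2.2 hconn Γ hΓ
  have hE := fun q => Groth.Agent.ArInter.isEffCartierIdeal_ker (X := Over.mk p) (hL q)
  obtain ⟨hred, -⟩ := Groth.Agent.ArInter.redFibreIdeal_eq hS.pre hπ hE hΓ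
  have hF := hr₀.isFieldDiv Γ L hS hL (Groth.Agent.ArInter.isFieldDiv_single Γ hS i₀)
  have h0 : Models.lengthH R (Over.mk p) (ClSub.quotMod (Models.redFibreIdeal R (Over.mk p))) 0 = 1 := by
    rw [hred]
    exact Groth.Agent.ArInter.lengthH_eq_one_of_isAlgClosed
      (Groth.Agent.ArInter.finLen_finsetProd hS Γ hE _ Finset.univ).2 hF
  obtain ⟨e0, -, hlt⟩ := Groth.Agent.ArInter.lengthH_redFibre_le hS hR.2.2 hconn hX.2 Γ hΓ hgcd hπ h0
  obtain ⟨i, hi⟩ := hnr
  have hlt' := hlt ⟨i, by omega⟩
  have hchi := Groth.Agent.ArInter.chiLen_fibre hS hπ (Groth.Agent.ArInter.finLen_fibre hS hR.2.2 Γ hΓ hπ)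
  rw [Groth.Agent.ArInter.finrank_HH_eq_generic hR.2.1 hR.1, Groth.Agent.ArInter.finrank_HH_eq_generic hR.2.1 hR.1,
    hC0, show Models.hRank (FractionRing R) C fC (Coh.structureModule C) 1 = g from hg] at hchi
  simp only [Groth.Agent.ArInter.chiLen, Groth.Agent.LenEuler15.len] at hchi
  unfold Models.lengthH at e0 hlt' ⊢
  rw [e0] at hchi
  push_cast at hchi
  omega

end Groth.Agent.S15104
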