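import Groth.Statements.S15108
import Groth.Agent.Lib.PrimeExt15.Main
-- import your own Groth.Agent.* helpers here

set_option autoImplicit false
universe u
open CategoryTheory CategoryTheory.Limits MonoidalCategory CartesianMonoidalCategory MonObj GrpObj AlgebraicGeometry
open GrpSch

namespace Groth.Agent.S15108

/-- Let k be an algebraically closed field and 1 → G_m → G → K → 1 a theta group over k: u : G_m → G and
v : G → K are homomorphisms of k-group schemes forming a sequence exact for the fppf topology (u ≫ v
trivial, G a pseudo-torsor over K under G_m acting by right translations through u, v acquiring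
sections fppf-locally on K), with K commutative and u(G_m) central in G. If K is finite of prime
order ℓ — K is k-isomorphic to Spec B for a k-algebra B of dimension ℓ over k, ℓ a prime number,
possibly the characteristic — then G is commutative: g h = h g for all points g, h of G with values
in any k-scheme T. -/
theorem result (k : Type u) [Field k] [IsAlgClosed k]
    (G K : Over (Spec (CommRingCat.of k))) [GrpObj G] [GrpObj K] [IsCommMonObj K]
    (u : Red.Gm (Spec (CommRingCat.of k)) ⟶ G) (v : G ⟶ K) (hex : NonAbH1.IsExactSeq Scheme.fppfPrecoverage u v)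
    (hcentral : ∀ (T : Over (Spec (CommRingCat.of k))) (g : T ⟶ G) (t : T ⟶ Red.Gm (Spec (CommRingCat.of k))), g * (t ≫ u) = (t ≫ u) * g)
    (B : Type u) [CommRing B] [Algebra k B] [Module.Finite k B] (ℓ : ℕ) (hℓ : ℓ.Prime)
    (hB : Module.finrank k B = ℓ)
    (e : K.left ≅ Spec (CommRingCat.of B)) (he : e.hom ≫ Spec.map (CommRingCat.ofHom (algebraMap k B)) = K.hom) :
    ∀ (T : Over (Spec (CommRingCat.of k))) (g h : T ⟶ G), g * h = h * g := by
  intro T g h
  haveI : Fact ℓ.Prime := ⟨hℓ⟩
  haveI : IsArtinianRing B := IsArtinianRing.of_finite k B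
  haveI : DiscreteTopology K.left :=
    (Scheme.homeoOfIso e).isEmbedding.discreteTopology
  haveI : IsAffine K.left := IsAffine.of_isIso e.hom
  haveI : LocallyOfFiniteType K.hom := by
    rw [← he]
    haveI : LocallyOfFiniteType (Spec.map (CommRingCat.ofHom (algebraMap k B))) :=
      (HasRingHomProperty.Spec_iff (P := @LocallyOfFiniteType)).2
        (RingHom.finiteType_algebraMap.2 inferInstance)
    infer_instance
  obtain ⟨A, _, _, ⟨e'⟩⟩ := Groth.Agent.HopfPts19.exists_model K
  let q : CoactBr.sp k A ⟶ K := e'.hom.hom.hom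
  let q' : K ⟶ CoactBr.sp k A := e'.inv.hom.hom
  have h1 : q' ≫ q = 𝟙 K := congrArg (fun k => k.hom.hom) e'.inv_hom_id
  have h2 : q ≫ q' = 𝟙 _ := congrArg (fun k => k.hom.hom) e'.hom_inv_id
  haveI : IsIso q := ⟨q', h2, h1⟩
  haveI : IsMonHom q := e'.hom.hom.isMonHom_hom
  haveI : IsIso q.left := inferInstanceAs (IsIso ((Over.forget _).map q))
  let j : Spec (CommRingCat.of A) ⟶ Spec (CommRingCat.of B) := q.left ≫ e.hom
  have hj : IsIso j := inferInstanceAs (IsIso (q.left ≫ e.hom))
  have hjk : j ≫ Spec.map (CommRingCat.ofHom (algebraMap k B)) = Spec.map (CommRingCat.ofHom (algebraMap k A)) := by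
    refine (Category.assoc q.left e.hom _).trans ?_
    rw [he]
    exact Over.w q
  let φ : CommRingCat.of B ⟶ CommRingCat.of A := Spec.preimage j
  have hφ : Spec.map φ = j := Spec.map_preimage _
  haveI : IsIso φ := by
    haveI : IsIso (Scheme.Spec.map φ.op) := by
      show IsIso (Spec.map φ)
      rw [hφ]; exact hj
    haveI := isIso_of_reflects_iso φ.op Scheme.Spec
    exact isIso_of_op φ
  have hφa : CommRingCat.ofHom (algebraMap k B) ≫ φ = CommRingCat.ofHom (algebraMap k A) := Spec.map_injective (by
    rw [Spec.map_comp, hφ]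
    exact hjk)
  let ψ : B ≃ₐ[k] A := AlgEquiv.ofBijective
    { φ.hom with commutes' := fun r => ConcreteCategory.congr_hom hφa r }
    (ConcreteCategory.bijective_of_isIso φ)
  haveI : Module.Finite k A := Module.Finite.equiv ψ.toLinearEquiv
  exact Groth.Agent.PrimeExt15.comm_of_prime_order hex hcentral q
    ((ψ.toLinearEquiv.finrank_eq).symm.trans hB) g h

end Groth.Agent.S15108
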