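import Groth.Statements.S15115
import Groth.Agent.Lib.CoalgH23.Reynolds

set_option autoImplicit false
universe u
open HopfRep

namespace Groth.Agent.S15115

open scoped Groth.Agent.CoalgH23
open Groth.Agent.CoalgH23 WithConv

open TensorProduct in
/-- Let k be an algebraically closed field, H a finite-dimensional commutative Hopf algebra over k all
of whose finite-dimensional comodules are semisimple (a finite linearly reductive group scheme G
over k), A a commutative k-algebra, and M an A-module with an H-coaction that is A-linear (G acts on
M by A-module maps, A carrying the trivial action). Let A' be a commutative A-algebra and N = A' ⊗_A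
M its base change, exhibited by an A-linear map φ : M → N, with the induced coaction: A'-linear and
compatible with φ. Then invariants commute with this base change: writing M^G for the A-submodule of
coinvariant elements of M, the natural map A' ⊗_A M^G → N, a' ⊗ m ↦ a' φ(m), is injective and its
image is exactly the set of coinvariant elements of N. (The published statement is the isomorphism
ρ^* π_* F → π'_* σ^* F for a tame Deligne–Mumford stack with coarse moduli space π and any base
change ρ of the coarse space; this row is the statement about invariants to which its proof reduces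
it, for modules that need not be finitely generated.) -/
theorem result (k : Type u) [Field k] [IsAlgClosed k]
    (H : Type u) [CommRing H] [HopfAlgebra k H] [Module.Finite k H] (hred : HopfRep.IsLinearlyReductive k H)
    (A : Type u) [CommRing A] [Algebra k A]
    (M : Type u) [AddCommGroup M] [Module k M] [Module A M] [IsScalarTower k A M] [HopfRep.Comod k H M]
    (hlin : ∀ (a : A) (m : M), HopfRep.Comod.coact (k := k) (A := H) (a • m) = a • HopfRep.Comod.coact (k := k) (A := H) m)
    (A' : Type u) [CommRing A'] [Algebra k A'] [Algebra A A'] [IsScalarTower k A A']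
    (N : Type u) [AddCommGroup N] [Module k N] [Module A N] [Module A' N]
    [IsScalarTower k A N] [IsScalarTower A A' N] [IsScalarTower k A' N] [HopfRep.Comod k H N]
    (φ : M →ₗ[A] N) (hφ : IsBaseChange A' φ)
    (hcomp : ∀ m : M, HopfRep.Comod.coact (k := k) (A := H) (φ m) =
      LinearMap.rTensor H (φ.restrictScalars k) (HopfRep.Comod.coact (k := k) (A := H) m))
    (hlinN : ∀ (a' : A') (n : N), HopfRep.Comod.coact (k := k) (A := H) (a' • n) = a' • HopfRep.Comod.coact (k := k) (A := H) n)
    (P : Submodule A M) (hP : (P : Set M) = (HopfRep.fixedPts k H M : Set M)) :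
    Function.Injective (TensorProduct.lift (((Algebra.lsmul A A N : A' →ₐ[A] Module.End A N).toLinearMap).compl₂ (φ ∘ₗ P.subtype))) ∧
      Set.range (TensorProduct.lift (((Algebra.lsmul A A N : A' →ₐ[A] Module.End A N).toLinearMap).compl₂ (φ ∘ₗ P.subtype))) =
        (HopfRep.fixedPts k H N : Set N) := by
  obtain ⟨l, h1, hl⟩ := exists_right_integral hred
  have hEA : ∀ (a : A) (m : M), actL (V := M) l (a • m) = a • actL (V := M) l m := fun a m => by
    show slice l _ = a • slice l _
    rw [hlin, slice_smul]
  have hEN : ∀ (a : A') (n : N), actL (V := N) l (a • n) = a • actL (V := N) l n := fun a n => by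
    show slice l _ = a • slice l _
    rw [hlinN, slice_smul]
  have hnat : ∀ m : M, actL (V := N) l (φ m) = φ (actL (V := M) l m) := fun m => by
    show slice l _ = φ (slice l _)
    rw [hcomp, slice_rTensor]
    rfl
  have hfixφ : ∀ m ∈ P, φ m ∈ fixedPts k H N := fun m hm => by
    have hm' : m ∈ fixedPts k H M := hP.le hm
    show Comod.coact (k := k) (A := H) (φ m) = φ m ⊗ₜ[k] (1 : H)
    rw [hcomp, show Comod.coact (k := k) (A := H) m = m ⊗ₜ[k] (1 : H) from hm']
    rfl
  let E : M →ₗ[A] P :=
    { toFun := fun m => ⟨actL (V := M) l m, hP.ge (actL_mem_fixedPts hl m)⟩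
      map_add' := fun x y => Subtype.ext (map_add _ x y)
      map_smul' := fun a m => Subtype.ext (hEA a m) }
  let L := TensorProduct.lift (((Algebra.lsmul A A N : A' →ₐ[A] Module.End A N).toLinearMap).compl₂ (φ ∘ₗ P.subtype))
  have hL : ∀ (a : A') (p : P), L (a ⊗ₜ[A] p) = a • φ (p : M) := fun a p => rfl
  have hEfix : ∀ p : P, E (p : M) = p := fun p => Subtype.ext (actL_of_fixed h1 (hP.le p.2))
  have hleft : ∀ x, E.lTensor A' (hφ.equiv.symm (L x)) = x := by
    intro x
    induction x with
    | zero => simp
    | add p q hp hq => simp only [map_add, hp, hq]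
    | tmul a p =>
      rw [hL, show a • φ (p : M) = hφ.equiv (a ⊗ₜ[A] (p : M)) from (hφ.equiv_tmul a (p : M)).symm,
        LinearEquiv.symm_apply_apply, LinearMap.lTensor_tmul, hEfix]
  refine ⟨Function.LeftInverse.injective (g := fun y => E.lTensor A' (hφ.equiv.symm y)) hleft, Set.ext fun n => ⟨?_, fun hn => ?_⟩⟩
  · rintro ⟨x, rfl⟩
    induction x with
    | zero => simpa using (fixedPts k H N).zero_mem
    | add p q hp hq => simpa using (fixedPts k H N).add_mem hp hq
    | tmul a p =>
      show a • φ (p : M) ∈ fixedPts k H N
      show Comod.coact (k := k) (A := H) (a • φ (p : M)) = (a • φ (p : M)) ⊗ₜ[k] (1 : H)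
      rw [hlinN, show Comod.coact (k := k) (A := H) (φ (p : M)) = φ (p : M) ⊗ₜ[k] (1 : H) from hfixφ p p.2]
      rfl
  · have h3 : ∀ x, actL (V := N) l (hφ.equiv x) = L (E.lTensor A' x) := by
      intro x
      induction x with
      | zero => simp
      | add p q hp hq => simp only [map_add, hp, hq]
      | tmul a m =>
        rw [hφ.equiv_tmul, hEN, hnat, LinearMap.lTensor_tmul, hL]
        rfl
    exact ⟨E.lTensor A' (hφ.equiv.symm n), by rw [← h3, LinearEquiv.apply_symm_apply]; exact actL_of_fixed h1 hn⟩

end Groth.Agent.S15115
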