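import Groth.Statements.S15116
-- import your own Groth.Agent.* helpers here

set_option autoImplicit false
universe u v
open NRGIT

namespace Groth.Agent.S15116

/-- Let k be a characteristic-zero field and A a commutative k-algebra, graded by the integers with all
pieces of positive degree zero, and D a k-derivation of A that raises degrees by a fixed positive
integer l. If no maximal ideal of A contains both every piece of negative degree and the image of D,
then there is f with D f = 1. (The published statement is for an affine variety with an action of
the semidirect product of the additive and multiplicative groups, the multiplicative group acting on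
the coordinate ring with non-positive weights and on the Lie algebra of the additive group with
positive weight: the derivation is a generator of that Lie algebra, the maximal ideals containing
the pieces of negative degree are the limit points under the multiplicative group, and a limit point
has trivial additive stabiliser exactly when the image of D is not contained in its ideal; this row
keeps only this algebraic content, for any such graded algebra. The first assertion of the published
lemma, that every point has a limit in the variety under the multiplicative group as t → 0, is not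
part of this row.) -/
theorem result (k : Type u) [Field k] [CharZero k]
    (A : Type v) [CommRing A] [Algebra k A] (𝒜 : ℤ → Submodule k A) [GradedAlgebra 𝒜]
    (hpos : ∀ i : ℤ, 0 < i → 𝒜 i = ⊥)
    (D : Derivation k A A) (l : ℤ) (hl : 0 < l)
    (hD : ∀ (i : ℤ) (a : A), a ∈ 𝒜 i → D a ∈ 𝒜 (i + l))
    (hfree : ∀ m : Ideal A, m.IsMaximal → (∀ i : ℤ, i < 0 → (𝒜 i : Set A) ⊆ m) → ∃ a : A, D a ∉ m) :
    ∃ f : A, D f = 1 := by
  classical
  let J : Ideal A := Ideal.span (Set.range D ∪ ⋃ i, ⋃ (_ : i < (0 : ℤ)), (𝒜 i : Set A))
  have hJ : J = ⊤ := by
    by_contra h
    obtain ⟨m, hm, hle⟩ := Ideal.exists_le_maximal _ h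
    obtain ⟨a, ha⟩ := hfree m hm fun i hi x hx => hle (Ideal.subset_span (Or.inr (Set.mem_iUnion₂.mpr ⟨i, hi, hx⟩)))
    exact ha (hle (Ideal.subset_span (Or.inl ⟨a, rfl⟩)))
  let P : A → A := fun x => DirectSum.decompose 𝒜 x (0 : ℤ)
  let S : Submodule k A := Submodule.map D.toLinearMap ⊤
  have hzero : ∀ i : ℤ, 0 < i → ∀ x ∈ 𝒜 i, x = 0 := fun i hi x hx => by
    rw [hpos i hi] at hx; exact (Submodule.mem_bot k).mp hx
  -- products of homogeneous elements
  have hP : ∀ (i j : ℤ) (a b : A), a ∈ 𝒜 i → b ∈ 𝒜 j →
      P (a * b) = if i + j = 0 then a * b else 0 := fun i j a b ha hb => by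
    have hab := SetLike.mul_mem_graded (A := 𝒜) ha hb
    split_ifs with h
    · exact DirectSum.decompose_of_mem_same 𝒜 (h ▸ hab)
    · exact DirectSum.decompose_of_mem_ne 𝒜 hab h
  have key : ∀ (a : A), ∀ z ∈ Set.range D ∪ ⋃ i, ⋃ (_ : i < (0 : ℤ)), (𝒜 i : Set A), P (a * z) ∈ S := by
    intro a z hz
    induction a using DirectSum.Decomposition.inductionOn 𝒜 with
    | zero => simp [P]
    | add a b ha hb => simpa [P, add_mul, DirectSum.decompose_add] using add_mem ha hb
    | @homogeneous i a =>
      rcases hz with ⟨b, rfl⟩ | hz
      · induction b using DirectSum.Decomposition.inductionOn 𝒜 with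
        | zero => simp [P]
        | add b c hb hc => simpa [P, map_add, mul_add, DirectSum.decompose_add] using add_mem hb hc
        | @homogeneous j b =>
          rw [hP i (j + l) _ _ a.2 (hD j _ b.2)]
          split_ifs with h
          · rcases lt_trichotomy i 0 with hi | hi | hi
            · simp [hzero (j + l) (by omega) _ (hD j _ b.2)]
            · refine ⟨(a : A) * b, trivial, ?_⟩
              have hDa : D (a : A) = 0 := hzero (i + l) (by omega) _ (hD i _ a.2)
              simp [hDa, _root_.mul_comm]
            · simp [hzero i hi _ a.2]
          · exact zero_mem _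
      · obtain ⟨j, hj, hzj⟩ := Set.mem_iUnion₂.mp hz
        rw [hP i j _ _ a.2 hzj]
        split_ifs with h
        · simp [hzero i (by omega) _ a.2]
        · exact zero_mem _
  have h1 : (1 : A) ∈ J := hJ ▸ trivial
  have : P 1 ∈ S := by
    suffices ∀ z ∈ J, ∀ a, P (a * z) ∈ S by simpa using this 1 h1 1
    intro z hz
    refine Submodule.span_induction (fun x hx a => key a x hx) (fun a => by simp [P])
      (fun x y _ _ hx hy a => by simpa [P, mul_add, DirectSum.decompose_add] using add_mem (hx a) (hy a))
      (fun c x _ hx a => by rw [smul_eq_mul, ← _root_.mul_assoc]; exact hx _) hz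
  rw [show P 1 = 1 from DirectSum.decompose_of_mem_same 𝒜 (SetLike.one_mem_graded 𝒜)] at this
  obtain ⟨f, -, hf⟩ := this
  exact ⟨f, hf⟩

end Groth.Agent.S15116
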