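import Groth.Statements.S15117
-- import your own Groth.Agent.* helpers here

set_option autoImplicit false
universe u v w
open TensorProduct
open NRGIT

namespace Groth.Agent.S15117

/-- Let k be a field, π : A → B a map of commutative bialgebras over k, W a right A-comodule and V ⊆ W a
subcomodule all of whose elements are coinvariant for the B-coaction induced through π. Then the
coaction of every v ∈ V lies in V ⊗ A' ⊆ W ⊗ A, where A' ⊆ A is the set of elements a with (π ⊗
id)(Δ a) = 1 ⊗ a, i.e. coinvariant for the coaction of B on A through π on the left factor; the row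
states membership in the span of the pure tensors w ⊗ a with w ∈ V and a ∈ A'. (The published
statement is for a linear algebraic group H over an algebraically closed field of characteristic
zero, a normal subgroup N and an H-stable space V of N-invariant sections of a linearised line
bundle, with the coaction landing in O(H)^N ⊗ V, where O(H)^N is the ring of functions on H
invariant under N acting by right multiplication; this row is the comodule form, for any bialgebra
map over a field, where normality of N is not needed.) -/
theorem result (k : Type u) [Field k]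
    (A B : Type v) [CommRing A] [CommRing B] [Bialgebra k A] [Bialgebra k B] (π : A →ₐc[k] B)
    (W : Type w) [AddCommGroup W] [Module k W] [HopfRep.Comod k A W]
    (V : Submodule k W) (hV : HopfRep.IsSubcomod (k := k) (A := A) V)
    (hfix : ∀ v ∈ V, (π.toLinearMap.lTensor W) (HopfRep.Comod.coact (k := k) (A := A) v) = v ⊗ₜ[k] (1 : B))
    (v : W) (hv : v ∈ V) :
    HopfRep.Comod.coact (k := k) (A := A) v ∈
      Submodule.span k {x : W ⊗[k] A | ∃ w ∈ V, ∃ a : A,
        (π.toLinearMap.rTensor A) (Coalgebra.comul (R := k) a) = (1 : B) ⊗ₜ[k] a ∧ x = w ⊗ₜ[k] a} := by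
  obtain ⟨t, ht⟩ := hV v hv
  have hb := Module.Free.chooseBasis k V
  obtain ⟨c, hc⟩ := TensorProduct.eq_repr_basis_left hb t
  subst hc
  have hcoassoc := LinearMap.congr_fun (HopfRep.Comod.coassoc (k := k) (A := A) (V := W)) v
  simp only [LinearMap.comp_apply, LinearEquiv.coe_coe] at hcoassoc
  rw [← ht] at hcoassoc ⊢
  let T : W ⊗[k] (A ⊗[k] A) →ₗ[k] W ⊗[k] (B ⊗[k] A) := (π.toLinearMap.rTensor A).lTensor W
  have hfix' : ∀ i, T ((TensorProduct.assoc k W A A) ((HopfRep.Comod.coact (k := k) (A := A)) ((hb i : V) : W) ⊗ₜ c i))
      = ((hb i : V) : W) ⊗ₜ ((1 : B) ⊗ₜ c i) := fun i => by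
    have h := hfix _ (hb i).2
    set y := (HopfRep.Comod.coact (k := k) (A := A)) ((hb i : V) : W) with hy
    have : ∀ y : W ⊗[k] A, T ((TensorProduct.assoc k W A A) (y ⊗ₜ c i)) =
        (TensorProduct.assoc k W B A) (π.toLinearMap.lTensor W y ⊗ₜ c i) := fun y => by
      induction y using TensorProduct.induction_on with
      | zero => simp
      | tmul a b => simp [T]
      | add a b ha hb => simp [TensorProduct.add_tmul, ha, hb]
    rw [this y, h, TensorProduct.assoc_tmul]
  have hco := congrArg T hcoassoc
  simp only [Finsupp.sum, map_sum, LinearMap.rTensor_tmul, Submodule.coe_subtype, hfix',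
    LinearMap.lTensor_tmul, T] at hco
  have hinj : Function.Injective (TensorProduct.map V.subtype (LinearMap.id : (B ⊗[k] A) →ₗ[k] B ⊗[k] A)) :=
    Module.Flat.rTensor_preserves_injective_linearMap _ V.injective_subtype
  have hz : ∑ i ∈ c.support, hb i ⊗ₜ[k] ((1 : B) ⊗ₜ[k] c i) =
      ∑ i ∈ c.support, hb i ⊗ₜ[k] π.toLinearMap.rTensor A (Coalgebra.comul (R := k) (c i)) := by
    apply hinj
    simpa [map_sum] using hco
  simp only [Finsupp.sum, map_sum, LinearMap.rTensor_tmul, Submodule.coe_subtype]
  refine Submodule.sum_mem _ fun i hi => Submodule.subset_span ⟨hb i, (hb i).2, c i, ?_, rfl⟩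
  have e := congrArg (fun z => (TensorProduct.equivFinsuppOfBasisLeft hb z) i) hz
  classical
  simp only [map_sum, Finsupp.finsetSum_apply, TensorProduct.equivFinsuppOfBasisLeft_apply_tmul_apply,
    Module.Basis.repr_self, Finsupp.single_apply, ite_smul, one_smul, zero_smul, Finset.sum_ite_eq', if_pos hi] at e
  exact e.symm

end Groth.Agent.S15117
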