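import Groth.Statements.S15120
import Groth.Agent.Lib.AffAct15.Orbit
import Groth.Agent.Lib.AffAct15.Spec
import Groth.Agent.Lib.GITHM15.Group
import Groth.Agent.Lib.GITQuot.Orbit
import Groth.Agent.S15118
-- import your own Groth.Agent.* helpers here

set_option autoImplicit false
universe u
open CategoryTheory MonoidalCategory CartesianMonoidalCategory MonObj GrpObj AlgebraicGeometry Topology
open NRGIT

namespace Groth.Agent.S15120

/-- Over an algebraically closed field k of characteristic zero, let H be a linear algebraic group
(affine, reduced, of finite type) with a closed normal subgroup N and quotient q : H → Q (a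
surjective homomorphism with kernel N), acting on a variety X (reduced, separated, of finite type);
let the restricted action of N have a geometric quotient π : X → Y with Y a variety, and let Q act
on Y so that π is equivariant along q; assume Y affine and Q connected reductive. Then Y admits a
geometric quotient by Q whose target is a variety (separated, reduced, of finite type) exactly when
every orbit of a geometric point of X under H is closed. (The published lemma allows any reductive
Q, not necessarily connected, and assumes in addition that the stabilisers of the N-action are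
finite, which this part does not use; geometric quotients there are affine good quotients that are
orbit spaces, while this row uses universally submersive geometric quotients that need not be
affine, and the induced action of Q on Y is taken as a datum together with the equivariance of π;
this row takes Q connected reductive.) -/
theorem result (k : Type u) [Field k] [IsAlgClosed k] [CharZero k]
    (H N Q X Y : Over (Spec (CommRingCat.of k))) [GrpObj H] [GrpObj N] [GrpObj Q]
    [IsAffine H.left] [LocallyOfFiniteType H.hom] [IsReduced H.left]
    [IsAffine N.left] [LocallyOfFiniteType N.hom] [IsReduced N.left]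
    [IsAffine Q.left] [LocallyOfFiniteType Q.hom] [IsReduced Q.left]
    [LocallyOfFiniteType X.hom] [QuasiCompact X.hom] [IsSeparated X.hom] [IsReduced X.left]
    [LocallyOfFiniteType Y.hom] [QuasiCompact Y.hom] [IsSeparated Y.hom] [IsReduced Y.left]
    (i : N ⟶ H) [IsMonHom i] [IsClosedImmersion i.left] (hnorm : AlgGrp.IsNormalHom i)
    (q : H ⟶ Q) [IsMonHom q] [Surjective q.left] (hker : AlgGrp.IsKernel i q)
    (a : AlgGrp.Action H X) (aN : AlgGrp.Action N X) (haN : aN.act = (i ▷ X) ≫ a.act)
    (π : X ⟶ Y) (hπ : GIT.IsGeomQuot aN π)
    (aQ : AlgGrp.Action Q Y) (hequiv : (q ⊗ₘ π) ≫ aQ.act = a.act ≫ π)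
    [IsAffine Y.left] (hQ : Red.IsReductive Q) :
    (∃ (Z : Over (Spec (CommRingCat.of k))) (ψ : Y ⟶ Z), LocallyOfFiniteType Z.hom ∧ QuasiCompact Z.hom ∧
        IsSeparated Z.hom ∧ IsReduced Z.left ∧ GIT.IsGeomQuot aQ ψ) ↔ GIT.IsClosedAction a := by
  rw [← Groth.Agent.S15118.result k H N Q X Y i hnorm q hker a aN haN π hπ aQ hequiv]
  refine ⟨fun ⟨Z, ψ, _, _, _, _, h⟩ => Groth.Agent.GITQuot.isClosedAction h, fun hcl => ?_⟩
  obtain ⟨A, _, _, ei, _, _, _, hLR⟩ := Groth.Agent.GITHM15.exists_model_LR hQ
  haveI := Groth.Agent.GITHM15.isMonHom_inv ei
  obtain ⟨R, _, _, j, _⟩ := Groth.Agent.AffAct15.exists_affModel Y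
  obtain ⟨hC, hm, hj⟩ := Groth.Agent.AffAct15.exists_model (inv ei) j aQ
  have hq := Groth.Agent.AffAct15.isAffQuot_pt_val hj
  haveI : IsIso j.left := inferInstanceAs (IsIso ((Over.forget _).map j))
  haveI : LocallyOfFiniteType (CoactBr.sp k R).hom := by rw [← Over.w j]; infer_instance
  haveI : Algebra.FiniteType k R :=
    RingHom.finiteType_algebraMap.1 ((HasRingHomProperty.Spec_iff (P := @LocallyOfFiniteType)).1 ‹_›)
  haveI hft := Groth.Agent.AffAct15.finiteType_invariants (A := A) (R := R) hLR
  haveI : _root_.IsReduced R := by
    haveI : AlgebraicGeometry.IsReduced (Spec (CommRingCat.of R)) := @isReduced_of_isOpenImmersion _ _ j.left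
      (inferInstanceAs (IsOpenImmersion ((Over.forget _).map j))) _
    exact (affine_isReduced_iff (CommRingCat.of R)).1 ‹_›
  haveI : _root_.IsReduced (GLin.invariants k A R) := isReduced_of_injective (GLin.invariants k A R).val
    Subtype.val_injective
  refine ⟨_, _, (HasRingHomProperty.Spec_iff (P := @LocallyOfFiniteType)).2 (RingHom.finiteType_algebraMap.2 hft),
    inferInstanceAs (QuasiCompact (Spec.map _)), inferInstanceAs (IsSeparated (Spec.map _)), ?_,
    ((hq.isLocAffQuot (inv ei) hLR).isUnivGeomQuot (inv ei) hLR hcl).1⟩
  exact inferInstanceAs (AlgebraicGeometry.IsReduced (Spec (CommRingCat.of (GLin.invariants k A R))))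


end Groth.Agent.S15120
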