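import Groth.Statements.S15121
import Mathlib.RingTheory.GradedAlgebra.Basic

set_option autoImplicit false
universe u v w
open InvQ

namespace Groth.Agent.S15121

/-- Let k be a field of characteristic zero and A a commutative k-algebra graded by a finitely generated
free abelian group Λ (the character group of a torus acting on Spec A) whose grading monoid is
positive: if the pieces of degrees w and −w are both non-zero then w = 0. Let δ be a locally
nilpotent k-derivation of A (an action of the additive group) that is homogeneous of degree d, with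
the piece of degree d equal to zero (the graded condition on the Lie algebra weight). Suppose that
no maximal ideal of A contains both all graded pieces of non-zero degree and the image of δ (every
torus-fixed closed point has trivial stabiliser under the additive group). Then δ has a homogeneous
slice: some s of degree −d with δ s = 1. (The published statement is for the coordinate ring of an
affine variety over an algebraically closed field of characteristic zero and concludes moreover that
the quotient map by the additive group is a trivial principal bundle, which follows from the slice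
by a standard argument not restated here; this row keeps the algebraic content, for any such graded
algebra.) -/
theorem result
    (k : Type u) [Field k] [CharZero k]
    (A : Type v) [CommRing A] [Algebra k A]
    (Λ : Type w) [AddCommGroup Λ] [DecidableEq Λ] [Module.Free ℤ Λ] [Module.Finite ℤ Λ]
    (𝒜 : Λ → Submodule k A) [GradedAlgebra 𝒜]
    (hpos : ∀ w : Λ, 𝒜 w ≠ ⊥ → 𝒜 (-w) ≠ ⊥ → w = 0)
    (δ : Derivation k A A) (hnil : ∀ a : A, ∃ n : ℕ, ((δ : A →ₗ[k] A) ^ n) a = 0)
    (d : Λ) (hhom : ∀ (w : Λ) (a : A), a ∈ 𝒜 w → δ a ∈ 𝒜 (w + d)) (hd : 𝒜 d = ⊥)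
    (hfix : ∀ m : Ideal A, m.IsMaximal → (∀ w : Λ, w ≠ 0 → (𝒜 w : Set A) ⊆ m) → ¬ (Set.range δ ⊆ m)) :
    ∃ s ∈ 𝒜 (-d), δ s = 1 := by
  classical
  have hmul0 : ∀ (w : Λ) (r : A) (u : Λ) (x : A), r ∈ 𝒜 w → x ∈ 𝒜 u → u ≠ 0 →
      GradedAlgebra.proj 𝒜 0 (r * x) = 0 := by
    intro w r u x hr hx hu
    by_cases h : w + u = 0
    · obtain rfl : w = -u := eq_neg_of_add_eq_zero_left h
      rcases eq_or_ne x 0 with rfl | hx0
      · simp
      rcases eq_or_ne r 0 with rfl | hr0
      · simp
      exact absurd (hpos u (fun e => hx0 (by simpa [e] using hx)) (fun e => hr0 (by simpa [e] using hr))) hu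
    · exact DirectSum.decompose_of_mem_ne 𝒜 (SetLike.mul_mem_graded hr hx) h
  let S : Submodule k A := (𝒜 (-d)).map (δ : A →ₗ[k] A)
  have hδ0 : ∀ a ∈ 𝒜 0, δ a = 0 := fun a ha => by
    have := hhom 0 a ha
    rw [zero_add, hd] at this
    simpa using this
  have hS : ∀ a ∈ 𝒜 0, ∀ y ∈ S, a * y ∈ S := by
    rintro a ha _ ⟨s, hs, rfl⟩
    refine ⟨a * s, by simpa using SetLike.mul_mem_graded ha hs, ?_⟩
    show δ (a * s) = a * δ s
    rw [Derivation.leibniz, hδ0 a ha, smul_zero, add_zero, smul_eq_mul]
  have hproj : ∀ r x : A, GradedAlgebra.proj 𝒜 0 (r * x) =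
      GradedAlgebra.proj 𝒜 0 r * GradedAlgebra.proj 𝒜 0 x := by
    intro r x
    induction r using DirectSum.Decomposition.inductionOn 𝒜 with
    | zero => simp
    | add a b ha hb => simp only [add_mul, map_add, ha, hb]
    | homogeneous rw' =>
      rename_i w
      obtain ⟨r, hr⟩ := rw'
      induction x using DirectSum.Decomposition.inductionOn 𝒜 with
      | zero => simp
      | add a b ha hb => simp only [mul_add, map_add, ha, hb]
      | homogeneous xu =>
        rename_i u
        obtain ⟨x, hx⟩ := xu
        rcases eq_or_ne u 0 with rfl | hu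
        · rw [show GradedAlgebra.proj 𝒜 0 x = x from DirectSum.decompose_of_mem_same 𝒜 hx]
          rcases eq_or_ne w 0 with rfl | hw
          · rw [show GradedAlgebra.proj 𝒜 0 r = r from DirectSum.decompose_of_mem_same 𝒜 hr]
            exact DirectSum.decompose_of_mem_same 𝒜 (by simpa using SetLike.mul_mem_graded hr hx)
          · rw [show GradedAlgebra.proj 𝒜 0 r = 0 from DirectSum.decompose_of_mem_ne 𝒜 hr hw, zero_mul]
            exact DirectSum.decompose_of_mem_ne 𝒜 (by simpa using SetLike.mul_mem_graded hr hx) hw
        · rw [hmul0 w r u x hr hx hu, show GradedAlgebra.proj 𝒜 0 x = 0 from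
            DirectSum.decompose_of_mem_ne 𝒜 hx hu, mul_zero]
  let J : Ideal A :=
    { carrier := {x | GradedAlgebra.proj 𝒜 0 x ∈ S}
      zero_mem' := by simp
      add_mem' := fun {a b} ha hb => by
        show GradedAlgebra.proj 𝒜 0 (a + b) ∈ S
        rw [map_add]
        exact add_mem ha hb
      smul_mem' := fun r x hx => by
        show GradedAlgebra.proj 𝒜 0 (r * x) ∈ S
        rw [hproj]
        exact hS _ (SetLike.coe_mem _) _ hx }
  have hJ : J = ⊤ := by
    by_contra hne
    obtain ⟨m, hm, hJm⟩ := Ideal.exists_le_maximal J hne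
    refine hfix m hm (fun w hw a ha => hJm ?_) ?_
    · show GradedAlgebra.proj 𝒜 0 a ∈ S
      rw [show GradedAlgebra.proj 𝒜 0 a = 0 from DirectSum.decompose_of_mem_ne 𝒜 ha hw]
      exact zero_mem _
    · rintro _ ⟨a, rfl⟩
      refine hJm ?_
      show GradedAlgebra.proj 𝒜 0 (δ a) ∈ S
      induction a using DirectSum.Decomposition.inductionOn 𝒜 with
      | zero => simp
      | add a b ha hb => simp only [map_add]; exact add_mem ha hb
      | homogeneous aw =>
        rename_i w
        obtain ⟨a, ha⟩ := aw
        by_cases h : w + d = 0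
        · rw [show GradedAlgebra.proj 𝒜 0 (δ a) = δ a from
            DirectSum.decompose_of_mem_same 𝒜 (h ▸ hhom w a ha)]
          exact ⟨a, eq_neg_of_add_eq_zero_left h ▸ ha, rfl⟩
        · rw [show GradedAlgebra.proj 𝒜 0 (δ a) = 0 from DirectSum.decompose_of_mem_ne 𝒜 (hhom w a ha) h]
          exact zero_mem _
  have h1 : GradedAlgebra.proj 𝒜 0 (1 : A) ∈ S := (hJ ▸ Submodule.mem_top : (1 : A) ∈ J)
  rw [show GradedAlgebra.proj 𝒜 0 (1 : A) = 1 from
    DirectSum.decompose_of_mem_same 𝒜 SetLike.GradedOne.one_mem] at h1
  obtain ⟨s, hs, hs1⟩ := h1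
  exact ⟨s, hs, hs1⟩

end Groth.Agent.S15121
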