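import Groth.Statements.S15124
import Groth.Agent.Lib.WeightH28.Basic

set_option autoImplicit false
universe u v w
open InvQ

namespace Groth.Agent.S15124

/-- Let k be an algebraically closed field of characteristic zero, Λ a finitely generated free abelian
group with group algebra k[Λ] (the coordinate Hopf algebra of a torus T), and R a reduced finitely
generated commutative k-algebra with a multiplicative coaction of k[Λ] (an action of T on the affine
variety X = Spec R) whose grading monoid is positive: if R has non-zero eigenvectors of weights w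
and −w then w = 0. Let I be the ideal of R generated by all eigenvectors of non-zero weight (the
ideal of the fixed-point subscheme X^T). Then the composite of the inclusion of the ring of
invariants R^T into R with the projection R → R/I is bijective: the fixed-point subscheme maps
isomorphically onto the affine quotient Spec R^T. (The published statement phrases this as: X^T is
affine and X → X^T is a good quotient; the good-quotient property itself is not restated here.) -/
theorem result
    (k : Type u) [Field k] [IsAlgClosed k] [CharZero k]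
    (Λ : Type v) [AddCommGroup Λ] [Module.Free ℤ Λ] [Module.Finite ℤ Λ]
    (R : Type w) [CommRing R] [Algebra k R] [Algebra.FiniteType k R] [IsReduced R]
    [HopfRep.Comod k (AddMonoidAlgebra k Λ) R] [GLin.IsCoactAlg k (AddMonoidAlgebra k Λ) R]
    (hpos : ∀ w : Λ, HopfRep.eigenspace k (AddMonoidAlgebra k Λ) R (AddMonoidAlgebra.single w 1) ≠ ⊥ →
      HopfRep.eigenspace k (AddMonoidAlgebra k Λ) R (AddMonoidAlgebra.single (-w) 1) ≠ ⊥ → w = 0) :
    Function.Bijective
      ((Ideal.Quotient.mkₐ k (Ideal.span {f : R | ∃ w : Λ, w ≠ 0 ∧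
          f ∈ HopfRep.eigenspace k (AddMonoidAlgebra k Λ) R (AddMonoidAlgebra.single w 1)})).comp
        (GLin.invariants k (AddMonoidAlgebra k Λ) R).val) := by
  classical
  set I : Ideal R := Ideal.span {f : R | ∃ w : Λ, w ≠ 0 ∧
    f ∈ HopfRep.eigenspace k (AddMonoidAlgebra k Λ) R (AddMonoidAlgebra.single w 1)} with hI
  have hmul : ∀ {a b : Λ} {p q : R}, p ∈ HopfRep.eigenspace k (AddMonoidAlgebra k Λ) R (AddMonoidAlgebra.single a 1) →
      q ∈ HopfRep.eigenspace k (AddMonoidAlgebra k Λ) R (AddMonoidAlgebra.single b 1) →
      p * q ∈ HopfRep.eigenspace k (AddMonoidAlgebra k Λ) R (AddMonoidAlgebra.single (a + b) 1) := by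
    intro a b p q hp hq
    show HopfRep.Comod.coact (k := k) (A := AddMonoidAlgebra k Λ) (p * q) = _
    rw [GLin.IsCoactAlg.coact_mul, show HopfRep.Comod.coact (k := k) (A := AddMonoidAlgebra k Λ) p = _ from hp,
      show HopfRep.Comod.coact (k := k) (A := AddMonoidAlgebra k Λ) q = _ from hq, Algebra.TensorProduct.tmul_mul_tmul,
      AddMonoidAlgebra.single_mul_single, one_mul]
  have hkill : ∀ f ∈ I, WeightH28.part k (0 : Λ) f = 0 := by
    intro f hf
    suffices ∀ r, WeightH28.part k (0 : Λ) (r * f) = 0 by simpa using this 1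
    induction hf using Submodule.span_induction with
    | mem e he =>
      obtain ⟨w, hw, hew⟩ := he
      intro r
      obtain ⟨s, -, hsum, -⟩ := WeightH28.exists_sum_part (k := k) (M := Λ) r
      rw [← hsum, Finset.sum_mul, map_sum]
      refine Finset.sum_eq_zero fun b _ => ?_
      rw [WeightH28.part_of_mem (hmul (WeightH28.part_mem b r) hew)]
      split_ifs with hb
      · by_contra hne
        have hwb : b = -w := eq_neg_of_add_eq_zero_left hb
        refine hw (hpos w ((Submodule.ne_bot_iff _).2 ⟨e, hew, fun h => hne (by rw [h, mul_zero])⟩) ?_)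
        rw [← hwb]
        exact (Submodule.ne_bot_iff _).2 ⟨_, WeightH28.part_mem b r, fun h => hne (by rw [h, zero_mul])⟩
      · rfl
    | zero => simp
    | add p q _ _ hp hq => intro r; rw [mul_add, map_add, hp, hq, add_zero]
    | smul c p _ hp => intro r; rw [smul_eq_mul, ← mul_assoc]; exact hp _
  have hfixed : ∀ f : R, f ∈ GLin.invariants k (AddMonoidAlgebra k Λ) R ↔
      f ∈ HopfRep.eigenspace k (AddMonoidAlgebra k Λ) R (AddMonoidAlgebra.single (0 : Λ) 1) := fun f => by
    rw [← AddMonoidAlgebra.one_def]; rfl
  constructor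
  · rw [injective_iff_map_eq_zero]
    intro f hf
    refine Subtype.ext ?_
    have h0 := hkill f.1 (Ideal.Quotient.eq_zero_iff_mem.1 hf)
    rwa [WeightH28.part_of_mem ((hfixed _).1 f.2), if_pos rfl] at h0
  · intro y
    obtain ⟨f, rfl⟩ := Ideal.Quotient.mk_surjective y
    refine ⟨⟨WeightH28.part k (0 : Λ) f, (hfixed _).2 (WeightH28.part_mem 0 f)⟩, ?_⟩
    show Ideal.Quotient.mk I (WeightH28.part k (0 : Λ) f) = Ideal.Quotient.mk I f
    obtain ⟨s, hs, hsum, -⟩ := WeightH28.exists_sum_part (k := k) (M := Λ) f
    conv_rhs => rw [← hsum, map_sum]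
    rw [Finset.sum_eq_single (0 : Λ)]
    · intro b _ hb
      exact Ideal.Quotient.eq_zero_iff_mem.2 (Ideal.subset_span ⟨b, hb, WeightH28.part_mem b f⟩)
    · intro h; rw [hs 0 h, map_zero]

end Groth.Agent.S15124
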