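import Groth.Statements.S15123
import Groth.Agent.Lib.WeightH28.Basic
import Groth.Agent.Lib.Comodule.CoactAlg
import Groth.Agent.S15124
import Mathlib.RingTheory.Spectrum.Prime.Topology

set_option autoImplicit false
universe u v w
open InvQ

namespace Groth.Agent.S15123

/-- Let k be an algebraically closed field of characteristic zero, Λ a finitely generated free abelian
group and k[Λ] its group algebra, the coordinate Hopf algebra of the torus with character group Λ.
Let R be a reduced finitely generated commutative k-algebra with a multiplicative coaction of k[Λ]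
(an action of the torus on the affine variety Spec R), and suppose the grading monoid is positive:
if R has a non-zero eigenvector of weight w and one of weight −w then w = 0. Then for every k-point
x of Spec R, the orbit of x is closed if and only if x is a fixed point. (The published statement
also asserts that the fixed-point subvariety is affine and is a good quotient for the action; only
the description of the closed orbits is stated here.) -/
theorem result
    (k : Type u) [Field k] [IsAlgClosed k] [CharZero k]
    (Λ : Type v) [AddCommGroup Λ] [Module.Free ℤ Λ] [Module.Finite ℤ Λ]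
    (R : Type w) [CommRing R] [Algebra k R] [Algebra.FiniteType k R] [IsReduced R]
    [HopfRep.Comod k (AddMonoidAlgebra k Λ) R] [GLin.IsCoactAlg k (AddMonoidAlgebra k Λ) R]
    (hpos : ∀ w : Λ, HopfRep.eigenspace k (AddMonoidAlgebra k Λ) R (AddMonoidAlgebra.single w 1) ≠ ⊥ →
      HopfRep.eigenspace k (AddMonoidAlgebra k Λ) R (AddMonoidAlgebra.single (-w) 1) ≠ ⊥ → w = 0)
    (x : R →ₐ[k] k) :
    GLin.IsClosedOrbit k (AddMonoidAlgebra k Λ) x ↔ GLin.IsFixedPt k (AddMonoidAlgebra k Λ) x := by
  classical
  set A := AddMonoidAlgebra k Λ
  haveI : Nontrivial A := inferInstance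
  constructor
  · intro hx
    have horb : ∀ f : R, ∀ b : Λ, (GLin.orbitHom k A x f).coeff b = x (WeightH28.part k b f) := by
      intro f b
      rw [Comodule.orbitHom_apply]
      show _ = x (WeightH28.coef b (HopfRep.Comod.coact (k := k) (A := A) f))
      generalize HopfRep.Comod.coact (k := k) (A := A) f = z
      induction z with
      | zero => simp
      | tmul r a => simp [WeightH28.coef, mul_comm, A]
      | add p q hp hq => simp only [map_add]; rw [← hp, ← hq]; rfl
    let I : Ideal R := Ideal.span {f : R | ∃ w : Λ, w ≠ 0 ∧
      f ∈ HopfRep.eigenspace k A R (AddMonoidAlgebra.single w 1)}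
    obtain ⟨hinjI, hsurjI⟩ := Groth.Agent.S15124.result k Λ R hpos
    let e := AlgEquiv.ofBijective ((Ideal.Quotient.mkₐ k I).comp (GLin.invariants k A R).val) ⟨hinjI, hsurjI⟩
    let y : R →ₐ[k] k := (x.comp (GLin.invariants k A R).val).comp (e.symm.toAlgHom.comp (Ideal.Quotient.mkₐ k I))
    have hy0 : ∀ f, y f = x (WeightH28.part k (0 : Λ) f) := by
      intro f
      have hmem : WeightH28.part k (0 : Λ) f ∈ GLin.invariants k A R := by
        have := WeightH28.part_mem (k := k) (0 : Λ) f
        rw [← AddMonoidAlgebra.one_def] at this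
        exact this
      have he : e ⟨_, hmem⟩ = Ideal.Quotient.mk I f := by
        show Ideal.Quotient.mk I (WeightH28.part k (0 : Λ) f) = _
        obtain ⟨s, hs, hsum, -⟩ := WeightH28.exists_sum_part (k := k) (M := Λ) f
        conv_rhs => rw [← hsum, map_sum]
        rw [Finset.sum_eq_single (0 : Λ)]
        · intro b _ hb
          exact Ideal.Quotient.eq_zero_iff_mem.2 (Ideal.subset_span ⟨b, hb, WeightH28.part_mem b f⟩)
        · intro h; rw [hs 0 h, map_zero]
      show x (e.symm (Ideal.Quotient.mk I f) : R) = _
      rw [← he, AlgEquiv.symm_apply_apply]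
    have hp : (⟨RingHom.ker y, RingHom.ker_isPrime _⟩ : PrimeSpectrum R) ∈
        Set.range (PrimeSpectrum.comap (GLin.orbitHom k A x).toRingHom) := by
      rw [← hx.closure_eq, PrimeSpectrum.closure_range_comap]
      intro f hf
      have hf' : GLin.orbitHom k A x f = 0 := RingHom.mem_ker.1 hf
      show y f = 0
      rw [hy0, ← horb, hf']
      rfl
    obtain ⟨P, hP⟩ := hp
    have hzero : ∀ (w : Λ) (f : R), w ≠ 0 → x (WeightH28.part k w f) = 0 := by
      intro w f hw
      by_contra hne
      have hmem : WeightH28.part k w f ∈ RingHom.ker y := by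
        rw [RingHom.mem_ker, hy0, WeightH28.part_of_mem (WeightH28.part_mem w f), if_neg hw, map_zero]
      have h2 : GLin.orbitHom k A x (WeightH28.part k w f) ∈ P.asIdeal := by
        have : WeightH28.part k w f ∈ (PrimeSpectrum.comap (GLin.orbitHom k A x).toRingHom P).asIdeal := by
          rw [hP]; exact hmem
        exact this
      have h3 : GLin.orbitHom k A x (WeightH28.part k w f) = AddMonoidAlgebra.single w (x (WeightH28.part k w f)) := by
        rw [Comodule.orbitHom_apply,
          show HopfRep.Comod.coact (k := k) (A := A) (WeightH28.part k w f) = _ from WeightH28.part_mem w f]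
        simp [AddMonoidAlgebra.smul_single, A]
      rw [h3] at h2
      refine P.isPrime.ne_top (Ideal.eq_top_of_isUnit_mem _ h2 (IsUnit.of_mul_eq_one
        (AddMonoidAlgebra.single (-w) (x (WeightH28.part k w f))⁻¹) ?_))
      rw [AddMonoidAlgebra.single_mul_single, add_neg_cancel, mul_inv_cancel₀ hne, AddMonoidAlgebra.one_def]
    refine AlgHom.ext fun f => AddMonoidAlgebra.ext (Finsupp.ext fun b => ?_)
    rw [horb, AlgHom.comp_apply, Algebra.ofId_apply, AddMonoidAlgebra.coe_algebraMap, Function.comp_apply,
      AddMonoidAlgebra.coeff_single, Finsupp.single_apply]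
    split_ifs with h
    · subst h
      obtain ⟨s, hs, hsum, -⟩ := WeightH28.exists_sum_part (k := k) (M := Λ) f
      show x (WeightH28.part k (0 : Λ) f) = algebraMap k k (x f)
      rw [Algebra.algebraMap_self, RingHom.id_apply]
      conv_rhs => rw [← hsum, map_sum]
      rw [Finset.sum_eq_single (0 : Λ) (fun b _ hb => hzero b f hb) (fun h => by rw [hs 0 h, map_zero])]
    · exact hzero b f (Ne.symm h)
  · intro hfix
    show IsClosed _
    have hrange : Set.range (PrimeSpectrum.comap (GLin.orbitHom k A x).toRingHom) =
        {(⟨RingHom.ker x, RingHom.ker_isPrime _⟩ : PrimeSpectrum R)} := by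
      refine Set.eq_singleton_iff_nonempty_unique_mem.2 ⟨Set.range_nonempty _, ?_⟩
      rintro _ ⟨P, rfl⟩
      refine PrimeSpectrum.ext ?_
      ext f
      show GLin.orbitHom k A x f ∈ P.asIdeal ↔ x f = 0
      rw [show GLin.orbitHom k A x = (Algebra.ofId k A).comp x from hfix, AlgHom.comp_apply]
      refine ⟨fun h => by_contra fun hne => P.isPrime.ne_top ?_, fun h => by rw [h, map_zero]; exact zero_mem _⟩
      exact Ideal.eq_top_of_isUnit_mem _ h ((isUnit_iff_ne_zero.2 hne).map _)
    rw [hrange]
    exact (PrimeSpectrum.isClosed_singleton_iff_isMaximal _).2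
      (RingHom.ker_isMaximal_of_surjective x fun c => ⟨algebraMap k R c, by simp⟩)

end Groth.Agent.S15123
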