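import Groth.Statements.S15125
import Mathlib

set_option autoImplicit false
universe u
open scoped TensorProduct
open Fields

namespace Groth.Agent.S15125


section Aux
open TensorProduct

variable {K L : Type u} [Field K] [Field L] [Algebra K L]

theorem mem_pow_of_map_le {R S : Type*} [CommRing R] [CommRing S] (f : R →+* S) (J : Ideal R) (I : Ideal S)
    (h : ∀ z ∈ J, f z ∈ I) (n : ℕ) {z : R} (hz : z ∈ J ^ n) : f z ∈ I ^ n := by
  have h2 : (J ^ n).map f ≤ I ^ n := by
    rw [Ideal.map_pow]
    exact Ideal.pow_right_mono (Ideal.map_le_iff_le_comap.2 h) n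
  exact h2 (Ideal.mem_map_of_mem f hz)

theorem exists_derivation_eq_one {E : Type u} [Field E] [Algebra K E] (x : E)
    (hgen : IntermediateField.adjoin K {x} = ⊤) (h : ¬ IsSeparable K x) :
    ∃ D : Derivation K E E, D x = 1 := by
  haveI : Algebra.EssFiniteType K E :=
    IntermediateField.fg_top_iff.1 ⟨{x}, by simpa using hgen⟩
  have hnot : ¬ Algebra.FormallyUnramified K E := fun H => by
    haveI := Algebra.FormallyUnramified.isSeparable K E
    exact h (Algebra.IsSeparable.isSeparable K x)
  rw [Algebra.formallyUnramified_iff] at hnot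
  have hD : KaehlerDifferential.D K E x ≠ 0 := fun hx => by
    apply hnot
    have hz : ∀ y : E, KaehlerDifferential.D K E y = 0 := by
      intro y
      have hy : y ∈ IntermediateField.adjoin K ({x} : Set E) := hgen ▸ IntermediateField.mem_top
      induction hy using IntermediateField.adjoin_induction with
      | mem y hy => rw [Set.mem_singleton_iff] at hy; rw [hy, hx]
      | algebraMap r => exact Derivation.map_algebraMap _ r
      | add a b _ _ ha hb => rw [map_add, ha, hb, add_zero]
      | inv a _ ha => rw [Derivation.leibniz_inv, ha, smul_zero]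
      | mul a b _ _ ha hb => rw [Derivation.leibniz, ha, hb, smul_zero, smul_zero, add_zero]
    have hspan := KaehlerDifferential.span_range_derivation K E
    rw [show Set.range (KaehlerDifferential.D K E) = {0} by
      ext z; simp only [Set.mem_range, Set.mem_singleton_iff, hz, exists_const]; exact eq_comm,
      Submodule.span_zero_singleton] at hspan
    exact Submodule.subsingleton_iff _ |>.1 (subsingleton_of_bot_eq_top hspan)
  obtain ⟨ψ, hψ⟩ : ∃ ψ : (Ω[E⁄K]) →ₗ[E] E, ψ (KaehlerDifferential.D K E x) ≠ 0 := by
    by_contra hc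
    push Not at hc
    exact hD ((Module.forall_dual_apply_eq_zero_iff E _).1 hc)
  exact ⟨((ψ (KaehlerDifferential.D K E x))⁻¹ • ψ).compDer (KaehlerDifferential.D K E),
    inv_mul_cancel₀ hψ⟩

theorem exists_commutator_id (x : L) (h : ¬ IsSeparable K x) :
    ∃ φ : L →ₗ[K] L, ∀ z, φ (x * z) = x * φ z + z := by
  let E : IntermediateField K L := IntermediateField.adjoin K {x}
  let xE : E := ⟨x, IntermediateField.subset_adjoin K _ rfl⟩
  have hgen : IntermediateField.adjoin K {xE} = ⊤ := by
    apply IntermediateField.map_injective E.val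
    rw [IntermediateField.adjoin_map, ← AlgHom.fieldRange_eq_map, IntermediateField.fieldRange_val,
      Set.image_singleton]
    rfl
  have hsep : ¬ IsSeparable K xE := fun hs => h (by
    show (minpoly K (E.val xE)).Separable
    rw [minpoly.algHom_eq E.val E.val.injective xE]
    exact hs)
  obtain ⟨D, hD⟩ := exists_derivation_eq_one xE hgen hsep
  obtain ⟨⟨ι, B⟩⟩ := Module.Free.exists_basis (R := E) (M := L)
  refine ⟨(B.repr.symm.toLinearMap.restrictScalars K).comp
    ((Finsupp.mapRange.linearMap (D : E →ₗ[K] E)).comp (B.repr.toLinearMap.restrictScalars K)), fun z => ?_⟩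
  have hx : ∀ w : L, x * w = xE • w := fun w => rfl
  apply B.repr.injective
  ext i
  simp only [hx, LinearMap.comp_apply, LinearMap.coe_restrictScalars, LinearEquiv.coe_coe, map_add, map_smul,
    LinearEquiv.apply_symm_apply, Finsupp.mapRange.linearMap_apply, Finsupp.mapRange_apply, Finsupp.smul_apply,
    Finsupp.add_apply, smul_eq_mul, Derivation.coeFn_coe, Derivation.leibniz, hD, mul_one]

theorem main (hfg : (⊤ : IntermediateField K L).FG) (x : L) :
    AdicCompletion.of (KaehlerDifferential.ideal K L) (L ⊗[K] L) (x ⊗ₜ[K] (1 : L)) =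
        AdicCompletion.of (KaehlerDifferential.ideal K L) (L ⊗[K] L) ((1 : L) ⊗ₜ[K] x) ↔
      x ∈ separableClosure K L := by
  haveI : Algebra.EssFiniteType K L := IntermediateField.fg_top_iff.1 hfg
  haveI : IsNoetherianRing (L ⊗[K] L) := Algebra.EssFiniteType.isNoetherianRing L (L ⊗[K] L)
  set I := KaehlerDifferential.ideal K L
  set t : L ⊗[K] L := x ⊗ₜ[K] (1 : L) - (1 : L) ⊗ₜ[K] x
  rw [mem_separableClosure_iff]
  constructor
  · intro heq
    by_contra hx
    have ht : t ∈ (⨅ i : ℕ, I ^ i • ⊤ : Submodule (L ⊗[K] L) (L ⊗[K] L)) := by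
      rw [Submodule.mem_iInf]
      intro n
      exact (Submodule.Quotient.eq _).1 (congrArg (fun f => f.1 n) heq)
    obtain ⟨r, hr⟩ := (Ideal.mem_iInf_smul_pow_eq_bot_iff I t).1 ht
    obtain ⟨φ, hφ⟩ := exists_commutator_id x hx
    let P : L ⊗[K] L →ₗ[L] L :=
      TensorProduct.AlgebraTensorModule.lift ((LinearMap.lsmul L (L →ₗ[K] L)).flip φ)
    have hP : ∀ e f : L, P (e ⊗ₜ f) = e * φ f := fun e f => rfl
    have key : ∀ a : L ⊗[K] L, P (a * t) = - Algebra.TensorProduct.lmul' K a := by
      intro a
      induction a using TensorProduct.induction_on with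
      | zero => simp
      | tmul e f =>
        rw [mul_sub, Algebra.TensorProduct.tmul_mul_tmul, Algebra.TensorProduct.tmul_mul_tmul, map_sub, hP, hP,
          mul_one, mul_one, mul_comm f x, hφ, Algebra.TensorProduct.lmul'_apply_tmul]
        ring
      | add a b ha hb => rw [add_mul, map_add, map_add, ha, hb]; abel
    have h0 : P ((1 - (r : L ⊗[K] L)) * t) = 0 := by
      rw [sub_mul, one_mul, ← smul_eq_mul, hr, sub_self, map_zero]
    have hr0 : Algebra.TensorProduct.lmul' K (r : L ⊗[K] L) = (0 : L) := r.2
    rw [key, map_sub, map_one, hr0, sub_zero] at h0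
    exact one_ne_zero (neg_eq_zero.1 h0)
  · intro hx
    let E : IntermediateField K L := IntermediateField.adjoin K {x}
    haveI : Algebra.IsSeparable K E := (IntermediateField.isSeparable_adjoin_simple_iff_isSeparable K L).2 hx
    haveI : Algebra.FormallyUnramified K E := Algebra.FormallyUnramified.of_isSeparable K E
    have hJ : IsIdempotentElem (KaehlerDifferential.ideal K E) :=
      (Ideal.cotangent_subsingleton_iff _).1 (inferInstanceAs <| Subsingleton (Ω[E⁄K]))
    let xE : E := ⟨x, IntermediateField.subset_adjoin K _ rfl⟩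
    let Φ : E ⊗[K] E →ₐ[K] L ⊗[K] L := Algebra.TensorProduct.map E.val E.val
    have hle' : ∀ z ∈ KaehlerDifferential.ideal K E, Φ.toRingHom z ∈ I := by
      have hc : (Algebra.TensorProduct.lmul' K : L ⊗[K] L →ₐ[K] L).comp Φ =
          E.val.comp (Algebra.TensorProduct.lmul' K) :=
        Algebra.TensorProduct.ext' fun a b => by simp [Φ]
      intro z hz
      show (Algebra.TensorProduct.lmul' K : L ⊗[K] L →ₐ[K] L) (Φ z) = 0
      rw [← AlgHom.comp_apply, hc, AlgHom.comp_apply, RingHom.mem_ker.1 hz, map_zero]
    have htE : xE ⊗ₜ[K] (1 : E) - (1 : E) ⊗ₜ[K] xE ∈ KaehlerDifferential.ideal K E := by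
      simp [RingHom.mem_ker]
    have hmem : ∀ n, t ∈ I ^ n := by
      intro n
      have h1 : xE ⊗ₜ[K] (1 : E) - (1 : E) ⊗ₜ[K] xE ∈ KaehlerDifferential.ideal K E ^ n := by
        rcases n with _ | n
        · simp
        · rwa [hJ.pow_succ_eq]
      have h3 := mem_pow_of_map_le Φ.toRingHom (KaehlerDifferential.ideal K E) I hle' n h1
      simpa [Φ, t, xE] using h3
    refine AdicCompletion.ext fun n => ?_
    refine (Submodule.Quotient.eq _).2 ?_
    have := Submodule.smul_mem_smul (hmem n) (Submodule.mem_top (R := L ⊗[K] L) (x := (1 : L ⊗[K] L)))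
    simpa [smul_eq_mul] using hmem n

end Aux


/-- Let L be a finitely generated field extension of K, and I ⊆ L ⊗_K L the kernel of multiplication L
⊗_K L → L. An element x of L has the property that x ⊗ 1 and 1 ⊗ x have the same image in the I-adic
completion of L ⊗_K L if and only if x is separable algebraic over K. Equivalently, the equaliser of
the two natural maps from L to that completion is the separable algebraic closure of K in L. -/
theorem result
    (K L : Type u) [Field K] [Field L] [Algebra K L]
    (hfg : (⊤ : IntermediateField K L).FG) (x : L) :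
    AdicCompletion.of (KaehlerDifferential.ideal K L) (L ⊗[K] L) (x ⊗ₜ[K] (1 : L)) =
        AdicCompletion.of (KaehlerDifferential.ideal K L) (L ⊗[K] L) ((1 : L) ⊗ₜ[K] x) ↔
      x ∈ separableClosure K L := by
  exact main hfg x

end Groth.Agent.S15125
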