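import Groth.Statements.S15126
import Mathlib.RingTheory.Ideal.Quotient.Operations
import Mathlib.RingTheory.MvPowerSeries.Basic
import Mathlib.Algebra.MvPolynomial.Eval
import Mathlib.RingTheory.Adjoin.Basic
import Mathlib.Data.Set.Countable
import Mathlib.Data.Finsupp.Encodable

set_option autoImplicit false
universe u
open Formal

namespace Groth.Agent.S15126

/-- Affine case. Let k be a field, n > 0, and R a commutative algebra over the power series ring
k[[z_1,…,z_n]]; for a commutative k-algebra Q regard Q[[z_1,…,z_n]] as a k[[z]]-algebra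
coefficientwise. Then the functor Q ↦ Hom_{k[[z]]-alg}(R, Q[[z]]) on commutative k-algebras is
corepresentable: there exist a commutative k-algebra P and a k[[z]]-algebra homomorphism u : R →
P[[z]] such that every k[[z]]-algebra homomorphism R → Q[[z]] arises from u by applying a unique
k-algebra homomorphism P → Q coefficientwise. If moreover R is countably generated as a
k[[z]]-algebra, P may be taken countably generated over k. (The published statement is for an adic
formal scheme Y over the formal disc Spf k[[z]], asserting that the sheaf of sections of Y over the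
disc is a scheme, affine over the fibre of Y at the origin, and of pro-finite type when Y is; this
row is the case Y = Spf R, to which the published argument reduces, stated for the underlying
algebra R; k is algebraically closed there, which is not used.) -/
theorem result
    (k : Type u) [Field k] (n : ℕ) (hn : 0 < n)
    (R : Type u) [CommRing R] [Algebra (MvPowerSeries (Fin n) k) R] :
    ∃ (P : Type u) (_ : CommRing P) (_ : Algebra k P)
      (u : R →ₐ[MvPowerSeries (Fin n) k] MvPowerSeries (Fin n) P),
      (∀ (Q : Type u) [CommRing Q] [Algebra k Q]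
          (f : R →ₐ[MvPowerSeries (Fin n) k] MvPowerSeries (Fin n) Q),
          ∃! g : P →ₐ[k] Q,
            (MvPowerSeries.map (σ := Fin n) (g : P →+* Q)).comp (u : R →+* MvPowerSeries (Fin n) P) =
              (f : R →+* MvPowerSeries (Fin n) Q)) ∧
      ((∃ s : Set R, s.Countable ∧ Algebra.adjoin (MvPowerSeries (Fin n) k) s = ⊤) →
        ∃ t : Set P, t.Countable ∧ Algebra.adjoin k t = ⊤) := by
  classical
  let V := R × (Fin n →₀ ℕ)
  let F := MvPolynomial V k
  let u₀ : R → MvPowerSeries (Fin n) F := fun r d => MvPolynomial.X (r, d)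
  let G : Set (MvPowerSeries (Fin n) F) :=
    {u₀ 1 - 1} ∪ Set.range (fun p : R × R => u₀ (p.1 + p.2) - (u₀ p.1 + u₀ p.2)) ∪
      Set.range (fun p : R × R => u₀ (p.1 * p.2) - u₀ p.1 * u₀ p.2) ∪
      Set.range (fun c : MvPowerSeries (Fin n) k =>
        u₀ (algebraMap _ R c) - MvPowerSeries.map (algebraMap k F) c)
  let J : Ideal F := Ideal.span {x | ∃ g ∈ G, ∃ d, MvPowerSeries.coeff d g = x}
  let π : F →+* F ⧸ J := Ideal.Quotient.mk J
  have hG : ∀ g ∈ G, MvPowerSeries.map π g = 0 := fun g hg => by
    ext d
    rw [MvPowerSeries.coeff_map, map_zero, Ideal.Quotient.eq_zero_iff_mem]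
    exact Ideal.subset_span ⟨g, hg, d, rfl⟩
  have halg : ∀ (Q : Type u) [CommRing Q] [Algebra k Q] (c : MvPowerSeries (Fin n) k),
      algebraMap (MvPowerSeries (Fin n) k) (MvPowerSeries (Fin n) Q) c = MvPowerSeries.map (algebraMap k Q) c :=
    fun Q _ _ c => rfl
  have h1 : MvPowerSeries.map π (u₀ 1) = 1 := by
    have := hG _ (Or.inl (Or.inl (Or.inl rfl)))
    rwa [map_sub, map_one, sub_eq_zero] at this
  have hadd : ∀ r s, MvPowerSeries.map π (u₀ (r + s)) = MvPowerSeries.map π (u₀ r) + MvPowerSeries.map π (u₀ s) := fun r s => by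
    have := hG _ (Or.inl (Or.inl (Or.inr ⟨(r, s), rfl⟩)))
    rwa [map_sub, map_add, sub_eq_zero] at this
  have hmul : ∀ r s, MvPowerSeries.map π (u₀ (r * s)) = MvPowerSeries.map π (u₀ r) * MvPowerSeries.map π (u₀ s) := fun r s => by
    have := hG _ (Or.inl (Or.inr ⟨(r, s), rfl⟩))
    rwa [map_sub, map_mul, sub_eq_zero] at this
  have hc : ∀ c : MvPowerSeries (Fin n) k,
      MvPowerSeries.map π (u₀ (algebraMap _ R c)) = MvPowerSeries.map (algebraMap k (F ⧸ J)) c := fun c => by
    have := hG _ (Or.inr ⟨c, rfl⟩)
    rw [map_sub, sub_eq_zero] at this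
    rw [this]
    ext d
    rw [MvPowerSeries.coeff_map, MvPowerSeries.coeff_map, MvPowerSeries.coeff_map]
    rfl
  let u : R →ₐ[MvPowerSeries (Fin n) k] MvPowerSeries (Fin n) (F ⧸ J) :=
    { toFun := fun r => MvPowerSeries.map π (u₀ r)
      map_one' := h1
      map_mul' := hmul
      map_zero' := by
        have h := hadd 0 0
        rw [add_zero] at h
        exact left_eq_add.mp h
      map_add' := hadd
      commutes' := fun c => by rw [halg]; exact hc c }
  have hu : ∀ r d, MvPowerSeries.coeff d (u r) = π (MvPolynomial.X (r, d)) := fun r d => by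
    show MvPowerSeries.coeff d (MvPowerSeries.map π (u₀ r)) = _
    rw [MvPowerSeries.coeff_map]
    rfl
  refine ⟨F ⧸ J, inferInstance, inferInstance, u, fun Q _ _ f => ?_, ?_⟩
  · let e : F →ₐ[k] Q := MvPolynomial.aeval fun v : V => MvPowerSeries.coeff v.2 (f v.1)
    have he : ∀ r, MvPowerSeries.map (e : F →+* Q) (u₀ r) = f r := fun r => by
      ext d
      rw [MvPowerSeries.coeff_map]
      exact MvPolynomial.aeval_X _ _
    have hJ : ∀ x ∈ J, e x = 0 := fun x hx => by
      refine (Ideal.span_le.mpr ?_ : J ≤ RingHom.ker (e : F →+* Q)) hx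
      rintro _ ⟨g, hg, d, rfl⟩
      have h0 : MvPowerSeries.map (e : F →+* Q) g = 0 := by
        rcases hg with ((rfl | ⟨p, rfl⟩) | ⟨p, rfl⟩) | ⟨c, rfl⟩
        · rw [map_sub, he, map_one, map_one, sub_self]
        · rw [map_sub, map_add, he, he, he, map_add, sub_self]
        · rw [map_sub, map_mul, he, he, he, map_mul, sub_self]
        · rw [map_sub, he, AlgHom.commutes, halg, sub_eq_zero]
          ext d
          rw [MvPowerSeries.coeff_map, MvPowerSeries.coeff_map, MvPowerSeries.coeff_map]
          exact (e.commutes _).symm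
      show (e : F →+* Q) (MvPowerSeries.coeff d g) = 0
      rw [← MvPowerSeries.coeff_map, h0, map_zero]
    refine ⟨Ideal.Quotient.liftₐ J e hJ, ?_, fun g hg => ?_⟩
    · refine RingHom.ext fun r => MvPowerSeries.ext fun d => ?_
      show MvPowerSeries.coeff d (MvPowerSeries.map (Ideal.Quotient.liftₐ J e hJ : (F ⧸ J) →+* Q) (u r)) = _
      rw [MvPowerSeries.coeff_map, hu]
      exact MvPolynomial.aeval_X _ _
    · refine Ideal.Quotient.algHom_ext k (MvPolynomial.algHom_ext fun v => ?_)
      have h2 := congrArg (MvPowerSeries.coeff v.2) (RingHom.congr_fun hg v.1)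
      rw [RingHom.comp_apply, MvPowerSeries.coeff_map] at h2
      refine Eq.trans ?_ (h2.trans (MvPolynomial.aeval_X (fun w : V => MvPowerSeries.coeff w.2 (f w.1)) v).symm)
      exact congrArg g (hu v.1 v.2).symm
  · rintro ⟨s, hs, hgen⟩
    haveI := hs.to_subtype
    let t : Set (F ⧸ J) := Set.range fun p : s × (Fin n →₀ ℕ) => MvPowerSeries.coeff p.2 (u p.1)
    refine ⟨t, Set.countable_range _, ?_⟩
    let T := Algebra.adjoin k t
    have hall : ∀ r : R, ∀ d, MvPowerSeries.coeff d (u r) ∈ T := by
      intro r
      have hr : r ∈ Algebra.adjoin (MvPowerSeries (Fin n) k) s := hgen ▸ Algebra.mem_top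
      induction hr using Algebra.adjoin_induction with
      | mem x hx => exact fun d => Algebra.subset_adjoin ⟨(⟨x, hx⟩, d), rfl⟩
      | algebraMap c =>
        intro d
        rw [AlgHom.commutes, halg, MvPowerSeries.coeff_map]
        exact T.algebraMap_mem _
      | add x y _ _ hx hy => intro d; rw [map_add, map_add]; exact T.add_mem (hx d) (hy d)
      | mul x y _ _ hx hy =>
        intro d
        rw [map_mul, MvPowerSeries.coeff_mul]
        exact T.sum_mem fun p _ => T.mul_mem (hx _) (hy _)
    refine top_unique fun x _ => ?_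
    obtain ⟨x, rfl⟩ := Ideal.Quotient.mk_surjective x
    induction x using MvPolynomial.induction_on with
    | C a => exact T.algebraMap_mem a
    | add p q hp hq => rw [map_add]; exact T.add_mem (hp trivial) (hq trivial)
    | mul_X p v hp =>
      rw [map_mul]
      exact T.mul_mem (hp trivial) (hu v.1 v.2 ▸ hall v.1 v.2)

end Groth.Agent.S15126
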