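import Groth.Statements.S15128
import Mathlib.RingTheory.GradedAlgebra.Homogeneous.Ideal
import Mathlib.RingTheory.Artinian.Ring
import Mathlib.RingTheory.FiniteType
import Mathlib.RingTheory.IntegralClosure.IsIntegralClosure.Basic
import Mathlib.RingTheory.Localization.FractionRing
import Mathlib.RingTheory.Localization.Integral
import Mathlib.Algebra.Module.FinitePresentation
import Mathlib.RingTheory.Flat.Basic
import Mathlib.LinearAlgebra.Contraction
import Mathlib.RingTheory.LocalRing.Module
import Mathlib.RingTheory.Support
import Mathlib.RingTheory.FiniteLength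
import Mathlib.LinearAlgebra.Dimension.Finrank
import Mathlib.LinearAlgebra.FiniteDimensional.Basic
import Mathlib.Algebra.Ring.Action.Basic
import Mathlib.Algebra.GroupWithZero.Action.End
import Mathlib.RingTheory.HopkinsLevitzki
import Mathlib.Algebra.CharP.Invertible

set_option autoImplicit false
universe u v
open CAlg

namespace Groth.Agent.S15128
open TensorProduct

/-- Over an Artinian local ring A with residue field k, a linear map h between flat A-modules (of any
size) is injective, resp. surjective, as soon as its reduction k ⊗_A h is. (The published statement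
is for local Artinian algebras over an algebraically closed field of characteristic zero having that
field as residue field; this row allows any Artinian local ring.) -/
theorem result
    (A : Type u) [CommRing A] [IsLocalRing A] [IsArtinianRing A]
    (P L : Type v) [AddCommGroup P] [Module A P] [AddCommGroup L] [Module A L]
    [Module.Flat A P] [Module.Flat A L] (h : P →ₗ[A] L) :
    (Function.Injective (h.lTensor (IsLocalRing.ResidueField A)) → Function.Injective h) ∧
    (Function.Surjective (h.lTensor (IsLocalRing.ResidueField A)) → Function.Surjective h) := by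
  refine ⟨fun hi => ?_, fun hs => ?_⟩
  · have key : ∀ (X : Type u) [AddCommGroup X] [Module A X], IsFiniteLength A X → Function.Injective (h.lTensor X) := by
      intro X _ _ hX
      induction hX with
      | of_subsingleton => exact Function.injective_of_subsingleton _
      | @of_simple_quotient X _ _ N hsimp hN ih =>
        obtain ⟨I, hI, ⟨e⟩⟩ := isSimpleModule_iff_quot_maximal.1 hsimp
        have hIm : I = IsLocalRing.maximalIdeal A := IsLocalRing.eq_maximalIdeal hI
        subst hIm
        have hq : Function.Injective (h.lTensor (X ⧸ N)) := by
          have : h.lTensor (X ⧸ N) = ((TensorProduct.congr e.symm (LinearEquiv.refl A L)).toLinearMap ∘ₗ h.lTensor (IsLocalRing.ResidueField A)) ∘ₗ (TensorProduct.congr e (LinearEquiv.refl A P)).toLinearMap := by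
            apply TensorProduct.ext'
            intro x q
            simp only [LinearMap.lTensor_tmul, LinearMap.comp_apply, LinearEquiv.coe_coe, TensorProduct.congr_tmul, LinearEquiv.refl_apply]
            exact (congrArg (fun y => y ⊗ₜ[A] h q) (e.symm_apply_apply x)).symm
          rw [this]
          exact ((TensorProduct.congr e.symm (LinearEquiv.refl A L)).injective.comp hi).comp (TensorProduct.congr e (LinearEquiv.refl A P)).injective
        rw [injective_iff_map_eq_zero]
        intro z hz
        have hcomm : h.lTensor (X ⧸ N) (N.mkQ.rTensor P z) = N.mkQ.rTensor L (h.lTensor X z) := by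
          rw [← LinearMap.comp_apply, ← LinearMap.comp_apply, LinearMap.rTensor_comp_lTensor, LinearMap.lTensor_comp_rTensor]
        rw [hz, map_zero] at hcomm
        obtain ⟨y, rfl⟩ := ((rTensor_exact P (LinearMap.exact_subtype_mkQ N) N.mkQ_surjective) z).1 ((injective_iff_map_eq_zero _).1 hq _ hcomm)
        rw [← LinearMap.comp_apply, LinearMap.lTensor_comp_rTensor, ← LinearMap.rTensor_comp_lTensor, LinearMap.comp_apply] at hz
        have hinj := Module.Flat.rTensor_preserves_injective_linearMap (M := L) N.subtype N.injective_subtype
        rw [(injective_iff_map_eq_zero _).1 ih y ((injective_iff_map_eq_zero _).1 hinj _ hz), map_zero]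
    have hA := key A ((isArtinianRing_iff_isFiniteLength A).1 inferInstance)
    intro x y hxy
    have h2 : ((1 : A) ⊗ₜ[A] x) = (1 : A) ⊗ₜ[A] y := hA (by rw [LinearMap.lTensor_tmul, LinearMap.lTensor_tmul, hxy])
    simpa using congrArg (TensorProduct.lid A P) h2
  · rw [← LinearMap.range_eq_top, ← Submodule.Quotient.subsingleton_iff]
    have hk : Subsingleton (IsLocalRing.ResidueField A ⊗[A] (L ⧸ LinearMap.range h)) := by
      refine subsingleton_of_forall_eq 0 fun z => ?_
      obtain ⟨w, rfl⟩ := LinearMap.lTensor_surjective _ (LinearMap.range h).mkQ_surjective z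
      obtain ⟨y, rfl⟩ := hs w
      rw [← LinearMap.comp_apply, ← LinearMap.lTensor_comp, LinearMap.range_mkQ_comp, LinearMap.lTensor_zero, LinearMap.zero_apply]
    set M := L ⧸ LinearMap.range h
    set m := IsLocalRing.maximalIdeal A
    have : Subsingleton ((A ⧸ m) ⊗[A] M) := hk
    have h' : Subsingleton (M ⧸ m • (⊤ : Submodule A M)) :=
      (TensorProduct.quotTensorEquivQuotSMul M m).symm.toEquiv.subsingleton
    have htop : (⊤ : Submodule A M) = m • ⊤ :=
      (Submodule.Quotient.subsingleton_iff.1 h').symm
    have hn : ∀ n : ℕ, (⊤ : Submodule A M) = m ^ n • ⊤ := fun n => by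
      induction n with
      | zero => simp
      | succ n ih => rw [pow_succ, Submodule.mul_smul, ← htop, ← ih]
    obtain ⟨n, hn'⟩ : IsNilpotent m := by
      rw [show m = (⊥ : Ideal A).jacobson from (IsLocalRing.jacobson_eq_maximalIdeal ⊥ bot_ne_top).symm]
      exact IsArtinianRing.isNilpotent_jacobson_bot
    have := hn n
    rw [hn'] at this
    exact (Submodule.subsingleton_iff A).1 (subsingleton_of_top_le_bot (by rw [this]; simp))

end Groth.Agent.S15128
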