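import Groth.Statements.S15130
import Mathlib.RingTheory.Etale.Basic
import Mathlib.RingTheory.AdicCompletion.Basic
import Mathlib.RingTheory.Ideal.AssociatedPrime.Basic
import Mathlib.RingTheory.Ideal.Operations
import Mathlib.RingTheory.Support
import Mathlib.RingTheory.Spectrum.Prime.Basic
import Mathlib.RingTheory.Filtration
import Mathlib.RingTheory.Flat.Basic
import Mathlib.RingTheory.LocalRing.Module
import Mathlib.RingTheory.Localization.FractionRing
import Mathlib.LinearAlgebra.FiniteDimensional.Basic
import Groth.Agent.Lib.H2Alg.ArtinFlat

set_option autoImplicit false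
universe u v
open CAlg

namespace Groth.Agent.S15130
open TensorProduct

/-- Let A be an Artinian local ring with residue field k and P → Q → R → M → 0 a complex of A-modules
with P, Q, R flat which is exact at R and at M. If the reduced complex k ⊗ P → k ⊗ Q → k ⊗ R is
exact (the rest of the reduced sequence is then automatically exact), then M is flat and the
original complex is exact at Q as well. (The published statement is for local Artinian algebras over
an algebraically closed field of characteristic zero having that field as residue field; this row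
allows any Artinian local ring.) -/
theorem result
    (A : Type u) [CommRing A] [IsLocalRing A] [IsArtinianRing A]
    (P Q R M : Type v) [AddCommGroup P] [Module A P] [AddCommGroup Q] [Module A Q]
    [AddCommGroup R] [Module A R] [AddCommGroup M] [Module A M]
    [Module.Flat A P] [Module.Flat A Q] [Module.Flat A R]
    (f : P →ₗ[A] Q) (g : Q →ₗ[A] R) (h : R →ₗ[A] M)
    (hfg : g ∘ₗ f = 0) (hgh : Function.Exact g h) (hh : Function.Surjective h)
    (hred : Function.Exact (f.lTensor (IsLocalRing.ResidueField A)) (g.lTensor (IsLocalRing.ResidueField A))) :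
    Module.Flat A M ∧ Function.Exact f g := by
  have hle : LinearMap.range f ≤ LinearMap.ker g := LinearMap.range_le_ker_iff.2 hfg
  set gb := (LinearMap.range f).liftQ g hle
  have hcomp : gb ∘ₗ (LinearMap.range f).mkQ = g := Submodule.liftQ_mkQ _ _ _
  have hi : Function.Injective (gb.lTensor (IsLocalRing.ResidueField A)) := by
    rw [injective_iff_map_eq_zero]
    intro z hz
    obtain ⟨w, rfl⟩ := LinearMap.lTensor_surjective _ (LinearMap.range f).mkQ_surjective z
    rw [← LinearMap.comp_apply, ← LinearMap.lTensor_comp, hcomp] at hz
    obtain ⟨y, rfl⟩ := (hred w).1 hz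
    rw [← LinearMap.comp_apply, ← LinearMap.lTensor_comp, LinearMap.range_mkQ_comp, LinearMap.lTensor_zero, LinearMap.zero_apply]
  have hex : Function.Exact gb h := by
    intro y
    rw [hgh y]
    constructor
    · rintro ⟨x, rfl⟩; exact ⟨(LinearMap.range f).mkQ x, rfl⟩
    · rintro ⟨x, rfl⟩
      obtain ⟨x, rfl⟩ := (LinearMap.range f).mkQ_surjective x
      exact ⟨x, rfl⟩
  refine ⟨Groth.Agent.H2Alg.flat_of_exact_of_lTensor_residueField_injective gb h hh hex hi, fun x => ⟨fun hx => ?_, fun ⟨y, hy⟩ => hy ▸ LinearMap.congr_fun hfg y⟩⟩
  exact (Submodule.Quotient.mk_eq_zero _).1 ((injective_iff_map_eq_zero _).1 (Groth.Agent.H2Alg.injective_of_lTensor_residueField_injective gb hi) ((LinearMap.range f).mkQ x) hx)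

end Groth.Agent.S15130
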