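import Groth.Statements.S15131
import Groth.Agent.Lib.ArtFun.Action

set_option autoImplicit false
universe u v
open CategoryTheory
open ArtFun

namespace Groth.Agent.S15131

/-- Let k be a field and F a functor on local Artinian k-algebras with residue field k with F(k) a
single point, satisfying (H1) (the comparison map of A₁ ×_A A₂ is surjective when A₂ → A is a small
extension) and (H2) (it is bijective when A = k and A₂ = k[ε]). If the tangent space F(k[ε]) is a
single point then F is the one-point functor: every F(A) has exactly one element. (The converse is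
clear.) -/
theorem result
    {k : Type u} [Field k] (F : ArtFun.Art k k ⥤ Type v)
    (h0 : ArtFun.H0 F) (h1 : ArtFun.Hbar F) (h2 : ArtFun.Heps F)
    (ht : Subsingleton (ArtFun.TangentSpace F)) (A : ArtFun.Art k k) :
    Nonempty (F.obj A) ∧ Subsingleton (F.obj A) := by
  open Groth.Agent.ArtFunLib in
  refine ⟨⟨F.map (⟨Algebra.ofId k A, AlgHom.ext fun c => A.res.commutes c⟩ : ArtFun.Art.base k k ⟶ A) h0.1.some⟩,
    ⟨fun x y => ?_⟩⟩
  open Groth.Agent.ArtFunLib in
  exact @injective_of_tangent k k _ _ _ F (ArtFun.hR k (AlgHom.id k k)) (fun A _ => ⟨Algebra.ofId k A, AlgHom.ext fun c => A.res.commutes c⟩)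
    (fun f z => Subtype.ext (AlgHom.ext fun c => (f.toAlgHom.commutes c).symm)) h0 h1 h2
    (fun B A A' p₁ p₂ f h _ => ⟨fun z z' _ => Subtype.ext (AlgHom.ext fun c => (z.1.commutes c).trans (z'.1.commutes c).symm),
      fun w => ⟨⟨Algebra.ofId k B, AlgHom.ext fun c => B.res.commutes c⟩, ArtFun.FibProd.ext
        (Subtype.ext (AlgHom.ext fun c => (AlgHom.commutes _ c).trans (w.1.1.1.commutes c).symm))
        (Subtype.ext (AlgHom.ext fun c => (AlgHom.commutes _ c).trans (w.1.2.1.commutes c).symm))⟩⟩)
    (fun x y _ => @Subsingleton.elim _ ht x y) A x y rfl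

end Groth.Agent.S15131
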