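import Groth.Statements.S15132
import Groth.Agent.Lib.ArtFun.Action

set_option autoImplicit false
universe u v
open CategoryTheory
open ArtFun

namespace Groth.Agent.S15132

/-- Let k be a field and F a functor on local Artinian k-algebras with residue field k with F(k) a
single point. If F satisfies (H1), (H2) and (H4) — surjectivity of the comparison map F(A₁ ×_A A₂) →
F(A₁) ×_{F(A)} F(A₂) when A₂ → A is a small extension, bijectivity when A = k and A₂ = k[ε], and
bijectivity for A₂ ×_A A₂ with A₂ → A a small extension — then F is homogeneous: the comparison map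
is bijective for every fibre-product square in which A₂ → A is surjective. (The converse
implications are immediate.) -/
theorem result
    {k : Type u} [Field k] (F : ArtFun.Art k k ⥤ Type v)
    (h0 : ArtFun.H0 F) (h1 : ArtFun.Hbar F) (h2 : ArtFun.Heps F) (h4 : ArtFun.HSq F)
    ⦃B A A' A'' : ArtFun.Art k k⦄ (p' : B ⟶ A') (p'' : B ⟶ A'') (f' : A' ⟶ A) (f'' : A'' ⟶ A)
    (h : ArtFun.Art.IsFibreProd p' p'' f' f'') (hf : Function.Surjective f'') :
    Function.Bijective (ArtFun.cmp F h) := by
  exact Groth.Agent.ArtFunLib.rs_of_hbar_heps_hsq h1 h2 h4 p' p'' f' f'' h hf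

end Groth.Agent.S15132
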