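import Groth.Statements.S15133
import Groth.Agent.Lib.DMod.Homology
import Mathlib.RingTheory.Artinian.Module
import Mathlib.RingTheory.LocalRing.Module
import Mathlib.RingTheory.Nilpotent.Basic
import Groth.Agent.Lib.Hartogs3.Flat
import Mathlib.RingTheory.Flat.Basic
import Mathlib.Algebra.Category.ModuleCat.Monoidal.Basic
import Mathlib.CategoryTheory.Monoidal.Preadditive

set_option autoImplicit false
universe u
open CategoryTheory
open CAlg

namespace Groth.Agent.S15133
open CAlg

open CategoryTheory IsLocalRing TensorProduct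
open Groth.Agent

variable {A : Type u} [CommRing A] [IsLocalRing A] [IsArtinianRing A]

theorem eq_top_of_sup {M : Type u} [AddCommGroup M] [Module A M] (S : Submodule A M)
    (h : S ⊔ maximalIdeal A • ⊤ = ⊤) : S = ⊤ := by
  obtain ⟨N, hN⟩ : IsNilpotent (maximalIdeal A) := by
    rw [← IsLocalRing.jacobson_eq_maximalIdeal ⊥ bot_ne_top]
    exact IsArtinianRing.isNilpotent_jacobson_bot
  have key : ∀ i : ℕ, S ⊔ maximalIdeal A ^ i • ⊤ = ⊤ := by
    intro i
    induction i with
    | zero => simp
    | succ i ih =>
      refine top_le_iff.1 (ih.ge.trans (sup_le le_sup_left ?_))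
      conv_lhs => rw [← h]
      rw [Submodule.smul_sup, pow_succ, mul_smul]
      exact sup_le_sup_right Submodule.smul_le_right _
  have := key N
  rwa [hN, Ideal.zero_eq_bot, Submodule.bot_smul, sup_bot_eq] at this

theorem key_lemma {M F : Type u} [AddCommGroup M] [Module A M] [AddCommGroup F] [Module A F] [Module.Flat A F]
    (f : M →ₗ[A] F) (hf : Function.Injective (f.lTensor (ResidueField A))) :
    Module.Flat A M ∧ Module.Flat A (F ⧸ LinearMap.range f) := by
  classical
  obtain ⟨N, hN⟩ : IsNilpotent (maximalIdeal A) := by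
    rw [← IsLocalRing.jacobson_eq_maximalIdeal ⊥ bot_ne_top]
    exact IsArtinianRing.isNilpotent_jacobson_bot
  let k := ResidueField A
  have hmk : ∀ (P : Type u) [AddCommGroup P] [Module A P], Function.Surjective (TensorProduct.mk A k P 1) :=
    fun P _ _ => TensorProduct.mk_surjective A P k residue_surjective
  have hker : ∀ (P : Type u) [AddCommGroup P] [Module A P] (x : P), (1 : k) ⊗ₜ[A] x = 0 → x ∈ maximalIdeal A • (⊤ : Submodule A P) := by
    intro P _ _ x hx
    have hx' := (congrArg (TensorProduct.quotTensorEquivQuotSMul P (maximalIdeal A)) hx).trans (LinearEquiv.map_zero _)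
    have h2 : (Submodule.Quotient.mk x : P ⧸ maximalIdeal A • (⊤ : Submodule A P)) = 0 := by
      rw [← hx']
      exact ((TensorProduct.quotTensorEquivQuotSMul_mk_tmul (maximalIdeal A) 1 x).trans (by rw [one_smul])).symm
    exact (Submodule.Quotient.mk_eq_zero _).1 h2
  let b := Module.Free.chooseBasis k (k ⊗[A] M)
  choose w hw using fun i => hmk M (b i)
  let G := Module.Free.ChooseBasisIndex k (k ⊗[A] M) →₀ A
  let q : G →ₗ[A] M := Finsupp.linearCombination A w
  have hq : Function.Surjective q := by
    rw [← LinearMap.range_eq_top]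
    refine eq_top_of_sup _ (top_le_iff.1 fun m _ => ?_)
    obtain ⟨c, hc⟩ : ∃ c, Finsupp.linearCombination k b c = (1 : k) ⊗ₜ[A] m :=
      ⟨b.repr _, b.linearCombination_repr _⟩
    choose c' hc' using fun i => residue_surjective (c i)
    let g : G := c.support.sum fun i => Finsupp.single i (c' i)
    have hg : (1 : k) ⊗ₜ[A] (q g) = (1 : k) ⊗ₜ[A] m := by
      rw [← hc, Finsupp.linearCombination_apply k, Finsupp.sum, show q g = ∑ i ∈ c.support, c' i • w i from by
        simp only [q, g, map_sum]; exact Finset.sum_congr rfl fun i _ => Finsupp.linearCombination_single A (c' i) i, TensorProduct.tmul_sum]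
      refine Finset.sum_congr rfl fun i _ => ?_
      rw [TensorProduct.tmul_smul, ← hw i, TensorProduct.mk_apply, ← hc' i]
      exact (algebraMap_smul k (c' i) _).symm
    rw [show m = q g + (m - q g) by abel]
    exact Submodule.add_mem_sup ⟨g, rfl⟩ (hker M _ (by rw [TensorProduct.tmul_sub, hg, sub_self]))
  let bG : Module.Basis (Module.Free.ChooseBasisIndex k (k ⊗[A] M)) A G := Finsupp.basisSingleOne
  have hqk : Function.Injective (q.baseChange k) := by
    have e : q.baseChange k = ((bG.baseChange k).equiv b (Equiv.refl _)).toLinearMap := by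
      refine (bG.baseChange k).ext fun i => ?_
      rw [LinearEquiv.coe_coe, Module.Basis.equiv_apply, Module.Basis.baseChange_apply, LinearMap.baseChange_tmul]
      show (1 : k) ⊗ₜ[A] q (Finsupp.single i 1) = b i
      rw [Finsupp.linearCombination_single, one_smul]
      exact hw i
    rw [e]
    exact LinearEquiv.injective _
  haveI : Module.Free A F := Groth.Agent.Hartogs3.free_of_flat ⟨N, hN⟩ F
  let g := f ∘ₗ q
  have hg : Function.Injective (g.baseChange k) := by
    rw [LinearMap.baseChange_comp]
    exact hf.comp hqk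
  obtain ⟨L, hL⟩ := (g.baseChange k).exists_leftInverse_of_injective (LinearMap.ker_eq_bot.2 hg)
  let bF := Module.Free.chooseBasis A F
  choose r hr using fun i => hmk G (L ((1 : k) ⊗ₜ[A] bF i))
  let R' : F →ₗ[A] G := bF.constr A r
  have hR : ∀ y, (1 : k) ⊗ₜ[A] R' y = L ((1 : k) ⊗ₜ[A] y) := by
    have : (TensorProduct.mk A k G 1) ∘ₗ R' = (L.restrictScalars A) ∘ₗ (TensorProduct.mk A k F 1) :=
      bF.ext fun i => by
        rw [LinearMap.comp_apply, Module.Basis.constr_basis]
        exact hr i
    exact fun y => LinearMap.congr_fun this y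
  let ε : G →ₗ[A] G := LinearMap.id - R' ∘ₗ g
  have hε : ∀ x, ε x ∈ maximalIdeal A • (⊤ : Submodule A G) := by
    intro x
    refine hker G _ ?_
    show (1 : k) ⊗ₜ[A] (x - R' (g x)) = 0
    rw [TensorProduct.tmul_sub, hR, sub_eq_zero]
    exact (LinearMap.congr_fun hL ((1 : k) ⊗ₜ[A] x)).symm
  have hεN : ∀ i, ∀ x, (ε ^ i) x ∈ maximalIdeal A ^ i • (⊤ : Submodule A G) := by
    intro i
    induction i with
    | zero => intro x; simp
    | succ i ih =>
      intro x
      rw [show (ε ^ (i + 1)) x = (ε ^ i) (ε x) from LinearMap.congr_fun (pow_succ ε i) x]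
      have h1 := Submodule.mem_map_of_mem (f := (ε ^ i : G →ₗ[A] G)) (hε x)
      rw [Submodule.map_smul''] at h1
      rw [pow_succ', mul_smul]
      refine Submodule.smul_mono le_rfl ?_ h1
      rintro _ ⟨y, -, rfl⟩
      exact ih y
  have hu : IsUnit (1 - ε : Module.End A G) := by
    refine IsNilpotent.isUnit_one_sub (R := Module.End A G) (r := (ε : Module.End A G)) ⟨N, LinearMap.ext fun x => ?_⟩
    have := hεN N x
    rwa [hN, Ideal.zero_eq_bot, Submodule.bot_smul, Submodule.mem_bot] at this
  have hbij : Function.Bijective (R' ∘ₗ g) := by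
    have := (Module.End.isUnit_iff _).1 hu
    have e : (R' ∘ₗ g : G →ₗ[A] G) = LinearMap.id - ε := (sub_sub_cancel LinearMap.id (R' ∘ₗ g)).symm
    rw [e]
    exact this
  let E := LinearEquiv.ofBijective (R' ∘ₗ g) hbij
  have hqi : Function.Injective q := fun x y h => hbij.1 (by simp [g, h])
  let eq' := LinearEquiv.ofBijective q ⟨hqi, hq⟩
  haveI : Module.Flat A G := inferInstance
  refine ⟨Module.Flat.of_linearEquiv eq'.symm, ?_⟩
  let P : F →ₗ[A] F := LinearMap.id - g ∘ₗ E.symm.toLinearMap ∘ₗ R'
  have hP : ∀ y, (LinearMap.range f).mkQ (P y) = (LinearMap.range f).mkQ y := fun y => by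
    rw [LinearMap.sub_apply, map_sub, LinearMap.id_apply, sub_eq_self]
    exact (Submodule.Quotient.mk_eq_zero _).2 ⟨_, rfl⟩
  have hPf : LinearMap.range f ≤ LinearMap.ker P := by
    rintro _ ⟨m, rfl⟩
    obtain ⟨z, rfl⟩ := hq m
    have : E.symm (R' (g z)) = z := E.symm_apply_apply z
    show g z - g (E.symm (R' (g z))) = 0
    rw [this, sub_self]
  refine Module.Flat.of_retract ((LinearMap.range f).liftQ P hPf) (LinearMap.range f).mkQ ?_
  refine Submodule.linearMap_qext _ (LinearMap.ext fun y => ?_)
  exact hP y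

/-- Let A be an Artinian local ring with residue field k, n ≥ 1, and 0 → I → P₀ → P₁ → ⋯ → Pₙ a complex
of A-modules with P₀, …, Pₙ flat whose reduction 0 → k ⊗ I → k ⊗ P₀ → ⋯ → k ⊗ Pₙ is exact. Then I
and coker(Pₙ₋₁ → Pₙ) are flat. The complex is written as a cochain complex C indexed by ℕ with C⁰ =
I and Cⁱ⁺¹ = Pᵢ; its terms in degrees above n + 1 play no role. (The published statement adds that I
maps onto the kernel of k ⊗ P₀ → k ⊗ P₁, which is already part of the exactness hypothesis, and is
for local Artinian algebras over an algebraically closed field of characteristic zero having that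
field as residue field; this row allows any Artinian local ring.) -/
theorem result
    (A : Type u) [CommRing A] [IsLocalRing A] [IsArtinianRing A] (n : ℕ) (hn : 0 < n)
    (C : CochainComplex (ModuleCat.{u} A) ℕ)
    (hflat : ∀ i, i ≤ n → Module.Flat A (C.X (i + 1)))
    (hred : ∀ j, j ≤ n →
      (((MonoidalCategory.tensorLeft (ModuleCat.of A (IsLocalRing.ResidueField A))).mapHomologicalComplex
        (ComplexShape.up ℕ)).obj C).ExactAt j) :
    Module.Flat A (C.X 0) ∧ Module.Flat A (C.X (n + 1) ⧸ LinearMap.range (C.d n (n + 1)).hom) := by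
  classical
  have h0 : Function.Injective ((C.d 0 1).hom.lTensor (ResidueField A)) := by
    have h := hred 0 (Nat.zero_le n)
    rw [DMod.exactAt_iff_subsingleton, DMod.subsingleton_homology_iff (i := 0) (k := 1) _
      (CochainComplex.prev_nat_zero) (CochainComplex.next ℕ 0)] at h
    refine (injective_iff_map_eq_zero _).2 fun x hx => ?_
    obtain ⟨y, hy⟩ := h x hx
    rw [← hy]
    simp
    rfl
  haveI : Module.Flat A (C.X 1) := hflat 0 (Nat.zero_le n)
  have h1 := key_lemma (C.d 0 1).hom h0
  refine ⟨h1.1, ?_⟩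
  have key : ∀ j, j ≤ n → Module.Flat A (C.X (j + 1) ⧸ LinearMap.range (C.d j (j + 1)).hom) := by
    intro j
    induction j with
    | zero => exact fun _ => h1.2
    | succ j ih =>
      intro hj
      haveI := ih (by omega)
      haveI := hflat (j + 1) hj
      let f : (C.X (j + 1) ⧸ LinearMap.range (C.d j (j + 1)).hom) →ₗ[A] C.X (j + 1 + 1) :=
        (LinearMap.range (C.d j (j + 1)).hom).liftQ (C.d (j + 1) (j + 1 + 1)).hom (by
          rintro _ ⟨y, rfl⟩
          exact LinearMap.congr_fun (congrArg ModuleCat.Hom.hom (C.d_comp_d j (j + 1) (j + 1 + 1))) y)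
      have hinj : Function.Injective (f.lTensor (ResidueField A)) := by
        have h := hred (j + 1) hj
        rw [DMod.exactAt_iff_subsingleton, DMod.subsingleton_homology_iff (i := j) (k := j + 1 + 1) _
          (CochainComplex.prev_nat_succ j) (CochainComplex.next ℕ (j + 1))] at h
        refine (injective_iff_map_eq_zero _).2 fun x hx => ?_
        obtain ⟨x, rfl⟩ := LinearMap.lTensor_surjective (ResidueField A) (Submodule.mkQ_surjective _) x
        rw [← LinearMap.comp_apply, ← LinearMap.lTensor_comp, Submodule.liftQ_mkQ] at hx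
        obtain ⟨y, hy⟩ := h x hx
        rw [← hy]
        show (LinearMap.range (C.d j (j + 1)).hom).mkQ.lTensor (ResidueField A) ((C.d j (j + 1)).hom.lTensor (ResidueField A) y) = 0
        refine (LinearMap.congr_fun (LinearMap.lTensor_comp (ResidueField A) (LinearMap.range (C.d j (j + 1)).hom).mkQ (C.d j (j + 1)).hom) y).symm.trans ?_
        rw [LinearMap.range_mkQ_comp, LinearMap.lTensor_zero]
        rfl
      have h2 := (key_lemma f hinj).2
      rwa [show LinearMap.range f = LinearMap.range (C.d (j + 1) (j + 1 + 1)).hom from Submodule.range_liftQ _ _ _] at h2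
  exact key n le_rfl

end Groth.Agent.S15133
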