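import Groth.Statements.S15134
import Groth.Agent.Lib.ArtFun.Basic

set_option autoImplicit false
universe u v
open CategoryTheory
open ArtFun

namespace Groth.Agent.S15134

open ArtFun ArtFun.Art Groth.Agent.ArtFunLib in
theorem diag_lift {k : Type u} [Field k]
    ⦃B A : ArtFun.Art k k⦄ (f : B ⟶ A) (hf : ArtFun.Art.IsSmallExt f)
    ⦃P : ArtFun.Art k k⦄ (p₁ p₂ : P ⟶ B)
    (hP : ArtFun.Art.IsFibreProd p₁ p₂ (ArtFun.Art.toBase B) (ArtFun.Art.toBase B))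
    ⦃Q : ArtFun.Art k k⦄ (q₁ q₂ : Q ⟶ A)
    (hQ : ArtFun.Art.IsFibreProd q₁ q₂ (ArtFun.Art.toBase A) (ArtFun.Art.toBase A))
    (r : P ⟶ Q) (hr₁ : r ≫ q₁ = p₁ ≫ f) (hr₂ : r ≫ q₂ = p₂ ≫ f)
    (hK : Ideal.span {z : P | p₁ z = p₂ z ∧ f (p₁ z) = 0} ≤ IsLocalRing.maximalIdeal P)
    (hKr : Ideal.span {z : P | p₁ z = p₂ z ∧ f (p₁ z) = 0} ≤ RingHom.ker r.toAlgHom) :
    ∃ δ : A ⟶ ArtFun.Art.quot P (Ideal.span {z : P | p₁ z = p₂ z ∧ f (p₁ z) = 0}) hK,
      δ ≫ ArtFun.Art.quotFactor hK r hKr ≫ q₁ = 𝟙 A ∧ δ ≫ ArtFun.Art.quotFactor hK r hKr ≫ q₂ = 𝟙 A := by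
  let ΔB : B ⟶ P := fibLift hP (𝟙 B) (𝟙 B) rfl
  have h1 : ∀ b, p₁ (ΔB b) = b := fun b => congr_hom (fibLift_fst hP (𝟙 B) (𝟙 B) rfl) b
  have h2 : ∀ b, p₂ (ΔB b) = b := fun b => congr_hom (fibLift_snd hP (𝟙 B) (𝟙 B) rfl) b
  refine ⟨descHom f hf.1 (ΔB ≫ quotMk P _ hK) fun j hj => ?_, ?_, ?_⟩
  · exact Ideal.Quotient.eq_zero_iff_mem.2 (Ideal.subset_span ⟨(h1 j).trans (h2 j).symm, (congrArg f.toAlgHom (h1 j)).trans hj⟩)
  all_goals
    refine epi_of_surjective f hf.1 ?_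
    rw [← Category.assoc, descHom_fac, Category.assoc, ← Category.assoc (quotMk P _ hK),
      quotMk_quotFactor, Category.comp_id]
  · rw [hr₁, ← Category.assoc, fibLift_fst, Category.id_comp]
  · rw [hr₂, ← Category.assoc, fibLift_snd, Category.id_comp]



/-- Let k be a field and F a functor on local Artinian k-algebras with residue field k with F(k) a
point. If F satisfies (H2') — the comparison map F(A₁ ×_k A₂) → F(A₁) × F(A₂) is bijective for every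
pair of objects — then F satisfies condition (L): for every small extension f : B → A with kernel J,
writing P = B ×_k B, Q = A ×_k A, r : P → Q for the map induced by f, and C = P/K with K the ideal
of P consisting of the pairs (b, b) with b ∈ J, every element of F(Q) whose two images in F(A) agree
lifts along F(C) → F(Q). Here P and Q are pinned as fibre products over k, K is described through
the two projections, and the two inequalities on K (it lies in the maximal ideal of P and is killed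
by r), which always hold, are taken as hypotheses so that the quotient object and the factored map
can be named. -/
theorem result
    {k : Type u} [Field k] (F : ArtFun.Art k k ⥤ Type v) (h0 : ArtFun.H0 F)
    (h2' : ∀ ⦃P A' A'' : ArtFun.Art k k⦄ (p' : P ⟶ A') (p'' : P ⟶ A'')
      (h : ArtFun.Art.IsFibreProd p' p'' (ArtFun.Art.toBase A') (ArtFun.Art.toBase A'')),
      Function.Bijective (ArtFun.cmp F h))
    ⦃B A : ArtFun.Art k k⦄ (f : B ⟶ A) (hf : ArtFun.Art.IsSmallExt f)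
    ⦃P : ArtFun.Art k k⦄ (p₁ p₂ : P ⟶ B)
    (hP : ArtFun.Art.IsFibreProd p₁ p₂ (ArtFun.Art.toBase B) (ArtFun.Art.toBase B))
    ⦃Q : ArtFun.Art k k⦄ (q₁ q₂ : Q ⟶ A)
    (hQ : ArtFun.Art.IsFibreProd q₁ q₂ (ArtFun.Art.toBase A) (ArtFun.Art.toBase A))
    (r : P ⟶ Q) (hr₁ : r ≫ q₁ = p₁ ≫ f) (hr₂ : r ≫ q₂ = p₂ ≫ f)
    (hK : Ideal.span {z : P | p₁ z = p₂ z ∧ f (p₁ z) = 0} ≤ IsLocalRing.maximalIdeal P)
    (hKr : Ideal.span {z : P | p₁ z = p₂ z ∧ f (p₁ z) = 0} ≤ RingHom.ker r.toAlgHom)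
    (y : F.obj Q) (hy : F.map q₁ y = F.map q₂ y) :
    ∃ z : F.obj (ArtFun.Art.quot P (Ideal.span {z : P | p₁ z = p₂ z ∧ f (p₁ z) = 0}) hK),
      F.map (ArtFun.Art.quotFactor hK r hKr) z = y := by
  obtain ⟨δ, hδ₁, hδ₂⟩ := diag_lift f hf p₁ p₂ hP q₁ q₂ hQ r hr₁ hr₂ hK hKr
  refine ⟨F.map δ (F.map q₁ y), (h2' q₁ q₂ hQ).1 (Subtype.ext (Prod.ext ?_ ?_))⟩
  · change F.map q₁ (F.map _ (F.map δ (F.map q₁ y))) = F.map q₁ y
    rw [← Functor.map_comp_apply, ← Functor.map_comp_apply, hδ₁, Functor.map_id_apply]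
  · change F.map q₂ (F.map _ (F.map δ (F.map q₁ y))) = F.map q₂ y
    rw [← Functor.map_comp_apply, ← Functor.map_comp_apply, hδ₂, Functor.map_id_apply, hy]

end Groth.Agent.S15134
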