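import Groth.Statements.S15136
import Groth.Agent.Lib.ArInter.Model
import Groth.Agent.Lib.DVRTriv4.Seq
import Groth.Agent.Lib.CurveCoh17.LES

set_option autoImplicit false
universe u
open CategoryTheory CategoryTheory.Limits AlgebraicGeometry Opposite
open Models

namespace Groth.Agent.S15136

open TopologicalSpace Opposite in
/-- The inclusion of the ideal cut out by a monomorphism into the structure sheaf. -/
theorem exists_iso_ofMono {Y : Scheme.{u}} {D : Y.Modules} (φ : D ⟶ Coh.structureModule Y) [Coh.IsQCoh D] [Mono φ] :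
    ∃ ψ : D ≅ ClSub.idealMod (SecDiv.ofMono φ), ψ.hom ≫ ClSub.idealModι (SecDiv.ofMono φ) = φ := by
  let I := SecDiv.ofMono φ
  have h0 : φ ≫ ClSub.toSubscheme I = 0 := by
    refine (Scheme.Modules.hom_ext _ _ fun U => ?_)
    ext a
    choose V hV hxV hVU using fun x : U => exists_isAffineOpen_mem_and_subset (U := U) x.2
    refine M1.modules_eq_of_locally_eq _ U V hVU (fun x hx => Opens.mem_iSup.mpr ⟨⟨x, hx⟩, hxV ⟨x, hx⟩⟩) _ _
      fun x => ?_
    refine ((M1.map_app_eq (φ ≫ ClSub.toSubscheme I) (hVU x) a).symm.trans ?_).trans (map_zero _).symm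
    change I.subschemeι.app (V x) (φ.app (V x) _) = 0
    have hm : (show Γ(Y, V x) from φ.app (V x) (M1.mres D (hVU x) a)) ∈ I.ideal ⟨V x, hV x⟩ := ⟨_, rfl⟩
    rw [← I.ker_subschemeι, Scheme.Hom.ker_apply] at hm
    exact RingHom.mem_ker.mp hm
  let ψ : D ⟶ ClSub.idealMod I := kernel.lift _ φ h0
  have hψ : ψ ≫ ClSub.idealModι I = φ := kernel.lift_ι _ _ _
  haveI : Mono ψ := mono_of_mono_fac hψ
  haveI : Epi ψ := by
    refine (M1.epi_iff_locally_surjective ψ).mpr fun U t x hx => ?_
    obtain ⟨W, hW, hxW, hWU⟩ := exists_isAffineOpen_mem_and_subset (U := U) hx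
    obtain ⟨b, hb⟩ := (M2.range_idealIncl I ⟨W, hW⟩).le ⟨M2.res _ hWU t, rfl⟩
    refine ⟨W, hWU, hxW, b, M2.idealIncl_injective I W (Eq.trans ?_ hb)⟩
    exact congrArg (fun g => g.app W b) hψ
  haveI : IsIso ψ := isIso_of_mono_of_epi ψ
  exact ⟨asIso ψ, hψ⟩

/-- Multiplication by a nonzero element of the base is injective on a flat scheme. -/
theorem mono_smulMod {R : Type u} [CommRing R] [IsDomain R] {X : Scheme.{u}} [X.Over (Spec (CommRingCat.of R))]
    [Flat (X ↘ Spec (CommRingCat.of R))] {r : R} (hr : r ≠ 0) :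
    Mono (M1.secHom (M := Coh.structureModule X) (Coh.toGlobal (X ↘ Spec (CommRingCat.of R)) r)) := by
  refine (M1.mono_iff_app _).mpr fun U => (injective_iff_map_eq_zero _).mpr fun (a : Γ(X, U)) ha => ?_
  replace ha := (Twist.secHom_app (M := Coh.structureModule X) (Coh.toGlobal (X ↘ Spec (CommRingCat.of R)) r) U a).symm.trans ha
  choose W hW hxW hWU using fun x : U => exists_isAffineOpen_mem_and_subset (U := U) x.2
  refine TopCat.Sheaf.eq_of_locally_eq' X.sheaf W U (fun x => homOfLE (hWU x))
    (fun x hx => TopologicalSpace.Opens.mem_iSup.mpr ⟨⟨x, hx⟩, hxW _⟩) a 0 fun x => ?_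
  refine Eq.trans ?_ (map_zero _).symm
  let f := X ↘ Spec (CommRingCat.of R)
  have hf : (f.appLE ⊤ (W x) le_top).hom.Flat := Flat.flat_appLE f (isAffineOpen_top _) (hW x) le_top
  letI := (f.appLE ⊤ (W x) le_top).hom.toAlgebra
  haveI : Module.Flat Γ(Spec (CommRingCat.of R), ⊤) Γ(X, W x) := hf
  have hreg : IsSMulRegular Γ(X, W x) ((Scheme.ΓSpecIso (CommRingCat.of R)).inv r) := by
    refine IsSMulRegular.of_flat ?_
    refine IsRegular.left (isRegular_iff_ne_zero'.mpr fun h => hr ?_)
    exact (ConcreteCategory.bijective_of_isIso (Scheme.ΓSpecIso (CommRingCat.of R)).inv).1 (h.trans (map_zero _).symm)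
  refine hreg (a₂ := 0) (Eq.trans ?_ (smul_zero _).symm)
  show f.appLE ⊤ (W x) le_top ((Scheme.ΓSpecIso (CommRingCat.of R)).inv r) * X.presheaf.map (homOfLE (hWU x)).op a = 0
  have hc : f.appLE ⊤ (W x) le_top ((Scheme.ΓSpecIso (CommRingCat.of R)).inv r) =
      X.presheaf.map (homOfLE (hWU x)).op (X.presheaf.map (homOfLE (le_top : U ≤ ⊤)).op (Coh.toGlobal f r)) := by
    have e : f.appLE ⊤ (W x) le_top = f.app ⊤ ≫ (X.presheaf.map (homOfLE (le_top : U ≤ ⊤)).op ≫
        X.presheaf.map (homOfLE (hWU x)).op) := by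
      exact congrArg (f.app ⊤ ≫ ·) (X.presheaf.map_comp (homOfLE (le_top : U ≤ ⊤)).op (homOfLE (hWU x)).op)
    exact congrArg (fun φ => φ.hom ((Scheme.ΓSpecIso (CommRingCat.of R)).inv r)) e
  have h2 := congrArg (X.presheaf.map (homOfLE (hWU x)).op)
    (show a * X.presheaf.map (homOfLE (le_top : U ≤ ⊤)).op (Coh.toGlobal f r) = 0 from ha)
  rw [map_mul, map_zero, ← hc, mul_comm] at h2
  exact h2

theorem secHom_eq_smulMod {R : Type u} [CommRing R] {X : Scheme.{u}} [X.Over (Spec (CommRingCat.of R))] (r : R) :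
    M1.secHom (M := Coh.structureModule X) (Coh.toGlobal (X ↘ Spec (CommRingCat.of R)) r) =
      Formal.smulMod R (Coh.structureModule X) r := by
  refine M1.unit_hom_ext ?_
  refine (M1.secHom_app_one (M := Coh.structureModule X) (Coh.toGlobal (X ↘ Spec (CommRingCat.of R)) r)).trans ?_
  show _ = (X.presheaf.map (homOfLE (le_top : ⊤ ≤ ⊤)).op (Coh.toGlobal (X ↘ Spec (CommRingCat.of R)) r)) * (1 : Γ(X, ⊤))
  rw [mul_one]
  exact (M1.mres_id (Coh.structureModule X) le_rfl _).symm

/-- Let R be a discrete valuation ring with residue field k and let X be a scheme proper and flat over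
Spec R, with closed fibre X_s = X ×_R Spec k, the closed subscheme cut out by the ideal sheaf 𝔪_R ·
O_X. Then X is cohomologically flat over R in dimension 0, in the sense that the restriction map
H^0(X, O_X) → H^0(X_s, O_{X_s}) is surjective (equivalently H^0(X, O_X) ⊗_R k ≅ H^0(X_s, O_{X_s})),
precisely when H^1(X, O_X) has no R-torsion. (The published statement is for a proper relative curve
over R, normal with smooth geometrically connected generic fibre and with the fraction field of R of
characteristic zero, and phrases cohomological flatness as the formation of the direct image of O_X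
commuting with every base change; the argument uses only properness and flatness, and for X proper
and flat over R that condition amounts to surjectivity onto the sections of the closed fibre, which
is the form taken here.) -/
theorem result (R : Type u) [CommRing R] [IsDomain R]
    [IsDiscreteValuationRing R] (X : Scheme.{u}) [X.Over (Spec (CommRingCat.of R))]
    [IsProper (X ↘ Spec (CommRingCat.of R))] [Flat (X ↘ Spec (CommRingCat.of R))] :
    Function.Surjective (Sheaf.H.map ((SheafOfModules.toSheaf X.ringCatSheaf).map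
      (ClSub.toSubscheme (Models.specialFibreIdeal R (Over.mk (X ↘ Spec (CommRingCat.of R)))))) 0) ↔
      NoZeroSMulDivisors R (Coh.HH X (Coh.structureModule X) 1) := by
  obtain ⟨π, hπ⟩ := IsDiscreteValuationRing.exists_irreducible R
  let X' : Over (Spec (CommRingCat.of R)) := Over.mk (X ↘ Spec (CommRingCat.of R))
  rw [Groth.Agent.ArInter.specialFibreIdeal_eq (Xo := X') π hπ]
  let φ := M1.secHom (M := Coh.structureModule X) (Coh.toGlobal (X ↘ Spec (CommRingCat.of R)) π)
  haveI : Mono φ := mono_smulMod hπ.ne_zero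
  haveI := M1.isQCoh_structureModule X
  obtain ⟨ψ, hψ⟩ := exists_iso_ofMono φ
  let I := SecDiv.ofMono φ
  let S : ShortComplex X.Modules := ShortComplex.mk φ (ClSub.toSubscheme I)
    ((congrArg (· ≫ ClSub.toSubscheme I) hψ.symm).trans
      ((Category.assoc _ _ _).trans ((congrArg (ψ.hom ≫ ·) (kernel.condition (ClSub.toSubscheme I))).trans comp_zero)))
  let S₀ : ShortComplex X.Modules :=
    ShortComplex.mk (ClSub.idealModι I) (ClSub.toSubscheme I) (kernel.condition (ClSub.toSubscheme I))
  have hS : S.ShortExact := ShortComplex.shortExact_of_iso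
    (ShortComplex.isoMk (S₁ := S₀) (S₂ := S) ψ.symm (Iso.refl _) (Iso.refl _)
      (((congrArg (ψ.inv ≫ ·) hψ.symm).trans (Iso.inv_hom_id_assoc ψ _)).trans (Category.comp_id _).symm)
      ((Category.id_comp _).trans (Category.comp_id _).symm))
    (M2.shortExact_idealMod I)
  have hf : ∀ (n : ℕ) (z : Coh.HH X (Coh.structureModule X) n), CurveCoh17.hmap R S.f n z = π • z := fun n z => by
    show CurveCoh17.hmap R φ n z = π • z
    rw [show φ = Formal.smulMod R (Coh.structureModule X) π from secHom_eq_smulMod π]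
    exact DVRTriv4.hmap_smulMod R (Coh.structureModule X) π n z
  have h0 := CurveCoh17.exact_hmap_hdelta R hS 0
  have h1 := CurveCoh17.exact_hdelta_hmap R hS 0
  constructor
  · intro hsurj
    refine ⟨fun {a z} haz => ?_⟩
    rcases eq_or_ne a 0 with ha | ha
    · exact Or.inl ha
    right
    have hinj : ∀ z : Coh.HH X (Coh.structureModule X) 1, π • z = 0 → z = 0 := fun z hz => by
      obtain ⟨w, hw⟩ := (h1 z).mp ((hf 1 z).trans hz)
      obtain ⟨v, hv⟩ := hsurj w
      rw [← hw, ← hv]
      exact (h0 (CurveCoh17.hmap R S.g 0 v)).mpr ⟨v, rfl⟩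
    obtain ⟨n, ε, rfl⟩ := IsDiscreteValuationRing.eq_unit_mul_pow_irreducible ha hπ
    rw [mul_smul, ← Units.smul_def, smul_eq_zero_iff_eq] at haz
    clear ha
    induction n with
    | zero => rwa [pow_zero, one_smul] at haz
    | succ n ih => exact ih (hinj _ (by rwa [← mul_smul, ← pow_succ']))
  · intro hnz w
    refine (h0 w).mp ?_
    have h2 := hf 1 (CurveCoh17.hdelta R hS 0 w)
    rw [(h1 _).mpr ⟨w, rfl⟩] at h2
    exact (hnz.eq_zero_or_eq_zero_of_smul_eq_zero h2.symm).resolve_left hπ.ne_zero

end Groth.Agent.S15136
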