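import Groth.Statements.S15137
import Groth.Agent.Lib.RatSingMod13.Basic
import Groth.Agent.Lib.ArInter.Model
import Groth.Agent.Lib.VB17.Setup
import Groth.Agent.Lib.CBC10.Crit2


set_option autoImplicit false
set_option linter.style.haveILetI false
set_option backward.isDefEq.respectTransparency false
set_option backward.isDefEq.respectTransparency.types false
set_option maxHeartbeats 800000
universe u
open CategoryTheory CategoryTheory.Limits AlgebraicGeometry Opposite
open Models

namespace Groth.Agent.S15137

/-- Let R be a discrete valuation ring whose fraction field K has characteristic zero, let C be a proper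
K-curve, smooth of relative dimension 1 and geometrically connected over K, and let X be a model of
C over R (flat and of finite type over R with generic fibre C) which is proper over R and normal, so
that X is a proper relative curve over R; assume X has rational singularities: the local ring of X
at every closed point defines a rational singularity (every proper morphism onto its spectrum from
an integral normal scheme which is an isomorphism over a nonempty open has H^1 of the structure
sheaf zero). Let ρ : X' → X be a proper morphism over R from an integral normal scheme X' which is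
an isomorphism over some nonempty open of X (a proper birational morphism). Then the first higher
direct image R^1ρ_*O_{X'} (of abelian sheaves) vanishes, the map H^1(X, O_X) → H^1(X, ρ_*O_{X'})
induced by the canonical map O_X → ρ_*O_{X'} is bijective, and consequently the R-modules H^1(X,
O_X) and H^1(X', O_{X'}) are isomorphic (the published statement asserts that the canonical pullback
map is an isomorphism; this row records the existence of an R-linear isomorphism only). -/
theorem result (R : Type u) [CommRing R]
    [IsDomain R] [IsDiscreteValuationRing R] [CharZero (FractionRing R)]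
    (X C : Scheme.{u}) [X.Over (Spec (CommRingCat.of R))]
    (f : C ⟶ Spec (CommRingCat.of (FractionRing R)))
    [SmoothOfRelativeDimension 1 f] [IsProper f] [GeometricallyConnected f]
    (hX : Models.IsModel R X (X ↘ Spec (CommRingCat.of R)) C f)
    [IsProper (X ↘ Spec (CommRingCat.of R))] (hn : Pi1.IsNormalScheme X)
    (hrat : ∀ x : X, IsClosed ({x} : Set X) → Curv2.IsRationalSing (X.presheaf.stalk x))
    (X' : Scheme.{u}) [X'.Over (Spec (CommRingCat.of R))] (ρ : X' ⟶ X) [IsProper ρ]
    (hρ : ρ ≫ (X ↘ Spec (CommRingCat.of R)) = X' ↘ Spec (CommRingCat.of R))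
    [IsIntegral X'] (hn' : Pi1.IsNormalScheme X')
    (hbir : ∃ U : X.Opens, (U : Set X).Nonempty ∧ IsIso (ρ ∣_ U)) :
    IsZero ((Coh.RpushAb ρ 1).obj (Coh.toAb (Coh.structureModule X'))) ∧
      Function.Bijective (Sheaf.H.map ((SheafOfModules.toSheaf X.ringCatSheaf).map (ClSub.unitToPush ρ)) 1) ∧
      Nonempty (Coh.HH X (Coh.structureModule X) 1 ≃ₗ[R] Coh.HH X' (Coh.structureModule X') 1) := by
  obtain ⟨hflat, hlft, -, g, hg⟩ := id hX
  haveI := hlft
  haveI : Smooth f := SmoothOfRelativeDimension.smooth 1 f
  haveI : IsIntegral C := by
    letI : C.Over (Spec (CommRingCat.of (FractionRing R))) := ⟨f⟩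
    haveI : IsProper (C ↘ Spec (CommRingCat.of (FractionRing R))) := ‹IsProper f›
    haveI : Smooth (C ↘ Spec (CommRingCat.of (FractionRing R))) := ‹Smooth f›
    haveI : GeometricallyConnected (C ↘ Spec (CommRingCat.of (FractionRing R))) := ‹GeometricallyConnected f›
    exact VB17.isIntegral_of_smooth (k := FractionRing R)
  haveI : IsLocallyNoetherian X := LocallyOfFiniteType.isLocallyNoetherian (X ↘ Spec (CommRingCat.of R))
  haveI : CompactSpace X := QuasiCompact.compactSpace_of_compactSpace (X ↘ Spec (CommRingCat.of R))
  haveI : AlgebraicGeometry.IsReduced X := NormStalk17.isReduced_of_normal hn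
  haveI : IrreducibleSpace X :=
    have hgen : IsGenericPoint (g.base (genericPoint C)) (Set.univ : Set X) :=
      Set.eq_univ_of_forall fun x => specializes_iff_mem_closure.mp
        (ArInter.genericPoint_eq_image hflat hlft hg x)
    (irreducibleSpace_def X).mpr hgen.isIrreducible
  haveI : IsIntegral X := isIntegral_of_irreducibleSpace_of_isReduced X
  have hR := RatSingMod13.isZero_R1 ρ hn' hrat hbir
  obtain ⟨U, hU, hiso⟩ := hbir
  obtain ⟨hgp, hb⟩ := BiratPt18.birational_of_isIso_restrict ρ U hU hiso
  haveI := hb
  have h : ρ.base (genericPoint X') ⤳ genericPoint X := specializes_of_eq hgp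
  have h' : genericPoint X ⤳ ρ.base (genericPoint X') := specializes_of_eq hgp.symm
  haveI : IsIso (X.presheaf.stalkSpecializes h) := ⟨X.presheaf.stalkSpecializes h', by
      rw [TopCat.Presheaf.stalkSpecializes_comp, TopCat.Presheaf.stalkSpecializes_refl], by
      rw [TopCat.Presheaf.stalkSpecializes_comp, TopCat.Presheaf.stalkSpecializes_refl]⟩
  have hbij : Function.Bijective (CohIII.stalkToFunctionField ρ (genericPoint X) h) :=
    (ConcreteCategory.bijective_of_isIso (ρ.stalkMap (genericPoint X'))).comp
      (ConcreteCategory.bijective_of_isIso (X.presheaf.stalkSpecializes h))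
  haveI : IsIso (ClSub.unitToPush ρ) := EdgeOne28.isIso_unitToPush_of_isIso_app ρ fun V =>
    (ConcreteCategory.isIso_iff_bijective _).2 (Fibration13.bijective_app_of_birational ρ hn h hbij V)
  let e₁ := CBC10.hmapLinEquiv R (asIso (ClSub.unitToPush ρ)) 1
  obtain ⟨e₂⟩ := RatSingMod13.nonempty_HH1_push ρ hρ (M1.isQCoh_structureModule X') hR
  exact ⟨hR, e₁.bijective, ⟨e₁.trans e₂⟩⟩

end Groth.Agent.S15137
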