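import Groth.Statements.S15140
import Groth.Agent.Lib.FinFlat9.Main
-- import your own Groth.Agent.* helpers here

set_option autoImplicit false
universe u
open CategoryTheory CategoryTheory.Limits AlgebraicGeometry
open Models

namespace Groth.Agent.S15140

/-- Let R be a discrete valuation ring whose fraction field has characteristic zero and let X and Y be
relative curves over R: flat, of finite type and separated over Spec R, normal and integral, of
dimension two (pure relative dimension one; properness is not assumed). Let f : X → Y be a finite
surjective morphism over R. Then there is an open subset V ⊆ Y such that the complement of V in Y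
and the complement of f⁻¹(V) in X are finite sets of points at which the local rings have Krull
dimension two (closed points of the closed fibres), and f is flat over V. -/
theorem result (R : Type u) [CommRing R] [IsDomain R]
    [IsDiscreteValuationRing R] [CharZero (FractionRing R)]
    (X Y : Scheme.{u}) (pX : X ⟶ Spec (CommRingCat.of R)) (pY : Y ⟶ Spec (CommRingCat.of R))
    [Flat pX] [LocallyOfFiniteType pX] [QuasiCompact pX] [IsSeparated pX]
    [Flat pY] [LocallyOfFiniteType pY] [QuasiCompact pY] [IsSeparated pY]
    [IsIntegral X] [IsIntegral Y] (hnX : Pi1.IsNormalScheme X) (hnY : Pi1.IsNormalScheme Y)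
    (hdX : topologicalKrullDim X = 2) (hdY : topologicalKrullDim Y = 2)
    (f : X ⟶ Y) [IsFinite f] [Surjective f] (hf : f ≫ pY = pX) :
    ∃ V : Y.Opens, ((V : Set Y)ᶜ).Finite ∧ (∀ y : Y, y ∉ V → ringKrullDim (Y.presheaf.stalk y) = 2) ∧
      (((f ⁻¹ᵁ V : X.Opens) : Set X)ᶜ).Finite ∧ (∀ x : X, x ∉ f ⁻¹ᵁ V → ringKrullDim (X.presheaf.stalk x) = 2) ∧
      Flat (f ∣_ V) := by
  haveI : IsLocallyNoetherian Y := LocallyOfFiniteType.isLocallyNoetherian pY
  haveI : CompactSpace Y := QuasiCompact.compactSpace_of_compactSpace pY
  haveI : IsNoetherian Y := {}
  exact Groth.Agent.FinFlat9.exists_open_flat X Y hnX hnY hdY f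

end Groth.Agent.S15140
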