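import Groth.Statements.S15148
import Groth.Agent.Lib.CurveSing5.Basic

set_option autoImplicit false
universe u
open HilbZeta

namespace Groth.Agent.S15148

/-- Let k be a field, s a natural number and R a k-subalgebra of the product of s copies of the power
series ring k[[x]], of finite codimension δ over k and local with residue field k (all components of
an element of R have the same constant term); write v_i for the x-adic order of the i-th component
of an s-tuple, and let c = (c_1, …, c_s) be the conductor exponents, so that an s-tuple f satisfies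
f·g ∈ R for every s-tuple g exactly when v_i(f) ≥ c_i for all i (over an algebraically closed field
such an R is precisely the completed local ring of a reduced curve singularity having s branches
sitting inside its normalisation, δ is its delta invariant and the conductor ideal is generated by
the x_i^{c_i}), and put C = c_1 + ⋯ + c_s. Let I be an ideal of R of finite colength d with
branch-length vector a (for every i the ideal of k[[x]] generated by the i-th components of the
elements of I is (x^{a_i})). Then −δ ≤ d − Σ a_i ≤ C − δ, and the second inequality is strict when R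
is not the whole product (the singularity is not smooth). (The published statement is over an
algebraically closed field; this row allows any field.) -/
theorem result (k : Type u) [Field k] (s : ℕ)
    (R : Subalgebra k (Fin s → PowerSeries k))
    (hfin : Module.Finite k ((Fin s → PowerSeries k) ⧸ Subalgebra.toSubmodule R))
    (hloc : ∀ f ∈ R, ∀ i j : Fin s, PowerSeries.constantCoeff (f i) = PowerSeries.constantCoeff (f j))
    (c : Fin s → ℕ)
    (hc : ∀ f : Fin s → PowerSeries k,
      (∀ g : Fin s → PowerSeries k, g * f ∈ R) ↔ ∀ i, ((c i : ℕ) : ℕ∞) ≤ (f i).order)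
    (I : Ideal ↥R) (hI : Module.Finite k (↥R ⧸ I)) (a : Fin s → ℕ)
    (ha : (∀ i : Fin s, Ideal.map ((Pi.evalAlgHom k (fun _ : Fin s => PowerSeries k) i).comp R.val) I = Ideal.span {PowerSeries.X ^ (a i)})) :
    (∑ i, a i) ≤ Module.finrank k (↥R ⧸ I) + Module.finrank k ((Fin s → PowerSeries k) ⧸ Subalgebra.toSubmodule R) ∧
    Module.finrank k (↥R ⧸ I) + Module.finrank k ((Fin s → PowerSeries k) ⧸ Subalgebra.toSubmodule R) ≤ (∑ i, a i) + ∑ i, c i ∧
    (R ≠ ⊤ → Module.finrank k (↥R ⧸ I) + Module.finrank k ((Fin s → PowerSeries k) ⧸ Subalgebra.toSubmodule R) < (∑ i, a i) + ∑ i, c i) := by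
  let N := (I.restrictScalars k).map R.val.toLinearMap
  have hNB : N ≤ LinearMap.ker (Groth.Agent.CurveSing5.trunc a) := by
    rintro _ ⟨f, hf, rfl⟩
    exact Groth.Agent.CurveSing5.mem_ker_trunc.2
      (Groth.Agent.CurveSing5.order_ge_of_map_eq I a ha f hf)
  have hCN : LinearMap.ker (Groth.Agent.CurveSing5.trunc fun i => a i + c i) ≤ N := fun g hg => by
    obtain ⟨hgR, hgI⟩ := Groth.Agent.CurveSing5.mem_of_order hc I a
      (Groth.Agent.CurveSing5.exists_order_eq I a ha) g (Groth.Agent.CurveSing5.mem_ker_trunc.1 hg)
    exact ⟨⟨g, hgR⟩, hgI, rfl⟩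
  haveI := Groth.Agent.CurveSing5.finite_quotient_trunc (k := k) (fun i => a i + c i)
  haveI : Module.Finite k ((Fin s → PowerSeries k) ⧸ N) :=
    Module.Finite.of_surjective (Submodule.factor hCN) (Submodule.factor_surjective hCN)
  rw [← Groth.Agent.CurveSing5.finrank_quotient_map_val R I, ← Finset.sum_add_distrib,
    ← Groth.Agent.CurveSing5.finrank_quotient_trunc (k := k) a,
    ← Groth.Agent.CurveSing5.finrank_quotient_trunc (k := k) (fun i => a i + c i)]
  refine ⟨Groth.Agent.CurveSing5.finrank_quotient_le hNB,
    Groth.Agent.CurveSing5.finrank_quotient_le hCN, fun hR => ?_⟩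
  refine Groth.Agent.CurveSing5.finrank_quotient_lt (lt_of_le_of_ne hCN fun hEq => hR ?_)
  obtain ⟨i, hi⟩ | h0 := exists_or_forall_not (fun i => c i ≠ 0)
  · exfalso
    obtain ⟨f, hfI, hfo⟩ := Groth.Agent.CurveSing5.exists_order_eq I a ha i
    have h1 := Groth.Agent.CurveSing5.mem_ker_trunc.1 (hEq.ge ⟨f, hfI, rfl⟩) i
    change ((a i + c i : ℕ) : ℕ∞) ≤ ((f : Fin s → PowerSeries k) i).order at h1
    rw [hfo] at h1
    exact hi (by have : a i + c i ≤ a i := by exact_mod_cast h1
                 omega)
  · refine eq_top_iff.2 fun x _ => ?_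
    have := (hc x).2 (fun i => by simp [not_not.1 (h0 i)]) 1
    rwa [one_mul] at this

end Groth.Agent.S15148
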