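import Groth.Statements.S15149
import Mathlib

set_option autoImplicit false
universe u
open HilbZeta

namespace Groth.Agent.S15149


open PowerSeries

theorem quot_map_injective {k V W : Type*} [Field k] [AddCommGroup V] [Module k V]
    [AddCommGroup W] [Module k W] (e : W →ₗ[k] V) (he : Function.Injective e)
    [Module.Finite k (V ⧸ LinearMap.range e)] (I : Submodule k W) :
    (Module.Finite k (W ⧸ I) ↔ Module.Finite k (V ⧸ I.map e)) ∧
      (Module.Finite k (W ⧸ I) → Module.finrank k (V ⧸ I.map e) =
        Module.finrank k (W ⧸ I) + Module.finrank k (V ⧸ LinearMap.range e)) := by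
  have hle : I.map e ≤ LinearMap.range e := LinearMap.map_le_range
  let em : W ⧸ I →ₗ[k] V ⧸ I.map e := I.mapQ (I.map e) e (Submodule.le_comap_map e I)
  let π : V ⧸ I.map e →ₗ[k] V ⧸ LinearMap.range e :=
    (I.map e).mapQ (LinearMap.range e) LinearMap.id hle
  have hem : Function.Injective em := by
    rw [← LinearMap.ker_eq_bot, Submodule.eq_bot_iff]
    intro x hx
    obtain ⟨w, rfl⟩ := I.mkQ_surjective x
    have hw : e w ∈ I.map e := (Submodule.Quotient.mk_eq_zero _).1 hx
    obtain ⟨y, hy, hye⟩ := hw
    rw [he hye] at hy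
    exact (Submodule.Quotient.mk_eq_zero _).2 hy
  have hπ : Function.Surjective π := by
    intro y
    obtain ⟨v, rfl⟩ := (LinearMap.range e).mkQ_surjective y
    exact ⟨Submodule.Quotient.mk v, rfl⟩
  have hker : LinearMap.ker π = LinearMap.range em := by
    ext y
    obtain ⟨v, rfl⟩ := (I.map e).mkQ_surjective y
    constructor
    · intro h
      obtain ⟨w, rfl⟩ := (Submodule.Quotient.mk_eq_zero (LinearMap.range e)).1 h
      exact ⟨Submodule.Quotient.mk w, rfl⟩
    · rintro ⟨x, hx⟩
      obtain ⟨w, rfl⟩ := I.mkQ_surjective x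
      rw [← hx]
      exact (Submodule.Quotient.mk_eq_zero (LinearMap.range e)).2 ⟨w, rfl⟩
  have hfwd : Module.Finite k (W ⧸ I) → Module.Finite k (V ⧸ I.map e) := fun h => by
    haveI : Module.Finite k (LinearMap.ker π) := by rw [hker]; infer_instance
    haveI : Module.Finite k ((V ⧸ I.map e) ⧸ LinearMap.ker π) :=
      Module.Finite.equiv (π.quotKerEquivOfSurjective hπ).symm
    exact Module.Finite.of_submodule_quotient (LinearMap.ker π)
  refine ⟨⟨hfwd, fun h => Module.Finite.of_injective em hem⟩, fun h => ?_⟩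
  haveI := hfwd h
  have h1 := LinearMap.finrank_range_add_finrank_ker π
  rw [hker, LinearMap.range_eq_top.2 hπ, finrank_top, LinearMap.finrank_range_of_inj hem] at h1
  omega

variable {k : Type u} [Field k] {s : ℕ} (R : Subalgebra k (Fin s → PowerSeries k))

theorem map_eval_of_image (ξ : Fin s → PowerSeries k) (I J : Ideal ↥R)
    (h : Subtype.val '' (J : Set ↥R) = (fun f => ξ * f) '' (Subtype.val '' (I : Set ↥R)))
    (i : Fin s) :
    Ideal.map ((Pi.evalAlgHom k (fun _ : Fin s => PowerSeries k) i).comp R.val) J =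
      Ideal.span {ξ i} * Ideal.map ((Pi.evalAlgHom k (fun _ : Fin s => PowerSeries k) i).comp R.val) I := by
  have h' := congrArg (Set.image fun f : Fin s → PowerSeries k => f i) h
  simp only [Set.image_image] at h'
  rw [Ideal.map, Ideal.map, Ideal.span_mul_span', Set.singleton_mul, Set.image_image]
  exact congrArg Ideal.span h'

/-- the colength goes up by one under multiplication by `ξ` -/
theorem colength_image (hfin : Module.Finite k ((Fin s → PowerSeries k) ⧸ Subalgebra.toSubmodule R))
    (j : Fin s) (I J : Ideal ↥R)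
    (h : Subtype.val '' (J : Set ↥R) =
      (fun f => Pi.mulSingle j PowerSeries.X * f) '' (Subtype.val '' (I : Set ↥R))) :
    (Module.Finite k (↥R ⧸ I) ↔ Module.Finite k (↥R ⧸ J)) ∧
      (Module.Finite k (↥R ⧸ I) → Module.finrank k (↥R ⧸ J) = Module.finrank k (↥R ⧸ I) + 1) := by
  let ι : ↥R →ₗ[k] (Fin s → PowerSeries k) := R.val.toLinearMap
  have hι : Function.Injective ι := Subtype.val_injective
  have hιr : LinearMap.range ι = Subalgebra.toSubmodule R := by
    ext x; exact ⟨fun ⟨y, hy⟩ => hy ▸ y.2, fun hx => ⟨⟨x, hx⟩, rfl⟩⟩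
  haveI : Module.Finite k ((Fin s → PowerSeries k) ⧸ LinearMap.range ι) := hιr ▸ hfin
  let μ : (Fin s → PowerSeries k) →ₗ[k] (Fin s → PowerSeries k) :=
    LinearMap.mulLeft k (Pi.mulSingle j PowerSeries.X)
  have hμ : Function.Injective μ := fun x y hxy => by
    funext i
    have h1 : (Pi.mulSingle j X : Fin s → PowerSeries k) i * x i =
        (Pi.mulSingle j X : Fin s → PowerSeries k) i * y i := congrFun hxy i
    refine mul_left_cancel₀ ?_ h1
    rcases eq_or_ne i j with rfl | hij
    · rw [Pi.mulSingle_eq_same]; exact X_ne_zero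
    · rw [Pi.mulSingle_eq_of_ne hij]; exact one_ne_zero
  let φ : (Fin s → PowerSeries k) →ₗ[k] k :=
    (PowerSeries.coeff (R := k) 0).comp (LinearMap.proj j)
  have hφ : Function.Surjective φ := fun c => ⟨fun _ => C c, by simp [φ]⟩
  have hμr : LinearMap.range μ = LinearMap.ker φ := by
    ext x
    constructor
    · rintro ⟨y, rfl⟩
      simp [φ, μ]
    · intro hx
      have hx' : constantCoeff (x j) = 0 := by simpa [φ] using hx
      obtain ⟨u, hu⟩ := PowerSeries.X_dvd_iff.2 hx'
      refine ⟨Function.update x j u, ?_⟩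
      funext i
      rcases eq_or_ne i j with rfl | hij
      · simp [μ, hu]
      · simp [μ, hij]
  let eq1 : ((Fin s → PowerSeries k) ⧸ LinearMap.range μ) ≃ₗ[k] k :=
    (Submodule.quotEquivOfEq _ _ hμr).trans (φ.quotKerEquivOfSurjective hφ)
  haveI : Module.Finite k ((Fin s → PowerSeries k) ⧸ LinearMap.range μ) :=
    Module.Finite.equiv eq1.symm
  have hJ : (J.restrictScalars k).map ι = ((I.restrictScalars k).map ι).map μ := by
    apply SetLike.coe_injective
    exact h
  obtain ⟨a1, a2⟩ := quot_map_injective ι hι (I.restrictScalars k)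
  obtain ⟨b1, b2⟩ := quot_map_injective ι hι (J.restrictScalars k)
  obtain ⟨c1, c2⟩ := quot_map_injective μ hμ ((I.restrictScalars k).map ι)
  rw [hJ] at b1 b2
  have hone : Module.finrank k ((Fin s → PowerSeries k) ⧸ LinearMap.range μ) = 1 :=
    (LinearEquiv.finrank_eq eq1).trans (Module.finrank_self k)
  refine ⟨a1.trans (c1.trans b1.symm), fun hI => ?_⟩
  have hI' := a1.1 hI
  have e1 := a2 hI
  have e2 := c2 hI'
  have e3 := b2 (b1.2 (c1.1 hI'))
  change Module.finrank k (↥R ⧸ J.restrictScalars k) = Module.finrank k (↥R ⧸ I.restrictScalars k) + 1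
  omega

theorem mem_of_eq_off (c : Fin s → ℕ)
    (hc : ∀ f : Fin s → PowerSeries k,
      (∀ g : Fin s → PowerSeries k, g * f ∈ R) ↔ ∀ i, ((c i : ℕ) : ℕ∞) ≤ (f i).order)
    (j : Fin s) (n : ℕ) (hj : c j ≤ n) (f g : Fin s → PowerSeries k) (hf : f ∈ R)
    (heq : ∀ i, i ≠ j → g i = f i) (hf' : X ^ n ∣ f j) (hg' : X ^ n ∣ g j) : g ∈ R := by
  have hd : g - f ∈ R := by
    have h1 : ∀ i, ((c i : ℕ) : ℕ∞) ≤ ((g - f) i).order := by
      intro i
      rcases eq_or_ne i j with rfl | hij
      · obtain ⟨u, hu⟩ := dvd_trans (pow_dvd_pow (X : PowerSeries k) hj) (dvd_sub hg' hf')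
        refine PowerSeries.nat_le_order _ _ fun m hm => ?_
        rw [Pi.sub_apply, hu, PowerSeries.coeff_X_pow_mul', if_neg (by omega)]
      · simp [Pi.sub_apply, heq i hij]
    simpa using (hc _).2 h1 1
  simpa using R.add_mem hd hf


/-- Let k be a field, s a natural number and R a k-subalgebra of the product of s copies of the power
series ring k[[x]], of finite codimension δ over k and local with residue field k (all components of
an element of R have the same constant term); write v_i for the x-adic order of the i-th component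
of an s-tuple, and let c = (c_1, …, c_s) be the conductor exponents, so that an s-tuple f satisfies
f·g ∈ R for every s-tuple g exactly when v_i(f) ≥ c_i for all i (over an algebraically closed field
such an R is precisely the completed local ring of a reduced curve singularity having s branches
sitting inside its normalisation, δ is its delta invariant and the conductor ideal is generated by
the x_i^{c_i}). Fix a branch j, a colength d and a branch-length vector a = (a_1, …, a_s) with a_j ≥
c_j, and let ξ be the s-tuple with x in the j-th place and 1 elsewhere. Call an ideal I of R of type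
(d, a) when it has colength d and, for every i, the ideal of k[[x]] generated by the i-th components
of its elements is (x^{a_i}). Then multiplication by ξ is a bijection from the ideals of type (d, a)
onto the ideals of type (d + 1, a + e_j), where a + e_j is a with its j-th entry raised by one: for
every ideal I of type (d, a) the set ξ·I is (the image of) an ideal of type (d + 1, a + e_j), and
every ideal of type (d + 1, a + e_j) is ξ·I for some ideal I of type (d, a). (The published
statement is the equality, in the Grothendieck ring of varieties, of the classes of the two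
corresponding branch-length strata of the punctual Hilbert scheme; this row states the bijection on
ideals underlying it, which is what the argument establishes; the published statement is over an
algebraically closed field, and this row allows any field.) -/
theorem result (k : Type u) [Field k] (s : ℕ)
    (R : Subalgebra k (Fin s → PowerSeries k))
    (hfin : Module.Finite k ((Fin s → PowerSeries k) ⧸ Subalgebra.toSubmodule R))
    (hloc : ∀ f ∈ R, ∀ i j : Fin s, PowerSeries.constantCoeff (f i) = PowerSeries.constantCoeff (f j))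
    (c : Fin s → ℕ)
    (hc : ∀ f : Fin s → PowerSeries k,
      (∀ g : Fin s → PowerSeries k, g * f ∈ R) ↔ ∀ i, ((c i : ℕ) : ℕ∞) ≤ (f i).order)
    (j : Fin s) (d : ℕ) (a : Fin s → ℕ) (hj : c j ≤ a j) :
    (∀ I ∈ {I : Ideal ↥R | Module.Finite k (↥R ⧸ I) ∧ Module.finrank k (↥R ⧸ I) = d ∧ (∀ i : Fin s, Ideal.map ((Pi.evalAlgHom k (fun _ : Fin s => PowerSeries k) i).comp R.val) I = Ideal.span {PowerSeries.X ^ (a i)})},
      ∃ J ∈ {I : Ideal ↥R | Module.Finite k (↥R ⧸ I) ∧ Module.finrank k (↥R ⧸ I) = d + 1 ∧ (∀ i : Fin s, Ideal.map ((Pi.evalAlgHom k (fun _ : Fin s => PowerSeries k) i).comp R.val) I = Ideal.span {PowerSeries.X ^ ((Function.update a j (a j + 1)) i)})},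
        (Subtype.val '' (J : Set ↥R)) = (fun f => Pi.mulSingle j PowerSeries.X * f) '' (Subtype.val '' (I : Set ↥R))) ∧
    (∀ J ∈ {I : Ideal ↥R | Module.Finite k (↥R ⧸ I) ∧ Module.finrank k (↥R ⧸ I) = d + 1 ∧ (∀ i : Fin s, Ideal.map ((Pi.evalAlgHom k (fun _ : Fin s => PowerSeries k) i).comp R.val) I = Ideal.span {PowerSeries.X ^ ((Function.update a j (a j + 1)) i)})},
      ∃ I ∈ {I : Ideal ↥R | Module.Finite k (↥R ⧸ I) ∧ Module.finrank k (↥R ⧸ I) = d ∧ (∀ i : Fin s, Ideal.map ((Pi.evalAlgHom k (fun _ : Fin s => PowerSeries k) i).comp R.val) I = Ideal.span {PowerSeries.X ^ (a i)})},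
        (Subtype.val '' (J : Set ↥R)) = (fun f => Pi.mulSingle j PowerSeries.X * f) '' (Subtype.val '' (I : Set ↥R))) := by
  set ξ : Fin s → PowerSeries k := Pi.mulSingle j PowerSeries.X with hξ
  have hξj : ξ j = PowerSeries.X := Pi.mulSingle_eq_same _ _
  have hξi : ∀ i, i ≠ j → ξ i = 1 := fun i hi => Pi.mulSingle_eq_of_ne hi _
  have hupd : ∀ i, Ideal.span ({ξ i} : Set (PowerSeries k)) * Ideal.span {PowerSeries.X ^ (a i)} =
      Ideal.span {PowerSeries.X ^ ((Function.update a j (a j + 1)) i)} := by
    intro i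
    rw [Ideal.span_singleton_mul_span_singleton]
    rcases eq_or_ne i j with rfl | hij
    · rw [hξj, Function.update_self, pow_succ, mul_comm]
    · rw [hξi i hij, one_mul, Function.update_of_ne hij]
  constructor
  · rintro I ⟨hIf, hId, hIa⟩
    have hmem : ∀ f ∈ I, ξ * (f : Fin s → PowerSeries k) ∈ R := fun f hf => by
      have hd : PowerSeries.X ^ (a j) ∣ (f : Fin s → PowerSeries k) j := by
        rw [← Ideal.mem_span_singleton, ← hIa j]
        exact Ideal.mem_map_of_mem _ hf
      refine mem_of_eq_off R c hc j (a j) hj _ _ f.2 (fun i hi => ?_) hd ?_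
      · rw [Pi.mul_apply, hξi i hi, one_mul]
      · rw [Pi.mul_apply]; exact dvd_mul_of_dvd_right hd _
    let J : Ideal ↥R :=
      { carrier := {r | ∃ f ∈ I, (r : Fin s → PowerSeries k) = ξ * f}
        zero_mem' := ⟨0, I.zero_mem, by simp⟩
        add_mem' := by
          rintro r r' ⟨f, hf, h⟩ ⟨f', hf', h'⟩
          exact ⟨f + f', I.add_mem hf hf', by simp [h, h', mul_add]⟩
        smul_mem' := by
          rintro t r ⟨f, hf, h⟩
          exact ⟨t * f, I.mul_mem_left t hf, by simp [h, mul_left_comm]⟩ }
    have hJ : Subtype.val '' (J : Set ↥R) =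
        (fun f => ξ * f) '' (Subtype.val '' (I : Set ↥R)) := by
      ext x
      constructor
      · rintro ⟨r, ⟨f, hf, hr⟩, rfl⟩
        exact ⟨f, ⟨f, hf, rfl⟩, hr.symm⟩
      · rintro ⟨-, ⟨f, hf, rfl⟩, rfl⟩
        exact ⟨⟨ξ * f, hmem f hf⟩, ⟨f, hf, rfl⟩, rfl⟩
    obtain ⟨e1, e2⟩ := colength_image R hfin j I J hJ
    exact ⟨J, ⟨e1.1 hIf, by rw [e2 hIf, hId],
      fun i => by rw [map_eval_of_image R ξ I J hJ i, hIa i, hupd i]⟩, hJ⟩
  · rintro J ⟨hJf, hJd, hJa⟩
    let I : Ideal ↥R :=
      { carrier := {r | ∃ g ∈ J, (g : Fin s → PowerSeries k) = ξ * r}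
        zero_mem' := ⟨0, J.zero_mem, by simp⟩
        add_mem' := by
          rintro r r' ⟨f, hf, h⟩ ⟨f', hf', h'⟩
          exact ⟨f + f', J.add_mem hf hf', by simp [h, h', mul_add]⟩
        smul_mem' := by
          rintro t r ⟨f, hf, h⟩
          exact ⟨t * f, J.mul_mem_left t hf, by simp [h, mul_left_comm]⟩ }
    have hJ : Subtype.val '' (J : Set ↥R) =
        (fun f => ξ * f) '' (Subtype.val '' (I : Set ↥R)) := by
      ext x
      constructor
      · rintro ⟨g, hg, rfl⟩
        have hd : PowerSeries.X ^ (a j + 1) ∣ (g : Fin s → PowerSeries k) j := by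
          have h0 := hJa j
          rw [Function.update_self] at h0
          rw [← Ideal.mem_span_singleton, ← h0]
          exact Ideal.mem_map_of_mem _ hg
        obtain ⟨u, hu⟩ := hd
        let f' : Fin s → PowerSeries k :=
          Function.update (g : Fin s → PowerSeries k) j (PowerSeries.X ^ (a j) * u)
        have hf'e : ξ * f' = g := by
          funext i
          rcases eq_or_ne i j with rfl | hij
          · simp only [Pi.mul_apply, hξj, f', Function.update_self]
            rw [hu, pow_succ]; ring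
          · simp [f', hξi i hij, hij]
        have hf'm : f' ∈ R := mem_of_eq_off R c hc j (a j) hj _ _ g.2
          (fun i hi => by simp [f', hi])
          (hu ▸ Dvd.dvd.mul_right (pow_dvd_pow _ (Nat.le_succ _)) _)
          (by simp [f'])
        exact ⟨f', ⟨⟨f', hf'm⟩, ⟨g, hg, hf'e.symm⟩, rfl⟩, hf'e⟩
      · rintro ⟨-, ⟨r, ⟨g, hg, hgr⟩, rfl⟩, rfl⟩
        exact ⟨g, hg, hgr⟩
    obtain ⟨e1, e2⟩ := colength_image R hfin j I J hJ
    have hIf := e1.2 hJf
    refine ⟨I, ⟨hIf, ?_, fun i => ?_⟩, hJ⟩
    · have := e2 hIf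
      omega
    · have h0 := map_eval_of_image R ξ I J hJ i
      rw [hJa i, ← hupd i] at h0
      have hne : ξ i ≠ 0 := by
        rcases eq_or_ne i j with rfl | hij
        · rw [hξj]; exact PowerSeries.X_ne_zero
        · rw [hξi i hij]; exact one_ne_zero
      exact ((Ideal.span_singleton_mul_right_inj hne).1 h0).symm

end Groth.Agent.S15149
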