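import Groth.Statements.S15150
import Mathlib

set_option autoImplicit false
universe u
open HilbZeta

namespace Groth.Agent.S15150

open TensorProduct

lemma pow_eq_bot_of_finrank {κ : Type*} [Field κ] {T : Type*} [CommRing T] [Algebra κ T] [Module.Finite κ T]
    (J : Ideal T) (hJ : ∀ x ∈ J, IsNilpotent x) : J ^ (Module.finrank κ T) = ⊥ := by
  haveI : IsNoetherianRing T := IsNoetherianRing.of_finite κ T
  obtain ⟨N, hN⟩ : IsNilpotent J := by
    obtain ⟨s, hs⟩ := J.fg_of_isNoetherianRing
    exact (Ideal.FG.isNilpotent_iff_le_nilradical ⟨s, hs⟩).2 fun x hx => mem_nilradical.2 (hJ x hx)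
  have key : ∀ j, J ^ j = ⊥ ∨ Module.finrank κ ↥((J ^ j).restrictScalars κ) + j ≤ Module.finrank κ T := by
    intro j
    induction j with
    | zero => exact Or.inr (by rw [add_zero]; exact Submodule.finrank_le _)
    | succ j ih =>
      rcases ih with h | h
      · left; rw [pow_succ, h, Submodule.bot_mul]
      · by_cases hz : J ^ (j + 1) = ⊥
        · exact Or.inl hz
        right
        have hlt : (J ^ (j + 1)).restrictScalars κ < (J ^ j).restrictScalars κ := by
          refine lt_of_le_of_ne (fun x hx => Ideal.pow_le_pow_right (Nat.le_succ j) hx) fun e => hz ?_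
          have e' : J ^ (j + 1) = J ^ j := Submodule.restrictScalars_injective κ T T e
          have hst : ∀ m, J ^ (j + m) = J ^ j := by
            intro m
            induction m with
            | zero => rfl
            | succ m ihm => rw [← Nat.add_assoc, pow_succ, ihm, ← pow_succ, e']
          rw [e', ← hst N]
          exact le_bot_iff.1 ((Ideal.pow_le_pow_right (Nat.le_add_left N j)).trans (le_of_eq hN))
        have := Submodule.finrank_lt_finrank_of_lt hlt
        omega
  rcases key (Module.finrank κ T) with h | h
  · exact h
  · have h0 : Module.finrank κ ↥((J ^ Module.finrank κ T).restrictScalars κ) = 0 := by omega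
    rw [Submodule.finrank_eq_zero] at h0
    exact Submodule.restrictScalars_injective κ T T h0


/-- Let A be a reduced commutative ring, S an A-algebra together with an A-algebra homomorphism π : S →
A (a section of Spec S → Spec A), with kernel m, and I an ideal of S such that S/I is a finite
projective A-module of constant rank d and m is contained in the radical of I (the finite flat
subscheme Spec S/I of degree d lies, as a set, on the section). Then m^d ⊆ I: the subscheme lies in
the (d−1)-st infinitesimal neighbourhood of the section. (The published statement is for a closed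
subscheme, flat and proper of degree d over a Noetherian base, of a family of reduced curve
singularities with a section, with no reducedness assumption on the base; over the dual numbers k[ε]
the ideal (x − ε) of k[ε][x] has quotient free of rank one and radical containing x but does not
contain x, so the base is taken reduced here, and the statement is given in its affine form, to
which the argument reduces at once; the curve hypotheses play no role and are dropped; the condition
that Spec S/I lies set-theoretically on the section, which the published argument deduces from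
properness of Z inside the germ, is a hypothesis here.) -/
theorem result (A : Type u) [CommRing A] [IsReduced A]
    (S : Type u) [CommRing S] [Algebra A S] (π : S →ₐ[A] A) (I : Ideal S) (d : ℕ)
    [Module.Finite A (S ⧸ I)] [Module.Projective A (S ⧸ I)]
    (hrank : ∀ p : PrimeSpectrum A, Module.rankAtStalk (R := A) (S ⧸ I) p = d)
    (hsupp : RingHom.ker π ≤ I.radical) :
    RingHom.ker π ^ d ≤ I := by
  intro x hx
  rw [← Ideal.Quotient.eq_zero_iff_mem]
  set M := S ⧸ I
  set y : M := Ideal.Quotient.mk I x
  obtain ⟨s, hs⟩ := (Module.projective_def (R := A) (P := M)).1 inferInstance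
  have hmem : ∀ p : Ideal A, p.IsPrime → ∀ m, (s y) m ∈ p := by
    intro p hp m
    let κ := p.ResidueField
    let T := κ ⊗[A] M
    have hfr : Module.finrank κ T = d := by
      have := hrank ⟨p, hp⟩
      rwa [Module.rankAtStalk_eq] at this
    let q : S →+* T := (Algebra.TensorProduct.includeRight : M →ₐ[A] T).toRingHom.comp (Ideal.Quotient.mk I)
    have hJ : ∀ z ∈ (RingHom.ker π).map q, IsNilpotent z := by
      intro z hz
      refine mem_nilradical.1 ((Ideal.map_le_iff_le_comap.2 fun w hw => ?_) hz)
      obtain ⟨n, hn⟩ := hsupp hw
      refine ⟨n, ?_⟩
      rw [← map_pow, RingHom.comp_apply, Ideal.Quotient.eq_zero_iff_mem.2 hn, map_zero]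
      rfl
    have h0 : q x = 0 := by
      have h1 := pow_eq_bot_of_finrank (κ := κ) _ hJ
      rw [hfr, ← Ideal.map_pow] at h1
      have h2 := Ideal.mem_map_of_mem q hx
      rwa [h1, Ideal.mem_bot] at h2
    let L : M →ₗ[A] A := Finsupp.lapply m ∘ₗ s
    have h3 := congrArg (L.lTensor κ) (show (1 : κ) ⊗ₜ[A] y = 0 from h0)
    rw [LinearMap.lTensor_tmul, map_zero] at h3
    have h4 := congrArg (TensorProduct.rid A κ) h3
    rw [TensorProduct.rid_tmul, map_zero, Algebra.smul_def, mul_one] at h4
    exact Ideal.algebraMap_residueField_eq_zero.1 h4
  have hy : s y = 0 := Finsupp.ext fun m => by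
    have : (s y) m ∈ nilradical A := by
      rw [nilradical_eq_sInf, Ideal.mem_sInf]
      exact fun {p} hp => hmem p hp m
    rw [nilradical_eq_zero] at this
    exact this
  calc y = Finsupp.linearCombination A id (s y) := (hs y).symm
    _ = 0 := by rw [hy, map_zero]

end Groth.Agent.S15150
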