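import Groth.Statements.S15151
import Mathlib

set_option autoImplicit false
universe u
open CategoryTheory AlgebraicGeometry
open HilbZeta

namespace Groth.Agent.S15151

/-- Let k be a field, and let f : X → Y and g : Y → Spec k[t] be morphisms of schemes with f
quasi-compact and with zero kernel ideal sheaf (Y is the scheme-theoretic image of f), such that the
composite X → Spec k[t] is flat. Then g is flat; in particular a k[t]-subalgebra of a flat
k[t]-algebra is flat. (The published statement has no quasi-compactness hypothesis on f and is over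
an algebraically closed field; this row assumes f quasi-compact and allows any field.) -/
theorem result (k : Type u) [Field k]
    (X Y : Scheme.{u}) (f : X ⟶ Y) (g : Y ⟶ Spec (CommRingCat.of (Polynomial k)))
    [QuasiCompact f] (hker : f.ker = ⊥) [Flat (f ≫ g)] : Flat g := by
  rw [IsZariskiLocalAtSource.iff_of_iSup_eq_top (P := @Flat) (fun V : Y.affineOpens => V.1) (iSup_affineOpens_eq_top Y)]
  rintro ⟨V, hV⟩
  haveI : IsAffine V := hV
  rw [HasRingHomProperty.iff_of_isAffine (P := @Flat)]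
  suffices htop : (g.appLE ⊤ V le_top).hom.Flat by
    have heq : (V.ι ≫ g).appTop = g.appLE ⊤ V le_top ≫ V.topIso.inv := by
      rw [show (V.ι ≫ g).appTop = (V.ι ≫ g).appLE ⊤ ⊤ le_top from Scheme.Hom.app_eq_appLE _,
        ← Scheme.Hom.appLE_comp_appLE V.ι g ⊤ V ⊤ le_top (fun x _ => x.2)]
      congr 1
      simp [Scheme.Opens.ι_appLE, Scheme.Opens.topIso_inv]
      congr 1
    rw [heq]
    exact (RingHom.Flat.respectsIso.cancel_right_isIso _ _).2 htop
  let φ := (Scheme.ΓSpecIso (CommRingCat.of (Polynomial k))).inv ≫ g.appLE ⊤ V le_top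
  suffices hφ : φ.hom.Flat from (RingHom.Flat.respectsIso.cancel_left_isIso _ _).1 hφ
  algebraize [φ.hom]
  show Module.Flat (Polynomial k) Γ(Y, V)
  rw [Module.Flat.flat_iff_torsion_eq_bot_of_isBezout]
  refine (Submodule.eq_bot_iff _).2 fun t ht => ?_
  obtain ⟨⟨a, ha⟩, hat⟩ := ht
  have h0 : f.app V t = 0 := by
    obtain ⟨W, hW, hcov⟩ : ∃ (W : (f ⁻¹ᵁ V : X.Opens) → X.Opens), (∀ x, IsAffineOpen (W x) ∧ W x ≤ f ⁻¹ᵁ V) ∧
        ∀ x, x.1 ∈ W x := by
      choose W hW hxW hWV using fun x : (f ⁻¹ᵁ V : X.Opens) =>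
        exists_isAffineOpen_mem_and_subset (X := X) (x := x.1) (U := f ⁻¹ᵁ V) x.2
      exact ⟨W, fun x => ⟨hW x, hWV x⟩, hxW⟩
    refine X.sheaf.eq_of_locally_eq' W _ (fun x => homOfLE (hW x).2)
      (fun x hx => TopologicalSpace.Opens.mem_iSup.2 ⟨⟨x, hx⟩, hcov ⟨x, hx⟩⟩) _ _ (fun x => ?_)
    refine Eq.trans ?_ (map_zero _).symm
    show f.appLE V (W x) (hW x).2 t = 0
    let ψ := φ ≫ f.appLE V (W x) (hW x).2
    have hψ : ψ.hom.Flat := by
      have h1 : ψ = (Scheme.ΓSpecIso (CommRingCat.of (Polynomial k))).inv ≫ (f ≫ g).appLE ⊤ (W x) le_top := by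
        simp only [ψ, φ, Category.assoc, Scheme.Hom.appLE_comp_appLE]
      rw [h1]
      exact (RingHom.Flat.respectsIso.cancel_left_isIso _ _).2
        (HasRingHomProperty.appLE (P := @Flat) (f ≫ g) inferInstance ⟨⊤, isAffineOpen_top _⟩ ⟨W x, (hW x).1⟩ le_top)
    algebraize [ψ.hom]
    haveI : Module.Flat (Polynomial k) Γ(X, W x) := hψ
    have hmem : f.appLE V (W x) (hW x).2 t ∈ Submodule.torsion (Polynomial k) Γ(X, W x) := by
      refine ⟨⟨a, ha⟩, ?_⟩
      change ψ.hom a * f.appLE V (W x) (hW x).2 t = 0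
      change φ.hom a * t = 0 at hat
      have h2 := congrArg (f.appLE V (W x) (hW x).2) hat
      rw [map_mul, map_zero] at h2
      exact h2
    rwa [Module.Flat.torsion_eq_bot] at hmem
  have := Scheme.Hom.ker_apply f ⟨V, hV⟩
  rw [hker, Scheme.IdealSheafData.ideal_bot] at this
  exact this.ge h0

end Groth.Agent.S15151
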