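import Groth.Statements.S15152
import Mathlib

set_option autoImplicit false
universe u
open HilbZeta

namespace Groth.Agent.S15152

/-- Let k be a field, s a natural number and R a k-subalgebra of the product of s copies of the power
series ring k[[x]], of finite codimension δ over k and local with residue field k (all components of
an element of R have the same constant term); write v_i for the x-adic order of the i-th component
of an s-tuple, and let c = (c_1, …, c_s) be the conductor exponents, so that an s-tuple f satisfies
f·g ∈ R for every s-tuple g exactly when v_i(f) ≥ c_i for all i (over an algebraically closed field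
such an R is precisely the completed local ring of a reduced curve singularity having s branches
sitting inside its normalisation, δ is its delta invariant and the conductor ideal is generated by
the x_i^{c_i}). Let A be the k-subalgebra of the product of s polynomial rings k[x] consisting of
the tuples whose image in the power series product lies in R, and m₀ its ideal of tuples with zero
constant terms. Then: A is of finite type over k and has no idempotents besides 0 and 1; the product
of polynomial rings is a finite A-module, and for some N every product of N elements of m₀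
multiplies all of it into A; every element of R is approximated to any x-adic order by elements of
A; and for every N there is an M such that every element of A whose components are all divisible by
x^M lies in m₀^N. In words: Y = Spec A is a connected affine curve whose normalisation is the
disjoint union of s affine lines and is an isomorphism away from the origin, and the completed local
ring of Y at the origin is R, compatibly with the inclusion of the polynomial product in the power
series product. (The published statement asserts the existence of such a curve Y and is over an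
algebraically closed field; this row names Y and allows any field.) -/
theorem result (k : Type u) [Field k] (s : ℕ)
    (R : Subalgebra k (Fin s → PowerSeries k))
    (hfin : Module.Finite k ((Fin s → PowerSeries k) ⧸ Subalgebra.toSubmodule R))
    (hloc : ∀ f ∈ R, ∀ i j : Fin s, PowerSeries.constantCoeff (f i) = PowerSeries.constantCoeff (f j))
    (c : Fin s → ℕ)
    (hc : ∀ f : Fin s → PowerSeries k,
      (∀ g : Fin s → PowerSeries k, g * f ∈ R) ↔ ∀ i, ((c i : ℕ) : ℕ∞) ≤ (f i).order)
    (A : Subalgebra k (Fin s → Polynomial k))
    (hA : ∀ g : Fin s → Polynomial k, g ∈ A ↔ (fun i => ((g i : Polynomial k) : PowerSeries k)) ∈ R) :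
    Algebra.FiniteType k ↥A ∧
    (∀ e ∈ A, e * e = e → e = 0 ∨ e = 1) ∧
    Module.Finite ↥A (Fin s → Polynomial k) ∧
    (∃ N : ℕ, ∀ g : Fin N → (Fin s → Polynomial k),
      (∀ n, g n ∈ A ∧ ∀ i, (g n i).coeff 0 = 0) → ∀ p : Fin s → Polynomial k, p * ∏ n, g n ∈ A) ∧
    (∀ f ∈ R, ∀ N : ℕ, ∃ g ∈ A, ∀ i : Fin s, (N : ℕ∞) ≤ (f i - ((g i : Polynomial k) : PowerSeries k)).order) ∧
    (∀ N : ℕ, ∃ M : ℕ, ∀ g : ↥A, (∀ i : Fin s, Polynomial.X ^ M ∣ (g : Fin s → Polynomial k) i) →
      g ∈ (Ideal.span {h : ↥A | ∀ i : Fin s, ((h : Fin s → Polynomial k) i).coeff 0 = 0}) ^ N) := by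
  obtain ⟨L, hL0, hL⟩ : ∃ L : ℕ, 0 < L ∧ ∀ i, c i ≤ L :=
    ⟨Finset.univ.sup c + 1, Nat.succ_pos _,
      fun i => (Finset.le_sup (Finset.mem_univ i)).trans (Nat.le_succ _)⟩
  have hord : ∀ f : Fin s → PowerSeries k, (∀ i, ((c i : ℕ) : ℕ∞) ≤ (f i).order) → f ∈ R := by
    intro f hf
    have h := (hc f).mpr hf 1
    rwa [one_mul] at h
  have hC : ∀ g : Fin s → Polynomial k, (∀ i, Polynomial.X ^ L ∣ g i) → g ∈ A := by
    intro g hg
    refine (hA g).mpr (hord _ fun i => PowerSeries.nat_le_order _ _ fun n hn => ?_)
    rw [Polynomial.coeff_coe]
    exact Polynomial.X_pow_dvd_iff.mp (hg i) n (lt_of_lt_of_le hn (hL i))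
  have hcst : ∀ g ∈ A, ∀ i j : Fin s, (g i).coeff 0 = (g j).coeff 0 := by
    intro g hg i j
    have h := hloc _ ((hA g).mp hg) i j
    simpa using h
  have hfinA : Module.Finite ↥A (Fin s → Polynomial k) := by
    classical
    let F : Finset (Fin s → Polynomial k) :=
      insert 1 (Finset.univ.image fun p : Fin s × Fin L => Pi.single p.1 (Polynomial.X ^ (p.2 : ℕ)))
    refine ⟨⟨F, eq_top_iff.mpr fun g _ => ?_⟩⟩
    rw [← Finset.univ_sum_single g]
    refine Submodule.sum_mem _ fun i _ => ?_
    generalize g i = q
    induction q using Polynomial.induction_on' with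
    | add a b ha hb =>
      rw [Pi.single_add]
      exact add_mem ha hb
    | monomial r a =>
      by_cases hr : r < L
      · have hmem : (Pi.single i (Polynomial.X ^ r) : Fin s → Polynomial k) ∈
            Submodule.span ↥A (F : Set (Fin s → Polynomial k)) :=
          Submodule.subset_span (Finset.mem_insert_of_mem
            (Finset.mem_image.mpr ⟨(i, ⟨r, hr⟩), Finset.mem_univ _, rfl⟩))
        have h2 := Submodule.smul_mem _ (algebraMap k ↥A a) hmem
        have he : (algebraMap k ↥A a) • (Pi.single i (Polynomial.X ^ r) : Fin s → Polynomial k) =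
            Pi.single i (Polynomial.monomial r a) := by
          funext j
          show Polynomial.C a * (Pi.single i (Polynomial.X ^ r) : Fin s → Polynomial k) j = _
          by_cases hij : j = i
          · subst hij
            simp [Polynomial.C_mul_X_pow_eq_monomial]
          · simp [Pi.single_eq_of_ne hij]
        rwa [he] at h2
      · have hmem : (Pi.single i (Polynomial.monomial r a) : Fin s → Polynomial k) ∈ A := by
          refine hC _ fun j => ?_
          by_cases hij : j = i
          · subst hij
            rw [Pi.single_eq_same, ← Polynomial.C_mul_X_pow_eq_monomial]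
            exact Dvd.dvd.mul_left (pow_dvd_pow _ (not_lt.mp hr)) _
          · rw [Pi.single_eq_of_ne hij]
            exact dvd_zero _
        have h2 := Submodule.smul_mem _ (⟨_, hmem⟩ : ↥A)
          (Submodule.subset_span (R := ↥A) (Finset.mem_insert_self (1 : Fin s → Polynomial k) _) :
            (1 : Fin s → Polynomial k) ∈ Submodule.span ↥A (F : Set (Fin s → Polynomial k)))
        rw [Subalgebra.smul_def, smul_eq_mul, mul_one] at h2
        exact h2
  refine ⟨?_, ?_, hfinA, ⟨L, ?_⟩, ?_, ?_⟩
  · have : Algebra.FiniteType k (Fin s → Polynomial k) :=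
      Algebra.FiniteType.trans (S := Polynomial k) inferInstance inferInstance
    exact ⟨fg_of_fg_of_fg k ↥A (Fin s → Polynomial k) this.out hfinA.fg_top Subtype.val_injective⟩
  · intro e he hee
    have h01 : ∀ i, e i = 0 ∨ e i = 1 := fun i => by
      have h := congrFun hee i
      simp only [Pi.mul_apply] at h
      rcases eq_or_ne (e i) 0 with h0 | h0
      · exact Or.inl h0
      · exact Or.inr (mul_left_cancel₀ h0 (by rw [h, mul_one]))
    rcases Classical.em (∃ i, e i = 1) with ⟨i, hi⟩ | hne
    · refine Or.inr (funext fun j => ?_)
      rcases h01 j with hj | hj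
      · have h := hcst e he i j
        simp [hi, hj] at h
      · exact hj
    · exact Or.inl (funext fun j => (h01 j).resolve_right fun hj => hne ⟨j, hj⟩)
  · intro g hg p
    refine hC _ fun i => ?_
    rw [Pi.mul_apply, Finset.prod_apply]
    refine Dvd.dvd.mul_left ?_ _
    have h : ∏ _n : Fin L, (Polynomial.X : Polynomial k) ∣ ∏ n, g n i :=
      Finset.prod_dvd_prod_of_dvd _ _ fun n _ => Polynomial.X_dvd_iff.mpr ((hg n).2 i)
    simpa using h
  · intro f hf N
    refine ⟨fun i => PowerSeries.trunc (N + L) (f i), (hA _).mpr ?_, fun i => ?_⟩
    · have h : (fun i => f i - ((PowerSeries.trunc (N + L) (f i) : Polynomial k) : PowerSeries k)) ∈ R := by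
        refine hord _ fun i => PowerSeries.nat_le_order _ _ fun n hn => ?_
        have hn' : n < N + L := lt_of_lt_of_le hn ((hL i).trans (Nat.le_add_left _ _))
        simp [PowerSeries.coeff_trunc, hn']
      have h2 := R.sub_mem hf h
      have he : (fun i => ((PowerSeries.trunc (N + L) (f i) : Polynomial k) : PowerSeries k)) =
          f - (fun i => f i - ((PowerSeries.trunc (N + L) (f i) : Polynomial k) : PowerSeries k)) := by
        funext i
        simp
      rw [he]
      exact h2
    · refine PowerSeries.nat_le_order _ _ fun n hn => ?_
      simp [PowerSeries.coeff_trunc, Nat.lt_add_right L hn]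
  · intro N
    set J := Ideal.span {h : ↥A | ∀ i : Fin s, ((h : Fin s → Polynomial k) i).coeff 0 = 0} with hJ
    refine ⟨L * (N + 1), fun g hg => ?_⟩
    let y : ↥A := ⟨fun _ => Polynomial.X ^ L, hC _ fun i => dvd_rfl⟩
    choose a ha using hg
    let z : ↥A := ⟨fun i => Polynomial.X ^ L * a i, hC _ fun i => dvd_mul_right _ _⟩
    have hy : y ∈ J := Ideal.subset_span fun i => by simp [y, hL0.ne]
    have hgz : g = z * y ^ N := by
      refine Subtype.ext (funext fun i => ?_)
      rw [ha i]
      simp only [y, z, MulMemClass.coe_mul, SubmonoidClass.coe_pow, Pi.mul_apply, Pi.pow_apply]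
      rw [← pow_mul, Nat.mul_succ, pow_add]
      ring
    rw [hgz]
    exact Ideal.mul_mem_left _ _ (Ideal.pow_mem_pow hy N)

end Groth.Agent.S15152
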