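import Groth.Statements.S15153
import Groth.Agent.Lib.Fitting.More
import Mathlib.Topology.Constructible
import Mathlib.LinearAlgebra.FiniteDimensional.Lemmas
import Mathlib.RingTheory.Spectrum.Prime.Topology
import Mathlib.Topology.NoetherianSpace
import Mathlib.RingTheory.Spectrum.Prime.Noetherian

set_option autoImplicit false
universe u
open TensorProduct
open HilbZeta

namespace Groth.Agent.S15153

theorem finrank_span_endo_add (A : Type u) [CommRing A] (K : Type u) [Field K] [Algebra A K]
    {ι : Type u} (Q : Type u) [AddCommGroup Q] [Module A Q] {m : ℕ} (x : Fin m → Q)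
    (hx : Submodule.span A (Set.range x) = ⊤) (f : ι → Q →ₗ[A] Q) :
    Module.finrank K (Submodule.span K (Set.range fun i => LinearMap.baseChange K (f i)))
      + Module.finrank K (K ⊗[A] ((Fin m → Q) ⧸
          Submodule.span A (Set.range fun i => fun j => f i (x j))))
      = Module.finrank K (K ⊗[A] (Fin m → Q)) := by
  classical
  haveI : Module.Finite A Q := ⟨⟨(Finset.univ.image x), by simpa using hx⟩⟩
  let W : Submodule A (Fin m → Q) := Submodule.span A (Set.range fun i => fun j => f i (x j))
  have hr : W.baseChange K = LinearMap.ker (W.mkQ.baseChange K) := by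
    ext z
    rw [LinearMap.mem_ker, Submodule.baseChange, LinearMap.mem_range]
    have h := (lTensor_exact K (LinearMap.exact_subtype_mkQ W) (Submodule.mkQ_surjective W)) z
    simp only [LinearMap.baseChange_eq_ltensor]
    exact h.symm
  have hs : Function.Surjective (W.mkQ.baseChange K) := by
    rw [LinearMap.baseChange_eq_ltensor]
    exact LinearMap.lTensor_surjective _ (Submodule.mkQ_surjective W)
  have hrn := (W.mkQ.baseChange K).finrank_range_add_finrank_ker
  rw [LinearMap.range_eq_top.2 hs, finrank_top, ← hr] at hrn
  let ψ : (K ⊗[A] Q →ₗ[K] K ⊗[A] Q) →ₗ[K] (Fin m → K ⊗[A] Q) :=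
    LinearMap.pi fun j => LinearMap.applyₗ ((1 : K) ⊗ₜ[A] x j)
  have hψ : Function.Injective ψ := by
    intro φ φ' h
    refine LinearMap.ext_on (s := TensorProduct.mk A K Q 1 '' Set.range x) ?_ ?_
    · rw [← Submodule.baseChange_span, hx, Submodule.baseChange_top]
    · rintro _ ⟨_, ⟨j, rfl⟩, rfl⟩
      exact congrFun h j
  let P := TensorProduct.piRight A K K fun _ : Fin m => Q
  have himg : (Submodule.span K (Set.range fun i => LinearMap.baseChange K (f i))).map ψ
      = (W.baseChange K).map P.toLinearMap := by
    rw [Submodule.baseChange_span, Submodule.map_span, Submodule.map_span, ← Set.range_comp,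
      ← Set.range_comp, ← Set.range_comp]
    refine congrArg (Submodule.span K) (congrArg Set.range ?_)
    funext i j
    simp [ψ, P]
  have e1 := (Submodule.equivMapOfInjective ψ hψ
    (Submodule.span K (Set.range fun i => LinearMap.baseChange K (f i)))).finrank_eq
  have e2 := LinearEquiv.finrank_eq (P.submoduleMap (W.baseChange K))
  rw [e1, himg, ← e2]
  change Module.finrank K (W.baseChange K) + Module.finrank K (K ⊗[A] ((Fin m → Q) ⧸ W)) = _
  omega

theorem isConstructible_le (A : Type u) [CommRing A] [IsNoetherianRing A]
    (M : Type u) [AddCommGroup M] [Module A M] [Module.Finite A M] (k : ℕ) :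
    Topology.IsConstructible {p : PrimeSpectrum A |
      Module.finrank p.asIdeal.ResidueField (p.asIdeal.ResidueField ⊗[A] M) ≤ k} := by
  have : {p : PrimeSpectrum A |
      Module.finrank p.asIdeal.ResidueField (p.asIdeal.ResidueField ⊗[A] M) ≤ k}
      = (PrimeSpectrum.zeroLocus (Fitt.ideal A M k : Set A))ᶜ := by
    ext p
    simp only [Set.mem_ofPred_eq, Set.mem_compl_iff, PrimeSpectrum.mem_zeroLocus]
    exact (Groth.Agent.FittingLib.not_le_iff_finrank_fiber_le k p.asIdeal).symm
  rw [this]
  exact (TopologicalSpace.NoetherianSpace.isCompact _).isConstructible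
    (PrimeSpectrum.isClosed_zeroLocus _).isOpen_compl

theorem isConstructible_eq (A : Type u) [CommRing A] [IsNoetherianRing A]
    (M : Type u) [AddCommGroup M] [Module A M] [Module.Finite A M] (k : ℕ) :
    Topology.IsConstructible {p : PrimeSpectrum A |
      Module.finrank p.asIdeal.ResidueField (p.asIdeal.ResidueField ⊗[A] M) = k} := by
  rcases k with _ | k
  · simpa only [Nat.le_zero] using isConstructible_le A M 0
  · have h := (isConstructible_le A M (k+1)).sdiff (isConstructible_le A M k)
    convert h using 1
    ext p
    simp only [Set.mem_ofPred_eq, Set.mem_sdiff]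
    omega

theorem exists_bound (A : Type u) [CommRing A]
    (M : Type u) [AddCommGroup M] [Module A M] [Module.Finite A M] :
    ∃ N, ∀ p : PrimeSpectrum A,
      Module.finrank p.asIdeal.ResidueField (p.asIdeal.ResidueField ⊗[A] M) ≤ N := by
  obtain ⟨n, x, hx⟩ := Module.Finite.exists_fin (R := A) (M := M)
  refine ⟨n, fun p => ?_⟩
  rw [← Groth.Agent.FittingLib.not_le_iff_finrank_fiber_le,
    Groth.Agent.FittingLib.ideal_eq_top_of_span x hx le_rfl]
  exact fun h => p.2.ne_top (top_le_iff.1 h)

/-- Let A be a Noetherian commutative ring, S a commutative A-algebra and Q an S-module which is finite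
and flat as an A-module. For a prime p of A with residue field κ(p), multiplication by an element of
S induces a κ(p)-linear endomorphism of the fibre κ(p) ⊗_A Q; let φ(p) be the κ(p)-dimension of the
span of these endomorphisms, which is the colength of the annihilator of the fibre module κ(p) ⊗_A Q
in the fibre algebra κ(p) ⊗_A S (the length of the smallest subscheme of the fibre carrying it).
Then p ↦ φ(p) is a constructible function: for every n the primes with φ(p) = n form a constructible
subset of Spec A. (The published statement is for a coherent sheaf, flat and finite over a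
Noetherian base, on a family of reduced curve singularities with a section, and its function of the
base point is this colength; the curve hypotheses play no role and the row is the affine form over
any Noetherian ring.) -/
theorem result (A : Type u) [CommRing A] [IsNoetherianRing A]
    (S : Type u) [CommRing S] [Algebra A S]
    (Q : Type u) [AddCommGroup Q] [Module A Q] [Module S Q] [IsScalarTower A S Q]
    [Module.Finite A Q] [Module.Flat A Q] (n : ℕ) :
    Topology.IsConstructible {p : PrimeSpectrum A |
      Module.finrank p.asIdeal.ResidueField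
        (Submodule.span p.asIdeal.ResidueField
          (Set.range fun s : S =>
            LinearMap.baseChange p.asIdeal.ResidueField (DistribSMul.toLinearMap A Q s))) = n} := by
  classical
  obtain ⟨m, x, hx⟩ := Module.Finite.exists_fin (R := A) (M := Q)
  let W : Submodule A (Fin m → Q) :=
    Submodule.span A (Set.range fun s : S => fun j => DistribSMul.toLinearMap A Q s (x j))
  haveI : Module.Finite A ((Fin m → Q) ⧸ W) := inferInstance
  obtain ⟨N, hN⟩ := exists_bound A ((Fin m → Q) ⧸ W)
  have key := fun p : PrimeSpectrum A =>
    finrank_span_endo_add A p.asIdeal.ResidueField Q x hx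
      (fun s : S => DistribSMul.toLinearMap A Q s)
  have : {p : PrimeSpectrum A |
      Module.finrank p.asIdeal.ResidueField
        (Submodule.span p.asIdeal.ResidueField
          (Set.range fun s : S =>
            LinearMap.baseChange p.asIdeal.ResidueField (DistribSMul.toLinearMap A Q s))) = n}
      = ⋃ k : Fin (N + 1),
        {p : PrimeSpectrum A | Module.finrank p.asIdeal.ResidueField
          (p.asIdeal.ResidueField ⊗[A] (Fin m → Q)) = n + k} ∩
        {p : PrimeSpectrum A | Module.finrank p.asIdeal.ResidueField
          (p.asIdeal.ResidueField ⊗[A] ((Fin m → Q) ⧸ W)) = k} := by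
    ext p
    simp only [Set.mem_ofPred_eq, Set.mem_iUnion, Set.mem_inter_iff]
    have h := key p
    constructor
    · intro hp
      refine ⟨⟨_, Nat.lt_succ_of_le (hN p)⟩, ?_, rfl⟩
      rw [← h, hp]
    · rintro ⟨k, h1, h2⟩
      rw [h1] at h
      change _ + Module.finrank _ (_ ⊗[A] ((Fin m → Q) ⧸ W)) = _ at h
      rw [h2] at h
      omega
  rw [this]
  exact Topology.IsConstructible.iUnion fun k =>
    (isConstructible_eq A _ _).inter (isConstructible_eq A _ _)


end Groth.Agent.S15153
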