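import Groth.Statements.S15155
import Groth.Agent.Lib.SkewDet28.Basic
import Mathlib

set_option autoImplicit false
open CAlg

namespace Groth.Agent.S15155

open Matrix

abbrev J (m : ℕ) : Matrix (Fin m ⊕ Fin m) (Fin m ⊕ Fin m) ℂ := Matrix.fromBlocks 0 1 (-1) 0

theorem J_transpose (m : ℕ) : (J m)ᵀ = -J m := by
  simp [J, Matrix.fromBlocks_transpose, Matrix.fromBlocks_neg]

theorem J_mul_J (m : ℕ) : J m * J m = -1 := by
  rw [← Matrix.fromBlocks_one, J, Matrix.fromBlocks_multiply, Matrix.fromBlocks_neg]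
  simp

theorem key (m : ℕ) {S : Type} [CommRing S] [IsDomain S] [CharZero S] (φ : ℂ →+* S)
    (N : Matrix (Fin m ⊕ Fin m) (Fin m ⊕ Fin m) (MvPolynomial ((Fin m ⊕ Fin m) × (Fin m ⊕ Fin m)) S)) :
    ∃ Q : MvPolynomial ((Fin m ⊕ Fin m) × (Fin m ⊕ Fin m)) S, ∀ a : (Fin m ⊕ Fin m) × (Fin m ⊕ Fin m) → S,
      ((J m).map φ * N.map (MvPolynomial.eval a))ᵀ = -((J m).map φ * N.map (MvPolynomial.eval a)) →
      (N.map (MvPolynomial.eval a)).det = MvPolynomial.eval a Q ^ 2 := by
  classical
  obtain ⟨p, hp⟩ := SkewDet28.exists_pfaffian (m + m) ℂ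
  have hJ : (J m).det * (J m).det ≠ 0 := by
    rw [← Matrix.det_mul, J_mul_J, Matrix.det_neg, Matrix.det_one, mul_one]
    exact pow_ne_zero _ (by norm_num)
  obtain ⟨c, hc⟩ := IsAlgClosed.exists_eq_mul_self (J m).det⁻¹
  let e := (finSumFinEquiv (m := m) (n := m))
  let G := ((J m).map ((MvPolynomial.C).comp φ) * N).submatrix e.symm e.symm
  refine ⟨MvPolynomial.C (φ c) * MvPolynomial.eval₂ (MvPolynomial.C.comp φ) (fun ij => G ij.1 ij.2) p, fun a ha => ?_⟩
  set M := ((J m).map φ * N.map (MvPolynomial.eval a)).submatrix e.symm e.symm with hM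
  have hMt : Mᵀ = -M := by rw [hM, Matrix.transpose_submatrix, ha]; rfl
  have hG : G.map (MvPolynomial.eval a) = M := by
    rw [hM]
    ext i j
    simp only [G, Matrix.map_apply, Matrix.submatrix_apply, Matrix.mul_apply, map_sum, map_mul]
    simp
  have hdiag : ∀ i, M i i = 0 := fun i => by
    have h := congrFun (congrFun hMt i) i
    simp only [Matrix.transpose_apply, Matrix.neg_apply] at h
    exact (mul_eq_zero.1 (show (2 : S) * M i i = 0 by linear_combination h)).resolve_left two_ne_zero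
  have hdet : φ (J m).det * (N.map (MvPolynomial.eval a)).det =
      MvPolynomial.eval₂ φ (fun ij => M ij.1 ij.2) p ^ 2 := by
    rw [← hp S φ M hMt hdiag, hM, Matrix.det_submatrix_equiv_self, Matrix.det_mul, RingHom.map_det]
    rfl
  have hev : MvPolynomial.eval a (MvPolynomial.eval₂ (MvPolynomial.C.comp φ) (fun ij => G ij.1 ij.2) p) =
      MvPolynomial.eval₂ φ (fun ij => M ij.1 ij.2) p := by
    rw [MvPolynomial.eval₂_comp_left (MvPolynomial.eval a), ← RingHom.comp_assoc, ← hG]
    congr 1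
    ext x; simp
  have hc2 : φ c * φ c * φ (J m).det = 1 := by
    rw [← map_mul, ← map_mul, ← hc, inv_mul_cancel₀ (fun h => hJ (by rw [h, mul_zero])), map_one]
  rw [map_mul, MvPolynomial.eval_C, hev, mul_pow, ← hdet]
  linear_combination -(N.map (MvPolynomial.eval a)).det * hc2


/-- Let J be the 2m × 2m block matrix with blocks 0, I_m in the first row and −I_m, 0 in the second,
over the complex numbers. On the set of complex 2m × 2m matrices A with ᵗA · J = J · A (equivalently
ᵗA = J A J⁻¹, J being invertible), the characteristic polynomial is the square of a single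
polynomial in the entries of A with coefficients in ℂ[X], and the determinant is the square of a
single polynomial in the entries of A. -/
theorem result (m : ℕ) :
    (∃ P : MvPolynomial ((Fin m ⊕ Fin m) × (Fin m ⊕ Fin m)) (Polynomial ℂ),
      ∀ A : Matrix (Fin m ⊕ Fin m) (Fin m ⊕ Fin m) ℂ,
        A.transpose * Matrix.fromBlocks 0 1 (-1) 0 = Matrix.fromBlocks 0 1 (-1) 0 * A →
        A.charpoly = (MvPolynomial.eval (fun ij => Polynomial.C (A ij.1 ij.2)) P) ^ 2) ∧
    (∃ Q : MvPolynomial ((Fin m ⊕ Fin m) × (Fin m ⊕ Fin m)) ℂ,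
      ∀ A : Matrix (Fin m ⊕ Fin m) (Fin m ⊕ Fin m) ℂ,
        A.transpose * Matrix.fromBlocks 0 1 (-1) 0 = Matrix.fromBlocks 0 1 (-1) 0 * A →
        A.det = (MvPolynomial.eval (fun ij => A ij.1 ij.2) Q) ^ 2) := by
  classical
  obtain ⟨P, hP⟩ := key m (Polynomial.C : ℂ →+* Polynomial ℂ)
    (Matrix.scalar _ (MvPolynomial.C Polynomial.X) - Matrix.of fun i j => MvPolynomial.X (i, j))
  obtain ⟨Q, hQ⟩ := key m (RingHom.id ℂ) (Matrix.of fun i j => MvPolynomial.X (i, j))
  refine ⟨⟨P, fun A hA => ?_⟩, Q, fun A hA => ?_⟩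
  · let C' : Matrix (Fin m ⊕ Fin m) (Fin m ⊕ Fin m) ℂ →+* _ := (Polynomial.C : ℂ →+* Polynomial ℂ).mapMatrix
    have hmap : (Matrix.scalar _ (MvPolynomial.C Polynomial.X) - Matrix.of fun i j => MvPolynomial.X (i, j) :
        Matrix (Fin m ⊕ Fin m) (Fin m ⊕ Fin m) (MvPolynomial _ (Polynomial ℂ))).map
          (MvPolynomial.eval fun ij => Polynomial.C (A ij.1 ij.2)) = A.charmatrix := by
      ext i j
      by_cases h : i = j
      · subst h; simp
      · simp [h, Matrix.charmatrix_apply_ne]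
    have := hP (fun ij => Polynomial.C (A ij.1 ij.2)) (by
      rw [hmap]
      rw [Matrix.transpose_mul, Matrix.charmatrix, ← Matrix.transpose_map, J_transpose]
      rw [Matrix.map_neg _ (map_neg _), Matrix.mul_neg, neg_inj]
      rw [Matrix.transpose_sub, show (Matrix.scalar (Fin m ⊕ Fin m) (Polynomial.X : Polynomial ℂ))ᵀ = Matrix.scalar _ Polynomial.X from Matrix.diagonal_transpose _]
      rw [sub_mul, mul_sub, (Matrix.scalar_commute Polynomial.X (fun r => Commute.all _ r) _).eq]
      simp only [RingHom.mapMatrix_apply, ← Matrix.transpose_map, ← Matrix.map_mul]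
      rw [hA])
    rw [hmap] at this
    exact this
  · have hmap : (Matrix.of fun i j => MvPolynomial.X (i, j) :
        Matrix (Fin m ⊕ Fin m) (Fin m ⊕ Fin m) (MvPolynomial _ ℂ)).map
          (MvPolynomial.eval fun ij => A ij.1 ij.2) = A := by
      ext i j; simp
    have := hQ (fun ij => A ij.1 ij.2) (by
      rw [hmap]
      simp only [RingHom.coe_id, Matrix.map_id]
      rw [Matrix.transpose_mul, J_transpose, Matrix.mul_neg, hA])
    rw [hmap] at this
    exact this


end Groth.Agent.S15155
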