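import Groth.Statements.S15156
import Groth.Agent.Lib.VB17.Involution
import Groth.Agent.Lib.VB17.Pair
-- import your own Groth.Agent.* helpers here

set_option autoImplicit false
open CategoryTheory CategoryTheory.Limits AlgebraicGeometry
open VBCurve

open Groth.Agent.M1 Groth.Agent.M2 Groth.Agent.CurveCoh17 Groth.Agent.VB17

namespace Groth.Agent.S15156

/-- Let X be a smooth proper integral curve of genus at least 2 over the complex numbers with an
involution σ ≠ id over the complex numbers, and (E, φ) a σ-linearized finite locally free module of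
rank r ≥ 1: φ : σ^*E ≅ E with φ ∘ σ^*φ equal to the canonical identification σ^*σ^*E ≅ E. A
submodule F ⊂ E is σ-invariant when the composite σ^*F → σ^*E → E factors through F. Then (E, φ) is
semistable with respect to σ-invariant finite locally free submodules (deg F · r ≤ deg E · rk F for
each such F of positive rank) if and only if E is slope-semistable (the same inequality for every
finite locally free submodule of positive rank); degrees are χ − rank · χ(O). -/
theorem result
    (X : Scheme.{0}) [X.Over (Spec (CommRingCat.of ℂ))] [IsIntegral X] [IsProper (X ↘ Spec (CommRingCat.of ℂ))] [Smooth (X ↘ Spec (CommRingCat.of ℂ))]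
    (hdim : topologicalKrullDim X = 1) (hg : 2 ≤ Curv2.genus ℂ X)
    (σ : X ⟶ X) (hσS : σ ≫ (X ↘ Spec (CommRingCat.of ℂ)) = X ↘ Spec (CommRingCat.of ℂ)) (hσ : σ ≫ σ = 𝟙 X) (hσ1 : σ ≠ 𝟙 X)
    (r : ℕ) (hr : 0 < r) (E : X.Modules) (hE : FlatMod.IsFinLocFreeOfRank r E)
    (φ : (Scheme.Modules.pullback σ).obj E ≅ E)
    (hφ : (Scheme.Modules.pullback σ).map φ.hom ≫ φ.hom =
      (Scheme.Modules.pullbackComp σ σ).hom.app E ≫ (Scheme.Modules.pullbackCongr hσ).hom.app E ≫
        (Scheme.Modules.pullbackId X).hom.app E) :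
    (∀ (F : X.Modules) (r' : ℕ) (i : F ⟶ E), Mono i → 0 < r' → FlatMod.IsFinLocFreeOfRank r' F →
      (∃ j : (Scheme.Modules.pullback σ).obj F ⟶ F, j ≫ i = (Scheme.Modules.pullback σ).map i ≫ φ.hom) →
      Curv2.deg ℂ X F r' * (r : ℤ) ≤ Curv2.deg ℂ X E r * (r' : ℤ)) ↔
    (∀ (F : X.Modules) (r' : ℕ) (i : F ⟶ E), Mono i → 0 < r' → FlatMod.IsFinLocFreeOfRank r' F →
      Curv2.deg ℂ X F r' * (r : ℤ) ≤ Curv2.deg ℂ X E r * (r' : ℤ)) := by
  refine ⟨fun hinv => ?_, fun h F r' i hi hr' hF _ => h F r' i hi hr' hF⟩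
  have hX := VB17.regCurve' (k := ℂ) (X := X) hdim
  haveI := hX.like.noetherian
  obtain ⟨E₁, r₁, i₁, hi₁, hr₁, hE₁, hmax, hrank, hss₁⟩ := exists_max_slope hX hr hE
  haveI := hi₁
  have hfree : FlatMod.IsFinLocFree (cokernel i₁) := isFinLocFree_cokernel hX hE hE₁ i₁ fun P j hj hP =>
    le_of_mul_le_mul_right (hmax P r₁ j hj hr₁ hP) (by exact_mod_cast hr₁)
  obtain ⟨s, hQ⟩ := exists_rank_of_isFinLocFree hfree
  haveI := isEquivalence_pullback σ hσ
  let E' := (Scheme.Modules.pullback σ).obj E₁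
  have hE' : FlatMod.IsFinLocFreeOfRank r₁ E' := isFinLocFreeOfRank_pullback σ hE₁
  have hd' : Curv2.deg ℂ X E' r₁ = Curv2.deg ℂ X E₁ r₁ := deg_pullback_invol σ hσ hσS hE₁
  have hss' : SS ℂ E' r₁ := by
    intro G n j hj hn hG
    haveI := hj
    have h := hss₁ _ n ((Scheme.Modules.pullback σ).map j ≫ ((involPullIso σ hσ).app E₁).hom) inferInstance hn
      (isFinLocFreeOfRank_pullback σ hG)
    rw [deg_pullback_invol σ hσ hσS hG] at h
    rwa [hd']
  have hz : (Scheme.Modules.pullback σ).map i₁ ≫ φ.hom ≫ cokernel.π i₁ = 0 := by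
    refine hom_eq_zero_of_forall_lt hX hE' hQ hss' (fun G n j hj hn hG => ?_) _
    haveI := hj
    obtain ⟨P, l, hl, hP, hdP⟩ := exists_preimage hX hE hE₁ i₁ hG j
    rw [hd']
    rcases (hmax P (r₁ + n) l hl (by omega) hP).lt_or_eq with h | h
    · rw [hdP] at h
      push_cast at h
      linarith
    · exact absurd (hrank P (r₁ + n) l hl (by omega) hP h) (by omega)
  have hex := ShortComplex.exact_of_g_is_cokernel (ShortComplex.mk i₁ (cokernel.π i₁) (cokernel.condition i₁))
    (cokernelIsCokernel i₁)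
  have hzero : ((Scheme.Modules.pullback σ).map i₁ ≫ φ.hom) ≫ cokernel.π i₁ = 0 := by rw [Category.assoc]; exact hz
  have key := hinv E₁ r₁ i₁ hi₁ hr₁ hE₁ ⟨hex.lift _ hzero, hex.lift_f _ hzero⟩
  intro G n j hj hn hG
  refine le_of_mul_le_mul_right ?_ (show (0 : ℤ) < r₁ by exact_mod_cast hr₁)
  have h1 := mul_le_mul_of_nonneg_right (hmax G n j hj hn hG) (show (0 : ℤ) ≤ r by positivity)
  have h2 := mul_le_mul_of_nonneg_right key (show (0 : ℤ) ≤ n by positivity)
  linarith

end Groth.Agent.S15156
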