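import Groth.Statements.S15157
-- import your own Groth.Agent.* helpers here
import Groth.Agent.Lib.CurveOm17.DoubleCover
import Mathlib.Algebra.Homology.ShortComplex.Exact
import Mathlib.Analysis.Complex.Polynomial.Basic

set_option autoImplicit false
open CategoryTheory CategoryTheory.Limits AlgebraicGeometry
open Curves

namespace Groth.Agent.S15157

/-- Let X be a smooth proper integral curve of genus at least 2 over the complex numbers with an
involution σ ≠ id over the complex numbers, and π : X → Y its quotient double cover: Y a smooth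
proper integral curve and π a finite flat morphism of constant rank 2 over the complex numbers with
π ∘ σ = π. Then the sheaf of differentials of X over the complex numbers descends to Y: it is
isomorphic to π^*M for some invertible O_Y-module M (existence of M and of an isomorphism only). -/
theorem result
    (X Y : Scheme.{0}) [X.Over (Spec (CommRingCat.of ℂ))] [Y.Over (Spec (CommRingCat.of ℂ))]
    [IsIntegral X] [IsProper (X ↘ Spec (CommRingCat.of ℂ))] [Smooth (X ↘ Spec (CommRingCat.of ℂ))] (hdimX : topologicalKrullDim X = 1)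
    (hg : 2 ≤ Curv2.genus ℂ X)
    [IsIntegral Y] [IsProper (Y ↘ Spec (CommRingCat.of ℂ))] [Smooth (Y ↘ Spec (CommRingCat.of ℂ))] (hdimY : topologicalKrullDim Y = 1)
    (σ : X ⟶ X) (hσS : σ ≫ (X ↘ Spec (CommRingCat.of ℂ)) = X ↘ Spec (CommRingCat.of ℂ)) (hσ : σ ≫ σ = 𝟙 X) (hσ1 : σ ≠ 𝟙 X)
    (π : X ⟶ Y) [IsFinite π] [Flat π] (hπ : π ≫ (Y ↘ Spec (CommRingCat.of ℂ)) = X ↘ Spec (CommRingCat.of ℂ))
    (hrk : ∀ y : ↥Y, Scheme.Hom.finrank π y = 2) (hσπ : σ ≫ π = π) :
    ∃ M : Y.Modules, PicF.IsInvertible M ∧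
      Nonempty ((Scheme.Modules.pullback π).obj M ≅ Omega.sheaf (X ↘ Spec (CommRingCat.of ℂ))) := by
  haveI := Groth.Agent.VB17.isNoetherian_of_over (k := ℂ) (X := Y)
  obtain ⟨-, -, hn⟩ := Groth.Agent.CurveOm17.isFinLocFreeOfRank_two ℂ hdimX hdimY π hrk
  let A := RelSpec.QCAlg.directImage π
  have hA : FlatMod.IsFinLocFree A.toModule := Groth.Agent.Trace12.isFinLocFree_of_rank hn
  let τ : Groth.Agent.CurveCoh17.pushO π ⟶ Coh.structureModule Y := Groth.Agent.Trace12.traceHom A hA
  have hu : IsUnit (((2 : ℕ) : Γ(Y, ⊤))) := by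
    have := (isUnit_iff_ne_zero.2 (two_ne_zero : (2 : ℂ) ≠ 0)).map (Coh.toGlobal (Y ↘ Spec (CommRingCat.of ℂ)))
    rwa [map_ofNat] at this
  obtain ⟨s₀, hs₀⟩ := Groth.Agent.Trace12.exists_section_trace A hn τ (Groth.Agent.Trace12.isTrace_traceHom A hA) hu
  let s : Coh.structureModule Y ⟶ Groth.Agent.CurveCoh17.pushO π := s₀
  have hs : s ≫ τ = 𝟙 _ := hs₀
  let r : Groth.Agent.CurveCoh17.pushO π ⟶ kernel τ := kernel.lift τ (𝟙 _ - τ ≫ s) (by
    rw [Preadditive.sub_comp, Category.assoc, Category.id_comp]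
    rw [hs]
    rw [Category.comp_id, sub_self])
  let S : ShortComplex Y.Modules := ShortComplex.mk (kernel.ι τ) τ (kernel.condition τ)
  have hι : kernel.ι τ ≫ r = 𝟙 _ := by
    rw [← cancel_mono (kernel.ι τ), Category.assoc, kernel.lift_ι, Preadditive.comp_sub, Category.comp_id,
      kernel.condition_assoc, zero_comp, sub_zero, Category.id_comp]
  have hid : r ≫ kernel.ι τ + τ ≫ s = 𝟙 _ := by
    rw [kernel.lift_ι]; exact sub_add_cancel _ _
  let sp : S.Splitting := ShortComplex.Splitting.mk r s hι hs hid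
  obtain ⟨Δ, -, -, hM, h4⟩ := Groth.Agent.CurveOm17.exists_pullback_iso_omega (k := ℂ) hdimX hdimY π hπ hrk
    (sp.isoBinaryBiproduct ≪≫ biprod.braiding _ _)
  exact ⟨_, hM, h4⟩

end Groth.Agent.S15157
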