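import Groth.Statements.S15159
import Mathlib

set_option autoImplicit false
open CAlg

namespace Groth.Agent.S15159
open CAlg

open Module

variable {W : Type} [AddCommGroup W] [Module ℂ W] {H : Type} [AddCommGroup H] [Module ℂ H]

theorem mem_perp (q : H →ₗ[ℂ] H →ₗ[ℂ] W) (V : Submodule ℂ H) (x : H) :
    x ∈ (⨅ (y : H) (_ : y ∈ V), LinearMap.ker (q.flip y) : Submodule ℂ H) ↔ ∀ y ∈ V, q x y = 0 := by
  simp [Submodule.mem_iInf]

theorem finrank_biSup [FiniteDimensional ℂ H] {ι : Type} [Fintype ι] [DecidableEq ι]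
    {Hs : ι → Submodule ℂ H} (hind : iSupIndep Hs) (T : Finset ι) :
    finrank ℂ ↥(⨆ i ∈ T, Hs i) = ∑ i ∈ T, finrank ℂ (Hs i) := by
  induction T using Finset.induction with
  | empty => simp
  | insert a T ha ih =>
    have hd : Disjoint (Hs a) (⨆ i ∈ T, Hs i) :=
      (hind a).mono_right (iSup₂_le fun i hi => le_iSup₂_of_le i (fun h : i = a => ha (h ▸ hi)) le_rfl)
    have h := Submodule.finrank_sup_add_finrank_inf_eq (Hs a) (⨆ i ∈ T, Hs i)
    rw [hd.eq_bot, finrank_bot] at h
    rw [Finset.sum_insert ha, Finset.iSup_insert, ← ih]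
    omega

/-- from weights to an isotropic subspace -/
theorem exists_bad [FiniteDimensional ℂ H] (q : H →ₗ[ℂ] H →ₗ[ℂ] W) {ι : Type} [Fintype ι] [DecidableEq ι]
    {Hs : ι → Submodule ℂ H} (m : ι → ℤ) (hint : DirectSum.IsInternal Hs) (T S : Finset ι)
    (hTT : ∀ i ∈ T, ∀ j ∈ T, ∀ x ∈ Hs i, ∀ y ∈ Hs j, q x y = 0)
    (hST : ∀ i, i ∉ S → ∀ j ∈ T, ∀ x ∈ Hs i, ∀ y ∈ Hs j, q x y = 0) :
    ∃ V : Submodule ℂ H, (∀ x ∈ V, ∀ y ∈ V, q x y = 0) ∧
      finrank ℂ V = ∑ i ∈ T, finrank ℂ (Hs i) ∧
      finrank ℂ H ≤ finrank ℂ ↥(⨅ (y : H) (_ : y ∈ V), LinearMap.ker (q.flip y) : Submodule ℂ H) +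
        ∑ i ∈ S, finrank ℂ (Hs i) := by
  obtain ⟨hind, htop⟩ := (DirectSum.isInternal_submodule_iff_iSupIndep_and_iSup_eq_top _).1 hint
  have hperp : ∀ (i : ι), (∀ j ∈ T, ∀ x ∈ Hs i, ∀ y ∈ Hs j, q x y = 0) →
      ∀ x ∈ Hs i, ∀ y ∈ (⨆ j ∈ T, Hs j), q x y = 0 := by
    intro i hi x hx y hy
    have hle : (⨆ j ∈ T, Hs j) ≤ LinearMap.ker (q x) := iSup₂_le fun j hj z hz => hi j hj x hx z hz
    exact hle hy
  refine ⟨⨆ i ∈ T, Hs i, fun x hx y hy => ?_, finrank_biSup hind T, ?_⟩
  · have hle : (⨆ j ∈ T, Hs j) ≤ LinearMap.ker (q.flip y) :=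
      iSup₂_le fun i hi z hz => hperp i (hTT i hi) z hz y hy
    exact hle hx
  · have hle : (⨆ i ∈ Sᶜ, Hs i) ≤ (⨅ (y : H) (_ : y ∈ ⨆ j ∈ T, Hs j), LinearMap.ker (q.flip y)) := by
      refine iSup₂_le fun i hi x hx => (mem_perp q _ x).2 fun y hy => ?_
      exact hperp i (hST i (Finset.mem_compl.1 hi)) x hx y hy
    have h1 := Submodule.finrank_mono hle
    have h2 := finrank_biSup hind (Finset.univ : Finset ι)
    rw [finrank_biSup hind] at h1
    rw [show (⨆ i ∈ (Finset.univ : Finset ι), Hs i) = ⊤ by simp [htop], finrank_top] at h2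
    rw [h2, ← Finset.sum_compl_add_sum S]
    omega

theorem card_lt (k : ℕ) {M : ℕ} (h : k ≤ M) : ((Finset.range M).filter (fun t => t < k)).card = k := by
  rw [show (Finset.range M).filter (fun t => t < k) = Finset.range k by ext t; simp; omega,
    Finset.card_range]

theorem sum_filter_swap {ι : Type} [Fintype ι] (d : ι → ℕ) (f : ι → ℕ) {M : ℕ} (hM : ∀ i, f i ≤ M) :
    ∑ t ∈ Finset.range M, ∑ i ∈ Finset.univ.filter (fun i => t < f i), d i = ∑ i, d i * f i := by
  simp only [Finset.sum_filter]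
  rw [Finset.sum_comm]
  refine Finset.sum_congr rfl fun i _ => ?_
  rw [← Finset.sum_filter, Finset.sum_const, card_lt _ (hM i), smul_eq_mul, mul_comm]

/-- the three pieces -/
def tri (V C R : Submodule ℂ H) : Fin 3 → Submodule ℂ H
  | 0 => V
  | 1 => C
  | 2 => R

theorem fin3_cases (j : Fin 3) : j = 0 ∨ j = 1 ∨ j = 2 := by revert j; decide

theorem tri_indep {V C R : Submodule ℂ H} (hd : Disjoint V C) (hd2 : Disjoint (V ⊔ C) R) :
    iSupIndep (tri V C R) := by
  have hd3 : Disjoint (C ⊔ V) R := by rw [sup_comm]; exact hd2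
  intro i
  rcases fin3_cases i with rfl | rfl | rfl
  · refine (hd.disjoint_sup_right_of_disjoint_sup_left hd2).mono_right (iSup₂_le fun j hj => ?_)
    rcases fin3_cases j with rfl | rfl | rfl
    exacts [absurd rfl hj, le_sup_left, le_sup_right]
  · refine (hd.symm.disjoint_sup_right_of_disjoint_sup_left hd3).mono_right (iSup₂_le fun j hj => ?_)
    rcases fin3_cases j with rfl | rfl | rfl
    exacts [le_sup_left, absurd rfl hj, le_sup_right]
  · refine hd2.symm.mono_right (iSup₂_le fun j hj => ?_)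
    rcases fin3_cases j with rfl | rfl | rfl
    exacts [le_sup_left, le_sup_right, absurd rfl hj]

/-- from an isotropic subspace to a three step decomposition -/
theorem exists_weights [FiniteDimensional ℂ H] (s : W →ₗ[ℂ] W) (q : H →ₗ[ℂ] H →ₗ[ℂ] W)
    (hq : ∀ x y : H, q x y = s (q y x)) (V : Submodule ℂ H) (hV : ∀ x ∈ V, ∀ y ∈ V, q x y = 0) :
    ∃ Hs : Fin 3 → Submodule ℂ H, DirectSum.IsInternal Hs ∧ Hs 0 = V ∧
      finrank ℂ V + finrank ℂ (Hs 1) = finrank ℂ ↥(⨅ (y : H) (_ : y ∈ V), LinearMap.ker (q.flip y) : Submodule ℂ H) ∧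
      finrank ℂ V + finrank ℂ (Hs 1) + finrank ℂ (Hs 2) = finrank ℂ H ∧
      (∀ x ∈ Hs 0, ∀ i ≠ (2 : Fin 3), ∀ y ∈ Hs i, q x y = 0 ∧ q y x = 0) := by
  obtain ⟨C', hC'⟩ := Submodule.exists_isCompl V
  set P : Submodule ℂ H := ⨅ (y : H) (_ : y ∈ V), LinearMap.ker (q.flip y) with hP
  obtain ⟨R, hR⟩ := Submodule.exists_isCompl P
  have hVP : V ≤ P := fun x hx => (mem_perp q V x).2 fun y hy => hV x hx y hy
  set C := C' ⊓ P
  have hsup : V ⊔ C = P := by
    rw [← sup_inf_assoc_of_le C' hVP, hC'.sup_eq_top, top_inf_eq]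
  have hd : Disjoint V C := hC'.disjoint.mono_right inf_le_left
  have hd2 : Disjoint (V ⊔ C) R := hsup ▸ hR.disjoint
  have hh := Submodule.finrank_sup_add_finrank_inf_eq V C
  rw [hsup, hd.eq_bot, finrank_bot, add_zero] at hh
  have h2 := Submodule.finrank_add_eq_of_isCompl hR
  refine ⟨tri V C R, ?_, rfl, hh.symm, ?_, ?_⟩
  · rw [DirectSum.isInternal_submodule_iff_iSupIndep_and_iSup_eq_top]
    refine ⟨tri_indep hd hd2, top_unique ?_⟩
    rw [← hR.sup_eq_top, ← hsup]
    exact sup_le (sup_le (le_iSup (tri V C R) 0) (le_iSup (tri V C R) 1)) (le_iSup (tri V C R) 2)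
  · show finrank ℂ V + finrank ℂ C + finrank ℂ R = _
    omega
  · intro x hx i hi y hy
    have hyP : y ∈ P := by
      rcases fin3_cases i with rfl | rfl | rfl
      · exact hVP hy
      · exact (show C ≤ P from inf_le_right) hy
      · exact absurd rfl hi
    have h := (mem_perp q V y).1 hyP x hx
    exact ⟨by rw [hq, h, map_zero], h⟩

/-- Let W be a finite-dimensional complex vector space with an involution s, H a finite-dimensional
complex vector space and q : H → H → W a nonzero bilinear map with q(x)(y) = s(q(y)(x)). Write V^⊥ =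
{x | q(x)(y) = 0 for all y ∈ V} and call V totally isotropic when q vanishes on V × V. The pair (H,
q) is semistable (dim V + dim V^⊥ ≤ dim H for every nonzero totally isotropic subspace V),
respectively stable (strict inequality), if and only if the line of q is semistable, respectively
stable, for the action of SL(H), the latter being expressed through one-parameter subgroups: for
every decomposition H = ⊕_i H_i into subspaces with integer weights m_i such that Σ_i m_i dim H_i =
0 and some nonzero H_i has nonzero weight, there are indices i, j with q(H_i, H_j) ≠ 0 and m_i + m_j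
≤ 0, respectively m_i + m_j < 0. (The published statement speaks of semistability and stability of
the point of the projective space of such forms under SL(H); this row states the numerical condition
on one-parameter subgroups to which that is equivalent and which the published argument verifies.) -/
theorem result
    (W : Type) [AddCommGroup W] [Module ℂ W] [FiniteDimensional ℂ W]
    (s : W →ₗ[ℂ] W) (hs : s ∘ₗ s = LinearMap.id)
    (H : Type) [AddCommGroup H] [Module ℂ H] [FiniteDimensional ℂ H]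
    (q : H →ₗ[ℂ] H →ₗ[ℂ] W) (hq : ∀ x y : H, q x y = s (q y x)) (hq0 : q ≠ 0) :
    ((∀ V : Submodule ℂ H, V ≠ ⊥ → (∀ x ∈ V, ∀ y ∈ V, q x y = 0) →
        Module.finrank ℂ V + Module.finrank ℂ ↥(⨅ (y : H) (_ : y ∈ V), LinearMap.ker (q.flip y) : Submodule ℂ H) ≤ Module.finrank ℂ H) ↔
      (∀ (ι : Type) [Fintype ι] [DecidableEq ι] (Hs : ι → Submodule ℂ H) (m : ι → ℤ),
        DirectSum.IsInternal Hs → (∑ i, m i * (Module.finrank ℂ (Hs i) : ℤ)) = 0 →
        (∃ i, m i ≠ 0 ∧ Hs i ≠ ⊥) →
        ∃ i j, (∃ x ∈ Hs i, ∃ y ∈ Hs j, q x y ≠ 0) ∧ m i + m j ≤ 0)) ∧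
    ((∀ V : Submodule ℂ H, V ≠ ⊥ → (∀ x ∈ V, ∀ y ∈ V, q x y = 0) →
        Module.finrank ℂ V + Module.finrank ℂ ↥(⨅ (y : H) (_ : y ∈ V), LinearMap.ker (q.flip y) : Submodule ℂ H) < Module.finrank ℂ H) ↔
      (∀ (ι : Type) [Fintype ι] [DecidableEq ι] (Hs : ι → Submodule ℂ H) (m : ι → ℤ),
        DirectSum.IsInternal Hs → (∑ i, m i * (Module.finrank ℂ (Hs i) : ℤ)) = 0 →
        (∃ i, m i ≠ 0 ∧ Hs i ≠ ⊥) →
        ∃ i j, (∃ x ∈ Hs i, ∃ y ∈ Hs j, q x y ≠ 0) ∧ m i + m j < 0)) := by
  classical
  refine ⟨⟨fun hV ι _ _ Hs m hint hsum hne => ?_, fun hw V hV0 hiso => ?_⟩,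
    ⟨fun hV ι _ _ Hs m hint hsum hne => ?_, fun hw V hV0 hiso => ?_⟩⟩
  · by_contra hc
    push Not at hc
    have hz : ∀ i j, m i + m j ≤ 0 → ∀ x ∈ Hs i, ∀ y ∈ Hs j, q x y = 0 := fun i j hij x hx y hy => by
      by_contra h
      exact absurd (hc i j ⟨x, hx, y, hy, h⟩) (by omega)
    let d := fun i => finrank ℂ (Hs i)
    let M := ∑ i, (m i).natAbs
    have hM : ∀ i, (m i).natAbs ≤ M := fun i => Finset.single_le_sum (f := fun i => (m i).natAbs) (fun i _ => Nat.zero_le _) (Finset.mem_univ i)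
    have hle : ∀ t ∈ Finset.range M, (∑ i ∈ Finset.univ.filter (fun i => t < (-m i).toNat), d i) ≤
        ∑ i ∈ Finset.univ.filter (fun i => t < (m i - 1).toNat), d i := by
      intro t _
      by_contra hlt
      push Not at hlt
      obtain ⟨V, hiso, hdV, hdP⟩ := exists_bad q m hint (Finset.univ.filter (fun i => t < (-m i).toNat))
        (Finset.univ.filter (fun i => t < (m i - 1).toNat))
        (fun i hi j hj => hz i j (by simp at hi hj; omega))
        (fun i hi j hj => hz i j (by simp at hi hj; omega))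
      have hne : V ≠ ⊥ := fun h => by
        rw [h, finrank_bot] at hdV
        simp only [d] at hlt; omega
      have := hV V hne hiso
      simp only [d] at hlt
      omega
    have h1 := Finset.sum_le_sum hle
    rw [sum_filter_swap d _ (fun i => le_trans (by omega) (hM i)),
      sum_filter_swap d _ (fun i => le_trans (by omega) (hM i))] at h1
    have h2 : ∀ i, (d i * (-m i).toNat : ℤ) - d i * (m i - 1).toNat =
        -(m i * d i) + (if 1 ≤ m i then (d i : ℤ) else 0) := fun i => by
      split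
      · rw [Int.toNat_of_nonpos (by omega : -m i ≤ 0), Int.toNat_of_nonneg (by omega)]
        push_cast; ring
      · rw [Int.toNat_of_nonpos (by omega : m i - 1 ≤ 0), Int.toNat_of_nonneg (by omega)]
        push_cast; ring
    have h3 : (∑ i, (if 1 ≤ m i then (d i : ℤ) else 0)) ≤ 0 := by
      have : ∑ i, ((d i * (-m i).toNat : ℤ) - d i * (m i - 1).toNat) ≤ 0 := by
        rw [Finset.sum_sub_distrib, sub_nonpos]; exact_mod_cast h1
      simp only [h2, Finset.sum_add_distrib, Finset.sum_neg_distrib] at this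
      simp only [d] at this ⊢
      rw [hsum] at this
      simpa using this
    have hpos : ∀ i, (if 1 ≤ m i then (d i : ℤ) else 0) = 0 := fun i =>
      (Finset.sum_eq_zero_iff_of_nonneg (fun i _ => by split <;> simp)).1
        (le_antisymm h3 (Finset.sum_nonneg fun i _ => by split <;> simp)) i (Finset.mem_univ i)
    have hnp : ∀ i, m i * (d i : ℤ) ≤ 0 := fun i => by
      by_cases hi : 1 ≤ m i
      · have := hpos i; rw [if_pos hi] at this; rw [this, mul_zero]
      · exact mul_nonpos_of_nonpos_of_nonneg (by omega) (Int.natCast_nonneg _)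
    obtain ⟨i, hi, hi'⟩ := hne
    have h4 := (Finset.sum_eq_zero_iff_of_nonpos (fun i _ => hnp i)).1 hsum i (Finset.mem_univ i)
    rcases mul_eq_zero.1 h4 with h | h
    · exact hi h
    · exact hi' (Submodule.finrank_eq_zero.1 (by simpa [d] using h))
  · by_contra hc
    push Not at hc
    obtain ⟨Hs, hint, h0, h1, h2, hz⟩ := exists_weights s q hq V hiso
    generalize hp : finrank ℂ V = p at h1 h2 hc
    generalize hr : finrank ℂ (Hs 1) = r at h1 h2
    generalize hs' : finrank ℂ (Hs 2) = c at h2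
    have hcp : c < p := by omega
    have hrs : 0 < r + c := by
      by_contra h
      push Not at h
      have htop : V = ⊤ := Submodule.eq_top_of_finrank_eq (by omega)
      exact hq0 (LinearMap.ext fun x => LinearMap.ext fun y =>
        hiso x (htop ▸ Submodule.mem_top) y (htop ▸ Submodule.mem_top))
    let m : Fin 3 → ℤ := ![-(r + c : ℤ), (p - c : ℤ), (r + c : ℤ) + (p - c)]
    obtain ⟨i, j, ⟨x, hx, y, hy, hxy⟩, hij⟩ := hw (Fin 3) Hs m hint (by
        rw [Fin.sum_univ_three, h0, hp, hr, hs']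
        simp [m]
        ring) ⟨0, by simp [m]; omega, h0 ▸ hV0⟩
    fin_cases i <;> fin_cases j <;> simp [m] at hij hxy hx hy <;>
      first
      | omega
      | exact hxy (hz x hx 0 (by decide) y hy).1
      | exact hxy (hz x hx 1 (by decide) y hy).1
      | exact hxy (hz y hy 1 (by decide) x hx).2
  · by_contra hc
    push Not at hc
    have hz : ∀ i j, m i + m j < 0 → ∀ x ∈ Hs i, ∀ y ∈ Hs j, q x y = 0 := fun i j hij x hx y hy => by
      by_contra h
      exact absurd (hc i j ⟨x, hx, y, hy, h⟩) (by omega)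
    let d := fun i => finrank ℂ (Hs i)
    let M := ∑ i, (m i).natAbs
    have hM : ∀ i, (m i).natAbs ≤ M := fun i => Finset.single_le_sum (f := fun i => (m i).natAbs) (fun i _ => Nat.zero_le _) (Finset.mem_univ i)
    have hlt : ∀ t ∈ Finset.range M, (∑ i ∈ Finset.univ.filter (fun i => t < (-m i).toNat), d i) ≤
        (∑ i ∈ Finset.univ.filter (fun i => t < (m i).toNat), d i) ∧
        (0 < (∑ i ∈ Finset.univ.filter (fun i => t < (-m i).toNat), d i) →
          (∑ i ∈ Finset.univ.filter (fun i => t < (-m i).toNat), d i) <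
          ∑ i ∈ Finset.univ.filter (fun i => t < (m i).toNat), d i) := by
      intro t _
      rcases Nat.eq_zero_or_pos (∑ i ∈ Finset.univ.filter (fun i => t < (-m i).toNat), d i) with h | h
      · rw [h]; exact ⟨Nat.zero_le _, fun h' => absurd h' (by omega)⟩
      obtain ⟨V, hiso, hdV, hdP⟩ := exists_bad q m hint (Finset.univ.filter (fun i => t < (-m i).toNat))
        (Finset.univ.filter (fun i => t < (m i).toNat))
        (fun i hi j hj => hz i j (by simp at hi hj; omega))
        (fun i hi j hj => hz i j (by simp at hi hj; omega))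
      simp only [d] at h ⊢
      have hne : V ≠ ⊥ := fun h' => by
        rw [h', finrank_bot] at hdV
        omega
      have := hV V hne hiso
      omega
    have h1 := fun (t0 : ℕ) (ht0 : t0 ∈ Finset.range M) hpos =>
      Finset.sum_lt_sum (fun t ht => (hlt t ht).1) ⟨t0, ht0, (hlt t0 ht0).2 hpos⟩
    obtain ⟨i, hi, hi'⟩ := hne
    have hd : ∀ i, Hs i ≠ ⊥ → 0 < d i := fun i hi => by
      rcases Nat.eq_zero_or_pos (d i) with h | h
      · exact absurd (Submodule.finrank_eq_zero.1 h) hi
      · exact h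
    have hneg : ∃ i, m i < 0 ∧ 0 < d i := by
      by_contra hall
      push Not at hall
      have hnn : ∀ i, 0 ≤ m i * (d i : ℤ) := fun i => by
        rcases lt_or_ge (m i) 0 with h | h
        · rw [Nat.le_zero.1 (hall i h)]; simp
        · positivity
      have h4 := (Finset.sum_eq_zero_iff_of_nonneg (fun i _ => hnn i)).1 hsum i (Finset.mem_univ i)
      rcases mul_eq_zero.1 h4 with h | h
      · exact hi h
      · have := hd i hi'; omega
    obtain ⟨i0, hi0, hd0⟩ := hneg
    have h5 := h1 0 (Finset.mem_range.2 (lt_of_lt_of_le (by omega) (hM i0))) (lt_of_lt_of_le hd0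
      (Finset.single_le_sum (f := d) (fun i _ => Nat.zero_le _) (Finset.mem_filter.2 ⟨Finset.mem_univ _, by omega⟩)))
    rw [sum_filter_swap d _ (fun i => le_trans (by omega) (hM i)),
      sum_filter_swap d _ (fun i => le_trans (by omega) (hM i))] at h5
    have h6 : ∑ i, ((d i * (-m i).toNat : ℤ) - d i * (m i).toNat) < 0 := by
      rw [Finset.sum_sub_distrib, sub_neg]; exact_mod_cast h5
    have h7 : ∀ i, (d i * (-m i).toNat : ℤ) - d i * (m i).toNat = -(m i * d i) := fun i => by
      rcases le_total (m i) 0 with h | h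
      · rw [Int.toNat_of_nonneg (by omega : (0:ℤ) ≤ -m i), Int.toNat_of_nonpos h]; push_cast; ring
      · rw [Int.toNat_of_nonneg h, Int.toNat_of_nonpos (by omega : -m i ≤ 0)]; push_cast; ring
    simp only [h7, Finset.sum_neg_distrib] at h6
    simp only [d] at h6
    rw [hsum] at h6
    simp at h6
  · by_contra hc
    push Not at hc
    obtain ⟨Hs, hint, h0, h1, h2, hz⟩ := exists_weights s q hq V hiso
    generalize hp : finrank ℂ V = p at h1 h2 hc
    generalize hr : finrank ℂ (Hs 1) = r at h1 h2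
    generalize hs' : finrank ℂ (Hs 2) = c at h2
    have hcp : c ≤ p := by omega
    have hp0 : 0 < p := by
      rcases Nat.eq_zero_or_pos p with h | h
      · exact absurd (Submodule.finrank_eq_zero.1 (hp.trans h)) hV0
      · exact h
    have hrs : 0 < r + c := by
      by_contra h
      push Not at h
      have htop : V = ⊤ := Submodule.eq_top_of_finrank_eq (by omega)
      exact hq0 (LinearMap.ext fun x => LinearMap.ext fun y =>
        hiso x (htop ▸ Submodule.mem_top) y (htop ▸ Submodule.mem_top))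
    let m : Fin 3 → ℤ := ![-(r + c : ℤ), (p - c : ℤ), (r + c : ℤ) + (p - c)]
    obtain ⟨i, j, ⟨x, hx, y, hy, hxy⟩, hij⟩ := hw (Fin 3) Hs m hint (by
        rw [Fin.sum_univ_three, h0, hp, hr, hs']
        simp [m]
        ring) ⟨0, by simp [m]; omega, h0 ▸ hV0⟩
    fin_cases i <;> fin_cases j <;> simp [m] at hij hxy hx hy <;>
      first
      | omega
      | exact hxy (hz x hx 0 (by decide) y hy).1
      | exact hxy (hz x hx 1 (by decide) y hy).1
      | exact hxy (hz y hy 1 (by decide) x hx).2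

end Groth.Agent.S15159
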