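import Groth.Statements.S15160
import Groth.Agent.S15039
import Groth.Agent.Lib.HypEq17.Inv
import Groth.Agent.Lib.CurveOm17.DoubleCover
import Groth.Agent.Lib.CurveOm17.P1
import Groth.Agent.Lib.ModLimH13.Sections
import Groth.Agent.Lib.ModLimH13.Flat
import Groth.Agent.Lib.KFlat.Pullback
import Groth.Agent.Lib.FormalH7.Nbhd
import Groth.Agent.Lib.SmoothReg17.Basic
-- import your own Groth.Agent.* helpers here

set_option autoImplicit false
open CategoryTheory CategoryTheory.Limits AlgebraicGeometry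
open VBCurve

open TopologicalSpace Opposite
open scoped TensorProduct

namespace Groth.Agent.S15160

open Groth.Agent Groth.Agent.M1 Groth.Agent.M2 Groth.Agent.CurveCoh17

set_option backward.isDefEq.respectTransparency false
set_option backward.isDefEq.respectTransparency.types false
set_option maxHeartbeats 1000000

universe v

variable {X Y : Scheme.{v}}

/-- A basis of a quadratic extension fixed pointwise on the base. -/
theorem exists_theta {K L : Type v} [Field K] [Field L] [Algebra K L] (h2 : Module.finrank K L = 2)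
    (φ : L →+* L) (hfix : ∀ a : K, φ (algebraMap K L a) = algebraMap K L a) (hφ : φ ≠ RingHom.id L) :
    ∃ θ : L, φ θ ≠ θ ∧ ∀ c : L, ∃ a b : K, c = algebraMap K L a + algebraMap K L b * θ := by
  obtain ⟨θ, hθ⟩ : ∃ θ, φ θ ≠ θ := by
    by_contra h
    push Not at h
    exact hφ (RingHom.ext h)
  refine ⟨θ, hθ, fun c => ?_⟩
  have hli : LinearIndependent K ![(1 : L), θ] := by
    rw [linearIndependent_fin2]
    refine ⟨fun h0 => hθ (by
      have h1 : θ = 0 := h0
      rw [h1, map_zero]), fun a h => ?_⟩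
    have h' : a • θ = 1 := h
    have ha : a ≠ 0 := fun h0 => by rw [h0, zero_smul] at h'; exact zero_ne_one h'
    apply hθ
    have h3 : θ = algebraMap K L a⁻¹ := by
      rw [Algebra.algebraMap_eq_smul_one, ← h', inv_smul_smul₀ ha]
    rw [h3, hfix]
  haveI : Module.Finite K L := Module.finite_of_finrank_pos (by omega)
  have hs := hli.span_eq_top_of_card_eq_finrank (by rw [Fintype.card_fin, h2])
  have hc : c ∈ Submodule.span K (Set.range ![(1 : L), θ]) := hs ▸ Submodule.mem_top
  obtain ⟨w, hw⟩ := (Submodule.mem_span_range_iff_exists_fun K).1 hc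
  refine ⟨w 0, w 1, ?_⟩
  rw [← hw, Fin.sum_univ_two]
  simp [Algebra.smul_def]

theorem push_smul_eq_zero [IsIntegral X] [IsIntegral Y] (π : X ⟶ Y) (hη : π (genericPoint X) = genericPoint Y)
    {E : X.Modules} (hq : Coh.IsQCoh E) (ht : TorSh.IsTorsionFree E)
    (hb : Function.Injective (π.stalkMap (genericPoint X))) {x : Y} {c : Y.presheaf.stalk x} (hc : c ≠ 0)
    (d : ((Scheme.Modules.pushforward π).obj E).presheaf.stalk x) (h : c • d = 0) : d = 0 := by
  obtain ⟨A, hxA, r, rfl⟩ := Y.presheaf.germ_exist c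
  obtain ⟨B, hxB, s, rfl⟩ := ((Scheme.Modules.pushforward π).obj E).presheaf.exists_germ_eq d
  have hAB : x ∈ A ⊓ B := ⟨hxA, hxB⟩
  rw [← Y.presheaf.germ_res_apply (homOfLE (inf_le_left : A ⊓ B ≤ A)) x hAB r,
    ← M1.germ_mres ((Scheme.Modules.pushforward π).obj E) (inf_le_right : A ⊓ B ≤ B) hAB s,
    ← M1.germ_smul _ hAB] at h
  obtain ⟨W, hxW, i, i', e0⟩ := ((Scheme.Modules.pushforward π).obj E).presheaf.germ_eq x hAB hAB _ 0
    (h.trans (map_zero _).symm)
  have hηW : genericPoint Y ∈ W := (genericPoint_specializes x).mem_open W.2 hxW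
  have hη' : genericPoint X ∈ π ⁻¹ᵁ W := show π (genericPoint X) ∈ W from hη ▸ hηW
  set r' := Y.presheaf.map i.op (Y.presheaf.map (homOfLE (inf_le_left : A ⊓ B ≤ A)).op r) with hr'
  set s' := M1.mres ((Scheme.Modules.pushforward π).obj E) i.le
    (M1.mres ((Scheme.Modules.pushforward π).obj E) (inf_le_right : A ⊓ B ≤ B) s) with hs'
  have e1 : r' • s' = 0 := by
    refine Eq.trans ?_ (e0.trans (map_zero _))
    exact (Scheme.Modules.map_smul _ _ _ _).symm
  have hne : X.presheaf.germ (π ⁻¹ᵁ W) (genericPoint X) hη' (π.app W r') ≠ 0 := by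
    rw [← Scheme.Hom.germ_stalkMap_apply π W (genericPoint X) hη']
    intro h0
    have h1 : Y.presheaf.germ W (π (genericPoint X)) hη' r' = 0 := hb (h0.trans (map_zero _).symm)
    have hsp : π (genericPoint X) ⤳ x := hη ▸ genericPoint_specializes x
    have h2 : Y.presheaf.stalkSpecializes hsp (Y.presheaf.germ A x hxA r) = 0 := by
      rw [TopCat.Presheaf.germ_stalkSpecializes_apply, ← h1, hr', TopCat.Presheaf.germ_res_apply,
        TopCat.Presheaf.germ_res_apply]
    refine hc ?_
    have key : ∀ {ξ : Y} (hξ : ξ = genericPoint Y) (hs : ξ ⤳ x),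
        Function.Injective (Y.presheaf.stalkSpecializes hs) := by
      intro ξ hξ hs; subst hξ; exact RH26.sp_injective x
    exact key hη hsp (h2.trans (map_zero _).symm)
  have h3 : (s' : Γ(E, π ⁻¹ᵁ W)) = 0 := by
    refine S15039.section_eq_zero hq ht hη' _ ?_
    have h4 : X.presheaf.germ (π ⁻¹ᵁ W) (genericPoint X) hη' (π.app W r') •
        E.presheaf.germ (π ⁻¹ᵁ W) (genericPoint X) hη' (s' : Γ(E, π ⁻¹ᵁ W)) = 0 := by
      rw [← M1.germ_smul E hη']
      exact (congrArg _ e1).trans (map_zero _)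
    exact ((isUnit_iff_ne_zero.2 hne : IsUnit (show X.functionField from _))).smul_eq_zero.1 h4
  have h5 : ((Scheme.Modules.pushforward π).obj E).presheaf.germ W x hxW s' = 0 :=
    (congrArg _ h3).trans (map_zero _)
  rwa [hs', M1.germ_mres, M1.germ_mres] at h5

theorem congr_pullSec {f g : X ⟶ Y} (h : f = g) (M : Y.Modules) {U : Y.Opens} {x : X} (hf : f x ∈ U) (hg : g x ∈ U)
    (s : Γ(M, U)) :
    stalkLin ((Scheme.Modules.pullbackCongr h).hom.app M) x
      (((Scheme.Modules.pullback f).obj M).presheaf.germ (f ⁻¹ᵁ U) x hf (M2.pullSec f M s)) =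
      ((Scheme.Modules.pullback g).obj M).presheaf.germ (g ⁻¹ᵁ U) x hg (M2.pullSec g M s) := by
  subst h
  rw [stalkLin_apply, M1.germ_naturality]
  rfl

theorem stalkUnit_naturality (σ : X ⟶ Y) {A B : Y.Modules} (i : A ⟶ B) (x : X) (z : A.presheaf.stalk (σ x)) :
    stalkLin ((Scheme.Modules.pullback σ).map i) x (M2.stalkUnitHom σ x A z) =
      M2.stalkUnitHom σ x B (stalkLin i (σ x) z) := by
  obtain ⟨U, hU, s, rfl⟩ := A.presheaf.exists_germ_eq z
  rw [M2.stalkUnitHom_germ, stalkLin_apply, M1.germ_naturality, stalkLin_apply, M1.germ_naturality,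
    M2.stalkUnitHom_germ, FormalH7.pullSec_naturality]

section Descent

variable [IsIntegral X] [IsIntegral Y] (π : X ⟶ Y) (σ : X ⟶ X) (hσπ : σ ≫ π = π)
  (eσ : σ (genericPoint X) = genericPoint X) (E : Y.Modules)

/-- The semilinear action of the involution on the generic stalk of a pullback. -/
noncomputable def act (z : ((Scheme.Modules.pullback π).obj E).presheaf.stalk (genericPoint X)) :
    ((Scheme.Modules.pullback π).obj E).presheaf.stalk (genericPoint X) :=
  stalkLin ((Scheme.Modules.pullbackComp σ π).hom.app E ≫ (Scheme.Modules.pullbackCongr hσπ).hom.app E) (genericPoint X)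
    (M2.stalkUnitHom σ (genericPoint X) ((Scheme.Modules.pullback π).obj E)
      (((Scheme.Modules.pullback π).obj E).presheaf.stalkSpecializes (specializes_of_eq eσ) z))

theorem act_add (z w : ((Scheme.Modules.pullback π).obj E).presheaf.stalk (genericPoint X)) :
    act π σ hσπ eσ E (z + w) = act π σ hσπ eσ E z + act π σ hσπ eσ E w := by
  simp only [act, map_add]

theorem act_smul (c : X.presheaf.stalk (genericPoint X))
    (z : ((Scheme.Modules.pullback π).obj E).presheaf.stalk (genericPoint X)) :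
    act π σ hσπ eσ E (c • z) = (Curve17.genMap σ eσ).hom c • act π σ hσπ eσ E z := by
  unfold act
  rw [Cyc26.stalkSpecializes_smul]
  have h : M2.stalkUnitHom σ (genericPoint X) ((Scheme.Modules.pullback π).obj E)
      (X.presheaf.stalkSpecializes (specializes_of_eq eσ) c •
        ((Scheme.Modules.pullback π).obj E).presheaf.stalkSpecializes (specializes_of_eq eσ) z) =
      (Curve17.genMap σ eσ).hom c • M2.stalkUnitHom σ (genericPoint X) ((Scheme.Modules.pullback π).obj E)
        (((Scheme.Modules.pullback π).obj E).presheaf.stalkSpecializes (specializes_of_eq eσ) z) := by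
    refine ((M2.stalkUnit σ (genericPoint X) ((Scheme.Modules.pullback π).obj E)).map_smul _ _).trans ?_
    refine (algebraMap_smul (X.presheaf.stalk (genericPoint X)) _ _).symm.trans ?_
    rfl
  rw [h, map_smul]

theorem act_pull (a : E.presheaf.stalk (π (genericPoint X))) :
    act π σ hσπ eσ E (M2.pullStalkEquiv π (genericPoint X) E (1 ⊗ₜ a)) =
      M2.pullStalkEquiv π (genericPoint X) E (1 ⊗ₜ a) := by
  obtain ⟨U, hU, s, rfl⟩ := E.presheaf.exists_germ_eq a
  have hπσ : π (σ (genericPoint X)) ∈ U := by rw [eσ]; exact hU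
  unfold act
  rw [M2.pullStalkEquiv_tmul, TopCat.Presheaf.germ_stalkSpecializes_apply,
    M2.stalkUnitHom_germ σ (genericPoint X) _ (show σ (genericPoint X) ∈ π ⁻¹ᵁ U from hπσ), stalkLin_comp]
  refine Eq.trans (congrArg _ ?_) (congr_pullSec hσπ E (x := genericPoint X) (show (σ ≫ π) (genericPoint X) ∈ U from hπσ) hU s)
  refine (M1.germ_naturality _ _ _ _ _).trans ?_
  exact congrArg _ (ModLimH13.pullbackComp_pullSec σ π E s)

include hσπ in
theorem genMap_fix (r : Y.presheaf.stalk (π (genericPoint X))) :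
    (Curve17.genMap σ eσ).hom (π.stalkMap (genericPoint X) r) = π.stalkMap (genericPoint X) r := by
  obtain ⟨U, hU, f, rfl⟩ := Y.presheaf.germ_exist r
  rw [Scheme.Hom.germ_stalkMap_apply]
  exact HypEq17.genMap_germ_app σ π hσπ eσ U hU f

end Descent

section Main

attribute [local instance] Curv2.stalkAlgebra

variable {k : Type v} [Field k] [X.Over (Spec (CommRingCat.of k))] [Y.Over (Spec (CommRingCat.of k))]
  [IsIntegral X] [IsIntegral Y] [IsProper (X ↘ Spec (CommRingCat.of k))] [IsProper (Y ↘ Spec (CommRingCat.of k))]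

theorem genMap_ne_id (σ : X ⟶ X) (hσS : σ ≫ (X ↘ Spec (CommRingCat.of k)) = X ↘ Spec (CommRingCat.of k))
    (eσ : σ (genericPoint X) = genericPoint X) (hσ1 : σ ≠ 𝟙 X) :
    (Curve17.genMap σ eσ).hom ≠ RingHom.id _ := fun h => hσ1 <| by
  have e1 : (𝟙 X : X ⟶ X) (genericPoint X) = genericPoint X := rfl
  refine HypEq17.eq_of_endo_eq (k := k) eσ e1 hσS (Category.id_comp _) ?_
  rw [HypEq17.endo_id]
  exact AlgHom.ext fun z => RingHom.congr_fun h z

end Main

/-- A subbundle of a pullback invariant under the involution descends. -/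
theorem exists_descent {k : Type v} [Field k] [X.Over (Spec (CommRingCat.of k))] [Y.Over (Spec (CommRingCat.of k))]
    [IsIntegral X] [IsProper (X ↘ Spec (CommRingCat.of k))] (hdimX : topologicalKrullDim X = 1)
    [IsIntegral Y] [IsProper (Y ↘ Spec (CommRingCat.of k))] [Smooth (Y ↘ Spec (CommRingCat.of k))]
    (hdimY : topologicalKrullDim Y = 1)
    (π : X ⟶ Y) [IsFinite π] [Flat π] (hrk : ∀ y : ↥Y, Scheme.Hom.finrank π y = 2)
    (σ : X ⟶ X) (hσS : σ ≫ (X ↘ Spec (CommRingCat.of k)) = X ↘ Spec (CommRingCat.of k)) (hσ : σ ≫ σ = 𝟙 X)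
    (hσ1 : σ ≠ 𝟙 X) (hσπ : σ ≫ π = π)
    {r : ℕ} (E : Y.Modules) (hE : FlatMod.IsFinLocFreeOfRank r E)
    (F : X.Modules) (i : F ⟶ (Scheme.Modules.pullback π).obj E) [Mono i]
    (hsub : FlatMod.IsFinLocFree (cokernel i))
    (j : (Scheme.Modules.pullback σ).obj F ⟶ F)
    (hj : j ≫ i = (Scheme.Modules.pullback σ).map i ≫ (Scheme.Modules.pullbackComp σ π).hom.app E ≫
        (Scheme.Modules.pullbackCongr hσπ).hom.app E) :
    ∃ (F' : Y.Modules) (i' : F' ⟶ E) (e : (Scheme.Modules.pullback π).obj F' ≅ F),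
        Mono i' ∧ e.hom ≫ i = (Scheme.Modules.pullback π).map i' := by
  haveI : IsNoetherian Y := VB17.isNoetherian_of_over (k := k) (X := Y)
  haveI : IsNoetherian X := VB17.isNoetherian_of_over (k := k) (X := X)
  obtain ⟨hη, hd2, -⟩ := CurveOm17.isFinLocFreeOfRank_two k hdimX hdimY π hrk
  haveI : IsIso σ := ⟨σ, hσ, hσ⟩
  have eσ : σ (genericPoint X) = genericPoint X := by
    have h := (genericPoint_spec X).image σ.continuous
    have hsurj : Function.Surjective σ := σ.homeomorph.surjective
    rw [Set.image_univ, hsurj.range_eq, closure_univ] at h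
    exact h.eq (genericPoint_spec X)
  have hY : Pi1.IsNormalScheme Y := fun y => ⟨SmoothReg17.isDomain_stalk (Y ↘ Spec (CommRingCat.of k)) y,
    SmoothReg17.isIntegrallyClosed_stalk (Y ↘ Spec (CommRingCat.of k)) y⟩
  -- the field extension
  have hfK : IsField (Y.presheaf.stalk (π (genericPoint X))) := by
    rw [hη]; exact Field.toIsField Y.functionField
  have hinjπ : Function.Injective (π.stalkMap (genericPoint X)) := by
    letI := hfK.toField
    exact (π.stalkMap (genericPoint X)).hom.injective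
  have hθ : ∃ θ : X.presheaf.stalk (genericPoint X), (Curve17.genMap σ eσ).hom θ ≠ θ ∧
      ∀ c, ∃ a b : Y.presheaf.stalk (π (genericPoint X)),
        c = π.stalkMap (genericPoint X) a + π.stalkMap (genericPoint X) b * θ := by
    letI := (Curve17.genMap π hη).hom.toAlgebra
    have h2 : Module.finrank Y.functionField X.functionField = 2 :=
      (CurveOm17.finrank_genMap_eq_residueDegree π hη).trans hd2
    obtain ⟨θ, hθ, hdec⟩ := exists_theta (K := Y.functionField) (L := X.functionField) h2
      (Curve17.genMap σ eσ).hom (fun a => genMap_fix π σ hσπ eσ _) (genMap_ne_id σ hσS eσ hσ1)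
    refine ⟨θ, hθ, fun c => ?_⟩
    obtain ⟨a, b, hab⟩ := hdec c
    exact ⟨Y.presheaf.stalkSpecializes (specializes_of_eq hη) a, Y.presheaf.stalkSpecializes (specializes_of_eq hη) b, hab⟩
  obtain ⟨θ, hθ, hdec⟩ := hθ
  let P := (Scheme.Modules.pullback π).obj E
  let η := genericPoint X
  let p (a : E.presheaf.stalk (π η)) : P.presheaf.stalk η := M2.pullStalkEquiv π η E (1 ⊗ₜ a)
  have hsplit : ∀ z : P.presheaf.stalk η, ∃ a b, z = p a + θ • p b := fun z => by
    obtain ⟨d, rfl⟩ := (M2.pullStalkEquiv π η E).surjective z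
    induction d using TensorProduct.induction_on with
    | zero => exact ⟨0, 0, by simp [p]⟩
    | tmul c m =>
      obtain ⟨a, b, rfl⟩ := hdec c
      refine ⟨a • m, b • m, ?_⟩
      simp only [p]
      rw [← map_smul, ← map_add, TensorProduct.smul_tmul', ← TensorProduct.smul_tmul (R := Y.presheaf.stalk (π η)),
        ← TensorProduct.smul_tmul (R := Y.presheaf.stalk (π η)), smul_eq_mul, Algebra.smul_def, Algebra.smul_def,
        mul_one, mul_one, ← TensorProduct.add_tmul, M2.algebraMap_stAlg]
      congr 2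
    | add x y hx hy =>
      obtain ⟨a, b, h⟩ := hx
      obtain ⟨a', b', h'⟩ := hy
      refine ⟨a + a', b + b', ?_⟩
      simp only [p] at h h' ⊢
      rw [map_add, h, h', TensorProduct.tmul_add, TensorProduct.tmul_add, map_add, map_add, smul_add]
      abel
  have hV : ∀ z : F.presheaf.stalk η, act π σ hσπ eσ E (stalkLin i η z) ∈ LinearMap.range (stalkLin i η) := fun z => by
    refine ⟨stalkLin j η (M2.stalkUnitHom σ η F (F.presheaf.stalkSpecializes (specializes_of_eq eσ) z)), ?_⟩
    rw [← stalkLin_comp, hj, stalkLin_comp, stalkUnit_naturality, S15039.stalk_sp]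
    rfl
  -- the descended subsheaf
  let ad := Scheme.Modules.pullbackPushforwardAdjunction π
  let G := cokernel i
  let q : P ⟶ G := cokernel.π i
  let g : E ⟶ (Scheme.Modules.pushforward π).obj G := ad.unit.app E ≫ (Scheme.Modules.pushforward π).map q
  let F' := kernel g
  let ι' := kernel.ι g
  obtain ⟨m₀, hm₀⟩ := VB17.exists_rank_of_isFinLocFree hsub
  have hG : Coh.IsCoh G := CurveCoh17.isCoh_of_ofRank hm₀
  have htG : TorSh.IsTorsionFree G := S15039.isTorsionFree_of_rank hm₀
  have hEc : Coh.IsCoh E := CurveCoh17.isCoh_of_ofRank hE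
  have hzero : (Scheme.Modules.pullback π).map ι' ≫ q = 0 := by
    apply (ad.homEquiv _ _).injective
    rw [Adjunction.homEquiv_naturality_left, Adjunction.homEquiv_unit]
    rw [Adjunction.homEquiv_unit, Functor.map_zero, comp_zero]
    exact kernel.condition g
  let e₀ : (Scheme.Modules.pullback π).obj F' ⟶ F := Abelian.monoLift i ((Scheme.Modules.pullback π).map ι') hzero
  have he₀ : e₀ ≫ i = (Scheme.Modules.pullback π).map ι' := Abelian.monoLift_comp _ _ _
  have hrange : ∀ a : E.presheaf.stalk (π η), p a ∈ LinearMap.range (stalkLin i η) →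
      a ∈ LinearMap.range (stalkLin ι' (π η)) := fun a ⟨z, hz⟩ => by
    have hqa : stalkLin q η (p a) = 0 := by
      rw [← hz, ← stalkLin_comp, cokernel.condition]
      exact M1.stalkAb_map_zero _ _
    have hga : stalkLin g (π η) a = 0 := by
      obtain ⟨U, hU, s, rfl⟩ := E.presheaf.exists_germ_eq a
      simp only [p] at hqa
      rw [M2.pullStalkEquiv_tmul, stalkLin_apply, M1.germ_naturality] at hqa
      have hs : q.app (π ⁻¹ᵁ U) (M2.pullSec π E s) = 0 :=
        S15039.section_eq_zero hG.1 htG (show genericPoint X ∈ π ⁻¹ᵁ U from hU) _ hqa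
      exact ((M1.germ_naturality g U (π η) hU s).trans (congrArg _ hs)).trans (map_zero _)
    exact (M1.exact_iff_stalk_eq_zero (ShortComplex.mk ι' g (kernel.condition g))).1
      (ShortComplex.exact_kernel g) (π η) a hga
  -- the quotient downstairs
  let Q := cokernel ι'
  have hpush : Coh.IsQCoh ((Scheme.Modules.pushforward π).obj G) := M1.isQCoh_push π hG.1
  have hF'q : Coh.IsQCoh F' := M1.isQCoh_kernel hEc.1 hpush g
  have hQ : Coh.IsCoh Q := ⟨M1.isQCoh_cokernel hF'q hEc.1 ι', M1.isFT_of_epi (cokernel.π ι') hEc.2⟩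
  let m : Q ⟶ (Scheme.Modules.pushforward π).obj G := Abelian.factorThruCoimage g
  have htQ : TorSh.IsTorsionFree Q := fun y => by
    refine ⟨fun c hc v w h => sub_eq_zero.1 ?_⟩
    have h0 : c • (v - w) = 0 := by rw [smul_sub]; exact sub_eq_zero.2 h
    refine (M1.mono_iff_stalk m).1 inferInstance y (Eq.trans ?_ (map_zero _).symm)
    refine push_smul_eq_zero π hη hG.1 htG hinjπ hc.ne_zero (stalkLin m y (v - w)) ?_
    rw [← map_smul, h0, map_zero]
  have hQf : FlatMod.IsFinLocFree Q := RH26.isFinLocFree_of_stalks hQ fun y => by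
    haveI := htQ y
    haveI : IsPrincipalIdealRing (Y.presheaf.stalk y) := RH26.isPrincipalIdealRing_of_normal hY
      ((VB17.ringKrullDim_stalk_le_topologicalKrullDim y).trans hdimY.le)
    exact RH26.free_of_isPrincipal hQ
  obtain ⟨m₁, hm₁⟩ := VB17.exists_rank_of_isFinLocFree (M2.isFinLocFree_pullback π hQf)
  let b := (Scheme.Modules.pullback π).map (cokernel.π ι')
  have hib : i ≫ b = 0 := by
    refine S15039.hom_eq_zero (CurveCoh17.isCoh_of_ofRank hm₁).1 (S15039.isTorsionFree_of_rank hm₁) _ fun z => ?_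
    obtain ⟨a, a', haa⟩ := hsplit (stalkLin i η z)
    have hza : stalkLin i η z ∈ LinearMap.range (stalkLin i η) := ⟨z, rfl⟩
    have hact := hV z
    rw [haa] at hza hact
    rw [act_add, act_smul, act_pull, act_pull] at hact
    have h1 : ((Curve17.genMap σ eσ).hom θ - θ) • p a' ∈ LinearMap.range (stalkLin i η) := by
      have := Submodule.sub_mem _ hact hza
      rwa [add_sub_add_left_eq_sub, ← sub_smul] at this
    have ha' : p a' ∈ LinearMap.range (stalkLin i η) := by
      have hu : ((Curve17.genMap σ eσ).hom θ - θ : X.functionField) ≠ 0 := sub_ne_zero.2 hθ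
      obtain ⟨u, hu'⟩ := (isUnit_iff_ne_zero.2 hu)
      have := Submodule.smul_mem _ ((u⁻¹ : X.functionFieldˣ) : X.functionField) h1
      rw [smul_smul, ← hu'] at this
      simpa using this
    have ha : p a ∈ LinearMap.range (stalkLin i η) := by
      have := Submodule.sub_mem _ hza (Submodule.smul_mem _ θ ha')
      rwa [add_sub_cancel_right] at this
    have hkill : ∀ a : E.presheaf.stalk (π η), a ∈ LinearMap.range (stalkLin ι' (π η)) → stalkLin b η (p a) = 0 := by
      rintro _ ⟨w, rfl⟩
      refine (KFlat.Sch.pullStalkEquiv_naturality π (cokernel.π ι') η _).trans ?_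
      rw [LinearMap.lTensor_tmul]
      have h0 : KFlat.Sch.stk (cokernel.π ι') (π η) (stalkLin ι' (π η) w) = 0 := by
        show stalkLin (cokernel.π ι') (π η) (stalkLin ι' (π η) w) = 0
        rw [← stalkLin_comp, cokernel.condition]
        exact M1.stalkAb_map_zero _ _
      rw [h0, TensorProduct.tmul_zero, map_zero]
    rw [stalkLin_comp, haa, map_add, map_smul, hkill a (hrange a ha), hkill a' (hrange a' ha'), smul_zero, add_zero]
  haveI : Mono ((Scheme.Modules.pullback π).map ι') := ModLimH13.mono_pullback_map_of_flat π ι'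
  haveI : Mono (e₀ ≫ i) := he₀.symm ▸ inferInstance
  haveI : Mono e₀ := mono_of_mono e₀ i
  have w : (Scheme.Modules.pullback π).map ι' ≫ b = 0 := by
    rw [← Functor.map_comp, cokernel.condition, Functor.map_zero]
  have hex := ModLimH13.exact_map_of_flat π ι' (cokernel.π ι') (cokernel.condition ι')
    (ShortComplex.exact_cokernel ι') w
  haveI : IsIso e₀ := (M1.isIso_iff_stalk e₀).2 fun x => ⟨(M1.mono_iff_stalk e₀).1 inferInstance x, fun z => by
    obtain ⟨v, hv⟩ := (M1.exact_iff_stalk_eq_zero _).1 hex x (stalkLin i x z) (by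
      show stalkLin b x (stalkLin i x z) = 0
      rw [← stalkLin_comp, hib]
      exact M1.stalkAb_map_zero _ _)
    refine ⟨v, (M1.mono_iff_stalk i).1 inferInstance x ?_⟩
    refine Eq.trans ?_ hv
    show stalkLin i x (stalkLin e₀ x v) = stalkLin ((Scheme.Modules.pullback π).map ι') x v
    rw [← stalkLin_comp, he₀]⟩
  exact ⟨F', ι', asIso e₀, inferInstance, he₀⟩


/-- Let π : X → Y be a ramified double cover of smooth proper integral curves over the complex numbers
(π finite flat of constant rank 2 over the complex numbers and not étale) with covering involution σ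
(σ ∘ σ = id, σ ≠ id, π ∘ σ = π), E a finite locally free module of rank r ≥ 1 on Y and i : F → π^*E
a subbundle (a monomorphism whose cokernel is finite locally free). Then F descends to Y as a
subbundle of E — there are a monomorphism i' : F' → E and an isomorphism π^*F' ≅ F carrying π^*i' to
i — if and only if the canonical linearization σ^*π^*E ≅ π^*E, induced by π ∘ σ = π, restricts to a
morphism σ^*F → F. -/
theorem result
    (X Y : Scheme.{0}) [X.Over (Spec (CommRingCat.of ℂ))] [Y.Over (Spec (CommRingCat.of ℂ))]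
    [IsIntegral X] [IsProper (X ↘ Spec (CommRingCat.of ℂ))] [Smooth (X ↘ Spec (CommRingCat.of ℂ))] (hdimX : topologicalKrullDim X = 1)
    [IsIntegral Y] [IsProper (Y ↘ Spec (CommRingCat.of ℂ))] [Smooth (Y ↘ Spec (CommRingCat.of ℂ))] (hdimY : topologicalKrullDim Y = 1)
    (π : X ⟶ Y) [IsFinite π] [Flat π] (hπ : π ≫ (Y ↘ Spec (CommRingCat.of ℂ)) = X ↘ Spec (CommRingCat.of ℂ))
    (hrk : ∀ y : ↥Y, Scheme.Hom.finrank π y = 2) (hram : ¬ Etale π)
    (σ : X ⟶ X) (hσS : σ ≫ (X ↘ Spec (CommRingCat.of ℂ)) = X ↘ Spec (CommRingCat.of ℂ)) (hσ : σ ≫ σ = 𝟙 X) (hσ1 : σ ≠ 𝟙 X) (hσπ : σ ≫ π = π)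
    (r : ℕ) (hr : 0 < r) (E : Y.Modules) (hE : FlatMod.IsFinLocFreeOfRank r E)
    (F : X.Modules) (i : F ⟶ (Scheme.Modules.pullback π).obj E) [Mono i]
    (hsub : FlatMod.IsFinLocFree (cokernel i)) :
    (∃ (F' : Y.Modules) (i' : F' ⟶ E) (e : (Scheme.Modules.pullback π).obj F' ≅ F),
        Mono i' ∧ e.hom ≫ i = (Scheme.Modules.pullback π).map i') ↔
    ∃ j : (Scheme.Modules.pullback σ).obj F ⟶ F,
      j ≫ i = (Scheme.Modules.pullback σ).map i ≫ (Scheme.Modules.pullbackComp σ π).hom.app E ≫
        (Scheme.Modules.pullbackCongr hσπ).hom.app E := by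
  constructor
  · rintro ⟨F', i', e, -, he⟩
    refine ⟨(Scheme.Modules.pullback σ).map e.inv ≫ ((Scheme.Modules.pullbackComp σ π).hom.app F' ≫
      (Scheme.Modules.pullbackCongr hσπ).hom.app F') ≫ e.hom, ?_⟩
    rw [Category.assoc, Category.assoc, he, Category.assoc]
    have h1 := (Scheme.Modules.pullbackCongr hσπ).hom.naturality i'
    have h2 := (Scheme.Modules.pullbackComp σ π).hom.naturality i'
    rw [← h1, reassoc_of% h2.symm]
    try simp only [Functor.comp_map]
    rw [← Functor.map_comp_assoc, ← he, Iso.inv_hom_id_assoc]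
  · rintro ⟨j, hj⟩
    exact exists_descent (k := ℂ) hdimX hdimY π hrk σ hσS hσ hσ1 hσπ E hE F i hsub j hj

end Groth.Agent.S15160
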