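import Groth.Statements.S15163
import Groth.Agent.Lib.BddFin.GL2
import Mathlib.LinearAlgebra.Matrix.Adjugate

set_option autoImplicit false
open Matrix
open BddFin

namespace Groth.Agent.S15163

/-- Let Γ be a finite subgroup of GL_2(ℤ) and d > 6 an integer. Suppose some vector w of (ℤ/dℤ)², with
m·w ≠ 0 for all 0 < m < d, is fixed by the reduction modulo d of every element of Γ. Then some
non-zero vector of ℤ² is fixed by all of Γ. -/
theorem result
    (Γ : Subgroup (Matrix.GeneralLinearGroup (Fin 2) ℤ)) [Finite Γ] (d : ℕ) (hd : 6 < d)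
    (w : Fin 2 → ZMod d) (hw : ∀ m : ℕ, 0 < m → m < d → m • w ≠ 0)
    (hfix : ∀ γ ∈ Γ, ((γ : Matrix (Fin 2) (Fin 2) ℤ).map (Int.castRingHom (ZMod d))) *ᵥ w = w) :
    ∃ v : Fin 2 → ℤ, v ≠ 0 ∧ ∀ γ ∈ Γ, (γ : Matrix (Fin 2) (Fin 2) ℤ) *ᵥ v = v := by
  refine Groth.Agent.BddFin.exists_common_fixed Γ fun γ hγ => ?_
  have hne : NeZero d := ⟨by omega⟩
  set N := (((γ : Matrix (Fin 2) (Fin 2) ℤ) - 1).map (Int.castRingHom (ZMod d))) with hN
  have hNw : N *ᵥ w = 0 := by
    rw [hN, Matrix.map_sub _ (by simp), Matrix.map_one _ (by simp) (by simp), Matrix.sub_mulVec, hfix γ hγ, Matrix.one_mulVec, sub_self]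
  have h1 : N.det • w = 0 := by
    have := congrArg (fun x => N.adjugate *ᵥ x) hNw
    simpa [Matrix.mulVec_mulVec, Matrix.adjugate_mul, Matrix.smul_mulVec, Matrix.mulVec_zero] using this
  set D := ((γ : Matrix (Fin 2) (Fin 2) ℤ) - 1).det with hD
  have h2 : N.det = (D : ZMod d) := (RingHom.map_det (Int.castRingHom (ZMod d)) _).symm
  have hdiv : (d : ℤ) ∣ D := by
    rw [← ZMod.intCast_zmod_eq_zero_iff_dvd]
    by_contra h0
    refine hw (D : ZMod d).val (Nat.pos_of_ne_zero fun h' => h0 ((ZMod.val_eq_zero _).1 h')) (ZMod.val_lt _) ?_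
    rw [← Nat.cast_smul_eq_nsmul (ZMod d), ZMod.natCast_zmod_val, ← h2, h1]
  have := Groth.Agent.BddFin.abs_det_sub_one_le Γ γ hγ
  exact Int.eq_zero_of_abs_lt_dvd hdiv (lt_of_le_of_lt this (by omega))

end Groth.Agent.S15163
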