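import Groth.Statements.S15164
import Mathlib.RingTheory.Nilpotent.Defs
import Mathlib.Algebra.CharP.Basic
import Mathlib.Algebra.CharP.Lemmas
import Mathlib.Algebra.CharP.Algebra
import Mathlib.Algebra.Algebra.Basic
import Mathlib.Tactic.Abel
import Mathlib.Tactic.LinearCombination

set_option autoImplicit false
universe u v
open BddFin

namespace Groth.Agent.S15164

/-- Let K be a field of characteristic p > 2, V a finite-dimensional K-vector space and q a quadratic
form on V that does not represent zero (q x = 0 only for x = 0). Then the group of K-linear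
automorphisms of V preserving q has no element of order p: if g preserves q and g ^ p = 1 then g =
1. (Non-degeneracy of q, also assumed in the published statement, follows from anisotropy since 2 is
invertible, so it is not repeated here.) -/
theorem result
    (K : Type u) [Field K] (p : ℕ) [Fact p.Prime] [CharP K p] (hp : p ≠ 2)
    (V : Type v) [AddCommGroup V] [Module K V] [FiniteDimensional K V]
    (q : QuadraticForm K V) (hq : q.Anisotropic)
    (g : V ≃ₗ[K] V) (hg : ∀ x : V, q (g x) = q x) (hgp : g ^ p = 1) : g = 1 := by
  classical
  set N : Module.End K V := (g : V →ₗ[K] V) - 1 with hN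
  have hNp : N ^ p = 0 := by
    have hgp' : ((g : V →ₗ[K] V) : Module.End K V) ^ p = 1 := by
      have : ∀ k : ℕ, ((g ^ k : V ≃ₗ[K] V) : Module.End K V) = ((g : V →ₗ[K] V) : Module.End K V) ^ k := by
        intro k
        induction k with
        | zero => rfl
        | succ k ih => rw [pow_succ, pow_succ, ← ih]; rfl
      rw [← this, hgp]; rfl
    rcases subsingleton_or_nontrivial (Module.End K V) with h | h
    · exact Subsingleton.elim _ _
    haveI : CharP (Module.End K V) p := charP_of_injective_algebraMap (algebraMap K (Module.End K V)).injective p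
    rw [hN, sub_pow_char_of_commute p (Commute.one_right _), hgp', one_pow, sub_self]
  have hN0 : N = 0 := by
    by_contra hne
    have hex : ∃ k, N ^ k = 0 := ⟨p, hNp⟩
    have h2k : 2 ≤ Nat.find hex := by
      by_contra h
      interval_cases hk : Nat.find hex
      · have := Nat.find_spec hex; rw [hk, pow_zero] at this
        exact hne (by rw [← mul_one N, this, mul_zero])
      · have := Nat.find_spec hex; rw [hk, pow_one] at this; exact hne this
    obtain ⟨j, hj⟩ := Nat.exists_eq_add_of_le h2k
    have hs := Nat.find_spec hex
    rw [hj, add_comm] at hs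
    obtain ⟨z, hz⟩ : ∃ z, (N ^ (j + 1)) z ≠ 0 := by
      by_contra h
      push_neg at h
      exact Nat.find_min hex (show j + 1 < Nat.find hex by omega) (LinearMap.ext h)
    set x := (N ^ j) z
    set y := N x with hy
    have hyz : y = (N ^ (j + 1)) z := by rw [pow_succ']; rfl
    have hNy : N y = 0 := by
      have := LinearMap.congr_fun hs z
      rw [pow_succ', Module.End.mul_apply, ← hyz] at this; exact this
    have hgx : g x = x + y := by simp [hy, hN]
    have hgy : g y = y := by
      have : g y - y = 0 := by simpa [hN] using hNy
      exact sub_eq_zero.1 this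
    have h1 := hg x
    have h2 := hg (g x)
    rw [hgx, QuadraticMap.map_add (f := ⇑q)] at h1
    rw [hgx, map_add, hgx, hgy, QuadraticMap.map_add (f := ⇑q) (x + y) y, QuadraticMap.map_add (f := ⇑q) x y, QuadraticMap.polar_add_left, QuadraticMap.polar_self, two_smul] at h2
    have h0 : (2 : K) * q y = 0 := by linear_combination h2 - h1
    haveI : Fact (2 < p) := ⟨lt_of_le_of_ne (Fact.out : p.Prime).two_le (Ne.symm hp)⟩
    have h2ne : (2 : K) ≠ 0 := by
      intro h
      have : ((2 : ℕ) : K) = 0 := by exact_mod_cast h
      have h' := (CharP.cast_eq_zero_iff K p 2).1 this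
      exact hp ((Nat.prime_dvd_prime_iff_eq Fact.out Nat.prime_two).1 h')
    have := hq y ((mul_eq_zero.1 h0).resolve_left h2ne)
    exact hz (hyz ▸ this)
  ext x
  have := LinearMap.congr_fun (sub_eq_zero.1 hN0) x
  simpa using this

end Groth.Agent.S15164
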