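import Groth.Statements.S15165
import Groth.Agent.S15164
import Mathlib.Algebra.CharP.Basic
import Mathlib.Algebra.Polynomial.AlgebraMap
import Mathlib.FieldTheory.Separable
import Mathlib.Algebra.Polynomial.Roots
import Mathlib.Data.Nat.Factorization.Basic
import Mathlib.RingTheory.Polynomial.Basic

set_option autoImplicit false
universe u v
open Polynomial
open BddFin

namespace Groth.Agent.S15165

/-- Let K be a field of characteristic different from 2 such that K contains all roots of unity (for
every n ≥ 1 the polynomial X^n − 1 splits into linear factors over K), V a finite-dimensional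
K-vector space and q a quadratic form on V that does not represent zero. If a K-linear automorphism
g of V preserves q and has finite order (g ^ d = 1 for some d ≥ 1), then g ^ 2 = 1. (The published
statement also covers perfect fields of characteristic 2; this row is the case of characteristic ≠
2.) -/
theorem result
    (K : Type u) [Field K] (hK : ∀ n : ℕ, 0 < n → (X ^ n - 1 : K[X]).Splits) (h2 : (2 : K) ≠ 0)
    (V : Type v) [AddCommGroup V] [Module K V] [FiniteDimensional K V]
    (q : QuadraticForm K V) (hq : q.Anisotropic)
    (g : V ≃ₗ[K] V) (hg : ∀ x : V, q (g x) = q x) (d : ℕ) (hd : 0 < d) (hgd : g ^ d = 1) :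
    g ^ 2 = 1 := by
  classical
  obtain ⟨e, he, heK, hge⟩ : ∃ e : ℕ, 0 < e ∧ (e : K) ≠ 0 ∧ g ^ e = 1 := by
    by_cases hdK : (d : K) ≠ 0
    · exact ⟨d, hd, hdK, hgd⟩
    push_neg at hdK
    obtain ⟨p, hpc⟩ := CharP.exists K
    rcases CharP.char_is_prime_or_zero K p with hpp | hp0
    · haveI := Fact.mk hpp
      obtain ⟨k, e, hne, rfl⟩ := Nat.exists_eq_pow_mul_and_not_dvd hd.ne' p hpp.ne_one
      refine ⟨e, Nat.pos_of_ne_zero (fun h => hne (by rw [h]; exact dvd_zero p)), fun h => hne ((CharP.cast_eq_zero_iff K p e).1 h), ?_⟩
      have hp2 : p ≠ 2 := by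
        rintro rfl
        exact h2 (by exact_mod_cast CharP.cast_eq_zero K 2)
      have hiter : ∀ (k : ℕ) (h : V ≃ₗ[K] V), (∀ x, q (h x) = q x) → h ^ p ^ k = 1 → h = 1 := by
        intro k
        induction k with
        | zero => intro h _ hh; simpa using hh
        | succ k ih =>
          intro h hq' hh
          have hqk : ∀ (j : ℕ) x, q ((h ^ j) x) = q x := by
            intro j
            induction j with
            | zero => intro x; rfl
            | succ j ihj => intro x; rw [pow_succ, LinearEquiv.mul_apply, ihj, hq']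
          refine ih h hq' (Groth.Agent.S15164.result K p hp2 V q hq _ (hqk _) ?_)
          rw [← pow_mul, ← pow_succ]; exact hh
      have hqe : ∀ (j : ℕ) x, q ((g ^ j) x) = q x := by
        intro j
        induction j with
        | zero => intro x; rfl
        | succ j ihj => intro x; rw [pow_succ, LinearEquiv.mul_apply, ihj, hg]
      exact hiter k _ (hqe e) (by rw [← pow_mul, mul_comm]; exact hgd)
    · subst hp0
      haveI := CharP.charP_to_charZero K
      exact absurd hdK (Nat.cast_ne_zero.2 hd.ne')
  let G : Module.End K V := (g : V →ₗ[K] V)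
  have hG : G ^ e = 1 := by
    have : ∀ k : ℕ, ((g ^ k : V ≃ₗ[K] V) : Module.End K V) = G ^ k := by
      intro k
      induction k with
      | zero => rfl
      | succ k ih => rw [pow_succ, pow_succ, ← ih]; rfl
    rw [← this, hge]; rfl
  set P : K[X] := X ^ e - 1 with hP
  have hsep : P.Separable := by
    simpa [hP] using separable_X_pow_sub_C (1 : K) heK one_ne_zero
  have hmon : P.Monic := by simpa [hP] using monic_X_pow_sub_C (1 : K) he.ne'
  have hsp : P = (P.roots.map fun a => X - C a).prod := (hK e he).eq_prod_roots_of_monic hmon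
  have h0 : aeval G P = 0 := by simp [hP, hG]
  have hnd : P.roots.Nodup := nodup_roots hsep
  have hinj : ∀ z ∈ P.roots, z ^ 2 ≠ 1 → Function.Injective (aeval G (X - C z) : Module.End K V) := by
    intro z _ hz
    rw [← LinearMap.ker_eq_bot, LinearMap.ker_eq_bot']
    intro v hv
    simp [G, sub_eq_zero] at hv
    have := hg v
    rw [hv, QuadraticMap.map_smul, smul_eq_mul, ← sub_eq_zero, ← sub_one_mul, mul_eq_zero, sub_eq_zero, ← sq] at this
    exact hq v (this.resolve_left hz)
  have hbad : ∀ s : Multiset K, (∀ z ∈ s, z ∈ P.roots ∧ z ^ 2 ≠ 1) →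
      Function.Injective (aeval G (s.map fun a => X - C a).prod : Module.End K V) := by
    intro s
    induction s using Multiset.induction with
    | empty => intro _; simp; exact fun a b h => h
    | cons a t ih =>
      intro h
      rw [Multiset.map_cons, Multiset.prod_cons, map_mul]
      exact (hinj a (h a (Multiset.mem_cons_self a t)).1 (h a (Multiset.mem_cons_self a t)).2).comp (ih fun z hz => h z (Multiset.mem_cons_of_mem hz))
  have hgood : aeval G ((P.roots.filter fun z => z ^ 2 = 1).map fun a => X - C a).prod = 0 := by
    rw [hsp, ← Multiset.filter_add_not (fun z => z ^ 2 = 1) P.roots, Multiset.map_add, Multiset.prod_add, mul_comm, map_mul] at h0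
    refine LinearMap.ext fun v => ?_
    apply hbad (P.roots.filter fun z => ¬ z ^ 2 = 1) fun z hz => Multiset.mem_filter.1 hz
    rw [LinearMap.zero_apply, map_zero]
    exact LinearMap.congr_fun h0 v
  have hdvd : ((P.roots.filter fun z => z ^ 2 = 1).map fun a => X - C a).prod ∣ (X ^ 2 - 1 : K[X]) := by
    have hle : P.roots.filter (fun z => z ^ 2 = 1) ≤ (X ^ 2 - 1 : K[X]).roots := by
      refine (Multiset.le_iff_subset (hnd.filter _)).2 fun z hz => ?_
      rw [mem_roots (by simpa using (monic_X_pow_sub_C (1 : K) two_ne_zero).ne_zero)]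
      simp [(Multiset.mem_filter.1 hz).2]
    exact (Multiset.prod_dvd_prod_of_le (Multiset.map_le_map hle)).trans (prod_multiset_X_sub_C_dvd _)
  obtain ⟨R, hR⟩ := hdvd
  have : aeval G (X ^ 2 - 1 : K[X]) = 0 := by rw [hR, map_mul, hgood, zero_mul]
  simp [sub_eq_zero] at this
  ext x
  have h := LinearMap.congr_fun this x
  simpa [sq, G] using h

end Groth.Agent.S15165
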