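import Groth.Statements.S15166
import Groth.Agent.S15165
import Mathlib.GroupTheory.OrderOfElement
import Mathlib.LinearAlgebra.FiniteDimensional.Lemmas
import Mathlib.Data.Set.Card

set_option autoImplicit false
universe u v
open Polynomial
open BddFin

namespace Groth.Agent.S15166

theorem ncard_involutions {K : Type u} [Field K] (h2 : (2 : K) ≠ 0) (n : ℕ) :
    ∀ (W : Type v) [AddCommGroup W] [Module K W] [FiniteDimensional K W], Module.finrank K W = n →
      ∀ S : Set (Module.End K W), (∀ s ∈ S, s * s = 1) → (∀ s ∈ S, ∀ t ∈ S, s * t = t * s) →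
        S.Finite ∧ S.ncard ≤ 2 ^ n := by
  induction n using Nat.strong_induction_on with
  | _ n ih =>
    intro W _ _ _ hW S hsq hcomm
    classical
    by_cases hall : ∀ s ∈ S, s = 1 ∨ s = -1
    · rcases Nat.eq_zero_or_pos n with hn | hn
      · subst hn
        haveI := Module.finrank_zero_iff.1 hW
        haveI : Subsingleton (Module.End K W) := ⟨fun a b => LinearMap.ext fun x => Subsingleton.elim _ _⟩
        exact ⟨Set.toFinite _, by simpa using Set.ncard_le_one_of_subsingleton S⟩
      · have hsub : S ⊆ {1, -1} := fun s hs => hall s hs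
        refine ⟨(Set.toFinite _).subset hsub, (Set.ncard_le_ncard hsub (Set.toFinite _)).trans ?_⟩
        refine (Set.ncard_insert_le _ _).trans ?_
        rw [Set.ncard_singleton]
        calc 1 + 1 = 2 ^ 1 := by norm_num
          _ ≤ 2 ^ n := Nat.pow_le_pow_right (by norm_num) hn
    push Not at hall
    obtain ⟨g, hg, hg1, hg2⟩ := hall
    have hgg : ∀ x, g (g x) = x := fun x => by
      rw [← Module.End.mul_apply, hsq g hg]; rfl
    set P := LinearMap.ker (g - 1) with hP
    set M := LinearMap.ker (g + 1) with hM
    have hinvP : ∀ s ∈ S, ∀ x ∈ P, s x ∈ P := fun s hs x hx => by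
      simp only [hP, LinearMap.mem_ker, LinearMap.sub_apply, Module.End.one_apply, sub_eq_zero] at hx ⊢
      rw [← Module.End.mul_apply, hcomm g hg s hs, Module.End.mul_apply, hx]
    have hinvM : ∀ s ∈ S, ∀ x ∈ M, s x ∈ M := fun s hs x hx => by
      simp only [hM, LinearMap.mem_ker, LinearMap.add_apply, Module.End.one_apply,
        add_eq_zero_iff_eq_neg] at hx ⊢
      rw [← Module.End.mul_apply, hcomm g hg s hs, Module.End.mul_apply, hx, map_neg]
    have hdis : P ⊓ M = ⊥ := by
      rw [eq_bot_iff]
      rintro x ⟨hx1, hx2⟩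
      simp only [hP, hM, SetLike.mem_coe, LinearMap.mem_ker, LinearMap.sub_apply, LinearMap.add_apply,
        Module.End.one_apply, sub_eq_zero] at hx1 hx2
      rw [hx1, ← two_smul K x, smul_eq_zero] at hx2
      exact (Submodule.mem_bot K).2 (hx2.resolve_left h2)
    have hsup : P ⊔ M = ⊤ := by
      rw [eq_top_iff]
      intro x _
      have hx : x = (2 : K)⁻¹ • (x + g x) + (2 : K)⁻¹ • (x - g x) := by
        rw [← smul_add, add_add_sub_cancel, ← two_smul K x, smul_smul, inv_mul_cancel₀ h2, one_smul]
      rw [hx]
      refine Submodule.add_mem_sup (P.smul_mem _ ?_) (M.smul_mem _ ?_)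
      · simp [hP, LinearMap.mem_ker, hgg, add_comm]
      · simp [hM, LinearMap.mem_ker, hgg]
    have hdim : Module.finrank K P + Module.finrank K M = n := by
      rw [← Submodule.finrank_sup_add_finrank_inf_eq, hdis, hsup, finrank_top, finrank_bot, hW,
        add_zero]
    have hP0 : Module.finrank K M ≠ 0 := by
      intro h0
      rw [Submodule.finrank_eq_zero] at h0
      rw [h0, sup_bot_eq] at hsup
      apply hg1
      ext x
      have : x ∈ P := hsup ▸ Submodule.mem_top
      simpa [hP, LinearMap.mem_ker, sub_eq_zero] using this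
    have hM0 : Module.finrank K P ≠ 0 := by
      intro h0
      rw [Submodule.finrank_eq_zero] at h0
      rw [h0, bot_sup_eq] at hsup
      apply hg2
      ext x
      have : x ∈ M := hsup ▸ Submodule.mem_top
      simpa [hM, LinearMap.mem_ker, add_eq_zero_iff_eq_neg] using this
    let rP : S → Module.End K P := fun s => (s : Module.End K W).restrict (hinvP s s.2)
    let rM : S → Module.End K M := fun s => (s : Module.End K W).restrict (hinvM s s.2)
    obtain ⟨hfP, hcP⟩ := ih _ (by omega) P rfl (Set.range rP)
      (by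
        rintro _ ⟨s, rfl⟩
        ext x
        exact LinearMap.congr_fun (hsq s s.2) (x : W))
      (by
        rintro _ ⟨s, rfl⟩ _ ⟨t, rfl⟩
        ext x
        exact LinearMap.congr_fun (hcomm s s.2 t t.2) (x : W))
    obtain ⟨hfM, hcM⟩ := ih _ (by omega) M rfl (Set.range rM)
      (by
        rintro _ ⟨s, rfl⟩
        ext x
        exact LinearMap.congr_fun (hsq s s.2) (x : W))
      (by
        rintro _ ⟨s, rfl⟩ _ ⟨t, rfl⟩
        ext x
        exact LinearMap.congr_fun (hcomm s s.2 t t.2) (x : W))
    haveI := hfP.to_subtype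
    haveI := hfM.to_subtype
    let F : S → Set.range rP × Set.range rM := fun s => (⟨rP s, s, rfl⟩, ⟨rM s, s, rfl⟩)
    have hF : Function.Injective F := by
      intro s t h
      simp only [F, Prod.mk.injEq, Subtype.mk.injEq] at h
      refine Subtype.ext (LinearMap.ext fun x => ?_)
      obtain ⟨a, ha, b, hb, rfl⟩ := Submodule.mem_sup.1 (hsup.symm ▸ (Submodule.mem_top : x ∈ ⊤))
      rw [map_add, map_add]
      have h1 := congrArg Subtype.val (LinearMap.congr_fun h.1 ⟨a, ha⟩)
      have h2' := congrArg Subtype.val (LinearMap.congr_fun h.2 ⟨b, hb⟩)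
      simp only [rP, rM, LinearMap.restrict_apply] at h1 h2'
      rw [h1, h2']
    haveI : Finite S := Finite.of_injective F hF
    refine ⟨S.toFinite, ?_⟩
    rw [← Nat.card_coe_set_eq]
    refine (Nat.card_le_card_of_injective F hF).trans ?_
    rw [Nat.card_prod, Nat.card_coe_set_eq, Nat.card_coe_set_eq, ← hdim, pow_add]
    exact Nat.mul_le_mul hcP hcM

/-- Let K be a field of characteristic different from 2 such that K contains all roots of unity (for
every n ≥ 1 the polynomial X^n − 1 splits into linear factors over K), V a finite-dimensional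
K-vector space and q a quadratic form on V that does not represent zero. Then every finite subgroup
of the group of K-linear automorphisms of V preserving q is abelian and has order at most 2 ^ (dim
V). (The published statement also covers perfect fields of characteristic 2; this row is the case of
characteristic ≠ 2.) -/
theorem result
    (K : Type u) [Field K] (hK : ∀ n : ℕ, 0 < n → (X ^ n - 1 : K[X]).Splits) (h2 : (2 : K) ≠ 0)
    (V : Type v) [AddCommGroup V] [Module K V] [FiniteDimensional K V]
    (q : QuadraticForm K V) (hq : q.Anisotropic)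
    (G : Subgroup (V ≃ₗ[K] V)) [Finite G] (hG : ∀ g ∈ G, ∀ x : V, q (g x) = q x) :
    (∀ g ∈ G, ∀ h ∈ G, g * h = h * g) ∧ Nat.card G ≤ 2 ^ Module.finrank K V := by
  have hsq : ∀ g ∈ G, g * g = 1 := by
    intro g hg
    have hfin : IsOfFinOrder (⟨g, hg⟩ : G) := isOfFinOrder_of_finite _
    obtain ⟨d, hd, hgd⟩ := isOfFinOrder_iff_pow_eq_one.1 hfin
    have hgd' : g ^ d = 1 := by
      have := congrArg Subtype.val hgd
      simpa using this
    rw [← pow_two]
    exact Groth.Agent.S15165.result K hK h2 V q hq g (hG g hg) d hd hgd'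
  have hcomm : ∀ g ∈ G, ∀ h ∈ G, g * h = h * g := by
    intro g hg h hh
    have h1 := hsq _ (G.mul_mem hg hh)
    have hg' : g⁻¹ = g := inv_eq_of_mul_eq_one_right (hsq g hg)
    have hh' : h⁻¹ = h := inv_eq_of_mul_eq_one_right (hsq h hh)
    calc g * h = (g * h)⁻¹ := (inv_eq_of_mul_eq_one_right h1).symm
      _ = h * g := by rw [mul_inv_rev, hg', hh']
  refine ⟨hcomm, ?_⟩
  let toE : G → Module.End K V := fun g => (g : V ≃ₗ[K] V).toLinearMap
  have hinj : Function.Injective toE := fun a b h =>
    Subtype.ext (LinearEquiv.toLinearMap_injective h)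
  obtain ⟨_, h⟩ := ncard_involutions h2 _ V rfl (Set.range toE)
    (by
      rintro _ ⟨g, rfl⟩
      ext x
      exact LinearEquiv.congr_fun (hsq g g.2) x)
    (by
      rintro _ ⟨g, rfl⟩ _ ⟨k, rfl⟩
      ext x
      exact LinearEquiv.congr_fun (hcomm g g.2 k k.2) x)
  rwa [← Nat.card_coe_set_eq, Nat.card_range_of_injective hinj] at h

end Groth.Agent.S15166
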