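import Groth.Statements.S15167
import Groth.Agent.Lib.CSAlg.Centralizer
import Mathlib.FieldTheory.IsAlgClosed.AlgebraicClosure
import Mathlib.RingTheory.AdjoinRoot
import Mathlib.RingTheory.Polynomial.UniqueFactorization

set_option autoImplicit false
universe u v
open Polynomial
open BddFin

namespace Groth.Agent.S15167

section

open scoped TensorProduct
open MulOpposite

variable {K : Type u} [Field K]

theorem factor_eq (hK : ∀ n : ℕ, 0 < n → (X ^ n - 1 : K[X]).Splits) {m : ℕ} (hm : 0 < m) {c : K}
    (hc : c ≠ 0) {q : K[X]} (hirr : Irreducible q) (hmon : q.Monic) (hdvd : q ∣ X ^ m - C c) :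
    ∃ e : K, q = X ^ q.natDegree - C e := by
  let Ω := AlgebraicClosure K
  set R := (q.map (algebraMap K Ω)).roots with hR
  have hsp : (q.map (algebraMap K Ω)).Splits := IsAlgClosed.splits _
  have hcard : R.card = q.natDegree := by
    rw [hR, ← hsp.natDegree_eq_card_roots, natDegree_map]
  have hroot : ∀ β ∈ R, aeval β q = 0 ∧ β ^ m = algebraMap K Ω c := by
    intro β hβ
    rw [hR, mem_roots', IsRoot.def, eval_map] at hβ
    have h0 : aeval β q = 0 := by rw [aeval_def]; exact hβ.2
    refine ⟨h0, ?_⟩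
    obtain ⟨g, hg⟩ := hdvd
    have := congrArg (aeval β) hg
    rw [map_mul, h0, zero_mul] at this
    simpa [sub_eq_zero] using this
  obtain ⟨β, hβ⟩ : ∃ β, β ∈ R := by
    refine Multiset.card_pos_iff_exists_mem.1 ?_
    rw [hcard]
    exact hirr.natDegree_pos
  have hc' : algebraMap K Ω c ≠ 0 := by simpa using hc
  have hβ0 : β ≠ 0 := by
    intro h
    have := (hroot β hβ).2
    rw [h, zero_pow hm.ne'] at this
    exact hc' this.symm
  have key : ∀ S : Multiset Ω, (∀ γ ∈ S, γ ^ m = algebraMap K Ω c) →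
      ∃ e : K, e ≠ 0 ∧ S.prod = algebraMap K Ω e * β ^ S.card := by
    intro S
    induction S using Multiset.induction with
    | empty => exact fun _ => ⟨1, one_ne_zero, by simp⟩
    | cons γ S ih =>
      intro h
      obtain ⟨e, he, heq⟩ := ih fun δ hδ => h δ (Multiset.mem_cons_of_mem hδ)
      have hz : (γ / β) ^ m = 1 := by
        rw [div_pow, h γ (Multiset.mem_cons_self γ S), (hroot β hβ).2, div_self hc']
      obtain ⟨z, hz'⟩ := (hK m hm).mem_range_of_isRoot (f := (X ^ m - 1 : K[X]))
        (monic_X_pow_sub_C (1 : K) hm.ne').ne_zero (i := algebraMap K Ω) (x := γ / β)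
        (by simp [hz])
      have hz0 : z ≠ 0 := by
        rintro rfl
        rw [← hz', map_zero, zero_pow hm.ne'] at hz
        exact zero_ne_one hz
      refine ⟨z * e, mul_ne_zero hz0 he, ?_⟩
      rw [Multiset.prod_cons, Multiset.card_cons, heq, map_mul, pow_succ, hz']
      conv_lhs => rw [← div_mul_cancel₀ γ hβ0]
      ring
  obtain ⟨e, he, heq⟩ := key R fun γ hγ => (hroot γ hγ).2
  have hprod := hsp.coeff_zero_eq_prod_roots_of_monic (hmon.map _)
  rw [coeff_map, natDegree_map, ← hR, heq, hcard] at hprod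
  set d := q.natDegree with hd
  set e' := (-1) ^ d * e with he'
  have he'0 : e' ≠ 0 := mul_ne_zero (pow_ne_zero d (by simp)) he
  have hβd : β ^ d = algebraMap K Ω (e'⁻¹ * q.coeff 0) := by
    rw [map_mul, hprod, map_inv₀, he', map_mul, map_pow, map_neg, map_one]
    have := (map_ne_zero (algebraMap K Ω)).2 he
    rw [← mul_assoc ((-1 : Ω) ^ d), inv_mul_cancel_left₀]
    exact mul_ne_zero (pow_ne_zero d (by simp)) this
  have hqβ : q = minpoly K β :=
    minpoly.eq_of_irreducible_of_monic hirr (hroot β hβ).1 hmon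
  have hdvd' : q ∣ X ^ d - C (e'⁻¹ * q.coeff 0) := by
    rw [hqβ]
    refine minpoly.dvd K β ?_
    rw [map_sub, aeval_C, map_pow, aeval_X, ← hqβ, hβd, sub_self]
  have hd0 : d ≠ 0 := hirr.natDegree_pos.ne'
  exact ⟨e'⁻¹ * q.coeff 0, (eq_of_monic_of_dvd_of_natDegree_le hmon
    (monic_X_pow_sub_C _ hd0) hdvd' (natDegree_X_pow_sub_C.trans_le le_rfl)).symm⟩

theorem natDegree_le_of_roots (hK : ∀ n : ℕ, 0 < n → (X ^ n - 1 : K[X]).Splits) {m : ℕ} (hm : 0 < m)
    {c : K} (hc : c ≠ 0) {f g : K[X]} (hf : Irreducible f) (hfm : f.Monic)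
    (hfd : f ∣ X ^ m - C c) (hg : Irreducible g) (hgm : g.Monic) (hgd : g ∣ X ^ m - C c) :
    g.natDegree ≤ f.natDegree := by
  obtain ⟨e, he⟩ := factor_eq hK hm hc hf hfm hfd
  let Ω := AlgebraicClosure K
  obtain ⟨α, hα⟩ := IsAlgClosed.exists_aeval_eq_zero Ω f (degree_pos_of_irreducible hf).ne'
  obtain ⟨β, hβ⟩ := IsAlgClosed.exists_aeval_eq_zero Ω g (degree_pos_of_irreducible hg).ne'
  have hpow : ∀ (p : K[X]) (γ : Ω), p ∣ X ^ m - C c → aeval γ p = 0 →
      γ ^ m = algebraMap K Ω c := by
    rintro p γ ⟨h, hh⟩ hγ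
    have := congrArg (aeval γ) hh
    rw [map_mul, hγ, zero_mul] at this
    simpa [sub_eq_zero] using this
  have hc' : algebraMap K Ω c ≠ 0 := by simpa using hc
  have hα0 : α ≠ 0 := by
    intro h
    have := hpow f α hfd hα
    rw [h, zero_pow hm.ne'] at this
    exact hc' this.symm
  obtain ⟨z, hz⟩ := (hK m hm).mem_range_of_isRoot (f := (X ^ m - 1 : K[X]))
    (monic_X_pow_sub_C (1 : K) hm.ne').ne_zero (i := algebraMap K Ω) (x := β / α)
    (by simp [div_pow, hpow g β hgd hβ, hpow f α hfd hα, div_self hc'])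
  rw [he, map_sub, map_pow, aeval_X, aeval_C, sub_eq_zero] at hα
  have hgβ : g ∣ X ^ f.natDegree - C (z ^ f.natDegree * e) := by
    rw [minpoly.eq_of_irreducible_of_monic hg hβ hgm]
    refine minpoly.dvd K β ?_
    rw [map_sub, map_pow, aeval_X, aeval_C, map_mul, map_pow, hz, ← hα, ← mul_pow,
      div_mul_cancel₀ β hα0, sub_self]
  have := natDegree_le_of_dvd hgβ (monic_X_pow_sub_C _ hf.natDegree_pos.ne').ne_zero
  rwa [natDegree_X_pow_sub_C] at this

variable {A : Type v} [Ring A] [Algebra K A] [Algebra.IsCentral K A] [IsSimpleRing A]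
  [FiniteDimensional K A]

/-- A right ideal killed by `f(x)` for an irreducible `f` has dimension divisible by `deg f · n`. -/
theorem dvd_of_killed {n : ℕ} (hn : Module.finrank K A = n ^ 2) (x : A) {f : K[X]}
    (hf : Irreducible f) (N : Submodule K A) (hNr : ∀ a, ∀ y ∈ N, y * a ∈ N)
    (hNx : ∀ y ∈ N, x * y ∈ N) (hkill : ∀ y ∈ N, aeval x f * y = 0) :
    f.natDegree * n ∣ Module.finrank K N := by
  haveI := Fact.mk hf
  let lx : Module.End K N := (LinearMap.mulLeft K x).restrict hNx
  let ra : Aᵐᵒᵖ →ₐ[K] Module.End K N := AlgHom.ofLinearMap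
    { toFun := fun a => (LinearMap.mulRight K a.unop).restrict fun y hy => hNr a.unop y hy
      map_add' := fun a b => by ext y; simp [mul_add]
      map_smul' := fun r a => by ext y; simp }
    (by ext y; simp) (fun a b => by ext y; simp [mul_assoc])
  have hlx : ∀ (p : K[X]) (y : N), ((aeval lx p y : N) : A) = aeval x p * y := by
    intro p
    induction p using Polynomial.induction_on with
    | C r => intro y; simp [Algebra.smul_def]
    | add p q hp hq => intro y; simp [hp, hq, add_mul]
    | monomial k r ih =>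
      intro y
      rw [pow_succ, ← mul_assoc, map_mul _ _ X, map_mul _ _ X, aeval_X, aeval_X,
        Module.End.mul_apply, ih, mul_assoc]
      rfl
  have hroot : aeval lx f = 0 := by
    ext y
    rw [hlx, hkill y y.2]
    simp
  let g : AdjoinRoot f →ₐ[K] Module.End K N :=
    Ideal.Quotient.liftₐ _ (aeval lx) fun p hp => by
      obtain ⟨s, rfl⟩ := Ideal.mem_span_singleton'.1 hp
      rw [map_mul, hroot, mul_zero]
  have hcomm : ∀ l a, Commute (g l) (ra a) := by
    intro l a
    obtain ⟨p, rfl⟩ := Ideal.Quotient.mk_surjective l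
    show Commute (aeval lx p) (ra a)
    ext y
    show ((aeval lx p (ra a y) : N) : A) = ((ra a (aeval lx p y) : N) : A)
    rw [hlx]
    show aeval x p * ((y : A) * a.unop) = ((aeval lx p y : N) : A) * a.unop
    rw [hlx, mul_assoc]
  let φ := Algebra.TensorProduct.lift g ra hcomm
  letI : Module (AdjoinRoot f ⊗[K] Aᵐᵒᵖ) N := Module.compHom N φ.toRingHom
  letI : Module (AdjoinRoot f) N := Module.compHom N g.toRingHom
  haveI : IsScalarTower K (AdjoinRoot f) N := ⟨fun r l y => by
    show g (r • l) y = r • g l y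
    rw [map_smul, LinearMap.smul_apply]⟩
  haveI : IsScalarTower (AdjoinRoot f) (AdjoinRoot f ⊗[K] Aᵐᵒᵖ) N := ⟨fun l s y => by
    show φ (l • s) y = g l (φ s y)
    have : l • s = (l ⊗ₜ[K] (1 : Aᵐᵒᵖ)) * s := by
      induction s using TensorProduct.induction_on with
      | zero => simp
      | tmul a b => simp [TensorProduct.smul_tmul']
      | add a b ha hb => rw [smul_add, mul_add, ha, hb]
    rw [this, map_mul, Module.End.mul_apply]
    simp [φ]⟩
  haveI : SMulCommClass (AdjoinRoot f ⊗[K] Aᵐᵒᵖ) (AdjoinRoot f) N := ⟨fun s l y => by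
    show φ s (g l y) = g l (φ s y)
    have h1 : Commute (φ s) (g l) := by
      induction s using TensorProduct.induction_on with
      | zero => simp
      | tmul a b =>
        simp only [φ, Algebra.TensorProduct.lift_tmul]
        exact Commute.mul_left ((Commute.all a l).map g) (hcomm l b).symm
      | add a b ha hb => rw [map_add]; exact Commute.add_left ha hb
    exact LinearMap.congr_fun h1 y⟩
  haveI := CSAlg.isSimpleRing_tensor' (k := K) (AdjoinRoot f) Aᵐᵒᵖ
  haveI : FiniteDimensional K (AdjoinRoot f) := (AdjoinRoot.powerBasis hf.ne_zero).finite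
  haveI : FiniteDimensional (AdjoinRoot f) N :=
    Module.Finite.of_restrictScalars_finite K (AdjoinRoot f) N
  have h := CSAlg.finrank_mul_finrank_end (AdjoinRoot f) (R := AdjoinRoot f ⊗[K] Aᵐᵒᵖ) N
  rw [Module.finrank_baseChange, ← (MulOpposite.opLinearEquiv K : A ≃ₗ[K] Aᵐᵒᵖ).finrank_eq, hn] at h
  obtain ⟨t, ht⟩ := (Nat.pow_dvd_pow_iff two_ne_zero).1 (Dvd.intro _ h)
  refine ⟨t, ?_⟩
  rw [← Module.finrank_mul_finrank K (AdjoinRoot f) N, ht,
    (AdjoinRoot.powerBasis hf.ne_zero).finrank, AdjoinRoot.powerBasis_dim]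
  ring

theorem dvd_of_killed_prod {n r : ℕ} (hn : Module.finrank K A = n ^ 2) (x : A)
    (s : Multiset K[X]) :
    (∀ f ∈ s, Irreducible f ∧ f.natDegree = r) → ∀ N : Submodule K A,
      (∀ a, ∀ y ∈ N, y * a ∈ N) → (∀ y ∈ N, x * y ∈ N) → (∀ y ∈ N, aeval x s.prod * y = 0) →
      r * n ∣ Module.finrank K N := by
  induction s using Multiset.induction with
  | empty =>
    intro _ N _ _ hk
    have : N = ⊥ := eq_bot_iff.2 fun y hy => by simpa using hk y hy
    rw [this, finrank_bot]
    exact dvd_zero _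
  | cons f s ih =>
    intro hs N hNr hNx hk
    let F := LinearMap.mulLeft K (aeval x f)
    have hFx : ∀ y, x * F y = F (x * y) := fun y => by
      show x * (aeval x f * y) = aeval x f * (x * y)
      rw [← mul_assoc, ← mul_assoc]
      congr 1
      have := ((Commute.all (X : K[X]) f).map (aeval x)).eq
      rwa [aeval_X] at this
    have hrank := (F.domRestrict N).finrank_range_add_finrank_ker
    have h1 : r * n ∣ Module.finrank K (N.map F) := by
      refine ih (fun g hg => hs g (Multiset.mem_cons_of_mem hg)) _ ?_ ?_ ?_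
      · rintro a _ ⟨y, hy, rfl⟩
        exact ⟨y * a, hNr a y hy, (mul_assoc _ _ _).symm⟩
      · rintro _ ⟨y, hy, rfl⟩
        exact ⟨x * y, hNx y hy, (hFx y).symm⟩
      · rintro _ ⟨y, hy, rfl⟩
        show aeval x s.prod * (aeval x f * y) = 0
        rw [← mul_assoc, ← map_mul, mul_comm, ← Multiset.prod_cons]
        exact hk y hy
    have h2 : r * n ∣ Module.finrank K (N ⊓ LinearMap.ker F : Submodule K A) := by
      obtain ⟨hf, hr⟩ := hs f (Multiset.mem_cons_self f s)
      rw [← hr]
      refine dvd_of_killed hn x hf _ ?_ ?_ fun y hy => hy.2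
      · rintro a y ⟨hy, hy'⟩
        refine ⟨hNr a y hy, ?_⟩
        show aeval x f * (y * a) = 0
        rw [← mul_assoc, show aeval x f * y = 0 from hy', zero_mul]
      · rintro y ⟨hy, hy'⟩
        refine ⟨hNx y hy, ?_⟩
        show F (x * y) = 0
        rw [← hFx, show F y = 0 from hy', mul_zero]
    have e1 : LinearMap.range (F.domRestrict N) = N.map F := LinearMap.range_domRestrict N F
    have e2 : Module.finrank K (LinearMap.ker (F.domRestrict N)) =
        Module.finrank K (N ⊓ LinearMap.ker F : Submodule K A) := by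
      rw [LinearMap.ker_domRestrict, ← Submodule.map_comap_subtype]
      exact (Submodule.equivMapOfInjective _ N.injective_subtype _).finrank_eq
    rw [← hrank, e1, e2]
    exact dvd_add h1 h2

end

/-- Let K be a field such that K contains all roots of unity (for every n ≥ 1 the polynomial X^n − 1
splits into linear factors over K), A a central simple K-algebra of dimension n ^ 2, and x an
invertible element of A some power x ^ m (m ≥ 1) of which lies in K. Then there are a positive
integer r dividing n and elements a_i of K such that the minimal polynomial of x over K is the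
product of the polynomials X ^ r − a_i. -/
theorem result
    (K : Type u) [Field K] (hK : ∀ n : ℕ, 0 < n → (X ^ n - 1 : K[X]).Splits)
    (A : Type v) [Ring A] [Algebra K A] [Algebra.IsCentral K A] [IsSimpleRing A] [FiniteDimensional K A]
    (n : ℕ) (hn : Module.finrank K A = n ^ 2)
    (x : A) (hx : IsUnit x) (hxm : ∃ m : ℕ, 0 < m ∧ x ^ m ∈ (algebraMap K A).range) :
    ∃ r : ℕ, 0 < r ∧ r ∣ n ∧ ∃ s : Multiset K, minpoly K x = (s.map fun a : K => X ^ r - C a).prod := by
  classical
  obtain ⟨m, hm, c, hc⟩ := hxm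
  have hn0 : 0 < n := by
    rcases Nat.eq_zero_or_pos n with h | h
    · rw [h] at hn
      have := Module.finrank_pos (R := K) (M := A)
      simp [hn] at this
    · exact h
  have hc0 : c ≠ 0 := by
    rintro rfl
    rw [map_zero] at hc
    exact (hx.pow m).ne_zero hc.symm
  have hint := IsIntegral.of_finite K x
  have hmon := minpoly.monic hint
  have hq : minpoly K x ∣ X ^ m - C c := minpoly.dvd K x (by simp [hc])
  set s := UniqueFactorizationMonoid.normalizedFactors (minpoly K x) with hs
  have hprod : s.prod = minpoly K x := by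
    rw [hs, UniqueFactorizationMonoid.prod_normalizedFactors_eq hmon.ne_zero,
      hmon.normalize_eq_self]
  have hmem : ∀ f ∈ s, Irreducible f ∧ f.Monic ∧ f ∣ X ^ m - C c := fun f hf =>
    ⟨UniqueFactorizationMonoid.irreducible_of_normalized_factor f hf,
      Polynomial.monic_normalize (UniqueFactorizationMonoid.irreducible_of_normalized_factor f hf).ne_zero
        |> fun h => by rwa [UniqueFactorizationMonoid.normalize_normalized_factor f hf] at h,
      (UniqueFactorizationMonoid.dvd_of_mem_normalizedFactors hf).trans hq⟩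
  obtain ⟨f₀, hf₀⟩ : ∃ f, f ∈ s := by
    refine Multiset.exists_mem_of_ne_zero fun h => ?_
    rw [h, Multiset.prod_zero] at hprod
    exact (minpoly.natDegree_pos hint).ne' (by rw [← hprod, natDegree_one])
  obtain ⟨hi₀, hm₀, hd₀⟩ := hmem f₀ hf₀
  set r := f₀.natDegree with hr
  have hdeg : ∀ f ∈ s, f.natDegree = r := fun f hf => by
    obtain ⟨hi, hm', hd⟩ := hmem f hf
    exact le_antisymm (natDegree_le_of_roots hK hm hc0 hi₀ hm₀ hd₀ hi hm' hd)
      (natDegree_le_of_roots hK hm hc0 hi hm' hd hi₀ hm₀ hd₀)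
  refine ⟨r, hi₀.natDegree_pos, ?_, s.map (fun f => -f.coeff 0), ?_⟩
  · have h := dvd_of_killed_prod (r := r) hn x s
      (fun f hf => ⟨(hmem f hf).1, hdeg f hf⟩) ⊤ (by simp) (by simp)
      (fun y _ => by rw [hprod, minpoly.aeval, zero_mul])
    rw [finrank_top, hn, sq] at h
    exact (Nat.mul_dvd_mul_iff_right hn0).1 h
  · rw [Multiset.map_map]
    conv_lhs => rw [← hprod]
    congr 1
    conv_lhs => rw [← Multiset.map_id s]
    refine Multiset.map_congr rfl fun f hf => ?_
    obtain ⟨hi, hm', hd⟩ := hmem f hf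
    obtain ⟨e, he⟩ := factor_eq hK hm hc0 hi hm' hd
    rw [hdeg f hf] at he
    have : f.coeff 0 = -e := by
      rw [he]; simp [coeff_X_pow, show (0:ℕ) ≠ r from hi₀.natDegree_pos.ne]
    simp only [id, Function.comp_apply, this, neg_neg]
    exact he

end Groth.Agent.S15167
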