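import Groth.Statements.S15168
import Groth.Agent.Lib.BddFin.DivAlg
import Mathlib.FieldTheory.IsAlgClosed.AlgebraicClosure
import Mathlib.LinearAlgebra.Dimension.Free

set_option autoImplicit false
universe u v
open Polynomial
open BddFin

namespace Groth.Agent.S15168

/-- The degree of an element of a central division algebra of dimension `n ^ 2` divides `n`. -/
theorem natDegree_dvd {K : Type u} [Field K] {A : Type v} [DivisionRing A] [Algebra K A]
    [Algebra.IsCentral K A] [FiniteDimensional K A] {n : ℕ} (hn : Module.finrank K A = n ^ 2)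
    (x : A) : (minpoly K x).natDegree ∣ n := by
  rw [← DivAlg.finrank_adjoin]
  set B := Algebra.adjoin K {x} with hB
  haveI := CSAlg.isSimpleRing_subalgebra B
  have h1 := CSAlg.finrank_centralizer B
  rw [hn] at h1
  have hle : B ≤ Subalgebra.centralizer K (B : Set A) :=
    CSAlg.le_centralizer_of_comm B (DivAlg.comm_of_adjoin x)
  letI : DivisionRing B := divisionRingOfFiniteDimensional K B
  let C := Subalgebra.centralizer K (B : Set A)
  letI : Module B C := Module.compHom C (Subalgebra.inclusion hle).toRingHom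
  haveI : IsScalarTower K B C := ⟨fun r b c => by
    show Subalgebra.inclusion hle (r • b) * c = r • (Subalgebra.inclusion hle b * c)
    rw [map_smul, smul_mul_assoc]⟩
  haveI : Module.Free B C := Module.Free.of_divisionRing B C
  have h2 := Module.finrank_mul_finrank K B C
  rw [← h2, ← mul_assoc, ← sq] at h1
  exact (Nat.pow_dvd_pow_iff two_ne_zero).1 (Dvd.intro _ h1.symm)

/-- Let K be a field such that K contains all roots of unity (for every n ≥ 1 the polynomial X^n − 1
splits into linear factors over K), A a central division algebra of dimension n ^ 2 over K, and x an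
element of A some power x ^ m (m ≥ 1) of which lies in K. Then x ^ n lies in K; that is, the order
of the class of x in the quotient of the unit group of A by that of K divides n. -/
theorem result
    (K : Type u) [Field K] (hK : ∀ n : ℕ, 0 < n → (X ^ n - 1 : K[X]).Splits)
    (A : Type v) [DivisionRing A] [Algebra K A] [Algebra.IsCentral K A] [FiniteDimensional K A]
    (n : ℕ) (hn : Module.finrank K A = n ^ 2)
    (x : A) (hxm : ∃ m : ℕ, 0 < m ∧ x ^ m ∈ (algebraMap K A).range) :
    x ^ n ∈ (algebraMap K A).range := by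
  obtain ⟨m, hm, c, hc⟩ := hxm
  have hn0 : 0 < n := by
    rcases Nat.eq_zero_or_pos n with h | h
    · rw [h] at hn
      have := Module.finrank_pos (R := K) (M := A)
      simp [hn] at this
    · exact h
  by_cases hx : x = 0
  · exact ⟨0, by simp [hx, hn0.ne']⟩
  have hc0 : c ≠ 0 := by
    rintro rfl
    rw [map_zero] at hc
    exact pow_ne_zero m hx hc.symm
  set q := minpoly K x with hq
  have hint := IsIntegral.of_finite K x
  let Ω := AlgebraicClosure K
  set R := (q.map (algebraMap K Ω)).roots with hR
  have hsp : (q.map (algebraMap K Ω)).Splits := IsAlgClosed.splits _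
  have hcard : R.card = q.natDegree := by
    rw [hR, ← hsp.natDegree_eq_card_roots, natDegree_map]
  have hroot : ∀ β ∈ R, aeval β q = 0 ∧ β ^ m = algebraMap K Ω c := by
    intro β hβ
    rw [hR, mem_roots', IsRoot.def, eval_map] at hβ
    have h0 : aeval β q = 0 := by rw [aeval_def]; exact hβ.2
    refine ⟨h0, ?_⟩
    obtain ⟨g, hg⟩ := minpoly.dvd K x (p := X ^ m - C c) (by simp [hc])
    have := congrArg (aeval β) hg
    rw [map_mul, ← hq, h0, zero_mul] at this
    simpa [sub_eq_zero] using this
  obtain ⟨β, hβ⟩ : ∃ β, β ∈ R := by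
    refine Multiset.card_pos_iff_exists_mem.1 ?_
    rw [hcard]
    exact minpoly.natDegree_pos hint
  have hc' : algebraMap K Ω c ≠ 0 := by simpa using hc0
  have hβ0 : β ≠ 0 := by
    intro h
    have := (hroot β hβ).2
    rw [h, zero_pow hm.ne'] at this
    exact hc' this.symm
  have key : ∀ S : Multiset Ω, (∀ γ ∈ S, γ ^ m = algebraMap K Ω c) →
      ∃ e : K, e ≠ 0 ∧ S.prod = algebraMap K Ω e * β ^ S.card := by
    intro S
    induction S using Multiset.induction with
    | empty => exact fun _ => ⟨1, one_ne_zero, by simp⟩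
    | cons γ S ih =>
      intro h
      obtain ⟨e, he, heq⟩ := ih fun δ hδ => h δ (Multiset.mem_cons_of_mem hδ)
      have hz : (γ / β) ^ m = 1 := by
        rw [div_pow, h γ (Multiset.mem_cons_self γ S), (hroot β hβ).2, div_self hc']
      obtain ⟨z, hz'⟩ := (hK m hm).mem_range_of_isRoot (f := (X ^ m - 1 : K[X]))
        (monic_X_pow_sub_C (1 : K) hm.ne').ne_zero (i := algebraMap K Ω) (x := γ / β)
        (by simp [hz])
      have hz0 : z ≠ 0 := by
        rintro rfl
        rw [← hz', map_zero, zero_pow hm.ne'] at hz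
        exact zero_ne_one hz
      refine ⟨z * e, mul_ne_zero hz0 he, ?_⟩
      rw [Multiset.prod_cons, Multiset.card_cons, heq, map_mul, pow_succ, hz']
      conv_lhs => rw [← div_mul_cancel₀ γ hβ0]
      ring
  obtain ⟨e, he, heq⟩ := key R fun γ hγ => (hroot γ hγ).2
  have hprod := hsp.coeff_zero_eq_prod_roots_of_monic ((minpoly.monic hint).map _)
  rw [coeff_map, natDegree_map, ← hR, heq, hcard] at hprod
  set d := q.natDegree with hd
  set e' := (-1) ^ d * e with he'
  have he'0 : e' ≠ 0 := mul_ne_zero (pow_ne_zero d (by simp)) he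
  have hβd : β ^ d = algebraMap K Ω (e'⁻¹ * q.coeff 0) := by
    rw [map_mul, hprod, map_inv₀, he', map_mul, map_pow, map_neg, map_one]
    have := (map_ne_zero (algebraMap K Ω)).2 he
    rw [← mul_assoc ((-1 : Ω) ^ d), inv_mul_cancel_left₀]
    exact mul_ne_zero (pow_ne_zero d (by simp)) this
  have hqβ : q = minpoly K β :=
    minpoly.eq_of_irreducible_of_monic (minpoly.irreducible hint) (hroot β hβ).1 (minpoly.monic hint)
  obtain ⟨g, hg⟩ := minpoly.dvd K β (p := X ^ d - C (e'⁻¹ * q.coeff 0))
    (by rw [map_sub, aeval_C, map_pow, aeval_X, hβd, sub_self])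
  have hxd : x ^ d = algebraMap K A (e'⁻¹ * q.coeff 0) := by
    rw [← hqβ] at hg
    have := congrArg (aeval x) hg
    simp only [map_sub, aeval_C, map_pow, aeval_X, map_mul (aeval x), hq, minpoly.aeval, zero_mul,
      sub_eq_zero] at this
    exact this
  obtain ⟨k, hk⟩ := natDegree_dvd hn x
  exact ⟨(e'⁻¹ * q.coeff 0) ^ k, by rw [map_pow, ← hxd, ← pow_mul, hd, hq, ← hk]⟩

end Groth.Agent.S15168
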