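import Groth.Statements.S15169
import Groth.Agent.Lib.BddFin.DivAlg
import Mathlib.Algebra.Algebra.Bilinear

set_option autoImplicit false
universe u v
open BddFin

namespace Groth.Agent.S15169

theorem ad_pow {K : Type u} [Field K] (p : ℕ) [hp : Fact p.Prime] [CharP K p]
    {A : Type v} [DivisionRing A] [Algebra K A] (v x : A) :
    ((LinearMap.mulLeft K v - LinearMap.mulRight K v) ^ p) x = v ^ p * x - x * v ^ p := by
  haveI : CharP (Module.End K A) p :=
    charP_of_injective_algebraMap (algebraMap K (Module.End K A)).injective p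
  rw [sub_pow_char_of_commute p (LinearMap.commute_mulLeft_right v v), LinearMap.pow_mulLeft,
    LinearMap.pow_mulRight]
  simp

/-- (1) ⇒ (2): let K be a field with char K = p > 0 and A a central division K-algebra with dim_K A = p
^ 2. If some element of A is not separable over K, then there are v, u in A with v ^ p and u ^ p in
K and v * u - u * v = 1 which generate A as a K-algebra. -/
theorem result
    (K : Type u) [Field K] (p : ℕ) [Fact p.Prime] [CharP K p]
    (A : Type v) [DivisionRing A] [Algebra K A] [Algebra.IsCentral K A] [FiniteDimensional K A]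
    (hA : Module.finrank K A = p ^ 2) (h : ∃ v : A, ¬ IsSeparable K v) :
    ∃ v u : A, v ^ p ∈ (algebraMap K A).range ∧ u ^ p ∈ (algebraMap K A).range ∧ v * u - u * v = 1 ∧
      Algebra.adjoin K {v, u} = ⊤ := by
  obtain ⟨v, hv⟩ := h
  have hp := (Fact.out : p.Prime)
  have hvK : v ∉ (algebraMap K A).range := by
    rintro ⟨c, rfl⟩
    exact hv (isSeparable_algebraMap c)
  have hirr := minpoly.irreducible (IsIntegral.of_finite K v)
  have hdeg := Groth.Agent.DivAlg.natDegree_minpoly hA hvK
  have hvp : v ^ p ∈ (algebraMap K A).range := by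
    have h0 : Polynomial.derivative (minpoly K v) = 0 := by
      by_contra h0
      exact hv ((Polynomial.separable_iff_derivative_ne_zero hirr).2 h0)
    have hex := Polynomial.expand_contract p h0 hp.ne_zero
    have hd1 : (Polynomial.contract p (minpoly K v)).natDegree = 1 := by
      have := congrArg Polynomial.natDegree hex
      rw [Polynomial.natDegree_expand, hdeg] at this
      exact Nat.eq_of_mul_eq_mul_right hp.pos (this.trans (one_mul p).symm)
    have hm : (Polynomial.contract p (minpoly K v)).Monic := by
      rw [← Polynomial.monic_expand_iff hp.pos, hex]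
      exact minpoly.monic (IsIntegral.of_finite K v)
    have ha := minpoly.aeval K v
    rw [← hex, Polynomial.expand_aeval, hm.eq_X_add_C hd1] at ha
    simp at ha
    exact ⟨-(Polynomial.contract p (minpoly K v)).coeff 0, by rw [map_neg, neg_eq_of_add_eq_zero_left ha]⟩
  obtain ⟨t, ht⟩ := Groth.Agent.DivAlg.not_comm_exists hvK
  set D := LinearMap.mulLeft K v - LinearMap.mulRight K v with hD
  have hDx : ∀ x : A, D x = v * x - x * v := fun x => by simp [hD]
  have hDp : (D ^ p) t = 0 := by
    obtain ⟨c, hc⟩ := hvp
    rw [ad_pow, ← hc, Algebra.commutes, sub_self]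
  have hex : ∃ n, (D ^ n) t = 0 := ⟨p, hDp⟩
  classical
  have h2 : 2 ≤ Nat.find hex := by
    rw [Nat.le_find_iff]
    intro n hn h0
    interval_cases n
    · simp at h0
      subst h0
      simp at ht
    · rw [pow_one, hDx, sub_eq_zero] at h0
      exact ht h0.symm
  obtain ⟨i, hi⟩ : ∃ i, Nat.find hex = i + 2 := ⟨Nat.find hex - 2, by omega⟩
  set w := (D ^ i) t with hw
  set z := v * w - w * v with hz
  have hsucc : ∀ j, (D ^ (j + 1)) t = v * (D ^ j) t - (D ^ j) t * v := fun j => by
    rw [pow_succ', Module.End.mul_apply, hDx]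
  have hz0 : z ≠ 0 := by
    have := Nat.find_min hex (show i + 1 < Nat.find hex by omega)
    rwa [hsucc] at this
  have hvz : Commute v z := by
    have := Nat.find_spec hex
    rw [hi, hsucc, hsucc, sub_eq_zero] at this
    exact this
  set u := w * z⁻¹ with hu
  have hvu : v * u - u * v = 1 := by
    rw [hu, ← mul_assoc, mul_assoc w, ← hvz.inv_right₀.eq, ← mul_assoc, ← sub_mul, ← hz,
      mul_inv_cancel₀ hz0]
  have hne : u * v ≠ v * u := by
    intro h; rw [h, sub_self] at hvu; exact zero_ne_one hvu
  have hup : u ^ p * v = v * u ^ p := by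
    have hz2 : ((LinearMap.mulLeft K u - LinearMap.mulRight K u) ^ p) v = 0 := by
      obtain ⟨q, hq⟩ : ∃ q, p = q + 1 + 1 := ⟨p - 2, by have := hp.two_le; omega⟩
      rw [hq, pow_succ, pow_succ, Module.End.mul_apply, Module.End.mul_apply]
      have : u * v - v * u = -1 := by rw [← neg_sub, hvu]
      simp [this]
    rw [ad_pow, sub_eq_zero] at hz2
    exact hz2
  refine ⟨v, u, hvp, (Groth.Agent.DivAlg.witness hA hne hup).1, hvu, ?_⟩
  set S := Algebra.adjoin K {v, u} with hS
  haveI := Groth.Agent.CSAlg.isSimpleRing_subalgebra S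
  have h1 := Groth.Agent.CSAlg.finrank_centralizer S
  rw [hA] at h1
  have hle : Algebra.adjoin K {v} ≤ S := Algebra.adjoin_mono (by simp)
  have hlt : p < Module.finrank K S := by
    rw [← (Groth.Agent.DivAlg.centralizer_adjoin hA hvK).1]
    have hle' := Submodule.finrank_mono (show (Algebra.adjoin K {v}).toSubmodule ≤ S.toSubmodule from hle)
    refine lt_of_le_of_ne hle' fun h => hne ?_
    have heq := Subalgebra.eq_of_le_of_finrank_eq hle h
    have humem : u ∈ S := Algebra.subset_adjoin (by simp)
    rw [← heq] at humem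
    exact Groth.Agent.DivAlg.comm_of_adjoin v u humem v (Algebra.subset_adjoin rfl)
  obtain ⟨j, hj, hj'⟩ := (Nat.dvd_prime_pow hp).1 (Dvd.intro _ h1.symm)
  interval_cases j
  · have := hp.one_lt; rw [pow_zero] at hj'; omega
  · rw [pow_one] at hj'; omega
  · exact Subalgebra.eq_of_le_of_finrank_eq le_top
      (by rw [hj', ← hA]; exact Subalgebra.topEquiv.toLinearEquiv.finrank_eq.symm)

end Groth.Agent.S15169
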