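import Groth.Statements.S1517
import Mathlib

set_option autoImplicit false
universe u
open Brauer

namespace Groth.Agent.S1517

/-- Let A be a ring with no nontrivial two-sided ideals and M a nonzero right ideal, viewed as a right
A-module with endomorphism ring A'. Then every A'-linear endomorphism of M is right multiplication
by exactly one element of A; that is, the natural map from A to the bicommutant of M is a bijection. -/
theorem result (A : Type u) [Ring A] [IsSimpleRing A]
    (M : Submodule Aᵐᵒᵖ A) (hM : M ≠ ⊥)
    (g : Module.End (Module.End Aᵐᵒᵖ M) M) :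
    ∃! a : A, ∀ m : M, (g m : A) = (m : A) * a := by
  obtain ⟨s, a, hs⟩ : ∃ (s : Finset M) (a : M → A), ∑ i ∈ s, a i * (i : A) = 1 := by
    let J : Ideal A := Ideal.span (M : Set A)
    have hJ : (1 : A) ∈ J := by
      let I : TwoSidedIdeal A := TwoSidedIdeal.mk' (J : Set A) J.zero_mem (fun h h' => J.add_mem h h')
        (fun h => J.neg_mem h) (fun {x y} h => J.mul_mem_left x h) (fun {x y} h => by
          induction h using Submodule.span_induction with
          | mem x hx => exact Ideal.subset_span (M.smul_mem (MulOpposite.op y) hx)
          | zero => simp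
          | add u v _ _ hu hv => rw [add_mul]; exact J.add_mem hu hv
          | smul c u _ hu => rw [smul_eq_mul, mul_assoc]; exact J.mul_mem_left c hu)
      have hI : I = ⊤ := by
        rcases eq_bot_or_eq_top I with h | h
        · exfalso
          apply hM
          rw [Submodule.eq_bot_iff]
          intro x hx
          have : x ∈ I := (TwoSidedIdeal.mem_mk' _ _ _ _ _ _ _).2 (Ideal.subset_span hx)
          rwa [h, TwoSidedIdeal.mem_bot] at this
        · exact h
      have : (1 : A) ∈ I := hI ▸ trivial
      exact (TwoSidedIdeal.mem_mk' _ _ _ _ _ _ _).1 this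
    obtain ⟨c, hc⟩ := (Finsupp.mem_span_iff_linearCombination A (M : Set A) (1 : A)).1 hJ
    refine ⟨c.support, c, ?_⟩
    rw [← hc, Finsupp.linearCombination_apply]
    rfl
  let lm : M → Module.End Aᵐᵒᵖ M := fun m =>
    { toFun := fun x => ⟨(m : A) * x, by
        simpa using M.smul_mem (MulOpposite.op (x : A)) m.2⟩
      map_add' := fun x y => Subtype.ext (by simp [mul_add])
      map_smul' := fun c x => Subtype.ext (by simp [MulOpposite.smul_eq_mul_unop, mul_assoc]) }
  have hg : ∀ m x : M, (g (lm m x) : A) = (m : A) * g x := fun m x => by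
    have := g.map_smul (lm m) x
    exact congrArg Subtype.val this
  refine ⟨∑ i ∈ s, a i * (g i : A), fun y => ?_, fun b hb => ?_⟩
  · have hy : y = ∑ i ∈ s, lm (⟨(y : A) * a i, by simpa using M.smul_mem (MulOpposite.op (a i)) y.2⟩) i := by
      apply Subtype.ext
      simp only [AddSubmonoidClass.coe_finset_sum]
      calc (y : A) = (y : A) * ∑ i ∈ s, a i * (i : A) := by rw [hs, mul_one]
        _ = _ := by simp [lm, Finset.mul_sum, mul_assoc]
    conv_lhs => rw [hy, map_sum]
    simp only [AddSubmonoidClass.coe_finset_sum, hg, Finset.mul_sum, mul_assoc]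
  · calc b = (∑ i ∈ s, a i * (i : A)) * b := by rw [hs, one_mul]
      _ = _ := by
        rw [Finset.sum_mul]
        exact Finset.sum_congr rfl fun i _ => by rw [mul_assoc, ← hb i]
end Groth.Agent.S1517
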