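import Groth.Statements.S15170
import Groth.Agent.Lib.BddFin.DivAlg
import Mathlib.FieldTheory.Galois.Basic

set_option autoImplicit false
universe u v
open BddFin

namespace Groth.Agent.S15170

/-- (2) ⇒ (3): let K be a field with char K = p > 0 and A a central division K-algebra with dim_K A = p
^ 2. If v, u in A satisfy v ^ p ∈ K, u ^ p ∈ K and v * u - u * v = 1, then some Galois extension L
of K with [L : K] = p admits a K-algebra embedding into A (so A has a Galois subfield of degree p
over K). -/
theorem result
    (K : Type u) [Field K] (p : ℕ) [Fact p.Prime] [CharP K p]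
    (A : Type v) [DivisionRing A] [Algebra K A] [Algebra.IsCentral K A] [FiniteDimensional K A]
    (hA : Module.finrank K A = p ^ 2) (v u : A) (hv : v ^ p ∈ (algebraMap K A).range)
    (hu : u ^ p ∈ (algebraMap K A).range) (hvu : v * u - u * v = 1) :
    ∃ (L : Type v) (_ : Field L) (_ : Algebra K L), IsGalois K L ∧ Module.finrank K L = p ∧
      Nonempty (L →ₐ[K] A) := by
  have hp := (Fact.out : p.Prime)
  have hv0 : v ≠ 0 := by
    rintro rfl
    simp at hvu
  set a := v * u with ha
  have hconj : v * a = (a + 1) * v := by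
    have : v * u = u * v + 1 := by rw [← hvu]; abel
    rw [ha, add_mul, one_mul, mul_assoc v u v]
    conv_lhs => rw [this, mul_add, mul_one]
  have hne : v * a ≠ a * v := by
    rw [hconj, add_mul, one_mul]
    simpa using hv0
  have haK := Groth.Agent.DivAlg.not_mem_range_of_not_comm (K := K) (Ne.symm hne)
  set C := Algebra.adjoin K {a} with hC
  have hfr := (Groth.Agent.DivAlg.centralizer_adjoin hA haK).1
  let cA : A →ₐ[K] A :=
    { toFun := fun x => v * x * v⁻¹
      map_one' := by simp [hv0]
      map_mul' := fun x y => by simp [mul_assoc, hv0]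
      map_zero' := by simp
      map_add' := fun x y => by simp [mul_add, add_mul]
      commutes' := fun c => by
        show v * algebraMap K A c * v⁻¹ = algebraMap K A c
        rw [← Algebra.commutes, mul_assoc, mul_inv_cancel₀ hv0, mul_one] }
  have hca : cA a = a + 1 := by
    show v * a * v⁻¹ = a + 1
    rw [hconj, mul_assoc, mul_inv_cancel₀ hv0, mul_one]
  have hmap : ∀ x ∈ C, cA x ∈ C := by
    have : C.map cA ≤ C := by
      rw [hC, AlgHom.map_adjoin, Set.image_singleton, hca]
      refine Algebra.adjoin_le ?_
      rintro _ rfl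
      exact add_mem (Algebra.subset_adjoin rfl) (one_mem _)
    exact fun x hx => this ⟨x, hx, rfl⟩
  letI : CommRing C := { C.toRing with
    mul_comm := fun x y => Subtype.ext (Groth.Agent.DivAlg.comm_of_adjoin a x x.2 y y.2) }
  letI : Field C := fieldOfFiniteDimensional K C
  let s : C →ₐ[K] C := (cA.comp C.val).codRestrict C fun x => hmap x x.2
  have hs : ∀ x : C, (s x : A) = v * (x : A) * v⁻¹ := fun x => rfl
  let σ : C ≃ₐ[K] C := AlgEquiv.ofBijective s (Algebra.IsAlgebraic.algHom_bijective s)
  have hσp : σ ^ p = 1 := by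
    ext x
    have : ∀ (n : ℕ), (((σ ^ n) x : C) : A) * v ^ n = v ^ n * x := by
      intro n
      induction n with
      | zero => simp
      | succ n ih =>
        rw [pow_succ' σ, AlgEquiv.mul_apply, show σ ((σ ^ n) x) = s ((σ ^ n) x) from rfl, hs,
          pow_succ', mul_assoc, inv_mul_cancel_left₀ hv0, mul_assoc, ih, mul_assoc]
    obtain ⟨c, hc⟩ := hv
    have h2 := this p
    rw [← hc, Algebra.commutes] at h2
    rw [AlgEquiv.one_apply]
    refine mul_right_cancel₀ ?_ h2
    rw [hc]
    exact pow_ne_zero p hv0
  have hσ : σ ≠ 1 := by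
    intro h
    have := congrArg (fun τ : C ≃ₐ[K] C => (τ ⟨a, Algebra.subset_adjoin rfl⟩ : A)) h
    simp only [AlgEquiv.one_apply] at this
    change cA a = a at this
    rw [hca] at this
    simp at this
  have hord : orderOf σ = p := orderOf_eq_prime hσp hσ
  have hle := AlgEquiv.card_le (F := K) (K := C)
  rw [hfr] at hle
  refine ⟨C, inferInstance, inferInstance, IsGalois.of_card_aut_eq_finrank K C ?_, hfr, ⟨C.val⟩⟩
  rw [hfr]
  refine le_antisymm (by rw [Nat.card_eq_fintype_card]; exact hle) ?_
  exact hord ▸ orderOf_le_card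

end Groth.Agent.S15170
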