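import Groth.Statements.S15171
import Groth.Agent.Lib.BddFin.DivAlg
import Mathlib.FieldTheory.Galois.Basic
import Mathlib.GroupTheory.SpecificGroups.Cyclic

set_option autoImplicit false
universe u v w
open BddFin

namespace Groth.Agent.S15171

/-- (3) ⇒ (1): let K be a field with char K = p > 0 and A a central division K-algebra with dim_K A = p
^ 2. If some Galois extension L of K with [L : K] = p admits a K-algebra embedding into A, then some
element of A is not separable over K. -/
theorem result
    (K : Type u) [Field K] (p : ℕ) [Fact p.Prime] [CharP K p]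
    (A : Type v) [DivisionRing A] [Algebra K A] [Algebra.IsCentral K A] [FiniteDimensional K A]
    (hA : Module.finrank K A = p ^ 2) (L : Type w) [Field L] [Algebra K L] [IsGalois K L]
    (hL : Module.finrank K L = p) (ι : L →ₐ[K] A) :
    ∃ v : A, ¬ IsSeparable K v := by
  haveI : FiniteDimensional K L := Module.finite_of_finrank_pos (hL ▸ (Fact.out : p.Prime).pos)
  have hcard : Nat.card (L ≃ₐ[K] L) = p := (IsGalois.card_aut_eq_finrank K L).trans hL
  haveI : Finite (L ≃ₐ[K] L) := Nat.finite_of_card_ne_zero (hcard ▸ (Fact.out : p.Prime).ne_zero)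
  obtain ⟨σ, hσ⟩ : ∃ σ : L ≃ₐ[K] L, σ ≠ 1 := by
    by_contra h
    push Not at h
    haveI : Subsingleton (L ≃ₐ[K] L) := ⟨fun a b => (h a).trans (h b).symm⟩
    rw [Nat.card_unique] at hcard
    exact (Fact.out : p.Prime).one_lt.ne' hcard.symm
  have hσp : σ ^ p = 1 := by rw [← hcard]; exact pow_card_eq_one'
  obtain ⟨u, hu⟩ := Groth.Agent.CSAlg.skolem_noether (ι.comp σ.toAlgHom) ι
  obtain ⟨l, hl⟩ : ∃ l, σ l ≠ l := by
    by_contra h
    push Not at h
    exact hσ (AlgEquiv.ext h)
  have hcomm : ∀ m : L, (u : A) * ι m = ι (σ m) * u := fun m => by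
    have := hu m
    simp only [AlgHom.coe_comp, Function.comp_apply] at this
    rw [show ι (σ m) = ι (σ.toAlgHom m) from rfl, this, mul_assoc, ← Units.val_mul, inv_mul_cancel,
      Units.val_one, mul_one]
  refine ⟨(u : A), (Groth.Agent.DivAlg.witness hA (x := ι l) ?_ ?_).2⟩
  · rw [hcomm]
    intro h
    exact hl (ι.toRingHom.injective (mul_right_cancel₀ u.ne_zero h))
  · have : ∀ (n : ℕ) (m : L), (u : A) ^ n * ι m = ι ((σ ^ n) m) * (u : A) ^ n := by
      intro n
      induction n with
      | zero => simp
      | succ n ih =>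
        intro m
        rw [pow_succ, mul_assoc, hcomm, ← mul_assoc, ih, mul_assoc, ← pow_succ, pow_succ σ]
        rfl
    rw [this p l, hσp, AlgEquiv.one_apply]

end Groth.Agent.S15171
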