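import Groth.Statements.S15172
import Mathlib.Algebra.Polynomial.Roots
import Mathlib.Algebra.Polynomial.Monic
import Mathlib.Algebra.CharP.Basic
import Mathlib.Algebra.BigOperators.Ring.Finset
import Mathlib.Tactic.Ring
import Mathlib.Tactic.Abel

set_option autoImplicit false
universe u v
open Polynomial
open BddFin

namespace Groth.Agent.S15172

/-- Let L be a field of characteristic p > 0 and s a finite subset of L containing 0 and closed under
addition (a finite additive subgroup). Then the polynomial f = ∏_{a ∈ s} (X - a) is additive: f (x +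
y) = f x + f y for all x, y in any commutative L-algebra (equivalently, as an identity of
polynomials in two variables). -/
theorem result
    (L : Type u) [Field L] (p : ℕ) [Fact p.Prime] [CharP L p] (s : Finset L) (h0 : (0 : L) ∈ s)
    (hadd : ∀ a ∈ s, ∀ b ∈ s, a + b ∈ s) (R : Type v) [CommRing R] [Algebra L R] (x y : R) :
    aeval (x + y) (∏ a ∈ s, (X - C a)) = aeval x (∏ a ∈ s, (X - C a)) + aeval y (∏ a ∈ s, (X - C a)) := by
  classical
  set f : L[X] := ∏ a ∈ s, (X - C a) with hf
  have hmon : f.Monic := monic_prod_of_monic _ _ fun a _ => monic_X_sub_C a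
  have hdeg : f.natDegree = s.card := by
    rw [hf, natDegree_prod_of_monic _ _ fun a _ => monic_X_sub_C a]; simp
  have htr : ∀ a ∈ s, f.comp (X + C a) = f := by
    intro a ha
    rw [hf, prod_comp]
    have himg : s.image (fun b => b - a) = s := by
      refine Finset.eq_of_subset_of_card_le ?_ (by rw [Finset.card_image_of_injective _ (fun x y h => sub_left_injective h)])
      intro b hb
      obtain ⟨c, hc, rfl⟩ := Finset.mem_image.1 hb
      have : ∀ k : ℕ, (k • a) ∈ s := fun k => by
        induction k with
        | zero => simpa using h0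
        | succ k ih => rw [succ_nsmul]; exact hadd _ ih _ ha
      have hpa : (p - 1) • a = -a := by
        have h1 : p • a = 0 := by rw [nsmul_eq_mul, CharP.cast_eq_zero, zero_mul]
        conv at h1 => lhs; rw [← Nat.sub_add_cancel (Fact.out : p.Prime).one_le, succ_nsmul]
        exact eq_neg_of_add_eq_zero_left h1
      rw [sub_eq_add_neg, ← hpa]
      exact hadd _ hc _ (this _)
    conv_rhs => rw [← himg, Finset.prod_image (fun x _ y _ h => sub_left_injective h)]
    refine Finset.prod_congr rfl fun b _ => ?_
    simp only [sub_comp, X_comp, C_comp, map_sub]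
    ring
  set P : Polynomial (Polynomial L) := f.map C with hP
  have hPm : P.Monic := hmon.map _
  have hPd : P.natDegree = s.card := by rw [hP, hmon.natDegree_map, hdeg]
  set Q : Polynomial (Polynomial L) := P.comp (X + C X) - P - C (P.eval X) with hQ
  have hQ0 : Q = 0 := by
    · refine eq_zero_of_natDegree_lt_card_of_eval_eq_zero' Q (s.image fun a => (C a : Polynomial L)) ?_ ?_
      · intro b hb
        obtain ⟨a, ha, rfl⟩ := Finset.mem_image.1 hb
        have h1 : P.eval (C a) = C (f.eval a) := by rw [hP, eval_map_apply]
        have h2 : f.eval a = 0 := by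
          rw [hf, eval_prod]; exact Finset.prod_eq_zero ha (by simp)
        have h3 : ∀ g : Polynomial L, P.eval g = f.comp g := fun g => by rw [hP, eval_map, comp_eq_sum_left, eval₂_eq_sum]
        rw [hQ, eval_sub, eval_sub, eval_comp, eval_C, eval_add, eval_X, eval_C, h1, h2, map_zero, sub_zero, h3, h3, comp_X, add_comm, htr a ha, sub_self]
      · rw [Finset.card_image_of_injective _ C_injective]
        have hsc : 0 < s.card := Finset.card_pos.2 ⟨0, h0⟩
        have hlt : (P.comp (X + C X) - P).natDegree < s.card := by
          by_cases hz : P.comp (X + C X) - P = 0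
          · rw [hz, natDegree_zero]; exact hsc
          · rw [natDegree_lt_iff_degree_lt hz, ← hPd, ← degree_eq_natDegree hPm.ne_zero]
            have hd : (P.comp (X + C X)).degree = P.degree := by
              rw [degree_eq_natDegree hPm.ne_zero, degree_eq_natDegree (hPm.comp_X_add_C _).ne_zero, natDegree_comp, natDegree_X_add_C, mul_one]
            refine lt_of_lt_of_eq (degree_sub_lt_left hd (hPm.comp_X_add_C _).ne_zero ?_) hd
            rw [(hPm.comp_X_add_C _).leadingCoeff, hPm.leadingCoeff]
        exact lt_of_le_of_lt (natDegree_sub_le _ _) (max_lt hlt (by rw [natDegree_C]; exact hsc))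
  let φ : Polynomial L →+* R := (aeval y).toRingHom
  have := congrArg (fun q : Polynomial (Polynomial L) => q.eval₂ φ x) hQ0
  simp only [hQ, eval₂_sub, eval₂_comp, eval₂_add, eval₂_X, eval₂_C, eval₂_zero] at this
  have hev : ∀ z : R, P.eval₂ φ z = aeval z f := fun z => by
    rw [hP, eval₂_map, aeval_def]; congr 1; ext a; simp [φ]
  have hey : φ (P.eval X) = aeval y f := by
    show aeval y (P.eval X) = _
    rw [hP, eval_map, ← comp, comp_X]
  have hx : φ X = y := by simp [φ]
  rw [hev, hev, hey, hx, sub_sub, sub_eq_zero] at this
  exact this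

end Groth.Agent.S15172
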