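import Groth.Statements.S15173
import Mathlib

set_option autoImplicit false
universe u v
open Polynomial
open BddFin

namespace Groth.Agent.S15173

/-- Let K be a field of characteristic p > 0 such that K contains all roots of unity (for every n ≥ 1
the polynomial X^n − 1 splits into linear factors over K), and A a finite-dimensional central
division algebra over K. If A contains an element w not in K with w ^ p in K, then the quotient of
the unit group of A by that of K has unbounded finite subgroups: for every N there is a subgroup H
of the units of A containing the units of K as a subgroup of finite index greater than N. (The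
published statement assumes only that some element of A is inseparable over K and passes at once to
a purely inseparable subfield of degree p; this row assumes an element generating such a subfield
directly, which is what the rest of the printed argument uses.) -/
theorem result
    (K : Type u) [Field K] (p : ℕ) [Fact p.Prime] [CharP K p] (hK : ∀ n : ℕ, 0 < n → (X ^ n - 1 : K[X]).Splits)
    (A : Type v) [DivisionRing A] [Algebra K A] [Algebra.IsCentral K A] [FiniteDimensional K A]
    (w : A) (hw : w ^ p ∈ (algebraMap K A).range) (hwK : w ∉ (algebraMap K A).range) (N : ℕ) :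
    ∃ H : Subgroup Aˣ, (Units.map (algebraMap K A : K →* A)).range ≤ H ∧
      N < ((Units.map (algebraMap K A : K →* A)).range).relIndex H := by
  classical
  set K' := (Units.map (algebraMap K A : K →* A)).range with hK'
  have hinj : Function.Injective (algebraMap K A) := (algebraMap K A).injective
  have hinf : Infinite K := by
    refine Infinite.of_not_fintype fun hF => ?_
    have hp := (Fact.out : p.Prime)
    obtain ⟨e, he⟩ : ∃ e : ℕ, Fintype.card K < p ^ e - 1 := ⟨Fintype.card K + 2, by
      have := Nat.lt_pow_self (n := Fintype.card K + 2) hp.one_lt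
      omega⟩
    set n := p ^ e - 1
    have hn : (n : K) ≠ 0 := by
      have he0 : e ≠ 0 := fun h => by subst h; simp [n] at he
      rw [Ne, CharP.cast_eq_zero_iff K p]
      intro hd
      have : p ∣ p ^ e := dvd_pow_self p he0
      have h1 := Nat.dvd_sub this hd
      rw [show p ^ e - n = 1 by have := Nat.one_le_pow e p hp.pos; omega] at h1
      exact hp.not_dvd_one h1
    have hsep : (Polynomial.X ^ n - 1 : Polynomial K).Separable := by
      simpa using Polynomial.separable_X_pow_sub_C (1 : K) hn one_ne_zero
    have hroots := (hK n (by omega)).natDegree_eq_card_roots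
    have hnd := Multiset.toFinset_card_of_nodup (Polynomial.nodup_roots hsep)
    rw [show (Polynomial.X ^ n - 1 : Polynomial K).natDegree = n by rw [← map_one (Polynomial.C (R := K)), Polynomial.natDegree_X_pow_sub_C]] at hroots
    have := Finset.card_le_univ (Polynomial.X ^ n - 1 : Polynomial K).roots.toFinset
    omega
  have hne : ∀ c : K, w + algebraMap K A c ≠ 0 := fun c h => hwK ⟨-c, by rw [map_neg]; exact (eq_neg_of_add_eq_zero_left h).symm⟩
  let u : K → Aˣ := fun c => Units.mk0 _ (hne c)
  let T : Finset K := (Finset.range (N + 1)).image (Infinite.natEmbedding K)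
  have hT : T.card = N + 1 := by
    rw [Finset.card_image_of_injective _ (Infinite.natEmbedding K).injective, Finset.card_range]
  obtain ⟨a, ha⟩ := hw
  have hpow : ∀ c, u c ^ p ∈ K' := by
    intro c
    have hap : algebraMap K A (a + c ^ p) = (w + algebraMap K A c) ^ p := by
      have : CharP A p := charP_of_injective_algebraMap hinj p
      rw [map_add, map_pow, ha]
      exact (add_pow_char_of_commute p (Algebra.commutes c w).symm).symm
    have h0 : a + c ^ p ≠ 0 := fun h => hne c (pow_eq_zero_iff (Fact.out : p.Prime).ne_zero |>.1 (by rw [← hap, h, map_zero]))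
    exact ⟨Units.mk0 _ h0, Units.ext (by simpa [u] using hap)⟩
  have hcomm : ∀ c d, Commute (u c) (u d) := by
    intro c d
    refine Units.ext ?_
    show (w + algebraMap K A c) * (w + algebraMap K A d) = (w + algebraMap K A d) * (w + algebraMap K A c)
    rw [mul_add, add_mul, add_mul, mul_add, add_mul, add_mul, Algebra.commutes c w, Algebra.commutes d w,
      Algebra.commutes c (algebraMap K A d)]
    abel
  have hzero : ∀ x : Aˣ, ∀ k ∈ K', Commute x k := by
    rintro x k ⟨y, rfl⟩
    exact Units.ext (Algebra.commutes (y : K) (x : A)).symm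
  refine ⟨K' ⊔ Subgroup.closure ((u '' T : Set Aˣ)), le_sup_left, ?_⟩
  set H := K' ⊔ Subgroup.closure ((u '' T : Set Aˣ)) with hH
  have hcommH : ∀ x ∈ H, ∀ y ∈ H, Commute x y := by
    have hle : H ≤ Subgroup.centralizer (H : Set Aˣ) := by
      have h1 : K' ⊔ Subgroup.closure ((u '' T : Set Aˣ)) = Subgroup.closure ((K' : Set Aˣ) ∪ u '' T) := by
        rw [Subgroup.closure_union, Subgroup.closure_eq]
      rw [hH, h1, Subgroup.centralizer_closure, Subgroup.closure_le]
      rintro x hx
      rw [SetLike.mem_coe, Subgroup.mem_centralizer_iff]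
      rintro y hy
      rcases hx with hx | ⟨c, -, rfl⟩
      · exact hzero y x hx
      · rcases hy with hy | ⟨d, -, rfl⟩
        · exact (hzero (u c) y hy).symm
        · exact hcomm d c
    intro x hx y hy
    exact ((Subgroup.mem_centralizer_iff.1 (hle hx)) y hy).symm
  let : CommGroup H := { (inferInstance : Group H) with mul_comm := fun x y => Subtype.ext (hcommH x x.2 y y.2) }
  set S := K'.subgroupOf H
  have : (S : Subgroup H).Normal := inferInstance
  let g : T → H ⧸ S := fun c => QuotientGroup.mk ⟨u c, Subgroup.mem_sup_right (Subgroup.subset_closure ⟨c, c.2, rfl⟩)⟩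
  have hgen : Subgroup.closure (Set.range g) = ⊤ := by
    rw [eq_top_iff]
    rintro q -
    induction q using QuotientGroup.induction_on with
    | H x =>
    obtain ⟨x, hx⟩ := x
    have hle : H ≤ (Subgroup.comap (QuotientGroup.mk' S) (Subgroup.closure (Set.range g))).map H.subtype := by
      refine sup_le ?_ ((Subgroup.closure_le _).2 ?_)
      · intro k hk
        refine ⟨⟨k, Subgroup.mem_sup_left hk⟩, ?_, rfl⟩
        show (QuotientGroup.mk' S) ⟨k, Subgroup.mem_sup_left hk⟩ ∈ Subgroup.closure (Set.range g)
        rw [QuotientGroup.mk'_apply, (QuotientGroup.eq_one_iff _).2 (Subgroup.mem_subgroupOf.2 hk)]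
        exact one_mem _
      · rintro _ ⟨c, hc, rfl⟩
        exact ⟨⟨u c, Subgroup.mem_sup_right (Subgroup.subset_closure ⟨c, hc, rfl⟩)⟩, Subgroup.subset_closure ⟨⟨c, hc⟩, rfl⟩, rfl⟩
    obtain ⟨y, hy, hxy⟩ := hle hx
    obtain rfl : y = ⟨x, hx⟩ := Subtype.ext hxy
    exact hy
  have : Group.FG (H ⧸ S) := Group.fg_iff.2 ⟨Set.range g, hgen, Set.finite_range g⟩
  have htor : Monoid.IsTorsion (H ⧸ S) := by
    intro q
    refine isOfFinOrder_iff_pow_eq_one.2 ⟨p, (Fact.out : p.Prime).pos, ?_⟩
    have hq : q ∈ Subgroup.closure (Set.range g) := hgen ▸ Subgroup.mem_top q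
    induction hq using Subgroup.closure_induction with
    | mem x hx =>
      obtain ⟨c, rfl⟩ := hx
      rw [← QuotientGroup.mk_pow, QuotientGroup.eq_one_iff]
      exact Subgroup.mem_subgroupOf.2 (hpow c)
    | one => exact one_pow p
    | mul x y _ _ hx hy => rw [mul_pow, hx, hy, one_mul]
    | inv x _ hx => rw [inv_pow, hx, inv_one]
  have : Finite (H ⧸ S) := CommGroup.finite_of_fg_torsion _ htor
  have hg : Function.Injective g := by
    rintro ⟨c, hc⟩ ⟨d, hd⟩ hcd
    obtain ⟨k, hk⟩ := Subgroup.mem_subgroupOf.1 (QuotientGroup.eq.1 hcd)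
    have hk' : u d = u c * Units.map (algebraMap K A : K →* A) k := by
      rw [hk]
      show u d = u c * ((u c)⁻¹ * u d)
      rw [mul_inv_cancel_left]
    have e : w + algebraMap K A d = (w + algebraMap K A c) * algebraMap K A k := congrArg Units.val hk'
    rw [add_mul, ← Algebra.commutes (k : K) w, ← Algebra.smul_def, ← map_mul] at e
    have e2 : ((k : K) - 1) • w = algebraMap K A (d - c * k) := by
      rw [sub_smul, one_smul, map_sub, eq_sub_of_add_eq e.symm]
      abel
    by_cases hk1 : (k : K) = 1
    · rw [hk1, sub_self, zero_smul, mul_one, ← map_zero (algebraMap K A)] at e2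
      exact Subtype.ext (sub_eq_zero.1 (hinj e2).symm).symm
    · exfalso
      exact hwK ⟨((k : K) - 1)⁻¹ * (d - c * k), by
        rw [map_mul, ← e2, ← Algebra.smul_def, smul_smul, inv_mul_cancel₀ (sub_ne_zero.2 hk1), one_smul]⟩
  have := Nat.card_le_card_of_injective g hg
  rw [Nat.card_eq_finsetCard, hT] at this
  exact Nat.lt_of_succ_le this

end Groth.Agent.S15173
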