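import Groth.Statements.S15176
import Groth.Agent.Lib.TorusField29.Scheme

set_option autoImplicit false
universe u
open CategoryTheory MonoidalCategory CartesianMonoidalCategory MonObj GrpObj AlgebraicGeometry
open Polynomial
open BddFin

namespace Groth.Agent.S15176

open Groth.Agent.TorusField29

/-- Let K be a field such that K contains all roots of unity (for every n ≥ 1 the polynomial X^n − 1
splits into linear factors over K), and T a K-group scheme that is a 2-dimensional torus (it becomes
isomorphic, as a group scheme, to the split torus D(ℤ^2) = 𝔾_m^2 after some field extension L of K)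
and is anisotropic (no homomorphism 𝔾_m → T of K-group schemes is a monomorphism, i.e. T contains no
subtorus isomorphic to 𝔾_m); T(K) is the group of sections Spec K → T. Then torsion elements of T(K)
have order ≤ 6, and finite subgroups of T(K) have at most 36 elements. -/
theorem result
    (K : Type u) [Field K] (hK : ∀ n : ℕ, 0 < n → (X ^ n - 1 : K[X]).Splits)
    (T : Over (Spec (CommRingCat.of K))) [GrpObj T]
    (hT : ∃ (L : Type u) (_ : Field L) (_ : Algebra K L),
      Red.IsSplitTorusWith (Fin 2 → ℤ) (Red.bc (Spec.map (CommRingCat.ofHom (algebraMap K L))) T))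
    (haniso : ∀ i : Red.Gm (Spec (CommRingCat.of K)) ⟶ T, IsMonHom i → Mono i → False) :
    (∀ x : 𝟙_ (Over (Spec (CommRingCat.of K))) ⟶ T, IsOfFinOrder x → orderOf x ≤ 6) ∧
    (∀ G : Subgroup (𝟙_ (Over (Spec (CommRingCat.of K))) ⟶ T), Finite G → Nat.card G ≤ 36) := by
  obtain ⟨D⟩ := nonempty_data hT
  refine ⟨fun x hx => ?_, fun G hG => le_trans (card_le_pow D (orderOf_le_four D haniso hK) G hG) (by norm_num)⟩
  obtain ⟨f, rfl⟩ := (ptsEquiv D).surjective x
  have hord := orderOf_ptsEquiv D f
  have hf : IsOfFinOrder f := orderOf_pos_iff.1 (hord ▸ hx.orderOf_pos)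
  rw [hord]
  exact le_trans (orderOf_le_four D haniso hK f hf) (by norm_num)

end Groth.Agent.S15176
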