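import Groth.Statements.S15178
import Groth.Agent.Lib.GQGen14.Fibre

set_option autoImplicit false
universe u
open CategoryTheory MonoidalCategory CartesianMonoidalCategory MonObj GrpObj AlgebraicGeometry
open BddFin

namespace Groth.Agent.S15178

/-- Let K be a field, Γ a smooth algebraic group over K (a smooth K-group scheme of finite type), X an
integral separated K-scheme of finite type with an action of Γ, and π : X → Y a geometric quotient
of X by Γ over K (π is Γ-invariant and surjective, Γ × X → X ×_Y X is surjective, π is universally
submersive, and the functions on Y are the invariant functions on X). Then π is generically smooth: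
the fibre of π over the generic point η of Y is smooth over the residue field κ(η). (The quotient
notion used here asks for universal submersiveness, where the published definition asks only for
submersiveness; the row is the corresponding case.) -/
theorem result
    (K : Type u) [Field K]
    (Γ X Y : Over (Spec (CommRingCat.of K))) [GrpObj Γ]
    [Smooth Γ.hom] [LocallyOfFiniteType Γ.hom] [QuasiCompact Γ.hom]
    [IsIntegral X.left] [LocallyOfFiniteType X.hom] [QuasiCompact X.hom] [IsSeparated X.hom]
    (a : AlgGrp.Action Γ X) (π : X ⟶ Y) (hπ : GIT.IsGeomQuot a π) [IrreducibleSpace Y.left] :
    Smooth (π.left.fiberToSpecResidueField (genericPoint Y.left)) := by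
  exact GQGen14.smooth_genericFibre hπ

end Groth.Agent.S15178
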