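import Groth.Statements.S15179
import Groth.Agent.Lib.PuncConic.Main

set_option autoImplicit false
universe u
attribute [local instance] MvPolynomial.gradedAlgebra
open BddFin

namespace Groth.Agent.S15179

open Groth.Agent.PuncConic in
theorem exists_quad {K : Type u} [Field K] (q : MvPolynomial (Fin 2) K) (hq : q.IsHomogeneous 2)
    (hirr : Irreducible q)
    (hdisc : (q.coeff (Finsupp.single 0 1 + Finsupp.single 1 1)) ^ 2 -
      4 * q.coeff (Finsupp.single 0 2) * q.coeff (Finsupp.single 1 2) ≠ 0) :
    ∃ (Q : Quad K) (a : K), a ≠ 0 ∧ q = MvPolynomial.C a * Q.form := by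
  classical
  set a := q.coeff (Finsupp.single 0 2) with ha'
  set b := q.coeff (Finsupp.single 0 1 + Finsupp.single 1 1) with hb'
  set c := q.coeff (Finsupp.single 1 2) with hc'
  have hq' : q = MvPolynomial.C a * MvPolynomial.X 0 ^ 2
      + MvPolynomial.C b * (MvPolynomial.X 0 * MvPolynomial.X 1)
      + MvPolynomial.C c * MvPolynomial.X 1 ^ 2 := by
    ext m
    simp only [MvPolynomial.coeff_add, MvPolynomial.coeff_C_mul, MvPolynomial.X, MvPolynomial.monomial_pow,
      MvPolynomial.monomial_mul, MvPolynomial.coeff_monomial, one_pow, one_mul,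
      Finsupp.smul_single, smul_eq_mul, mul_one]
    by_cases hd : m 0 + m 1 = 2
    · have hm : m = Finsupp.single 0 2 ∨ m = Finsupp.single 0 1 + Finsupp.single 1 1 ∨ m = Finsupp.single 1 2 := by
        rcases (show m 0 = 2 ∧ m 1 = 0 ∨ m 0 = 1 ∧ m 1 = 1 ∨ m 0 = 0 ∧ m 1 = 2 by omega) with h | h | h
        · exact Or.inl (Finsupp.ext fun i => by fin_cases i <;> simp [h.1, h.2])
        · exact Or.inr (Or.inl (Finsupp.ext fun i => by fin_cases i <;> simp [h.1, h.2]))
        · exact Or.inr (Or.inr (Finsupp.ext fun i => by fin_cases i <;> simp [h.1, h.2]))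
      rcases hm with rfl | rfl | rfl <;> simp [Finsupp.ext_iff, Fin.forall_fin_two, ha', hb', hc']
    · have h0 : q.coeff m = 0 := hq.coeff_eq_zero (by
        rw [Finsupp.degree_eq_sum, Fin.sum_univ_two]; exact hd)
      rw [h0, if_neg, if_neg, if_neg] <;> first | simp | (rintro rfl; simp at hd)
  have nu : ∀ f : MvPolynomial (Fin 2) K, MvPolynomial.eval (0 : Fin 2 → K) f = 0 → ¬ IsUnit f :=
    fun f h0 hu => not_isUnit_zero (h0 ▸ hu.map (MvPolynomial.eval (0 : Fin 2 → K)))
  have ha : a ≠ 0 := by
    intro h0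
    have hfac : q = MvPolynomial.X 1 * (MvPolynomial.C b * MvPolynomial.X 0 + MvPolynomial.C c * MvPolynomial.X 1) := by
      rw [hq', h0, map_zero]; ring
    rcases hirr.isUnit_or_isUnit hfac with h | h <;> exact nu _ (by simp) h
  have hs : (-b / a) ^ 2 - 4 * (c / a) ≠ 0 := by
    intro h0
    apply hdisc
    field_simp at h0
    linear_combination h0
  have hfirr : Irreducible (Polynomial.X ^ 2 - Polynomial.C (-b / a) * Polynomial.X + Polynomial.C (c / a)) := by
    have hdeg : (Polynomial.X ^ 2 - Polynomial.C (-b / a) * Polynomial.X + Polynomial.C (c / a) : Polynomial K).natDegree = 2 := by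
      compute_degree!
    rw [Polynomial.irreducible_iff_roots_eq_zero_of_degree_le_three (by rw [hdeg]) (by rw [hdeg]; norm_num),
      Multiset.eq_zero_iff_forall_notMem]
    intro r hr
    have hr0 := (Polynomial.mem_roots'.1 hr).2
    simp only [Polynomial.IsRoot.def, Polynomial.eval_add, Polynomial.eval_sub, Polynomial.eval_pow,
      Polynomial.eval_mul, Polynomial.eval_X, Polynomial.eval_C] at hr0
    field_simp at hr0
    have hfac : q = (MvPolynomial.X 0 - MvPolynomial.C r * MvPolynomial.X 1)
        * (MvPolynomial.C a * MvPolynomial.X 0 + MvPolynomial.C (a * r + b) * MvPolynomial.X 1) := by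
      have hc : c = -(r * (a * r + b)) := by linear_combination hr0
      rw [hq', hc, map_neg, map_mul, map_add, map_mul]; ring
    rcases hirr.isUnit_or_isUnit hfac with h | h <;> exact nu _ (by simp) h
  refine ⟨⟨-b / a, c / a, hfirr, hs⟩, a, ha, ?_⟩
  rw [hq', Quad.form]
  dsimp only
  have h1 : MvPolynomial.C (σ := Fin 2) a * MvPolynomial.C (-b / a) = - MvPolynomial.C b := by
    rw [← map_mul, ← map_neg]; congr 1; field_simp
  have h2 : MvPolynomial.C (σ := Fin 2) a * MvPolynomial.C (c / a) = MvPolynomial.C c := by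
    rw [← map_mul]; congr 1; field_simp
  linear_combination (MvPolynomial.X 0 * MvPolynomial.X 1 : MvPolynomial (Fin 2) K) * h1
    - (MvPolynomial.X 1 ^ 2 : MvPolynomial (Fin 2) K) * h2

theorem exists_phi {k A P : Type u} [CommRing k] [CommRing A] [Algebra k A] [CommRing P]
    (𝒜 : ℕ → Submodule k A) [GradedAlgebra 𝒜] {q : A} (ψ : A →+* P) (hu : IsUnit (ψ q))
    {d : ℕ} (hq : q ∈ 𝒜 d) :
    ∃ φ : HomogeneousLocalization.Away 𝒜 q →+* P,
      (∀ n x hx, φ (HomogeneousLocalization.Away.mk 𝒜 hq n x hx) * ψ q ^ n = ψ x) ∧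
        ∀ c : k, φ (c • 1) = ψ (algebraMap k A c) := by
  refine ⟨(IsLocalization.Away.lift (S := Localization.Away q) q hu).comp
    (algebraMap (HomogeneousLocalization.Away 𝒜 q) (Localization.Away q)), fun n x hx => ?_, fun c => ?_⟩
  · have h1 := congrArg (IsLocalization.Away.lift (S := Localization.Away q) q hu)
      (IsLocalization.mk'_spec (M := Submonoid.powers q) (Localization.Away q) x ⟨q ^ n, n, rfl⟩)
    rw [map_mul, IsLocalization.Away.lift_eq, IsLocalization.Away.lift_eq, map_pow] at h1
    rw [RingHom.comp_apply, HomogeneousLocalization.algebraMap_apply, HomogeneousLocalization.Away.mk,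
      HomogeneousLocalization.val_mk, Localization.mk_eq_mk']
    exact h1
  · rw [RingHom.comp_apply, HomogeneousLocalization.algebraMap_apply, HomogeneousLocalization.val_smul,
      HomogeneousLocalization.val_one, ← Algebra.algebraMap_eq_smul_one,
      IsScalarTower.algebraMap_apply k A (Localization.Away q), IsLocalization.Away.lift_eq]

/-- Let K be a field such that K contains all roots of unity (for every n ≥ 1 the polynomial X^n − 1
splits into linear factors over K). Let q be an irreducible binary quadratic form over K with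
non-zero discriminant, so that its zero locus in the projective line over K is a single closed point
with separable quadratic residue field over K (a pair of distinct conjugate geometric points), and
let U be the complement of that point: the affine curve whose coordinate ring is the ring of
degree-0 fractions f / q ^ k (f a binary form of degree 2k). Then for every finite group G of
K-automorphisms of U (K-linear ring automorphisms of its coordinate ring), every g ∈ G satisfies g ^
2 = 1 and G has at most 4 elements. -/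
theorem result
    (K : Type u) [Field K] (hK : ∀ n : ℕ, 0 < n → (Polynomial.X ^ n - 1 : Polynomial K).Splits)
    (q : MvPolynomial (Fin 2) K) (hq : q.IsHomogeneous 2) (hirr : Irreducible q)
    (hdisc : (q.coeff (Finsupp.single 0 1 + Finsupp.single 1 1)) ^ 2 -
      4 * q.coeff (Finsupp.single 0 2) * q.coeff (Finsupp.single 1 2) ≠ 0)
    (G : Subgroup (HomogeneousLocalization.Away (MvPolynomial.homogeneousSubmodule (Fin 2) K) q ≃+* HomogeneousLocalization.Away (MvPolynomial.homogeneousSubmodule (Fin 2) K) q)) [Finite G]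
    (hG : ∀ g ∈ G, ∀ (k : K) (z : HomogeneousLocalization.Away (MvPolynomial.homogeneousSubmodule (Fin 2) K) q), g (k • z) = k • g z) :
    (∀ g ∈ G, g ^ 2 = 1) ∧ Nat.card G ≤ 4 := by
  obtain ⟨Q, a, ha, hqa⟩ := exists_quad q hq hirr hdisc
  haveI := Groth.Agent.PuncConic.infinite_of_rootsOfUnity K hK
  open Groth.Agent.PuncConic LaurentPolynomial in
  have hψq : Q.ψ q = LaurentPolynomial.C (algebraMap K Q.L a) * T 1 := by
    rw [hqa, map_mul, ψ_C, ψ_form]
  open Groth.Agent.PuncConic LaurentPolynomial in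
  have hu : IsUnit (Q.ψ q) := by
    rw [hψq]
    exact (((isUnit_iff_ne_zero.2 ha).map (algebraMap K Q.L)).map LaurentPolynomial.C).mul (isUnit_T 1)
  have hqm : q ∈ MvPolynomial.homogeneousSubmodule (Fin 2) K 2 := hq
  obtain ⟨φ, hmk, hφk⟩ := exists_phi (MvPolynomial.homogeneousSubmodule (Fin 2) K) Q.ψ hu hqm
  have hhom : ∀ n x, x ∈ MvPolynomial.homogeneousSubmodule (Fin 2) K (n • 2) → MvPolynomial.IsHomogeneous x (n * 2) :=
    fun n x hx => hx
  open Groth.Agent.PuncConic LaurentPolynomial in
  have hinj : Function.Injective φ := by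
    rw [injective_iff_map_eq_zero]
    intro z hz
    obtain ⟨n, x, hx, rfl⟩ := HomogeneousLocalization.Away.mk_surjective _ hqm z
    have h1 := hmk n x hx
    rw [hz, zero_mul] at h1
    have h0 : x = 0 := ψ_injective Q (hhom n x hx) h1.symm
    apply HomogeneousLocalization.val_injective
    rw [HomogeneousLocalization.Away.mk, HomogeneousLocalization.val_mk, HomogeneousLocalization.val_zero]
    simp [h0, Localization.mk_zero]
  open Groth.Agent.PuncConic LaurentPolynomial in
  have hfix : ∀ z, Q.σ (φ z) = φ z := by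
    intro z
    obtain ⟨n, x, hx, rfl⟩ := HomogeneousLocalization.Away.mk_surjective _ hqm z
    have h1 := hmk n x hx
    set y := φ (HomogeneousLocalization.Away.mk (MvPolynomial.homogeneousSubmodule (Fin 2) K) hqm n x hx)
    have h2 := congrArg Q.σ h1
    rw [map_mul, map_pow, σ_ψ Q (hhom n x hx), σ_ψ Q hq, ← h1] at h2
    have hv : IsUnit ((Q.ψ q * T (-1) ^ 2) ^ n) := (hu.mul ((isUnit_T (-1)).pow 2)).pow n
    apply hv.mul_right_cancel
    rw [h2, mul_pow, mul_assoc, ← pow_mul, mul_comm n 2]
  open Groth.Agent.PuncConic LaurentPolynomial in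
  have hscalar : ∀ k : K, φ (k • 1) = LaurentPolynomial.C (algebraMap K Q.L k) := by
    intro k
    rw [hφk, MvPolynomial.algebraMap_eq, ψ_C]
  have hm : ∀ i j : Fin 2, (MvPolynomial.X i * MvPolynomial.X j : MvPolynomial (Fin 2) K)
      ∈ MvPolynomial.homogeneousSubmodule (Fin 2) K (1 • 2) :=
    fun i j => (MvPolynomial.isHomogeneous_X K i).mul (MvPolynomial.isHomogeneous_X K j)
  let zz : Fin 2 → Fin 2 → _ := fun i j =>
    HomogeneousLocalization.Away.mk (MvPolynomial.homogeneousSubmodule (Fin 2) K) hqm 1 _ (hm i j)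
  open Groth.Agent.PuncConic LaurentPolynomial in
  have hline : ∀ x : Q.L, LaurentPolynomial.C (algebraMap K Q.L a) * T 1 * (φ (zz 0 0)
      - 2 * LaurentPolynomial.C x * φ (zz 0 1) + LaurentPolynomial.C x ^ 2 * φ (zz 1 1))
      = (Q.ψ (MvPolynomial.X 0) - LaurentPolynomial.C x * Q.ψ (MvPolynomial.X 1)) ^ 2 := by
    intro x
    have e := fun i j => hmk 1 _ (hm i j)
    simp only [pow_one, map_mul, hψq] at e
    linear_combination e 0 0 - 2 * LaurentPolynomial.C x * e 0 1 + LaurentPolynomial.C x ^ 2 * e 1 1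
  open Groth.Agent.PuncConic LaurentPolynomial in
  have hT1 : ∃ u v, T 1 = φ u + LaurentPolynomial.C Q.θ * φ v := by
    refine ⟨(a • 1) * (zz 0 0 - (Q.p • 1) * zz 1 1), (a • 1) * ((Q.s • 1) * zz 1 1 - 2 * zz 0 1), ?_⟩
    simp only [map_mul, map_sub, map_ofNat, hscalar]
    have h := hline Q.θ
    rw [ψ_line Q Q.θ (Or.inl rfl), if_pos rfl] at h
    apply (isUnit_T (R := Q.L) 1).mul_left_cancel
    linear_combination -h + (LaurentPolynomial.C (algebraMap K Q.L a) * T 1 * φ (zz 1 1)) * θ_sq_C (Q := Q)
  open Groth.Agent.PuncConic LaurentPolynomial in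
  have hT2 : ∃ u v, T (-1) = φ u + LaurentPolynomial.C Q.θ * φ v := by
    refine ⟨(a • 1) * (zz 0 0 - 2 * (Q.s • 1) * zz 0 1 + ((Q.s • 1) * (Q.s • 1) - Q.p • 1) * zz 1 1),
      (a • 1) * (2 * zz 0 1 - (Q.s • 1) * zz 1 1), ?_⟩
    simp only [map_mul, map_sub, map_add, map_ofNat, hscalar]
    have h := hline Q.θ'
    rw [ψ_line Q Q.θ' (Or.inr rfl), if_neg fun h => θ'_ne_θ Q (by rw [h, sub_self])] at h
    simp only [Quad.θ', map_sub] at h
    apply (isUnit_T (R := Q.L) 1).mul_left_cancel
    rw [← T_add, add_neg_cancel, T_zero]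
    linear_combination -h + (LaurentPolynomial.C (algebraMap K Q.L a) * T 1 * φ (zz 1 1)) * θ_sq_C (Q := Q)
  exact Groth.Agent.PuncConic.Frame.main ⟨φ, hinj, hfix, hscalar, hT1, hT2⟩ G hG hK

end Groth.Agent.S15179
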