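import Groth.Statements.S1518
import Groth.Agent.Lib.CurveAmple18.Main

set_option autoImplicit false
universe u
open CategoryTheory CategoryTheory.Limits AlgebraicGeometry
open Variety

namespace Groth.Agent.S1518

/-- On a proper curve over a field, an invertible module admitting a nonzero global section has degree
at least zero. Degree is the Euler characteristic of the module minus that of the structure sheaf. -/
theorem result (k : Type u) [Field k] (X : Scheme.{u}) [X.Over (Spec (CommRingCat.of k))]
    [IsIntegral X] [IsProper (X ↘ (Spec (CommRingCat.of k)))] (hdim : topologicalKrullDim X = 1)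
    (L : X.Modules) (hL : PicF.IsInvertible L) (s : Coh.structureModule X ⟶ L) (hs : s ≠ 0) :
    0 ≤ Curv2.deg k X L 1 := by
  have h := (CurveAmple18.deg_section (k := k) hdim.le hL _ (CurveAmple18.gval_ne_zero hs)).1
  exact h

end Groth.Agent.S1518
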