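import Groth.Statements.S15180
import Groth.Agent.Lib.BddFin29.Gm

set_option autoImplicit false
universe u
open CategoryTheory MonoidalCategory CartesianMonoidalCategory MonObj GrpObj AlgebraicGeometry
open BddFin

namespace Groth.Agent.S15180

open CategoryTheory.Limits in
theorem transfer {S : Scheme.{u}} {G G0 H : Over S} [GrpObj G] [GrpObj G0] [GrpObj H]
    (e : Grp.mk G ≅ Grp.mk G0) (i : H ⟶ G) [IsMonHom i] [Mono i]
    (h : ∀ (j : H ⟶ G0) [IsMonHom j] [Mono j],
      ∃ φ : G0 ⟶ G0, IsMonHom φ ∧ AlgGrp.IsKernel j φ ∧ Flat φ.left ∧ Surjective φ.left) :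
    ∃ φ : G ⟶ G, IsMonHom φ ∧ AlgGrp.IsKernel i φ ∧ Flat φ.left ∧ Surjective φ.left := by
  let a : G ≅ G0 := (Grp.forget _).mapIso e
  haveI : IsMonHom a.hom := e.hom.hom.isMonHom_hom
  haveI : IsMonHom a.inv := e.inv.hom.isMonHom_hom
  obtain ⟨φ, hφ, hk, hf, hs⟩ := h (i ≫ a.hom)
  haveI := hφ
  refine ⟨a.hom ≫ φ ≫ a.inv, inferInstance, ?_, ?_, ?_⟩
  · refine IsPullback.of_iso hk (Iso.refl _) a.symm (Iso.refl _) a.symm ?_ ?_ ?_ ?_
    · simp
    · simp
    · simp
    · rw [Iso.symm_hom, IsMonHom.one_hom, Iso.refl_hom, Category.id_comp]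
  · haveI : IsIso a.hom.left := inferInstanceAs (IsIso ((Over.forget _).map a.hom))
    haveI : IsIso a.inv.left := inferInstanceAs (IsIso ((Over.forget _).map a.inv))
    simp only [Over.comp_left]
    infer_instance
  · haveI : IsIso a.hom.left := inferInstanceAs (IsIso ((Over.forget _).map a.hom))
    haveI : IsIso a.inv.left := inferInstanceAs (IsIso ((Over.forget _).map a.inv))
    simp only [Over.comp_left]
    infer_instance

/-- Let K be an arbitrary field, G a K-group scheme isomorphic (as a group scheme) to 𝔾_a (additive) or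
to 𝔾_m (multiplicative), and H a finite subgroup scheme of G (a monomorphic homomorphism H → G with
H finite over K). Then the quotient G/H is isomorphic to G; equivalently, there is a homomorphism of
K-group schemes G → G which is flat and surjective and whose kernel is H. -/
theorem result
    (K : Type u) [Field K] (G H : Over (Spec (CommRingCat.of K))) [GrpObj G] [GrpObj H]
    (hG : Nonempty (Grp.mk G ≅ Grp.mk (Red.Ga (Spec (CommRingCat.of K)))) ∨
      Nonempty (Grp.mk G ≅ Grp.mk (Red.Gm (Spec (CommRingCat.of K)))))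
    (i : H ⟶ G) [IsMonHom i] [Mono i] [IsFinite H.hom] :
    ∃ φ : G ⟶ G, IsMonHom φ ∧ AlgGrp.IsKernel i φ ∧ Flat φ.left ∧ Surjective φ.left := by
  rcases hG with ⟨⟨e⟩⟩ | ⟨⟨e⟩⟩
  · exact transfer e i fun j _ _ => BddFin29.ga_case H j
  · exact transfer e i fun j _ _ => BddFin29.gm_case H j

end Groth.Agent.S15180
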