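import Groth.Statements.S15183
import Mathlib.RingTheory.SimpleModule.WedderburnArtin
import Mathlib.RingTheory.RootsOfUnity.AlgebraicallyClosed
import Mathlib.RingTheory.Artinian.Algebra
import Mathlib.Data.Matrix.Basis

set_option autoImplicit false
universe u v
open Polynomial
open BddFin

namespace Groth.Agent.S15183

theorem exists_idempotent {K : Type u} [Field K] {A : Type v} [Ring A] [Algebra K A]
    [IsSimpleRing A] [FiniteDimensional K A] (hA : ∃ y : A, y ≠ 0 ∧ ¬ IsUnit y) :
    ∃ e : A, e * e = e ∧ e ≠ 0 ∧ e ≠ 1 := by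
  haveI : IsArtinianRing A := IsArtinianRing.of_finite K A
  obtain ⟨n, hn, D, _, _, ⟨φ⟩⟩ := IsSimpleRing.exists_algEquiv_matrix_divisionRing K A
  classical
  rcases Nat.lt_or_ge n 2 with h | h
  · exfalso
    obtain ⟨y, hy0, hy⟩ := hA
    have : n = 1 := by have := NeZero.ne n; omega
    subst this
    apply hy
    have h0 : φ y 0 0 ≠ 0 := fun h0 => hy0 (φ.injective (by
      rw [map_zero]; ext i j; fin_cases i; fin_cases j; exact h0))
    rw [← isUnit_map_iff φ]
    refine ⟨⟨φ y, Matrix.of fun _ _ => (φ y 0 0)⁻¹, ?_, ?_⟩, rfl⟩ <;>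
      (ext i j; fin_cases i; fin_cases j; simp [Matrix.mul_apply, h0])
  · let i0 : Fin n := ⟨0, by omega⟩
    let i1 : Fin n := ⟨1, by omega⟩
    have hne : i1 ≠ i0 := by simp [i0, i1]
    refine ⟨φ.symm (Matrix.single i0 i0 1), ?_, ?_, ?_⟩
    · rw [← map_mul, Matrix.single_mul_single_same, mul_one]
    · intro h0
      have := congrArg (fun z => φ z i0 i0) h0
      simp at this
    · intro h0
      have := congrArg (fun z => φ z i1 i1) h0
      simp [hne.symm] at this

/-- Let K be a field such that K contains all roots of unity (for every n ≥ 1 the polynomial X^n − 1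
splits into linear factors over K), and A a finite-dimensional central simple K-algebra which is not
a division algebra (some non-zero element is not a unit). Then the quotient of the unit group of A
by that of K has elements of every finite order invertible in K: for every d ≥ 1 with d ≠ 0 in K
there is a unit x of A with x ^ d in K and x ^ k not in K for 0 < k < d. (The published assertion is
phrased for the automorphism group of the Severi–Brauer variety of A, which is isomorphic to the
units of A modulo those of K; this row is the algebra-side statement its proof establishes.) -/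
theorem result
    (K : Type u) [Field K] (hK : ∀ n : ℕ, 0 < n → (X ^ n - 1 : K[X]).Splits)
    (A : Type v) [Ring A] [Algebra K A] [Algebra.IsCentral K A] [IsSimpleRing A] [FiniteDimensional K A]
    (hA : ∃ y : A, y ≠ 0 ∧ ¬ IsUnit y) (d : ℕ) (hd : 0 < d) (hdK : (d : K) ≠ 0) :
    ∃ x : A, IsUnit x ∧ x ^ d ∈ (algebraMap K A).range ∧
      ∀ k : ℕ, 0 < k → k < d → x ^ k ∉ (algebraMap K A).range := by
  haveI : NeZero (d : K) := ⟨hdK⟩
  haveI : NeZero (d : AlgebraicClosure K) := ⟨by
    rw [← map_natCast (algebraMap K (AlgebraicClosure K))]; exact (_root_.map_ne_zero _).2 hdK⟩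
  obtain ⟨η, hη⟩ := HasEnoughRootsOfUnity.exists_primitiveRoot (AlgebraicClosure K) d
  obtain ⟨ζ, hζ⟩ := (hK d hd).mem_range_of_isRoot (f := (X ^ d - 1 : K[X]))
    (monic_X_pow_sub_C (1 : K) hd.ne').ne_zero (i := algebraMap K (AlgebraicClosure K)) (x := η)
    (by simp [hη.pow_eq_one])
  have hprim : IsPrimitiveRoot ζ d := by
    rw [← hζ] at hη
    exact hη.of_map_of_injective (algebraMap K (AlgebraicClosure K)).injective
  obtain ⟨e, he, he0, he1⟩ := exists_idempotent (K := K) hA
  have hmul : ∀ a b : K, (a • e + (1 - e)) * (b • e + (1 - e)) = (a * b) • e + (1 - e) := by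
    intro a b
    simp only [add_mul, mul_add, sub_mul, mul_sub, smul_mul_assoc, mul_smul_comm, he, mul_one,
      one_mul, smul_sub, smul_smul, sub_self, smul_zero]
    simp only [add_zero, smul_smul, mul_comm b a]
    abel
  have hpow : ∀ k : ℕ, (ζ • e + (1 - e)) ^ k = (ζ ^ k) • e + (1 - e) := by
    intro k
    induction k with
    | zero => simp
    | succ k ih => rw [pow_succ, ih, hmul, pow_succ]
  refine ⟨ζ • e + (1 - e), ?_, ⟨1, ?_⟩, fun k hk0 hkd ⟨r, hr⟩ => ?_⟩
  · have hz : ζ ≠ 0 := hprim.ne_zero hd.ne'
    exact ⟨⟨ζ • e + (1 - e), ζ⁻¹ • e + (1 - e), by rw [hmul, mul_inv_cancel₀ hz]; simp,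
      by rw [hmul, inv_mul_cancel₀ hz]; simp⟩, rfl⟩
  · rw [hpow, hprim.pow_eq_one]; simp
  · rw [hpow, Algebra.algebraMap_eq_smul_one] at hr
    have h1 := congrArg (fun z => e * z) hr
    have h2 := congrArg (fun z => (1 - e) * z) hr
    simp only [mul_add, mul_smul_comm, mul_one, mul_sub, he, sub_self, add_zero] at h1
    simp only [sub_mul, mul_add, mul_smul_comm, mul_one, mul_sub, he, one_mul, sub_self,
      smul_sub, smul_zero, sub_zero, zero_add] at h2
    have hr' : r = ζ ^ k := by
      by_contra hne
      have : (r - ζ ^ k) • e = 0 := by rw [sub_smul, h1, sub_self]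
      exact he0 ((smul_eq_zero.1 this).resolve_left (sub_ne_zero.2 hne))
    have hr1 : r = 1 := by
      by_contra hne
      have : (r - 1) • (1 - e) = 0 := by
        rw [sub_smul, one_smul, smul_sub, sub_eq_zero]
        rw [h2]
      exact he1 (sub_eq_zero.1 ((smul_eq_zero.1 this).resolve_left (sub_ne_zero.2 hne))).symm
    exact hprim.pow_ne_one_of_pos_of_lt hk0.ne' hkd (hr' ▸ hr1)

end Groth.Agent.S15183
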