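import Groth.Statements.S15184
import Groth.Agent.Lib.BddFin.DivAlg
import Mathlib.Tactic.Module

set_option autoImplicit false
universe u v
open BddFin

namespace Groth.Agent.S15184

section

variable {K : Type u} [Field K] {A : Type v} [DivisionRing A] [Algebra K A]
  [Algebra.IsCentral K A] [FiniteDimensional K A]

theorem case_two [CharP K 2] (hA : Module.finrank K A = 2 ^ 2) :
    ∃ v : A, ¬ IsSeparable K v := by
  haveI : Fact (Nat.Prime 2) := ⟨Nat.prime_two⟩
  obtain ⟨x, hx⟩ : ∃ x : A, x ∉ (algebraMap K A).range := by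
    by_contra h
    push Not at h
    have : (⊤ : Subalgebra K A) ≤ ⊥ := fun z _ => by
      obtain ⟨r, hr⟩ := h z; exact Algebra.mem_bot.2 ⟨r, hr⟩
    have h1 := Subalgebra.bot_eq_top_iff_finrank_eq_one.1 (le_antisymm bot_le this)
    omega
  have hd := DivAlg.natDegree_minpoly hA hx
  obtain ⟨α, β, hf⟩ : ∃ α β : K, x * x + α • x + β • (1 : A) = 0 := by
    refine ⟨(minpoly K x).coeff 1, (minpoly K x).coeff 0, ?_⟩
    have h := minpoly.aeval K x
    have h2 : (minpoly K x).coeff 2 = 1 := by
      conv_lhs => rw [← hd]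
      exact minpoly.monic (IsIntegral.of_finite K x)
    rw [Polynomial.aeval_eq_sum_range, hd] at h
    simp only [Finset.sum_range_succ, Finset.sum_range_zero, h2, pow_zero, pow_one, one_smul,
      pow_two] at h
    rw [← h]; abel
  obtain ⟨v, hv⟩ := DivAlg.not_comm_exists hx
  have hv0 : v ≠ 0 := by rintro rfl; simp at hv
  set y := v * x * v⁻¹ with hy
  have hyv : v * x = y * v := by rw [hy, inv_mul_cancel_right₀ hv0]
  have hd0 : y - x ≠ 0 := fun h => hv (by rw [hyv, sub_eq_zero.1 h])
  have hfy : y * y + α • y + β • (1 : A) = 0 := by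
    refine mul_right_cancel₀ hv0 ?_
    have : (y * y + α • y + β • (1 : A)) * v = v * (x * x + α • x + β • (1 : A)) := by
      simp only [add_mul, mul_add, mul_assoc, smul_mul_assoc, mul_smul_comm, one_mul, mul_one,
        ← hyv]
      simp only [← mul_assoc, ← hyv]
    rw [this, hf, mul_zero, zero_mul]
  have hdy : (y - x) * y = (-(α • (1 : A)) - x) * (y - x) := by
    rw [← sub_eq_zero]
    have : (y - x) * y - (-(α • (1 : A)) - x) * (y - x) =
        (y * y + α • y + β • (1 : A)) - (x * x + α • x + β • (1 : A)) := by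
      simp only [sub_mul, mul_sub, neg_mul, smul_mul_assoc, one_mul]
      abel
    rw [this, hfy, hf, sub_zero]
  set w := (y - x) * v with hw
  have hw0 : w ≠ 0 := mul_ne_zero hd0 hv0
  have hwx : w * x = (-(α • (1 : A)) - x) * w := by
    rw [hw, mul_assoc, hyv, ← mul_assoc, hdy, mul_assoc]
  have hw2 : w ^ 2 * x = x * w ^ 2 := by
    rw [pow_two, mul_assoc, hwx, ← mul_assoc, mul_sub, hwx, mul_neg, mul_smul_comm, mul_one]
    simp only [sub_mul, neg_mul, smul_mul_assoc, one_mul, mul_assoc]
    abel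
  by_cases hα : α = 0
  · refine ⟨x, DivAlg.insep_of_pow_mem 2 hx ⟨-β, ?_⟩⟩
    subst hα
    rw [map_neg, Algebra.algebraMap_eq_smul_one, pow_two, neg_eq_iff_add_eq_zero, ← hf]
    simp [add_comm]
  · refine ⟨w, (DivAlg.witness hA ?_ hw2).2⟩
    intro h
    rw [hwx] at h
    have := mul_right_cancel₀ hw0 h
    have h2 : (-α) • (1 : A) = (2 : K) • x := by
      rw [two_smul, neg_smul]
      nth_rw 1 [← this]
      abel
    rw [show (2 : K) = 0 from CharP.cast_eq_zero K 2, zero_smul, smul_eq_zero] at h2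
    simp [hα] at h2

omit [Algebra.IsCentral K A] [FiniteDimensional K A] in
theorem conj_root {v x y : A} (hv : v ≠ 0) (hyv : v * x = y * v) (α β γ : K)
    (hf : x * x * x + α • (x * x) + β • x + γ • (1 : A) = 0) :
    y * y * y + α • (y * y) + β • y + γ • (1 : A) = 0 := by
  refine mul_right_cancel₀ hv ?_
  have : (y * y * y + α • (y * y) + β • y + γ • (1 : A)) * v =
      v * (x * x * x + α • (x * x) + β • x + γ • (1 : A)) := by
    simp only [add_mul, mul_add, mul_assoc, smul_mul_assoc, mul_smul_comm, one_mul, mul_one, ← hyv]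
    simp only [← mul_assoc, ← hyv]
  rw [this, hf, mul_zero, zero_mul]

theorem tri {W x x₂ x₃ : A} (h1 : W * x = x₂ * W) (h2 : W * x₂ = x₃ * W)
    (h3 : W * x₃ = x * W) : W ^ 3 * x = x * W ^ 3 := by
  rw [pow_succ, pow_two, mul_assoc, h1, ← mul_assoc, mul_assoc W, h2, ← mul_assoc, h3]
  simp only [mul_assoc]

theorem case_three [CharP K 3] (hA : Module.finrank K A = 3 ^ 2) :
    ∃ v : A, ¬ IsSeparable K v := by
  haveI : Fact (Nat.Prime 3) := ⟨Nat.prime_three⟩
  obtain ⟨x, hx⟩ : ∃ x : A, x ∉ (algebraMap K A).range := by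
    by_contra h
    push Not at h
    have : (⊤ : Subalgebra K A) ≤ ⊥ := fun z _ => by
      obtain ⟨r, hr⟩ := h z; exact Algebra.mem_bot.2 ⟨r, hr⟩
    have h1 := Subalgebra.bot_eq_top_iff_finrank_eq_one.1 (le_antisymm bot_le this)
    omega
  have hdeg := DivAlg.natDegree_minpoly hA hx
  obtain ⟨α, β, γ, hf⟩ : ∃ α β γ : K, x * x * x + α • (x * x) + β • x + γ • (1 : A) = 0 := by
    refine ⟨(minpoly K x).coeff 2, (minpoly K x).coeff 1, (minpoly K x).coeff 0, ?_⟩
    have h := minpoly.aeval K x
    have h2 : (minpoly K x).coeff 3 = 1 := by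
      conv_lhs => rw [← hdeg]
      exact minpoly.monic (IsIntegral.of_finite K x)
    rw [Polynomial.aeval_eq_sum_range, hdeg] at h
    simp only [Finset.sum_range_succ, Finset.sum_range_zero, h2, pow_zero, one_smul, pow_succ,
      one_mul] at h
    rw [← h]; abel
  obtain ⟨v, hv⟩ := DivAlg.not_comm_exists hx
  have hv0 : v ≠ 0 := by rintro rfl; simp at hv
  set y := v * x * v⁻¹ with hy
  have hyv : v * x = y * v := by rw [hy, inv_mul_cancel_right₀ hv0]
  have hfy := conj_root hv0 hyv α β γ hf
  set d := y - x with hd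
  have hd0 : d ≠ 0 := fun h => hv (by rw [hyv, sub_eq_zero.1 h])
  set x₂ := d * y * d⁻¹ with hx₂
  have hdy : x₂ * d = d * y := by rw [hx₂, inv_mul_cancel_right₀ hd0]
  have hP : x₂ * x₂ + x * x₂ + α • x₂ + x * x + α • x + β • (1 : A) = 0 := by
    refine mul_right_cancel₀ hd0 ?_
    simp only [add_mul, mul_assoc, smul_mul_assoc, hdy, one_mul, zero_mul]
    simp only [← mul_assoc, hdy]
    have : d * y * y + x * d * y + α • (d * y) + x * x * d + α • (x * d) + β • d =
        (y * y * y + α • (y * y) + β • y + γ • (1 : A)) -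
        (x * x * x + α • (x * x) + β • x + γ • (1 : A)) := by
      simp only [hd, sub_mul, mul_sub, smul_sub, ← mul_assoc]
      abel
    rw [this, hfy, hf, sub_zero]
  set w := d * v with hw
  have hw0 : w ≠ 0 := mul_ne_zero hd0 hv0
  have hwx : w * x = x₂ * w := by rw [hw, mul_assoc, hyv, ← mul_assoc, ← hdy, mul_assoc]
  set x₃ := -(α • (1 : A)) - x - x₂ with hx₃
  set C := x * x₂ - x₂ * x with hC
  have e1 : C * x₂ + x₂ * C + x * C + α • C = 0 := by
    have : C * x₂ + x₂ * C + x * C + α • C =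
        x * (x₂ * x₂ + x * x₂ + α • x₂ + x * x + α • x + β • (1 : A)) -
        (x₂ * x₂ + x * x₂ + α • x₂ + x * x + α • x + β • (1 : A)) * x := by
      simp only [hC, mul_add, add_mul, mul_sub, sub_mul, mul_assoc, smul_mul_assoc, mul_smul_comm,
        mul_one, one_mul, smul_sub]
      abel
    rw [this, hP, mul_zero, zero_mul, sub_zero]
  have e2 : C * x₂ + C * x + x * C + α • C = 0 := by
    have : C * x₂ + C * x + x * C + α • C =
        (x₂ * x₂ + x * x₂ + α • x₂ + x * x + α • x + β • (1 : A)) * x₂ -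
        x₂ * (x₂ * x₂ + x * x₂ + α • x₂ + x * x + α • x + β • (1 : A)) := by
      simp only [hC, mul_add, add_mul, mul_sub, sub_mul, mul_assoc, smul_mul_assoc, mul_smul_comm,
        mul_one, one_mul, smul_sub]
      abel
    rw [this, hP, mul_zero, zero_mul, sub_zero]
  have c1 : C * x = x₂ * C := by
    rw [← sub_eq_zero, show C * x - x₂ * C = (C * x₂ + C * x + x * C + α • C) -
      (C * x₂ + x₂ * C + x * C + α • C) by abel, e1, e2, sub_zero]
  have c2 : C * x₂ = x₃ * C := by
    rw [← sub_eq_zero, show C * x₂ - x₃ * C = C * x₂ + x₂ * C + x * C + α • C by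
      simp only [hx₃, sub_mul, neg_mul, smul_mul_assoc, one_mul]; abel, e1]
  have c3 : C * x₃ = x * C := by
    rw [← sub_eq_zero, show C * x₃ - x * C = -(C * x₂ + C * x + x * C + α • C) by
      simp only [hx₃, mul_sub, mul_neg, mul_smul_comm, mul_one]; abel, e2, neg_zero]
  by_cases hC0 : C = 0
  swap
  · refine ⟨C, (DivAlg.witness hA ?_ (tri c1 c2 c3)).2⟩
    intro h
    rw [c1] at h
    apply hC0
    rw [hC, mul_right_cancel₀ hC0 h, sub_self]
  have hxx : x * x₂ = x₂ * x := sub_eq_zero.1 hC0
  by_cases h21 : x₂ = x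
  · -- a triple root: `x` is inseparable
    have h3 : (3 : K) • (x * x) + (2 * α) • x + β • (1 : A) = 0 := by
      rw [← hP, h21]; module
    rw [show (3 : K) = 0 from CharP.cast_eq_zero K 3, zero_smul, zero_add] at h3
    have h2 : (2 : K) ≠ 0 := by
      intro h2
      have := (CharP.cast_eq_zero_iff K 3 2).1 (by exact_mod_cast h2)
      omega
    have hα : α = 0 := by
      by_contra hα
      refine hx ⟨-((2 * α)⁻¹ * β), ?_⟩
      have := congrArg (fun z : A => (2 * α)⁻¹ • z) h3
      simp only [smul_add, smul_smul, smul_zero, inv_mul_cancel₀ (mul_ne_zero h2 hα),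
        one_smul] at this
      rw [Algebra.algebraMap_eq_smul_one, neg_smul]
      exact (eq_neg_of_add_eq_zero_left this).symm
    have hβ : β = 0 := by simpa [hα, smul_eq_zero] using h3
    refine ⟨x, DivAlg.insep_of_pow_mem 3 hx ⟨-γ, ?_⟩⟩
    rw [map_neg, Algebra.algebraMap_eq_smul_one, pow_succ, pow_two, neg_eq_iff_add_eq_zero, ← hf,
      hα, hβ]
    simp [add_comm]
  have hwne : w * x ≠ x * w := by
    intro h; rw [hwx] at h; exact h21 (mul_right_cancel₀ hw0 h)
  -- the image `t` of `x₂` under conjugation by `w`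
  set t := w * x₂ * w⁻¹ with ht
  have hwt : w * x₂ = t * w := by rw [ht, inv_mul_cancel_right₀ hw0]
  have hf₂ := conj_root hw0 hwx α β γ hf
  have hft := conj_root hw0 hwt α β γ hf₂
  have htx₂ : t * x₂ = x₂ * t := by
    refine mul_right_cancel₀ hw0 ?_
    rw [mul_assoc t x₂ w, ← hwx, ← mul_assoc t w, ← hwt, mul_assoc x₂ t, ← hwt, ← mul_assoc x₂ w,
      ← hwx]
    simp only [mul_assoc, hxx]
  have hx₂K : x₂ ∉ (algebraMap K A).range := by
    rintro ⟨r, hr⟩
    apply hv
    have h1 : x = x₂ := by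
      refine mul_left_cancel₀ hw0 ?_
      rw [hwx, ← hr, Algebra.commutes]
    exact absurd h1.symm h21
  have htx : x * t = t * x := DivAlg.comm_of hA hx₂K hxx.symm htx₂.symm
  have htx' : ∀ z, x * (t * z) = t * (x * z) := fun z => by rw [← mul_assoc, htx, mul_assoc]
  have hxx' : ∀ z, x * (x₂ * z) = x₂ * (x * z) := fun z => by rw [← mul_assoc, hxx, mul_assoc]
  by_cases htx1 : t = x
  · -- an involution: impossible in odd degree
    exfalso
    rw [htx1] at hwt
    have hw2 : w ^ 2 * x = x * w ^ 2 := by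
      rw [pow_two, mul_assoc, hwx, ← mul_assoc, hwt, mul_assoc]
    have hwK := DivAlg.not_mem_range_of_not_comm (K := K) hwne
    obtain ⟨r, hr⟩ : w ^ 2 ∈ (algebraMap K A).range := by
      by_contra hn
      exact hwne (DivAlg.comm_of hA hn (Commute.self_pow w 2).symm.eq hw2)
    have hdw := DivAlg.natDegree_minpoly hA hwK
    have := Polynomial.natDegree_le_of_dvd (minpoly.dvd K w (p := Polynomial.X ^ 2 - Polynomial.C r)
      (by simp [hr])) (Polynomial.monic_X_pow_sub_C r two_ne_zero).ne_zero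
    rw [hdw, Polynomial.natDegree_X_pow_sub_C] at this
    omega
  have hQ : t * t + x * t + α • t + x * x + α • x + β • (1 : A) = 0 := by
    refine mul_left_cancel₀ (sub_ne_zero.2 htx1) ?_
    have : (t - x) * (t * t + x * t + α • t + x * x + α • x + β • (1 : A)) =
        (t * t * t + α • (t * t) + β • t + γ • (1 : A)) -
        (x * x * x + α • (x * x) + β • x + γ • (1 : A)) := by
      simp only [mul_add, sub_mul, mul_assoc, smul_mul_assoc, mul_smul_comm, mul_one, htx, htx',
        smul_sub]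
      abel
    rw [this, hft, hf, sub_zero, mul_zero]
  have hfac : (t - x₂) * (t + x₂ + x + α • (1 : A)) = 0 := by
    have : (t - x₂) * (t + x₂ + x + α • (1 : A)) =
        (t * t + x * t + α • t + x * x + α • x + β • (1 : A)) -
        (x₂ * x₂ + x * x₂ + α • x₂ + x * x + α • x + β • (1 : A)) := by
      simp only [mul_add, sub_mul, mul_smul_comm, mul_one, htx, hxx, htx₂, smul_sub]
      abel
    rw [this, hQ, hP, sub_zero]
  rcases mul_eq_zero.1 hfac with h | h
  · exfalso
    rw [sub_eq_zero.1 h, ← hwx] at hwt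
    exact h21 (mul_left_cancel₀ hw0 hwt)
  · have ht3 : t = x₃ := by
      rw [← sub_eq_zero, ← h, hx₃]; abel
    rw [ht3] at hwt
    have hw3 : w * x₃ = x * w := by
      simp only [hx₃, mul_sub, mul_neg, mul_smul_comm, mul_one, hwx, hwt, sub_mul, neg_mul,
        smul_mul_assoc, one_mul]
      abel
    exact ⟨w, (DivAlg.witness hA hwne (tri hwx hwt hw3)).2⟩

end

/-- Let K be a field with char K = p > 0 and A a central division K-algebra with dim_K A = p ^ 2. If p =
2 or p = 3, then some element of A is not separable over K. -/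
theorem result
    (K : Type u) [Field K] (p : ℕ) [Fact p.Prime] [CharP K p]
    (A : Type v) [DivisionRing A] [Algebra K A] [Algebra.IsCentral K A] [FiniteDimensional K A]
    (hA : Module.finrank K A = p ^ 2) (hp : p = 2 ∨ p = 3) :
    ∃ v : A, ¬ IsSeparable K v := by
  rcases hp with rfl | rfl
  · exact case_two hA
  · exact case_three hA

end Groth.Agent.S15184
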