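import Groth.Statements.S15185
import Groth.Agent.S15168
import Groth.Agent.Lib.RedNorm25.Basic
import Mathlib.FieldTheory.SeparableDegree

set_option autoImplicit false
universe u v
open Polynomial
open BddFin

namespace Groth.Agent.S15185

/-- Let K be a field of characteristic p > 0 such that K contains all roots of unity (for every n ≥ 1
the polynomial X^n − 1 splits into linear factors over K), A a central division algebra of dimension
n ^ 2 over K, and write n = n' · p ^ m with n' prime to p; let N be the reduced norm of A. Consider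
the kernel of the homomorphism from the units of A modulo those of K to Kˣ/(Kˣ)^(p^m) induced by N.
Every element of finite order of that kernel has order dividing n': if x ≠ 0 in A has x ^ r in K for
some r ≥ 1 and N x is a (p ^ m)-th power of a non-zero element of K, then x ^ n' lies in K. -/
theorem result
    (K : Type u) [Field K] (p : ℕ) [Fact p.Prime] [CharP K p] (hK : ∀ n : ℕ, 0 < n → (X ^ n - 1 : K[X]).Splits)
    (A : Type v) [DivisionRing A] [Algebra K A] [Algebra.IsCentral K A] [FiniteDimensional K A]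
    (n n' m : ℕ) (hA : Module.finrank K A = n ^ 2) (hn : n = n' * p ^ m) (hn' : ¬ p ∣ n')
    (N : A →* K) (hN : CSAGal.IsRedNorm K A N)
    (x : A) (hx : x ≠ 0) (hxr : ∃ r : ℕ, 0 < r ∧ x ^ r ∈ (algebraMap K A).range)
    (hNx : ∃ b : K, b ≠ 0 ∧ N x = b ^ (p ^ m)) :
    x ^ n' ∈ (algebraMap K A).range := by
  have hn0' : n' ≠ 0 := fun h => hn' (h ▸ dvd_zero p)
  have hp := (Fact.out : p.Prime)
  haveI : ExpChar K p := ExpChar.prime hp
  haveI : CharP A p := charP_of_injective_algebraMap (algebraMap K A).injective p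
  by_contra hz
  set z := x ^ n' with hzdef
  have hzm : ∃ a, z ^ (p ^ a) ∈ (algebraMap K A).range := by
    refine ⟨m, ?_⟩
    rw [hzdef, ← pow_mul, ← hn]
    exact S15168.result K hK A n hA x hxr
  classical
  set a := Nat.find hzm with hadef
  have ham : a ≤ m := Nat.find_le (by
    rw [hzdef, ← pow_mul, ← hn]
    exact S15168.result K hK A n hA x hxr)
  obtain ⟨e, he⟩ := Nat.find_spec hzm
  rw [← hadef] at he
  have ha0 : a ≠ 0 := fun h => hz ⟨e, by rw [he, h, pow_zero, pow_one]⟩
  have hz0 : z ≠ 0 := pow_ne_zero _ hx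
  have he0 : e ≠ 0 := by
    rintro rfl
    rw [map_zero] at he
    exact pow_ne_zero _ hz0 he.symm
  -- `e` is not a `p`-th power
  have henp : ∀ c : K, c ^ p ≠ e := by
    intro c hc
    obtain ⟨a', ha'⟩ := Nat.exists_eq_succ_of_ne_zero ha0
    have h1 : (z ^ (p ^ a') - algebraMap K A c) ^ p = 0 := by
      rw [sub_pow_char_of_commute p (Algebra.commutes c _).symm, ← pow_mul, ← pow_succ,
          show a' + 1 = a from ha'.symm, ← he,
        ← map_pow, hc, sub_self]
    have h2 : z ^ (p ^ a') = algebraMap K A c := sub_eq_zero.mp (eq_zero_of_pow_eq_zero h1)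
    exact Nat.find_min hzm (show a' < a by omega) ⟨c, h2.symm⟩
  -- the minimal polynomial of `z`
  have hmin : minpoly K z = X ^ (p ^ a) - C e := by
    obtain ⟨j, y, hy⟩ := (minpoly.natSepDegree_eq_one_iff_eq_X_pow_sub_C p).1
      ((minpoly.natSepDegree_eq_one_iff_pow_mem p).2 ⟨a, e, he⟩)
    have hzj : z ^ (p ^ j) = algebraMap K A y := by
      have := minpoly.aeval K z
      rwa [hy, map_sub, map_pow, aeval_X, aeval_C, sub_eq_zero] at this
    have hja : a ≤ j := Nat.find_min' hzm ⟨y, hzj.symm⟩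
    have hdvd : minpoly K z ∣ X ^ (p ^ a) - C e := minpoly.dvd K z (by simp [← he])
    have hdeg := natDegree_le_of_dvd hdvd (monic_X_pow_sub_C e (pow_ne_zero _ hp.ne_zero)).ne_zero
    rw [hy, natDegree_X_pow_sub_C, natDegree_X_pow_sub_C] at hdeg
    obtain rfl : j = a := le_antisymm ((Nat.pow_le_pow_iff_right hp.one_lt).1 hdeg) hja
    rw [hy, (algebraMap K A).injective (hzj.symm.trans he.symm)]
  have hint : IsIntegral K z := IsIntegral.of_finite K z
  -- the reduced norm of `z`
  haveI : IsSimpleRing A := inferInstance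
  obtain ⟨nn, hnn, F, -⟩ := RedNorm25.exists_split K A
  obtain rfl : nn = n := Nat.pow_left_injective two_ne_zero (hnn.symm.trans hA)
  obtain ⟨P, hP⟩ := RedNorm25.exists_redChar hnn F z
  have hPm : P.Monic :=
    monic_of_injective (algebraMap K (AlgebraicClosure K)).injective (hP ▸ Matrix.charpoly_monic _)
  obtain ⟨r, hr⟩ := RedNorm25.eq_pow_of_annihilated (minpoly.irreducible hint) (minpoly.monic hint)
    hPm _ hP (by rw [aeval_algHom_apply, minpoly.aeval, map_zero])
  have hdP : P.natDegree = nn := by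
    rw [← natDegree_map (algebraMap K (AlgebraicClosure K)) (p := P), hP,
      Matrix.charpoly_natDegree_eq_dim, Fintype.card_fin]
  rw [hr, (minpoly.monic hint).natDegree_pow, hmin, natDegree_X_pow_sub_C] at hdP
  have hN1 : N z = (-1) ^ nn * P.coeff 0 := by
    apply (algebraMap K (AlgebraicClosure K)).injective
    rw [RedNorm25.redNorm_spec hN hnn F, RedNorm25.det_eq_of_map hP]
  have hneg : ((-1 : K)) ^ (p ^ a) = -1 := by
    rcases eq_or_ne p 2 with rfl | hp2
    · haveI : CharP K 2 := ‹_›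
      rw [CharTwo.neg_eq, one_pow]
    · exact ((hp.odd_of_ne_two hp2).pow).neg_one_pow
  have hN2 : N z = e ^ r := by
    rw [hN1, hr, coeff_zero_eq_eval_zero, eval_pow, hmin, ← hdP]
    simp only [eval_sub, eval_pow, eval_X, eval_C, zero_pow (pow_ne_zero _ hp.ne_zero), zero_sub]
    rw [mul_comm r, pow_mul, hneg, neg_pow e r, ← mul_assoc, ← mul_pow, neg_mul_neg, one_mul, one_pow,
      one_mul]
  obtain ⟨b, hb0, hb⟩ := hNx
  have hN3 : e ^ r = (b ^ n') ^ (p ^ m) := by
    rw [← hN2, hzdef, map_pow, hb, ← pow_mul, ← pow_mul, mul_comm]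
  have hr' : r = n' * p ^ (m - a) := by
    refine Nat.eq_of_mul_eq_mul_right (pow_pos hp.pos a) ?_
    rw [hdP, hn, mul_assoc, ← pow_add, Nat.sub_add_cancel ham]
  have hN4 : e ^ n' = (b ^ n') ^ (p ^ a) := by
    apply iterateFrobenius_inj K p (m - a)
    simp only [iterateFrobenius_def]
    rw [← pow_mul e, ← hr', hN3, ← pow_mul (b ^ n') (p ^ a), ← pow_add, Nat.add_sub_cancel' ham]
  obtain ⟨a', ha'⟩ := Nat.exists_eq_succ_of_ne_zero ha0
  rw [ha', pow_succ, pow_mul] at hN4
  set c := (b ^ n') ^ p ^ a'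
  have hcop : Nat.gcd n' p = 1 := (hp.coprime_iff_not_dvd.2 hn').symm
  have hbez := Nat.gcd_eq_gcd_ab n' p
  rw [hcop, Nat.cast_one] at hbez
  apply henp (c ^ (Nat.gcdA n' p) * e ^ (Nat.gcdB n' p))
  conv_rhs => rw [← zpow_one e, hbez, zpow_add₀ he0, zpow_mul, zpow_mul, zpow_natCast, hN4]
  rw [mul_pow, ← zpow_natCast, ← zpow_natCast, ← zpow_natCast, ← zpow_mul, ← zpow_mul, ← zpow_mul, ← zpow_mul,
    mul_comm (Nat.gcdA n' p) (p : ℤ), mul_comm (Nat.gcdB n' p) (p : ℤ)]

end Groth.Agent.S15185
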