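import Groth.Statements.S15189
import Groth.Agent.Lib.SBAut28.Kernel
import Groth.Agent.S15184
import Mathlib

set_option autoImplicit false
universe u
open CategoryTheory CategoryTheory.Limits AlgebraicGeometry
open BddFin

namespace Groth.Agent.S15189

theorem exists_sq_zero {k A : Type u} [Field k] [Ring A] [Algebra k A] [FiniteDimensional k A]
    [IsSimpleRing A] (y : A) (hy0 : y ≠ 0) (hy : ¬ IsUnit y) : ∃ w : A, w ≠ 0 ∧ w * w = 0 := by
  have hinj : ¬ Function.Injective (LinearMap.mulRight k y) := by
    intro hinj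
    obtain ⟨z, hz⟩ := (LinearMap.injective_iff_surjective.1 hinj) 1
    have hz' : z * y = 1 := hz
    haveI : IsNoetherianRing A := isNoetherian_of_tower k inferInstance
    exact hy ⟨⟨y, z, mul_eq_one_comm.1 hz', hz'⟩, rfl⟩
  obtain ⟨z, hz, hz0⟩ : ∃ z, z * y = 0 ∧ z ≠ 0 := by
    by_contra h
    push Not at h
    exact hinj ((injective_iff_map_eq_zero _).2 fun z hz => h z hz)
  obtain ⟨a, ha⟩ : ∃ a, y * a * z ≠ 0 := by
    by_contra h
    push Not at h
    have h1 : (1 : A) ∈ TwoSidedIdeal.span {z} := by
      rw [IsSimpleRing.simple.eq_bot_or_eq_top (TwoSidedIdeal.span {z}) |>.resolve_left fun e => hz0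
        ((TwoSidedIdeal.mem_bot A).1 (e ▸ TwoSidedIdeal.subset_span rfl))]
      trivial
    have key : ∀ x ∈ TwoSidedIdeal.span {z}, ∀ b, y * b * x = 0 := by
      intro x hx
      induction hx using TwoSidedIdeal.span_induction with
      | mem x hx =>
        intro b
        rw [show x = z from hx]
        exact h b
      | zero => simp
      | add x y _ _ hx hy => intro b; rw [mul_add, hx, hy, add_zero]
      | neg x _ hx => intro b; rw [mul_neg, hx, neg_zero]
      | left_absorb r x _ hx =>
        intro b
        rw [← mul_assoc, mul_assoc y b r]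
        exact hx _
      | right_absorb r x _ hx =>
        intro b
        rw [← mul_assoc, hx, zero_mul]
    have := key 1 h1 1
    exact hy0 (by simpa using this)
  exact ⟨y * a * z, ha, by
    rw [show y * a * z * (y * a * z) = y * a * (z * y) * (a * z) by simp only [mul_assoc], hz]
    simp⟩

theorem exists_pow_mem {k : Type u} [Field k] (p : ℕ) [Fact p.Prime] [CharP k p] (hp : p = 2 ∨ p = 3)
    (A : Type u) [Ring A] [Algebra k A] [Algebra.IsCentral k A] [IsSimpleRing A]
    [FiniteDimensional k A] (hA : Module.finrank k A = p * p) :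
    ∃ w : A, w ∉ (algebraMap k A).range ∧ w ^ p ∈ (algebraMap k A).range := by
  have hp2 : 2 ≤ p := (Fact.out : p.Prime).two_le
  by_cases hdiv : ∀ a : A, IsUnit a ∨ a = 0
  · letI : DivisionRing A := DivisionRing.ofIsUnitOrEqZero hdiv
    obtain ⟨v, hv⟩ := Groth.Agent.S15184.result k p A (by rw [hA, pow_two]) hp
    have hvk : v ∉ (algebraMap k A).range := by
      rintro ⟨c, rfl⟩
      exact hv (by
        rw [IsSeparable, minpoly.eq_X_sub_C]
        exact Polynomial.separable_X_sub_C)
    refine ⟨v, hvk, ?_⟩
    have hint : IsIntegral k v := IsIntegral.of_finite k v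
    have hirr := minpoly.irreducible hint
    obtain h | ⟨-, g, hg, hgf⟩ := Polynomial.separable_or p hirr
    · exact absurd h hv
    have hd := Groth.Agent.DivAlg.natDegree_minpoly (by rw [hA, pow_two]) hvk
    rw [← hgf, Polynomial.natDegree_expand] at hd
    have hg1 : g.natDegree = 1 := by
      have := Nat.eq_of_mul_eq_mul_right (show 0 < p by omega) (hd.trans (one_mul p).symm)
      exact this
    obtain ⟨a, ha, b, rfl⟩ := Polynomial.natDegree_eq_one.1 hg1
    have h0 := minpoly.aeval k v
    rw [← hgf, Polynomial.expand_aeval] at h0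
    simp only [map_add, map_mul, Polynomial.aeval_C, Polynomial.aeval_X, ← Algebra.smul_def] at h0
    refine ⟨-(b / a), ?_⟩
    rw [eq_comm, map_neg, eq_neg_iff_add_eq_zero]
    refine (smul_eq_zero.1 ?_).resolve_left ha
    rw [smul_add, Algebra.smul_def a (algebraMap k A _), ← map_mul, mul_div_cancel₀ b ha]
    exact h0
  · push Not at hdiv
    obtain ⟨y, hy, hy0⟩ := hdiv
    obtain ⟨w, hw0, hw⟩ := exists_sq_zero (k := k) y hy0 hy
    refine ⟨w, ?_, 0, ?_⟩
    · rintro ⟨c, rfl⟩
      rw [← map_mul, map_eq_zero, mul_self_eq_zero] at hw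
      exact hw0 (by rw [hw, map_zero])
    · rw [map_zero]
      obtain ⟨r, rfl⟩ : ∃ r, p = 2 + r := ⟨p - 2, by omega⟩
      rw [pow_add, pow_two, hw, zero_mul]


/-- Let p be 2 or 3, k an infinite field of characteristic p, A a central simple k-algebra of dimension
p², and X → Spec k the Severi–Brauer variety of A (X represents the functor of left ideals of A with
projective quotient of corank p² − p; X has dimension p − 1). Then the group of automorphisms of X
over k has unbounded finite subgroups: for every N it has a finite subgroup of order greater than N. -/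
theorem result
    (k : Type u) [Field k] [Infinite k] (p : ℕ) [Fact p.Prime] [CharP k p] (hp : p = 2 ∨ p = 3)
    (A : Type u) [Ring A] [Algebra k A] [Algebra.IsCentral k A] [IsSimpleRing A]
    (hA : Module.finrank k A = p * p)
    {X : Scheme.{u}} (f : X ⟶ Spec (CommRingCat.of k)) (hX : BrSev.IsSBOf k A (p * p - p) f) (N : ℕ) :
    ∃ G : Subgroup (Aut (Over.mk f)), Finite G ∧ N < Nat.card G := by
  classical
  haveI : FiniteDimensional k A := .of_finrank_pos (by rw [hA]; have := (Fact.out : p.Prime).pos; positivity)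
  obtain ⟨s⟩ := hX
  obtain ⟨w, hwk, c₀, hc₀⟩ := exists_pow_mem p hp A hA
  haveI : CharP A p := charP_of_injective_algebraMap (algebraMap k A).injective p
  have hpow : ∀ c : k, (w + algebraMap k A c) ^ p = algebraMap k A (c₀ + c ^ p) := fun c => by
    rw [add_pow_char_of_commute p (Algebra.commutes c w).symm, map_add, hc₀, map_pow]
  let bad : Set k := {c | c₀ + c ^ p = 0}
  have hbad : bad.Finite := by
    refine Set.Subsingleton.finite fun a ha b hb => ?_
    apply frobenius_inj k p
    simp only [frobenius_def]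
    exact add_left_cancel (ha.trans hb.symm)
  obtain ⟨T, hTsub, hTcard⟩ := (Set.Infinite.diff (Set.infinite_univ (α := k)) hbad).exists_subset_card_eq (N + 1)
  have hunit : ∀ c : k, c ∉ bad → IsUnit (w + algebraMap k A c) := fun c hc =>
    (isUnit_pow_iff (Fact.out : p.Prime).ne_zero).1 (by
      rw [hpow]
      exact (isUnit_iff_ne_zero.2 hc).map (algebraMap k A))
  let el : k → Aˣ := fun c => if h : c ∉ bad then (hunit c h).unit else 1
  have hel : ∀ c ∈ T, ((el c : Aˣ) : A) = w + algebraMap k A c := fun c hc => by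
    have hc' : c ∉ bad := (hTsub hc).2
    simp [el, hc']
  let Φ : Aˣ →* Aut (Over.mk f) := Groth.Agent.SBAut28.autHom s
  have hpp : 0 < p := (Fact.out : p.Prime).pos
  have hker : ∀ u : Aˣ, Φ u = 1 → (u : A) ∈ (algebraMap k A).range := fun u hu =>
    Groth.Agent.SBAut28.mem_range_of_act_eq hpp hA u fun R _ _ M =>
      Groth.Agent.SBAut28.act_eq_of_autHom_eq_one s hu R M
  let S : Set (Aut (Over.mk f)) := (fun c => Φ (el c)) '' (T : Set k)
  have hcomm : ∀ x ∈ S, ∀ y ∈ S, x * y = y * x := by
    rintro _ ⟨a, ha, rfl⟩ _ ⟨b, hb, rfl⟩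
    rw [← map_mul, ← map_mul]
    refine congrArg Φ (Units.ext ?_)
    simp only [Units.val_mul, hel a ha, hel b hb, mul_add, add_mul, Algebra.commutes, ← map_mul]
    rw [mul_comm a b, ← Algebra.commutes a w, ← Algebra.commutes b w]
    abel
  have hfin : Finite ↥(Subgroup.closure S) := by
    letI : CommGroup ↥(Subgroup.closure S) := Subgroup.closureCommGroupOfComm hcomm
    haveI : Group.FG ↥(Subgroup.closure S) := by
      rw [Group.fg_iff_subgroup_fg, Subgroup.fg_iff]
      exact ⟨S, rfl, (T.finite_toSet.image _)⟩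
    refine CommGroup.finite_of_fg_torsion _ fun x => ?_
    refine isOfFinOrder_iff_pow_eq_one.2 ⟨p, hpp, ?_⟩
    obtain ⟨x, hx⟩ := x
    apply Subtype.ext
    show x ^ p = 1
    have key : ∀ z : ↥(Subgroup.closure S), z ^ p = 1 := by
      intro z
      obtain ⟨z, hz⟩ := z
      induction hz using Subgroup.closure_induction with
      | mem y hy =>
        obtain ⟨c, hc, rfl⟩ := hy
        apply Subtype.ext
        show Φ (el c) ^ p = 1
        rw [← map_pow]
        have hc' : c₀ + c ^ p ≠ 0 := (hTsub hc).2
        rw [show el c ^ p = Units.map (algebraMap k A : k →* A) (Units.mk0 _ hc') from Units.ext (by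
          rw [Units.val_pow_eq_pow_val, hel c hc, hpow]; rfl)]
        exact Groth.Agent.SBAut28.autHom_algebraMap s _
      | one => exact one_pow p
      | mul a b ha hb iha ihb =>
        exact (mul_pow (⟨a, ha⟩ : ↥(Subgroup.closure S)) ⟨b, hb⟩ p).trans (by rw [iha, ihb, one_mul])
      | inv a ha iha =>
        exact (inv_pow (⟨a, ha⟩ : ↥(Subgroup.closure S)) p).trans (by rw [iha, inv_one])
    exact congrArg Subtype.val (key ⟨x, hx⟩)
  refine ⟨Subgroup.closure S, hfin, ?_⟩
  · let g : ↥T → ↥(Subgroup.closure S) := fun c =>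
      ⟨Φ (el c.1), Subgroup.subset_closure ⟨c.1, c.2, rfl⟩⟩
    have hg : Function.Injective g := by
      intro a b hab
      have h1 : Φ (el a.1) = Φ (el b.1) := congrArg Subtype.val hab
      obtain ⟨l, hl⟩ := hker ((el a.1)⁻¹ * el b.1) (by rw [map_mul, map_inv, h1, inv_mul_cancel])
      have h2 : w + algebraMap k A b.1 = (w + algebraMap k A a.1) * algebraMap k A l := by
        rw [← hel a.1 a.2, ← hel b.1 b.2, hl, ← Units.val_mul, mul_inv_cancel_left]
      have hl1 : l = 1 := by
        by_contra hl1
        refine hwk ⟨(b.1 - a.1 * l) / (l - 1), ?_⟩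
        have h3 : (l - 1) • w = algebraMap k A (b.1 - a.1 * l) := by
          rw [Algebra.smul_def, map_sub, map_one, sub_mul, one_mul, map_sub, map_mul, sub_eq_sub_iff_add_eq_add]
          rw [add_comm (algebraMap k A b.1) w, h2, add_mul, ← Algebra.commutes l w]
        rw [eq_comm, ← inv_smul_smul₀ (sub_ne_zero.2 hl1) w, h3, Algebra.smul_def, ← map_mul]
        congr 1
        rw [div_eq_inv_mul]
      rw [hl1, map_one, mul_one, add_right_inj] at h2
      exact Subtype.ext ((algebraMap k A).injective h2).symm
    haveI := hfin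
    calc N < Nat.card ↥T := by simp [hTcard]
      _ ≤ _ := Nat.card_le_card_of_injective g hg

end Groth.Agent.S15189
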