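import Groth.Statements.S1519
import Groth.Agent.Lib.CurveAmple18.Main

set_option autoImplicit false
universe u
open CategoryTheory CategoryTheory.Limits AlgebraicGeometry
open Variety

namespace Groth.Agent.S1519

/-- On a proper curve over a field, if an invertible module has a nonzero global section which vanishes
at some point (the section does not generate the module near that point), then the degree is
positive. -/
theorem result (k : Type u) [Field k] (X : Scheme.{u}) [X.Over (Spec (CommRingCat.of k))]
    [IsIntegral X] [IsProper (X ↘ (Spec (CommRingCat.of k)))] (hdim : topologicalKrullDim X = 1)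
    (L : X.Modules) (hL : PicF.IsInvertible L) (s : Coh.structureModule X ⟶ L) (hs : s ≠ 0)
    (x : X) (hx : x ∉ CohB1.genLocus L s) :
    0 < Curv2.deg k X L 1 := by
  obtain ⟨h1, h2⟩ := CurveAmple18.deg_section (k := k) hdim.le hL _ (CurveAmple18.gval_ne_zero hs)
  rw [Amp.secHom_gval] at h2
  refine lt_of_le_of_ne h1 fun h0 => hx ?_
  haveI := h2 h0.symm
  rw [CurveAmple18.genLocus_eq_top_of_isIso s]
  trivial

end Groth.Agent.S1519
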