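import Groth.Statements.S15190
import Groth.Agent.Lib.SBAut28.Main
import Groth.Agent.S15185
import Groth.Agent.Lib.RedNorm25.Basic
import Mathlib.GroupTheory.SchurZassenhaus
import Mathlib.GroupTheory.PGroup

set_option autoImplicit false
universe u
open CategoryTheory CategoryTheory.Limits AlgebraicGeometry Polynomial
open BddFin

namespace Groth.Agent.S15190

set_option maxHeartbeats 800000 in
/-- Let k be a field of characteristic p > 0 such that k contains all roots of unity (for every r ≥ 1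
the polynomial X^r − 1 splits into linear factors over k), A a central division algebra of dimension
n² over k with n = n' · p ^ m and n' prime to p, and X → Spec k the Severi–Brauer variety of A (X
represents the functor of left ideals of A with projective quotient of corank n² − n). Then every
finite subgroup G of the group of automorphisms of X over k is a semidirect product: there are
subgroups H and S of G with H normal in G, H ∩ S trivial and H S = G, such that every element of H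
has order prime to p and S is abelian with s ^ (p ^ m) = 1 for all s in S. (The published statement
also bounds the order of H; that bound is not part of this row.) -/
theorem result
    (k : Type u) [Field k] (p : ℕ) [Fact p.Prime] [CharP k p]
    (hk : ∀ r : ℕ, 0 < r → (X ^ r - 1 : k[X]).Splits)
    (A : Type u) [DivisionRing A] [Algebra k A] [Algebra.IsCentral k A]
    (n n' m : ℕ) (hn0 : 0 < n) (hA : Module.finrank k A = n * n) (hn : n = n' * p ^ m) (hn' : ¬ p ∣ n')
    {X : Scheme.{u}} (f : X ⟶ Spec (CommRingCat.of k)) (hX : BrSev.IsSBOf k A (n * n - n) f)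
    (G : Subgroup (Aut (Over.mk f))) [Finite G] :
    ∃ H S : Subgroup (Aut (Over.mk f)), H ≤ G ∧ S ≤ G ∧
      (∀ g ∈ G, ∀ h ∈ H, g * h * g⁻¹ ∈ H) ∧ H ⊓ S = ⊥ ∧ H ⊔ S = G ∧
      (∀ h ∈ H, ((orderOf h : ℕ) : k) ≠ 0) ∧
      (∀ s ∈ S, ∀ t ∈ S, s * t = t * s) ∧ (∀ s ∈ S, s ^ (p ^ m) = 1) := by
  classical
  haveI : FiniteDimensional k A := .of_finrank_pos (by rw [hA]; exact Nat.mul_pos hn0 hn0)
  obtain ⟨ξ, hξ, hker⟩ := Groth.Agent.SBAut28.exists_autHom hn0 hA hX
  obtain ⟨N, hN⟩ := Groth.Agent.RedNorm25.exists_isRedNorm k A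
  let ν : Aˣ →* kˣ ⧸ (powMonoidHom (p ^ m) : kˣ →* kˣ).range :=
    (QuotientGroup.mk' _).comp (Units.map N)
  have hle : ξ.ker ≤ ν.ker := by
    rw [hker]
    rintro _ ⟨c, rfl⟩
    rw [MonoidHom.mem_ker]
    refine (QuotientGroup.eq_one_iff _).2 ⟨c ^ n', Units.ext ?_⟩
    obtain ⟨l, hl, F, -⟩ := Groth.Agent.RedNorm25.exists_split k A
    have hln : l = n := Nat.pow_left_injective two_ne_zero (hl.symm.trans (hA.trans (pow_two n).symm))
    apply (algebraMap k (AlgebraicClosure k)).injective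
    show algebraMap k _ (((c ^ n' : kˣ) ^ p ^ m : kˣ) : k) = algebraMap k _ (N (algebraMap k A (c : k)))
    rw [Groth.Agent.RedNorm25.redNorm_spec hN hl F, AlgHom.commutes, Matrix.algebraMap_eq_diagonal,
      Matrix.det_diagonal]
    simp only [Pi.algebraMap_apply, Finset.prod_const, Finset.card_univ, Fintype.card_fin, hln, hn,
      Units.val_pow_eq_pow_val, ← pow_mul, map_pow]
  let η : Aut (Over.mk f) →* kˣ ⧸ (powMonoidHom (p ^ m) : kˣ →* kˣ).range :=
    ξ.liftOfSurjective hξ ⟨ν, hle⟩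
  have hη : ∀ u, η (ξ u) = ν u := fun u => ξ.liftOfRightInverse_comp_apply _ _ ⟨ν, hle⟩ u
  let η' : ↥G →* kˣ ⧸ (powMonoidHom (p ^ m) : kˣ →* kˣ).range := η.comp G.subtype
  have hord : ∀ g : ↥G, g ∈ η'.ker → g ^ n' = 1 := by
    intro g hg
    obtain ⟨u, hu⟩ := hξ g
    have h1 : ν u = 1 := by rw [← hη, hu]; exact hg
    obtain ⟨b, hb⟩ := (QuotientGroup.eq_one_iff _).1 h1
    obtain ⟨r, hr, hr1⟩ := isOfFinOrder_iff_pow_eq_one.1 (isOfFinOrder_of_finite g)
    have hr2 : ξ (u ^ r) = 1 := by rw [map_pow, hu, ← SubgroupClass.coe_pow, hr1]; rfl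
    rw [← MonoidHom.mem_ker, hker] at hr2
    obtain ⟨c, hc⟩ := hr2
    obtain ⟨d, hd⟩ := Groth.Agent.S15185.result k p hk A n n' m (by rw [hA, pow_two]) hn hn' N hN
      (u : A) u.ne_zero ⟨r, hr, c, by rw [← Units.val_pow_eq_pow_val, ← hc]; rfl⟩
      ⟨(b : k), b.ne_zero, by
        have := congrArg Units.val hb
        simpa using this.symm⟩
    apply Subtype.ext
    show (g : Aut (Over.mk f)) ^ n' = 1
    rw [← hu, ← map_pow, ← MonoidHom.mem_ker, hker]
    have hd0 : d ≠ 0 := fun h0 =>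
      (u ^ n').ne_zero (by rw [Units.val_pow_eq_pow_val, ← hd, h0, map_zero])
    exact ⟨Units.mk0 d hd0, Units.ext (by rw [Units.val_pow_eq_pow_val, ← hd]; rfl)⟩
  have hexp : ∀ q : kˣ ⧸ (powMonoidHom (p ^ m) : kˣ →* kˣ).range, q ^ (p ^ m) = 1 := by
    intro q
    obtain ⟨x, rfl⟩ := QuotientGroup.mk_surjective q
    rw [← QuotientGroup.mk_pow]
    exact (QuotientGroup.eq_one_iff _).2 ⟨x, rfl⟩
  have hn'0 : n' ≠ 0 := by rintro rfl; exact hn' (dvd_zero p)
  have hcop1 : ¬ p ∣ Nat.card ↥η'.ker := by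
    intro hdvd
    obtain ⟨x, hx⟩ := exists_prime_orderOf_dvd_card' p hdvd
    have h1 : orderOf x ∣ n' := by
      rw [orderOf_dvd_iff_pow_eq_one]
      exact Subtype.ext (hord x.1 x.2)
    exact hn' (hx ▸ h1)
  obtain ⟨j, hj⟩ : ∃ j, η'.ker.index = p ^ j := by
    have hP : IsPGroup p (↥G ⧸ η'.ker) := by
      intro q
      obtain ⟨x, rfl⟩ := QuotientGroup.mk_surjective q
      refine ⟨m, ?_⟩
      rw [← QuotientGroup.mk_pow]
      exact (QuotientGroup.eq_one_iff _).2 (by rw [MonoidHom.mem_ker, map_pow, hexp])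
    exact IsPGroup.iff_card.1 hP
  have hcop : Nat.Coprime (Nat.card ↥η'.ker) η'.ker.index := by
    rw [hj]
    exact Nat.Coprime.pow_right j ((Fact.out : p.Prime).coprime_iff_not_dvd.2 hcop1).symm
  obtain ⟨C, hC⟩ := Subgroup.exists_right_complement'_of_coprime hcop
  refine ⟨η'.ker.map G.subtype, C.map G.subtype, Subgroup.map_subtype_le _, Subgroup.map_subtype_le _,
    ?_, ?_, ?_, ?_, ?_, ?_⟩
  · rintro g hg _ ⟨x, hx, rfl⟩
    let y : ↥G := ⟨g, hg⟩
    refine Subgroup.mem_map.2 ⟨y * x * y⁻¹, (MonoidHom.normal_ker η').conj_mem x hx y, ?_⟩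
    simp only [map_mul, map_inv, Subgroup.coe_subtype, y]
  · rw [← Subgroup.map_inf _ _ _ G.subtype_injective, hC.disjoint.eq_bot, Subgroup.map_bot]
  · rw [← Subgroup.map_sup, hC.sup_eq_top, ← MonoidHom.range_eq_map, Subgroup.range_subtype]
  · rintro _ ⟨x, hx, rfl⟩
    have h1 : orderOf x ∣ n' := orderOf_dvd_iff_pow_eq_one.2 (hord x hx)
    rw [Subgroup.coe_subtype, Subgroup.orderOf_coe, Ne, CharP.cast_eq_zero_iff k p]
    exact fun h => hn' (h.trans h1)
  · rintro _ ⟨x, hx, rfl⟩ _ ⟨y, hy, rfl⟩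
    rw [← map_mul, ← map_mul]
    congr 1
    have h1 : x * y * (y * x)⁻¹ ∈ η'.ker := by
      rw [MonoidHom.mem_ker, map_mul, map_inv, map_mul, map_mul, mul_comm (η' y), mul_inv_cancel]
    have h2 : x * y * (y * x)⁻¹ ∈ C := C.mul_mem (C.mul_mem hx hy) (C.inv_mem (C.mul_mem hy hx))
    exact mul_inv_eq_one.1 (Subgroup.mem_bot.1 (hC.disjoint.eq_bot ▸ Subgroup.mem_inf.2 ⟨h1, h2⟩))
  · rintro _ ⟨x, hx, rfl⟩
    rw [← map_pow, show x ^ p ^ m = 1 from Subgroup.mem_bot.1 (hC.disjoint.eq_bot ▸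
      Subgroup.mem_inf.2 ⟨by rw [MonoidHom.mem_ker, map_pow, hexp], C.pow_mem hx _⟩), map_one]

end Groth.Agent.S15190
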