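import Groth.Statements.S15218
import Groth.Agent.Lib.ShStab28.Positive

set_option autoImplicit false
open CategoryTheory CategoryTheory.Limits AlgebraicGeometry Polynomial
universe u
open ShStab

namespace Groth.Agent.S15218

/-- Let X be a scheme proper over a field k with an ample invertible sheaf L, all Hilbert polynomials
being taken with respect to L, and let d ≥ 1. For an O_X-module E the following are equivalent: (i)
E is stable of dimension d in the sense of Gieseker, i.e. coherent, nonzero, pure of dimension d,
with reduced Hilbert polynomial p(F) < p(E) for every nonzero proper coherent submodule F; (ii) E is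
ℓ-stable of dimension d for ℓ = d, i.e. coherent, nonzero, pure of dimension d, and p_d(F) < p_d(E)
for the reduced d-truncated Hilbert polynomials of every coherent submodule F whose multiplicity
satisfies 0 < α_d(F) < α_d(E). (The published remark is made for coherent sheaves on a connected
smooth projective variety with a very ample polarisation and records no argument; this row states
the equivalence for X proper over any field with L ample.) -/
theorem result (k : Type u) [Field k] (X : Scheme.{u})
    [X.Over (Spec (CommRingCat.of k))] [IsProper (X ↘ Spec (CommRingCat.of k))]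
    (L : X.Modules) (hL : CohB1.IsAmple L) (d : ℕ) (hd : 1 ≤ d) (E : X.Modules) :
    ShStab.IsStable k X L E d ↔ ShStab.IsEllStable k X L E d d := by
  have hi := hL.1
  have hpos := Agent.ShStab28.positive k hL
  constructor
  · rintro ⟨hE, h0, hp, hst⟩
    have hP := Agent.ShStab28.pure_of_isPure hi hpos hE hp
    refine ⟨hE, h0, hp, fun F i hm hF pF pE hpF hpE ha hlt => ?_⟩
    have eF := (Agent.ShStab28.hp_iff hi hF).mp hpF
    have eE := (Agent.ShStab28.hp_iff hi hE).mp hpE
    have dF : pF.natDegree ≤ d := eF ▸ (hP.sub i hF).2.1
    have dE : pE.natDegree ≤ d := eE ▸ hP.2.1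
    rw [Agent.ShStab28.topPart_self dF, Agent.ShStab28.topPart_self dE]
    refine hst F i hm hF (fun hz => ?_) (fun hiso => ?_) pF pE hpF hpE
    · rw [eF, show Agent.ShStab28.hilb k X L F = 0 from Agent.ShStab28.Sys.hp_zero (Agent.ShStab28.sys k X L hi hpos) hz,
        Agent.ShStab28.alpha_zero] at ha
      exact lt_irrefl _ ha
    · rw [eF, eE, Agent.ShStab28.hilb_iso k hi (@asIso _ _ _ _ i hiso) hF] at hlt
      exact lt_irrefl _ hlt
  · rintro ⟨hE, h0, hp, hst⟩
    have hP := Agent.ShStab28.pure_of_isPure hi hpos hE hp
    refine ⟨hE, h0, hp, fun F i hm hF hF0 hiso pF pE hpF hpE => ?_⟩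
    have eF := (Agent.ShStab28.hp_iff hi hF).mp hpF
    have eE := (Agent.ShStab28.hp_iff hi hE).mp hpE
    have dF : pF.natDegree ≤ d := eF ▸ (hP.sub i hF).2.1
    have dE : pE.natDegree ≤ d := eE ▸ hP.2.1
    have ha : 0 < StabCat.alpha d pF := eF ▸ hP.2.2 F i hm hF hF0
    haveI := hm
    let S := Agent.ShStab28.sys k X L hi hpos
    have hQ : Coh.IsCoh (cokernel i) := S.ok_coker i hF hE
    have dQ := ((Agent.ShStab28.Sys.deg_mono S i hF hE).2).trans hP.2.1
    have hsum : pE = pF + Agent.ShStab28.hilb k X L (cokernel i) := by rw [eE, eF]; exact Agent.ShStab28.Sys.hp_mono S i hF hE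
    rcases (Agent.ShStab28.alpha_nonneg dQ (Agent.ShStab28.Sys.lc_nonneg S hQ)).lt_or_eq with hlt | heq
    · have := hst F i hm hF pF pE hpF hpE ha
        (by rw [hsum, Agent.ShStab28.alpha_add]; exact lt_add_of_pos_right _ hlt)
      rwa [Agent.ShStab28.topPart_self dF, Agent.ShStab28.topPart_self dE] at this
    · rw [hsum]
      refine Agent.ShStab28.redLT_self_add ha (S.pos hQ fun hz => hiso ?_) heq.symm
      haveI : Epi i := Preadditive.epi_of_cokernel_zero (hz.eq_of_tgt _ _)
      exact isIso_of_mono_of_epi i

end Groth.Agent.S15218
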