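import Groth.Statements.S15224
import Mathlib.Tactic
import Mathlib.LinearAlgebra.FreeModule.PID
import Mathlib.LinearAlgebra.Dimension.Finrank
import Mathlib.Algebra.MonoidAlgebra.MapDomain
import Mathlib.Algebra.MonoidAlgebra.Basic
import Mathlib.RingTheory.GradedAlgebra.Basic
import Mathlib.RingTheory.FiniteType
import Mathlib.Analysis.Seminorm
import Mathlib.Algebra.Module.CharacterModule
import Mathlib.Topology.Algebra.Group.Basic
import Mathlib.GroupTheory.FiniteAbelian.Basic
import Mathlib.NumberTheory.Padics.PadicVal.Basic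
import Mathlib.Data.Nat.Factorial.BigOperators
import Mathlib.Algebra.CharP.Basic
import Mathlib.Data.Nat.Choose.Sum

set_option autoImplicit false
open Finset
open W4c2rk2extmaps

namespace Groth.Agent.S15224

/-- In a commutative ℚ-algebra R let y be an element and put c_k = y^k / k! for every k. Then for k ≥ 2,
Σ_{i=1}^{k-1} (-1)^(i-1) c_i c_(k-i) + (-1)^(k-1) c_k = c_k. (The published statement concerns the
Chern classes of a specific vector bundle on a Jacobian, which are of the form c_k = (4θ)^k / k!;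
the printed argument establishes the identity for every sequence of this form in a commutative
ℚ-algebra, which is the form stated here.) -/
theorem result (R : Type*) [CommRing R] [Algebra ℚ R] (y : R)
    (c : ℕ → R) (hc : ∀ k : ℕ, c k = ((Nat.factorial k : ℚ)⁻¹) • y ^ k)
    (k : ℕ) (hk : 2 ≤ k) :
    (∑ i ∈ Finset.Ico 1 k, (-1 : R) ^ (i - 1) * c i * c (k - i)) + (-1 : R) ^ (k - 1) * c k = c k := by
  have hm : ∀ i ≤ k, c i * c (k - i) = (k.choose i : R) * c k := by
    intro i hi
    rw [hc, hc, hc, smul_mul_smul_comm, ← pow_add, Nat.add_sub_cancel' hi, mul_smul_comm, ← nsmul_eq_mul, ← Nat.cast_smul_eq_nsmul ℚ, smul_smul]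
    congr 1
    rw [Nat.cast_choose ℚ hi]
    field_simp
  have hs : ∑ i ∈ Finset.range (k + 1), (-1 : R) ^ i * (k.choose i : R) = 0 := by
    have := (add_pow (-1 : R) 1 k).symm
    simpa [zero_pow (show k ≠ 0 by omega)] using this
  rw [Finset.sum_range_succ, Finset.range_eq_Ico, ← Finset.sum_Ico_consecutive _ (Nat.zero_le 1) (show 1 ≤ k by omega)] at hs
  simp at hs
  have hI : ∑ i ∈ Finset.Ico 1 k, (-1 : R) ^ (i - 1) * c i * c (k - i) = -(∑ i ∈ Finset.Ico 1 k, (-1 : R) ^ i * (k.choose i : R)) * c k := by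
    rw [neg_mul, Finset.sum_mul, ← Finset.sum_neg_distrib]
    refine Finset.sum_congr rfl fun i hi => ?_
    rw [Finset.mem_Ico] at hi
    obtain ⟨j, rfl⟩ : ∃ j, i = j + 1 := ⟨i - 1, by omega⟩
    rw [mul_assoc, hm _ hi.2.le]; simp [pow_succ]; ring
  obtain ⟨m, rfl⟩ : ∃ m, k = m + 1 := ⟨k - 1, by omega⟩
  rw [hI, Nat.add_sub_cancel]
  rw [pow_succ] at hs
  linear_combination -(c (m + 1)) * hs

end Groth.Agent.S15224
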