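import Groth.Statements.S15225
-- import your own Groth.Agent.* helpers here
import Groth.Agent.Lib.VB17.Pair
import Groth.Agent.Lib.VB17.SmoothDuality
import Groth.Agent.Lib.VB17.GenusOne
import Groth.Agent.Lib.CurveOm17.AnyField

set_option autoImplicit false
open CategoryTheory CategoryTheory.Limits AlgebraicGeometry MonoidalCategory
open VBCurve

namespace Groth.Agent.S15225

/-- Let X be a smooth proper integral curve over ℂ of genus at least 2 which is non-hyperelliptic (no
invertible module of degree 2 has two independent global sections), K a module isomorphic to its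
sheaf of differentials, and E a slope-stable finite locally free module of rank 2 and degree 0 or 1
(degrees are χ(−) minus rank times χ(O_X)). Call E very stable when every O_X-linear map α : E → E ⊗
K with α ∘ α = 0 (the composite E → E ⊗ K → (E ⊗ K) ⊗ K) is zero; for rank 2 this is the absence of
non-zero nilpotent K-valued endomorphisms. Then E fails to be very stable exactly when E has a line
subbundle L, i.e. an invertible submodule whose quotient E/L is invertible, together with a non-zero
O_X-linear map E/L → L ⊗ K. (With det E = Λ and L the dual of a line bundle L₀ the space of such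
maps is H^0(K ⊗ L₀^{-2} ⊗ Λ^{-1}), which is how the criterion is usually written.) -/
theorem result
    (X : Scheme.{0}) [X.Over (Spec (CommRingCat.of ℂ))] [IsIntegral X]
    [IsProper (X ↘ Spec (CommRingCat.of ℂ))] [Smooth (X ↘ Spec (CommRingCat.of ℂ))]
    (hdim : topologicalKrullDim X = 1) (hg : 2 ≤ Curv2.genus ℂ X)
    (hnh : ∀ M : X.Modules, PicF.IsInvertible M → Curv2.deg ℂ X M 1 = 2 →
      Module.finrank ℂ (Coh.HH X M 0) ≤ 1)
    (K : X.Modules) (eK : K ≅ Omega.sheaf (X ↘ Spec (CommRingCat.of ℂ)))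
    (E : X.Modules) (hE : FlatMod.IsFinLocFreeOfRank 2 E)
    (hdegE : Curv2.deg ℂ X E 2 = 0 ∨ Curv2.deg ℂ X E 2 = 1)
    (hst : ModFun.IsSlopeStable ℂ X E 2) :
    (¬ ∀ α : E ⟶ CohB1.tensorMod E K,
        α ≫ (CohB1.sheafifyMod X).map
          (MonoidalCategoryStruct.whiskerRight (C := CohB1.PMod X) α.val (CohB1.toPMod K)) = 0 → α = 0) ↔
      ∃ (L : X.Modules) (j : L ⟶ E), PicF.IsInvertible L ∧ Mono j ∧ PicF.IsInvertible (cokernel j) ∧
        ∃ β : cokernel j ⟶ CohB1.tensorMod L K, β ≠ 0 := by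
  obtain ⟨hX, -, -⟩ := Groth.Agent.VB17.setup (k := ℂ) (X := X) hdim
  haveI := hX.like.noetherian
  haveI := Groth.Agent.CurveCartier25.smoothOfRelativeDimension_one (X ↘ Spec (CommRingCat.of ℂ)) hdim
  have hK : PicF.IsInvertible K :=
    Groth.Agent.Twist.isInvertible_of_iso eK.symm ((Groth.Agent.M2.isInvertible_iff_isFinLocFreeOfRank_one _).2
      (Groth.Agent.Omega12.isFinLocFreeOfRank_receptacle_of_smooth _ (Groth.Agent.Omega12.isUniversal_dOmega (f := X ↘ Spec (CommRingCat.of ℂ))) 1))
  have hK1 := (Groth.Agent.M2.isInvertible_iff_isFinLocFreeOfRank_one K).1 hK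
  constructor
  · intro h
    push Not at h
    obtain ⟨α, hα0, hαne⟩ := h
    have hα : α ≫ Groth.Agent.M2.tensorMap α (𝟙 K) = 0 :=
      (congrArg (α ≫ ·) (Groth.Agent.VB17.whisker_eq_tensorMap α K)).symm.trans hα0
    have hEK : FlatMod.IsFinLocFreeOfRank 2 (CohB1.tensorMod E K) := by
      simpa using Groth.Agent.M2.isFinLocFreeOfRank_tensor hE hK1
    obtain ⟨rK, rI, hker, hI, hsum, -, hI0, hm⟩ := Groth.Agent.VB17.exists_image hX.pid hE hEK α
    have hrI : rI ≠ 0 := fun h => hαne (hI0.1 h)
    have hrK : rK ≠ 0 := fun h => by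
      haveI := hm.1 h
      haveI := Groth.Agent.VB17.mono_tensorMap α hK
      haveI : Mono (α ≫ Groth.Agent.M2.tensorMap α (𝟙 K)) := mono_comp _ _
      exact Groth.Agent.VB17.not_isZero_of_rank two_pos hE ((IsZero.iff_id_eq_zero _).2
        ((cancel_mono (α ≫ Groth.Agent.M2.tensorMap α (𝟙 K))).1 (by rw [hα, comp_zero, comp_zero])))
    obtain rfl : rK = 1 := by omega
    obtain rfl : rI = 1 := by omega
    let j := kernel.ι α
    have hS := Groth.Agent.CurveCoh17.kerSC_shortExact α
    haveI := hS.epi_g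
    let ec : cokernel j ≅ Abelian.image α := (cokernelIsCokernel _).coconePointUniqueUpToIso hS.gIsCokernel
    have hSK := Groth.Agent.CurveCoh17.shortExact_tensorR hS K (Groth.Agent.VB17.flat_stalk hK)
    haveI hmI := Groth.Agent.VB17.mono_tensorMap (Abelian.image.ι α) hK
    haveI := hSK.mono_f
    have h1 : α ≫ Groth.Agent.M2.tensorMap (Abelian.factorThruImage α) (𝟙 K) = 0 := by
      rw [← cancel_mono (Groth.Agent.M2.tensorMap (Abelian.image.ι α) (𝟙 K)), Category.assoc,
        ← Groth.Agent.M2.tensorMap_comp, Abelian.image.fac, Category.comp_id, hα, zero_comp]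
    let γ : E ⟶ CohB1.tensorMod (kernel α) K := hSK.exact.lift α h1
    have hγ : γ ≫ Groth.Agent.M2.tensorMap (kernel.ι α) (𝟙 K) = α := hSK.exact.lift_f α h1
    have h2 : kernel.ι α ≫ γ = 0 := by
      haveI : Mono (Groth.Agent.M2.tensorMap (kernel.ι α) (𝟙 K)) := Groth.Agent.VB17.mono_tensorMap _ hK
      rw [← cancel_mono (Groth.Agent.M2.tensorMap (kernel.ι α) (𝟙 K)), Category.assoc, hγ, kernel.condition, zero_comp]
    refine ⟨kernel α, j, (Groth.Agent.M2.isInvertible_iff_isFinLocFreeOfRank_one _).2 hker, inferInstance,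
      Groth.Agent.Twist.isInvertible_of_iso ec.symm ((Groth.Agent.M2.isInvertible_iff_isFinLocFreeOfRank_one _).2 hI),
      cokernel.desc j γ h2, fun hz => hαne ?_⟩
    have hz' : γ = 0 := by rw [← cokernel.π_desc j γ h2, hz, comp_zero]
    rw [← hγ, hz', zero_comp]
  · rintro ⟨L, j, hL, hj, hQ, β, hβ⟩ hvs
    haveI := hj
    haveI := Groth.Agent.VB17.mono_tensorMap j hK
    have hz : Groth.Agent.M2.tensorMap j (𝟙 K) ≫
        Groth.Agent.M2.tensorMap (cokernel.π j ≫ β ≫ Groth.Agent.M2.tensorMap j (𝟙 K)) (𝟙 K) = 0 := by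
      rw [← Groth.Agent.M2.tensorMap_comp, ← Category.assoc j, cokernel.condition, zero_comp, Category.comp_id]
      exact (Groth.Agent.M2.tensorR K).map_zero _ _
    have hα := hvs (cokernel.π j ≫ β ≫ Groth.Agent.M2.tensorMap j (𝟙 K)) (by
      refine (congrArg ((cokernel.π j ≫ β ≫ Groth.Agent.M2.tensorMap j (𝟙 K)) ≫ ·)
        (Groth.Agent.VB17.whisker_eq_tensorMap _ K)).trans ?_
      exact (Category.assoc _ _ _).trans ((congrArg (cokernel.π j ≫ ·) ((Category.assoc _ _ _).trans
        ((congrArg (β ≫ ·) hz).trans comp_zero))).trans comp_zero))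
    rw [← comp_zero (f := cokernel.π j), cancel_epi, ← zero_comp (f := Groth.Agent.M2.tensorMap j (𝟙 K)), cancel_mono] at hα
    exact hβ hα

end Groth.Agent.S15225
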