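import Groth.Statements.S15226
-- import your own Groth.Agent.* helpers here
import Groth.Agent.Lib.CurveOm17.AnyField
import Groth.Agent.Lib.VB17.Pair
import Groth.Agent.Lib.VB17.Duality
import Groth.Agent.Lib.VB17.SmoothDuality
import Groth.Agent.Lib.VB17.GenusOne

set_option autoImplicit false
open CategoryTheory CategoryTheory.Limits AlgebraicGeometry MonoidalCategory
open VBCurve

namespace Groth.Agent.S15226

/-- Let X be a smooth proper integral curve over ℂ of genus at least 2 which is non-hyperelliptic, K a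
module isomorphic to its sheaf of differentials, and E a slope-stable finite locally free module of
rank 2 and degree 0 or 1 which is very stable: every O_X-linear α : E → E ⊗ K with α ∘ α = 0 (as a
map E → (E ⊗ K) ⊗ K) vanishes. Let L be an invertible module occurring as a line subbundle of E of
maximal degree (a monomorphism L → E with invertible quotient exists, and every invertible module
mapping monomorphically into E has degree at most deg L). Then for every non-zero s : L → E and
every non-zero t : E → L ⊗ K the composite L → E → L ⊗ K is non-zero; in other words the pairing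
Hom(L, E) × Hom(E, L ⊗ K) → Hom(L, L ⊗ K) ≅ H^0(K) vanishes on no pair of non-zero elements. -/
theorem result
    (X : Scheme.{0}) [X.Over (Spec (CommRingCat.of ℂ))] [IsIntegral X]
    [IsProper (X ↘ Spec (CommRingCat.of ℂ))] [Smooth (X ↘ Spec (CommRingCat.of ℂ))]
    (hdim : topologicalKrullDim X = 1) (hg : 2 ≤ Curv2.genus ℂ X)
    (hnh : ∀ M : X.Modules, PicF.IsInvertible M → Curv2.deg ℂ X M 1 = 2 →
      Module.finrank ℂ (Coh.HH X M 0) ≤ 1)
    (K : X.Modules) (eK : K ≅ Omega.sheaf (X ↘ Spec (CommRingCat.of ℂ)))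
    (E : X.Modules) (hE : FlatMod.IsFinLocFreeOfRank 2 E)
    (hdegE : Curv2.deg ℂ X E 2 = 0 ∨ Curv2.deg ℂ X E 2 = 1)
    (hst : ModFun.IsSlopeStable ℂ X E 2)
    (hvs : ∀ α : E ⟶ CohB1.tensorMod E K,
        α ≫ (CohB1.sheafifyMod X).map
          (MonoidalCategoryStruct.whiskerRight (C := CohB1.PMod X) α.val (CohB1.toPMod K)) = 0 → α = 0)
    (L : X.Modules) (hL : PicF.IsInvertible L)
    (hmax : ∃ j : L ⟶ E, Mono j ∧ PicF.IsInvertible (cokernel j) ∧
      ∀ (M : X.Modules) (i : M ⟶ E), PicF.IsInvertible M → Mono i → Curv2.deg ℂ X M 1 ≤ Curv2.deg ℂ X L 1)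
    (s : L ⟶ E) (hs : s ≠ 0) (t : E ⟶ CohB1.tensorMod L K) (ht : t ≠ 0) :
    s ≫ t ≠ 0 := by
  intro h0
  obtain ⟨hX, -, -⟩ := Groth.Agent.VB17.setup (k := ℂ) (X := X) hdim
  haveI := hX.like.noetherian
  obtain ⟨ω, eω⟩ : ∃ ω, ω = Omega.sheaf (X ↘ Spec (CommRingCat.of ℂ)) := ⟨_, rfl⟩
  haveI : Mono s := (Groth.Agent.M1.mono_iff_stalk s).2 (by
    obtain ⟨rK, rI, hK, hI, hsum, -, hI0, hm⟩ := Groth.Agent.VB17.exists_image hX.pid
      ((Groth.Agent.M2.isInvertible_iff_isFinLocFreeOfRank_one L).1 hL) hE s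
    have : rI ≠ 0 := fun h => hs (hI0.1 h)
    haveI := hm.1 (by omega)
    exact (Groth.Agent.M1.mono_iff_stalk s).1 inferInstance)
  haveI := Groth.Agent.CurveCartier25.smoothOfRelativeDimension_one (X ↘ Spec (CommRingCat.of ℂ)) hdim
  have hK : PicF.IsInvertible K :=
    Groth.Agent.Twist.isInvertible_of_iso eK.symm ((Groth.Agent.M2.isInvertible_iff_isFinLocFreeOfRank_one _).2
    (Groth.Agent.Omega12.isFinLocFreeOfRank_receptacle_of_smooth _ (Groth.Agent.Omega12.isUniversal_dOmega (f := X ↘ Spec (CommRingCat.of ℂ))) 1))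
  haveI := Groth.Agent.VB17.mono_tensorMap s hK
  have hz : Groth.Agent.M2.tensorMap s (𝟙 K) ≫
      Groth.Agent.M2.tensorMap (t ≫ Groth.Agent.M2.tensorMap s (𝟙 K)) (𝟙 K) = 0 := by
    rw [← Groth.Agent.M2.tensorMap_comp, ← Category.assoc, h0, zero_comp, Category.comp_id]
    exact (Groth.Agent.M2.tensorR K).map_zero _ _
  have hα := hvs (t ≫ Groth.Agent.M2.tensorMap s (𝟙 K)) (by
    refine (congrArg ((t ≫ Groth.Agent.M2.tensorMap s (𝟙 K)) ≫ ·) (Groth.Agent.VB17.whisker_eq_tensorMap _ K)).trans ?_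
    exact (Category.assoc _ _ _).trans ((congrArg (t ≫ ·) hz).trans comp_zero))
  exact ht ((cancel_mono (Groth.Agent.M2.tensorMap s (𝟙 K))).1 (hα.trans zero_comp.symm))

end Groth.Agent.S15226
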