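import Groth.Statements.S15228
import Groth.Agent.Lib.Secant17.Basic
-- import your own Groth.Agent.* helpers here

set_option autoImplicit false
open CategoryTheory CategoryTheory.Limits AlgebraicGeometry MonoidalCategory
open VBCurve

namespace Groth.Agent.S15228

/-- Let X be a smooth proper integral curve over ℂ of genus g ≥ 3 which is non-hyperelliptic, K a module
isomorphic to its sheaf of differentials, and N an invertible module of degree g with h^0(N) ≤ 1, so
that the complete linear system of K ⊗ N maps X to a projective space of dimension 2g − 2 as a curve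
of degree 3g − 2. An effective divisor D of degree d, recorded through its invertible ideal sheaf I
⊂ O_X (of degree −d), is a d-secant when its linear span has dimension d − 2, i.e. h^0(I ⊗ K ⊗ N) =
h^0(K ⊗ N) − d + 1. Then X has exactly one g-secant: some invertible ideal I ⊂ O_X of degree −g
satisfies h^0(I ⊗ K ⊗ N) + (g − 1) = h^0(K ⊗ N), and any two such ideals are equal as subobjects of
O_X (an isomorphism between them commutes with the inclusions). -/
theorem result
    (X : Scheme.{0}) [X.Over (Spec (CommRingCat.of ℂ))] [IsIntegral X]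
    [IsProper (X ↘ Spec (CommRingCat.of ℂ))] [Smooth (X ↘ Spec (CommRingCat.of ℂ))]
    (hdim : topologicalKrullDim X = 1) (hg : 2 ≤ Curv2.genus ℂ X)
    (hnh : ∀ M : X.Modules, PicF.IsInvertible M → Curv2.deg ℂ X M 1 = 2 →
      Module.finrank ℂ (Coh.HH X M 0) ≤ 1)
    (K : X.Modules) (eK : K ≅ Omega.sheaf (X ↘ Spec (CommRingCat.of ℂ)))
    (g : ℕ) (hg3 : 3 ≤ g) (hgen : Curv2.genus ℂ X = g)
    (N : X.Modules) (hN : PicF.IsInvertible N) (hdN : Curv2.deg ℂ X N 1 = (g : ℤ))
    (h0 : Module.finrank ℂ (Coh.HH X N 0) ≤ 1) :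
    (∃ (I : X.Modules) (ι : I ⟶ Coh.structureModule X),
        PicF.IsInvertible I ∧ Mono ι ∧ Curv2.deg ℂ X I 1 = -((g : ℤ)) ∧
        Module.finrank ℂ (Coh.HH X (CohB1.tensorMod I (CohB1.tensorMod K N)) 0) + (g - 1) =
          Module.finrank ℂ (Coh.HH X (CohB1.tensorMod K N) 0)) ∧
      ∀ (I I' : X.Modules) (ι : I ⟶ Coh.structureModule X) (ι' : I' ⟶ Coh.structureModule X),
        (PicF.IsInvertible I ∧ Mono ι ∧ Curv2.deg ℂ X I 1 = -((g : ℤ)) ∧
        Module.finrank ℂ (Coh.HH X (CohB1.tensorMod I (CohB1.tensorMod K N)) 0) + (g - 1) =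
          Module.finrank ℂ (Coh.HH X (CohB1.tensorMod K N) 0)) →
        (PicF.IsInvertible I' ∧ Mono ι' ∧ Curv2.deg ℂ X I' 1 = -((g : ℤ)) ∧
        Module.finrank ℂ (Coh.HH X (CohB1.tensorMod I' (CohB1.tensorMod K N)) 0) + (g - 1) =
          Module.finrank ℂ (Coh.HH X (CohB1.tensorMod K N) 0)) →
        ∃ φ : I' ≅ I, φ.hom ≫ ι = ι' := by
  obtain ⟨hK, hdK, -⟩ := Groth.Agent.Secant17.omega_data hdim (by omega) eK
  obtain ⟨hX, hO1, hbig⟩ := Groth.Agent.VB17.setup (k := ℂ) (X := X) hdim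
  haveI := hX.like.noetherian
  refine ⟨?_, fun I I' ι ι' ⟨hI, hι, hdI, hsec⟩ ⟨hI', hι', hdI', hsec'⟩ => ?_⟩
  · obtain ⟨I, hI, ⟨e⟩⟩ := Groth.Agent.M2.exists_inverse hN
    have hN1 := (Groth.Agent.M2.isInvertible_iff_isFinLocFreeOfRank_one N).1 hN
    have hrr := hX.like.rr (Groth.Agent.CurveCoh17.isCoh_of_ofRank hN1)
    rw [hO1, hdN] at hrr
    haveI := hX.like.fin _ (Groth.Agent.CurveCoh17.isCoh_of_ofRank hN1) 0
    have hnt : Nontrivial (Coh.HH X N 0) := Module.nontrivial_of_finrank_pos (R := ℂ) (by omega)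
    have hO := PicLoc.isInvertible_structureModule X
    obtain ⟨i, hi⟩ := Groth.Agent.VB17.exists_mono_of_section hN1 hO hO (Groth.Agent.M2.tensorLUnit _)
      (haveI := hnt; (Groth.Agent.CurveCoh17.hequiv ℂ (Groth.Agent.M2.tensorRUnit N) 0).toEquiv.nontrivial)
    haveI := hi
    haveI := Groth.Agent.VB17.mono_tensorMap i hI
    let ι : I ⟶ Coh.structureModule X := (Groth.Agent.M2.tensorLUnit I).inv ≫ Groth.Agent.M2.tensorMap i (𝟙 I) ≫ e.hom
    refine ⟨I, ι, hI, inferInstance, by rw [hX.like.deg_of_tensor_iso hN hI e, hdN], ?_⟩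
    have hKN := Groth.Agent.M2.isInvertible_tensor hK hN
    have hKN1 := (Groth.Agent.M2.isInvertible_iff_isFinLocFreeOfRank_one _).1 hKN
    have hdKN := hX.like.deg_tensor_invertible hK hN
    haveI := hX.like.h1_subsingleton_of_deg (Groth.Agent.CurveCoh17.rkOne_of_invertible hX.like.dim hKN) hO1 (by omega)
    have hrr' := hX.like.rr (Groth.Agent.CurveCoh17.isCoh_of_ofRank hKN1)
    rw [hO1, hdKN, Module.finrank_zero_of_subsingleton (M := Coh.HH X (CohB1.tensorMod K N) 1)] at hrr'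
    obtain ⟨lam, hW⟩ := Groth.Agent.CurveOm17.exists_isDualizing_omega (k := ℂ) hdim
      (Groth.Agent.Omega12.isUniversal_dOmega (f := X ↘ Spec (CommRingCat.of ℂ)))
    have hinv := (hW.invariants hX hO1 hbig).1
    have e2 : CohB1.tensorMod I (CohB1.tensorMod K N) ≅ K :=
      Groth.Agent.M2.tensorComm _ _ ≪≫ Groth.Agent.M2.tensorAssoc K N I ≪≫
        Groth.Agent.M2.tensorIso (Iso.refl K) e ≪≫ Groth.Agent.M2.tensorRUnit K
    rw [(Groth.Agent.CurveCoh17.hequiv ℂ (e2 ≪≫ eK) 0).finrank_eq, hinv]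
    omega
  · haveI := hι
    haveI := hι'
    obtain ⟨e⟩ := Groth.Agent.Secant17.nonempty_iso hdim (by omega) eK hN hI (by omega) (by omega) (by omega)
    obtain ⟨e'⟩ := Groth.Agent.Secant17.nonempty_iso hdim (by omega) eK hN hI' (by omega) (by omega) (by omega)
    exact Groth.Agent.Secant17.exists_iso_of_h0_le_one hdim hN h0 ι ι' e e' 

end Groth.Agent.S15228
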