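import Groth.Statements.S15229
import Mathlib

set_option autoImplicit false
open Finset
open W4c2rk2extmaps

namespace Groth.Agent.S15229
open DirectSum Finset

/-- In a commutative ℚ-algebra R let θ, η be elements and g a natural number, and put c_k = (4θ)^k / k!.
Suppose θ^(g+1) = 0 and that η satisfies the relation η^(g+1) = Σ_{i=1}^{g+1} (-1)^(i-1) c_i
η^(g+1-i). Then η^(g+k) θ^(g-k) = c_k η^g θ^(g-k) for every 1 ≤ k ≤ g. (The published statement
concerns the first Chern class η of the tautological line bundle on a projective bundle P(U) over a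
g-dimensional Jacobian, with c_k the Chern classes of U, which are (4θ)^k / k!; there θ^(g+1)
vanishes for dimension reasons and the displayed relation is the projective-bundle relation, and the
printed argument derives the identity from exactly these three inputs, which is the form stated
here.) -/
theorem result (R : Type*) [CommRing R] [Algebra ℚ R]
    (θ η : R) (g : ℕ) (c : ℕ → R) (hc : ∀ k : ℕ, c k = ((Nat.factorial k : ℚ)⁻¹) • ((4 : R) * θ) ^ k)
    (hθ : θ ^ (g + 1) = 0)
    (hrel : η ^ (g + 1) = ∑ i ∈ Finset.Ico 1 (g + 2), (-1 : R) ^ (i - 1) * c i * η ^ (g + 1 - i))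
    (k : ℕ) (hk1 : 1 ≤ k) (hkg : k ≤ g) :
    η ^ (g + k) * θ ^ (g - k) = c k * η ^ g * θ ^ (g - k) := by
  let q : ℕ → R := fun i => algebraMap ℚ R ((4 : ℚ) ^ i / i.factorial)
  have hcq : ∀ i, c i = q i * θ ^ i := fun i => by
    rw [hc, Algebra.smul_def, mul_pow, ← mul_assoc]
    simp only [q]
    rw [div_eq_inv_mul, map_mul, map_pow, map_ofNat]
  suffices h : ∀ k, k ≤ g → η ^ (g + k) * θ ^ (g - k) = q k * η ^ g * θ ^ g by
    rw [h k hkg, hcq]
    rw [show θ ^ g = θ ^ k * θ ^ (g - k) by rw [← pow_add, Nat.add_sub_cancel' hkg]]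
    ring
  intro k
  induction k using Nat.strong_induction_on with
  | _ k ih =>
    intro hkg
    rcases Nat.eq_zero_or_pos k with rfl | hk
    · simp [q]
    rw [show g + k = (g + 1) + (k - 1) by omega, pow_add, hrel, sum_mul, sum_mul]
    have hterm : ∀ i ∈ Ico 1 (g + 2), (-1 : R) ^ (i - 1) * c i * η ^ (g + 1 - i) * η ^ (k - 1) * θ ^ (g - k) =
        if i ≤ k then (-1 : R) ^ (i - 1) * q i * q (k - i) * (η ^ g * θ ^ g) else 0 := by
      intro i hi
      rw [Finset.mem_Ico] at hi
      split_ifs with hik
      · calc _ = (-1 : R) ^ (i - 1) * q i * (η ^ (g + (k - i)) * θ ^ (g - (k - i))) := by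
              rw [hcq, show g + (k - i) = (g + 1 - i) + (k - 1) by omega, show g - (k - i) = i + (g - k) by omega,
                pow_add, pow_add]
              ring
          _ = _ := by rw [ih (k - i) (by omega) (by omega)]; ring
      · have h0 : θ ^ i * θ ^ (g - k) = 0 := by
          rw [← pow_add]
          exact pow_eq_zero_of_le (by omega) hθ
        rw [hcq]
        linear_combination (-1 : R) ^ (i - 1) * q i * η ^ (g + 1 - i) * η ^ (k - 1) * h0
    rw [sum_congr rfl hterm, ← sum_filter, show (Ico 1 (g + 2)).filter (· ≤ k) = Ico 1 (k + 1) by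
      ext i; simp only [mem_filter, Finset.mem_Ico]; omega, ← sum_mul, mul_assoc (q k)]
    congr 1
    have hq : ∀ i ∈ range (k + 1), (-1 : R) ^ i * q i * q (k - i) =
        algebraMap ℚ R ((-1 : ℚ) ^ i * k.choose i * (4 ^ k / k.factorial)) := by
      intro i hi
      rw [Finset.mem_range] at hi
      have hi' : i ≤ k := by omega
      rw [show (-1 : R) ^ i = algebraMap ℚ R ((-1) ^ i) by simp]
      simp only [q, ← map_mul]
      congr 1
      rw [Nat.cast_choose ℚ hi', show (4 : ℚ) ^ k = 4 ^ i * 4 ^ (k - i) by rw [← pow_add, Nat.add_sub_cancel' hi']]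
      have := k.factorial_ne_zero; have := i.factorial_ne_zero; have := (k - i).factorial_ne_zero
      field_simp
    have h0 : ∑ i ∈ range (k + 1), (-1 : R) ^ i * q i * q (k - i) = 0 := by
      rw [sum_congr rfl hq, ← map_sum, ← sum_mul]
      have : ∑ i ∈ range (k + 1), (-1 : ℚ) ^ i * (k.choose i : ℚ) = 0 := by
        have := congrArg (Int.cast : ℤ → ℚ) (Int.alternating_sum_range_choose_of_ne (n := k) (by omega))
        push_cast at this; exact this
      rw [this, zero_mul, map_zero]
    rw [Finset.sum_range_succ'] at h0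
    rw [Finset.sum_Ico_eq_sum_range, Nat.add_sub_cancel]
    have h1 : ∀ i ∈ range k, (-1 : R) ^ (1 + i - 1) * q (1 + i) * q (k - (1 + i)) =
        -((-1 : R) ^ (i + 1) * q (i + 1) * q (k - (i + 1))) := fun i _ => by
      rw [Nat.add_sub_cancel_left, Nat.add_comm 1 i, pow_succ]; ring
    rw [sum_congr rfl h1, sum_neg_distrib]
    have hq0 : q 0 = 1 := by simp [q]
    rw [pow_zero, one_mul, hq0, one_mul, Nat.sub_zero] at h0
    linear_combination -h0

end Groth.Agent.S15229
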