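import Groth.Statements.S15231
import Groth.Agent.Lib.DBaseChange.Nilp2
import Mathlib.RingTheory.FiniteLength
import Mathlib.RingTheory.Nakayama
import Mathlib.RingTheory.LocalRing.ResidueField.Basic
-- import your own Groth.Agent.* helpers here

set_option autoImplicit false
set_option linter.style.haveILetI false
set_option backward.isDefEq.respectTransparency false
universe u
open CategoryTheory CategoryTheory.Limits
attribute [local instance] HasDerivedCategory.standard
open DRing

namespace Groth.Agent.S15231

/-- Let R be a Noetherian local commutative ring with residue field κ, let P be any object of D(R) and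
a, b integers. Suppose that H^i(P ⊗^L_R κ) = 0 for every i outside [a, b] (over the field κ this
says exactly that P ⊗^L_R κ has tor amplitude in [a, b] as an object of D(κ)). Then for every
R-module N of finite length, H^i(P ⊗^L_R N) = 0 for every i outside [a, b]. The derived base change
to κ and the derived tensor products with R-modules are the total left derived functors on D(R),
assumed to exist for every R-module (as they do). -/
theorem result (R : Type u) [CommRing R] [IsNoetherianRing R]
    [IsLocalRing R] [DRing.HasLBaseChange (IsLocalRing.residue R)] [∀ M : ModuleCat.{u} R, DRing.HasLTensor R M]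
    (P : Dual.D R) (a b : ℤ)
    (h : ∀ i : ℤ, (i < a ∨ b < i) →
      Subsingleton (Dual.HD (IsLocalRing.ResidueField R) ((DRing.LBaseChange (IsLocalRing.residue R)).obj P) i))
    (N : Type u) [AddCommGroup N] [Module R N] (hN : IsFiniteLength R N) (i : ℤ) (hi : i < a ∨ b < i) :
    Subsingleton (Dual.HD R ((DRing.LTensor R (ModuleCat.of R N)).obj P) i) := by
  obtain ⟨Q, hQ, ⟨e⟩⟩ := Groth.Agent.DBaseChange.exists_adapted P
  let φ := IsLocalRing.residue R
  let G := (Groth.Agent.DBaseChange.extCx φ).obj Q
  have hG : Subsingleton (G.homology i) := (Groth.Agent.DMod.subsingleton_HD_toD_iff _ i).1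
    (((Groth.Agent.DMod.HH i).mapIso ((DRing.LBaseChange φ).mapIso e.symm ≪≫
      Groth.Agent.DBaseChange.valueIso φ Q hQ)).toLinearEquiv.toEquiv.subsingleton_congr.1 (h i hi))
  have hfield : ∀ V : ModuleCat.{u} (IsLocalRing.ResidueField R),
      Subsingleton (((Groth.Agent.DBaseChange.tm V).obj G).homology i) := fun V => by
    haveI : Module.Flat (IsLocalRing.ResidueField R) V := inferInstance
    rw [Groth.Agent.DMod.subsingleton_homology_iff _ (i := i - 1) (k := i + 1) (by simp) (by simp)] at hG ⊢
    have hex : Function.Exact (G.d (i - 1) i).hom (G.d i (i + 1)).hom := by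
      intro x
      refine ⟨fun hx => hG x hx, ?_⟩
      rintro ⟨y, rfl⟩
      change G.d i (i + 1) (G.d (i - 1) i y) = 0
      rw [← ModuleCat.comp_apply, G.d_comp_d]
      rfl
    intro x hx
    exact (Module.Flat.rTensor_exact (M := V) hex x).1 hx
  obtain ⟨hNn, hNa⟩ := isFiniteLength_iff_isNoetherian_isArtinian.1 hN
  let m := IsLocalRing.maximalIdeal R
  obtain ⟨n, hn⟩ := IsArtinian.monotone_stabilizes (R := R) (M := N)
    ⟨fun k => (m ^ k • ⊤ : Submodule R N), fun p q hpq => Submodule.smul_mono (Ideal.pow_le_pow_right hpq) le_rfl⟩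
  have h0 : m ^ n • (⊤ : Submodule R N) = ⊥ :=
    Submodule.eq_bot_of_le_smul_of_le_jacobson_bot m _ (IsNoetherian.noetherian _)
      (by
        have := hn (n + 1) (Nat.le_succ n)
        rw [← Submodule.mul_smul, ← pow_succ']
        exact (show (m ^ n • ⊤ : Submodule R N) = m ^ (n + 1) • ⊤ from this).le)
      (IsLocalRing.maximalIdeal_le_jacobson _)
  have key : Subsingleton (((Groth.Agent.DBaseChange.tm (ModuleCat.of R N)).obj Q).homology i) :=
    Groth.Agent.DBaseChange.tm_devissage (fun k => (Groth.Agent.KFlat.Module.isFlat_iff _).1 (hQ.2.2 k)) i m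
      (fun M hM => Groth.Agent.DBaseChange.subsingleton_tm_of_ext φ IsLocalRing.residue_surjective M
        (by rw [IsLocalRing.ker_residue]; exact hM) i hfield) n _ h0
  obtain ⟨t⟩ := Groth.Agent.DBaseChange.nonempty_lTensor_iso (ModuleCat.of R N) Q hQ
  exact ((Groth.Agent.DMod.HH i).mapIso ((DRing.LTensor R (ModuleCat.of R N)).mapIso e.symm ≪≫ t)).toLinearEquiv.toEquiv.subsingleton_congr.2
    ((Groth.Agent.DMod.subsingleton_HD_toD_iff _ i).2 key)

end Groth.Agent.S15231
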