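import Groth.Statements.S15232
import Groth.Agent.Lib.DBaseChange.Fibre
-- import your own Groth.Agent.* helpers here

set_option autoImplicit false
set_option linter.style.haveILetI false
set_option backward.isDefEq.respectTransparency false
universe u
open CategoryTheory CategoryTheory.Limits
attribute [local instance] HasDerivedCategory.standard
open DRing

namespace Groth.Agent.S15232

/-- Let R be a Noetherian commutative ring and I an ideal contained in the Jacobson radical of R, and
assume the derived base change D(R) → D(R/I) exists. Let P be a pseudo-coherent object of D(R) and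
a, b integers. If P ⊗^L_R R/I has tor amplitude in [a, b] as an object of D(R/I), then P has tor
amplitude in [a, b] as an object of D(R). Tor amplitude is taken in the flat-representative form
(isomorphic in the derived category to a complex of flat modules vanishing outside [a, b]). -/
theorem result (R : Type u) [CommRing R] [IsNoetherianRing R]
    (I : Ideal R) (hI : I ≤ Ideal.jacobson (⊥ : Ideal R)) [DRing.HasLBaseChange (Ideal.Quotient.mk I)]
    (P : Dual.D R) (hP : DRing.IsPseudoCoherent' R P) (a b : ℤ)
    (h : DRing.HasTorAmplitudeIn (R ⧸ I) a b ((DRing.LBaseChange (Ideal.Quotient.mk I)).obj P)) :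
    DRing.HasTorAmplitudeIn R a b P := by
  obtain ⟨F, B, hB, hF, ⟨e⟩⟩ := id hP
  haveI := (Groth.Agent.DMod.vanishesAbove_iff F B).1 hB
  have hflat : ∀ i, Module.Flat R (F.X i) := fun i => have := (hF i).2; inferInstance
  let φ := Ideal.Quotient.mk I
  let G := (Groth.Agent.DBaseChange.extCx φ).obj F
  haveI : G.IsStrictlyLE B := (CochainComplex.isStrictlyLE_iff _ _).2 fun j hj =>
    Functor.map_isZero (ModuleCat.extendScalars.{u, u, u} φ) (F.isZero_of_isStrictlyLE B j hj)
  have hG : DRing.HasTorAmplitudeIn (R ⧸ I) a b (DRing.toD G) :=
    Groth.Agent.DBaseChange.hasTorAmplitudeIn_of_iso ((DRing.LBaseChange φ).mapIso e.symm ≪≫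
      Groth.Agent.DBaseChange.valueIso φ F (Groth.Agent.DBaseChange.adapted_of_flat F B hflat)) h
  refine Groth.Agent.DBaseChange.hasTorAmplitudeIn_of_iso e
    (Groth.Agent.DBaseChange.torAmp_of_fibres F B hF a b fun m hm l hl => ?_)
  have hle : I ≤ m := hI.trans (sInf_le ⟨bot_le, hm⟩)
  have := Groth.Agent.DBaseChange.subsingleton_homology_ext (Ideal.Quotient.factor hle) B
    (fun i => have := (Groth.Agent.DBaseChange.termwiseFiniteFree_ext φ hF i).2; inferInstance) hG l hl
  exact ((HomologicalComplex.homologyFunctor _ _ l).mapIso
    (Groth.Agent.DBaseChange.extCompIso φ (Ideal.Quotient.factor hle) F)).toLinearEquiv.toEquiv.subsingleton_congr.2 this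

end Groth.Agent.S15232
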