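import Groth.Statements.S15233
import Mathlib.CategoryTheory.Sites.LeftExact
import Mathlib.Algebra.Category.Grp.Zero
import Mathlib.Algebra.Category.Grp.Colimits
import Mathlib.Algebra.Category.Grp.FilteredColimits
import Mathlib.Algebra.Category.Grp.Limits
import Mathlib.CategoryTheory.Sites.Sheafification

set_option autoImplicit false
universe u
open CategoryTheory CategoryTheory.Limits Opposite
open CohSite

namespace Groth.Agent.S15233
set_option linter.style.haveILetI false
set_option backward.isDefEq.respectTransparency false
set_option backward.isDefEq.respectTransparency.types false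


/-- Let C be a small category with a Grothendieck topology J, and let B be a class of objects forming a
prebasis: for every object V and every covering sieve S of V, the arrows of S whose domain lies in B
generate a covering sieve of V. If F is a presheaf of abelian groups on C such that F(U) = 0 for
every object U in B, then the sheafification of F is zero. -/
theorem result {C : Type u} [SmallCategory C] (J : GrothendieckTopology C)
    (B : ObjectProperty C)
    (hB : ∀ (V : C) (S : Sieve V), S ∈ J V →
      Sieve.generate (fun (U : C) => {g : U ⟶ V | S.arrows g ∧ B U}) ∈ J V)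
    (F : Cᵒᵖ ⥤ AddCommGrpCat.{u}) (hF : ∀ U : C, B U → IsZero (F.obj (op U))) :
    IsZero ((presheafToSheaf J AddCommGrpCat.{u}).obj F) := by
  rw [IsZero.iff_id_eq_zero]
  have key : ∀ (G : Sheaf J AddCommGrpCat.{u}) (φ : F ⟶ G.obj), φ = 0 := by
    intro G φ
    ext V x
    have hsep : Presieve.IsSheaf J (G.obj ⋙ CategoryTheory.forget AddCommGrpCat.{u}) :=
      (isSheaf_iff_isSheaf_of_type _ _).1 ((sheafCompose J (CategoryTheory.forget AddCommGrpCat.{u})).obj G).2
    refine (hsep _ (hB V.unop ⊤ (J.top_mem _))).isSeparatedFor.ext ?_
    rintro W _ ⟨U, k, g, ⟨-, hU⟩, rfl⟩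
    have h0 : F.map g.op x = 0 := by
      haveI := AddCommGrpCat.subsingleton_of_isZero (hF U hU)
      exact Subsingleton.elim _ _
    show G.obj.map (k ≫ g).op (φ.app V x) = G.obj.map (k ≫ g).op 0
    rw [map_zero, op_comp, Functor.map_comp, ConcreteCategory.comp_apply, ← NatTrans.naturality_apply φ g.op x, h0, map_zero, map_zero]
  apply ((sheafificationAdjunction J AddCommGrpCat.{u}).homEquiv _ _).injective
  exact (key _ _).trans (key _ _).symm

end Groth.Agent.S15233
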