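import Groth.Statements.S15234
import Groth.Agent.Lib.SiteCmp16.Devissage

set_option autoImplicit false
universe u
open CategoryTheory CategoryTheory.Limits Opposite
attribute [local instance] HasDerivedCategory.standard
open SiteCmp

namespace Groth.Agent.S15234
open CategoryTheory.Limits in


/-- The bounded case. Let f : (Y, O_Y) → (X, O_X) be a morphism of small ringed sites which is flat in
the sense that the module pullback f^* is exact, and let A_X ⊆ Mod(O_X) and A_Y ⊆ Mod(O_Y) be weak
Serre subcategories. Assume: (i) f^* sends A_X into A_Y and the induced functor A_X → A_Y is an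
equivalence of categories; (ii) for all F, F' in A_X and every integer n, the map Hom_{D(O_X)}(F,
F'[n]) → Hom_{D(O_Y)}(f^*F, f^*F'[n]) induced by f^* is bijective. Then the functor f^* : D(O_X) →
D(O_Y) sends every bounded object all of whose cohomology sheaves lie in A_X to a bounded object
with cohomology sheaves in A_Y, is fully faithful on such objects, and every bounded object of
D(O_Y) with cohomology sheaves in A_Y is isomorphic to the image of such an object: f^* restricts to
an equivalence D^b_{A_X}(O_X) → D^b_{A_Y}(O_Y). (The published statement concludes the same for the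
bounded ABOVE categories D^-, under two further hypotheses — prebases B_X, B_Y with the underlying
functor sending B_X into B_Y, and H^p(V, G) = 0 for p > 0, G in A_Y, V in B_Y; its printed passage
from bounded to bounded above asserts that the unit F → Rf_* f^* F and the counit are isomorphisms
on these subcategories, which does not follow from the hypotheses and fails for the completion
morphism of the lisse-étale site of a proper scheme along a non-nilpotent ideal, where the structure
sheaf is not its own completion; this row states the bounded case, which the printed dévissage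
establishes.) -/
theorem result
    {CX : Type u} [SmallCategory CX] {JX : GrothendieckTopology CX}
    {CY : Type u} [SmallCategory CY] {JY : GrothendieckTopology CY}
    {O_X : Sheaf JX CommRingCat.{u}} {O_Y : Sheaf JY CommRingCat.{u}}
    (f : ModSite.RMor O_Y O_X) [PreservesFiniteLimits f.pull]
    (A_X : ObjectProperty (ModSite.Mod O_X)) (A_Y : ObjectProperty (ModSite.Mod O_Y))
    [WSerre.IsWeakSerre A_X] [WSerre.IsWeakSerre A_Y]
    (h1 : ∀ F : ModSite.Mod O_X, A_X F → A_Y (f.pull.obj F))
    (h1e : (ObjectProperty.lift A_Y (A_X.ι ⋙ f.pull) (fun F => h1 F.obj F.property)).IsEquivalence)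
    (h2 : ∀ (F F' : ModSite.Mod O_X), A_X F → A_X F' → ∀ n : ℤ,
      Function.Bijective (fun φ : (SiteCmp.inD O_X F ⟶ (SiteCmp.inD O_X F')⟦n⟧) => (SiteCmp.pullD f).map φ)) :
    (∀ K : DerivedCategory (ModSite.Mod O_X), WSerre.cohInBdd A_X K →
        WSerre.cohInBdd A_Y ((SiteCmp.pullD f).obj K)) ∧
      (∀ K L : DerivedCategory (ModSite.Mod O_X), WSerre.cohInBdd A_X K → WSerre.cohInBdd A_X L →
        Function.Bijective (fun φ : (K ⟶ L) => (SiteCmp.pullD f).map φ)) ∧
      (∀ M : DerivedCategory (ModSite.Mod O_Y), WSerre.cohInBdd A_Y M →
        ∃ K : DerivedCategory (ModSite.Mod O_X), WSerre.cohInBdd A_X K ∧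
          Nonempty ((SiteCmp.pullD f).obj K ≅ M)) := by
  haveI := h1e
  exact Groth.Agent.WayOut.equivalence_cohInBdd A_X A_Y f.pull h1
    (fun N hN => ⟨_, ((ObjectProperty.lift A_Y (A_X.ι ⋙ f.pull) (fun F => h1 F.obj F.property)).objPreimage ⟨N, hN⟩).property,
      ⟨A_Y.ι.mapIso ((ObjectProperty.lift A_Y (A_X.ι ⋙ f.pull) (fun F => h1 F.obj F.property)).objObjPreimageIso ⟨N, hN⟩)⟩⟩)
    h2

end Groth.Agent.S15234
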