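import Groth.Statements.S15235
import Groth.Agent.Lib.InvSys.Basic

set_option autoImplicit false
universe u
open CategoryTheory Opposite
open HomAlg3

namespace Groth.Agent.S15235


/-- Let (G_j) be an inverse system of abelian groups indexed by the natural numbers, with transition
maps G_{j+1} → G_j, and let j₀ be a natural number such that the transition map G_{j+1} → G_j is
surjective for every j ≥ j₀. Then: (a) the system satisfies the Mittag-Leffler condition; (b) the
evaluation map from the inverse limit (realised as the set of compatible families) to G_{j₀} is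
surjective; (c) if in addition the transition maps G_{j+1} → G_j are injective for every j ≥ j₀,
that evaluation map is bijective. (The published statement indexes the system by the negative
integers and assumes j₀ ≥ 1; this row indexes it by the natural numbers and allows j₀ = 0, which
changes nothing.) -/
theorem result (G : ℕᵒᵖ ⥤ AddCommGrpCat.{u})
    (j₀ : ℕ) (hs : ∀ j : ℕ, j₀ ≤ j → Function.Surjective (G.map (homOfLE (Nat.le_succ j)).op).hom) :
    (G ⋙ forget AddCommGrpCat.{u}).IsMittagLeffler ∧
      Function.Surjective (fun s : (G ⋙ forget AddCommGrpCat.{u}).sections => s.1 (op j₀)) ∧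
      ((∀ j : ℕ, j₀ ≤ j → Function.Injective (G.map (homOfLE (Nat.le_succ j)).op).hom) →
        Function.Bijective (fun s : (G ⋙ forget AddCommGrpCat.{u}).sections => s.1 (op j₀))) := by
  have hs' : ∀ j, j₀ ≤ j → Function.Surjective ((G ⋙ forget AddCommGrpCat.{u}).map (homOfLE (Nat.le_succ j)).op) := hs
  have hsurj : ∀ {a b : ℕ} (h : a ≤ b), j₀ ≤ a →
      Function.Surjective ((G ⋙ forget AddCommGrpCat.{u}).map (homOfLE h).op) :=
    fun h ha => InvSys.surjective_of_le _ hs' h ha
  have hML : (G ⋙ forget AddCommGrpCat.{u}).IsMittagLeffler := by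
    rintro ⟨j⟩
    refine ⟨op (max j j₀), (homOfLE (le_max_left _ _)).op, ?_⟩
    rintro ⟨k⟩ g _ ⟨y, rfl⟩
    rw [show g = (homOfLE g.unop.le).op from rfl]
    obtain ⟨w, rfl⟩ := hsurj (le_max_left (max j j₀) k) (le_max_right _ _) y
    refine ⟨(G ⋙ forget AddCommGrpCat.{u}).map (homOfLE (le_max_right (max j j₀) k)).op w, ?_⟩
    rw [InvSys.map_map_apply, InvSys.map_map_apply]
  have h2 : Function.Surjective (fun s : (G ⋙ forget AddCommGrpCat.{u}).sections => s.1 (op j₀)) := by
    intro x
    refine InvSys.exists_section_of_mem_eventualRange _ InvSys.hcof_nat hML j₀ x ?_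
    rw [Functor.mem_eventualRange_iff]
    rintro ⟨k⟩ g
    rw [show g = (homOfLE g.unop.le).op from rfl]
    exact hsurj _ le_rfl x
  refine ⟨hML, h2, fun hinj => ⟨?_, h2⟩⟩
  intro s t hst
  have hinj' : ∀ b, ∀ (h : j₀ ≤ b), Function.Injective ((G ⋙ forget AddCommGrpCat.{u}).map (homOfLE h).op) := by
    intro b h
    induction b, h using Nat.le_induction with
    | base => intro a b hab; simpa using hab
    | succ n hn ih =>
      intro a b hab
      apply hinj n hn
      apply ih
      exact ((InvSys.map_map_apply _ _ _ a).trans hab).trans (InvSys.map_map_apply _ _ _ b).symm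
  refine Subtype.ext (funext fun k => ?_)
  have e : s.1 (op (max j₀ k.unop)) = t.1 (op (max j₀ k.unop)) :=
    hinj' _ (le_max_left _ _) ((s.2 _).trans (hst.trans (t.2 _).symm))
  rw [← s.2 (homOfLE (le_max_right j₀ k.unop)).op, ← t.2 (homOfLE (le_max_right j₀ k.unop)).op, e]


end Groth.Agent.S15235
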