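import Groth.Statements.S15236
import Groth.Agent.Lib.VeryGen4.Basic
import Mathlib
-- import your own Groth.Agent.* helpers here

set_option autoImplicit false
open CategoryTheory CategoryTheory.Limits AlgebraicGeometry
universe u
open Variety

open CategoryTheory CategoryTheory.Limits AlgebraicGeometry TopologicalSpace
open scoped Cardinal

namespace Groth.Agent.S15236

/-- Let k be an uncountable algebraically closed field of characteristic zero, T an integral k-scheme of
finite type and f : X → T a flat morphism of finite type. Then there are countably many closed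
subsets Z₀, Z₁, … of T, none of them equal to T, such that for every closed point t of T lying in no
Zₙ the fibre X_t = X ×_T Spec κ(t) is isomorphic, as a scheme, to the geometric generic fibre X ×_T
Spec L, where L is an algebraic closure of the residue field of T at its generic point (existence of
an isomorphism of schemes only; that such an isomorphism preserves rational equivalence of algebraic
cycles, as the published statement adds, is automatic and is not restated). (The published statement
fixes the countable family of closed subsets before the family X → T and allows any flat T-scheme X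
over any integral k-scheme T. Both fail: for T the affine line and X the spectrum of its function
field every closed fibre is empty while the geometric generic fibre is a point, and for any fixed
countable family of proper closed subsets of the affine line, X the complement of a closed point
outside all of them has an empty fibre there. This row takes T and f of finite type and lets the
closed subsets depend on f.) -/
theorem result (k : Type u) [Field k] [IsAlgClosed k]
    [CharZero k] [Uncountable k] (T X : Scheme.{u}) (sT : T ⟶ Spec (CommRingCat.of k)) [IsIntegral T]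
    [LocallyOfFiniteType sT] [QuasiCompact sT] (f : X ⟶ T) [Flat f] [LocallyOfFiniteType f]
    [QuasiCompact f] :
    ∃ Z : ℕ → TopologicalSpace.Closeds T, (∀ n, (Z n : Set T) ≠ Set.univ) ∧
      ∀ t : T, IsClosed ({t} : Set T) → (∀ n, t ∉ Z n) →
        Nonempty (f.fiber t ≅ pullback f (Spec.map (CommRingCat.ofHom (algebraMap
          (T.residueField (genericPoint T)) (AlgebraicClosure (T.residueField (genericPoint T))))) ≫
            T.fromSpecResidueField (genericPoint T))) := by
  classical
  -- finiteness properties
  haveI : IsLocallyNoetherian T := LocallyOfFiniteType.isLocallyNoetherian sT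
  haveI : CompactSpace T := QuasiCompact.compactSpace_of_compactSpace sT
  haveI : IsLocallyNoetherian X := LocallyOfFiniteType.isLocallyNoetherian f
  haveI : LocallyOfFinitePresentation f := VarDim.locallyOfFinitePresentation_of_locallyNoetherian f
  -- a model over a scheme of finite type over `ℤ`
  let R : CommRingCat.{u} := CommRingCat.of (ULift.{u} ℤ)
  haveI : IsNoetherianRing R := isNoetherianRing_of_ringEquiv ℤ ULift.ringEquiv.symm
  haveI : Countable R := inferInstanceAs (Countable (ULift.{u} ℤ))
  obtain ⟨I, _, _, _, D, c, hc, hD, haff, ⟨e₀⟩⟩ :=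
    S7383.result (specULiftZIsTerminal.from T : T ⟶ Spec R)
  haveI : IsConnected (Iᵒᵖ) := IsCofiltered.isConnected _
  let D₁ := D ⋙ Over.forget _
  let c₁ := (Over.forget _).mapCone c
  have hc₁ : IsLimit c₁ := isLimitOfPreserves (Over.forget _) hc
  haveI : ∀ {i j : Iᵒᵖ} (a : i ⟶ j), IsAffineHom (D₁.map a) := fun a => haff _ _ a
  haveI : ∀ i, CompactSpace (D₁.obj i) := fun i => by
    let p : D₁.obj i ⟶ Spec R := (D.obj i).hom
    haveI : QuasiCompact p := (hD i).2.1
    exact QuasiCompact.compactSpace_of_compactSpace p
  haveI : ∀ i, QuasiSeparatedSpace (D₁.obj i) := fun i => by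
    let p : D₁.obj i ⟶ Spec R := (D.obj i).hom
    haveI : QuasiSeparated p := (hD i).2.2
    exact quasiSeparatedSpace_of_quasiSeparated p
  let e : c₁.pt ≅ T := (Over.forget _).mapIso e₀
  obtain ⟨i, Xi, fi, g, -, -, -, hg⟩ := S0591.result D₁ c₁ hc₁ X (f ≫ e.inv)
  let S₀ := D₁.obj i
  let π : T ⟶ S₀ := e.inv ≫ c₁.π.app i
  have hsq : IsPullback g f fi π := hg.of_iso (Iso.refl _) (Iso.refl _) e (Iso.refl _)
    ((Category.comp_id _).trans (Category.id_comp _).symm)
    (by show (f ≫ e.inv) ≫ e.hom = 𝟙 _ ≫ f
        erw [Category.assoc, Iso.inv_hom_id, Category.comp_id])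
    ((Category.comp_id _).trans (Category.id_comp _).symm)
    (by show c₁.π.app i ≫ 𝟙 _ = e.hom ≫ e.inv ≫ c₁.π.app i
        erw [Category.comp_id, Iso.hom_inv_id_assoc])
  let p : S₀ ⟶ Spec R := (D.obj i).hom
  haveI : LocallyOfFinitePresentation p := (hD i).1
  obtain ⟨hcnt, hres⟩ := VeryGen4.countable_of_finiteType p
  let η := genericPoint T
  -- the exceptional sets
  let B : S₀ → Closeds T := fun s => if π η ∈ closure {s} then ⊥ else
    ⟨π ⁻¹' closure {s}, isClosed_closure.preimage π.continuous⟩
  haveI : Nonempty S₀ := ⟨π η⟩
  obtain ⟨φ, hφ⟩ := exists_surjective_nat S₀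
  refine ⟨fun n => B (φ n), fun n hn => ?_, fun t ht hav => ?_⟩
  · have hη : η ∈ (B (φ n) : Set T) := hn ▸ Set.mem_univ η
    by_cases h : π η ∈ closure {φ n}
    · simp [B, h] at hη
    · simp [B, h] at hη
  -- the image of `t` is the image of the generic point
  have hst : π t = π η := by
    refine (Specializes.antisymm ?_ ((genericPoint_specializes t).map π.continuous)).eq
    · obtain ⟨n, hn⟩ := hφ (π t)
      have := hav n
      simp only [hn] at this
      by_contra h
      have h' : π η ∉ closure {π t} := fun hh => h (specializes_iff_mem_closure.mpr hh)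
      simp [B, h'] at this
      exact this (subset_closure rfl)
  -- the fields
  let E := AlgebraicClosure (T.residueField η)
  let ek : T.residueField t ≅ CommRingCat.of k := residueFieldIsoBase sT t ht
  let ek' := ek.commRingCatIsoToRingEquiv
  haveI : IsAlgClosed (T.residueField t) := IsAlgClosed.of_ringEquiv _ _ ek'.symm
  have hcard : #(T.residueField t) = #k := Cardinal.mk_congr ek'.toEquiv
  have hk : ℵ₀ < #k := Cardinal.aleph0_lt_mk_iff.mpr inferInstance
  haveI : Infinite k := Cardinal.infinite_iff.mpr hk.le
  let ι : k →+* E := (algebraMap (T.residueField η) E).comp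
    (((T.residue η).hom.comp (T.presheaf.germ ⊤ η trivial).hom).comp
      ((Scheme.ΓSpecIso (CommRingCat.of k)).inv ≫ sT.appTop).hom)
  have hE : #E = #k := by
    refine le_antisymm ?_ (Cardinal.mk_le_of_injective ι.injective)
    refine (Algebra.IsAlgebraic.cardinalMk_le_max (T.residueField η) E).trans ?_
    exact max_le (VeryGen4.mk_residueField_le sT η) hk.le
  let m₁ : Spec (T.residueField t) ⟶ S₀ := T.fromSpecResidueField t ≫ π
  let m₂ : Spec (CommRingCat.of E) ⟶ S₀ :=
    (Spec.map (CommRingCat.ofHom (algebraMap (T.residueField η) E)) ≫ T.fromSpecResidueField η) ≫ π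
  let a₁ := π.residueFieldMap t
  let a₂ := (S₀.residueFieldCongr hst).hom ≫ π.residueFieldMap η ≫
    CommRingCat.ofHom (algebraMap (T.residueField η) E)
  have hm₁ : m₁ = Spec.map a₁ ≫ S₀.fromSpecResidueField (π t) :=
    (Scheme.Hom.SpecMap_residueFieldMap_fromSpecResidueField π t).symm
  have hm₂ : m₂ = Spec.map a₂ ≫ S₀.fromSpecResidueField (π t) :=
    VeryGen4.fromSpec_comp π hst (CommRingCat.ofHom (algebraMap (T.residueField η) E))
  haveI := hres (π t)
  obtain ⟨σ, hσ⟩ := VeryGen4.exists_ringEquiv a₁.hom a₂.hom (hcard ▸ hk) (hcard.trans hE.symm)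
  let σ' : T.residueField t ≅ CommRingCat.of E := σ.toCommRingCatIso
  have hσ' : a₁ ≫ σ'.hom = a₂ := CommRingCat.hom_ext (RingHom.ext hσ)
  have hm : Spec.map σ'.hom ≫ m₁ = m₂ := by
    rw [hm₁, hm₂, ← hσ', Spec.map_comp, Category.assoc]
  let i₁ := ((IsPullback.of_hasPullback f (T.fromSpecResidueField t)).flip.paste_vert hsq.flip).flip.isoPullback
  let i₂ := ((IsPullback.of_hasPullback f (Spec.map (CommRingCat.ofHom (algebraMap (T.residueField η) E)) ≫
    T.fromSpecResidueField η)).flip.paste_vert hsq.flip).flip.isoPullback
  let i₃ : pullback fi m₂ ≅ pullback fi m₁ :=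
    asIso (pullback.map fi m₂ fi m₁ (𝟙 _) (Spec.map σ'.hom) (𝟙 _) (by simp) (by simp [hm]))
  exact ⟨i₁ ≪≫ i₃.symm ≪≫ i₂.symm⟩

end Groth.Agent.S15236
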