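import Groth.Statements.S15240
import Groth.Agent.Lib.AbRigid.Connected
import Mathlib.AlgebraicGeometry.AlgClosed.Basic
-- import your own Groth.Agent.* helpers here

set_option autoImplicit false
universe u
open CategoryTheory CategoryTheory.Limits MonoidalCategory CartesianMonoidalCategory MonObj GrpObj AlgebraicGeometry
open AGF

namespace Groth.Agent.S15240

/-- Let k be an algebraically closed field, B a connected solvable affine algebraic group over k
(affine, smooth, connected, solvable k-group scheme) acting on a complete k-scheme X (separated, of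
finite type and proper over k) with finitely many orbits (finitely many subsets of X arise as images
of orbit maps of k-points), and Y a separated k-scheme of finite type on which B acts trivially.
Then every closed irreducible subset Z of X ×_k Y which is stable under the translations by all
k-points of B (acting on the first factor) is of the form V × W: there are a B-stable closed
irreducible subset V of X and a closed irreducible subset W of Y with Z equal to the set of points
whose two projections lie in V and in W. -/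
theorem result (k : Type u) [Field k] [IsAlgClosed k]
    (B X Y : Over (Spec (CommRingCat.of k))) [GrpObj B] [IsAffine B.left] [Smooth B.hom] [ConnectedSpace ↥B.left]
    (hsolv : Red.IsSolvableGrp B)
    [IsProper X.hom]
    [IsSeparated Y.hom] [LocallyOfFiniteType Y.hom] [QuasiCompact Y.hom]
    (a : AlgGrp.Action B X)
    (hfin : Set.Finite {S : Set ↥X.left | ∃ x : 𝟙_ (Over (Spec (CommRingCat.of k))) ⟶ X, S = Set.range ⇑(a.orbitMap x).left.base})
    (Z : Set ↥(X ⊗ Y).left) (hZc : IsClosed Z) (hZi : IsIrreducible Z)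
    (hZs : ∀ b : 𝟙_ (Over (Spec (CommRingCat.of k))) ⟶ B,
      ⇑(CartesianMonoidalCategory.lift (CartesianMonoidalCategory.toUnit (X ⊗ Y) ≫ b) (𝟙 (X ⊗ Y)) ≫
          (α_ B X Y).inv ≫ (a.act ▷ Y)).left.base '' Z ⊆ Z) :
    ∃ (V : Set ↥X.left) (W : Set ↥Y.left), IsClosed V ∧ IsIrreducible V ∧ IsClosed W ∧ IsIrreducible W ∧
      (∀ b : 𝟙_ (Over (Spec (CommRingCat.of k))) ⟶ B,
        ⇑(CartesianMonoidalCategory.lift (CartesianMonoidalCategory.toUnit X ≫ b) (𝟙 X) ≫ a.act).left.base '' V ⊆ V) ∧
      Z = ⇑(CartesianMonoidalCategory.fst X Y).left.base ⁻¹' V ∩ ⇑(CartesianMonoidalCategory.snd X Y).left.base ⁻¹' W := by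
  classical
  haveI : LocallyOfFiniteType (X ⊗ Y).hom :=
    inferInstanceAs (LocallyOfFiniteType (Limits.pullback.fst X.hom Y.hom ≫ X.hom))
  have hpt : ∀ (T : Over (Spec (CommRingCat.of k))) [LocallyOfFiniteType T.hom] (P Q : Set T.left), IsLocallyClosed P →
      IsClosed Q → (∀ z : 𝟙_ (Over (Spec (CommRingCat.of k))) ⟶ T,
        z.left.base (IsLocalRing.closedPoint k) ∈ P → z.left.base (IsLocalRing.closedPoint k) ∈ Q) → P ⊆ Q := by
    intro T _ P Q hP hQ h w hw
    by_contra hwQ
    haveI : JacobsonSpace T.left := LocallyOfFiniteType.jacobsonSpace T.hom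
    obtain ⟨v, ⟨hvP, hvQ⟩, hvc⟩ := nonempty_inter_closedPoints (⟨w, hw, hwQ⟩ : (P ∩ Qᶜ).Nonempty)
      (hP.inter hQ.isOpen_compl.isLocallyClosed)
    let z : 𝟙_ (Over (Spec (CommRingCat.of k))) ⟶ T :=
      Over.homMk (pointOfClosedPoint T.hom v hvc) (pointOfClosedPoint_comp T.hom v hvc)
    have hz : z.left.base (IsLocalRing.closedPoint k) = v := pointOfClosedPoint_apply T.hom v hvc _
    exact hvQ (hz ▸ h z (hz.symm ▸ hvP))
  have hclpt : ∀ (T : Over (Spec (CommRingCat.of k))) (z : 𝟙_ (Over (Spec (CommRingCat.of k))) ⟶ T)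
      [LocallyOfFiniteType T.hom], IsClosed ({z.left.base (IsLocalRing.closedPoint k)} : Set T.left) := by
    intro T z _
    haveI := isClosedImmersion_of_comp_eq_id (Y := Spec (CommRingCat.of k)) T.hom z.left (Over.w z)
    have h := z.left.isClosedEmbedding.isClosed_range
    haveI : Subsingleton (Spec (CommRingCat.of k)) := inferInstanceAs (Subsingleton (PrimeSpectrum k))
    have e : Set.range z.left.base = {z.left.base (IsLocalRing.closedPoint k)} := by
      ext t
      constructor
      · rintro ⟨w, rfl⟩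
        exact congrArg z.left.base (Subsingleton.elim (α := Spec (CommRingCat.of k)) w _)
      · rintro rfl
        exact ⟨_, rfl⟩
    exact e ▸ h
  haveI : IrreducibleSpace B.left := Groth.Agent.AbRigid.irreducibleSpace_of_isAlgClosed B
  have hmul : ∀ {T : Over (Spec (CommRingCat.of k))} (g g' : T ⟶ B) (y : T ⟶ X),
      lift (g * g') y ≫ a.act = lift g (lift g' y ≫ a.act) ≫ a.act := by
    intro T g g' y
    rw [Hom.mul_def, show lift (lift g g' ≫ μ[B]) y = lift (lift g g') y ≫ (μ[B] ▷ X) by simp, Category.assoc,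
      a.mul_act]
    simp [lift_lift_associator_hom_assoc, lift_whiskerLeft_assoc]
  have hone : ∀ {T : Over (Spec (CommRingCat.of k))} (y : T ⟶ X), lift (1 : T ⟶ B) y ≫ a.act = y := by
    intro T y
    rw [Hom.one_def, show lift (toUnit T ≫ η[B]) y = lift (toUnit T) y ≫ (η[B] ▷ X) by simp, Category.assoc, a.one_act]
    simp
  have horb : ∀ {T : Over (Spec (CommRingCat.of k))} (g : T ⟶ B) (x : 𝟙_ (Over (Spec (CommRingCat.of k))) ⟶ X),
      g ≫ a.orbitMap x = lift g (toUnit T ≫ x) ≫ a.act := by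
    intro T g x
    rw [AlgGrp.Action.orbitMap, ← Category.assoc, comp_lift, Category.comp_id, ← Category.assoc,
      toUnit_unique (g ≫ toUnit B) (toUnit T)]
  have happ : ∀ {U V : Over (Spec (CommRingCat.of k))} (f : 𝟙_ (Over (Spec (CommRingCat.of k))) ⟶ U) (g : U ⟶ V),
      g.left.base (f.left.base (IsLocalRing.closedPoint k)) = (f ≫ g).left.base (IsLocalRing.closedPoint k) :=
    fun _ _ => rfl
  -- the translation of X ⊗ Y by a rational point, on points
  have htrans : ∀ (b : 𝟙_ (Over (Spec (CommRingCat.of k))) ⟶ B) (z : 𝟙_ (Over (Spec (CommRingCat.of k))) ⟶ X ⊗ Y),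
      z ≫ lift (toUnit (X ⊗ Y) ≫ b) (𝟙 (X ⊗ Y)) ≫ (α_ B X Y).inv ≫ (a.act ▷ Y) =
        lift (lift b (z ≫ fst X Y) ≫ a.act) (z ≫ snd X Y) := by
    intro b z
    rw [← Category.assoc, comp_lift, ← Category.assoc z, toUnit_unique (z ≫ toUnit _) (𝟙 _), Category.id_comp,
      Category.comp_id]
    refine CartesianMonoidalCategory.hom_ext _ _ ?_ ?_
    · simp only [Category.assoc, whiskerRight_fst, lift_fst]
      rw [← Category.assoc (α_ B X Y).inv, ← Category.assoc]
      refine congrArg (· ≫ a.act) ?_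
      refine CartesianMonoidalCategory.hom_ext _ _ ?_ ?_ <;> simp
    · simp
  have hstab : ∀ (b : 𝟙_ (Over (Spec (CommRingCat.of k))) ⟶ B) (p : 𝟙_ (Over (Spec (CommRingCat.of k))) ⟶ X)
      (q : 𝟙_ (Over (Spec (CommRingCat.of k))) ⟶ Y), (lift p q).left.base (IsLocalRing.closedPoint k) ∈ Z →
      (lift (lift b p ≫ a.act) q).left.base (IsLocalRing.closedPoint k) ∈ Z := by
    intro b p q hpq
    have h := htrans b (lift p q)
    rw [lift_fst, lift_snd] at h
    rw [← h, Over.comp_left]
    exact hZs b ⟨_, hpq, rfl⟩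
  let Orb := {S : Set X.left | ∃ x : 𝟙_ (Over (Spec (CommRingCat.of k))) ⟶ X, S = Set.range ⇑(a.orbitMap x).left.base}
  choose xS hxS using fun S : Orb => S.2
  let W : Orb → Set Y.left := fun S => ⇑(lift (toUnit Y ≫ xS S) (𝟙 Y)).left.base ⁻¹' Z
  let T : Orb → Set (X ⊗ Y).left := fun S =>
    ⇑(fst X Y).left.base ⁻¹' closure S.1 ∩ ⇑(snd X Y).left.base ⁻¹' W S
  have hWc : ∀ S, IsClosed (W S) := fun S => hZc.preimage (lift (toUnit Y ≫ xS S) (𝟙 Y)).left.continuous
  have hTc : ∀ S, IsClosed (T S) := fun S =>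
    (isClosed_closure.preimage (fst X Y).left.continuous).inter ((hWc S).preimage (snd X Y).left.continuous)
  have hmemW : ∀ S (q : 𝟙_ (Over (Spec (CommRingCat.of k))) ⟶ Y), q.left.base (IsLocalRing.closedPoint k) ∈ W S ↔
      (lift (xS S) q).left.base (IsLocalRing.closedPoint k) ∈ Z := by
    intro S q
    show (lift (toUnit Y ≫ xS S) (𝟙 Y)).left.base (q.left.base _) ∈ Z ↔ _
    rw [happ, comp_lift, ← Category.assoc, toUnit_unique (q ≫ toUnit Y) (𝟙 _),
      Category.id_comp, Category.comp_id]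
  have hTZ : ∀ S, T S ⊆ Z := fun S => hpt (X ⊗ Y) _ _ (hTc S).isLocallyClosed hZc fun z hz => by
    obtain ⟨hz1, hz2⟩ := hz
    rw [Set.mem_preimage, happ] at hz1 hz2
    rw [hmemW] at hz2
    have hS : S.1 ⊆ ⇑(lift (𝟙 X) (toUnit X ≫ z ≫ snd X Y)).left.base ⁻¹' Z := by
      rw [hxS S]
      rintro _ ⟨w, rfl⟩
      have hall : Set.univ ⊆ ⇑(a.orbitMap (xS S) ≫ lift (𝟙 X) (toUnit X ≫ z ≫ snd X Y)).left.base ⁻¹' Z :=
        hpt B _ _ isClosed_univ.isLocallyClosed
          (hZc.preimage (a.orbitMap (xS S) ≫ lift (𝟙 X) (toUnit X ≫ z ≫ snd X Y)).left.continuous) fun b _ => by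
          rw [Set.mem_preimage, happ, ← Category.assoc, comp_lift,
            Category.comp_id, ← Category.assoc _ (toUnit X), toUnit_unique (_ ≫ toUnit X) (𝟙 _), Category.id_comp,
            horb, toUnit_unit, Category.id_comp]
          exact hstab b _ _ hz2
      have := hall (Set.mem_univ w)
      rwa [Set.mem_preimage, Over.comp_left, Scheme.Hom.comp_apply] at this
    have := closure_minimal hS (hZc.preimage (lift (𝟙 X) (toUnit X ≫ z ≫ snd X Y)).left.continuous) hz1
    rw [Set.mem_preimage, happ, comp_lift, Category.comp_id,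
      ← Category.assoc _ (toUnit X), toUnit_unique (_ ≫ toUnit X) (𝟙 _), Category.id_comp] at this
    rwa [show lift (z ≫ fst X Y) (z ≫ snd X Y) = z from CartesianMonoidalCategory.hom_ext _ _ (by simp) (by simp)] at this
  haveI : Finite Orb := hfin.to_subtype
  have hcov : Z ⊆ ⋃ S, T S := hpt (X ⊗ Y) _ _ hZc.isLocallyClosed (isClosed_iUnion_of_finite hTc) fun z hz => by
    let p := z ≫ fst X Y
    let S : Orb := ⟨Set.range ⇑(a.orbitMap p).left.base, p, rfl⟩
    refine Set.mem_iUnion.2 ⟨S, ?_⟩
    have hp : p.left.base (IsLocalRing.closedPoint k) ∈ S.1 := by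
      refine ⟨((1 : 𝟙_ (Over (Spec (CommRingCat.of k))) ⟶ B)).left.base (IsLocalRing.closedPoint k), ?_⟩
      rw [happ, horb, toUnit_unit, Category.id_comp, hone]
    refine ⟨?_, ?_⟩
    · rw [Set.mem_preimage, happ]
      exact subset_closure hp
    · rw [Set.mem_preimage, happ, hmemW]
      rw [hxS S] at hp
      obtain ⟨w, hw⟩ := hp
      haveI : JacobsonSpace B.left := LocallyOfFiniteType.jacobsonSpace B.hom
      obtain ⟨v, hv, hvc⟩ := nonempty_inter_closedPoints
        (⟨w, hw⟩ : (⇑(a.orbitMap (xS S)).left.base ⁻¹' {p.left.base (IsLocalRing.closedPoint k)}).Nonempty)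
        ((hclpt X p).preimage (a.orbitMap (xS S)).left.continuous).isLocallyClosed
      let b : 𝟙_ (Over (Spec (CommRingCat.of k))) ⟶ B :=
        Over.homMk (pointOfClosedPoint B.hom v hvc) (pointOfClosedPoint_comp B.hom v hvc)
      have hb : lift b (xS S) ≫ a.act = p := by
        refine Over.OverMorphism.ext (ext_of_apply_closedPoint_eq X.hom (Over.w _) (Over.w _) ?_)
        rw [show lift b (xS S) = lift b (toUnit _ ≫ xS S) by rw [toUnit_unit, Category.id_comp], ← horb]
        exact (congrArg (a.orbitMap (xS S)).left.base (pointOfClosedPoint_apply B.hom v hvc _)).trans hv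
      have h2 := hstab b⁻¹ p (z ≫ snd X Y) (by
        rwa [show lift p (z ≫ snd X Y) = z from CartesianMonoidalCategory.hom_ext _ _ (by simp [p]) (by simp)])
      rwa [← hb, ← hmul, inv_mul_cancel, hone] at h2
  obtain ⟨S, hS⟩ : ∃ S, Z ⊆ T S := by
    haveI := Fintype.ofFinite Orb
    obtain ⟨t, ht, hzt⟩ := isIrreducible_iff_sUnion_isClosed.1 hZi (Finset.univ.image T)
      (fun t ht => by
        obtain ⟨S, -, rfl⟩ := Finset.mem_image.1 ht
        exact hTc S)
      (by simpa using hcov)
    obtain ⟨S, -, rfl⟩ := Finset.mem_image.1 ht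
    exact ⟨S, hzt⟩
  have hZT : Z = T S := Set.Subset.antisymm hS (hTZ S)
  have hWimg : W S = ⇑(snd X Y).left.base '' Z := by
    refine Set.Subset.antisymm (fun y hy => ⟨(lift (toUnit Y ≫ xS S) (𝟙 Y)).left.base y, hy, ?_⟩) ?_
    · show ((lift (toUnit Y ≫ xS S) (𝟙 Y)) ≫ snd X Y).left.base y = y
      rw [lift_snd]
      rfl
    · rintro _ ⟨w, hw, rfl⟩
      exact (hS hw).2
  refine ⟨closure S.1, W S, isClosed_closure, ?_, hWc S, ?_, fun b => ?_, hZT⟩
  · rw [hxS S]
    refine IsIrreducible.closure ?_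
    rw [← Set.image_univ]
    exact (IrreducibleSpace.isIrreducible_univ B.left).image _ (a.orbitMap (xS S)).left.continuous.continuousOn
  · rw [hWimg]
    exact hZi.image _ (snd X Y).left.continuous.continuousOn
  · rw [hxS S]
    refine (image_closure_subset_closure_image (Scheme.Hom.continuous _)).trans (closure_mono ?_)
    rintro _ ⟨_, ⟨w, rfl⟩, rfl⟩
    refine ⟨((toUnit B ≫ b) * 𝟙 B : B ⟶ B).left.base w, ?_⟩
    rw [← Scheme.Hom.comp_apply, ← Scheme.Hom.comp_apply, ← Over.comp_left, ← Over.comp_left]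
    refine congrArg (fun e : B ⟶ X => e.left.base w) ?_
    rw [horb, hmul, ← Category.assoc (a.orbitMap (xS S)), comp_lift, Category.comp_id,
      ← Category.assoc (a.orbitMap (xS S)), toUnit_unique (a.orbitMap (xS S) ≫ toUnit X) (toUnit B),
      AlgGrp.Action.orbitMap]

end Groth.Agent.S15240
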