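import Groth.Statements.S15244
import Groth.Agent.Lib.RedCell16.BruhatMeet

set_option linter.style.haveILetI false
set_option backward.isDefEq.respectTransparency false
set_option backward.isDefEq.respectTransparency.types false
-- import your own Groth.Agent.* helpers here

set_option autoImplicit false
universe u
open CategoryTheory CategoryTheory.Limits MonoidalCategory CartesianMonoidalCategory MonObj GrpObj AlgebraicGeometry
open RedSub

namespace Groth.Agent.S15244

/-- Let k be an algebraically closed field of characteristic zero and G a semisimple simply connected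
group over k, split by D (maximal torus T with character group M, root datum with roots indexed by
idx, root homomorphisms u_a), with the coroots spanning the dual lattice of M (simple
connectedness); let b be a system of simple roots, e⁺ an enumeration of the positive roots, so that
the image of (t, x) ↦ t · ∏ u_{e⁺ i}(x_i) is the Borel subgroup B, and n a family of k-points
realising the reflections. For a word l in idx write n_l for the product of the n's along l, w_l for
the corresponding Weyl group element acting on idx, and C(l) ⊆ G for the double coset B n_l B (the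
image of (b₁, b₂) ↦ b₁ n_l b₂). For w acting on idx let ℓ(w) be the number of positive roots a with
w a negative. Then for words l, l': C(l') is contained in the closure of C(l) in G — equivalently
the Schubert cell of w_{l'} lies in the closure of that of w_l in G/B — if and only if w_{l'} ≤ w_l
for the order generated (reflexively and transitively) by the steps w ↦ σ_γ w with γ a positive root
and ℓ(σ_γ w) = ℓ(w) + 1. (Here ℓ is taken as the number of inverted positive roots, which is the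
length.) -/
theorem result (k : Type u) [Field k] [IsAlgClosed k] [CharZero k]
    (G : Over (Spec (CommRingCat.of k))) [GrpObj G] (hG : Red.IsSemisimpleOver k G) (D : Red.SplitRed G)
    (hsc : Submodule.span ℤ (Set.range ⇑D.P.coroot) = ⊤)
    (b : D.P.Base) {m : ℕ} (epos : Fin m → D.idx) (hpos : RedSub.Enumerates (RedSub.posRoots D.P b) epos)
    (nr : D.idx → (𝟙_ (Over (Spec (CommRingCat.of k))) ⟶ G)) (hnr : RedSub.RealisesReflections D nr) (l l' : List D.idx) :
    Set.range ⇑((CartesianMonoidalCategory.fst (D.T ⊗ RedSub.pow (Red.Ga (Spec (CommRingCat.of k))) m) (D.T ⊗ RedSub.pow (Red.Ga (Spec (CommRingCat.of k))) m) ≫ RedSub.borelMap D epos) *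
          (CartesianMonoidalCategory.toUnit ((D.T ⊗ RedSub.pow (Red.Ga (Spec (CommRingCat.of k))) m) ⊗ (D.T ⊗ RedSub.pow (Red.Ga (Spec (CommRingCat.of k))) m)) ≫ (l'.map nr).prod) *
          (CartesianMonoidalCategory.snd (D.T ⊗ RedSub.pow (Red.Ga (Spec (CommRingCat.of k))) m) (D.T ⊗ RedSub.pow (Red.Ga (Spec (CommRingCat.of k))) m) ≫ RedSub.borelMap D epos)).left.base ⊆
      closure (Set.range ⇑((CartesianMonoidalCategory.fst (D.T ⊗ RedSub.pow (Red.Ga (Spec (CommRingCat.of k))) m) (D.T ⊗ RedSub.pow (Red.Ga (Spec (CommRingCat.of k))) m) ≫ RedSub.borelMap D epos) *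
          (CartesianMonoidalCategory.toUnit ((D.T ⊗ RedSub.pow (Red.Ga (Spec (CommRingCat.of k))) m) ⊗ (D.T ⊗ RedSub.pow (Red.Ga (Spec (CommRingCat.of k))) m)) ≫ (l.map nr).prod) *
          (CartesianMonoidalCategory.snd (D.T ⊗ RedSub.pow (Red.Ga (Spec (CommRingCat.of k))) m) (D.T ⊗ RedSub.pow (Red.Ga (Spec (CommRingCat.of k))) m) ≫ RedSub.borelMap D epos)).left.base) ↔
    Relation.ReflTransGen
      (fun u v : Equiv.Perm D.idx => ∃ c : D.idx, c ∈ RedSub.posRoots D.P b ∧ v = D.P.reflectionPerm c * u ∧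
        Set.ncard {a : D.idx | a ∈ RedSub.posRoots D.P b ∧ v a ∈ RedSub.negRoots D.P b} = Set.ncard {a : D.idx | a ∈ RedSub.posRoots D.P b ∧ u a ∈ RedSub.negRoots D.P b} + 1)
      (RedSub.wordPerm D.P l') (RedSub.wordPerm D.P l) := by

  classical
  haveI := RedCell16.isReduced D (IsLocalRing.closedPoint k)
  haveI := D.fintypeIdx
  haveI := D.maximalTorus.1
  obtain ⟨n, m', eneg, -, hneg, -⟩ := RedCell16.exists_enum D b
  haveI hopen := RedCell16.isOpenImmersion_cellMap D b eneg epos hneg hpos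
  obtain ⟨bn, hbn, hbp⟩ := RedCell16.exists_negBase D b
  let x₀ : Spec (CommRingCat.of k) ⟶ Spec (CommRingCat.of k) := 𝟙 _
  let X := RankOne16.kPt x₀
  let B := D.T ⊗ RedSub.pow (Red.Ga (Spec (CommRingCat.of k))) m
  let f : List D.idx → (B ⊗ B ⟶ G) := fun l =>
    (fst B B ≫ RedSub.borelMap D epos) * (toUnit _ ≫ RedCell16.Nw D nr l) * (snd B B ≫ RedSub.borelMap D epos)
  let C : List D.idx → Set G.left := fun l => Set.range (f l).left.base
  show C l' ⊆ closure (C l) ↔ _
  haveI := RedCell16.smooth_borelDom D m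
  haveI : Smooth (B ⊗ B).hom := inferInstanceAs (Smooth (Limits.pullback.fst B.hom B.hom ≫ B.hom))
  let cl : X.left := IsLocalRing.closedPoint k
  -- rational points
  have hkpt : ∀ {Y : Over (Spec (CommRingCat.of k))} [LocallyOfFiniteType Y.hom] {U : Set Y.left},
      IsOpen U → U.Nonempty → ∃ g : X ⟶ Y, g.left cl ∈ U := by
    intro Y _ U hU hne
    obtain ⟨g, hg⟩ := BorelFix21.exists_pt_mem hU.isLocallyClosed hne
    let ψ : X ⟶ VecGrp.pt k k := Over.homMk (𝟙 _) (by
      show 𝟙 _ ≫ Spec.map (CommRingCat.ofHom (algebraMap k k)) = 𝟙 _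
      rw [show CommRingCat.ofHom (algebraMap k k) = 𝟙 _ from rfl, Spec.map_id, Category.comp_id])
    exact ⟨ψ ≫ g, hg⟩
  have himg : ∀ (l : List D.idx) (g : X ⟶ G), RedCell16.InB D b nr X l g → g.left cl ∈ C l := by
    rintro l g ⟨b₁, h₁, b₂, h₂, rfl⟩
    obtain ⟨d₁, e₁⟩ : ∃ d : X ⟶ B, d ≫ RedSub.borelMap D epos = b₁ := (RedCell16.factor_iff D b epos hpos b₁).2 h₁
    obtain ⟨d₂, e₂⟩ : ∃ d : X ⟶ B, d ≫ RedSub.borelMap D epos = b₂ := (RedCell16.factor_iff D b epos hpos b₂).2 h₂
    refine ⟨(lift d₁ d₂).left cl, ?_⟩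
    have e : lift d₁ d₂ ≫ f l = b₁ * (toUnit X ≫ RedCell16.Nw D nr l) * b₂ := by
      simp only [f, MonObj.comp_mul, lift_fst_assoc, lift_snd_assoc, e₁, e₂, RedCell16.toUnit_comp]
    rw [← e]
    rfl
  have hdom : ∀ (l : List D.idx) (d : X ⟶ B ⊗ B), RedCell16.InB D b nr X l (d ≫ f l) := by
    intro l d
    refine ⟨(d ≫ fst B B) ≫ RedSub.borelMap D epos, (RedCell16.factor_iff D b epos hpos _).1 ⟨_, rfl⟩,
      (d ≫ snd B B) ≫ RedSub.borelMap D epos, (RedCell16.factor_iff D b epos hpos _).1 ⟨_, rfl⟩, ?_⟩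
    simp only [f, MonObj.comp_mul, Category.assoc, RedCell16.toUnit_comp]
  have hsub : ∀ (l : List D.idx) (Z : Set G.left), IsClosed Z →
      (∀ g : X ⟶ G, RedCell16.InB D b nr X l g → g.left cl ∈ Z) → C l ⊆ Z := by
    rintro l Z hZ h _ ⟨p, rfl⟩
    by_contra hp
    obtain ⟨d, hd⟩ := hkpt (hZ.isOpen_compl.preimage (f l).left.continuous) ⟨p, hp⟩
    exact hd (h _ (hdom l d))
  have hcongr : ∀ l₁ l₂ : List D.idx, RedSub.wordPerm D.P l₁ = RedSub.wordPerm D.P l₂ → C l₁ ⊆ closure (C l₂) := by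
    intro l₁ l₂ h
    have hW : ∀ w : List D.idx, RootDLib.wprod D.P w ∈ D.P.weylGroup := fun w => by
      rw [RootDLib.weylGroup_eq_closure]; exact RootDLib.wprod_mem fun _ _ => Set.mem_univ _
    refine hsub l₁ _ isClosed_closure fun g hg => subset_closure (himg l₂ g (RedCell16.inB_congr D b nr hnr ?_ hg))
    refine RootDLib.weyl_ext (hW _) (hW _) fun a => ?_
    rw [← RootComb21.wordPerm_apply, ← RootComb21.wordPerm_apply, h]
  change _ ↔ Relation.ReflTransGen (RedCell16.Order.Step b) _ _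
  constructor
  · intro hsubset
    let N := RedCell16.Nw D nr l'
    let lt : G ⟶ G := (toUnit G ≫ N) * 𝟙 G
    haveI : IsIso lt := ⟨(toUnit G ≫ N⁻¹) * 𝟙 G, by
      simp only [MonObj.comp_mul, RedCell16.toUnit_comp, Category.comp_id, lt, GrpObj.comp_inv, inv_mul_cancel_left], by
      simp only [MonObj.comp_mul, RedCell16.toUnit_comp, Category.comp_id, lt, GrpObj.comp_inv, mul_inv_cancel_left]⟩
    haveI : IsIso lt.left := inferInstanceAs (IsIso ((Over.forget _).map lt))
    let trl := RedSub.cellMap D eneg epos ≫ lt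
    have htrl : IsOpenImmersion trl.left := by
      show IsOpenImmersion (RedSub.cellMap D eneg epos ≫ lt).left
      rw [Over.comp_left]
      infer_instance
    have htr : ∀ (d : X ⟶ _), d ≫ trl = (toUnit X ≫ N) * (d ≫ RedSub.cellMap D eneg epos) := fun d => by
      simp only [trl, lt, MonObj.comp_mul, Category.comp_id, RedCell16.toUnit_comp]
    have hp : (toUnit X ≫ N).left cl ∈ closure (C l) := hsubset (himg l' _
      ⟨1, one_mem _, 1, one_mem _, by group; rfl⟩)
    obtain ⟨p, hpW, q, hq⟩ := mem_closure_iff.1 hp (Set.range trl.left) htrl.base_open.isOpen_range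
      ⟨(RedCell16.mkDom D (0 : Fin n → Γ(X.left, ⊤)) 1 (0 : Fin m → Γ(X.left, ⊤))).left cl, by
        have e : RedCell16.mkDom D (0 : Fin n → Γ(X.left, ⊤)) 1 (0 : Fin m → Γ(X.left, ⊤)) ≫ trl = toUnit X ≫ N := by
          rw [htr]
          show _ * RedCell16.cellPt D eneg epos 0 1 0 = _
          rw [RedCell16.cellPt_one, _root_.mul_one]
        rw [← e]
        rfl⟩
    obtain ⟨d, hd⟩ := hkpt (htrl.base_open.isOpen_range.preimage (f l).left.continuous) ⟨q, by
      show (f l).left q ∈ Set.range trl.left; rw [show (f l).left q = p from hq]; exact hpW⟩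
    obtain ⟨ω, hω⟩ := RedCell16.exists_lift_point x₀ trl (Or.inl htrl) (d ≫ f l) hd
    obtain ⟨y, t, z, rfl⟩ := RedCell16.exists_mkDom D ω
    have hg : RedCell16.InB D b nr X l (d ≫ f l) := hdom l d
    rw [← hω, htr] at hg
    change RedCell16.InB D b nr X l ((toUnit X ≫ N) * RedCell16.cellPt D eneg epos y t z) at hg
    rw [RedCell16.cellPt_eq] at hg
    let v := RootDLib.wprod D.P l'
    obtain ⟨y₁, hy₁, y₂, hy₂, hy⟩ := RedCell16.exists_split D bn
      {c | c ∈ RedSub.negRoots D.P b ∧ v • c ∈ RedSub.posRoots D.P b}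
      {c | c ∈ RedSub.negRoots D.P b ∧ v • c ∈ RedSub.negRoots D.P b} (by
        rw [hbn]; ext c
        refine ⟨fun h => ?_, fun h => h.elim And.left And.left⟩
        by_cases hc : v • c ∈ RedSub.posRoots D.P b
        · exact Or.inl ⟨h, hc⟩
        · exact Or.inr ⟨h, (RootComb21.mem_negRoots_iff b _).2 hc⟩)
      (show RedCell16.rp D eneg y ∈ RedCell16.gens D (RedSub.posRoots D.P bn) X by
        rw [hbn]; exact RedCell16.rp_mem_gens D _ _ fun i => hneg.2 ▸ Set.mem_range_self i)
    have mv : ∀ (R R' : Set D.idx) (w : X ⟶ G), (∀ c ∈ R, v • c ∈ R') → w ∈ RedCell16.gens D R X →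
        (toUnit X ≫ N) * w * (toUnit X ≫ N)⁻¹ ∈ RedCell16.gens D R' X := fun R R' w h hw =>
      RedCell16.conj_gens D _ _ (fun c hc a => by
        obtain ⟨ν, hν⟩ := (RedCell16.nrm_word D nr hnr l').cj_P D b c
        have h1 := hν X a
        rw [RedCell16.cj] at h1
        rw [h1]
        exact RedCell16.P_mem_gens D (h c hc) _) hw
    have h1 := mv _ (RedSub.posRoots D.P b) y₁ (fun c hc => hc.2) hy₁
    have h2 := mv _ (RedSub.negRoots D.P b) y₂ (fun c hc => hc.2) hy₂
    set r₁ := (toUnit X ≫ N) * y₁ * (toUnit X ≫ N)⁻¹ with hr₁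
    set r₂ := (toUnit X ≫ N) * y₂ * (toUnit X ≫ N)⁻¹ with hr₂
    have e : r₁⁻¹ * ((toUnit X ≫ N) * (RedCell16.rp D eneg y * ((t ≫ D.i) * RedCell16.rp D epos z))) =
        r₂ * (toUnit X ≫ N) * ((t ≫ D.i) * RedCell16.rp D epos z) := by
      rw [hy, hr₁, hr₂]; group
    have hC' : RedCell16.InC D b nr X l'
        (r₁⁻¹ * ((toUnit X ≫ N) * (RedCell16.rp D eneg y * ((t ≫ D.i) * RedCell16.rp D epos z)))) :=
      ⟨r₂, h2, t, _, RedCell16.rp_mem_gens D _ _ (fun i => hpos.2 ▸ Set.mem_range_self i), e⟩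
    refine RedCell16.meet_le D b nr hnr x₀ _ l l' _ (Nat.lt_succ_self _) ?_ hC'
    obtain ⟨b₁, hb₁, b₂, hb₂, eg⟩ := hg
    exact ⟨r₁⁻¹ * b₁, mul_mem (inv_mem (RedCell16.gens_le_borelPts D b h1)) hb₁, b₂, hb₂, by rw [eg]; group; rfl⟩
  · intro hchain
    have hstep : ∀ (l₁ : List D.idx) (c : D.idx), c ∈ RedSub.posRoots D.P b →
        RedCell16.Order.len b (RedSub.wordPerm D.P l₁) < RedCell16.Order.len b (RedSub.wordPerm D.P (c :: l₁)) →
        C l₁ ⊆ closure (C (c :: l₁)) := by
      intro l₁ c hc hlt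
      have hl := RedCell16.Order.pos_of_len_lt b hc l₁ hlt
      refine hsub l₁ _ isClosed_closure ?_
      rintro g ⟨b₁, h₁, b₂, h₂, rfl⟩
      by_contra hgU
      let b₁' : 𝟙_ (Over (Spec (CommRingCat.of k))) ⟶ G := b₁
      let b₂' : 𝟙_ (Over (Spec (CommRingCat.of k))) ⟶ G := b₂
      let nc := RootDLib.ng D.P c
      let curve : (Red.Ga (Spec (CommRingCat.of k))) ⟶ G := (toUnit (Red.Ga (Spec (CommRingCat.of k))) ≫ b₁') * D.u nc * (toUnit (Red.Ga (Spec (CommRingCat.of k))) ≫ RedCell16.Nw D nr l₁) * (toUnit (Red.Ga (Spec (CommRingCat.of k))) ≫ b₂')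
      have htu : ∀ (g : 𝟙_ (Over (Spec (CommRingCat.of k))) ⟶ G), toUnit X ≫ g = g := fun g => by
        rw [show toUnit X = 𝟙 X from toUnit_unique _ _]; exact Category.id_comp _
      have hval : ∀ a : Γ(X.left, ⊤), GaPts.ptOfFn a ≫ curve =
          b₁ * RankOne.P (D.u nc) a * (toUnit X ≫ RedCell16.Nw D nr l₁) * b₂ := fun a => by
        simp only [curve, MonObj.comp_mul, RedCell16.toUnit_comp]
        rw [show toUnit X ≫ b₁' = b₁ from htu b₁', show toUnit X ≫ b₂' = b₂ from htu b₂']
        rfl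
      obtain ⟨hGa, hGs, hGc⟩ := AttrBorel21.smooth_affine_Ga k
      haveI := hGs
      haveI := hGc
      haveI := AbRigid.irreducibleSpace_of_isAlgClosed (Red.Ga (Spec (CommRingCat.of k)))
      haveI : IsSeparated (Red.Ga (Spec (CommRingCat.of k))).hom := by
        haveI := RankOne16.isAffineHom_Ga (Spec (CommRingCat.of k))
        infer_instance
      let z₀ : 𝟙_ (Over (Spec (CommRingCat.of k))) ⟶ (Red.Ga (Spec (CommRingCat.of k))) :=
        GaPts.ptOfFn (0 : Γ((𝟙_ (Over (Spec (CommRingCat.of k)))).left, ⊤))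
      haveI hz₀ : IsClosedImmersion z₀.left :=
        RankOne16.isClosedImmersion_of_retraction z₀ (toUnit _) (toUnit_unique _ _)
      have hopenU : IsOpen (curve.left ⁻¹' (closure (C (c :: l₁)))ᶜ) :=
        isClosed_closure.isOpen_compl.preimage curve.left.continuous
      haveI := (D.rootHom nc).1
      have h0 : (GaPts.ptOfFn (0 : Γ(X.left, ⊤))).left cl ∈ curve.left ⁻¹' (closure (C (c :: l₁)))ᶜ := by
        show (GaPts.ptOfFn (0 : Γ(X.left, ⊤)) ≫ curve).left cl ∈ (closure (C (c :: l₁)))ᶜ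
        rw [hval, RankOne.P_zero, _root_.mul_one]
        exact hgU
      have h1 : (GaPts.ptOfFn (1 : Γ(X.left, ⊤))).left cl ∈ (Set.range z₀.left)ᶜ := fun hmem => by
        obtain ⟨d, hd⟩ := RedCell16.exists_lift_point x₀ z₀ (Or.inr hz₀) (GaPts.ptOfFn (1 : Γ(X.left, ⊤))) hmem
        rw [GaPts.ptOfFn_comp, map_zero] at hd
        have := congrArg Red.gaFn hd
        rw [GaPts.gaFn_ptOfFn, GaPts.gaFn_ptOfFn] at this
        let φ := (Scheme.ΓSpecIso (CommRingCat.of k)).commRingCatIsoToRingEquiv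
        have h2 := congrArg φ this
        rw [map_zero, map_one] at h2
        exact zero_ne_one h2
      have hne := nonempty_preirreducible_inter hopenU z₀.left.isClosedEmbedding.isClosed_range.isOpen_compl
        ⟨_, h0⟩ ⟨_, h1⟩
      obtain ⟨p, hp1, hp2⟩ := hkpt (hopenU.inter z₀.left.isClosedEmbedding.isClosed_range.isOpen_compl) hne
      set a := Red.gaFn p with ha
      have hpa : p = GaPts.ptOfFn a := GaPts.gaFn_injective (GaPts.gaFn_ptOfFn _).symm
      have ha0 : a ≠ 0 := fun h => by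
        refine hp2 ⟨(toUnit X).left cl, ?_⟩
        have e : toUnit X ≫ z₀ = p := by rw [hpa, h, GaPts.ptOfFn_comp, map_zero]
        rw [← e]
        rfl
      refine hp1 (subset_closure ?_)
      have := himg (c :: l₁) _ (RedCell16.inB_curve D b nr hnr x₀ hc hl ha0 h₁ h₂)
      rw [← hval, ← hpa] at this
      exact this
    have gen : ∀ v, Relation.ReflTransGen (RedCell16.Order.Step b) (RedSub.wordPerm D.P l') v →
        ∃ l₂, RedSub.wordPerm D.P l₂ = v ∧ C l' ⊆ closure (C l₂) := by
      intro v hv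
      induction hv with
      | refl => exact ⟨l', rfl, subset_closure⟩
      | tail _ hs ih =>
        obtain ⟨l₂, rfl, h₂⟩ := ih
        obtain ⟨c, hc, rfl, hlen⟩ := hs
        rw [RootComb21.wordPerm_cons'] at hlen ⊢
        exact ⟨c :: l₂, rfl, h₂.trans (closure_minimal (hstep l₂ c hc (by omega)) isClosed_closure)⟩
    obtain ⟨l₂, hl₂, h₂⟩ := gen _ hchain
    exact h₂.trans (closure_minimal (hcongr l₂ l hl₂) isClosed_closure)

end Groth.Agent.S15244
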