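import Groth.Statements.S15245
import Groth.Agent.Lib.RootComb21.Basic
-- import your own Groth.Agent.* helpers here

set_option autoImplicit false
universe u
open CategoryTheory AlgebraicGeometry
open RedSub

namespace Groth.Agent.S15245

/-- Let Φ be a finite reduced root system (a reduced root pairing over ℤ on a finite index set) with a
base b, w an element of its Weyl group, given as the product of the reflections along a word l and
acting on the roots, and γ a positive root. Writing ℓ(u) for the number of positive roots a with
u(a) negative, one has ℓ(w) < ℓ(σ_γ w) if and only if w⁻¹(γ) is positive. (Here the length is taken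
as the number of inverted positive roots.) -/
theorem result {idx M N : Type}
    [AddCommGroup M] [AddCommGroup N] [Finite idx]
    (P : RootPairing idx ℤ M N) [P.IsReduced] (b : P.Base) (l : List idx) (c : idx)
    (hc : c ∈ RedSub.posRoots P b) :
    Set.ncard {a : idx | a ∈ RedSub.posRoots P b ∧ RedSub.wordPerm P l a ∈ RedSub.negRoots P b} <
        Set.ncard {a : idx | a ∈ RedSub.posRoots P b ∧
          (P.reflectionPerm c * RedSub.wordPerm P l) a ∈ RedSub.negRoots P b} ↔
      (RedSub.wordPerm P l)⁻¹ c ∈ RedSub.posRoots P b := by
  refine ⟨fun h => ?_, RootComb21.inversions_lt b l hc⟩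
  by_contra hneg
  have h2 := RootComb21.inversions_lt b (c :: l) hc ?_
  · simp only [← RootComb21.wordPerm_cons'] at h2
    simp only [← mul_assoc, ← pow_two, RootPairing.reflectionPerm_sq, one_mul] at h2
    omega
  · rw [← RootComb21.wordPerm_cons', mul_inv_rev, Equiv.Perm.mul_apply,
      RootPairing.reflectionPerm_inv]
    rw [RootComb21.wordPerm_inv_apply] at hneg ⊢
    rw [RootComb21.posRoots_eq] at hneg ⊢
    have := RootDLib.smul_ng (RootDLib.wprod P l)⁻¹ c
    rw [show P.reflectionPerm c c = RootDLib.ng P c from rfl, this]
    exact (RootDLib.not_mem_posOf_iff (RootComb21.isSimpleSys_support b)).1 hneg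

end Groth.Agent.S15245
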