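import Groth.Statements.S15247
import Groth.Agent.Lib.FanoSeq13.Codim

set_option autoImplicit false
open Fano

namespace Groth.Agent.S15247

/-- Over ℂ, let Y be an irreducible closed subscheme of projective m-space of dimension m − d, where 1 ≤
d and d + 1 ≤ m. Then the hypersurfaces of degree d + 1 containing Y form a linear family of
codimension at least m + 1 (that is, greater than m) in the projective space of all hypersurfaces of
degree d + 1. Here Y is given by a homogeneous ideal I of ℂ[x_0, …, x_m] whose radical is prime and
with dim ℂ[x_0, …, x_m]/I = m + 1 − d, a hypersurface contains Y when its form lies in I, and the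
conclusion reads: the forms of degree d + 1 in I span a subspace of codimension at least m + 1 in
the space of all forms of degree d + 1. -/
theorem result (m d : ℕ) (hd : 1 ≤ d) (hdm : d + 1 ≤ m)
    (I : Ideal (MvPolynomial (Fin (m + 1)) ℂ))
    (hI : I.IsHomogeneous (CohB1.polyGrading m ℂ))
    (hirr : I.radical.IsPrime)
    (hdim : ringKrullDim (MvPolynomial (Fin (m + 1)) ℂ ⧸ I) = ((m + 1 - d : ℕ) : WithBot ℕ∞)) :
    m + 1 + Module.finrank ℂ ↥(CohB1.polyGrading m ℂ (d + 1) ⊓ Submodule.restrictScalars ℂ I)
      ≤ Module.finrank ℂ (LefPen.Form m ℂ (d + 1)) := by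
  exact Groth.Agent.FanoSeq13.finrank_ideal hd hdm I hirr hdim

end Groth.Agent.S15247
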