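import Groth.Statements.S15249
import Groth.Agent.Lib.FanoLines13.Main

set_option autoImplicit false
open Fano

namespace Groth.Agent.S15249

/-- Over ℂ, let 1 ≤ d ≤ n − 3. For a general hypersurface X of degree d in projective n-space and every
point p of X, the lines contained in X and passing through p form a family of dimension at most n −
d − 1. Here X is given by a form Φ of degree d in n + 1 variables; general means on a set of forms
containing the non-vanishing locus of a nonzero polynomial function; a point of X is a nonzero zero
v of Φ; and the family of lines through [v] on X is measured by the cone C_v of all w in ℂ^(n+1)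
such that Φ vanishes identically on the span of v and w, whose codimension in ℂ^(n+1) is asked to be
at least d (C_v is the inverse image in ℂ^(n+1) of the affine cone over that family of lines, a
subset of the projective space of lines through [v], so this says the family has dimension at most n
− d − 1). (The published statement concludes that, for general X, the projection onto X of the
scheme of pointed lines on X is flat with fibres of dimension n − d − 1; this row states only the
upper bound n − d − 1 on the dimension of the family of lines through each point of X.) -/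
theorem result (n d : ℕ) (hd : 1 ≤ d) (hdn : d + 3 ≤ n) :
    LefPen.IsGeneric ℂ {Φ : LefPen.Form n ℂ d |
      ∀ v : Fin (n + 1) → ℂ, v ≠ 0 → MvPolynomial.eval v Φ.1 = 0 →
        LefPen.CodimGE ℂ {w : Fin (n + 1) → ℂ | ∀ s t : ℂ, MvPolynomial.eval (s • v + t • w) Φ.1 = 0} d} := by
  classical
  obtain ⟨m, rfl⟩ : ∃ m, n = m + 1 := ⟨n - 1, by omega⟩
  obtain ⟨G, hG0, hG⟩ := Groth.Agent.FanoLines13.general_cone (k := ℂ) (m := m) (d := d) hd (by omega)
  refine ⟨fun Φ => MvPolynomial.eval (fun e : Groth.Agent.FanoSeq13.Expo (m + 1) d => Φ.1.coeff e.1) G, ?_, ?_,
    fun Φ hΦ => hG Φ hΦ⟩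
  · show _ ∈ Algebra.adjoin ℂ _
    clear hG hG0
    induction G using MvPolynomial.induction_on with
    | C a =>
      simp only [MvPolynomial.eval_C]
      exact Subalgebra.algebraMap_mem _ a
    | add p q hp hq =>
      simp only [map_add]
      exact add_mem hp hq
    | mul_X p e hp =>
      simp only [map_mul, MvPolynomial.eval_X]
      exact mul_mem hp (Algebra.subset_adjoin
        ⟨(MvPolynomial.lcoeff ℂ e.1).comp (Submodule.subtype _), funext fun Φ => rfl⟩)
  · by_contra! h0
    refine hG0 (MvPolynomial.funext fun c => ?_)
    rw [map_zero]
    let P : MvPolynomial (Fin (m + 1 + 1)) ℂ := ∑ e : Groth.Agent.FanoSeq13.Expo (m + 1) d, MvPolynomial.monomial e.1 (c e)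
    have hP : P.IsHomogeneous d := MvPolynomial.IsHomogeneous.sum _ _ _ fun e _ => MvPolynomial.isHomogeneous_monomial _ e.2
    have e1 : (fun e : Groth.Agent.FanoSeq13.Expo (m + 1) d => P.coeff e.1) = c := funext fun e => by
      simp only [P, MvPolynomial.coeff_sum, MvPolynomial.coeff_monomial]
      rw [Finset.sum_eq_single e (fun e' _ hne => if_neg fun h => hne (Subtype.ext h)) (by simp), if_pos rfl]
    have := h0 ⟨P, (MvPolynomial.mem_homogeneousSubmodule _ _).2 hP⟩
    rwa [e1] at this

end Groth.Agent.S15249
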