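import Groth.Statements.S15252
import Groth.Agent.Lib.CubicH28.Basic
import Groth.Agent.S14372
-- import your own Groth.Agent.* helpers here

set_option autoImplicit false
open Fano

namespace Groth.Agent.S15252


open CubicH28 in
theorem six_eval_two_lines {σ : Type} (f : MvPolynomial σ ℂ) (hf : f.IsHomogeneous 3)
    (o a b : σ → ℂ) (hooo : T f o o o = 0) (hooa : T f o o a = 0) (hoaa : T f o a a = 0)
    (haaa : T f a a a = 0) (hoob : T f o o b = 0) (hobb : T f o b b = 0) (hbbb : T f b b b = 0)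
    (x y z : ℂ) : 6 * MvPolynomial.eval (x • o + y • a + z • b) f =
      y * z * (6 * x * T f o a b + 3 * y * T f a a b + 3 * z * T f a b b) := by
  rw [← T_self hf]
  simp only [T_add hf, T_add₂ hf, T_add₃ hf, T_smul hf, T_smul₂ hf, T_smul₃ hf]
  have e1 : T f o a o = T f o o a := T_symm23 f o a o
  have e2 : T f a o o = T f o o a := by rw [T_symm12 f a o o, e1]
  have e3 : T f o b o = T f o o b := T_symm23 f o b o
  have e4 : T f b o o = T f o o b := by rw [T_symm12 f b o o, e3]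
  have e5 : T f a o a = T f o a a := T_symm12 f a o a
  have e6 : T f a a o = T f o a a := by rw [T_symm23 f a a o, e5]
  have e7 : T f b o b = T f o b b := T_symm12 f b o b
  have e8 : T f b b o = T f o b b := by rw [T_symm23 f b b o, e7]
  have e9 : T f o b a = T f o a b := T_symm23 f o b a
  have e10 : T f a o b = T f o a b := T_symm12 f a o b
  have e11 : T f a b o = T f o a b := by rw [T_symm23 f a b o, e10]
  have e12 : T f b o a = T f o a b := by rw [T_symm12 f b o a, e9]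
  have e13 : T f b a o = T f o a b := by rw [T_symm12 f b a o, e11]
  have e14 : T f a b a = T f a a b := T_symm23 f a b a
  have e15 : T f b a a = T f a a b := by rw [T_symm12 f b a a, e14]
  have e16 : T f b a b = T f a b b := T_symm12 f b a b
  have e17 : T f b b a = T f a b b := by rw [T_symm23 f b b a, e16]
  simp only [e1, e2, e3, e4, e5, e6, e7, e8, e9, e10, e11, e12, e13, e14, e15, e16, e17,
    hooo, hooa, hoaa, haaa, hoob, hobb, hbbb]
  ring

/-- Let X be a smooth cubic hypersurface in projective 4-space over ℂ and let L₁, L₂ be two distinct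
lines on X which meet. Then there is a finite set G of points of L₁ such that every line on X
meeting both L₁ and L₂ passes through a point of G. Here X is given by a cubic form f in five
variables satisfying the Jacobian smoothness condition at every nonzero zero, a line on X is a
2-dimensional subspace of ℂ^5 on which f vanishes, two lines meet when the subspaces intersect
non-trivially, and a point of L₁ is a 1-dimensional subspace of it. (The published statement also
covers two disjoint lines; this row assumes that L₁ and L₂ meet.) -/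
theorem result
    (f : MvPolynomial (Fin 5) ℂ) (hf : f.IsHomogeneous 3)
    (hsm : ∀ u : Fin 5 → ℂ, u ≠ 0 → MvPolynomial.eval u f = 0 →
      ∃ i : Fin 5, MvPolynomial.eval u (MvPolynomial.pderiv i f) ≠ 0)
    (L₁ L₂ : Submodule ℂ (Fin 5 → ℂ)) (h₁ : Module.finrank ℂ ↥L₁ = 2) (h₂ : Module.finrank ℂ ↥L₂ = 2)
    (hf₁ : ∀ u ∈ L₁, MvPolynomial.eval u f = 0) (hf₂ : ∀ u ∈ L₂, MvPolynomial.eval u f = 0)
    (hne : L₁ ≠ L₂) (hmeet : L₁ ⊓ L₂ ≠ ⊥) :
    ∃ G : Set (Submodule ℂ (Fin 5 → ℂ)), G.Finite ∧ (∀ g ∈ G, Module.finrank ℂ ↥g = 1 ∧ g ≤ L₁) ∧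
      ∀ L : Submodule ℂ (Fin 5 → ℂ), Module.finrank ℂ ↥L = 2 → (∀ u ∈ L, MvPolynomial.eval u f = 0) →
        L ⊓ L₁ ≠ ⊥ → L ⊓ L₂ ≠ ⊥ → ∃ g ∈ G, g ≤ L := by
  classical
  obtain ⟨o, ho, ho0⟩ := (L₁ ⊓ L₂).exists_mem_ne_zero_of_ne_bot hmeet
  have hlt : ∀ M : Submodule ℂ (Fin 5 → ℂ), Module.finrank ℂ M = 2 →
      ∃ a ∈ M, a ∉ Submodule.span ℂ {o} := by
    intro M hM
    by_contra hc
    push Not at hc
    have := Submodule.finrank_mono (show M ≤ Submodule.span ℂ {o} from hc)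
    rw [finrank_span_singleton ho0, hM] at this
    omega
  have hgen : ∀ M : Submodule ℂ (Fin 5 → ℂ), Module.finrank ℂ M = 2 → o ∈ M →
      ∀ a ∈ M, a ∉ Submodule.span ℂ {o} → M = Submodule.span ℂ {o, a} := by
    intro M hM hoM a ha hao
    refine (Submodule.eq_of_le_of_finrank_le (Submodule.span_le.2 ?_) ?_).symm
    · simp [Set.insert_subset_iff, hoM, ha]
    · rw [hM]
      have h : Submodule.span ℂ {o} < Submodule.span ℂ {o, a} :=
        lt_of_le_of_ne (Submodule.span_mono (by simp)) fun h => hao (h ▸ Submodule.subset_span (by simp))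
      have := Submodule.finrank_lt_finrank_of_lt h
      rw [finrank_span_singleton ho0] at this
      omega
  obtain ⟨a, ha, hao⟩ := hlt L₁ h₁
  obtain ⟨b, hb, hbo⟩ := hlt L₂ h₂
  have hs₁ := hgen L₁ h₁ ho.1 a ha hao
  have hs₂ := hgen L₂ h₂ ho.2 b hb hbo
  have hspan : Submodule.span ℂ (Set.range ![o, a, b]) = L₁ ⊔ L₂ := by
    rw [hs₁, hs₂, ← Submodule.span_union]
    congr 1
    ext w
    simp [Matrix.range_cons, Matrix.range_empty]
    tauto
  have hrk : Module.finrank ℂ ↥(L₁ ⊔ L₂) = 3 := by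
    have hl : L₁ < L₁ ⊔ L₂ := lt_of_le_of_ne le_sup_left fun h =>
      hne (Submodule.eq_of_le_of_finrank_le (h ▸ le_sup_right) (le_of_eq (h₁.trans h₂.symm))).symm
    have := Submodule.finrank_lt_finrank_of_lt hl
    have e := Submodule.finrank_sup_add_finrank_inf_eq L₁ L₂
    have hp : 0 < Module.finrank ℂ ↥(L₁ ⊓ L₂) :=
      Module.finrank_pos_iff_exists_ne_zero.2 ⟨⟨o, ho⟩, fun h => ho0 (congrArg Subtype.val h)⟩
    omega
  let ψ : (Fin 3 → ℂ) →ₗ[ℂ] (Fin 5 → ℂ) := Fintype.linearCombination ℂ ![o, a, b]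
  have hψ : ∀ c : Fin 3 → ℂ, ψ c = c 0 • o + c 1 • a + c 2 • b := fun c => by
    simp [ψ, Fintype.linearCombination_apply, Fin.sum_univ_three]
  have hrange : LinearMap.range ψ = L₁ ⊔ L₂ := by
    rw [← hspan]; exact Fintype.range_linearCombination ℂ _
  have hsv : ∀ M : Submodule ℂ (Fin 5 → ℂ), (∀ u ∈ M, MvPolynomial.eval u f = 0) →
      ∀ p ∈ M, ∀ q ∈ M, ∀ r ∈ M, CubicH28.T f p q r = 0 := by
    intro M hM p hp q hq r hr
    simp only [CubicH28.T, hM _ (add_mem (add_mem hp hq) hr), hM _ (add_mem hp hq),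
      hM _ (add_mem hp hr), hM _ (add_mem hq hr), hM _ hp, hM _ hq, hM _ hr]
    ring
  let ℓ : (Fin 3 → ℂ) →ₗ[ℂ] ℂ := (6 * CubicH28.T f o a b) • LinearMap.proj 0
    + (3 * CubicH28.T f a a b) • LinearMap.proj 1 + (3 * CubicH28.T f a b b) • LinearMap.proj 2
  have hval : ∀ c : Fin 3 → ℂ, 6 * MvPolynomial.eval (ψ c) f = c 1 * c 2 * ℓ c := fun c => by
    rw [hψ, six_eval_two_lines f hf o a b (hsv L₁ hf₁ o ho.1 o ho.1 o ho.1)
      (hsv L₁ hf₁ o ho.1 o ho.1 a ha) (hsv L₁ hf₁ o ho.1 a ha a ha) (hsv L₁ hf₁ a ha a ha a ha)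
      (hsv L₂ hf₂ o ho.2 o ho.2 b hb) (hsv L₂ hf₂ o ho.2 b hb b hb) (hsv L₂ hf₂ b hb b hb b hb)]
    simp only [ℓ, LinearMap.add_apply, LinearMap.smul_apply, LinearMap.proj_apply, smul_eq_mul]
    ring
  have hℓ : ℓ ≠ 0 := fun h => by
    have hplane : ∀ u ∈ L₁ ⊔ L₂, MvPolynomial.eval u f = 0 := by
      intro u hu
      obtain ⟨c, rfl⟩ : u ∈ LinearMap.range ψ := hrange ▸ hu
      have := hval c
      rw [h, LinearMap.zero_apply, mul_zero] at this
      simpa using this
    have := S14372.result ℂ 4 3 (by norm_num) f hf (L₁ ⊔ L₂) hplane fun u hu hu0 =>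
      hsm u hu0 (hplane u hu)
    have h5 : 2 * Module.finrank ℂ ↥(L₁ ⊔ L₂) ≤ 5 := this
    rw [hrk] at h5
    omega
  let N := (LinearMap.ker ℓ).map ψ
  have hN : Module.finrank ℂ ↥N ≤ 2 := by
    refine (Submodule.finrank_map_le ψ _).trans ?_
    have h1 := LinearMap.finrank_range_add_finrank_ker ℓ
    rw [LinearMap.range_eq_top.2 (LinearMap.surjective hℓ), finrank_top, Module.finrank_self,
      Module.finrank_pi, Fintype.card_fin] at h1
    omega
  refine ⟨{g | (g = Submodule.span ℂ {o} ∨ g = N ⊓ L₁) ∧ Module.finrank ℂ ↥g = 1 ∧ g ≤ L₁},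
    (Set.toFinite {Submodule.span ℂ {o}, N ⊓ L₁}).subset fun g hg => ?_, fun g hg => hg.2, ?_⟩
  · rcases hg.1 with h | h <;> simp [h]
  intro L hL hLf hL1 hL2
  by_cases hoL : o ∈ L
  · exact ⟨Submodule.span ℂ {o}, ⟨Or.inl rfl, finrank_span_singleton ho0,
      (Submodule.span_singleton_le_iff_mem _ _).2 ho.1⟩, (Submodule.span_singleton_le_iff_mem _ _).2 hoL⟩
  obtain ⟨p, hp, hp0⟩ := (L ⊓ L₁).exists_mem_ne_zero_of_ne_bot hL1
  obtain ⟨q, hq, hq0⟩ := (L ⊓ L₂).exists_mem_ne_zero_of_ne_bot hL2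
  have hone : ∀ M : Submodule ℂ (Fin 5 → ℂ), Module.finrank ℂ M = 2 → o ∈ M →
      Module.finrank ℂ ↥(L ⊓ M) ≤ 1 := by
    intro M hM hoM
    have hlt : L ⊓ M < M := lt_of_le_of_ne inf_le_right fun h => hoL (h.symm ▸ hoM : o ∈ L ⊓ M).1
    have := Submodule.finrank_lt_finrank_of_lt hlt
    omega
  have h12 : L₁ ⊓ L₂ = Submodule.span ℂ {o} := by
    refine (Submodule.eq_of_le_of_finrank_le ((Submodule.span_singleton_le_iff_mem _ _).2 ho) ?_).symm
    rw [finrank_span_singleton ho0]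
    have e := Submodule.finrank_sup_add_finrank_inf_eq L₁ L₂
    omega
  have hLp : L ⊓ L₁ = Submodule.span ℂ {p} := by
    refine (Submodule.eq_of_le_of_finrank_le ((Submodule.span_singleton_le_iff_mem _ _).2 hp) ?_).symm
    rw [finrank_span_singleton hp0]
    exact hone L₁ h₁ ho.1
  have hpq : LinearIndependent ℂ ![p, q] := by
    rw [linearIndependent_fin2]
    refine ⟨by simpa using hq0, fun c hc => ?_⟩
    simp only [Matrix.cons_val_one, Matrix.cons_val_zero] at hc
    have hmem : p ∈ L₁ ⊓ L₂ := ⟨hp.2, hc ▸ L₂.smul_mem c hq.2⟩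
    rw [h12, Submodule.mem_span_singleton] at hmem
    obtain ⟨d, hd⟩ := hmem
    have hd0 : d ≠ 0 := fun h => hp0 (by rw [← hd, h, zero_smul])
    exact hoL (by
      have : o = d⁻¹ • p := by rw [← hd, smul_smul, inv_mul_cancel₀ hd0, one_smul]
      rw [this]; exact L.smul_mem _ hp.1)
  have hLH : L ≤ L₁ ⊔ L₂ := by
    have hsp : Submodule.span ℂ (Set.range ![p, q]) = L := by
      refine Submodule.eq_of_le_of_finrank_le (Submodule.span_le.2 ?_) ?_
      · rintro w ⟨i, rfl⟩; fin_cases i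
        exacts [hp.1, hq.1]
      · rw [hL, finrank_span_eq_card hpq, Fintype.card_fin]
    rw [← hsp]
    refine Submodule.span_le.2 ?_
    rintro w ⟨i, rfl⟩; fin_cases i
    exacts [Submodule.mem_sup_left hp.2, Submodule.mem_sup_right hq.2]
  let P : Fin 3 → Submodule ℂ (Fin 5 → ℂ) := ![L₁, L₂, N]
  obtain ⟨i, hi⟩ := Subspace.exists_eq_top_of_iUnion_eq_univ (k := ℂ) (E := ↥L)
    (p := fun i => (P i).comap L.subtype) (by
      ext w
      simp only [Set.mem_iUnion, Set.mem_univ, iff_true]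
      obtain ⟨c, hc⟩ : (w : Fin 5 → ℂ) ∈ LinearMap.range ψ := hrange ▸ hLH w.2
      have := hval c
      rw [hc, hLf _ w.2, mul_zero] at this
      rcases mul_eq_zero.1 this.symm with h | h
      · rcases mul_eq_zero.1 h with h | h
        · refine ⟨1, ?_⟩
          show (w : Fin 5 → ℂ) ∈ L₂
          rw [← hc, hψ, h, zero_smul, add_zero]
          exact add_mem (L₂.smul_mem _ ho.2) (L₂.smul_mem _ hb)
        · refine ⟨0, ?_⟩
          show (w : Fin 5 → ℂ) ∈ L₁
          rw [← hc, hψ, h, zero_smul, add_zero]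
          exact add_mem (L₁.smul_mem _ ho.1) (L₁.smul_mem _ ha)
      · exact ⟨2, c, h, hc⟩)
  have hle : L ≤ P i := Submodule.comap_subtype_eq_top.1 hi
  fin_cases i
  · exact absurd ((Submodule.eq_of_le_of_finrank_le hle (le_of_eq (h₁.trans hL.symm))).symm ▸ ho.1 : o ∈ L) hoL
  · exact absurd ((Submodule.eq_of_le_of_finrank_le hle (le_of_eq (h₂.trans hL.symm))).symm ▸ ho.2 : o ∈ L) hoL
  · have hNL : L = N := Submodule.eq_of_le_of_finrank_le hle (hN.trans hL.ge)
    refine ⟨N ⊓ L₁, ⟨Or.inr rfl, ?_, inf_le_right⟩, hNL ▸ inf_le_left⟩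
    rw [← hNL, hLp, finrank_span_singleton hp0]

end Groth.Agent.S15252
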