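import Groth.Statements.S15253
import Groth.Agent.Lib.FormalH7.LocFree
-- import your own Groth.Agent.* helpers here

set_option autoImplicit false
set_option linter.style.haveILetI false
set_option backward.isDefEq.respectTransparency false
set_option backward.isDefEq.respectTransparency.types false
set_option maxHeartbeats 1000000
universe u
open CategoryTheory CategoryTheory.Limits AlgebraicGeometry TopologicalSpace
open W4c2seshadripos

namespace Groth.Agent.S15253

open scoped TensorProduct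

/-- Degree zero cohomology detects surjectivity on global sections. -/
theorem surjective_H0_iff {X : Scheme.{u}} {F N : X.Modules} (φ : F ⟶ N) :
    Function.Surjective (Sheaf.H.map ((SheafOfModules.toSheaf X.ringCatSheaf).map φ) 0) ↔
      Function.Surjective (φ.app ⊤) := by
  let eF := (Sheaf.H.equiv₀ (Coh.toAb F) (isTerminalTop : IsTerminal (⊤ : X.Opens)))
  let eN := (Sheaf.H.equiv₀ (Coh.toAb N) (isTerminalTop : IsTerminal (⊤ : X.Opens)))
  have h : ∀ s, eN.symm (φ.app ⊤ s) =
      Sheaf.H.map ((SheafOfModules.toSheaf X.ringCatSheaf).map φ) 0 (eF.symm s) := fun s =>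
    (Sheaf.H.equiv₀_symm_naturality (isTerminalTop : IsTerminal (⊤ : X.Opens))
      ((SheafOfModules.toSheaf X.ringCatSheaf).map φ) (show Γ(F, ⊤) from s)).symm
  constructor
  · intro hs t
    obtain ⟨a, ha⟩ := hs (eN.symm t)
    exact ⟨eF a, eN.symm.injective ((h _).trans (by rw [AddEquiv.symm_apply_apply]; exact ha))⟩
  · intro hs b
    obtain ⟨s, hse⟩ := hs (eN b)
    exact ⟨eF.symm s, (h s).symm.trans (by rw [hse]; exact eN.symm_apply_apply b)⟩

/-- Global sections generate modulo the ideal `J` at `x`. -/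
def Gen {X : Scheme.{u}} (F : X.Modules) (x : X) (J : Ideal (X.presheaf.stalk x)) : Prop :=
  ∀ a : (F.presheaf.stalk x : Type u), ∃ s : Γ(F, ⊤),
    F.presheaf.germ ⊤ x trivial s - a ∈ J • (⊤ : Submodule (X.presheaf.stalk x) (F.presheaf.stalk x : Type u))

/-- Surjectivity onto the sections on a one-point closed subscheme. -/
theorem surjective_unit_iff {X Z : Scheme.{u}} (i : Z ⟶ X) [IsClosedImmersion i] [Subsingleton Z] (z : Z)
    (F : X.Modules) :
    Function.Surjective (((Scheme.Modules.pullbackPushforwardAdjunction i).unit.app F).app ⊤) ↔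
      Gen F (i z) (RingHom.ker (i.stalkMap z).hom) := by
  let P := (Scheme.Modules.pullback i).obj F
  let g : Γ(P, i ⁻¹ᵁ ⊤) → (P.presheaf.stalk z : Type u) := fun t => P.presheaf.germ (i ⁻¹ᵁ ⊤) z trivial t
  have ginj : Function.Injective g := fun t t' h => M1.section_ext (M := P) (U := i ⁻¹ᵁ ⊤) _ _ fun w hw => by
    obtain rfl := Subsingleton.elim z w
    exact h
  have gsurj : Function.Surjective g := fun b => by
    obtain ⟨U, hU, t, rfl⟩ := P.presheaf.germ_exist b
    have hle : i ⁻¹ᵁ ⊤ ≤ U := fun w _ => by rw [Subsingleton.elim w z]; exact hU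
    exact ⟨M1.mres P hle t, M1.germ_mres P hle trivial t⟩
  have hgu : ∀ s : Γ(F, ⊤), g (((Scheme.Modules.pullbackPushforwardAdjunction i).unit.app F).app ⊤ s) =
      M2.stalkUnit i z F (F.presheaf.germ ⊤ (i z) trivial s) := fun s =>
    (M2.stalkUnitHom_germ i z F (U := ⊤) trivial s).symm
  have hu : ∀ a, M2.stalkUnit i z F a = M2.pullStalkEquiv i z F (1 ⊗ₜ a) := fun a =>
    (LinearMap.liftBaseChange_one_tmul _ (M2.stalkUnit i z F) a).symm
  have husurj : Function.Surjective (M2.stalkUnit i z F) := fun b => by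
    have key : ∀ w : M2.BC i z F, ∃ a, (1 : Z.presheaf.stalk z) ⊗ₜ[X.presheaf.stalk (i z)] a = w := fun w => by
      induction w using TensorProduct.induction_on with
      | zero => exact ⟨0, TensorProduct.tmul_zero _ _⟩
      | tmul c a =>
        obtain ⟨r, rfl⟩ := i.stalkMap_surjective z c
        exact ⟨r • a, by rw [← TensorProduct.smul_tmul, Algebra.smul_def, mul_one]; rfl⟩
      | add a b ha hb =>
        obtain ⟨p, rfl⟩ := ha
        obtain ⟨q, rfl⟩ := hb
        exact ⟨p + q, TensorProduct.tmul_add _ _ _⟩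
    obtain ⟨a, ha⟩ := key ((M2.pullStalkEquiv i z F).symm b)
    exact ⟨a, by rw [hu, ha, LinearEquiv.apply_symm_apply]⟩
  have hker : ∀ a, M2.stalkUnit i z F a = 0 ↔ a ∈ RingHom.ker (i.stalkMap z).hom •
      (⊤ : Submodule (X.presheaf.stalk (i z)) (F.presheaf.stalk (i z) : Type u)) := fun a => by
    refine ⟨fun h => FormalH7.tmul_one_eq_zero_mem (S := Z.presheaf.stalk z) (i.stalkMap_surjective z) _ ?_, fun h => ?_⟩
    · exact (M2.pullStalkEquiv i z F).injective (by rw [← hu, h, map_zero])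
    · refine Submodule.smul_induction_on h (fun r hr m _ => ?_) fun p q hp hq => by rw [map_add, hp, hq, add_zero]
      rw [map_smul]
      show (i.stalkMap z).hom r • M2.stalkUnit i z F m = 0
      rw [RingHom.mem_ker.1 hr, zero_smul]
  constructor
  · intro hs a
    obtain ⟨t, ht⟩ := gsurj (M2.stalkUnit i z F a)
    obtain ⟨s, rfl⟩ := hs t
    exact ⟨s, (hker _).1 (by rw [map_sub, ← hgu, ht, sub_self])⟩
  · intro hG t
    obtain ⟨a, ha⟩ := husurj (g t)
    obtain ⟨s, hs⟩ := hG a
    refine ⟨s, ginj ?_⟩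
    rw [hgu, ← ha, ← sub_eq_zero, ← map_sub]
    exact (hker _).2 hs

theorem gen_congr {X : Scheme.{u}} (F : X.Modules) (U : X.affineOpens) (I : Ideal Γ(X, U.1)) {x y : X} (h : y = x)
    (hy : y ∈ U.1) (hx : x ∈ U.1) :
    Gen F y (I.map (X.presheaf.germ U.1 y hy).hom) ↔ Gen F x (I.map (X.presheaf.germ U.1 x hx).hom) := by
  subst h; rfl

/-- Separation of jets on stalks. -/
theorem separatesJets_iff {X : Scheme.{u}} (x : X) (hx : IsClosed ({x} : Set X)) (U : X.affineOpens) (hU : x ∈ U.1)
    (F : X.Modules) (l : ℕ) :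
    SeparatesJets F x hx l ↔
      Gen F x ((((pointIdeal x hx).ideal U).map (X.presheaf.germ U.1 x hU).hom) ^ (l + 1)) := by
  let I := (pointIdeal x hx) ^ (l + 1)
  have hr : Set.range I.subschemeι = {x} := by
    rw [Scheme.IdealSheafData.range_subschemeι, Scheme.IdealSheafData.support_pow_succ, pointIdeal,
      Scheme.IdealSheafData.coe_support_vanishingIdeal]
    rfl
  haveI : Subsingleton I.subscheme := ⟨fun a b => I.subschemeι.isClosedEmbedding.injective (by
    have ha : I.subschemeι a ∈ ({x} : Set X) := hr ▸ ⟨a, rfl⟩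
    have hb : I.subschemeι b ∈ ({x} : Set X) := hr ▸ ⟨b, rfl⟩
    exact ha.trans hb.symm)⟩
  obtain ⟨z, hz⟩ : x ∈ Set.range I.subschemeι := by rw [hr]; rfl
  have hzU : I.subschemeι z ∈ U.1 := hz.symm ▸ hU
  refine (surjective_H0_iff _).trans ((surjective_unit_iff I.subschemeι z F).trans ?_)
  rw [FormalH7.ker_stalkMap_subscheme I U z hzU, gen_congr F U _ hz hzU hU]
  simp only [I, Scheme.IdealSheafData.ideal_pow, Pi.pow_apply, Ideal.map_pow]

/-- The algebra of the statement. -/
theorem tensor_gen {R M N : Type u} [CommRing R] [AddCommGroup M] [Module R M] [AddCommGroup N] [Module R N]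
    (m : Ideal R) (SM : Set M) (SN : Set N) (W : AddSubgroup (M ⊗[R] N))
    (hW : ∀ s ∈ SM, ∀ t ∈ SN, s ⊗ₜ[R] t ∈ W) {i j : ℕ}
    (hM : ∀ a : M, ∃ s ∈ SM, s - a ∈ m ^ (i + 1) • (⊤ : Submodule R M))
    (hN : ∀ b : N, ∃ t ∈ SN, t - b ∈ m ^ (j + 1) • (⊤ : Submodule R N)) (v : M ⊗[R] N) :
    ∃ w ∈ W, w - v ∈ m ^ (i + j + 1) • (⊤ : Submodule R (M ⊗[R] N)) := by
  let T : ℕ → Submodule R (M ⊗[R] N) := fun k => m ^ k • ⊤
  have hT : ∀ {p q : ℕ}, q ≤ p → T p ≤ T q := fun h => Submodule.smul_mono_left (Ideal.pow_le_pow_right h)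
  have hl : ∀ {p q : ℕ} (r : R) (u : M) (b : N), r ∈ m ^ p → u ∈ m ^ q • (⊤ : Submodule R M) →
      r • (u ⊗ₜ[R] b) ∈ T (p + q) := fun {p q} r u b hr hu => by
    have : u ⊗ₜ[R] b ∈ T q := by
      refine Submodule.smul_induction_on hu (fun c hc n _ => ?_) fun a a' ha ha' => ?_
      · rw [← TensorProduct.smul_tmul']; exact Submodule.smul_mem_smul hc trivial
      · rw [TensorProduct.add_tmul]; exact add_mem ha ha'
    show _ ∈ m ^ (p + q) • ⊤
    rw [pow_add, Submodule.mul_smul]
    exact Submodule.smul_mem_smul hr this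
  have hr' : ∀ {p q : ℕ} (r : R) (a : M) (u : N), r ∈ m ^ p → u ∈ m ^ q • (⊤ : Submodule R N) →
      r • (a ⊗ₜ[R] u) ∈ T (p + q) := fun {p q} r a u hr hu => by
    have : a ⊗ₜ[R] u ∈ T q := by
      refine Submodule.smul_induction_on hu (fun c hc n _ => ?_) fun b b' hb hb' => ?_
      · rw [TensorProduct.tmul_smul]; exact Submodule.smul_mem_smul hc trivial
      · rw [TensorProduct.tmul_add]; exact add_mem hb hb'
    show _ ∈ m ^ (p + q) • ⊤
    rw [pow_add, Submodule.mul_smul]
    exact Submodule.smul_mem_smul hr this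
  -- one step
  have step : ∀ k ≤ i + j, ∀ v ∈ T k, ∃ w ∈ W, w - v ∈ T (k + 1) := fun k hk v hv => by
    refine Submodule.smul_induction_on hv (fun r hr u hu => ?_) fun a b ha hb => ?_
    · clear hu
      induction u using TensorProduct.induction_on with
      | zero => exact ⟨0, W.zero_mem, by rw [smul_zero, sub_zero]; exact Submodule.zero_mem _⟩
      | add a b ha hb =>
        obtain ⟨p, hp, hp'⟩ := ha
        obtain ⟨q, hq, hq'⟩ := hb
        exact ⟨p + q, W.add_mem hp hq, by rw [smul_add, add_sub_add_comm]; exact add_mem hp' hq'⟩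
      | tmul a b =>
        have hk' : k = min k i + (k - min k i) := by omega
        rw [hk', pow_add] at hr
        refine Submodule.mul_induction_on hr (fun c hc d hd => ?_) fun p q hp hq => ?_
        · obtain ⟨s, hs, hs'⟩ := hM (c • a)
          obtain ⟨t, ht, ht'⟩ := hN (d • b)
          refine ⟨s ⊗ₜ t, hW s hs t ht, ?_⟩
          have e : s ⊗ₜ[R] t - (c * d) • (a ⊗ₜ[R] b) =
              (1 : R) • ((s - c • a) ⊗ₜ[R] (t - d • b)) + c • (a ⊗ₜ[R] (t - d • b)) + d • ((s - c • a) ⊗ₜ[R] b) := by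
            simp only [TensorProduct.sub_tmul, TensorProduct.tmul_sub, ← TensorProduct.smul_tmul',
              TensorProduct.tmul_smul]
            module
          rw [e]
          refine add_mem (add_mem ?_ ?_) ?_
          · have h1 : (1 : R) • ((s - c • a) ⊗ₜ[R] (t - d • b)) ∈ T (0 + (i + 1)) :=
              hl 1 _ _ (by simp) hs'
            by_cases hki : k ≤ i
            · exact hT (by omega) h1
            · refine hT (show k + 1 ≤ (i + 1) + (j + 1) by omega) ?_
              rw [one_smul]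
              refine Submodule.smul_induction_on hs' (fun c' hc' n _ => ?_) fun p q hp hq => ?_
              · rw [← TensorProduct.smul_tmul']
                exact hr' c' n _ hc' ht'
              · rw [TensorProduct.add_tmul]; exact add_mem hp hq
          · exact hT (by omega) (hr' c a _ hc ht')
          · exact hT (by omega) (hl d _ b hd hs')
        · obtain ⟨w, hw, hw'⟩ := hp
          obtain ⟨w', hw2, hw3⟩ := hq
          exact ⟨w + w', W.add_mem hw hw2, by rw [add_smul, add_sub_add_comm]; exact add_mem hw' hw3⟩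
    · obtain ⟨p, hp, hp'⟩ := ha
      obtain ⟨q, hq, hq'⟩ := hb
      exact ⟨p + q, W.add_mem hp hq, by rw [add_sub_add_comm]; exact add_mem hp' hq'⟩
  suffices h : ∀ n ≤ i + j + 1, ∃ w ∈ W, w - v ∈ T n from h _ le_rfl
  intro n hn
  induction n with
  | zero => exact ⟨0, W.zero_mem, by show _ ∈ m ^ 0 • ⊤; simp⟩
  | succ n ih =>
    obtain ⟨w, hw, hw'⟩ := ih (by omega)
    obtain ⟨w', hw2, hw3⟩ := step n (by omega) _ hw'
    refine ⟨w - w', W.sub_mem hw hw2, ?_⟩
    have e : w - w' - v = -(w' - (w - v)) := by abel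
    rw [e]
    exact neg_mem hw3

/-- Let X be a scheme, x a closed point of X with ideal sheaf m_x, and F, G quasi-coherent O_X-modules
of finite type (coherent modules when X is locally Noetherian). A module M separates l-jets at x
when the restriction map H^0(X, M) → H^0(X, M / m_x^(l+1) M) is surjective. If F separates i-jets at
x and G separates j-jets at x, with i, j ≥ 0, then F ⊗ G separates (i+j)-jets at x; in other words
s(F; x) + s(G; x) ≤ s(F ⊗ G; x) whenever both terms are ≥ 0, where s(M; x) is the largest l such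
that M separates l-jets at x. -/
theorem result (X : Scheme.{u}) (x : X) (hx : IsClosed ({x} : Set X))
    (F G : X.Modules) (hF : Coh.IsCoh F) (hG : Coh.IsCoh G) (i j : ℕ)
    (hi : W4c2seshadripos.SeparatesJets F x hx i) (hj : W4c2seshadripos.SeparatesJets G x hx j) :
    W4c2seshadripos.SeparatesJets (CohB1.tensorMod F G) x hx (i + j) := by
  obtain ⟨U, hU, hxU, -⟩ := exists_isAffineOpen_mem_and_subset (x := x) (U := ⊤) trivial
  rw [separatesJets_iff x hx ⟨U, hU⟩ hxU] at hi hj ⊢
  generalize ((pointIdeal x hx).ideal ⟨U, hU⟩).map (X.presheaf.germ U x hxU).hom = m at hi hj ⊢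
  intro v
  let e := M2.stalkEquiv F G x
  let W : AddSubgroup ((F.presheaf.stalk x : Type u) ⊗[X.presheaf.stalk x] (G.presheaf.stalk x : Type u)) :=
    ((e.toLinearMap.toAddMonoidHom).comp
      ((CohB1.tensorMod F G).presheaf.germ ⊤ x trivial).hom).range
  obtain ⟨w, ⟨s, hsw⟩, hw⟩ := tensor_gen m (Set.range fun s : Γ(F, ⊤) => F.presheaf.germ ⊤ x trivial s)
    (Set.range fun t : Γ(G, ⊤) => G.presheaf.germ ⊤ x trivial t) W
    (by
      rintro _ ⟨s, rfl⟩ _ ⟨t, rfl⟩
      exact ⟨M2.tsec F G s t, M2.stalkEquiv_tsec F G (U := ⊤) x trivial s t⟩)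
    (fun a => let ⟨s, hs⟩ := hi a; ⟨_, ⟨s, rfl⟩, hs⟩)
    (fun b => let ⟨t, ht⟩ := hj b; ⟨_, ⟨t, rfl⟩, ht⟩) (e v)
  refine ⟨s, ?_⟩
  have h2 := Submodule.mem_map_of_mem (f := e.symm.toLinearMap) hw
  rw [Submodule.map_smul'', Submodule.map_top, LinearEquiv.range] at h2
  convert h2 using 1
  rw [← hsw]
  show _ = e.symm (e _ - e v)
  rw [← map_sub, e.symm_apply_apply]

end Groth.Agent.S15253
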