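import Groth.Statements.S15254
import Groth.Agent.Lib.IdealPowVan13.Basic

set_option autoImplicit false
set_option backward.isDefEq.respectTransparency false
set_option backward.isDefEq.respectTransparency.types false
universe u
open CategoryTheory CategoryTheory.Limits AlgebraicGeometry TopologicalSpace
open W4c2seshadripos

namespace Groth.Agent.S15254

/-- Let X be an integral scheme proper over a field k (the published statement: a projective variety), x
a closed point of X with ideal sheaf m_x, and L an ample invertible O_X-module. Then there is m₀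
such that for every m ≥ m₀, every i > 1 and every a ≥ 0 the cohomology group H^i(X, m_x^a ⊗ L^{⊗m})
vanishes (here m_x^a ⊗ L^{⊗m} = m_x^a · L^{⊗m}, the ideal sheaf m_x^a being taken as an O_X-module). -/
theorem result (k : Type u) [Field k] (X : Scheme.{u})
    [X.Over (Spec (CommRingCat.of k))] [IsProper (X ↘ (Spec (CommRingCat.of k)))] [IsIntegral X]
    (x : X) (hx : IsClosed ({x} : Set X)) (L : X.Modules) (hL : CohB1.IsAmple L) :
    ∃ m₀ : ℕ, ∀ m : ℕ, m₀ ≤ m → ∀ i : ℕ, 1 < i → ∀ a : ℕ,
      Subsingleton (Coh.HH X (CohB1.tensorMod (ClSub.idealMod ((W4c2seshadripos.pointIdeal x hx) ^ a))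
        (CohB1.tensorPow L m)) i) := by
  haveI : IsNoetherian X := CohFound.isNoetherian_of_isProper (X ↘ (Spec (CommRingCat.of k)))
  obtain ⟨n₀, hn₀⟩ := (S0051.result k X (X ↘ (Spec (CommRingCat.of k))) L hL.1).1 hL
    (Coh.structureModule X) (M1.isCoh_structureModule X)
  exact ⟨n₀, fun m hm i hi a => IdealPowVan13.subsingleton_twist_pow x hx k (M2.isInvertible_tensorPow hL.1 m)
    hi a (hn₀ m hm i (by omega))⟩

end Groth.Agent.S15254
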