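import Groth.Statements.S1526
import Groth.Agent.Lib.Supp18.Points
import Groth.Agent.Lib.VarDim.Irred

set_option autoImplicit false
universe u
open CategoryTheory CategoryTheory.Limits AlgebraicGeometry
open Variety

namespace Groth.Agent.S1526

/-- On a proper scheme over a field, a coherent module whose support has dimension at most zero has
vanishing cohomology in all positive degrees. -/
theorem result (k : Type u) [Field k] (X : Scheme.{u}) [X.Over (Spec (CommRingCat.of k))] [IsProper (X ↘ (Spec (CommRingCat.of k)))]
    (F : X.Modules) (hF : Coh.IsCoh F) (hsupp : topologicalKrullDim (CohB1.support F) ≤ 0)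
    (i : ℕ) (hi : 1 ≤ i) : Subsingleton (Coh.HH X F i) := by
  set f := X ↘ Spec (CommRingCat.of k)
  haveI : CompactSpace X := QuasiCompact.compactSpace_of_compactSpace f
  haveI : TopologicalSpace.NoetherianSpace ↑X.toPresheafedSpace := VarDim.noetherianSpace_of_finiteType f
  have hcl : IsClosed (CohB1.support F) := M1.isClosed_support hF.2
  obtain ⟨hfin, hpts⟩ := Supp18.finite_and_isClosed (X := X.toPresheafedSpace.carrier) hcl hsupp
  haveI : TopCat.Sheaf.IsFlasque (Coh.toAb F) := Supp18.isFlasque (Coh.toAb F) hfin hpts fun x hx =>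
    not_not.1 hx
  obtain ⟨n, rfl⟩ := Nat.exists_eq_add_of_le' hi
  exact (Groth.Agent.CohFound.hExt (Coh.toAb F) (n + 1)).toEquiv.subsingleton_congr.2
    (Groth.Agent.CohFound.subsingleton_hc_of_isFlasque (Coh.toAb F) n ⊤)

end Groth.Agent.S1526
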