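import Groth.Statements.S15267
import Groth.Agent.Lib.SemiAb10.Fil
import Groth.Agent.Lib.SemiAb10.Chart
import Groth.Agent.Lib.SemiAb10.Point

set_option autoImplicit false
set_option maxHeartbeats 800000
set_option linter.style.haveILetI false
set_option backward.isDefEq.respectTransparency false
open CategoryTheory CategoryTheory.Limits AlgebraicGeometry
open Coherent

namespace Groth.Agent.S15267

open Groth.Agent Groth.Agent.ShStab28

theorem free_of_fil {X : Scheme.{0}} {x : X} {P : X.Modules → Prop}
    (hP : ∀ F, P F → Coh.IsQCoh F ∧ SemiAb10.FreeNear x F) {M : X.Modules} (h : Sys.Fil P M) :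
    Module.Free (X.presheaf.stalk x) (M.presheaf.stalk x) := by
  induction h with
  | @zero M h =>
    haveI : Subsingleton (M.presheaf.stalk x : Type 0) := AddCommGrpCat.subsingleton_of_isZero
      ((Scheme.Modules.toPresheaf X ⋙ TopCat.Presheaf.stalkFunctor _ x).map_isZero h)
    exact Module.Free.of_subsingleton _ _
  | @ext M F b hb _ hF ih =>
    haveI := hb
    haveI := ih
    obtain ⟨U, n, hxU, ⟨e⟩⟩ := (hP F hF).2
    haveI := M1.free_stalk_of_freeMod (hP F hF).1 e hxU
    exact SemiAb10.free_stalk_of_epi b x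

/-- Over the complex numbers, let X be an irreducible proper scheme of dimension d with an ample
invertible sheaf L, and let ξ be a complex point of X. Let E and F be coherent sheaves on X which
are semistable of dimension d with respect to L (nonzero, pure of dimension d, and the reduced
Hilbert polynomial of every nonzero proper coherent subsheaf is at most that of the sheaf for large
arguments), with the same reduced Hilbert polynomial (r(F)·p_E = r(E)·p_F for Hilbert polynomials
p_E, p_F, r denoting d! times the degree-d coefficient), and suppose that each of E and F has a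
filtration by coherent subsheaves with stable d-dimensional successive quotients of the same reduced
Hilbert polynomial whose associated graded sheaf (the direct sum of the quotients) is finite locally
free on some open neighbourhood of ξ. Then every morphism f from E to F whose pull-back along ξ is
the zero map is zero. (The published statement is for modules over a sheaf of rings of differential
operators on a projective flat family X over S with irreducible fibres of dimension d and a section
ξ, the conditions being imposed on all closed fibres; this row is the case of the structure sheaf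
over a single complex fibre, to which the published proof reduces.) -/
theorem result
    (X : Scheme.{0}) [X.Over (Spec (CommRingCat.of ℂ))] [IsProper (X ↘ Spec (CommRingCat.of ℂ))]
    [IrreducibleSpace X] (d : ℕ) (hX : topologicalKrullDim X = (d : WithBot ℕ∞))
    (L : X.Modules) (hL : CohB1.IsAmple L)
    (E F : X.Modules) (hE : ShStab.IsSemistable ℂ X L E d) (hF : ShStab.IsSemistable ℂ X L F d)
    (pE pF : Polynomial ℚ) (hpE : ShStab.IsHilbPoly ℂ X L E pE) (hpF : ShStab.IsHilbPoly ℂ X L F pF)
    (hred : StabCat.RedEq d pE pF)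
    (ξ : Spec (CommRingCat.of ℂ) ⟶ X) (hξ : ξ ≫ (X ↘ Spec (CommRingCat.of ℂ)) = 𝟙 (Spec (CommRingCat.of ℂ)))
    (sE : LTSeries (Subobject E)) (hsE : ShStab.IsJHFiltration ℂ X L E d sE)
    (hgrE : ∀ x ∈ Set.range ξ.base, ∃ U : X.Opens, x ∈ U ∧ FlatMod.IsFinLocFree ((StabCat.grObj sE).restrict U.ι))
    (sF : LTSeries (Subobject F)) (hsF : ShStab.IsJHFiltration ℂ X L F d sF)
    (hgrF : ∀ x ∈ Set.range ξ.base, ∃ U : X.Opens, x ∈ U ∧ FlatMod.IsFinLocFree ((StabCat.grObj sF).restrict U.ι))
    (f : E ⟶ F) (hf : (Scheme.Modules.pullback ξ).map f = 0) : f = 0 := by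
  by_contra hf0
  have hi := hL.1
  have hpos := ShStab28.positive ℂ hL
  obtain ⟨hE0, hE'⟩ := (isSemistable_iff hi hpos).mp hE
  obtain ⟨hF0, hF'⟩ := (isSemistable_iff hi hpos).mp hF
  let S := ShStab28.sys ℂ X L hi hpos
  obtain ⟨hh, hl, hfF⟩ := (isJHFiltration_iff hi hpos hF.1).mp hsF
  rw [(hp_iff hi hE.1).mp hpE, (hp_iff hi hF.1).mp hpF] at hred
  have hR : StabCat.alpha d (S.hp F) ≠ 0 := (hF'.1.alpha_pos hF0).ne'
  obtain ⟨-, hiF, -, -, -, -⟩ := S.redDiff_eq_of_hom hE' hF' hE0 hF0 hred f
  have hFg : S.Good d (S.hp F) F := ⟨hF', sub_self _⟩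
  have hEg : S.Good d (S.hp F) E := ⟨hE', redEq_iff.mp hred⟩
  have hQg : S.Good d (S.hp F) (cokernel f) := (S.good_ker_coker hR hEg hFg f).2
  let a := Abelian.image.ι f
  have hQg' : S.Good d (S.hp F) (cokernel a) := (S.good_ker_coker hR (S.good_ker_coker hR hFg hQg (cokernel.π f)).1 hFg a).2
  haveI : IsClosedImmersion ξ := by
    haveI : IsClosedImmersion (ξ ≫ (X ↘ Spec (CommRingCat.of ℂ))) := by rw [hξ]; infer_instance
    exact IsClosedImmersion.of_comp ξ (X ↘ Spec (CommRingCat.of ℂ))
  let y : ↥(Spec (CommRingCat.of ℂ)) := Classical.arbitrary _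
  let P : X.Modules → Prop := fun G =>
    (S.St d d G ∧ redDiff d (S.hp G) (S.hp F) = 0) ∧ SemiAb10.FreeNear (ξ y) G
  have hfil : Sys.Fil P F := Sys.Fil.of_series sF hh hl fun i =>
    ⟨⟨(hfF i).1, redEq_iff.mp (hfF i).2⟩, by
      obtain ⟨U, hxU, hU⟩ := hgrF (ξ y) ⟨y, rfl⟩
      exact SemiAb10.freeNear_summand _ hxU hU i⟩
  haveI : Module.Free (X.presheaf.stalk (ξ y)) ((cokernel a).presheaf.stalk (ξ y)) :=
    free_of_fil (P := P) (fun G h => ⟨(h.1.1.1.1 : Coh.IsCoh G).1, h.2⟩)
      (Sys.Fil.quot S hR (fun G h => h.1) hfil _ (cokernel.π a) inferInstance hFg hQg')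
  have hIok : Coh.IsCoh (Abelian.image f) := S.ok_image f hE.1 hF.1
  haveI : (Scheme.Modules.pullback ξ).IsLeftAdjoint :=
    (Scheme.Modules.pullbackPushforwardAdjunction ξ).isLeftAdjoint
  have ha : (Scheme.Modules.pullback ξ).map a = 0 := by
    rw [← cancel_epi ((Scheme.Modules.pullback ξ).map (Abelian.factorThruImage f)), comp_zero, ← Functor.map_comp,
      Abelian.image.fac]
    exact hf
  have hsub := SemiAb10.subsingleton_stalk_of_pullback_eq_zero ξ y a hIok ha
  have hdim := hF.2.2.1 (Abelian.image f) a inferInstance hIok (Sys.image_ne_zero hf0)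
  have huniv := SemiAb10.eq_univ_of_dim (M1.isClosed_support hIok.2) hX hdim
  exact (huniv.symm ▸ Set.mem_univ (ξ y) : ξ y ∈ CohB1.support (Abelian.image f)) hsub

end Groth.Agent.S15267
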