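import Groth.Statements.S15270
import Groth.Agent.Lib.SemiAb10.Fil
import Groth.Agent.Lib.SemiAb10.Chart
import Groth.Agent.Lib.SemiAb10.Point
import Groth.Agent.Lib.ModM1.LocFree
import Groth.Agent.Lib.ModM1.Pull
import Groth.Agent.Lib.KFlat.FinLocFree
import Groth.Agent.Lib.Cyc26.PullKer
import Groth.Agent.S0394
import Groth.Agent.Lib.ProjSpace.Basic

set_option autoImplicit false
set_option maxHeartbeats 1000000
set_option linter.style.haveILetI false
set_option backward.isDefEq.respectTransparency false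
open CategoryTheory CategoryTheory.Limits AlgebraicGeometry
open Coherent

namespace Groth.Agent.S15270

open Groth.Agent TensorProduct

/-- A module with a filtration by modules free near a point has free stalk there. -/
theorem free_of_series {X : Scheme.{0}} {x : X} {M : X.Modules} (s : LTSeries (Subobject M))
    (hh : s.head = ⊥) (hl : s.last = ⊤) (h : ∀ i, Coh.IsQCoh (StabCat.factor s i) ∧ SemiAb10.FreeNear x (StabCat.factor s i)) :
    Module.Free (X.presheaf.stalk x) (M.presheaf.stalk x) := by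
  have hf : ShStab28.Sys.Fil (fun G : X.Modules => Coh.IsQCoh G ∧ SemiAb10.FreeNear x G) M :=
    ShStab28.Sys.Fil.of_series s hh hl h
  clear h hl hh s
  induction hf with
  | @zero M h =>
    haveI : Subsingleton (M.presheaf.stalk x : Type 0) := AddCommGrpCat.subsingleton_of_isZero
      ((Scheme.Modules.toPresheaf X ⋙ TopCat.Presheaf.stalkFunctor _ x).map_isZero h)
    exact Module.Free.of_subsingleton _ _
  | @ext M G b hb _ hG ih =>
    haveI := hb
    haveI := ih
    obtain ⟨U, n, hxU, ⟨e⟩⟩ := hG.2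
    haveI := M1.free_stalk_of_freeMod hG.1 e hxU
    exact SemiAb10.free_stalk_of_epi b x

/-- A flat module with free restriction to the fibre has free stalk. -/
theorem free_stalk_of_fibre {S X T P : Scheme.{0}} [IsLocallyNoetherian S] [IsLocallyNoetherian X] (g : X ⟶ S) (t : T ⟶ S)
    [IsClosedImmersion t] {p : P ⟶ X} {q : P ⟶ T} (hpb : IsPullback p q g t) (F : X.Modules) (hF : Coh.IsCoh F)
    (hfl : FlatMod.IsFlatOver g F) (z : P)
    [hz : Module.Free (P.presheaf.stalk z) (((Scheme.Modules.pullback p).obj F).presheaf.stalk z)] :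
    Module.Free (X.presheaf.stalk (p z)) (F.presheaf.stalk (p z)) := by
  haveI : IsClosedImmersion p := MorphismProperty.of_isPullback hpb.flip ‹IsClosedImmersion t›
  by_cases hN : Subsingleton (F.presheaf.stalk (p z) : Type 0)
  · exact Module.Free.of_subsingleton _ _
  haveI : Nontrivial (F.presheaf.stalk (p z) : Type 0) := not_subsingleton_iff_nontrivial.mp hN
  letI algR : Algebra (S.presheaf.stalk (g (p z))) (X.presheaf.stalk (p z)) := (g.stalkMap (p z)).hom.toAlgebra
  letI modR : Module (S.presheaf.stalk (g (p z))) (F.presheaf.stalk (p z)) := FlatMod.moduleStalkOver g F (p z)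
  haveI : IsScalarTower (S.presheaf.stalk (g (p z))) (X.presheaf.stalk (p z)) (F.presheaf.stalk (p z)) :=
    IsScalarTower.of_algebraMap_smul fun r m => rfl
  haveI : Module.Flat (S.presheaf.stalk (g (p z))) (F.presheaf.stalk (p z)) := hfl (p z)
  haveI : IsLocalHom (algebraMap (S.presheaf.stalk (g (p z))) (X.presheaf.stalk (p z))) :=
    inferInstanceAs (IsLocalHom (g.stalkMap (p z)).hom)
  haveI := M1.finite_stalk hF.1 hF.2 (p z)
  let J := (IsLocalRing.maximalIdeal (S.presheaf.stalk (g (p z)))).map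
    (algebraMap (S.presheaf.stalk (g (p z))) (X.presheaf.stalk (p z)))
  have hK : RingHom.ker (p.stalkMap z).hom ≤ J := by
    refine (Cyc26.ker_stalkMap_pullback_fst g t hpb z).trans ?_
    rw [Cyc26.stalkTo, ← Ideal.map_map]
    refine Ideal.map_mono (Ideal.map_le_iff_le_comap.mpr fun a ha => ?_)
    refine Ideal.mem_comap.mpr ((IsLocalRing.mem_maximalIdeal _).mpr fun hu => ?_)
    have e : t (q z) = g (p z) := by rw [← Scheme.Hom.comp_apply, ← Scheme.Hom.comp_apply, hpb.w]
    haveI : IsIso (S.presheaf.stalkSpecializes (specializes_of_eq e.symm)) :=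
      ⟨S.presheaf.stalkSpecializes (specializes_of_eq e), by simp, by simp⟩
    exact ((hu.of_map _ a).map (t.stalkMap (q z)).hom).ne_zero (RingHom.mem_ker.1 ha)
  letI algT : Algebra (X.presheaf.stalk (p z)) (P.presheaf.stalk z) := (p.stalkMap z).hom.toAlgebra
  letI algQ : Algebra (P.presheaf.stalk z) (X.presheaf.stalk (p z) ⧸ J) :=
    ((p.stalkMap z).hom.liftOfSurjective (p.stalkMap_surjective z)
      ⟨Ideal.Quotient.mk J, fun a ha => Ideal.Quotient.eq_zero_iff_mem.2 (hK ha)⟩).toAlgebra
  haveI : IsScalarTower (X.presheaf.stalk (p z)) (P.presheaf.stalk z) (X.presheaf.stalk (p z) ⧸ J) :=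
    IsScalarTower.of_algebraMap_eq fun a =>
      (RingHom.liftOfSurjective_comp_apply (f := (p.stalkMap z).hom) (p.stalkMap_surjective z)
        ⟨Ideal.Quotient.mk J, fun a ha => Ideal.Quotient.eq_zero_iff_mem.2 (hK ha)⟩ a).symm
  haveI : Module.Free (P.presheaf.stalk z) ((P.presheaf.stalk z) ⊗[X.presheaf.stalk (p z)] (F.presheaf.stalk (p z))) :=
    Module.Free.of_equiv (M2.pullStalkEquiv p z F).symm
  have hfree : Module.Free (X.presheaf.stalk (p z) ⧸ J)
      ((X.presheaf.stalk (p z) ⧸ J) ⊗[X.presheaf.stalk (p z)] (F.presheaf.stalk (p z))) :=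
    Module.Free.of_equiv (TensorProduct.AlgebraTensorModule.cancelBaseChange (X.presheaf.stalk (p z)) (P.presheaf.stalk z)
      (X.presheaf.stalk (p z) ⧸ J) (X.presheaf.stalk (p z) ⧸ J) (F.presheaf.stalk (p z)))
  exact (S0394.result (R := S.presheaf.stalk (g (p z))) (S := X.presheaf.stalk (p z))
    (M := (F.presheaf.stalk (p z) : Type 0)) hfree).1

/-- Over the complex numbers, let S be a separated scheme of finite type, X a closed subscheme of
projective n-space over S which is flat over S, and ξ a section of X over S. Let F be a coherent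
sheaf on X, flat over S, such that for every complex point t of S the restriction F_t to the fibre
X_t, polarised by the pull-back of O(1), is semistable of dimension d (nonzero, pure of dimension d,
reduced Hilbert polynomials of nonzero proper coherent subsheaves at most that of F_t for large
arguments) and has a filtration by coherent subsheaves with stable d-dimensional successive
quotients of the reduced Hilbert polynomial of F_t whose associated graded sheaf is finite locally
free on an open neighbourhood of the point ξ(t). Then F is locally free along ξ: for every complex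
point t of S, F is finite locally free on an open neighbourhood of the point ξ(t) of X. (The
published statement is for modules over a sheaf of rings of differential operators, on a projective
flat family with irreducible fibres of dimension d, and uses closed points; this row is the case of
the structure sheaf with complex points, which are the closed points here, and does not assume the
fibres irreducible.) -/
theorem result
    (S : Scheme.{0}) (sS : S ⟶ Spec (CommRingCat.of ℂ)) [LocallyOfFiniteType sS] [QuasiCompact sS] [IsSeparated sS]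
    (n : ℕ) (X : Scheme.{0}) (i : X ⟶ CohB1.ProjSpaceOver n S) [IsClosedImmersion i] [Flat (i ≫ (CohB1.ProjSpaceOver n S ↘ S))] (d : ℕ)
    (ξ : S ⟶ X) (hξ : ξ ≫ (i ≫ (CohB1.ProjSpaceOver n S ↘ S)) = 𝟙 S)
    (F : X.Modules) (hF : Coh.IsCoh F) (hFfl : FlatMod.IsFlatOver (i ≫ (CohB1.ProjSpaceOver n S ↘ S)) F)
    (hss : ∀ (t : Spec (CommRingCat.of ℂ) ⟶ S), t ≫ sS = 𝟙 (Spec (CommRingCat.of ℂ)) →
      @ShStab.IsSemistable ℂ _ (PicF.XT (i ≫ (CohB1.ProjSpaceOver n S ↘ S)) (Over.mk t)) ⟨PicF.XTproj (i ≫ (CohB1.ProjSpaceOver n S ↘ S)) (Over.mk t)⟩ ((Scheme.Modules.pullback (pullback.fst (i ≫ (CohB1.ProjSpaceOver n S ↘ S)) (Over.mk t).hom ≫ i)).obj (Twist.twistOver n S 1)) ((Scheme.Modules.pullback (pullback.fst (i ≫ (CohB1.ProjSpaceOver n S ↘ S)) (Over.mk t).hom)).obj F) d)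
    (hLF : ∀ (t : Spec (CommRingCat.of ℂ) ⟶ S), t ≫ sS = 𝟙 (Spec (CommRingCat.of ℂ)) →
      ∃ sF : LTSeries (Subobject ((Scheme.Modules.pullback (pullback.fst (i ≫ (CohB1.ProjSpaceOver n S ↘ S)) (Over.mk t).hom)).obj F)), @ShStab.IsJHFiltration ℂ _ (PicF.XT (i ≫ (CohB1.ProjSpaceOver n S ↘ S)) (Over.mk t)) ⟨PicF.XTproj (i ≫ (CohB1.ProjSpaceOver n S ↘ S)) (Over.mk t)⟩ ((Scheme.Modules.pullback (pullback.fst (i ≫ (CohB1.ProjSpaceOver n S ↘ S)) (Over.mk t).hom ≫ i)).obj (Twist.twistOver n S 1)) ((Scheme.Modules.pullback (pullback.fst (i ≫ (CohB1.ProjSpaceOver n S ↘ S)) (Over.mk t).hom)).obj F) d sF ∧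
        ∀ x ∈ Set.range (PicF.secT (i ≫ (CohB1.ProjSpaceOver n S ↘ S)) ξ hξ (Over.mk t)).base, ∃ V : (PicF.XT (i ≫ (CohB1.ProjSpaceOver n S ↘ S)) (Over.mk t)).Opens, x ∈ V ∧ FlatMod.IsFinLocFree ((StabCat.grObj sF).restrict V.ι))
    (t : Spec (CommRingCat.of ℂ) ⟶ S) (ht : t ≫ sS = 𝟙 (Spec (CommRingCat.of ℂ))) :
    ∀ x ∈ Set.range (t ≫ ξ).base, ∃ U : X.Opens, x ∈ U ∧ FlatMod.IsFinLocFree (F.restrict U.ι) := by
  rintro x ⟨y, rfl⟩
  obtain ⟨sF, ⟨hh, hl, hf⟩, hgr⟩ := hLF t ht
  let g := i ≫ (CohB1.ProjSpaceOver n S ↘ S)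
  let z : ↥(pullback g t) := (PicF.secT g ξ hξ (Over.mk t)).base y
  obtain ⟨U, hzU, hU⟩ := hgr z ⟨y, rfl⟩
  have this_free : Module.Free ((pullback g t).presheaf.stalk z)
      (((Scheme.Modules.pullback (pullback.fst g t)).obj F).presheaf.stalk z) :=
    free_of_series sF hh hl fun j => ⟨((hf j).1.1).1, SemiAb10.freeNear_summand _ hzU hU j⟩
  haveI : IsClosedImmersion t := by
    haveI : IsClosedImmersion (t ≫ sS) := by rw [ht]; infer_instance
    exact IsClosedImmersion.of_comp t sS
  haveI : IsLocallyNoetherian S := LocallyOfFiniteType.isLocallyNoetherian sS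
  haveI : IsLocallyNoetherian X := by
    haveI : LocallyOfFiniteType (CohB1.ProjSpaceOver n S ↘ S) := by
      haveI : IsProper (CohB1.ProjSpaceOver n S ↘ S) := inferInstanceAs (IsProper (CohB1.ProjSpaceOver.toBase n S))
      infer_instance
    haveI : LocallyOfFiniteType g := inferInstanceAs (LocallyOfFiniteType (i ≫ (CohB1.ProjSpaceOver n S ↘ S)))
    exact LocallyOfFiniteType.isLocallyNoetherian g
  have hfree := free_stalk_of_fibre g t (IsPullback.of_hasPullback g t) F hF hFfl z (hz := this_free)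
  have hz : (pullback.fst g t) z = (t ≫ ξ).base y := by
    show ((PicF.secT g ξ hξ (Over.mk t) ≫ pullback.fst g t).base) y = _
    exact congrArg (fun m : (Over.mk t).left ⟶ X => m.base y) (pullback.lift_fst _ _ _)
  rw [hz] at hfree
  obtain ⟨V, m, hV, ⟨e⟩⟩ := M1.exists_freeMod_of_free_stalk (M1.isFP_of_isCoh hF) _ (hx := hfree)
  exact ⟨V, hV, M2.isFinLocFree_of_iso e.symm (KFlat.Sch.isFinLocFree_freeMod _ _)⟩

end Groth.Agent.S15270
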