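import Groth.Statements.S15268
import Groth.Agent.Lib.SemiAb10.RigidCore
import Groth.Agent.Lib.SemiAb10.Chart
import Groth.Agent.Lib.Exact8.StalkBC2
import Groth.Agent.Lib.Cyc26.PullKer
import Groth.Agent.Lib.AmpleField2.QProj
import Groth.Agent.Lib.ProjSpace.Basic
import Groth.Agent.Lib.KCoh4.Loc
import Groth.Agent.Lib.Residual14.OnePoint
import Groth.Agent.S15267
import Groth.Agent.S15270

set_option autoImplicit false
set_option maxHeartbeats 1600000
set_option linter.style.haveILetI false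
set_option backward.isDefEq.respectTransparency false
open CategoryTheory CategoryTheory.Limits AlgebraicGeometry
open Coherent

namespace Groth.Agent.S15268

open Groth.Agent Groth.Agent.CurveCoh17 IsLocalRing

theorem map_comp_zero_iff {A B C : Scheme.{0}} (a : A ⟶ B) (b : B ⟶ C) {E F : C.Modules} (φ : E ⟶ F) :
    (Scheme.Modules.pullback a).map ((Scheme.Modules.pullback b).map φ) = 0 ↔
      (Scheme.Modules.pullback (a ≫ b)).map φ = 0 := by
  have h := (Scheme.Modules.pullbackComp a b).hom.naturality φ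
  constructor
  · intro hz
    rw [← cancel_epi ((Scheme.Modules.pullbackComp a b).hom.app E), ← h, comp_zero]
    show (Scheme.Modules.pullback a).map _ ≫ _ = 0
    rw [hz, zero_comp]
  · intro hz
    rw [← cancel_mono ((Scheme.Modules.pullbackComp a b).hom.app F), zero_comp]
    refine h.trans ?_
    rw [hz, comp_zero]

theorem pullback_zero {A B : Scheme.{0}} (a : A ⟶ B) (E F : B.Modules) :
    (Scheme.Modules.pullback a).map (0 : E ⟶ F) = 0 := by
  haveI : (Scheme.Modules.pullback a).IsLeftAdjoint :=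
    (Scheme.Modules.pullbackPushforwardAdjunction a).isLeftAdjoint
  exact Functor.map_zero _ _ _

/-- Vanishing on the fibres over closed points gives vanishing. -/
theorem eq_zero_of_closed {X : Scheme.{0}} [JacobsonSpace X] [IsNoetherian X] {E F : X.Modules} (hE : Coh.IsCoh E) (hF : Coh.IsCoh F)
    (φ : E ⟶ F) (h : ∀ x : X, IsClosed ({x} : Set X) → ∀ v, stalkLin φ x v = 0) : φ = 0 := by
  have hI : Coh.IsCoh (Abelian.image φ) := KCoh4.isCoh_image hE hF.1 φ
  refine SemiAb10.Rigid.eq_zero_of_stalk φ fun x v => by_contra fun hv => ?_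
  have hx : x ∈ CohB1.support (Abelian.image φ) := fun hs => hv (by
    rw [← Abelian.image.fac φ, SemiAb10.Rigid.stalkLin_comp,
      Subsingleton.elim (stalkLin (Abelian.factorThruImage φ) x v) 0, map_zero])
  obtain ⟨y, hy, hyc⟩ := nonempty_inter_closedPoints ⟨x, hx⟩ (M1.isClosed_support hI.2).isLocallyClosed
  refine hy (subsingleton_of_forall_eq 0 fun u => ?_)
  obtain ⟨w, rfl⟩ := TFOne27.surjective_stalkLin (Abelian.factorThruImage φ) y u
  apply TFOne27.injective_stalkLin (Abelian.image.ι φ) y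
  rw [map_zero, ← SemiAb10.Rigid.stalkLin_comp, Abelian.image.fac]
  exact h y hyc w

/-- Over the complex numbers, let S be a separated scheme of finite type, X a closed subscheme of
projective n-space over S which is flat over S and whose fibre X_t over every complex point t of S
is irreducible of dimension d, and ξ a section of X over S. Let E and F be coherent sheaves on X,
flat over S, such that for every complex point t of S, on the fibre X_t polarised by the pull-back
of O(1): the restrictions E_t and F_t are semistable of dimension d (nonzero, pure of dimension d,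
reduced Hilbert polynomials of nonzero proper coherent subsheaves at most that of the sheaf for
large arguments) with the same reduced Hilbert polynomial (r(F_t)·p_{E_t} = r(E_t)·p_{F_t}, r
denoting d! times the degree-d coefficient), and each of E_t, F_t has a filtration by coherent
subsheaves with stable d-dimensional successive quotients of that reduced Hilbert polynomial whose
associated graded sheaf is finite locally free on an open neighbourhood of the point ξ(t). Then
every morphism φ from E to F whose pull-back along ξ is the zero map is zero. (The published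
statement is for modules over a sheaf of rings of differential operators and imposes the fibre
conditions at the closed points of the base; this row is the case of the structure sheaf, with the
conditions at complex points, which are the closed points here.) -/
theorem result
    (S : Scheme.{0}) (sS : S ⟶ Spec (CommRingCat.of ℂ)) [LocallyOfFiniteType sS] [QuasiCompact sS] [IsSeparated sS]
    (n : ℕ) (X : Scheme.{0}) (i : X ⟶ CohB1.ProjSpaceOver n S) [IsClosedImmersion i] [Flat (i ≫ (CohB1.ProjSpaceOver n S ↘ S))] (d : ℕ)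
    (ξ : S ⟶ X) (hξ : ξ ≫ (i ≫ (CohB1.ProjSpaceOver n S ↘ S)) = 𝟙 S)
    (hfib : ∀ (t : Spec (CommRingCat.of ℂ) ⟶ S), t ≫ sS = 𝟙 (Spec (CommRingCat.of ℂ)) →
      IrreducibleSpace (PicF.XT (i ≫ (CohB1.ProjSpaceOver n S ↘ S)) (Over.mk t)) ∧ topologicalKrullDim (PicF.XT (i ≫ (CohB1.ProjSpaceOver n S ↘ S)) (Over.mk t)) = (d : WithBot ℕ∞))
    (E F : X.Modules) (hE : Coh.IsCoh E) (hF : Coh.IsCoh F)
    (hEfl : FlatMod.IsFlatOver (i ≫ (CohB1.ProjSpaceOver n S ↘ S)) E) (hFfl : FlatMod.IsFlatOver (i ≫ (CohB1.ProjSpaceOver n S ↘ S)) F)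
    (hss : ∀ (t : Spec (CommRingCat.of ℂ) ⟶ S), t ≫ sS = 𝟙 (Spec (CommRingCat.of ℂ)) →
      @ShStab.IsSemistable ℂ _ (PicF.XT (i ≫ (CohB1.ProjSpaceOver n S ↘ S)) (Over.mk t)) ⟨PicF.XTproj (i ≫ (CohB1.ProjSpaceOver n S ↘ S)) (Over.mk t)⟩ ((Scheme.Modules.pullback (pullback.fst (i ≫ (CohB1.ProjSpaceOver n S ↘ S)) (Over.mk t).hom ≫ i)).obj (Twist.twistOver n S 1)) ((Scheme.Modules.pullback (pullback.fst (i ≫ (CohB1.ProjSpaceOver n S ↘ S)) (Over.mk t).hom)).obj E) d ∧
      @ShStab.IsSemistable ℂ _ (PicF.XT (i ≫ (CohB1.ProjSpaceOver n S ↘ S)) (Over.mk t)) ⟨PicF.XTproj (i ≫ (CohB1.ProjSpaceOver n S ↘ S)) (Over.mk t)⟩ ((Scheme.Modules.pullback (pullback.fst (i ≫ (CohB1.ProjSpaceOver n S ↘ S)) (Over.mk t).hom ≫ i)).obj (Twist.twistOver n S 1)) ((Scheme.Modules.pullback (pullback.fst (i ≫ (CohB1.ProjSpaceOver n S ↘ S)) (Over.mk t).hom)).obj F) d ∧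
      ∀ pE pF : Polynomial ℚ, @ShStab.IsHilbPoly ℂ _ (PicF.XT (i ≫ (CohB1.ProjSpaceOver n S ↘ S)) (Over.mk t)) ⟨PicF.XTproj (i ≫ (CohB1.ProjSpaceOver n S ↘ S)) (Over.mk t)⟩ ((Scheme.Modules.pullback (pullback.fst (i ≫ (CohB1.ProjSpaceOver n S ↘ S)) (Over.mk t).hom ≫ i)).obj (Twist.twistOver n S 1)) ((Scheme.Modules.pullback (pullback.fst (i ≫ (CohB1.ProjSpaceOver n S ↘ S)) (Over.mk t).hom)).obj E) pE →
        @ShStab.IsHilbPoly ℂ _ (PicF.XT (i ≫ (CohB1.ProjSpaceOver n S ↘ S)) (Over.mk t)) ⟨PicF.XTproj (i ≫ (CohB1.ProjSpaceOver n S ↘ S)) (Over.mk t)⟩ ((Scheme.Modules.pullback (pullback.fst (i ≫ (CohB1.ProjSpaceOver n S ↘ S)) (Over.mk t).hom ≫ i)).obj (Twist.twistOver n S 1)) ((Scheme.Modules.pullback (pullback.fst (i ≫ (CohB1.ProjSpaceOver n S ↘ S)) (Over.mk t).hom)).obj F) pF → StabCat.RedEq d pE pF)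
    (hLF : ∀ (t : Spec (CommRingCat.of ℂ) ⟶ S), t ≫ sS = 𝟙 (Spec (CommRingCat.of ℂ)) →
      (∃ sE : LTSeries (Subobject ((Scheme.Modules.pullback (pullback.fst (i ≫ (CohB1.ProjSpaceOver n S ↘ S)) (Over.mk t).hom)).obj E)), @ShStab.IsJHFiltration ℂ _ (PicF.XT (i ≫ (CohB1.ProjSpaceOver n S ↘ S)) (Over.mk t)) ⟨PicF.XTproj (i ≫ (CohB1.ProjSpaceOver n S ↘ S)) (Over.mk t)⟩ ((Scheme.Modules.pullback (pullback.fst (i ≫ (CohB1.ProjSpaceOver n S ↘ S)) (Over.mk t).hom ≫ i)).obj (Twist.twistOver n S 1)) ((Scheme.Modules.pullback (pullback.fst (i ≫ (CohB1.ProjSpaceOver n S ↘ S)) (Over.mk t).hom)).obj E) d sE ∧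
          ∀ x ∈ Set.range (PicF.secT (i ≫ (CohB1.ProjSpaceOver n S ↘ S)) ξ hξ (Over.mk t)).base, ∃ U : (PicF.XT (i ≫ (CohB1.ProjSpaceOver n S ↘ S)) (Over.mk t)).Opens, x ∈ U ∧ FlatMod.IsFinLocFree ((StabCat.grObj sE).restrict U.ι)) ∧
      (∃ sF : LTSeries (Subobject ((Scheme.Modules.pullback (pullback.fst (i ≫ (CohB1.ProjSpaceOver n S ↘ S)) (Over.mk t).hom)).obj F)), @ShStab.IsJHFiltration ℂ _ (PicF.XT (i ≫ (CohB1.ProjSpaceOver n S ↘ S)) (Over.mk t)) ⟨PicF.XTproj (i ≫ (CohB1.ProjSpaceOver n S ↘ S)) (Over.mk t)⟩ ((Scheme.Modules.pullback (pullback.fst (i ≫ (CohB1.ProjSpaceOver n S ↘ S)) (Over.mk t).hom ≫ i)).obj (Twist.twistOver n S 1)) ((Scheme.Modules.pullback (pullback.fst (i ≫ (CohB1.ProjSpaceOver n S ↘ S)) (Over.mk t).hom)).obj F) d sF ∧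
          ∀ x ∈ Set.range (PicF.secT (i ≫ (CohB1.ProjSpaceOver n S ↘ S)) ξ hξ (Over.mk t)).base, ∃ U : (PicF.XT (i ≫ (CohB1.ProjSpaceOver n S ↘ S)) (Over.mk t)).Opens, x ∈ U ∧ FlatMod.IsFinLocFree ((StabCat.grObj sF).restrict U.ι)))
    (φ : E ⟶ F) (hφ : (Scheme.Modules.pullback ξ).map φ = 0) : φ = 0 := by
  let g := i ≫ (CohB1.ProjSpaceOver n S ↘ S)
  haveI : IsLocallyNoetherian S := LocallyOfFiniteType.isLocallyNoetherian sS
  haveI hgp : IsProper g := by
    haveI : IsProper (CohB1.ProjSpaceOver n S ↘ S) := inferInstanceAs (IsProper (CohB1.ProjSpaceOver.toBase n S))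
    exact inferInstanceAs (IsProper (i ≫ (CohB1.ProjSpaceOver n S ↘ S)))
  haveI : IsLocallyNoetherian X := LocallyOfFiniteType.isLocallyNoetherian g
  haveI : CompactSpace X := QuasiCompact.compactSpace_of_compactSpace (g ≫ sS)
  haveI : IsNoetherian X := {}
  haveI : JacobsonSpace X := LocallyOfFiniteType.jacobsonSpace (g ≫ sS)
  refine eq_zero_of_closed hE hF φ fun x hx v => ?_
  have hsc : IsClosed ({g x} : Set S) := by
    have := g.isClosedMap _ hx
    rwa [Set.image_singleton] at this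
  let t := pointOfClosedPoint sS (g x) hsc
  have ht : t ≫ sS = 𝟙 _ := pointOfClosedPoint_comp sS (g x) hsc
  have htp : ∀ y, t y = g x := pointOfClosedPoint_apply sS (g x) hsc
  haveI : IsClosedImmersion t := by
    haveI : IsClosedImmersion (t ≫ sS) := by rw [ht]; infer_instance
    exact IsClosedImmersion.of_comp t sS
  haveI : IsClosedImmersion ξ := by
    haveI : IsClosedImmersion (ξ ≫ g) := by rw [hξ]; infer_instance
    exact IsClosedImmersion.of_comp ξ g
  obtain ⟨U, hU, hsU, -⟩ := exists_isAffineOpen_mem_and_subset (x := g x) (U := ⊤) trivial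
  haveI : IsAffine U.toScheme := hU
  let O : X.Opens := g ⁻¹ᵁ U
  have hpb : IsPullback O.ι (g ∣_ U) g U.ι := (isPullback_morphismRestrict g U).flip
  let ξ' : U.toScheme ⟶ O.toScheme := hpb.lift (U.ι ≫ ξ) (𝟙 _) (by rw [Category.assoc, hξ, Category.comp_id, Category.id_comp])
  have hξ'1 : ξ' ≫ O.ι = U.ι ≫ ξ := hpb.lift_fst _ _ _
  have hξ'2 : ξ' ≫ (g ∣_ U) = 𝟙 _ := hpb.lift_snd _ _ _
  haveI : IsPreimmersion ξ' := by
    haveI : IsPreimmersion (ξ' ≫ O.ι) := by rw [hξ'1]; infer_instance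
    exact IsPreimmersion.of_comp ξ' O.ι
  have htU : Set.range t ⊆ Set.range U.ι := by
    rintro _ ⟨y, rfl⟩
    rw [Scheme.Opens.range_ι, htp]
    exact hsU
  let t' := IsOpenImmersion.lift U.ι t htU
  have ht' : t' ≫ U.ι = t := IsOpenImmersion.lift_fac _ _ _
  haveI : IsClosedImmersion t' := by
    haveI : IsClosedImmersion (t' ≫ U.ι) := by rw [ht']; infer_instance
    exact IsClosedImmersion.of_comp t' U.ι
  let j : pullback g t ⟶ O.toScheme := hpb.lift (pullback.fst g t) (pullback.snd g t ≫ t')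
    (by rw [Category.assoc, ht', pullback.condition])
  have hj1 : j ≫ O.ι = pullback.fst g t := hpb.lift_fst _ _ _
  have hj2 : j ≫ (g ∣_ U) = pullback.snd g t ≫ t' := hpb.lift_snd _ _ _
  have hpbj : IsPullback j (pullback.snd g t) (g ∣_ U) t' :=
    IsPullback.of_right (by rw [hj1, ht']; exact IsPullback.of_hasPullback g t) hj2 hpb
  haveI : IsClosedImmersion j := MorphismProperty.of_isPullback hpbj.flip ‹IsClosedImmersion t'›
  let s : U.toScheme := ⟨g x, hsU⟩
  have hι : ∀ y, t' y = s := fun y => Subtype.ext (by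
    show (t' ≫ U.ι) y = g x
    rw [ht', htp])
  let y₀ : ↥(Spec (CommRingCat.of ℂ)) := Classical.arbitrary _
  have hs' : IsClosed ({s} : Set U.toScheme) := by
    rw [show ({s} : Set U.toScheme) = Subtype.val ⁻¹' {g x} from Set.ext fun z => Subtype.ext_iff]
    exact hsc.preimage continuous_subtype_val
  have hr : ∀ z, (g ∣_ U) z = s ↔ z ∈ Set.range j := fun z => by
    rw [Cyc26.range_of_isPullback hpbj]
    refine ⟨fun h => ⟨y₀, (hι y₀).trans h.symm⟩, fun ⟨y, hy⟩ => hy.symm.trans (hι y)⟩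
  have hker : ∀ z, RingHom.ker (j.stalkMap z).hom =
      (maximalIdeal (U.toScheme.presheaf.stalk ((g ∣_ U) (j z)))).map ((g ∣_ U).stalkMap (j z)).hom := fun z => by
    refine le_antisymm ((Cyc26.ker_stalkMap_pullback_fst (g ∣_ U) t' hpbj z).trans ?_) ?_
    · rw [Cyc26.stalkTo, ← Ideal.map_map]
      refine Ideal.map_mono (Ideal.map_le_iff_le_comap.mpr fun a ha => ?_)
      refine Ideal.mem_comap.mpr ((IsLocalRing.mem_maximalIdeal _).mpr fun hu => ?_)
      have e : t' (pullback.snd g t z) = (g ∣_ U) (j z) := by rw [← Scheme.Hom.comp_apply, ← Scheme.Hom.comp_apply, hj2]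
      haveI : IsIso (U.toScheme.presheaf.stalkSpecializes (specializes_of_eq e.symm)) :=
        ⟨U.toScheme.presheaf.stalkSpecializes (specializes_of_eq e), by simp, by simp⟩
      exact ((hu.of_map _ a).map (t'.stalkMap (pullback.snd g t z)).hom).ne_zero (RingHom.mem_ker.1 ha)
    · refine Ideal.map_le_iff_le_comap.mpr fun a ha => ?_
      show ((g ∣_ U).stalkMap (j z) ≫ j.stalkMap z) a = 0
      rw [← Scheme.Hom.stalkMap_comp, Scheme.Hom.stalkMap_congr_hom _ _ hj2, Scheme.Hom.stalkMap_comp]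
      show (pullback.snd g t).stalkMap z (t'.stalkMap _ _) = 0
      have hf := Residual14.isField_stalk_of_etale_field (𝟙 (Spec (CommRingCat.of ℂ))) (pullback.snd g t z)
      have h0 : ∀ b, ¬ IsUnit b → t'.stalkMap (pullback.snd g t z) b = 0 := fun b hb => by_contra fun hb0 => by
        obtain ⟨c, hc⟩ := hf.mul_inv_cancel hb0
        exact hb ((IsUnit.of_mul_eq_one c hc).of_map _ b)
      rw [h0, map_zero]
      intro hu
      exact (mem_maximalIdeal _).mp ha ((MulEquiv.isUnit_map (Iso.commRingCatIsoToRingEquiv _)).mp hu)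
  have hflat : FlatMod.IsFlatOver (g ∣_ U) ((Scheme.Modules.pullback O.ι).obj F) :=
    Exact8.isFlatOver_pullback hpb hFfl
  haveI : IsLocallyNoetherian O.toScheme := LocallyOfFiniteType.isLocallyNoetherian O.ι
  have hp : O.ι (ξ' s) = (t ≫ ξ) y₀ := by
    rw [← Scheme.Hom.comp_apply, hξ'1]
    show ξ (U.ι s) = ξ (t y₀)
    rw [htp]
    rfl
  have hfree : Module.Free (O.toScheme.presheaf.stalk (ξ' s))
      (((Scheme.Modules.pullback O.ι).obj F).presheaf.stalk (ξ' s)) := by
    obtain ⟨V, hV, hVf⟩ := S15270.result S sS n X i d ξ hξ F hF hFfl (fun t ht => (hss t ht).2.1)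
      (fun t ht => (hLF t ht).2) t ht (O.ι (ξ' s)) ⟨y₀, hp.symm⟩
    obtain ⟨W, m, hW, ⟨e⟩⟩ := SemiAb10.freeNear_of_restrict hV hVf
    haveI := M1.free_stalk_of_freeMod hF.1 e hW
    exact Module.Free.of_equiv (M2.pullStalkEquiv O.ι (ξ' s) F)
  obtain ⟨⟨x', hx'⟩, rfl⟩ : ∃ z : O.toScheme, O.ι z = x := ⟨⟨x, hsU⟩, rfl⟩
  let φ' := (Scheme.Modules.pullback O.ι).map φ
  have hφ' : (Scheme.Modules.pullback ξ').map φ' = 0 := by
    rw [map_comp_zero_iff, hξ'1, ← map_comp_zero_iff, hφ, pullback_zero]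
  have key : ∀ w, stalkLin φ' ⟨x', hx'⟩ w = 0 := by
    refine SemiAb10.Rigid.eq_zero_at (g ∣_ U) ξ' hξ'2 j hs' hr hker (M1.isCoh_pullback O.ι hF) hflat (hfree := hfree) φ' hφ'
      (fun ψ hψ => ?_) ⟨x', hx'⟩ (Subtype.ext ?_)
    · let P := PicF.XT g (Over.mk t)
      letI : P.Over (Spec (CommRingCat.of ℂ)) := ⟨PicF.XTproj g (Over.mk t)⟩
      haveI : IsProper (P ↘ Spec (CommRingCat.of ℂ)) := MorphismProperty.pullback_snd g t hgp
      obtain ⟨hirr, hdim⟩ := hfib t ht
      haveI : IrreducibleSpace P := hirr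
      let a : P ⟶ X := pullback.fst g t
      let L := (Scheme.Modules.pullback (a ≫ i)).obj (_root_.Twist.twistOver n S 1)
      have hL : CohB1.IsAmple L := by
        let hpbT := ProjSpace.isPullback_overMap n t
        let b : P ⟶ CohB1.ProjSpaceOver n (Spec (CommRingCat.of ℂ)) := hpbT.lift (a ≫ i) (pullback.snd g t)
          (by rw [Category.assoc]; exact pullback.condition)
        have hb : b ≫ ProjSpace.overMap n t = a ≫ i := hpbT.lift_fst _ _ _
        haveI : IsImmersion b := by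
          haveI : IsClosedImmersion a := MorphismProperty.of_isPullback (IsPullback.of_hasPullback g t).flip ‹IsClosedImmersion t›
          haveI : IsImmersion (b ≫ ProjSpace.overMap n t) := by rw [hb]; infer_instance
          exact IsImmersion.of_comp b (ProjSpace.overMap n t)
        let πT := pullback.fst (CohB1.ProjSpace.toSpec n (ULift.{0} ℤ)) (specULiftZIsTerminal.from (Spec (CommRingCat.of ℂ)))
        let π := pullback.fst (CohB1.ProjSpace.toSpec n (ULift.{0} ℤ)) (specULiftZIsTerminal.from S)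
        have hπ : b ≫ πT = (a ≫ i) ≫ π := by
          rw [← hb, Category.assoc]
          exact congrArg (b ≫ ·) ((pullback.lift_fst _ _ _).trans (Category.comp_id _)).symm
        refine Amp.isAmple_of_iso ?_ (AmpleField2.isAmple_of_immersion (pullback.snd g t) b (hpbT.lift_snd _ _ _)).2
        exact (Scheme.Modules.pullbackComp b πT).app _ ≪≫
          eqToIso (congrArg (fun z => (Scheme.Modules.pullback z).obj _) hπ) ≪≫
          ((Scheme.Modules.pullbackComp (a ≫ i) π).app _).symm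
      obtain ⟨hsE, hsF, hred⟩ := hss t ht
      obtain ⟨⟨sE, hsE', hgE⟩, ⟨sF, hsF', hgF⟩⟩ := hLF t ht
      let eM : ∀ M : X.Modules, (Scheme.Modules.pullback j).obj ((Scheme.Modules.pullback O.ι).obj M) ≅
          (Scheme.Modules.pullback a).obj M := fun M =>
        (Scheme.Modules.pullbackComp j O.ι).app M ≪≫ eqToIso (congrArg (fun z => (Scheme.Modules.pullback z).obj M) hj1)
      let σ := PicF.secT g ξ hξ (Over.mk t)
      have hσ : σ ≫ (P ↘ Spec (CommRingCat.of ℂ)) = 𝟙 _ := pullback.lift_snd _ _ _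
      haveI : IsClosedImmersion σ := by
        haveI : IsClosedImmersion (σ ≫ (P ↘ Spec (CommRingCat.of ℂ))) := by rw [hσ]; infer_instance
        exact IsClosedImmersion.of_comp σ (P ↘ Spec (CommRingCat.of ℂ))
      have hσψ : (Scheme.Modules.pullback σ).map ψ = 0 := by
        refine SemiAb10.Rigid.eq_zero_of_stalk _ fun y w => ?_
        obtain ⟨e, rfl⟩ := TFOne27.surjective_stalkUnit σ _ y w
        rw [TFOne27.stalkUnit_natural, TFOne27.stalkUnit_eq_zero]
        have hz : j (σ y) = ξ' s := O.ι.isOpenEmbedding.injective (by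
          rw [hp, ← Scheme.Hom.comp_apply, hj1]
          show (σ ≫ pullback.fst g t).base y = _
          rw [show σ ≫ pullback.fst g t = t ≫ ξ from pullback.lift_fst _ _ _, @Subsingleton.elim _ (inferInstanceAs (Subsingleton (PrimeSpectrum ℂ))) y y₀]
          rfl)
        refine Submodule.smul_mono_left ?_ (hψ (σ y) hz e)
        intro c hc
        by_contra hc0
        obtain ⟨c', hc'⟩ := (Residual14.isField_stalk_of_etale_field (𝟙 (Spec (CommRingCat.of ℂ))) y).mul_inv_cancel hc0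
        exact (mem_maximalIdeal _).mp hc ((IsUnit.of_mul_eq_one c' hc').of_map _ c)
      obtain ⟨pE, hpE⟩ : ∃ p, ShStab.IsHilbPoly ℂ P L ((Scheme.Modules.pullback a).obj E) p :=
        ⟨_, (ShStab28.hp_iff hL.1 hsE.1).mpr rfl⟩
      obtain ⟨pF, hpF⟩ : ∃ p, ShStab.IsHilbPoly ℂ P L ((Scheme.Modules.pullback a).obj F) p :=
        ⟨_, (ShStab28.hp_iff hL.1 hsF.1).mpr rfl⟩
      have h0 := S15267.result P d hdim L hL _ _ hsE hsF pE pF hpE hpF (hred pE pF hpE hpF) σ hσ sE hsE' hgE sF hsF' hgF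
        ((eM E).inv ≫ ψ ≫ (eM F).hom) (by rw [Functor.map_comp, Functor.map_comp, hσψ, zero_comp, comp_zero])
      rwa [← cancel_mono (eM F).hom, ← cancel_epi (eM E).inv, zero_comp, comp_zero]
    · exact (Scheme.Hom.comp_apply (g ∣_ U) U.ι ⟨x', hx'⟩).symm.trans
        (congrArg (fun m : O.toScheme ⟶ S => m.base ⟨x', hx'⟩) (morphismRestrict_ι g U))
  have h := key (M2.stalkUnit O.ι ⟨x', hx'⟩ E v)
  rw [TFOne27.stalkUnit_natural, TFOne27.stalkUnit_eq_zero] at h
  rw [(RingHom.injective_iff_ker_eq_bot _).mp (ConcreteCategory.bijective_of_isIso (O.ι.stalkMap ⟨x', hx'⟩)).1,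
    Submodule.bot_smul, Submodule.mem_bot] at h
  exact h

end Groth.Agent.S15268
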