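import Groth.Statements.S1527
import Groth.Agent.Lib.Supp18.Points
import Groth.Agent.Lib.VarDim.Irred
import Groth.Agent.Lib.RelAmple18.Generation

set_option autoImplicit false
universe u
open CategoryTheory CategoryTheory.Limits AlgebraicGeometry
open Variety

namespace Groth.Agent.S1527

/-- On a proper scheme over a field, a coherent module whose support has dimension at most zero is
globally generated (a quotient of a free module). -/
theorem result (k : Type u) [Field k] (X : Scheme.{u}) [X.Over (Spec (CommRingCat.of k))] [IsProper (X ↘ (Spec (CommRingCat.of k)))]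
    (F : X.Modules) (hF : Coh.IsCoh F) (hsupp : topologicalKrullDim (CohB1.support F) ≤ 0) :
    Curv2.IsGloballyGenerated F := by
  set f := X ↘ Spec (CommRingCat.of k)
  haveI : CompactSpace X := QuasiCompact.compactSpace_of_compactSpace f
  haveI : TopologicalSpace.NoetherianSpace ↑X.toPresheafedSpace := VarDim.noetherianSpace_of_finiteType f
  have hcl : IsClosed (CohB1.support F) := M1.isClosed_support hF.2
  obtain ⟨hfin, hpts⟩ := Supp18.finite_and_isClosed (X := X.toPresheafedSpace.carrier) hcl hsupp
  refine RA.isGloballyGenerated_of_span F fun x => top_le_iff.1 fun a _ => ?_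
  obtain ⟨U, hxU, s, hs⟩ := TopCat.Presheaf.germ_exist F.presheaf a
  obtain ⟨t, ht⟩ := Supp18.exists_extend (Coh.toAb F) hfin hpts (fun x hx => not_not.1 hx) (le_top : U ≤ ⊤) s
  refine Submodule.subset_span ⟨t, ?_⟩
  rw [← hs, ← ht]
  exact (TopCat.Presheaf.germ_res_apply F.presheaf (homOfLE le_top) x hxU t).symm

end Groth.Agent.S1527
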