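import Groth.Statements.S15271
import Groth.Agent.Lib.SemiAb10.Fil
import Groth.Agent.Lib.SemiAb10.Chart

set_option autoImplicit false
set_option maxHeartbeats 800000
set_option linter.style.haveILetI false
set_option backward.isDefEq.respectTransparency false
open CategoryTheory CategoryTheory.Limits AlgebraicGeometry
open Coherent

namespace Groth.Agent.S15271

open Groth.Agent Groth.Agent.ShStab28

/-- Over the complex numbers, let X be a proper scheme with an ample invertible sheaf L and let ξ be a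
complex point of X. Let E be a coherent sheaf on X which is semistable of dimension d with respect
to L (nonzero, pure of dimension d, and the reduced Hilbert polynomial of every nonzero proper
coherent subsheaf is at most that of E for large arguments) and which has a filtration by coherent
subsheaves with stable d-dimensional successive quotients of the reduced Hilbert polynomial of E
whose associated graded sheaf (the direct sum of the quotients) is finite locally free on an open
neighbourhood of ξ. Let G be a coherent subsheaf of E whose reduced Hilbert polynomial equals that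
of E (r(E)·p_G = r(G)·p_E for Hilbert polynomials p_G, p_E with respect to L, r denoting d! times
the degree-d coefficient). Then G, and likewise the quotient E/G, has a filtration by coherent
subsheaves with stable d-dimensional successive quotients of the same reduced Hilbert polynomial
whose associated graded sheaf is finite locally free on an open neighbourhood of ξ. (The published
statement is for modules over a sheaf of rings of differential operators on the closed fibres of a
projective flat family with a section; this row is the case of the structure sheaf on one complex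
fibre, and does not assume the fibre irreducible.) -/
theorem result
    (X : Scheme.{0}) [X.Over (Spec (CommRingCat.of ℂ))] [IsProper (X ↘ Spec (CommRingCat.of ℂ))]
    (L : X.Modules) (hL : CohB1.IsAmple L) (d : ℕ)
    (E : X.Modules) (hE : ShStab.IsSemistable ℂ X L E d)
    (ξ : Spec (CommRingCat.of ℂ) ⟶ X) (hξ : ξ ≫ (X ↘ Spec (CommRingCat.of ℂ)) = 𝟙 (Spec (CommRingCat.of ℂ)))
    (sE : LTSeries (Subobject E)) (hsE : ShStab.IsJHFiltration ℂ X L E d sE)
    (hgrE : ∀ x ∈ Set.range ξ.base, ∃ U : X.Opens, x ∈ U ∧ FlatMod.IsFinLocFree ((StabCat.grObj sE).restrict U.ι))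
    (G : X.Modules) (ι : G ⟶ E) [Mono ι] (hG : Coh.IsCoh G)
    (pG pE : Polynomial ℚ) (hpG : ShStab.IsHilbPoly ℂ X L G pG) (hpE : ShStab.IsHilbPoly ℂ X L E pE)
    (hred : StabCat.RedEq d pG pE) :
    (∃ sG : LTSeries (Subobject G), ShStab.IsJHFiltration ℂ X L G d sG ∧
        ∀ x ∈ Set.range ξ.base, ∃ U : X.Opens, x ∈ U ∧ FlatMod.IsFinLocFree ((StabCat.grObj sG).restrict U.ι)) ∧
    (∃ sQ : LTSeries (Subobject (cokernel ι)), ShStab.IsJHFiltration ℂ X L (cokernel ι) d sQ ∧
        ∀ x ∈ Set.range ξ.base, ∃ U : X.Opens, x ∈ U ∧ FlatMod.IsFinLocFree ((StabCat.grObj sQ).restrict U.ι)) := by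
  have hi := hL.1
  have hpos := ShStab28.positive ℂ hL
  obtain ⟨hE0, hE'⟩ := (isSemistable_iff hi hpos).mp hE
  let S := ShStab28.sys ℂ X L hi hpos
  obtain ⟨hh, hl, hf⟩ := (isJHFiltration_iff hi hpos hE.1).mp hsE
  rw [(hp_iff hi hG).mp hpG, (hp_iff hi hE.1).mp hpE] at hred
  have hR : StabCat.alpha d (S.hp E) ≠ 0 := (hE'.1.alpha_pos hE0).ne'
  let P : X.Modules → Prop := fun F =>
    (¬ IsZero F ∧ S.St d d F ∧ redDiff d (S.hp F) (S.hp E) = 0) ∧ ∀ x ∈ Set.range ξ.base, SemiAb10.FreeNear x F
  have hP : ∀ F, P F → S.St d d F ∧ redDiff d (S.hp F) (S.hp E) = 0 := fun F h => ⟨h.1.2.1, h.1.2.2⟩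
  have hiso : ∀ {F F' : X.Modules}, (F ≅ F') → P F → P F' := fun {F F'} e h => by
    refine ⟨⟨fun hz => h.1.1 (hz.of_iso e), ⟨(S.ss_of_iso e h.1.2.1.ss).1, fun G j hj hG hG0 hni => ?_⟩, ?_⟩,
      fun x hx => (h.2 x hx).of_iso e⟩
    · rw [S.hp_iso e h.1.2.1.1.1]
      exact h.1.2.1.2 G (j ≫ e.inv) inferInstance hG hG0 fun hi' => hni (by
        rw [show j = (j ≫ e.inv) ≫ e.hom by simp]; infer_instance)
    · rw [S.hp_iso e h.1.2.1.1.1]; exact h.1.2.2
  have hfil : Sys.Fil P E := Sys.Fil.of_series sE hh hl fun i =>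
    ⟨⟨Sys.not_isZero_coker (sE.step i), (hf i).1, redEq_iff.mp (hf i).2⟩, fun x hx => by
      obtain ⟨U, hxU, hU⟩ := hgrE x hx
      exact SemiAb10.freeNear_summand _ hxU hU i⟩
  have hEg : S.Good d (S.hp E) E := ⟨hE', sub_self _⟩
  have hGg : S.Good d (S.hp E) G := by
    refine ⟨⟨hE'.1.sub ι hG, fun F j hj hF hF0 => ?_⟩, redEq_iff.mp hred⟩
    haveI := hj
    have hGd := (hE'.1.sub ι hG).2.1
    have hFd : (S.hp F).natDegree ≤ d := (S.deg_mono j hF hG).1.trans hGd
    refine (le_self_iff hFd hGd).mpr (redLE_trans (alpha_nonneg hFd (S.lc_nonneg hF)) (hE'.1.alpha_pos hE0)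
      (alpha_nonneg hGd (S.lc_nonneg hG)) ((le_self_iff hFd hE'.1.2.1).mp (hE'.2 F (j ≫ ι) inferInstance hF hF0))
      (redEq_le (redEq_symm hred)))
  have hQg : S.Good d (S.hp E) (cokernel ι) := (S.good_ker_coker hR hGg hEg ι).2
  have main : ∀ M : X.Modules, S.Good d (S.hp E) M → Sys.Fil P M →
      ∃ s : LTSeries (Subobject M), ShStab.IsJHFiltration ℂ X L M d s ∧
        ∀ x ∈ Set.range ξ.base, ∃ U : X.Opens, x ∈ U ∧ FlatMod.IsFinLocFree ((StabCat.grObj s).restrict U.ι) := by
    intro M hM hMf
    obtain ⟨s, h1, h2, h3⟩ := Sys.Fil.exists_series (fun F h => h.1.1) hiso hMf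
    refine ⟨s, (isJHFiltration_iff hi hpos hM.1.1.1).mpr ⟨h1, h2, fun i => ⟨(h3 i).1.2.1, ?_⟩⟩,
      fun x hx => SemiAb10.exists_nhd_sigma _ fun i => (h3 i).2 x hx⟩
    exact S.redEq_of_good hR ⟨(h3 i).1.2.1.ss, (h3 i).1.2.2⟩ hM
  exact ⟨main G hGg (Sys.Fil.sub S hR hP hfil G ι inferInstance hEg hGg),
    main _ hQg (Sys.Fil.quot S hR hP hfil _ (cokernel.π ι) inferInstance hEg hQg)⟩

end Groth.Agent.S15271
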