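import Groth.Statements.S15283
import Mathlib
import Groth.Agent.Lib.ValCoh15.Coherent

set_option autoImplicit false
universe u
open CAlg

namespace Groth.Agent.S15283

section Aux
open Polynomial TensorProduct
open scoped KaehlerDifferential

lemma exists_dvd_of_finset {A : Type u} [CommRing A] [IsDomain A] [ValuationRing A] (s : Finset A) (hs : s.Nonempty) :
    ∃ a ∈ s, ∀ b ∈ s, a ∣ b := by
  induction hs using Finset.Nonempty.cons_induction with
  | singleton a => exact ⟨a, by simp, by simp⟩
  | cons a s ha hs ih =>
    obtain ⟨c, hc, hcd⟩ := ih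
    rcases ValuationRing.dvd_total a c with h | h
    · refine ⟨a, Finset.mem_cons_self a s, fun b hb => ?_⟩
      rcases Finset.mem_cons.1 hb with rfl | hb
      · rfl
      · exact h.trans (hcd b hb)
    · refine ⟨c, Finset.mem_cons_of_mem hc, fun b hb => ?_⟩
      rcases Finset.mem_cons.1 hb with rfl | hb
      · exact h
      · exact hcd b hb

lemma exists_primitive {A B : Type u} [CommRing A] [IsDomain A] [ValuationRing A] [CommRing B] [IsDomain B]
    [Algebra A B] (hinj : Function.Injective (algebraMap A B)) {t : B} {q : A[X]} (hq : q ≠ 0) (h : aeval t q = 0) :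
    ∃ r : A[X], aeval t r = 0 ∧ ∃ i, r.coeff i = 1 := by
  classical
  obtain ⟨a, ha, had⟩ := exists_dvd_of_finset (q.support.image q.coeff)
    (Finset.Nonempty.image (nonempty_support_iff.2 hq) _)
  obtain ⟨i, hi, rfl⟩ := Finset.mem_image.1 ha
  obtain ⟨r, hr⟩ := (C_dvd_iff_dvd_coeff (q.coeff i) q).2 fun j => by
    by_cases hj : j ∈ q.support
    · exact had _ (Finset.mem_image_of_mem _ hj)
    · rw [notMem_support_iff.1 hj]; exact dvd_zero _
  have hi0 : q.coeff i ≠ 0 := mem_support_iff.1 hi
  refine ⟨r, ?_, i, ?_⟩
  · have := congrArg (aeval t) hr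
    rw [h, map_mul, aeval_C] at this
    exact (mul_eq_zero.1 this.symm).resolve_left ((map_ne_zero_iff _ hinj).2 hi0)
  · have := congrArg (fun p => p.coeff i) hr
    simp only [coeff_C_mul] at this
    exact (mul_eq_left₀ hi0).1 this.symm

variable {A B : Type u} [CommRing A] [IsDomain A] [ValuationRing A] [CommRing B] [IsDomain B] [ValuationRing B]
  [Algebra A B] (hinj : Function.Injective (algebraMap A B)) (P : Ideal B) [P.IsPrime]

lemma dvd_of_notMem {t x : B} (ht : t ∉ P) (hx : x ∈ P) : t ∣ x := by
  rcases ValuationRing.dvd_total t x with h | h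
  · exact h
  · exact absurd (P.mem_of_dvd h hx) ht

include hinj in
lemma exists_scalar_multiple (halg : ∀ t : B, ∃ q : A[X], q ≠ 0 ∧ aeval t q = 0) {t : B} (ht : t ∉ P) :
    ∃ s, algebraMap A B s ∉ P ∧ t ∣ algebraMap A B s := by
  classical
  obtain ⟨q, hq, h⟩ := halg t
  obtain ⟨r, hr, i, hi⟩ := exists_primitive hinj hq h
  have hex : ∃ j, algebraMap A B (r.coeff j) ∉ P := ⟨i, by
    rw [hi, map_one]; exact P.ne_top_iff_one.1 (Ideal.IsPrime.ne_top inferInstance)⟩
  let j := Nat.find hex
  refine ⟨r.coeff j, Nat.find_spec hex, ?_⟩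
  -- split the polynomial at `j`
  have key : ∀ (m : ℕ) (r : A[X]), (∀ l < m, algebraMap A B (r.coeff l) ∈ P) → aeval t r ∈ P →
      ∃ b, algebraMap A B (r.coeff m) + t * b ∈ P := by
    intro m
    induction m with
    | zero =>
      intro r _ h
      refine ⟨aeval t r.divX, ?_⟩
      have := congrArg (aeval t) (X_mul_divX_add r)
      rw [map_add, map_mul, aeval_X, aeval_C] at this
      rwa [add_comm, this]
    | succ m ih =>
      intro r hl h
      have := congrArg (aeval t) (X_mul_divX_add r)
      rw [map_add, map_mul, aeval_X, aeval_C] at this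
      rw [← this] at h
      have h' : t * aeval t r.divX ∈ P := by simpa using P.sub_mem h (hl 0 (by omega))
      obtain ⟨b, hb⟩ := ih r.divX (fun l hlm => by rw [coeff_divX]; exact hl _ (by omega))
        ((Ideal.IsPrime.mem_or_mem inferInstance h').resolve_left ht)
      exact ⟨b, by rwa [coeff_divX] at hb⟩
  obtain ⟨b, hb⟩ := key j r (fun l hl => not_not.1 (Nat.find_min hex hl)) (by rw [hr]; exact P.zero_mem)
  obtain ⟨c, hc⟩ := dvd_of_notMem P ht hb
  exact ⟨c - b, by linear_combination hc⟩

include hinj in
lemma core (halg : ∀ t : B, ∃ q : A[X], q ≠ 0 ∧ aeval t q = 0)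
    (hA : (Localization.localRingHom (Ideal.comap (algebraMap A B) P) P (algebraMap A B) rfl).Etale)
    (hB : (Ideal.quotientMap P (algebraMap A B) (le_refl (Ideal.comap (algebraMap A B) P))).Etale) :
    Algebra.Etale A B := by
  classical
  set p := Ideal.comap (algebraMap A B) P with hp
  let ψ := Localization.localRingHom p P (algebraMap A B) rfl
  letI : Algebra (Localization.AtPrime p) (Localization.AtPrime P) := ψ.toAlgebra
  haveI hAet : Algebra.Etale (Localization.AtPrime p) (Localization.AtPrime P) := hA
  haveI : IsScalarTower A (Localization.AtPrime p) (Localization.AtPrime P) :=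
    IsScalarTower.of_algebraMap_eq (R := A) (S := Localization.AtPrime p) (A := Localization.AtPrime P) fun a =>
      (IsScalarTower.algebraMap_apply A B (Localization.AtPrime P) a).trans
        (Localization.localRingHom_to_map p P (algebraMap A B) rfl a).symm
  haveI : IsLocalHom (algebraMap (Localization.AtPrime p) (Localization.AtPrime P)) :=
    Localization.isLocalHom_localRingHom p P (algebraMap A B) rfl
  let j : B →+* Localization.AtPrime P := algebraMap B (Localization.AtPrime P)
  have hj : Function.Injective j := IsLocalization.injective _ P.primeCompl_le_nonZeroDivisors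
  have hψj : ∀ a, algebraMap A (Localization.AtPrime P) a = j (algebraMap A B a) :=
    fun a => IsScalarTower.algebraMap_apply A B (Localization.AtPrime P) a
  -- generators of the localisation
  obtain ⟨G, hG⟩ := Algebra.FiniteType.out (R := Localization.AtPrime p) (A := Localization.AtPrime P)
  have hrep : ∀ x : Localization.AtPrime P, ∃ (z : B) (s : A), algebraMap A B s ∉ P ∧ x * algebraMap A _ s = j z := by
    intro x
    obtain ⟨u, ⟨t, ht⟩, rfl⟩ := IsLocalization.exists_mk'_eq P.primeCompl x
    obtain ⟨s, hs, b, hb⟩ := exists_scalar_multiple hinj P halg ht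
    refine ⟨u * b, s, hs, ?_⟩
    rw [hψj, hb, map_mul, ← mul_assoc, IsLocalization.mk'_spec, map_mul]
  choose z s hs hz using hrep
  let S : Subalgebra A B := Algebra.adjoin A (G.image z : Finset B)
  have hS : ∀ y : Localization.AtPrime P, ∃ g ∈ S, ∃ d : A, algebraMap A B d ∉ P ∧ y * algebraMap A _ d = j g := by
    intro y
    have hy : y ∈ Algebra.adjoin (Localization.AtPrime p) (G : Set (Localization.AtPrime P)) := hG ▸ Algebra.mem_top
    induction hy using Algebra.adjoin_induction with
    | mem x hx => exact ⟨z x, Algebra.subset_adjoin (Finset.mem_coe.2 (Finset.mem_image_of_mem z hx)), s x, hs x, hz x⟩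
    | algebraMap r =>
      obtain ⟨a, ⟨d, hd⟩, rfl⟩ := IsLocalization.exists_mk'_eq p.primeCompl r
      refine ⟨algebraMap A B a, S.algebraMap_mem a, d, hd, ?_⟩
      rw [IsScalarTower.algebraMap_apply A (Localization.AtPrime p) (Localization.AtPrime P), ← map_mul,
        IsLocalization.mk'_spec, ← IsScalarTower.algebraMap_apply, hψj]
    | add x y _ _ hx hy =>
      obtain ⟨g, hg, d, hd, e⟩ := hx
      obtain ⟨g', hg', d', hd', e'⟩ := hy
      refine ⟨g * algebraMap A B d' + g' * algebraMap A B d,
        S.add_mem (S.mul_mem hg (S.algebraMap_mem _)) (S.mul_mem hg' (S.algebraMap_mem _)),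
        d * d', fun h => ?_, ?_⟩
      · rw [map_mul] at h; exact (Ideal.IsPrime.mem_or_mem inferInstance h).elim hd hd'
      · rw [map_add, map_mul j, map_mul j, ← e, ← e', ← hψj, ← hψj, map_mul]; ring
    | mul x y _ _ hx hy =>
      obtain ⟨g, hg, d, hd, e⟩ := hx
      obtain ⟨g', hg', d', hd', e'⟩ := hy
      refine ⟨g * g', S.mul_mem hg hg', d * d', fun h => ?_, ?_⟩
      · rw [map_mul] at h; exact (Ideal.IsPrime.mem_or_mem inferInstance h).elim hd hd'
      · rw [map_mul j, ← e, ← e', map_mul]; ring
  -- the prime is generated by the contracted prime, inside `S`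
  let N : Submodule A B := Submodule.span A {b | ∃ π ∈ p, ∃ g ∈ S, b = algebraMap A B π * g}
  have hNS : ∀ x ∈ N, x ∈ S := fun x hx => (Submodule.span_le (p := S.toSubmodule)).2
    (by rintro b ⟨π, -, g, hg, rfl⟩; exact S.mul_mem (S.algebraMap_mem π) hg) hx
  have hNmul : ∀ x ∈ N, ∀ g ∈ S, g * x ∈ N := by
    intro x hx g hg
    induction hx using Submodule.span_induction with
    | mem b hb =>
      obtain ⟨π, hπ, g', hg', rfl⟩ := hb
      exact Submodule.subset_span ⟨π, hπ, g * g', S.mul_mem hg hg', by ring⟩
    | zero => rw [mul_zero]; exact N.zero_mem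
    | add a b _ _ ha hb => rw [mul_add]; exact N.add_mem ha hb
    | smul c a _ ha => rw [mul_smul_comm]; exact N.smul_mem c ha
  have hNdiv : ∀ d : A, algebraMap A B d ∉ P → ∀ x ∈ N, ∃ x' ∈ N, x = algebraMap A B d * x' := by
    intro d hd x hx
    induction hx using Submodule.span_induction with
    | mem b hb =>
      obtain ⟨π, hπ, g', hg', rfl⟩ := hb
      obtain ⟨π', hπ'⟩ := dvd_of_notMem p (show d ∉ p from hd) hπ
      have : π' ∈ p := (Ideal.IsPrime.mem_or_mem inferInstance (hπ' ▸ hπ)).resolve_left hd
      exact ⟨_, Submodule.subset_span ⟨π', this, g', hg', rfl⟩, by rw [hπ', map_mul, mul_assoc]⟩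
    | zero => exact ⟨0, N.zero_mem, by rw [mul_zero]⟩
    | add a b _ _ ha hb =>
      obtain ⟨a', ha', rfl⟩ := ha
      obtain ⟨b', hb', rfl⟩ := hb
      exact ⟨a' + b', N.add_mem ha' hb', by ring⟩
    | smul c a _ ha =>
      obtain ⟨a', ha', rfl⟩ := ha
      exact ⟨c • a', N.smul_mem c ha', by rw [mul_smul_comm]⟩
  have hmax := Algebra.FormallyUnramified.map_maximalIdeal (R := Localization.AtPrime p) (S := Localization.AtPrime P)
  have hP : ∀ x ∈ P, x ∈ N := by
    intro x hx
    have h1 : j x ∈ IsLocalRing.maximalIdeal (Localization.AtPrime P) :=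
      (IsLocalization.AtPrime.to_map_mem_maximal_iff _ P x).2 hx
    rw [← hmax, ← Localization.AtPrime.map_eq_maximalIdeal, Ideal.map_map, ← IsScalarTower.algebraMap_eq] at h1
    have h2 : ∃ n ∈ N, ∃ d : A, algebraMap A B d ∉ P ∧ j x * algebraMap A _ d = j n := by
      generalize j x = y at h1 ⊢
      induction h1 using Submodule.span_induction with
      | mem b hb =>
        obtain ⟨π, hπ, rfl⟩ := hb
        exact ⟨algebraMap A B π, Submodule.subset_span ⟨π, hπ, 1, S.one_mem, by rw [mul_one]⟩, 1,
          by rw [map_one]; exact P.ne_top_iff_one.1 (Ideal.IsPrime.ne_top inferInstance),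
          by rw [map_one, mul_one, hψj]⟩
      | zero => exact ⟨0, N.zero_mem, 1,
          by rw [map_one]; exact P.ne_top_iff_one.1 (Ideal.IsPrime.ne_top inferInstance), by simp⟩
      | add a b _ _ ha hb =>
        obtain ⟨n, hn, d, hd, e⟩ := ha
        obtain ⟨n', hn', d', hd', e'⟩ := hb
        refine ⟨algebraMap A B d' * n + algebraMap A B d * n',
          N.add_mem (hNmul _ hn _ (S.algebraMap_mem _)) (hNmul _ hn' _ (S.algebraMap_mem _)), d * d', fun h => ?_, ?_⟩
        · rw [map_mul] at h; exact (Ideal.IsPrime.mem_or_mem inferInstance h).elim hd hd'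
        · rw [map_add, map_mul j, map_mul j, ← e, ← e', ← hψj, ← hψj, map_mul]; ring
      | smul c a _ ha =>
        obtain ⟨n, hn, d, hd, e⟩ := ha
        obtain ⟨g, hg, d', hd', e'⟩ := hS c
        refine ⟨g * n, hNmul _ hn _ hg, d' * d, fun h => ?_, ?_⟩
        · rw [map_mul] at h; exact (Ideal.IsPrime.mem_or_mem inferInstance h).elim hd' hd
        · rw [map_mul j, ← e, ← e', map_mul, smul_eq_mul]; ring
    obtain ⟨n, hn, d, hd, e⟩ := h2
    obtain ⟨n', hn', rfl⟩ := hNdiv d hd n hn
    rw [hψj, ← map_mul] at e
    have h3 := hj e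
    rw [mul_comm] at h3
    rwa [mul_left_cancel₀ (fun h0 => hd (by rw [h0]; exact P.zero_mem)) h3]
  have hPp : P ≤ p.map (algebraMap A B) := fun x hx => by
    have := hP x hx
    clear hx
    induction this using Submodule.span_induction with
    | mem b hb =>
      obtain ⟨π, hπ, g, hg, rfl⟩ := hb
      exact Ideal.mul_mem_right _ _ (Ideal.mem_map_of_mem _ hπ)
    | zero => exact Ideal.zero_mem _
    | add a b _ _ ha hb => exact Ideal.add_mem _ ha hb
    | smul c a _ ha => rw [Algebra.smul_def]; exact Ideal.mul_mem_left _ _ ha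
  -- finite type
  let θ := Ideal.quotientMap P (algebraMap A B) (le_refl p)
  letI : Algebra (A ⧸ p) (B ⧸ P) := θ.toAlgebra
  haveI : Algebra.Etale (A ⧸ p) (B ⧸ P) := hB
  haveI : IsScalarTower A (A ⧸ p) (B ⧸ P) :=
    IsScalarTower.of_algebraMap_eq (R := A) (S := A ⧸ p) (A := B ⧸ P) fun a => rfl
  haveI : Algebra.FiniteType A (B ⧸ P) := Algebra.FiniteType.trans (S := A ⧸ p) inferInstance inferInstance
  haveI : Algebra.FiniteType A B := by
    obtain ⟨H, hH⟩ := Algebra.FiniteType.out (R := A) (A := B ⧸ P)
    let lift := Function.surjInv (Ideal.Quotient.mk_surjective (I := P))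
    refine ⟨⟨G.image z ∪ H.image lift, eq_top_iff.2 fun b _ => ?_⟩⟩
    set T := Algebra.adjoin A ((G.image z ∪ H.image lift : Finset B) : Set B)
    have hST : S ≤ T := Algebra.adjoin_mono (by exact_mod_cast Finset.subset_union_left)
    have hb : Ideal.Quotient.mk P b ∈ T.map (Ideal.Quotient.mkₐ A P) := by
      refine (?_ : (⊤ : Subalgebra A (B ⧸ P)) ≤ _) Algebra.mem_top
      rw [← hH, Algebra.adjoin_le_iff]
      intro h hh
      exact ⟨lift h, Algebra.subset_adjoin (Finset.mem_coe.2 (Finset.mem_union_right _ (Finset.mem_image_of_mem _ hh))),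
        Function.surjInv_eq _ h⟩
    obtain ⟨g, hg, hgb⟩ := hb
    rw [show b = g + (b - g) by ring]
    exact T.add_mem hg (hST (hNS _ (hP _ (Ideal.Quotient.eq.1 hgb.symm))))
  -- unramified
  haveI : Algebra.FormallyUnramified A (B ⧸ P) := Algebra.FormallyUnramified.comp A (A ⧸ p) (B ⧸ P)
  haveI : Algebra.FormallyUnramified A (Localization.AtPrime P) := by
    haveI : Algebra.FormallyUnramified A (Localization.AtPrime p) :=
      Algebra.FormallyUnramified.of_isLocalization p.primeCompl
    exact Algebra.FormallyUnramified.comp A (Localization.AtPrime p) (Localization.AtPrime P)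
  haveI : Algebra.FormallyUnramified A B := by
    have hsurj : Function.Surjective (algebraMap B (B ⧸ P)) := Ideal.Quotient.mk_surjective
    have hzero : ∀ y : (B ⧸ P) ⊗[B] Ω[B⁄A], y = 0 := by
      intro y
      obtain ⟨w, rfl⟩ := (KaehlerDifferential.exact_kerCotangentToTensor_mapBaseChange A B (B ⧸ P) hsurj y).1
        (Subsingleton.elim _ _)
      obtain ⟨⟨x, hx⟩, rfl⟩ := Ideal.toCotangent_surjective _ w
      rw [KaehlerDifferential.kerCotangentToTensor_toCotangent]
      have hx' : x ∈ p.map (algebraMap A B) := hPp (by rwa [RingHom.mem_ker, Ideal.Quotient.algebraMap_eq, Ideal.Quotient.eq_zero_iff_mem] at hx)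
      show (1 : B ⧸ P) ⊗ₜ[B] KaehlerDifferential.D A B x = 0
      clear hx
      induction hx' using Submodule.span_induction with
      | mem b hb => obtain ⟨π, -, rfl⟩ := hb; rw [Derivation.map_algebraMap, tmul_zero]
      | zero => rw [map_zero, tmul_zero]
      | add a b _ _ ha hb => rw [map_add, tmul_add, ha, hb, add_zero]
      | smul c a h ha =>
        rw [smul_eq_mul, Derivation.leibniz, tmul_add, tmul_smul, ha, smul_zero, zero_add,
          ← smul_tmul, Algebra.smul_def, Ideal.Quotient.algebraMap_eq,
          Ideal.Quotient.eq_zero_iff_mem.2 (show a ∈ P from Ideal.map_le_iff_le_comap.2 le_rfl h),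
          zero_mul, zero_tmul]
    have htop : ∀ w : Ω[B⁄A], w ∈ P • (⊤ : Submodule B Ω[B⁄A]) := by
      intro w
      have := hzero ((1 : B ⧸ P) ⊗ₜ w)
      have h := congrArg (TensorProduct.quotTensorEquivQuotSMul Ω[B⁄A] P) this
      rwa [map_zero, ← map_one (Ideal.Quotient.mk P), quotTensorEquivQuotSMul_mk_tmul, one_smul,
        Submodule.Quotient.mk_eq_zero] at h
    haveI : Subsingleton Ω[Localization.AtPrime P⁄A] := inferInstance
    constructor
    refine subsingleton_of_forall_eq 0 fun w => ?_
    have hw := htop w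
    refine Submodule.smul_induction_on hw (fun r hr n _ => ?_) fun a b ha hb => by rw [ha, hb, add_zero]
    ·
      have h0 : KaehlerDifferential.map A A B (Localization.AtPrime P) n = 0 := Subsingleton.elim _ _
      haveI : IsLocalizedModule P.primeCompl (KaehlerDifferential.map A A B (Localization.AtPrime P)) := inferInstance
      obtain ⟨⟨t, ht⟩, htn⟩ := (IsLocalizedModule.eq_zero_iff P.primeCompl (KaehlerDifferential.map A A B (Localization.AtPrime P))).1 h0
      obtain ⟨c, rfl⟩ := dvd_of_notMem P ht hr
      rw [mul_comm, mul_smul, show t • n = 0 from htn, smul_zero]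
  -- flatness and presentation
  haveI : FaithfulSMul A B := (faithfulSMul_iff_algebraMap_injective A B).2 hinj
  haveI : Module.IsTorsionFree A B := inferInstance
  haveI : Module.Flat A B := by
    rw [Module.Flat.flat_iff_torsion_eq_bot_of_isBezout, ← Submodule.isTorsionFree_iff_torsion_eq_bot]
    infer_instance
  haveI : Algebra.FinitePresentation A B := by
    obtain ⟨n, φ, hφ⟩ := Algebra.FiniteType.iff_quotient_mvPolynomial''.1 (inferInstance : Algebra.FiniteType A B)
    letI : Algebra (MvPolynomial (Fin n) A) B := φ.toRingHom.toAlgebra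
    haveI : Module.Finite (MvPolynomial (Fin n) A) B := Module.Finite.of_surjective (Algebra.linearMap _ B) hφ
    haveI : Module.FinitePresentation (MvPolynomial (Fin n) A) B :=
      Groth.Agent.ValCoh15.finitePresentation_of_torsionFree (R := A) fun c x hc h => by
        rw [Algebra.smul_def, RingHom.algebraMap_toAlgebra, AlgHom.toRingHom_eq_coe, RingHom.coe_coe, φ.commutes] at h
        exact (mul_eq_zero.1 h).resolve_left ((map_ne_zero_iff _ hinj).2 hc)
    refine Algebra.FinitePresentation.of_surjective hφ ?_
    exact Module.FinitePresentation.fg_ker (Algebra.linearMap (MvPolynomial (Fin n) A) B) hφ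
  exact Algebra.Etale.of_formallyUnramified_of_flat

end Aux


/-- Let L/K be a finite extension of valued fields, v_L extending v_K up to equivalence, such that the
valuation rings K° and L° both have finitely many prime ideals, and let P be a prime ideal of L°
lying over the prime p of K°. Then v_K is composed from the valuation of K with ring the
localization (K°)_p and the valuation of the residue field of (K°)_p with ring K°/p, and similarly
for v_L with (L°)_P and L°/P. If the induced homomorphisms (K°)_p → (L°)_P and K°/p → L°/P are both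
étale, then K° → L° is étale. (For finite extensions of valued fields of finite height, being
unramified is the same as the map of valuation rings being étale, so this is the statement that an
extension composed from two unramified extensions is unramified.) -/
theorem result
    {K L Γ₀ Γ₁ : Type u} [Field K] [Field L] [Algebra K L] [FiniteDimensional K L]
    [LinearOrderedCommGroupWithZero Γ₀] [LinearOrderedCommGroupWithZero Γ₁]
    (vK : Valuation K Γ₀) (vL : Valuation L Γ₁) [vK.HasExtension vL]
    [Finite (PrimeSpectrum vK.valuationSubring)] [Finite (PrimeSpectrum vL.valuationSubring)]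
    (P : Ideal vL.valuationSubring) [P.IsPrime]
    (hA : (Localization.localRingHom (Ideal.comap (algebraMap vK.valuationSubring vL.valuationSubring) P) P
      (algebraMap vK.valuationSubring vL.valuationSubring) rfl).Etale)
    (hB : (Ideal.quotientMap P (algebraMap vK.valuationSubring vL.valuationSubring)
      (le_refl (Ideal.comap (algebraMap vK.valuationSubring vL.valuationSubring) P))).Etale) :
    Algebra.Etale vK.valuationSubring vL.valuationSubring := by
  have hinj : Function.Injective (algebraMap vK.valuationSubring vL.valuationSubring) := by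
    intro x y h
    exact Subtype.ext ((algebraMap K L).injective (congrArg Subtype.val h))
  refine core hinj P (fun t => ?_) hA hB
  have hint : IsIntegral K (t : L) := IsIntegral.of_finite K _
  obtain ⟨b, hb⟩ := IsLocalization.integerNormalization_map_to_map (nonZeroDivisors vK.valuationSubring) (minpoly K (t : L))
  set q := IsLocalization.integerNormalization (nonZeroDivisors vK.valuationSubring) (minpoly K (t : L))
  refine ⟨q, fun h0 => ?_, Subtype.ext ?_⟩
  · rw [h0, Polynomial.map_zero, eq_comm, Algebra.smul_def, mul_eq_zero, Polynomial.algebraMap_apply, Polynomial.C_eq_zero] at hb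
    exact hb.elim (IsFractionRing.to_map_ne_zero_of_mem_nonZeroDivisors b.2) (minpoly.ne_zero hint)
  · have h1 : ((Polynomial.aeval t q : vL.valuationSubring) : L) =
        Polynomial.eval₂ ((algebraMap K L).comp (algebraMap vK.valuationSubring K)) (t : L) q :=
      Polynomial.hom_eval₂ q (algebraMap vK.valuationSubring vL.valuationSubring) (algebraMap vL.valuationSubring L) t
    rw [h1, ← Polynomial.eval₂_map, hb, Algebra.smul_def, Polynomial.eval₂_mul, ← Polynomial.aeval_def,
      ← Polynomial.aeval_def, minpoly.aeval, mul_zero]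
    rfl

end Groth.Agent.S15283
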