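import Groth.Statements.S15285
import Mathlib

set_option autoImplicit false
universe v v' u u'
open PicCat

namespace Groth.Agent.S15285

open CategoryTheory MonoidalCategory in
theorem act_bijective {C : Type u} [Category.{v} C] [MonoidalCategory C]
    (X : C) (hX : (tensorRight X).IsEquivalence) :
    Function.Bijective (fun φ : 𝟙_ C ⟶ 𝟙_ C => (λ_ X).inv ≫ φ ▷ X ≫ (λ_ X).hom) := by
  refine ⟨fun a b h => ?_, fun f => ?_⟩
  · simp only [cancel_epi, cancel_mono] at h
    exact (tensorRight X).map_injective h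
  · obtain ⟨φ, hφ⟩ := (tensorRight X).map_surjective ((λ_ X).hom ≫ f ≫ (λ_ X).inv)
    refine ⟨φ, ?_⟩
    have hφ' : φ ▷ X = (λ_ X).hom ≫ f ≫ (λ_ X).inv := hφ
    simp [hφ']

open CategoryTheory MonoidalCategory in
/-- Let C and D be Picard categories (monoidal groupoids in which tensoring on either side with any
object is an equivalence of categories) and F : C ⥤ D a lax monoidal functor. If F induces a
bijection on isomorphism classes of objects (it is essentially surjective, and F X ≅ F Y only when X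
≅ Y) and a bijection on endomorphisms of the unit object, then F is an equivalence of categories. -/
theorem result
    {C : Type u} [Category.{v} C] [MonoidalCategory C] [IsGroupoid C]
    {D : Type u'} [Category.{v'} D] [MonoidalCategory D] [IsGroupoid D]
    (hC : ∀ X : C, (tensorLeft X).IsEquivalence ∧ (tensorRight X).IsEquivalence)
    (hD : ∀ X : D, (tensorLeft X).IsEquivalence ∧ (tensorRight X).IsEquivalence)
    (F : C ⥤ D) [F.LaxMonoidal] [F.EssSurj]
    (h0 : ∀ X Y : C, Nonempty (F.obj X ≅ F.obj Y) → Nonempty (X ≅ Y))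
    (h1 : Function.Bijective (fun φ : 𝟙_ C ⟶ 𝟙_ C => F.map φ)) :
    F.IsEquivalence := by
  let ε := Functor.LaxMonoidal.ε F
  have key : ∀ (X : C) (φ : 𝟙_ C ⟶ 𝟙_ C), F.map ((λ_ X).inv ≫ φ ▷ X ≫ (λ_ X).hom) =
      (λ_ (F.obj X)).inv ≫ (ε ≫ F.map φ ≫ inv ε) ▷ F.obj X ≫ (λ_ (F.obj X)).hom := by
    intro X φ
    rw [Iso.eq_inv_comp]
    have hl := Functor.LaxMonoidal.left_unitality F X
    have hn : F.map φ ▷ F.obj X ≫ Functor.LaxMonoidal.μ F (𝟙_ C) X = Functor.LaxMonoidal.μ F (𝟙_ C) X ≫ F.map (φ ▷ X) :=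
      Functor.LaxMonoidal.μ_natural_left F φ X
    rw [hl]
    simp only [Category.assoc, ← F.map_comp, Iso.hom_inv_id_assoc]
    rw [F.map_comp, reassoc_of% hn.symm]
    simp only [ε, ← comp_whiskerRight_assoc, Category.assoc, IsIso.inv_hom_id, Category.comp_id]
  have hconj : Function.Bijective (fun φ : 𝟙_ C ⟶ 𝟙_ C => ε ≫ F.map φ ≫ inv ε) := by
    refine Function.Bijective.comp (g := fun f : F.obj (𝟙_ C) ⟶ F.obj (𝟙_ C) => ε ≫ f ≫ inv ε) ⟨fun a b h => ?_, fun f => ⟨inv ε ≫ f ≫ ε, by simp⟩⟩ h1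
    simp only [cancel_epi, cancel_mono] at h
    exact h
  have hend : ∀ X : C, Function.Bijective (fun f : X ⟶ X => F.map f) := by
    intro X
    have hc := act_bijective X (hC X).2
    have hd := act_bijective (F.obj X) (hD (F.obj X)).2
    have hcomp : (fun f : X ⟶ X => F.map f) ∘ (fun φ : 𝟙_ C ⟶ 𝟙_ C => (λ_ X).inv ≫ φ ▷ X ≫ (λ_ X).hom) =
        (fun ψ : 𝟙_ D ⟶ 𝟙_ D => (λ_ (F.obj X)).inv ≫ ψ ▷ F.obj X ≫ (λ_ (F.obj X)).hom) ∘ (fun φ : 𝟙_ C ⟶ 𝟙_ C => ε ≫ F.map φ ≫ inv ε) :=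
      funext fun φ => key X φ
    exact (Function.Bijective.of_comp_iff _ hc).1 (hcomp ▸ hd.comp hconj)
  have : F.Faithful := ⟨fun {X Y} f g h => by
    have h' : f ≫ inv g = 𝟙 X := (hend X).1 (by
      show F.map (f ≫ inv g) = F.map (𝟙 X)
      rw [F.map_comp, h, ← F.map_comp, IsIso.hom_inv_id])
    rw [← cancel_mono (inv g), h', IsIso.hom_inv_id]⟩
  have : F.Full := ⟨fun {X Y} f => by
    obtain ⟨i⟩ := h0 X Y ⟨asIso f⟩
    obtain ⟨e, he⟩ := (hend X).2 (f ≫ F.map i.inv)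
    exact ⟨e ≫ i.hom, by rw [F.map_comp, show F.map e = f ≫ F.map i.inv from he, Category.assoc, ← F.map_comp, Iso.inv_hom_id, F.map_id, Category.comp_id]⟩⟩
  exact {}

end Groth.Agent.S15285
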