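import Groth.Statements.S15286
import Mathlib.CategoryTheory.Monoidal.NaturalTransformation
import Mathlib.Tactic.CategoryTheory.Monoidal.Basic
import Mathlib.CategoryTheory.HomCongr

set_option autoImplicit false
universe v v' u u'
open PicCat

namespace Groth.Agent.S15286

open CategoryTheory MonoidalCategory in
theorem act_aux {D : Type u'} [Category.{v'} D] [MonoidalCategory D] [BraidedCategory D] :
    (∀ (a : 𝟙_ D ⟶ 𝟙_ D) {Z W : D} (f : Z ⟶ W),
      ((λ_ Z).inv ≫ (a ▷ Z) ≫ (λ_ Z).hom) ≫ f = f ≫ (λ_ W).inv ≫ (a ▷ W) ≫ (λ_ W).hom) ∧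
    (∀ (a : 𝟙_ D ⟶ 𝟙_ D) (Z W : D), ((λ_ Z).inv ≫ (a ▷ Z) ≫ (λ_ Z).hom) ▷ W =
      (λ_ (Z ⊗ W)).inv ≫ (a ▷ (Z ⊗ W)) ≫ (λ_ (Z ⊗ W)).hom) ∧
    (∀ (a b : 𝟙_ D ⟶ 𝟙_ D) (Z : D), ((λ_ Z).inv ≫ (a ▷ Z) ≫ (λ_ Z).hom) ≫ ((λ_ Z).inv ≫ (b ▷ Z) ≫ (λ_ Z).hom) =
      (λ_ Z).inv ≫ ((a ≫ b) ▷ Z) ≫ (λ_ Z).hom) := by
  refine ⟨fun a Z W f => ?_, fun a Z W => ?_, fun a b Z => ?_⟩
  · simp only [Category.assoc]
    rw [← leftUnitor_naturality, ← whisker_exchange_assoc, leftUnitor_inv_naturality_assoc]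
  · monoidal
  · simp

open CategoryTheory MonoidalCategory in
/-- Let C be a Picard category, D a commutative (braided) Picard category, F, G : C ⥤ D lax monoidal
functors and θ₀ : F ⟶ G a monoidal natural transformation. Identify an endomorphism φ of the unit of
D with the automorphism λ⁻¹ ≫ (φ ▷ Z) ≫ λ of any object Z. Then the monoidal natural transformations
F ⟶ G form a torsor under the monoid homomorphisms χ from the monoid of isomorphism classes of C to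
End(𝟙_D): every monoidal θ : F ⟶ G is X ↦ θ₀_X ≫ (action of χ[X] on G X) for a unique such χ, and
for every χ this formula defines a monoidal natural transformation. (The published statement allows
D non-commutative; for a non-braided monoidal groupoid the classes so obtained are crossed rather
than plain homomorphisms, so D is taken braided here.) -/
theorem result
    {C : Type u} [Category.{v} C] [MonoidalCategory C] [IsGroupoid C]
    {D : Type u'} [Category.{v'} D] [MonoidalCategory D] [BraidedCategory D] [IsGroupoid D]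
    (hC : ∀ X : C, (tensorLeft X).IsEquivalence ∧ (tensorRight X).IsEquivalence)
    (hD : ∀ X : D, (tensorLeft X).IsEquivalence ∧ (tensorRight X).IsEquivalence)
    (F G : C ⥤ D) [F.LaxMonoidal] [G.LaxMonoidal] (θ₀ : F ⟶ G) [NatTrans.IsMonoidal θ₀] :
    (∀ θ : F ⟶ G, NatTrans.IsMonoidal θ →
      ∃! χ : Skeleton C →* End (𝟙_ D), ∀ X : C,
        θ.app X = θ₀.app X ≫ (λ_ (G.obj X)).inv ≫
          ((χ (toSkeleton X) : 𝟙_ D ⟶ 𝟙_ D) ▷ G.obj X) ≫ (λ_ (G.obj X)).hom) ∧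
    (∀ χ : Skeleton C →* End (𝟙_ D), ∃ θ : F ⟶ G, NatTrans.IsMonoidal θ ∧ ∀ X : C,
        θ.app X = θ₀.app X ≫ (λ_ (G.obj X)).inv ≫
          ((χ (toSkeleton X) : 𝟙_ D ⟶ 𝟙_ D) ▷ G.obj X) ≫ (λ_ (G.obj X)).hom) := by
  classical
  obtain ⟨hnat, hright, hcomp⟩ := act_aux (D := D)
  let act : (𝟙_ D ⟶ 𝟙_ D) → ∀ Z : D, Z ⟶ Z := fun a Z => (λ_ Z).inv ≫ (a ▷ Z) ≫ (λ_ Z).hom
  have hbij : ∀ Z : D, Function.Bijective (fun a : 𝟙_ D ⟶ 𝟙_ D => act a Z) := fun Z => by
    haveI := (hD Z).2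
    let e1 : (𝟙_ D ⟶ 𝟙_ D) ≃ ((tensorRight Z).obj (𝟙_ D) ⟶ (tensorRight Z).obj (𝟙_ D)) :=
      (Functor.FullyFaithful.ofFullyFaithful (tensorRight Z)).homEquiv
    let e2 : ((tensorRight Z).obj (𝟙_ D) ⟶ (tensorRight Z).obj (𝟙_ D)) ≃ (Z ⟶ Z) := (λ_ Z).homCongr (λ_ Z)
    exact (e1.trans e2).bijective
  have hleft : ∀ (b : 𝟙_ D ⟶ 𝟙_ D) (Z W : D), Z ◁ act b W = act b (Z ⊗ W) := fun b Z W => by
    have h1 := (BraidedCategory.braiding_naturality_right Z (act b W))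
    have h2 := hright b W Z
    rw [show act b W ▷ Z = act b (W ⊗ Z) from h2] at h1
    rw [← cancel_mono (β_ Z W).hom, h1]
    exact (hnat b (β_ Z W).hom).symm
  have hone : ∀ Z : D, act (𝟙 _) Z = 𝟙 Z := fun Z => by simp [act]
  have htens : ∀ (a b : 𝟙_ D ⟶ 𝟙_ D) (Z W : D), act a Z ⊗ₘ act b W = act (a ≫ b) (Z ⊗ W) := fun a b Z W => by
    rw [tensorHom_def, show act a Z ▷ W = act a (Z ⊗ W) from hright a Z W, hleft]
    exact hcomp a b _
  have hcommute : ∀ a b : 𝟙_ D ⟶ 𝟙_ D, a ≫ b = b ≫ a := fun a b => (hbij (𝟙_ D)).1 (by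
    show act (a ≫ b) _ = act (b ≫ a) _
    rw [show act (a ≫ b) (𝟙_ D) = act a _ ≫ act b _ from (hcomp a b _).symm,
      show act (b ≫ a) (𝟙_ D) = act b _ ≫ act a _ from (hcomp b a _).symm]
    exact hnat a _)
  haveI : ∀ {X Y : D} (f : X ⟶ Y), IsIso f := fun f => IsGroupoid.all_isIso f
  refine ⟨fun θ hθ => ?_, fun χ => ?_⟩
  · choose c hc using fun X : C => (hbij (G.obj X)).2 (inv (θ₀.app X) ≫ θ.app X)
    have hθc : ∀ X, θ.app X = θ₀.app X ≫ act (c X) (G.obj X) := fun X => by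
      rw [show act (c X) (G.obj X) = _ from hc X, IsIso.hom_inv_id_assoc]
    have hiso : ∀ {X Y : C}, (X ≅ Y) → c X = c Y := fun {X Y} e => (hbij (G.obj Y)).1 (by
      show act (c X) (G.obj Y) = act (c Y) (G.obj Y)
      rw [← cancel_epi (G.map e.hom), ← cancel_epi (θ₀.app X)]
      have h := θ.naturality e.hom
      rw [hθc, hθc, θ₀.naturality_assoc, Category.assoc] at h
      rw [h]
      congr 1
      exact (hnat _ _).symm)
    have hunit : c (𝟙_ C) = 𝟙 _ := (hbij (G.obj (𝟙_ C))).1 (by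
      show act (c _) _ = act (𝟙 _) _
      have h := hθ.unit
      rw [hθc, NatTrans.IsMonoidal.unit_assoc (τ := θ₀)] at h
      rw [hone, ← cancel_epi (Functor.LaxMonoidal.ε G), h, Category.comp_id])
    have hmul : ∀ X Y : C, c (X ⊗ Y) = c X ≫ c Y := fun X Y => (hbij (G.obj (X ⊗ Y))).1 (by
      show act (c (X ⊗ Y)) _ = act (c X ≫ c Y) _
      have h := hθ.tensor X Y
      rw [hθc, hθc, hθc, NatTrans.IsMonoidal.tensor_assoc (τ := θ₀), ← tensorHom_comp_tensorHom, htens,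
        Category.assoc, cancel_epi] at h
      rw [← cancel_epi (Functor.LaxMonoidal.μ G X Y), h]
      exact hnat _ _)
    refine ⟨{ toFun := fun s => c ((fromSkeleton C).obj s)
              map_one' := ?_
              map_mul' := fun s t => ?_ }, fun X => ?_, fun χ' hχ' => ?_⟩
    · show c ((fromSkeleton C).obj (toSkeleton (𝟙_ C))) = 𝟙 _
      rw [hiso (fromSkeletonToSkeletonIso _), hunit]
    · show c ((fromSkeleton C).obj (toSkeleton _)) = c ((fromSkeleton C).obj t) ≫ c ((fromSkeleton C).obj s)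
      rw [hiso (fromSkeletonToSkeletonIso _), hcommute]
      exact hmul _ _
    · show _ = θ₀.app X ≫ act (c ((fromSkeleton C).obj (toSkeleton X))) (G.obj X)
      rw [hiso (fromSkeletonToSkeletonIso X), hθc]
    · refine MonoidHom.ext fun s => (hbij (G.obj ((fromSkeleton C).obj s))).1 ?_
      have h := hχ' ((fromSkeleton C).obj s)
      rw [toSkeleton_fromSkeleton_obj, hθc, cancel_epi] at h
      exact h.symm
  · have hsk : ∀ {X Y : C}, (X ⟶ Y) → toSkeleton X = toSkeleton Y := fun {X Y} f => by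
      haveI := IsGroupoid.all_isIso f
      exact congr_toSkeleton_of_iso (asIso f)
    let θ : F ⟶ G :=
      { app := fun X => θ₀.app X ≫ act (χ (toSkeleton X)) (G.obj X)
        naturality := fun X Y f => by
          rw [θ₀.naturality_assoc, hsk f, Category.assoc]
          exact congrArg (θ₀.app X ≫ ·) (hnat _ (G.map f)).symm }
    refine ⟨θ, ⟨?_, fun X Y => ?_⟩, fun X => rfl⟩
    · show _ ≫ θ₀.app _ ≫ act (χ (toSkeleton (𝟙_ C))) _ = _
      rw [NatTrans.IsMonoidal.unit_assoc, ← Skeleton.one_eq, map_one,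
        show act (1 : End (𝟙_ D)) (G.obj (𝟙_ C)) = 𝟙 _ from hone _, Category.comp_id]
    · show _ ≫ θ₀.app _ ≫ act (χ (toSkeleton (X ⊗ Y))) _ =
        ((θ₀.app X ≫ act (χ (toSkeleton X)) _) ⊗ₘ (θ₀.app Y ≫ act (χ (toSkeleton Y)) _)) ≫ _
      rw [NatTrans.IsMonoidal.tensor_assoc, ← tensorHom_comp_tensorHom, htens, Skeleton.toSkeleton_tensorObj, map_mul,
        Category.assoc, show (χ (toSkeleton X) * χ (toSkeleton Y) : End (𝟙_ D)) =
          (χ (toSkeleton X) : 𝟙_ D ⟶ 𝟙_ D) ≫ χ (toSkeleton Y) from hcommute _ _]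
      exact congrArg (_ ≫ ·) (hnat _ _).symm

end Groth.Agent.S15286
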