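import Groth.Statements.S1529
import Groth.Agent.S10832

set_option autoImplicit false
universe u
open CategoryTheory CategoryTheory.Limits AlgebraicGeometry
open Variety

namespace Groth.Agent.S1529

/-- A scheme of finite type over a field whose underlying topological space has Krull dimension at most
zero is affine, and its structure morphism is finite. -/
theorem result (k : Type u) [Field k] (X : Scheme.{u}) [X.Over (Spec (CommRingCat.of k))]
    [LocallyOfFiniteType (X ↘ (Spec (CommRingCat.of k)))] [QuasiCompact (X ↘ (Spec (CommRingCat.of k)))]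
    (hdim : topologicalKrullDim X ≤ 0) :
    IsAffine X ∧ IsFinite (X ↘ (Spec (CommRingCat.of k))) := by
  have h : IsAffine X ∧ (X ↘ (Spec (CommRingCat.of k))).appTop.hom.Finite := by
    rcases isEmpty_or_nonempty X with he | hne
    · haveI : Subsingleton Γ(X, ⊤) := ⟨fun a b => TopCat.Presheaf.section_ext X.sheaf ⊤ a b fun x _ => isEmptyElim x⟩
      exact ⟨inferInstance, RingHom.Finite.of_surjective _ fun b => ⟨0, Subsingleton.elim _ _⟩⟩
    · haveI := hne
      have h0 : (0 : WithBot ℕ∞) ≤ topologicalKrullDim ↥X := by
        haveI : Nonempty (TopologicalSpace.IrreducibleCloseds X) :=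
          ⟨⟨closure {Classical.arbitrary X}, isIrreducible_singleton.closure, isClosed_closure⟩⟩
        exact Order.krullDim_nonneg
      have h1 := ((Groth.Agent.S10832.result k (X ↘ (Spec (CommRingCat.of k)))).out 0 1).mp (le_antisymm hdim h0)
      exact ⟨h1.1, h1.2.1⟩
  haveI := h.1
  exact ⟨h.1, (HasAffineProperty.iff_of_isAffine (P := @IsFinite)).mpr ⟨inferInstance, h.2⟩⟩

end Groth.Agent.S1529
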