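import Groth.Statements.S15295
import Groth.Agent.Lib.DeRhamH7.BaseChange

set_option autoImplicit false
universe u
open DeRham

namespace Groth.Agent.S15295

open exteriorPower TensorProduct in
/-- The de Rham complex commutes with base change. Let R → A and R → S be ring maps and B = S ⊗_R A (an
R-algebra over A and S with the pushout property), and let ψ be the induced map of de Rham complexes
from the p-forms of A over R to the p-forms of B over S (additive maps sending b₀ db₁ ∧ … ∧ db_p to
g(b₀) d(g b₁) ∧ … ∧ d(g b_p), g : A → B the structure map). Then in each degree p the S-linear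
extension S ⊗_R ⋀^p Ω_{A/R} → ⋀^p Ω_{B/S}, s ⊗ x ↦ s · ψ_p(x), is bijective. (This row states the
degreewise bijectivity, with the base change written S ⊗_R − rather than − ⊗_R S; the compatibility
of ψ with the differentials, which makes this an isomorphism of complexes, holds for any square of
ring maps.) -/
theorem result (R S A B : Type u) [CommRing R] [CommRing S] [CommRing A] [CommRing B]
    [Algebra R S] [Algebra R A] [Algebra R B] [Algebra A B] [Algebra S B]
    [IsScalarTower R A B] [IsScalarTower R S B] [Algebra.IsPushout R S A B]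
    (ψ : ∀ p : ℕ, ↥(⋀[A]^p (Ω[A⁄R])) →+ ↥(⋀[B]^p (Ω[B⁄S])))
    (hψ : DeRham.IsCxMap (KaehlerDifferential.D R A) (KaehlerDifferential.D S B) (algebraMap A B) ψ)
    (p : ℕ) (Φ : S ⊗[R] ↥(⋀[A]^p (Ω[A⁄R])) →+ ↥(⋀[B]^p (Ω[B⁄S])))
    (hΦ : ∀ (s : S) (x : ↥(⋀[A]^p (Ω[A⁄R]))), Φ (s ⊗ₜ[R] x) = s • ψ p x) :
    Function.Bijective Φ := by
  exact DeRhamH7.bijective_baseChange_forms ψ hψ p Φ hΦ

end Groth.Agent.S15295
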