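import Groth.Statements.S15296
import Groth.Agent.Lib.DeRhamH7.Gen

set_option autoImplicit false
universe u
open DeRham

namespace Groth.Agent.S15296

open exteriorPower in
/-- Let R → A be a ring map, π a surjective A-linear map from the Kähler differentials of A over R onto
an A-module Ω', δ = π ∘ d the induced derivation A → Ω', and d_A a de Rham differential of the
Kähler differentials. Suppose the kernel of π is generated over A by elements ω with π(ω) = 0 whose
differential d_A(ω) is killed by the second exterior power of π. Then the exterior powers of Ω' over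
A carry a de Rham differential for δ: a family of R-linear maps d from p-forms to (p+1)-forms with
d(f₀ δf₁ ∧ … ∧ δf_p) = δf₀ ∧ δf₁ ∧ … ∧ δf_p and d ∘ d = 0; moreover d is compatible with d_A through
the exterior powers of π. -/
theorem result (R A Ω' : Type u) [CommRing R] [CommRing A] [Algebra R A]
    [AddCommGroup Ω'] [Module A Ω'] [Module R Ω'] [IsScalarTower R A Ω']
    (π : Ω[A⁄R] →ₗ[A] Ω') (hπ : Function.Surjective π)
    (dA : ∀ p : ℕ, ↥(⋀[A]^p (Ω[A⁄R])) →ₗ[R] ↥(⋀[A]^(p + 1) (Ω[A⁄R])))
    (hdA : DeRham.IsDiff (KaehlerDifferential.D R A) dA)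
    (hker : LinearMap.ker π ≤ Submodule.span A {ω : Ω[A⁄R] | π ω = 0 ∧
      exteriorPower.map 2 π (dA 1 ((exteriorPower.oneEquiv A (Ω[A⁄R])).symm ω)) = 0}) :
    ∃ d : ∀ p : ℕ, ↥(⋀[A]^p Ω') →ₗ[R] ↥(⋀[A]^(p + 1) Ω'),
      DeRham.IsDiff (π.compDer (KaehlerDifferential.D R A)) d ∧
        ∀ (p : ℕ) (x : ↥(⋀[A]^p (Ω[A⁄R]))),
          d p (exteriorPower.map p π x) = exteriorPower.map (p + 1) π (dA p x) := by
  exact DeRhamH7.exists_isDiff_quotient R A Ω' π hπ dA hdA hker

end Groth.Agent.S15296
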