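import Groth.Statements.S15297
import Groth.Agent.Lib.DeRhamH7.Gen

set_option autoImplicit false
universe u
open DeRham

namespace Groth.Agent.S15297

open exteriorPower in
/-- Let R → A be a ring map and d a de Rham differential of the Kähler differentials of A over R. Then
each d from p-forms to (p+1)-forms, an R-linear map between A-modules, is a differential operator of
order at most 1 relative to R → A: every commutator of d with multiplication by an element of A is
A-linear. -/
theorem result (R A : Type u) [CommRing R] [CommRing A] [Algebra R A]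
    (d : ∀ p : ℕ, ↥(⋀[A]^p (Ω[A⁄R])) →ₗ[R] ↥(⋀[A]^(p + 1) (Ω[A⁄R])))
    (hd : DeRham.IsDiff (KaehlerDifferential.D R A) d) (p : ℕ) :
    Diff16.IsDiffOpLE R A ↥(⋀[A]^p (Ω[A⁄R])) ↥(⋀[A]^(p + 1) (Ω[A⁄R])) 1 (d p) := by
  intro a
  have key : ∀ (b₀ : A) (b : Fin p → A),
      Diff16.commutator R A _ _ (d p) a (DeRham.gen (KaehlerDifferential.D R A) p b₀ b) =
        b₀ • exteriorPower.ιMulti A (p + 1)
          (Fin.cons (KaehlerDifferential.D R A a) fun i => KaehlerDifferential.D R A (b i)) := fun b₀ b => by
    have h1 : a • DeRham.gen (KaehlerDifferential.D R A) p b₀ b =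
        DeRham.gen (KaehlerDifferential.D R A) p (a * b₀) b := smul_smul a b₀ _
    show d p (a • _) - a • d p _ = _
    rw [h1, hd.1, hd.1, Derivation.leibniz]
    let F := exteriorPower.ιMulti A (p + 1) (M := KaehlerDifferential R A)
    have hadd : ∀ (v : Fin p → KaehlerDifferential R A) (x y : KaehlerDifferential R A),
        F (Fin.cons (x + y) v) = F (Fin.cons x v) + F (Fin.cons y v) := fun v x y => by
      simpa only [Fin.update_cons_zero] using F.map_update_add (Fin.cons (0 : KaehlerDifferential R A) v) 0 x y
    have hsmul : ∀ (v : Fin p → KaehlerDifferential R A) (c : A) (x : KaehlerDifferential R A),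
        F (Fin.cons (c • x) v) = c • F (Fin.cons x v) := fun v c x => by
      simpa only [Fin.update_cons_zero] using F.map_update_smul (Fin.cons (0 : KaehlerDifferential R A) v) 0 c x
    show F _ - a • F _ = b₀ • F _
    rw [hadd, hsmul, hsmul, add_sub_cancel_left]
  intro b m
  induction m using DeRhamH7.gen_induction (KaehlerDifferential.span_range_derivation R A) with
  | h0 => simp
  | hadd x y hx hy => rw [smul_add, map_add, hx, hy, map_add, smul_add]
  | hgen b₀ v =>
    have h1 : b • DeRham.gen (KaehlerDifferential.D R A) p b₀ v =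
        DeRham.gen (KaehlerDifferential.D R A) p (b * b₀) v := smul_smul b b₀ _
    rw [h1, key, key, smul_smul]

end Groth.Agent.S15297
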