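import Groth.Statements.S15298
import Mathlib

set_option autoImplicit false
universe u
open CAlg

namespace Groth.Agent.S15298

open PowerSeries

/-- Let k be a field, A a Noetherian k-algebra and x a non-zero-divisor of A such that A is separated
and complete for the (x)-adic topology, and assume that B = A/xA is formally smooth over k. Then A
is a power series ring over B in the variable x: there is a k-algebra isomorphism e : B[[T]] ≅ A
with e(T) = x whose reduction modulo x is the constant-coefficient map, i.e. e(f) ≡ f(0) mod x for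
every power series f. -/
theorem result (k A : Type u) [Field k]
    [CommRing A] [Algebra k A] [IsNoetherianRing A] (x : A) (hx : x ∈ nonZeroDivisors A)
    [IsAdicComplete (Ideal.span {x}) A] [Algebra.FormallySmooth k (A ⧸ Ideal.span {x})] :
    ∃ e : PowerSeries (A ⧸ Ideal.span {x}) ≃ₐ[k] A,
      e PowerSeries.X = x ∧
      ∀ f : PowerSeries (A ⧸ Ideal.span {x}),
        Ideal.Quotient.mk (Ideal.span {x}) (e f) = PowerSeries.constantCoeff f := by
  classical
  set I : Ideal A := Ideal.span {x} with hI
  obtain ⟨s, hs⟩ := Algebra.FormallySmooth.exists_mkₐ_comp_eq_of_isAdicComplete (R := k) (I := I) (AlgHom.id k (A ⧸ I))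
  have hs' : ∀ b, Ideal.Quotient.mk I (s b) = b := fun b => AlgHom.congr_fun hs b
  -- evaluation of truncations
  let E : (n : ℕ) → PowerSeries (A ⧸ I) → A := fun n f => ∑ i ∈ Finset.range n, s (coeff i f) * x ^ i
  let P : Polynomial (A ⧸ I) →+* A := Polynomial.eval₂RingHom s.toRingHom x
  have hP : ∀ n f, P (trunc n f) = E n f := fun n f => eval₂_trunc_eq_sum_range x s.toRingHom n f
  have hPtr : ∀ n (p : Polynomial (A ⧸ I)), P p - P (trunc n (p : PowerSeries (A ⧸ I))) ∈ I ^ n := by
    intro n p
    rw [← map_sub, show I ^ n = Ideal.span {x ^ n} from Ideal.span_singleton_pow x n, Ideal.mem_span_singleton]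
    have h : (Polynomial.X : Polynomial (A ⧸ I)) ^ n ∣ p - trunc n (p : PowerSeries (A ⧸ I)) := by
      rw [Polynomial.X_pow_dvd_iff]
      intro d hd
      rw [Polynomial.coeff_sub, coeff_trunc, if_pos hd, Polynomial.coeff_coe, sub_self]
    have h2 := map_dvd P h
    rwa [map_pow, show P Polynomial.X = x from Polynomial.eval₂_X _ _] at h2
  let g : (n : ℕ) → PowerSeries (A ⧸ I) →+* A ⧸ I ^ n := fun n =>
    { toFun := fun f => Ideal.Quotient.mk _ (P (trunc n f))
      map_zero' := by simp
      map_add' := fun a b => by simp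
      map_one' := by
        rcases n with _ | n
        · haveI : Subsingleton (A ⧸ I ^ 0) := Ideal.Quotient.subsingleton_iff.2 (by simp)
          exact Subsingleton.elim _ _
        · simp [trunc_one]
      map_mul' := fun a b => by
        rw [← map_mul, ← map_mul, eq_comm, Ideal.Quotient.eq, ← trunc_trunc_mul_trunc (f := a) (g := b), ← Polynomial.coe_mul]
        exact hPtr n _ }
  have hg : ∀ n f, g n f = Ideal.Quotient.mk (I ^ n) (E n f) := fun n f => congrArg (Ideal.Quotient.mk (I ^ n)) (hP n f)
  have hcompat : ∀ {a b : ℕ} (hle : a ≤ b), (Ideal.Quotient.factorPow I hle).comp (g b) = g a := by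
    intro a b hle
    refine RingHom.ext fun f => ?_
    rw [RingHom.comp_apply, hg, hg, Ideal.Quotient.factor_mk, Ideal.Quotient.eq]
    have h : E b f - E a f = ∑ i ∈ Finset.Ico a b, s (coeff i f) * x ^ i := by
      simp only [E]
      rw [Finset.sum_Ico_eq_sub _ hle]
    rw [h]
    refine sum_mem fun i hi => Ideal.mul_mem_left _ _ ?_
    exact Ideal.pow_le_pow_right (Finset.mem_Ico.1 hi).1 (Ideal.pow_mem_pow (Ideal.mem_span_singleton_self x) i)
  let e : PowerSeries (A ⧸ I) →+* A := IsAdicComplete.liftRingHom I g hcompat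
  have he : ∀ n f, Ideal.Quotient.mk (I ^ n) (e f) = Ideal.Quotient.mk (I ^ n) (E n f) := fun n f => by
    rw [IsAdicComplete.mk_liftRingHom, hg]
  have heq : ∀ a b : A, (∀ n, Ideal.Quotient.mk (I ^ n) a = Ideal.Quotient.mk (I ^ n) b) → a = b := fun a b h => by
    rw [IsHausdorff.eq_iff_smodEq (I := I)]
    intro n
    rw [SModEq.sub_mem, smul_eq_mul, Ideal.mul_top, ← Ideal.Quotient.eq]
    exact h n
  have hcomm : ∀ r : k, e (algebraMap k _ r) = algebraMap k A r := fun r => heq _ _ fun n => by
    rw [he]
    rcases n with _ | n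
    · haveI : Subsingleton (A ⧸ I ^ 0) := Ideal.Quotient.subsingleton_iff.2 (by simp)
      exact Subsingleton.elim _ _
    · congr 1
      simp only [E]
      rw [IsScalarTower.algebraMap_apply k (A ⧸ I) (PowerSeries (A ⧸ I)) r, PowerSeries.algebraMap_eq, Finset.sum_eq_single 0 (fun i _ hi => by rw [coeff_C, if_neg hi, map_zero, zero_mul])
        (fun h => absurd (Finset.mem_range.2 n.succ_pos) h), coeff_C, if_pos rfl, pow_zero, mul_one]
      exact s.commutes r
  have hinj : Function.Injective e := by
    rw [injective_iff_map_eq_zero]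
    intro f hf
    ext i
    rw [map_zero]
    induction i using Nat.strong_induction_on with
    | _ i ih =>
      have h := he (i + 1) f
      rw [hf, map_zero, eq_comm, Ideal.Quotient.eq_zero_iff_mem] at h
      simp only [E, Finset.sum_range_succ] at h
      rw [Finset.sum_eq_zero (fun j hj => by rw [ih j (Finset.mem_range.1 hj), map_zero, zero_mul]), zero_add,
        show I ^ (i + 1) = Ideal.span {x ^ (i + 1)} from Ideal.span_singleton_pow x (i + 1), Ideal.mem_span_singleton, pow_succ, mul_comm (x ^ i) x] at h
      have hxi : x ^ i ∈ nonZeroDivisors A := pow_mem hx i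
      obtain ⟨c, hc⟩ := h
      have : s (coeff i f) = x * c := (mul_cancel_right_mem_nonZeroDivisors hxi).1 (by rw [hc]; ring)
      rw [← hs' (coeff i f), this, map_mul, Ideal.Quotient.eq_zero_iff_mem.2 (Ideal.mem_span_singleton_self x), zero_mul]
  have hsurj : Function.Surjective e := by
    intro a
    have hdiv : ∀ b : A, ∃ c, b - s (Ideal.Quotient.mk I b) = x * c := fun b =>
      Ideal.mem_span_singleton.1 (Ideal.Quotient.eq_zero_iff_mem.1 (show Ideal.Quotient.mk I (b - s (Ideal.Quotient.mk I b)) = 0 by
        rw [map_sub, hs', sub_self]))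
    choose next hnext using hdiv
    let a' : ℕ → A := fun n => next^[n] a
    refine ⟨PowerSeries.mk fun i => Ideal.Quotient.mk I (a' i), heq _ _ fun n => ?_⟩
    rw [he, Ideal.Quotient.eq]
    have h : ∀ n, a = (∑ i ∈ Finset.range n, s (Ideal.Quotient.mk I (a' i)) * x ^ i) + x ^ n * a' n := by
      intro n
      induction n with
      | zero => simp [a']
      | succ n ih =>
        have hn := hnext (a' n)
        rw [Finset.sum_range_succ, show a' (n + 1) = next (a' n) from Function.iterate_succ_apply' next n a]
        linear_combination ih + x ^ n * hn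
    have h2 : E n (PowerSeries.mk fun i => Ideal.Quotient.mk I (a' i)) = ∑ i ∈ Finset.range n, s (Ideal.Quotient.mk I (a' i)) * x ^ i := by
      simp [E]
    rw [h2, ← neg_sub]
    refine neg_mem ?_
    nth_rewrite 1 [h n]
    rw [add_sub_cancel_left]
    exact Ideal.mul_mem_right _ _ (Ideal.pow_mem_pow (Ideal.mem_span_singleton_self x) n)
  refine ⟨AlgEquiv.ofBijective { e with commutes' := hcomm } ⟨hinj, hsurj⟩, heq _ _ fun n => ?_, fun f => ?_⟩
  · show Ideal.Quotient.mk (I ^ n) (e X) = _
    rw [he]
    rcases n with _ | _ | n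
    · haveI : Subsingleton (A ⧸ I ^ 0) := Ideal.Quotient.subsingleton_iff.2 (by simp)
      exact Subsingleton.elim _ _
    · rw [Ideal.Quotient.eq, pow_one]
      simp [E, coeff_X]
      exact Ideal.mem_span_singleton_self x
    · congr 1
      simp only [E]
      rw [Finset.sum_eq_single 1 (fun i _ hi => by rw [coeff_X, if_neg hi, map_zero, zero_mul])
        (fun h => absurd (Finset.mem_range.2 (by omega)) h), coeff_X, if_pos rfl, map_one, one_mul, pow_one]
  · show Ideal.Quotient.mk I (e f) = _
    have h : e f - E 1 f ∈ I := by simpa [Ideal.Quotient.eq] using he 1 f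
    rw [Ideal.Quotient.eq.2 h]
    simp only [E, Finset.sum_range_one, pow_zero, mul_one, hs', coeff_zero_eq_constantCoeff]

end Groth.Agent.S15298
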