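import Groth.Statements.S15300
import Groth.Agent.Lib.MilnorCx2.Basic

set_option autoImplicit false
universe u
open HomAlg3

namespace Groth.Agent.S15300

open CategoryTheory CategoryTheory.Limits Opposite in
/-- For abelian groups, let (A_n)_n be a tower of cochain complexes of abelian groups, indexed by the
natural numbers, all of whose transition maps A_{n+1}^p → A_n^p are surjective. Then for every p
there is a short exact sequence 0 → lim¹_n h^(p-1)(A_n) → h^p(lim_n A_n) → lim_n h^p(A_n) → 0: the
comparison map h^p(lim A_n) → lim h^p(A_n) is surjective and its kernel is isomorphic to lim¹ of the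
tower of the (p-1)-st cohomology groups (existence of an isomorphism only). (The published statement
is made in an axiomatic setting that also covers quasi-coherent sheaves; this row is the case of
abelian groups.) -/
theorem result
    (K : ℕᵒᵖ ⥤ HomologicalComplex AddCommGrpCat.{u} (ComplexShape.up ℤ))
    (hK : ∀ (n : ℕ) (q : ℤ), Function.Surjective ((K.map (homOfLE (Nat.le_succ n)).op).f q).hom)
    (p q : ℤ) (hqp : q + 1 = p) :
    Function.Surjective (limit.post K (HomologicalComplex.homologyFunctor _ _ p)).hom ∧
      Nonempty ((limit.post K (HomologicalComplex.homologyFunctor _ _ p)).hom.ker ≃+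
        Formal2.limOne (fun n => (K.obj (op n)).homology q)
          (fun n => (HomologicalComplex.homologyMap (K.map (homOfLE (Nat.le_succ n)).op) q).hom)) := by
  refine ⟨?_, Groth.Agent.MilnorCx2.nonempty_ker_equiv K hqp fun n j => hK n j⟩
  refine Groth.Agent.MLLim8.surjective_post K p ⟨Set.univ, Set.countable_univ, fun i => ⟨i, trivial, le_rfl⟩⟩
    (Groth.Agent.MilnorCx2.hprev hqp) fun j => ⟨j, 𝟙 _, fun k g => ?_⟩
  rintro x -
  have hsurj : ∀ (a b : ℕ) (hab : a ≤ b), Function.Surjective ((K.map (homOfLE hab).op).f q) := by
    intro a b hab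
    induction b, hab using Nat.le_induction with
    | base => exact fun x => ⟨x, Groth.Agent.MLLim8.res_self (Groth.Agent.MLLim8.deg K q) (le_refl a) x⟩
    | succ b hb ih =>
      intro x
      obtain ⟨y, rfl⟩ := ih x
      obtain ⟨z, rfl⟩ := hK b q y
      exact ⟨z, (Groth.Agent.MLLim8.res_res (Groth.Agent.MLLim8.deg K q) hb (Nat.le_succ b) z).symm⟩
  obtain ⟨y, hy⟩ := hsurj j.unop k.unop (leOfHom g.unop) x
  refine ⟨y, ?_⟩
  exact hy.trans rfl

end Groth.Agent.S15300
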