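import Groth.Statements.S15301
import Groth.Agent.Lib.ProdExt8.Top

set_option autoImplicit false
universe u
open HomAlg3

namespace Groth.Agent.S15301

set_option backward.isDefEq.respectTransparency false

open CategoryTheory CategoryTheory.Limits TopologicalSpace Opposite


open CategoryTheory CategoryTheory.Limits TopologicalSpace Opposite in
/-- For the functor of sections over an open U, let (F_n)_n be a tower of sheaves of abelian groups on a
topological space X, indexed by the natural numbers, with limit sheaf lim F_n, and let B be a basis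
of opens of X such that for every V in B (a) every transition map F_{n+1}(V) → F_n(V) is surjective
and (b) every H^i(V, F_n) with i > 0 vanishes. Then for every open U and every i = j + 1 ≥ 1 there
is a short exact sequence 0 → lim¹_n H^j(U, F_n) → H^i(U, lim F_n) → lim_n H^i(U, F_n) → 0: every
family of classes in the H^i(U, F_n) compatible under the transition maps comes from a class on lim
F_n, and the kernel of H^i(U, lim F_n) → ∏_n H^i(U, F_n) is isomorphic to lim¹ of the tower (H^j(U,
F_n))_n (existence of an isomorphism only). In particular the comparison map is injective as soon as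
that lim¹ vanishes. (The published statement is for any functor T on abelian sheaves commuting with
products, such as Γ, Γ_Y, f_*; this row is the case T = Γ(U, −).) -/
theorem result {X : TopCat.{u}} (F : ℕᵒᵖ ⥤ CohTop.Ab X)
    (B : Set (Opens X)) (hB : Opens.IsBasis B)
    (hsurj : ∀ V ∈ B, ∀ n : ℕ,
      Function.Surjective ((F.map (homOfLE (Nat.le_succ n)).op).hom.app (op V)).hom)
    (hvan : ∀ V ∈ B, ∀ (n i : ℕ), 0 < i → Subsingleton (CohTop.HU (F.obj (op n)) i V))
    (U : Opens X) (i j : ℕ) (hij : j + 1 = i) :
    (∀ ξ : ∀ n : ℕ, CohTop.HU (F.obj (op n)) i U,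
      (∀ n, CohTop.HUmap (F.map (homOfLE (Nat.le_succ n)).op) i U (ξ (n + 1)) = ξ n) →
        ∃ η : CohTop.HU (limit F) i U, ∀ n, CohTop.HUmap (limit.π F (op n)) i U η = ξ n) ∧
    Nonempty ((AddMonoidHom.pi fun n : ℕ => CohTop.HUmap (limit.π F (op n)) i U).ker ≃+
      Formal2.limOne (fun n : ℕ => CohTop.HU (F.obj (op n)) j U)
        (fun n : ℕ => CohTop.HUmap (F.map (homOfLE (Nat.le_succ n)).op) j U)) := by
  exact ProdExt8.milnor F (ProdExt8.prodAcyclic hB) (SiteCoh.fr (Opens.grothendieckTopology X) U)
    (fun n V hV i hi => hvan V hV n i hi) _ (limit.isLimit F) (ProdExt8.epi_diff hB F hsurj) i j hij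


end Groth.Agent.S15301
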