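import Groth.Statements.S15302
import Mathlib.CategoryTheory.Abelian.Injective.Resolution
import Mathlib.Algebra.Homology.HomologicalComplexBiprod
import Mathlib.Algebra.Homology.Homotopy
import Mathlib.Algebra.Homology.QuasiIso

set_option autoImplicit false
universe v u
open HomAlg3

namespace Groth.Agent.S15302

set_option backward.isDefEq.respectTransparency false
section
open CategoryTheory CategoryTheory.Limits

variable {C : Type u} [Category.{v} C] [Abelian C] (I : CochainComplex C ℕ)

/-- The terms of the sum of the discs on the terms. -/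
noncomputable abbrev Y : ℕ → C
  | 0 => I.X 0
  | p + 1 => I.X (p + 1) ⊞ I.X p

noncomputable def dY : ∀ p, Y I p ⟶ Y I (p + 1)
  | 0 => biprod.inr
  | _ + 1 => biprod.fst ≫ biprod.inr

noncomputable def P : CochainComplex C ℕ :=
  CochainComplex.of (Y I) (dY I) (fun p => by cases p <;> simp [dY])

theorem P_d (p : ℕ) : (P I).d p (p + 1) = dY I p := CochainComplex.of_d _ _ p

noncomputable def pr : P I ⟶ I where
  f p := match p with
    | 0 => 𝟙 (I.X 0)
    | p + 1 => biprod.desc (𝟙 _) (I.d p (p + 1))
  comm' i j h := by
    obtain rfl : i + 1 = j := h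
    rw [P_d]
    cases i with
    | zero => simp [dY] <;> exact Category.id_comp _
    | succ k =>
      apply biprod.hom_ext'
      · simp [dY]
      · simp [dY, HomologicalComplex.d_comp_d]

noncomputable def sec : ∀ p, I.X p ⟶ (P I).X p
  | 0 => 𝟙 _
  | _ + 1 => biprod.inl

theorem sec_pr (p : ℕ) : sec I p ≫ (pr I).f p = 𝟙 _ := by
  cases p with
  | zero => exact Category.id_comp _
  | succ k => exact biprod.inl_desc _ _

noncomputable def hY : ∀ p, Y I (p + 1) ⟶ Y I p
  | 0 => biprod.snd
  | _ + 1 => biprod.snd ≫ biprod.inl

noncomputable def hP : ∀ i j, (ComplexShape.up ℕ).Rel j i → ((P I).X i ⟶ (P I).X j) :=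
  fun _ j h => eqToHom (congrArg (Y I) (Eq.symm h)) ≫ hY I j

noncomputable def contr : Homotopy (𝟙 (P I)) 0 := (Homotopy.ofEq (by
  ext p
  cases p with
  | zero =>
    rw [Homotopy.nullHomotopicMap'_f_of_not_rel_right (c := ComplexShape.up ℕ) (k₁ := 0) (k₀ := 1) (by simp : (ComplexShape.up ℕ).Rel 0 1) (fun l => by simp) (hP I)]
    simp [hP, P_d]
    exact biprod.inr_snd.symm
  | succ k =>
    rw [Homotopy.nullHomotopicMap'_f (k₂ := k) (k₁ := k + 1) (k₀ := k + 2) (c := ComplexShape.up ℕ) rfl rfl (hP I)]
    simp [hP, P_d]
    apply biprod.hom_ext' <;> cases k <;> simp [hY, dY] <;> exact (Category.comp_id _))).trans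
  (Homotopy.nullHomotopy' (hP I))

theorem injective_P (h : ∀ p, Injective (I.X p)) : ∀ p, Injective ((P I).X p)
  | 0 => h 0
  | p + 1 => haveI := h (p + 1); haveI := h p; inferInstanceAs (Injective (I.X (p + 1) ⊞ I.X p))

/-- The inclusion of a summand is a homotopy equivalence when the other is contractible. -/
noncomputable def inlEquiv (A : CochainComplex C ℕ) : HomotopyEquiv A (A ⊞ P I) where
  hom := biprod.inl
  inv := biprod.fst
  homotopyHomInvId := Homotopy.ofEq biprod.inl_fst
  homotopyInvHomId := Homotopy.symm <| (Homotopy.ofEq (biprod.total (X := A) (Y := P I)).symm).trans <|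
    ((Homotopy.refl (biprod.fst ≫ biprod.inl)).add
      ((((contr I).compLeft biprod.snd).compRight biprod.inr).trans (Homotopy.ofEq (by simp : (biprod.snd ≫ 0) ≫ biprod.inr = (0 : A ⊞ P I ⟶ A ⊞ P I))) |> (Homotopy.ofEq (by simp)).trans)).trans
      (Homotopy.ofEq (add_zero _))

end



open CategoryTheory CategoryTheory.Limits in
/-- In an abelian category with enough injectives, let α : G ⟶ F be a morphism and I an injective
resolution of F. Then G has an injective resolution J together with a morphism of cochain complexes
β : J ⟶ I lying over α (the augmentations commute with α and β) such that for every p there are an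
object K^p and an isomorphism J^p ≅ I^p ⊕ K^p identifying β^p with the projection onto the first
factor (so K^p is injective as well). (The published statement is for abelian sheaves on a
topological space; its proof uses only an embedding of G into an injective object and cokernels, so
the row is stated in any abelian category with enough injectives.) -/
theorem result {C : Type u} [Category.{v} C] [Abelian C]
    [EnoughInjectives C] {G F : C} (α : G ⟶ F) (I : InjectiveResolution F) :
    ∃ (J : InjectiveResolution G) (β : J.cocomplex ⟶ I.cocomplex),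
      J.ι ≫ β = (CochainComplex.single₀ C).map α ≫ I.ι ∧
      ∀ p : ℕ, ∃ (K : C) (e : J.cocomplex.X p ≅ I.cocomplex.X p ⊞ K), β.f p = e.hom ≫ biprod.fst := by
  classical
  obtain ⟨IG⟩ := (HasInjectiveResolution.out : Nonempty (InjectiveResolution G))
  let K := I.cocomplex
  have hK : ∀ p, Injective (K.X p) := I.injective
  haveI : ∀ p, Injective ((IG.cocomplex ⊞ P K).X p) := fun p => by
    haveI := injective_P K hK p
    haveI : Injective (IG.cocomplex.X p) := IG.injective p
    exact Injective.of_iso (HomologicalComplex.biprodXIso IG.cocomplex (P K) p).symm inferInstance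
  haveI : QuasiIso (biprod.inl : IG.cocomplex ⟶ IG.cocomplex ⊞ P K) := (inlEquiv K IG.cocomplex).quasiIso_hom
  let J : InjectiveResolution G :=
    { cocomplex := IG.cocomplex ⊞ P K
      ι := IG.ι ≫ biprod.inl }
  let β : J.cocomplex ⟶ K := biprod.desc (InjectiveResolution.desc α I IG) (pr K)
  refine ⟨J, β, ?_, fun p => ?_⟩
  · show (IG.ι ≫ biprod.inl) ≫ biprod.desc (InjectiveResolution.desc α I IG) (pr K) = _
    rw [Category.assoc, biprod.inl_desc]
    exact InjectiveResolution.desc_commutes α I IG
  · let s : K.X p ⟶ J.cocomplex.X p := sec K p ≫ (biprod.inr : P K ⟶ IG.cocomplex ⊞ P K).f p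
    have hs : s ≫ β.f p = 𝟙 _ := by
      show (sec K p ≫ _) ≫ (biprod.desc _ (pr K)).f p = _
      rw [Category.assoc, ← HomologicalComplex.comp_f, biprod.inr_desc, sec_pr]
    let q : J.cocomplex.X p ⟶ kernel (β.f p) := kernel.lift _ (𝟙 _ - β.f p ≫ s) (by simp [hs])
    refine ⟨kernel (β.f p), ⟨biprod.lift (β.f p) q, biprod.desc s (kernel.ι _), ?_, ?_⟩, ?_⟩
    · simp [q, biprod.lift_desc]
    · have hsq : s ≫ q = 0 := by
        rw [← cancel_mono (kernel.ι (β.f p))]
        simp [q, reassoc_of% hs]
      apply biprod.hom_ext' <;> apply biprod.hom_ext <;> simp [hs, hsq] <;>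
        first | rfl | (rw [← cancel_mono (kernel.ι (β.f p))]; simp [q])
    · simp


end Groth.Agent.S15302
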