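import Groth.Statements.S15303
import Groth.Agent.Lib.EtSlice2.Basic

set_option autoImplicit false
set_option maxHeartbeats 1000000
set_option linter.style.haveILetI false
set_option backward.isDefEq.respectTransparency false
universe u
open EtBase

namespace Groth.Agent.S15303

open CategoryTheory AlgebraicGeometry in
/-- Let k be a field of characteristic zero, X and Y smooth k-schemes, f : X ⟶ Y a smooth k-morphism and
i : Z ⟶ X a closed immersion such that the composite Z ⟶ Y is again a closed immersion. Then for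
every point z of Z there are an open neighbourhood U of i(z) in X and a closed subscheme j : W ⟶ U
of U which is étale over Y (through U ⊆ X ⟶ Y) and contains Z ∩ U, i.e. the restriction of i over U
factors through j. -/
theorem result (k : Type u) [Field k] [CharZero k]
    {X Y Z : Scheme.{u}} [X.Over (Spec (CommRingCat.of k))] [Y.Over (Spec (CommRingCat.of k))]
    [Smooth (X ↘ Spec (CommRingCat.of k))] [Smooth (Y ↘ Spec (CommRingCat.of k))]
    (f : X ⟶ Y) [f.IsOver (Spec (CommRingCat.of k))] [Smooth f]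
    (i : Z ⟶ X) [IsClosedImmersion i] [IsClosedImmersion (i ≫ f)] (z : Z) :
    ∃ (U : X.Opens) (_ : i.base z ∈ U) (W : Scheme.{u}) (j : W ⟶ (U : Scheme.{u})) (_ : IsClosedImmersion j)
      (_ : Etale (j ≫ U.ι ≫ f)) (g : ((i ⁻¹ᵁ U : Z.Opens) : Scheme.{u}) ⟶ W), g ≫ j = i ∣_ U := by
  obtain ⟨V, hV, hyV, -⟩ := exists_isAffineOpen_mem_and_subset (X := Y) (x := f (i z)) (U := ⊤) trivial
  obtain ⟨U₀, hU₀, hxU₀, hU₀V⟩ := exists_isAffineOpen_mem_and_subset (X := X) (x := i z) (U := f ⁻¹ᵁ V) hyV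
  have e₀ : U₀ ≤ f ⁻¹ᵁ V := hU₀V
  have hP : IsAffineOpen (i ⁻¹ᵁ U₀) := hU₀.preimage i
  have eP : i ⁻¹ᵁ U₀ ≤ (i ≫ f) ⁻¹ᵁ V := i.preimage_mono e₀
  letI : Algebra Γ(Y, V) Γ(X, U₀) := (f.appLE V U₀ e₀).hom.toAlgebra
  letI : Algebra Γ(X, U₀) Γ(Z, i ⁻¹ᵁ U₀) := (i.app U₀).hom.toAlgebra
  letI : Algebra Γ(Y, V) Γ(Z, i ⁻¹ᵁ U₀) := ((i ≫ f).appLE V (i ⁻¹ᵁ U₀) eP).hom.toAlgebra
  haveI : IsScalarTower Γ(Y, V) Γ(X, U₀) Γ(Z, i ⁻¹ᵁ U₀) := IsScalarTower.of_algebraMap_eq fun a => by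
    show ((i ≫ f).appLE V (i ⁻¹ᵁ U₀) eP).hom a = (i.app U₀).hom ((f.appLE V U₀ e₀).hom a)
    rw [Scheme.Hom.app_eq_appLE, ← CommRingCat.comp_apply, Scheme.Hom.appLE_comp_appLE]
  haveI : Algebra.Smooth Γ(Y, V) Γ(X, U₀) := f.smooth_appLE hV hU₀ e₀
  haveI : Algebra.FormallyUnramified Γ(Y, V) Γ(Z, i ⁻¹ᵁ U₀) := (i ≫ f).formallyUnramified_appLE hV hP eP
  have hπ : Function.Surjective (algebraMap Γ(X, U₀) Γ(Z, i ⁻¹ᵁ U₀)) := i.app_surjective U₀ hU₀
  let := TopCat.Presheaf.algebra_section_stalk X.presheaf (⟨i z, hxU₀⟩ : U₀)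
  haveI := hU₀.isLocalization_stalk ⟨i z, hxU₀⟩
  have hmem : ∀ b : Γ(X, U₀), i z ∈ X.basicOpen b ↔ b ∉ (hU₀.primeIdealOf ⟨i z, hxU₀⟩).asIdeal := fun b => by
    rw [Scheme.mem_basicOpen _ _ _ hxU₀]
    exact IsLocalization.AtPrime.isUnit_to_map_iff (X.presheaf.stalk (i z)) (hU₀.primeIdealOf ⟨i z, hxU₀⟩).asIdeal b
  obtain ⟨h, κ, hκ, g, hh, hg, het⟩ := Groth.Agent.EtSlice2.exists_etale_data (A := Γ(Y, V)) Γ(Z, i ⁻¹ᵁ U₀) hπ
    (hU₀.primeIdealOf ⟨i z, hxU₀⟩).asIdeal (fun b hb => by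
      by_contra hc
      have h1 := (hmem b).2 hc
      have h2 : z ∈ Z.basicOpen ((i.app U₀).hom b) := by rw [← Scheme.preimage_basicOpen]; exact h1
      rw [show (i.app U₀).hom b = 0 from hb, Scheme.basicOpen_zero] at h2
      exact h2)
  let U := X.basicOpen h
  have hU : IsAffineOpen U := hU₀.basicOpen h
  have hUU₀ : U ≤ U₀ := X.basicOpen_le h
  have eU : U ≤ f ⁻¹ᵁ V := hUU₀.trans e₀
  letI : Algebra Γ(X, U₀) Γ(X, U) := (X.presheaf.map (homOfLE hUU₀).op).hom.toAlgebra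
  haveI : IsLocalization.Away h Γ(X, U) := hU₀.isLocalization_basicOpen h
  letI : Algebra Γ(Y, V) Γ(X, U) := (f.appLE V U eU).hom.toAlgebra
  haveI : IsScalarTower Γ(Y, V) Γ(X, U₀) Γ(X, U) := IsScalarTower.of_algebraMap_eq fun a => by
    show (f.appLE V U eU).hom a = (X.presheaf.map (homOfLE hUU₀).op).hom ((f.appLE V U₀ e₀).hom a)
    rw [← CommRingCat.comp_apply, Scheme.Hom.appLE_map]
  have hE := het Γ(X, U)
  let J : Ideal Γ(X, U) := Ideal.span (Set.range fun k => algebraMap Γ(X, U₀) Γ(X, U) (g k))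
  let Q := CommRingCat.of (Γ(X, U) ⧸ J)
  let mk : Γ(X, U) ⟶ Q := CommRingCat.ofHom (Ideal.Quotient.mk J)
  let j : Spec Q ⟶ (U : Scheme.{u}) := Spec.map mk ≫ hU.isoSpec.inv
  haveI : IsClosedImmersion (Spec.map mk) := IsClosedImmersion.spec_of_surjective mk Ideal.Quotient.mk_surjective
  have hje : j ≫ U.ι ≫ f = Spec.map (f.appLE V U eU ≫ mk) ≫ hV.fromSpec := by
    simp only [j, Category.assoc, IsAffineOpen.isoSpec_inv_ι_assoc]
    rw [Spec.map_comp, Category.assoc, hV.SpecMap_appLE_fromSpec f hU eU]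
  have hP' : IsAffineOpen (i ⁻¹ᵁ U) := hU.preimage i
  have hJ : J ≤ RingHom.ker (i.app U).hom := by
    refine Ideal.span_le.2 ?_
    rintro _ ⟨k, rfl⟩
    show (i.app U).hom ((X.presheaf.map (homOfLE hUU₀).op).hom (g k)) = 0
    have hn := ConcreteCategory.congr_hom (i.naturality (homOfLE hUU₀).op) (g k)
    refine hn.trans ?_
    show (Z.presheaf.map _).hom ((i.app U₀).hom (g k)) = 0
    rw [show (i.app U₀).hom (g k) = 0 from hg k, map_zero]
  let lam : Q ⟶ Γ(Z, i ⁻¹ᵁ U) := CommRingCat.ofHom (Ideal.Quotient.lift J (i.app U).hom hJ)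
  have hlam : mk ≫ lam = i.app U := by ext a; rfl
  refine ⟨U, (hmem h).2 hh, Spec Q, j, inferInstance, ?_, hP'.isoSpec.hom ≫ Spec.map lam, ?_⟩
  · rw [hje]
    haveI : AlgebraicGeometry.Etale (Spec.map (f.appLE V U eU ≫ mk)) := by
      rw [HasRingHomProperty.Spec_iff (P := @AlgebraicGeometry.Etale)]
      show RingHom.Etale _
      rw [RingHom.Etale]
      convert hE
    infer_instance
  · rw [← cancel_mono U.ι, morphismRestrict_ι]
    simp only [j, Category.assoc, IsAffineOpen.isoSpec_inv_ι]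
    rw [← Category.assoc (Spec.map lam), ← Spec.map_comp, hlam, Scheme.Hom.app_eq_appLE,
      hU.SpecMap_appLE_fromSpec i hP' le_rfl, ← hP'.isoSpec_inv_ι]
    simp

end Groth.Agent.S15303
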