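import Groth.Statements.S15305
import Groth.Agent.Lib.CountLim15.Main
-- import your own Groth.Agent.* helpers here

set_option autoImplicit false
universe u
open Coh

namespace Groth.Agent.S15305

open CategoryTheory CategoryTheory.Limits AlgebraicGeometry Opposite in
/-- Let X be a finite-type scheme over a field k, and let (F_n) be a tower of quasi-coherent O_X-modules
whose limit lim F_n receives an epimorphism from a countably quasi-coherent module G
(quasi-coherent, with countably generated sections over every affine open), resp. from a coherent G.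
Then lim F_n is itself countably quasi-coherent, resp. coherent. -/
theorem result (k : Type u) [Field k] (X : Scheme.{u})
    [X.Over (Spec (CommRingCat.of k))] [LocallyOfFiniteType (X ↘ Spec (CommRingCat.of k))] [CompactSpace X]
    (F : ℕᵒᵖ ⥤ X.Modules) (hF : ∀ n : ℕ, Coh.IsQCoh (F.obj (op n)))
    (G : X.Modules) (hG : Coh.IsQCoh G)
    (hGc : (∀ U : X.affineOpens, ∃ s : Set (G.val.obj (op (U : X.Opens))),
        s.Countable ∧ Submodule.span (X.ringCatSheaf.obj.obj (op (U : X.Opens))) s = ⊤))
    (φ : G ⟶ limit F) [Epi φ] :
    Coh.IsQCoh (limit F) ∧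
      (∀ U : X.affineOpens, ∃ s : Set ((limit F).val.obj (op (U : X.Opens))),
        s.Countable ∧ Submodule.span (X.ringCatSheaf.obj.obj (op (U : X.Opens))) s = ⊤) ∧
      (Coh.IsCoh G → Coh.IsCoh (limit F)) := by
  haveI : IsLocallyNoetherian X := LocallyOfFiniteType.isLocallyNoetherian (X ↘ Spec (CommRingCat.of k))
  have hq : Coh.IsQCoh (limit F) :=
    CountLim15.exists_limit_iso F φ k (X ↘ Spec (CommRingCat.of k)) hF hG hGc
  refine ⟨hq, fun U => ?_, fun h => CountLim15.isCoh_of_epi φ h hq⟩
  obtain ⟨s, hs, hspan⟩ := hGc U
  exact CountLim15.exists_countable_span_of_epi φ hG hq U.2 s hs hspan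


end Groth.Agent.S15305
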