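import Groth.Statements.S16585
import Groth.Agent.Lib.CountLim15.Converse
-- import your own Groth.Agent.* helpers here

set_option autoImplicit false
universe u
open Coh

namespace Groth.Agent.S16585

open CategoryTheory CategoryTheory.Limits AlgebraicGeometry Opposite in
/-- Fix a ground field k and a scheme X of finite type over k, and consider a tower (F_n) of O_X-modules
that are countably quasi-coherent (meaning quasi-coherent, with the sections over each affine open
countably generated). Write lim¹ F for the cokernel of the endomorphism of ∏ F_n sending (x_n) to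
(x_n − φ_n(x_{n+1})); when the tower consists of quasi-coherent modules, this agrees with the first
derived functor of lim. Then three conditions are equivalent: (i) the Mittag-Leffler condition holds
for the tower (F_n); (ii) lim¹ F vanishes; (iii) lim¹ F is countably quasi-coherent. No restriction
on the ground field is needed. -/
theorem result (k : Type u) [Field k] (X : Scheme.{u})
    [X.Over (Spec (CommRingCat.of k))] [LocallyOfFiniteType (X ↘ Spec (CommRingCat.of k))] [CompactSpace X]
    (F : ℕᵒᵖ ⥤ X.Modules) (hF : ∀ n : ℕ, Coh.IsQCoh (F.obj (op n)))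
    (hFc : ∀ n : ℕ, (∀ U : X.affineOpens, ∃ s : Set ((F.obj (op n)).val.obj (op (U : X.Opens))),
          s.Countable ∧ Submodule.span (X.ringCatSheaf.obj.obj (op (U : X.Opens))) s = ⊤)) :
    List.TFAE
      [ ∀ n : ℕ, ∃ (m : ℕ) (hm : n ≤ m), ∀ (m' : ℕ) (hm' : m ≤ m'),
          imageSubobject (F.map (homOfLE (hm.trans hm')).op) = imageSubobject (F.map (homOfLE hm).op),
        IsZero (LimSh.limOneSh F),
        Coh.IsQCoh (LimSh.limOneSh F) ∧
          ∀ U : X.affineOpens, ∃ s : Set ((LimSh.limOneSh F).val.obj (op (U : X.Opens))),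
            s.Countable ∧ Submodule.span (X.ringCatSheaf.obj.obj (op (U : X.Opens))) s = ⊤ ] := by
  tfae_have 1 → 2 := fun h => CountLim15.isZero_limOneSh_of_ml F hF h
  tfae_have 2 → 3 := fun h => by
    refine ⟨?_, fun U => ⟨∅, Set.countable_empty, ?_⟩⟩
    · exact M1.isQCoh_of_isIso ((isZero_zero X.Modules).iso h |>.trans (Iso.refl _))
        (M1.isQCoh_of_isIso (IsZero.iso (Limits.IsZero.of_iso (isZero_zero _) (cokernel.ofEpi (𝟙 (F.obj (op 0))))) (isZero_zero _))
          (M1.isQCoh_cokernel (hF 0) (hF 0) (𝟙 (F.obj (op 0)))))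
    · haveI : Subsingleton ((LimSh.limOneSh F).val.obj (op (U : X.Opens))) :=
        subsingleton_of_forall_eq 0 fun s => by
          have := congrArg (fun φ : LimSh.limOneSh F ⟶ LimSh.limOneSh F => φ.app (U : X.Opens) s)
            (h.eq_of_src (𝟙 _) 0)
          exact this
      exact Subsingleton.elim _ _
  tfae_have 3 → 1 := by
    rintro ⟨-, hLc⟩ n
    classical
    let 𝒰 := X.affineCover.finiteSubcover
    have hi : ∀ i, ∃ (m : ℕ) (hm : n ≤ m), ∀ (m' : ℕ) (hm' : m ≤ m') (x : Γ(F.obj (op m), (𝒰.f i).opensRange)),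
        ∃ y, CountLim15.trans F _ (hm.trans hm') y = CountLim15.trans F _ hm x := fun i =>
      CountLim15.ml_sections_of_countable F k (X ↘ Spec (CommRingCat.of k)) hF (isAffineOpen_opensRange (𝒰.f i))
        (fun l => hFc l ⟨_, isAffineOpen_opensRange (𝒰.f i)⟩) (hLc ⟨_, isAffineOpen_opensRange (𝒰.f i)⟩) n
    choose m hm hst using hi
    obtain ⟨N, hN⟩ := (Set.finite_range m).bddAbove
    refine ⟨max n N, le_max_left _ _, fun m' hm' => le_antisymm ?_ ?_⟩
    · rw [show (homOfLE ((le_max_left n N).trans hm')).op = (homOfLE hm').op ≫ (homOfLE (le_max_left n N)).op from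
        Quiver.Hom.unop_inj (Subsingleton.elim _ _), F.map_comp]
      exact imageSubobject_comp_le _ _
    · refine CountLim15.imageSubobject_le_of_range _ _ (hF _) (hF n) fun x => ?_
      refine ⟨(𝒰.f (𝒰.idx x)).opensRange, 𝒰.covers x, isAffineOpen_opensRange _, fun a => ?_⟩
      have h1 : m (𝒰.idx x) ≤ max n N := (hN ⟨_, rfl⟩).trans (le_max_right _ _)
      obtain ⟨y, hy⟩ := hst (𝒰.idx x) m' (h1.trans hm') (CountLim15.trans F _ h1 a)
      exact ⟨y, hy.trans (CountLim15.trans_trans F _ _ h1 a)⟩
  tfae_finish


end Groth.Agent.S16585
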