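import Groth.Statements.S15307
import Groth.Agent.Lib.RFPlus.Acyclic
import Mathlib.Algebra.Homology.ShortComplex.Ab
import Mathlib.Algebra.Category.Grp.AB

set_option autoImplicit false
universe u
open HomAlg3

namespace Groth.Agent.S15307

open CategoryTheory CategoryTheory.Limits Opposite

/-- The tower of partial products. -/
noncomputable def cofree (A : ℕᵒᵖ ⥤ AddCommGrpCat.{u}) : ℕᵒᵖ ⥤ AddCommGrpCat.{u} where
  obj k := AddCommGrpCat.of (∀ i : {i : ℕ // i ≤ k.unop}, A.obj (op i.1))
  map {k l} f := AddCommGrpCat.ofHom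
    { toFun := fun x i => x ⟨i.1, i.2.trans (leOfHom f.unop)⟩
      map_zero' := rfl
      map_add' := fun _ _ => rfl }

/-- The embedding into the partial products. -/
noncomputable def toCofree (A : ℕᵒᵖ ⥤ AddCommGrpCat.{u}) : A ⟶ cofree A where
  app k := AddCommGrpCat.ofHom
    { toFun := fun x i => A.map (homOfLE i.2).op x
      map_zero' := funext fun i => map_zero (A.map (homOfLE i.2).op).hom
      map_add' := fun x y => funext fun i => map_add (A.map (homOfLE i.2).op).hom x y }
  naturality k l f := by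
    refine ConcreteCategory.hom_ext _ _ fun x => funext fun i => ?_
    show A.map (homOfLE i.2).op (A.map f x) = A.map (homOfLE (i.2.trans (leOfHom f.unop))).op x
    rw [← ConcreteCategory.comp_apply, ← A.map_comp]
    rfl

/-- A tower with surjective transition maps. -/
def Surj (A : ℕᵒᵖ ⥤ AddCommGrpCat.{u}) : Prop :=
  ∀ n : ℕ, Function.Surjective (A.map (homOfLE (Nat.le_succ n)).op)

theorem surj_of_injective (I : ℕᵒᵖ ⥤ AddCommGrpCat.{u}) [Injective I] : Surj I := by
  haveI : Mono (toCofree I) := by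
    haveI : ∀ k, Mono ((toCofree I).app k) := fun k => by
      rw [AddCommGrpCat.mono_iff_injective]
      intro x y h
      have h' : I.map (homOfLE le_rfl).op x = I.map (homOfLE le_rfl).op y := congrFun h ⟨k.unop, le_rfl⟩
      rwa [show (homOfLE le_rfl : k.unop ⟶ k.unop).op = 𝟙 k from Subsingleton.elim _ _, I.map_id] at h'
    exact NatTrans.mono_of_mono_app _
  intro n x
  let y : (cofree I).obj (op (n + 1)) := fun i =>
    if h : i.1 ≤ n then (toCofree I).app (op n) x ⟨i.1, h⟩ else 0
  have hy : (cofree I).map (homOfLE (Nat.le_succ n)).op y = (toCofree I).app (op n) x :=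
    funext fun i => dif_pos i.2
  refine ⟨(Injective.factorThru (𝟙 I) (toCofree I)).app (op (n + 1)) y, ?_⟩
  refine (NatTrans.naturality_apply (Injective.factorThru (𝟙 I) (toCofree I)) _ y).symm.trans ?_
  rw [hy]
  exact ConcreteCategory.congr_hom (NatTrans.congr_app (Injective.comp_factorThru (𝟙 I) (toCofree I)) (op n)) x

theorem surj_of_epi {A B : ℕᵒᵖ ⥤ AddCommGrpCat.{u}} (g : A ⟶ B) [Epi g] (hA : Surj A) : Surj B := fun n x => by
  haveI : Epi (((evaluation _ _).obj (op n)).map g) := inferInstance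
  obtain ⟨a, rfl⟩ := (AddCommGrpCat.epi_iff_surjective (((evaluation _ _).obj (op n)).map g)).1 inferInstance x
  obtain ⟨a', rfl⟩ := hA n a
  exact ⟨g.app _ a', (NatTrans.naturality_apply g _ a').symm⟩

theorem map_succ (A : ℕᵒᵖ ⥤ AddCommGrpCat.{u}) {m n : ℕ} (h : m ≤ n) (x : A.obj (op (n + 1))) :
    A.map (homOfLE (h.trans (Nat.le_succ n))).op x = A.map (homOfLE h).op (A.map (homOfLE (Nat.le_succ n)).op x) := by
  rw [← ConcreteCategory.comp_apply, ← A.map_comp]
  rfl

theorem epi_lim_map {C : ShortComplex (ℕᵒᵖ ⥤ AddCommGrpCat.{u})} (hC : C.ShortExact) (h : Surj C.X₁) :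
    Epi ((lim : (ℕᵒᵖ ⥤ AddCommGrpCat.{u}) ⥤ AddCommGrpCat.{u}).map C.g) := by
  haveI := hC.epi_g
  haveI := hC.mono_f
  rw [AddCommGrpCat.epi_iff_surjective]
  intro q
  let qn : ∀ n : ℕ, C.X₃.obj (op n) := fun n => limit.π C.X₃ (op n) q
  have hq : ∀ n, C.X₃.map (homOfLE (Nat.le_succ n)).op (qn (n + 1)) = qn n := fun n =>
    ConcreteCategory.congr_hom (limit.w C.X₃ (homOfLE (Nat.le_succ n)).op) q
  have hsurj : ∀ k x, ∃ y, C.g.app k y = x := fun k x => (AddCommGrpCat.epi_iff_surjective (((evaluation _ _).obj k).map C.g)).1 inferInstance x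
  have step : ∀ (n : ℕ) (y : {y // C.g.app (op n) y = qn n}), ∃ y' : {y // C.g.app (op (n + 1)) y = qn (n + 1)},
      C.X₂.map (homOfLE (Nat.le_succ n)).op y'.1 = y.1 := fun n y => by
    obtain ⟨z, hz⟩ := hsurj _ (qn (n + 1))
    have hd : C.g.app (op n) (y.1 - C.X₂.map (homOfLE (Nat.le_succ n)).op z) = 0 := by
      rw [map_sub, y.2, NatTrans.naturality_apply, hz, hq, sub_self]
    obtain ⟨a, ha⟩ := (ShortComplex.ab_exact_iff _).1 (hC.exact.map ((evaluation _ _).obj (op n))) _ hd
    obtain ⟨a', rfl⟩ := h n a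
    have hfg : C.g.app (op (n + 1)) (C.f.app (op (n + 1)) a') = 0 :=
      ConcreteCategory.congr_hom (NatTrans.congr_app C.zero _) a'
    refine ⟨⟨z + C.f.app _ a', by rw [map_add, hz, hfg, add_zero]⟩, ?_⟩
    show C.X₂.map _ (z + C.f.app _ a') = y.1
    rw [map_add, ← NatTrans.naturality_apply]
    exact (add_comm _ _).trans (sub_eq_iff_eq_add.1 ha.symm).symm
  choose nx hnx using step
  let y : ∀ n : ℕ, {y // C.g.app (op n) y = qn n} := fun n => Nat.rec ⟨_, (hsurj _ (qn 0)).choose_spec⟩ nx n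
  have hy : ∀ {m n : ℕ} (hmn : m ≤ n), C.X₂.map (homOfLE hmn).op (y n).1 = (y m).1 := by
    intro m n hmn
    induction n, hmn using Nat.le_induction with
    | base =>
      rw [show (homOfLE le_rfl : m ⟶ m).op = 𝟙 _ from Subsingleton.elim _ _, C.X₂.map_id]
      rfl
    | succ n hmn ih =>
      rw [map_succ C.X₂ hmn, hnx n (y n), ih]
  let c : Cone C.X₂ :=
    { pt := AddCommGrpCat.of (ULift.{u} ℤ)
      π :=
        { app := fun k => AddCommGrpCat.ofHom
            ((zmultiplesHom (C.X₂.obj k) (y k.unop).1).comp (AddEquiv.ulift.{0, u}).toAddMonoidHom)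
          naturality := fun k l f => by
            refine ConcreteCategory.hom_ext _ _ fun ⟨z⟩ => ?_
            show z • (y l.unop).1 = C.X₂.map f (z • (y k.unop).1)
            rw [map_zsmul, show f = (homOfLE (leOfHom f.unop)).op from Subsingleton.elim _ _, hy] } }
  refine ⟨limit.lift C.X₂ c (ULift.up 1), ?_⟩
  refine Concrete.limit_ext _ _ _ fun k => ?_
  rw [← ConcreteCategory.comp_apply _ (limit.π C.X₃ k), lim_map, limMap_π, ConcreteCategory.comp_apply,
    ← ConcreteCategory.comp_apply (limit.lift C.X₂ c) (limit.π C.X₂ k), limit.lift_π]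
  show C.g.app k ((1 : ℤ) • (y k.unop).1) = _
  rw [one_zsmul, (y k.unop).2]

theorem vanish [EnoughInjectives (ℕᵒᵖ ⥤ AddCommGrpCat.{u})]
    [(lim : (ℕᵒᵖ ⥤ AddCommGrpCat.{u}) ⥤ AddCommGrpCat.{u}).Additive] :
    ∀ (n : ℕ) (A : ℕᵒᵖ ⥤ AddCommGrpCat.{u}), Surj A →
      IsZero (((lim : (ℕᵒᵖ ⥤ AddCommGrpCat.{u}) ⥤ AddCommGrpCat.{u}).rightDerived (n + 1)).obj A) := by
  letI := HasDerivedCategory.standard (ℕᵒᵖ ⥤ AddCommGrpCat.{u})
  letI := HasDerivedCategory.standard AddCommGrpCat.{u}
  intro n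
  induction n with
  | zero =>
    intro A hA
    let T := ShortComplex.mk (Injective.ι A) (cokernel.π (Injective.ι A)) (cokernel.condition _)
    have hT : T.ShortExact := { exact := ShortComplex.exact_of_g_is_cokernel _ (cokernelIsCokernel _) }
    refine Groth.Agent.RFPlus.isZero_rightDerived_X₁ _ T hT 0 (Functor.isZero_rightDerived_obj_injective_succ _ 0 _)
      (Or.inr ?_)
    haveI := Groth.Agent.RFPlus.isIso_η (lim : (ℕᵒᵖ ⥤ AddCommGrpCat.{u}) ⥤ AddCommGrpCat.{u}) T.X₃
    haveI := epi_lim_map hT hA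
    have h := Groth.Agent.RFPlus.η_naturality (lim : (ℕᵒᵖ ⥤ AddCommGrpCat.{u}) ⥤ AddCommGrpCat.{u}) T.g
    exact @epi_of_epi_fac _ _ _ _ _ _ _ _ (epi_comp _ _) h.symm
  | succ n ih =>
    intro A hA
    let T := ShortComplex.mk (Injective.ι A) (cokernel.π (Injective.ι A)) (cokernel.condition _)
    have hT : T.ShortExact := { exact := ShortComplex.exact_of_g_is_cokernel _ (cokernelIsCokernel _) }
    exact Groth.Agent.RFPlus.isZero_rightDerived_X₁ _ T hT (n + 1)
      (Functor.isZero_rightDerived_obj_injective_succ _ (n + 1) _)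
      (Or.inl (ih _ (surj_of_epi (cokernel.π (Injective.ι A)) (surj_of_injective _))))



open CategoryTheory CategoryTheory.Limits in
/-- For abelian groups, for an inverse system (A_n) of abelian groups indexed by the natural numbers,
the right derived functors lim^(i) A_n of the inverse limit vanish for every i ≥ 2. (The two
instance hypotheses, enough injectives in the category of towers of abelian groups and additivity of
the limit functor, always hold. The published statement is made in an axiomatic setting that also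
covers quasi-coherent sheaves; this row is the case of abelian groups.) -/
theorem result
    [EnoughInjectives (ℕᵒᵖ ⥤ AddCommGrpCat.{u})]
    [(lim : (ℕᵒᵖ ⥤ AddCommGrpCat.{u}) ⥤ AddCommGrpCat.{u}).Additive]
    (A : ℕᵒᵖ ⥤ AddCommGrpCat.{u}) (i : ℕ) (hi : 2 ≤ i) :
    IsZero (((lim : (ℕᵒᵖ ⥤ AddCommGrpCat.{u}) ⥤ AddCommGrpCat.{u}).rightDerived i).obj A) := by
  obtain ⟨n, rfl⟩ : ∃ n, i = n + 1 + 1 := ⟨i - 2, by omega⟩
  letI := HasDerivedCategory.standard (ℕᵒᵖ ⥤ AddCommGrpCat.{u})
  letI := HasDerivedCategory.standard AddCommGrpCat.{u}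
  let T := ShortComplex.mk (Injective.ι A) (cokernel.π (Injective.ι A)) (cokernel.condition _)
  have hT : T.ShortExact := { exact := ShortComplex.exact_of_g_is_cokernel _ (cokernelIsCokernel _) }
  exact Groth.Agent.RFPlus.isZero_rightDerived_X₁ _ T hT (n + 1)
    (Functor.isZero_rightDerived_obj_injective_succ _ (n + 1) _)
    (Or.inl (vanish n _ (surj_of_epi (cokernel.π (Injective.ι A)) (surj_of_injective _))))


end Groth.Agent.S15307
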