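import Groth.Statements.S15311
import Groth.Agent.Lib.DR2.Poincare

set_option autoImplicit false
set_option backward.isDefEq.respectTransparency.types false
set_option backward.isDefEq.respectTransparency false
set_option synthInstance.maxHeartbeats 400000
universe u
open DeRhamSh

namespace Groth.Agent.S15311

open CategoryTheory AlgebraicGeometry TopologicalSpace in
/-- Let k be a field of characteristic zero and n ≥ 0. Then the algebraic de Rham cohomology of affine
n-space Spec k[x_1, …, x_n] over k, the hypercohomology of its de Rham complex, vanishes in every
degree i ≠ 0, and in degree 0 it is additively isomorphic to k (existence of an additive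
isomorphism; the identification of H^0 with the constants is canonical). (The published computation
also gives the de Rham homology of affine space; this row is the cohomology statement, for any de
Rham complex of affine n-space over k.) -/
theorem result (k : Type u) [Field k] [CharZero k] (n : ℕ)
    [QuasiSeparated (Spec.map (CommRingCat.ofHom (algebraMap k (MvPolynomial (Fin n) k))))]
    (D : DeRhamSh.OmegaCx (Spec.map (CommRingCat.ofHom (algebraMap k (MvPolynomial (Fin n) k)))))
    [HasDerivedCategory.{u} (Sheaf (Opens.grothendieckTopology ↥(Spec (CommRingCat.of (MvPolynomial (Fin n) k)))) AddCommGrpCat.{u})] :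
    (∀ i : ℤ, i ≠ 0 → Subsingleton (DeRhamSh.HdR D i)) ∧ Nonempty (DeRhamSh.HdR D 0 ≃+ k) := by
  exact Groth.Agent.DR2.hdR_affineSpace k n D

end Groth.Agent.S15311
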