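import Groth.Statements.S15316
import Groth.Agent.Lib.NodeH28.Basic
open Groth.Agent.NodeH28

set_option autoImplicit false
universe u
open ArLef ArLef.NodeAlg

namespace Groth.Agent.S15316

/-- Let B be a discrete valuation ring with uniformizer π and N = B[[t, e]]/(te - π) the complete local
ring of a semi-stable arithmetic surface at a singular point of the closed fibre. A ring
automorphism σ of N with σ(π) associated to π (for instance a B-algebra automorphism, or one lying
over an automorphism of B) either stabilizes the two branches, σ(t) = α t and σ(e) = β e for units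
α, β, or switches them, σ(t) = α e and σ(e) = β t for units α, β. (The published setting has B
complete with algebraically closed residue field and σ linear over B or over an automorphism of B;
the argument uses only that σ(π) generates (π).) -/
theorem result (B : Type u) [CommRing B] [IsDomain B] [IsDiscreteValuationRing B] (π : B) (hπ : Irreducible π)
    (σ : ArLef.NodeAlg B π ≃+* ArLef.NodeAlg B π)
    (hσ : Associated (σ (algebraMap B (ArLef.NodeAlg B π) π)) (algebraMap B (ArLef.NodeAlg B π) π)) :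
    (∃ α β : (ArLef.NodeAlg B π)ˣ, σ (ArLef.NodeAlg.t π) = (α : ArLef.NodeAlg B π) * ArLef.NodeAlg.t π ∧ σ (ArLef.NodeAlg.e π) = (β : ArLef.NodeAlg B π) * ArLef.NodeAlg.e π) ∨
      (∃ α β : (ArLef.NodeAlg B π)ˣ, σ (ArLef.NodeAlg.t π) = (α : ArLef.NodeAlg B π) * ArLef.NodeAlg.e π ∧ σ (ArLef.NodeAlg.e π) = (β : ArLef.NodeAlg B π) * ArLef.NodeAlg.t π) := by
  have hm := (IsDiscreteValuationRing.irreducible_iff_uniformizer π).1 hπ
  haveI := isDomain hm hπ.ne_zero
  set t := ArLef.NodeAlg.t π
  set e := ArLef.NodeAlg.e π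
  obtain ⟨u, hu⟩ := hσ
  have hte : t * e = algebraMap B (ArLef.NodeAlg B π) π := var_mul_oth 0
  have hprod : σ t * σ e * u = t * e := by rw [← map_mul, hte, hu]
  have ht0 : t ≠ 0 := fun h => not_dvd_oth hm 1 (show var π 1 ∣ var π 0 by rw [var_zero, show ArLef.NodeAlg.t π = t from rfl, h]; exact dvd_zero _)
  have hnu : ∀ x, ¬ IsUnit x → ¬ IsUnit (σ x) := fun x hx h => hx (by simpa using h.map σ.symm)
  have hP : ∀ (i : Fin 2) (x y : ArLef.NodeAlg B π), var π i ∣ x * y → var π i ∣ x ∨ var π i ∣ y := fun i x y h => by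
    simpa only [Ideal.mem_span_singleton] using (span_var_isPrime hm i).mem_or_mem (Ideal.mem_span_singleton.2 h)
  have key : ∀ x y : ArLef.NodeAlg B π, ¬ IsUnit y → x * y * u = t * e → t ∣ x →
      ∃ α β : (ArLef.NodeAlg B π)ˣ, x = α * t ∧ y = β * e := by
    intro x y hy hxy ⟨a, ha⟩
    have h1 : (a * y) * u = e := mul_left_cancel₀ ht0 (by rw [← hxy, ha]; ring)
    have h2 : e ∣ a * y := ⟨(u⁻¹ : (ArLef.NodeAlg B π)ˣ), by rw [← h1, mul_assoc, Units.mul_inv, mul_one]⟩
    have he0 : e ≠ 0 := fun h => not_dvd_oth hm 0 (show var π 0 ∣ var π 1 by rw [var_one, show ArLef.NodeAlg.e π = e from rfl, h]; exact dvd_zero _)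
    rcases hP 1 a y h2 with ⟨a', ha'⟩ | ⟨b, hb⟩
    · exfalso
      refine hy (IsUnit.of_mul_eq_one (a' * u) (mul_left_cancel₀ he0 ?_))
      rw [mul_one]
      conv_rhs => rw [← h1, ha', var_one]
      ring
    · have h3 : IsUnit a ∧ IsUnit b := by
        rw [← IsUnit.mul_iff]
        refine IsUnit.of_mul_eq_one (u : ArLef.NodeAlg B π) (mul_left_cancel₀ he0 ?_)
        rw [mul_one]
        conv_rhs => rw [← h1, hb, var_one]
        ring
      exact ⟨h3.1.unit, h3.2.unit, by rw [ha, IsUnit.unit_spec, mul_comm], by rw [hb, IsUnit.unit_spec, var_one, mul_comm]⟩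
  have hs : t ∣ σ t * σ e := by
    refine ⟨e * ((u⁻¹ : (ArLef.NodeAlg B π)ˣ) : ArLef.NodeAlg B π), ?_⟩
    rw [← mul_assoc, ← hprod, mul_assoc, Units.mul_inv, mul_one]
  rcases hP 0 _ _ hs with h | h
  · exact Or.inl (key _ _ (hnu _ (not_isUnit_var hm 1)) hprod h)
  · obtain ⟨α, β, h1, h2⟩ := key _ _ (hnu _ (not_isUnit_var hm 0)) (by rw [mul_comm (σ e)]; exact hprod) h
    exact Or.inr ⟨β, α, h2, h1⟩

end Groth.Agent.S15316
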