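import Groth.Statements.S15317
import Groth.Agent.Lib.NodeH28.Basic
open Groth.Agent.NodeH28

set_option autoImplicit false
universe u
open ArLef ArLef.NodeAlg

namespace Groth.Agent.S15317

/-- Let B be a discrete valuation ring with uniformizer π, N = B[[t, e]]/(te - π), and σ a non-trivial
B-algebra automorphism of N stabilizing both branches of the closed fibre (σ(t) associated to t,
σ(e) associated to e). Then the fixed-point ideal of σ, generated by all σ(r) - r, is g·(t, e) for a
non-zero g: the divisorial part of the fixed locus is cut out by g and its residual part is the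
reduced closed point, of multiplicity one. (Stated in the complete local ring, where the published
argument takes place; the published setting has B complete with algebraically closed residue field.) -/
theorem result (B : Type u) [CommRing B] [IsDomain B] [IsDiscreteValuationRing B] (π : B) (hπ : Irreducible π)
    (σ : ArLef.NodeAlg B π ≃ₐ[B] ArLef.NodeAlg B π) (hσ : σ ≠ AlgEquiv.refl)
    (ht : Associated (σ (ArLef.NodeAlg.t π)) (ArLef.NodeAlg.t π))
    (he : Associated (σ (ArLef.NodeAlg.e π)) (ArLef.NodeAlg.e π)) :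
    ∃ g : ArLef.NodeAlg B π, g ≠ 0 ∧
      ArLef.fixIdeal σ = Ideal.span {g} * Ideal.span ({ArLef.NodeAlg.t π, ArLef.NodeAlg.e π} : Set (ArLef.NodeAlg B π)) := by
  have hm := (IsDiscreteValuationRing.irreducible_iff_uniformizer π).1 hπ
  haveI := isDomain hm hπ.ne_zero
  haveI := isLocalRing hm
  set f := algebraMap B (ArLef.NodeAlg B π)
  set t := ArLef.NodeAlg.t π
  set e := ArLef.NodeAlg.e π
  obtain ⟨u, hu⟩ := ht
  obtain ⟨w, hw⟩ := he
  have hte : t * e = f π := var_mul_oth 0
  have hπf : f π ≠ 0 := by
    intro h0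
    rcases mul_eq_zero.1 (hte.trans h0) with h | h
    · exact not_dvd_oth hm 1 (show var π 1 ∣ var π 0 by rw [show var π 0 = t from rfl, h]; exact dvd_zero _)
    · exact not_dvd_oth hm 0 (show var π 0 ∣ var π 1 by rw [show var π 1 = e from rfl, h]; exact dvd_zero _)
  have huw : (u : ArLef.NodeAlg B π) * w = 1 := by
    refine mul_left_cancel₀ hπf ?_
    calc f π * (↑u * ↑w) = σ (t * e) * (↑u * ↑w) := by rw [hte, AlgEquiv.commutes]
      _ = (σ t * ↑u) * (σ e * ↑w) := by rw [map_mul]; ring
      _ = f π * 1 := by rw [hu, hw, hte, mul_one]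
  set α := ((u⁻¹ : (ArLef.NodeAlg B π)ˣ) : ArLef.NodeAlg B π) with hα
  have h1 : σ t = α * t := by
    calc σ t = σ t * (α * u) := by rw [hα, Units.inv_mul, mul_one]
      _ = α * (σ t * u) := by ring
      _ = α * t := by rw [hu]
  have h2 : σ e = (u : ArLef.NodeAlg B π) * e := by
    calc σ e = σ e * ((u : ArLef.NodeAlg B π) * w) := by rw [huw, mul_one]
      _ = (σ e * w) * u := by ring
      _ = _ := by rw [hw, mul_comm]
  have hau : α * u = 1 := Units.inv_mul u
  have hI := fixIdeal_eq hm σ
  have hB0 : Ideal.span (Set.range fun b : B => σ (f b) - f b) = ⊥ := by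
    rw [Ideal.span_eq_bot]
    rintro _ ⟨b, rfl⟩
    show σ (f b) - f b = 0
    rw [AlgEquiv.commutes, sub_self]
  rw [hB0, bot_sup_eq, show σ t - t = (α - 1) * t by rw [h1]; ring,
    show σ e - e = (-(u : ArLef.NodeAlg B π)) * ((α - 1) * e) by rw [h2]; linear_combination e * hau] at hI
  refine ⟨α - 1, fun h0 => hσ (AlgEquiv.ext fun r => ?_), ?_⟩
  · have hmem : σ r - r ∈ ArLef.fixIdeal σ := Ideal.subset_span ⟨r, rfl⟩
    rw [hI, h0] at hmem
    simp only [zero_mul, mul_zero, Ideal.span_insert, Ideal.span_singleton_eq_bot.2, bot_sup_eq, Ideal.mem_bot, sub_eq_zero] at hmem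
    exact hmem
  · rw [hI]
    refine le_antisymm (Ideal.span_le.2 ?_) ?_
    · rintro _ (rfl | rfl)
      · exact Ideal.mul_mem_mul (Ideal.mem_span_singleton_self _) (Ideal.subset_span (Or.inl rfl))
      · exact Ideal.mul_mem_left _ _ (Ideal.mul_mem_mul (Ideal.mem_span_singleton_self _) (Ideal.subset_span (Or.inr rfl)))
    · rw [Ideal.span_mul_span', Ideal.span_le]
      rintro _ ⟨x, rfl, y, (rfl | rfl), rfl⟩
      · exact Ideal.subset_span (Or.inl rfl)
      · show (α - 1) * e ∈ _
        have e' : (α - 1) * e = (-α) * ((-(u : ArLef.NodeAlg B π)) * ((α - 1) * e)) := by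
          linear_combination -((α - 1) * e) * hau
        exact (congrArg (· ∈ _) e').mpr (Ideal.mul_mem_left _ _ (Ideal.subset_span (Or.inr rfl)))

end Groth.Agent.S15317
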