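import Groth.Statements.S15318
import Groth.Agent.Lib.NodeH28.Switch
open Groth.Agent.NodeH28

set_option autoImplicit false
universe u
open ArLef ArLef.NodeAlg

namespace Groth.Agent.S15318

/-- Let B be a discrete valuation ring with uniformizer π, N = B[[t, e]]/(te - π), and σ a B-algebra
automorphism of N switching the two branches of the closed fibre (σ(t) associated to e, σ(e)
associated to t). Then the fixed-point ideal of σ is principal, generated by an element h of order
one (h is not in (t, e)²), and π is a non-zero-divisor modulo h: the fixed locus is a horizontal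
regular divisor through the point with empty residual part. (Stated in the complete local ring,
where the published argument takes place; the published setting has B complete with algebraically
closed residue field.) -/
theorem result (B : Type u) [CommRing B] [IsDomain B] [IsDiscreteValuationRing B] (π : B) (hπ : Irreducible π)
    (σ : ArLef.NodeAlg B π ≃ₐ[B] ArLef.NodeAlg B π)
    (ht : Associated (σ (ArLef.NodeAlg.t π)) (ArLef.NodeAlg.e π))
    (he : Associated (σ (ArLef.NodeAlg.e π)) (ArLef.NodeAlg.t π)) :
    ∃ h : ArLef.NodeAlg B π, ArLef.fixIdeal σ = Ideal.span {h} ∧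
      h ∉ (Ideal.span ({ArLef.NodeAlg.t π, ArLef.NodeAlg.e π} : Set (ArLef.NodeAlg B π))) ^ 2 ∧
      IsSMulRegular (ArLef.NodeAlg B π ⧸ Ideal.span ({h} : Set (ArLef.NodeAlg B π))) π := by
  have hm := (IsDiscreteValuationRing.irreducible_iff_uniformizer π).1 hπ
  haveI := isDomain hm hπ.ne_zero
  haveI := isLocalRing hm
  set f := algebraMap B (ArLef.NodeAlg B π)
  set t := ArLef.NodeAlg.t π
  set e := ArLef.NodeAlg.e π
  obtain ⟨u, hu⟩ := ht
  obtain ⟨w, hw⟩ := he
  have hte : t * e = f π := var_mul_oth 0
  have hπf : f π ≠ 0 := by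
    intro h0
    rcases mul_eq_zero.1 (hte.trans h0) with h | h
    · exact not_dvd_oth hm 1 (show var π 1 ∣ var π 0 by rw [show var π 0 = t from rfl, h]; exact dvd_zero _)
    · exact not_dvd_oth hm 0 (show var π 0 ∣ var π 1 by rw [show var π 1 = e from rfl, h]; exact dvd_zero _)
  have huw : (u : ArLef.NodeAlg B π) * w = 1 := by
    refine mul_left_cancel₀ hπf ?_
    calc f π * (↑u * ↑w) = σ (t * e) * (↑u * ↑w) := by rw [hte, AlgEquiv.commutes]
      _ = (σ t * ↑u) * (σ e * ↑w) := by rw [map_mul]; ring
      _ = e * t := by rw [hu, hw]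
      _ = f π * 1 := by rw [mul_one, mul_comm, hte]
  have h1 : σ t = (w : ArLef.NodeAlg B π) * e := by
    calc σ t = (σ t * u) * w := by rw [mul_assoc, huw, mul_one]
      _ = _ := by rw [hu, mul_comm]
  have h2 : σ e = (u : ArLef.NodeAlg B π) * t := by
    calc σ e = (σ e * w) * u := by rw [mul_assoc, mul_comm (w : ArLef.NodeAlg B π), huw, mul_one]
      _ = _ := by rw [hw, mul_comm]
  have hI := fixIdeal_eq hm σ
  have hB0 : Ideal.span (Set.range fun b : B => σ (f b) - f b) = ⊥ := by
    rw [Ideal.span_eq_bot]
    rintro _ ⟨b, rfl⟩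
    show σ (f b) - f b = 0
    rw [AlgEquiv.commutes, sub_self]
  set h := t - (w : ArLef.NodeAlg B π) * e with hh
  rw [hB0, bot_sup_eq, show σ t - t = -h by rw [h1, hh]; ring,
    show σ e - e = (u : ArLef.NodeAlg B π) * h by rw [h2, hh]; linear_combination e * huw] at hI
  refine ⟨h, ?_, sub_mul_notMem_sq hm, ?_⟩
  · rw [hI]
    refine le_antisymm (Ideal.span_le.2 ?_) (Ideal.span_le.2 ?_)
    · rintro _ (rfl | rfl)
      · exact neg_mem (Ideal.mem_span_singleton_self h)
      · exact Ideal.mul_mem_left _ _ (Ideal.mem_span_singleton_self h)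
    · rintro _ rfl
      exact Ideal.mem_span_pair.2 ⟨-1, 0, by ring⟩
  · have he := regular_e_mod hm hπ.ne_zero (w : ArLef.NodeAlg B π)
    intro a b hab
    refine he (he ?_)
    obtain ⟨a, rfl⟩ := Ideal.Quotient.mk_surjective a
    obtain ⟨b, rfl⟩ := Ideal.Quotient.mk_surjective b
    change Ideal.Quotient.mk (Ideal.span {h}) (e * (e * a)) = Ideal.Quotient.mk (Ideal.span {h}) (e * (e * b))
    have hsm : ∀ x, f π * x = π • x := fun x => (Algebra.smul_def π x).symm
    have hab' : Ideal.Quotient.mk (Ideal.span {h}) (f π * a) = Ideal.Quotient.mk (Ideal.span {h}) (f π * b) := by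
      rw [hsm, hsm]; exact hab
    rw [Ideal.Quotient.eq] at hab'
    rw [Ideal.Quotient.eq]
    have h3 : (w : ArLef.NodeAlg B π) * (e * (e * a) - e * (e * b)) ∈ Ideal.span {h} := by
      have h4 := sub_mem hab' (Ideal.mul_mem_left (Ideal.span {h}) (e * (a - b)) (Ideal.mem_span_singleton_self h))
      have e5 : (w : ArLef.NodeAlg B π) * (e * (e * a) - e * (e * b)) = f π * a - f π * b - e * (a - b) * h := by
        rw [← hte, hh]; ring
      rw [e5]; exact h4
    have h6 := Ideal.mul_mem_left _ (u : ArLef.NodeAlg B π) h3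
    rwa [← mul_assoc, huw, one_mul] at h6

end Groth.Agent.S15318
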