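import Groth.Statements.S15319
import Groth.Agent.Lib.NodeH28.Basic
open Groth.Agent.NodeH28

set_option autoImplicit false
universe u
open ArLef ArLef.NodeAlg

namespace Groth.Agent.S15319

/-- Let B be a discrete valuation ring with uniformizer π, N = B[[t, e]]/(te - π) the complete local
ring of a semi-stable arithmetic surface over B at a singular point of the closed fibre, and σ a
ring automorphism of N sending π to π + γ π^j with γ a unit of B and j ≥ 1 (σ lies over an
automorphism τ of B with v(τ(π) - π) = j). Then the fixed-point ideal of σ is not contained in (π^j)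
= (t^j e^j): the two branches through the point cannot both occur with multiplicity j in the
divisorial part of the fixed locus. (The published setting has B complete with algebraically closed
residue field.) -/
theorem result (B : Type u) [CommRing B] [IsDomain B] [IsDiscreteValuationRing B] (π : B) (hπ : Irreducible π)
    (j : ℕ) (hj : 1 ≤ j) (γ : B) (hγ : IsUnit γ)
    (σ : ArLef.NodeAlg B π ≃+* ArLef.NodeAlg B π)
    (hσ : σ (algebraMap B (ArLef.NodeAlg B π) π) = algebraMap B (ArLef.NodeAlg B π) (π + γ * π ^ j)) :
    ¬ ArLef.fixIdeal σ ≤ Ideal.span ({algebraMap B (ArLef.NodeAlg B π) (π ^ j)} : Set (ArLef.NodeAlg B π)) := by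
  have hm := (IsDiscreteValuationRing.irreducible_iff_uniformizer π).1 hπ
  haveI := isDomain hm hπ.ne_zero
  haveI := isLocalRing hm
  intro hle
  set f := algebraMap B (ArLef.NodeAlg B π)
  obtain ⟨a, ha⟩ := Ideal.mem_span_singleton'.1 (hle (Ideal.subset_span ⟨var π 0, rfl⟩))
  obtain ⟨b, hb⟩ := Ideal.mem_span_singleton'.1 (hle (Ideal.subset_span ⟨var π 1, rfl⟩))
  have hte : var π 0 * var π 1 = f π := var_mul_oth 0
  have hp : σ (var π 0) * σ (var π 1) = f π + f γ * f (π ^ j) := by rw [← map_mul, hte, hσ, map_add, map_mul]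
  have h0 : f (π ^ j) ≠ 0 := by
    rw [map_pow]
    refine pow_ne_zero _ fun h0 => ?_
    rcases mul_eq_zero.1 (hte.trans h0) with h | h
    · exact not_dvd_oth hm 1 (show var π 1 ∣ var π 0 by rw [h]; exact dvd_zero _)
    · exact not_dvd_oth hm 0 (show var π 0 ∣ var π 1 by rw [h]; exact dvd_zero _)
  have h1 : f γ = a * var π 1 + b * var π 0 + a * b * f (π ^ j) := by
    refine mul_right_cancel₀ h0 ?_
    rw [show σ (var π 0) = var π 0 + a * f (π ^ j) by linear_combination -ha,
      show σ (var π 1) = var π 1 + b * f (π ^ j) by linear_combination -hb] at hp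
    linear_combination -hp + hte
  have hmem : f γ ∈ IsLocalRing.maximalIdeal (ArLef.NodeAlg B π) := by
    rw [h1, map_pow]
    refine add_mem (add_mem (Ideal.mul_mem_left _ _ (var_mem_maximalIdeal hm 1))
      (Ideal.mul_mem_left _ _ (var_mem_maximalIdeal hm 0))) (Ideal.mul_mem_left _ _ (Ideal.pow_mem_of_mem _ ?_ j hj))
    rw [← hte]
    exact Ideal.mul_mem_left _ _ (var_mem_maximalIdeal hm 1)
  exact hmem (hγ.map f)

end Groth.Agent.S15319
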