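import Groth.Statements.S15320
import Groth.Agent.Lib.NodeH28.Switch
open Groth.Agent.NodeH28

set_option autoImplicit false
universe u
open ArLef ArLef.NodeAlg

namespace Groth.Agent.S15320

/-- Let B be a discrete valuation ring with uniformizer π, N = B[[t, e]]/(te - π) the complete local
ring of a semi-stable arithmetic surface over B at a singular point x of the closed fibre, and σ a
ring automorphism of N over an automorphism τ of B with v(τ(π) - π) = j ≥ 1, that is σ(π) = π + γ
π^j with γ a unit of B, and with σ(b) - b ∈ π^j N for every b ∈ B (automatic when B is totally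
ramified over the fixed ring of τ, as in the published setting, where the residue field is
algebraically closed). If σ switches the two branches through x (σ(t) associated to e and σ(e) to
t), then the fixed-point ideal I of σ is contained in no proper principal ideal (x is not on the
divisorial part of the fixed locus) and N/I has length 2j - 1 (the multiplicity of x in the residual
fixed-point scheme). -/
theorem result (B : Type u) [CommRing B] [IsDomain B] [IsDiscreteValuationRing B] (π : B) (hπ : Irreducible π)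
    (j : ℕ) (hj : 1 ≤ j) (γ : B) (hγ : IsUnit γ)
    (σ : ArLef.NodeAlg B π ≃+* ArLef.NodeAlg B π)
    (hσB : ∀ b : B, σ (algebraMap B (ArLef.NodeAlg B π) b) - algebraMap B (ArLef.NodeAlg B π) b ∈
      Ideal.span ({algebraMap B (ArLef.NodeAlg B π) (π ^ j)} : Set (ArLef.NodeAlg B π)))
    (hσπ : σ (algebraMap B (ArLef.NodeAlg B π) π) = algebraMap B (ArLef.NodeAlg B π) (π + γ * π ^ j))
    (ht : Associated (σ (ArLef.NodeAlg.t π)) (ArLef.NodeAlg.e π)) (he : Associated (σ (ArLef.NodeAlg.e π)) (ArLef.NodeAlg.t π)) :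
    (∀ g : ArLef.NodeAlg B π, ArLef.fixIdeal σ ≤ Ideal.span ({g} : Set (ArLef.NodeAlg B π)) → IsUnit g) ∧
      Module.length (ArLef.NodeAlg B π) (ArLef.NodeAlg B π ⧸ ArLef.fixIdeal σ) = ((2 * j - 1 : ℕ) : ℕ∞) := by
  have hm := (IsDiscreteValuationRing.irreducible_iff_uniformizer π).1 hπ
  haveI := isDomain hm hπ.ne_zero
  haveI := isLocalRing hm
  set f := algebraMap B (ArLef.NodeAlg B π)
  set t := ArLef.NodeAlg.t π
  set e := ArLef.NodeAlg.e π
  obtain ⟨u, hu⟩ := ht
  obtain ⟨w, hw⟩ := he
  have hte : t * e = f π := var_mul_oth 0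
  have hπf : f π ≠ 0 := by
    intro h0
    rcases mul_eq_zero.1 (hte.trans h0) with h | h
    · exact not_dvd_oth hm 1 (show var π 1 ∣ var π 0 by rw [show var π 0 = t from rfl, h]; exact dvd_zero _)
    · exact not_dvd_oth hm 0 (show var π 0 ∣ var π 1 by rw [show var π 1 = e from rfl, h]; exact dvd_zero _)
  obtain ⟨n, rfl⟩ : ∃ n, j = n + 1 := ⟨j - 1, by omega⟩
  set α := ((u⁻¹ : (ArLef.NodeAlg B π)ˣ) : ArLef.NodeAlg B π) with hα
  set β := ((w⁻¹ : (ArLef.NodeAlg B π)ˣ) : ArLef.NodeAlg B π) with hβ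
  have h1 : σ t = α * e := by rw [← hu, hα, ← mul_assoc, mul_comm _ (σ t), mul_assoc, Units.inv_mul, mul_one]
  have h2 : σ e = β * t := by rw [← hw, hβ, ← mul_assoc, mul_comm _ (σ e), mul_assoc, Units.inv_mul, mul_one]
  have hab : α * β = 1 + f γ * f π ^ n := by
    refine mul_right_cancel₀ hπf ?_
    have h3 : σ t * σ e = f π + f γ * f π ^ (n + 1) := by
      rw [← map_mul, hte, hσπ, map_add, map_mul, map_pow]
    rw [h1, h2, ← hte] at h3
    rw [← hte]
    linear_combination h3
  set h := t - α * e with hh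
  have key : ArLef.fixIdeal σ = Ideal.span ({e ^ (2 * n + 1), h} : Set (ArLef.NodeAlg B π)) := by
    set J := Ideal.span ({e ^ (2 * n + 1), h} : Set (ArLef.NodeAlg B π))
    have hJh : h ∈ J := Ideal.subset_span (Or.inr rfl)
    have hJe : e ^ (2 * n + 1) ∈ J := Ideal.subset_span (Or.inl rfl)
    have hsub : ∀ x, x ∈ Ideal.span ({h} : Set (ArLef.NodeAlg B π)) → x ∈ J := fun x hx =>
      Ideal.span_mono (by simp) hx
    have hπJ : f (π ^ (n + 1)) ∈ J := by
      rw [map_pow]
      have h4 := add_mem (hsub _ (pi_pow_sub_mem hm α (n + 1)))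
        (Ideal.mul_mem_left J (α ^ (n + 1) * e) hJe)
      have e5 : f π ^ (n + 1) = f π ^ (n + 1) - α ^ (n + 1) * e ^ (2 * (n + 1)) + α ^ (n + 1) * e * e ^ (2 * n + 1) := by
        ring
      rw [e5]; exact h4
    have hse : σ e - e = β * h + f γ * f π ^ n * e := by
      rw [h2, hh]
      linear_combination e * hab
    refine le_antisymm ?_ (Ideal.span_le.2 ?_)
    · rw [fixIdeal_eq hm σ]
      refine sup_le (Ideal.span_le.2 ?_) (Ideal.span_le.2 ?_)
      · rintro _ ⟨b, rfl⟩
        obtain ⟨c, hc⟩ := Ideal.mem_span_singleton'.1 (hσB b)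
        show σ (f b) - f b ∈ J
        rw [← hc]
        exact Ideal.mul_mem_left _ _ hπJ
      · rintro _ (rfl | rfl)
        · show σ t - t ∈ J
          rw [h1, show α * e - t = -h by rw [hh]; ring]
          exact neg_mem hJh
        · show σ e - e ∈ J
          rw [hse]
          refine add_mem (Ideal.mul_mem_left _ _ hJh) ?_
          have h4 := add_mem (Ideal.mul_mem_left J (f γ * e) (hsub _ (pi_pow_sub_mem hm α n)))
            (Ideal.mul_mem_left J (f γ * α ^ n) hJe)
          have e5 : f γ * f π ^ n * e = f γ * e * (f π ^ n - α ^ n * e ^ (2 * n)) + f γ * α ^ n * e ^ (2 * n + 1) := by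
            ring
          rw [e5]; exact h4
    · have hI : h ∈ ArLef.fixIdeal σ := by
        have h4 : σ t - t ∈ ArLef.fixIdeal σ := Ideal.subset_span ⟨t, rfl⟩
        rw [show h = -(σ t - t) by rw [h1, hh]; ring]
        exact neg_mem h4
      rintro _ (rfl | rfl)
      · have h4 : σ e - e ∈ ArLef.fixIdeal σ := Ideal.subset_span ⟨e, rfl⟩
        have hu' : IsUnit (f γ * α ^ n) := (hγ.map f).mul ((u⁻¹).isUnit.pow n)
        refine (Submodule.smul_mem_iff_of_isUnit _ hu').1 ?_
        rw [smul_eq_mul, show f γ * α ^ n * e ^ (2 * n + 1) =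
          (σ e - e) - β * h - f γ * e * (f π ^ n - α ^ n * e ^ (2 * n)) by rw [hse]; ring]
        exact sub_mem (sub_mem h4 (Ideal.mul_mem_left _ _ hI))
          (Ideal.mul_mem_left _ _ ((Ideal.span_singleton_le_iff_mem (I := ArLef.fixIdeal σ)).2 hI
            (pi_pow_sub_mem hm α n)))
      · exact hI
  have hreg := regular_e_mod hm hπ.ne_zero α
  refine ⟨fun g hg => ?_, ?_⟩
  · by_contra hgu
    rw [key] at hg
    obtain ⟨c, hc⟩ := Ideal.mem_span_singleton'.1 (hg (Ideal.subset_span (Or.inr rfl)) : h ∈ Ideal.span {g})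
    obtain ⟨d, hd⟩ := Ideal.mem_span_singleton'.1
      (hg (Ideal.subset_span (Or.inl rfl)) : e ^ (2 * n + 1) ∈ Ideal.span {g})
    have hmax : ∀ x : ArLef.NodeAlg B π, ¬ IsUnit x → x ∈ Ideal.span ({ArLef.NodeAlg.t π, ArLef.NodeAlg.e π} : Set (ArLef.NodeAlg B π)) :=
      fun x hx => maximalIdeal_eq hm ▸ hx
    have hcu : IsUnit c := by
      by_contra hcu
      refine sub_mul_notMem_sq hm (α := α) ?_
      show h ∈ _
      rw [← hc, pow_two]
      exact Ideal.mul_mem_mul (hmax c hcu) (hmax g hgu)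
    obtain ⟨c, rfl⟩ := hcu
    have hmem : e ^ (2 * n + 1) ∈ Ideal.span ({h} : Set (ArLef.NodeAlg B π)) := by
      rw [Ideal.mem_span_singleton']
      exact ⟨d * ↑c⁻¹, by rw [← hc, ← hd, mul_assoc, Units.inv_mul_cancel_left]⟩
    have h0 : Ideal.Quotient.mk (Ideal.span ({h} : Set (ArLef.NodeAlg B π))) 1 = 0 := by
      have hp : ∀ m : ℕ, Ideal.Quotient.mk (Ideal.span ({h} : Set (ArLef.NodeAlg B π))) (e ^ m) = 0 →
          Ideal.Quotient.mk (Ideal.span ({h} : Set (ArLef.NodeAlg B π))) 1 = 0 := by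
        intro m
        induction m with
        | zero => simp
        | succ m ih =>
          intro hm'
          refine ih (hreg ?_)
          show Ideal.Quotient.mk _ (e * e ^ m) = Ideal.Quotient.mk _ (e * 0)
          rw [mul_zero, map_zero, ← pow_succ', hm']
      exact hp (2 * n + 1) (Ideal.Quotient.eq_zero_iff_mem.2 hmem)
    rw [Ideal.Quotient.eq_zero_iff_mem, ← Ideal.eq_top_iff_one, Ideal.span_singleton_eq_top] at h0
    exact hgu (isUnit_of_mul_isUnit_right (hc ▸ h0))
  · show ql (ArLef.fixIdeal σ) = _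
    rw [key, ql_pow e h hreg, span_pair_eq hm α, ql_maximal hm, mul_one]
    norm_cast

end Groth.Agent.S15320
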