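import Groth.Statements.S15322
import Mathlib.AlgebraicGeometry.Morphisms.Proper
import Mathlib.AlgebraicGeometry.Morphisms.Etale
import Mathlib.AlgebraicGeometry.Morphisms.Separated
import Mathlib.AlgebraicGeometry.Morphisms.FormallyUnramified
import Mathlib.AlgebraicGeometry.ResidueField
import Mathlib.AlgebraicGeometry.Pullbacks
import Mathlib.AlgebraicTopology.CechNerve
import Mathlib.AlgebraicTopology.SimplicialObject.Coskeletal
import Mathlib.CategoryTheory.Limits.Constructions.Over.Basic
import Mathlib.CategoryTheory.Limits.Filtered
import Mathlib.CategoryTheory.Limits.Preserves.Filtered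
import Mathlib.CategoryTheory.Limits.Shapes.Pullback.Mono
import Mathlib.CategoryTheory.Limits.Types.Pullbacks
import Mathlib.CategoryTheory.Functor.ReflectsIso.Basic
import Mathlib.Tactic

set_option autoImplicit false
universe u
open CategoryTheory AlgebraicGeometry
open ArLef

open CategoryTheory CategoryTheory.Limits AlgebraicGeometry

namespace Groth.Agent.S15322

/-- Let f : D → C be a morphism, τ an automorphism of C and σ an automorphism of D with σ f = f τ; call
σ a good lifting of τ when the fixed-point scheme of σ is the full preimage of that of τ, i.e. every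
morphism z : Z → D with z f τ = z f has z σ = z. If f is etale, separated and surjective with D
connected and the fixed-point scheme of τ is non-empty (some point of C, with its residue field, is
fixed by τ), then τ has at most one good lifting. (The published statement is for a finite etale
cover of smooth projective irreducible curves over a field and a non-trivial τ; the argument uses
only the hypotheses stated here.) -/
theorem result {C D : Scheme.{u}} (f : D ⟶ C) [Etale f] [IsSeparated f] [Surjective f]
    [ConnectedSpace D] (τ : C ≅ C) (σ σ' : D ≅ D)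
    (hσ : σ.hom ≫ f = f ≫ τ.hom) (hσ' : σ'.hom ≫ f = f ≫ τ.hom)
    (good : ∀ (Z : Scheme.{u}) (z : Z ⟶ D), z ≫ f ≫ τ.hom = z ≫ f → z ≫ σ.hom = z)
    (good' : ∀ (Z : Scheme.{u}) (z : Z ⟶ D), z ≫ f ≫ τ.hom = z ≫ f → z ≫ σ'.hom = z)
    (x : C) (hx : C.fromSpecResidueField x ≫ τ.hom = C.fromSpecResidueField x) :
    σ = σ' := by
  obtain ⟨z, hz⟩ := f.surjective x
  subst hz
  have hfac : D.fromSpecResidueField z ≫ f = Spec.map (f.residueFieldMap z) ≫ C.fromSpecResidueField (f.base z) :=
    (Scheme.Hom.SpecMap_residueFieldMap_fromSpecResidueField f z).symm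
  have hzz : D.fromSpecResidueField z ≫ f ≫ τ.hom = D.fromSpecResidueField z ≫ f := by
    rw [← Category.assoc, hfac, Category.assoc, hx]
  have h1 := good _ _ hzz
  have h2 := good' _ _ hzz
  let P := pullback (pullback.lift σ.hom σ'.hom (hσ.trans hσ'.symm)) (pullback.diagonal f)
  let π : P ⟶ D := pullback.fst _ _
  haveI : FormallyUnramified f := inferInstance
  haveI : IsOpenImmersion (pullback.diagonal f) := inferInstance
  haveI : IsOpenImmersion π := inferInstance
  haveI : IsClosedImmersion π := inferInstance
  have hrange : Set.range π.base = Set.univ := by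
    refine IsClopen.eq_univ ⟨π.isClosedEmbedding.isClosed_range, π.isOpenEmbedding.isOpen_range⟩ ?_
    have hcond : D.fromSpecResidueField z ≫ pullback.lift σ.hom σ'.hom (hσ.trans hσ'.symm) =
        D.fromSpecResidueField z ≫ pullback.diagonal f := by
      apply pullback.hom_ext
      · simp only [Category.assoc, pullback.lift_fst, pullback.diagonal_fst, h1, Category.comp_id]
      · simp only [Category.assoc, pullback.lift_snd, pullback.diagonal_snd, h2, Category.comp_id]
    refine ⟨π.base ((pullback.lift _ _ hcond : Spec (D.residueField z) ⟶ P).base (IsLocalRing.closedPoint _)), _, rfl⟩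
  haveI : IsIso π := by
    haveI : Epi π.base := (TopCat.epi_iff_surjective _).2 (Set.range_eq_univ.1 hrange)
    exact IsOpenImmersion.isIso π
  have e1 : π ≫ σ.hom = π ≫ σ'.hom := by
    have h := (pullback.condition : π ≫ _ = pullback.snd _ _ ≫ pullback.diagonal f)
    have hA := congrArg (fun q => q ≫ pullback.fst f f) h
    have hB := congrArg (fun q => q ≫ pullback.snd f f) h
    simp only [Category.assoc, pullback.lift_fst, pullback.lift_snd, pullback.diagonal_fst, pullback.diagonal_snd] at hA hB
    rw [hA, hB]
  exact Iso.ext ((cancel_epi π).1 e1)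

end Groth.Agent.S15322
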