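import Groth.Statements.S15325
import Groth.Agent.Lib.NodeH28.Calc
open Groth.Agent.NodeH28

set_option autoImplicit false
universe u
open ArLef ArLef.NodeAlg

namespace Groth.Agent.S15325

/-- Let k be a field, A = k[[t, e]]/(te) the complete local ring of a nodal curve at a node x, and σ a
k-algebra automorphism of A fixing the two branches, σ(t) = α t and σ(e) = β e with units α, β.
Writing I for the fixed-point ideal of σ (generated by all σ(r) - r), the fixed-point multiplicity
length(A/I) of σ at x and the fixed-point multiplicities length(A/(I + (t))), length(A/(I + (e))) of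
the automorphisms induced on the two branches satisfy length(A/I) + 1 = length(A/(I + (t))) +
length(A/(I + (e))), as extended natural numbers (both sides are infinite when σ fixes a branch
pointwise). (The published setting has k algebraically closed.) -/
theorem result (k : Type u) [Field k]
    (σ : ArLef.NodeAlg k 0 ≃ₐ[k] ArLef.NodeAlg k 0) (α β : (ArLef.NodeAlg k 0)ˣ)
    (ht : σ (ArLef.NodeAlg.t (0 : k)) = (α : ArLef.NodeAlg k 0) * ArLef.NodeAlg.t (0 : k)) (he : σ (ArLef.NodeAlg.e (0 : k)) = (β : ArLef.NodeAlg k 0) * ArLef.NodeAlg.e (0 : k)) :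
    Module.length (ArLef.NodeAlg k 0) (ArLef.NodeAlg k 0 ⧸ ArLef.fixIdeal σ) + 1 =
      Module.length (ArLef.NodeAlg k 0) (ArLef.NodeAlg k 0 ⧸ (ArLef.fixIdeal σ ⊔ Ideal.span ({ArLef.NodeAlg.t (0 : k)} : Set (ArLef.NodeAlg k 0)))) +
        Module.length (ArLef.NodeAlg k 0) (ArLef.NodeAlg k 0 ⧸ (ArLef.fixIdeal σ ⊔ Ideal.span ({ArLef.NodeAlg.e (0 : k)} : Set (ArLef.NodeAlg k 0)))) := by
  have hm := max_of_field k
  set A := ArLef.NodeAlg k 0
  set t : A := ArLef.NodeAlg.t (0 : k)
  set e : A := ArLef.NodeAlg.e (0 : k)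
  set a : A := (α : A) - 1
  set b : A := (β : A) - 1
  haveI := isLocalRing hm
  have hte : t * e = 0 := by rw [show t * e = algebraMap k A 0 from var_mul_oth 0, map_zero]
  have hI : ArLef.fixIdeal σ = Ideal.span ({a * t, b * e} : Set A) := by
    rw [fixIdeal_eq hm σ, show Ideal.span (Set.range fun c : k => σ (algebraMap k A c) - algebraMap k A c) = ⊥ by
      rw [Ideal.span_eq_bot]
      rintro _ ⟨c, rfl⟩
      show σ (algebraMap k A c) - algebraMap k A c = 0
      rw [AlgEquiv.commutes, sub_self], bot_sup_eq]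
    show Ideal.span ({σ t - t, σ e - e} : Set A) = _
    rw [ht, he, show (α : A) * t - t = a * t by ring, show (β : A) * e - e = b * e by ring]
  have hcolon : ∀ y, t * y ∈ Ideal.span ({a * t, b * e} : Set A) ↔ y ∈ Ideal.span ({e, a} : Set A) := by
    intro y
    constructor
    · intro hy
      obtain ⟨c, d, hcd⟩ := Ideal.mem_span_pair.1 hy
      have h1 := congrArg (br hm 1) (show t * (y - c * a) = d * b * e by linear_combination -hcd)
      rw [map_mul, show br hm 1 t = PowerSeries.X from br_oth hm 1, map_mul (br hm 1) (d * b),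
        show br hm 1 e = 0 from br_self hm 1, mul_zero, mul_eq_zero, or_iff_right PowerSeries.X_ne_zero,
        br_eq_zero_iff] at h1
      obtain ⟨w, hw⟩ := h1
      exact Ideal.mem_span_pair.2 ⟨w, c, by rw [show e = var (0 : k) 1 from rfl]; linear_combination -hw⟩
    · intro hy
      obtain ⟨w, c, rfl⟩ := Ideal.mem_span_pair.1 hy
      exact Ideal.mem_span_pair.2 ⟨c, 0, by linear_combination -w * hte⟩
  have hsupe : Ideal.span ({a * t, b * e} : Set A) ⊔ Ideal.span {e} =
      Ideal.span {t} * Ideal.span {a} ⊔ Ideal.span {e} := by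
    rw [Ideal.span_singleton_mul_span_singleton]
    refine le_antisymm (sup_le (Ideal.span_le.2 ?_) le_sup_right) (sup_le (Ideal.span_le.2 ?_) le_sup_right)
    · rintro _ (rfl | rfl)
      · exact Submodule.mem_sup_left (Ideal.mem_span_singleton'.2 ⟨1, by ring⟩)
      · exact Submodule.mem_sup_right (Ideal.mem_span_singleton'.2 ⟨b, rfl⟩)
    · rintro _ rfl
      exact Submodule.mem_sup_left (Ideal.mem_span_pair.2 ⟨1, 0, by ring⟩)
  show ql (ArLef.fixIdeal σ) + 1 = ql (ArLef.fixIdeal σ ⊔ Ideal.span {t}) + ql (ArLef.fixIdeal σ ⊔ Ideal.span {e})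
  rw [hI, ql_colon _ _ t hcolon, hsupe, ql_mul_sup t e _ (regular_mod_var hm 1 (not_dvd_oth hm 1)),
    ← Ideal.span_insert a, Ideal.span_pair_comm (x := a), ql_maximal hm]
  ring

end Groth.Agent.S15325
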