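import Groth.Statements.S15326
import Mathlib.Tactic.LinearCombination
import Mathlib.Tactic.Ring


set_option autoImplicit false
universe u
open ArLef

namespace Groth.Agent.S15326

/-- Let A be a commutative ring, t an element generating a prime ideal (a local equation of an
irreducible component C of the closed fibre), v an element outside (t) with π = vt the uniformizer,
and σ a ring automorphism of A with σ(vt) = vt whose fixed-point ideal is contained in (t^i) for
some i ≥ 1 (C has multiplicity at least i in the fixed locus). Then σ(t) - t lies in t^(i+1) A_(t),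
the localization at the prime (t): σ - 1 vanishes on (t)/(t^(i+1)) at the generic point of C. -/
theorem result (A : Type u) [CommRing A] (t v : A)
    [ht : (Ideal.span ({t} : Set A)).IsPrime] (hv : v ∉ Ideal.span ({t} : Set A))
    (σ : A ≃+* A) (hσ : σ (v * t) = v * t) (i : ℕ) (hi : 1 ≤ i)
    (hI : ArLef.fixIdeal σ ≤ Ideal.span ({t ^ i} : Set A)) :
    algebraMap A (Localization.AtPrime (Ideal.span ({t} : Set A))) (σ t - t) ∈
      Ideal.span ({algebraMap A (Localization.AtPrime (Ideal.span ({t} : Set A))) (t ^ (i + 1))} :
        Set (Localization.AtPrime (Ideal.span ({t} : Set A)))) := by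
  set L := Localization.AtPrime (Ideal.span ({t} : Set A))
  set f := algebraMap A L
  obtain ⟨a, ha⟩ := Ideal.mem_span_singleton'.1 (hI (Ideal.subset_span ⟨t, rfl⟩))
  obtain ⟨c, hc⟩ := Ideal.mem_span_singleton'.1 (hI (Ideal.subset_span ⟨v, rfl⟩))
  have hu : IsUnit (f v) := IsLocalization.map_units L (⟨v, hv⟩ : (Ideal.span ({t} : Set A)).primeCompl)
  change a * t ^ i = σ t - t at ha
  change c * t ^ i = σ v - v at hc
  have h1 : (σ t - t) * v = -((c + a * c * t ^ (i - 1)) * t ^ (i + 1)) := by
    have h2 : σ v * σ t = v * t := by rw [← map_mul]; exact hσ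
    have e1 : t ^ i = t ^ (i - 1) * t := by rw [← pow_succ, Nat.sub_add_cancel hi]
    have e3 : (σ t - t) * v = -(σ t * (σ v - v)) := by linear_combination h2
    rw [e3, ← hc, show σ t = t + a * t ^ i by linear_combination -ha, e1, pow_succ, e1]
    ring
  rw [Ideal.mem_span_singleton']
  obtain ⟨w, hw⟩ := hu.exists_left_inv
  refine ⟨-(f (c + a * c * t ^ (i - 1))) * w, ?_⟩
  have h4 := congrArg f h1
  rw [map_mul, map_neg, map_mul f (c + a * c * t ^ (i - 1))] at h4
  linear_combination (-w) * h4 + f (σ t - t) * hw

end Groth.Agent.S15326
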