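import Groth.Statements.S15327
import Mathlib

set_option autoImplicit false
open ArLef ArLef.BlowupGraph

namespace Groth.Agent.S15327

open ArLef Matrix

variable {n : ℕ} (G : BlowupGraph n)

lemma mem_parN {m : Fin n} {p : ℕ} : p ∈ G.parN m.1 ↔ ∃ q ∈ G.par m, q.1 = p := by
  unfold BlowupGraph.parN
  rw [dif_pos m.2]
  simp

/-- proximity matrix -/
def P : Matrix (Fin n) (Fin n) ℚ := fun p m => if p ∈ G.par m then 1 else 0

def N : Matrix (Fin n) (Fin n) ℚ := 1 - P G

def T : Matrix (Fin n) (Fin n) ℚ := fun k m => (G.tt k m : ℚ)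

lemma tt_eq_zero {k m : Fin n} (h : m < k) : G.tt k m = 0 := by
  unfold BlowupGraph.tt
  rw [BlowupGraph.ttN, if_pos (show m.1 < k.1 from h)]

lemma tt_rec (k m : Fin n) : G.tt k m = (if k = m then 1 else 0) + ∑ p ∈ G.par m, G.tt k p := by
  rcases lt_trichotomy m k with h | h | h
  · rw [tt_eq_zero G h, if_neg (ne_of_gt h),
      Finset.sum_eq_zero fun p hp => tt_eq_zero G ((G.par_lt m p hp).trans h), add_zero]
  · subst h
    rw [Finset.sum_eq_zero fun p hp => tt_eq_zero G (G.par_lt m p hp), add_zero, if_pos rfl]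
    unfold BlowupGraph.tt
    rw [BlowupGraph.ttN]
    simp
  · have h1 : ¬ m.1 < k.1 := not_lt.mpr (le_of_lt h)
    have h2 : ¬ m.1 = k.1 := fun e => absurd (Fin.ext e) (ne_of_gt h)
    rw [if_neg (ne_of_lt h), zero_add]
    unfold BlowupGraph.tt
    rw [BlowupGraph.ttN, if_neg h1, if_neg h2, Finset.sum_attach _ (fun p => G.ttN k.1 p)]
    unfold BlowupGraph.parN
    rw [dif_pos m.2, Finset.sum_map]
    rfl

lemma T_mul_N : T G * N G = 1 := by
  ext k m
  rw [N, mul_sub, mul_one, Matrix.sub_apply]
  have : (T G * P G) k m = ((∑ p ∈ G.par m, G.tt k p : ℤ) : ℚ) := by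
    simp [Matrix.mul_apply, P, T, Finset.sum_ite_mem]
  rw [this, T, tt_rec G k m]
  by_cases h : k = m <;> simp [h, Matrix.one_apply]

lemma N_mul_T : N G * T G = 1 := mul_eq_one_comm.mp (T_mul_N G)

lemma count_eq {p q : Fin n} (hpq : p < q) :
    (((Finset.univ.filter fun m => p ∈ G.par m ∧ q ∈ G.par m).card : ℕ) : ℚ) =
      (if p ∈ G.par q then 1 else 0) - if G.Adj p q then 1 else 0 := by
  have hpair : ∀ m, p ∈ G.par m → q ∈ G.par m → G.par m = {p, q} := fun m h1 h2 =>
    (Finset.eq_of_subset_of_card_le (by simp [Finset.insert_subset_iff, h1, h2])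
      (by rw [Finset.card_pair hpq.ne]; exact G.card_le_two m)).symm
  have hadj : G.Adj p q ↔ p ∈ G.par q ∧ ∀ m, q < m → G.par m ≠ {p, q} := by
    refine ⟨fun h => h.resolve_right fun h' => ?_, Or.inl⟩
    exact absurd ((G.par_lt p q h'.1).trans hpq) (lt_irrefl _)
  by_cases he : ∃ m, p ∈ G.par m ∧ q ∈ G.par m
  · obtain ⟨m, h1, h2⟩ := he
    obtain ⟨hq, hm⟩ := G.meet_of_two m p q h1 h2 hpq
    have hset : (Finset.univ.filter fun m => p ∈ G.par m ∧ q ∈ G.par m) = {m} := by
      ext m'
      simp only [Finset.mem_filter, Finset.mem_univ, true_and, Finset.mem_singleton]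
      refine ⟨fun ⟨h1', h2'⟩ => ?_, fun h => h ▸ ⟨h1, h2⟩⟩
      rcases lt_trichotomy m' m with h | h | h
      · exact absurd (hpair m' h1' h2') (hm m' (G.par_lt m' q h2') h)
      · exact h
      · exact absurd (hpair m h1 h2) ((G.meet_of_two m' p q h1' h2' hpq).2 m (G.par_lt m q h2) h)
    rw [hset, if_pos hq, if_neg (fun h => (hadj.mp h).2 m (G.par_lt m q h2) (hpair m h1 h2))]
    simp
  · have hset : (Finset.univ.filter fun m => p ∈ G.par m ∧ q ∈ G.par m) = ∅ :=
      Finset.filter_eq_empty_iff.mpr fun m _ h => he ⟨m, h⟩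
    rw [hset]
    by_cases hq : p ∈ G.par q
    · rw [if_pos hq, if_pos (hadj.mpr ⟨hq, fun m _ h => he ⟨m, by rw [h]; simp⟩⟩)]
      simp
    · rw [if_neg hq, if_neg fun h => hq (hadj.mp h).1]
      simp

lemma mat_eq : G.mat = -(N G * (N G)ᵀ) := by
  have key : ∀ p q, (N G * (N G)ᵀ) p q = (if p = q then 1 else 0) - P G p q - P G q p
      + (((Finset.univ.filter fun m => p ∈ G.par m ∧ q ∈ G.par m).card : ℕ) : ℚ) := by
    intro p q
    have hPP : (P G * (P G)ᵀ) p q = (((Finset.univ.filter fun m => p ∈ G.par m ∧ q ∈ G.par m).card : ℕ) : ℚ) := by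
      simp only [Matrix.mul_apply, transpose_apply, P, ite_mul, one_mul, zero_mul, ← ite_and]
      rw [Finset.sum_boole]
    rw [N, transpose_sub, transpose_one, sub_mul, mul_sub, mul_sub, one_mul, mul_one, one_mul]
    simp only [Matrix.sub_apply, Matrix.one_apply, Matrix.transpose_apply, hPP]
    ring
  have hirr : ∀ p, p ∉ G.par p := fun p h => lt_irrefl _ (G.par_lt p p h)
  ext p q
  rw [Matrix.neg_apply, key]
  unfold BlowupGraph.mat
  rcases lt_trichotomy p q with h | h | h
  · rw [count_eq G h, if_neg h.ne, if_neg h.ne]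
    have : q ∉ G.par p := fun h' => lt_irrefl _ ((G.par_lt p q h').trans h)
    simp [P, this]
  · subst h
    simp [P, hirr, BlowupGraph.selfInt]
    ring
  · have hc : (Finset.univ.filter fun m => p ∈ G.par m ∧ q ∈ G.par m)
        = Finset.univ.filter fun m => q ∈ G.par m ∧ p ∈ G.par m := by
      simp only [and_comm]
    rw [hc, count_eq G h, if_neg h.ne', if_neg h.ne']
    have : p ∉ G.par q := fun h' => lt_irrefl _ ((G.par_lt q p h').trans h)
    have hadj : G.Adj p q ↔ G.Adj q p := or_comm
    simp [P, this, hadj]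

lemma mult_mat : ∀ i j, ((G.mult i j : ℤ) : ℚ) = ((T G)ᵀ * T G) i j := by
  intro i j
  simp [BlowupGraph.mult, Matrix.mul_apply, T]

lemma mat_mul : G.mat * ((T G)ᵀ * T G) = -1 := by
  rw [mat_eq, neg_mul, Matrix.mul_assoc, ← Matrix.mul_assoc (N G)ᵀ, ← transpose_mul, T_mul_N,
    transpose_one, Matrix.one_mul, N_mul_T]

lemma det_sub_ne_zero (I : Finset (Fin n)) :
    (G.mat.submatrix (fun x : I => x.1) (fun x : I => x.1)).det ≠ 0 := by
  intro h
  obtain ⟨v, hv, hMv⟩ := exists_mulVec_eq_zero_iff.mpr h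
  let w : Fin n → ℚ := fun i => if hi : i ∈ I then v ⟨i, hi⟩ else 0
  have hw : ∀ a : I, w a.1 = v a := fun a => by simp [w]
  have hz : ∀ i, w i * (G.mat *ᵥ w) i = 0 := by
    intro i
    by_cases hi : i ∈ I
    · have : (G.mat *ᵥ w) i = 0 := by
        rw [← show _ = (0 : ℚ) from congrFun hMv ⟨i, hi⟩]
        simp only [mulVec, dotProduct, submatrix_apply]
        rw [← Finset.sum_subset (Finset.subset_univ I) (fun x _ hx => by simp [w, hx]),
          ← Finset.sum_coe_sort I]
        exact Finset.sum_congr rfl fun a _ => by rw [hw]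
      rw [this, mul_zero]
    · simp [w, hi]
  have h0 : w ⬝ᵥ (G.mat *ᵥ w) = 0 := Finset.sum_eq_zero fun i _ => hz i
  rw [mat_eq, neg_mulVec, dotProduct_neg, neg_eq_zero, ← mulVec_mulVec, dotProduct_mulVec,
    ← mulVec_transpose, dotProduct_self_eq_zero] at h0
  have hw0 : w = 0 := by
    have h1 : ((T G)ᵀ * (N G)ᵀ) *ᵥ w = 0 := by rw [← mulVec_mulVec, h0, mulVec_zero]
    rwa [← transpose_mul, N_mul_T, transpose_one, one_mulVec] at h1
  exact hv (funext fun a => by rw [← hw a, hw0]; rfl)

lemma schur (I : Finset (Fin n)) (a c : Fin n) (hc : c ∉ I) :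
    ∑ j ∈ Finset.univ.filter (fun j => j ∉ I), G.pairing I a j * (((T G)ᵀ * T G) j c) =
      -(if a = c then 1 else 0) := by
  set Q := (T G)ᵀ * T G
  set K := (G.mat.submatrix (fun x : I => x.1) (fun x : I => x.1))⁻¹
  have hout : ∀ r, ∑ j ∈ Finset.univ.filter (fun j => j ∉ I), G.mat r j * Q j c =
      -(if r = c then 1 else 0) - ∑ b : I, G.mat r b.1 * Q b.1 c := by
    intro r
    have h1 : ∑ j, G.mat r j * Q j c = -(if r = c then 1 else 0) := by
      have := congrFun (congrFun (mat_mul G) r) c
      rw [Matrix.mul_apply] at this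
      rw [this, Matrix.neg_apply, one_apply]
    rw [← h1, ← Finset.sum_filter_add_sum_filter_not Finset.univ (fun j => j ∉ I) (fun j => G.mat r j * Q j c),
      Finset.sum_coe_sort I (fun b => G.mat r b * Q b c)]
    have : (Finset.univ.filter fun j => ¬ j ∉ I) = I := by ext; simp
    rw [this]
    ring
  have hK : ∀ a' b' : I, ∑ b : I, K a' b * G.mat b.1 b'.1 = if a' = b' then 1 else 0 := by
    intro a' b'
    have := congrFun (congrFun (nonsing_inv_mul (G.mat.submatrix (fun x : I => x.1) (fun x : I => x.1))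
      (isUnit_iff_ne_zero.mpr (det_sub_ne_zero G I))) a') b'
    rw [Matrix.mul_apply, one_apply] at this
    exact this
  simp only [BlowupGraph.pairing, sub_mul, Finset.sum_sub_distrib, Finset.sum_mul]
  rw [hout, Finset.sum_comm (s := Finset.univ.filter (fun j => j ∉ I))]
  have hmain : ∀ a' : I, ∑ j ∈ Finset.univ.filter (fun j => j ∉ I),
      ∑ b : I, G.mat a a'.1 * K a' b * G.mat b.1 j * Q j c = -(G.mat a a'.1 * Q a'.1 c) := by
    intro a'
    rw [Finset.sum_comm]
    have : ∀ b : I, ∑ j ∈ Finset.univ.filter (fun j => j ∉ I), G.mat a a'.1 * K a' b * G.mat b.1 j * Q j c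
        = G.mat a a'.1 * K a' b * (-∑ b' : I, G.mat b.1 b'.1 * Q b'.1 c) := by
      intro b
      simp only [mul_assoc, ← Finset.mul_sum]
      rw [hout b.1, if_neg (fun e : b.1 = c => hc (e ▸ b.2))]
      simp
    simp only [this, mul_neg, Finset.sum_neg_distrib, Finset.mul_sum]
    rw [Finset.sum_comm]
    have : ∀ b' : I, ∑ b : I, G.mat a a'.1 * K a' b * (G.mat b.1 b'.1 * Q b'.1 c)
        = if a' = b' then G.mat a a'.1 * Q b'.1 c else 0 := by
      intro b'
      calc ∑ b : I, G.mat a a'.1 * K a' b * (G.mat b.1 b'.1 * Q b'.1 c)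
          = (∑ b : I, K a' b * G.mat b.1 b'.1) * (G.mat a a'.1 * Q b'.1 c) := by
            rw [Finset.sum_mul]; exact Finset.sum_congr rfl fun b _ => by ring
        _ = _ := by rw [hK]; split_ifs <;> simp
    rw [Finset.sum_congr rfl (fun b' _ => this b')]
    simp
  rw [Finset.sum_congr rfl (fun a' _ => hmain a'), Finset.sum_neg_distrib]
  ring


/-- Let Φ be the labelled dual graph of the exceptional curves of n successive blow-ups of closed points
starting from a regular surface with algebraically closed residue fields (vertices = exceptional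
curves in order of creation, labels = intersection numbers), I any set of vertices (the curves
contracted to a normal surface) and σ a permutation of the vertices preserving all intersection
numbers and the set I. Let e_{ij} be the multiplicity of E_i × E_j in the fibre square of the
composite blow-down (the sum over k of c^k_i c^k_j, c^k the total transform of the k-th exceptional
curve) and (E_i · E_j)_I Mumford's rational intersection number of the images after contracting I.
Then the sum over i, j outside I of e_{ij} (σ E_i · E_j)_I equals minus the number of σ-fixed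
vertices outside I. (Stated for the dual graphs realized with all residue fields equal to the base
field, which is the case the published argument realizes geometrically.) -/
theorem result (n : ℕ) (G : ArLef.BlowupGraph n) (I : Finset (Fin n))
    (σ : Equiv.Perm (Fin n)) (hσ : ∀ i j : Fin n, G.mat (σ i) (σ j) = G.mat i j)
    (hσI : ∀ i : Fin n, σ i ∈ I ↔ i ∈ I) :
    G.lNum I σ = ArLef.BlowupGraph.rNum I σ := by
  have hsymm : ∀ i j, ((T G)ᵀ * T G) i j = ((T G)ᵀ * T G) j i := fun i j => by
    simp [Matrix.mul_apply, mul_comm]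
  unfold BlowupGraph.lNum BlowupGraph.rNum
  have : ∀ i ∈ Finset.univ.filter (fun i => i ∉ I),
      ∑ j ∈ Finset.univ.filter (fun j => j ∉ I), (G.mult i j : ℚ) * G.pairing I (σ i) j
        = -(if σ i = i then 1 else 0) := by
    intro i hi
    rw [← schur G I (σ i) i (Finset.mem_filter.mp hi).2]
    exact Finset.sum_congr rfl fun j _ => by rw [mult_mat, hsymm, mul_comm]
  rw [Finset.sum_congr rfl this, Finset.sum_neg_distrib, Finset.sum_boole, Finset.filter_filter]

end Groth.Agent.S15327
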