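import Groth.Statements.S15329
import Groth.Statements.S14864
import Groth.Statements.S14051
import Groth.Statements.S9658
import Groth.Statements.S14418
import Mathlib.RingTheory.WittVector.Identities
import Mathlib.RingTheory.WittVector.Domain
import Mathlib.RingTheory.WittVector.Truncated
import Mathlib.RingTheory.Nakayama
import Mathlib.Algebra.Homology.ShortComplex.ModuleCat
import Mathlib.Algebra.Homology.ShortComplex.ShortExact
import Mathlib.Algebra.Category.ModuleCat.EpiMono
import Mathlib.RingTheory.Ideal.AssociatedPrime.Finiteness

set_option autoImplicit false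
open TensorProduct LaurentPolynomial
universe u v
open CAlg

namespace Groth.Agent.S15329
open CAlg

open TensorProduct LaurentPolynomial

theorem T_mem_range_iff {k : Type u} [Field k] (a : k) (n : ℤ) :
    T n * C a ∈ (Polynomial.toLaurent : Polynomial k →+* k[T;T⁻¹]).range ↔ (0 ≤ n ∨ a = 0) := by
  constructor
  · rintro ⟨q, hq⟩
    by_contra h
    push_neg at h
    rw [mul_comm] at hq
    have h1 := congrArg LaurentPolynomial.trunc hq
    rw [Polynomial.trunc_toLaurent, trunc_C_mul_T, if_neg (by omega)] at h1
    rw [h1, map_zero] at hq
    have h2 := support_coeff_C_mul_T_of_ne_zero h.2 n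
    rw [← hq] at h2
    simp at h2
  · rintro (h | h)
    · obtain ⟨j, rfl⟩ := Int.eq_ofNat_of_zero_le h
      exact ⟨Polynomial.C a * Polynomial.X ^ j, by rw [Polynomial.toLaurent_C_mul_X_pow, mul_comm]⟩
    · exact ⟨0, by simp [h]⟩

theorem map_smul_of_tower' {k S M N : Type*} [CommRing k] [CommRing S] [Algebra k S] [AddCommGroup M] [Module k M]
    [Module S M] [IsScalarTower k S M] [AddCommGroup N] [Module k N] [Module S N] [IsScalarTower k S N]
    (e : M ≃ₗ[S] N) (c : k) (x : M) : e (c • x) = c • e x := e.toLinearMap.map_smul_of_tower c x

/-- Let k be a field, E a k-vector space and F an increasing ℤ-indexed filtration of E by subspaces. In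
E[T, T⁻¹] = k[T, T⁻¹] ⊗ E the Rees module of (E, F) is the k-span of the elements T^n ⊗ v with v ∈ F
n; it is the module of global sections of the equivariant bundle on the affine line attached to (E,
F), and E[T, T⁻¹] that of its sections away from the origin. For a linear form α on E and an integer
p, the k[T, T⁻¹]-linear form m ↦ T^p · (id ⊗ α)(m) is the invariant section α of the dual bundle
away from the origin multiplied by T^p, and it extends over the origin exactly when it maps the Rees
module into the polynomial subring k[T]. This happens if and only if α vanishes on F(−p − 1); so the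
dual equivariant bundle corresponds to the dual space filtered by the annihilators of the F(−p − 1).
(The published statement has the annihilator of F(−p + 1), over the complex numbers; for E = k with
F n = 0 for n < 0 and F n = E for n ≥ 0 the form with p = 0 and α ≠ 0 maps the Rees module into k[T]
although α does not vanish on F(1) = E, and the published argument gives the index −p − 1, which
this row states, over any field.) -/
theorem result
    (k : Type u) [Field k] (E : Type v) [AddCommGroup E] [Module k E]
    (F : ℤ → Submodule k E) (hF : Monotone F)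
    (α : Module.Dual k E) (p : ℤ) :
    (∀ m ∈ Submodule.span k {x : k[T;T⁻¹] ⊗[k] E | ∃ (n : ℤ) (v : E), v ∈ F n ∧ x = T n ⊗ₜ[k] v},
      T p * (TensorProduct.AlgebraTensorModule.rid k k[T;T⁻¹] k[T;T⁻¹]) (LinearMap.baseChange k[T;T⁻¹] α m)
        ∈ (Polynomial.toLaurent : Polynomial k →+* k[T;T⁻¹]).range) ↔
    ∀ v ∈ F (-p - 1), α v = 0 := by
  have hval : ∀ (n : ℤ) (v : E), T p * (TensorProduct.AlgebraTensorModule.rid k k[T;T⁻¹] k[T;T⁻¹])
      (LinearMap.baseChange k[T;T⁻¹] α (T n ⊗ₜ[k] v)) = T (p + n) * C (α v) := by
    intro n v
    rw [LinearMap.baseChange_tmul, TensorProduct.AlgebraTensorModule.rid_tmul, Algebra.smul_def,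
      ← mul_assoc, T_add]
    rw [mul_assoc, mul_assoc, mul_comm (algebraMap k k[T;T⁻¹] (α v))]
    rfl
  constructor
  · intro h v hv
    have := h _ (Submodule.subset_span ⟨-p - 1, v, hv, rfl⟩)
    rw [hval, T_mem_range_iff] at this
    exact this.resolve_left (by omega)
  · intro h m hm
    induction hm using Submodule.span_induction with
    | mem x hx =>
      obtain ⟨n, v, hv, rfl⟩ := hx
      rw [hval, T_mem_range_iff]
      by_cases hn : 0 ≤ p + n
      · exact Or.inl hn
      · exact Or.inr (h v (hF (by omega) hv))
    | zero => rw [map_zero, map_zero, mul_zero]; exact zero_mem _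
    | add x y _ _ hx hy => rw [map_add, map_add, mul_add]; exact add_mem hx hy
    | smul c x _ hx =>
      rw [LinearMap.map_smul_of_tower, map_smul_of_tower', mul_smul_comm, Algebra.smul_def]
      exact mul_mem ⟨Polynomial.C c, Polynomial.toLaurent_C c⟩ hx

end Groth.Agent.S15329
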