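import Groth.Statements.S15330
import Groth.Agent.Lib.VB17.PairSat
-- import your own Groth.Agent.* helpers here

set_option autoImplicit false
open CategoryTheory AlgebraicGeometry CategoryTheory.Limits
open VBCurve

open Groth.Agent.M1 Groth.Agent.M2 Groth.Agent.CurveCoh17 Groth.Agent.VB17

namespace Groth.Agent.S15330

/-- Let X be a smooth proper integral curve over the complex numbers, L an invertible module on X, and
(E, φ_E), (F, φ_F) two L-valued Higgs bundles on X of the same rank r ≥ 1 and the same degree d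
(degree = χ − rank · χ(O)), each semistable: deg G · r ≤ d · s for every finite locally free
submodule G of rank s ≥ 1 to which the Higgs field restricts. Let E_0 ⊂ E_1 ⊂ … ⊂ E_n = E with E_0 =
0 and F = F_0 ⊃ F_1 ⊃ … ⊃ F_n = 0 be chains of finite locally free submodules to which the Higgs
fields restrict, of ranks with rk E_i + rk F_i = r, which are opposite: E_{i+1}/E_i ≅ F_i/F_{i+1} as
O-modules for i < n. Then every E_i of positive rank and every F_i of positive rank has slope d/r,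
that is deg · r = d · rank, and is semistable for its restricted Higgs field; and each graded piece
E_{i+1}/E_i of positive rank is finite locally free of rank rk E_{i+1} − rk E_i, of slope d/r, and
semistable for every Higgs field on it compatible with that of E_{i+1} along the projection. (The
published statement indexes the second chain so that F_i/F_{i+1} matches E_i/E_{i−1} and takes the
isomorphisms of graded pieces as Higgs bundles; here they are assumed as O-modules only, together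
with the rank bookkeeping rk E_i + rk F_i = r that they imply.) -/
theorem result
    (X : Scheme.{0}) [X.Over (Spec (CommRingCat.of ℂ))] [IsIntegral X]
    [IsProper (X ↘ Spec (CommRingCat.of ℂ))] [Smooth (X ↘ Spec (CommRingCat.of ℂ))]
    (hdim : topologicalKrullDim X = 1)
    (L : X.Modules) (hL : PicF.IsInvertible L) (r : ℕ) (hr : 0 < r) (d : ℤ)
    (E : X.Modules) (hE : FlatMod.IsFinLocFreeOfRank r E) (φE : E ⟶ CohB1.tensorMod E L)
    (hEd : Curv2.deg ℂ X E r = d)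
    (hEss : (∀ (G : X.Modules) (s : ℕ) (j : G ⟶ E) (χ : G ⟶ CohB1.tensorMod G L), Mono j → 0 < s →
        FlatMod.IsFinLocFreeOfRank s G →
        χ ≫ (CohB1.sheafifyMod X).map (MonoidalCategoryStruct.whiskerRight (C := CohB1.PMod X) j.val (CohB1.toPMod L)) = j ≫ φE →
        Curv2.deg ℂ X G s * (r : ℤ) ≤ Curv2.deg ℂ X E r * (s : ℤ)))
    (F : X.Modules) (hF : FlatMod.IsFinLocFreeOfRank r F) (φF : F ⟶ CohB1.tensorMod F L)
    (hFd : Curv2.deg ℂ X F r = d)
    (hFss : (∀ (G : X.Modules) (s : ℕ) (j : G ⟶ F) (χ : G ⟶ CohB1.tensorMod G L), Mono j → 0 < s →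
        FlatMod.IsFinLocFreeOfRank s G →
        χ ≫ (CohB1.sheafifyMod X).map (MonoidalCategoryStruct.whiskerRight (C := CohB1.PMod X) j.val (CohB1.toPMod L)) = j ≫ φF →
        Curv2.deg ℂ X G s * (r : ℤ) ≤ Curv2.deg ℂ X F r * (s : ℤ)))
    (n : ℕ)
    (Es : ℕ → X.Modules) (rE : ℕ → ℕ) (hEs : ∀ i, FlatMod.IsFinLocFreeOfRank (rE i) (Es i))
    (ιE : ∀ i, Es i ⟶ E) (hιE : ∀ i, Mono (ιE i))
    (ψE : ∀ i, Es i ⟶ CohB1.tensorMod (Es i) L)
    (hψE : ∀ i, ψE i ≫ (CohB1.sheafifyMod X).map (MonoidalCategoryStruct.whiskerRight (C := CohB1.PMod X) (ιE i).val (CohB1.toPMod L)) = ιE i ≫ φE)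
    (a : ∀ i, Es i ⟶ Es (i + 1)) (ha : ∀ i, a i ≫ ιE (i + 1) = ιE i)
    (hE0 : IsZero (Es 0)) (hEn : IsIso (ιE n))
    (Fs : ℕ → X.Modules) (rF : ℕ → ℕ) (hFs : ∀ i, FlatMod.IsFinLocFreeOfRank (rF i) (Fs i))
    (ιF : ∀ i, Fs i ⟶ F) (hιF : ∀ i, Mono (ιF i))
    (ψF : ∀ i, Fs i ⟶ CohB1.tensorMod (Fs i) L)
    (hψF : ∀ i, ψF i ≫ (CohB1.sheafifyMod X).map (MonoidalCategoryStruct.whiskerRight (C := CohB1.PMod X) (ιF i).val (CohB1.toPMod L)) = ιF i ≫ φF)
    (b : ∀ i, Fs (i + 1) ⟶ Fs i) (hb : ∀ i, b i ≫ ιF i = ιF (i + 1))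
    (hF0 : IsIso (ιF 0)) (hFn : IsZero (Fs n))
    (hrk : ∀ i, i ≤ n → rE i + rF i = r)
    (hopp : ∀ i, i < n → Nonempty (cokernel (a i) ≅ cokernel (b i))) :
    (∀ i, i ≤ n → 0 < rE i →
      Curv2.deg ℂ X (Es i) (rE i) * (r : ℤ) = d * (rE i : ℤ) ∧
      (∀ (G : X.Modules) (s : ℕ) (j : G ⟶ (Es i)) (χ : G ⟶ CohB1.tensorMod G L), Mono j → 0 < s →
        FlatMod.IsFinLocFreeOfRank s G →
        χ ≫ (CohB1.sheafifyMod X).map (MonoidalCategoryStruct.whiskerRight (C := CohB1.PMod X) j.val (CohB1.toPMod L)) = j ≫ ψE i →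
        Curv2.deg ℂ X G s * (rE i : ℤ) ≤ Curv2.deg ℂ X (Es i) (rE i) * (s : ℤ))) ∧
    (∀ i, i ≤ n → 0 < rF i →
      Curv2.deg ℂ X (Fs i) (rF i) * (r : ℤ) = d * (rF i : ℤ) ∧
      (∀ (G : X.Modules) (s : ℕ) (j : G ⟶ (Fs i)) (χ : G ⟶ CohB1.tensorMod G L), Mono j → 0 < s →
        FlatMod.IsFinLocFreeOfRank s G →
        χ ≫ (CohB1.sheafifyMod X).map (MonoidalCategoryStruct.whiskerRight (C := CohB1.PMod X) j.val (CohB1.toPMod L)) = j ≫ ψF i →
        Curv2.deg ℂ X G s * (rF i : ℤ) ≤ Curv2.deg ℂ X (Fs i) (rF i) * (s : ℤ))) ∧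
    (∀ i, i < n → rE i < rE (i + 1) →
      FlatMod.IsFinLocFreeOfRank (rE (i + 1) - rE i) (cokernel (a i)) ∧
      Curv2.deg ℂ X (cokernel (a i)) (rE (i + 1) - rE i) * (r : ℤ) = d * ((rE (i + 1) - rE i : ℕ) : ℤ) ∧
      ∀ (φ' : cokernel (a i) ⟶ CohB1.tensorMod (cokernel (a i)) L),
        cokernel.π (a i) ≫ φ' = ψE (i + 1) ≫ (CohB1.sheafifyMod X).map (MonoidalCategoryStruct.whiskerRight (C := CohB1.PMod X) (cokernel.π (a i)).val (CohB1.toPMod L)) →
        (∀ (G : X.Modules) (s : ℕ) (j : G ⟶ cokernel (a i)) (χ : G ⟶ CohB1.tensorMod G L), Mono j → 0 < s →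
        FlatMod.IsFinLocFreeOfRank s G →
        χ ≫ (CohB1.sheafifyMod X).map (MonoidalCategoryStruct.whiskerRight (C := CohB1.PMod X) j.val (CohB1.toPMod L)) = j ≫ φ' →
        Curv2.deg ℂ X G s * ((rE (i + 1) - rE i : ℕ) : ℤ) ≤ Curv2.deg ℂ X (cokernel (a i)) (rE (i + 1) - rE i) * (s : ℤ))) := by
  simp only [whisker_eq_tensorMap] at hEss hFss hψE hψF ⊢
  have hX := VB17.regCurve' (k := ℂ) (X := X) hdim
  haveI := hX.like.noetherian
  haveI := hX.integral
  have hrpos : (0 : ℤ) < r := by exact_mod_cast hr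
  haveI : ∀ i, Mono (ιE i) := hιE
  haveI : ∀ i, Mono (ιF i) := hιF
  have hma : ∀ i, Mono (a i) := fun i => by
    haveI : Mono (a i ≫ ιE (i + 1)) := (ha i).symm ▸ inferInstance
    exact mono_of_mono _ (ιE (i + 1))
  have hmb : ∀ i, Mono (b i) := fun i => by
    haveI : Mono (b i ≫ ιF i) := (hb i).symm ▸ inferInstance
    exact mono_of_mono _ (ιF i)
  -- bounds from semistability
  have hbE : ∀ i, Curv2.deg ℂ X (Es i) (rE i) * (r : ℤ) ≤ d * (rE i : ℤ) := fun i => by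
    rcases Nat.eq_zero_or_pos (rE i) with h0 | h0
    · have h := hEs i
      rw [h0] at h ⊢
      rw [deg_rank_zero hX.like h]
      simp
    · rw [← hEd]; exact hEss _ _ _ (ψE i) (hιE i) h0 (hEs i) (hψE i)
  have hbF : ∀ i, Curv2.deg ℂ X (Fs i) (rF i) * (r : ℤ) ≤ d * (rF i : ℤ) := fun i => by
    rcases Nat.eq_zero_or_pos (rF i) with h0 | h0
    · have h := hFs i
      rw [h0] at h ⊢
      rw [deg_rank_zero hX.like h]
      simp
    · rw [← hFd]; exact hFss _ _ _ (ψF i) (hιF i) h0 (hFs i) (hψF i)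
  -- the sum of the two degrees is constant
  have hsum : ∀ i, i ≤ n → Curv2.euler ℂ X (Es i) + Curv2.euler ℂ X (Fs i) = Curv2.euler ℂ X F := by
    intro i
    induction i with
    | zero =>
      intro _
      have h0 : Curv2.euler ℂ X (Es 0) = 0 := by
        let Z : ShortComplex X.Modules := ShortComplex.mk (𝟙 (Es 0)) (0 : Es 0 ⟶ Es 0) (hE0.eq_of_src _ _)
        have hZ : Z.ShortExact :=
          { exact := ShortComplex.exact_of_isZero_X₂ Z hE0
            mono_f := ⟨fun _ _ _ => hE0.eq_of_tgt _ _⟩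
            epi_g := ⟨fun _ _ _ => hE0.eq_of_src _ _⟩ }
        have h := euler_add hZ (hX.like.adm (isCoh_of_ofRank (hEs 0))) (hX.like.adm (isCoh_of_ofRank (hEs 0)))
        change Curv2.euler ℂ X (Es 0) = Curv2.euler ℂ X (Es 0) + Curv2.euler ℂ X (Es 0) at h
        omega
      haveI := hF0
      rw [h0, zero_add, euler_iso (asIso (ιF 0))]
    | succ i ih =>
      intro hi
      haveI := hma i
      haveI := hmb i
      obtain ⟨e⟩ := hopp i (by omega)
      let S : ShortComplex X.Modules := ShortComplex.mk (a i) (cokernel.π (a i)) (cokernel.condition (a i))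
      let T : ShortComplex X.Modules := ShortComplex.mk (b i) (cokernel.π (b i)) (cokernel.condition (b i))
      have hS : S.ShortExact := { exact := ShortComplex.exact_of_g_is_cokernel _ (cokernelIsCokernel (a i)) }
      have hT : T.ShortExact := { exact := ShortComplex.exact_of_g_is_cokernel _ (cokernelIsCokernel (b i)) }
      have hcS : Coh.IsCoh (cokernel (a i)) := M1.isCoh_cokernel (isCoh_of_ofRank (hEs i)).1 (isCoh_of_ofRank (hEs (i + 1))) _
      have hcT : Coh.IsCoh (cokernel (b i)) := M1.isCoh_cokernel (isCoh_of_ofRank (hFs (i + 1))).1 (isCoh_of_ofRank (hFs i)) _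
      have h1 := euler_add hS (hX.like.adm (isCoh_of_ofRank (hEs i))) (hX.like.adm hcS)
      have h2 := euler_add hT (hX.like.adm (isCoh_of_ofRank (hFs (i + 1)))) (hX.like.adm hcT)
      change Curv2.euler ℂ X (Es (i + 1)) = Curv2.euler ℂ X (Es i) + Curv2.euler ℂ X (cokernel (a i)) at h1
      change Curv2.euler ℂ X (Fs i) = Curv2.euler ℂ X (Fs (i + 1)) + Curv2.euler ℂ X (cokernel (b i)) at h2
      have h3 := ih (by omega)
      rw [euler_iso e] at h1
      omega
  have hdeg : ∀ i, i ≤ n → Curv2.deg ℂ X (Es i) (rE i) * (r : ℤ) = d * (rE i : ℤ) ∧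
      Curv2.deg ℂ X (Fs i) (rF i) * (r : ℤ) = d * (rF i : ℤ) := fun i hi => by
    have hr' : (rE i : ℤ) + (rF i : ℤ) = r := by exact_mod_cast hrk i hi
    have htot : Curv2.deg ℂ X (Es i) (rE i) + Curv2.deg ℂ X (Fs i) (rF i) = d := by
      rw [← hFd, Curv2.deg, Curv2.deg, Curv2.deg, ← hsum i hi, ← hr']
      ring
    have e1 := congrArg (· * (r : ℤ)) htot
    have e2 := congrArg (d * ·) hr'
    simp only [add_mul, mul_add] at e1 e2
    have := hbE i
    have := hbF i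
    constructor <;> linarith
  have hssE : ∀ i, i ≤ n → ∀ (G : X.Modules) (s : ℕ) (j : G ⟶ Es i), Mono j → 0 < s →
      FlatMod.IsFinLocFreeOfRank s G → Inv (ψE i) j →
      Curv2.deg ℂ X G s * (rE i : ℤ) ≤ Curv2.deg ℂ X (Es i) (rE i) * (s : ℤ) := fun i hi G s j hj hs hG hinv => by
    haveI := hj
    obtain ⟨χ, hχ⟩ := inv_comp (hψE i) hinv
    have h := hEss G s _ χ (mono_comp j (ιE i)) hs hG hχ
    rw [hEd] at h
    refine le_of_mul_le_mul_right ?_ hrpos
    have h' := mul_le_mul_of_nonneg_right h (show (0 : ℤ) ≤ (rE i : ℤ) by positivity)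
    have e := congrArg (· * (s : ℤ)) (hdeg i hi).1
    linarith
  have hssF : ∀ i, i ≤ n → ∀ (G : X.Modules) (s : ℕ) (j : G ⟶ Fs i), Mono j → 0 < s →
      FlatMod.IsFinLocFreeOfRank s G → Inv (ψF i) j →
      Curv2.deg ℂ X G s * (rF i : ℤ) ≤ Curv2.deg ℂ X (Fs i) (rF i) * (s : ℤ) := fun i hi G s j hj hs hG hinv => by
    haveI := hj
    obtain ⟨χ, hχ⟩ := inv_comp (hψF i) hinv
    have h := hFss G s _ χ (mono_comp j (ιF i)) hs hG hχ
    rw [hFd] at h
    refine le_of_mul_le_mul_right ?_ hrpos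
    have h' := mul_le_mul_of_nonneg_right h (show (0 : ℤ) ≤ (rF i : ℤ) by positivity)
    have e := congrArg (· * (s : ℤ)) (hdeg i hi).2
    linarith
  refine ⟨fun i hi h0 => ⟨(hdeg i hi).1, fun G s j χ hj hs hG hχ => hssE i hi G s j hj hs hG ⟨χ, hχ⟩⟩,
    fun i hi h0 => ⟨(hdeg i hi).2, fun G s j χ hj hs hG hχ => hssF i hi G s j hj hs hG ⟨χ, hχ⟩⟩, fun i hi hlt => ?_⟩
  haveI := hma i
  haveI : Mono (tensorMap (ιE (i + 1)) (𝟙 L)) := mono_tensorMap _ hL
  have hinva : Inv (ψE (i + 1)) (a i) := by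
    refine ⟨ψE i, ?_⟩
    have hc : tensorMap (a i ≫ ιE (i + 1)) (𝟙 L) = tensorMap (a i) (𝟙 L) ≫ tensorMap (ιE (i + 1)) (𝟙 L) :=
      (tensorR L).map_comp (a i) (ιE (i + 1))
    rw [← cancel_mono (tensorMap (ιE (i + 1)) (𝟙 L)), Category.assoc, Category.assoc, ← hc, ha i,
      show ψE (i + 1) ≫ tensorMap (ιE (i + 1)) (𝟙 L) = ιE (i + 1) ≫ φE from
        (congrArg (ψE (i + 1) ≫ ·) (whisker_eq_tensorMap _ L)).symm.trans (hψE (i + 1)), ← Category.assoc, ha i]
    exact (congrArg (ψE i ≫ ·) (whisker_eq_tensorMap _ L)).symm.trans (hψE i)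
  have hpos : 0 < rE (i + 1) := lt_of_le_of_lt (Nat.zero_le _) hlt
  have hsl : Curv2.deg ℂ X (Es i) (rE i) * (rE (i + 1) : ℤ) = Curv2.deg ℂ X (Es (i + 1)) (rE (i + 1)) * (rE i : ℤ) := by
    refine mul_right_cancel₀ hrpos.ne' ?_
    have e1 := congrArg (· * (rE (i + 1) : ℤ)) (hdeg i (by omega)).1
    have e2 := congrArg (· * (rE i : ℤ)) (hdeg (i + 1) (by omega)).1
    linarith
  obtain ⟨h1, h2, h3⟩ := quotient_semistable hX hL hpos (hEs (i + 1)) (hEs i) (a i) (hssE (i + 1) (by omega)) hinva hsl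
  refine ⟨h1, ?_, fun φ' hφ' G s j χ hj hs hG hχ => h3 φ' hφ' G s j hj hs hG ⟨χ, hχ⟩⟩
  refine mul_right_cancel₀ (show (rE (i + 1) : ℤ) ≠ 0 by exact_mod_cast hpos.ne') ?_
  have e1 := congrArg (· * (r : ℤ)) h2
  have e2 := congrArg (· * ((rE (i + 1) - rE i : ℕ) : ℤ)) (hdeg (i + 1) (by omega)).1
  linarith

end Groth.Agent.S15330
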