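import Groth.Statements.S15335
import Groth.Agent.Lib.VB17.Proper

set_option autoImplicit false
universe u
open CategoryTheory CategoryTheory.Limits AlgebraicGeometry
open VBCurve

namespace Groth.Agent.S15335

open CategoryTheory CategoryTheory.Limits AlgebraicGeometry Groth.Agent.VB17

/-- Let X be a smooth proper integral curve (integral, smooth and proper of dimension one) over an
algebraically closed field k, and E₁, E₂ finite locally free O_X-modules of ranks r₁ ≥ 1, r₂ ≥ 1.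
The maximal slope of E₁ ⊕ E₂ is at most the larger of the maximal slopes of E₁ and E₂: if m₁, m₂ are
rational numbers such that every finite locally free submodule of positive rank of E₁ (resp. E₂) has
slope deg/rank ≤ m₁ (resp. ≤ m₂), degree meaning χ − rank·χ(O_X), then every finite locally free
submodule F of the biproduct E₁ ⊞ E₂ of rank r' ≥ 1 has slope deg F / r' ≤ max(m₁, m₂). -/
theorem result (k : Type u) [Field k] [IsAlgClosed k] (X : Scheme.{u}) [X.Over (Spec (CommRingCat.of k))]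
    [IsIntegral X] [IsProper (X ↘ Spec (CommRingCat.of k))] [Smooth (X ↘ Spec (CommRingCat.of k))]
    (hdim : topologicalKrullDim X = 1)
    (r₁ r₂ : ℕ) (hr₁ : 0 < r₁) (hr₂ : 0 < r₂) (E₁ E₂ : X.Modules)
    (hE₁ : FlatMod.IsFinLocFreeOfRank r₁ E₁) (hE₂ : FlatMod.IsFinLocFreeOfRank r₂ E₂) (m₁ m₂ : ℚ)
    (h₁ : ∀ (G : X.Modules) (r' : ℕ) (i : G ⟶ E₁), Mono i → 0 < r' → FlatMod.IsFinLocFreeOfRank r' G →
      (Curv2.deg k X G r' : ℚ) / r' ≤ m₁)
    (h₂ : ∀ (G : X.Modules) (r' : ℕ) (i : G ⟶ E₂), Mono i → 0 < r' → FlatMod.IsFinLocFreeOfRank r' G →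
      (Curv2.deg k X G r' : ℚ) / r' ≤ m₂)
    (F : X.Modules) (r' : ℕ) (i : F ⟶ E₁ ⊞ E₂) (hi : Mono i) (hr' : 0 < r')
    (hF : FlatMod.IsFinLocFreeOfRank r' F) :
    (Curv2.deg k X F r' : ℚ) / r' ≤ max m₁ m₂ := by
  haveI := hi
  have hX := regCurve' (k := k) hdim
  have hS : (ShortComplex.mk (biprod.inl : E₁ ⟶ E₁ ⊞ E₂) biprod.snd biprod.inl_snd).ShortExact :=
    (ShortComplex.Splitting.ofHasBinaryBiproduct E₁ E₂).shortExact
  obtain ⟨rb, hb⟩ : ∃ n, FlatMod.IsFinLocFreeOfRank n (E₁ ⊞ E₂) := exists_rank_biprod hX hE₁ hE₂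
  rw [div_le_iff₀ (by exact_mod_cast hr')]
  exact deg_le_of_shortExact hX hS hE₁ hb hE₂ _ (fun G s j hj h0 hG => (h₁ G s j hj h0 hG).trans (le_max_left _ _))
    (fun G s j hj h0 hG => (h₂ G s j hj h0 hG).trans (le_max_right _ _)) hF i

end Groth.Agent.S15335
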