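import Groth.Statements.S15336
import Groth.Agent.Lib.MumVan22.PushShear
import Groth.Agent.Lib.MumVan22.IsogVanish
import Groth.Agent.Lib.TorsorSch25.Normal
import Groth.Agent.Lib.TorsorSch25.Field
-- import your own Groth.Agent.* helpers here

set_option autoImplicit false
set_option backward.isDefEq.respectTransparency.types false
universe u
open CategoryTheory CategoryTheory.Limits AlgebraicGeometry
open VBCurve

namespace Groth.Agent.S15336

open MonoidalCategory CartesianMonoidalCategory Groth.Agent Groth.Agent.CurveCoh17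

/-- The direct image of a torsor tensors itself into copies. -/
theorem nonempty_iso_copies (k : Type u) [Field k] (X : Scheme.{u}) [X.Over (Spec (CommRingCat.of k))]
    (G : Scheme.{u}) [G.Over (Spec (CommRingCat.of k))] [GrpObj (G.asOver (Spec (CommRingCat.of k)))]
    [IsFinite (G ↘ Spec (CommRingCat.of k))] (n : ℕ)
    (hn : Module.finrank k (Coh.HH G (Coh.structureModule G) 0) = n)
    (P : Over X) (a : AlgGrp.Action (Red.bc (X ↘ Spec (CommRingCat.of k)) (G.asOver (Spec (CommRingCat.of k)))) P)
    (hP : NonAbH1.IsTorsorFor Scheme.fppfPrecoverage a) :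
    Nonempty (CohB1.tensorMod (pushO P.hom) (pushO P.hom) ≅ ∐ fun _ : Fin n => pushO P.hom) := by
  classical
  let g : G ⟶ Spec (CommRingCat.of k) := G ↘ Spec (CommRingCat.of k)
  let s := X ↘ Spec (CommRingCat.of k)
  let GX := Red.bc s (G.asOver (Spec (CommRingCat.of k)))
  haveI : IsFinite g := ‹_›
  haveI : IsFinite GX.hom :=
    MorphismProperty.pullback_snd (P := (@IsFinite : MorphismProperty Scheme.{u})) _ _ (inferInstanceAs (IsFinite g))
  haveI hjf := TorsorSch25.isFinite_of_isTorsorFor_fppf hP
  haveI : Flat g := TorsorSch25.flat_over_field g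
  haveI : LocallyOfFinitePresentation g := LocallyOfFinitePresentation.iff_locallyOfFiniteType.2 inferInstance
  -- the group scheme is free over the point
  obtain ⟨V, m, hxV, ⟨eV⟩⟩ := isFinLocFree_pushO g (IsLocalRing.closedPoint k)
  have hall : ∀ (T : Scheme.{u}) (t : T ⟶ Spec (CommRingCat.of k)) (x : T), t x ∈ V := fun T t x => by
    rw [Subsingleton.elim (α := Spec (CommRingCat.of k)) (t x) (IsLocalRing.closedPoint k)]
    exact hxV
  obtain ⟨i0⟩ := PushShear22.nonempty_pull_free eV (𝟙 (Spec (CommRingCat.of k))) (hall _ _)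
  have e0 : pushO g ≅ FlatMod.freeMod (Spec (CommRingCat.of k)) m :=
    ((Scheme.Modules.pullbackId (Spec (CommRingCat.of k))).app (pushO g)).symm ≪≫ i0
  obtain rfl : m = n := by
    have h1 := PushShear22.rank_eq_finrank g e0
    haveI : IsAffine G := isAffine_of_isAffineHom g
    obtain ⟨B, _, _, eB, heB⟩ := AlgSpDecent.exists_spec_form g
    haveI : IsFinite (Spec.map (CommRingCat.ofHom (algebraMap k B))) := by
      have h : IsFinite (eB.inv ≫ g) := inferInstance
      rwa [← heB, Iso.inv_hom_id_assoc] at h
    haveI : Module.Finite k B := by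
      have h : IsFinite (Spec.map (CommRingCat.ofHom (algebraMap k B))) := inferInstance
      rwa [IsFinite.SpecMap_iff, CommRingCat.hom_ofHom, RingHom.finite_algebraMap] at h
    rw [← heB, Scheme.Hom.finrank_comp_left_of_isIso, Scheme.Hom.finrank_SpecMap_algebraMap,
      Module.rankAtStalk_eq_finrank_of_free] at h1
    rw [← hn, ← h1]
    exact (PushShear22.finrank_H0_structure g eB heB).symm
  -- the shear
  let j : P.left ⟶ X := P.hom
  haveI := hP.1
  let sh := (CartesianMonoidalCategory.lift a.act (CartesianMonoidalCategory.snd GX P)).left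
  haveI : IsIso sh := by
    haveI : IsIso (CartesianMonoidalCategory.lift a.act (CartesianMonoidalCategory.snd GX P)) := hP.1
    exact inferInstanceAs (IsIso ((Over.forget _).map (CartesianMonoidalCategory.lift a.act (CartesianMonoidalCategory.snd GX P))))
  have hsh : sh ≫ pullback.snd j j = pullback.snd GX.hom j :=
    congrArg CommaMorphism.left (CartesianMonoidalCategory.lift_snd a.act (CartesianMonoidalCategory.snd GX P))
  obtain ⟨i1⟩ := PushShear22.nonempty_pull_pushO j j
  obtain ⟨i2⟩ := PushShear22.nonempty_pushO_iso (pullbackSymmetry j j).hom (pullback.fst j j) (pullback.snd j j)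
    (pullbackSymmetry_hom_comp_snd j j)
  obtain ⟨i3⟩ := PushShear22.nonempty_pushO_iso sh (pullback.snd GX.hom j) (pullback.snd j j) hsh
  have sq : IsPullback (pullback.snd GX.hom j) (pullback.fst GX.hom j ≫ pullback.fst g s) (j ≫ s) g :=
    ((IsPullback.of_hasPullback GX.hom j).paste_horiz (IsPullback.of_hasPullback g s)).flip
  haveI : IsIso sq.isoPullback.hom := ⟨sq.isoPullback.inv, sq.isoPullback.hom_inv_id, sq.isoPullback.inv_hom_id⟩
  obtain ⟨i4⟩ := PushShear22.nonempty_pushO_iso sq.isoPullback.hom (pullback.snd GX.hom j) (pullback.fst (j ≫ s) g)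
    sq.isoPullback_hom_fst
  obtain ⟨i5⟩ := PushShear22.nonempty_pull_pushO g (j ≫ s)
  obtain ⟨i6⟩ := PushShear22.nonempty_pull_free eV (j ≫ s) (hall _ _)
  let e : (Scheme.Modules.pullback j).obj (pushO j) ≅ FlatMod.freeMod P.left m :=
    i1 ≪≫ i2.symm ≪≫ i3 ≪≫ i4.symm ≪≫ i5.symm ≪≫ i6
  haveI : Coh.IsQCoh (pushO j) := PushFin12.isQCoh_pushforward j _ (M1.isQCoh_structureModule _)
  haveI := ResDesc11.isIso_proj j (pushO j)
  haveI : PreservesBinaryBiproducts (Scheme.Modules.pushforward j) :=
    preservesBinaryBiproducts_of_preservesBiproducts _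
  exact ⟨asIso (ResDesc11.proj j (pushO j)) ≪≫
    (Scheme.Modules.pushforward j).mapIso (e ≪≫ (biproduct.isoCoproduct fun _ : Fin m => Coh.structureModule P.left).symm) ≪≫
    (Scheme.Modules.pushforward j).mapBiproduct _ ≪≫ biproduct.isoCoproduct _⟩

/-- Let X be a smooth proper integral curve (integral, smooth and proper of dimension one) over an
algebraically closed field k, G a finite group scheme over k of order n, meaning dim_k H^0(G, O_G) =
n, and j : P → X a torsor (fppf-locally trivial) under the X-group scheme G ×_k X. Put E = j_*O_P.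
Then there is an isomorphism of O_X-modules E ⊗ E ≅ E ⊕ ⋯ ⊕ E (n copies); in particular E is a
finite vector bundle in the sense of Weil (two distinct polynomials in E agree). Existence of an
isomorphism only. (The published statement asserts only that E is finite in this sense; this row
states the isomorphism its argument gives, with n = dim_k H^0(G, O_G).) -/
theorem result (k : Type u) [Field k] [IsAlgClosed k] (X : Scheme.{u}) [X.Over (Spec (CommRingCat.of k))]
    [IsIntegral X] [IsProper (X ↘ Spec (CommRingCat.of k))] [Smooth (X ↘ Spec (CommRingCat.of k))]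
    (hdim : topologicalKrullDim X = 1)
    (G : Scheme.{u}) [G.Over (Spec (CommRingCat.of k))] [GrpObj (G.asOver (Spec (CommRingCat.of k)))]
    [IsFinite (G ↘ Spec (CommRingCat.of k))] (n : ℕ)
    (hn : Module.finrank k (Coh.HH G (Coh.structureModule G) 0) = n)
    (P : Over X) (a : AlgGrp.Action (Red.bc (X ↘ Spec (CommRingCat.of k)) (G.asOver (Spec (CommRingCat.of k)))) P)
    (hP : NonAbH1.IsTorsorFor Scheme.fppfPrecoverage a) :
    Nonempty (CohB1.tensorMod ((Coh.push P.hom).obj (Coh.structureModule P.left))
        ((Coh.push P.hom).obj (Coh.structureModule P.left)) ≅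
      ∐ fun _ : Fin n => (Coh.push P.hom).obj (Coh.structureModule P.left)) := by
  exact nonempty_iso_copies k X G n hn P a hP

end Groth.Agent.S15336
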