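import Groth.Statements.S1534
import Groth.Agent.Lib.VB17.Saturate
import Groth.Agent.Lib.VB17.Setup
import Groth.Agent.Lib.VB17.Proper
import Groth.Agent.Lib.Rigid19.AntiAffine
import Groth.Agent.Lib.Depth.CM
import Groth.Agent.Lib.Depth.More
import Groth.Agent.Lib.Curve17.Basic

set_option autoImplicit false
universe u
open CategoryTheory CategoryTheory.Limits AlgebraicGeometry
open Curves

namespace Groth.Agent.S1534

open TopologicalSpace Opposite

variable {X : Scheme.{u}}

theorem mem_of_maximal_in_noetherian [NoetherianSpace X] (C : Set X) (hC : IsClosed C) :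
    ∃ T : Finset X, C = ⋃ g ∈ T, closure {g} := by
  classical
  obtain ⟨S, hfin, hclosed, hirr, hS⟩ := NoetherianSpace.exists_finite_set_isClosed_irreducible hC
  choose g hg using fun W : S => QuasiSober.sober (hirr W W.2) (hclosed W W.2)
  haveI := hfin.fintype
  refine ⟨Finset.univ.image g, ?_⟩
  rw [hS]
  ext y
  simp only [Set.mem_sUnion, Finset.mem_image, Finset.mem_univ, true_and, Set.mem_iUnion, exists_prop]
  constructor
  · rintro ⟨W, hW, hy⟩
    exact ⟨_, ⟨⟨W, hW⟩, rfl⟩, by rw [(hg ⟨W, hW⟩).def]; exact hy⟩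
  · rintro ⟨_, ⟨W, rfl⟩, hy⟩
    exact ⟨W, W.2, by rwa [(hg W).def] at hy⟩

theorem isUnit_of_bijective {k : Type u} [Field k] [X.Over (Spec (CommRingCat.of k))]
    (hb : Function.Surjective (Coh.toGlobal (X ↘ Spec (CommRingCat.of k)))) {t : Γ(X, ⊤)} (ht : t ≠ 0)
    (y : X) : X.presheaf.germ ⊤ y trivial t ≠ 0 := by
  obtain ⟨c, rfl⟩ := hb t
  have hc : c ≠ 0 := fun h => ht (by rw [h]; exact map_zero _)
  exact (((IsUnit.mk0 c hc).map (Coh.toGlobal (X ↘ Spec (CommRingCat.of k)))).map
    (X.presheaf.germ ⊤ y trivial).hom).ne_zero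

theorem surjective_toGlobal {k : Type u} [Field k] [X.Over (Spec (CommRingCat.of k))]
    (h0 : Module.finrank k (Coh.HH X (Coh.structureModule X) 0) = 1) :
    Function.Surjective (Coh.toGlobal (X ↘ Spec (CommRingCat.of k))) := by
  intro t
  let e := CurveCoh17.hh0 (Coh.structureModule X)
  haveI := Module.nontrivial_of_finrank_eq_succ h0
  obtain ⟨z, hz⟩ := exists_ne (0 : Coh.HH X (Coh.structureModule X) 0)
  have key : ∀ (c : k) (a : Coh.HH X (Coh.structureModule X) 0),
      e (c • a) = (show Γ(X, ⊤) from Coh.toGlobal (X ↘ Spec (CommRingCat.of k)) c) • e a := fun c a =>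
    CurveCoh17.hh0_smul (M := Coh.structureModule X) _ _
  by_cases ht : t = 0
  · exact ⟨0, by rw [ht, map_zero]⟩
  have hne : e.symm t ≠ 0 := fun h => ht (by
    have := congrArg e h
    rwa [AddEquiv.apply_symm_apply, map_zero] at this)
  obtain ⟨c, hc⟩ := exists_smul_eq_of_finrank_eq_one h0 hne (e.symm (M1.one ⊤))
  have h1 := congrArg e hc
  rw [key, AddEquiv.apply_symm_apply, AddEquiv.apply_symm_apply] at h1
  change (show Γ(X, ⊤) from Coh.toGlobal (X ↘ Spec (CommRingCat.of k)) c) * (show Γ(X, ⊤) from t) = 1 at h1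
  have hc0 : c ≠ 0 := fun h => by
    rw [h, map_zero] at h1
    exact hz ((CurveCoh17.hh0 (Coh.structureModule X)).injective (by
      haveI : Subsingleton Γ(X, ⊤) := subsingleton_of_zero_eq_one ((zero_mul _).symm.trans h1)
      exact (show Subsingleton Γ(Coh.structureModule X, (⊤ : X.Opens)) from ‹Subsingleton Γ(X, ⊤)›).elim _ _))
  refine ⟨c⁻¹, ?_⟩
  have h2 : (show Γ(X, ⊤) from Coh.toGlobal (X ↘ Spec (CommRingCat.of k)) c⁻¹) *
      (show Γ(X, ⊤) from Coh.toGlobal (X ↘ Spec (CommRingCat.of k)) c) = 1 := by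
    change Coh.toGlobal (X ↘ Spec (CommRingCat.of k)) c⁻¹ * Coh.toGlobal (X ↘ Spec (CommRingCat.of k)) c = 1
    rw [← map_mul, inv_mul_cancel₀ hc0, map_one]
  exact (left_inv_eq_right_inv h2 h1)

/-- A nonzero element of a stalk at a closed point killed by the maximal ideal is a global section. -/
theorem exists_point_section [IsNoetherian X] {x : X} (hxc : IsClosed ({x} : Set X)) {a : X.presheaf.stalk x}
    (hm : ∀ r ∈ IsLocalRing.maximalIdeal (X.presheaf.stalk x), r * a = 0) :
    ∃ t : Γ(X, ⊤), X.presheaf.germ ⊤ x trivial t = a ∧ ∀ y, y ≠ x → X.presheaf.germ ⊤ y trivial t = 0 := by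
  classical
  obtain ⟨U, hxU, s, rfl⟩ := X.presheaf.exists_germ_eq a
  -- the germ of `s` is zero at generisations
  have hgen : ∀ y (hy : y ∈ U), y ⤳ x → y ≠ x → X.presheaf.germ U y hy s = 0 := by
    intro y hy hyx hne
    rw [← X.presheaf.germ_stalkSpecializes hxU hyx]
    simp only [CommRingCat.comp_apply]
    -- an element of the maximal ideal at `x` which is a unit at `y`
    obtain ⟨W, hW, hxW, hWU⟩ := exists_isAffineOpen_mem_and_subset (x := x) hxU
    have hyW : y ∈ W := hyx.mem_open W.2 hxW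
    obtain ⟨f, hfy, hfx⟩ : ∃ f : Γ(X, W), y ∈ X.basicOpen f ∧ x ∉ X.basicOpen f := by
      have hyc : y ∈ W ⊓ (⟨({x} : Set X)ᶜ, hxc.isOpen_compl⟩ : X.Opens) := ⟨hyW, hne⟩
      obtain ⟨f, hf, hyf⟩ := hW.exists_basicOpen_le (V := W ⊓ ⟨({x} : Set X)ᶜ, hxc.isOpen_compl⟩) ⟨y, hyc⟩ hyW
      exact ⟨f, hyf, fun h => (hf h).2 rfl⟩
    rw [Scheme.mem_basicOpen _ _ _ hyW] at hfy
    rw [Scheme.mem_basicOpen _ _ _ hxW] at hfx
    have hr := congrArg (X.presheaf.stalkSpecializes hyx) (hm _ ((IsLocalRing.mem_maximalIdeal _).2 hfx))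
    rw [map_mul, map_zero] at hr
    have hu : IsUnit (X.presheaf.stalkSpecializes hyx (X.presheaf.germ W x hxW f)) := by
      rw [← CommRingCat.comp_apply, X.presheaf.germ_stalkSpecializes]
      exact hfy
    exact hu.mul_right_eq_zero.1 hr
  -- the support of `s`
  let N : X.Opens := ⟨{y | ∃ hy : y ∈ U, X.presheaf.germ U y hy s = 0}, by
    rw [isOpen_iff_forall_mem_open]
    rintro y ⟨hy, h0⟩
    obtain ⟨W, hyW, i₁, i₂, he⟩ := X.presheaf.germ_eq y hy hy s 0 (h0.trans (map_zero _).symm)
    rw [map_zero] at he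
    exact ⟨W, fun z hz => ⟨i₁.le hz, by rw [← X.presheaf.germ_res_apply i₁ z hz, he, map_zero]⟩, W.2, hyW⟩⟩
  obtain ⟨T, hT⟩ := mem_of_maximal_in_noetherian (X := X) (N : Set X)ᶜ N.2.isClosed_compl
  let C : Set X := ⋃ g ∈ T.filter (fun g => ¬ g ⤳ x), closure {g}
  have hC : IsClosed C := (T.filter _).finite_toSet.isClosed_biUnion fun g _ => isClosed_closure
  have hxC : x ∉ C := by
    intro h
    obtain ⟨g, hg, hgx⟩ := Set.mem_iUnion₂.1 h
    exact (Finset.mem_filter.1 hg).2 (specializes_iff_mem_closure.2 hgx)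
  let U₁ : X.Opens := U ⊓ ⟨Cᶜ, hC.isOpen_compl⟩
  have hxU₁ : x ∈ U₁ := ⟨hxU, hxC⟩
  have hzero : ∀ y (hy : y ∈ U₁), y ≠ x → X.presheaf.germ U y hy.1 s = 0 := by
    intro y hy hne
    by_contra h
    have hyN : y ∈ (N : Set X)ᶜ := fun hh => h hh.2
    rw [hT] at hyN
    obtain ⟨g, hg, hgy⟩ := Set.mem_iUnion₂.1 hyN
    by_cases hgx : g ⤳ x
    · have hgU : g ∈ U := hgx.mem_open U.2 hxU
      have hgN : g ∈ (N : Set X)ᶜ := by
        rw [hT]
        exact Set.mem_iUnion₂.2 ⟨g, hg, subset_closure rfl⟩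
      by_cases hge : g = x
      · subst hge
        rw [hxc.closure_eq] at hgy
        exact hne hgy
      · exact hgN ⟨hgU, hgen g hgU hgx hge⟩
    · exact hy.2 (Set.mem_iUnion₂.2 ⟨g, Finset.mem_filter.2 ⟨hg, hgx⟩, hgy⟩)
  let U₂ : X.Opens := ⟨({x} : Set X)ᶜ, hxc.isOpen_compl⟩
  let V : Bool → X.Opens := fun b => bif b then U₁ else U₂
  let sf : ∀ b : Bool, Γ(X, V b) := fun b =>
    match b with
    | true => X.presheaf.map (homOfLE (inf_le_left : U₁ ≤ U)).op s
    | false => 0
  obtain ⟨t, ht, -⟩ := X.sheaf.existsUnique_gluing' V ⊤ (fun b => homOfLE le_top)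
    (fun y _ => Opens.mem_iSup.2 (by
      by_cases h : y = x
      · exact ⟨true, h ▸ hxU₁⟩
      · exact ⟨false, h⟩)) sf fun b b' => by
    refine TopCat.Presheaf.section_ext X.sheaf _ _ _ fun y hy => ?_
    refine (X.presheaf.germ_res_apply (homOfLE (inf_le_left : V b ⊓ V b' ≤ V b)) y hy (sf b)).trans
      (Eq.trans ?_ (X.presheaf.germ_res_apply (homOfLE (inf_le_right : V b ⊓ V b' ≤ V b')) y hy (sf b')).symm)
    cases b <;> cases b'
    · rfl
    · exact (map_zero _).trans ((X.presheaf.germ_res_apply _ y hy.2 s).trans (hzero y hy.2 hy.1)).symm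
    · exact ((X.presheaf.germ_res_apply _ y hy.1 s).trans (hzero y hy.1 hy.2)).trans (map_zero _).symm
    · rfl
  refine ⟨t, ?_, fun y hy => ?_⟩
  · exact (X.presheaf.germ_res_apply (homOfLE (le_top : U₁ ≤ ⊤)) x hxU₁ t).symm.trans
      ((congrArg (X.presheaf.germ U₁ x hxU₁) (ht true)).trans (X.presheaf.germ_res_apply _ x hxU₁ s))
  · exact (X.presheaf.germ_res_apply (homOfLE (le_top : U₂ ≤ ⊤)) y hy t).symm.trans
      ((congrArg (X.presheaf.germ U₂ y hy) (ht false)).trans (map_zero _))

/-- A proper scheme of dimension one over a field k whose global functions are k is connected, all of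
its local rings are Cohen–Macaulay, and every irreducible component has dimension one. -/
theorem result (k : Type u) [Field k] (X : Scheme.{u}) [X.Over (Spec (CommRingCat.of k))]
    [IsProper (X ↘ (Spec (CommRingCat.of k)))] (hdim : topologicalKrullDim X = 1) (h0 : Module.finrank k (Coh.HH X (Coh.structureModule X) 0) = 1) :
    ConnectedSpace X ∧ (∀ x : X, LocCoh.IsCohenMacaulayLocalRing (X.presheaf.stalk x)) ∧
      ∀ Z ∈ irreducibleComponents (X : Type u), topologicalKrullDim Z = 1 := by
  classical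
  have hd : topologicalKrullDim X ≤ 1 := hdim.le
  haveI := VB17.isNoetherian_of_over (k := k) (X := X)
  have hb := surjective_toGlobal (X := X) h0
  haveI hne : Nonempty X := by
    by_contra h
    rw [not_nonempty_iff] at h
    rw [topologicalKrullDim, Order.krullDim_eq_bot_iff.2 ⟨fun c => c.isIrreducible'.1.elim fun y _ => h.elim y⟩] at hdim
    exact absurd hdim (by simp)
  haveI : Nontrivial Γ(X, ⊤) := by
    obtain ⟨y⟩ := hne
    exact (X.presheaf.germ ⊤ y trivial).hom.domain_nontrivial
  haveI hconn : ConnectedSpace X := by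
    refine Rigid19.connectedSpace_of_antiAffine (X := Over.mk (X ↘ Spec (CommRingCat.of k))) ⟨?_, hb⟩
    exact RingHom.injective ((X ↘ Spec (CommRingCat.of k)).appTop.hom.comp (Scheme.ΓSpecIso (CommRingCat.of k)).inv.hom)
  have hnot : ∀ x : X, IsClosed ({x} : Set X) → (∀ g : X, g ⤳ x → g = x) → False := by
    intro x hxc hmax
    obtain ⟨T, hT⟩ := mem_of_maximal_in_noetherian (X := X) Set.univ isClosed_univ
    have hopen : IsOpen ({x} : Set X) := by
      have hx' : ({x} : Set X) = (⋃ g ∈ T.filter (fun g => g ≠ x), closure {g})ᶜ := by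
        ext y
        simp only [Set.mem_singleton_iff, Set.mem_compl_iff, Set.mem_iUnion, Finset.mem_filter, exists_prop]
        constructor
        · rintro rfl ⟨g, ⟨-, hgne⟩, hgx⟩
          exact hgne (hmax g (specializes_iff_mem_closure.2 hgx))
        · intro h
          obtain ⟨g, hg, hgy⟩ := Set.mem_iUnion₂.1 (hT ▸ Set.mem_univ y)
          by_cases hgx : g = x
          · subst hgx
            rw [hxc.closure_eq] at hgy
            exact hgy
          · exact absurd ⟨g, ⟨hg, hgx⟩, hgy⟩ h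
      rw [hx']
      exact ((T.filter _).finite_toSet.isClosed_biUnion fun g _ => isClosed_closure).isOpen_compl
    have huniv := (isClopen_iff.1 ⟨hxc, hopen⟩).resolve_left (Set.singleton_ne_empty x)
    haveI : Subsingleton X := ⟨fun a b => by
      rw [(huniv ▸ Set.mem_univ a : a ∈ ({x} : Set X)), (huniv ▸ Set.mem_univ b : b ∈ ({x} : Set X))]⟩
    have h01 := topologicalKrullDim_zero_of_discreteTopology X
    rw [hdim] at h01
    exact absurd h01 (by norm_num)
  refine ⟨hconn, fun x => ?_, fun Z hZ => ?_⟩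
  · have hle := (VB17.ringKrullDim_stalk_le_topologicalKrullDim x).trans hd
    have hdep := DepthLib.depth_le_supportDim (R := X.presheaf.stalk x) (M := X.presheaf.stalk x)
    rw [Module.supportDim_self_eq_ringKrullDim] at hdep
    refine @LocCoh.IsCohenMacaulayLocalRing.mk _ _ _ _ ?_
    show Module.supportDim _ _ = _
    rw [Module.supportDim_self_eq_ringKrullDim]
    refine le_antisymm ?_ hdep
    by_contra hlt
    rw [not_le] at hlt
    have hdep0 : LocCoh.depth (X.presheaf.stalk x) (X.presheaf.stalk x) = 0 := by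
      have h1 := hlt.trans_le hle
      exact Order.lt_one_iff.1 (WithBot.coe_lt_coe.1 h1)
    rw [hdep0] at hlt
    -- so `x` is not a maximal point
    have hgx : ∃ g : X, g ⤳ x ∧ g ≠ x := by
      by_contra hh
      push Not at hh
      have h0' : Order.coheight x = 0 := Order.coheight_eq_zero.2 fun g hg => (hh g hg).le
      rw [ringKrullDim_stalk_eq_coheight, h0'] at hlt
      exact lt_irrefl _ hlt
    obtain ⟨g, hg, hgne⟩ := hgx
    have hxc : IsClosed ({x} : Set X) := by_contra fun h => hgne (Curve17.eq_of_specializes hd h hg)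
    obtain ⟨a, ha, hma⟩ : ∃ a : X.presheaf.stalk x, a ≠ 0 ∧
        ∀ r ∈ IsLocalRing.maximalIdeal (X.presheaf.stalk x), r * a = 0 := by
      obtain ⟨p, hp⟩ : ∃ p ∈ associatedPrimes (X.presheaf.stalk x) (X.presheaf.stalk x),
          IsLocalRing.maximalIdeal (X.presheaf.stalk x) ≤ p := by
        refine (Ideal.subset_union_prime_finite (associatedPrimes.finite _ _) ⊤ ⊤
          fun p hp _ _ => hp.isPrime).1 fun r hr => ?_
        rw [biUnion_associatedPrimes_eq_compl_regular]
        intro hreg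
        have h1 := DepthLib.one_le_idealDepth_of_regular (M := X.presheaf.stalk x) hr hreg
        rw [show LocCoh.idealDepth (IsLocalRing.maximalIdeal (X.presheaf.stalk x)) (X.presheaf.stalk x) = 0 from hdep0] at h1
        exact absurd h1 (by norm_num)
      obtain ⟨hprime, a, ha⟩ := isAssociatedPrime_iff.1 hp.1
      refine ⟨a, fun h => hprime.ne_top (by rw [ha, h]; ext; simp), fun r hr => ?_⟩
      have := hp.2 hr
      rw [ha] at this
      simpa using this
    obtain ⟨t, ht, ht'⟩ := exists_point_section hxc hma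
    exact isUnit_of_bijective hb (fun h => ha (by rw [← ht, h, map_zero])) g (ht' g hgne)
  · obtain ⟨g, hg⟩ := QuasiSober.sober hZ.1 (isClosed_of_mem_irreducibleComponents Z hZ)
    refine le_antisymm ((topologicalKrullDim_subspace_le X Z).trans hd) ?_
    have hgm : ∀ y : X, y ⤳ g → y = g := by
      intro y hy
      refine (Inseparable.eq ((specializes_iff_mem_closure.2 ?_).antisymm hy)).symm
      have h1 : Z ⊆ closure {y} := by
        rw [← hg.def]
        exact closure_minimal (Set.singleton_subset_iff.2 (specializes_iff_mem_closure.1 hy)) isClosed_closure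
      have h2 := hZ.2 isIrreducible_singleton.closure h1
      rw [← hg.def] at h2
      exact h2 (subset_closure rfl)
    obtain ⟨z, hz, hzg⟩ : ∃ z ∈ Z, z ≠ g := by
      by_contra hh
      push Not at hh
      refine hnot g ?_ hgm
      have hZg : Z = {g} := Set.eq_singleton_iff_unique_mem.2 ⟨hg.mem, hh⟩
      exact hZg ▸ isClosed_of_mem_irreducibleComponents Z hZ
    -- the chain `{z}‾ < Z` in `Z`
    let g' : Z := ⟨g, hg.mem⟩
    let z' : Z := ⟨z, hz⟩
    let c₀ : IrreducibleCloseds Z := ⟨closure {z'}, isIrreducible_singleton.closure, isClosed_closure⟩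
    let c₁ : IrreducibleCloseds Z := ⟨closure {g'}, isIrreducible_singleton.closure, isClosed_closure⟩
    have hgz' : g' ⤳ z' := (subtype_specializes_iff g' z').2 (hg.specializes hz)
    have hlt : c₀ < c₁ := by
      refine lt_of_le_of_ne (hgz'.closure_subset) fun h => hzg ?_
      have h' : closure {z'} = closure {g'} := congrArg IrreducibleCloseds.carrier h
      exact congrArg Subtype.val ((inseparable_iff_closure_eq.2 h').eq)
    show ((1 : ℕ) : WithBot ℕ∞) ≤ Order.krullDim (IrreducibleCloseds Z)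
    exact Order.le_krullDim_iff.2 ⟨(RelSeries.singleton _ c₀).snoc c₁ hlt, rfl⟩

end Groth.Agent.S1534
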