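import Groth.Statements.S15342
import Groth.Agent.Lib.KS17.Apps
-- import your own Groth.Agent.* helpers here

set_option autoImplicit false
universe u
open CategoryTheory CategoryTheory.Limits AlgebraicGeometry
open VBCurve

namespace Groth.Agent.S15342

/-- Let X be a smooth proper integral curve (integral, smooth and proper of dimension one) over an
algebraically closed field k, and E₁, E₂ finite locally free O_X-modules of ranks r₁, r₂ whose
direct sum E₁ ⊞ E₂ is finite in the sense of Weil: P(E₁ ⊞ E₂) ≅ Q(E₁ ⊞ E₂) for two distinct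
polynomials P ≠ Q with natural-number coefficients, P(E) being the direct sum over i of P_i copies
of E^{⊗ i} (E^{⊗ 0} = O_X). Then E₁ is finite in the same sense (and so is E₂, by symmetry). -/
theorem result (k : Type u) [Field k] [IsAlgClosed k] (X : Scheme.{u}) [X.Over (Spec (CommRingCat.of k))]
    [IsIntegral X] [IsProper (X ↘ Spec (CommRingCat.of k))] [Smooth (X ↘ Spec (CommRingCat.of k))]
    (hdim : topologicalKrullDim X = 1)
    (r₁ r₂ : ℕ) (E₁ E₂ : X.Modules) (hE₁ : FlatMod.IsFinLocFreeOfRank r₁ E₁) (hE₂ : FlatMod.IsFinLocFreeOfRank r₂ E₂)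
    (h : (∃ P Q : Polynomial ℕ, P ≠ Q ∧ Nonempty ((∐ fun i : Fin (P.natDegree + 1) => ∐ fun _ : Fin (P.coeff ↑i) => CohB1.tensorPow (E₁ ⊞ E₂) ↑i) ≅
      (∐ fun i : Fin (Q.natDegree + 1) => ∐ fun _ : Fin (Q.coeff ↑i) => CohB1.tensorPow (E₁ ⊞ E₂) ↑i)))) :
    (∃ P₁ Q₁ : Polynomial ℕ, P₁ ≠ Q₁ ∧ Nonempty ((∐ fun i : Fin (P₁.natDegree + 1) => ∐ fun _ : Fin (P₁.coeff ↑i) => CohB1.tensorPow E₁ ↑i) ≅
      (∐ fun i : Fin (Q₁.natDegree + 1) => ∐ fun _ : Fin (Q₁.coeff ↑i) => CohB1.tensorPow E₁ ↑i))) := by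
  have hX := Groth.Agent.VB17.regCurve' (k := k) (X := X) hdim
  obtain ⟨r, hr⟩ := Groth.Agent.VB17.exists_rank_biprod hX hE₁ hE₂
  exact (Groth.Agent.KS17.wf_iff_finType hX hE₁).2 (Groth.Agent.KS17.finType_retract
    ⟨biprod.inl, biprod.fst, biprod.inl_fst⟩ ((Groth.Agent.KS17.wf_iff_finType hX hr).1 h))

end Groth.Agent.S15342
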