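import Groth.Statements.S15343
import Groth.Agent.Lib.KS17.Split
import Groth.Agent.Lib.TorsorSch25.Normal
import Groth.Agent.Lib.TorsorSch25.Field
-- import your own Groth.Agent.* helpers here

set_option autoImplicit false
set_option backward.isDefEq.respectTransparency.types false
universe u
open CategoryTheory CategoryTheory.Limits AlgebraicGeometry
open VBCurve

namespace Groth.Agent.S15343

open MonoidalCategory CartesianMonoidalCategory MonObj Groth.Agent

variable {S : Scheme.{u}} {G P : Over S} [GrpObj G] {a : AlgGrp.Action G P}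

/-- An fppf torsor is an fpqc torsor. -/
theorem isTorsorFor_fpqc (h : NonAbH1.IsTorsorFor Scheme.fppfPrecoverage a) :
    NonAbH1.IsTorsorFor Scheme.fpqcPrecoverage a :=
  ⟨h.1, h.2.choose, Scheme.fppfPrecoverage_le_fpqcPrecoverage _ h.2.choose_spec.1, h.2.choose_spec.2⟩

/-- A torsor surjects onto the base. -/
theorem surjective_of_torsor (h : NonAbH1.IsTorsorFor Scheme.fpqcPrecoverage a) : Surjective P.hom := by
  obtain ⟨R, hR, hsec⟩ := h.2
  refine ⟨fun x => ?_⟩
  obtain ⟨U, hU, hxU, -⟩ := exists_isAffineOpen_mem_and_subset (x := x) (U := ⊤) (TopologicalSpace.Opens.mem_top _)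
  obtain ⟨W, w, _, _, _, _, hsecW⟩ := Groth.Agent.TorsorSch25.exists_affine_test hR hU
  obtain ⟨σ, hσ⟩ := hsecW P hsec
  obtain ⟨z, hz⟩ := w.surjective ⟨x, hxU⟩
  refine ⟨σ z, ?_⟩
  rw [← Scheme.Hom.comp_apply, hσ, Scheme.Hom.comp_apply, hz]
  rfl

/-- Let X be a smooth proper integral curve (integral, smooth and proper of dimension one) over an
algebraically closed field k of characteristic zero, G a finite group scheme over k and j : P → X a
torsor (fppf-locally trivial) under the X-group scheme G ×_k X. If E is a finite locally free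
O_X-module of rank r with j^*E ≅ O_P^{⊕ r}, then E is finite in the sense of Weil: there are
distinct polynomials P' ≠ Q' with natural-number coefficients and P'(E) ≅ Q'(E), P'(E) being the
direct sum over i of P'_i copies of E^{⊗ i}. (The published statement says that in characteristic
zero an essentially finite bundle is finite; this row takes as hypothesis the characterisation of
essentially finite bundles as those trivialised by a torsor under a finite group scheme.) -/
theorem result (k : Type u) [Field k] [IsAlgClosed k] (X : Scheme.{u}) [X.Over (Spec (CommRingCat.of k))]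
    [IsIntegral X] [IsProper (X ↘ Spec (CommRingCat.of k))] [Smooth (X ↘ Spec (CommRingCat.of k))]
    (hdim : topologicalKrullDim X = 1) [CharZero k]
    (G : Scheme.{u}) [G.Over (Spec (CommRingCat.of k))] [GrpObj (G.asOver (Spec (CommRingCat.of k)))]
    [IsFinite (G ↘ Spec (CommRingCat.of k))]
    (P : Over X) (a : AlgGrp.Action (Red.bc (X ↘ Spec (CommRingCat.of k)) (G.asOver (Spec (CommRingCat.of k)))) P)
    (hP : NonAbH1.IsTorsorFor Scheme.fppfPrecoverage a)
    (r : ℕ) (E : X.Modules) (hE : FlatMod.IsFinLocFreeOfRank r E)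
    (htriv : Nonempty ((Scheme.Modules.pullback P.hom).obj E ≅ FlatMod.freeMod P.left r)) :
    ∃ P' Q' : Polynomial ℕ, P' ≠ Q' ∧ Nonempty ((∐ fun i : Fin (P'.natDegree + 1) => ∐ fun _ : Fin (P'.coeff ↑i) => CohB1.tensorPow E ↑i) ≅
      (∐ fun i : Fin (Q'.natDegree + 1) => ∐ fun _ : Fin (Q'.coeff ↑i) => CohB1.tensorPow E ↑i)) := by
  have hX := VB17.regCurve' (k := k) (X := X) hdim
  haveI : IsFinite (Red.bc (X ↘ Spec (CommRingCat.of k)) (G.asOver (Spec (CommRingCat.of k)))).hom :=
    MorphismProperty.pullback_snd (P := (@IsFinite : MorphismProperty Scheme.{u})) _ _ (inferInstanceAs (IsFinite (G ↘ Spec (CommRingCat.of k))))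
  haveI := TorsorSch25.isFinite_of_isTorsorFor_fppf hP
  have hP' := Groth.Agent.S15343.isTorsorFor_fpqc hP
  haveI : Flat P.hom := by
    haveI := TorsorSch25.flat_descendsAlong.{u}
    exact TorsorSch25.prop_of_isTorsorFor (@Flat : MorphismProperty Scheme.{u}) hP'
      (MorphismProperty.pullback_snd (P := (@Flat : MorphismProperty Scheme.{u})) _ _ (TorsorSch25.flat_over_field _))
  haveI := hX.like.noetherian
  haveI : LocallyOfFinitePresentation P.hom := LocallyOfFinitePresentation.iff_locallyOfFiniteType.2 inferInstance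
  haveI := surjective_of_torsor hP'
  exact (KS17.wf_iff_finType hX hE).2 (KS17.finType_of_split k P.hom hX hE htriv.some)

end Groth.Agent.S15343
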