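import Groth.Statements.S15347
import Mathlib.AlgebraicGeometry.Morphisms.Immersion
import Mathlib.AlgebraicGeometry.PullbackCarrier

set_option backward.isDefEq.respectTransparency.types false

set_option autoImplicit false
universe u
open CategoryTheory CategoryTheory.Limits AlgebraicGeometry
open Mor

namespace Groth.Agent.S15347

theorem exists_lift {X Y T : Scheme.{u}} (f : Y ⟶ X) [IsImmersion f] [IsReduced T] (s : T ⟶ X)
    (hs : ∀ t, s t ∈ Set.range f) : ∃ l : T ⟶ Y, l ≫ f = s := by
  have hr : Set.range (pullback.snd f s) = Set.univ := by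
    rw [Scheme.Pullback.range_snd]
    exact Set.eq_univ_of_forall hs
  have : IsClosedImmersion (pullback.snd f s) :=
    IsClosedImmersion.of_isPreimmersion _ (hr ▸ isClosed_univ)
  have : Surjective (pullback.snd f s) := ⟨Set.range_eq_univ.1 hr⟩
  have := isIso_of_isClosedImmersion_of_surjective (pullback.snd f s)
  exact ⟨inv (pullback.snd f s) ≫ pullback.fst f s, by
    rw [Category.assoc, pullback.condition, IsIso.inv_hom_id_assoc]⟩

/-- Let f : Y ⟶ X be an immersion of schemes. Then: for every valuation ring A with fraction field K and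
every commutative square Spec K ⟶ Y, Spec A ⟶ X over f such that some morphism from the spectrum of
the residue field of A to Y lies over Spec A ⟶ X, the square admits a lift; and for every integral
domain A and every morphism s : Spec A ⟶ X such that the points of a dense subset of Spec A lift to
Y (the residue field of each such point maps to Y over s), there is a nonempty open subscheme U of
Spec A with a morphism U ⟶ Y over s. (The published statement is for a representable, locally
finitely presented morphism of algebraic stacks with locally Noetherian target and a quasi-compact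
immersion, and also lists that f is a monomorphism; this row is the case of schemes, for any
immersion and any target.) -/
theorem result {X Y : Scheme.{u}} (f : Y ⟶ X) [IsImmersion f] :
    (∀ S : ValuativeCommSq f,
        (∃ l₀ : Spec (CommRingCat.of (IsLocalRing.ResidueField S.R)) ⟶ Y,
            l₀ ≫ f = Spec.map (CommRingCat.ofHom (IsLocalRing.residue S.R)) ≫ S.i₂) →
          S.commSq.HasLift) ∧
      ∀ (A : Type u) [CommRing A] [IsDomain A] (s : Spec (CommRingCat.of A) ⟶ X) (D : Set ↥(Spec (CommRingCat.of A))),
        Dense D →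
        (∀ p ∈ D, ∃ l : Spec ((Spec (CommRingCat.of A)).residueField p) ⟶ Y,
            l ≫ f = (Spec (CommRingCat.of A)).fromSpecResidueField p ≫ s) →
          ∃ U : (Spec (CommRingCat.of A)).Opens, (U : Set ↥(Spec (CommRingCat.of A))).Nonempty ∧
            ∃ l : (U : Scheme.{u}) ⟶ Y, l ≫ f = U.ι ≫ s := by
  refine ⟨?_, ?_⟩
  · rintro ⟨R, K, i₁, i₂, ⟨w⟩⟩ ⟨l₀, hl₀⟩
    let j : Spec (CommRingCat.of K) ⟶ Spec (CommRingCat.of R) :=
      Spec.map (CommRingCat.ofHom (algebraMap R K))
    have hgen : ∀ t, j (IsLocalRing.closedPoint K) ⤳ t := fun t =>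
      (PrimeSpectrum.le_iff_specializes _ _).1 (by
        show Ideal.comap (algebraMap R K) (IsLocalRing.maximalIdeal K) ≤ t.asIdeal
        rw [IsLocalRing.isField_iff_maximalIdeal_eq.1 (Field.toIsField K), ← RingHom.ker_eq_comap_bot,
          (RingHom.injective_iff_ker_eq_bot _).1 (IsFractionRing.injective R K)]
        exact bot_le)
    have h0 : i₂ (IsLocalRing.closedPoint R) ∈ Set.range f := by
      have hr : Spec.map (CommRingCat.ofHom (IsLocalRing.residue R))
          (IsLocalRing.closedPoint (IsLocalRing.ResidueField R)) = IsLocalRing.closedPoint R :=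
        IsLocalRing.comap_closedPoint (IsLocalRing.residue R)
      refine ⟨l₀ (IsLocalRing.closedPoint _), ?_⟩
      rw [← Scheme.Hom.comp_apply, hl₀, Scheme.Hom.comp_apply, hr]
    have h1 : i₂ (j (IsLocalRing.closedPoint K)) ∈ Set.range f :=
      ⟨i₁ (IsLocalRing.closedPoint K), by rw [← Scheme.Hom.comp_apply, w, Scheme.Hom.comp_apply]⟩
    obtain ⟨l, hl⟩ := exists_lift f i₂ fun t => by
      rw [← coborder_inter_closure (s := Set.range f)]
      refine ⟨Specializes.mem_open ((IsLocalRing.specializes_closedPoint t).map i₂.continuous)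
        f.isLocallyClosed_range.isOpen_coborder (subset_coborder h0), ?_⟩
      exact Specializes.mem_closed ((hgen t).map i₂.continuous) isClosed_closure (subset_closure h1)
    refine ⟨⟨⟨l, ?_, hl⟩⟩⟩
    rw [← cancel_mono f, Category.assoc, hl]
    exact w.symm
  · intro A _ _ s D hD hlift
    have hsub : D ⊆ s ⁻¹' Set.range f := fun p hp => by
      obtain ⟨l, hl⟩ := hlift p hp
      exact ⟨l (IsLocalRing.closedPoint _), by
        rw [← Scheme.Hom.comp_apply, hl, Scheme.Hom.comp_apply, Scheme.fromSpecResidueField_apply]⟩
    have hopen : IsOpen (s ⁻¹' Set.range f) := by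
      have h := (f.isLocallyClosed_range.preimage s.continuous).isOpen_coborder
      rwa [coborder, (hD.mono hsub).closure_eq, ← Set.compl_eq_univ_sdiff, compl_compl] at h
    let U : (Spec (CommRingCat.of A)).Opens := ⟨_, hopen⟩
    refine ⟨U, (hD.nonempty).mono hsub, exists_lift f (U.ι ≫ s) fun t => ?_⟩
    rw [Scheme.Hom.comp_apply]
    exact t.2

end Groth.Agent.S15347
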