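import Groth.Prelude.Def_MoreMor
import Mathlib.AlgebraicGeometry.Morphisms.Smooth
import Mathlib.AlgebraicGeometry.Morphisms.UniversallyOpen
import Mathlib.AlgebraicGeometry.Morphisms.QuasiCompact
import Mathlib.AlgebraicGeometry.Morphisms.QuasiSeparated
import Mathlib.Topology.Connected.Basic
import Groth.Agent.Lib.FibComp3
-- import your own Groth.Agent.* helpers here

namespace MoreMor
end MoreMor

set_option autoImplicit false
universe u
open CategoryTheory CategoryTheory.Limits AlgebraicGeometry
open MoreMor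

namespace Groth.Agent.S15350

/-- Let f : X ⟶ S be smooth, quasi-compact and quasi-separated, let g : S' ⟶ S be universally open and
let e : S' ⟶ X satisfy e ≫ f = g. Then there is an open subset U of X (necessarily unique) such that
for every point s of S, U ∩ f⁻¹(s) is the union of those connected components of the fibre f⁻¹(s),
with its subspace topology, which meet e(S'). -/
theorem result {S S' X : Scheme.{u}} (f : X ⟶ S)
    [Smooth f] [QuasiCompact f] [QuasiSeparated f] (g : S' ⟶ S) [UniversallyOpen g] (e : S' ⟶ X)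
    (he : e ≫ f = g) :
    ∃ U : X.Opens, ∀ s : S, (U : Set ↥X) ∩ f.base ⁻¹' {s} =
      ⋃ x ∈ Set.range e.base ∩ f.base ⁻¹' {s}, connectedComponentIn (f.base ⁻¹' {s}) x := by
  obtain ⟨U, hU⟩ := FibComp3.exists_open f g e he
  refine ⟨U, fun s => Set.ext fun x => ?_⟩
  rw [hU]
  simp only [Set.mem_inter_iff, Set.mem_iUnion, exists_prop]
  constructor
  · rintro ⟨⟨t, ht⟩, hxs⟩
    have h1 : f.base x = g.base t := connectedComponentIn_subset (⇑f ⁻¹' {g t}) _ ht
    have h2 : g.base t = s := h1.symm.trans hxs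
    refine ⟨e.base t, ⟨⟨t, rfl⟩, ?_⟩, h2 ▸ ht⟩
    show f.base (e.base t) = s
    rw [← Scheme.Hom.comp_apply, he, h2]
  · rintro ⟨y, ⟨⟨t, rfl⟩, hts⟩, hx⟩
    have h2 : g.base t = s := by
      rw [← he, Scheme.Hom.comp_apply]; exact hts
    exact ⟨⟨t, h2 ▸ hx⟩, connectedComponentIn_subset _ _ hx⟩

end Groth.Agent.S15350
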