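import Groth.Statements.S15352
import Groth.Agent.Lib.GrpField.Component

set_option autoImplicit false
universe u
open CategoryTheory CategoryTheory.Limits MonoidalCategory CartesianMonoidalCategory MonObj GrpObj AlgebraicGeometry
open GrpSch

namespace Groth.Agent.S15352

/-- Let k be an algebraically closed field, G a group scheme locally of finite type over k, G⁰ ⊆ G the
connected component of the unit point, and U a nonempty open subscheme of G contained in G⁰. Then
every point of G⁰ is in the image of the morphism U ×_k U ⟶ G, (g, h) ↦ g·h⁻¹. (The published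
statement writes U as an open of G mapping to G⁰ × G⁰; this row makes the containment U ⊆ G⁰
explicit.) -/
theorem result (k : Type u) [Field k] [IsAlgClosed k]
    (G : Over (Spec (CommRingCat.of k))) [GrpObj G] [LocallyOfFiniteType G.hom] (U : G.left.Opens)
    (hne : (U : Set ↥G.left).Nonempty)
    (hU : (U : Set ↥G.left) ⊆ connectedComponent (η[G].left.base (IsLocalRing.closedPoint k))) :
    connectedComponent (η[G].left.base (IsLocalRing.closedPoint k)) ⊆ Set.range
      ((((Over.homMk U.ι rfl : Over.mk (U.ι ≫ G.hom) ⟶ G) ⊗ₘ
          ((Over.homMk U.ι rfl : Over.mk (U.ι ≫ G.hom) ⟶ G) ≫ ι[G])) ≫ μ[G]).left.base) := by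
  exact GrpField.connectedComponent_subset_range_div G U hne hU

end Groth.Agent.S15352
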