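import Groth.Statements.S15353
import Mathlib
import Groth.Agent.Lib.RegLoc.UFD

set_option autoImplicit false
universe u
open CAlg

namespace Groth.Agent.S15353
open TensorProduct

/-- Let f : A' → A be a surjective ring homomorphism whose kernel is a nilpotent ideal. Then the induced
homomorphism of Picard groups Pic(A') → Pic(A), base change of invertible modules along f, is
bijective. -/
theorem result {A' A : Type u} [CommRing A'] [CommRing A]
    (f : A' →+* A) (hf : Function.Surjective f) (hker : IsNilpotent (RingHom.ker f)) :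
    Function.Bijective (CommRing.Pic.mapRingHom f) := by
  classical
  letI : Algebra A' A := f.toAlgebra
  set I := RingHom.ker f
  obtain ⟨N, hN⟩ := hker
  rw [Ideal.zero_eq_bot] at hN
  have nak : ∀ (M : Type u) [AddCommGroup M] [Module A' M] (K : Submodule A' M), K ≤ I • K → K = ⊥ := by
    intro M _ _ K h
    have : ∀ k, K ≤ I ^ k • K := by
      intro k; induction k with
      | zero => simp
      | succ k ih => rw [pow_succ', Submodule.mul_smul]; exact h.trans (Submodule.smul_mono le_rfl ih)
    have h2 := this N
    rw [hN, Submodule.bot_smul] at h2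
    exact eq_bot_iff.2 h2
  have ker1 : ∀ (M : Type u) [AddCommGroup M] [Module A' M] (y : M), ((1 : A) ⊗ₜ[A'] y) = 0 → y ∈ (I • ⊤ : Submodule A' M) := by
    intro M _ _ y hy
    have hex : Function.Exact (Submodule.subtype I) (Algebra.linearMap A' A) := fun z =>
      ⟨fun h => ⟨⟨z, h⟩, rfl⟩, fun ⟨w, hw⟩ => hw ▸ w.2⟩
    obtain ⟨w, hw⟩ := (rTensor_exact M hex hf ((1 : A') ⊗ₜ y)).1 (by
      rw [LinearMap.rTensor_tmul]
      show algebraMap A' A 1 ⊗ₜ y = 0
      rw [map_one]; exact hy)
    have key : ∀ w : I ⊗[A'] M, TensorProduct.lid A' M ((Submodule.subtype I).rTensor M w) ∈ (I • ⊤ : Submodule A' M) := fun w => by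
      induction w using TensorProduct.induction_on with
      | zero => simp
      | tmul a b => simpa using Submodule.smul_mem_smul a.2 Submodule.mem_top
      | add a b ha hb => simpa using add_mem ha hb
    simpa [hw] using key w
  constructor
  · rw [injective_iff_map_eq_one]
    intro M hM
    rw [CommRing.Pic.mapRingHom] at hM
    change CommRing.Pic.mk A (A ⊗[A'] M) = 1 at hM
    obtain ⟨e⟩ := CommRing.Pic.mk_eq_one_iff.1 hM
    obtain ⟨m, hm⟩ := TensorProduct.mk_surjective A' M A hf (e.symm 1)
    let φ : A' →ₗ[A'] M := LinearMap.toSpanSingleton A' M m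
    have hφ : Function.Surjective φ := by
      have hall : ∀ z : M ⧸ LinearMap.range φ, z = 0 := by
        have : (⊤ : Submodule A' (M ⧸ LinearMap.range φ)) = ⊥ := nak _ _ (by
          rintro z -
          obtain ⟨y, rfl⟩ := Submodule.mkQ_surjective _ z
          obtain ⟨r, hr⟩ := hf (e ((1 : A) ⊗ₜ y))
          have h0 : (1 : A) ⊗ₜ[A'] (y - r • m) = 0 := by
            apply e.injective
            rw [tmul_sub, map_sub, map_zero, tmul_smul, ← algebraMap_smul A r, map_smul]
            rw [show (1 : A) ⊗ₜ[A'] m = e.symm 1 from hm, e.apply_symm_apply, smul_eq_mul, mul_one, RingHom.algebraMap_toAlgebra, hr, sub_self]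
          have h1 := Submodule.mem_map_of_mem (f := (LinearMap.range φ).mkQ) (ker1 M _ h0)
          rw [Submodule.map_smul'', Submodule.map_top, Submodule.range_mkQ, map_sub, Submodule.mkQ_apply, Submodule.mkQ_apply,
            (Submodule.Quotient.mk_eq_zero _).2 (show r • m ∈ LinearMap.range φ from ⟨r, rfl⟩), sub_zero] at h1
          exact h1)
        exact fun z => (Submodule.mem_bot A').1 (this ▸ Submodule.mem_top)
      exact fun y => (Submodule.Quotient.mk_eq_zero _).1 (hall _)
    exact CommRing.Pic.mk_eq_self.symm.trans (CommRing.Pic.mk_eq_one_iff.2 ⟨(LinearEquiv.ofBijective φ (Module.Invertible.bijective_of_surjective hφ)).symm⟩)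
  · intro P
    have lift : ∀ (P : Type u) [AddCommGroup P] [Module A P] [Module A' P] [IsScalarTower A' A P] [Module.Finite A P] [Module.Projective A P],
        ∃ (P' : Type u) (_ : AddCommGroup P') (_ : Module A' P') (_ : Module.Finite A' P') (_ : Module.Projective A' P') (π : P' →ₗ[A'] P), Function.Surjective π ∧ ∀ x, π x = 0 → x ∈ (I • ⊤ : Submodule A' P') := by
      intro P _ _ _ _ _ _
      obtain ⟨n, s, hs⟩ := Module.Finite.exists_fin' A P
      obtain ⟨i, hi⟩ := Module.projective_lifting_property s LinearMap.id hs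
      let e : Matrix (Fin n) (Fin n) A := LinearMap.toMatrix' (i ∘ₗ s)
      have he : IsIdempotentElem e := by
        show _ * _ = _
        rw [← LinearMap.toMatrix'_comp]
        congr 1
        rw [LinearMap.comp_assoc, ← LinearMap.comp_assoc s, hi, LinearMap.id_comp]
      have hnil : ∀ x ∈ RingHom.ker (f.mapMatrix (m := Fin n)), IsNilpotent x := by
        intro x hx
        refine ⟨N, ?_⟩
        have : ∀ k a b, (x ^ k) a b ∈ I ^ k := by
          intro k
          induction k with
          | zero => intro a b; simp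
          | succ k ih =>
            intro a b
            rw [pow_succ x, Matrix.mul_apply, pow_succ I]
            exact sum_mem fun c _ => Ideal.mul_mem_mul (ih a c) (congrFun (congrFun hx c) b)
        ext a b
        have := this N a b
        rwa [hN] at this
      obtain ⟨E, hE, hEe⟩ := exists_isIdempotentElem_eq_of_ker_isNilpotent (f.mapMatrix (m := Fin n)) hnil e
        (by
          choose g hg using hf
          exact ⟨e.map g, by ext a b; exact hg _⟩) he
      let L : (Fin n → A') →ₗ[A'] (Fin n → A') := Matrix.mulVecLin E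
      have hL : ∀ v, L (L v) = L v := fun v => by
        show E.mulVec (E.mulVec v) = E.mulVec v
        rw [Matrix.mulVec_mulVec, hE]
      let c : (Fin n → A') →ₗ[A'] (Fin n → A) := (Algebra.linearMap A' A).compLeft (Fin n)
      have hcL : ∀ v, c (L v) = i (s (c v)) := fun v => by
        have h1 : c (L v) = (E.map f).mulVec (c v) := funext fun a => RingHom.map_mulVec f E v a
        rw [h1, show E.map f = e from hEe, ← Matrix.toLin'_apply, Matrix.toLin'_toMatrix']
        rfl
      refine ⟨LinearMap.range L, inferInstance, inferInstance, inferInstance, ?_, (s.restrictScalars A') ∘ₗ c ∘ₗ (LinearMap.range L).subtype, ?_, ?_⟩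
      · exact Module.Projective.of_split (LinearMap.range L).subtype L.rangeRestrict (LinearMap.ext fun ⟨x, v, hv⟩ => Subtype.ext (by subst hv; exact hL v))
      · intro y
        choose g hg using hf
        refine ⟨⟨L (fun a => g (i y a)), LinearMap.mem_range_self _ _⟩, ?_⟩
        show s (c (L _)) = y
        rw [hcL, show c (fun a => g (i y a)) = i y from funext fun a => hg _]
        have hsi : ∀ z, s (i z) = z := LinearMap.congr_fun hi
        rw [hsi, hsi]
      · rintro ⟨x, v, rfl⟩ hx
        change s (c (L v)) = 0 at hx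
        have h0 : c (L v) = 0 := by
          rw [← hL v, hcL, hx, map_zero]
        have hmem : L v ∈ (I • ⊤ : Submodule A' (Fin n → A')) := by
          rw [pi_eq_sum_univ' (L v)]
          exact sum_mem fun a _ => Submodule.smul_mem_smul (congrFun h0 a) Submodule.mem_top
        have := Submodule.mem_map_of_mem (f := L.rangeRestrict) hmem
        rw [Submodule.map_smul'', Submodule.map_top, LinearMap.range_rangeRestrict] at this
        rwa [show L.rangeRestrict (L v) = ⟨L v, LinearMap.mem_range_self _ _⟩ from Subtype.ext (hL v)] at this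
    letI : ∀ (Q : CommRing.Pic A), Module A' Q := fun Q => Module.compHom Q f
    haveI : ∀ (Q : CommRing.Pic A), IsScalarTower A' A Q := fun Q => ⟨fun a b c => by
      show (f a * b) • c = f a • b • c
      rw [mul_smul]⟩
    obtain ⟨P', _, _, _, _, π, hπ, hπk⟩ := lift P
    obtain ⟨Q', _, _, _, _, ρ, hρ, hρk⟩ := lift (P⁻¹ : CommRing.Pic A)
    obtain ⟨e⟩ : Nonempty ((↑(P⁻¹) : Type u) ⊗[A] (P : Type u) ≃ₗ[A] A) := by
      rw [← CommRing.Pic.mk_eq_one_iff, CommRing.Pic.mk_tensor, CommRing.Pic.mk_eq_self, CommRing.Pic.mk_eq_self, inv_mul_cancel]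
    let c : (↑(P⁻¹) : Type u) ⊗[A'] (P : Type u) →ₗ[A'] (↑(P⁻¹) : Type u) ⊗[A] (P : Type u) :=
      TensorProduct.lift (LinearMap.mk₂ A' (fun a b => a ⊗ₜ[A] b) (fun _ _ _ => add_tmul _ _ _) (fun r a b => rfl)
        (fun _ _ _ => tmul_add _ _ _) (fun r a b => by
          rw [← algebraMap_smul A r b, tmul_smul, algebraMap_smul]))
    have hc : ∀ a b, c (a ⊗ₜ b) = a ⊗ₜ[A] b := fun a b => rfl
    let q : Q' ⊗[A'] P' →ₗ[A'] A := (e.toLinearMap.restrictScalars A') ∘ₗ c ∘ₗ TensorProduct.map ρ π
    have hqs : Function.Surjective q := by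
      show Function.Surjective (e ∘ c ∘ TensorProduct.map ρ π)
      refine e.surjective.comp (Function.Surjective.comp ?_ (TensorProduct.map_surjective hρ hπ))
      intro z
      induction z using TensorProduct.induction_on with
      | zero => exact ⟨0, map_zero _⟩
      | tmul a b => exact ⟨a ⊗ₜ b, hc a b⟩
      | add a b ha hb => obtain ⟨a, rfl⟩ := ha; obtain ⟨b, rfl⟩ := hb; exact ⟨a + b, map_add _ _ _⟩
    have hqk : ∀ w, q w = 0 → w ∈ (I • ⊤ : Submodule A' (Q' ⊗[A'] P')) := by
      intro w hw
      have hcinj : Function.Injective c := by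
        let d : (↑(P⁻¹) : Type u) ⊗[A] (P : Type u) →+ (↑(P⁻¹) : Type u) ⊗[A'] (P : Type u) :=
          TensorProduct.liftAddHom (AddMonoidHom.mk' (fun a => AddMonoidHom.mk' (fun b => a ⊗ₜ[A'] b) (tmul_add a)) (fun a a' => by ext b; exact add_tmul a a' b)) (fun r a b => by
            obtain ⟨r, rfl⟩ := hf r
            show (f r • a) ⊗ₜ[A'] b = a ⊗ₜ[A'] (f r • b)
            exact (smul_tmul r a b))
        have : ∀ z, d (c z) = z := fun z => by
          induction z using TensorProduct.induction_on with
          | zero => simp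
          | tmul a b => rfl
          | add a b ha hb => simp [map_add, ha, hb]
        exact Function.LeftInverse.injective this
      have h0 : TensorProduct.map ρ π w = 0 := hcinj (e.injective (by rw [map_zero, map_zero]; exact hw))
      have hmem : w ∈ LinearMap.ker (TensorProduct.map ρ π) := h0
      rw [TensorProduct.map_ker (LinearMap.exact_subtype_ker_map ρ) hρ (LinearMap.exact_subtype_ker_map π) hπ] at hmem
      refine (sup_le ?_ ?_ : _ ≤ (I • ⊤ : Submodule A' (Q' ⊗[A'] P'))) hmem <;> rintro _ ⟨z, rfl⟩ <;>
        induction z using TensorProduct.induction_on with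
        | zero => simp
        | add a b ha hb => rw [map_add]; exact add_mem ha hb
        | tmul a b => ?_
      · have := Submodule.mem_map_of_mem (f := TensorProduct.mk A' Q' P' a) (hπk b b.2)
        rw [Submodule.map_smul''] at this
        exact Submodule.smul_mono le_rfl le_top this
      · have := Submodule.mem_map_of_mem (f := (TensorProduct.mk A' Q' P').flip b) (hρk a a.2)
        rw [Submodule.map_smul''] at this
        exact Submodule.smul_mono le_rfl le_top this
    obtain ⟨h, hh⟩ := Module.projective_lifting_property (Algebra.linearMap A' A) q hf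
    have hhs : Function.Surjective h := by
      rw [← LinearMap.range_eq_top]
      have : ∀ z : A' ⧸ LinearMap.range h, z = 0 := by
        have : (⊤ : Submodule A' (A' ⧸ LinearMap.range h)) = ⊥ := nak _ _ (by
          rintro z -
          obtain ⟨r, rfl⟩ := Submodule.mkQ_surjective _ z
          obtain ⟨w, hw⟩ := hqs (f r)
          have hk : r - h w ∈ I := by
            rw [RingHom.mem_ker, map_sub, sub_eq_zero, ← hw]
            exact (LinearMap.congr_fun hh w).symm
          have h1 := Submodule.mem_map_of_mem (f := (LinearMap.range h).mkQ) (show r - h w ∈ (I • ⊤ : Submodule A' A') by simpa using hk)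
          rw [Submodule.map_smul'', Submodule.map_top, Submodule.range_mkQ, map_sub, Submodule.mkQ_apply, Submodule.mkQ_apply,
            (Submodule.Quotient.mk_eq_zero _).2 (LinearMap.mem_range_self h w), sub_zero] at h1
          exact h1)
        exact fun z => (Submodule.mem_bot A').1 (this ▸ Submodule.mem_top)
      exact eq_top_iff.2 fun z _ => (Submodule.Quotient.mk_eq_zero _).1 (this _)
    obtain ⟨t, ht⟩ := Module.projective_lifting_property h LinearMap.id hhs
    have hker : LinearMap.ker h = ⊥ := nak _ _ (fun w hw => by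
      let p : Q' ⊗[A'] P' →ₗ[A'] LinearMap.ker h := LinearMap.codRestrict _ (LinearMap.id - t ∘ₗ h) fun z => by
        show h (z - t (h z)) = 0
        rw [map_sub, show h (t (h z)) = h z from LinearMap.congr_fun ht _, sub_self]
      have hwI : w ∈ (I • ⊤ : Submodule A' (Q' ⊗[A'] P')) := hqk w (by
        rw [← hh, LinearMap.comp_apply, LinearMap.mem_ker.1 hw, map_zero])
      have h1 := Submodule.mem_map_of_mem (f := (LinearMap.ker h).subtype ∘ₗ p) hwI
      rw [Submodule.map_smul''] at h1
      have h2 : (LinearMap.ker h).subtype (p w) = w := by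
        show w - t (h w) = w
        rw [LinearMap.mem_ker.1 hw, map_zero, sub_zero]
      rw [LinearMap.comp_apply, h2] at h1
      exact Submodule.smul_mono le_rfl (by rintro _ ⟨z, -, rfl⟩; exact (p z).2) h1)
    have : Module.Invertible A' P' := Module.Invertible.right (LinearEquiv.ofBijective h ⟨LinearMap.ker_eq_bot.1 hker, hhs⟩)
    refine ⟨CommRing.Pic.mk A' P', ?_⟩
    rw [CommRing.Pic.mapRingHom]
    show CommRing.Pic.mk A (A ⊗[A'] (CommRing.Pic.mk A' P' : CommRing.Pic A')) = P
    obtain ⟨e'⟩ : Nonempty (P' ≃ₗ[A'] (CommRing.Pic.mk A' P' : CommRing.Pic A')) := CommRing.Pic.mk_eq_iff.1 rfl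
    rw [CommRing.Pic.mk_eq_iff]
    let π' := π.liftBaseChange A
    refine ⟨(AlgebraTensorModule.congr (LinearEquiv.refl A A) e'.symm) ≪≫ₗ LinearEquiv.ofBijective π' ⟨?_, ?_⟩⟩
    · rw [injective_iff_map_eq_zero]
      intro z hz
      obtain ⟨x, rfl⟩ := TensorProduct.mk_surjective A' P' A hf z
      have hx : x ∈ (I • ⊤ : Submodule A' P') := hπk x (by simpa [π'] using hz)
      refine Submodule.smul_induction_on hx (fun r hr y _ => ?_) fun a b ha hb => by rw [map_add, ha, hb, add_zero]
      show (1 : A) ⊗ₜ[A'] (r • y) = 0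
      rw [← smul_tmul, ← Algebra.algebraMap_eq_smul_one, RingHom.algebraMap_toAlgebra, RingHom.mem_ker.1 hr, zero_tmul]
    · intro y
      obtain ⟨x, rfl⟩ := hπ y
      exact ⟨1 ⊗ₜ x, by simp [π']⟩

end Groth.Agent.S15353
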