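import Groth.Statements.S15354
import Mathlib.AlgebraicGeometry.AffineScheme
import Mathlib.RingTheory.Valuation.ValuationRing

set_option autoImplicit false
universe u
open CategoryTheory CategoryTheory.Limits AlgebraicGeometry
open Mor

namespace Groth.Agent.S15354

/-- Let f : Y ⟶ X be a morphism of schemes, A a valuation ring with fraction field K and residue field
k, and ξ, η : Spec A ⟶ Y two A-points of Y over the same A-point of X. If ξ and η restrict to the
same K-point and to the same k-point of Y, then ξ = η. (The published statement is an equivalence,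
for algebraic spaces locally of finite presentation over a Noetherian scheme, between local
separatedness of f and conditions (a), (b); this row is the necessity of (a) in the case of schemes,
where no hypothesis on f is needed.) -/
theorem result {X Y : Scheme.{u}} (f : Y ⟶ X)
    (A : Type u) [CommRing A] [IsDomain A] [ValuationRing A] (K : Type u) [Field K] [Algebra A K]
    [IsFractionRing A K] (ξ η : Spec (CommRingCat.of A) ⟶ Y) (hf : ξ ≫ f = η ≫ f)
    (hK : Spec.map (CommRingCat.ofHom (algebraMap A K)) ≫ ξ = Spec.map (CommRingCat.ofHom (algebraMap A K)) ≫ η)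
    (hk : Spec.map (CommRingCat.ofHom (IsLocalRing.residue A)) ≫ ξ =
      Spec.map (CommRingCat.ofHom (IsLocalRing.residue A)) ≫ η) :
    ξ = η := by
  let c : ↥(Spec (CommRingCat.of A)) := IsLocalRing.closedPoint A
  let pk : ↥(Spec (CommRingCat.of (IsLocalRing.ResidueField A))) :=
    IsLocalRing.closedPoint (IsLocalRing.ResidueField A)
  have hp : Spec.map (CommRingCat.ofHom (IsLocalRing.residue A)) pk = c :=
    IsLocalRing.comap_closedPoint (IsLocalRing.residue A)
  have hc : ξ c = η c := by
    have := congrArg (fun m : Spec (CommRingCat.of (IsLocalRing.ResidueField A)) ⟶ Y => m pk) hk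
    simp only [Scheme.Hom.comp_apply, hp] at this
    exact this
  obtain ⟨V, hV, hzV, -⟩ := exists_isAffineOpen_mem_and_subset (x := ξ c) (U := ⊤) trivial
  have : IsAffine V := hV
  have hrange : ∀ g : Spec (CommRingCat.of A) ⟶ Y, g c ∈ V → Set.range g ⊆ Set.range V.ι := by
    intro g hg
    rintro _ ⟨q, rfl⟩
    rw [Scheme.Opens.range_ι]
    exact ((IsLocalRing.specializes_closedPoint q).map g.continuous).mem_open V.isOpen hg
  let ξ' := IsOpenImmersion.lift V.ι ξ (hrange ξ hzV)
  let η' := IsOpenImmersion.lift V.ι η (hrange η (hc ▸ hzV))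
  have hξ : ξ' ≫ V.ι = ξ := IsOpenImmersion.lift_fac ..
  have hη : η' ≫ V.ι = η := IsOpenImmersion.lift_fac ..
  rw [← hξ, ← hη]
  congr 1
  rw [← cancel_mono V.toScheme.isoSpec.hom]
  obtain ⟨φ, hφ⟩ : ∃ φ, Spec.map φ = ξ' ≫ V.toScheme.isoSpec.hom :=
    ⟨Spec.preimage _, Spec.map_preimage _⟩
  obtain ⟨ψ, hψ⟩ : ∃ φ, Spec.map φ = η' ≫ V.toScheme.isoSpec.hom :=
    ⟨Spec.preimage _, Spec.map_preimage _⟩
  rw [← hφ, ← hψ]
  congr 1
  have h : Spec.map (φ ≫ CommRingCat.ofHom (algebraMap A K)) =
      Spec.map (ψ ≫ CommRingCat.ofHom (algebraMap A K)) := by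
    rw [Spec.map_comp, Spec.map_comp, hφ, hψ, ← Category.assoc, ← Category.assoc]
    congr 1
    rw [← cancel_mono V.ι, Category.assoc, Category.assoc, hξ, hη, hK]
  ext b
  exact IsFractionRing.injective A K (congr($(Spec.map_inj.1 h) b))

end Groth.Agent.S15354
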