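import Groth.Statements.S15355
import Mathlib.AlgebraicGeometry.ResidueField
import Mathlib.AlgebraicGeometry.Properties

set_option autoImplicit false
universe u
open CategoryTheory CategoryTheory.Limits AlgebraicGeometry
open Mor

namespace Groth.Agent.S15355

/-- Let f : Y ⟶ X be a morphism of schemes, A an integral domain and ξ, η : Spec A ⟶ Y two A-points of Y
over the same A-point of X. If ξ and η induce the same κ(p)-point of Y at every point p of some
dense subset of Spec A, then ξ and η agree on a nonempty open subscheme of Spec A. (The published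
statement is an equivalence, for algebraic spaces locally of finite presentation over a Noetherian
scheme, between local separatedness of f and conditions (a), (b); this row is the necessity of (b)
in the case of schemes, where no hypothesis on f is needed.) -/
theorem result {X Y : Scheme.{u}} (f : Y ⟶ X)
    (A : Type u) [CommRing A] [IsDomain A] (ξ η : Spec (CommRingCat.of A) ⟶ Y) (hf : ξ ≫ f = η ≫ f)
    (D : Set ↥(Spec (CommRingCat.of A))) (hD : Dense D)
    (hpt : ∀ p ∈ D, (Spec (CommRingCat.of A)).fromSpecResidueField p ≫ ξ =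
      (Spec (CommRingCat.of A)).fromSpecResidueField p ≫ η) :
    ∃ U : (Spec (CommRingCat.of A)).Opens, (U : Set ↥(Spec (CommRingCat.of A))).Nonempty ∧ U.ι ≫ ξ = U.ι ≫ η := by
  obtain ⟨p, hp⟩ : D.Nonempty := hD.nonempty
  have hptv : ∀ q ∈ D, ξ q = η q := fun q hq => by
    have := congrArg (fun m : Spec ((Spec (CommRingCat.of A)).residueField q) ⟶ Y =>
      m (IsLocalRing.closedPoint ((Spec (CommRingCat.of A)).residueField q))) (hpt q hq)
    simp only [Scheme.Hom.comp_apply, Scheme.fromSpecResidueField_apply] at this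
    exact this
  obtain ⟨V, hV, hzV, -⟩ := exists_isAffineOpen_mem_and_subset (x := ξ p) (U := ⊤) trivial
  have : IsAffine V := hV
  let U : (Spec (CommRingCat.of A)).Opens := ξ ⁻¹ᵁ V ⊓ η ⁻¹ᵁ V
  have hpU : p ∈ U := ⟨hzV, (show η p ∈ V by rw [← hptv p hp]; exact hzV)⟩
  refine ⟨U, ⟨p, hpU⟩, ?_⟩
  have : Nonempty U := ⟨⟨p, hpU⟩⟩
  have hr : ∀ g : Spec (CommRingCat.of A) ⟶ Y, U ≤ g ⁻¹ᵁ V →
      Set.range (U.ι ≫ g) ⊆ Set.range V.ι := by
    rintro g hg _ ⟨q, rfl⟩
    rw [Scheme.Opens.range_ι]
    exact hg q.2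
  let ξ' := IsOpenImmersion.lift V.ι (U.ι ≫ ξ) (hr ξ inf_le_left)
  let η' := IsOpenImmersion.lift V.ι (U.ι ≫ η) (hr η inf_le_right)
  have hξ : ξ' ≫ V.ι = U.ι ≫ ξ := IsOpenImmersion.lift_fac ..
  have hη : η' ≫ V.ι = U.ι ≫ η := IsOpenImmersion.lift_fac ..
  rw [← hξ, ← hη]
  congr 1
  refine ext_of_isAffine ?_
  ext b
  rw [← sub_eq_zero]
  set d := ξ'.appTop b - η'.appTop b with hd
  have hbot : ∀ q : U.toScheme, U.ι q ∈ D → q ∉ U.toScheme.basicOpen d := by
    intro q hq hmem
    have e : U.toScheme.fromSpecResidueField q ≫ ξ' = U.toScheme.fromSpecResidueField q ≫ η' := by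
      rw [← cancel_mono V.ι, Category.assoc, Category.assoc, hξ, hη, ← Category.assoc,
        ← Category.assoc, ← Scheme.Hom.SpecMap_residueFieldMap_fromSpecResidueField,
        Category.assoc, Category.assoc, hpt _ hq]
    have h0 : (U.toScheme.fromSpecResidueField q).appTop d = 0 := by
      rw [hd, map_sub, sub_eq_zero]
      exact congr($(congrArg Scheme.Hom.appTop e) b)
    have h1 : IsLocalRing.closedPoint (U.toScheme.residueField q) ∈
        (U.toScheme.fromSpecResidueField q) ⁻¹ᵁ U.toScheme.basicOpen d := by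
      show U.toScheme.fromSpecResidueField q _ ∈ U.toScheme.basicOpen d
      rw [Scheme.fromSpecResidueField_apply]
      exact hmem
    rw [Scheme.preimage_basicOpen_top, h0, Scheme.basicOpen_zero] at h1
    exact h1
  refine (basicOpen_eq_bot_iff d).1 ?_
  rw [eq_bot_iff]
  intro q hq
  obtain ⟨_, ⟨q', hq', rfl⟩, hq'D⟩ := hD.inter_open_nonempty _
    (U.ι.isOpenEmbedding.isOpenMap _ (U.toScheme.basicOpen d).isOpen) ⟨_, q, hq, rfl⟩
  exact (hbot q' hq'D hq').elim

end Groth.Agent.S15355
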