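import Groth.Statements.S15360
import Mathlib.Analysis.SpecificLimits.Normed


set_option autoImplicit false
universe u
open GalCoh

namespace Groth.Agent.S15360

section
open Matrix

variable (p : ℕ) [Fact p.Prime] {G : Type u} [Group G] (ϕ : G →* GL (Fin 2) ℤ_[p])

local notation "M₂" => Matrix (Fin 2) (Fin 2) ℤ_[p]

/-- The residues of `1 + p^n M` in the image. -/
def Layer (n : ℕ) (X : M₂) : Prop :=
  ∃ (g : G) (R : M₂), ((ϕ g : GL (Fin 2) ℤ_[p]) : M₂) = 1 + (p : ℤ_[p]) ^ n • X + (p : ℤ_[p]) ^ (n + 1) • R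

theorem exists_smul_of_map_eq (X Y : M₂)
    (h : X.map (PadicInt.toZMod (p := p)) = Y.map (PadicInt.toZMod (p := p))) :
    ∃ Z : M₂, X = Y + (p : ℤ_[p]) • Z := by
  have : ∀ i j, ∃ z, X i j - Y i j = (p : ℤ_[p]) * z := fun i j => by
    have hij := congrFun (congrFun h i) j
    simp only [Matrix.map_apply] at hij
    have : X i j - Y i j ∈ RingHom.ker (PadicInt.toZMod (p := p)) := by
      rw [RingHom.mem_ker, map_sub, hij, sub_self]
    rw [PadicInt.ker_toZMod, PadicInt.maximalIdeal_eq_span_p, Ideal.mem_span_singleton] at this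
    exact this
  choose z hz using this
  exact ⟨Matrix.of z, by ext i j; simp [← hz i j]⟩

variable {p ϕ}

theorem layer_zero (n : ℕ) : Layer p ϕ n 0 := ⟨1, 0, by simp⟩

theorem layer_add {m : ℕ} {X Y : M₂} (hX : Layer p ϕ (m + 1) X) (hY : Layer p ϕ (m + 1) Y) :
    Layer p ϕ (m + 1) (X + Y) := by
  obtain ⟨g, R, hg⟩ := hX
  obtain ⟨g', R', hg'⟩ := hY
  refine ⟨g * g', R + R' + (p : ℤ_[p]) ^ m • ((X + (p : ℤ_[p]) • R) * (Y + (p : ℤ_[p]) • R')), ?_⟩
  rw [map_mul, Units.val_mul, hg, hg']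
  simp only [add_mul, mul_add, one_mul, mul_one, smul_mul_assoc, mul_smul_comm, smul_smul, smul_add]
  module

theorem layer_congr {n : ℕ} {X Y : M₂} (hX : Layer p ϕ n X)
    (h : X.map (PadicInt.toZMod (p := p)) = Y.map (PadicInt.toZMod (p := p))) : Layer p ϕ n Y := by
  obtain ⟨g, R, hg⟩ := hX
  obtain ⟨Z, hZ⟩ := exists_smul_of_map_eq p X Y h
  refine ⟨g, R + Z, ?_⟩
  rw [hg, hZ]
  simp only [smul_smul, smul_add]
  module

theorem layer_smul {m : ℕ} {X : M₂} (hX : Layer p ϕ (m + 1) X) (c : ℤ_[p]) :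
    Layer p ϕ (m + 1) (c • X) := by
  have hnat : ∀ k : ℕ, Layer p ϕ (m + 1) ((k : ℤ_[p]) • X) := by
    intro k
    induction k with
    | zero => simpa using layer_zero (p := p) (ϕ := ϕ) (m + 1)
    | succ k ih =>
      rw [Nat.cast_succ, add_smul, one_smul]
      exact layer_add ih hX
  haveI : NeZero p := ⟨(Fact.out : p.Prime).ne_zero⟩
  refine layer_congr (hnat (PadicInt.toZMod c).val) ?_
  ext i j
  simp only [Matrix.map_apply, Matrix.smul_apply, smul_eq_mul, map_mul, map_natCast, ZMod.natCast_zmod_val]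

theorem layer_conj (h1 : Function.Surjective
      ((Matrix.GeneralLinearGroup.map (n := Fin 2) (PadicInt.toZMod (p := p))).comp ϕ))
    {n : ℕ} {X : M₂} (hX : Layer p ϕ n X) (U V : M₂) (hUV : U * V = 1) :
    Layer p ϕ n (U * X * V) := by
  obtain ⟨g, R, hg⟩ := hX
  let u : GL (Fin 2) ℤ_[p] := ⟨U, V, hUV, mul_eq_one_comm.1 hUV⟩
  obtain ⟨k, hk⟩ := h1 (Matrix.GeneralLinearGroup.map (PadicInt.toZMod (p := p)) u)
  refine layer_congr ⟨k * g * k⁻¹, ((ϕ k : GL (Fin 2) ℤ_[p]) : M₂) * R * ((ϕ k)⁻¹ : GL (Fin 2) ℤ_[p]),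
    (show _ = 1 + (p : ℤ_[p]) ^ n • (((ϕ k : GL (Fin 2) ℤ_[p]) : M₂) * X *
      (((ϕ k)⁻¹ : GL (Fin 2) ℤ_[p]) : M₂)) + _ from ?_)⟩ ?_
  · rw [map_mul, map_mul, map_inv, Units.val_mul, Units.val_mul, hg]
    simp only [mul_add, add_mul, mul_one, mul_smul_comm, smul_mul_assoc, Units.mul_inv]
  · rw [Matrix.map_mul, Matrix.map_mul, Matrix.map_mul, Matrix.map_mul]
    have e1 := congrArg (Units.val) hk
    have e2 := congrArg Units.val (congrArg Inv.inv hk)
    simp only [MonoidHom.comp_apply, ← map_inv] at e1 e2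
    change _ = (u : M₂).map _ * _ * ((u⁻¹ : GL (Fin 2) ℤ_[p]) : M₂).map _
    congr 1
    · congr 1
    · rw [← map_inv]
      exact e2

theorem layer_all (h1 : Function.Surjective
      ((Matrix.GeneralLinearGroup.map (n := Fin 2) (PadicInt.toZMod (p := p))).comp ϕ))
    (h2 : ∀ n : ℕ, 1 ≤ n → ∃ (g : G) (a b c d : ℤ_[p]), ¬ ((p : ℤ_[p]) ∣ a) ∧
          ((ϕ g : GL (Fin 2) ℤ_[p]) : M₂) =
            !![1 + (p : ℤ_[p]) ^ n * a, (p : ℤ_[p]) ^ (n + 1) * b;
               (p : ℤ_[p]) ^ (n + 1) * c, 1 + (p : ℤ_[p]) ^ (n + 1) * d])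
    (m : ℕ) (X : M₂) : Layer p ϕ (m + 1) X := by
  obtain ⟨g, a, b, c, d, ha, hg⟩ := h2 (m + 1) (by omega)
  have hunit : IsUnit a := by
    by_contra hu
    apply ha
    rw [← Ideal.mem_span_singleton, ← PadicInt.maximalIdeal_eq_span_p]
    exact hu
  have hE : Layer p ϕ (m + 1) (!![a, 0; 0, 0]) := by
    refine ⟨g, !![0, b; c, d], ?_⟩
    rw [hg]
    ext i j
    fin_cases i <;> fin_cases j <;> simp
  obtain ⟨a', ha'⟩ := hunit.exists_left_inv
  have h11 : Layer p ϕ (m + 1) (!![1, 0; 0, 0]) := by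
    have := layer_smul hE a'
    simpa [Matrix.smul_of, ha'] using this
  have h22 : Layer p ϕ (m + 1) (!![0, 0; 0, 1]) := by
    have := layer_conj h1 h11 !![0, 1; 1, 0] !![0, 1; 1, 0] (by simp [Matrix.one_fin_two])
    convert this using 1
    ext i j
    fin_cases i <;> fin_cases j <;> simp
  have h12 : Layer p ϕ (m + 1) (!![1, -1; 0, 0]) := by
    have := layer_conj h1 h11 !![1, 1; 0, 1] !![1, -1; 0, 1] (by simp [Matrix.one_fin_two])
    convert this using 1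
    ext i j
    fin_cases i <;> fin_cases j <;> simp
  have h21 : Layer p ϕ (m + 1) (!![1, 0; 1, 0]) := by
    have := layer_conj h1 h11 !![1, 0; 1, 1] !![1, 0; -1, 1] (by simp [Matrix.one_fin_two])
    simpa using this
  have := layer_add (layer_add (layer_smul h11 (X 0 0 + X 0 1 - X 1 0)) (layer_smul h12 (- X 0 1)))
    (layer_add (layer_smul h21 (X 1 0)) (layer_smul h22 (X 1 1)))
  convert this using 1
  ext i j
  fin_cases i <;> fin_cases j <;> simp
  all_goals ring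

theorem approx (h1 : Function.Surjective
      ((Matrix.GeneralLinearGroup.map (n := Fin 2) (PadicInt.toZMod (p := p))).comp ϕ))
    (h2 : ∀ n : ℕ, 1 ≤ n → ∃ (g : G) (a b c d : ℤ_[p]), ¬ ((p : ℤ_[p]) ∣ a) ∧
          ((ϕ g : GL (Fin 2) ℤ_[p]) : M₂) =
            !![1 + (p : ℤ_[p]) ^ n * a, (p : ℤ_[p]) ^ (n + 1) * b;
               (p : ℤ_[p]) ^ (n + 1) * c, 1 + (p : ℤ_[p]) ^ (n + 1) * d])
    (h : GL (Fin 2) ℤ_[p]) (n : ℕ) :
    ∃ (g : G) (R : M₂), ((ϕ g : GL (Fin 2) ℤ_[p]) : M₂) = (h : M₂) * (1 + (p : ℤ_[p]) ^ (n + 1) • R) := by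
  induction n with
  | zero =>
    obtain ⟨g, hg⟩ := h1 (Matrix.GeneralLinearGroup.map (PadicInt.toZMod (p := p)) h)
    obtain ⟨Z, hZ⟩ := exists_smul_of_map_eq p ((ϕ g : GL (Fin 2) ℤ_[p]) : M₂) (h : M₂)
      (congrArg Units.val hg)
    refine ⟨g, ((h⁻¹ : GL (Fin 2) ℤ_[p]) : M₂) * Z, ?_⟩
    rw [hZ, mul_add, mul_one, mul_smul_comm, ← mul_assoc, Units.mul_inv, one_mul, zero_add, pow_one]
  | succ n ih =>
    obtain ⟨g, R, hg⟩ := ih
    obtain ⟨g', R', hg'⟩ := layer_all h1 h2 n (-R)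
    refine ⟨g * g', R' - (p : ℤ_[p]) ^ n • (R * R) + (p : ℤ_[p]) ^ (n + 1) • (R * R'), ?_⟩
    rw [map_mul, Units.val_mul, hg, hg', mul_assoc]
    congr 1
    simp only [add_mul, mul_add, one_mul, mul_one, smul_mul_assoc, mul_smul_comm, smul_smul, smul_add,
      smul_sub, mul_neg, smul_neg]
    module

end

/-- Let 𝔊 be a profinite group and ϕ : 𝔊 → GL₂(ℤ_p) a continuous homomorphism. Then ϕ is surjective if
and only if (i) the composite of ϕ with reduction modulo p, 𝔊 → GL₂(𝔽_p), is surjective, and (ii)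
for every integer n ≥ 1 there is g ∈ 𝔊 such that ϕ(g) has the form [[1 + pⁿa, pⁿ⁺¹b], [pⁿ⁺¹c, 1 +
pⁿ⁺¹d]] with a, b, c, d ∈ ℤ_p and a not divisible by p (equivalently: the image of ϕ⁻¹(1 +
pⁿM₂(ℤ_p)) in M₂(𝔽_p) under g ↦ (ϕ(g) − 1)/pⁿ contains a matrix [[x, 0], [0, 0]] with x ≠ 0).
Continuity of ϕ is expressed through its matrix entries. -/
theorem result (p : ℕ) [Fact p.Prime]
    (𝔊 : Type u) [Group 𝔊] [TopologicalSpace 𝔊] [IsTopologicalGroup 𝔊] [CompactSpace 𝔊] [T2Space 𝔊]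
    [TotallyDisconnectedSpace 𝔊]
    (ϕ : 𝔊 →* GL (Fin 2) ℤ_[p])
    (hϕ : Continuous fun g => ((ϕ g : GL (Fin 2) ℤ_[p]) : Matrix (Fin 2) (Fin 2) ℤ_[p])) :
    Function.Surjective ϕ ↔
      (Function.Surjective ((Matrix.GeneralLinearGroup.map (n := Fin 2) (PadicInt.toZMod (p := p))).comp ϕ) ∧
        ∀ n : ℕ, 1 ≤ n → ∃ (g : 𝔊) (a b c d : ℤ_[p]), ¬ ((p : ℤ_[p]) ∣ a) ∧
          ((ϕ g : GL (Fin 2) ℤ_[p]) : Matrix (Fin 2) (Fin 2) ℤ_[p]) =
            !![1 + (p : ℤ_[p]) ^ n * a, (p : ℤ_[p]) ^ (n + 1) * b;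
               (p : ℤ_[p]) ^ (n + 1) * c, 1 + (p : ℤ_[p]) ^ (n + 1) * d]) := by
  constructor
  · intro hs
    refine ⟨?_, fun n hn => ?_⟩
    · intro x
      classical
      have hl : ∀ i j, ∃ z : ℤ_[p], PadicInt.toZMod z = (x : Matrix (Fin 2) (Fin 2) (ZMod p)) i j :=
        fun i j => ZMod.ringHom_surjective _ _
      choose z hz using hl
      have hu : IsUnit (Matrix.of z) := by
        rw [Matrix.isUnit_iff_isUnit_det]
        by_contra hc
        have hd : (PadicInt.toZMod (Matrix.of z).det : ZMod p) = 0 := by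
          rw [← RingHom.mem_ker, PadicInt.ker_toZMod]
          exact hc
        rw [RingHom.map_det] at hd
        have : (PadicInt.toZMod (p := p)).mapMatrix (Matrix.of z) = (x : Matrix _ _ (ZMod p)) := by
          ext i j; exact hz i j
        rw [this] at hd
        exact ((Matrix.isUnit_iff_isUnit_det _).1 x.isUnit).ne_zero hd
      obtain ⟨g, hg⟩ := hs hu.unit
      refine ⟨g, Units.ext ?_⟩
      rw [MonoidHom.comp_apply, hg]
      ext i j
      exact hz i j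
    · have hu : IsUnit (!![1 + (p : ℤ_[p]) ^ n, 0; 0, 1] : Matrix (Fin 2) (Fin 2) ℤ_[p]) := by
        rw [Matrix.isUnit_iff_isUnit_det, Matrix.det_fin_two_of, mul_one, mul_zero, sub_zero]
        apply IsLocalRing.isUnit_of_mem_nonunits_one_sub_self
        rw [sub_add_cancel_left, ← IsLocalRing.mem_maximalIdeal, PadicInt.maximalIdeal_eq_span_p,
          Ideal.mem_span_singleton, dvd_neg]
        exact dvd_pow_self _ (by omega)
      obtain ⟨g, hg⟩ := hs hu.unit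
      refine ⟨g, 1, 0, 0, 0, ?_, ?_⟩
      · exact fun h => PadicInt.p_nonunit (isUnit_of_dvd_one h)
      · rw [hg, IsUnit.unit_spec]
        simp
  · rintro ⟨h1, h2⟩ h
    choose g R hg using approx h1 h2 h
    have hclosed : IsClosed (Set.range fun g => ((ϕ g : GL (Fin 2) ℤ_[p]) : Matrix (Fin 2) (Fin 2) ℤ_[p])) :=
      (isCompact_range hϕ).isClosed
    have hmem : (h : Matrix (Fin 2) (Fin 2) ℤ_[p]) ∈
        Set.range fun g => ((ϕ g : GL (Fin 2) ℤ_[p]) : Matrix (Fin 2) (Fin 2) ℤ_[p]) := by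
      refine hclosed.mem_of_tendsto (b := Filter.atTop)
        (f := fun n => ((ϕ (g n) : GL (Fin 2) ℤ_[p]) : Matrix (Fin 2) (Fin 2) ℤ_[p])) ?_
        (Filter.Eventually.of_forall fun n => ⟨g n, rfl⟩)
      refine tendsto_pi_nhds.2 fun i => tendsto_pi_nhds.2 fun j => ?_
      have h0 : Filter.Tendsto (fun n => (p : ℤ_[p]) ^ (n + 1)) Filter.atTop (nhds 0) :=
        (tendsto_pow_atTop_nhds_zero_of_norm_lt_one
          (PadicInt.norm_lt_one_iff_dvd _ |>.2 dvd_rfl)).comp (Filter.tendsto_add_atTop_nat 1)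
      rw [← tendsto_sub_nhds_zero_iff]
      refine squeeze_zero_norm (fun n => ?_) (tendsto_zero_iff_norm_tendsto_zero.1 h0)
      rw [hg n, mul_add, mul_one, Matrix.add_apply, add_sub_cancel_left, mul_smul_comm,
        Matrix.smul_apply, smul_eq_mul, norm_mul]
      exact mul_le_of_le_one_right (norm_nonneg _) (PadicInt.norm_le_one _)
    obtain ⟨g₀, hg₀⟩ := hmem
    exact ⟨g₀, Units.ext hg₀⟩

end Groth.Agent.S15360
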