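import Groth.Statements.S15362
import Mathlib

set_option autoImplicit false
universe u v w
open CAlg

namespace Groth.Agent.S15362
open Polynomial

/-- A finite recursion `φ^n y = Σ c_i φ^i y` gives a solution of `φ x - x = y`. -/
theorem exists_sol {p : ℕ} [hp : Fact p.Prime] {L : Type u} [Field L] [IsAlgClosed L] [CharP L p]
    {W : Type w} [AddCommGroup W] [Module L W] (ψ : W → W) (hadd : ∀ x y, ψ (x + y) = ψ x + ψ y)
    (hsmul : ∀ (c : L) x, ψ (c • x) = c ^ p • ψ x) (y : W) (n : ℕ) (c : ℕ → L)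
    (hrel : ψ^[n + 1] y = ∑ i ∈ Finset.range (n + 1), c i • ψ^[i] y) : ∃ x, ψ x - x = y := by
  classical
  let P : ℕ → L[X] := fun i => Nat.rec (C (c 0) * X ^ p - 1) (fun i Q => Q ^ p + C (c (i + 1)) * X ^ p) i
  have hP0 : P 0 = C (c 0) * X ^ p - 1 := rfl
  have hPs : ∀ i, P (i + 1) = P i ^ p + C (c (i + 1)) * X ^ p := fun i => rfl
  have hpc : (p : L) = 0 := CharP.cast_eq_zero L p
  have hd : ∀ i, derivative (P i) = 0 := fun i => by
    cases i with
    | zero => simp [hP0, hpc, derivative_X_pow]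
    | succ i => simp [hPs, hpc, derivative_X_pow, derivative_pow]
  have hdeg : (P n - X).degree ≠ 0 := by
    intro h0
    have h1 := eq_C_of_degree_eq_zero h0
    have h2 := congrArg derivative h1
    rw [map_sub, hd, derivative_X, derivative_C] at h2
    simp at h2
  obtain ⟨T, hT⟩ := IsAlgClosed.exists_root (P n - X) hdeg
  rw [IsRoot.def, eval_sub, eval_X, sub_eq_zero] at hT
  set t : ℕ → L := fun i => (P i).eval T
  refine ⟨∑ i ∈ Finset.range (n + 1), t i • ψ^[i] y, ?_⟩
  let F : W →+ W := AddMonoidHom.mk' ψ hadd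
  have h1 : ψ (∑ i ∈ Finset.range (n + 1), t i • ψ^[i] y) = ∑ i ∈ Finset.range (n + 1), t i ^ p • ψ^[i + 1] y := by
    show F _ = _
    rw [map_sum]
    refine Finset.sum_congr rfl fun i _ => ?_
    show ψ _ = _
    rw [hsmul, Function.iterate_succ_apply']
  rw [h1, Finset.sum_range_succ, show t n = T from hT, hrel, Finset.sum_range_succ' (fun i => t i • ψ^[i] y),
    Finset.sum_range_succ' (fun i => c i • ψ^[i] y), smul_add, Finset.smul_sum, ← add_assoc, ← Finset.sum_add_distrib]
  have h2 : t 0 = c 0 * T ^ p - 1 := by simp [t, hP0]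
  have h3 : ∀ i, t (i + 1) = t i ^ p + c (i + 1) * T ^ p := fun i => by simp [t, hPs]
  rw [h2, add_sub_add_comm, ← Finset.sum_sub_distrib, Finset.sum_eq_zero fun i _ => by
    rw [h3, add_smul, smul_smul, mul_comm (T ^ p)]; abel]
  rw [zero_add, smul_smul, sub_smul, one_smul, mul_comm (T ^ p)]
  simp

/-- For an algebraically closed field L of characteristic p > 0, a commutative L-algebra R integral over
L, and a finitely presented R-module M carrying an additive endomorphism φ with φ(r·m) = r^p·φ(m)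
for r ∈ R, m ∈ M, the map m ↦ φ(m) − m is onto. (R is taken of exponential characteristic p so that
its Frobenius is a ring endomorphism; for a non-zero L-algebra this is automatic.) -/
theorem result (p : ℕ) [Fact p.Prime]
    (L : Type u) [Field L] [IsAlgClosed L] [CharP L p]
    (R : Type v) [CommRing R] [Algebra L R] [Algebra.IsIntegral L R] [ExpChar R p]
    (M : Type w) [AddCommGroup M] [Module R M] [Module.FinitePresentation R M]
    (φ : M →ₛₗ[frobenius R p] M) :
    Function.Surjective fun m : M => φ m - m := by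
  classical
  intro m
  letI : Module L M := Module.compHom M (algebraMap L R)
  haveI : IsScalarTower L R M := IsScalarTower.of_algebraMap_smul fun c x => rfl
  obtain ⟨s, e, he⟩ := Module.Finite.exists_fin (R := R) (M := M)
  have hex : ∀ x : M, ∃ a : Fin s → R, ∑ i, a i • e i = x := fun x =>
    (Submodule.mem_span_range_iff_exists_fun R).1 (he ▸ Submodule.mem_top)
  choose a ha using fun j => hex (φ (e j))
  obtain ⟨b, hb⟩ := hex m
  let G : Finset R := (Finset.univ.biUnion fun j => Finset.univ.image (a j)) ∪ Finset.univ.image b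
  let R0 := Algebra.adjoin L (G : Set R)
  have hG : ∀ r ∈ G, r ∈ R0 := fun r hr => Algebra.subset_adjoin hr
  haveI : Module.Finite L R0 :=
    Module.Finite.iff_fg.2 (fg_adjoin_of_finite G.finite_toSet fun x _ => Algebra.IsIntegral.isIntegral x)
  let Λ : (Fin s → R0) →ₗ[L] M :=
    { toFun := fun f => ∑ i, (f i : R) • e i
      map_add' := fun f g => by simp [add_smul, Finset.sum_add_distrib]
      map_smul' := fun c f => by simp [Finset.smul_sum, smul_assoc] }
  set W := LinearMap.range Λ
  have hstab : ∀ x ∈ W, φ x ∈ W := by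
    rintro _ ⟨f, rfl⟩
    refine ⟨fun i => ∑ j, f j ^ p * ⟨a j i, hG _ (Finset.mem_union_left _ (Finset.mem_biUnion.2 ⟨j, Finset.mem_univ _, Finset.mem_image_of_mem _ (Finset.mem_univ _)⟩))⟩, ?_⟩
    show ∑ i, ((∑ j, f j ^ p * _ : R0) : R) • e i = φ (∑ i, (f i : R) • e i)
    simp only [map_sum, φ.map_smulₛₗ, frobenius_def, ← ha, Finset.smul_sum, smul_smul]
    rw [Finset.sum_comm]
    refine Finset.sum_congr rfl fun i _ => ?_
    rw [AddSubmonoidClass.coe_finsetSum, Finset.sum_smul]
    exact Finset.sum_congr rfl fun j _ => by simp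
  have hm : m ∈ W := ⟨fun i => ⟨b i, hG _ (Finset.mem_union_right _ (Finset.mem_image_of_mem _ (Finset.mem_univ _)))⟩, hb⟩
  have hmem : ∀ i, (⇑φ)^[i] m ∈ W := fun i => by
    induction i with
    | zero => exact hm
    | succ i ih => rw [Function.iterate_succ_apply']; exact hstab _ ih
  let U : ℕ →o Submodule L W := ⟨fun n => Submodule.span L ((fun i => (⟨_, hmem i⟩ : W)) '' Set.Iio n),
    fun a b hab => Submodule.span_mono (Set.image_mono (Set.Iio_subset_Iio hab))⟩
  obtain ⟨n, hn⟩ := monotone_stabilizes_iff_noetherian.2 (inferInstance : IsNoetherian L W) U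
  have h1 : (⟨_, hmem (n + 1)⟩ : W) ∈ U (n + 1) := by
    rw [← hn (n + 1) (by omega), hn (n + 2) (by omega)]
    exact Submodule.subset_span ⟨n + 1, by simp, rfl⟩
  obtain ⟨c, hc⟩ : ∃ c : ℕ → L, (⇑φ)^[n + 1] m = ∑ i ∈ Finset.range (n + 1), c i • (⇑φ)^[i] m := by
    have h2 : (⟨_, hmem (n + 1)⟩ : W) ∈ Submodule.span L (Set.range fun i : Fin (n + 1) => (⟨_, hmem i⟩ : W)) := by
      refine Submodule.span_mono ?_ h1
      rintro _ ⟨i, hi, rfl⟩
      exact ⟨⟨i, hi⟩, rfl⟩
    obtain ⟨g, hg⟩ := (Submodule.mem_span_range_iff_exists_fun L).1 h2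
    refine ⟨fun i => if h : i < n + 1 then g ⟨i, h⟩ else 0, ?_⟩
    have := congrArg Subtype.val hg
    simp only [Submodule.coe_sum, Submodule.coe_smul] at this
    rw [← this, Finset.sum_range]
    exact Finset.sum_congr rfl fun i _ => by simp [i.isLt]
  obtain ⟨x, hx⟩ := exists_sol (L := L) (fun y => φ y) (fun x y => map_add φ x y) (fun c x => by
    show φ (algebraMap L R c • x) = algebraMap L R (c ^ p) • φ x
    rw [φ.map_smulₛₗ, frobenius_def, map_pow]) m n c hc
  exact ⟨x, hx⟩

end Groth.Agent.S15362
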