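import Groth.Statements.S15363
import Groth.Agent.Lib.SekSuwa19.Basic

set_option autoImplicit false
universe u
open CategoryTheory AlgebraicGeometry
open SekSuwa

namespace Groth.Agent.S15363

/-- Let R be an integral domain, p a prime and λ ∈ R a non-zero element with λ^p dividing (1 + λX)^p −
1, so that the congruence group scheme G_λ = Spec R[T]/(P_λ(T)) of level λ and its homomorphism θ_λ
: G_λ → μ_p, X ↦ 1 + λT, are defined. For every scheme G flat over Spec R, composition with θ_λ is
injective on R-morphisms G → G_λ; in particular θ_λ induces an injective map from the homomorphisms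
G → G_λ of a flat R-group scheme G to its homomorphisms G → μ_p. (The published statement is over
the ring of integers of an algebraic closure of a complete discretely valued field of mixed
characteristic, for finite flat commutative group schemes killed by p; the published argument, that
θ_λ is an isomorphism on the generic fibre and G is flat, gives the form stated here.) -/
theorem result (R : Type u) [CommRing R] [IsDomain R]
    (p : ℕ) [Fact p.Prime] (lam : R) (h : SekSuwa.DivCond lam p)
    (G : Over (Spec (CommRingCat.of R))) [Flat G.hom]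
    (f g : G ⟶ SekSuwa.GK R lam p h)
    (hfg : f ≫ SekSuwa.alphaN R lam p h = g ≫ SekSuwa.alphaN R lam p h) : f = g := by
  apply Over.OverMorphism.ext
  refine G.left.affineCover.hom_ext _ _ fun i => ?_
  set T := G.left.affineCover.X i
  set j := G.left.affineCover.f i
  haveI : IsAffine T := inferInstance
  haveI : Flat (j ≫ G.hom) := inferInstance
  obtain ⟨χ, hχ⟩ := SekSuwa19.exists_toSpecΓ (B := CommRingCat.of R) (j ≫ G.hom)
  obtain ⟨φ, hφ⟩ := SekSuwa19.exists_toSpecΓ (B := CommRingCat.of (SekSuwa.AK R lam p h)) (j ≫ f.left)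
  obtain ⟨ψ, hψ⟩ := SekSuwa19.exists_toSpecΓ (B := CommRingCat.of (SekSuwa.AK R lam p h)) (j ≫ g.left)
  let s : CommRingCat.of R ⟶ CommRingCat.of (SekSuwa.AK R lam p h) :=
    CommRingCat.ofHom (algebraMap R (SekSuwa.AK R lam p h))
  have hs : (SekSuwa.GK R lam p h).hom = Spec.map s := rfl
  have eφ : s ≫ φ = χ := SekSuwa19.toSpecΓ_inj (by
    rw [Spec.map_comp, ← Category.assoc, ← hφ, ← hs]
    exact (Category.assoc j f.left (SekSuwa.GK R lam p h).hom).trans ((congrArg (j ≫ ·) (Over.w f)).trans hχ))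
  have eψ : s ≫ ψ = χ := SekSuwa19.toSpecΓ_inj (by
    rw [Spec.map_comp, ← Category.assoc, ← hψ, ← hs]
    exact (Category.assoc j g.left (SekSuwa.GK R lam p h).hom).trans ((congrArg (j ≫ ·) (Over.w g)).trans hχ))
  have hflat : χ.hom.Flat := by
    haveI : Flat (Spec.map χ) := by
      have e : Spec.map χ = T.isoSpec.inv ≫ (j ≫ G.hom) := by
        rw [hχ, show T.toSpecΓ = T.isoSpec.hom from rfl, Iso.inv_hom_id_assoc]
      rw [e]; infer_instance
    exact Flat.SpecMap_iff.1 ‹_›
  have h2 : f.left ≫ Spec.map (CommRingCat.ofHom ((SekSuwa.alphaNHom R lam p h : MonoidAlgebra R (Multiplicative (ZMod p)) →ₐc[R] SekSuwa.AK R lam p h) : MonoidAlgebra R (Multiplicative (ZMod p)) →+* SekSuwa.AK R lam p h)) =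
      g.left ≫ Spec.map (CommRingCat.ofHom ((SekSuwa.alphaNHom R lam p h : MonoidAlgebra R (Multiplicative (ZMod p)) →ₐc[R] SekSuwa.AK R lam p h) : MonoidAlgebra R (Multiplicative (ZMod p)) →+* SekSuwa.AK R lam p h)) :=
    congrArg (fun q : G ⟶ Red.diag R (ZMod p) => q.left) hfg
  have h2' : (T.toSpecΓ ≫ Spec.map φ) ≫ Spec.map (CommRingCat.ofHom ((SekSuwa.alphaNHom R lam p h : MonoidAlgebra R (Multiplicative (ZMod p)) →ₐc[R] SekSuwa.AK R lam p h) : MonoidAlgebra R (Multiplicative (ZMod p)) →+* SekSuwa.AK R lam p h)) =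
      (T.toSpecΓ ≫ Spec.map ψ) ≫ Spec.map (CommRingCat.ofHom ((SekSuwa.alphaNHom R lam p h : MonoidAlgebra R (Multiplicative (ZMod p)) →ₐc[R] SekSuwa.AK R lam p h) : MonoidAlgebra R (Multiplicative (ZMod p)) →+* SekSuwa.AK R lam p h)) := by
    rw [← hφ, ← hψ]
    exact ((Category.assoc j f.left _).trans (congrArg (j ≫ ·) h2)).trans (Category.assoc j g.left _).symm
  rw [Category.assoc, Category.assoc, ← Spec.map_comp, ← Spec.map_comp] at h2'
  have h3 := congr($(SekSuwa19.toSpecΓ_inj h2') (MonoidAlgebra.single (Multiplicative.ofAdd (1 : ZMod p)) 1))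
  change φ (SekSuwa.alphaNHom R lam p h (MonoidAlgebra.single (Multiplicative.ofAdd (1 : ZMod p)) 1)) =
    ψ (SekSuwa.alphaNHom R lam p h (MonoidAlgebra.single (Multiplicative.ofAdd (1 : ZMod p)) 1)) at h3
  rw [SekSuwa.alphaNHom_single_one, Algebra.smul_def, map_add, map_add, map_mul, map_mul, map_one, map_one,
    add_right_inj] at h3
  have et : φ SekSuwa.AK.t = ψ SekSuwa.AK.t := by
    letI := χ.hom.toAlgebra
    haveI : Module.Flat R Γ(T, ⊤) := hflat
    have hreg : IsSMulRegular Γ(T, ⊤) lam := by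
      have h0 : IsSMulRegular R lam := fun a b hab => SekSuwa.cancel_nzd h.nzd hab
      exact h0.of_flat
    apply hreg
    show χ lam * φ SekSuwa.AK.t = χ lam * ψ SekSuwa.AK.t
    calc χ lam * φ SekSuwa.AK.t = φ (s lam) * φ SekSuwa.AK.t := by rw [← eφ]; rfl
      _ = ψ (s lam) * ψ SekSuwa.AK.t := h3
      _ = χ lam * ψ SekSuwa.AK.t := by rw [← eψ]; rfl
  have hp : 0 < p := (Fact.out : p.Prime).pos
  have : φ = ψ := by
    letI := χ.hom.toAlgebra
    have := SekSuwa.AK.algHom_ext (f := ({ φ.hom with commutes' := fun r => congr($eφ r) } : SekSuwa.AK R lam p h →ₐ[R] Γ(T, ⊤)))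
      (g := ({ ψ.hom with commutes' := fun r => congr($eψ r) } : SekSuwa.AK R lam p h →ₐ[R] Γ(T, ⊤))) et (by
        show φ SekSuwa.AK.inv = ψ SekSuwa.AK.inv
        rw [SekSuwa19.inv_eq h hp, map_pow, map_pow, Algebra.smul_def, map_add, map_add, map_mul, map_mul,
          show φ (algebraMap R _ lam) = ψ (algebraMap R _ lam) from congr($(eφ.trans eψ.symm) lam), et, map_one, map_one])
    ext z
    exact DFunLike.congr_fun this z
  subst this
  exact hφ.trans hψ.symm

end Groth.Agent.S15363
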