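import Groth.Statements.S15364
import Groth.Agent.Lib.RigidRel.AbSch
import Groth.Agent.Lib.AbRigid.SmoothGI
import Mathlib.AlgebraicGeometry.Morphisms.QuasiFinite

set_option autoImplicit false
universe u
open CategoryTheory CategoryTheory.Limits MonoidalCategory CartesianMonoidalCategory AlgebraicGeometry
open AbSch

open scoped CategoryTheory.MonObj

namespace Groth.Agent.S15364

/-- For an abelian scheme f : A → T (a commutative T-group scheme, proper and smooth over T with
geometrically connected fibres) and a commutative group scheme H finite and locally free over T, the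
adjunction map H → f_* f^* H of fppf sheaves on T is an isomorphism, i.e. for every T-scheme U the
map H(U) → H(A ×_T U), s ↦ s ∘ pr, is bijective. This row states the case U = T, to which the
general case reduces by base change: composition with the structure morphism A → T is a bijection
from the sections of H over T onto the T-morphisms A → H. The group structure of H plays no role and
is not assumed. (The published statement has an arbitrary base T; the published argument rests on
the rigidity lemma in its form for Noetherian schemes, so T is taken locally Noetherian here.) -/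
theorem result {T : Scheme.{u}} [IsLocallyNoetherian T]
    (A : Over T) [GrpObj A] [IsCommMonObj A] [IsProper A.hom] [Smooth A.hom] [GeometricallyConnected A.hom]
    (H : Over T) [IsFinite H.hom] [Flat H.hom] [LocallyOfFinitePresentation H.hom] :
    Function.Bijective fun s : (𝟙_ (Over T) ⟶ H) => toUnit A ≫ s := by
  haveI := AbRigid.geometricallyReduced_of_smooth A.hom
  refine ⟨fun a b hab => ?_, fun h => ?_⟩
  · have h' := congrArg (fun g => η[A] ≫ g) hab
    simp only [← Category.assoc, toUnit_unique (η[A] ≫ toUnit A) (𝟙 _), Category.id_comp] at h'
    exact h'
  · suffices hc : ∀ s, s ∈ RigidRel.collapsed A.hom h.left by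
      obtain ⟨r, hr⟩ := RigidRel.exists_eq_toUnit_comp A H h hc
      exact ⟨r, hr.symm⟩
    intro s
    have hconn : _root_.IsConnected (A.hom ⁻¹' {s}) := A.hom.isConnected_preimage_singleton s
    have hsub : h.left '' (A.hom ⁻¹' {s}) ⊆ H.hom ⁻¹' {s} := by
      rintro _ ⟨x, hx, rfl⟩
      show H.hom (h.left x) = s
      rw [← Scheme.Hom.comp_apply, Over.w]
      exact hx
    have hss := ((hconn.image _ h.left.continuous.continuousOn).isPreconnected)
    have hss' : (h.left '' (A.hom ⁻¹' {s})).Subsingleton :=
      hss.isDiscrete_iff_subsingleton.1 ((H.hom.isDiscrete_preimage_singleton s).mono hsub)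
    obtain ⟨x₀, hx₀⟩ := hconn.nonempty
    exact ⟨h.left x₀, fun x hx => hss' ⟨x, hx, rfl⟩ ⟨x₀, hx₀, rfl⟩⟩

end Groth.Agent.S15364
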