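import Groth.Statements.S15365
import Groth.Statements.S11933
import Groth.Statements.S13161
import Groth.Statements.S11938
import Groth.Statements.S16572
import Mathlib

set_option autoImplicit false
universe u
open scoped BigOperators
open CAlg

namespace Groth.Agent.S15365

open MvPolynomial Matrix

/-- Let A be a commutative ring of characteristic p > 0 and (h_{ij})_{1 ≤ i,j ≤ n} a square matrix over
A, the matrix of a commutative p-Lie algebra (L, φ) with L free with basis e_1, …, e_n and φ(e_j) =
Σ_i h_{ij} e_i. The associated finite group scheme Spec A[X_1, …, X_n]/(X_j^p − Σ_i h_{ij} X_i)_{1 ≤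
j ≤ n} is étale over A if and only if the matrix (h_{ij}) is invertible, i.e. its determinant is a
unit of A. Only the algebra structure enters this assertion. -/
theorem result (p : ℕ) [Fact p.Prime]
    (A : Type u) [CommRing A] [CharP A p] (n : ℕ) (h : Matrix (Fin n) (Fin n) A) :
    Algebra.Etale A (MvPolynomial (Fin n) A ⧸ Ideal.span (Set.range fun j : Fin n =>
        (MvPolynomial.X j : MvPolynomial (Fin n) A) ^ p -
          ∑ i : Fin n, MvPolynomial.C (h i j) * MvPolynomial.X i)) ↔
      IsUnit h.det := by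
  classical
  set v : Fin n → MvPolynomial (Fin n) A := fun j => (X j : MvPolynomial (Fin n) A) ^ p - ∑ i, C (h i j) * X i with hv
  constructor
  · intro het
    by_contra hu
    obtain ⟨m, hm, hdm⟩ := exists_max_ideal_of_mem_nonunits hu
    letI := Ideal.Quotient.field m
    have h0 : (h.map (Ideal.Quotient.mk m)).det = 0 := by
      rw [← RingHom.mapMatrix_apply, ← RingHom.map_det, Ideal.Quotient.eq_zero_iff_mem]
      exact hdm
    obtain ⟨w, hw0, hw⟩ := Matrix.exists_vecMul_eq_zero_iff.2 h0
    let mkφ : (Fin n → A ⧸ m) → (MvPolynomial (Fin n) A →ₐ[A] DualNumber (A ⧸ m)) :=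
      fun w => aeval fun i => TrivSqZeroExt.inr (w i)
    have hkill : ∀ w : Fin n → A ⧸ m, w ᵥ* h.map (Ideal.Quotient.mk m) = 0 →
        ∀ y ∈ Ideal.span (Set.range v), mkφ w y = 0 := by
      intro w hw y hy
      refine (RingHom.mem_ker).1 (Ideal.span_le.2 ?_ hy : y ∈ RingHom.ker (mkφ w))
      rintro _ ⟨j, rfl⟩
      have hj := congrFun hw j
      simp only [Matrix.vecMul, dotProduct, Matrix.map_apply, Pi.zero_apply] at hj
      have hp2 : 2 ≤ p := (Fact.out (p := p.Prime)).two_le
      rw [SetLike.mem_coe, RingHom.mem_ker, map_sub, map_pow, map_sum]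
      simp only [mkφ, aeval_X, map_mul, aeval_C]
      rw [← Nat.sub_add_cancel hp2, pow_add, pow_two, TrivSqZeroExt.inr_mul_inr, mul_zero, zero_sub, neg_eq_zero]
      refine TrivSqZeroExt.ext ?_ ?_
      · simp [TrivSqZeroExt.fst_sum]
      · simp only [TrivSqZeroExt.snd_sum, TrivSqZeroExt.snd_zero]
        refine Eq.trans (Finset.sum_congr rfl fun i _ => ?_) hj
        rw [← Algebra.smul_def, TrivSqZeroExt.snd_smul, TrivSqZeroExt.snd_inr, Algebra.smul_def, mul_comm]
        rfl
    let I : Ideal (DualNumber (A ⧸ m)) := RingHom.ker (TrivSqZeroExt.fstHom A (A ⧸ m) (A ⧸ m))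
    have hI : IsNilpotent I := ⟨2, by
      show I ^ 2 = ⊥
      rw [Submodule.pow_succ, Submodule.pow_one, eq_bot_iff, Ideal.mul_le]
      intro a ha b hb
      rw [Ideal.mem_bot]
      refine TrivSqZeroExt.ext ?_ ?_
      · rw [TrivSqZeroExt.fst_mul, show a.fst = 0 from ha, zero_mul]; rfl
      · rw [TrivSqZeroExt.snd_mul, show a.fst = 0 from ha, show b.fst = 0 from hb]; simp⟩
    let g1 := Ideal.Quotient.liftₐ _ (mkφ w) (hkill w hw)
    let g0 := Ideal.Quotient.liftₐ _ (mkφ 0) (hkill 0 (Matrix.zero_vecMul _))
    have heq : g1 = g0 := Algebra.FormallyUnramified.ext I hI fun y => by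
      obtain ⟨y, rfl⟩ := Ideal.Quotient.mk_surjective y
      rw [Ideal.Quotient.eq]
      show TrivSqZeroExt.fstHom A (A ⧸ m) (A ⧸ m) (mkφ w y - mkφ 0 y) = 0
      rw [map_sub, sub_eq_zero]
      induction y using MvPolynomial.induction_on with
      | C a => simp [mkφ]
      | add a b ha hb => rw [map_add, map_add, map_add, map_add, ha, hb]
      | mul_X a i ha => rw [map_mul, map_mul, map_mul, map_mul, ha]; simp [mkφ]
    refine hw0 (funext fun i => ?_)
    have h1 := AlgHom.congr_fun heq (Ideal.Quotient.mk _ (X i))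
    change mkφ w (X i) = mkφ 0 (X i) at h1
    simp only [mkφ, aeval_X, Pi.zero_apply, TrivSqZeroExt.inr_zero] at h1
    have h2 := congrArg TrivSqZeroExt.snd h1
    simpa using h2
  · intro hu
    let P := Algebra.PreSubmersivePresentation.naive (R := A) (v := v) (id : Fin n → Fin n) Function.injective_id
    have hjac : IsUnit P.jacobian := by
      rw [Algebra.PreSubmersivePresentation.jacobian_eq_jacobiMatrix_det]
      have hmat : P.jacobiMatrix = (-h).map MvPolynomial.C := by
        ext i j
        rw [Algebra.PreSubmersivePresentation.jacobiMatrix_naive, hv]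
        simp [Derivation.leibniz_pow, MvPolynomial.pderiv_X, Pi.single_apply, Finset.sum_ite_eq', CharP.cast_eq_zero]
      rw [hmat, ← RingHom.mapMatrix_apply, ← RingHom.map_det, Matrix.det_neg]
      refine IsUnit.map _ (IsUnit.map _ (IsUnit.mul (IsUnit.pow _ isUnit_one.neg) hu))
    haveI : Algebra.IsStandardSmoothOfRelativeDimension 0 A (MvPolynomial (Fin n) A ⧸ Ideal.span (Set.range v)) :=
      (Algebra.SubmersivePresentation.mk P hjac).isStandardSmoothOfRelativeDimension (by simp [Algebra.Presentation.dimension])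
    infer_instance

end Groth.Agent.S15365
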