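import Groth.Statements.S15366
import Mathlib
-- import your own Groth.Agent.* helpers here

set_option autoImplicit false
universe u
open CAlg

namespace Groth.Agent.S15366

/-- Let k be an algebraically closed field of characteristic p > 0, R = k[[t₁, t₂]], and O = R_{(t₁)}
the local ring of Spec R at the generic point x of the divisor t₁ = 0 (a discrete valuation ring,
with uniformizer t₁ and residue field k((t₂))). Then O embeds, by an injective local k-algebra map
φ, into some complete discrete valuation ring A containing k whose residue field is algebraically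
closed and in which φ(t₁) is still a uniformizer. The prime ideal (t₁) is passed as an ideal P equal
to it together with its primality. -/
theorem result
    (p : ℕ) [Fact p.Prime] (k : Type u) [Field k] [IsAlgClosed k] [CharP k p]
    (P : Ideal (MvPowerSeries (Fin 2) k))
    (hP : P = Ideal.span {(MvPowerSeries.X 0 : MvPowerSeries (Fin 2) k)}) [P.IsPrime] :
    ∃ (A : Type u) (_ : CommRing A) (_ : IsDomain A) (_ : IsDiscreteValuationRing A) (_ : Algebra k A)
      (φ : Localization.AtPrime P →ₐ[k] A),
      IsAdicComplete (IsLocalRing.maximalIdeal A) A ∧ IsAlgClosed (IsLocalRing.ResidueField A) ∧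
        Function.Injective φ ∧ IsLocalHom φ.toRingHom ∧
          Irreducible (φ (algebraMap (MvPowerSeries (Fin 2) k) (Localization.AtPrime P)
            (MvPowerSeries.X 0))) := by
  classical
  let L := AlgebraicClosure (FractionRing (MvPowerSeries (Fin 1) k))
  let g : MvPowerSeries (Fin 1) k →+* L :=
    (algebraMap (FractionRing (MvPowerSeries (Fin 1) k)) L).comp (algebraMap (MvPowerSeries (Fin 1) k) (FractionRing (MvPowerSeries (Fin 1) k)))
  have hg : Function.Injective g :=
    (algebraMap (FractionRing (MvPowerSeries (Fin 1) k)) L).injective.comp (IsFractionRing.injective _ _)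
  let e := MvPowerSeries.finSuccEquiv k 1
  let ψ : MvPowerSeries (Fin 2) k →+* PowerSeries L := (PowerSeries.map g).comp e.toRingEquiv.toRingHom
  have hψ : Function.Injective ψ := fun a b h => e.injective (PowerSeries.ext fun n => hg (by
    have := congrArg (PowerSeries.coeff n) h
    simpa [ψ, PowerSeries.coeff_map] using this))
  have hX : ψ (MvPowerSeries.X 0) = PowerSeries.X := by
    show PowerSeries.map g (e (MvPowerSeries.X 0)) = _
    rw [MvPowerSeries.finSuccEquiv_X_zero, PowerSeries.map_X]
  have hmem : ∀ f, f ∈ P ↔ PowerSeries.constantCoeff (ψ f) = 0 := fun f => by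
    have h1 : PowerSeries.constantCoeff (ψ f) = g (PowerSeries.constantCoeff (e f)) :=
      rfl
    rw [hP, Ideal.mem_span_singleton, ← map_dvd_iff e, MvPowerSeries.finSuccEquiv_X_zero, PowerSeries.X_dvd_iff, h1,
      map_eq_zero_iff g hg]
  letI : Algebra k (PowerSeries L) := (ψ.comp (algebraMap k (MvPowerSeries (Fin 2) k))).toAlgebra
  let ψ' : MvPowerSeries (Fin 2) k →ₐ[k] PowerSeries L := { ψ with commutes' := fun _ => rfl }
  have hu : ∀ y : P.primeCompl, IsUnit (ψ' y) := fun y =>
    PowerSeries.isUnit_iff_constantCoeff.2 (isUnit_iff_ne_zero.2 fun h => y.2 ((hmem _).2 h))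
  let φ : Localization.AtPrime P →ₐ[k] PowerSeries L := IsLocalization.liftAlgHom hu
  have hφ : ∀ r, φ (algebraMap _ _ r) = ψ r := fun r => IsLocalization.lift_eq _ r
  refine ⟨PowerSeries L, inferInstance, inferInstance, inferInstance, inferInstance, φ, ?_, ?_, ?_, ⟨fun x hx => ?_⟩, ?_⟩
  · rw [PowerSeries.maximalIdeal_eq_span_X]; infer_instance
  · exact IsAlgClosed.of_ringEquiv L _ (PowerSeries.residueFieldOfPowerSeries).symm
  · refine (injective_iff_map_eq_zero _).2 fun x hx => ?_
    obtain ⟨r, s, rfl⟩ := IsLocalization.exists_mk'_eq P.primeCompl x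
    have h := congrArg φ (IsLocalization.mk'_spec (Localization.AtPrime P) r s)
    rw [map_mul, hx, zero_mul, hφ] at h
    rw [hψ (h.symm.trans (map_zero ψ).symm), IsLocalization.mk'_zero]
  · obtain ⟨r, s, rfl⟩ := IsLocalization.exists_mk'_eq P.primeCompl x
    refine (IsLocalization.AtPrime.isUnit_mk'_iff (Localization.AtPrime P) P r s).2 fun hr => ?_
    have h : φ (IsLocalization.mk' _ r s) * φ (algebraMap _ _ (s : MvPowerSeries (Fin 2) k)) = φ (algebraMap _ _ r) := by
      rw [← map_mul, IsLocalization.mk'_spec]
    have hu' : IsUnit (ψ r) := by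
      rw [← hφ r, ← h]
      exact hx.mul (by rw [hφ]; exact hu s)
    exact (isUnit_iff_ne_zero.1 (PowerSeries.isUnit_iff_constantCoeff.1 hu')) ((hmem r).1 hr)
  · rw [hφ, hX]
    exact PowerSeries.X_prime.irreducible

end Groth.Agent.S15366
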