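import Groth.Statements.S15376
import Groth.Agent.Lib.SurfRR10.Curves
import Groth.Agent.S14810
import Groth.Agent.Lib.SmDim19.RelDimVariety

set_option autoImplicit false
set_option maxHeartbeats 1000000
set_option linter.style.haveILetI false
set_option backward.isDefEq.respectTransparency false
set_option backward.isDefEq.respectTransparency.types false
universe u
open CategoryTheory CategoryTheory.Limits AlgebraicGeometry
open Biell

namespace Groth.Agent.S15376

noncomputable local instance instLawS15376 (Y : Scheme.{u}) : PicGrp.Law Y := M2.law Y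

theorem dim_eq_two {k : Type u} [Field k] {X : Scheme.{u}} (f : X ⟶ Spec (CommRingCat.of k)) [IrreducibleSpace X]
    [SmoothOfRelativeDimension 2 f] : topologicalKrullDim X = 2 := by
  haveI : Smooth f := SmoothOfRelativeDimension.smooth 2 f
  haveI : JacobsonSpace X := LocallyOfFiniteType.jacobsonSpace f
  have hn : topologicalKrullDim X = ((VarDim.sdim f (genericPoint X) : ℕ) : WithBot ℕ∞) := by
    exact_mod_cast VarDim.dim_eq_sdim_genericPoint f
  obtain ⟨z, -, hz⟩ := nonempty_inter_closedPoints (X := X) ⟨genericPoint X, Set.mem_univ _⟩ isOpen_univ.isLocallyClosed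
  have h := (SmDim19.ringKrullDim_stalk_closed f hn hz).symm.trans (SmDim19.ringKrullDim_stalk_of_isClosed f 2 hz)
  rw [hn, h]
  rfl


/-- Let k be an algebraically closed field and X a (quasi-)bielliptic surface over k, meaning here: X is
an integral k-scheme, proper and smooth of relative dimension 2 over k and carrying an ample
invertible sheaf, whose canonical sheaf ω (a second exterior power of Ω_{X/k}) is numerically
trivial (degree 0 on every integral closed curve in X) and whose second ℓ-adic Betti number (the
rank of lim_ν H²(X_et, Z/ℓ^ν)) equals 2 for every prime ℓ invertible in k. Then the geometric genus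
p_g(X) = dim_k H²(X, O_X) equals 1 if and only if ω ≅ O_X, i.e. ω has order 1 in Pic(X). (The
published statement is for bielliptic surfaces and has a third equivalent condition, non-reducedness
of the identity component of the Picard scheme, which is not stated here; the equivalence of the two
conditions stated rests only on the numerical triviality of ω on an integral smooth projective
surface, so this row states it for quasi-bielliptic surfaces as well.) -/
theorem result (k : Type u) [Field k] [IsAlgClosed k] (X : Scheme.{u}) [X.Over (Spec (CommRingCat.of k))]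
    [IsIntegral X] [IsProper (X ↘ Spec (CommRingCat.of k))] [SmoothOfRelativeDimension 2 (X ↘ Spec (CommRingCat.of k))]
    (hproj : ∃ H : X.Modules, CohB1.IsAmple H)
    (ω : X.Modules) (hω : Canon.IsTopDiff (X ↘ Spec (CommRingCat.of k)) 2 ω) (hnum : Pic13.IsNumEquivZero k X ω)
    (hb2 : ∀ ℓ : ℕ, ℓ.Prime → (ℓ : k) ≠ 0 → EtAdic.betti X ℓ 2 = 2) :
    Module.finrank k (Coh.HH X (Coh.structureModule X) 2) = 1 ↔ Nonempty (ω ≅ Coh.structureModule X) := by
  have hdim : topologicalKrullDim X = 2 := dim_eq_two (X ↘ Spec (CommRingCat.of k))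
  haveI : Smooth (X ↘ Spec (CommRingCat.of k)) := SmoothOfRelativeDimension.smooth 2 _
  haveI : IsNoetherian X := CohFound.isNoetherian_of_isProper (X ↘ Spec (CommRingCat.of k))
  have hωi : PicF.IsInvertible ω := SurfRR10.isInvertible_canonical (k := k) hdim hω
  have hO := PicLoc.isInvertible_structureModule X
  have h1 : PicGrp.cls (Coh.structureModule X) hO = (1 : PicLoc.PicSet X) := PicGrp.cls_structureModule_eq_one ..
  obtain ⟨e1⟩ := (PicGrp.cls_eq_cls_iff hO (HypSq10.rep_inv (1 : PicLoc.PicSet X))).1
    (h1.trans (HypSq10.cls_rep (1 : PicLoc.PicSet X)).symm)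
  obtain ⟨e2⟩ := (PicGrp.cls_eq_cls_iff hωi (HypSq10.rep_inv ((1 : PicLoc.PicSet X)⁻¹ * PicGrp.cls ω hωi))).1
    (by rw [HypSq10.cls_rep, inv_one, one_mul])
  have hd2 : Module.finrank k (Coh.HH X (Coh.structureModule X) 2) = Module.finrank k (Coh.HH X ω 0) := by
    rw [(CurveCoh17.hequiv k e1 2).finrank_eq, SurfRR10.finrank_duality (k := k) hdim hω hωi 1 (p := 2) le_rfl,
      ← (CurveCoh17.hequiv k e2 (2 - 2)).finrank_eq]
  rw [hd2]
  constructor
  · intro h
    haveI : Nontrivial (Coh.HH X ω 0) := Module.nontrivial_of_finrank_pos (R := k) (by omega)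
    obtain ⟨φ, hφ⟩ := SurfRR10.exists_sec_of_nontrivial (k := k) hdim hωi inferInstance
    refine S14810.result k X (isField_of_universallyClosed k (X ↘ Spec (CommRingCat.of k))) ω hωi hnum φ fun h0 => ?_
    rw [h0, Amp.mem_genLocus_iff hωi, show Amp.gval (0 : Coh.structureModule X ⟶ ω) = 0 from rfl, Amp.gm, map_zero] at hφ
    exact one_ne_zero (hφ.1 ((smul_zero (1 : X.presheaf.stalk (genericPoint X))).trans (smul_zero 0).symm))
  · rintro ⟨e⟩
    rw [(CurveCoh17.hequiv k e 0).finrank_eq]
    exact SurfRR10.finrank_h0_eq_one

end Groth.Agent.S15376
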