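import Groth.Statements.S15382
import Groth.Agent.Lib.DualNorm23.Main
-- import your own Groth.Agent.* helpers here

set_option autoImplicit false
universe u
open GmDual

namespace Groth.Agent.S15382

open CategoryTheory AlgebraicGeometry in
/-- Let f : X' ⟶ X be a finite etale morphism of Noetherian schemes, N : f_* 𝔾_{m,X'} ⟶ 𝔾_{m,X} the norm
map of f as a morphism of abelian sheaves on the big fppf site of X (characterised by: on every
affine test scheme T over X for which the functions of T ×_X X' form a finite free algebra over
those of T, N sends an invertible function to the determinant of multiplication by it), and F' an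
abelian fppf sheaf on X'. Then the induced map on dual sheaves f_* (F'^) ⟶ (f_* F')^, sending a
character of F' over T ×_X X' to the character of f_* F' over T obtained by base-changing test
objects and composing with N, is an isomorphism of fppf sheaves. -/
theorem result (X X' : Scheme.{u}) (f : X' ⟶ X) [IsFinite f] [Etale f]
    [AlgebraicGeometry.IsNoetherian X]
    (N : CGrpSh3.pushGm Scheme.fppfPrecoverage f ⟶ CGrpSh2.Gm Scheme.fppfPrecoverage X)
    (hN : CGrpSh3.IsNormMap Scheme.fppfPrecoverage f N) (F' : BigSite.Ab Scheme.fppfPrecoverage X') :
    IsIso (CGrpSh3.dualNormMap Scheme.fppfPrecoverage f N F') := Groth.Agent.DualNorm23.isIso_dualNormMap f F' N hN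

end Groth.Agent.S15382
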