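import Groth.Statements.S15385
import Groth.Agent.S14195
import Groth.Agent.Lib.StackGal23.FiniteGrp
import Groth.Agent.Lib.TateTors22.TateFinite
import Mathlib.FieldTheory.Finite.Basic
-- import your own Groth.Agent.* helpers here

set_option autoImplicit false
set_option linter.style.haveILetI false
set_option backward.isDefEq.respectTransparency false
set_option backward.isDefEq.respectTransparency.types false
universe u
open StackCount

namespace Groth.Agent.S15385

open CategoryTheory AlgebraicGeometry CartesianMonoidalCategory MonObj in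
/-- Let k be a finite field and G a finite etale group scheme over k (in particular affine over k, so
that every G-torsor is a scheme). For every finite field extension k' of k, the point count of the
classifying stack B(G) over k' — the sum, over the isomorphism classes of the groupoid of
etale-locally trivial G-torsors over Spec k', of the inverse orders of their automorphism groups —
equals 1. The finiteness of that groupoid (finitely many classes, finite automorphism groups) is
carried as a hypothesis. -/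
theorem result (k : Type u) [Field k] [Finite k]
    (G : Over (Spec (CommRingCat.of k))) [GrpObj G] [IsFinite G.hom] [Etale G.hom]
    (k' : Type u) [Field k'] [Algebra k k'] [Module.Finite k k']
    (h : StkCnt.IsEssFinite (StkCnt.pts (AlgSt.BG Scheme.etalePrecoverage G) k')) :
    StkCnt.ptCount (AlgSt.BG Scheme.etalePrecoverage G) k' h = 1 := by
  classical
  haveI : Finite k' := Module.finite_of_finite k
  haveI := Fintype.ofFinite k'
  haveI : LocallyOfFiniteType (MonoidalCategoryStruct.tensorUnit (Over (Spec (CommRingCat.of k)))).hom :=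
    inferInstanceAs (LocallyOfFiniteType (𝟙 (Spec (CommRingCat.of k))))
  let kb := AlgebraicClosure k'
  let π : kb ≃ₐ[k'] kb := FiniteField.frobeniusAlgEquivOfAlgebraic k' kb
  have hπ : ∀ x, π x = x ^ Nat.card k' := fun x => by
    rw [Nat.card_eq_fintype_card]
    rfl
  haveI hA : Finite (SGA7.pt (K := k) kb ⟶ G) := Groth.Agent.TateTors22.finite_points kb G
  letI : MulDistribMulAction (kb ≃ₐ[k'] kb) (SGA7.pt (K := k) kb ⟶ G) := Groth.Agent.StackGal23.galAction k' kb G
  obtain ⟨hbij, hcl⟩ := Groth.Agent.S14195.result k' π hπ (SGA7.pt (K := k) kb ⟶ G)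
    (fun a => Groth.Agent.StackGal23.isOpen_setOf_gal_eq a)
    (fun a => ⟨⊤, Set.toFinite _, trivial, fun _ _ _ => trivial⟩)
  let φ : (SGA7.pt (K := k) kb ⟶ G) →* (SGA7.pt (K := k) kb ⟶ G) := MulDistribMulAction.toMonoidHom _ π
  let J := GpH1.H1lc (kb ≃ₐ[k'] kb) (SGA7.pt (K := k) kb ⟶ G)
  haveI : Finite (GpH1.OneCocycleLC (kb ≃ₐ[k'] kb) (SGA7.pt (K := k) kb ⟶ G)) := Finite.of_injective _ hbij.1
  haveI : Finite J := Finite.of_surjective GpH1.OneCocycleLC.cl fun c =>
    ⟨Quotient.out c, Quotient.out_eq c⟩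
  letI : Fintype J := Fintype.ofFinite J
  let rc : J → GpH1.OneCocycleLC (kb ≃ₐ[k'] kb) (SGA7.pt (K := k) kb ⟶ G) := fun c => Quotient.out c
  have hrc : ∀ c, (rc c).cl = c := fun c => Quotient.out_eq c
  let z : J → (kb ≃ₐ[k'] kb) → (SGA7.pt (K := k) kb ⟶ G) := fun c σ => (rc c).1 σ
  have hz : ∀ c, Groth.Agent.StackGal23.IsCoc kb (z c) := fun c => ⟨(rc c).1.2, (rc c).2⟩
  have huniq : ∀ i j, (∃ g, ∀ σ, z i σ = g⁻¹ * z j σ * σ • g) → i = j := fun i j ⟨g, hg⟩ => by
    rw [← hrc i, ← hrc j]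
    exact (GpH1.OneCocycleLC.cl_eq_cl_iff _ _).2 ⟨g, hg⟩
  have hall : ∀ a, Groth.Agent.StackGal23.IsCoc kb a → ∃ i g, ∀ σ, z i σ = g⁻¹ * a σ * σ • g := fun a ha => by
    let a' : GpH1.OneCocycleLC (kb ≃ₐ[k'] kb) (SGA7.pt (K := k) kb ⟶ G) := ⟨⟨a, ha.1⟩, ha.2⟩
    obtain ⟨g, hg⟩ := (GpH1.OneCocycleLC.cl_eq_cl_iff _ _).1 (hrc a'.cl)
    exact ⟨a'.cl, g, hg⟩
  haveI : ∀ i, Subsingleton (Groth.Agent.StackGal23.Fix kb (AlgSt.trivAction G) (z i)) := fun i =>
    ⟨fun x y => Subtype.ext (toUnit_unique _ _)⟩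
  haveI hne : ∀ i, Nonempty (Groth.Agent.StackGal23.Fix kb (AlgSt.trivAction G) (z i)) := fun i =>
    ⟨⟨toUnit _, fun σ => toUnit_unique _ _⟩⟩
  refine (Groth.Agent.StackGal23.count_eq kb (AlgSt.trivAction G) z hz huniq hall h).trans ?_
  have hcard : ∀ i, Nat.card (Groth.Agent.StackGal23.innFix kb (z i)) =
      Nat.card {g : SGA7.pt (K := k) kb ⟶ G // g * z i π = z i π * φ g} := fun i => by
    refine Nat.card_congr (Equiv.subtypeEquivRight fun g => ?_)
    rw [Groth.Agent.StackGal23.mem_innFix]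
    refine ⟨fun hg => (hg π).symm, fun hg σ => ?_⟩
    have hw := Groth.Agent.StackGal23.isCoc_conj (hz i) g
    let w' : GpH1.OneCocycleLC (kb ≃ₐ[k'] kb) (SGA7.pt (K := k) kb ⟶ G) :=
      ⟨⟨fun σ => g * z i σ * (σ • g)⁻¹, hw.1⟩, hw.2⟩
    have e := @hbij.1 w' (rc i) (by
      show g * z i π * (π • g)⁻¹ = z i π
      exact mul_inv_eq_iff_eq_mul.2 hg)
    have e' : g * z i σ * (σ • g)⁻¹ = z i σ := congrArg (fun w => w.1.1 σ) e
    exact (mul_inv_eq_iff_eq_mul.1 e').symm
  refine Eq.trans (Finset.sum_congr rfl fun i _ => ?_)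
    (Groth.Agent.StackGal23.sum_inv_card_twConj φ (fun i : J => z i π) (fun a => ?_) (fun i j g hg => ?_))
  · rw [Nat.card_unique, hcard, Nat.cast_one, one_div]
  · obtain ⟨w, hw⟩ := hbij.2 a
    obtain ⟨g, hg⟩ := (hcl (rc w.cl) w).1 (hrc w.cl)
    exact ⟨w.cl, g, hw.symm.trans hg⟩
  · rw [← hrc i, ← hrc j]
    exact ((hcl (rc j) (rc i)).2 ⟨g, hg⟩).symm

end Groth.Agent.S15385
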