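import Groth.Statements.S15391
import Mathlib
-- import your own Groth.Agent.* helpers here

set_option autoImplicit false
universe u
open TensorProduct
open TorFree

namespace Groth.Agent.S15391

/-- Let R be a reduced Noetherian commutative ring, M a finitely generated torsion-free R-module (no
non-zero element of M is annihilated by a non-zero-divisor of R), and t an element of M whose image
1 ⊗ t in the fibre κ(p) ⊗_R M vanishes for every prime ideal p of R, κ(p) being the residue field at
p. Then t = 0. This is the affine form of the claim that a global section of a coherent torsion-free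
module on a reduced Noetherian scheme which vanishes in every fibre is zero. -/
theorem result (R : Type u) [CommRing R] [IsReduced R] [IsNoetherianRing R]
    (M : Type u) [AddCommGroup M] [Module R M] [Module.Finite R M] [Module.IsTorsionFree R M]
    (t : M) (ht : ∀ p : PrimeSpectrum R, (1 : p.asIdeal.ResidueField) ⊗ₜ[R] t = (0 : p.asIdeal.ResidueField ⊗[R] M)) :
    t = 0 := by
  classical
  let a : Ideal R := LinearMap.ker (LinearMap.toSpanSingleton R M t)
  have hmin : ∀ p ∈ minimalPrimes R, ¬ a ≤ p := by
    intro p hp hle
    haveI : p.IsPrime := hp.1.1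
    have hfield : IsField (Localization.AtPrime p) := by
      have : Ring.KrullDimLE 0 (Localization.AtPrime p) :=
        .of_isLocalization _ hp _
      exact Ring.KrullDimLE.isField_of_isReduced
    have hbij : Function.Bijective (algebraMap (Localization.AtPrime p) p.ResidueField) :=
      ⟨letI := hfield.toField; RingHom.injective _, IsLocalRing.residue_surjective⟩
    let e : Localization.AtPrime p ≃ₗ[R] p.ResidueField :=
      LinearEquiv.ofBijective (IsScalarTower.toAlgHom R (Localization.AtPrime p) p.ResidueField).toLinearMap hbij
    have h0 : (1 : Localization.AtPrime p) ⊗ₜ[R] t = 0 := by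
      apply (TensorProduct.congr e (LinearEquiv.refl R M)).injective
      rw [TensorProduct.congr_tmul, map_zero]
      convert ht ⟨p, inferInstance⟩ using 2
      · exact map_one (algebraMap (Localization.AtPrime p) p.ResidueField)
      · rfl
    obtain ⟨s, hs⟩ := (IsLocalizedModule.eq_zero_iff p.primeCompl
      (TensorProduct.mk R (Localization.AtPrime p) M 1)).mp h0
    exact s.2 (hle (by simpa [a, Submonoid.smul_def] using hs))
  obtain ⟨s, hsa, hs⟩ : ∃ s ∈ a, ∀ p ∈ minimalPrimes R, s ∉ p := by
    by_contra! h
    have hfin := Ideal.finite_minimalPrimes_of_isNoetherianRing R ⊥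
    have hsub : (a : Set R) ⊆ ⋃ p ∈ hfin.toFinset, (p : Set R) := fun s hs => by
      obtain ⟨p, hp, hsp⟩ := h s hs
      exact Set.mem_iUnion₂.mpr ⟨p, hfin.mem_toFinset.mpr hp, hsp⟩
    obtain ⟨p, hp, hle⟩ := (Ideal.subset_union_prime (⊥ : Ideal R) ⊥
      (fun p hp _ _ => (hfin.mem_toFinset.mp hp).1.1)).mp hsub
    exact hmin p (hfin.mem_toFinset.mp hp) hle
  have hreg : IsRegular s := by
    rw [isRegular_iff_mem_nonZeroDivisors, mem_nonZeroDivisors_iff_right]
    intro x hx
    have : x ∈ nilradical R := by
      rw [nilradical, ← Ideal.sInf_minimalPrimes, Ideal.mem_sInf]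
      intro p hp
      haveI : p.IsPrime := hp.1.1
      exact ((Ideal.IsPrime.mem_or_mem ‹_› (hx.symm ▸ p.zero_mem)).resolve_right (hs p hp))
    exact IsNilpotent.eq_zero (mem_nilradical.mp this)
  exact Module.IsTorsionFree.isSMulRegular hreg (by simpa [a] using hsa)

end Groth.Agent.S15391
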