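import Groth.Statements.S15392
import Groth.Agent.Lib.IsogSplit22.Sum
import Groth.Agent.Lib.Isogeny14.Kernel
import Groth.Agent.Lib.QuotField20.Dim
import Groth.Agent.Lib.Cartier.Smooth
import Groth.Agent.Lib.ParaFDesc27.QcqsBC
import Groth.Agent.Lib.CubeField.Contract

set_option backward.isDefEq.respectTransparency false
set_option backward.isDefEq.respectTransparency.types false
set_option maxHeartbeats 1600000
set_option linter.style.haveILetI false
set_option autoImplicit false
universe u
open CategoryTheory CategoryTheory.Limits MonoidalCategory CartesianMonoidalCategory MonObj GrpObj AlgebraicGeometry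
open AbVar

namespace Groth.Agent.S15392

/-- Let k be an algebraically closed field of characteristic zero, A and B abelian varieties over k
(proper smooth k-group schemes with geometrically connected fibres), π : A → B a homomorphism which
is an isogeny (finite and surjective), and E a finite locally free O_A-module. For a k-rational
point a of A write t_a : A → A for the translation by a (the product of the identity and the
constant map a in the group Hom(A, A)). Then π^*π_*E is isomorphic to the direct sum of the
translates t_a^*E over the k-rational points a of A with π(a) equal to the unit of B, that is over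
the k-points of the kernel of π (existence of an isomorphism). -/
theorem result (k : Type u) [Field k] [IsAlgClosed k] [CharZero k]
    (A B : Over (Spec (CommRingCat.of k))) [GrpObj A] [IsProper A.hom] [Smooth A.hom] [GeometricallyConnected A.hom]
    [GrpObj B] [IsProper B.hom] [Smooth B.hom] [GeometricallyConnected B.hom]
    (π : A ⟶ B) [IsMonHom π] [IsFinite π.left] [Surjective π.left]
    (E : A.left.Modules) (hE : FlatMod.IsFinLocFree E) :
    Nonempty ((Scheme.Modules.pullback π.left).obj ((Scheme.Modules.pushforward π.left).obj E) ≅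
      ∐ fun a : {a : 𝟙_ (Over (Spec (CommRingCat.of k))) ⟶ A // a ≫ π = 1} =>
        (Scheme.Modules.pullback (𝟙 A * (toUnit A ≫ a.1)).left).obj E) := by
  haveI : GeometricallyIntegral A.hom := AbRigid.geometricallyIntegral_of_smooth A
  haveI : AlgebraicGeometry.IsIntegral A.left := GeometricallyIntegral.isIntegral_of_subsingleton A.hom
  haveI : GeometricallyIntegral B.hom := AbRigid.geometricallyIntegral_of_smooth B
  haveI : AlgebraicGeometry.IsIntegral B.left := GeometricallyIntegral.isIntegral_of_subsingleton B.hom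
  haveI := isCommMonObj_of_isProper_of_geometricallyIntegral A
  haveI : Flat π.left := AbRigid.flat_of_surjective_of_isReduced A B π
  -- the kernel
  let K := Isogeny14.kerOver π
  let i := Isogeny14.kerIncl π
  letI : GrpObj K := Isogeny14.kerGrp π
  haveI : IsMonHom i := Isogeny14.isMonHom_kerIncl π
  haveI : Mono i := Isogeny14.mono_kerIncl π
  haveI : IsFinite K.hom := MorphismProperty.of_isPullback (P := @IsFinite)
    (IsPullback.of_hasPullback π.left η[B].left) ‹IsFinite π.left›
  haveI : LocallyOfFiniteType K.hom := inferInstance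
  haveI : Smooth K.hom := Cartier.smooth_of_charZero K
  let v : K ⊗ A ⟶ A := snd K A
  let act : K ⊗ A ⟶ A := (QuotFlat20.leftAction i).act
  have hpb : IsPullback act v π π := QuotField20.isPullback_of_kernel i fun {Z} z z' => by
    constructor
    · intro h
      refine ⟨Isogeny14.kerLift π (z' * z⁻¹) (by rw [MonObj.mul_comp, GrpObj.inv_comp, h, mul_inv_cancel]), ?_⟩
      rw [Isogeny14.kerLift_incl, inv_mul_cancel_right]
    · rintro ⟨f, rfl⟩
      rw [MonObj.mul_comp, Category.assoc, Isogeny14.kerIncl_comp, MonObj.comp_one, _root_.one_mul]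
  have hsq : IsPullback act.left v.left π.left π.left := hpb.map (Over.forget _)
  -- the bottom scheme is reduced
  haveI : IsProper v.left := MorphismProperty.of_isPullback (P := @IsProper) hsq (inferInstance : IsProper π.left)
  haveI : LocallyOfFiniteType (K ⊗ A).hom := by rw [← Over.w v]; infer_instance
  haveI : Smooth (K ⊗ A).hom := inferInstanceAs (Smooth (pullback.fst K.hom A.hom ≫ K.hom))
  haveI := AbRigid.geometricallyReduced_of_smooth (K ⊗ A).hom
  haveI : IsReduced (K ⊗ A).left := GeometricallyReduced.geometrically_isReduced (f := (K ⊗ A).hom) (𝟙 _) (𝟙 _) (K ⊗ A).hom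
    (IsPullback.of_horiz_isIso ⟨by simp⟩)
  haveI : JacobsonSpace (K ⊗ A).left := LocallyOfFiniteType.jacobsonSpace (K ⊗ A).hom
  -- the sections
  let I := {a : 𝟙_ (Over (Spec (CommRingCat.of k))) ⟶ A // a ≫ π = 1}
  let κ : I → (𝟙_ (Over (Spec (CommRingCat.of k))) ⟶ K) := fun a => Isogeny14.kerLift π a.1 a.2
  have hκ : ∀ a, κ a ≫ i = a.1 := fun a => Isogeny14.kerLift_incl π a.1 a.2
  let s : I → (A ⟶ K ⊗ A) := fun a => lift (toUnit A ≫ κ a) (𝟙 A)
  have hs : ∀ a, (s a).left ≫ v.left = 𝟙 A.left := fun a => by
    rw [← Over.comp_left, lift_snd, Over.id_left]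
  have hsact : ∀ a : I, s a ≫ act = 𝟙 A * (toUnit A ≫ a.1) := fun a => by
    show lift (toUnit A ≫ κ a) (𝟙 A) ≫ ((fst K A ≫ i) * snd K A) = _
    rw [MonObj.comp_mul, lift_fst_assoc, lift_snd, Category.assoc, hκ]
    exact mul_comm _ _
  haveI : ∀ a, IsClosedImmersion (s a).left := fun a => by
    haveI : IsClosedImmersion ((s a).left ≫ v.left) := by rw [hs a]; infer_instance
    exact IsClosedImmersion.of_comp (s a).left v.left
  haveI : Finite I := by
    haveI : Finite K.left := by
      have h := K.hom.finite_preimage_singleton (IsLocalRing.closedPoint k)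
      have e : K.hom ⁻¹' {IsLocalRing.closedPoint k} = Set.univ := Set.eq_univ_of_forall fun x =>
        Subsingleton.elim (α := PrimeSpectrum k) _ _
      rw [e] at h
      exact Set.finite_univ_iff.1 h
    refine Finite.of_injective (fun a => CubeField.rpt (κ a)) fun a b h => Subtype.ext ?_
    rw [← hκ a, ← hκ b, CubeField.rpt_injective h]
  let Z : I → Set (K ⊗ A).left := fun a => Set.range (s a).left
  have hZ : ∀ a, IsClosed (Z a) := fun a => (s a).left.isClosedEmbedding.isClosed_range
  have hdisj : ∀ a b : I, a ≠ b → Disjoint (Z a) (Z b) := fun a b hab => by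
    rw [Set.disjoint_iff_inter_eq_empty]
    by_contra hne
    obtain ⟨c, ⟨⟨x, hx⟩, y, hy⟩, hc⟩ := nonempty_inter_closedPoints (Set.nonempty_iff_ne_empty.2 hne)
      ((hZ a).inter (hZ b)).isLocallyClosed
    obtain ⟨t, rfl⟩ := CubeField.exists_rpt (X := K ⊗ A) hc
    have hx' : x = CubeField.rpt (t ≫ v) := by
      rw [CubeField.rpt_comp, ← hx, ← Scheme.Hom.comp_apply, hs a]; rfl
    have hy' : y = CubeField.rpt (t ≫ v) := by
      rw [CubeField.rpt_comp, ← hy, ← Scheme.Hom.comp_apply, hs b]; rfl
    have e1 : t = (t ≫ v) ≫ s a := CubeField.rpt_injective (by rw [CubeField.rpt_comp (t ≫ v), ← hx', hx])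
    have e2 : t = (t ≫ v) ≫ s b := CubeField.rpt_injective (by rw [CubeField.rpt_comp (t ≫ v), ← hy', hy])
    have h1 := congrArg (· ≫ fst K A ≫ i) (e1.symm.trans e2)
    simp only [s, Category.assoc, lift_fst_assoc, comp_toUnit_assoc, hκ] at h1
    rw [show toUnit (𝟙_ (Over (Spec (CommRingCat.of k)))) = 𝟙 _ from toUnit_unique _ _, Category.id_comp, Category.id_comp] at h1
    exact hab (Subtype.ext h1)
  have hcov : ∀ w, ∃ a, w ∈ Z a := fun w => by
    have hU : (Set.univ : Set (K ⊗ A).left) ⊆ ⋃ a, Z a := by
      rw [← closure_closedPoints, (isClosed_iUnion_of_finite hZ).closure_subset_iff]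
      intro c hc
      obtain ⟨t, rfl⟩ := CubeField.exists_rpt (X := K ⊗ A) hc
      let a : I := ⟨t ≫ fst K A ≫ i, by rw [Category.assoc, Category.assoc, Isogeny14.kerIncl_comp, MonObj.comp_one, MonObj.comp_one]⟩
      refine Set.mem_iUnion.2 ⟨a, CubeField.rpt (t ≫ v), ?_⟩
      rw [← CubeField.rpt_comp]
      congr 1
      apply CartesianMonoidalCategory.hom_ext
      · rw [← cancel_mono i]
        simp only [s, Category.assoc, lift_fst_assoc, comp_toUnit_assoc, hκ, a]
        rw [show toUnit (𝟙_ (Over (Spec (CommRingCat.of k)))) = 𝟙 _ from toUnit_unique _ _, Category.id_comp]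
      · rw [Category.assoc, lift_snd, Category.comp_id]
    exact Set.mem_iUnion.1 (hU (Set.mem_univ w))
  have hopen : ∀ a, IsOpen (Z a) := fun a => by
    have e : Z a = (⋃ b : {b : I // b ≠ a}, Z b.1)ᶜ := by
      ext w
      simp only [Set.mem_compl_iff, Set.mem_iUnion, Subtype.exists, not_exists]
      exact ⟨fun hw b hb hwb => Set.disjoint_left.1 (hdisj b a hb) hwb hw, fun h => by
        obtain ⟨b, hb⟩ := hcov w
        by_contra hne
        exact h b (fun e => hne (e ▸ hb)) hb⟩
    rw [e]
    exact (isClosed_iUnion_of_finite fun b : {b : I // b ≠ a} => hZ b.1).isOpen_compl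
  let U : I → (K ⊗ A).left.Opens := fun a => ⟨Z a, hopen a⟩
  -- the decomposition
  haveI : Coh.IsQCoh E := M2.isQCoh_of_isFinLocFree hE
  haveI := ParaFDesc27.isIso_bc0_of_flat hsq E
  let N := (Scheme.Modules.pullback act.left).obj E
  obtain ⟨dec⟩ := IsogSplit22.nonempty_iso_sigma U (fun a b h => hdisj a b h) hcov N
  let F := Scheme.Modules.pushforward v.left
  haveI : PreservesFiniteBiproducts F := Functor.preservesFiniteBiproductsOfAdditive _
  haveI : HasFiniteBiproducts (K ⊗ A).left.Modules := HasFiniteBiproducts.of_hasFiniteProducts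
  haveI : PreservesFiniteCoproducts F := ⟨fun n => preservesCoproductsOfShape_of_preservesBiproductsOfShape F⟩
  have hterm : ∀ a, Nonempty (F.obj ((Scheme.Modules.pushforward (U a).ι).obj
      ((Scheme.Modules.restrictFunctor (U a).ι).obj N)) ≅
      (Scheme.Modules.pullback (𝟙 A * (toUnit A ≫ a.1)).left).obj E) := fun a => by
    have hr : Set.range (s a).left ⊆ Set.range (U a).ι := (Scheme.Opens.range_ι (U a)).symm ▸ subset_rfl
    let l := IsOpenImmersion.lift (U a).ι (s a).left hr
    have hl : l ≫ (U a).ι = (s a).left := IsOpenImmersion.lift_fac _ _ hr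
    haveI : IsClosedImmersion l := by
      haveI : IsClosedImmersion (l ≫ (U a).ι) := by rw [hl]; infer_instance
      exact IsClosedImmersion.of_comp l (U a).ι
    haveI : Surjective l := ⟨fun w => by
      obtain ⟨x, hx⟩ := w.2
      refine ⟨x, (U a).ι.isOpenEmbedding.injective ?_⟩
      rw [← Scheme.Hom.comp_apply, hl]
      exact hx⟩
    haveI : IsIso l := isIso_of_isClosedImmersion_of_surjective l
    have hv : (U a).ι ≫ v.left = inv l := by
      rw [← cancel_epi l, ← Category.assoc, hl, hs a, IsIso.hom_inv_id]
    let Eq : A.left.Modules ≌ (U a).toScheme.Modules := CategoryTheory.Equivalence.mk (Scheme.Modules.pushforward l)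
      (Scheme.Modules.pushforward (inv l))
      ((Scheme.Modules.pushforwardId A.left).symm ≪≫ Scheme.Modules.pushforwardCongr (IsIso.hom_inv_id l).symm ≪≫
        (Scheme.Modules.pushforwardComp l (inv l)).symm)
      (Scheme.Modules.pushforwardComp (inv l) l ≪≫ Scheme.Modules.pushforwardCongr (IsIso.inv_hom_id l) ≪≫
        Scheme.Modules.pushforwardId _)
    let u : Scheme.Modules.pullback l ≅ Scheme.Modules.pushforward (inv l) :=
      (Scheme.Modules.pullbackPushforwardAdjunction l).leftAdjointUniq Eq.symm.toAdjunction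
    refine ⟨(Scheme.Modules.pushforwardComp (U a).ι v.left).app _ ≪≫ (Scheme.Modules.pushforwardCongr hv).app _ ≪≫
      (u.app _).symm ≪≫ (Scheme.Modules.pullback l).mapIso ((Scheme.Modules.restrictFunctorIsoPullback (U a).ι).app N) ≪≫
      (Scheme.Modules.pullbackComp l (U a).ι).app _ ≪≫ (Scheme.Modules.pullbackCongr hl).app _ ≪≫
      (Scheme.Modules.pullbackComp (s a).left act.left).app E ≪≫ (Scheme.Modules.pullbackCongr ?_).app E⟩
    rw [← Over.comp_left, hsact a]
  exact ⟨asIso (CohBC.bc0 π.left π.left v.left act.left hsq.w E) ≪≫ F.mapIso dec.symm ≪≫ PreservesCoproduct.iso F _ ≪≫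
    Sigma.mapIso fun a => (hterm a).some⟩

end Groth.Agent.S15392
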