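import Groth.Statements.S15394
import Groth.Agent.Lib.FMHyp13.HyperSupp
import Groth.Agent.Lib.FMHyp13.Loci

set_option backward.isDefEq.respectTransparency false
set_option backward.isDefEq.respectTransparency.types false
set_option linter.style.haveILetI false
-- import your own Groth.Agent.* helpers here

set_option autoImplicit false
universe u
open CategoryTheory CategoryTheory.Limits MonoidalCategory CartesianMonoidalCategory MonObj GrpObj AlgebraicGeometry
attribute [local instance] HasDerivedCategory.standard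
open AbVar

namespace Groth.Agent.S15394

/-- Let k be an algebraically closed field of characteristic zero, A an abelian variety over k (a proper
smooth k-group scheme with geometrically connected fibres), (A^t, φ) a given dual abelian variety of
A for the fppf topology with A^t itself an abelian variety, and P an invertible module on A ×_k A^t
whose class is a Poincaré class; for a k-rational point α of A^t write P_α for the restriction of P
along A = A × {α} → A ×_k A^t. For an object K of D(O_A) and i ≥ 0 let V^i(K) ⊆ A^t be the set of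
points underlying the k-rational points α with hypercohomology H^i(A, K ⊗^L P_α) ≠ 0, and call K a
GV object when for every i ≥ 0 the closure of V^i(K) has codimension at least i in A^t (its
dimension plus i is at most dim A^t); for an O_A-module the same words are used with sheaf
cohomology H^i(A, F ⊗ P_α). Let I and J be quasi-coherent ideal sheaves of O_A whose closed
subschemes have dimension at most one, and M an invertible O_A-module. If the derived tensor product
I ⊗^L J ⊗ M is a GV object, then the ordinary tensor product I ⊗ J ⊗ M is a GV module and so is IJ ⊗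
M, IJ being the product ideal sheaf. The derived functors involved are assumed to exist. -/
theorem result (k : Type u) [Field k] [IsAlgClosed k] [CharZero k]
    (A At : Over (Spec (CommRingCat.of k))) [GrpObj A] [IsProper A.hom] [Smooth A.hom] [GeometricallyConnected A.hom]
    [GrpObj At] [IsProper At.hom] [Smooth At.hom] [GeometricallyConnected At.hom]
    (φ : ∀ T : Over (Spec (CommRingCat.of k)), PicF.Cl (PicF.XT A.hom T) → (T ⟶ At))
    (hφ : AbDual.IsDualAV Scheme.fppfPrecoverage A At φ)
    (P : (pullback A.hom At.hom).Modules) (hP : PicF.IsInvertible P)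
    (hPξ : AbDual.IsPoincareCl A At φ (PicF.cl P))
    (I J : A.left.IdealSheafData) (hI : topologicalKrullDim ↥I.subscheme ≤ 1) (hJ : topologicalKrullDim ↥J.subscheme ≤ 1)
    (M : A.left.Modules) (hM : PicF.IsInvertible M)
    [DCoh.HasLTensorMod (ClSub.idealMod J)] [DCoh.HasLTensorMod M]
    [∀ α : 𝟙_ (Over (Spec (CommRingCat.of k))) ⟶ At, DCoh.HasLTensorMod ((Scheme.Modules.pullback (CartesianMonoidalCategory.lift (𝟙 A) (toUnit A ≫ α)).left).obj P)]
    [DCoh.HasRΓ A.left]
    (hGV : ∀ i : ℕ, topologicalKrullDim ↥(closure {y : ↥At.left | ∃ α : 𝟙_ (Over (Spec (CommRingCat.of k))) ⟶ At, (∃ p : ↥(𝟙_ (Over (Spec (CommRingCat.of k)))).left, α.left p = y) ∧ ¬ IsZero ((DerivedCategory.homologyFunctor AddCommGrpCat.{u} (i : ℤ)).obj ((DCoh.RΓ A.left).obj ((DCoh.LTensorMod ((Scheme.Modules.pullback (CartesianMonoidalCategory.lift (𝟙 A) (toUnit A ≫ α)).left).obj P)).obj ((DCoh.LTensorMod M).obj ((DCoh.LTensorMod (ClSub.idealMod J)).obj (DCoh.inD A.left (ClSub.idealMod I)))))))}) + (i : WithBot ℕ∞) ≤ topologicalKrullDim ↥At.left)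 :
    (∀ i : ℕ, topologicalKrullDim ↥(closure {y : ↥At.left | ∃ α : 𝟙_ (Over (Spec (CommRingCat.of k))) ⟶ At, (∃ p : ↥(𝟙_ (Over (Spec (CommRingCat.of k)))).left, α.left p = y) ∧ ¬ Subsingleton (Coh.HH A.left (CohB1.tensorMod (CohB1.tensorMod (CohB1.tensorMod (ClSub.idealMod I) (ClSub.idealMod J)) M) ((Scheme.Modules.pullback (CartesianMonoidalCategory.lift (𝟙 A) (toUnit A ≫ α)).left).obj P)) i)}) + (i : WithBot ℕ∞) ≤ topologicalKrullDim ↥At.left) ∧
    (∀ i : ℕ, topologicalKrullDim ↥(closure {y : ↥At.left | ∃ α : 𝟙_ (Over (Spec (CommRingCat.of k))) ⟶ At, (∃ p : ↥(𝟙_ (Over (Spec (CommRingCat.of k)))).left, α.left p = y) ∧ ¬ Subsingleton (Coh.HH A.left (CohB1.tensorMod (CohB1.tensorMod (ClSub.idealMod (I * J)) M) ((Scheme.Modules.pullback (CartesianMonoidalCategory.lift (𝟙 A) (toUnit A ≫ α)).left).obj P)) i)}) + (i : WithBot ℕ∞) ≤ topologicalKrullDim ↥At.left) := by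
  letI : A.left.Over (Spec (CommRingCat.of k)) := ⟨A.hom⟩
  haveI : IsProper (A.left ↘ (Spec (CommRingCat.of k))) := inferInstanceAs (IsProper A.hom)
  haveI : IsNoetherian A.left := CohFound.isNoetherian_of_isProper A.hom
  let Z : Set ↥A.left := Set.range I.subschemeι
  have hZ : topologicalKrullDim Z ≤ 1 :=
    ((I.subschemeι.isEmbedding.toHomeomorph).isHomeomorph.topologicalKrullDim_eq).symm.trans_le hI
  have hJc : Coh.IsCoh (ClSub.idealMod J) := CurveCoh17.isCoh_idealMod J
  have hT := FMHyp13.exists_lTensor_ideal (fun x => SmoothReg17.isRegularLocalRing_stalk A.hom x) I hJc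
  let Pa : (𝟙_ (Over (Spec (CommRingCat.of k))) ⟶ At) → A.left.Modules := fun α =>
    (Scheme.Modules.pullback (CartesianMonoidalCategory.lift (𝟙 A) (toUnit A ≫ α)).left).obj P
  have hPa : ∀ α, PicF.IsInvertible (Pa α) := fun α => PicLoc.isInvertible_pullback _ hP
  have key : ∀ (α : 𝟙_ (Over (Spec (CommRingCat.of k))) ⟶ At) (i : ℕ), 1 ≤ i →
      IsZero ((DerivedCategory.homologyFunctor AddCommGrpCat.{u} (i : ℤ)).obj ((DCoh.RΓ A.left).obj
        ((DCoh.LTensorMod (Pa α)).obj ((DCoh.LTensorMod M).obj ((DCoh.LTensorMod (ClSub.idealMod J)).obj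
          (DCoh.inD A.left (ClSub.idealMod I))))))) →
      Subsingleton (Coh.HH A.left (CohB1.tensorMod (CohB1.tensorMod (CohB1.tensorMod (ClSub.idealMod I)
        (ClSub.idealMod J)) M) (Pa α)) i) ∧
      Subsingleton (Coh.HH A.left (CohB1.tensorMod (CohB1.tensorMod (ClSub.idealMod (I * J)) M) (Pa α)) i) := by
    intro α i hi h
    have h1 := FMHyp13.subsingleton_HH_top k hZ (FMHyp13.twist_shape (hPa α) (FMHyp13.twist_shape hM hT)) i hi h
    refine ⟨h1, ?_⟩
    obtain ⟨ψ, hψ, hsupp⟩ := FMHyp13.exists_epi_mul I J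
    haveI := PnKoszul9.preservesFiniteLimits_tensorRightMod M hM
    haveI := PnKoszul9.preservesFiniteLimits_tensorRightMod (Pa α) (hPa α)
    let S : ShortComplex A.left.Modules := ShortComplex.mk (kernel.ι ψ) ψ (kernel.condition ψ)
    have hS : S.ShortExact :=
      { exact := ShortComplex.exact_of_f_is_kernel _ (kernelIsKernel ψ), mono_f := inferInstance, epi_g := hψ }
    have hk : Coh.IsCoh (kernel ψ) :=
      M1.isCoh_kernel (CohFound.isCoh_tensor (CurveCoh17.isCoh_idealMod I) hJc)
        (CurveCoh17.isCoh_idealMod (I * J)).1 ψ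
    exact FMHyp13.subsingleton_HH_quot k hZ (S := (S.map (DCoh.tensorRightMod M)).map (DCoh.tensorRightMod (Pa α)))
      ((hS.map_of_exact (DCoh.tensorRightMod M)).map_of_exact (DCoh.tensorRightMod (Pa α)))
      (CohFound.isCoh_tensor (CohFound.isCoh_tensor hk (CubeField.isCoh_of_isInvertible hM))
        (CubeField.isCoh_of_isInvertible (hPa α)))
      (((FMHyp13.support_tensor_left _ _).trans (FMHyp13.support_tensor_left _ _)).trans hsupp) i hi h1
  refine ⟨fun i => ?_, fun i => ?_⟩ <;> rcases Nat.eq_zero_or_pos i with rfl | hi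
  · simp only [Nat.cast_zero, add_zero]
    exact Topology.IsInducing.subtypeVal.topologicalKrullDim_le
  · refine le_trans (add_le_add ?_ le_rfl) (hGV i)
    refine (Topology.IsEmbedding.inclusion (closure_mono ?_)).isInducing.topologicalKrullDim_le
    rintro y ⟨α, hy, h⟩
    exact ⟨α, hy, fun hz => h (key α i hi hz).1⟩
  · simp only [Nat.cast_zero, add_zero]
    exact Topology.IsInducing.subtypeVal.topologicalKrullDim_le
  · refine le_trans (add_le_add ?_ le_rfl) (hGV i)
    refine (Topology.IsEmbedding.inclusion (closure_mono ?_)).isInducing.topologicalKrullDim_le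
    rintro y ⟨α, hy, h⟩
    exact ⟨α, hy, fun hz => h (key α i hi hz).2⟩

end Groth.Agent.S15394
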