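import Groth.Statements.S15395
import Groth.Agent.Lib.FMHyp13.Loci

set_option backward.isDefEq.respectTransparency false
set_option backward.isDefEq.respectTransparency.types false
set_option linter.style.haveILetI false

set_option autoImplicit false
universe u
open CategoryTheory CategoryTheory.Limits MonoidalCategory CartesianMonoidalCategory MonObj GrpObj AlgebraicGeometry
attribute [local instance] HasDerivedCategory.standard
open AbVar

namespace Groth.Agent.S15395

/-- Let k be an algebraically closed field of characteristic zero, A an abelian variety over k (a proper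
smooth k-group scheme with geometrically connected fibres), (A^t, φ) a given dual abelian variety of
A for the fppf topology with A^t itself an abelian variety, and P an invertible module on A ×_k A^t
whose class is a Poincaré class; for a k-rational point α of A^t write P_α for the restriction of P
along A = A × {α} → A ×_k A^t. Let E be a coherent O_A-module satisfying IT(0): H^i(A, E ⊗ P_α) = 0
for every i ≥ 1 and every α. Let F be an object of D(O_A), bounded with coherent cohomology sheaves,
which is a GV object: for every i ≥ 0 the closure in A^t of the set of points underlying the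
k-rational points α with hypercohomology H^i(A, F ⊗^L P_α) ≠ 0 has codimension at least i (its
dimension plus i is at most dim A^t). Then the derived tensor product F ⊗^L E satisfies the IT(0)
vanishing: H^i(A, (F ⊗^L E) ⊗^L P_α) = 0 for every i ≥ 1 and every k-rational point α of A^t. The
derived functors involved are assumed to exist. (IT(0) is taken to mean vanishing of H^i for every i
≥ 1 and every α; nothing is asserted about H^0 or about negative degrees, where F ⊗^L E may have
hypercohomology.) -/
theorem result (k : Type u) [Field k] [IsAlgClosed k] [CharZero k]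
    (A At : Over (Spec (CommRingCat.of k))) [GrpObj A] [IsProper A.hom] [Smooth A.hom] [GeometricallyConnected A.hom]
    [GrpObj At] [IsProper At.hom] [Smooth At.hom] [GeometricallyConnected At.hom]
    (φ : ∀ T : Over (Spec (CommRingCat.of k)), PicF.Cl (PicF.XT A.hom T) → (T ⟶ At))
    (hφ : AbDual.IsDualAV Scheme.fppfPrecoverage A At φ)
    (P : (pullback A.hom At.hom).Modules) (hP : PicF.IsInvertible P)
    (hPξ : AbDual.IsPoincareCl A At φ (PicF.cl P))
    (E : A.left.Modules) (hE : Coh.IsCoh E)
    (hE0 : ∀ (α : 𝟙_ (Over (Spec (CommRingCat.of k))) ⟶ At) (i : ℕ), 1 ≤ i → Subsingleton (Coh.HH A.left (CohB1.tensorMod E ((Scheme.Modules.pullback (CartesianMonoidalCategory.lift (𝟙 A) (toUnit A ≫ α)).left).obj P)) i))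
    (F : DCoh.D A.left) (hF : DCoh.IsCohD F) (m n : ℤ) (hFm : DerivedCategory.IsGE F m) (hFn : DerivedCategory.IsLE F n)
    [DCoh.HasLTensorMod E] [∀ α : 𝟙_ (Over (Spec (CommRingCat.of k))) ⟶ At, DCoh.HasLTensorMod ((Scheme.Modules.pullback (CartesianMonoidalCategory.lift (𝟙 A) (toUnit A ≫ α)).left).obj P)] [DCoh.HasRΓ A.left]
    (hGV : ∀ i : ℕ, topologicalKrullDim ↥(closure {y : ↥At.left | ∃ α : 𝟙_ (Over (Spec (CommRingCat.of k))) ⟶ At, (∃ p : ↥(𝟙_ (Over (Spec (CommRingCat.of k)))).left, α.left p = y) ∧ ¬ IsZero ((DerivedCategory.homologyFunctor AddCommGrpCat.{u} (i : ℤ)).obj ((DCoh.RΓ A.left).obj ((DCoh.LTensorMod ((Scheme.Modules.pullback (CartesianMonoidalCategory.lift (𝟙 A) (toUnit A ≫ α)).left).obj P)).obj F)))}) + (i : WithBot ℕ∞) ≤ topologicalKrullDim ↥At.left)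
    (α : 𝟙_ (Over (Spec (CommRingCat.of k))) ⟶ At) (i : ℕ) (hi : 1 ≤ i) :
    IsZero ((DerivedCategory.homologyFunctor AddCommGrpCat.{u} (i : ℤ)).obj ((DCoh.RΓ A.left).obj ((DCoh.LTensorMod ((Scheme.Modules.pullback (CartesianMonoidalCategory.lift (𝟙 A) (toUnit A ≫ α)).left).obj P)).obj ((DCoh.LTensorMod E).obj F)))) := by
  haveI : IsLocallyNoetherian A.left := LocallyOfFiniteType.isLocallyNoetherian A.hom
  have hFp : DCoh.IsPerfect F := DPerf.isPerfect_iff_approx.2 (DPerf.isPerfect_of_regular
    (fun x => SmoothReg17.isRegularLocalRing_stalk A.hom x) (n + 1 - m).toNat m F hFm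
    (fun j hj => DerivedCategory.isZero_of_isLE F n j (by omega)) hF)
  haveI : GeometricallyIntegral A.hom := AbRigid.geometricallyIntegral_of_smooth A
  haveI : GeometricallyIntegral At.hom := AbRigid.geometricallyIntegral_of_smooth At
  obtain ⟨g, hg⟩ := Index22.exists_dim (A := A)
  obtain ⟨hgt, -⟩ := FMBase13.isPLike_swP hφ hP hPξ hg
  haveI : ConnectedSpace At.left := GeometricallyConnected.connectedSpace_of_subsingleton At.hom
  haveI := AbRigid.irreducibleSpace_of_isAlgClosed At
  obtain ⟨-, c, b, hc, -⟩ := FMHyp13.exists_bounds_phiK (At := At) hP hFp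
  haveI := hc
  exact FMHyp13.isZero_rGamma_tensor hφ hP hPξ hE hE0 hF m n hFm hFn c
    (FMHyp13.le_dim_stalk_of_mem_support hP hFp hgt (fun j => (hGV j).trans (le_of_eq hgt))) α i hi

end Groth.Agent.S15395
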