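import Groth.Statements.S15396
import Groth.Agent.Lib.FMHyp13.IdealUnitDual

set_option backward.isDefEq.respectTransparency false
set_option backward.isDefEq.respectTransparency.types false
set_option linter.style.haveILetI false
-- import your own Groth.Agent.* helpers here

set_option autoImplicit false
universe u
open CategoryTheory CategoryTheory.Limits MonoidalCategory CartesianMonoidalCategory MonObj GrpObj AlgebraicGeometry
attribute [local instance] HasDerivedCategory.standard
open AbVar

namespace Groth.Agent.S15396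

/-- Let k be an algebraically closed field of characteristic zero and A an abelian variety over k (a
proper smooth k-group scheme with geometrically connected fibres) of dimension g ≥ 2, with unit
section e : Spec k → A. Let I_0 ⊆ O_A be the ideal sheaf of the unit point (the kernel of O_A →
e_*O_{Spec k}) and I_0^∨ = RHom(I_0, O_A) its derived dual in D(O_A), whose cohomology sheaves are
the sheaves Ext^p(I_0, O_A); the derived functors involved are assumed to exist. Then Ext^0(I_0,
O_A) is isomorphic to O_A, Ext^{g−1}(I_0, O_A) is isomorphic to the skyscraper e_*O_{Spec k}, and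
Ext^p(I_0, O_A) = 0 for every integer p different from 0 and g − 1 (existence of isomorphisms). (The
published table is printed without restriction on g and twisted by a principal polarization, which
does not change the computation; for g = 1 the degrees 0 and g − 1 coincide and Hom(I_0, O_A) is the
invertible module O_A(0), so the table is stated here for g ≥ 2, the case in which it is used.) -/
theorem result (k : Type u) [Field k] [IsAlgClosed k] [CharZero k]
    (A : Over (Spec (CommRingCat.of k))) [GrpObj A] [IsProper A.hom] [Smooth A.hom] [GeometricallyConnected A.hom]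
    (g : ℕ) (hg : topologicalKrullDim ↥A.left = g) (hg2 : 2 ≤ g)
    [DCoh.HasLTensorCx ((HomologicalComplex.single A.left.Modules (ComplexShape.up ℤ) 0).obj (kernel (ClSub.unitToPush η[A].left)))] [DCoh.HasRSheafHom ((HomologicalComplex.single A.left.Modules (ComplexShape.up ℤ) 0).obj (kernel (ClSub.unitToPush η[A].left)))] :
    Nonempty (DCoh.HD ((DCoh.RSheafHom ((HomologicalComplex.single A.left.Modules (ComplexShape.up ℤ) 0).obj (kernel (ClSub.unitToPush η[A].left)))).obj (DCoh.inD A.left (Coh.structureModule A.left))) 0 ≅ Coh.structureModule A.left) ∧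
    Nonempty (DCoh.HD ((DCoh.RSheafHom ((HomologicalComplex.single A.left.Modules (ComplexShape.up ℤ) 0).obj (kernel (ClSub.unitToPush η[A].left)))).obj (DCoh.inD A.left (Coh.structureModule A.left))) ((g : ℤ) - 1) ≅
      (Scheme.Modules.pushforward η[A].left).obj (Coh.structureModule (Spec (CommRingCat.of k)))) ∧
    (∀ p : ℤ, p ≠ 0 → p ≠ (g : ℤ) - 1 → IsZero (DCoh.HD ((DCoh.RSheafHom ((HomologicalComplex.single A.left.Modules (ComplexShape.up ℤ) 0).obj (kernel (ClSub.unitToPush η[A].left)))).obj (DCoh.inD A.left (Coh.structureModule A.left))) p)) := by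
  obtain ⟨T, hT, ⟨e₁⟩, ⟨e₂⟩, ⟨e₃⟩, -⟩ := FMHyp13.UnitDual.exists_idealOne_triangle A hg (by omega)
  let H := fun p => DerivedCategory.homologyFunctor A.left.Modules p
  let s := fun (n : ℤ) => ((shiftFunctorZero (DCoh.D A.left) ℤ).app (DCoh.inD A.left (Coh.structureModule A.left))).symm
  have z₁ : ∀ p : ℤ, p ≠ 0 → IsZero ((H p).obj T.obj₁) := fun p hp =>
    (FMHyp13.KernelDual.isZero_HD_inD_shift (Coh.structureModule A.left) 0 p (by omega)).of_iso
      ((H p).mapIso (e₁ ≪≫ s 0))
  have z₃ : ∀ p : ℤ, p ≠ (g : ℤ) - 1 → IsZero ((H p).obj T.obj₃) := fun p hp =>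
    (FMHyp13.KernelDual.isZero_HD_inD_shift (FMHyp13.UnitDual.skyOne A) (-((g : ℤ) - 1)) p (by omega)).of_iso
      ((H p).mapIso e₃)
  have ex₂ := fun p => DerivedCategory.HomologySequence.exact₂ T hT p
  have ex₁ := fun p q (h : p + 1 = q) => DerivedCategory.HomologySequence.exact₁ T hT p q h
  have ex₃ := fun p q (h : p + 1 = q) => DerivedCategory.HomologySequence.exact₃ T hT p q h
  refine ⟨?_, ?_, fun p hp0 hpg => ?_⟩
  · obtain ⟨a⟩ := FMHyp13.KernelDual.nonempty_HD_inD_shift (Coh.structureModule A.left) 0 0 (by omega)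
    haveI : Mono ((H 0).map T.mor₁) := (ex₁ (-1) 0 (by omega)).mono_g ((z₃ (-1) (by omega)).eq_of_src _ _)
    haveI : Epi ((H 0).map T.mor₁) := (ex₂ 0).epi_f ((z₃ 0 (by omega)).eq_of_tgt _ _)
    haveI : IsIso ((H 0).map T.mor₁) := isIso_of_mono_of_epi _
    exact ⟨(H 0).mapIso e₂.symm ≪≫ (asIso ((H 0).map T.mor₁)).symm ≪≫ (H 0).mapIso (e₁ ≪≫ s 0) ≪≫ a⟩
  · obtain ⟨a⟩ := FMHyp13.KernelDual.nonempty_HD_inD_shift (FMHyp13.UnitDual.skyOne A) (-((g : ℤ) - 1))
      ((g : ℤ) - 1) (by omega)
    haveI : Mono ((H ((g : ℤ) - 1)).map T.mor₂) := (ex₂ _).mono_g ((z₁ _ (by omega)).eq_of_src _ _)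
    haveI : Epi ((H ((g : ℤ) - 1)).map T.mor₂) :=
      (ex₃ ((g : ℤ) - 1) (g : ℤ) (by omega)).epi_f ((z₁ _ (by omega)).eq_of_tgt _ _)
    haveI : IsIso ((H ((g : ℤ) - 1)).map T.mor₂) := isIso_of_mono_of_epi _
    exact ⟨(H _).mapIso e₂.symm ≪≫ asIso ((H ((g : ℤ) - 1)).map T.mor₂) ≪≫ (H _).mapIso e₃ ≪≫ a⟩
  · exact ((ex₂ p).isZero_X₂ ((z₁ p hp0).eq_of_src _ _) ((z₃ p hpg).eq_of_tgt _ _)).of_iso ((H p).mapIso e₂.symm)

end Groth.Agent.S15396
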