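import Groth.Statements.S15397
import Groth.Agent.Lib.PP13.MulSec
import Groth.Agent.Lib.AbDual21.Phi
import Groth.Agent.Lib.CurveCoh17.Skyscraper

set_option autoImplicit false
set_option backward.isDefEq.respectTransparency false
set_option backward.isDefEq.respectTransparency.types false
universe u
open CategoryTheory CategoryTheory.Limits MonoidalCategory CartesianMonoidalCategory MonObj GrpObj AlgebraicGeometry
open AbVar

namespace Groth.Agent.S15397

/-- Let k be an algebraically closed field of characteristic zero, A an abelian variety over k (a proper
smooth k-group scheme with geometrically connected fibres), and E a finite locally free O_A-module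
of rank r which is generically globally generated: there are a non-empty open subset U of A and a
family of global sections s_j : O_A → E such that the induced map from the direct sum of copies of
O_A to E is an epimorphism after restriction to U. Assume that r is smaller than the dimension over
k of H^0(A, E), and let D be a determinant of E, that is an r-th exterior power of E. Then the
multiplication map on global sections Γ(A, E) ⊗ Γ(A, D) → Γ(A, E ⊗ D), written as the canonical map
from the global sections of the sectionwise tensor product presheaf (the tensor being over the ring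
of global functions Γ(A, O_A)) to the global sections of its sheafification, is not injective. -/
theorem result (k : Type u) [Field k] [IsAlgClosed k] [CharZero k]
    (A : Over (Spec (CommRingCat.of k))) [GrpObj A] [IsProper A.hom] [Smooth A.hom] [GeometricallyConnected A.hom]
    (E : A.left.Modules) (r : ℕ) (hE : FlatMod.IsFinLocFreeOfRank r E)
    (hgen : ∃ (U : A.left.Opens) (J : Type u) (s : J → (Coh.structureModule A.left ⟶ E)),
      (U : Set ↥A.left).Nonempty ∧ Epi ((Scheme.Modules.restrictFunctor U.ι).map (Sigma.desc s)))
    (hlt : r < @Module.finrank k (Coh.HH A.left E 0) _ _ (@Coh.moduleOver k _ A.left ⟨A.hom⟩ E 0))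
    (D : A.left.Modules) (hD : ExtPow.IsExtPow r E D) :
    ¬ Function.Injective
      ((toSheafify (Opens.grothendieckTopology ↥A.left) (CohB1.tensorPre E D).presheaf).app (Opposite.op ⊤)) := by
  letI : A.left.Over (Spec (CommRingCat.of k)) := ⟨A.hom⟩
  haveI := AbRigid.geometricallyReduced_of_smooth A.hom
  haveI := AbRigid.geometricallyIntegral_of_smooth A
  haveI : AlgebraicGeometry.IsIntegral A.left := GeometricallyIntegral.isIntegral_of_subsingleton A.hom
  have hbij : Function.Bijective (Coh.toGlobal A.hom) :=
    (AbDual21.bijective_appTop A.hom).comp
      ((ConcreteCategory.isIso_iff_bijective (Scheme.ΓSpecIso (CommRingCat.of k)).inv).1 inferInstance)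
  have hfield : IsField Γ(A.left, ⊤) :=
    (RingEquiv.ofBijective (Coh.toGlobal A.hom) hbij).symm.toMulEquiv.isField (Field.toIsField k)
  refine PP13.not_injective_mul hE hfield hgen (fun t => ?_) hD
  by_contra hcon
  push Not at hcon
  let L : (Fin r → k) →ₗ[k] Coh.HH A.left E 0 :=
    Fintype.linearCombination k fun i => (CurveCoh17.hh0 E).symm (t i)
  have hL : Function.Surjective L := fun x => by
    obtain ⟨c, hc⟩ := Submodule.mem_span_range_iff_exists_fun _ |>.1 (hcon (CurveCoh17.hh0 E x))
    choose a ha using fun i => hbij.2 (c i)
    refine ⟨a, (CurveCoh17.hh0 E).injective ?_⟩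
    simp only [L, Fintype.linearCombination_apply, map_sum]
    rw [← hc]
    refine Finset.sum_congr rfl fun i _ => ?_
    show CurveCoh17.hh0 E (Coh.toGlobal A.hom (a i) • (CurveCoh17.hh0 E).symm (t i)) = _
    rw [CurveCoh17.hh0_smul, AddEquiv.apply_symm_apply, ha i]
  have h1 := L.finrank_range_le
  rw [LinearMap.range_eq_top.2 hL, finrank_top, Module.finrank_fin_fun] at h1
  exact absurd h1 (not_le.2 hlt)

end Groth.Agent.S15397
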