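import Groth.Statements.S15398
import Groth.Agent.Lib.PP13.Filt
import Groth.Agent.Lib.PP13.Nbhd
import Groth.Agent.Lib.PP13.TwistVan
import Groth.Agent.Lib.PP12.PMod

set_option autoImplicit false
set_option backward.isDefEq.respectTransparency false
set_option backward.isDefEq.respectTransparency.types false
set_option maxHeartbeats 1000000
universe u
open CategoryTheory CategoryTheory.Limits MonoidalCategory CartesianMonoidalCategory MonObj GrpObj AlgebraicGeometry
open AbVar

namespace Groth.Agent.S15398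

open Groth.Agent Groth.Agent.AlgEquiv22

noncomputable local instance instLawS15398 (Y : Scheme.{u}) : PicGrp.Law Y := M2.law Y

/-- Let k be an algebraically closed field of characteristic zero, A an abelian variety over k (a proper
smooth k-group scheme with geometrically connected fibres) of dimension g ≥ 2, (A^t, φ) a given dual
abelian variety of A for the fppf topology with A^t itself an abelian variety, and P an invertible
module on A ×_k A^t whose class is a Poincaré class; for a k-rational point α of A^t write P_α for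
the restriction of P along A = A × {α} → A ×_k A^t. Let L be an ample invertible O_A-module with an
inverse L' (L ⊗ L' ≅ O_A), n ≥ 0, and P^n(L) the sheaf of principal parts of order n of L relative
to k with its left O_A-module structure (the direct image along the first projection of the pullback
of L along the second projection of the n-th infinitesimal neighbourhood of the diagonal). For
integers b, c ≥ 1, so that t = c/b − 1 is any rational number greater than −1, let b_A : A → A be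
multiplication by b (the b-th power of the identity in the group Hom(A, A)). Then for every
k-rational point α of A^t the module b_A^*P^n(L) ⊗ L^{⊗ cb} ⊗ L'^{⊗ b·b} ⊗ P_α has vanishing
cohomology H^j for every j ≥ 1, and its space of global sections H^0 has dimension b^g · c^g ·
h^0(L) · binom(n + g, g) over k, h^0(L) being the dimension of H^0(A, L). In the language of
Q-twisted sheaves: P^n(L)⟨tℓ⟩ satisfies IT(0) and has h^0 = (1 + t)^g h^0(L) binom(n+g, g) for every
t > −1. -/
theorem result (k : Type u) [Field k] [IsAlgClosed k] [CharZero k]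
    (A At : Over (Spec (CommRingCat.of k))) [GrpObj A] [IsProper A.hom] [Smooth A.hom] [GeometricallyConnected A.hom]
    [GrpObj At] [IsProper At.hom] [Smooth At.hom] [GeometricallyConnected At.hom]
    (φ : ∀ T : Over (Spec (CommRingCat.of k)), PicF.Cl (PicF.XT A.hom T) → (T ⟶ At))
    (hφ : AbDual.IsDualAV Scheme.fppfPrecoverage A At φ)
    (P : (pullback A.hom At.hom).Modules) (hP : PicF.IsInvertible P)
    (hPξ : AbDual.IsPoincareCl A At φ (PicF.cl P))
    (g : ℕ) (hg : topologicalKrullDim ↥A.left = g) (hg2 : 2 ≤ g)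
    (L L' : A.left.Modules) (hL : CohB1.IsAmple L) (hLL' : Nonempty (CohB1.tensorMod L L' ≅ Coh.structureModule A.left))
    (n b c : ℕ) (hb : 1 ≤ b) (hc : 1 ≤ c) (α : 𝟙_ (Over (Spec (CommRingCat.of k))) ⟶ At) :
    (∀ j : ℕ, 1 ≤ j → Subsingleton (Coh.HH A.left (CohB1.tensorMod (CohB1.tensorMod (CohB1.tensorMod ((Scheme.Modules.pullback ((𝟙 A) ^ b).left).obj (PrinPart.PMod A.hom n L)) (CohB1.tensorPow L (c * b))) (CohB1.tensorPow L' (b * b))) ((Scheme.Modules.pullback (CartesianMonoidalCategory.lift (𝟙 A) (toUnit A ≫ α)).left).obj P)) j)) ∧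
    @Module.finrank k (Coh.HH A.left (CohB1.tensorMod (CohB1.tensorMod (CohB1.tensorMod ((Scheme.Modules.pullback ((𝟙 A) ^ b).left).obj (PrinPart.PMod A.hom n L)) (CohB1.tensorPow L (c * b))) (CohB1.tensorPow L' (b * b))) ((Scheme.Modules.pullback (CartesianMonoidalCategory.lift (𝟙 A) (toUnit A ≫ α)).left).obj P)) 0) _ _ (@Coh.moduleOver k _ A.left ⟨A.hom⟩ (CohB1.tensorMod (CohB1.tensorMod (CohB1.tensorMod ((Scheme.Modules.pullback ((𝟙 A) ^ b).left).obj (PrinPart.PMod A.hom n L)) (CohB1.tensorPow L (c * b))) (CohB1.tensorPow L' (b * b))) ((Scheme.Modules.pullback (CartesianMonoidalCategory.lift (𝟙 A) (toUnit A ≫ α)).left).obj P)) 0) =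
      b ^ g * c ^ g * @Module.finrank k (Coh.HH A.left L 0) _ _ (@Coh.moduleOver k _ A.left ⟨A.hom⟩ L 0) * Nat.choose (n + g) g := by
  haveI : GeometricallyIntegral A.hom := AbRigid.geometricallyIntegral_of_smooth A
  letI : A.left.Over (Spec (CommRingCat.of k)) := ⟨A.hom⟩
  haveI : IsProper (A.left ↘ Spec (CommRingCat.of k)) := inferInstanceAs (IsProper A.hom)
  haveI : IsLocallyNoetherian A.left := LocallyOfFiniteType.isLocallyNoetherian A.hom
  obtain ⟨hbf, hbfl, -⟩ := AVDegree22.isFinite_flat_surjective_pow A (show 0 < b from hb)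
  haveI := hbf
  haveI := hbfl
  obtain ⟨R, hRn, hRa, ev, π, ψ, hev, hmax, h3, h5, hlen⟩ := PP13.exists_model A n hg
  haveI := hRn
  haveI := hRa
  haveI : Flat ψ := MorphismProperty.of_isPullback h3 (inferInstance : Flat A.hom)
  haveI := PP12.isFinite_pr1 A.hom n
  haveI : IsLocallyNoetherian (PrinPart.nbhd A.hom n) :=
    LocallyOfFiniteType.isLocallyNoetherian (PrinPart.pr1 A.hom n)
  obtain ⟨eL⟩ := hLL'
  have hL'i : PicF.IsInvertible L' := M2.isInvertible_of_tensor_iso hL.1 (M2.tensorComm _ _ ≪≫ eL)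
  let Pα := (Scheme.Modules.pullback (CartesianMonoidalCategory.lift (𝟙 A) (toUnit A ≫ α)).left).obj P
  have hPα : PicF.IsInvertible Pα := PicLoc.isInvertible_pullback _ hP
  have hLc := M2.isInvertible_tensorPow hL.1 (c * b)
  have hL'b := M2.isInvertible_tensorPow hL'i (b * b)
  let T := CohB1.tensorMod (CohB1.tensorMod (CohB1.tensorPow L (c * b)) (CohB1.tensorPow L' (b * b))) Pα
  have hT : PicF.IsInvertible T := M2.isInvertible_tensor (M2.isInvertible_tensor hLc hL'b) hPα
  have hbL : PicF.IsInvertible ((Scheme.Modules.pullback ((𝟙 A) ^ b).left).obj L) :=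
    PicLoc.isInvertible_pullback _ hL.1
  have hW : PicF.IsInvertible (CohB1.tensorMod ((Scheme.Modules.pullback ((𝟙 A) ^ b).left).obj L) T) :=
    M2.isInvertible_tensor hbL hT
  have hcb : 0 < c * b := Nat.mul_pos hc hb
  obtain ⟨hconc, heul⟩ := PP13.conc_and_euler hL hW hcb (by
    have hinvL : PicGrp.cls L' hL'i = (PicGrp.cls L hL.1)⁻¹ := Index22.cls_inverse hL.1 hL'i ⟨eL⟩
    have e1 : PicGrp.cls _ hbL = pb ((𝟙 A) ^ b) (PicGrp.cls L hL.1) := (PicGrp.pullHom_cls _ _ _ _).symm
    have e2 : PicGrp.cls _ hPα = pb (CartesianMonoidalCategory.lift (𝟙 A) (toUnit A ≫ α)) (PicGrp.cls P hP) :=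
      (PicGrp.pullHom_cls _ _ _ _).symm
    have e3 : ∀ (M : A.left.Modules) (hM : PicF.IsInvertible M) (m : ℕ),
        PicGrp.cls (CohB1.tensorPow M m) (M2.isInvertible_tensorPow hM m) = PicGrp.cls M hM ^ m :=
      fun M hM m => Subtype.ext (by rw [PicGrp.cls_pow_val, PicGrp.cls_val])
    have e4 : PicGrp.cls _ hW = PicGrp.cls _ hbL *
        (PicGrp.cls _ hLc * PicGrp.cls _ hL'b * PicGrp.cls _ hPα) :=
      (cls_tensor hbL hT).symm.trans (congrArg _ ((cls_tensor (M2.isInvertible_tensor hLc hL'b) hPα).symm.trans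
        (congrArg (· * PicGrp.cls _ hPα) (cls_tensor hLc hL'b).symm)))
    rw [e4, e1, e2, e3 L hL.1, e3 L' hL'i, hinvL, MumVan22.pb_pow_class]
    set x := PicGrp.cls L hL.1
    set s := (pb (𝟙 A)⁻¹ x * x⁻¹) ^ (b * (b - 1) / 2)
    set p := pb (CartesianMonoidalCategory.lift (𝟙 A) (toUnit A ≫ α)) (PicGrp.cls P hP)
    have hsp : Inv (s * p) :=
      (MumVan22.Inv.pow' (MumVan22.inv_symm_div x) _).mul (PP13.inv_slice hφ hP hPξ α)
    convert hsp using 1
    set X := x ^ (b * b) with hX
    set Y := x ^ (c * b) with hY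
    rw [inv_pow, ← hX, mul_inv_eq_iff_eq_mul, mul_comm X s, _root_.mul_assoc s X, ← _root_.mul_assoc X,
      ← _root_.mul_assoc X, mul_comm X Y, _root_.mul_assoc Y X, mul_inv_cancel, _root_.mul_one, mul_comm Y p,
      ← _root_.mul_assoc]) hg
  let M₀ := (Scheme.Modules.pullback (PrinPart.pr2 A.hom n)).obj L
  have hM₀ : PicF.IsInvertible M₀ := PicLoc.isInvertible_pullback _ hL.1
  obtain ⟨ept⟩ := PP13.nonempty_fam_point ψ (PrinPart.pr1 A.hom n) M₀ ((𝟙 A) ^ b).left T ev hev hM₀ A.hom
    (PrinPart.toNbhd A.hom n) (PrinPart.toNbhd_pr1 A.hom n) h5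
  let ei : (Scheme.Modules.pullback (PrinPart.toNbhd A.hom n)).obj M₀ ≅ L :=
    (Scheme.Modules.pullbackComp _ _).app L ≪≫ (Scheme.Modules.pullbackCongr (PrinPart.toNbhd_pr2 A.hom n)).app L ≪≫
      (Scheme.Modules.pullbackId _).app L
  let ept' := ept ≪≫ M2.tensorIso ((Scheme.Modules.pullback ((𝟙 A) ^ b).left).mapIso ei) (Iso.refl T)
  have hpt : (∀ j : ℕ, 1 ≤ j → Subsingleton (Coh.HH A.left (PP13.fam ψ (PrinPart.pr1 A.hom n) M₀ ((𝟙 A) ^ b).left T
      (ModuleCat.of R (R ⧸ RingHom.ker ev.hom))) j)) ∧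
      Curv2.euler k A.left (PP13.fam ψ (PrinPart.pr1 A.hom n) M₀ ((𝟙 A) ^ b).left T
        (ModuleCat.of R (R ⧸ RingHom.ker ev.hom))) = ((c * b : ℕ) : ℤ) ^ g * Curv2.euler k A.left L :=
    ⟨fun j hj => (CBC10.hmapEquiv ept' j).toEquiv.subsingleton_congr.2 (hconc.1 j (by omega)),
      (CurveCoh17.euler_iso ept').trans heul⟩
  obtain ⟨hvan, heu⟩ := PP13.devissage ψ (PrinPart.pr1 A.hom n) M₀ ((𝟙 A) ^ b).left T ev hmax hM₀ hT _ hpt
    ((n + g).choose g) (ModuleCat.of R R) hlen
  obtain ⟨eself⟩ := PP13.nonempty_fam_self ψ (PrinPart.pr1 A.hom n) M₀ ((𝟙 A) ^ b).left T hM₀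
  let X := (Scheme.Modules.pullback ((𝟙 A) ^ b).left).obj (PrinPart.PMod A.hom n L)
  let e : CohB1.tensorMod (CohB1.tensorMod (CohB1.tensorMod X (CohB1.tensorPow L (c * b)))
      (CohB1.tensorPow L' (b * b))) Pα ≅ PP13.fam ψ (PrinPart.pr1 A.hom n) M₀ ((𝟙 A) ^ b).left T (ModuleCat.of R R) :=
    M2.tensorIso (M2.tensorAssoc X _ _) (Iso.refl Pα) ≪≫ M2.tensorAssoc X _ Pα ≪≫ eself.symm
  have hv : ∀ j : ℕ, 1 ≤ j → Subsingleton (Coh.HH A.left (CohB1.tensorMod (CohB1.tensorMod (CohB1.tensorMod X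
      (CohB1.tensorPow L (c * b))) (CohB1.tensorPow L' (b * b))) Pα) j) :=
    fun j hj => (CBC10.hmapEquiv e j).toEquiv.subsingleton_congr.2 (hvan j hj)
  refine ⟨hv, ?_⟩
  have h0 := PP13.finrank_eq_euler (k := k) hv
  rw [CurveCoh17.euler_iso e, heu, ← PP13.finrank_eq_euler (k := k) fun j hj =>
    MumVan22.subsingleton_of_isAmple hL hj] at h0
  refine Nat.cast_injective (R := ℤ) (h0.trans ?_)
  push_cast
  rw [mul_pow]
  ring

end Groth.Agent.S15398
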