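import Groth.Statements.S15399
import Groth.Agent.Lib.PicH1_21.Sequence
-- import your own Groth.Agent.* helpers here

set_option autoImplicit false
universe u
open CategoryTheory CategoryTheory.Limits AlgebraicGeometry
open PicGrp

namespace Groth.Agent.S15399

/-- Let X be a quasi-compact separated scheme, J a quasi-coherent ideal of O_X with J² = 0 and X₀ the
closed subscheme it cuts out, with inclusion i, and assume that the restriction of global functions
O_X(X) → O_{X₀}(X₀) is surjective. Assume the Picard group laws on X and X₀ and that pullback of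
invertible classes along i is multiplicative. Then the kernel of the pullback homomorphism Pic(X) →
Pic(X₀) is isomorphic, as a group, to the additive group H¹(X, J) (J viewed as an O_X-module),
written multiplicatively. (Existence of a group isomorphism only; the compatibility of the
isomorphism with pullback along morphisms Y → X is not stated.) -/
theorem result (X : Scheme.{u}) [CompactSpace X] [X.IsSeparated]
    (J : X.IdealSheafData) (hJ : J * J = ⊥)
    [PicGrp.Law X] [PicGrp.Law J.subscheme] (hi : PicGrp.PullMul J.subschemeι)
    (hsurj : Function.Surjective J.subschemeι.appTop.hom) :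
    Nonempty ((PicGrp.pullHom J.subschemeι hi).ker ≃* Multiplicative (Coh.HH X (ClSub.idealMod J) 1)) := by
  open Groth.Agent.PicH1_21 in
  refine ⟨((MonoidHom.ofInjective (f := (αAdd hJ).toMultiplicativeLeft) ?_).trans (MulEquiv.subgroupCongr ?_)).symm⟩
  · refine (injective_iff_map_eq_one _).2 fun x hx => ?_
    obtain ⟨v, hv⟩ := (Groth.Agent.PicH1_21.αAdd_eq_zero_iff hJ (Multiplicative.toAdd x)).1 (congrArg Additive.ofMul hx)
    obtain ⟨w, hw⟩ := Groth.Agent.PicH1_21.restUnits_surjective hJ hsurj (Additive.toMul v)
    exact Multiplicative.toAdd.injective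
      (hv.symm.trans ((Groth.Agent.PicH1_21.δ₀Add_eq_zero_iff hJ (Additive.toMul v)).2 ⟨w, hw⟩))
  · ext c
    exact ((Groth.Agent.PicH1_21.pullHom_eq_one_iff hJ hi c).trans
      ⟨fun ⟨x, hx⟩ => ⟨Multiplicative.ofAdd x, congrArg Additive.toMul hx⟩,
        fun ⟨x, hx⟩ => ⟨Multiplicative.toAdd x, congrArg Additive.ofMul hx⟩⟩).symm

end Groth.Agent.S15399
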