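import Groth.Statements.S15404
import Groth.Agent.Lib.PicUnion22.Main
import Groth.Agent.Lib.AbDual21.Phi

set_option autoImplicit false
universe u
open CategoryTheory CategoryTheory.Limits AlgebraicGeometry
open PicGrp Scheme.IdealSheafData

namespace Groth.Agent.S15404

/-- Let π : X ⟶ B be quasi-compact and separated and let X be the union of the closed subschemes Y =
V(I) and Z = V(J), I and J quasi-coherent ideals with I ∩ J = 0 (so that O_X → O_Y × O_Z is
injective with cokernel O_W, W = Y ∩ Z = V(I + J)); assume that W is flat, proper and of finite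
presentation over B, that W → B has a section, and that the geometric fibres of W → B are reduced
and connected. Assume the Picard group laws on B, X, Y, Z, W and that pullback of invertible classes
along π, along the inclusions of Y, Z in X and of W in Y, Z, and along the structure maps of Y, Z, W
is multiplicative. Then the square of groups formed by Pic(X)/π^*Pic(B), Pic(Y)/Pic(B),
Pic(Z)/Pic(B) and Pic(W)/Pic(B) under restriction is cartesian: (a) an invertible class on X whose
restrictions to Y and to Z are pulled back from B is itself pulled back from B; (b) for invertible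
classes y on Y and z on Z whose restrictions to W agree up to a class pulled back from B, there is a
class on X whose restrictions to Y and Z are y and z up to classes pulled back from B. (The
published statement asserts this for the functor T ↦ Pic(X ×_B T)/Pic(T) on all B-schemes T and
assumes only that π is quasi-compact and separated, W flat over B with a section and geometrically
reduced connected fibres; its proof uses that every global unit on W comes from B, through a lemma
on flat proper morphisms, and without properness the assertion fails — over a field, two affine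
planes glued along the hyperbola ts = 1 have non-trivial Picard group — so W is taken proper and of
finite presentation over B here (finite presentation being automatic over a locally Noetherian
base), and only the value at T = B is stated.) -/
theorem result {X B : Scheme.{u}} (π : X ⟶ B)
    [QuasiCompact π] [IsSeparated π] (I J : X.IdealSheafData) (hIJ : I ⊓ J = ⊥)
    [Flat ((I ⊔ J).subschemeι ≫ π)] [IsProper ((I ⊔ J).subschemeι ≫ π)]
    [LocallyOfFinitePresentation ((I ⊔ J).subschemeι ≫ π)]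
    (s : B ⟶ (I ⊔ J).subscheme) (hs : s ≫ (I ⊔ J).subschemeι ≫ π = 𝟙 B)
    (hfib : ∀ (K : Type u) [Field K] [IsAlgClosed K] (g : Spec (CommRingCat.of K) ⟶ B),
      IsReduced (pullback ((I ⊔ J).subschemeι ≫ π) g) ∧ ConnectedSpace ↥(pullback ((I ⊔ J).subschemeι ≫ π) g))
    [PicGrp.Law B] [PicGrp.Law X] [PicGrp.Law I.subscheme] [PicGrp.Law J.subscheme] [PicGrp.Law (I ⊔ J).subscheme]
    (hπ : PicGrp.PullMul π) (hY : PicGrp.PullMul I.subschemeι) (hZ : PicGrp.PullMul J.subschemeι)
    (hπY : PicGrp.PullMul (I.subschemeι ≫ π)) (hπZ : PicGrp.PullMul (J.subschemeι ≫ π))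
    (hπW : PicGrp.PullMul ((I ⊔ J).subschemeι ≫ π))
    (hWY : PicGrp.PullMul (Scheme.IdealSheafData.inclusion (le_sup_left : I ≤ I ⊔ J)))
    (hWZ : PicGrp.PullMul (Scheme.IdealSheafData.inclusion (le_sup_right : J ≤ I ⊔ J))) :
    (∀ c : PicLoc.PicSet X,
        (∃ b₁ : PicLoc.PicSet B, PicGrp.pullHom I.subschemeι hY c = PicGrp.pullHom (I.subschemeι ≫ π) hπY b₁) →
        (∃ b₂ : PicLoc.PicSet B, PicGrp.pullHom J.subschemeι hZ c = PicGrp.pullHom (J.subschemeι ≫ π) hπZ b₂) →
          ∃ b : PicLoc.PicSet B, c = PicGrp.pullHom π hπ b) ∧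
      (∀ (y : PicLoc.PicSet I.subscheme) (z : PicLoc.PicSet J.subscheme),
        (∃ b : PicLoc.PicSet B,
            PicGrp.pullHom (Scheme.IdealSheafData.inclusion (le_sup_left : I ≤ I ⊔ J)) hWY y =
              PicGrp.pullHom (Scheme.IdealSheafData.inclusion (le_sup_right : J ≤ I ⊔ J)) hWZ z *
                PicGrp.pullHom ((I ⊔ J).subschemeι ≫ π) hπW b) →
          ∃ (c : PicLoc.PicSet X) (b₁ b₂ : PicLoc.PicSet B),
            PicGrp.pullHom I.subschemeι hY c = y * PicGrp.pullHom (I.subschemeι ≫ π) hπY b₁ ∧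
              PicGrp.pullHom J.subschemeι hZ c = z * PicGrp.pullHom (J.subschemeι ≫ π) hπZ b₂) := by
  set jW := inclusion (le_sup_left : I ≤ I ⊔ J) with hjW
  set kW := inclusion (le_sup_right : J ≤ I ⊔ J) with hkW
  have hj : jW ≫ I.subschemeι = (I ⊔ J).subschemeι := inclusion_subschemeι _
  have hk : kW ≫ J.subschemeι = (I ⊔ J).subschemeι := inclusion_subschemeι _
  have eY : ∀ b, PicGrp.pullHom jW hWY (PicGrp.pullHom (I.subschemeι ≫ π) hπY b) =
      PicGrp.pullHom ((I ⊔ J).subschemeι ≫ π) hπW b := fun b => Subtype.ext <|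
    (PicLoc.pullCl_comp jW (I.subschemeι ≫ π) b.1).symm.trans
      (congrArg (PicF.pullCl · b.1) (by rw [← Category.assoc, hj]))
  have eZ : ∀ b, PicGrp.pullHom kW hWZ (PicGrp.pullHom (J.subschemeι ≫ π) hπZ b) =
      PicGrp.pullHom ((I ⊔ J).subschemeι ≫ π) hπW b := fun b => Subtype.ext <|
    (PicLoc.pullCl_comp kW (J.subschemeι ≫ π) b.1).symm.trans
      (congrArg (PicF.pullCl · b.1) (by rw [← Category.assoc, hk]))
  constructor
  · rintro c ⟨b₁, h₁⟩ ⟨b₂, h₂⟩
    have hWeq : PicGrp.pullHom ((I ⊔ J).subschemeι ≫ π) hπW b₁ = PicGrp.pullHom ((I ⊔ J).subschemeι ≫ π) hπW b₂ := by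
      rw [← eY, ← eZ, ← h₁, ← h₂]
      refine Subtype.ext ((PicLoc.pullCl_comp jW I.subschemeι c.1).symm.trans (Eq.trans ?_
        (PicLoc.pullCl_comp kW J.subschemeι c.1)))
      rw [hj, hk]
    have hb : b₁ = b₂ := by
      have := congrArg (fun x => PicF.pullCl s x.1) hWeq
      refine Subtype.ext (Eq.trans ?_ (this.trans ?_))
      · show b₁.1 = PicF.pullCl s (PicF.pullCl _ b₁.1)
        rw [← PicLoc.pullCl_comp, hs, PicLoc.pullCl_id]
      · show PicF.pullCl s (PicF.pullCl _ b₂.1) = b₂.1
        rw [← PicLoc.pullCl_comp, hs, PicLoc.pullCl_id]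
    subst hb
    refine ⟨b₁, ?_⟩
    set d := c * (PicGrp.pullHom π hπ b₁)⁻¹ with hd
    have dY : PicGrp.pullHom I.subschemeι hY d = 1 := by
      rw [hd, map_mul, map_inv, h₁, ← PicGrp.pullHom_comp_apply _ _ hY hπ hπY, mul_inv_cancel]
    have dZ : PicGrp.pullHom J.subschemeι hZ d = 1 := by
      rw [hd, map_mul, map_inv, h₂, ← PicGrp.pullHom_comp_apply _ _ hZ hπ hπZ, mul_inv_cancel]
    obtain ⟨L, hL, hLinv⟩ := d.2
    obtain ⟨hgc, hgr⟩ := PicUnion22.geometrically_of_algClosed ((I ⊔ J).subschemeι ≫ π) hfib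
    have hW : ∀ t : Γ((I ⊔ J).subscheme, ⊤)ˣ, ∃ e : Γ(B, ⊤)ˣ, ((I ⊔ J).subschemeι ≫ π).appTop e.1 = t.1 := fun t => by
      let φ := RingEquiv.ofBijective ((I ⊔ J).subschemeι ≫ π).appTop.hom (AbDual21.bijective_appTop _)
      exact ⟨Units.map φ.symm.toMonoidHom t, φ.apply_symm_apply t.1⟩
    obtain ⟨e⟩ := PicUnion22.trivial_of_trivial I J hIJ π hLinv
      ((PicGrp.cl_eq_cl_iff _ _).1 (by
        refine Eq.trans ?_ ((congrArg Subtype.val dY).trans PicGrp.one_val)
        show PicF.pullCl I.subschemeι (PicF.cl L) = PicF.pullCl I.subschemeι d.1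
        rw [hL]))
      ((PicGrp.cl_eq_cl_iff _ _).1 (by
        refine Eq.trans ?_ ((congrArg Subtype.val dZ).trans PicGrp.one_val)
        show PicF.pullCl J.subschemeι (PicF.cl L) = PicF.pullCl J.subschemeι d.1
        rw [hL])) hW
    refine mul_inv_eq_one.1 (hd.symm.trans (Subtype.ext ?_))
    rw [PicGrp.one_val, ← hL]
    exact (PicGrp.cl_eq_cl_iff _ _).2 ⟨e⟩
  · rintro y z ⟨b, hb⟩
    set z' := z * PicGrp.pullHom (J.subschemeι ≫ π) hπZ b with hz'
    have hz : PicGrp.pullHom jW hWY y = PicGrp.pullHom kW hWZ z' := by rw [hz', map_mul, eZ, hb]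
    obtain ⟨M, hM, hMinv⟩ := y.2
    obtain ⟨N, hN, hNinv⟩ := z'.2
    obtain ⟨L, hL, ⟨eI⟩, ⟨eJ⟩⟩ := PicUnion22.exists_glued I J hIJ hMinv hNinv ((PicGrp.cl_eq_cl_iff _ _).1 (by
      show PicF.pullCl jW (PicF.cl M) = PicF.pullCl kW (PicF.cl N)
      rw [hM, hN]; exact congrArg Subtype.val hz))
    refine ⟨⟨PicF.cl L, L, rfl, hL⟩, 1, b, ?_, ?_⟩
    · rw [map_one, _root_.mul_one]
      exact Subtype.ext (((PicGrp.cl_eq_cl_iff _ _).2 ⟨eI⟩).trans hM)
    · exact Subtype.ext (((PicGrp.cl_eq_cl_iff _ _).2 ⟨eJ⟩).trans hN)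

end Groth.Agent.S15404
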