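import Groth.Statements.S15405
import Groth.Agent.Lib.KS29.PicClass
-- import your own Groth.Agent.* helpers here

set_option autoImplicit false
universe u
open CategoryTheory CategoryTheory.Limits AlgebraicGeometry
open ASBun

namespace Groth.Agent.S15405

open W4c1astiltbs12 in
/-- Let X be proper over a field k, K an algebraic closure of k such that X_K is connected, and π : X_K
→ X the projection; assume the Picard group laws on X and on X_K and that pullback of invertible
classes along π is multiplicative. Suppose that Pic(X_K) is infinite cyclic, generated by the class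
of an invertible module L; that J is an invertible O_X-module with π^*J ≅ L^{⊗r} for some r ≥ 1; and
that there is an indecomposable finite locally free O_X-module (nonzero, and in any direct-sum
decomposition one summand is zero) whose pullback to X_K is isomorphic to L^{⊕d} for some d. Then:
(a) every indecomposable finite locally free O_X-module E whose pullback to X_K is a finite direct
sum of invertible modules is isomorphic to M ⊗ J_a, where 0 ≤ j < r, M is an indecomposable finite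
locally free O_X-module with π^*M ≅ (L^{⊗j})^{⊕d} for some d, a is an integer and J_a is an
invertible O_X-module whose class in Pic(X) is the a-th power of the class of J; (b) the integers a
and j in such an expression are determined by E. (The published statement takes r to be the least
such integer, the period, and leaves the connectedness of X_K implicit; the argument treats
invertible modules on X_K as indecomposable, whence that hypothesis, and does not use the minimality
of r.) -/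
theorem result (k : Type u) [Field k] {X : Scheme.{u}}
    (p : X ⟶ Spec (CommRingCat.of k)) [IsProper p] (K : Type u) [Field K] [Algebra k K] [IsAlgClosure k K]
    [ConnectedSpace ↥(W4bk4gw11416.baseChange p K)]
    [PicGrp.Law X] [PicGrp.Law (W4bk4gw11416.baseChange p K)] (hπ : PicGrp.PullMul (proj p K))
    (L : (W4bk4gw11416.baseChange p K).Modules) (hL : PicF.IsInvertible L)
    (e : PicLoc.PicSet (W4bk4gw11416.baseChange p K) ≃* Multiplicative ℤ)
    (he : e (PicGrp.cls L hL) = Multiplicative.ofAdd 1)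
    (r : ℕ) (hr : 1 ≤ r) (J : X.Modules) (hJ : PicF.IsInvertible J)
    (hJL : Nonempty (bcMod p K J ≅ CohB1.tensorPow L r))
    (hML : ∃ (M₁ : X.Modules) (d₁ : ℕ), FlatMod.IsFinLocFree M₁ ∧
      (¬ IsZero M₁ ∧ ∀ A B : X.Modules, Nonempty (M₁ ≅ A ⊞ B) → IsZero A ∨ IsZero B) ∧
      Nonempty (bcMod p K M₁ ≅ pow L d₁))
    (E : X.Modules) (hE : FlatMod.IsFinLocFree E)
    (hEi : (¬ IsZero E ∧ ∀ A B : X.Modules, Nonempty (E ≅ A ⊞ B) → IsZero A ∨ IsZero B))
    (n : ℕ) (Ls : Fin n → (W4bk4gw11416.baseChange p K).Modules) (hLs : ∀ i, PicF.IsInvertible (Ls i))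
    (hEs : Nonempty (bcMod p K E ≅ ∐ Ls)) :
    (∃ (a : ℤ) (j : ℕ), j < r ∧ ∃ (M : X.Modules) (d : ℕ) (Ja : X.Modules) (hJa : PicF.IsInvertible Ja),
      FlatMod.IsFinLocFree M ∧ (¬ IsZero M ∧ ∀ A B : X.Modules, Nonempty (M ≅ A ⊞ B) → IsZero A ∨ IsZero B) ∧
      Nonempty (bcMod p K M ≅ pow (CohB1.tensorPow L j) d) ∧
      PicGrp.cls Ja hJa = PicGrp.cls J hJ ^ a ∧ Nonempty (E ≅ CohB1.tensorMod M Ja)) ∧
    (∀ (a a' : ℤ) (j j' : ℕ) (M M' : X.Modules) (d d' : ℕ) (Ja Ja' : X.Modules)
      (hJa : PicF.IsInvertible Ja) (hJa' : PicF.IsInvertible Ja'),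
      j < r → j' < r →
      (¬ IsZero M ∧ ∀ A B : X.Modules, Nonempty (M ≅ A ⊞ B) → IsZero A ∨ IsZero B) → (¬ IsZero M' ∧ ∀ A B : X.Modules, Nonempty (M' ≅ A ⊞ B) → IsZero A ∨ IsZero B) →
      Nonempty (bcMod p K M ≅ pow (CohB1.tensorPow L j) d) → Nonempty (bcMod p K M' ≅ pow (CohB1.tensorPow L j') d') →
      PicGrp.cls Ja hJa = PicGrp.cls J hJ ^ a → PicGrp.cls Ja' hJa' = PicGrp.cls J hJ ^ a' →
      Nonempty (E ≅ CohB1.tensorMod M Ja) → Nonempty (E ≅ CohB1.tensorMod M' Ja') → a = a' ∧ j = j') := by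
  haveI := IsAlgClosure.isAlgebraic (R := k) (K := K)
  haveI : IsProper (W4bk4gw11416.baseChangeTo p K) := KS29.isProper_bc p
  let π := PicGrp.pullHom (proj p K) hπ
  let g := PicGrp.cls L hL
  have hgr : π (PicGrp.cls J hJ) = g ^ r := by
    show PicGrp.pullHom (proj p K) hπ (PicGrp.cls J hJ) = _
    rw [PicGrp.pullHom_cls]
    exact Subtype.ext (((PicGrp.cl_eq_cl_iff _ _).2 hJL).trans (PicGrp.cls_pow_val hL r).symm)
  have hgen : ∀ c, c = g ^ (Multiplicative.toAdd (e c)) := fun c => e.injective (by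
    show e c = e (PicGrp.cls L hL ^ (Multiplicative.toAdd (e c)))
    rw [map_zpow, he, ← ofAdd_zsmul, zsmul_one]
    simp)
  have hinj : ∀ m m' : ℤ, g ^ m = g ^ m' → m = m' := fun m m' h => by
    have h' := congrArg (fun c => Multiplicative.toAdd (e c)) h
    simpa [g, map_zpow, he, ← ofAdd_zsmul] using h'
  have hpc : ∀ (q : ℕ), ∃ hq : PicF.IsInvertible (CohB1.tensorPow L q),
      PicGrp.cls (CohB1.tensorPow L q) hq = g ^ q := fun q =>
    ⟨M2.isInvertible_tensorPow hL q, Subtype.ext (PicGrp.cls_pow_val hL q).symm⟩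
  refine ⟨?_, ?_⟩
  · have hcar : ∀ c, KS29.Carried p K c := fun c => by
      rw [hgen c]
      obtain ⟨M₁, d₁, hM₁, hM₁i, ⟨φ⟩⟩ := hML
      refine KS29.carried_zpow hπ ⟨L, hL, M₁, d₁, rfl, hM₁, Nat.pos_of_ne_zero fun h => ?_, ⟨φ⟩⟩ hr hgr _
      subst h
      haveI := CohFound.isNoetherian_of_isProper p
      haveI := Abelian.hasFiniteBiproducts (C := (W4bk4gw11416.baseChange p K).Modules)
      exact hM₁i.1 (KS29.isZero_of_bc (K := K) p (CohFound.isCoh_of_isFinLocFree hM₁).1
        ((KS29.Dec.ofCoproduct.trans φ.symm).isZero))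
    obtain ⟨N, d, hN, hd, ⟨φ⟩⟩ := KS29.exists_isotypical_of_split hE hEi hLs hEs hcar
    obtain ⟨m, hm⟩ : ∃ m : ℤ, PicGrp.cls N hN = g ^ m := ⟨_, hgen _⟩
    have hr0 : (0 : ℤ) ≤ m % r := Int.emod_nonneg _ (by omega)
    have hlt : m % r < r := Int.emod_lt_of_pos _ (by omega)
    obtain ⟨Ja, hJa, hJac⟩ := PicGrp.exists_eq_cls (PicGrp.cls J hJ ^ (m / r))
    obtain ⟨Jb, hJb, hJbc⟩ := PicGrp.exists_eq_cls (PicGrp.cls J hJ ^ (-(m / r)))
    have hab : PicGrp.cls Jb hJb * PicGrp.cls Ja hJa = 1 := by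
      rw [← hJbc, ← hJac, ← zpow_add, neg_add_cancel, zpow_zero]
    obtain ⟨ε⟩ := (PicGrp.cls_mul_cls_eq_one_iff hJb hJa).1 hab
    obtain ⟨hq, hqc⟩ := hpc (m % r).toNat
    have key : PicGrp.cls (CohB1.tensorMod N (bcMod p K Jb))
        (M2.isInvertible_tensor hN (PicLoc.isInvertible_pullback (proj p K) hJb)) =
        PicGrp.cls (CohB1.tensorPow L (m % r).toNat) hq := by
      have h1 : PicGrp.cls (CohB1.tensorMod N (bcMod p K Jb))
          (M2.isInvertible_tensor hN (PicLoc.isInvertible_pullback (proj p K) hJb)) =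
          PicGrp.cls N hN * π (PicGrp.cls Jb hJb) := by
        show _ = PicGrp.cls N hN * PicGrp.pullHom (proj p K) hπ (PicGrp.cls Jb hJb)
        rw [PicGrp.pullHom_cls]
        exact Subtype.ext (PicGrp.cls_mul_cls_val hN (PicLoc.isInvertible_pullback (proj p K) hJb)).symm
      rw [h1, hqc, ← hJbc, map_zpow, hgr, hm, ← zpow_natCast g r, ← zpow_mul, ← zpow_add,
        ← zpow_natCast g, Int.toNat_of_nonneg hr0, Int.emod_def]
      congr 1
      ring
    obtain ⟨θ⟩ := (PicGrp.cls_eq_cls_iff _ hq).1 key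
    refine ⟨m / r, (m % r).toNat, by omega, CohB1.tensorMod E Jb, d * 1, Ja, hJa,
      M2.isFinLocFree_tensor hE (M2.isFinLocFree_of_isInvertible hJb), KS29.Indec.tensor hEi ε,
      ⟨KS29.bcTensorPow φ (KS29.powOne (bcMod p K Jb)).symm ≪≫ Sigma.mapIso fun _ => θ⟩, hJac.symm,
      ⟨(M2.tensorRUnit E).symm ≪≫ M2.tensorIso (Iso.refl E) ε.symm ≪≫ (M2.tensorAssoc E Jb Ja).symm⟩⟩
  · intro a a' j j' M M' d d' Ja Ja' hJa hJa' hj hj' hMi hM'i hMt hM't hc hc' hEM hEM'
    obtain ⟨hq, hqc⟩ := hpc j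
    obtain ⟨hq', hqc'⟩ := hpc j'
    haveI := CohFound.isNoetherian_of_isProper p
    haveI := Abelian.hasFiniteBiproducts (C := (W4bk4gw11416.baseChange p K).Modules)
    have hP := PicLoc.isInvertible_pullback (proj p K) hJa
    have hP' := PicLoc.isInvertible_pullback (proj p K) hJa'
    have c1 : PicGrp.cls _ (M2.isInvertible_tensor hq hP) = g ^ ((j : ℤ) + a * r) := by
      have h1 : PicGrp.cls _ (M2.isInvertible_tensor hq hP) = PicGrp.cls _ hq * PicGrp.cls _ hP :=
        Subtype.ext (PicGrp.cls_mul_cls_val hq hP).symm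
      rw [h1, hqc, ← PicGrp.pullHom_cls (proj p K) hπ Ja hJa, hc, map_zpow, hgr, ← zpow_natCast g r,
        ← zpow_natCast g j, ← zpow_mul, ← zpow_add, mul_comm (r : ℤ)]
    have c2 : PicGrp.cls _ (M2.isInvertible_tensor hq' hP') = g ^ ((j' : ℤ) + a' * r) := by
      have h1 : PicGrp.cls _ (M2.isInvertible_tensor hq' hP') = PicGrp.cls _ hq' * PicGrp.cls _ hP' :=
        Subtype.ext (PicGrp.cls_mul_cls_val hq' hP').symm
      rw [h1, hqc', ← PicGrp.pullHom_cls (proj p K) hπ Ja' hJa', hc', map_zpow, hgr, ← zpow_natCast g r,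
        ← zpow_natCast g j', ← zpow_mul, ← zpow_add, mul_comm (r : ℤ)]
    let φ1 := (Scheme.Modules.pullback (proj p K)).mapIso hEM.some ≪≫
      KS29.bcTensorPow hMt.some (KS29.powOne (bcMod p K Ja)).symm
    let φ2 := (Scheme.Modules.pullback (proj p K)).mapIso hEM'.some ≪≫
      KS29.bcTensorPow hM't.some (KS29.powOne (bcMod p K Ja')).symm
    have hpos : 0 < d * 1 := by
      rcases Nat.eq_zero_or_pos (d * 1) with h | h
      · exact absurd (KS29.isZero_of_bc (K := K) p (CohFound.isCoh_of_isFinLocFree hE).1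
          (by haveI : IsEmpty (Fin (d * 1)) := (by rw [h]; infer_instance); exact (KS29.Dec.ofCoproduct.trans φ1.symm).isZero)) hEi.1
      · exact h
    obtain ⟨θ⟩ := KS29.iso_of_pow_iso_pow (W4bk4gw11416.baseChangeTo p K) (M2.isInvertible_tensor hq hP)
      (M2.isInvertible_tensor hq' hP') hpos (φ1.symm ≪≫ φ2)
    have h := hinj _ _ (c1.symm.trans (((PicGrp.cls_eq_cls_iff _ _).2 ⟨θ⟩).trans c2))
    have hjj : j = j' := by
      have h1 := congrArg (fun x : ℤ => x % r) h
      simp only [Int.add_mul_emod_self_right] at h1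
      rw [Int.emod_eq_of_lt (by omega) (by omega), Int.emod_eq_of_lt (by omega) (by omega)] at h1
      omega
    subst hjj
    refine ⟨?_, rfl⟩
    exact mul_right_cancel₀ (show (r : ℤ) ≠ 0 by omega) (by omega)

end Groth.Agent.S15405
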