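import Groth.Statements.S15406
import Groth.Agent.Lib.PicExact32.Main
-- import your own Groth.Agent.* helpers here

set_option autoImplicit false
universe u
open CategoryTheory CategoryTheory.Limits AlgebraicGeometry
open Models

namespace Groth.Agent.S15406

/-- Let R be a complete discrete valuation ring with algebraically closed residue field k and fraction
field K, C a smooth proper curve over K with H⁰(C, O_C) = K and dim_K H¹(C, O_C) ≥ 2, and X → Spec R
a regular proper model of C, with g : C → X exhibiting C as the generic fibre. Let Γ₁, …, Γ_n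
enumerate the irreducible components of the closed fibre, with multiplicities of greatest common
divisor 1, and for each i let L_i be an invertible O_X-module inverse to the ideal sheaf of Γ_i (so
that (L_i · Γ_j) is the intersection number Γ_i · Γ_j). Assume the Picard group laws on X and on C
and that pullback of invertible classes along g is multiplicative. Let G be the quotient of ℤⁿ by
the subgroup spanned by the vectors ((L_i · Γ_j))_j, i = 1, …, n. Then: (a) an invertible O_X-module
of degree 0 on every Γ_j whose pullback to C is trivial is itself trivial; (b) there is a surjective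
homomorphism ψ from Pic(C) (written additively) onto G which sends the class of g^*L, for every
invertible O_X-module L, to the class of the vector ((L · Γ_j))_j, and whose kernel consists exactly
of the classes g^*L with L invertible on X of degree 0 on every Γ_j. In other words 0 → Pic⁰(X) →
Pic(C) → G → 0 is exact, Pic⁰(X) denoting the classes of degree 0 on all components of the closed
fibre. -/
theorem result
    (R : Type u) [CommRing R] [IsDomain R] [IsDiscreteValuationRing R]
    [IsAdicComplete (IsLocalRing.maximalIdeal R) R] (hk : IsAlgClosed (IsLocalRing.ResidueField R))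
    (C : Scheme.{u}) (fC : C ⟶ Spec (CommRingCat.of (FractionRing R))) [IsProper fC] [Smooth fC]
    (hC0 : Models.hRank (FractionRing R) C fC (Coh.structureModule C) 0 = 1)
    (hg2 : 2 ≤ Models.curveGenus (FractionRing R) C fC)
    (X : Scheme.{u}) (p : X ⟶ Spec (CommRingCat.of R)) (hX : Models.IsRegularProperModel R X p C fC)
    (g : C ⟶ X) (hg : IsPullback g fC p (Spec.map (CommRingCat.ofHom (algebraMap R (FractionRing R)))))
    {n : ℕ} (Γ : Fin n → ArSurf.VertComp R (Over.mk p)) (hΓ : Models.IsComponentList R (Over.mk p) Γ)
    (hgcd : Models.multGcd R (Over.mk p) Γ = 1)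
    (LD : Fin n → X.Modules) (hLD : ∀ i, ClSub.IsInverseOf (LD i) (ClSub.idealMod (Γ i).ι.ker))
    [PicGrp.Law X] [PicGrp.Law C] (hgm : PicGrp.PullMul g) :
    (∀ (L : X.Modules) (hL : PicF.IsInvertible L), (∀ j, ArSurf.inter R (Over.mk p) L (Γ j) = 0) →
        PicGrp.pullHom g hgm (PicGrp.cls L hL) = 1 → PicGrp.cls L hL = 1) ∧
      ∃ ψ : Additive (PicLoc.PicSet C) →+
          ((Fin n → ℤ) ⧸ LinearMap.range (Matrix.mulVecLin
            (Matrix.of fun j i => ArSurf.inter R (Over.mk p) (LD i) (Γ j)))),
        (∀ (L : X.Modules) (hL : PicF.IsInvertible L),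
            ψ (Additive.ofMul (PicGrp.pullHom g hgm (PicGrp.cls L hL))) =
              Submodule.Quotient.mk (fun j => ArSurf.inter R (Over.mk p) L (Γ j))) ∧
          Function.Surjective ψ ∧
          (∀ c : PicLoc.PicSet C, ψ (Additive.ofMul c) = 0 →
            ∃ (L : X.Modules) (hL : PicF.IsInvertible L),
              (∀ j, ArSurf.inter R (Over.mk p) L (Γ j) = 0) ∧ PicGrp.pullHom g hgm (PicGrp.cls L hL) = c) := by
  have c := Groth.Agent.PicExact32.ctx hC0 hX hΓ hLD
  exact ⟨fun L hL hdeg htriv => Groth.Agent.PicExact32.eq_one_of_trivial c hgcd hg hgm hL hdeg htriv,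
    Groth.Agent.PicExact32.exact_sequence hk c hg hgm⟩

end Groth.Agent.S15406
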