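import Groth.Statements.S15409
import Groth.Agent.Lib.KS29.PicSym
-- import your own Groth.Agent.* helpers here

set_option autoImplicit false
universe u
open CategoryTheory CategoryTheory.Limits AlgebraicGeometry
open ASBun

namespace Groth.Agent.S15409

open W4c1astiltbs12 in
/-- Let X be proper over a field k with k ≅ H⁰(X, O_X), K an algebraic closure of k with X_K connected
and projection π : X_K → X; assume the Picard group laws on X and X_K with pullback along π
multiplicative, that Pic(X_K) is infinite cyclic generated by the class of an invertible module L,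
and that J is an invertible O_X-module whose pullback to X_K has class the r-th power of the class
of L, r ≥ 1. Let j and a be integers and N, N' invertible O_{X_K}-modules with classes (cls L)^j and
(cls L)^{j'} where either j' = −j or j' = j + a·r. If W, W' are indecomposable finite locally free
O_X-modules (nonzero, and in any direct-sum decomposition one summand is zero) with π^*W ≅ N^{⊕d}
and π^*W' ≅ N'^{⊕d'}, then d = d': the rank of the indecomposable absolutely isotypical sheaf of
type L^{⊗j} depends only on ±j modulo r. (The published statement phrases this for the sheaves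
W_{L^{⊗j}}, whose existence for every j it assumes through an indecomposable absolutely isotypical
sheaf of type L; here the two sheaves are given, and r need not be minimal.) -/
theorem result (k : Type u) [Field k] {X : Scheme.{u}}
    (p : X ⟶ Spec (CommRingCat.of k)) [IsProper p] (hO : IsIso p.appTop) (K : Type u) [Field K] [Algebra k K] [IsAlgClosure k K]
    [ConnectedSpace ↥(W4bk4gw11416.baseChange p K)]
    [PicGrp.Law X] [PicGrp.Law (W4bk4gw11416.baseChange p K)] (hπ : PicGrp.PullMul (proj p K))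
    (L : (W4bk4gw11416.baseChange p K).Modules) (hL : PicF.IsInvertible L)
    (e : PicLoc.PicSet (W4bk4gw11416.baseChange p K) ≃* Multiplicative ℤ)
    (he : e (PicGrp.cls L hL) = Multiplicative.ofAdd 1)
    (r : ℕ) (hr : 1 ≤ r) (J : X.Modules) (hJ : PicF.IsInvertible J)
    (hJL : PicGrp.cls (bcMod p K J) (PicLoc.isInvertible_pullback (proj p K) hJ) = PicGrp.cls L hL ^ r)
    (j a j' : ℤ) (hj' : j' = -j ∨ j' = j + a * r)
    (N N' : (W4bk4gw11416.baseChange p K).Modules) (hN : PicF.IsInvertible N) (hN' : PicF.IsInvertible N')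
    (hNj : PicGrp.cls N hN = PicGrp.cls L hL ^ j) (hN'j : PicGrp.cls N' hN' = PicGrp.cls L hL ^ j')
    (W W' : X.Modules) (hW : FlatMod.IsFinLocFree W) (hW' : FlatMod.IsFinLocFree W')
    (hWi : (¬ IsZero W ∧ ∀ A B : X.Modules, Nonempty (W ≅ A ⊞ B) → IsZero A ∨ IsZero B)) (hW'i : (¬ IsZero W' ∧ ∀ A B : X.Modules, Nonempty (W' ≅ A ⊞ B) → IsZero A ∨ IsZero B))
    (d d' : ℕ) (eW : Nonempty (bcMod p K W ≅ pow N d)) (eW' : Nonempty (bcMod p K W' ≅ pow N' d')) :
    d = d' := by
  haveI := IsAlgClosure.isAlgebraic (R := k) (K := K)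
  obtain ⟨φ⟩ := eW
  obtain ⟨φ'⟩ := eW'
  rcases hj' with rfl | rfl
  · have h1 : PicGrp.cls N hN * PicGrp.cls N' hN' = 1 := by
      rw [hNj, hN'j, ← zpow_add, add_neg_cancel, zpow_zero]
    obtain ⟨ε⟩ := (PicGrp.cls_mul_cls_eq_one_iff hN hN').1 h1
    exact Groth.Agent.KS29.rank_eq_of_inverse p hW hW' hWi hW'i hN hN' ε φ φ'
  · obtain ⟨Ja, hJa, hJac⟩ := PicGrp.exists_eq_cls (PicGrp.cls J hJ ^ a)
    obtain ⟨Jb, hJb, hJbc⟩ := PicGrp.exists_eq_cls (PicGrp.cls J hJ ^ (-a))
    have hab : PicGrp.cls Ja hJa * PicGrp.cls Jb hJb = 1 := by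
      rw [← hJbc, ← hJac, ← zpow_add, add_neg_cancel, zpow_zero]
    obtain ⟨ε⟩ := (PicGrp.cls_mul_cls_eq_one_iff hJa hJb).1 hab
    have hP := PicLoc.isInvertible_pullback (proj p K) hJa
    have hcls : PicGrp.cls _ (Groth.Agent.M2.isInvertible_tensor hN hP) = PicGrp.cls N' hN' := by
      have h1 : PicGrp.cls _ (Groth.Agent.M2.isInvertible_tensor hN hP) = PicGrp.cls N hN * PicGrp.cls _ hP :=
        Subtype.ext (PicGrp.cls_mul_cls_val hN hP).symm
      have h2 : PicGrp.pullHom (proj p K) hπ (PicGrp.cls J hJ) = PicGrp.cls L hL ^ r := by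
        rw [PicGrp.pullHom_cls]; exact hJL
      rw [h1, hNj, ← PicGrp.pullHom_cls (proj p K) hπ Ja hJa, ← hJac, map_zpow, h2, hN'j, ← zpow_natCast,
        ← zpow_mul, ← zpow_add]
      congr 1
      ring
    obtain ⟨θ⟩ := (PicGrp.cls_eq_cls_iff _ hN').1 hcls
    let ψ : bcMod p K (CohB1.tensorMod W Ja) ≅ pow N' (d * 1) :=
      Groth.Agent.KS29.bcTensorPow φ (Groth.Agent.KS29.powOne (bcMod p K Ja)).symm ≪≫ Sigma.mapIso fun _ => θ
    have hE := Groth.Agent.M2.isFinLocFree_tensor hW (Groth.Agent.M2.isFinLocFree_of_isInvertible hJa)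
    have hEi : Groth.Agent.KS29.Indec (CohB1.tensorMod W Ja) := Groth.Agent.KS29.Indec.tensor hWi ε
    have h1 := Groth.Agent.KS29.rank_dvd p hE hW' hW'i hN'
      (Groth.Agent.KS29.pos_of_isotypical p hE hEi.1 ψ) ψ φ'
    have h2 := Groth.Agent.KS29.rank_dvd p hW' hE hEi hN'
      (Groth.Agent.KS29.pos_of_isotypical p hW' hW'i.1 φ') φ' ψ
    rw [mul_one] at h1 h2
    exact Nat.dvd_antisymm h2 h1

end Groth.Agent.S15409
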