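import Groth.Statements.S15411
import Mathlib.RingTheory.Bialgebra.TensorProduct
import Mathlib.RingTheory.Flat.FaithfullyFlat.Basic
import Mathlib.RingTheory.TensorProduct.Free
import Mathlib.RingTheory.Bialgebra.Equiv
import Mathlib.LinearAlgebra.Basis.VectorSpace
import Mathlib.RingTheory.Flat.FaithfullyFlat.Algebra

set_option autoImplicit false
universe u
open scoped TensorProduct
open Hopf

namespace Groth.Agent.S15411

open scoped TensorProduct

section Aux

variable (R : Type u) [CommRing R] (H : Type u) [CommRing H] [Bialgebra R H] (S : Type u) [CommRing S] [Algebra R S]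

noncomputable def regroup : (S ⊗[R] H) ⊗[S] (S ⊗[R] H) →ₐ[S] S ⊗[R] (H ⊗[R] H) :=
  Algebra.TensorProduct.lift
    (Algebra.TensorProduct.map (AlgHom.id S S) (Algebra.TensorProduct.includeLeft : H →ₐ[R] H ⊗[R] H))
    (Algebra.TensorProduct.map (AlgHom.id S S) (Algebra.TensorProduct.includeRight : H →ₐ[R] H ⊗[R] H))
    fun _ _ => Commute.all _ _

noncomputable def distrib : H ⊗[R] H →ₐ[R] (S ⊗[R] H) ⊗[S] (S ⊗[R] H) :=
  Algebra.TensorProduct.lift
    (((Algebra.TensorProduct.includeLeft : S ⊗[R] H →ₐ[S] (S ⊗[R] H) ⊗[S] (S ⊗[R] H)).restrictScalars R).comp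
      Algebra.TensorProduct.includeRight)
    (((Algebra.TensorProduct.includeRight : S ⊗[R] H →ₐ[S] (S ⊗[R] H) ⊗[S] (S ⊗[R] H)).restrictScalars R).comp
      Algebra.TensorProduct.includeRight)
    fun _ _ => Commute.all _ _

@[simp] theorem distrib_tmul (a b : H) :
    distrib R H S (a ⊗ₜ[R] b) = ((1 : S) ⊗ₜ[R] a) ⊗ₜ[S] ((1 : S) ⊗ₜ[R] b) := by
  simp [distrib]

theorem regroup_distrib (z : H ⊗[R] H) : regroup R H S (distrib R H S z) = (1 : S) ⊗ₜ[R] z := by
  induction z with
  | zero => simp
  | add p q hp hq => simp only [map_add, TensorProduct.tmul_add, hp, hq]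
  | tmul p q => simp [regroup]

theorem comul_one_tmul (h : H) :
    CoalgebraStruct.comul (R := S) ((1 : S) ⊗ₜ[R] h) = distrib R H S (CoalgebraStruct.comul (R := R) h) := by
  rw [TensorProduct.comul_tmul, CommSemiring.comul_apply]
  induction CoalgebraStruct.comul (R := R) h with
  | zero => simp
  | add p q hp hq => simp only [map_add, TensorProduct.tmul_add, hp, hq]
  | tmul p q => simp

end Aux

/-- Let K be a field and let finitely many commutative K-algebras be given in two layers, K_i for each
vertex i and K_k for each edge k, with K-algebra maps from K_{l k} and from K_{r k} into K_k for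
every edge k, such that K is the equalizer of the system: every family (x_i) whose two images in K_k
agree for every k comes from exactly one element of K. Let A and B be commutative K-bialgebras
(coordinate rings of affine group or monoid schemes over K) and let u_i : K_i ⊗ B ≅ K_i ⊗ A be
isomorphisms of K_i-bialgebras such that, for every edge k, the base changes of u_{l k} and u_{r k}
to K_k agree. Then there is exactly one isomorphism of K-bialgebras v : B ≅ A inducing every u_i,
that is with u_i (1 ⊗ b) = 1 ⊗ v b. (The published statement is for the system obtained from a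
finite inverse factorization system of fields by base change to a finite separable extension K, and
for linear algebraic groups; this row keeps from that setting only what the argument uses: K is a
field and is the equalizer of the finite system, and the group schemes are affine.) -/
theorem result
    (K : Type u) [Field K] (ιv ιe : Type u) [Finite ιv] [Finite ιe]
    (Kv : ιv → Type u) [∀ i, CommRing (Kv i)] [∀ i, Algebra K (Kv i)]
    (Ke : ιe → Type u) [∀ k, CommRing (Ke k)] [∀ k, Algebra K (Ke k)]
    (l r : ιe → ιv) (ρl : ∀ k, Kv (l k) →ₐ[K] Ke k) (ρr : ∀ k, Kv (r k) →ₐ[K] Ke k)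
    (hlim : ∀ x : (∀ i, Kv i), (∀ k, ρl k (x (l k)) = ρr k (x (r k))) →
      ∃! a : K, ∀ i, algebraMap K (Kv i) a = x i)
    (A B : Type u) [CommRing A] [CommRing B] [Bialgebra K A] [Bialgebra K B]
    (u : ∀ i, (Kv i ⊗[K] B) ≃ₐc[Kv i] (Kv i ⊗[K] A))
    (hu : ∀ (k : ιe) (b : B),
      Algebra.TensorProduct.map (ρl k) (AlgHom.id K A) (u (l k) (1 ⊗ₜ[K] b)) =
        Algebra.TensorProduct.map (ρr k) (AlgHom.id K A) (u (r k) (1 ⊗ₜ[K] b))) :
    ∃! v : B ≃ₐc[K] A, ∀ (i : ιv) (b : B), u i (1 ⊗ₜ[K] b) = 1 ⊗ₜ[K] v b := by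
  classical
  obtain ⟨i₀, hi₀⟩ : ∃ i, Nontrivial (Kv i) := by
    by_contra h
    push Not at h
    have hsub : ∀ i, Subsingleton (Kv i) := fun i => h i
    obtain ⟨a, -, ha⟩ := hlim (fun i => 0) (fun k => by simp)
    exact zero_ne_one ((ha 0 fun i => Subsingleton.elim _ _).trans (ha 1 fun i => Subsingleton.elim _ _).symm)
  have hinj : ∀ {M : Type u} [AddCommGroup M] [Module K M], Function.Injective fun m : M => (1 : Kv i₀) ⊗ₜ[K] m :=
    fun {M} _ _ => Module.FaithfullyFlat.tensorProduct_mk_injective (A := K) (B := Kv i₀) M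
  have hex : ∀ b : B, ∃ a : A, ∀ i, u i (1 ⊗ₜ[K] b) = 1 ⊗ₜ[K] a := by
    intro b
    let bA := Module.Free.chooseBasis K A
    let c : ∀ i, (Module.Free.ChooseBasisIndex K A) →₀ Kv i := fun i =>
      (Algebra.TensorProduct.basis (Kv i) bA).repr (u i (1 ⊗ₜ[K] b))
    have hnat : ∀ {S T : Type u} [CommRing S] [CommRing T] [Algebra K S] [Algebra K T] (ρ : S →ₐ[K] T) (z : S ⊗[K] A) j,
        (Algebra.TensorProduct.basis T bA).repr (Algebra.TensorProduct.map ρ (AlgHom.id K A) z) j =
          ρ ((Algebra.TensorProduct.basis S bA).repr z j) := by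
      intro S T _ _ _ _ ρ z j
      induction z with
      | zero => simp
      | add p q hp hq => simp only [map_add, Finsupp.add_apply, hp, hq]
      | tmul s a => simp [Algebra.smul_def, mul_comm]
    have hcomp : ∀ j k, ρl k (c (l k) j) = ρr k (c (r k) j) := fun j k => by
      rw [← hnat, ← hnat, hu]
    choose α hα using fun j => (hlim (fun i => c i j) (hcomp j)).exists
    have : Fintype ιv := Fintype.ofFinite _
    let s := Finset.univ.biUnion fun i => (c i).support
    refine ⟨∑ j ∈ s, α j • bA j, fun i => ?_⟩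
    rw [← (Algebra.TensorProduct.basis (Kv i) bA).linearCombination_repr (u i (1 ⊗ₜ[K] b)), Finsupp.linearCombination_apply,
      Finsupp.sum, TensorProduct.tmul_sum, Finset.sum_subset (show (c i).support ⊆ s from
        Finset.subset_biUnion_of_mem (fun i => (c i).support) (Finset.mem_univ i)) (fun j _ hj => by
          show c i j • _ = 0
          rw [Finsupp.notMem_support_iff.1 hj, zero_smul])]
    refine Finset.sum_congr rfl fun j _ => ?_
    show c i j • _ = _
    rw [Algebra.TensorProduct.basis_apply, TensorProduct.smul_tmul', smul_eq_mul, mul_one, ← hα j i,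
      ← TensorProduct.smul_tmul, Algebra.smul_def, mul_one]
  choose v hv using hex
  have huniq : ∀ b a, u i₀ (1 ⊗ₜ[K] b) = 1 ⊗ₜ[K] a → v b = a := fun b a h => hinj ((hv b i₀).symm.trans h)
  let vA : B →ₐ[K] A :=
    { toFun := v
      map_one' := huniq 1 1 (by rw [← Algebra.TensorProduct.one_def, map_one, Algebra.TensorProduct.one_def])
      map_mul' := fun x y => huniq _ _ (by
        rw [show (1 : Kv i₀) ⊗ₜ[K] (x * y) = (1 ⊗ₜ[K] x) * (1 ⊗ₜ[K] y) by simp, map_mul, hv x, hv y]; simp)
      map_zero' := huniq 0 0 (by simp)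
      map_add' := fun x y => huniq _ _ (by rw [TensorProduct.tmul_add, map_add, hv, hv, TensorProduct.tmul_add])
      commutes' := fun c => huniq _ _ (by
        rw [show (1 : Kv i₀) ⊗ₜ[K] algebraMap K B c = algebraMap (Kv i₀) _ (algebraMap K (Kv i₀) c) by
          rw [Algebra.TensorProduct.algebraMap_apply]; simp [Algebra.algebraMap_eq_smul_one, TensorProduct.smul_tmul],
          AlgHomClass.commutes, Algebra.TensorProduct.algebraMap_apply]
        simp [Algebra.algebraMap_eq_smul_one, TensorProduct.smul_tmul]) }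
  have hcounit : (Bialgebra.counitAlgHom K A).comp vA = Bialgebra.counitAlgHom K B := by
    refine AlgHom.ext fun b => (algebraMap K (Kv i₀)).injective ?_
    have h := CoalgHomClass.counit_comp_apply (u i₀) ((1 : Kv i₀) ⊗ₜ[K] b)
    rw [hv b i₀] at h
    simpa [Algebra.smul_def, vA] using h
  have hcomul : (Algebra.TensorProduct.map vA vA).comp (Bialgebra.comulAlgHom K B) =
      (Bialgebra.comulAlgHom K A).comp vA := by
    refine AlgHom.ext fun b => hinj ?_
    have hrd : ∀ (z : A ⊗[K] A), regroup K A (Kv i₀) (distrib K A (Kv i₀) z) = (1 : Kv i₀) ⊗ₜ[K] z := regroup_distrib K A (Kv i₀)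
    show (1 : Kv i₀) ⊗ₜ[K] _ = (1 : Kv i₀) ⊗ₜ[K] _
    rw [← hrd, ← hrd]
    congr 1
    have h := CoalgHomClass.map_comp_comul_apply (u i₀) ((1 : Kv i₀) ⊗ₜ[K] b)
    rw [hv b i₀, comul_one_tmul, comul_one_tmul] at h
    simp only [AlgHom.comp_apply, Bialgebra.comulAlgHom_apply]
    rw [show vA b = v b from rfl, ← h]
    generalize Coalgebra.comul (R := K) b = z
    induction z with
    | zero => simp
    | add p q hp hq => simp only [map_add, hp, hq]
    | tmul p q => simp [vA, hv p i₀, hv q i₀]
  have hbij : Function.Bijective vA := by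
    have h1 : Function.Bijective (vA.toLinearMap.lTensor (Kv i₀)) := by
      have e : ∀ z, vA.toLinearMap.lTensor (Kv i₀) z = u i₀ z := by
        intro z
        induction z with
        | zero => simp
        | add p q hp hq => simp only [map_add, hp, hq]
        | tmul c b =>
          have hc : u i₀ (c ⊗ₜ[K] b) = c • u i₀ ((1 : Kv i₀) ⊗ₜ[K] b) := by
            rw [← map_smul, TensorProduct.smul_tmul', smul_eq_mul, mul_one]
          rw [hc, hv b i₀, LinearMap.lTensor_tmul, TensorProduct.smul_tmul', smul_eq_mul, mul_one]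
          rfl
      rw [show ⇑(vA.toLinearMap.lTensor (Kv i₀)) = ⇑(u i₀) from funext e]
      exact (u i₀).bijective
    exact ⟨(Module.FaithfullyFlat.lTensor_injective_iff_injective K (Kv i₀) vA.toLinearMap).1 h1.1,
      (Module.FaithfullyFlat.lTensor_surjective_iff_surjective K (Kv i₀) vA.toLinearMap).1 h1.2⟩
  refine ⟨BialgEquiv.ofBijective (BialgHom.ofAlgHom vA hcounit hcomul) hbij, fun i b => ?_, fun w hw => ?_⟩
  · exact hv b i
  · exact BialgEquiv.ext fun b => (huniq b (w b) (hw i₀ b)).symm


end Groth.Agent.S15411
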