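import Groth.Statements.S15412


set_option autoImplicit false
universe w v u
open CategoryTheory Opposite
open Bitors

namespace Groth.Agent.S15412

/-- On a site, let G and H be sheaves of groups and P a sheaf of sets with a left G-action which is
simply transitive on every set of sections P(U). The right H-actions on P that are compatible with
restriction, commute with the G-action and are simply transitive on every P(U) (for P a G-torsor:
the structures of (G, H)-bitorsor on P) correspond exactly to the families of group isomorphisms φ_p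
: H(U) ≃ G(U), one for each section p of P over each U, compatible with restriction and with φ_{g·p}
= g φ_p g⁻¹ (the equivariant maps from P to the sheaf of isomorphisms from H to G); the
correspondence is the rule p · h = φ_p(h) · p, and the statement is that every right structure
arises by this rule from exactly one family and every family from exactly one right structure. (The
published statement takes P a left G-torsor; only the simple transitivity of the G-action on
sections enters, so local existence of sections is not assumed.) -/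
theorem result
    {C : Type u} [Category.{v} C] {J : GrothendieckTopology C}
    (G H : Sheaf J GrpCat.{w}) (P : NonAbH1.GSheaf G) (hP : P.IsPseudoTorsor) :
    (∀ ρ : Bitors.RightStr P H, ∃! φ : Bitors.IsomFamily P H,
        ∀ (U : Cᵒᵖ) (p : P.P.obj.obj U) (h : H.obj.obj U), ρ.rsmul p h = P.smul (φ.φ p h) p) ∧
    (∀ φ : Bitors.IsomFamily P H, ∃! ρ : Bitors.RightStr P H,
        ∀ (U : Cᵒᵖ) (p : P.P.obj.obj U) (h : H.obj.obj U), ρ.rsmul p h = P.smul (φ.φ p h) p) := by
  classical
  constructor
  · intro ρ
    have ex : ∀ (U : Cᵒᵖ) (p : P.P.obj.obj U) (h : H.obj.obj U), ∃! g : G.obj.obj U, P.smul g p = ρ.rsmul p h :=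
      fun U p h => hP U p _
    choose g hg hu using ex
    have hu' : ∀ (U : Cᵒᵖ) (p : P.P.obj.obj U) (h : H.obj.obj U) (x : G.obj.obj U), P.smul x p = ρ.rsmul p h → x = g U p h :=
      fun U p h x hx => hu U p h x hx
    let φ₀ : ∀ (U : Cᵒᵖ) (p : P.P.obj.obj U), H.obj.obj U ≃* G.obj.obj U := fun U p =>
      MulEquiv.ofBijective
        ({ toFun := g U p
           map_one' := (hu' U p 1 1 (by rw [P.one_smul, ρ.rsmul_one])).symm
           map_mul' := fun h h' => (hu' U p _ _ (by
              rw [P.mul_smul, ρ.rsmul_mul, hg, ← hg U p h, ρ.smul_rsmul])).symm } : H.obj.obj U →* G.obj.obj U)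
        ⟨fun h h' e => (ρ.existsUnique_rsmul p (P.smul (g U p h) p)).unique (hg U p h).symm
            (by
              have e' : g U p h = g U p h' := e
              rw [e']; exact (hg U p h').symm),
          fun x => by
            obtain ⟨h, hh⟩ := (ρ.existsUnique_rsmul p (P.smul x p)).exists
            exact ⟨h, (hu' U p h x hh.symm).symm⟩⟩
    refine ⟨⟨fun {U} p => φ₀ U p, fun {U V} f p h => ?_, fun {U} x p h => ?_⟩, fun U p h => (hg U p h).symm, ?_⟩
    · exact hu' V _ _ _ (by show P.smul (G.obj.map f (g U p h)) _ = _; rw [← P.map_smul, hg, ρ.map_rsmul])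
    · exact (hu' U _ _ _ (by
        show P.smul (x * g U p h * x⁻¹) (P.smul x p) = _
        rw [← P.mul_smul, inv_mul_cancel_right, P.mul_smul, hg, ρ.smul_rsmul])).symm
    · rintro ⟨ψ, h1, h2⟩ hψ
      have : @ψ = fun {U} p => φ₀ U p := by
        funext U p
        exact MulEquiv.ext fun h => hu' U p h _ (hψ U p h).symm
      subst this; rfl
  · intro φ
    refine ⟨⟨fun {U} p h => P.smul (φ.φ p h) p, fun {U} p => ?_, fun {U} p h h' => ?_, fun {U V} f p h => ?_,
      fun {U} x p h => ?_, fun {U} p q => ?_⟩, fun U p h => rfl, ?_⟩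
    · show P.smul (φ.φ p 1) p = p
      rw [map_one, P.one_smul]
    · show P.smul (φ.φ p (h * h')) p = P.smul (φ.φ (P.smul (φ.φ p h) p) h') (P.smul (φ.φ p h) p)
      rw [φ.φ_smul, ← P.mul_smul, inv_mul_cancel_right, map_mul]
    · show P.P.obj.map f (P.smul (φ.φ p h) p) = _
      rw [P.map_smul, φ.map_φ]
    · show P.smul (φ.φ (P.smul x p) h) (P.smul x p) = P.smul x (P.smul (φ.φ p h) p)
      rw [φ.φ_smul, ← P.mul_smul, inv_mul_cancel_right, P.mul_smul]
    · obtain ⟨x, hx, hx'⟩ := hP U p q
      refine ⟨(φ.φ p).symm x, ?_, fun h hh => ?_⟩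
      · show P.smul (φ.φ p ((φ.φ p).symm x)) p = q
        rw [MulEquiv.apply_symm_apply, hx]
      · rw [MulEquiv.eq_symm_apply]; exact hx' _ hh
    · rintro ⟨r, h1, h2, h3, h4, h5⟩ hr
      have : @r = fun {U} p h => P.smul (φ.φ p h) p := by funext U p h; exact hr U p h
      subst this; rfl

end Groth.Agent.S15412
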