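import Groth.Statements.S15415
-- import your own Groth.Agent.* helpers here
import Groth.Agent.S13692
import Groth.Agent.Lib.RedNorm25.BaseChange

set_option autoImplicit false
universe u v w
open scoped TensorProduct
attribute [local instance] CSAGal.tensorAction GpH1.unitsAction
open GalCoh

namespace Groth.Agent.S15415

/-- For a central simple algebra over a field, the first Galois cohomology set of its norm-one group is
identified with the nonzero scalars modulo the reduced norms of units, by the boundary map of the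
sequence norm-one units → units → nonzero scalars. Finite-level form: let k be a field, K a finite
Galois extension of k whose Galois group acts on K ⊗_k A through the first factor, A a
finite-dimensional central simple k-algebra split by K, N the reduced norm of A over k and N_K the
reduced norm of K ⊗_k A over K. Then (i) every 1-cocycle a with values in the units of K ⊗_k A of
reduced norm one is of the form a σ = b⁻¹ · σ(b) for a unit b whose reduced norm is an element c of
kˣ; and (ii) for units b, b' of K ⊗_k A with reduced norms c, c' in kˣ, the cocycles σ ↦ b⁻¹σ(b) and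
σ ↦ b'⁻¹σ(b') are cohomologous through a unit of reduced norm one if and only if c' = N(x) · c for
some unit x of A. (Since K splits A the reduced norm N_K takes every value in kˣ, so (i) and (ii)
say that c ↦ class of b⁻¹σ(b), N_K b = c, is a well-defined bijection from kˣ/N(Aˣ) onto the
cohomology set of the norm-one units. The published statement is for the absolute Galois group of a
field of characteristic different from 2, an assumption playing no role here; this row is the
finite-level form over a splitting field.) -/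
theorem result
    (k : Type u) [Field k] (K : Type v) [Field K] [Algebra k K] [FiniteDimensional k K] [IsGalois k K]
    (A : Type w) [Ring A] [Algebra k A] [Algebra.IsCentral k A] [IsSimpleRing A] [FiniteDimensional k A]
    (hA : Curves.Splits k A K)
    (N : A →* k) (hN : CSAGal.IsRedNorm k A N)
    (NK : (K ⊗[k] A) →* K) (hNK : CSAGal.IsRedNorm K (K ⊗[k] A) NK) :
    (∀ a : GpH1.OneCocycle (K ≃ₐ[k] K) (K ⊗[k] A)ˣ, (∀ σ, NK (a σ : K ⊗[k] A) = 1) →
        ∃ (c : kˣ) (b : (K ⊗[k] A)ˣ), NK (b : K ⊗[k] A) = algebraMap k K (c : k) ∧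
          ∀ σ : K ≃ₐ[k] K, a σ = b⁻¹ * σ • b) ∧
    (∀ (c c' : kˣ) (b b' : (K ⊗[k] A)ˣ),
        NK (b : K ⊗[k] A) = algebraMap k K (c : k) → NK (b' : K ⊗[k] A) = algebraMap k K (c' : k) →
        ((∃ s : (K ⊗[k] A)ˣ, NK (s : K ⊗[k] A) = 1 ∧
            ∀ σ : K ≃ₐ[k] K, b'⁻¹ * σ • b' = s⁻¹ * (b⁻¹ * σ • b) * σ • s) ↔
          ∃ x : Aˣ, (c' : k) = N (x : A) * (c : k))) := by
  obtain ⟨n, -, ⟨φ⟩⟩ := hA
  haveI := CSAlg.isSimpleRing_baseChange (k := k) K A
  haveI := CSAlg.isCentral_baseChange (k := k) K A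
  have hn : Module.finrank k A = n ^ 2 := by
    rw [← Module.finrank_baseChange (R := K), φ.toLinearEquiv.finrank_eq, Module.finrank_matrix]
    simp [sq]
  have hn' : Module.finrank K (K ⊗[k] A) = n ^ 2 := by rw [Module.finrank_baseChange, hn]
  have hφ : ∀ x, NK x = (φ x).det := fun x => by
    simpa using Groth.Agent.RedNorm25.redNorm_spec hNK hn' φ.toAlgHom x
  have hsm : ∀ (σ : K ≃ₐ[k] K) (c : K) (a : A), σ • (c ⊗ₜ[k] a) = σ c ⊗ₜ[k] a := fun σ c a => rfl
  have hsemi : ∀ (σ : K ≃ₐ[k] K) (c : K) (x : K ⊗[k] A), σ • (c • x) = σ c • σ • x := by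
    intro σ c x
    induction x using TensorProduct.induction_on with
    | zero => simp
    | tmul d a => simp [TensorProduct.smul_tmul', hsm]
    | add x y hx hy => rw [smul_add, smul_add, hx, hy, smul_add, smul_add]
  have hone : ∀ a : A, NK ((1 : K) ⊗ₜ[k] a) = algebraMap k K (N a) := fun a => by
    rw [hφ]
    exact (Groth.Agent.RedNorm25.redNorm_spec hN hn
      ((φ.toAlgHom.restrictScalars k).comp Algebra.TensorProduct.includeRight) a).symm
  have hequiv : ∀ (σ : K ≃ₐ[k] K) (x : K ⊗[k] A), NK (σ • x) = σ (NK x) := by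
    intro σ x
    let G : K ⊗[k] A →ₐ[K] Matrix (Fin n) (Fin n) K :=
      { toFun := fun y => (φ (σ⁻¹ • y)).map σ
        map_one' := by simp [Matrix.map_one]
        map_mul' := fun y z => by rw [smul_mul', map_mul, Matrix.map_mul]
        map_zero' := by simp
        map_add' := fun y z => by rw [smul_add, map_add, Matrix.map_add _ (map_add σ)]
        commutes' := fun c => by
          rw [Algebra.algebraMap_eq_smul_one, Algebra.algebraMap_eq_smul_one, hsemi, smul_one, map_smul,
            map_one]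
          ext i j
          simp [Matrix.one_apply, apply_ite σ] }
    have h1 := Groth.Agent.RedNorm25.redNorm_spec hNK hn' G (σ • x)
    rw [Algebra.algebraMap_self, RingHom.id_apply] at h1
    rw [h1, hφ]
    show ((φ (σ⁻¹ • σ • x)).map σ).det = _
    rw [inv_smul_smul]
    exact (RingHom.map_det (σ : K →+* K) _).symm
  have hfix : ∀ x : K ⊗[k] A, (∀ σ : K ≃ₐ[k] K, σ • x = x) → ∃ a : A, x = 1 ⊗ₜ[k] a := by
    intro x hx
    let bA := Module.finBasis k A
    let B := Algebra.TensorProduct.basis K bA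
    have key : ∀ (σ : K ≃ₐ[k] K) (y : K ⊗[k] A) i, B.repr (σ • y) i = σ (B.repr y i) := by
      intro σ y i
      induction y using TensorProduct.induction_on with
      | zero => simp
      | tmul c a => rw [hsm]; simp [B, Algebra.TensorProduct.basis_repr_tmul]
      | add y z hy hz => simp [smul_add, hy, hz]
    have hk : ∀ i, ∃ r : k, algebraMap k K r = B.repr x i := fun i =>
      (IsGalois.mem_range_algebraMap_iff_fixed (B.repr x i)).mpr fun σ => by
        rw [← key σ x i, hx σ]
    choose r hr using hk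
    refine ⟨∑ i, r i • bA i, ?_⟩
    conv_lhs => rw [← B.sum_repr x]
    rw [TensorProduct.tmul_sum]
    refine Finset.sum_congr rfl fun i _ => ?_
    rw [← hr i, Algebra.TensorProduct.basis_apply, algebraMap_smul, TensorProduct.tmul_smul]
  have hu : ∀ (σ : K ≃ₐ[k] K) (u : (K ⊗[k] A)ˣ), ((σ • u : (K ⊗[k] A)ˣ) : K ⊗[k] A) = σ • (u : K ⊗[k] A) :=
    fun σ u => rfl
  have hne : ∀ u : (K ⊗[k] A)ˣ, NK (u : K ⊗[k] A) ≠ 0 := fun u => (u.isUnit.map NK).ne_zero
  refine ⟨fun a ha => ?_, fun c c' b b' hb hb' => ⟨?_, ?_⟩⟩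
  · have htriv := Groth.Agent.S13692.result k K A
    obtain ⟨b, hb⟩ : GpH1.Cohomologous (a : (K ≃ₐ[k] K) → (K ⊗[k] A)ˣ) (fun _ => 1) :=
      Quotient.exact (htriv a.cl)
    have hb1 : ∀ σ, a σ = b⁻¹ * σ • b := fun σ => by rw [hb σ, mul_one]
    obtain ⟨c, hc⟩ := (IsGalois.mem_range_algebraMap_iff_fixed (NK (b : K ⊗[k] A))).mpr fun σ => by
      have h := ha σ
      rw [hb1 σ, Units.val_mul, map_mul, hu, hequiv] at h
      have h2 : NK (b : K ⊗[k] A) * NK ((b⁻¹ : (K ⊗[k] A)ˣ) : K ⊗[k] A) = 1 := by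
        rw [← map_mul, Units.mul_inv, map_one]
      calc σ (NK (b : K ⊗[k] A)) = NK (b : K ⊗[k] A) * NK ((b⁻¹ : (K ⊗[k] A)ˣ) : K ⊗[k] A) *
            σ (NK (b : K ⊗[k] A)) := by rw [h2, one_mul]
        _ = _ := by rw [mul_assoc, h, mul_one]
    have hc0 : c ≠ 0 := fun h0 => hne b (by rw [← hc, h0, map_zero])
    exact ⟨Units.mk0 c hc0, b, hc.symm, hb1⟩
  · rintro ⟨s, hs, hs'⟩
    have hfixed : ∀ σ : K ≃ₐ[k] K, σ • (b' * (b * s)⁻¹) = b' * (b * s)⁻¹ := by
      intro σ
      have h := hs' σ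
      rw [smul_mul', smul_inv', smul_mul']
      calc σ • b' * (σ • b * σ • s)⁻¹ = b' * (b'⁻¹ * σ • b') * (σ • b * σ • s)⁻¹ := by group
        _ = b' * (s⁻¹ * (b⁻¹ * σ • b) * σ • s) * (σ • b * σ • s)⁻¹ := by rw [h]
        _ = b' * (b * s)⁻¹ := by group
    set u := b' * (b * s)⁻¹ with hu'
    obtain ⟨a, ha⟩ := hfix (u : K ⊗[k] A) fun σ => by rw [← hu, hfixed]
    obtain ⟨a', ha'⟩ := hfix ((u⁻¹ : (K ⊗[k] A)ˣ) : K ⊗[k] A) fun σ => by
      rw [← hu, smul_inv', hfixed]
    have hinj : Function.Injective (fun a : A => (1 : K) ⊗ₜ[k] a) :=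
      Algebra.TensorProduct.includeRight_injective (algebraMap k K).injective
    have h1 : a * a' = 1 := hinj (by
      show (1 : K) ⊗ₜ[k] (a * a') = (1 : K) ⊗ₜ[k] (1 : A)
      rw [show (1 : K) ⊗ₜ[k] (a * a') = ((1 : K) ⊗ₜ[k] a) * ((1 : K) ⊗ₜ[k] a') by simp, ← ha, ← ha',
        Units.mul_inv]
      rfl)
    have h2 : a' * a = 1 := hinj (by
      show (1 : K) ⊗ₜ[k] (a' * a) = (1 : K) ⊗ₜ[k] (1 : A)
      rw [show (1 : K) ⊗ₜ[k] (a' * a) = ((1 : K) ⊗ₜ[k] a') * ((1 : K) ⊗ₜ[k] a) by simp, ← ha, ← ha',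
        Units.inv_mul]
      rfl)
    refine ⟨⟨a, a', h1, h2⟩, (algebraMap k K).injective ?_⟩
    show algebraMap k K (c' : k) = algebraMap k K (N a * (c : k))
    have h3 : (b' : K ⊗[k] A) = (u : K ⊗[k] A) * ((b : K ⊗[k] A) * (s : K ⊗[k] A)) := by
      rw [← Units.val_mul, ← Units.val_mul, hu']
      congr 1
      group
    rw [map_mul, ← hb', ← hb, ← hone, ← ha, h3, map_mul, map_mul, hs, mul_one]
  · rintro ⟨x, hx⟩
    let xK : (K ⊗[k] A)ˣ := Units.map (Algebra.TensorProduct.includeRight : A →ₐ[k] K ⊗[k] A) x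
    have hxK : ∀ σ : K ≃ₐ[k] K, σ • xK = xK := fun σ => Units.ext (by
      rw [hu]; show σ • ((1 : K) ⊗ₜ[k] (x : A)) = (1 : K) ⊗ₜ[k] (x : A); rw [hsm, map_one])
    have hNx : NK (xK : K ⊗[k] A) = algebraMap k K (N (x : A)) := hone _
    refine ⟨b⁻¹ * xK⁻¹ * b', ?_, fun σ => ?_⟩
    · have e : NK ((xK * b : (K ⊗[k] A)ˣ) : K ⊗[k] A) = algebraMap k K (c' : k) := by
        rw [Units.val_mul, map_mul, hNx, hb, hx, map_mul]
      rw [← mul_left_inj' (hne (xK * b)), one_mul]
      conv_rhs => rw [e, ← hb']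
      rw [mul_comm, ← map_mul, ← Units.val_mul]
      congr 2
      group
    · rw [smul_mul', smul_mul', smul_inv', smul_inv', hxK]
      group


end Groth.Agent.S15415
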