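import Groth.Statements.S15420
import Groth.Agent.Lib.GrLC21.RegPoly

set_option autoImplicit false
set_option backward.isDefEq.respectTransparency false
universe u
open GrLC

namespace Groth.Agent.S15420

/-- Let k be a field, S = k[x_0, …, x_r] graded by degree, 𝔪 = (x_0, …, x_r), M a finitely generated
ℤ-graded S-module, x ∈ S_1 a linear form quasi-regular on M (the elements of M killed by x form a
submodule of finite length), and N = M/xM, given as a graded module with a surjective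
degree-preserving S-linear map π : M → N with kernel xM; graded local cohomology is computed from
*injective resolutions in the graded category. Call a module d-regular when H^0_𝔪 of it has no
nonzero piece in degrees above d and H^i_𝔪 of it vanishes in degree d − i + 1 for every i > 0. Then
M is d-regular if and only if N is d-regular and H^0_𝔪(M) has no nonzero piece in degrees above d. -/
theorem result (k : Type u) [Field k] (r : ℕ)
    (M : Type u) [AddCommGroup M] [Module k M] [Module (MvPolynomial (Fin (r + 1)) k) M]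
    [IsScalarTower k (MvPolynomial (Fin (r + 1)) k) M] [Module.Finite (MvPolynomial (Fin (r + 1)) k) M]
    (ℳ : ℤ → Submodule k M) [DirectSum.Decomposition ℳ] [SetLike.GradedSMul (GrSyz.stdGr k (Fin (r + 1))) ℳ]
    (x : MvPolynomial (Fin (r + 1)) k) (hx : x ∈ GrSyz.stdGr k (Fin (r + 1)) 1)
    (hq : IsFiniteLength (MvPolynomial (Fin (r + 1)) k) ↥(Submodule.torsionBy (MvPolynomial (Fin (r + 1)) k) M x))
    (N : Type u) [AddCommGroup N] [Module k N] [Module (MvPolynomial (Fin (r + 1)) k) N]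
    [IsScalarTower k (MvPolynomial (Fin (r + 1)) k) N] [Module.Finite (MvPolynomial (Fin (r + 1)) k) N]
    (𝒩 : ℤ → Submodule k N) [DirectSum.Decomposition 𝒩] [SetLike.GradedSMul (GrSyz.stdGr k (Fin (r + 1))) 𝒩]
    (π : M →ₗ[MvPolynomial (Fin (r + 1)) k] N) (hπ : Function.Surjective π) (hπg : GrLC.IsGrHom ℳ 𝒩 π)
    (hker : LinearMap.ker π = LinearMap.range (x • (LinearMap.id : M →ₗ[MvPolynomial (Fin (r + 1)) k] M)))
    (E : GrLC.StarInjRes (GrSyz.stdGr k (Fin (r + 1))) ℳ) (E' : GrLC.StarInjRes (GrSyz.stdGr k (Fin (r + 1))) 𝒩) (d : ℤ) :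
    (GrLC.endDeg (E.Hgr (GrSyz.irrel (GrSyz.stdGr k (Fin (r + 1)))) 0) ≤ ((d : WithTop ℤ) : WithBot (WithTop ℤ)) ∧ ∀ i : ℕ, 0 < i → E.Hcomp (GrSyz.irrel (GrSyz.stdGr k (Fin (r + 1)))) i (d - (i : ℤ) + 1) = ⊥) ↔
      ((GrLC.endDeg (E'.Hgr (GrSyz.irrel (GrSyz.stdGr k (Fin (r + 1)))) 0) ≤ ((d : WithTop ℤ) : WithBot (WithTop ℤ)) ∧ ∀ i : ℕ, 0 < i → E'.Hcomp (GrSyz.irrel (GrSyz.stdGr k (Fin (r + 1)))) i (d - (i : ℤ) + 1) = ⊥) ∧
        GrLC.endDeg (E.Hgr (GrSyz.irrel (GrSyz.stdGr k (Fin (r + 1)))) 0) ≤ ((d : WithTop ℤ) : WithBot (WithTop ℤ))) := by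
  rw [GrLC21.endDeg_zero_le E d, GrLC21.endDeg_zero_le E' d]
  have : Module.Finite (MvPolynomial (Fin (r + 1)) k) (GrLC21.toGMod (GrSyz.stdGr k (Fin (r + 1))) ℳ).carrier :=
    ‹Module.Finite (MvPolynomial (Fin (r + 1)) k) M›
  have key := GrLC21.reg_iff_section (M := GrLC21.toGMod (GrSyz.stdGr k (Fin (r + 1))) ℳ)
    (N := GrLC21.toGMod (GrSyz.stdGr k (Fin (r + 1))) 𝒩) hx π hπ hπg hker
    (fun m hm => GrLC21.mem_gam_of_smul_eq_zero GrLC21.hpos_std GrLC21.irrel_le_posSpan _ hx hq m hm)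
    (GrLC21.mem_irrel_of_mem_one hx) d
  constructor
  · rintro ⟨h0, h⟩
    have hN := (key.1 (GrLC21.reg_of_diagonal GrLC21.irrel_eq_span_one h0 fun i hi =>
      GrLC21.Van.congr ((GrLC21.Hcomp_eq_bot_iff_van E).1 (h i hi)) (by ring))).2
    exact ⟨⟨fun g hg => hN 0 g (by simpa using hg),
      fun i _ => (GrLC21.Hcomp_eq_bot_iff_van E').2 (hN i _ (by omega))⟩, h0⟩
  · rintro ⟨⟨hN0, hN⟩, h0⟩
    have hM := key.2 ⟨h0, GrLC21.reg_of_diagonal GrLC21.irrel_eq_span_one hN0 fun i hi =>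
      GrLC21.Van.congr ((GrLC21.Hcomp_eq_bot_iff_van E').1 (hN i hi)) (by ring)⟩
    exact ⟨h0, fun i _ => (GrLC21.Hcomp_eq_bot_iff_van E).2 (hM i _ (by omega))⟩

end Groth.Agent.S15420
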