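import Groth.Statements.S15433
import Groth.Agent.Lib.GrLC21.RegPoly
import Groth.Agent.Lib.GrLC21.LengthK
import Mathlib.Data.Int.Interval
import Groth.Agent.Lib.GrSyz.Hilbert

set_option autoImplicit false
set_option backward.isDefEq.respectTransparency false
universe u
open GrSyz

namespace Groth.Agent.S15433

/-- Let k be a field, S = k[x_0, …, x_r] graded by degree, 𝔪 = (x_0, …, x_r), and M = S/I a graded
quotient of S, given with a surjective degree-preserving S-linear map π : S → M whose kernel I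
contains no nonzero linear form. Let y_0, …, y_t be linear forms forming a weakly regular sequence
on M (each a non-zerodivisor modulo the previous ones) and N = M/(y_0, …, y_t)M, given as a graded
module with a surjective degree-preserving S-linear map σ : M → N with kernel (y_0, …, y_t)M, and
suppose N has finite length ℓ. Then reg M + (r − t) ≤ ℓ, reg being the Castelnuovo–Mumford
regularity of M in the sense of minimal graded free resolutions. (The published statement is reg S_X
≤ deg X − codim X for an arithmetically Cohen–Macaulay subvariety X of P^r not contained in a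
hyperplane; this row is the algebraic statement its proof establishes, with S_X any graded quotient
of S by an ideal without linear forms, the maximal regular sequence of linear forms given, deg X
replaced by the length of S_X/(y_0, …, y_t)S_X and codim X by r − t, which agree with the degree and
the codimension in that situation.) -/
theorem result (k : Type u) [Field k] (r : ℕ)
    (M : Type u) [AddCommGroup M] [Module k M] [Module (MvPolynomial (Fin (r + 1)) k) M]
    [IsScalarTower k (MvPolynomial (Fin (r + 1)) k) M] [Module.Finite (MvPolynomial (Fin (r + 1)) k) M]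
    (ℳ : ℤ → Submodule k M) [DirectSum.Decomposition ℳ] [SetLike.GradedSMul (GrSyz.stdGr k (Fin (r + 1))) ℳ]
    (π : MvPolynomial (Fin (r + 1)) k →ₗ[MvPolynomial (Fin (r + 1)) k] M) (hπ : Function.Surjective π)
    (hπg : GrLC.IsGrHom (GrSyz.stdGr k (Fin (r + 1))) ℳ π)
    (hlin : ∀ x : MvPolynomial (Fin (r + 1)) k, x ∈ GrSyz.stdGr k (Fin (r + 1)) 1 → π x = 0 → x = 0)
    (ys : List (MvPolynomial (Fin (r + 1)) k)) (hys : ∀ y ∈ ys, y ∈ GrSyz.stdGr k (Fin (r + 1)) 1)
    (hreg : RingTheory.Sequence.IsWeaklyRegular M ys)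
    (N : Type u) [AddCommGroup N] [Module k N] [Module (MvPolynomial (Fin (r + 1)) k) N]
    [IsScalarTower k (MvPolynomial (Fin (r + 1)) k) N]
    (𝒩 : ℤ → Submodule k N) [DirectSum.Decomposition 𝒩] [SetLike.GradedSMul (GrSyz.stdGr k (Fin (r + 1))) 𝒩]
    (σ : M →ₗ[MvPolynomial (Fin (r + 1)) k] N) (hσ : Function.Surjective σ) (hσg : GrLC.IsGrHom ℳ 𝒩 σ)
    (hker : LinearMap.ker σ = Ideal.ofList ys • (⊤ : Submodule (MvPolynomial (Fin (r + 1)) k) M))
    (ℓ : ℕ) (hℓ : Module.length (MvPolynomial (Fin (r + 1)) k) N = (ℓ : ℕ∞)) :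
    GrSyz.reg (GrSyz.stdGr k (Fin (r + 1))) ℳ (GrSyz.irrel (GrSyz.stdGr k (Fin (r + 1)))).toIdeal + ((((r : ℤ) + 1 - (ys.length : ℤ) : ℤ) : WithTop ℤ) : WithBot (WithTop ℤ)) ≤
      (((ℓ : ℤ) : WithTop ℤ) : WithBot (WithTop ℤ)) := by
  classical
  set 𝒮 := GrSyz.stdGr k (Fin (r + 1)) with h𝒮
  have : Module.Finite (MvPolynomial (Fin (r + 1)) k) N := Module.Finite.of_surjective σ hσ
  have hN : IsFiniteLength (MvPolynomial (Fin (r + 1)) k) N := Module.length_ne_top_iff.1 (by rw [hℓ]; simp)
  have hgam := GrLC21.mem_gam_of_finiteLength (a := GrSyz.irrel 𝒮) GrLC21.hpos_std GrLC21.irrel_le_posSpan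
    (GrLC21.toGMod 𝒮 𝒩) hN
  have hlen : Module.length k N = (ℓ : ℕ∞) := by
    rw [← GrLC21.length_eq_length_of_nilpotent hN fun i (x : N) => ?_, hℓ]
    obtain ⟨n, hn⟩ := hgam x
    exact ⟨n, hn _ (Ideal.pow_mem_pow (GrLC21.mem_irrel_of_mem_one (GrLC21.X_mem_stdGr i)) n)⟩
  have : Module.Finite k N := by
    have h := isFiniteLength_iff_isNoetherian_isArtinian.1
      (Module.length_ne_top_iff.1 (by rw [hlen]; simp : Module.length k N ≠ ⊤))
    have := h.1
    infer_instance
  have hfr : Module.finrank k N = ℓ := by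
    have h := hlen
    rw [Module.length_eq_finrank] at h
    exact_mod_cast h
  -- the composite from the polynomial ring
  let τ : MvPolynomial (Fin (r + 1)) k →ₗ[MvPolynomial (Fin (r + 1)) k] N := σ ∘ₗ π
  have hτ : GrLC.IsGrHom 𝒮 𝒩 τ := fun g p hp => hσg g _ (hπg g p hp)
  have hτs : Function.Surjective τ := hσ.comp hπ
  have hpre : ∀ (g : ℤ), ∀ y ∈ 𝒩 g, ∃ p ∈ 𝒮 g, τ p = y := fun g y hy =>
    GrLC21.exists_homogeneous_preimage hτ hy (LinearMap.mem_range.2 (hτs y))
  have hneg : ∀ g : ℤ, g < 0 → ∀ y ∈ 𝒩 g, y = 0 := fun g hg y hy => by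
    obtain ⟨p, hp, rfl⟩ := hpre g y hy
    rw [GrLC21.hpos_std g hg p hp, map_zero]
  have hzero : ∀ e : ℤ, 0 ≤ e → (∀ y ∈ 𝒩 e, y = 0) → ∀ j : ℕ, ∀ y ∈ 𝒩 (e + j), y = 0 := by
    intro e he h0 j
    induction j with
    | zero => simpa using h0
    | succ j ih =>
      intro y hy
      obtain ⟨p, hp, rfl⟩ := hpre _ y hy
      rw [MvPolynomial.as_sum p, map_sum]
      refine Finset.sum_eq_zero fun s hs => ?_
      have hdeg := (GrSyz.mem_stdGr_iff _ _ _ _).1 hp (MvPolynomial.mem_support_iff.1 hs)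
      obtain ⟨i, hi⟩ : ∃ i, s i ≠ 0 := by
        by_contra! hall
        rw [show s = 0 from Finsupp.ext hall, map_zero] at hdeg
        push_cast at hdeg
        omega
      have hs' : s = Finsupp.single i 1 + (s - Finsupp.single i 1) :=
        (add_tsub_cancel_of_le (Finsupp.single_le_iff.2 (Nat.one_le_iff_ne_zero.2 hi))).symm
      have hmem : MvPolynomial.monomial (s - Finsupp.single i 1) (p.coeff s) ∈ 𝒮 (e + j) := by
        refine (GrSyz.mem_stdGr_iff _ _ _ _).2 (MvPolynomial.isWeightedHomogeneous_monomial _ _ _ ?_)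
        have h1 := hdeg
        rw [hs', map_add, Finsupp.weight_apply, Finsupp.sum_single_index (by simp)] at h1
        simp only [one_smul] at h1
        push_cast at h1
        omega
      have hmono : MvPolynomial.monomial s (p.coeff s) =
          (MvPolynomial.X i : MvPolynomial (Fin (r + 1)) k) • MvPolynomial.monomial (s - Finsupp.single i 1) (p.coeff s) := by
        rw [smul_eq_mul, MvPolynomial.X, MvPolynomial.monomial_mul, one_mul, ← hs']
      rw [hmono, map_smul, ih _ (hτ _ _ hmem), smul_zero]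
  -- the piece in degree one
  let φ : ↥(𝒮 1) →ₗ[k] ↥(𝒩 1) :=
    ((τ.restrictScalars k).comp (𝒮 1).subtype).codRestrict (𝒩 1) fun p => hτ 1 p p.2
  let V : Submodule k (MvPolynomial (Fin (r + 1)) k) := Submodule.span k {y | y ∈ ys}
  have hker1 : ∀ p ∈ 𝒮 1, τ p = 0 → p ∈ V := by
    intro p hp hp0
    have hmem : π p ∈ Ideal.ofList ys • (⊤ : Submodule (MvPolynomial (Fin (r + 1)) k) M) := hker ▸ hp0
    rw [← LinearMap.range_eq_top.2 hπ, ← Submodule.map_top, ← Submodule.map_smul''] at hmem
    obtain ⟨c, hc, hcp⟩ := hmem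
    have hc1 : GrLC21.proj 𝒮 1 c ∈ V := by
      have hc' : c ∈ Ideal.ofList ys := by simpa using hc
      refine Submodule.span_induction (p := fun c _ => ∀ q, GrLC21.proj 𝒮 1 (q * c) ∈ V) ?_ ?_ ?_ ?_
        (show c ∈ Ideal.span {y | y ∈ ys} from hc') 1 |> fun h => by simpa using h
      · intro y hy q
        have h := GrLC21.proj_smul 𝒮 𝒮 (hys y hy) 1 q
        rw [smul_eq_mul, smul_eq_mul, sub_self, mul_comm] at h
        rw [h]
        have h0 := GrLC21.proj_mem 𝒮 0 q
        obtain ⟨a, ha⟩ : ∃ a : k, GrLC21.proj 𝒮 0 q = MvPolynomial.C a :=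
          ⟨_, GrSyzLib.eq_C_of_mem_zero h0⟩
        rw [ha, mul_comm, ← MvPolynomial.smul_eq_C_mul]
        exact V.smul_mem a (Submodule.subset_span hy)
      · intro q
        rw [mul_zero, map_zero]
        exact V.zero_mem
      · intro u v _ _ hu hv q
        rw [mul_add, map_add]
        exact V.add_mem (hu q) (hv q)
      · intro b u _ hu q
        rw [smul_eq_mul, ← mul_assoc]
        exact hu _
    have h2 : π (GrLC21.proj 𝒮 1 c) = π p := by
      rw [GrLC21.map_proj hπg, hcp]
      exact GrLC21.proj_of_mem ℳ (hπg 1 p hp)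
    have h3 := hlin (p - GrLC21.proj 𝒮 1 c) (Submodule.sub_mem _ hp (GrLC21.proj_mem 𝒮 1 c)) (by rw [map_sub, h2, sub_self])
    rw [sub_eq_zero.1 h3]
    exact hc1
  obtain ⟨hfin1, hrk1⟩ := GrSyzLib.finrank_stdGr (k := k) (r := r) 1
  have hN1 : (r : ℤ) + 1 - ys.length ≤ Module.finrank k ↥(𝒩 1) := by
    have hV : Module.finrank k ↥(LinearMap.ker φ) ≤ ys.length := by
      have hVfin : Module.Finite k V := Module.Finite.span_of_finite k (List.finite_toSet ys)
      let ψ : ↥(LinearMap.ker φ) →ₗ[k] V :=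
        ((𝒮 1).subtype.comp (LinearMap.ker φ).subtype).codRestrict V fun p =>
          hker1 _ p.1.2 (congrArg Subtype.val p.2)
      refine (LinearMap.finrank_le_finrank_of_injective (f := ψ) ?_).trans ?_
      · intro a b h
        have h' := congrArg Subtype.val h
        exact Subtype.ext (Subtype.ext h')
      · have h := finrank_span_finset_le_card (R := k) ys.toFinset
        have e : (ys.toFinset : Set (MvPolynomial (Fin (r + 1)) k)) = {y | y ∈ ys} := by ext; simp
        rw [Set.finrank, e] at h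
        exact h.trans (List.toFinset_card_le ys)
    have hrank := LinearMap.finrank_range_add_finrank_ker φ
    have hle : Module.finrank k ↥(LinearMap.range φ) ≤ Module.finrank k ↥(𝒩 1) := Submodule.finrank_le _
    rw [hrk1, GrSyzLib.H, if_pos (by norm_num), show r + (1 : ℤ).toNat = r + 1 from rfl, Nat.choose_succ_self_right] at hrank
    omega
  have hsum : ∀ T : Finset ℤ, ∑ e ∈ T, Module.finrank k ↥(𝒩 e) ≤ ℓ := by
    intro T
    let f : (Π e : T, ↥(𝒩 (e : ℤ))) →ₗ[k] N := ∑ e : T, (𝒩 (e : ℤ)).subtype ∘ₗ LinearMap.proj e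
    have hf : Function.Injective f := by
      refine (injective_iff_map_eq_zero f).2 fun v hv => funext fun e => Subtype.ext ?_
      have h := congrArg (GrLC21.proj 𝒩 (e : ℤ)) hv
      rw [map_zero, LinearMap.sum_apply, map_sum, Finset.sum_eq_single e] at h
      · rw [← GrLC21.proj_of_mem 𝒩 (v e).2]
        exact h
      · intro b _ hb
        exact GrLC21.proj_of_mem_ne 𝒩 (v b).2 fun e' => hb (Subtype.ext e')
      · simp
    have h := LinearMap.finrank_le_finrank_of_injective hf
    rw [Module.finrank_pi_fintype, hfr, Finset.sum_coe_sort T (fun e => Module.finrank k ↥(𝒩 e))] at h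
    exact h
  have hreg' : GrSyz.reg 𝒮 ℳ (GrSyz.irrel 𝒮).toIdeal = GrLC.endDeg (fun n => (𝒩 n).toAddSubgroup) :=
    GrLC21.eq_of_forall_le_int fun D => by
      rw [GrLC21.reg_le_iff]
      exact (GrLC21.reg_regularSequence D ys (GrLC21.toGMod 𝒮 ℳ) (GrLC21.toGMod 𝒮 𝒩) σ ‹_› hys hreg hσ hσg hker).trans
        (GrLC21.endDeg_of_finiteLength hN D)
  rw [hreg']
  have key : ∀ g : ℤ, (∃ y ∈ 𝒩 g, y ≠ 0) → g + ((r : ℤ) + 1 - ys.length) ≤ ℓ := by
    rintro g ⟨y, hy, hy0⟩
    have hg0 : 0 ≤ g := by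
      by_contra h
      exact hy0 (hneg g (by omega) y hy)
    have hpos : ∀ e : ℤ, 0 ≤ e → e ≤ g → 1 ≤ Module.finrank k ↥(𝒩 e) := fun e he heg => by
      by_contra h
      have hbot : 𝒩 e = ⊥ := Submodule.finrank_eq_zero.1 (by omega)
      refine hy0 (hzero e he (fun z hz => (Submodule.mem_bot k).1 (hbot ▸ hz)) (g - e).toNat y ?_)
      rwa [show e + ((g - e).toNat : ℤ) = g by omega]
    rcases eq_or_lt_of_le hg0 with rfl | hg1
    · have h1 := hsum {1}
      rw [Finset.sum_singleton] at h1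
      omega
    · have h1 := hsum (Finset.Icc 0 g)
      rw [← Finset.insert_erase (show (1 : ℤ) ∈ Finset.Icc 0 g from Finset.mem_Icc.2 ⟨by omega, by omega⟩),
        Finset.sum_insert (Finset.notMem_erase _ _)] at h1
      have h2 := Finset.card_nsmul_le_sum ((Finset.Icc 0 g).erase 1) (fun e => Module.finrank k ↥(𝒩 e)) 1
        fun e he => by
          have := Finset.mem_Icc.1 (Finset.mem_of_mem_erase he)
          exact hpos e this.1 this.2
      rw [Finset.card_erase_of_mem (Finset.mem_Icc.2 ⟨by omega, by omega⟩), Int.card_Icc, smul_eq_mul, mul_one] at h2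
      omega
  have hc : ∀ y : WithBot (WithTop ℤ), y ≤ ((((ℓ : ℤ) - ((r : ℤ) + 1 - ys.length) : ℤ) : WithTop ℤ) : WithBot (WithTop ℤ)) →
      y + ((((r : ℤ) + 1 - ys.length : ℤ) : WithTop ℤ) : WithBot (WithTop ℤ)) ≤ (((ℓ : ℤ) : WithTop ℤ) : WithBot (WithTop ℤ)) := by
    intro y hy
    refine (add_le_add hy le_rfl).trans (le_of_eq ?_)
    rw [← WithBot.coe_add, ← WithTop.coe_add, sub_add_cancel]
  refine hc _ ?_
  rw [GrLC21.endDeg_le_iff]
  intro g hg
  rw [AddSubgroup.eq_bot_iff_forall]
  intro y hy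
  by_contra hy0
  have := key g ⟨y, hy, hy0⟩
  omega

end Groth.Agent.S15433
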