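import Groth.Statements.S15435
import Groth.Agent.Lib.GrLCSheaf21.Poly
-- import your own Groth.Agent.* helpers here

set_option autoImplicit false
universe u
open GrSyz

namespace Groth.Agent.S15435

set_option maxHeartbeats 2000000

/-- Let k be a field, S = k[x_0, …, x_r] graded by degree, 𝔪 = (x_0, …, x_r), and M a finitely generated
ℤ-graded S-module; M̃ and the M(d)~ denote the O-modules on P^r_k associated with the pieces M_n, n
≥ 0 (they depend only on the pieces of large degree), with the canonical maps M_d → H^0(P^r_k,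
M(d)~); graded local cohomology is computed from any *injective resolution in the graded category;
let d ≥ 0. Then M is d-regular, that is H^0_𝔪(M) has no nonzero piece above degree d and H^i_𝔪(M)
vanishes in degree d − i + 1 for every i > 0, if and only if: (1) the sheaf M̃ is d-regular,
H^i(P^r_k, M̃(d − i)) = 0 for 1 ≤ i ≤ r; (2) H^0_𝔪(M) vanishes in every degree e > d; and (3) the
canonical map from M_d to the global sections of M(d)~ is surjective. (The published statement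
allows any integer d; it is stated here for d ≥ 0.) -/
theorem result (k : Type u) [Field k] (r : ℕ)
    (M : Type u) [AddCommGroup M] [Module k M] [Module (MvPolynomial (Fin (r + 1)) k) M]
    [IsScalarTower k (MvPolynomial (Fin (r + 1)) k) M] [Module.Finite (MvPolynomial (Fin (r + 1)) k) M]
    (ℳ : ℤ → Submodule k M) [DirectSum.Decomposition ℳ] [SetLike.GradedSMul (GrSyz.stdGr k (Fin (r + 1))) ℳ]
    [SetLike.GradedSMul (CohB1.polyGrading r k) (fun n : ℕ => ℳ (n : ℤ))]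
    (E : GrLC.StarInjRes (GrSyz.stdGr k (Fin (r + 1))) ℳ) (d : ℕ) :
    (GrLC.endDeg (E.Hgr (GrSyz.irrel (GrSyz.stdGr k (Fin (r + 1)))) 0) ≤ (((d : ℤ) : WithTop ℤ) : WithBot (WithTop ℤ)) ∧
        ∀ i : ℕ, 0 < i → E.Hcomp (GrSyz.irrel (GrSyz.stdGr k (Fin (r + 1)))) i ((d : ℤ) - (i : ℤ) + 1) = ⊥) ↔
      (Curv2.IsMRegular k r (GrTilde.tilde (CohB1.polyGrading r k) (fun n : ℕ => ℳ (n : ℤ)) 0) (d : ℤ) ∧
        (∀ e : ℤ, (d : ℤ) < e → E.Hcomp (GrSyz.irrel (GrSyz.stdGr k (Fin (r + 1)))) 0 e = ⊥) ∧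
        Function.Surjective (fun m : ↥(ℳ ((d : ℕ) : ℤ)) => GrTilde.globalOf (CohB1.polyGrading r k) (fun n : ℕ => ℳ (n : ℤ)) m)) := by
  rw [Groth.Agent.GrLC21.endDeg_zero_le E (d : ℤ), Groth.Agent.GrLCSheaf21.surjective_globalOf_iff E d]
  constructor
  · rintro ⟨h0, h⟩
    refine ⟨fun i hi hir => ?_, fun e he => (Groth.Agent.GrLC21.Hcomp_eq_bot_iff_van E).2 (h0 e he), ?_⟩
    · obtain ⟨n, rfl⟩ : ∃ n, i = n + 1 := ⟨i - 1, by omega⟩
      refine (Groth.Agent.GrLCSheaf21.subsingleton_HH_twist_iff E ((d : ℤ) - ((n + 1 : ℕ) : ℤ)) n).2 ?_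
      have := h (n + 2) (by omega)
      rwa [show (d : ℤ) - ((n + 2 : ℕ) : ℤ) + 1 = (d : ℤ) - ((n + 1 : ℕ) : ℤ) by push_cast; ring] at this
    · have := h 1 one_pos
      rwa [show (d : ℤ) - ((1 : ℕ) : ℤ) + 1 = (d : ℤ) by push_cast; ring] at this
  · rintro ⟨hM, h0, h1⟩
    refine ⟨fun g hg => (Groth.Agent.GrLC21.Hcomp_eq_bot_iff_van E).1 (h0 g hg), fun i hi => ?_⟩
    rcases Nat.lt_or_ge (r + 1) i with hgt | hle
    · exact (Groth.Agent.GrLC21.Hcomp_eq_bot_iff_van E).2 (Groth.Agent.GrLCSheaf21.van_of_gt hgt _)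
    rcases Nat.lt_or_ge i 2 with hlt | hge
    · obtain rfl : i = 1 := by omega
      rwa [show (d : ℤ) - ((1 : ℕ) : ℤ) + 1 = (d : ℤ) by push_cast; ring]
    obtain ⟨n, rfl⟩ : ∃ n, i = n + 2 := ⟨i - 2, by omega⟩
    rw [show (d : ℤ) - ((n + 2 : ℕ) : ℤ) + 1 = (d : ℤ) - ((n + 1 : ℕ) : ℤ) by push_cast; ring]
    exact (Groth.Agent.GrLCSheaf21.subsingleton_HH_twist_iff E _ n).1 (hM (n + 1) (by omega) (by omega))

end Groth.Agent.S15435
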