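import Groth.Statements.S15437
import Groth.Agent.Lib.GrSyz.Hilbert
-- import your own Groth.Agent.* helpers here

set_option autoImplicit false
universe u
open GrSyz

namespace Groth.Agent.S15437

/-- Let k be a field, S = k[x_0, …, x_r] graded by degree and M a ℤ-graded S-module with a finite graded
free resolution F of length at most m by free modules of finite rank with homogeneous bases; write
β_{i,j} for the number of basis vectors of F_i of degree j (the graded Betti numbers when F is
minimal) and B_j = Σ_{i ≤ m} (−1)^i β_{i,j}. Then for every integer d, dim_k M_d = Σ_j B_j C(r + d −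
j, r), where a binomial with d < j counts as zero and only finitely many j contribute; and the B_j
are recovered from the Hilbert function by B_j = dim_k M_j − Σ_{n < j} B_n C(r + j − n, r). (Stated
for any finite graded free resolution; the published statement takes the minimal one.) -/
theorem result (k : Type u) [Field k] (r : ℕ)
    (M : Type u) [AddCommGroup M] [Module k M] [Module (MvPolynomial (Fin (r + 1)) k) M]
    [IsScalarTower k (MvPolynomial (Fin (r + 1)) k) M] [Module.Finite (MvPolynomial (Fin (r + 1)) k) M]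
    (ℳ : ℤ → Submodule k M) [DirectSum.Decomposition ℳ] [SetLike.GradedSMul (GrSyz.stdGr k (Fin (r + 1))) ℳ]
    (F : GrSyz.FreeRes (GrSyz.stdGr k (Fin (r + 1))) ℳ) (m : ℕ) (hF : F.HasLengthLE m) :
    (∀ d : ℤ, (Module.finrank k ↥(ℳ d) : ℤ) =
        ∑ᶠ j : ℤ, (∑ i ∈ Finset.range (m + 1), (-1 : ℤ) ^ i * (F.betti i j : ℤ)) *
          (if j ≤ d then ((Nat.choose (r + (d - j).toNat) r : ℕ) : ℤ) else 0)) ∧
      ∀ j : ℤ, (∑ i ∈ Finset.range (m + 1), (-1 : ℤ) ^ i * (F.betti i j : ℤ)) =
        (Module.finrank k ↥(ℳ j) : ℤ) -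
          ∑ᶠ n : ℤ, (if n < j then (∑ i ∈ Finset.range (m + 1), (-1 : ℤ) ^ i * (F.betti i n : ℤ)) * ((Nat.choose (r + (j - n).toNat) r : ℕ) : ℤ) else 0) := by
  have h1 : ∀ d : ℤ, (Module.finrank k ↥(ℳ d) : ℤ) =
      ∑ᶠ j : ℤ, (∑ i ∈ Finset.range (m + 1), (-1 : ℤ) ^ i * (F.betti i j : ℤ)) *
        (if j ≤ d then ((Nat.choose (r + (d - j).toNat) r : ℕ) : ℤ) else 0) := fun d => by
    simp only [← Groth.Agent.GrSyzLib.H_sub]
    exact Groth.Agent.GrSyzLib.finrank_piece_finsum F m hF d
  refine ⟨h1, fun j => ?_⟩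
  rw [h1 j]
  set b : ℤ → ℤ := fun n => ∑ i ∈ Finset.range (m + 1), (-1 : ℤ) ^ i * (F.betti i n : ℤ) with hbdef
  have hsupp : ∀ f : ℤ → ℤ, (∀ n, b n = 0 → f n = 0) →
      ∑ᶠ n, f n = ∑ n ∈ insert j (Groth.Agent.GrSyzLib.degSet F m), f n := fun f hf =>
    finsum_eq_finsetSum_of_support_subset _ fun n hn => by
      by_contra h
      exact hn (hf n (Groth.Agent.GrSyzLib.B_eq_zero F fun hh => h (Finset.mem_insert_of_mem hh)))
  change b j = ∑ᶠ n, b n * _ - ∑ᶠ n : ℤ, if n < j then b n * _ else 0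
  rw [hsupp _ (fun n hn => by rw [hn, zero_mul]), hsupp _ (fun n hn => by rw [hn]; simp), ← Finset.sum_sub_distrib,
    Finset.sum_eq_single_of_mem j (Finset.mem_insert_self _ _) fun n _ hn => ?_]
  · simp
  · rcases lt_or_gt_of_ne hn with h | h
    · rw [if_pos h.le, if_pos h, sub_self]
    · rw [if_neg h.not_ge, if_neg h.not_gt]; simp

end Groth.Agent.S15437
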