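import Groth.Prelude.Def_AlgEqCyc
import Mathlib.Topology.LocallyFinsupp
import Groth.Agent.Lib.DiagFam3.Basic
import Groth.Agent.Lib.ProjSpace.Basic
-- import your own Groth.Agent.* helpers here

set_option autoImplicit false
set_option linter.style.haveILetI false
universe u
open AlgEqCyc

namespace Groth.Agent.S15438

open AlgebraicGeometry CategoryTheory CategoryTheory.Limits in
/-- Let C be a scheme over a field k that is smooth over k, projective over k, integral and of dimension
one, and let P₁, P₂ be two k-rational points of C. Then the zero-cycle [P₁] − [P₂] on C is an
elementary algebraically trivial cycle: it is the difference of the members, at two k-rational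
points, of a single family of cycles on C parametrised by a smooth projective integral curve over k,
every component of the family dominating the parameter curve. In particular [P₁] and [P₂] are
algebraically equivalent on C. (The published statement is over an algebraically closed field of
characteristic zero, where the points are closed points and algebraic equivalence is considered on
smooth projective schemes; this row allows any field, asks the two points to be k-rational and asks
C to be projective over k.) -/
theorem result (k : Type u) [Field k]
    (C : Scheme.{u}) [DecidableEq ↥C] (q : C ⟶ Spec (CommRingCat.of k)) (hs : Smooth q)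
    (hp : Neron.IsProjectiveOver k (Over.mk q)) (hi : IsIntegral C) (hd : topologicalKrullDim ↥C = 1)
    (P₁ P₂ : Spec (CommRingCat.of k) ⟶ C) (h₁ : P₁ ≫ q = 𝟙 _) (h₂ : P₂ ≫ q = 𝟙 _) :
    AlgEqCyc.IsElemAlgTriv q
      (Function.locallyFinsuppWithin.single (P₁ (IsLocalRing.closedPoint k)) (1 : ℤ) -
        Function.locallyFinsuppWithin.single (P₂ (IsLocalRing.closedPoint k)) (1 : ℤ)) := by
  classical
  haveI : IsProper q := by
    obtain ⟨n, i, hi', e⟩ := hp
    haveI := hi'
    change i ≫ CohB1.ProjSpaceOver.toBase n _ = q at e
    rw [← e]
    infer_instance
  set W : AlgebraicCycle (pullback q q) ℤ :=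
    Function.locallyFinsuppWithin.single (pullback.diagonal q (genericPoint C)) (1 : ℤ)
  have hW : ∀ w, W w = if w = pullback.diagonal q (genericPoint C) then 1 else 0 := fun w => by
    simp [W, Function.locallyFinsuppWithin.single_apply, Pi.single_apply]
  refine ⟨C, q, hs, hp, hi, hd, W, fun w hw => ?_, P₁, P₂, h₁, h₂, fun x => ?_⟩
  · have : w = pullback.diagonal q (genericPoint C) := by
      by_contra hne
      exact hw (by rw [hW, if_neg hne])
    rw [this, ← Scheme.Hom.comp_apply, pullback.diagonal_snd]
    exact genericPoint_closure C
  · rw [DiagFam3.fibreFun_diag q W hW P₁ h₁ x, DiagFam3.fibreFun_diag q W hW P₂ h₂ x]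
    simp only [Function.locallyFinsuppWithin.coe_sub, Pi.sub_apply, Function.locallyFinsuppWithin.single_apply, Pi.single_apply]
    split_ifs <;> simp_all

end Groth.Agent.S15438
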