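import Groth.Statements.S15439
import Groth.Agent.Lib.GraphFam4.Basic
import Groth.Agent.Lib.ProjSpace.Basic
-- import your own Groth.Agent.* helpers here

set_option autoImplicit false
universe u
open AlgEqCyc

namespace Groth.Agent.S15439

open AlgebraicGeometry CategoryTheory CategoryTheory.Limits in
/-- Let k be an algebraically closed field, X a scheme over k and C₁, …, Cₙ finitely many closed
subschemes of X, given as closed immersions ιᵢ : Cᵢ → X over k, such that each Cᵢ is smooth over k,
projective over k, integral and of dimension one and such that the union of the ιᵢ(Cᵢ) is a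
connected subset of X. Then for any two k-rational points P and Q of X lying on this union, the
zero-cycles [P] and [Q] on X are algebraically equivalent: [P] − [Q] lies in the subgroup of cycles
on X generated by the elementary algebraically trivial ones. (The published statement speaks of a
connected curve whose irreducible components are smooth and integral and of two of its points,
inside an ambient smooth projective scheme over an algebraically closed field of characteristic
zero; this row takes any finite family of such curves with connected union in any k-scheme X, k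
algebraically closed, and k-rational points.) -/
theorem result (k : Type u) [Field k]
    [IsAlgClosed k] (X : Scheme.{u}) [DecidableEq ↥X] (p : X ⟶ Spec (CommRingCat.of k)) (n : ℕ)
    (C : Fin n → Scheme.{u}) (q : (i : Fin n) → (C i ⟶ Spec (CommRingCat.of k)))
    (ι : (i : Fin n) → (C i ⟶ X)) (hι : ∀ i, IsClosedImmersion (ι i)) (hq : ∀ i, ι i ≫ p = q i)
    (hs : ∀ i, Smooth (q i)) (hpr : ∀ i, Neron.IsProjectiveOver k (Over.mk (q i)))
    (hint : ∀ i, IsIntegral (C i)) (hd : ∀ i, topologicalKrullDim ↥(C i) = 1)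
    (hconn : _root_.IsConnected (⋃ i, Set.range ⇑(ι i)))
    (P Q : Spec (CommRingCat.of k) ⟶ X) (hP : P ≫ p = 𝟙 _) (hQ : Q ≫ p = 𝟙 _)
    (hPC : P (IsLocalRing.closedPoint k) ∈ ⋃ i, Set.range ⇑(ι i))
    (hQC : Q (IsLocalRing.closedPoint k) ∈ ⋃ i, Set.range ⇑(ι i)) :
    AlgEqCyc.IsAlgEquiv p (Function.locallyFinsuppWithin.single (P (IsLocalRing.closedPoint k)) (1 : ℤ))
      (Function.locallyFinsuppWithin.single (Q (IsLocalRing.closedPoint k)) (1 : ℤ)) := by
  classical
  set pt := IsLocalRing.closedPoint k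
  haveI : ∀ i, IsClosedImmersion (ι i) := hι
  haveI : ∀ i, IsIntegral (C i) := hint
  haveI : ∀ i, JacobsonSpace ↥(C i) := fun i => by
    haveI := hs i
    exact LocallyOfFiniteType.jacobsonSpace (q i)
  let e : X → AlgebraicCycle X ℤ := fun x => Function.locallyFinsuppWithin.single x (1 : ℤ)
  let R : X → X → Prop := fun a b => e a - e b ∈ AlgEqCyc.algTriv p
  have hR0 : ∀ a, R a a := fun a => by show e a - e a ∈ _; rw [sub_self]; exact zero_mem _
  have hRs : ∀ a b, R a b → R b a := fun a b h => by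
    show e b - e a ∈ _
    rw [← neg_sub]; exact neg_mem h
  have hRt : ∀ a b c, R a b → R b c → R a c := fun a b c h h' => by
    show e a - e c ∈ _
    rw [← sub_add_sub_cancel (e a) (e b) (e c)]; exact add_mem h h'
  have hstep : ∀ (i : Fin n) (y z : C i), IsClosed ({y} : Set (C i)) → IsClosed ({z} : Set (C i)) →
      R (ι i y) (ι i z) := by
    intro i y z hy hz
    haveI := hs i
    have h := GraphFam4.isElemAlgTriv p (q i) (ι i) (hs i) (hpr i) (hint i) (hd i) (hq i)
      (pointOfClosedPoint (q i) y hy) (pointOfClosedPoint (q i) z hz)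
      (pointOfClosedPoint_comp _ _ _) (pointOfClosedPoint_comp _ _ _)
    rw [show pointOfClosedPoint (q i) y hy (IsLocalRing.closedPoint k) = y from pointOfClosedPoint_apply _ _ _ _,
      show pointOfClosedPoint (q i) z hz (IsLocalRing.closedPoint k) = z from pointOfClosedPoint_apply _ _ _ _] at h
    exact AddSubgroup.subset_closure h
  haveI : IsClosedImmersion P := isClosedImmersion_of_comp_eq_id (Y := Spec (CommRingCat.of k)) p P hP
  have hclosed : ∀ (T : Spec (CommRingCat.of k) ⟶ X), T ≫ p = 𝟙 _ → IsClosed ({T pt} : Set X) := by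
    intro T hT
    haveI := isClosedImmersion_of_comp_eq_id (Y := Spec (CommRingCat.of k)) p T hT
    have := T.isClosedEmbedding.isClosed_range
    rwa [Set.range_eq_singleton (fun x => by rw [Subsingleton.elim x pt])] at this
  have hpre : ∀ (i : Fin n) (y : C i), IsClosed ({ι i y} : Set X) → IsClosed ({y} : Set (C i)) := by
    intro i y hy
    have := hy.preimage (ι i).continuous
    rwa [(show ι i ⁻¹' {ι i y} = {y} from by
      ext z; exact ⟨fun hz => (ι i).isClosedEmbedding.injective hz, fun hz => by rw [hz]; rfl⟩)] at this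
  obtain ⟨i₀, a₀, ha₀⟩ := Set.mem_iUnion.mp hPC
  obtain ⟨j₀, b₀, hb₀⟩ := Set.mem_iUnion.mp hQC
  have ha₀c : IsClosed ({a₀} : Set (C i₀)) := hpre i₀ a₀ (ha₀.symm ▸ hclosed P hP)
  let S : Set (Fin n) := {i | ∀ y : C i, IsClosed ({y} : Set (C i)) → R (ι i₀ a₀) (ι i y)}
  have hi₀ : i₀ ∈ S := fun y hy => hstep i₀ a₀ y ha₀c hy
  have hclU : ∀ T : Set (Fin n), IsClosed (⋃ i ∈ T, Set.range (ι i)) := fun T =>
    T.toFinite.isClosed_biUnion fun i _ => (ι i).isClosedEmbedding.isClosed_range
  have hS : j₀ ∈ S := by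
    by_contra hj
    have hsub : (⋃ i, Set.range (ι i)) ⊆ (⋃ i ∈ S, Set.range (ι i)) ∪ (⋃ i ∈ Sᶜ, Set.range (ι i)) := by
      rintro x ⟨_, ⟨i, rfl⟩, hx⟩
      by_cases h : i ∈ S
      · exact Or.inl (Set.mem_biUnion h hx)
      · exact Or.inr (Set.mem_biUnion h hx)
    obtain ⟨x, -, hx1, hx2⟩ := isPreconnected_closed_iff.mp hconn.isPreconnected _ _ (hclU S) (hclU Sᶜ) hsub
      ⟨_, Set.mem_iUnion_of_mem i₀ ⟨a₀, rfl⟩, Set.mem_biUnion hi₀ ⟨a₀, rfl⟩⟩
      ⟨_, Set.mem_iUnion_of_mem j₀ ⟨b₀, rfl⟩, Set.mem_biUnion (show j₀ ∈ Sᶜ from hj) ⟨b₀, rfl⟩⟩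
    simp only [Set.mem_iUnion, exists_prop] at hx1 hx2
    obtain ⟨i, hi, a, hax⟩ := hx1
    obtain ⟨j, hjS, b, hbx⟩ := hx2
    obtain ⟨z, hz, hzc⟩ := nonempty_inter_closedPoints (X := C i) (Z := ι i ⁻¹' Set.range (ι j))
      ⟨a, b, hbx.trans hax.symm⟩ ((ι j).isClosedEmbedding.isClosed_range.preimage (ι i).continuous).isLocallyClosed
    obtain ⟨w, hw⟩ := hz
    have hzX : IsClosed ({ι i z} : Set X) := by
      rw [← Set.image_singleton]
      exact (ι i).isClosedEmbedding.isClosedMap _ hzc
    refine hjS fun y hy => hRt _ (ι i z) _ (hi z hzc) ?_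
    rw [← hw]
    exact hstep j w y (hpre j w (hw.symm ▸ hzX)) hy
  have hfin := hS b₀ (hpre j₀ b₀ (hb₀.symm ▸ hclosed Q hQ))
  rw [ha₀, hb₀] at hfin
  exact hfin

end Groth.Agent.S15439
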