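import Groth.Statements.S15441
import Groth.Agent.Lib.WeilH13.Cycle

set_option autoImplicit false
universe u v
open WeilCoh

namespace Groth.Agent.S15441

open AlgebraicGeometry CategoryTheory in
/-- Let k be an algebraically closed field of characteristic zero, K a field of characteristic zero and
T a Weil cohomology theory over k with coefficients in K, defined on connected smooth projective
varieties over k; let X be such a variety, δ the weight function on X induced from weight 0 on the
point Spec k, and α a zero-cycle on X for δ. Then α is homologically equivalent to zero for T, i.e.
its cycle class in the cohomology of X vanishes, if and only if the degree of α over k is zero. -/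
theorem result (k : Type u) [Field k] [IsAlgClosed k]
    [CharZero k] (K : Type v) [Field K] [CharZero K] (T : WeilCoh.Theory k K) (X : WeilCoh.Var k)
    [QuasiCompact X.obj.hom] (δ : ↥X.obj.left → ℤ) (hδ : Cyc.DeltaCompat X.obj.hom δ (fun _ => 0))
    (α : AlgebraicCycle X.obj.left ℤ) (hα : α ∈ Cyc.Zk X.obj.left δ 0) :
    T.IsHomEquivZero X α ↔ ChowOps.deg X.obj.hom δ α = 0 := by
  exact Groth.Agent.WeilH13.isHomEquivZero_iff T X hδ α hα

end Groth.Agent.S15441
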