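import Groth.Statements.S15442
import Groth.Agent.Lib.WeilH13.Alg

set_option autoImplicit false
universe u v
open CategoryTheory AlgebraicGeometry
open WeilCoh

namespace Groth.Agent.S15442

/-- Let H^* be a Weil cohomology theory, with coefficient field K of characteristic zero, on nonsingular
connected projective varieties over the algebraically closed field k, and X such a variety. Then the
structure morphism K → H^0(X) is an isomorphism: c ↦ c · 1 is a bijection from K onto the degree-0
part of the cohomology ring. -/
theorem result (k : Type u) [Field k] [IsAlgClosed k] (K : Type v) [Field K] [CharZero K]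
    (T : WeilCoh.Theory k K) (X : WeilCoh.Var k) :
    Function.Bijective (fun c : K =>
      (⟨c • (1 : T.H X), (T.gr X 0).smul_mem c (SetLike.one_mem_graded (T.gr X))⟩ : ↥(T.gr X 0))) := by
  haveI := Groth.Agent.WeilH13.nontrivial_H T X
  constructor
  · intro a b h
    exact (smul_left_injective K (one_ne_zero (α := T.H X))) (congrArg Subtype.val h)
  · intro a
    haveI := T.duality X 0 (2 * (WeilCoh.dim X.obj.left : ℤ)) (by omega)
    have e1 : Module.finrank K (T.gr X (2 * (WeilCoh.dim X.obj.left : ℤ))) = 1 := by
      rw [(LinearEquiv.ofBijective _ (T.tr_bijective X)).finrank_eq, Module.finrank_self]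
    have e0 : Module.finrank K (T.gr X 0) = 1 := (Module.finrank_of_isPerfPair
      (WeilCoh.pairing K (T.gr X 0) (T.gr X (2 * (WeilCoh.dim X.obj.left : ℤ))) (T.tr X))).trans e1
    have hne : (⟨1, Groth.Agent.WeilH13.one_mem T X⟩ : T.gr X 0) ≠ 0 :=
      fun h ↦ one_ne_zero (congrArg Subtype.val h : (1 : T.H X) = 0)
    obtain ⟨c, hc⟩ := exists_smul_eq_of_finrank_eq_one e0 hne a
    exact ⟨c, hc⟩

end Groth.Agent.S15442
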