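import Groth.Statements.S15448
import Groth.Agent.Lib.WeilH13.Cl

set_option autoImplicit false
universe u v
open CategoryTheory AlgebraicGeometry
open WeilCoh

namespace Groth.Agent.S15448

/-- For a Weil cohomology theory H^* (coefficients in K of characteristic zero, on nonsingular connected
projective varieties over an algebraically closed field k), a morphism f : X → Y of such varieties
and an irreducible closed subvariety Z ⊆ X, f_*(cl(Z)) = deg(Z/f(Z)) · cl(f(Z)). Here Z is given by
its generic point ξ, f(Z) is the closed irreducible subset with generic point f(ξ), and deg(Z/f(Z))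
is the degree of κ(ξ) over κ(f(ξ)), equal to 0 when this extension is infinite, i.e. when dim f(Z) <
dim Z; both sides are read in the total cohomology ring of Y. -/
theorem result (k : Type u) [Field k] [IsAlgClosed k] (K : Type v) [Field K] [CharZero K]
    (T : WeilCoh.Theory k K) (X Y : WeilCoh.Var k) (f : X ⟶ Y)
    (ξ : ↥X.obj.left) :
    (T.push f (2 * (WeilCoh.codim X.obj.left ξ : ℤ)) ⟨T.cl X ξ, T.cl_mem X ξ⟩ : T.H Y) =
      ((WeilCoh.sm f).residueDegree ξ : K) • T.cl Y (WeilCoh.sm f ξ) := by
  exact Groth.Agent.WeilH13.push_cl T f ξ

end Groth.Agent.S15448
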