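import Groth.Statements.S15449
import Groth.Agent.Lib.WeilH13.Alg

set_option autoImplicit false
universe u v
open CategoryTheory AlgebraicGeometry
open WeilCoh

namespace Groth.Agent.S15449

/-- For a Weil cohomology theory H^* (coefficients in K of characteristic zero, on nonsingular connected
projective varieties over an algebraically closed field k), such varieties X and Y with product X ×
Y and projections p, q, and α ∈ H^i(Y): p_*(q^*(α)) = Tr_Y(α) (as a multiple of 1 ∈ H^0(X)) if i = 2
dim Y, and p_*(q^*(α)) = 0 otherwise. The product is any object Q with morphisms p : Q → X, q : Q →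
Y forming a cartesian square over Spec k; both sides are read in the total cohomology ring of X. -/
theorem result (k : Type u) [Field k] [IsAlgClosed k] (K : Type v) [Field K] [CharZero K]
    (T : WeilCoh.Theory k K) (X Y Q : WeilCoh.Var k) (p : Q ⟶ X) (q : Q ⟶ Y)
    (hQ : WeilCoh.IsProd p q) (i : ℤ) (a : ↥(T.gr Y i)) :
    (i = 2 * (WeilCoh.dim Y.obj.left : ℤ) →
      (T.push p i ⟨T.pull q a, T.pull_mem q i a a.2⟩ : T.H X) = algebraMap K (T.H X) (T.tr Y a)) ∧
    (i ≠ 2 * (WeilCoh.dim Y.obj.left : ℤ) →
      (T.push p i ⟨T.pull q a, T.pull_mem q i a a.2⟩ : T.H X) = 0) := by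
  have hd := Groth.Agent.WeilH13.dim_prod T hQ
  have key : ∀ s, ∀ b ∈ T.gr X s,
      T.tr Q (T.pull q (a : T.H Y) * T.pull p b) =
        (-1 : K) ^ (i.natAbs * s.natAbs) * (T.tr X b * T.tr Y a) := by
    intro s b hb
    rw [Groth.Agent.WeilH13.pull_mul_pull_comm T p q hb a.2, map_smul, smul_eq_mul,
      Groth.Agent.WeilH13.tr_prod' T hQ]
  constructor
  · intro hi
    refine Groth.Agent.WeilH13.push_eq T p i _ ?_ fun b hb ↦ ?_
    · rw [Algebra.algebraMap_eq_smul_one]
      exact Groth.Agent.WeilH13.eq_of_mem T (by omega)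
        (Submodule.smul_mem _ _ (Groth.Agent.WeilH13.one_mem T X))
    · have hev : Even (i.natAbs) := Int.natAbs_even.2 ⟨(WeilCoh.dim Y.obj.left : ℤ), by omega⟩
      rw [key _ b hb, (hev.mul_right _).neg_one_pow, one_mul, Algebra.algebraMap_eq_smul_one,
        smul_mul_assoc, one_mul, map_smul, smul_eq_mul, mul_comm]
  · intro hi
    refine Groth.Agent.WeilH13.push_eq T p i _ (Submodule.zero_mem _) fun b hb ↦ ?_
    rw [key _ b hb, T.tr_vanish Y i a a.2 hi]
    simp

end Groth.Agent.S15449
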