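import Groth.Statements.S15451
import Groth.Agent.Lib.WeilH13.Graph

set_option autoImplicit false
universe u v
open CategoryTheory AlgebraicGeometry
open WeilCoh

namespace Groth.Agent.S15451

/-- Let H^* be a Weil cohomology theory (coefficients in K of characteristic zero, on nonsingular
connected projective varieties over an algebraically closed field k), φ an endomorphism of such a
variety X of dimension n, p, q the projections of X × X and Γ_φ the graph of φ. If (e^r_i)_i is a
basis of H^r(X) and (f^{2n−r}_i)_i the dual basis of H^{2n−r}(X) for Poincaré duality,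
Tr_X(f^{2n−r}_ℓ ∪ e^r_i) = δ_{i,ℓ}, for every 0 ≤ r ≤ 2n, then cl(Γ_φ) = Σ_{r=0}^{2n} Σ_i
p^*(φ^*(e^r_i)) ∪ q^*(f^{2n−r}_i) in H^{2n}(X × X). Here X × X is any object P with a cartesian
square p, q : P → X over Spec k, Γ_φ is the closure of the image of the generic point of X under the
section j = (id, φ) of p, and the f^{2n−r}_i are any family satisfying the duality relations. -/
theorem result (k : Type u) [Field k] [IsAlgClosed k] (K : Type v) [Field K] [CharZero K]
    (T : WeilCoh.Theory k K)
    (X P : WeilCoh.Var k) [IrreducibleSpace ↥X.obj.left] (φ : X ⟶ X)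
    (p q : P ⟶ X) (hP : WeilCoh.IsProd p q) (j : X ⟶ P) (hjp : j ≫ p = 𝟙 X) (hjq : j ≫ q = φ)
    (ι : ℕ → Type) [∀ r, Fintype (ι r)] [∀ r, DecidableEq (ι r)]
    (e : (r : ℕ) → Module.Basis (ι r) K ↥(T.gr X (r : ℤ)))
    (f : (r : ℕ) → ι r → ↥(T.gr X (2 * (WeilCoh.dim X.obj.left : ℤ) - r)))
    (hef : ∀ r, r ≤ 2 * WeilCoh.dim X.obj.left → ∀ i l : ι r,
      T.tr X ((f r l : T.H X) * (e r i : T.H X)) = if i = l then 1 else 0) :
    T.cl P (WeilCoh.sm j (genericPoint ↥X.obj.left)) =
      ∑ r ∈ Finset.range (2 * WeilCoh.dim X.obj.left + 1), ∑ i : ι r,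
        T.pull p (T.pull φ (e r i : T.H X)) * T.pull q (f r i : T.H X) := by
  exact Groth.Agent.WeilH13.cl_graph_eq T hP hjp hjq hef

end Groth.Agent.S15451
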