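import Groth.Statements.S15452
import Groth.Agent.Lib.WeilH13.ZetaFormula

set_option autoImplicit false
universe u v
open CategoryTheory AlgebraicGeometry
open WeilCoh

namespace Groth.Agent.S15452

/-- Let k₀ be a finite field with q elements, k an algebraically closed field containing k₀, H^* a Weil
cohomology theory, with coefficient field K of characteristic zero, on nonsingular connected
projective varieties over k, X a scheme of finite type over k₀ whose base change X̄ = X ×_{k₀} k is
such a variety (as it is when X is nonsingular, projective and geometrically connected), and F =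
Frob_{X,q} × id the k-endomorphism of X̄ induced by the q-Frobenius of X; let n = dim X̄ and P_i(t)
= det(Id − t F^* | H^i(X̄)). Then Z(X, t) = P_1(t) P_3(t) ⋯ P_{2n−1}(t) / (P_0(t) P_2(t) ⋯
P_{2n}(t)); stated multiplied out in K⟦t⟧, with Z(X, t) = exp(Σ_m N_m t^m / m) ∈ ℚ⟦t⟧ mapped to K⟦t⟧
and P_i the reverse of the characteristic polynomial of F^* on H^i(X̄). The q-Frobenius of X is
pinned as the endomorphism that is the identity on points and the q-th power on sections, X̄ as a
cartesian square over Spec k → Spec k₀, and F by its compatibility with the projection to X; the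
product X̄ ×_k X̄, on which the proof applies the trace formula to the graphs of the powers of F, is
given as any object of the category with a cartesian square p, q to X̄ over Spec k. (The published
statement takes k to be an algebraic closure of the prime field; this row allows any algebraically
closed field containing k₀.) -/
theorem result (k₀ : Type u) [Field k₀] [Finite k₀] (k : Type u) [Field k] [IsAlgClosed k] [Algebra k₀ k]
    (K : Type v) [Field K] [CharZero K] (T : WeilCoh.Theory k K)
    {X : Scheme.{u}} (f : X ⟶ Spec (CommRingCat.of k₀)) [LocallyOfFiniteType f] [QuasiCompact f]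
    (FX : X ⟶ X) (hFb : FX.base = 𝟙 _) (hle : ∀ U : X.Opens, U ≤ FX ⁻¹ᵁ U)
    (hFapp : ∀ (U : X.Opens) (s : Γ(X, U)), (FX.appLE U U (hle U)).hom s = s ^ Nat.card k₀)
    (Xb : WeilCoh.Var k) (π : Xb.obj.left ⟶ X)
    (hπ : IsPullback π Xb.obj.hom f (Spec.map (CommRingCat.ofHom (algebraMap k₀ k))))
    (F : Xb ⟶ Xb) (hF : WeilCoh.sm F ≫ π = π ≫ FX)
    (Pb : WeilCoh.Var k) (p q : Pb ⟶ Xb) (hP : WeilCoh.IsProd p q) :
    PowerSeries.map (algebraMap ℚ K) (Zeta.zetaFun f) *
        (∏ i ∈ Finset.range (WeilCoh.dim Xb.obj.left + 1),
          ((LinearMap.charpoly (T.pullDeg F ((2 * i : ℕ) : ℤ))).reverse : PowerSeries K)) =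
      ∏ i ∈ Finset.range (WeilCoh.dim Xb.obj.left),
        ((LinearMap.charpoly (T.pullDeg F ((2 * i + 1 : ℕ) : ℤ))).reverse : PowerSeries K) := by
  exact Groth.Agent.WeilH13.FrobData.zeta_formula
    (⟨X, f, FX, hFb, hle, hFapp, Xb, π, hπ, F, hF⟩ : Groth.Agent.WeilH13.FrobData k₀ k) T hP

end Groth.Agent.S15452
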