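import Groth.Statements.S1546
import Groth.Agent.Lib.GeomIrr18.Roof

set_option autoImplicit false
universe u
open CategoryTheory CategoryTheory.Limits AlgebraicGeometry
open Variety

namespace Groth.Agent.S1546

/-- For a field extension K of k and a scheme X over k, the image in X of an irreducible component of
X_K is an irreducible component of X, and every irreducible component of X is such an image. -/
theorem result (k : Type u) [Field k] (X : Scheme.{u}) [X.Over (Spec (CommRingCat.of k))] (K : Type u) [Field K] [Algebra k K] :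
    (∀ T ∈ irreducibleComponents (Curv2.bc k X K : Type u), (Curv2.bcFst k X K).base '' T ∈ irreducibleComponents (X : Type u)) ∧
    (∀ Z ∈ irreducibleComponents (X : Type u), ∃ T ∈ irreducibleComponents (Curv2.bc k X K : Type u), (Curv2.bcFst k X K).base '' T = Z) := by
  refine ⟨fun T hT => ?_, fun Z hZ => ?_⟩
  · obtain ⟨η, hη, rfl⟩ := GeomIrr.exists_generic_component hT
    obtain ⟨h1, h2⟩ := GeomIrr.image_component (X ↘ Spec (CommRingCat.of k)) K hη
    exact (show Curv2.bcFst k X K '' closure {η} = _ from h2) ▸ GeomIrr.closure_mem_of_isMaximalPt h1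
  · obtain ⟨ξ, hξ, rfl⟩ := GeomIrr.exists_generic_component hZ
    haveI : Surjective (Curv2.bcFst k X K) := GeomIrr.surjective_fst (X ↘ Spec (CommRingCat.of k)) K
    obtain ⟨η, hη, rfl⟩ := GeomIrr.exists_maximal_over (Curv2.bcFst k X K) hξ
    exact ⟨_, GeomIrr.closure_mem_of_isMaximalPt hη, (GeomIrr.image_component (X ↘ Spec (CommRingCat.of k)) K hη).2⟩

end Groth.Agent.S1546
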