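import Groth.Statements.S15462
import Groth.Agent.Lib.ArithLW25.Continuation

set_option autoImplicit false
universe u
open CategoryTheory AlgebraicGeometry
open Zeta

namespace Groth.Agent.S15462

/-- If X is an arithmetic scheme (of finite type over ℤ) of dimension r, its zeta function L_X(s) = Σ_{n
≥ 1} a_n n^{−s} (a_n the number of effective 0-cycles on X of norm n) extends meromorphically to the
half-plane Re(s) > r − ε for some ε > 0, with a pole at s = r. Stated as: there are ε > 0 and a
function g on ℂ, meromorphic at every point of that half-plane, agreeing with the Dirichlet series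
where Re(s) > r, and with negative order at s = r. -/
theorem result {X : Scheme.{u}}
    (f : X ⟶ Spec (CommRingCat.of (ULift.{u} ℤ))) [LocallyOfFiniteType f] [QuasiCompact f] (r : ℕ)
    (hr : topologicalKrullDim X = r) :
    ∃ ε : ℝ, 0 < ε ∧ ∃ g : ℂ → ℂ, MeromorphicOn g {s : ℂ | (r : ℝ) - ε < s.re} ∧
      (∀ s : ℂ, (r : ℝ) < s.re → g s = LSeries (Zeta.arithCoeff X) s) ∧
      meromorphicOrderAt g (r : ℂ) < 0 := by
  obtain ⟨Ks, Ms, hmod⟩ := Groth.Agent.ArithLW25.exists_models_closed f ⟨r, hr.le⟩ ⊤ r
    ((Topology.IsInducing.subtypeVal.topologicalKrullDim_le).trans hr.le)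
  obtain ⟨ε, hε, g, hg, hgeq, hord, -⟩ := Groth.Agent.ArithLW25.exists_continuation f hr hmod
  refine ⟨ε, hε, g, hg, hgeq, ?_⟩
  rw [hord]
  have := Groth.Agent.ArithLW25.models_ne_nil f hr hmod
  exact_mod_cast (by omega : -(((Ks.length + Ms.length : ℕ) : ℤ)) < 0)

end Groth.Agent.S15462
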