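import Groth.Statements.S15463
import Groth.Agent.Lib.ArithLW25.Continuation

set_option autoImplicit false
universe u
open CategoryTheory AlgebraicGeometry
open Zeta

namespace Groth.Agent.S15463

/-- If X is an irreducible arithmetic scheme (of finite type over ℤ) of dimension r that dominates Spec
ℤ, then for some ε > 0 the zeta function L_X(s) = Σ_{n ≥ 1} a_n n^{−s} (a_n the number of effective
0-cycles of norm n) has a meromorphic continuation to the half-plane Re(s) > r − ε whose only pole
there is s = r, and this pole has order one. Stated with a function g on ℂ, meromorphic at every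
point of the half-plane and agreeing with the Dirichlet series where Re(s) > r, of order −1 at r and
of nonnegative order at every other point of the half-plane; X dominates Spec ℤ in the sense that
some point of X maps to the generic point. -/
theorem result {X : Scheme.{u}}
    (f : X ⟶ Spec (CommRingCat.of (ULift.{u} ℤ))) [LocallyOfFiniteType f] [QuasiCompact f] (r : ℕ)
    (hr : topologicalKrullDim X = r) [IrreducibleSpace ↥X]
    (hdom : ∃ x : X, closure ({f.base x} : Set ↥(Spec (CommRingCat.of (ULift.{u} ℤ)))) = Set.univ) :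
    ∃ ε : ℝ, 0 < ε ∧ ∃ g : ℂ → ℂ, MeromorphicOn g {s : ℂ | (r : ℝ) - ε < s.re} ∧
      (∀ s : ℂ, (r : ℝ) < s.re → g s = LSeries (Zeta.arithCoeff X) s) ∧
      meromorphicOrderAt g (r : ℂ) = -1 ∧
      ∀ s : ℂ, (r : ℝ) - ε < s.re → s ≠ (r : ℂ) → 0 ≤ meromorphicOrderAt g s := by
  obtain ⟨x, hx⟩ := hdom
  have hη : closure ({f.base (genericPoint X)} : Set ↥(Spec (CommRingCat.of (ULift.{u} ℤ)))) = Set.univ := by
    refine Set.eq_univ_of_univ_subset (hx ▸ closure_minimal ?_ isClosed_closure)
    exact Set.singleton_subset_iff.2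
      (specializes_iff_mem_closure.1 ((genericPoint_specializes x).map f.continuous))
  let φ := Spec.preimage (X.fromSpecResidueField (genericPoint X) ≫ f)
  have hφ : Function.Injective φ.hom := by
    rw [RingHom.injective_iff_ker_eq_bot, ← le_bot_iff]
    have hp : f.base (genericPoint X) = (Spec.map φ).base (IsLocalRing.closedPoint (X.residueField (genericPoint X))) := by
      rw [Spec.map_preimage, Scheme.Hom.comp_base, TopCat.coe_comp, Function.comp_apply,
        Scheme.fromSpecResidueField_apply]
    haveI : IsDomain (ULift.{u} ℤ) := (ULift.ringEquiv (R := ℤ)).toMulEquiv.isDomain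
    have hbot : (⟨⊥, Ideal.isPrime_bot⟩ : PrimeSpectrum (ULift.{u} ℤ)) ∈
        closure ({f.base (genericPoint X)} : Set ↥(Spec (CommRingCat.of (ULift.{u} ℤ)))) := by rw [hη]; trivial
    rw [hp] at hbot
    intro a ha
    have hle := (PrimeSpectrum.le_iff_specializes _ (⟨⊥, Ideal.isPrime_bot⟩ : PrimeSpectrum (ULift.{u} ℤ))).2
      (specializes_iff_mem_closure.2 hbot)
    refine hle ?_
    show φ.hom a ∈ IsLocalRing.maximalIdeal _
    rw [RingHom.mem_ker.1 ha]
    exact zero_mem _
  have h0 : CharZero (X.residueField (genericPoint X)) :=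
    ⟨fun a b h => by
      have := hφ (a₁ := (a : ULift.{u} ℤ)) (a₂ := (b : ULift.{u} ℤ)) (by simpa using h)
      exact_mod_cast congrArg ULift.down this⟩
  obtain ⟨Ks, hK, hmod⟩ := Groth.Agent.ArithLW25.exists_models_irreducible f hr h0
  have hpos := Groth.Agent.ArithLW25.models_ne_nil f hr hmod
  obtain ⟨ε, hε, g, hg, hgeq, hord, hoth⟩ := Groth.Agent.ArithLW25.exists_continuation f hr hmod
  refine ⟨ε, hε, g, hg, hgeq, ?_, hoth rfl⟩
  rw [hord]
  have h1 : Ks.length = 1 := by simp only [List.length_nil] at hpos; omega
  simp [h1]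

end Groth.Agent.S15463
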