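import Groth.Statements.S15465
import Mathlib.CategoryTheory.Abelian.Refinements

set_option autoImplicit false
universe v u
open HomAlg

namespace Groth.Agent.S15465


open CategoryTheory CategoryTheory.Limits in
/-- In an abelian category let 0 → A₂ → B₂ → C₂ → 0 (maps i₂, π₂), 0 → A₁ → A₂ → A₃ → 0 (maps i₁, p₁)
and 0 → C₁ → C₂ → C₃ → 0 (maps j, q) be short exact sequences, let α = i₁ ≫ i₂ : A₁ → B₂ and β = π₂
≫ q : B₂ → C₃, and let K = ker β / im α be the homology object of the complex A₁ → B₂ → C₃. Let f :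
A₃ → K be the map induced by i₂ (the unique map whose composite with p₁ is the homology class of the
cycle i₂) and g : K → C₁ the map induced by π₂ (the unique map whose composite with j is the map K →
C₂ induced by π₂). Then 0 → A₃ → K → C₁ → 0, with maps f and g, is a short exact sequence. (The
hypotheses w, h₂, h₃ are consequences of i₂ ≫ π₂ = 0, carried so that the maps can be named; the
published statement assumes in addition that the category has enough injective objects, which plays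
no role in this assertion.) -/
theorem result
    {C : Type u} [Category.{v} C] [Abelian C] {A₁ A₂ A₃ B₂ C₁ C₂ C₃ : C}
    (i₁ : A₁ ⟶ A₂) (p₁ : A₂ ⟶ A₃) (wA : i₁ ≫ p₁ = 0) (hA : (ShortComplex.mk i₁ p₁ wA).ShortExact)
    (i₂ : A₂ ⟶ B₂) (π₂ : B₂ ⟶ C₂) (wB : i₂ ≫ π₂ = 0) (hB : (ShortComplex.mk i₂ π₂ wB).ShortExact)
    (j : C₁ ⟶ C₂) (q : C₂ ⟶ C₃) (wC : j ≫ q = 0) (hC : (ShortComplex.mk j q wC).ShortExact)
    (w : (i₁ ≫ i₂) ≫ (π₂ ≫ q) = 0) (h₂ : i₂ ≫ (π₂ ≫ q) = 0) (h₃ : (i₁ ≫ i₂) ≫ π₂ = 0)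
    (f : A₃ ⟶ (CategoryTheory.ShortComplex.mk (i₁ ≫ i₂) (π₂ ≫ q) w).homology)
    (g : (CategoryTheory.ShortComplex.mk (i₁ ≫ i₂) (π₂ ≫ q) w).homology ⟶ C₁)
    (hf : p₁ ≫ f = (CategoryTheory.ShortComplex.mk (i₁ ≫ i₂) (π₂ ≫ q) w).liftCycles i₂ h₂ ≫ (CategoryTheory.ShortComplex.mk (i₁ ≫ i₂) (π₂ ≫ q) w).homologyπ)
    (hg : g ≫ j = (CategoryTheory.ShortComplex.mk (i₁ ≫ i₂) (π₂ ≫ q) w).homologyι ≫ (CategoryTheory.ShortComplex.mk (i₁ ≫ i₂) (π₂ ≫ q) w).descOpcycles π₂ h₃) :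
    ∃ wfg : f ≫ g = 0, (ShortComplex.mk f g wfg).ShortExact := by
  haveI : Mono i₁ := hA.mono_f
  haveI : Epi p₁ := hA.epi_g
  haveI : Mono i₂ := hB.mono_f
  haveI : Epi π₂ := hB.epi_g
  haveI : Mono j := hC.mono_f
  let S := CategoryTheory.ShortComplex.mk (i₁ ≫ i₂) (π₂ ≫ q) w
  have key : ∀ {T : C} (z : T ⟶ B₂) (hz : z ≫ (π₂ ≫ q) = 0),
      S.liftCycles z hz ≫ S.homologyπ ≫ g ≫ j = z ≫ π₂ := by
    intro T z hz
    rw [hg, ShortComplex.homology_π_ι_assoc, ShortComplex.liftCycles_i_assoc, ShortComplex.p_descOpcycles]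
  have wfg : f ≫ g = 0 := by
    rw [← cancel_epi p₁, ← cancel_mono j, comp_zero, zero_comp, Category.assoc, Category.assoc, reassoc_of% hf]
    exact (key i₂ h₂).trans wB
  haveI : Mono f := by
    refine Preadditive.mono_of_cancel_zero _ fun {T} a ha => ?_
    obtain ⟨T₁, t, ht, b, hb⟩ := surjective_up_to_refinements_of_epi p₁ a
    have h0 : S.liftCycles (b ≫ i₂) (by rw [Category.assoc]; exact (congrArg (b ≫ ·) h₂).trans comp_zero) ≫
        S.homologyπ = 0 := by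
      rw [← ShortComplex.comp_liftCycles (hk := h₂), Category.assoc, ← hf, ← reassoc_of% hb, ha, comp_zero]
    obtain ⟨T₂, t', ht', x₁, hx₁⟩ := (S.liftCycles_comp_homologyπ_eq_zero_iff_up_to_refinements _ _).1 h0
    have hb' : t' ≫ b = x₁ ≫ i₁ := by
      rw [← cancel_mono i₂, Category.assoc, Category.assoc]
      exact hx₁
    rw [← cancel_epi t, ← cancel_epi t', hb, reassoc_of% hb', wA, comp_zero, comp_zero, comp_zero]
  haveI : Epi g := by
    rw [epi_iff_surjective_up_to_refinements]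
    intro T c
    obtain ⟨T₁, t, ht, z, hz⟩ := surjective_up_to_refinements_of_epi π₂ (c ≫ j)
    have hzq : z ≫ (π₂ ≫ q) = 0 := by
      rw [← reassoc_of% hz, wC, comp_zero, comp_zero]
    refine ⟨T₁, t, ht, S.liftCycles z hzq ≫ S.homologyπ, ?_⟩
    rw [← cancel_mono j, Category.assoc, Category.assoc, Category.assoc, key z hzq]
    exact hz
  refine ⟨wfg, ShortComplex.ShortExact.mk' ?_ inferInstance inferInstance⟩
  rw [ShortComplex.exact_iff_exact_up_to_refinements]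
  intro T x hx
  obtain ⟨T₁, t, ht, z, hz, hzx⟩ := S.eq_liftCycles_homologyπ_up_to_refinements x
  have hzπ : z ≫ π₂ = 0 := by
    rw [← key z hz, ← reassoc_of% hzx]
    show t ≫ x ≫ g ≫ j = 0
    have hx' : x ≫ g = 0 := hx
    rw [reassoc_of% hx', zero_comp, comp_zero]
  obtain ⟨T₂, t', ht', v, hv⟩ := hB.exact.exact_up_to_refinements z hzπ
  refine ⟨T₂, t' ≫ t, epi_comp _ _, v ≫ p₁, ?_⟩
  show (t' ≫ t) ≫ x = (v ≫ p₁) ≫ f
  rw [Category.assoc, hzx, Category.assoc, hf]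
  rw [← Category.assoc t', ← Category.assoc v, ShortComplex.comp_liftCycles, ShortComplex.comp_liftCycles]
  congr 2


end Groth.Agent.S15465
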