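import Groth.Statements.S15469
import Groth.Agent.Lib.IsoNat5.Unramified
-- import your own Groth.Agent.* helpers here

set_option autoImplicit false
universe u
open CategoryTheory AlgebraicGeometry
open IsoNat

namespace Groth.Agent.S15469

/-- The existence of a scheme with an etale surjective morphism to the stack is detected by the presheaf
of isomorphism classes. If 𝒳 and 𝒴 are algebraic stacks over a quasi-separated scheme S with
isomorphic presheaves of isomorphism classes and 𝒳 is Deligne-Mumford, then 𝒴 is Deligne-Mumford.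
Here an algebraic stack over a quasi-separated scheme S means a stack in groupoids for the fppf
topology with a smooth surjective atlas from a scheme, whose diagonal is representable by separated
quasi-compact morphisms of algebraic spaces and whose inertia is locally of finite presentation over
it. (The published statement compares within the wider class of quasi-algebraic stacks, which need
not have an atlas; this row compares algebraic stacks only.) -/
theorem result
    (S : Scheme.{u}) [QuasiSeparatedSpace S]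
    (𝒳 𝒴 : AlgSt.Cat S)
    (h𝒳 : AlgSt.IsAlgStack Scheme.fppfPrecoverage 𝒳)
    (h𝒳d : AlgSt.RepByAlgSpWith (AlgSp.IsSeparatedMor ⊓ AlgSp.IsQuasiCompactMor)
      (FibCat.diag (FibCat.toSelf 𝒳)))
    (h𝒳i : AlgSt.RepByAlgSpWith (AlgSp.LocP @LocallyOfFinitePresentation)
      (FibCat.inertiaToBase (FibCat.toSelf 𝒳)))
    (h𝒴 : AlgSt.IsAlgStack Scheme.fppfPrecoverage 𝒴)
    (h𝒴d : AlgSt.RepByAlgSpWith (AlgSp.IsSeparatedMor ⊓ AlgSp.IsQuasiCompactMor)
      (FibCat.diag (FibCat.toSelf 𝒴)))
    (h𝒴i : AlgSt.RepByAlgSpWith (AlgSp.LocP @LocallyOfFinitePresentation)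
      (FibCat.inertiaToBase (FibCat.toSelf 𝒴)))
    (φ : IsoNat.FIso 𝒳 𝒴)
    (hdm : AlgSt.IsDM Scheme.fppfPrecoverage 𝒳) :
    AlgSt.IsDM Scheme.fppfPrecoverage 𝒴 := by
  have hd : AlgSt.RepByAlgSpWith AlgSp.IsSeparatedMor (FibCat.diag (FibCat.toSelf 𝒴)) :=
    StAlg.repByAlgSpWith_mono (fun _ _ _ _ h => h.1) h𝒴d
  obtain ⟨U, x, hx, hxs⟩ := hdm.2
  obtain ⟨y, hy⟩ := IsoNat5.exists_chart φ h𝒴.isStack.1 x
  exact ⟨h𝒴, U, y, IsoNat5.etale_transfer h𝒳 h𝒴 hd φ hy hx, IsoNat5.surj_transfer φ h𝒳 h𝒴 hy hxs⟩

end Groth.Agent.S15469
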