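import Groth.Statements.S1547
import Groth.Agent.Lib.GeomIrr18.Roof

set_option autoImplicit false
universe u
open CategoryTheory CategoryTheory.Limits AlgebraicGeometry
open Variety

namespace Groth.Agent.S1547

/-- Let k be a separably closed field, X a scheme over k and K any field extension of k. Then taking
images along the projection X_K → X is injective on irreducible components: two irreducible
components of X_K with the same image in X are equal. (Together with surjectivity on irreducible
components, stated separately, this gives a bijection of irreducible components.) -/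
theorem result (k : Type u) [Field k] (X : Scheme.{u}) [X.Over (Spec (CommRingCat.of k))] [IsSepClosed k] (K : Type u) [Field K] [Algebra k K]
    (T T' : Set (Curv2.bc k X K : Type u)) (hT : T ∈ irreducibleComponents (Curv2.bc k X K : Type u))
    (hT' : T' ∈ irreducibleComponents (Curv2.bc k X K : Type u))
    (h : (Curv2.bcFst k X K).base '' T = (Curv2.bcFst k X K).base '' T') : T = T' := by
  let f := X ↘ Spec (CommRingCat.of k)
  haveI := GeomIrr.geometricallyIrreducible_specMap k K
  haveI := GeomIrr.universallyOpen_fst f K
  let π := pullback.fst f (Spec.map (CommRingCat.ofHom (algebraMap k K)))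
  obtain ⟨η, hη, rfl⟩ := GeomIrr.exists_generic_component hT
  obtain ⟨η', hη', rfl⟩ := GeomIrr.exists_generic_component hT'
  have h1 : π '' closure {η} = π '' closure {η'} := h
  rw [(GeomIrr.image_component f K hη).2, (GeomIrr.image_component f K hη').2] at h1
  have hirr : IsIrreducible (π ⁻¹' closure {π η}) := π.isIrreducible_preimage π.isOpenMap isIrreducible_singleton.closure
  have key : ∀ a, GeomIrr.IsMaximalPt a → π a ∈ closure {π η} → closure {a} ⊆ π ⁻¹' closure {π η} →
      closure ({a} : Set ↥(Curv2.bc k X K)) = π ⁻¹' closure {π η} := fun a ha _ hle =>
    le_antisymm hle ((GeomIrr.closure_mem_of_isMaximalPt ha).2 hirr hle)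
  have hc : IsClosed (π ⁻¹' closure {π η}) := isClosed_closure.preimage π.continuous
  rw [key η hη (subset_closure rfl) (hc.closure_subset_iff.mpr (Set.singleton_subset_iff.mpr (subset_closure rfl : π η ∈ closure {π η}))),
    key η' hη' (h1.ge (subset_closure rfl)) (hc.closure_subset_iff.mpr (Set.singleton_subset_iff.mpr (h1.ge (subset_closure rfl) : π η' ∈ closure {π η})))]

end Groth.Agent.S1547
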