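import Groth.Statements.S15471
import Groth.Agent.Lib.IsoNat5.Charts
-- import your own Groth.Agent.* helpers here

set_option autoImplicit false
universe u
open CategoryTheory AlgebraicGeometry
open IsoNat

namespace Groth.Agent.S15471

/-- A property of algebraic stacks read on smooth scheme charts is detected by the presheaf of
isomorphism classes. If 𝒳 and 𝒴 are algebraic stacks over a quasi-separated scheme S with isomorphic
presheaves of isomorphism classes and every scheme U with a smooth U → 𝒳 has P, then every scheme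
with a smooth morphism to 𝒴 has P. For P local in the smooth topology (locally Noetherian, reduced,
normal, regular) this is the statement that 𝒳 has P if and only if 𝒴 does; the transfer itself holds
for every P. Here an algebraic stack over a quasi-separated scheme S means a stack in groupoids for
the fppf topology with a smooth surjective atlas from a scheme, whose diagonal is representable by
separated quasi-compact morphisms of algebraic spaces and whose inertia is locally of finite
presentation over it. -/
theorem result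
    (S : Scheme.{u}) [QuasiSeparatedSpace S]
    (𝒳 𝒴 : AlgSt.Cat S)
    (h𝒳 : AlgSt.IsAlgStack Scheme.fppfPrecoverage 𝒳)
    (h𝒳d : AlgSt.RepByAlgSpWith (AlgSp.IsSeparatedMor ⊓ AlgSp.IsQuasiCompactMor)
      (FibCat.diag (FibCat.toSelf 𝒳)))
    (h𝒳i : AlgSt.RepByAlgSpWith (AlgSp.LocP @LocallyOfFinitePresentation)
      (FibCat.inertiaToBase (FibCat.toSelf 𝒳)))
    (h𝒴 : AlgSt.IsAlgStack Scheme.fppfPrecoverage 𝒴)
    (h𝒴d : AlgSt.RepByAlgSpWith (AlgSp.IsSeparatedMor ⊓ AlgSp.IsQuasiCompactMor)
      (FibCat.diag (FibCat.toSelf 𝒴)))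
    (h𝒴i : AlgSt.RepByAlgSpWith (AlgSp.LocP @LocallyOfFinitePresentation)
      (FibCat.inertiaToBase (FibCat.toSelf 𝒴)))
    (φ : IsoNat.FIso 𝒳 𝒴)
    (P : Scheme.{u} → Prop) (hP : AlgSt.SmoothLocally P 𝒳) :
    AlgSt.SmoothLocally P 𝒴 := by
  intro U y hy
  obtain ⟨x, hx⟩ := IsoNat5.exists_chart (IsoNat5.symm h𝒳.isStack.1 h𝒴.isStack.1 φ) h𝒳.isStack.1 y
  exact hP U x (IsoNat5.smooth_transfer (IsoNat5.symm h𝒳.isStack.1 h𝒴.isStack.1 φ) h𝒴 h𝒳 hx hy)

end Groth.Agent.S15471
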