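import Groth.Statements.S15486
import Groth.Agent.Lib.IsoNat5.BaldEquiv

set_option autoImplicit false
universe u
open CategoryTheory AlgebraicGeometry
open IsoNat

namespace Groth.Agent.S15486

/-- Bald algebraic stacks are determined by their presheaves of isomorphism classes. Let 𝒳 and 𝒴 be
algebraic stacks over a quasi-separated scheme S with proper diagonals which are bald: for every
smooth morphism x from a scheme U, the locus of U over which the object x becomes clean (trivial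
automorphism sheaf: every object mapping to it has only the identity as endomorphism over the
identity of its base) is an open subscheme schematically dense in U. If their presheaves of
isomorphism classes are isomorphic, then 𝒳 and 𝒴 are equivalent over (Sch/S). Here an algebraic
stack over a quasi-separated scheme S means a stack in groupoids for the fppf topology with a smooth
surjective atlas from a scheme, whose diagonal is representable by separated quasi-compact morphisms
of algebraic spaces and whose inertia is locally of finite presentation over it. (The published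
definition of bald asks the clean locus, an open substack, to be schematically dense in the stack;
this row uses the equivalent chart-wise form, and compares algebraic stacks rather than
quasi-algebraic ones.) -/
theorem result
    (S : Scheme.{u}) [QuasiSeparatedSpace S]
    (𝒳 𝒴 : AlgSt.Cat S)
    (h𝒳 : AlgSt.IsAlgStack Scheme.fppfPrecoverage 𝒳)
    (h𝒳d : AlgSt.RepByAlgSpWith (AlgSp.IsSeparatedMor ⊓ AlgSp.IsQuasiCompactMor)
      (FibCat.diag (FibCat.toSelf 𝒳)))
    (h𝒳i : AlgSt.RepByAlgSpWith (AlgSp.LocP @LocallyOfFinitePresentation)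
      (FibCat.inertiaToBase (FibCat.toSelf 𝒳)))
    (h𝒴 : AlgSt.IsAlgStack Scheme.fppfPrecoverage 𝒴)
    (h𝒴d : AlgSt.RepByAlgSpWith (AlgSp.IsSeparatedMor ⊓ AlgSp.IsQuasiCompactMor)
      (FibCat.diag (FibCat.toSelf 𝒴)))
    (h𝒴i : AlgSt.RepByAlgSpWith (AlgSp.LocP @LocallyOfFinitePresentation)
      (FibCat.inertiaToBase (FibCat.toSelf 𝒴)))
    (h𝒳s : AlgSt.IsSeparatedOver 𝒳)
    (h𝒳b : ∀ (U : Over S) (x : FibCat.overCat U ⥤ᵇ 𝒳), AlgSt.RepByAlgSpWith (AlgSp.LocP @Smooth) x →
      ∃ V : U.left.Opens,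
        (∀ (T : Over S) (g : T ⟶ U), (∃ g' : T.left ⟶ ↑V, g' ≫ V.ι = g.left) ↔ IsoNat.IsClean (x.obj (Over.mk g))) ∧
        CInt.IsSchematicallyDense V)
    (h𝒴s : AlgSt.IsSeparatedOver 𝒴)
    (h𝒴b : ∀ (U : Over S) (x : FibCat.overCat U ⥤ᵇ 𝒴), AlgSt.RepByAlgSpWith (AlgSp.LocP @Smooth) x →
      ∃ V : U.left.Opens,
        (∀ (T : Over S) (g : T ⟶ U), (∃ g' : T.left ⟶ ↑V, g' ≫ V.ι = g.left) ↔ IsoNat.IsClean (x.obj (Over.mk g))) ∧
        CInt.IsSchematicallyDense V)
    (φ : IsoNat.FIso 𝒳 𝒴) :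
    ∃ e : 𝒳 ⥤ᵇ 𝒴, FibCat.IsEquivOver e := by
  obtain ⟨U, x, hx, hxs⟩ := h𝒳.atlas
  obtain ⟨y, hy⟩ := Groth.Agent.IsoNat5.exists_chart φ h𝒴.isStack.1 x
  have hys := Groth.Agent.IsoNat5.smooth_transfer φ h𝒳 h𝒴 hy hx
  obtain ⟨V, hV, hVd⟩ := h𝒳b U x hx
  obtain ⟨W, hW, hWd⟩ := h𝒴b U y hys
  have hxr := Groth.Agent.IsoNat5.rigid_of_clean_dense h𝒳.isStack h𝒳i
    (Groth.Agent.StAlg16.with_inertiaToBase h𝒳.isStack.1 Groth.Agent.FC16.selfOver_isFibGrpd h𝒳s)
    (Groth.Agent.StAlg.repByAlgSpWith_mono (fun _ _ _ _ h => h.1) h𝒳d) x hV hVd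
  have hyr := Groth.Agent.IsoNat5.rigid_of_clean_dense h𝒴.isStack h𝒴i
    (Groth.Agent.StAlg16.with_inertiaToBase h𝒴.isStack.1 Groth.Agent.FC16.selfOver_isFibGrpd h𝒴s)
    (Groth.Agent.StAlg.repByAlgSpWith_mono (fun _ _ _ _ h => h.1) h𝒴d) y hW hWd
  exact Groth.Agent.IsoNat5.exists_equiv_of_rigid h𝒳 h𝒴 φ hy hx hxs hys hxr hyr

end Groth.Agent.S15486
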