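import Groth.Statements.S15487
-- import your own Groth.Agent.* helpers here

set_option autoImplicit false
universe u
open CategoryTheory AlgebraicGeometry
open IsoNat

namespace Groth.Agent.S15487

open AlgSt

noncomputable section

variable {S : Scheme.{u}} {𝒳 𝒴 : AlgSt.Cat S}

/-- The field-valued point given by an object of a fibre over the spectrum of a field. -/
def pt {K : Type u} [Field K] {str : Spec (CommRingCat.of K) ⟶ S} (x : 𝒳.p.Fiber (Over.mk str)) : FPt 𝒳 :=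
  { K := K, str := str, obj := x.1, lies := x.2 }

theorem mk_pt_congr {K : Type u} [Field K] {str : Spec (CommRingCat.of K) ⟶ S}
    {x x' : 𝒳.p.Fiber (Over.mk str)} (h : IsoNat.cls x = IsoNat.cls x') :
    Points.mk (pt x) = Points.mk (pt x') := by
  obtain ⟨e⟩ := Quotient.exact h
  exact Points.sound ⟨pt x, 𝟙 _, e.hom.1, trivial⟩

/-- The point of a class in the fibre over the spectrum of a field. -/
def clsPt {K : Type u} [Field K] {str : Spec (CommRingCat.of K) ⟶ S}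
    (c : IsoCl 𝒳 (Over.mk str)) : Points 𝒳 :=
  Quotient.liftOn c (fun x => Points.mk (pt x)) (fun _ _ h => mk_pt_congr (Quotient.sound h))

theorem clsPt_cls {K : Type u} [Field K] {str : Spec (CommRingCat.of K) ⟶ S}
    (x : 𝒳.p.Fiber (Over.mk str)) : clsPt (IsoNat.cls x) = Points.mk (pt x) := rfl

/-- The map of points induced by an isomorphism of presheaves of isomorphism classes. -/
def ptMap (φ : FIso 𝒳 𝒴) : Points 𝒳 → Points 𝒴 :=
  Quot.lift (fun p => clsPt (φ.toEquiv (Over.mk p.str) (IsoNat.cls ⟨p.obj, p.lies⟩))) (by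
    rintro p q ⟨r, a, b, -⟩
    have key : ∀ (p : FPt 𝒳) (a : r.obj ⟶ p.obj),
        clsPt (φ.toEquiv (Over.mk r.str) (IsoNat.cls ⟨r.obj, r.lies⟩)) =
          clsPt (φ.toEquiv (Over.mk p.str) (IsoNat.cls ⟨p.obj, p.lies⟩)) := by
      intro p a
      have : 𝒳.p.IsHomLift (eqToHom r.lies.symm ≫ 𝒳.p.map a ≫ eqToHom p.lies) a :=
        CategoryTheory.IsHomLift.of_fac _ _ _ r.lies p.lies rfl
      obtain ⟨y', y, b, -, h', h⟩ := φ.natural _ ⟨r.obj, r.lies⟩ ⟨p.obj, p.lies⟩ a this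
      rw [h', h, clsPt_cls, clsPt_cls]
      exact Points.sound ⟨pt y', 𝟙 _, b, trivial⟩
    exact (key p a).symm.trans (key q b))

/-- Surjectivity of a morphism of algebraic stacks is detected by the induced map of presheaves of
isomorphism classes. Let f : 𝒳 → 𝒴 and f' : 𝒳' → 𝒴' be morphisms of algebraic stacks over a
quasi-separated scheme S with isomorphisms of the presheaves of isomorphism classes of 𝒳 with 𝒳' and
of 𝒴 with 𝒴' under which the induced maps correspond. If f induces a surjective map on spaces of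
points, so does f'. Here an algebraic stack over a quasi-separated scheme S means a stack in
groupoids for the fppf topology with a smooth surjective atlas from a scheme, whose diagonal is
representable by separated quasi-compact morphisms of algebraic spaces and whose inertia is locally
of finite presentation over it. -/
theorem result
    (S : Scheme.{u}) [QuasiSeparatedSpace S]
    (𝒳 𝒴 : AlgSt.Cat S)
    (h𝒳 : AlgSt.IsAlgStack Scheme.fppfPrecoverage 𝒳)
    (h𝒳d : AlgSt.RepByAlgSpWith (AlgSp.IsSeparatedMor ⊓ AlgSp.IsQuasiCompactMor)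
      (FibCat.diag (FibCat.toSelf 𝒳)))
    (h𝒳i : AlgSt.RepByAlgSpWith (AlgSp.LocP @LocallyOfFinitePresentation)
      (FibCat.inertiaToBase (FibCat.toSelf 𝒳)))
    (h𝒴 : AlgSt.IsAlgStack Scheme.fppfPrecoverage 𝒴)
    (h𝒴d : AlgSt.RepByAlgSpWith (AlgSp.IsSeparatedMor ⊓ AlgSp.IsQuasiCompactMor)
      (FibCat.diag (FibCat.toSelf 𝒴)))
    (h𝒴i : AlgSt.RepByAlgSpWith (AlgSp.LocP @LocallyOfFinitePresentation)
      (FibCat.inertiaToBase (FibCat.toSelf 𝒴)))
    (𝒳' 𝒴' : AlgSt.Cat S)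
    (h𝒳' : AlgSt.IsAlgStack Scheme.fppfPrecoverage 𝒳')
    (h𝒳'd : AlgSt.RepByAlgSpWith (AlgSp.IsSeparatedMor ⊓ AlgSp.IsQuasiCompactMor)
      (FibCat.diag (FibCat.toSelf 𝒳')))
    (h𝒳'i : AlgSt.RepByAlgSpWith (AlgSp.LocP @LocallyOfFinitePresentation)
      (FibCat.inertiaToBase (FibCat.toSelf 𝒳')))
    (h𝒴' : AlgSt.IsAlgStack Scheme.fppfPrecoverage 𝒴')
    (h𝒴'd : AlgSt.RepByAlgSpWith (AlgSp.IsSeparatedMor ⊓ AlgSp.IsQuasiCompactMor)
      (FibCat.diag (FibCat.toSelf 𝒴')))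
    (h𝒴'i : AlgSt.RepByAlgSpWith (AlgSp.LocP @LocallyOfFinitePresentation)
      (FibCat.inertiaToBase (FibCat.toSelf 𝒴')))
    (f : 𝒳 ⥤ᵇ 𝒴) (f' : 𝒳' ⥤ᵇ 𝒴') (φ : IsoNat.FIsoSq f f')
    (hf : AlgSt.IsSurjective f) :
    AlgSt.IsSurjective f' := by
  intro c
  obtain ⟨q, rfl⟩ := Points.mk_surjective c
  obtain ⟨y, hy⟩ := Quotient.exists_rep
    ((φ.tgt.toEquiv (Over.mk q.str)).symm (IsoNat.cls ⟨q.obj, q.lies⟩))
  obtain ⟨P, hP⟩ := hf (Points.mk (pt y))
  obtain ⟨p, rfl⟩ := Points.mk_surjective P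
  refine ⟨ptMap φ.src (Points.mk p), ?_⟩
  have h1 : ptMap φ.tgt (Points.map f (Points.mk p)) = Points.mk q := by
    rw [hP]
    change clsPt (φ.tgt.toEquiv (Over.mk q.str) (IsoNat.cls y)) = _
    rw [show IsoNat.cls y = _ from hy, Equiv.apply_symm_apply]
    rfl
  rw [← h1]
  change Points.map f' (clsPt (φ.src.toEquiv (Over.mk p.str) (IsoNat.cls ⟨p.obj, p.lies⟩))) =
    clsPt (φ.tgt.toEquiv (Over.mk p.str) (mapCls f _ (IsoNat.cls ⟨p.obj, p.lies⟩)))
  rw [φ.comm]
  obtain ⟨z, hz⟩ := Quotient.exists_rep (φ.src.toEquiv (Over.mk p.str) (IsoNat.cls ⟨p.obj, p.lies⟩))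
  rw [← hz]
  rfl

end

end Groth.Agent.S15487
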