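import Groth.Statements.S15488
import Mathlib.GroupTheory.Complement
import Mathlib.GroupTheory.OrderOfElement
import Mathlib.Data.ZMod.QuotientGroup
import Mathlib.LinearAlgebra.Dimension.Constructions
import Mathlib.Tactic.Abel
import Mathlib.LinearAlgebra.StdBasis
import Mathlib.LinearAlgebra.FreeModule.StrongRankCondition

set_option autoImplicit false
universe u
open IsoNat

namespace Groth.Agent.S15488

/-- Let A be a nontrivial commutative ring, G a finite group, g an element of G of order ν and l an
element of A with l ^ ν = 1. In the free A-module of functions G → A (the regular representation, g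
acting by translation v ↦ v(g·)), the submodule of v with v(g h) = l v(h) for all h is a direct
summand, free of rank |G| / ν (stated as: free, rank · ν = |G|, and a complementary submodule
exists). (The published statement is over an arbitrary ring and also covers Hom(A^N, −) of the
regular representation, which follows; nontriviality of A is needed for the rank to be meaningful.) -/
theorem result
    (A : Type u) [CommRing A] [Nontrivial A] (G : Type u) [Group G] [Finite G]
    (g : G) (l : A) (hl : l ^ orderOf g = 1) :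
    Module.Free A (LinearMap.ker (LinearMap.funLeft A A (fun h : G => g * h) - l • LinearMap.id)) ∧
      Module.finrank A (LinearMap.ker (LinearMap.funLeft A A (fun h : G => g * h) - l • LinearMap.id)) * orderOf g = Nat.card G ∧
      ∃ E' : Submodule A (G → A), IsCompl (LinearMap.ker (LinearMap.funLeft A A (fun h : G => g * h) - l • LinearMap.id)) E' := by
  classical
  obtain ⟨R, hR, -⟩ := (Subgroup.zpowers g).exists_isComplement_right 1
  have hpow : ∀ z : ↥(Subgroup.zpowers g), ∃ i : ℕ, g ^ i = (z : G) := fun z =>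
    Submonoid.mem_powers_iff _ _ |>.1 (mem_powers_iff_mem_zpowers.2 z.2)
  choose i hi using hpow
  let e := hR.equiv
  let ext : (↥R → A) →ₗ[A] (G → A) :=
    { toFun := fun ψ h => l ^ i (e h).1 * ψ (e h).2
      map_add' := fun a b => by funext h; simp [mul_add]
      map_smul' := fun c a => by funext h; simp [mul_left_comm] }
  let K := LinearMap.ker (LinearMap.funLeft A A (fun h : G => g * h) - l • LinearMap.id)
  have hmem : ∀ φ : G → A, φ ∈ K ↔ ∀ h, φ (g * h) = l * φ h := fun φ => by
    simp [K, LinearMap.mem_ker, funext_iff, sub_eq_zero]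
  have hl' : ∀ a b : ℕ, g ^ a = g ^ b → l ^ a = l ^ b := fun a b hab => by
    obtain h := pow_eq_pow_iff_modEq.1 hab
    rw [← pow_mod_orderOf g a, ← pow_mod_orderOf g b] at hab
    rw [← Nat.mod_add_div a (orderOf g), ← Nat.mod_add_div b (orderOf g), pow_add, pow_add, pow_mul, pow_mul, hl,
      one_pow, one_pow, h]
  have hsplit : ∀ (z : ↥(Subgroup.zpowers g)) (r : ↥R), e ((z : G) * r) = (z, r) := fun z r =>
    e.apply_eq_iff_eq_symm_apply.2 rfl
  have hextK : ∀ ψ, ext ψ ∈ K := by
    intro ψ
    rw [hmem]
    intro h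
    obtain ⟨⟨z, r⟩, rfl⟩ := e.symm.surjective h
    have h1 : g * (e.symm (z, r)) = (((⟨g, Subgroup.mem_zpowers g⟩ : ↥(Subgroup.zpowers g)) * z : ↥(Subgroup.zpowers g)) : G) * r := by
      rw [show e.symm (z, r) = (z : G) * r from rfl]; simp [mul_assoc]
    change l ^ i (e (g * e.symm (z, r))).1 * ψ (e (g * e.symm (z, r))).2 = l * (l ^ i (e (e.symm (z, r))).1 * _)
    rw [h1, hsplit, e.apply_symm_apply, ← mul_assoc, ← pow_succ']
    congr 1
    apply hl'
    rw [hi, pow_succ', hi]
    rfl
  let restr : (G → A) →ₗ[A] (↥R → A) := LinearMap.funLeft A A (Subtype.val : ↥R → G)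
  have hiter : ∀ φ ∈ K, ∀ (n : ℕ) (h : G), φ (g ^ n * h) = l ^ n * φ h := by
    intro φ hφ n h
    induction n with
    | zero => simp
    | succ n ih => rw [pow_succ', mul_assoc, (hmem φ).1 hφ, ih, ← mul_assoc, ← pow_succ']
  have hleft : ∀ ψ, restr (ext ψ) = ψ := by
    intro ψ; funext r
    change l ^ i (e r).1 * ψ (e r).2 = ψ r
    have := hsplit 1 r
    rw [Subgroup.coe_one, one_mul] at this
    rw [this]
    have h0 : l ^ i (1 : ↥(Subgroup.zpowers g)) = 1 := by
      rw [hl' (i 1) 0 (by rw [hi, pow_zero]; rfl), pow_zero]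
    rw [h0, one_mul]
  have hright : ∀ φ ∈ K, ext (restr φ) = φ := by
    intro φ hφ; funext h
    obtain ⟨⟨z, r⟩, rfl⟩ := e.symm.surjective h
    change l ^ i (e (e.symm (z, r))).1 * φ ((e (e.symm (z, r))).2 : G) = φ ((z : G) * r)
    rw [e.apply_symm_apply]
    conv_rhs => rw [← hi z, hiter φ hφ]
  let E : ↥K ≃ₗ[A] (↥R → A) := LinearEquiv.ofLinearMap (restr.comp K.subtype) (ext.codRestrict K hextK)
    (LinearMap.ext fun ψ => hleft ψ) (LinearMap.ext fun φ => Subtype.ext (hright φ φ.2))
  have := Fintype.ofFinite ↥R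
  refine ⟨Module.Free.of_equiv E.symm, ?_, LinearMap.ker restr, ?_⟩
  · rw [LinearEquiv.finrank_eq E, Module.finrank_fintype_fun_eq_card, ← Nat.card_eq_fintype_card,
      mul_comm]
    have := hR.card_mul
    rwa [show Nat.card ↥(Subgroup.zpowers g : Set G) = orderOf g from Nat.card_zpowers g] at this
  · refine ⟨?_, ?_⟩
    · rw [disjoint_iff_inf_le]
      rintro φ ⟨hφ, hφ'⟩
      have := hright φ hφ
      rw [LinearMap.mem_ker.1 hφ', map_zero] at this
      exact this.symm
    · rw [codisjoint_iff_le_sup]
      intro φ _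
      refine Submodule.mem_sup.2 ⟨ext (restr φ), hextK _, φ - ext (restr φ), ?_, by abel⟩
      rw [LinearMap.mem_ker, map_sub, hleft, sub_self]

end Groth.Agent.S15488
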