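import Groth.Statements.S15491
-- import your own Groth.Agent.* helpers here

set_option autoImplicit false
universe v u
open CategoryTheory CategoryTheory.Functor
open IsoNat

namespace Groth.Agent.S15491

/-- Pasting of 2-cartesian squares, stated in the 2-category of categories. Consider functors t : A → B,
t' : A' → B', t'' : A'' → B'' and l : A → A', r : B → B', l' : A' → A'', r' : B' → B'' with natural
isomorphisms e₁ : t ⋙ r ≅ l ⋙ t' and e₂ : t' ⋙ r' ≅ l' ⋙ t''. If the lower square (t', l', r', t'',
e₂) is 2-cartesian (its comparison functor to the 2-fibre product is an equivalence), then the upper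
square (t, l, r, t', e₁) is 2-cartesian if and only if the outer rectangle (t, l ⋙ l', r ⋙ r', t'')
with the pasted isomorphism is. (The published statement is for an arbitrary 2-category whose
2-morphisms are invertible; this row is the case of categories, functors and natural isomorphisms.) -/
theorem result
    {A B A' B' A'' B'' : Type u} [Category.{v} A] [Category.{v} B] [Category.{v} A'] [Category.{v} B']
    [Category.{v} A''] [Category.{v} B'']
    (t : A ⥤ B) (l : A ⥤ A') (r : B ⥤ B') (t' : A' ⥤ B') (l' : A' ⥤ A'') (r' : B' ⥤ B'') (t'' : A'' ⥤ B'')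
    (e₁ : t ⋙ r ≅ l ⋙ t') (e₂ : t' ⋙ r' ≅ l' ⋙ t'')
    (h₂ : FibCat.IsTwoCart t' l' r' t'' e₂) :
    FibCat.IsTwoCart t l r t' e₁ ↔
      FibCat.IsTwoCart t (l ⋙ l') (r ⋙ r') t''
        ((Functor.associator t r r').symm ≪≫ isoWhiskerRight e₁ r' ≪≫ Functor.associator l t' r' ≪≫
          isoWhiskerLeft l e₂ ≪≫ (Functor.associator l l' t'').symm) := by
  let Ψ : A' ⥤ Limits.CategoricalPullback r' t'' :=
    (Limits.CategoricalPullback.CatCommSqOver.toFunctorToCategoricalPullback r' t'' A').obj ⟨t', l', e₂⟩
  have : Ψ.IsEquivalence := h₂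
  have hw : ∀ {x y : A'} (m : x ⟶ y), r'.map (t'.map m) ≫ e₂.hom.app y = e₂.hom.app x ≫ t''.map (l'.map m) :=
    fun m => e₂.hom.naturality m
  let Φ : Limits.CategoricalPullback r t' ⥤ Limits.CategoricalPullback (r ⋙ r') t'' :=
    { obj := fun z => ⟨z.fst, l'.obj z.snd, r'.mapIso z.iso ≪≫ e₂.app z.snd⟩
      map := fun {x y} m =>
        { fst := m.fst
          snd := l'.map m.snd
          w := by
            simp only [Functor.comp_map, Iso.trans_hom, Functor.mapIso_hom, Iso.app_hom, Category.assoc]
            rw [← Category.assoc, ← r'.map_comp, m.w, r'.map_comp, Category.assoc, hw] }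
      map_id := fun x => by ext <;> simp
      map_comp := fun f g => by ext <;> simp }
  have hf : Φ.Faithful := ⟨fun {x y} m n h => by
    have h1 : m.fst = n.fst := congrArg (fun k => k.fst) h
    have h2 : l'.map m.snd = l'.map n.snd := congrArg (fun k => k.snd) h
    refine Limits.CategoricalPullback.hom_ext h1 (Ψ.map_injective (Limits.CategoricalPullback.hom_ext ?_ h2))
    change t'.map m.snd = t'.map n.snd
    rw [← cancel_epi x.iso.hom, ← m.w, ← n.w, h1]⟩
  have hfull : Φ.Full := ⟨fun {x y} m => by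
    let k : Ψ.obj x.snd ⟶ Ψ.obj y.snd :=
      { fst := x.iso.inv ≫ r.map m.fst ≫ y.iso.hom
        snd := m.snd
        w := by
          have := m.w
          simp only [Φ, Functor.comp_map, Iso.trans_hom, Functor.mapIso_hom, Iso.app_hom, Category.assoc] at this
          change r'.map _ ≫ e₂.hom.app y.snd = e₂.hom.app x.snd ≫ t''.map m.snd
          erw [r'.map_comp, r'.map_comp, Category.assoc, Category.assoc, this, ← Category.assoc,
            ← r'.map_comp, Iso.inv_hom_id, r'.map_id, Category.id_comp] }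
    obtain ⟨a, ha⟩ := Ψ.map_surjective k
    have h1 : t'.map a = x.iso.inv ≫ r.map m.fst ≫ y.iso.hom := congrArg (fun z => z.fst) ha
    have h2 : l'.map a = m.snd := congrArg (fun z => z.snd) ha
    exact ⟨⟨m.fst, a, by rw [h1, Iso.hom_inv_id_assoc]⟩, Limits.CategoricalPullback.hom_ext rfl h2⟩⟩
  have hes : Φ.EssSurj := ⟨fun z => by
    let w : Limits.CategoricalPullback r' t'' := ⟨r.obj z.fst, z.snd, z.iso⟩
    let a := Ψ.objPreimage w
    let i := Ψ.objObjPreimageIso w
    have hi := i.hom.w
    let ifst : t'.obj a ≅ r.obj z.fst :=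
      (Limits.CategoricalPullback.π₁ r' t'').mapIso i
    let isnd : l'.obj a ≅ z.snd := (Limits.CategoricalPullback.π₂ r' t'').mapIso i
    refine ⟨⟨z.fst, a, ifst.symm⟩, ⟨Limits.CategoricalPullback.mkIso (Iso.refl _) isnd ?_⟩⟩
    change (r ⋙ r').map (𝟙 _) ≫ z.iso.hom = (r'.map ifst.inv ≫ e₂.hom.app a) ≫ t''.map isnd.hom
    have hi' : r'.map ifst.hom ≫ z.iso.hom = e₂.hom.app a ≫ t''.map isnd.hom := hi
    rw [Category.assoc, ← hi', ← Category.assoc, ← r'.map_comp, Iso.inv_hom_id, r'.map_id, CategoryTheory.Functor.map_id]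
    rfl⟩
  have : Φ.IsEquivalence := ⟨hf, hfull, hes⟩
  let Ct := (Limits.CategoricalPullback.CatCommSqOver.toFunctorToCategoricalPullback r t' A).obj ⟨t, l, e₁⟩
  let Co := (Limits.CategoricalPullback.CatCommSqOver.toFunctorToCategoricalPullback (r ⋙ r') t'' A).obj
    ⟨t, l ⋙ l', (Functor.associator t r r').symm ≪≫ isoWhiskerRight e₁ r' ≪≫ Functor.associator l t' r' ≪≫
          isoWhiskerLeft l e₂ ≪≫ (Functor.associator l l' t'').symm⟩
  have e : Ct ⋙ Φ ≅ Co := NatIso.ofComponents
    (fun a => Limits.CategoricalPullback.mkIso (Iso.refl _) (Iso.refl _) (by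
      change (r ⋙ r').map (𝟙 _) ≫ _ = _ ≫ t''.map (𝟙 _)
      simp [Ct, Co, Φ]
      rfl))
    (fun {a b} m => by
      refine Limits.CategoricalPullback.hom_ext ?_ ?_
      · exact (Category.comp_id (t.map m)).trans (Category.id_comp (t.map m)).symm
      · exact (Category.comp_id (l'.map (l.map m))).trans (Category.id_comp (l'.map (l.map m))).symm)
  change Ct.IsEquivalence ↔ Co.IsEquivalence
  constructor
  · intro h
    exact isEquivalence_of_iso e
  · intro h
    have : (Ct ⋙ Φ).IsEquivalence := isEquivalence_of_iso e.symm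
    exact isEquivalence_of_comp_right Ct Φ

end Groth.Agent.S15491
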