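import Groth.Statements.S15492
import Groth.Agent.Lib.StAlg16.CutOut
-- import your own Groth.Agent.* helpers here

set_option autoImplicit false
universe u
open CategoryTheory AlgebraicGeometry
open IsoNat

namespace Groth.Agent.S15492

/-- Open subfunctors of the presheaf of isomorphism classes come from open substacks. Let 𝒴 be an
algebraic stack over a quasi-separated scheme S and W a subfunctor of its presheaf of isomorphism
classes — a set W(T) of isomorphism classes over each T, stable under pullback — which is open: for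
every object x over T there is an open subscheme V of T such that a pullback of x along g : T' → T
has class in W(T') exactly when g factors through V. Then the strictly full subcategory of 𝒴 on the
objects whose class lies in W is an open substack (the converse direction, that an open substack
gives an open subfunctor, is immediate from the definitions, and the two constructions are mutually
inverse). Here an algebraic stack over a quasi-separated scheme S means a stack in groupoids for the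
fppf topology with a smooth surjective atlas from a scheme, whose diagonal is representable by
separated quasi-compact morphisms of algebraic spaces and whose inertia is locally of finite
presentation over it. (The published statement is for an arbitrary stack; this row takes 𝒴
algebraic.) -/
theorem result
    (S : Scheme.{u}) [QuasiSeparatedSpace S]
    (𝒴 : AlgSt.Cat S)
    (h𝒴 : AlgSt.IsAlgStack Scheme.fppfPrecoverage 𝒴)
    (h𝒴d : AlgSt.RepByAlgSpWith (AlgSp.IsSeparatedMor ⊓ AlgSp.IsQuasiCompactMor)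
      (FibCat.diag (FibCat.toSelf 𝒴)))
    (h𝒴i : AlgSt.RepByAlgSpWith (AlgSp.LocP @LocallyOfFinitePresentation)
      (FibCat.inertiaToBase (FibCat.toSelf 𝒴)))
    (W : ∀ T : Over S, Set (IsoNat.IsoCl 𝒴 T))
    (hWpull : ∀ (T' T : Over S) (g : T' ⟶ T) (x' : 𝒴.p.Fiber T') (x : 𝒴.p.Fiber T) (a : x'.1 ⟶ x.1),
      𝒴.p.IsHomLift g a → IsoNat.cls x ∈ W T → IsoNat.cls x' ∈ W T')
    (hWopen : ∀ (T : Over S) (x : 𝒴.p.Fiber T), ∃ V : T.left.Opens,
      ∀ (T' : Over S) (g : T' ⟶ T) (x' : 𝒴.p.Fiber T') (a : x'.1 ⟶ x.1), 𝒴.p.IsHomLift g a →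
        (IsoNat.cls x' ∈ W T' ↔ ∃ g' : T'.left ⟶ ↑V, g' ≫ V.ι = g.left)) :
    AlgSt.IsOpenSubstack 𝒴 (fun η => IsoNat.cls (⟨η, rfl⟩ : 𝒴.p.Fiber (𝒴.p.obj η)) ∈ W (𝒴.p.obj η))
      Scheme.fppfPrecoverage := by
  have key : ∀ {T : Over S} {η : 𝒴.obj} (h : 𝒴.p.obj η = T),
      IsoNat.cls (⟨η, rfl⟩ : 𝒴.p.Fiber (𝒴.p.obj η)) ∈ W (𝒴.p.obj η) ↔
        IsoNat.cls (⟨η, h⟩ : 𝒴.p.Fiber T) ∈ W T := by
    rintro T η rfl
    rfl
  have hiso : ObjectProperty.IsClosedUnderIsomorphisms
      (fun η => IsoNat.cls (⟨η, rfl⟩ : 𝒴.p.Fiber (𝒴.p.obj η)) ∈ W (𝒴.p.obj η)) :=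
    ⟨fun {a b} e ha => hWpull _ _ (𝒴.p.map e.inv) ⟨b, rfl⟩ ⟨a, rfl⟩ e.inv (IsHomLift.map 𝒴.p e.inv) ha⟩
  have hcut : StAlg16.CutOut @IsOpenImmersion
      (fun η => IsoNat.cls (⟨η, rfl⟩ : 𝒴.p.Fiber (𝒴.p.obj η)) ∈ W (𝒴.p.obj η)) := fun U y => by
    obtain ⟨V, hV⟩ := hWopen U ⟨y.obj (Over.mk (𝟙 U)), y.w_obj _⟩
    let ι : Over.mk (V.ι ≫ U.hom) ⟶ U := Over.homMk V.ι
    haveI hmono : Mono ι := ⟨fun {Z} a b h => Over.OverMorphism.ext
      ((cancel_mono V.ι).1 (congrArg (fun t => t.left) h))⟩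
    refine ⟨_, ι, (inferInstance : IsOpenImmersion V.ι), hmono, fun b => ?_⟩
    let m : b ⟶ Over.mk (𝟙 U) := Over.homMk b.hom (Category.comp_id b.hom)
    haveI : (FibCat.overCat U).p.IsHomLift b.hom m := IsHomLift.map (FibCat.overCat U).p m
    refine (key (y.w_obj b)).trans ((hV b.left b.hom ⟨y.obj b, y.w_obj b⟩ (y.map m)
      (BasedFunctor.preserves_isHomLift y b.hom m)).trans ?_)
    constructor
    · rintro ⟨g', hg'⟩
      exact ⟨Over.homMk g' (by
        show g' ≫ V.ι ≫ U.hom = b.left.hom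
        rw [reassoc_of% hg']
        exact Over.w b.hom), Over.OverMorphism.ext hg'⟩
    · rintro ⟨l, hl⟩
      exact ⟨l.left, congrArg (fun t => t.left) hl⟩
  exact ⟨hiso, hcut.isAlgStack h𝒴 hiso, hcut.with_subIncl h𝒴 hiso⟩

end Groth.Agent.S15492
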