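import Groth.Statements.S15493
import Groth.Agent.Lib.FC16.Yoneda

set_option autoImplicit false
universe u
open CategoryTheory AlgebraicGeometry
open IsoNat

namespace Groth.Agent.S15493

open CategoryTheory.Limits Opposite

set_option backward.isDefEq.respectTransparency false
set_option backward.isDefEq.respectTransparency.types false
set_option linter.style.haveILetI false

variable {S : Scheme.{u}}

/-- a map of sheaves to a representable one, representable by monomorphisms, is injective on sections -/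
theorem sections_inj {F : AlgSp.Sp S} {U : Over S} {φ : F ⟶ (AlgSp.yon S).obj U}
    (h : AlgSp.RepWith @IsOpenImmersion φ) (T : Over S) : Function.Injective (φ.hom.app (op T)) := by
  have hr : AlgSp.Representable φ := h.1
  have sq := hr.isPullback (𝟙 ((AlgSp.yon S).obj U))
  haveI : IsOpenImmersion (hr.snd (𝟙 ((AlgSp.yon S).obj U))).left := h.2 _ _ _ sq
  haveI : Mono (hr.snd (𝟙 ((AlgSp.yon S).obj U))).left := inferInstance
  haveI : Mono (hr.snd (𝟙 ((AlgSp.yon S).obj U))) := Over.mono_of_mono_left _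
  haveI : IsIso (hr.fst (𝟙 ((AlgSp.yon S).obj U))) := sq.isIso_fst_of_isIso
  haveI : Mono φ := by
    have h1 : φ = inv (hr.fst (𝟙 ((AlgSp.yon S).obj U))) ≫
        (AlgSp.yon S).map (hr.snd (𝟙 ((AlgSp.yon S).obj U))) := by
      rw [IsIso.eq_inv_comp, sq.w, Category.comp_id]
    rw [h1]; infer_instance
  haveI : Mono φ.hom := (sheafToPresheaf _ _).map_mono φ
  exact (CategoryTheory.mono_iff_injective _).1 (NatTrans.mono_iff_mono_app φ.hom |>.1 inferInstance (op T))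

/-- A functor over the base representable by open immersions is full on fibres. -/
theorem exists_lift_fibre {𝒳' 𝒴 : AlgSt.Cat S} [𝒴.p.IsFibered] (i : 𝒳' ⥤ᵇ 𝒴) (hi : AlgSt.IsOpenImm i)
    (T : Over S) (s₁ s₂ : 𝒳'.p.Fiber T) (g : i.obj s₁.1 ≅ i.obj s₂.1) (hg : 𝒴.p.IsHomLift (𝟙 T) g.hom) :
    ∃ b : s₁.1 ⟶ s₂.1, 𝒳'.p.IsHomLift (𝟙 T) b ∧ i.map b = g.hom := by
  have hY : 𝒴.p.obj (i.obj s₁.1) = T := (i.w_obj s₁.1).trans s₁.2
  let y := FC16.ofObj hY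
  let ε := FC16.ofObjIso hY
  haveI hε : 𝒴.p.IsHomLift (𝟙 T) ε.hom := FC16.ofObjIso_lift hY
  let o₁ : (FibCat.fp y i).obj := ⟨{ fst := Over.mk (𝟙 T), snd := s₁.1, iso := ε }, hε⟩
  let o₂ : (FibCat.fp y i).obj :=
    ⟨{ fst := Over.mk (𝟙 T), snd := s₂.1, iso := ε ≪≫ g }, by
      show 𝒴.p.IsHomLift (𝟙 T) (ε.hom ≫ g.hom)
      infer_instance⟩
  obtain ⟨F, e, ⟨G, -, ⟨η⟩⟩, hP⟩ := hi T y
  let p₁ := G.obj o₁
  let p₂ := G.obj o₂
  have hb₁ : p₁.base = T := G.w_obj o₁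
  have hb₂ : p₂.base = T := G.w_obj o₂
  have hsec : ∀ (o : (FibCat.fp y i).obj) (_ : o.obj.fst = Over.mk (𝟙 T)) (hb : (G.obj o).base = T),
      AlgSt.secHom (BasedFunctor.comp e (FibCat.fpFst y i)) (G.obj o) = eqToHom hb := by
    intro o ho hb
    haveI : (FibCat.fp y i).p.IsHomLift (𝟙 ((FibCat.fp y i).p.obj o)) (η.hom.toNatTrans.app o) :=
      BasedNatTrans.isHomLift η.hom rfl
    have h2 := IsHomLift.fac' (FibCat.fp y i).p (𝟙 ((FibCat.fp y i).p.obj o)) (η.hom.toNatTrans.app o)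
    obtain ⟨⟨f, s, j⟩, hj⟩ := o
    change f = Over.mk (𝟙 T) at ho
    subst ho
    have h3 := Over.w (η.hom.toNatTrans.app (⟨⟨Over.mk (𝟙 T), s, j⟩, hj⟩ : (FibCat.fp y i).obj)).hom.fst
    simp only [Category.comp_id] at h2
    unfold AlgSt.secHom
    change eqToHom _ ≫ ((e.obj (G.obj _)).obj.fst).hom = _
    erw [← h3]
    erw [Category.comp_id]
    rw [show (η.hom.toNatTrans.app (⟨⟨Over.mk (𝟙 T), s, j⟩, hj⟩ : (FibCat.fp y i).obj)).hom.fst.left = _ from h2]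
    simp
  have hs : F.obj.obj.map (eqToHom (hb₁.trans hb₂.symm)).op p₂.sec = p₁.sec := by
    let p' : (AlgSt.ofSp F.obj).obj := ⟨p₁.base, F.obj.obj.map (eqToHom (hb₁.trans hb₂.symm)).op p₂.sec⟩
    let ψ : p' ⟶ p₂ := ⟨eqToHom (hb₁.trans hb₂.symm), rfl⟩
    have h1 := AlgSt.secHom_comp (BasedFunctor.comp e (FibCat.fpFst y i)) ψ
    rw [hsec o₂ rfl hb₂] at h1
    apply sections_inj hP p₁.base
    rw [AlgSt.spMapOfOver_app, AlgSt.spMapOfOver_app]
    apply ULift.ext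
    change AlgSt.secHom _ p' = AlgSt.secHom _ p₁
    rw [hsec o₁ rfl hb₁, ← h1]
    simp [ψ]
  let ψ : p₁ ⟶ p₂ := ⟨eqToHom (hb₁.trans hb₂.symm), hs⟩
  haveI hl₁ : (FibCat.fp y i).p.IsHomLift (𝟙 T) (η.inv.toNatTrans.app o₁) :=
    BasedNatTrans.isHomLift η.inv rfl
  haveI hl₂ : (FibCat.fp y i).p.IsHomLift (𝟙 T) (η.hom.toNatTrans.app o₂) :=
    BasedNatTrans.isHomLift η.hom rfl
  haveI : (AlgSt.ofSp F.obj).p.IsHomLift (𝟙 T) ψ :=
    IsHomLift.of_fac _ _ _ hb₁ hb₂ (by simp [ψ])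
  let χ : o₁ ⟶ o₂ := η.inv.toNatTrans.app o₁ ≫ e.map ψ ≫ η.hom.toNatTrans.app o₂
  haveI hχ : (FibCat.fp y i).p.IsHomLift (𝟙 T) χ := by
    have h0 : (FibCat.fp y i).p.IsHomLift (𝟙 T) (e.map ψ) := (BasedFunctor.isHomLift_iff e (𝟙 T) ψ).2 inferInstance
    infer_instance
  have hfst : χ.hom.fst = 𝟙 (Over.mk (𝟙 T)) := by
    apply Over.OverMorphism.ext
    have := Over.w χ.hom.fst
    erw [Category.comp_id] at this
    exact this
  have hw := χ.hom.w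
  rw [hfst] at hw
  refine ⟨χ.hom.snd, ?_, ?_⟩
  · have h1 : 𝒳'.p.IsHomLift ((FibCat.fp y i).p.map χ) χ.hom.snd := inferInstance
    have h2 : (FibCat.fp y i).p.map χ = 𝟙 T := by
      exact congrArg CommaMorphism.left hfst
    rwa [h2] at h1
  · change y.map (𝟙 _) ≫ (ε ≪≫ g).hom = ε.hom ≫ i.map χ.hom.snd at hw
    erw [CategoryTheory.Functor.map_id, Category.id_comp] at hw
    exact ((cancel_epi ε.hom).1 hw).symm

/-- The presheaf of isomorphism classes commutes with fibre products along an open immersion. Let f : 𝒳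
→ 𝒴 be a morphism of algebraic stacks over a quasi-separated scheme S and i : 𝒴' → 𝒴 an open
immersion of algebraic stacks (representable by open immersions of algebraic spaces). If two objects
of the 2-fibre product 𝒳 ×_𝒴 𝒴' over a scheme T have isomorphic images in 𝒳 over T and isomorphic
images in 𝒴' over T, then they are isomorphic over T. (Together with the evident surjectivity this
says that the natural map from the presheaf of isomorphism classes of 𝒳 ×_𝒴 𝒴' to the fibre product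
of the presheaves of 𝒳 and 𝒴' over that of 𝒴 is an isomorphism; the published statement is for
arbitrary stacks, this row takes them algebraic.) -/
theorem result
    (S : Scheme.{u}) [QuasiSeparatedSpace S]
    (𝒳 𝒴 𝒴' : AlgSt.Cat S)
    (h𝒳 : AlgSt.IsAlgStack Scheme.fppfPrecoverage 𝒳) (h𝒴 : AlgSt.IsAlgStack Scheme.fppfPrecoverage 𝒴)
    (h𝒴' : AlgSt.IsAlgStack Scheme.fppfPrecoverage 𝒴')
    (f : 𝒳 ⥤ᵇ 𝒴) (i : 𝒴' ⥤ᵇ 𝒴) (hi : AlgSt.IsOpenImm i)
    (T : Over S) (z₁ z₂ : (FibCat.fp f i).p.Fiber T)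
    (h₁ : IsoNat.mapCls (FibCat.fpFst f i) T (IsoNat.cls z₁) = IsoNat.mapCls (FibCat.fpFst f i) T (IsoNat.cls z₂))
    (h₂ : IsoNat.mapCls (FibCat.fpSnd f i) T (IsoNat.cls z₁) = IsoNat.mapCls (FibCat.fpSnd f i) T (IsoNat.cls z₂)) :
    IsoNat.cls z₁ = IsoNat.cls z₂ := by
  haveI := FC16.isFibered h𝒴.1.1
  haveI := FC16.isFibered h𝒳.1.1
  obtain ⟨a⟩ := Quotient.exact h₁
  let s₁ : 𝒴'.p.Fiber T := ⟨z₁.1.obj.snd, ((FibCat.fpSnd f i).w_obj z₁.1).trans z₁.2⟩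
  let s₂ : 𝒴'.p.Fiber T := ⟨z₂.1.obj.snd, ((FibCat.fpSnd f i).w_obj z₂.1).trans z₂.2⟩
  haveI ha : 𝒳.p.IsHomLift (𝟙 T) a.hom.1 := a.hom.2
  haveI : IsIso a.hom.1 := ((Functor.Fiber.fiberInclusion (p := 𝒳.p) (S := T)).mapIso a).isIso_hom
  let g : i.obj s₁.1 ≅ i.obj s₂.1 := z₁.1.obj.iso.symm ≪≫ f.toFunctor.mapIso (asIso a.hom.1) ≪≫ z₂.1.obj.iso
  have hz : ∀ z : (FibCat.fp f i).p.Fiber T, 𝒴.p.IsHomLift (𝟙 T) z.1.obj.iso.hom := by
    rintro ⟨z, hz⟩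
    subst hz
    exact z.property
  haveI := hz z₁
  haveI := hz z₂
  have hg : 𝒴.p.IsHomLift (𝟙 T) g.hom := by
    show 𝒴.p.IsHomLift (𝟙 T) (z₁.1.obj.iso.inv ≫ f.map a.hom.1 ≫ z₂.1.obj.iso.hom)
    infer_instance
  obtain ⟨b, hb, hbg⟩ := exists_lift_fibre i hi T s₁ s₂ g hg
  haveI := FC16.isFibered h𝒴'.1.1
  haveI : IsIso b := by
    haveI := h𝒴'.1.1.isStronglyCartesian b
    haveI : IsIso (𝒴'.p.map b) := by
      rw [IsHomLift.fac' 𝒴'.p (𝟙 T) b]; infer_instance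
    exact Functor.IsStronglyCartesian.isIso_of_base_isIso 𝒴'.p (𝒴'.p.map b) b
  let j : z₁.1.obj ≅ z₂.1.obj := CategoricalPullback.mkIso (asIso a.hom.1) (asIso b) (by
    have h2 : i.map b = z₁.1.obj.iso.inv ≫ f.map a.hom.1 ≫ z₂.1.obj.iso.hom := hbg
    simp [h2])
  let k : z₁.1 ≅ z₂.1 := (FibCat.fpProp f i).fullyFaithfulι.preimageIso j
  have hk : ∀ (u v : (FibCat.fp f i).obj) (m : u ⟶ v), 𝒳.p.IsHomLift (𝟙 T) m.hom.fst →
      (FibCat.fp f i).p.IsHomLift (𝟙 T) m := by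
    intro u v m hm
    exact IsHomLift.of_fac _ _ _ (IsHomLift.domain_eq 𝒳.p (𝟙 T) m.hom.fst)
      (IsHomLift.codomain_eq 𝒳.p (𝟙 T) m.hom.fst) (IsHomLift.fac 𝒳.p (𝟙 T) m.hom.fst)
  exact Quotient.sound ⟨
    { hom := ⟨k.hom, hk _ _ k.hom ha⟩
      inv := ⟨k.inv, hk _ _ k.inv (show 𝒳.p.IsHomLift (𝟙 T) (inv a.hom.1) from inferInstance)⟩
      hom_inv_id := by apply Functor.Fiber.hom_ext; exact k.hom_inv_id
      inv_hom_id := by apply Functor.Fiber.hom_ext; exact k.inv_hom_id }⟩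

end Groth.Agent.S15493
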