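import Groth.Statements.S15494
import Mathlib

set_option autoImplicit false
universe u v
open Dieud

namespace Groth.Agent.S15494

/-- Let W be a commutative ring with a ring endomorphism σ, p a natural number, M a W-module and F an
additive self-map of M with F (w • m) = σ w • F m. Let d ≥ 1, c ≥ 1, h = d + c, and let e_1, …, e_h,
… be vectors of M on which F acts through a display matrix in normal form: F e_i = e_{i+1} for 1 ≤ i
< d; F e_d = Σ_{i=1}^{d} a_{i,d} e_i + e_{d+1}; F e_j = Σ_{i=1}^{d} p a_{i,j} e_i + p e_{j+1} for d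
< j < h; F e_h = Σ_{i=1}^{d} p a_{i,h} e_i. Then F^h e_1 = Σ_{i=1}^{d} Σ_{j=d}^{h} p^{j-d}
σ^{h-j}(a_{i,j}) F^{h+i-j-1} e_1. (The published statement is for the Dieudonné module of a
p-divisible group of dimension d and height h over the Witt ring of a field of characteristic p,
with σ the Frobenius and e_1, …, e_h a basis; this row keeps only the relations which the printed
computation uses, so W, σ, p and the vectors are arbitrary.) -/
theorem result
    (W : Type u) [CommRing W] (σ : W →+* W) (p : ℕ)
    (M : Type v) [AddCommGroup M] [Module W M]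
    (F : M →+ M) (hF : ∀ (w : W) (m : M), F (w • m) = σ w • F m)
    (d c : ℕ) (hd : 0 < d) (hc : 0 < c)
    (a : ℕ → ℕ → W) (e : ℕ → M)
    (h1 : ∀ i : ℕ, 1 ≤ i → i < d → F (e i) = e (i + 1))
    (h2 : F (e d) = (∑ i ∈ Finset.Icc 1 d, a i d • e i) + e (d + 1))
    (h3 : ∀ j : ℕ, d < j → j < d + c →
      F (e j) = (∑ i ∈ Finset.Icc 1 d, ((p : W) * a i j) • e i) + (p : W) • e (j + 1))
    (h4 : F (e (d + c)) = ∑ i ∈ Finset.Icc 1 d, ((p : W) * a i (d + c)) • e i) :
    (⇑F)^[d + c] (e 1) = ∑ i ∈ Finset.Icc 1 d, ∑ j ∈ Finset.Icc d (d + c),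
      ((p : W) ^ (j - d) * (⇑σ)^[d + c - j] (a i j)) • (⇑F)^[d + c + i - j - 1] (e 1) := by
  have he : ∀ i, i < d → (⇑F)^[i] (e 1) = e (i + 1) := by
    intro i
    induction i with
    | zero => intro _; rfl
    | succ i ih => intro hi; rw [Function.iterate_succ_apply', ih (by omega), h1 _ (by omega) hi]
  let G : ℕ → M := fun t => ∑ i ∈ Finset.Icc 1 d, ∑ j ∈ Finset.Icc d (d + t),
      ((p : W) ^ (j - d) * (⇑σ)^[d + t - j] (a i j)) • (⇑F)^[d + t + i - j - 1] (e 1)
  have hstep : ∀ t, F (G t) = ∑ i ∈ Finset.Icc 1 d, ∑ j ∈ Finset.Icc d (d + t),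
      ((p : W) ^ (j - d) * (⇑σ)^[d + (t + 1) - j] (a i j)) • (⇑F)^[d + (t + 1) + i - j - 1] (e 1) := by
    intro t
    simp only [G, map_sum]
    refine Finset.sum_congr rfl fun i hi => Finset.sum_congr rfl fun j hj => ?_
    rw [Finset.mem_Icc] at hi hj
    rw [hF, map_mul, map_pow, map_natCast, ← Function.iterate_succ_apply' (⇑σ), ← Function.iterate_succ_apply' (⇑F),
      show d + (t + 1) - j = (d + t - j).succ by omega, show d + (t + 1) + i - j - 1 = (d + t + i - j - 1).succ by omega]
  have hG : ∀ t, ∀ T : ℕ → W, (T = fun i => (p : W) ^ t * ((p : W) * a i (d + t + 1))) →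
      F (G t) + ∑ i ∈ Finset.Icc 1 d, T i • e i = G (t + 1) := by
    intro t T hT
    rw [hstep]
    simp only [G]
    rw [← Finset.sum_add_distrib]
    refine Finset.sum_congr rfl fun i hi => ?_
    rw [Finset.mem_Icc] at hi
    rw [show d + (t + 1) = d + t + 1 by omega, Finset.sum_Icc_succ_top (by omega)]
    congr 1
    rw [Nat.sub_self, Function.iterate_zero_apply, show d + t + 1 + i - (d + t + 1) - 1 = i - 1 by omega, he _ (by omega),
      show i - 1 + 1 = i by omega, hT, show d + t + 1 - d = t + 1 by omega, pow_succ, mul_assoc]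
  have key : ∀ t, t < c → (⇑F)^[d + t] (e 1) = G t + ((p : W) ^ t) • e (d + t + 1) := by
    intro t
    induction t with
    | zero =>
      intro _
      obtain ⟨d', rfl⟩ : ∃ d', d = d' + 1 := ⟨d - 1, by omega⟩
      rw [Nat.add_zero, Function.iterate_succ_apply', he _ (by omega), h2, pow_zero, one_smul]
      congr 1
      refine Finset.sum_congr rfl fun i hi => ?_
      rw [Finset.mem_Icc] at hi
      simp only [Nat.add_zero, Finset.Icc_self, Finset.sum_singleton, Nat.sub_self, pow_zero, one_mul, Function.iterate_zero_apply]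
      rw [show d' + 1 + i - (d' + 1) - 1 = i - 1 by omega, he _ (by omega), show i - 1 + 1 = i by omega]
    | succ t ih =>
      intro ht
      rw [show d + (t + 1) = (d + t) + 1 by omega, Function.iterate_succ_apply', ih (by omega), map_add, hF, map_pow, map_natCast,
        h3 _ (by omega) (by omega), smul_add, Finset.smul_sum, ← add_assoc, smul_smul, ← pow_succ]
      simp only [smul_smul]
      rw [hG t _ rfl]
  obtain ⟨c', rfl⟩ : ∃ c', c = c' + 1 := ⟨c - 1, by omega⟩
  rw [show d + (c' + 1) = (d + c') + 1 by omega, Function.iterate_succ_apply', key c' (by omega), map_add, hF, map_pow, map_natCast,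
    show d + c' + 1 = d + (c' + 1) by omega, h4, Finset.smul_sum]
  simp only [smul_smul]
  exact hG c' _ rfl

end Groth.Agent.S15494
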