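import Groth.Statements.S15495
import Mathlib
import Groth.Agent.Lib.H2Alg.WeakAss

set_option autoImplicit false
universe u
open CAlg

namespace Groth.Agent.S15495
open TensorProduct

/-- In an Artinian local ring R whose maximal ideal m contains the prime number p, the multiplicative
group 1 + m is annihilated under some power of p: there is n with (1 + x)^(p^n) = 1 for every x in
m. (The published text makes this assertion inside a proof, for Artinian local algebras over the
Witt ring of a perfect field of characteristic p; only p ∈ m and the nilpotence of m are used.) -/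
theorem result
    (R : Type u) [CommRing R] [IsLocalRing R] [IsArtinianRing R]
    (p : ℕ) (hp : p.Prime) (hpm : (p : R) ∈ IsLocalRing.maximalIdeal R) :
    ∃ n : ℕ, ∀ x ∈ IsLocalRing.maximalIdeal R, (1 + x) ^ (p ^ n) = 1 := by
  obtain ⟨N, hN⟩ := IsArtinianRing.isNilpotent_jacobson_bot (R := R)
  rw [IsLocalRing.jacobson_eq_maximalIdeal _ bot_ne_top, Ideal.zero_eq_bot] at hN
  refine ⟨N, fun x hx => ?_⟩
  have key : ∀ j, (1 + x) ^ (p ^ j) - 1 ∈ IsLocalRing.maximalIdeal R ^ (j + 1) := by
    intro j
    induction j with
    | zero => simpa using hx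
    | succ j ih =>
      rw [pow_succ p, pow_mul, pow_succ' _ (j + 1), ← geom_sum_mul]
      set y := (1 + x) ^ (p ^ j)
      refine Ideal.mul_mem_mul ?_ ih
      rw [← Ideal.Quotient.eq_zero_iff_mem, map_sum]
      have hy : Ideal.Quotient.mk (IsLocalRing.maximalIdeal R) y = 1 := by
        rw [← map_one (Ideal.Quotient.mk _), Ideal.Quotient.eq]
        exact Ideal.pow_le_self (Nat.succ_ne_zero j) ih
      clear_value y
      simp only [map_pow, hy, one_pow, Finset.sum_const, Finset.card_range, nsmul_one]
      rw [← map_natCast (Ideal.Quotient.mk (IsLocalRing.maximalIdeal R)), Ideal.Quotient.eq_zero_iff_mem]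
      exact hpm
  have := Ideal.pow_le_pow_right (Nat.le_succ N) (key N)
  rwa [hN, Ideal.mem_bot, sub_eq_zero] at this

end Groth.Agent.S15495
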