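import Groth.Statements.S15496
import Mathlib
import Groth.Prelude.Def_FlatCA

set_option autoImplicit false
universe u
open CAlg

namespace Groth.Agent.S15496
open scoped TensorProduct

/-- Let R be a local ring with maximal ideal m, p a prime number lying in m, and suppose the residue
field of R is perfect, i.e. every element is a p-th power; let n ≥ 0. Then every unit of R is the
product of a p^n-th power of a unit and an element of 1 + m, and an element of 1 + m which is a
p^n-th power of a unit is a p^n-th power of an element of 1 + m; so the inclusion of 1 + m in the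
unit group induces a bijection between (1 + m)/(1 + m)^(p^n) and Rˣ/(Rˣ)^(p^n). (The published text
derives this equality of quotients, inside a proof, from perfectness of the base field K for all
Artinian local algebras over its Witt ring, whose residue fields need not be perfect; this row
assumes the residue field of R perfect of characteristic p, which the equality needs, and does not
assume R Artinian.) -/
theorem result
    (R : Type u) [CommRing R] [IsLocalRing R] (p : ℕ) (hp : p.Prime)
    (hpm : (p : R) ∈ IsLocalRing.maximalIdeal R)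
    (hperf : ∀ a : IsLocalRing.ResidueField R, ∃ b : IsLocalRing.ResidueField R, b ^ p = a)
    (n : ℕ) :
    (∀ u : Rˣ, ∃ v : Rˣ, ∃ x ∈ IsLocalRing.maximalIdeal R, (u : R) = (v : R) ^ (p ^ n) * (1 + x)) ∧
    (∀ x ∈ IsLocalRing.maximalIdeal R, (∃ v : Rˣ, (v : R) ^ (p ^ n) = 1 + x) →
      ∃ y ∈ IsLocalRing.maximalIdeal R, (1 + y) ^ (p ^ n) = 1 + x) := by
  haveI := Fact.mk hp
  haveI : CharP (IsLocalRing.ResidueField R) p := (CharP.charP_iff_prime_eq_zero hp).2 (by
    rw [← map_natCast (IsLocalRing.residue R), IsLocalRing.residue_eq_zero_iff]; exact hpm)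
  have hroot : ∀ (m : ℕ) (a : IsLocalRing.ResidueField R), ∃ b, b ^ p ^ m = a := by
    intro m
    induction m with
    | zero => intro a; exact ⟨a, by simp⟩
    | succ m ih =>
      intro a
      obtain ⟨b, rfl⟩ := hperf a
      obtain ⟨c, rfl⟩ := ih b
      exact ⟨c, by rw [pow_succ, pow_mul]⟩
  refine ⟨fun u => ?_, fun x hx ⟨v, hv⟩ => ⟨(v : R) - 1, ?_, by rw [add_sub_cancel, hv]⟩⟩
  · obtain ⟨b, hb⟩ := hroot n (IsLocalRing.residue R u)
    obtain ⟨w, rfl⟩ := IsLocalRing.residue_surjective b
    have hw : IsUnit w := by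
      by_contra hw
      rw [(IsLocalRing.residue_eq_zero_iff w).2 ((IsLocalRing.mem_maximalIdeal w).2 hw),
        zero_pow (pow_ne_zero n hp.ne_zero), eq_comm, IsLocalRing.residue_eq_zero_iff] at hb
      exact (IsLocalRing.mem_maximalIdeal _).1 hb u.isUnit
    refine ⟨hw.unit, (((hw.unit ^ p ^ n)⁻¹ * u : Rˣ) : R) - 1, ?_, ?_⟩
    · rw [← IsLocalRing.residue_eq_zero_iff, map_sub, map_one, sub_eq_zero, Units.val_mul, map_mul, ← hb]
      have e : ((hw.unit ^ p ^ n)⁻¹ : Rˣ) * w ^ p ^ n = (1 : R) := by
        rw [show w ^ p ^ n = ((hw.unit ^ p ^ n : Rˣ) : R) by simp]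
        exact Units.inv_mul _
      rw [← map_pow, ← map_mul, e, map_one]
    · rw [add_sub_cancel, Units.val_mul, ← Units.val_pow_eq_pow_val, Units.mul_inv_cancel_left]
  · rw [← IsLocalRing.residue_eq_zero_iff, map_sub, map_one]
    have h1 : IsLocalRing.residue R v ^ p ^ n = 1 := by
      rw [← map_pow, hv, map_add, (IsLocalRing.residue_eq_zero_iff x).2 hx, map_one, add_zero]
    have h2 : (IsLocalRing.residue R v - 1) ^ p ^ n = 0 := by
      rw [sub_pow_char_pow, h1, one_pow, sub_self]
    exact pow_eq_zero_iff (pow_ne_zero n hp.ne_zero) |>.1 h2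

end Groth.Agent.S15496
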