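import Groth.Statements.S15498
import Mathlib

set_option autoImplicit false
open NewtonPoly

namespace Groth.Agent.S15498
open TensorProduct

/-- Let m, n ≥ 1 be coprime, h = m + n, δ the segment from (0,0) to (h,m) (the isoclinic Newton polygon
of slope m/h) and ρ the ordinary polygon with n slopes 0 followed with m slopes 1, so ρ(i) = max(0,
i − n). The integer points (i,j), 0 ≤ i ≤ h, on or above ρ and strictly below δ — that is max(0, i −
n) ≤ j and j·h < i·m — are (m−1)(n−1)/2 + (m+n−1) in number (which equals mn − r for r =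
(m−1)(n−1)/2). (The published text works under m ≥ n > 0 coprime; the inequality m ≥ n is not used
and not assumed.) -/
theorem result
    (m n : ℕ) (hm : 0 < m) (hn : 0 < n) (hmn : Nat.Coprime m n) :
    ((Finset.range (m + n + 1) ×ˢ Finset.range (m + 1)).filter
      (fun ij : ℕ × ℕ => ij.1 ≤ ij.2 + n ∧ ij.2 * (m + n) < ij.1 * m)).card
      = (m - 1) * (n - 1) / 2 + (m + n - 1) := by
  set h := m + n with hh
  have hfib : ∀ i ∈ Finset.range (h + 1), (((Finset.range (h + 1) ×ˢ Finset.range (m + 1)).filter
      (fun ij : ℕ × ℕ => ij.1 ≤ ij.2 + n ∧ ij.2 * h < ij.1 * m)).filter fun ij => ij.1 = i).card =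
      (if i = 0 ∨ i = h then 0 else i * m / h + 1) + (if i = h then m else 0) - (i - n) := by
    intro i hi
    rw [Finset.mem_range] at hi
    have : (((Finset.range (h + 1) ×ˢ Finset.range (m + 1)).filter
        (fun ij : ℕ × ℕ => ij.1 ≤ ij.2 + n ∧ ij.2 * h < ij.1 * m)).filter fun ij => ij.1 = i) =
        (Finset.Ico (i - n) ((if i = 0 ∨ i = h then 0 else i * m / h + 1) + (if i = h then m else 0))).image (fun j => (i, j)) := by
      ext ⟨a, j⟩
      simp only [Finset.mem_filter, Finset.mem_product, Finset.mem_range, Finset.mem_image, Finset.mem_Ico, Prod.mk.injEq]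
      have key : j * h < i * m ↔ j < (if i = 0 ∨ i = h then 0 else i * m / h + 1) + (if i = h then m else 0) := by
        rcases eq_or_ne i 0 with rfl | hi0
        · have : ¬ (0 = h) := by omega
          simp [this]
        · rcases eq_or_ne i h with rfl | hih
          · simp only [hi0, false_or, if_true, zero_add]
            rw [mul_comm (m + n) m]
            exact Nat.mul_lt_mul_right (by omega)
          · simp only [hi0, hih, or_self, if_false, add_zero, Nat.lt_succ_iff]
            rw [Nat.le_div_iff_mul_le (by omega)]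
            constructor
            · exact le_of_lt
            · intro hle
              refine lt_of_le_of_ne hle fun he => ?_
              have hd : h ∣ i * m := ⟨j, by rw [← he, mul_comm]⟩
              have hcop : Nat.Coprime h m := by rw [hh]; simpa using hmn.symm
              have := Nat.le_of_dvd (by omega) (hcop.dvd_of_dvd_mul_right hd)
              omega
      constructor
      · rintro ⟨⟨_, h1, h2⟩, rfl⟩
        exact ⟨j, ⟨by omega, key.1 h2⟩, rfl, rfl⟩
      · rintro ⟨j, ⟨h1, h2⟩, rfl, rfl⟩
        have h3 := key.2 h2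
        refine ⟨⟨⟨hi, ?_⟩, by omega, h3⟩, rfl⟩
        by_contra hc
        have : (m + 1) * h ≤ j * h := Nat.mul_le_mul_right h (by omega)
        have : i * m ≤ h * m := Nat.mul_le_mul_right m (by omega)
        nlinarith
    rw [this, Finset.card_image_of_injective _ (fun a b e => congrArg Prod.snd e), Nat.card_Ico]
  rw [Finset.card_eq_sum_card_fiberwise (f := Prod.fst) (t := Finset.range (h + 1)) (fun ij hij =>
    (Finset.mem_product.1 (Finset.mem_filter.1 hij).1).1), Finset.sum_congr rfl hfib]
  -- the lower bound never exceeds the upper one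
  have hle : ∀ i ∈ Finset.range (h + 1), i - n ≤ (if i = 0 ∨ i = h then 0 else i * m / h + 1) + (if i = h then m else 0) := by
    intro i hi
    rw [Finset.mem_range] at hi
    split_ifs with h1 h2 h2 <;> try omega
    simp only [add_zero]
    rcases le_or_gt i n with h3 | h3
    · rw [Nat.sub_eq_zero_of_le h3]; exact Nat.zero_le _
    · refine le_trans ?_ (Nat.le_succ _)
      rw [Nat.le_div_iff_mul_le (by omega)]
      obtain ⟨t, rfl⟩ : ∃ t, i = n + t := ⟨i - n, by omega⟩
      rw [Nat.add_sub_cancel_left, hh]
      nlinarith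
  rw [Finset.sum_tsub_distrib _ hle, Finset.sum_add_distrib, Finset.sum_ite_eq', if_pos (by simp)]
  have s2 : ∑ i ∈ Finset.range (h + 1), (i - n) = (∑ t ∈ Finset.range (m + 1), t) := by
    rw [hh, show m + n + 1 = n + (m + 1) by omega, Finset.sum_range_add]
    simp only [Nat.add_sub_cancel_left]
    rw [Finset.sum_eq_zero (fun i hi => by rw [Finset.mem_range] at hi; omega), zero_add]
  have s1 : 2 * ∑ i ∈ Finset.range (h + 1), (if i = 0 ∨ i = h then 0 else i * m / h + 1) = (h - 1) * (m + 1) := by
    have hrefl := Finset.sum_range_reflect (fun i => if i = 0 ∨ i = h then 0 else i * m / h + 1) (h + 1)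
    rw [two_mul]
    nth_rewrite 1 [← hrefl]
    rw [← Finset.sum_add_distrib]
    have e : ∀ i ∈ Finset.range (h + 1), ((if h + 1 - 1 - i = 0 ∨ h + 1 - 1 - i = h then 0 else (h + 1 - 1 - i) * m / h + 1) +
        (if i = 0 ∨ i = h then 0 else i * m / h + 1)) = if i = 0 ∨ i = h then 0 else m + 1 := by
      intro i hi
      rw [Finset.mem_range] at hi
      split_ifs with a b b <;> try omega
      have hnd : ¬ h ∣ i * m := fun hd => by
        have hcop : Nat.Coprime h m := by rw [hh]; simpa using hmn.symm
        have := Nat.le_of_dvd (by omega) (hcop.dvd_of_dvd_mul_right hd)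
        omega
      have hr : 0 < i * m % h := Nat.pos_of_ne_zero fun hz => hnd (Nat.dvd_of_mod_eq_zero hz)
      have hsum : (h + 1 - 1 - i) * m + i * m = m * h := by rw [← add_mul, show h + 1 - 1 - i + i = h by omega, mul_comm]
      have d1 := Nat.div_add_mod (i * m) h
      have d2 := Nat.div_add_mod ((h + 1 - 1 - i) * m) h
      have r1 := Nat.mod_lt (i * m) (show 0 < h by omega)
      have r2 := Nat.mod_lt ((h + 1 - 1 - i) * m) (show 0 < h by omega)
      set A := i * m / h
      set B := (h + 1 - 1 - i) * m / h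
      have : h * (A + B) + (i * m % h + (h + 1 - 1 - i) * m % h) = h * m := by rw [mul_comm h m, ← hsum]; linarith
      have h4 : A + B < m := Nat.lt_of_mul_lt_mul_left (a := h) (by omega)
      have h5 : m < A + B + 2 := Nat.lt_of_mul_lt_mul_left (a := h) (by rw [mul_add]; omega)
      omega
    rw [Finset.sum_congr rfl e]
    have hfilter : (Finset.range (h + 1)).filter (fun i => ¬ (i = 0 ∨ i = h)) = Finset.Ico 1 h := by
      ext i; simp only [Finset.mem_filter, Finset.mem_range, Finset.mem_Ico]; omega
    rw [Finset.sum_ite, Finset.sum_const_zero, zero_add, hfilter, Finset.sum_const, Nat.card_Ico, smul_eq_mul]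
  have s3 := Finset.sum_range_id_mul_two (m + 1)
  rw [s2]
  obtain ⟨m', rfl⟩ : ∃ m', m = m' + 1 := ⟨m - 1, by omega⟩
  obtain ⟨n', rfl⟩ : ∃ n', n = n' + 1 := ⟨n - 1, by omega⟩
  simp only [Nat.add_sub_cancel] at s3 ⊢
  rw [show h - 1 = m' + n' + 1 by omega] at s1
  rw [hh] at s1
  have heven : 2 ∣ m' * n' := by
    rcases Nat.even_or_odd m' with h1 | h1
    · exact Dvd.dvd.mul_right h1.two_dvd _
    · rcases Nat.even_or_odd n' with h2 | h2
      · exact Dvd.dvd.mul_left h2.two_dvd _
      · exfalso
        have a1 : 2 ∣ m' + 1 := (h1.add_odd odd_one).two_dvd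
        have a2 : 2 ∣ n' + 1 := (h2.add_odd odd_one).two_dvd
        have := Nat.dvd_gcd a1 a2
        rw [hmn.gcd_eq_one] at this
        omega
  obtain ⟨w, hw⟩ := heven
  rw [hw, Nat.mul_div_cancel_left _ (by norm_num)]
  generalize ∑ i ∈ Finset.range (m' + 1 + (n' + 1) + 1), (if i = 0 ∨ i = m' + 1 + (n' + 1) then 0 else i * (m' + 1) / (m' + 1 + (n' + 1)) + 1) = S at *
  generalize ∑ i ∈ Finset.range (m' + 1 + 1), i = Q at *
  have e1 : (m' + n' + 1) * (m' + 1 + 1) = m' * m' + m' * n' + 3 * m' + 2 * n' + 2 := by ring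
  have e2 : (m' + 1 + 1) * (m' + 1) = m' * m' + 3 * m' + 2 := by ring
  omega

end Groth.Agent.S15498
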