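import Groth.Statements.S17853
import Mathlib
import Groth.Agent.Lib.H2Alg.HorrocksPatch

set_option autoImplicit false
open Polynomial LaurentPolynomial TensorProduct
universe u
open CAlg

namespace Groth.Agent.S17853
open Polynomial LaurentPolynomial TensorProduct Matrix

open Groth.Agent.H2Horrocks

variable {A : Type u} [CommRing A]

theorem basis_repr {n : ℕ} {S : Type u} [CommRing S] {X : Type u} [AddCommGroup X] [Module S X]
    (g : (Fin n → S) →ₗ[S] X) (v : Fin n → S) : g v = ∑ i, v i • g (Pi.single i 1) := by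
  conv_lhs => rw [pi_eq_sum_univ' v]
  simp [map_sum, map_smul]

/-- split idempotent presentation of a finite projective module and of its base change -/
theorem exists_split (M : Type u) [AddCommGroup M] [Module A[X] M] [Module.Finite A[X] M]
    [Module.Projective A[X] M] :
    ∃ (n : ℕ) (e : Matrix (Fin n) (Fin n) A[X]) (π : (Fin n → A[X]) →ₗ[A[X]] M) (s : M →ₗ[A[X]] (Fin n → A[X]))
      (a : A[T;T⁻¹] ⊗[A[X]] M →ₗ[A[T;T⁻¹]] (Fin n → A[T;T⁻¹])) (b : (Fin n → A[T;T⁻¹]) →ₗ[A[T;T⁻¹]] A[T;T⁻¹] ⊗[A[X]] M),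
      (∀ m, π (s m) = m) ∧ (∀ v, s (π v) = e *ᵥ v) ∧ e * e = e ∧
      (∀ z, b (a z) = z) ∧ (∀ v, a (b v) = e.map toLaurent *ᵥ v) := by
  classical
  obtain ⟨n, π, hπ⟩ := Module.Finite.exists_fin' A[X] M
  obtain ⟨s, hs⟩ := Module.projective_lifting_property π LinearMap.id hπ
  have hs' : ∀ m, π (s m) = m := fun m => LinearMap.congr_fun hs m
  let e := LinearMap.toMatrix' (s ∘ₗ π)
  have he1 : ∀ v, s (π v) = e *ᵥ v := fun v => (LinearMap.toMatrix'_mulVec (s ∘ₗ π) v).symm
  have hee : e * e = e := by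
    rw [← LinearMap.toMatrix'_comp]
    refine congrArg _ (LinearMap.ext fun v => ?_)
    simp [hs']
  let ι : (Fin n → A[X]) →ₗ[A[X]] (Fin n → A[T;T⁻¹]) :=
    LinearMap.compLeft (Algebra.linearMap A[X] A[T;T⁻¹]) (Fin n)
  let a : A[T;T⁻¹] ⊗[A[X]] M →ₗ[A[T;T⁻¹]] (Fin n → A[T;T⁻¹]) := LinearMap.liftBaseChange A[T;T⁻¹] (ι ∘ₗ s)
  let b : (Fin n → A[T;T⁻¹]) →ₗ[A[T;T⁻¹]] A[T;T⁻¹] ⊗[A[X]] M :=
    { toFun := fun v => ∑ i, v i ⊗ₜ[A[X]] π (Pi.single i 1)
      map_add' := fun v w => by simp [add_tmul, Finset.sum_add_distrib]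
      map_smul' := fun c v => by simp [Finset.smul_sum, TensorProduct.smul_tmul'] }
  have hab : ∀ v, a (b v) = e.map toLaurent *ᵥ v := by
    intro v
    funext k
    simp only [b, LinearMap.coe_mk, AddHom.coe_mk, map_sum, Finset.sum_apply, a,
      LinearMap.liftBaseChange_tmul, Pi.smul_apply, smul_eq_mul, LinearMap.comp_apply, he1,
      Matrix.mulVec_single_one]
    show _ = ∑ i, toLaurent (e k i) * v i
    exact Finset.sum_congr rfl fun i _ => mul_comm _ _
  refine ⟨n, e, π, s, a, b, hs', he1, hee, fun z => ?_, hab⟩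
  induction z using TensorProduct.induction_on with
  | zero => simp
  | add p q hp hq => simp only [map_add, hp, hq]
  | tmul l m =>
    have : b (a (l ⊗ₜ m)) = ∑ i, (l * toLaurent (s m i)) ⊗ₜ[A[X]] π (Pi.single i 1) := rfl
    rw [this]
    conv_rhs => rw [← hs' m, basis_repr π (s m), tmul_sum]
    refine Finset.sum_congr rfl fun i _ => ?_
    rw [← smul_tmul, Algebra.smul_def, mul_comm]
    rfl

theorem extended_of_sim {M : Type u} [AddCommGroup M] [Module A[X] M] {n : ℕ}
    (e : Matrix (Fin n) (Fin n) A[X]) (π : (Fin n → A[X]) →ₗ[A[X]] M) (s : M →ₗ[A[X]] (Fin n → A[X]))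
    (hs : ∀ m, π (s m) = m) (he : ∀ v, s (π v) = e *ᵥ v) (hee : e * e = e)
    (h : Sim e (e.map ((Polynomial.C : A →+* A[X]).comp (evalRingHom 0)))) :
    ∃ (P : Type u) (_ : AddCommGroup P) (_ : Module A P), Nonempty (M ≃ₗ[A[X]] (A[X] ⊗[A] P)) := by
  classical
  let e0 : Matrix (Fin n) (Fin n) A := e.map (evalRingHom 0)
  let eC := e0.map (Polynomial.C : A →+* A[X])
  have heC : e.map ((Polynomial.C : A →+* A[X]).comp (evalRingHom 0)) = eC := by
    ext1 i j; rfl
  rw [heC] at h
  have h0 : e0 * e0 = e0 := idem_map _ hee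
  obtain ⟨F, G, hFG, hGF, heF, hFe, heG, hGe⟩ := h.normal hee (idem_map _ h0)
  let P : Submodule A (Fin n → A) := LinearMap.range (Matrix.mulVecLin e0)
  let q0 : (Fin n → A) →ₗ[A] P := (Matrix.mulVecLin e0).rangeRestrict
  let inc : P →ₗ[A] (Fin n → A[X]) :=
    LinearMap.compLeft (Algebra.linearMap A A[X]) (Fin n) ∘ₗ P.subtype
  let j : A[X] ⊗[A] P →ₗ[A[X]] (Fin n → A[X]) := LinearMap.liftBaseChange A[X] inc
  let qi : (Fin n → A[X]) →ₗ[A[X]] A[X] ⊗[A] P :=
    { toFun := fun v => ∑ i, v i ⊗ₜ[A] q0 (Pi.single i 1)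
      map_add' := fun v w => by simp [add_tmul, Finset.sum_add_distrib]
      map_smul' := fun c v => by simp [Finset.smul_sum, TensorProduct.smul_tmul'] }
  have hjq : ∀ v, j (qi v) = eC *ᵥ v := by
    intro v
    funext k
    simp only [qi, LinearMap.coe_mk, AddHom.coe_mk, map_sum, Finset.sum_apply, j,
      LinearMap.liftBaseChange_tmul, Pi.smul_apply, smul_eq_mul]
    show ∑ i, v i * Polynomial.C ((e0 *ᵥ Pi.single i 1) k) = ∑ i, Polynomial.C (e0 k i) * v i
    exact Finset.sum_congr rfl fun i _ => by rw [Matrix.mulVec_single_one]; exact mul_comm _ _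
  have hqj : ∀ z, qi (j z) = z := by
    intro z
    induction z using TensorProduct.induction_on with
    | zero => simp
    | add p q hp hq => simp only [map_add, hp, hq]
    | tmul r p =>
      have hp : q0 p.1 = p := by
        obtain ⟨w, hw⟩ := p.2
        refine Subtype.ext ?_
        show e0 *ᵥ p.1 = p.1
        rw [← hw, Matrix.mulVecLin_apply, Matrix.mulVec_mulVec, h0]
      have : qi (j (r ⊗ₜ p)) = ∑ i, (r * Polynomial.C (p.1 i)) ⊗ₜ[A] q0 (Pi.single i 1) := rfl
      rw [this]
      conv_rhs => rw [← hp, basis_repr q0 p.1, tmul_sum]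
      refine Finset.sum_congr rfl fun i _ => ?_
      rw [← smul_tmul, Algebra.smul_def, mul_comm]
      rfl
  refine ⟨P, inferInstance, inferInstance, ⟨LinearEquiv.ofLinearMap
    (qi ∘ₗ Matrix.mulVecLin G ∘ₗ s) (π ∘ₗ Matrix.mulVecLin F ∘ₗ j) ?_ ?_⟩⟩
  · refine LinearMap.ext fun z => ?_
    show qi (G *ᵥ s (π (F *ᵥ j z))) = z
    rw [he, Matrix.mulVec_mulVec _ e F, heF, Matrix.mulVec_mulVec _ G F, hGF, ← hjq, hqj, hqj]
  · refine LinearMap.ext fun m => ?_
    show π (F *ᵥ j (qi (G *ᵥ s m))) = m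
    rw [hjq, Matrix.mulVec_mulVec, Matrix.mulVec_mulVec, Matrix.mul_assoc, heG, hFG, ← he, hs, hs]

/-- For an arbitrary commutative ring A, a finitely generated projective A[t]-module M is extended from
A (isomorphic to A[t] ⊗_A P for an A-module P) if and only if it extends to a vector bundle on the
projective line over A. The latter is stated by gluing: there are a finitely generated projective
module N over the polynomial ring of the chart at infinity and an isomorphism over the Laurent
polynomial ring between the localisation of M and the base change of N along s ↦ t⁻¹, written as a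
bijective additive map A[t,t⁻¹] ⊗ M → A[t,t⁻¹] ⊗ N that is semilinear with respect to the A-algebra
involution t ↦ t⁻¹ of A[t,t⁻¹]. (The published statement adds: for A semilocal, M is then free on
each connected component of the affine line.) -/
theorem result
    (A : Type u) [CommRing A] (M : Type u) [AddCommGroup M] [Module A[X] M]
    [Module.Finite A[X] M] [Module.Projective A[X] M] :
    (∃ (P : Type u) (_ : AddCommGroup P) (_ : Module A P), Nonempty (M ≃ₗ[A[X]] (A[X] ⊗[A] P))) ↔
      ∃ (N : Type u) (_ : AddCommGroup N) (_ : Module A[X] N),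
        Module.Finite A[X] N ∧ Module.Projective A[X] N ∧
        ∃ e : (A[T;T⁻¹] ⊗[A[X]] M) →ₛₗ[(LaurentPolynomial.invert (R := A)).toRingEquiv.toRingHom]
            (A[T;T⁻¹] ⊗[A[X]] N), Function.Bijective e := by
  classical
  constructor
  · rintro ⟨P, _, _, ⟨φ⟩⟩
    haveI : IsScalarTower A A[X] A[T;T⁻¹] := IsScalarTower.of_algebraMap_eq fun r => by
      rw [LaurentPolynomial.algebraMap_eq_toLaurent, Polynomial.algebraMap_eq, Polynomial.toLaurent_C,
        LaurentPolynomial.C_eq_algebraMap]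
    let Φ : A[T;T⁻¹] ⊗[A[X]] M ≃ₗ[A[T;T⁻¹]] A[T;T⁻¹] ⊗[A] P :=
      (TensorProduct.AlgebraTensorModule.congr (LinearEquiv.refl A[T;T⁻¹] A[T;T⁻¹]) φ).trans
        (TensorProduct.AlgebraTensorModule.cancelBaseChange A A[X] A[T;T⁻¹] A[T;T⁻¹] P)
    let σ' : A[T;T⁻¹] ⊗[A] P ≃ₗ[A] A[T;T⁻¹] ⊗[A] P :=
      TensorProduct.congr (invert (R := A)).toLinearEquiv (LinearEquiv.refl A P)
    have hσ : ∀ (c : A[T;T⁻¹]) z, σ' (c • z) = invert c • σ' z := by
      intro c z
      induction z using TensorProduct.induction_on with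
      | zero => simp
      | add p q hp hq => simp only [smul_add, map_add, hp, hq]
      | tmul l p => simp [σ', TensorProduct.smul_tmul']
    refine ⟨M, inferInstance, inferInstance, inferInstance, inferInstance,
      { toFun := fun z => Φ.symm (σ' (Φ z))
        map_add' := fun x y => by simp only [map_add]
        map_smul' := fun c z => by rw [map_smul, hσ, map_smul]; rfl }, ?_⟩
    exact (Φ.symm.bijective.comp (σ'.bijective.comp Φ.bijective))
  · rintro ⟨N, _, _, _, _, E, hE⟩
    obtain ⟨n, e, π, s, a, b, hs, he, hee, hba, hab⟩ := exists_split (A := A) M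
    obtain ⟨m, f, π', s', a', b', -, -, hff, hba', hab'⟩ := exists_split (A := A) N
    choose Ei hEi using hE.2
    have hEi' : ∀ z, Ei (E z) = z := fun z => hE.1 (hEi (E z))
    let iv : A[T;T⁻¹] →+* A[T;T⁻¹] := (LaurentPolynomial.invert (R := A)).toRingEquiv.toRingHom
    have hiv : ∀ c, iv (iv c) = c := fun c => involutive_invert c
    have hEsmul : ∀ c z, E (c • z) = iv c • E z := fun c z => E.map_smulₛₗ c z
    have hEiadd : ∀ x y, Ei (x + y) = Ei x + Ei y := fun x y => hE.1 (by rw [map_add, hEi, hEi, hEi])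
    have hEismul : ∀ c z, Ei (c • z) = iv c • Ei z := fun c z => hE.1 (by rw [hEsmul, hEi, hEi, hiv])
    let uU : (Fin m → A[T;T⁻¹]) →ₗ[A[T;T⁻¹]] (Fin n → A[T;T⁻¹]) :=
      { toFun := fun u => a (Ei (b' fun i => iv (u i)))
        map_add' := fun u w => by
          rw [show (fun i => iv ((u + w) i)) = (fun i => iv (u i)) + fun i => iv (w i) from funext fun i => map_add iv _ _,
            map_add, hEiadd, map_add]
        map_smul' := fun c u => by
          rw [show (fun i => iv ((c • u) i)) = iv c • fun i => iv (u i) from funext fun i => map_mul iv _ _,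
            map_smul, hEismul, hiv, map_smul]; rfl }
    let uV : (Fin n → A[T;T⁻¹]) →ₗ[A[T;T⁻¹]] (Fin m → A[T;T⁻¹]) :=
      { toFun := fun v i => iv (a' (E (b v)) i)
        map_add' := fun v w => funext fun i => by simp only [map_add, Pi.add_apply]
        map_smul' := fun c v => funext fun i => by
          simp only [map_smul, hEsmul, Pi.smul_apply, smul_eq_mul, map_mul, hiv, RingHom.id_apply] }
    let U := LinearMap.toMatrix' uU
    let V := LinearMap.toMatrix' uV
    have hU : ∀ w, U *ᵥ w = uU w := fun w => LinearMap.toMatrix'_mulVec uU w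
    have hV : ∀ w, V *ᵥ w = uV w := fun w => LinearMap.toMatrix'_mulVec uV w
    have hvu : ∀ w, uV (uU w) = f.map sig *ᵥ w := by
      intro w
      funext i
      show iv (a' (E (b (a (Ei (b' fun i => iv (w i)))))) i) = _
      rw [hba, hEi, hab']
      simp only [Matrix.mulVec, dotProduct, map_sum, map_mul, hiv]
      rfl
    have huv : ∀ v, uU (uV v) = e.map toLaurent *ᵥ v := by
      intro v
      show a (Ei (b' fun i => iv (iv (a' (E (b v)) i)))) = _
      simp only [hiv]
      rw [hba', hEi', hab]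
    have hG : Glue e f U V := by
      refine ⟨hee, hff, Matrix.ext_of_mulVec_single fun i => ?_, Matrix.ext_of_mulVec_single fun i => ?_,
        Matrix.ext_of_mulVec_single fun i => ?_, Matrix.ext_of_mulVec_single fun i => ?_⟩
      · rw [← Matrix.mulVec_mulVec, hU, hV, huv]
      · rw [← Matrix.mulVec_mulVec, hU, hV, hvu]
      · rw [← Matrix.mulVec_mulVec, ← hab, hU]
        show a (b (a _)) = a _
        rw [hba]
      · rw [← Matrix.mulVec_mulVec, hV, ← hvu]
        funext k
        show iv (a' (E (b (a (Ei (b' fun i => iv (iv (a' (E (b _)) i))))))) k) = iv (a' (E (b _)) k)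
        simp only [hiv]
        rw [hba, hEi, hba']
    exact extended_of_sim e π s hs he hee (extended_of_glue hG)

end Groth.Agent.S17853
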