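import Groth.Statements.S15499
import Mathlib
import Groth.Agent.S17853

set_option autoImplicit false
open Polynomial LaurentPolynomial
open scoped TensorProduct
universe u
open CAlg

namespace Groth.Agent.S15499
open Polynomial LaurentPolynomial
open scoped TensorProduct

/-- Let S = Spec R be a smooth connected affine complex variety, so that R is a finitely generated
smooth ℂ-algebra and an integral domain, and let F be a locally free sheaf of finite rank on the
projective line over S, presented by its two standard charts: a finitely generated projective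
R[X]-module P on the affine line over S, a finitely generated projective R[X]-module P' on the chart
at infinity, and an identification of their base changes to R[X, X⁻¹] that is additive, bijective
and semilinear over the R-algebra involution X ↦ X⁻¹. Then S is covered by basic open sets D(g_1),
…, D(g_n) such that F restricted to the affine line over each D(g_i) is free: the localisation of P
at g_i is a free module over the localisation of R[X] at g_i. -/
theorem result
    (R : Type u) [CommRing R] [IsDomain R] [Algebra ℂ R] [Algebra.FiniteType ℂ R]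
    [Algebra.Smooth ℂ R]
    (P : Type u) [AddCommGroup P] [Module R[X] P] [Module.Finite R[X] P]
    [Module.Projective R[X] P]
    (P' : Type u) [AddCommGroup P'] [Module R[X] P'] [Module.Finite R[X] P']
    [Module.Projective R[X] P']
    (e : R[T;T⁻¹] ⊗[R[X]] P ≃+ R[T;T⁻¹] ⊗[R[X]] P')
    (he : ∀ (a : R[T;T⁻¹]) (m : R[T;T⁻¹] ⊗[R[X]] P),
      e (a • m) = LaurentPolynomial.invert a • e m) :
    ∃ (n : ℕ) (g : Fin n → R), Ideal.span (Set.range g) = ⊤ ∧
      ∀ i, Module.Free (Localization.Away (Polynomial.C (g i) : R[X]))
        (LocalizedModule (Submonoid.powers (Polynomial.C (g i) : R[X])) P) := by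
  classical
  haveI : IsNoetherianRing R := Algebra.FiniteType.isNoetherianRing ℂ R
  obtain ⟨P0, _, _, ⟨φ⟩⟩ := (Groth.Agent.S17853.result R P).mpr
    ⟨P', inferInstance, inferInstance, inferInstance, inferInstance,
      { toFun := e, map_add' := e.map_add, map_smul' := he }, e.bijective⟩
  let ev : R[X] ⊗[R] P0 →ₗ[R] P0 :=
    TensorProduct.lift ((LinearMap.lsmul R P0).comp (Polynomial.leval (0 : R)))
  let i0 : P0 →ₗ[R] R[X] ⊗[R] P0 := TensorProduct.mk R R[X] P0 1
  have hev : ∀ x, ev (i0 x) = x := fun x => by simp [ev, i0]
  haveI : Module.Projective R[X] (R[X] ⊗[R] P0) := Module.Projective.of_equiv φ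
  haveI : Module.Finite R[X] (R[X] ⊗[R] P0) := Module.Finite.equiv φ
  haveI : Module.Projective R (R[X] ⊗[R] P0) := by
    obtain ⟨m, π, hπ⟩ := Module.Finite.exists_fin' R[X] (R[X] ⊗[R] P0)
    obtain ⟨σ, hσ⟩ := Module.projective_lifting_property π LinearMap.id hπ
    exact Module.Projective.of_split (σ.restrictScalars R) (π.restrictScalars R)
      (LinearMap.ext fun x => LinearMap.congr_fun hσ x)
  haveI : Module.Projective R P0 := Module.Projective.of_split i0 ev (LinearMap.ext hev)
  haveI : Module.Finite R P0 := by
    obtain ⟨t, ht⟩ := (Module.Finite.fg_top : (⊤ : Submodule R[X] (R[X] ⊗[R] P0)).FG)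
    refine ⟨⟨t.image ev, eq_top_iff.mpr fun x _ => ?_⟩⟩
    have hmem : i0 x ∈ Submodule.span R[X] (t : Set (R[X] ⊗[R] P0)) := ht ▸ Submodule.mem_top
    rw [← hev x]
    have hsm : ∀ (p : R[X]) z, ev (p • z) = p.eval 0 • ev z := by
      intro p z
      induction z using TensorProduct.induction_on with
      | zero => simp
      | add a b ha hb => simp only [smul_add, map_add, ha, hb]
      | tmul q y => simp [ev, TensorProduct.smul_tmul', mul_smul]
    refine Submodule.span_induction (p := fun z _ => ev z ∈ Submodule.span R ((t.image ev : Finset P0) : Set P0))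
      ?_ ?_ ?_ ?_ hmem
    · exact fun z hz => Submodule.subset_span (by simpa using ⟨z, hz, rfl⟩)
    · rw [map_zero]; exact zero_mem _
    · intro a b _ _ ha hb; rw [map_add]; exact add_mem ha hb
    · intro p z _ hz; rw [hsm]; exact Submodule.smul_mem _ _ hz
  haveI : Module.FinitePresentation R P0 := Module.finitePresentation_of_projective R P0
  have hloc : ∀ p : PrimeSpectrum R, ∃ g : R, g ∉ p.asIdeal ∧
      Module.Free (Localization.Away g) (LocalizedModule (Submonoid.powers g) P0) := by
    intro p
    haveI : Module.Free (Localization.AtPrime p.asIdeal) (LocalizedModule p.asIdeal.primeCompl P0) := by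
      have : p ∈ Module.freeLocus R P0 := by rw [Module.freeLocus_eq_univ]; exact Set.mem_univ p
      exact this
    obtain ⟨g, hg, hfree, _⟩ := Module.FinitePresentation.exists_free_localizedModule_powers
      p.asIdeal.primeCompl (LocalizedModule.mkLinearMap p.asIdeal.primeCompl P0) (Localization.AtPrime p.asIdeal)
    exact ⟨g, hg, hfree⟩
  choose g hg hfree using hloc
  have htop : Ideal.span (Set.range g) = ⊤ := by
    by_contra h
    obtain ⟨m, hm, hle⟩ := Ideal.exists_le_maximal _ h
    exact hg ⟨m, hm.isPrime⟩ (hle (Ideal.subset_span ⟨_, rfl⟩))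
  rw [Ideal.eq_top_iff_one, ← Set.image_univ] at htop
  obtain ⟨s, hs⟩ := Submodule.mem_span_finite_of_mem_span (htop : (1:R) ∈ Submodule.span R (g '' Set.univ))
  let el : Fin s.card → R := fun i => (s.equivFin.symm i).1
  refine ⟨s.card, el, ?_, fun i => ?_⟩
  · rw [Ideal.eq_top_iff_one]
    refine Submodule.span_mono ?_ hs.2
    intro x hx
    exact ⟨s.equivFin ⟨x, hx⟩, by simp [el]⟩
  obtain ⟨p, -, hp⟩ := hs.1 (s.equivFin.symm i).2
  show Module.Free (Localization.Away (Polynomial.C (el i) : R[X])) _
  rw [show el i = g p from hp.symm]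
  let B := Localization.Away (g p)
  let S := Localization.Away (Polynomial.C (g p) : R[X])
  letI : Algebra B S := (Localization.awayMap (Polynomial.C : R →+* R[X]) (g p)).toAlgebra
  haveI : IsScalarTower R B S := IsScalarTower.of_algebraMap_eq fun r => by
    show algebraMap R S r = Localization.awayMap (Polynomial.C : R →+* R[X]) (g p) (algebraMap R B r)
    rw [Localization.awayMap, IsLocalization.Away.map, IsLocalization.map_eq,
      IsScalarTower.algebraMap_apply R R[X] S]
    rfl
  haveI : Module.Free B (B ⊗[R] P0) := by
    haveI := hfree p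
    exact Module.Free.of_equiv (LocalizedModule.equivTensorProduct (Submonoid.powers (g p)) P0)
  let e1 : S ⊗[R[X]] P ≃ₗ[S] S ⊗[R] P0 :=
    (TensorProduct.AlgebraTensorModule.congr (LinearEquiv.refl S S) φ).trans
      (TensorProduct.AlgebraTensorModule.cancelBaseChange R R[X] S S P0)
  let e2 : S ⊗[B] (B ⊗[R] P0) ≃ₗ[S] S ⊗[R] P0 :=
    TensorProduct.AlgebraTensorModule.cancelBaseChange R B S S P0
  haveI : Module.Free S (S ⊗[R[X]] P) := Module.Free.of_equiv (e2.trans e1.symm)
  exact Module.Free.of_equiv (LocalizedModule.equivTensorProduct (Submonoid.powers (Polynomial.C (g p))) P).symm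

end Groth.Agent.S15499
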