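import Groth.Statements.S15500
import Groth.Agent.Lib.ElemFib4.Main
-- import your own Groth.Agent.* helpers here

set_option autoImplicit false
open CategoryTheory AlgebraicGeometry
open An

namespace Groth.Agent.S15500

/-- An elementary fibration f : X → S of smooth complex varieties is affine and surjective, elementary
fibration being taken in the following sense: f factors as an open immersion j : X → X̄ followed by
f̄ : X̄ → S, where f̄ is smooth and is a closed subscheme of some projective space over S with
geometrically irreducible fibres of dimension one, the complement of j(X) is the image of a closed
immersion Y → X̄ with Y finite, etale and surjective over S, and j(X) is dense in every fibre of f̄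
(for smooth complex varieties the last clause is automatic, and this is the usual notion: a smooth
projective family of irreducible curves minus a finite etale multisection). -/
theorem result (X S : Scheme.{0})
    [X.Over An.SC] [Smooth (X ↘ An.SC)] [IsSeparated (X ↘ An.SC)] [QuasiCompact (X ↘ An.SC)]
    [S.Over An.SC] [Smooth (S ↘ An.SC)] [IsSeparated (S ↘ An.SC)] [QuasiCompact (S ↘ An.SC)]
    (f : X ⟶ S) [f.IsOver An.SC] (hf : An.IsElementaryFibration f) :
    IsAffineHom f ∧ Surjective f := by
  exact Groth.Agent.ElemFib4.isAffineHom_and_surjective f hf

end Groth.Agent.S15500
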