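import Groth.Statements.S15501
import Groth.Agent.Lib.ProjSpace.BaseChange
-- import your own Groth.Agent.* helpers here

set_option autoImplicit false
open CategoryTheory CategoryTheory.Limits AlgebraicGeometry
open An

set_option backward.isDefEq.respectTransparency false
set_option backward.isDefEq.respectTransparency.types false
open CategoryTheory CategoryTheory.Limits AlgebraicGeometry

namespace Groth.Agent.S15501

set_option maxHeartbeats 200000 in
theorem geomPt_range {S : Scheme.{0}} (s : S) (Ω : Type) [Field Ω] (a : (S.residueField s : Type) →+* Ω) :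
    Set.range (Spec.map (CommRingCat.ofHom a) ≫ S.fromSpecResidueField s).base = {s} := by
  refine Set.eq_singleton_iff_nonempty_unique_mem.2 ⟨⟨_, (IsLocalRing.closedPoint Ω : Spec (CommRingCat.of Ω)), rfl⟩, ?_⟩
  rintro _ ⟨z, rfl⟩
  rw [Scheme.Hom.comp_apply]
  exact S.fromSpecResidueField_apply s _

/-- A geometric point over a point. -/
theorem exists_geomPt {S : Scheme.{0}} (s : S) : ∃ (Ω : Type) (_ : Field Ω) (_ : IsAlgClosed Ω)
    (σ : Spec (CommRingCat.of Ω) ⟶ S), Set.range σ.base = {s} :=
  have h : ∀ (Ω : Type) [Field Ω] [IsAlgClosed Ω] (_ : (S.residueField s : Type) →+* Ω),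
      ∃ (Ω : Type) (_ : Field Ω) (_ : IsAlgClosed Ω) (σ : Spec (CommRingCat.of Ω) ⟶ S), Set.range σ.base = {s} :=
    fun Ω _ _ a => ⟨Ω, inferInstance, inferInstance, _, geomPt_range s Ω a⟩
  h (AlgebraicClosure (S.residueField s)) (algebraMap (S.residueField s) (AlgebraicClosure (S.residueField s)))

/-- Irreducibility passes through homeomorphisms. -/
theorem irreducibleSpace_of_homeomorph {A B : Type} [TopologicalSpace A] [TopologicalSpace B] [IrreducibleSpace B]
    (e : A ≃ₜ B) : IrreducibleSpace A := by
  haveI : Nonempty A := ⟨e.symm (Classical.arbitrary B)⟩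
  haveI : PreirreducibleSpace A := ⟨by
    rw [← e.symm.surjective.range_eq, ← Set.image_univ]
    exact (PreirreducibleSpace.isPreirreducible_univ).image _ e.symm.continuous.continuousOn⟩
  exact ⟨inferInstance⟩

/-- The base change of an elementary fibration. -/
theorem isElementaryFibration_baseChange {X S S' : Scheme.{0}} (f : X ⟶ S) (u : S' ⟶ S)
    (hf : An.IsElementaryFibration f) : An.IsElementaryFibration (pullback.snd f u) := by
  obtain ⟨Xb, Y, j, fb, i, rfl, hj, hi, hrange, hdense, hsm, ⟨n, c, hc, hcf⟩, hgeom, hfin, het, hsurj⟩ := hf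
  let Xb' := pullback fb u
  let fb' := pullback.snd fb u
  let j' : pullback (j ≫ fb) u ⟶ Xb' :=
    pullback.map (j ≫ fb) u fb u j (𝟙 _) (𝟙 _) (by simp) (by simp)
  have hsq : IsPullback (pullback.fst (j ≫ fb) u) j' j (pullback.fst fb u) := by
    refine IsPullback.of_bot ?_ (pullback.lift_fst _ _ _).symm (IsPullback.of_hasPullback fb u)
    rw [show j' ≫ pullback.snd fb u = pullback.snd (j ≫ fb) u ≫ 𝟙 _ from pullback.lift_snd _ _ _, Category.comp_id]
    exact IsPullback.of_hasPullback (j ≫ fb) u
  let i' := pullback.snd i (pullback.fst fb u)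
  have hrj : Set.range j'.base = (pullback.fst fb u).base ⁻¹' Set.range j.base := by
    rw [← hsq.isoPullback_hom_snd, Scheme.Hom.comp_base, TopCat.coe_comp, Set.range_comp,
      Set.range_eq_univ.2 hsq.isoPullback.hom.surjective, Set.image_univ, Scheme.Pullback.range_snd]
  have hY := (IsPullback.of_hasPullback i (pullback.fst fb u)).paste_vert (IsPullback.of_hasPullback fb u)
  refine ⟨Xb', _, j', fb', i', ?_, ?_, inferInstance, ?_, ?_, inferInstance, ?_, ?_, ?_, ?_, ?_⟩
  · exact (pullback.lift_snd _ _ _).trans (Category.comp_id _)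
  · exact MorphismProperty.of_isPullback hsq hj
  · rw [hrj, hrange, Scheme.Pullback.range_snd, Set.preimage_compl]
  · intro s'
    obtain ⟨Ω, _, _, σ, hσ⟩ := exists_geomPt s'
    obtain ⟨hirr, -⟩ := hgeom Ω (σ ≫ u)
    let e : pullback fb' σ ≅ pullback fb (σ ≫ u) := pullbackLeftPullbackSndIso fb u σ
    haveI : IrreducibleSpace ↥(pullback fb' σ) := irreducibleSpace_of_homeomorph e.hom.homeomorph
    have hF : Set.range (pullback.fst fb' σ).base = fb'.base ⁻¹' {s'} := by
      rw [Scheme.Pullback.range_fst, ← hσ]
    have hFirr : IsPreirreducible (fb'.base ⁻¹' {s'}) := by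
      rw [← hF, ← Set.image_univ]
      exact (PreirreducibleSpace.isPreirreducible_univ).image _ (pullback.fst fb' σ).continuous.continuousOn
    have hne : (Set.range j'.base ∩ fb'.base ⁻¹' {s'}).Nonempty := by
      obtain ⟨q⟩ := hirr.toNonempty
      have hq : fb.base ((pullback.fst fb (σ ≫ u)).base q) = u.base s' := by
        rw [← Scheme.Hom.comp_apply, pullback.condition, Scheme.Hom.comp_apply, Scheme.Hom.comp_apply]
        exact congrArg u.base (hσ.subset ⟨_, rfl⟩)
      obtain ⟨z, hz, hzs⟩ := closure_nonempty_iff.1 (⟨_, hdense (u.base s') hq⟩ :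
        (closure (Set.range j.base ∩ fb.base ⁻¹' {u.base s'})).Nonempty)
      obtain ⟨p, hp1, hp2⟩ := Scheme.Pullback.exists_preimage_pullback z s' hzs
      refine ⟨p, ?_, hp2⟩
      rw [hrj]
      rw [Set.mem_preimage, show (pullback.fst fb u) p = z from hp1]; exact hz
    have hopen : IsOpen (Set.range j'.base) := by
      rw [hrj]; exact hj.base_open.isOpen_range.preimage (pullback.fst fb u).continuous
    intro z hz
    rw [mem_closure_iff]
    intro O hO hzO
    obtain ⟨w, hwF, hwj, hwO⟩ := hFirr _ _ hopen hO (by rw [Set.inter_comm]; exact hne) ⟨z, hz, hzO⟩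
    exact ⟨w, hwO, hwj, hwF⟩
  · have sq := ProjSpace.isPullback_overMap n u
    let c' : Xb' ⟶ CohB1.ProjSpaceOver n S' := sq.lift (pullback.fst fb u ≫ c) (pullback.snd fb u)
      (by rw [Category.assoc, hcf, pullback.condition])
    refine ⟨n, c', ?_, sq.lift_snd _ _ _⟩
    have h : IsPullback (pullback.fst fb u) c' c (ProjSpace.overMap n u) := by
      refine IsPullback.of_bot ?_ (sq.lift_fst _ _ _).symm sq
      rw [sq.lift_snd, hcf]
      exact IsPullback.of_hasPullback fb u
    exact MorphismProperty.of_isPullback h hc
  · intro Ω _ _ σ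
    obtain ⟨h1, h2⟩ := hgeom Ω (σ ≫ u)
    let e : pullback fb' σ ≅ pullback fb (σ ≫ u) := pullbackLeftPullbackSndIso fb u σ
    exact ⟨irreducibleSpace_of_homeomorph e.hom.homeomorph,
      (IsHomeomorph.topologicalKrullDim_eq _ e.hom.homeomorph.isHomeomorph).trans h2⟩
  · exact MorphismProperty.of_isPullback hY hfin
  · exact MorphismProperty.of_isPullback hY het
  · haveI : Surjective (i ≫ fb) := ⟨hsurj⟩
    exact (MorphismProperty.of_isPullback (P := @Surjective) hY inferInstance).surj


/-- The base change of an elementary fibration f : X → S of smooth complex varieties along any morphism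
u : S' → S of smooth complex varieties is an elementary fibration X ×_S S' → S', elementary
fibration being taken in the following sense: f factors as an open immersion j : X → X̄ followed by
f̄ : X̄ → S, where f̄ is smooth and is a closed subscheme of some projective space over S with
geometrically irreducible fibres of dimension one, the complement of j(X) is the image of a closed
immersion Y → X̄ with Y finite, etale and surjective over S, and j(X) is dense in every fibre of f̄
(for smooth complex varieties the last clause is automatic, and this is the usual notion: a smooth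
projective family of irreducible curves minus a finite etale multisection). (The published statement
also treats rational and coordinatised elementary fibrations; this row states only the plain case.) -/
theorem result (X S S' : Scheme.{0})
    [X.Over An.SC] [Smooth (X ↘ An.SC)] [IsSeparated (X ↘ An.SC)] [QuasiCompact (X ↘ An.SC)]
    [S.Over An.SC] [Smooth (S ↘ An.SC)] [IsSeparated (S ↘ An.SC)] [QuasiCompact (S ↘ An.SC)]
    [S'.Over An.SC] [Smooth (S' ↘ An.SC)] [IsSeparated (S' ↘ An.SC)] [QuasiCompact (S' ↘ An.SC)]
    (f : X ⟶ S) [f.IsOver An.SC] (u : S' ⟶ S) [u.IsOver An.SC]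
    (hf : An.IsElementaryFibration f) :
    An.IsElementaryFibration (pullback.snd f u) :=
  isElementaryFibration_baseChange f u hf

end Groth.Agent.S15501
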