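import Groth.Statements.S15502
import Mathlib
import Groth.Agent.Lib.H2Alg.LogDeriv

set_option autoImplicit false
open Polynomial
universe u
open CAlg

namespace Groth.Agent.S15502
open Polynomial Groth.Agent.H2LogDeriv

/-- Let S = Spec R be a smooth connected affine complex variety (R a finitely generated smooth ℂ-algebra
and a domain), θ_1, …, θ_r ∈ R pairwise disjoint sections of the affine line over S (θ_i − θ_k a
unit for i ≠ k), Θ = ∏ (X − θ_i) ∈ R[X], and M = R^d. Suppose given an additive operator D₀ on M[X]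
= R[X]^d with D₀(p v) = Θ p′ v + p D₀(v) (the action of the logarithmic vector field Θ ∂/∂X for a
connection on the trivial bundle of rank d on the affine line over S with logarithmic poles along
the θ_i), its extension D to M[X, 1/Θ] = (R[X][1/Θ])^d with the same Leibniz rule, and for each i
the residue endomorphism Res_i of M, characterised by D₀(m)(θ_i) = (∏_{k ≠ i} (θ_i − θ_k)) ·
Res_i(m) for constant m ∈ M, whose characteristic polynomial has complex coefficients and no nonzero
integer root. Then M[X, 1/Θ] = D(M[X, 1/Θ]) + M[X]: every element of (R[X][1/Θ])^d is D of some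
element plus an element coming from R[X]^d. (The published claim is made for residues whose
characteristic roots all lie in the image of a right inverse τ of the quotient map ℂ → ℂ/ℤ with τ(0)
= 0, so that no root is a nonzero integer and no two roots differ by a nonzero integer; this row
assumes only that no nonzero integer is a root, which is all the argument uses.) -/
theorem result
    (R : Type u) [CommRing R] [IsDomain R] [Algebra ℂ R] [Algebra.FiniteType ℂ R]
    [Algebra.Smooth ℂ R] (d r : ℕ) (θ : Fin r → R)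
    (hθ : ∀ i k, i ≠ k → IsUnit (θ i - θ k))
    (Θ : R[X]) (hΘ : Θ = ∏ i, (X - Polynomial.C (θ i)))
    (D₀ : (Fin d → R[X]) →+ (Fin d → R[X]))
    (hD₀ : ∀ (p : R[X]) (v : Fin d → R[X]),
      D₀ (p • v) = (Θ * Polynomial.derivative p) • v + p • D₀ v)
    (D : (Fin d → Localization.Away Θ) →+ (Fin d → Localization.Away Θ))
    (hD : ∀ (p : R[X]) (w : Fin d → Localization.Away Θ),
      D (p • w) = (Θ * Polynomial.derivative p) • w + p • D w)
    (hDD₀ : ∀ v : Fin d → R[X],
      D (fun j => algebraMap R[X] (Localization.Away Θ) (v j)) =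
        fun j => algebraMap R[X] (Localization.Away Θ) (D₀ v j))
    (Res : Fin r → ((Fin d → R) →ₗ[R] (Fin d → R)))
    (hRes : ∀ (i : Fin r) (m : Fin d → R) (j : Fin d),
      (D₀ (fun j => Polynomial.C (m j)) j).eval (θ i) =
        (∏ k ∈ Finset.univ.erase i, (θ i - θ k)) * Res i m j)
    (hχ : ∀ i : Fin r, ∃ χ : ℂ[X], (Res i).charpoly = χ.map (algebraMap ℂ R) ∧
      ∀ n : ℤ, n ≠ 0 → χ.eval (n : ℂ) ≠ 0)
    (w : Fin d → Localization.Away Θ) :
    ∃ (w' : Fin d → Localization.Away Θ) (v : Fin d → R[X]),
      w = D w' + fun j => algebraMap R[X] (Localization.Away Θ) (v j) := by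
  classical
  have hu : IsUnit (algebraMap R[X] (Localization.Away Θ) Θ) := IsLocalization.Away.algebraMap_isUnit Θ
  obtain ⟨⟨_, N, rfl⟩, hN⟩ := IsLocalization.exist_integer_multiples_of_finite (Submonoid.powers Θ) w
  choose u hu' using hN
  replace hu' : Θ ^ N • w = fun j => algebraMap R[X] (Localization.Away Θ) (u j) := funext fun j => (hu' j).symm
  induction N generalizing u w with
  | zero =>
    refine ⟨0, u, ?_⟩
    rw [map_zero, zero_add]
    rwa [pow_zero, one_smul] at hu'
  | succ N ih =>
    have hP : ∀ i, IsUnit (∏ k ∈ Finset.univ.erase i, (θ i - θ k)) := fun i =>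
      (IsUnit.prod_iff (s := Finset.univ.erase i) (f := fun k => θ i - θ k)).2 fun k hk =>
        hθ i k (Finset.ne_of_mem_erase hk).symm
    have hsol : ∀ i, ∃ m : Fin d → R, ∀ j,
        (∏ k ∈ Finset.univ.erase i, (θ i - θ k)) * (Res i m j - ((N + 1 : ℕ) : R) * m j) = (u j).eval (θ i) := by
      intro i
      obtain ⟨χ, hχ1, hχ2⟩ := hχ i
      have hb := bijective_res_sub (Res i) χ hχ1 (N + 1) (by
        exact_mod_cast hχ2 ((N + 1 : ℕ) : ℤ) (by omega))
      obtain ⟨m, hm⟩ := hb.2 fun j => ↑(hP i).unit⁻¹ * (u j).eval (θ i)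
      refine ⟨m, fun j => ?_⟩
      have := congrFun hm j
      simp only [Pi.sub_apply, Pi.smul_apply, smul_eq_mul] at this
      rw [this, ← mul_assoc, IsUnit.mul_val_inv, one_mul]
    choose m hm using hsol
    choose z hz using fun j => exists_eval_eq θ hθ (fun i => m i j)
    let w₁ : Fin d → Localization.Away Θ := fun j => ↑((hu.pow (N + 1)).unit⁻¹) * algebraMap R[X] _ (z j)
    have hw₁ : Θ ^ (N + 1) • w₁ = fun j => algebraMap R[X] (Localization.Away Θ) (z j) := funext fun j => by
      rw [Pi.smul_apply, Algebra.smul_def, map_pow, ← mul_assoc, IsUnit.mul_val_inv, one_mul]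
    have h1 := apply_fraction hu D₀ D hD hDD₀ (N + 1) w₁ z hw₁
    have hdiv : ∀ j, Θ ∣ u j - (D₀ z j - ((N + 1 : ℕ) : R[X]) * derivative Θ * z j) := fun j => by
      rw [hΘ]
      refine dvd_of_forall_eval_eq_zero θ hθ _ fun i => ?_
      rw [eval_sub, eval_sub, eval_mul, eval_mul, eval_natCast, eval_apply θ D₀ (hΘ ▸ hD₀) i z j, hRes,
        eval_derivative_prod, hz j i, ← hm i j, show (fun j => (z j).eval (θ i)) = m i from funext fun j => hz j i]
      ring
    choose u' hu'' using hdiv
    obtain ⟨w', v, hw'⟩ := ih (w - D w₁) u' (funext fun j => hu.mul_left_cancel (by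
      have h3 := congrFun hu' j
      have h4 := congrFun h1 j
      simp only [Pi.smul_apply, Pi.sub_apply] at h3 h4 ⊢
      simp only [Algebra.smul_def, map_pow, map_sub] at h3 h4 ⊢
      rw [← map_mul, ← hu'' j, map_sub, map_sub, ← h3, ← h4]
      ring))
    refine ⟨w₁ + w', v, ?_⟩
    rw [map_add, add_assoc, ← hw']
    abel

end Groth.Agent.S15502
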