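import Groth.Statements.S15503
import Mathlib
import Groth.Agent.Lib.H2Alg.LogDeriv

set_option autoImplicit false
open Polynomial
universe u
open CAlg

namespace Groth.Agent.S15503
open Polynomial Groth.Agent.H2LogDeriv

/-- Let S = Spec R be a smooth connected affine complex variety (R a finitely generated smooth ℂ-algebra
and a domain), θ_1, …, θ_r ∈ R pairwise disjoint sections of the affine line over S (θ_i − θ_k a
unit for i ≠ k), Θ = ∏ (X − θ_i) ∈ R[X], and M = R^d. Suppose given an additive operator D₀ on M[X]
= R[X]^d with D₀(p v) = Θ p′ v + p D₀(v) (the action of the logarithmic vector field Θ ∂/∂X for a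
connection on the trivial bundle of rank d on the affine line over S with logarithmic poles along
the θ_i), its extension D to M[X, 1/Θ] = (R[X][1/Θ])^d with the same Leibniz rule, and for each i
the residue endomorphism Res_i of M, characterised by D₀(m)(θ_i) = (∏_{k ≠ i} (θ_i − θ_k)) ·
Res_i(m) for constant m ∈ M, whose characteristic polynomial has complex coefficients and no nonzero
integer root. Then an element f of M[X, 1/Θ] = (R[X][1/Θ])^d with D(f) ∈ M[X] = R[X]^d lies in
R[X]^d. (The published claim is made for residues whose characteristic roots all lie in the image of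
a right inverse τ of the quotient map ℂ → ℂ/ℤ with τ(0) = 0, so that no root is a nonzero integer
and no two roots differ by a nonzero integer; this row assumes only that no nonzero integer is a
root, which is all the argument uses.) -/
theorem result
    (R : Type u) [CommRing R] [IsDomain R] [Algebra ℂ R] [Algebra.FiniteType ℂ R]
    [Algebra.Smooth ℂ R] (d r : ℕ) (θ : Fin r → R)
    (hθ : ∀ i k, i ≠ k → IsUnit (θ i - θ k))
    (Θ : R[X]) (hΘ : Θ = ∏ i, (X - Polynomial.C (θ i)))
    (D₀ : (Fin d → R[X]) →+ (Fin d → R[X]))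
    (hD₀ : ∀ (p : R[X]) (v : Fin d → R[X]),
      D₀ (p • v) = (Θ * Polynomial.derivative p) • v + p • D₀ v)
    (D : (Fin d → Localization.Away Θ) →+ (Fin d → Localization.Away Θ))
    (hD : ∀ (p : R[X]) (w : Fin d → Localization.Away Θ),
      D (p • w) = (Θ * Polynomial.derivative p) • w + p • D w)
    (hDD₀ : ∀ v : Fin d → R[X],
      D (fun j => algebraMap R[X] (Localization.Away Θ) (v j)) =
        fun j => algebraMap R[X] (Localization.Away Θ) (D₀ v j))
    (Res : Fin r → ((Fin d → R) →ₗ[R] (Fin d → R)))
    (hRes : ∀ (i : Fin r) (m : Fin d → R) (j : Fin d),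
      (D₀ (fun j => Polynomial.C (m j)) j).eval (θ i) =
        (∏ k ∈ Finset.univ.erase i, (θ i - θ k)) * Res i m j)
    (hχ : ∀ i : Fin r, ∃ χ : ℂ[X], (Res i).charpoly = χ.map (algebraMap ℂ R) ∧
      ∀ n : ℤ, n ≠ 0 → χ.eval (n : ℂ) ≠ 0)
    (f : Fin d → Localization.Away Θ)
    (hf : ∃ v : Fin d → R[X], D f = fun j => algebraMap R[X] (Localization.Away Θ) (v j)) :
    ∃ v : Fin d → R[X], f = fun j => algebraMap R[X] (Localization.Away Θ) (v j) := by
  classical
  obtain ⟨g, hg⟩ := hf
  have hu : IsUnit (algebraMap R[X] (Localization.Away Θ) Θ) := IsLocalization.Away.algebraMap_isUnit Θ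
  have hmonic : Θ.Monic := hΘ ▸ monic_prod_of_monic _ _ fun i _ => monic_X_sub_C _
  have hinj : Function.Injective (algebraMap R[X] (Localization.Away Θ)) :=
    IsLocalization.injective _ (powers_le_nonZeroDivisors_of_noZeroDivisors hmonic.ne_zero)
  obtain ⟨⟨_, N, rfl⟩, hN⟩ := IsLocalization.exist_integer_multiples_of_finite (Submonoid.powers Θ) f
  choose u hu' using hN
  replace hu' : Θ ^ N • f = fun j => algebraMap R[X] (Localization.Away Θ) (u j) := funext fun j => (hu' j).symm
  induction N generalizing u with
  | zero => exact ⟨u, by rwa [pow_zero, one_smul] at hu'⟩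
  | succ N ih =>
    have h1 := apply_fraction hu D₀ D hD hDD₀ (N + 1) f u hu'
    have h2 : ∀ j, D₀ u j - ((N + 1 : ℕ) : R[X]) * derivative Θ * u j = Θ ^ (N + 1) * g j := fun j => by
      apply hinj
      rw [map_mul]
      have := congrFun h1 j
      rw [hg, Pi.smul_apply, Algebra.smul_def] at this
      exact this.symm
    have hz : ∀ i j, (u j).eval (θ i) = 0 := by
      intro i
      obtain ⟨χ, hχ1, hχ2⟩ := hχ i
      have hb := bijective_res_sub (Res i) χ hχ1 (N + 1) (by
        exact_mod_cast hχ2 ((N + 1 : ℕ) : ℤ) (by omega))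
      have hP : IsUnit (∏ k ∈ Finset.univ.erase i, (θ i - θ k)) :=
        (IsUnit.prod_iff (s := Finset.univ.erase i) (f := fun k => θ i - θ k)).2 fun k hk =>
          hθ i k (Finset.ne_of_mem_erase hk).symm
      have hm : (fun j => (u j).eval (θ i)) = 0 := hb.1 (by
        funext j
        have h3 := congrArg (Polynomial.eval (θ i)) (h2 j)
        rw [eval_sub, eval_mul, eval_mul, eval_natCast, eval_apply θ D₀ (hΘ ▸ hD₀) i u j, hRes, eval_mul, eval_pow,
          hΘ, eval_derivative_prod, eval_prod, Finset.prod_eq_zero (Finset.mem_univ i) (by simp),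
          zero_pow (Nat.succ_ne_zero N), zero_mul] at h3
        apply hP.mul_left_cancel
        simp only [Pi.sub_apply, Pi.smul_apply, smul_eq_mul, map_zero, Pi.zero_apply, mul_zero, sub_zero]
        linear_combination h3)
      exact fun j => congrFun hm j
    choose u' hu'' using fun j => hΘ ▸ dvd_of_forall_eval_eq_zero θ hθ (u j) (fun i => hz i j)
    refine ih u' (funext fun j => hu.mul_left_cancel ?_)
    have h4 := congrFun hu' j
    rw [Pi.smul_apply, Algebra.smul_def, hu'' j, map_mul, map_pow] at h4
    rw [Pi.smul_apply, Algebra.smul_def, map_pow, ← h4]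
    ring

end Groth.Agent.S15503
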