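import Groth.Statements.S15504
import Mathlib.RingTheory.OrderOfVanishing.Basic
import Mathlib.RingTheory.KrullDimension.PID
import Mathlib.RingTheory.Finiteness.Cardinality
import Mathlib.RingTheory.Artinian.Module
import Mathlib.RingTheory.WittVector.DiscreteValuationRing

set_option autoImplicit false
universe u v
open FrobAlg

namespace Groth.Agent.S15504

/-- Let k be an algebraically closed field of characteristic p, W = W(k) the ring of p-typical Witt
vectors, M a finitely generated torsion W-module and φ a p⁻¹-linear endomorphism of M (additive,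
with φ(a·m) = σ⁻¹(a)·φ(m) for the Frobenius automorphism σ of W). Then M = M_s ⊕ M_n for two
φ-stable submodules, with φ bijective on M_s and nilpotent on M_n (one iterate of φ kills M_n). -/
theorem result (p : ℕ) [Fact p.Prime]
    (k : Type u) [Field k] [CharP k p] [IsAlgClosed k]
    (M : Type v) [AddCommGroup M] [Module (WittVector p k) M] [Module.Finite (WittVector p k) M]
    (hM : Module.IsTorsion (WittVector p k) M)
    (φ : M →ₛₗ[((WittVector.frobeniusEquiv p k).symm : WittVector p k →+* WittVector p k)] M) :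
    ∃ Ms Mn : Submodule (WittVector p k) M, IsCompl Ms Mn ∧
      Set.MapsTo φ Ms Ms ∧ Set.MapsTo φ Mn Mn ∧ Set.BijOn φ Ms Ms ∧
      ∃ r : ℕ, ∀ x ∈ Mn, (⇑φ)^[r] x = 0 := by

  classical
  set W := WittVector p k
  -- `M` is artinian
  haveI : IsArtinian W M := by
    obtain ⟨n, f, hf⟩ := Module.Finite.exists_fin' W M
    choose s hs using fun j : Fin n => @hM (f (Pi.single j 1))
    let t : W := ∏ j, (s j : W)
    have ht : t ∈ nonZeroDivisors W := Submonoid.prod_mem _ fun j _ => (s j).2
    have hle : ∀ j, Ideal.span {t} ≤ LinearMap.ker (LinearMap.toSpanSingleton W M (f (Pi.single j 1))) := by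
      intro j
      rw [Ideal.span_le, Set.singleton_subset_iff, SetLike.mem_coe, LinearMap.mem_ker,
        LinearMap.toSpanSingleton_apply]
      obtain ⟨c, hc⟩ := Finset.dvd_prod_of_mem (fun i => (s i : W)) (Finset.mem_univ j)
      show t • _ = _
      rw [show t = c * (s j : W) from hc.trans (mul_comm _ _), mul_smul]
      exact (congrArg (c • ·) (hs j)).trans (smul_zero c)
    haveI : IsArtinian W (W ⧸ Ideal.span {t}) :=
      (isFiniteLength_iff_isNoetherian_isArtinian.mp (isFiniteLength_quotient_span_singleton W ht)).2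
    let g : (Fin n → W ⧸ Ideal.span {t}) →ₗ[W] M :=
      ∑ j, (Submodule.liftQ _ _ (hle j)).comp (LinearMap.proj j)
    refine isArtinian_of_surjective (Fin n → W ⧸ Ideal.span {t}) g fun m => ?_
    obtain ⟨x, rfl⟩ := hf m
    refine ⟨fun j => Submodule.Quotient.mk (x j), ?_⟩
    conv_rhs => rw [pi_eq_sum_univ' x, map_sum]
    simp [g, LinearMap.sum_apply]
    exact Finset.sum_congr rfl fun _ _ => rfl
  haveI : IsNoetherian W M := inferInstance
  -- iterates
  have hadd : ∀ (n : ℕ) (x y : M), (⇑φ)^[n] (x + y) = (⇑φ)^[n] x + (⇑φ)^[n] y := by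
    intro n
    induction n with
    | zero => simp
    | succ n ih => intro x y; simp only [Function.iterate_succ_apply', ih, map_add]
  have hzero : ∀ n : ℕ, (⇑φ)^[n] (0 : M) = 0 := fun n =>
    Function.iterate_fixed (map_zero φ) n
  let σ : W ≃+* W := (WittVector.frobeniusEquiv p k).symm
  have hsmul : ∀ (n : ℕ) (a : W) (x : M), (⇑φ)^[n] (a • x) = (⇑σ)^[n] a • (⇑φ)^[n] x := by
    intro n
    induction n with
    | zero => simp
    | succ n ih =>
      intro a x
      simp only [Function.iterate_succ_apply', ih]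
      exact LinearMap.map_smulₛₗ φ _ _
  let Im : ℕ → Submodule W M := fun n =>
    { carrier := Set.range (⇑φ)^[n]
      zero_mem' := ⟨0, hzero n⟩
      add_mem' := by rintro _ _ ⟨x, rfl⟩ ⟨y, rfl⟩; exact ⟨x + y, hadd n x y⟩
      smul_mem' := by
        rintro a _ ⟨x, rfl⟩
        obtain ⟨b, hb⟩ := σ.surjective.iterate n a
        exact ⟨b • x, by rw [hsmul, hb]⟩ }
  let Ke : ℕ → Submodule W M := fun n =>
    { carrier := {x | (⇑φ)^[n] x = 0}
      zero_mem' := hzero n
      add_mem' := fun {x y} hx hy => by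
        show (⇑φ)^[n] (x + y) = 0
        rw [hadd, hx, hy, add_zero]
      smul_mem' := fun a x hx => by
        show (⇑φ)^[n] (a • x) = 0
        rw [hsmul, hx, smul_zero] }
  have hImanti : Antitone Im := antitone_nat_of_succ_le fun n => by
    rintro _ ⟨x, rfl⟩
    exact ⟨φ x, (Function.iterate_succ_apply _ n x).symm⟩
  have hKemono : Monotone Ke := monotone_nat_of_le_succ fun n x hx => by
    show (⇑φ)^[n + 1] x = 0
    rw [Function.iterate_succ_apply', hx, map_zero]
  obtain ⟨a, ha⟩ := IsArtinian.monotone_stabilizes (R := W) (M := M) ⟨fun n => OrderDual.toDual (Im n), hImanti⟩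
  obtain ⟨b, hb⟩ := monotone_stabilizes_iff_noetherian.mpr inferInstance (⟨Ke, hKemono⟩ : ℕ →o Submodule W M)
  let r := a + b + 1
  have hIm : ∀ n, r ≤ n → Im n = Im r := fun n hn =>
    (OrderDual.toDual.injective (ha n (by omega))).symm.trans (OrderDual.toDual.injective (ha r (by omega)))
  have hKe : ∀ n, r ≤ n → Ke n = Ke r := fun n hn =>
    (hb n (by omega)).symm.trans (hb r (by omega))
  have hdisj : ∀ x ∈ Im r, (⇑φ)^[r] x = 0 → x = 0 := by
    rintro _ ⟨y, rfl⟩ hy
    have h2 : y ∈ Ke (r + r) := by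
      show (⇑φ)^[r + r] y = 0
      rw [Function.iterate_add_apply]
      exact hy
    rw [hKe _ (Nat.le_add_right r r)] at h2
    exact h2
  have hcompl : IsCompl (Im r) (Ke r) := by
    constructor
    · rw [Submodule.disjoint_def]
      exact hdisj
    · rw [codisjoint_iff, eq_top_iff]
      intro x _
      have hx : (⇑φ)^[r] x ∈ Im (r + r) := by
        rw [hIm _ (Nat.le_add_right r r)]
        exact ⟨x, rfl⟩
      obtain ⟨y, hy⟩ := hx
      refine Submodule.mem_sup.mpr ⟨(⇑φ)^[r] y, ⟨y, rfl⟩, x - (⇑φ)^[r] y, ?_, by abel⟩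
      show (⇑φ)^[r] (x - (⇑φ)^[r] y) = 0
      have h' := hadd r (x - (⇑φ)^[r] y) ((⇑φ)^[r] y)
      rw [sub_add_cancel, ← Function.iterate_add_apply, hy] at h'
      exact add_eq_right.mp h'.symm
  refine ⟨Im r, Ke r, hcompl, ?_, ?_, ⟨?_, ?_, ?_⟩, r, fun x hx => hx⟩
  · rintro _ ⟨y, rfl⟩
    exact ⟨φ y, ((Function.iterate_succ_apply _ r y).symm.trans (Function.iterate_succ_apply' _ r y))⟩
  · intro x hx
    show (⇑φ)^[r] (φ x) = 0
    rw [← Function.iterate_succ_apply, Function.iterate_succ_apply', hx, map_zero]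
  · rintro _ ⟨y, rfl⟩
    exact ⟨φ y, ((Function.iterate_succ_apply _ r y).symm.trans (Function.iterate_succ_apply' _ r y))⟩
  · intro x hx y hy hxy
    refine sub_eq_zero.mp (hdisj _ (sub_mem hx hy) ?_)
    have h0 : φ (x - y) = 0 := by rw [map_sub, hxy, sub_self]
    obtain ⟨q, hq⟩ : ∃ q, r = q + 1 := ⟨a + b, rfl⟩
    rw [hq, Function.iterate_succ_apply, h0, hzero]
  · intro x hx
    have hx' : x ∈ Im (r + 1) := by rw [hIm _ (Nat.le_succ r)]; exact hx
    obtain ⟨y, hy⟩ := hx'
    exact ⟨(⇑φ)^[r] y, ⟨y, rfl⟩, by rw [← hy]; exact (Function.iterate_succ_apply' _ r y).symm⟩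


end Groth.Agent.S15504
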