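import Groth.Statements.S15505
import Mathlib.FieldTheory.Perfect
import Mathlib.Algebra.CharP.Subring
import Mathlib.FieldTheory.Finite.Basic
import Mathlib.RingTheory.IntegralDomain

set_option autoImplicit false
universe u v w
open FrobAlg

namespace Groth.Agent.S15505

/-- Let k be an algebraically closed field of characteristic p, V a k-vector space, φ a p⁻¹-linear
endomorphism of V (additive, φ(a·v) = a^{1/p}·φ(v)) and b a finite basis of V consisting of vectors
fixed by φ. Then the vectors fixed by φ are exactly the combinations of the b_i with coefficients in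
the prime field: v is fixed if and only if v = Σ c_i·b_i with all c_i in the image of ℤ/p. -/
theorem result (p : ℕ) [Fact p.Prime]
    (k : Type u) [Field k] [CharP k p] [IsAlgClosed k]
    (V : Type v) [AddCommGroup V] [Module k V]
    (φ : V →ₛₗ[((frobeniusEquiv k p).symm : k →+* k)] V)
    {ι : Type w} [Fintype ι] (b : Module.Basis ι k V) (hb : ∀ i, φ (b i) = b i) (v : V) :
    φ v = v ↔ ∃ c : ι → ZMod p, v = ∑ i, (ZMod.castHom (dvd_refl p) k (c i)) • b i := by

  have hc : ∀ c : k, (frobeniusEquiv k p).symm c = c ↔
      ∃ d : ZMod p, ZMod.castHom (dvd_refl p) k d = c := by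
    intro c
    rw [RingEquiv.symm_apply_eq, frobeniusEquiv_apply, frobenius_def]
    constructor
    · intro h
      have hm : c ∈ (⊥ : Subfield k) := (Subfield.mem_bot_iff_pow_eq_self k p).mpr h.symm
      rw [← ZMod.fieldRange_castHom_eq_bot p] at hm
      exact hm
    · rintro ⟨d, rfl⟩
      rw [← map_pow, ZMod.pow_card]
  constructor
  · intro hv
    have hfix : ∀ i, (frobeniusEquiv k p).symm (b.repr v i) = b.repr v i := by
      have h1 : φ v = ∑ i, (frobeniusEquiv k p).symm (b.repr v i) • b i := by
        conv_lhs => rw [← b.sum_repr v]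
        rw [map_sum]
        exact Finset.sum_congr rfl fun i _ => by rw [LinearMap.map_smulₛₗ, hb]; rfl
      intro i
      have h2 := congrArg (fun w => b.repr w i) (h1.symm.trans hv)
      rwa [b.repr_sum_self] at h2
    choose d hd using fun i => (hc _).mp (hfix i)
    exact ⟨d, b.sum_repr v |>.symm.trans (Finset.sum_congr rfl fun i _ => by rw [hd])⟩
  · rintro ⟨c, rfl⟩
    rw [map_sum]
    refine Finset.sum_congr rfl fun i _ => ?_
    rw [LinearMap.map_smulₛₗ, hb]
    congr 1
    exact (hc _).mpr ⟨c i, rfl⟩


end Groth.Agent.S15505
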