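import Groth.Statements.S15506
import Mathlib.RingTheory.Unramified.Field

set_option autoImplicit false
universe u
open CategoryTheory AlgebraicGeometry
open EtBase

namespace Groth.Agent.S15506

/-- Let k be a field, K an algebraic closure of k (an algebraically closed field algebraic over k), Ω a
field containing K, and Z a scheme étale over Spec k. Composition with Spec Ω → Spec K is a
bijection from the k-morphisms Spec K → Z onto the k-morphisms Spec Ω → Z: two k-morphisms Spec K →
Z that agree on Spec Ω are equal, and every k-morphism Spec Ω → Z factors through Spec K. (The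
published statement is the case where k has characteristic zero with a chosen embedding of its
algebraic closure into the complex numbers, Ω = ℂ, and Z is the scheme of isomorphisms between two
K3 surfaces over k, known there to be étale over k; this row states the fact about an arbitrary
étale k-scheme that the argument establishes.) -/
theorem result
    (k K Ω : Type u) [Field k] [Field K] [Field Ω] [Algebra k K] [IsAlgClosed K] [Algebra.IsAlgebraic k K]
    [Algebra K Ω] [Algebra k Ω] [IsScalarTower k K Ω]
    (Z : Scheme.{u}) (f : Z ⟶ Spec (CommRingCat.of k)) [AlgebraicGeometry.Etale f] :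
    (∀ g₁ g₂ : Spec (CommRingCat.of K) ⟶ Z,
        g₁ ≫ f = Spec.map (CommRingCat.ofHom (algebraMap k K)) →
        g₂ ≫ f = Spec.map (CommRingCat.ofHom (algebraMap k K)) →
        Spec.map (CommRingCat.ofHom (algebraMap K Ω)) ≫ g₁ = Spec.map (CommRingCat.ofHom (algebraMap K Ω)) ≫ g₂ →
        g₁ = g₂) ∧
    (∀ h : Spec (CommRingCat.of Ω) ⟶ Z, h ≫ f = Spec.map (CommRingCat.ofHom (algebraMap k Ω)) →
        ∃ g : Spec (CommRingCat.of K) ⟶ Z, g ≫ f = Spec.map (CommRingCat.ofHom (algebraMap k K)) ∧
          Spec.map (CommRingCat.ofHom (algebraMap K Ω)) ≫ g = h) := by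
  set ι : CommRingCat.of K ⟶ CommRingCat.of Ω := CommRingCat.ofHom (algebraMap K Ω)
  have hιinj : Function.Injective (algebraMap K Ω) := (algebraMap K Ω).injective
  refine ⟨fun g₁ g₂ _ _ heq => ?_, fun h hh => ?_⟩
  · have e : ∀ g : Spec (CommRingCat.of K) ⟶ Z, Spec.map ι ≫ g =
        Spec.map ((Scheme.SpecToEquivOfField K Z g).2 ≫ ι) ≫ Z.fromSpecResidueField (Scheme.SpecToEquivOfField K Z g).1 := by
      intro g
      conv_lhs => rw [← (Scheme.SpecToEquivOfField K Z).symm_apply_apply g]
      show Spec.map ι ≫ Spec.map _ ≫ _ = _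
      rw [← Category.assoc, ← Spec.map_comp]
    rw [e, e] at heq
    have h2 := (Scheme.SpecToEquivOfField Ω Z).symm.injective
      (a₁ := ⟨(Scheme.SpecToEquivOfField K Z g₁).1, (Scheme.SpecToEquivOfField K Z g₁).2 ≫ ι⟩)
      (a₂ := ⟨(Scheme.SpecToEquivOfField K Z g₂).1, (Scheme.SpecToEquivOfField K Z g₂).2 ≫ ι⟩) heq
    obtain ⟨ex, h3⟩ := Scheme.SpecToEquivOfField_eq_iff.mp h2
    apply (Scheme.SpecToEquivOfField K Z).injective
    refine Scheme.SpecToEquivOfField_eq_iff.mpr ⟨ex, ?_⟩
    ext a
    exact hιinj (ConcreteCategory.congr_hom h3 a)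
  · obtain ⟨U, hU, hxU, -⟩ := exists_isAffineOpen_mem_and_subset
      (show h.base (IsLocalRing.closedPoint Ω) ∈ (⊤ : Z.Opens) from trivial)
    have hrange : Set.range h.base ⊆ Set.range hU.fromSpec.base := by
      rintro _ ⟨q, rfl⟩
      rw [hU.range_fromSpec, Subsingleton.elim q (IsLocalRing.closedPoint Ω)]
      exact hxU
    let l := IsOpenImmersion.lift hU.fromSpec h hrange
    obtain ⟨χ, hχ⟩ := Spec.map_surjective l
    obtain ⟨ψ, hψ⟩ := Spec.map_surjective (hU.fromSpec ≫ f)
    have het : ψ.hom.Etale := (HasRingHomProperty.Spec_iff (P := @AlgebraicGeometry.Etale)).mp (by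
      rw [hψ]; infer_instance)
    have hcomp : ψ ≫ χ = CommRingCat.ofHom (algebraMap k Ω) := by
      apply Spec.map_injective
      rw [Spec.map_comp, hψ, hχ, ← Category.assoc, IsOpenImmersion.lift_fac, hh]
    letI : Algebra k Γ(Z, U) := ψ.hom.toAlgebra
    haveI : Algebra.Etale k Γ(Z, U) := het
    haveI : Module.Finite k Γ(Z, U) := Algebra.FormallyUnramified.finite_of_free k _
    let χa : Γ(Z, U) →ₐ[k] Ω :=
      { toRingHom := χ.hom, commutes' := fun c => ConcreteCategory.congr_hom hcomp c }
    have hmem : ∀ a, ∃ c : K, algebraMap K Ω c = χ.hom a := by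
      intro a
      have hi : IsIntegral K (χa a) := ((IsIntegral.of_finite k a).map χa).tower_top
      exact minpoly.mem_range_of_degree_eq_one K _
        (IsAlgClosed.degree_eq_one_of_irreducible K (minpoly.irreducible hi))
    choose ρ hρ using hmem
    let ρ' : Γ(Z, U) →+* K :=
      { toFun := ρ
        map_one' := hιinj (by simp [hρ])
        map_mul' := fun a b => hιinj (by simp [hρ])
        map_zero' := hιinj (by simp [hρ])
        map_add' := fun a b => hιinj (by simp [hρ]) }
    refine ⟨Spec.map (CommRingCat.ofHom ρ') ≫ hU.fromSpec, ?_, ?_⟩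
    · rw [Category.assoc, ← hψ, ← Spec.map_comp]
      congr 1
      ext c
      apply hιinj
      show algebraMap K Ω (ρ (ψ.hom c)) = algebraMap K Ω (algebraMap k K c)
      rw [hρ, ← IsScalarTower.algebraMap_apply]
      exact ConcreteCategory.congr_hom hcomp c
    · rw [← Category.assoc, ← Spec.map_comp, show CommRingCat.ofHom ρ' ≫ ι = χ from CommRingCat.hom_ext (RingHom.ext hρ),
        hχ, IsOpenImmersion.lift_fac]

end Groth.Agent.S15506
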