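import Groth.Statements.S16369
import Groth.Agent.Lib.CohFound.ProperFinite
import Groth.Agent.Lib.ModM1.Coh
import Mathlib.FieldTheory.Perfect
import Mathlib.LinearAlgebra.FiniteDimensional.Defs

set_option backward.isDefEq.respectTransparency.types false

set_option autoImplicit false
universe u
open CategoryTheory AlgebraicGeometry Opposite
open FrobSch

namespace Groth.Agent.S16369

/-- An injective semilinear endomorphism of a finite-dimensional space is surjective. -/
theorem semilinear_surjective {K V : Type*} [Field K] [AddCommGroup V] [Module K V] [Module.Finite K V]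
    (σ : K → K) (hσ : Function.Surjective σ) (hσ0 : ∀ c, σ c = 0 → c = 0) (T : V →+ V)
    (hT : ∀ c v, T (c • v) = σ c • T v) (hinj : Function.Injective T) : Function.Surjective T := by
  classical
  let b := Module.finBasis K V
  have hli : LinearIndependent K fun i => T (b i) := by
    rw [Fintype.linearIndependent_iff]
    intro g hg i
    choose d hd using fun i => hσ (g i)
    have h0 : T (∑ i, d i • b i) = 0 := by
      rw [map_sum, ← hg]
      exact Finset.sum_congr rfl fun i _ => by rw [hT, hd]
    have h1 := Fintype.linearIndependent_iff.1 b.linearIndependent d (hinj (h0.trans (map_zero T).symm)) i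
    rw [← hd i, h1]
    by_contra hne
    obtain ⟨e, he⟩ := hσ 0
    exact hne (hσ0 e he ▸ he)
  have hspan : Submodule.span K (Set.range fun i => T (b i)) = ⊤ :=
    hli.span_eq_top_of_card_eq_finrank' (by simp)
  intro v
  obtain ⟨g, rfl⟩ := (Submodule.mem_span_range_iff_exists_fun K).1 (hspan ▸ Submodule.mem_top : v ∈ _)
  choose d hd using fun i => hσ (g i)
  exact ⟨∑ i, d i • b i, by rw [map_sum]; exact Finset.sum_congr rfl fun i _ => by rw [hT, hd]⟩

/-- (i) ⇒ (ii): let k be a perfect field of characteristic p and X a scheme proper over k. Let φ be the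
p-th power map on the sheaf of additive groups underlying O_X and B its cokernel in abelian sheaves
(for X smooth over k this is the sheaf B¹ of locally exact one-forms, pushed down along Frobenius).
If X is Frobenius split — φ admits a retraction s, an additive endomorphism of O_X with s(t^p) = t
and s(a^p·b) = a·s(b) on every open — then H^i(X, B) = 0 for every i. (The source states this for X
normal; normality is not used for this implication, and a split X is reduced anyway.) -/
theorem result
    (p : ℕ) [Fact p.Prime] (k : Type u) [Field k] [CharP k p] [PerfectField k]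
    (X : Scheme.{u}) [X.Over (Spec (CommRingCat.of k))] [IsProper (X ↘ Spec (CommRingCat.of k))]
    (φ : Coh.toAb (Coh.structureModule X) ⟶ Coh.toAb (Coh.structureModule X))
    (hφ : ∀ (U : X.Opens) (t : Γ(X, U)), φ.hom.app (op U) t = t ^ p)
    (s : Coh.toAb (Coh.structureModule X) ⟶ Coh.toAb (Coh.structureModule X))
    (hs : φ ≫ s = 𝟙 _)
    (hlin : ∀ (U : X.Opens) (a b : Γ(X, U)),
      s.hom.app (op U) (a ^ p * b) = a * @id Γ(X, U) (s.hom.app (op U) b))
    (i : ℕ) : Subsingleton (Sheaf.H (Limits.cokernel φ) i) := by
  let r : k → Coh.Γtop X := Coh.toGlobal (X ↘ Spec (CommRingCat.of k))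
  have hcomm : ∀ c : k, Coh.smulAb (Coh.structureModule X) (r c) ≫ φ =
      φ ≫ Coh.smulAb (Coh.structureModule X) (r (c ^ p)) := fun c => by
    ext U t
    show φ.hom.app U ((Coh.smulAb (Coh.structureModule X) (r c)).hom.app U t) =
      (Coh.smulAb (Coh.structureModule X) (r (c ^ p))).hom.app U (φ.hom.app U t)
    rw [Coh.smulAb_app, Coh.smulAb_app]
    refine ((hφ U.unop _).trans ?_)
    rw [show φ.hom.app U t = (show Γ(X, U.unop) from t) ^ p from hφ U.unop t]
    show ((show Γ(X, U.unop) from Coh.resTop X U (r c)) * (show Γ(X, U.unop) from t)) ^ p =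
      (show Γ(X, U.unop) from Coh.resTop X U (r (c ^ p))) * (show Γ(X, U.unop) from t) ^ p
    rw [mul_pow, show r (c ^ p) = r c ^ p from map_pow (Coh.toGlobal _) c p, map_pow]
    rfl
  haveI : Module.Finite k (Coh.HH X (Coh.structureModule X) i) :=
    Groth.Agent.CohFound.finite_HH_of_isProper (A := k) _ (Groth.Agent.M1.isCoh_structureModule X) i
  let T : Coh.HH X (Coh.structureModule X) i →+ Coh.HH X (Coh.structureModule X) i := Sheaf.H.map φ i
  have hinj : Function.Injective T := fun a b h => by
    have := congrArg (Sheaf.H.map s i) h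
    rwa [← Sheaf.H.map_comp_apply, ← Sheaf.H.map_comp_apply, hs, Sheaf.H.map_id_apply, Sheaf.H.map_id_apply] at this
  haveI : ExpChar k p := ExpChar.prime Fact.out
  haveI : PerfectRing k p := PerfectField.toPerfectRing p
  have hsurj : Function.Surjective T := semilinear_surjective (fun c : k => c ^ p)
    (surjective_frobenius k p) (fun c hc => eq_zero_of_pow_eq_zero hc) T (fun c v => by
      show Sheaf.H.map φ i (Sheaf.H.map (Coh.smulAb _ (r c)) i v) =
        Sheaf.H.map (Coh.smulAb _ (r (c ^ p))) i (Sheaf.H.map φ i v)
      rw [← Sheaf.H.map_comp_apply, ← Sheaf.H.map_comp_apply, hcomm]) hinj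
  let j : Limits.cokernel φ ⟶ Coh.toAb (Coh.structureModule X) :=
    Limits.cokernel.desc φ (𝟙 _ - s ≫ φ) (by rw [Preadditive.comp_sub, Category.comp_id, ← Category.assoc, hs, Category.id_comp, sub_self])
  have hj : j ≫ Limits.cokernel.π φ = 𝟙 _ := by
    rw [← cancel_epi (Limits.cokernel.π φ), Limits.cokernel.π_desc_assoc, Preadditive.sub_comp, Category.assoc,
      Limits.cokernel.condition, Limits.comp_zero, sub_zero, Category.id_comp, Category.comp_id]
  refine subsingleton_of_forall_eq 0 fun x => ?_
  obtain ⟨y, hy⟩ := hsurj (Sheaf.H.map j i x)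
  rw [← Sheaf.H.map_id_apply (F := Limits.cokernel φ) x, ← hj, Sheaf.H.map_comp_apply, ← hy]
  show Sheaf.H.map _ i (Sheaf.H.map φ i y) = 0
  rw [← Sheaf.H.map_comp_apply, Limits.cokernel.condition]
  show ((Sheaf.functorH _ i).map (0 : _ ⟶ Limits.cokernel φ)).hom y = 0
  rw [Functor.map_zero]
  rfl

end Groth.Agent.S16369
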