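import Groth.Statements.S15507
import Groth.Agent.Lib.FrobSplit12.Main
import Groth.Agent.S16369
import Groth.Agent.S11924
import Groth.Agent.S1752
import Groth.Agent.S11318
import Groth.Agent.Lib.SmDim19.RelDimVariety
import Groth.Agent.Lib.FundIso12.SmoothProj
import Groth.Prelude.Def_Frob
import Groth.Prelude.Def_ClSub2
-- import your own Groth.Agent.* helpers here

set_option autoImplicit false
set_option maxHeartbeats 1200000
set_option backward.isDefEq.respectTransparency false
set_option backward.isDefEq.respectTransparency.types false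
universe u
open CategoryTheory AlgebraicGeometry Opposite
open FrobSch

namespace Groth.Agent.S15507

/-- (2) ⇔ (3): let k be a perfect field of characteristic p > 3 and X a Calabi–Yau threefold over k — an
integral scheme, smooth and projective over k (closed in some Pⁿ_k), of dimension 3, with H⁰(X, O_X)
= k, trivial canonical sheaf (O_X is a third exterior power of Ω_{X/k}) and H¹(X, O_X) = H²(X, O_X)
= 0. Let φ be the p-th power map on the sheaf of additive groups underlying O_X (the comorphism of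
the absolute Frobenius F). Then X is Frobenius split, i.e. O_X → F_*O_X has an O_X-linear retraction
(an additive sheaf endomorphism s of O_X with s(t^p) = t and s(a^p·b) = a·s(b) on every open), if
and only if the endomorphism of H³(X, O_X) induced by φ is bijective. (Clause (1) of the published
statement, that X has height one, is not stated here.) -/
theorem result
    (p : ℕ) [Fact p.Prime] (hp : 3 < p) (k : Type u) [Field k] [CharP k p] [PerfectField k]
    (X : Scheme.{u}) [X.Over (Spec (CommRingCat.of k))] [AlgebraicGeometry.IsIntegral X]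
    [AlgebraicGeometry.Smooth (X ↘ Spec (CommRingCat.of k))]
    (hproj : ∃ (n : ℕ) (ι : X ⟶ CohB1.ProjSpace n k), AlgebraicGeometry.IsClosedImmersion ι ∧
      ι ≫ CohB1.ProjSpace.toSpec n k = X ↘ Spec (CommRingCat.of k))
    (hdim : topologicalKrullDim X = 3)
    (hω : ExtPow.IsExtPow 3 (Omega.sheaf (X ↘ Spec (CommRingCat.of k))) (Coh.structureModule X))
    (h0 : Module.finrank k (Coh.HH X (Coh.structureModule X) 0) = 1)
    (h1 : Subsingleton (Coh.HH X (Coh.structureModule X) 1))
    (h2 : Subsingleton (Coh.HH X (Coh.structureModule X) 2))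
    (φ : Coh.toAb (Coh.structureModule X) ⟶ Coh.toAb (Coh.structureModule X))
    (hφ : ∀ (U : X.Opens) (t : Γ(X, U)), φ.hom.app (op U) t = t ^ p) :
    (∃ s : Coh.toAb (Coh.structureModule X) ⟶ Coh.toAb (Coh.structureModule X),
        φ ≫ s = 𝟙 _ ∧ ∀ (U : X.Opens) (a b : Γ(X, U)),
          s.hom.app (op U) (a ^ p * b) = a * @id Γ(X, U) (s.hom.app (op U) b)) ↔
      Function.Bijective (Sheaf.H.map φ 3) := by
  have hp0 : (p : Γ(X, ⊤)) = 0 := FrobSplit12.natCast_eq_zero p k
  haveI : FrobSch.IsCharP X p := ⟨hp0⟩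
  haveI : ExpChar k p := ExpChar.prime Fact.out
  haveI : PerfectRing k p := PerfectField.toPerfectRing p
  haveI : IsProper (X ↘ Spec (CommRingCat.of k)) := by
    obtain ⟨N, ι, hι, hιk⟩ := hproj
    exact @FundIso12.isProper_of_proj k _ N X _ ι hι hιk
  let r : k → Γ(X, ⊤) := Coh.toGlobal (X ↘ Spec (CommRingCat.of k))
  let T : Coh.HH X (Coh.structureModule X) 3 →+ Coh.HH X (Coh.structureModule X) 3 := Sheaf.H.map φ 3
  have hT : ∀ (c : k) v, T (c • v) = (c ^ p) • T v := fun c v => by
    show Sheaf.H.map φ 3 (Sheaf.H.map (Coh.smulAb _ (r c)) 3 v) =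
      Sheaf.H.map (Coh.smulAb _ (r (c ^ p))) 3 (Sheaf.H.map φ 3 v)
    rw [← Sheaf.H.map_comp_apply, ← Sheaf.H.map_comp_apply]
    refine congrArg (fun f => Sheaf.H.map f 3 v) ?_
    apply CategoryTheory.Sheaf.hom_ext
    refine NatTrans.ext (funext fun V => ConcreteCategory.hom_ext _ _ fun (a : Γ(X, V.unop)) => ?_)
    show φ.hom.app V ((M1.ores (le_top : V.unop ≤ ⊤) (r c) * a : Γ(X, V.unop))) =
      @HMul.hMul Γ(X, V.unop) Γ(X, V.unop) Γ(X, V.unop) _ (M1.ores (le_top : V.unop ≤ ⊤) (r (c ^ p)))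
        (φ.hom.app V a)
    refine (hφ V.unop _).trans ?_
    rw [mul_pow, show r (c ^ p) = r c ^ p from map_pow (Coh.toGlobal _) c p, map_pow]
    exact congrArg (_ * ·) (hφ V.unop a).symm
  constructor
  · rintro ⟨s, hs, -⟩
    haveI : Module.Finite k (Coh.HH X (Coh.structureModule X) 3) := by
      haveI : IsLocallyNoetherian X := LocallyOfFiniteType.isLocallyNoetherian (X ↘ Spec (CommRingCat.of k))
      exact CohFound.finite_HH_of_isProper (A := k) _ (M1.isCoh_structureModule X) 3
    have hinj : Function.Injective T := fun a b h => by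
      have := congrArg (Sheaf.H.map s 3) h
      rwa [← Sheaf.H.map_comp_apply, ← Sheaf.H.map_comp_apply, hs, Sheaf.H.map_id_apply,
        Sheaf.H.map_id_apply] at this
    exact ⟨hinj, S16369.semilinear_surjective (fun c : k => c ^ p) (surjective_frobenius k p)
      (fun c hc => eq_zero_of_pow_eq_zero hc) T hT hinj⟩
  intro hbij
  -- the structure sheaf is dualizing
  obtain ⟨N, ι, hι, hιk⟩ := hproj
  haveI := hι
  haveI := SmDim19.smoothOfRelativeDimension_of_smooth (X ↘ Spec (CommRingCat.of k)) 3 hdim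
  haveI : IsLocallyNoetherian X := LocallyOfFiniteType.isLocallyNoetherian (X ↘ Spec (CommRingCat.of k))
  obtain ⟨t₁, ht₁⟩ := S11924.result k N 3 X ι hιk (Coh.structureModule X) hω
  obtain ⟨ω₀, t₀, hω₀, ht₀⟩ := S1752.result k X 3 hdim
  obtain ⟨θ, hθ, htθ, -⟩ := S11318.result k X 3 hdim (Coh.structureModule X) ω₀ (M1.isCoh_structureModule X) hω₀
    t₁ t₀ ht₁ fun F hF => ht₀ F hF.1
  haveI := hθ
  -- the form on the cohomology of the Frobenius image
  let O₁ := (Scheme.Modules.pushforward (FrobSch.frob X p)).obj (Coh.structureModule X)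
  haveI : IsAffineHom (FrobSch.frob X p) := ⟨fun U hU => by rw [FrobSch.frob_preimage]; exact hU⟩
  have hO₁ : Coh.IsQCoh O₁ := M1.isQCoh_push _ (M1.isCoh_structureModule X).1
  let e : Coh.toAb O₁ ⟶ Coh.toAb (Coh.structureModule X) :=
    ⟨{ app := fun V => AddCommGrpCat.ofHom (AddMonoidHom.mk' (fun a : Γ(X, V.unop) => a) fun a b => rfl)
       naturality := fun V W i => rfl }⟩
  let e' : Coh.toAb (Coh.structureModule X) ⟶ Coh.toAb O₁ :=
    ⟨{ app := fun V => AddCommGrpCat.ofHom (AddMonoidHom.mk' (fun a : Γ(X, V.unop) => a) fun a b => rfl)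
       naturality := fun V W i => rfl }⟩
  let Tinv := (Equiv.ofBijective T hbij).symm
  have hTinv : ∀ v, Sheaf.H.map φ 3 (Tinv v) = v := (Equiv.ofBijective T hbij).apply_symm_apply
  have he : ∀ (c : k) x, Sheaf.H.map e 3 ((c • x : Coh.HH X O₁ 3)) =
      (c ^ p) • (Sheaf.H.map e 3 x : Coh.HH X (Coh.structureModule X) 3) := fun c x => by
    show Sheaf.H.map e 3 (Sheaf.H.map (Coh.smulAb _ (r c)) 3 x) =
      Sheaf.H.map (Coh.smulAb _ (r (c ^ p))) 3 (Sheaf.H.map e 3 x)
    rw [← Sheaf.H.map_comp_apply, ← Sheaf.H.map_comp_apply]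
    refine congrArg (fun f => Sheaf.H.map f 3 x) ?_
    apply CategoryTheory.Sheaf.hom_ext
    refine NatTrans.ext (funext fun V => ConcreteCategory.hom_ext _ _ fun (a : Γ(X, V.unop)) => ?_)
    show @HMul.hMul Γ(X, V.unop) Γ(X, V.unop) Γ(X, V.unop) _
        ((FrobSch.frob X p).app V.unop (M1.ores (le_top : V.unop ≤ ⊤) (r c))) a =
      @HMul.hMul Γ(X, V.unop) Γ(X, V.unop) Γ(X, V.unop) _ (M1.ores (le_top : V.unop ≤ ⊤) (r (c ^ p))) a
    rw [FrobSch.frob_app, show r (c ^ p) = r c ^ p from map_pow (Coh.toGlobal _) c p, map_pow]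
  let ψ : Coh.HH X O₁ 3 →ₗ[k] k :=
    { toFun := fun x => t₁ (Tinv (Sheaf.H.map e 3 x))
      map_add' := fun x y => by
        rw [map_add, ← map_add t₁]
        refine congrArg t₁ (hbij.1 ?_)
        show Sheaf.H.map φ 3 _ = Sheaf.H.map φ 3 _
        rw [hTinv, map_add (Sheaf.H.map φ 3), hTinv, hTinv]
      map_smul' := fun c x => by
        rw [RingHom.id_apply, ← map_smul t₁]
        refine congrArg t₁ (hbij.1 ?_)
        refine Eq.trans ?_ (hT c _).symm
        show Sheaf.H.map φ 3 _ = (c ^ p) • Sheaf.H.map φ 3 _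
        rw [hTinv, hTinv, he] }
  have hψ : ∀ x, ψ x = t₁ (Tinv (Sheaf.H.map e 3 x)) := fun x => rfl
  obtain ⟨σ₀, hσ₀, -⟩ := ht₀ O₁ hO₁ ψ
  let σ : O₁ ⟶ Coh.structureModule X := σ₀ ≫ inv θ
  have hσ : ∀ x, ψ x = t₁ (Sheaf.H.map ((SheafOfModules.toSheaf X.ringCatSheaf).map σ) 3 x) := fun x => by
    rw [htθ, ← Sheaf.H.map_comp_apply, ← Functor.map_comp, hσ₀]
    simp [σ]
  let η := ClSub.unitToPush (FrobSch.frob X p)
  have hη : (SheafOfModules.toSheaf X.ringCatSheaf).map η ≫ e = φ := by
    apply CategoryTheory.Sheaf.hom_ext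
    refine NatTrans.ext (funext fun V => ConcreteCategory.hom_ext _ _ fun (a : Γ(X, V.unop)) => ?_)
    exact (FrobSch.frob_app X p V.unop a).trans (hφ V.unop a).symm
  have hid : η ≫ σ = 𝟙 (Coh.structureModule X) := by
    refine (ht₁ (Coh.structureModule X) (M1.isCoh_structureModule X) t₁).unique (fun x => ?_)
      (fun x => by simp)
    rw [Functor.map_comp, Sheaf.H.map_comp_apply, ← hσ]
    rw [hψ, ← Sheaf.H.map_comp_apply, hη]
    exact congrArg t₁ ((Equiv.ofBijective T hbij).symm_apply_apply x).symm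
  refine ⟨e' ≫ (SheafOfModules.toSheaf X.ringCatSheaf).map σ, ?_, fun U a b => ?_⟩
  · apply CategoryTheory.Sheaf.hom_ext
    refine NatTrans.ext (funext fun V => ConcreteCategory.hom_ext _ _ fun (a : Γ(X, V.unop)) => ?_)
    show σ.app V.unop (φ.hom.app V a) = a
    have h := congrArg (fun f : Coh.structureModule X ⟶ Coh.structureModule X => f.app V.unop a) hid
    refine Eq.trans ?_ h
    exact congrArg (σ.app V.unop) ((hφ V.unop a).trans (FrobSch.frob_app X p V.unop a).symm)
  · show σ.app U (show Γ(O₁, U) from (a ^ p * b : Γ(X, U))) = a * @id Γ(X, U) (σ.app U (show Γ(O₁, U) from b))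
    exact Scheme.Modules.Hom.app_smul σ (show Γ(X, U) from a) (show Γ(O₁, U) from b)

end Groth.Agent.S15507
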