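import Groth.Statements.S15510
import Groth.Agent.Lib.RegExt.AffineConst
import Groth.Agent.Lib.RegExt.Spread
-- import your own Groth.Agent.* helpers here

set_option autoImplicit false
set_option linter.style.haveILetI false
universe u
open CategoryTheory CategoryTheory.Limits MonoidalCategory CartesianMonoidalCategory MonObj AlgebraicGeometry
open AbVar

namespace Groth.Agent.S15510

/-- Let F be a field and A a principally polarized abelian variety over F: a commutative group scheme
over Spec F, smooth and proper with geometrically connected fibres of dimension g, given together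
with a commutative group scheme At, data φ presenting At as the dual of A for the fppf topology, and
a polarization lam : A ⟶ At which is an isomorphism. Let Q = F(t_1, …, t_n) be the field of rational
functions in n variables over F. Then base change from F to Q is a bijection from the F-rational
points of A onto the Q-valued points of A over Spec F: every Q-point of A comes from exactly one
F-point. -/
theorem result
    (F : Type u) [Field F]
    (A At : Over (Spec (CommRingCat.of F))) [GrpObj A] [IsCommMonObj A] [GrpObj At] [IsCommMonObj At]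
    (g : ℕ) (hA : AgPol.IsAbSch A g)
    (φ : AgPol.DualMap A At) (hdual : AbDual.IsDualAV Scheme.fppfPrecoverage A At φ)
    (lam : A ⟶ At) (hpol : AgPol.IsPolarization A At φ lam) (hiso : IsIso lam) (n : ℕ) :
    Function.Bijective (fun x : (Over.mk (𝟙 (Spec (CommRingCat.of F))) ⟶ A) =>
      (Over.homMk (Spec.map (CommRingCat.ofHom (algebraMap F (FractionRing (MvPolynomial (Fin n) F)))))
          (Category.comp_id _) :
        Over.mk (Spec.map (CommRingCat.ofHom (algebraMap F (FractionRing (MvPolynomial (Fin n) F))))) ⟶
          Over.mk (𝟙 (Spec (CommRingCat.of F)))) ≫ x) := by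
  haveI : IsProper A.hom := hA.proper
  let Rt : CommRingCat.{u} := CommRingCat.of (MvPolynomial (Fin n) F)
  let Q := FractionRing (MvPolynomial (Fin n) F)
  let j : Spec (CommRingCat.of Q) ⟶ Spec (CommRingCat.of F) := Spec.map (CommRingCat.ofHom (algebraMap F Q))
  constructor
  · intro x y h
    have h1 := congrArg (·.left) h
    simp only [Over.comp_left, Over.homMk_left] at h1
    haveI := WeilEq.isSchemeTheoreticallyDominant_SpecMap (CommRingCat.ofHom (algebraMap F Q))
      (algebraMap F Q).injective
    ext1
    exact AbRigid.eq_of_comp_eq_of_ker_eq_bot j (Scheme.Hom.ker_eq_bot j) A.hom _ _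
      ((Over.w x).trans (Over.w y).symm) h1
  · intro a
    -- spread out
    let c : Spec Rt ⟶ Spec (CommRingCat.of F) := Spec.map (CommRingCat.ofHom (algebraMap F (MvPolynomial (Fin n) F)))
    have hjc : Spec.map (CommRingCat.ofHom (algebraMap (MvPolynomial (Fin n) F) Q)) ≫ c = j := by
      rw [← Spec.map_comp, ← CommRingCat.ofHom_comp, ← IsScalarTower.algebraMap_eq]
    obtain ⟨V, g, l, hVd, hgS, hl, hlg⟩ := RegExt.exists_spread (CommRingCat.of (MvPolynomial (Fin n) F)) Q c A.hom a.left
      ((Over.w a).trans hjc.symm)
    -- transport to the affine space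
    let ρ := (MvPolynomial.renameEquiv F (Equiv.ulift.{u} (α := Fin n))).toRingEquiv
    let r : (RegExt.affN F (ULift.{u} (Fin n))).left ⟶ Spec Rt := Spec.map (CommRingCat.ofHom ρ.symm.toRingHom)
    haveI : IsIso r := by
      haveI : IsIso (CommRingCat.ofHom ρ.symm.toRingHom) := (ConcreteCategory.isIso_iff_bijective _).2 ρ.symm.bijective
      exact inferInstanceAs (IsIso (Spec.map (CommRingCat.ofHom ρ.symm.toRingHom)))
    have hr : r ≫ c = (RegExt.affN F (ULift.{u} (Fin n))).hom := by
      show Spec.map _ ≫ Spec.map _ = Spec.map _
      rw [← Spec.map_comp, ← CommRingCat.ofHom_comp]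
      congr 2
      ext x
      simp [ρ]
    have hd : Dense (SetLike.coe (r ⁻¹ᵁ V)) := hVd.preimage r.isOpenEmbedding.isOpenMap
    obtain ⟨p, hp⟩ := RegExt.exists_const_of_rational _ A (r ⁻¹ᵁ V) hd ((r ∣_ V) ≫ g) (by
      rw [Category.assoc, hgS, ← Category.assoc, morphismRestrict_ι, Category.assoc, hr])
    have hgc : g = V.ι ≫ c ≫ p.left := by
      rw [← cancel_epi (r ∣_ V), hp, ← Category.assoc (r ∣_ V), morphismRestrict_ι, Category.assoc, Category.assoc,
        reassoc_of% hr]
    refine ⟨p, ?_⟩
    ext1
    show j ≫ p.left = a.left
    rw [← hlg, hgc, reassoc_of% hl, reassoc_of% hjc]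

end Groth.Agent.S15510
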