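import Groth.Statements.S15511
import Groth.Agent.Lib.AgPol22.Fibre

set_option autoImplicit false
universe u
open CategoryTheory CategoryTheory.Limits MonoidalCategory CartesianMonoidalCategory MonObj AlgebraicGeometry
open AbSch
open scoped CategoryTheory.Obj

namespace Groth.Agent.S15511

/-- Let S be a connected locally Noetherian scheme, A an abelian scheme over S (a commutative group
scheme which is smooth and proper with geometrically connected fibres of dimension g) given with a
commutative group scheme At and data φ presenting At as the dual of A for the fppf topology, L an
invertible module on A, and lam : A ⟶ At the homomorphism attached to L through φ (the morphism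
sending a point x to the class of the translate of L by x tensor the inverse of L). If for some
closed point s of S the base change of lam to the fibre over s is the trivial homomorphism (the
class of L restricted to the fibre A_s has vanishing attached homomorphism, i.e. is zero in the
Néron–Severi group), then lam itself is the trivial homomorphism, the structure morphism of A
followed by the unit section of At. (The published statement does not ask S to be connected; over a
base with two connected components, L trivial over one component and relatively ample over the other
gives an attached homomorphism vanishing on a closed fibre without vanishing identically, and the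
printed proof rests on the rigidity lemma, which needs a connected base. The base is also taken
locally Noetherian, the published setting being schemes locally of finite type over ℂ.) -/
theorem result
    (S : Scheme.{u}) [IsLocallyNoetherian S] [ConnectedSpace S]
    (A At : Over S) [GrpObj A] [IsCommMonObj A] [GrpObj At] [IsCommMonObj At]
    (g : ℕ) (hA : AgPol.IsAbSch A g)
    (φ : AgPol.DualMap A At) (hdual : AbDual.IsDualAV Scheme.fppfPrecoverage A At φ)
    (L : A.left.Modules) (hL : PicF.IsInvertible L) (lam : A ⟶ At) (hlam : AgPol.IsLambda A At φ L lam)
    (s : S) (hs : IsClosed ({s} : Set S))
    (h : (Over.pullback (S.fromSpecResidueField s)).map lam = 1) :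
    lam = 1 := by
  obtain ⟨N, hN, hN', hφN⟩ := hlam
  subst hφN
  haveI := hA.smooth; haveI := hA.proper; haveI := hA.geomConnected
  refine AgPol22.phi_eq_one hdual hL hN hN' s fun a ha => ?_
  set lam := φ A (PicF.cl N) with hlam
  let F := Over.pullback (S.fromSpecResidueField s)
  have h1 : F.map (1 : A ⟶ At) = (1 : F.obj A ⟶ F.obj At) := map_one (F.homMonoidHom (X := A) (M := At))
  have h2 := congrArg (fun m => m.left ≫ pullback.fst At.hom (S.fromSpecResidueField s)) (h.trans h1.symm)
  simp only [F, Over.pullback_map_left] at h2
  erw [pullback.lift_fst, pullback.lift_fst] at h2
  have h3 : a ≫ lam = a ≫ (1 : A ⟶ At) := by
    apply Over.OverMorphism.ext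
    rw [Over.comp_left, Over.comp_left, ha]
    exact h2
  rw [h3, MonObj.comp_one]

end Groth.Agent.S15511
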