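import Groth.Statements.S15512
import Groth.Agent.Lib.ExtSelfPd1.Basic

set_option autoImplicit false
universe u
open CategoryTheory
open CAlg

namespace Groth.Agent.S15512

/-- Let A be a Noetherian ring which is regular (its localization at every maximal ideal is a regular
local ring) and of finite Krull dimension, M a finitely generated A-module and d a natural number.
If Ext^i_A(M, A) vanishes for every i > d, then the projective dimension of M is at most d. -/
theorem result (A : Type u) [CommRing A]
    [IsNoetherianRing A] (hreg : ∀ m : MaximalSpectrum A, IsRegularLocalRing (Localization.AtPrime m.asIdeal))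
    (hdim : ringKrullDim A < ⊤) (M : Type u) [AddCommGroup M] [Module A M] [Module.Finite A M] (d : ℕ)
    (h : ∀ i : ℕ, d < i → Subsingleton (Abelian.Ext (ModuleCat.of A M) (ModuleCat.of A A) i)) :
    HasProjectiveDimensionLT (ModuleCat.of A M) (d + 1) := by
  haveI := Groth.Agent.ExtSelfPd1.isRegularRing_of_maximal hreg
  exact Groth.Agent.ExtSelfPd1.hasProjectiveDimensionLT_of_regular' M d h

end Groth.Agent.S15512
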