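import Groth.Statements.S15514
import Groth.Agent.Lib.CohMop.ExtAdjDual
-- import your own Groth.Agent.* helpers here

set_option autoImplicit false
universe u
open CategoryTheory CategoryTheory.Limits AlgebraicGeometry
open Coherent

namespace Groth.Agent.S15514

/-- Let X be a scheme, E a finite locally free O_X-module with dual E^∨ = Hom_{O_X}(E, O_X), and F, G
arbitrary O_X-modules. Then for every i the group Ext^i_{O_X}(F ⊗ E, G), computed in the category of
all O_X-modules, is isomorphic to Ext^i_{O_X}(F, G ⊗ E^∨). (Existence of an additive isomorphism
only; the published identification is the natural one, and the published statement is for an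
arbitrary ringed space. The published statement says only that E is locally free; finite rank, which
its proof uses, is assumed here. The internal Hom functor of E and the Ext groups of O_X-modules are
the stated instance hypotheses, both true.) -/
theorem result (X : Scheme.{u}) (E : X.Modules)
    (hE : FlatMod.IsFinLocFree E) (F G : X.Modules) [ModSite.HasSheafHom (O := X.sheaf) E]
    [HasExt.{u} X.Modules] (i : ℕ) :
    Nonempty (Abelian.Ext (CohB1.tensorMod F E) G i ≃+
      Abelian.Ext F (CohB1.tensorMod G ((ModSite.sheafHom (O := X.sheaf) E).obj (Coh.structureModule X))) i) := by
  obtain ⟨e⟩ := CohMop.nonempty_ext_tenR_addEquiv hE F G i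
  haveI := CohMop.isIso_dualMap G hE
  exact ⟨e.trans (CohMop.extCongr (Iso.refl F) (asIso (CohMop.dualMap G E)).symm i)⟩

end Groth.Agent.S15514
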