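import Groth.Statements.S1552
import Groth.Agent.Lib.Pic18.GluePull
import Groth.Agent.Lib.Pic18.Semilocal
import Groth.Agent.Lib.Pic18.Chart
-- import your own Groth.Agent.* helpers here

set_option autoImplicit false
universe u
open CategoryTheory CategoryTheory.Limits AlgebraicGeometry
open Variety

namespace Groth.Agent.S1552

/-- Let f : X → Y be finite, and V ⊆ Y an open over which f is an isomorphism, with Y minus V a discrete
space. Then every invertible O_X-module is isomorphic to the pullback of an invertible O_Y-module. -/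
theorem result {X Y : Scheme.{u}} (f : X ⟶ Y) [IsFinite f]
    (V : Y.Opens) (hV : IsIso (f ∣_ V)) (hdisc : DiscreteTopology ((V : Set Y)ᶜ : Set Y))
    (L : X.Modules) (hL : PicF.IsInvertible L) :
    ∃ N : Y.Modules, PicF.IsInvertible N ∧ Nonempty ((Scheme.Modules.pullback f).obj N ≅ L) := by
  classical
  haveI := hdisc
  let P : Y.Modules := (Scheme.Modules.pushforward f).obj L
  have hbij : ∀ W : Y.Opens, W ≤ V → Function.Bijective (f.app W) := fun W hW => by
    haveI := hV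
    have e : V.ι ''ᵁ (V.ι ⁻¹ᵁ W) = W := by
      rw [Scheme.Hom.image_preimage_eq_opensRange_inf, Scheme.Opens.opensRange_ι]
      exact inf_eq_right.2 hW
    have hb := (ConcreteCategory.isIso_iff_bijective ((f ∣_ V).app (V.ι ⁻¹ᵁ W))).1 inferInstance
    rw [morphismRestrict_app] at hb
    have h2 := (ConcreteCategory.isIso_iff_bijective
      (X.presheaf.map (eqToHom (image_morphismRestrict_preimage f V (V.ι ⁻¹ᵁ W))).op)).1 inferInstance
    have h3 : Function.Bijective (f.app (V.ι ''ᵁ (V.ι ⁻¹ᵁ W))) := (Function.Bijective.of_comp_iff' h2 _).1 hb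
    rwa [e] at h3
  have hgenP : ∀ (D : Y.Opens) (l : Γ(L, f ⁻¹ᵁ D)), D ≤ V →
      Groth.Agent.Twist.IsGen L (f ⁻¹ᵁ D) l → Groth.Agent.Twist.IsGen P D l := by
    intro D l hD hl W hW
    exact (hl (f ⁻¹ᵁ W) (f.preimage_mono hW)).comp (hbij W (hW.trans hD))
  have hP : ∀ p ∈ V, ∃ (D : Y.Opens) (n : Γ(P, D)), p ∈ D ∧ D ≤ V ∧
      Groth.Agent.Twist.IsGen P D n ∧ Groth.Agent.Twist.IsGen L (f ⁻¹ᵁ D) n := by
    intro p hp
    obtain ⟨D, l, hpD, hl⟩ := Groth.Agent.Pic18.exists_gen_over f hL p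
    exact ⟨D ⊓ V, Groth.Agent.M1.mres L (f.preimage_mono inf_le_left) l, ⟨hpD, hp⟩, inf_le_right,
      hgenP _ _ inf_le_right (hl.mres _), hl.mres _⟩
  have hch : ∀ y : {y : Y // y ∉ V}, ∃ (D : Y.Opens) (l : Γ(L, f ⁻¹ᵁ D)), y.1 ∈ D ∧
      (∀ z ∈ D, z ∉ V → z = y.1) ∧ Groth.Agent.Twist.IsGen L (f ⁻¹ᵁ D) l := by
    intro y
    obtain ⟨A, hyA, hA⟩ := Groth.Agent.Pic18.exists_open_inter_compl V hdisc y.2
    obtain ⟨D, l, hyD, hl⟩ := Groth.Agent.Pic18.exists_gen_over f hL y.1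
    exact ⟨D ⊓ A, Groth.Agent.M1.mres L (f.preimage_mono inf_le_left) l, ⟨hyD, hyA⟩,
      fun z hz => hA z hz.2, hl.mres _⟩
  choose D l hyD hDy hl using hch
  let G : Groth.Agent.Pic18.Glue Y :=
    { U := V
      ι := {y : Y // y ∉ V}
      V := D
      P := P
      g := fun i => Groth.Agent.M1.mres L (f.preimage_mono inf_le_left) (l i)
      hg := fun i => hgenP _ _ inf_le_right ((hl i).mres _)
      hP := fun p hp => by
        obtain ⟨E, n, h1, h2, h3, -⟩ := hP p hp
        exact ⟨E, n, h1, h2, h3⟩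
      disj := fun i j hij z hz => by
        by_contra hzU
        exact hij (Subtype.ext ((hDy i z hz.1 hzU).symm.trans (hDy j z hz.2 hzU)))
      cov := fun p => (em (p ∈ V)).imp id fun h => ⟨⟨p, h⟩, hyD ⟨p, h⟩⟩ }
  exact ⟨G.mod, G.isInvertible, G.pullback_iso f (L := L) (𝟙 P)
    (fun p hp => by
      obtain ⟨E, n, h1, h2, h3, h4⟩ := hP p hp
      exact ⟨E, n, h1, h2, h3, h4⟩)
    l hl (fun i => rfl)⟩


end Groth.Agent.S1552
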