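import Groth.Statements.S15522
import Groth.Agent.Lib.CBC10.Fib
import Groth.Agent.Lib.CBC10.FreeAt

set_option autoImplicit false
universe u
attribute [local instance] HasDerivedCategory.standard
open Coherent

namespace Groth.Agent.S15522

open AlgebraicGeometry CategoryTheory in
/-- Let A be a reduced Noetherian ring, X a proper scheme over Spec A with structure morphism f, F a
coherent O_X-module flat over Spec A, and p a natural number such that the function y ↦ dim_{κ(y)}
H^p(X_y, F_y) is locally constant on Spec A. For each q write T^q for the functor M ↦ H^q(X, f^*(M~)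
⊗ F) from A-modules to abelian groups. Then T^p takes surjections to surjections, and so does
T^(p-1) when p ≥ 1; equivalently, every base-change map H^q(X, F) ⊗_A M → H^q(X, F ⊗_A M) is
bijective for q = p and q = p - 1. (The published statement also asserts that R^p f_*F is locally
free of finite rank; this row states the two exchange properties only, over an affine base.) -/
theorem result (A : Type u) [CommRing A]
    [IsNoetherianRing A] [IsReduced A] (X : Scheme.{u}) [X.Over (Spec (CommRingCat.of A))]
    [IsProper (X ↘ Spec (CommRingCat.of A))] (F : X.Modules) (hF : Coh.IsCoh F)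
    (hfl : FlatMod.IsFlatOver (X ↘ Spec (CommRingCat.of A)) F) (p : ℕ)
    (hconst : IsLocallyConstant (CohIII.fiberRank (X ↘ Spec (CommRingCat.of A)) F p)) :
    (CohIII.tensorAFunctor A F ⋙ CohIII.HAb X p).PreservesEpimorphisms ∧
      ∀ q : ℕ, q + 1 = p → (CohIII.tensorAFunctor A F ⋙ CohIII.HAb X q).PreservesEpimorphisms := by
  haveI := Groth.Agent.CohFound.isNoetherian_of_isProper (X ↘ Spec (CommRingCat.of A))
  haveI : X.IsSeparated := ⟨by
    rw [← Limits.terminal.comp_from (X ↘ Spec (CommRingCat.of A))]
    infer_instance⟩
  obtain ⟨P, h1, h2, -, -, hP⟩ := Groth.Agent.CBC10.exists_computes A F hF hfl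
  haveI := h1
  haveI := h2
  haveI : ∀ i, Module.Flat A (P.X i) := fun i => inferInstance
  have hlc : IsLocallyConstant (CohIII.dRank P (-(p : ℤ))) := by
    have e : CohIII.dRank P (-(p : ℤ)) = CohIII.fiberRank (X ↘ Spec (CommRingCat.of A)) F p :=
      funext fun y => (hP.fiberRank_eq y hF.1 p).symm
    rw [e]
    exact hconst
  have hex := Groth.Agent.FlatCxLib.exact_of_isLocallyConstant_dRank P _ hlc
  refine ⟨(hP.preservesEpi_iff p).2 hex.2, fun q hq => (hP.preservesEpi_iff q).2 ?_⟩
  exact (Groth.Agent.FlatCxLib.preservesEpi_iff_preservesMono P (show -(p : ℤ) + 1 = -(q : ℤ) by omega)).2 hex.1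

end Groth.Agent.S15522
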