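import Groth.Statements.S15525
import Mathlib.LinearAlgebra.Matrix.Charpoly.Coeff
import Mathlib.Analysis.Complex.Polynomial.Basic
import Mathlib.LinearAlgebra.Matrix.Charpoly.Eigs

set_option autoImplicit false
universe u
open Zeta

namespace Groth.Agent.S15525

/-- Let L be a field with a ring embedding ι into ℂ and M an r × r matrix over L all of whose
eigenvalues, the complex roots of its characteristic polynomial mapped along ι, have absolute value
1. Then every coefficient of the characteristic polynomial of the block-diagonal matrix with blocks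
M and the inverse transpose of M is mapped by ι into ℝ. This is the pointwise content of the
assertion that for a lisse sheaf F pure of weight 0 the sum of F and its dual is real, the Frobenius
of the dual acting by the inverse transpose. -/
theorem result (L : Type u) [Field L] (ι : L →+* ℂ)
    {r : ℕ} (M : Matrix (Fin r) (Fin r) L)
    (hM : ∀ z ∈ ((Matrix.charpoly M).map ι).roots, ‖z‖ = 1) (n : ℕ) :
    (ι ((Matrix.fromBlocks M 0 0 (M⁻¹).transpose).charpoly.coeff n)).im = 0 := by
  classical
  set A : Matrix (Fin r) (Fin r) ℂ := M.map ι
  have hAc : A.charpoly = M.charpoly.map ι := Matrix.charpoly_map M ι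
  set R := A.charpoly.roots
  have hsplit : A.charpoly = (R.map fun z => Polynomial.X - Polynomial.C z).prod :=
    ((IsAlgClosed.splits A.charpoly).eq_prod_roots_of_monic A.charpoly_monic)
  have hR : ∀ z ∈ R, ‖z‖ = 1 := fun z hz => hM z (by rwa [← hAc])
  have hz0 : ∀ z ∈ R, z ≠ 0 := fun z hz h => by simpa [h] using hR z hz
  have hcard : R.card = r := by
    rw [show R.card = A.charpoly.natDegree from IsAlgClosed.card_roots_eq_natDegree,
      A.charpoly_natDegree_eq_dim, Fintype.card_fin]
  have hdet : A.det = R.prod := Matrix.det_eq_prod_roots_charpoly A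
  have hdet0 : A.det ≠ 0 := by
    rw [hdet]
    exact Multiset.prod_ne_zero fun h => hz0 0 h rfl
  have hrev : ∀ S : Multiset ℂ, ((S.map fun z => Polynomial.X - Polynomial.C z).prod).reverse =
      (S.map fun z => 1 - Polynomial.C z * Polynomial.X).prod := fun S => by
    induction S using Multiset.induction_on with
    | empty => rw [Multiset.map_zero, Multiset.prod_zero, Multiset.map_zero, Multiset.prod_zero, ← Polynomial.C_1, Polynomial.reverse_C]
    | cons a s ih =>
      rw [Multiset.map_cons, Multiset.prod_cons, Multiset.map_cons, Multiset.prod_cons,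
        Polynomial.reverse_mul_of_domain, ih]
      congr 1
      rw [sub_eq_add_neg, ← Polynomial.C_neg, Polynomial.reverse, Polynomial.natDegree_X_add_C]
      ext m
      rw [Polynomial.coeff_reflect]
      rcases m with _ | _ | m
      · rw [Polynomial.revAt_le (Nat.zero_le _)]; simp [Polynomial.coeff_X, Polynomial.coeff_C, Polynomial.coeff_one]
      · rw [Polynomial.revAt_le le_rfl]; simp [Polynomial.coeff_X, Polynomial.coeff_C, Polynomial.coeff_one]
      · rw [Polynomial.revAt_eq_self_of_lt (by omega)]; simp [Polynomial.coeff_X, Polynomial.coeff_C, Polynomial.coeff_one]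
  have hinv : A⁻¹.charpoly = A.charpoly.map (starRingEnd ℂ) := by
    rw [Matrix.charpoly_inv A ((Matrix.isUnit_iff_isUnit_det A).mpr hdet0.isUnit), Ring.inverse_eq_inv',
      ← Matrix.reverse_charpoly, hsplit, hrev, hdet, Fintype.card_fin, ← hcard]
    clear_value R
    clear hsplit hcard hdet
    induction R using Multiset.induction_on with
    | empty => simp
    | cons a s ih =>
      have ha := hR a (Multiset.mem_cons_self a s)
      have ha0 := hz0 a (Multiset.mem_cons_self a s)
      have hca : (starRingEnd ℂ) a = a⁻¹ :=
        (Complex.inv_eq_conj ha).symm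
      rw [Multiset.map_cons, Multiset.prod_cons, Multiset.map_cons, Multiset.prod_cons, Multiset.card_cons,
        Multiset.prod_cons, mul_inv, Polynomial.C_mul, Polynomial.map_mul, ← ih
          (fun z hz => hR z (Multiset.mem_cons_of_mem hz)) (fun z hz => hz0 z (Multiset.mem_cons_of_mem hz)),
        Polynomial.map_sub, Polynomial.map_X, Polynomial.map_C, hca]
      have h1 : Polynomial.C a⁻¹ * Polynomial.C a = 1 := by
        rw [← Polynomial.C_mul, inv_mul_cancel₀ ha0, Polynomial.C_1]
      linear_combination ((-1) ^ s.card * Polynomial.C s.prod⁻¹ *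
        (s.map fun z => 1 - Polynomial.C z * Polynomial.X).prod * Polynomial.X) * h1
  have hmap : (Matrix.fromBlocks M 0 0 (M⁻¹).transpose).charpoly.map ι =
      A.charpoly * A.charpoly.map (starRingEnd ℂ) := by
    rw [Matrix.charpoly_fromBlocks_zero₂₁, Matrix.charpoly_transpose, Polynomial.map_mul, ← hAc,
      ← Matrix.charpoly_map, ← hinv]
    congr 2
    refine (Matrix.inv_eq_right_inv ?_).symm
    have hMu : IsUnit M.det := by
      refine isUnit_iff_ne_zero.mpr fun h => hdet0 ?_
      show (M.map ι).det = 0
      rw [← RingHom.mapMatrix_apply, ← RingHom.map_det, h, map_zero]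
    rw [← Matrix.map_mul, Matrix.mul_nonsing_inv M hMu]
    simp
  rw [← Polynomial.coeff_map, hmap]
  refine Complex.conj_eq_iff_im.mp ?_
  rw [← Polynomial.coeff_map (starRingEnd ℂ), Polynomial.map_mul, Polynomial.map_map,
    show (starRingEnd ℂ).comp (starRingEnd ℂ) = RingHom.id ℂ from RingHom.ext Complex.conj_conj,
    Polynomial.map_id, mul_comm]
end Groth.Agent.S15525
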