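import Groth.Statements.S15526
import Groth.Statements.S9607
import Groth.Statements.S15368
import Groth.Statements.S14337
import Groth.Statements.S10891
import Groth.Statements.S11831
import Mathlib.RingTheory.Nakayama
import Mathlib.RingTheory.LocalRing.Module
import Mathlib.RingTheory.Flat.EquationalCriterion
import Mathlib.RingTheory.TensorProduct.Free
import Mathlib.Data.Nat.Choose.Basic
import Mathlib.Data.Nat.Factorization.Basic
import Mathlib.LinearAlgebra.FreeModule.PID

set_option autoImplicit false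
universe u
open MvPolynomial
open CAlg

namespace Groth.Agent.S15526
open CAlg

open MvPolynomial

theorem span_eq_top {R A : Type u} [CommRing R] [CommRing A] [Algebra R A] (x : A) (y : Aˣ) (P : Polynomial R)
    (g : ℕ) (hP : P.Monic) (hdeg : P.natDegree = 2 * g + 1) (he : (y : A) ^ 2 = Polynomial.aeval x P)
    (S : Submodule R A) (hS : ∀ i ≤ 2 * g, ∀ n : ℤ, x ^ i * ((y ^ n : Aˣ) : A) ∈ S) :
    ∀ (i : ℕ) (n : ℤ), x ^ i * ((y ^ n : Aˣ) : A) ∈ S := by
  intro i
  induction i using Nat.strong_induction_on with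
  | _ i ih =>
    intro n
    by_cases hi : i ≤ 2 * g
    · exact hS i hi n
    obtain ⟨k, rfl⟩ : ∃ k, i = k + (2 * g + 1) := ⟨i - (2 * g + 1), by omega⟩
    have hx : x ^ (2 * g + 1) = (y : A) ^ 2 - ∑ j ∈ Finset.range (2 * g + 1), P.coeff j • x ^ j := by
      have hcoeff : P.coeff (2 * g + 1) = 1 := hdeg ▸ hP.coeff_natDegree
      rw [he, Polynomial.aeval_eq_sum_range' (n := 2 * g + 2) (by omega), Finset.sum_range_succ, hcoeff, one_smul,
        add_sub_cancel_left]
    rw [pow_add, hx, mul_sub, sub_mul, Finset.mul_sum, Finset.sum_mul]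
    refine sub_mem ?_ (sum_mem fun j hj => ?_)
    · rw [mul_assoc, show (y : A) ^ 2 * ((y ^ n : Aˣ) : A) = ((y ^ (2 + n) : Aˣ) : A) by
        rw [zpow_add]; simp]
      exact ih k (by omega) _
    · rw [mul_smul_comm, smul_mul_assoc, ← pow_add]
      exact Submodule.smul_mem _ _ (ih (k + j) (by rw [Finset.mem_range] at hj; omega) n)

/-- Let R be a commutative ring, P ∈ R[x] a monic polynomial of degree 2g + 1, and A = R[x, y, z]/(y^2 −
P(x), yz − 1). Then every element of A is a finite sum Σ_n Q_n(x) y^n over integers n, negative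
powers of y meaning powers of z, with each Q_n ∈ R[x] of degree at most 2g: the R-submodule of A
spanned by the classes of x^i y^n and x^i z^n with i ≤ 2g and n ≥ 0 is all of A. (The published
statement takes for R the ring of Witt vectors of a finite field and for P a lift of a separable
polynomial; the argument uses only that P is monic of degree 2g + 1.) -/
theorem result (R : Type u) [CommRing R] (g : ℕ)
    (P : Polynomial R) (hP : P.Monic) (hdeg : P.natDegree = 2 * g + 1) :
    Submodule.span R {a : MvPolynomial (Fin 3) R ⧸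
        Ideal.span ({X 1 ^ 2 - Polynomial.aeval (X 0 : MvPolynomial (Fin 3) R) P, X 1 * X 2 - 1} :
          Set (MvPolynomial (Fin 3) R)) |
        ∃ i n : ℕ, i ≤ 2 * g ∧
          (a = Ideal.Quotient.mk _ (X 0 ^ i * X 1 ^ n) ∨ a = Ideal.Quotient.mk _ (X 0 ^ i * X 2 ^ n))} =
      ⊤ := by
  set J := Ideal.span ({X 1 ^ 2 - Polynomial.aeval (X 0 : MvPolynomial (Fin 3) R) P, X 1 * X 2 - 1} :
          Set (MvPolynomial (Fin 3) R))
  set π := Ideal.Quotient.mkₐ R J
  have h1 : π (X 1) ^ 2 = Polynomial.aeval (π (X 0)) P := by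
    rw [Polynomial.aeval_algHom_apply, ← map_pow]
    exact Ideal.Quotient.eq.2 (Ideal.subset_span (Or.inl rfl))
  have h2 : π (X 1) * π (X 2) = 1 := by
    rw [← map_mul, ← map_one π]
    exact Ideal.Quotient.eq.2 (Ideal.subset_span (Or.inr rfl))
  let y : (MvPolynomial (Fin 3) R ⧸ J)ˣ := Units.mkOfMulEqOne _ _ h2
  set S := Submodule.span R {a : MvPolynomial (Fin 3) R ⧸ J |
        ∃ i n : ℕ, i ≤ 2 * g ∧
          (a = Ideal.Quotient.mk _ (X 0 ^ i * X 1 ^ n) ∨ a = Ideal.Quotient.mk _ (X 0 ^ i * X 2 ^ n))}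
  have hgen : ∀ (n : ℕ), (((y ^ n : (MvPolynomial (Fin 3) R ⧸ J)ˣ)) : MvPolynomial (Fin 3) R ⧸ J) = π (X 1 ^ n) ∧
      (((y⁻¹ ^ n : (MvPolynomial (Fin 3) R ⧸ J)ˣ)) : MvPolynomial (Fin 3) R ⧸ J) = π (X 2 ^ n) := fun n =>
    ⟨by rw [Units.val_pow_eq_pow_val, map_pow]; rfl, by rw [Units.val_pow_eq_pow_val, map_pow]; rfl⟩
  have hS : ∀ i ≤ 2 * g, ∀ n : ℤ, π (X 0) ^ i * ((y ^ n : (MvPolynomial (Fin 3) R ⧸ J)ˣ) : MvPolynomial (Fin 3) R ⧸ J) ∈ S := by
    intro i hi n
    rcases n with n | n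
    · refine Submodule.subset_span ⟨i, n, hi, Or.inl ?_⟩
      rw [Int.ofNat_eq_natCast, zpow_natCast, (hgen n).1, ← map_pow, ← map_mul]; rfl
    · refine Submodule.subset_span ⟨i, n + 1, hi, Or.inr ?_⟩
      rw [zpow_negSucc, ← inv_pow, (hgen (n + 1)).2, ← map_pow, ← map_mul]; rfl
  have key := span_eq_top (π (X 0)) y P g hP hdeg h1 S hS
  refine Submodule.eq_top_iff'.2 fun z => ?_
  obtain ⟨q, rfl⟩ := Ideal.Quotient.mkₐ_surjective R J z
  induction q using MvPolynomial.induction_on' with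
  | add q q' hq hq' => rw [map_add]; exact add_mem hq hq'
  | monomial e c =>
    have hm : monomial e c = c • (X 0 ^ e 0 * X 1 ^ e 1 * X 2 ^ e 2 : MvPolynomial (Fin 3) R) := by
      rw [monomial_eq, Finsupp.prod_fintype _ _ (fun _ => pow_zero _), Fin.prod_univ_three, C_mul']
    rw [hm, map_smul]
    refine Submodule.smul_mem _ _ ?_
    have := key (e 0) ((e 1 : ℤ) + (-(e 2 : ℤ)))
    rw [zpow_add, zpow_natCast, zpow_neg, zpow_natCast, ← inv_pow, Units.val_mul, (hgen _).1, (hgen _).2,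
      ← map_pow, ← map_mul, ← map_mul, ← mul_assoc] at this
    exact this

end Groth.Agent.S15526
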