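import Groth.Statements.S15527
import Groth.Agent.Lib.DR2.Affine

set_option autoImplicit false
set_option backward.isDefEq.respectTransparency.types false
set_option backward.isDefEq.respectTransparency false
set_option synthInstance.maxHeartbeats 400000
universe u
open DeRhamSh

namespace Groth.Agent.S15527

open CategoryTheory AlgebraicGeometry exteriorPower in
/-- For a ring map R → A with X = Spec A → S = Spec R, a de Rham complex D of the sheaf of differentials
of X → S and a de Rham differential d of the Kähler differentials of A over R, the de Rham
cohomology group H^n(X, D) = H^n_dR(X/S) is isomorphic, as an additive group, to the n-th cohomology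
of the ring-level de Rham complex (⋀^• Ω_{A/R}, d), for every n ≥ 0. (Existence of an additive
isomorphism only: the published statement is a canonical identification, and it also identifies
RΓ(X, Ω^•_{X/S}) with Ω^•_{A/R} in D(R), which is not stated here.) -/
theorem result (R A : Type u) [CommRing R] [CommRing A] [Algebra R A]
    (D : DeRhamSh.OmegaCx (Spec.map (CommRingCat.ofHom (algebraMap R A))))
    [HasDerivedCategory.{u} (Sheaf (Opens.grothendieckTopology ↥(Spec (CommRingCat.of A))) AddCommGrpCat.{u})]
    (d : ∀ p : ℕ, ↥(⋀[A]^p (Ω[A⁄R])) →ₗ[R] ↥(⋀[A]^(p + 1) (Ω[A⁄R])))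
    (hd : DeRham.IsDiff (KaehlerDifferential.D R A) d) (n : ℕ) :
    Nonempty (DeRhamSh.HdR D (n : ℤ) ≃+ ↑(DeRham.H hd n)) := by
  exact Groth.Agent.DR2.nonempty_hdR_addEquiv R A D d hd n

end Groth.Agent.S15527
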