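import Groth.Statements.S15529
import Groth.Agent.Lib.DR2.Pn

set_option autoImplicit false
set_option backward.isDefEq.respectTransparency.types false
set_option backward.isDefEq.respectTransparency false
set_option synthInstance.maxHeartbeats 400000
set_option linter.style.haveILetI false
set_option linter.unusedVariables false
universe u
open DeRhamSh

namespace Groth.Agent.S15529

open CategoryTheory AlgebraicGeometry in
/-- For a ring A, n ≥ 1 and a de Rham complex D of the sheaf of differentials of projective n-space
P^n_A over A, the de Rham cohomology group H^m_dR(P^n_A/A) = H^m(P^n_A, D) vanishes for every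
integer m which is not of the form 2i with 0 ≤ i ≤ n. -/
theorem result (A : Type u) [CommRing A] (n : ℕ) (hn : 1 ≤ n)
    [QuasiSeparated (CohB1.ProjSpace.toSpec n A)] (D : DeRhamSh.OmegaCx (CohB1.ProjSpace.toSpec n A))
    [HasDerivedCategory.{u} (Sheaf (Opens.grothendieckTopology ↥(CohB1.ProjSpace n A)) AddCommGrpCat.{u})]
    (m : ℤ) (hm : ∀ i : ℕ, i ≤ n → m ≠ 2 * (i : ℤ)) :
    Subsingleton (DeRhamSh.HdR D m) := by
  exact (Groth.Agent.DR2.deRham_projectiveSpace A n hn D).2 m hm

end Groth.Agent.S15529
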