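import Groth.Statements.S19857
import Groth.Agent.Lib.CI2.SmoothFlat
import Groth.Prelude

set_option autoImplicit false
universe u
open Synt

namespace Groth.Agent.S19857

open CategoryTheory AlgebraicGeometry in
/-- Let S be a scheme, p : X ⟶ S and q : Y ⟶ S smooth morphisms and f : X ⟶ Y a morphism over S (f ≫ q =
p) which is flat. Then f is syntomic (affine-locally given by flat ring maps of finite presentation
whose fibres are local complete intersections). -/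
theorem result {X Y S : Scheme.{u}}
    (p : X ⟶ S) (q : Y ⟶ S) [Smooth p] [Smooth q] (f : X ⟶ Y) (hf : f ≫ q = p) [Flat f] :
    Synt.IsSyntomicMor f := by
  intro x
  obtain ⟨W, hW, hxW, -⟩ := exists_isAffineOpen_mem_and_subset (show q (f x) ∈ (⊤ : S.Opens) from trivial)
  obtain ⟨V, hV, hxV, hVW⟩ := exists_isAffineOpen_mem_and_subset (show f x ∈ q ⁻¹ᵁ W from hxW)
  obtain ⟨U, hU, hxU, hUV⟩ := exists_isAffineOpen_mem_and_subset (show x ∈ f ⁻¹ᵁ V from hxV)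
  have hVW' : V ≤ q ⁻¹ᵁ W := hVW
  have hUV' : U ≤ f ⁻¹ᵁ V := hUV
  have hUW : U ≤ (f ≫ q) ⁻¹ᵁ W := fun y hy => hVW' (hUV' hy)
  refine ⟨⟨U, hU⟩, ⟨V, hV⟩, hUV', hxU, ?_⟩
  haveI : Smooth (f ≫ q) := hf ▸ ‹Smooth p›
  have h1 : (q.appLE W V hVW').hom.Smooth :=
    HasRingHomProperty.appLE @Smooth q inferInstance ⟨W, hW⟩ ⟨V, hV⟩ hVW'
  have h2 : ((f ≫ q).appLE W U hUW).hom.Smooth :=
    HasRingHomProperty.appLE @Smooth (f ≫ q) inferInstance ⟨W, hW⟩ ⟨U, hU⟩ hUW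
  have h3 : (f.appLE V U hUV').hom.Flat :=
    HasRingHomProperty.appLE @Flat f inferInstance ⟨V, hV⟩ ⟨U, hU⟩ hUV'
  have e : q.appLE W V hVW' ≫ f.appLE V U hUV' = (f ≫ q).appLE W U hUW := Scheme.Hom.appLE_comp_appLE ..
  rw [← e, CommRingCat.hom_comp] at h2
  letI := (f.appLE V U hUV').hom.toAlgebra
  letI := (q.appLE W V hVW').hom.toAlgebra
  letI := ((f.appLE V U hUV').hom.comp (q.appLE W V hVW').hom).toAlgebra
  haveI : IsScalarTower Γ(S, W) Γ(Y, V) Γ(X, U) := IsScalarTower.of_algebraMap_eq fun _ => rfl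
  haveI : Algebra.Smooth Γ(S, W) Γ(Y, V) := RingHom.smooth_algebraMap.mp h1
  haveI : Algebra.Smooth Γ(S, W) Γ(X, U) := RingHom.smooth_algebraMap.mp h2
  haveI : Module.Flat Γ(Y, V) Γ(X, U) := RingHom.flat_algebraMap_iff.mp h3
  exact Groth.Agent.CI2.isSyntomic_of_flat_of_smooth Γ(S, W)

end Groth.Agent.S19857
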