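import Groth.Statements.S15546
import Mathlib.FieldTheory.Separable
import Mathlib.LinearAlgebra.Dual.Lemmas
import Mathlib.RingTheory.TensorProduct.Maps
import Mathlib.FieldTheory.IsAlgClosed.Basic
-- import your own Groth.Agent.* helpers here

set_option autoImplicit false
open scoped TensorProduct
universe u
open Unram

namespace Groth.Agent.S15546

/-- Let E be a finite extension of a field k which is not separable over k, and K an algebraic closure
of k. Then E ⊗_k K has a nonzero nilpotent element. -/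
theorem result (k E K : Type u) [Field k] [Field E]
    [Algebra k E] [FiniteDimensional k E] [Field K] [Algebra k K] [IsAlgClosure k K]
    (h : ¬ Algebra.IsSeparable k E) : ∃ x : E ⊗[k] K, x ≠ 0 ∧ IsNilpotent x := by
  classical
  obtain ⟨a, ha⟩ : ∃ a : E, ¬ IsSeparable k a := by
    by_contra hc
    push Not at hc
    exact h ⟨hc⟩
  haveI : IsAlgClosed K := IsAlgClosure.isAlgClosed k
  let p : Polynomial k := minpoly k a
  have hp : p.Monic := minpoly.monic (Algebra.IsIntegral.isIntegral a)
  let q : Polynomial K := p.map (algebraMap k K)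
  have hq0 : q ≠ 0 := (hp.map _).ne_zero
  have hns : ¬ q.Separable := fun hs => ha (Polynomial.separable_map (algebraMap k K) |>.mp hs)
  obtain ⟨r, hr⟩ : ∃ r, 1 < q.rootMultiplicity r := by
    by_contra hc
    push Not at hc
    refine hns ((Polynomial.nodup_roots_iff_of_splits hq0 (IsAlgClosed.splits q)).mp ?_)
    rw [Multiset.nodup_iff_count_le_one]
    intro r
    rw [Polynomial.count_roots]
    exact hc r
  obtain ⟨g, hg⟩ : (Polynomial.X - Polynomial.C r) ∣ q :=
    (dvd_pow_self _ (by omega : q.rootMultiplicity r ≠ 0)).trans (Polynomial.pow_rootMultiplicity_dvd q r)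
  have hgm : g.Monic := (Polynomial.monic_X_sub_C r).of_mul_monic_left (hg ▸ hp.map _)
  have hdeg : g.natDegree + 1 = p.natDegree := by
    rw [← Polynomial.natDegree_map (algebraMap k K) (p := p)]
    show _ = q.natDegree
    rw [hg, Polynomial.natDegree_mul (Polynomial.X_sub_C_ne_zero r) hgm.ne_zero,
      Polynomial.natDegree_X_sub_C, add_comm]
  have hsq : q ∣ g ^ 2 := by
    obtain ⟨w, hw⟩ := (pow_dvd_pow (Polynomial.X - Polynomial.C r) (hr : 2 ≤ _)).trans
      (Polynomial.pow_rootMultiplicity_dvd q r)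
    have hgw : g = (Polynomial.X - Polynomial.C r) * w :=
      mul_left_cancel₀ (Polynomial.X_sub_C_ne_zero r) (by rw [← hg, hw]; ring)
    exact ⟨w, by rw [hw, hgw]; ring⟩
  let ι : K →+* E ⊗[k] K := (Algebra.TensorProduct.includeRight : K →ₐ[k] E ⊗[k] K).toRingHom
  let z : E ⊗[k] K := g.eval₂ ι (a ⊗ₜ 1)
  have hq : q.eval₂ ι (a ⊗ₜ 1) = 0 := by
    show (p.map (algebraMap k K)).eval₂ ι (a ⊗ₜ 1) = 0
    rw [Polynomial.eval₂_map]
    have e : ι.comp (algebraMap k K) = algebraMap k (E ⊗[k] K) :=
      RingHom.ext fun x => (Algebra.TensorProduct.includeRight : K →ₐ[k] E ⊗[k] K).commutes x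
    rw [e, ← Polynomial.aeval_def]
    have := (Polynomial.aeval_algHom_apply (Algebra.TensorProduct.includeLeft : E →ₐ[k] E ⊗[k] K) a p)
    rw [show Polynomial.aeval a p = 0 from minpoly.aeval k a, map_zero] at this
    exact this
  refine ⟨z, fun hz => ?_, 2, ?_⟩
  · have hn : a ^ g.natDegree ∉ Submodule.span k (Set.range fun i : Fin g.natDegree => a ^ (i : ℕ)) := by
      have hli := (linearIndependent_pow (K := k) a).comp
        (Fin.castLE (show g.natDegree + 1 ≤ p.natDegree by omega)) (Fin.castLE_injective _)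
      have := linearIndependent_finSnoc.mp (show LinearIndependent k
        (Fin.snoc (fun i : Fin g.natDegree => a ^ (i : ℕ)) (a ^ g.natDegree)) by
        convert hli using 1
        funext i
        refine Fin.lastCases ?_ (fun j => ?_) i <;> simp)
      exact this.2
    obtain ⟨φ, hφ1, hφ0⟩ := Submodule.exists_dual_map_eq_bot_of_notMem hn inferInstance
    let Φ : E ⊗[k] K →ₗ[k] K := (TensorProduct.lid k K).toLinearMap ∘ₗ φ.rTensor K
    have hterm : ∀ i, Φ (ι (g.coeff i) * (a ⊗ₜ 1) ^ i) = φ (a ^ i) • g.coeff i := fun i => by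
      show Φ (((1 : E) ⊗ₜ[k] g.coeff i) * _) = _
      rw [Algebra.TensorProduct.tmul_pow, Algebra.TensorProduct.tmul_mul_tmul, one_mul, one_pow, mul_one]
      simp [Φ]
    have hΦ := congrArg Φ hz
    rw [show z = _ from Polynomial.eval₂_eq_sum_range ι (a ⊗ₜ 1), map_sum, map_zero,
      Finset.sum_range_succ, Finset.sum_eq_zero, zero_add, hterm, hgm.coeff_natDegree] at hΦ
    · exact smul_ne_zero hφ1 one_ne_zero hΦ
    · intro i hi
      have h0 : φ (a ^ i) = 0 := by
        have : φ (a ^ i) ∈ Submodule.map φ (Submodule.span k (Set.range fun i : Fin g.natDegree => a ^ (i : ℕ))) :=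
          Submodule.mem_map_of_mem (Submodule.subset_span ⟨⟨i, Finset.mem_range.mp hi⟩, rfl⟩)
        rwa [hφ0, Submodule.mem_bot] at this
      rw [hterm, h0, zero_smul]
  · obtain ⟨c, hc⟩ := hsq
    show z ^ 2 = 0
    rw [← Polynomial.eval₂_pow, hc, Polynomial.eval₂_mul, hq, zero_mul]

end Groth.Agent.S15546
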