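import Groth.Statements.S15548
import Groth.Agent.Lib.TorAR27.Basic
import Mathlib

set_option autoImplicit false
universe u
open CategoryTheory
open CAlg

namespace Groth.Agent.S15548
open CategoryTheory

open Groth.Agent.TorAR27

/-- Let R be a Noetherian commutative ring, I an ideal of R and M a finitely generated R-module. Then
for every natural number n there is m ≥ n such that the map Tor_1^R(M, R/I^m) → Tor_1^R(M, R/I^n)
induced by the projection R/I^m → R/I^n is the zero map. Here Tor_1^R(M, -) is the first left
derived functor of M ⊗_R - (derived in the second variable). -/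
theorem result (R : Type u) [CommRing R] [IsNoetherianRing R] (I : Ideal R)
    (M : Type u) [AddCommGroup M] [Module R M] [Module.Finite R M] (n : ℕ) :
    ∃ m : ℕ, n ≤ m ∧ ∀ h : I ^ m ≤ I ^ n,
      ((CategoryTheory.Tor (ModuleCat.{u} R) 1).obj (ModuleCat.of R M)).map
        (ModuleCat.ofHom (Submodule.factor h)) = 0 := by
  obtain ⟨c, hc⟩ := exists_kill_finite I 0 (ModuleCat.of R M)
  refine ⟨n + c, Nat.le_add_right n c, fun h => ?_⟩
  have hk := (kill_iff 0 (ModuleCat.of R M) _).1 (hc (n + c) (Nat.le_add_left c n))
  have key : ∀ (k : ℕ) (e : k = n) (h' : I ^ (n + c) ≤ I ^ k),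
      ((Tor (ModuleCat.{u} R) 1).obj (ModuleCat.of R M)).map (ModuleCat.ofHom (Submodule.factor h')) = 0 →
      ((Tor (ModuleCat.{u} R) 1).obj (ModuleCat.of R M)).map (ModuleCat.ofHom (Submodule.factor h)) = 0 := by
    intro k e h'
    subst e
    exact id
  exact key (n + c - c) (Nat.add_sub_cancel n c) (Ideal.pow_le_pow_right (Nat.sub_le _ _)) hk

end Groth.Agent.S15548
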