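import Groth.Statements.S15549
import Groth.Agent.Lib.Mult6.GrDim
import Mathlib.RingTheory.GradedAlgebra.Radical
-- import your own Groth.Agent.* helpers here

set_option autoImplicit false
universe u
open CategoryTheory AlgebraicGeometry
open LocCoh

namespace Groth.Agent.S15549

/-- Let R be a Noetherian commutative ring, positively graded by additive subgroups R_d, with irrelevant
ideal R_+ and X = Proj R, and let M be a graded R-module which is the direct sum of its pieces M_i,
i ≥ 0 (non-negatively graded here). For every i and every m ∈ M_i, the global section of M(i)~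
defined by m (the value m/1 at every point) is zero if and only if some power of R_+ annihilates m.
Equivalently, degree by degree, the kernel of the canonical map from M to the direct sum over all n
of Γ(X, M(n)~) is the R_+-power-torsion submodule H^0_{R_+}(M). -/
theorem result {R σ : Type u} [CommRing R] [IsNoetherianRing R] [SetLike σ R] [AddSubgroupClass σ R]
    (𝒜 : ℕ → σ) [GradedRing 𝒜] {M τ : Type u} [AddCommGroup M] [Module R M] [SetLike τ M] [AddSubgroupClass τ M]
    (ℳ : ℕ → τ) [SetLike.GradedSMul 𝒜 ℳ] [DirectSum.Decomposition ℳ]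
    (i : ℕ) (m : ℳ i) :
    GrMod.alpha 𝒜 ℳ i m = 0 ↔
      ∃ k : ℕ, ∀ r : R, r ∈ (HomogeneousIdeal.irrelevant 𝒜).toIdeal ^ k → r • (m : M) = 0 := by
  classical
  let J : Ideal R := LinearMap.ker (LinearMap.toSpanSingleton R M (m : M))
  have hmem : ∀ r : R, r ∈ J ↔ r • (m : M) = 0 := fun r => Iff.rfl
  have hJ : J.IsHomogeneous 𝒜 := by
    intro w a ha
    rw [hmem] at ha ⊢
    have h := congrArg (Mult6.comp ℳ (w + i)) ha
    rw [map_zero, ← DirectSum.sum_support_decompose 𝒜 a, Finset.sum_smul, map_sum] at h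
    have hv : ∀ v, Mult6.comp ℳ (w + i) ((DirectSum.decompose 𝒜 a v : R) • (m : M)) =
        if v = w then (DirectSum.decompose 𝒜 a v : R) • (m : M) else 0 := fun v => by
      have h : (DirectSum.decompose 𝒜 a v : R) • (m : M) ∈ ℳ (v + i) :=
        SetLike.GradedSMul.smul_mem (A := 𝒜) (B := ℳ) (SetLike.coe_mem _) m.2
      rw [Mult6.comp_of_mem ℳ h]
      by_cases hvw : v = w
      · rw [if_pos (by omega), if_pos hvw]
      · rw [if_neg (by omega), if_neg hvw]
    simp only [hv, Finset.sum_ite_eq'] at h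
    split_ifs at h with hw
    · exact h
    · rw [DFinsupp.notMem_support_iff.1 hw, ZeroMemClass.coe_zero, zero_smul]
  constructor
  · intro h
    suffices hr : (HomogeneousIdeal.irrelevant 𝒜).toIdeal ≤ J.radical by
      obtain ⟨k, hk⟩ := Ideal.exists_pow_le_of_le_radical_of_fg hr (IsNoetherian.noetherian _)
      exact ⟨k, fun r hr => (hmem r).1 (hk hr)⟩
    intro r hr
    by_contra hnr
    rw [Ideal.radical_eq_sInf, Submodule.mem_sInf] at hnr
    push_neg at hnr
    obtain ⟨p, ⟨hJp, hp⟩, hrp⟩ := hnr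
    let q : ProjectiveSpectrum 𝒜 := ⟨Ideal.homogeneousCore 𝒜 p, hp.homogeneousCore, fun hle =>
      hrp (Ideal.toIdeal_homogeneousCore_le 𝒜 p (hle hr))⟩
    haveI := q.isPrime
    have hq := congrArg (fun t => GrMod.val (𝒜 := 𝒜) (ℳ := ℳ) t (⟨q, trivial⟩ : (⊤ : (Proj 𝒜).Opens))) h
    change LocalizedModule.mk (m : M) 1 = 0 at hq
    rw [← LocalizedModule.zero_mk (1 : q.asHomogeneousIdeal.toIdeal.primeCompl), LocalizedModule.mk_eq] at hq
    obtain ⟨u, hu⟩ := hq
    simp only [one_smul, smul_zero] at hu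
    refine u.2 ?_
    have h1 : J ≤ (Ideal.homogeneousCore 𝒜 p).toIdeal := by
      rw [← hJ.toIdeal_homogeneousCore_eq_self]
      exact Ideal.homogeneousCore_mono 𝒜 hJp
    exact h1 ((hmem _).2 hu)
  · rintro ⟨k, hk⟩
    refine Subtype.ext (funext fun x => Subtype.ext ?_)
    obtain ⟨r, hr, hrx⟩ := SetLike.not_le_iff_exists.1 x.1.not_irrelevant_le
    change LocalizedModule.mk (m : M) 1 = 0
    rw [← LocalizedModule.zero_mk (1 : x.1.asHomogeneousIdeal.toIdeal.primeCompl), LocalizedModule.mk_eq]
    refine ⟨⟨r ^ k, fun hc => hrx (x.1.isPrime.mem_of_pow_mem k hc)⟩, ?_⟩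
    simp only [one_smul, smul_zero]
    exact hk _ (Ideal.pow_mem_pow hr k)

end Groth.Agent.S15549
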