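import Groth.Statements.S15550
import Groth.Agent.Lib.GrAlpha27.Main
-- import your own Groth.Agent.* helpers here

set_option autoImplicit false
universe u
open CategoryTheory AlgebraicGeometry Opposite
open LocCoh

namespace Groth.Agent.S15550

/-- Let R be a Noetherian commutative ring, positively graded by additive subgroups R_d, with irrelevant
ideal R_+ and X = Proj R, and let M be a graded R-module which is the direct sum of its pieces M_i,
i ≥ 0 (non-negatively graded here). Consider the canonical map from M to the direct sum over all
integers n of the groups of global sections Γ(X, M(n)~), which on M_i is m ↦ m/1. Its cokernel — the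
quotient of that direct sum by the subgroup generated by the images of all the M_i — is isomorphic
to the first local cohomology module H^1_{R_+}(M) of M with support in R_+. Together with the
description of the kernel as H^0_{R_+}(M) this is the four-term exact sequence 0 → H^0_{R_+}(M) → M
→ ⊕_n Γ(X, M(n)~) → H^1_{R_+}(M) → 0. (The published statement's isomorphism is canonical and linear
over R_0; this row asserts only the existence of an additive isomorphism.) -/
theorem result {R σ : Type u} [CommRing R] [IsNoetherianRing R] [SetLike σ R] [AddSubgroupClass σ R]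
    (𝒜 : ℕ → σ) [GradedRing 𝒜] {M τ : Type u} [AddCommGroup M] [Module R M] [SetLike τ M] [AddSubgroupClass τ M]
    (ℳ : ℕ → τ) [SetLike.GradedSMul 𝒜 ℳ] [DirectSum.Decomposition ℳ] :
    Nonempty ((DirectSum ℤ (fun n : ℤ => ((GrMod.tilde 𝒜 ℳ n).val.obj (op ⊤) : Type u)) ⧸
        AddSubgroup.closure (⋃ i : ℕ, Set.range (fun m : ℳ i =>
          DirectSum.of (fun n : ℤ => ((GrMod.tilde 𝒜 ℳ n).val.obj (op ⊤) : Type u)) (i : ℤ)
            (GrMod.alpha 𝒜 ℳ i m)))) ≃+
      LocCoh.H (HomogeneousIdeal.irrelevant 𝒜).toIdeal 1 M) := by
  exact Groth.Agent.GrAlpha27.nonempty_coker_alpha_equiv 𝒜 ℳ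


end Groth.Agent.S15550
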