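import Groth.Statements.S15551
import Groth.Agent.Lib.AffCompl.Ample
import Groth.Agent.Lib.VB17.Setup
import Groth.Agent.Lib.Disc25.NormalScheme
import Groth.Agent.Lib.H12.Dim

set_option autoImplicit false
universe u
open CategoryTheory CategoryTheory.Limits AlgebraicGeometry
open Pi1

namespace Groth.Agent.S15551

/-- Let k be an algebraically closed field and X an integral normal scheme (all local rings integrally
closed domains), proper over k and of dimension at least 2, with an ample invertible module L; let s
be a nonzero global section of L, given as a monomorphism O_X → L, and D = Z(s) ⊆ X its zero scheme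
(the support of an effective ample divisor). Then for every finite étale cover Y → X with Y
connected, the fibre product Y ×_X D is connected. This is the statement that the étale fundamental
group of D maps onto that of X. (The published statement takes X projective over k; this row takes X
proper over k with an ample invertible module, which is equivalent.) -/
theorem result (k : Type u) [Field k] [IsAlgClosed k]
    (X : Scheme.{u}) (f : X ⟶ Spec (CommRingCat.of k)) [IsProper f] [IsIntegral X] (hN : Pi1.IsNormalScheme X)
    (hdim : (2 : WithBot ℕ∞) ≤ topologicalKrullDim X)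
    (L : X.Modules) (hL : CohB1.IsAmple L) (s : Coh.structureModule X ⟶ L) (hs : Mono s)
    (Y : FEt.Cat X) [ConnectedSpace Y.left] :
    ConnectedSpace ↥(pullback Y.hom (PicF2.zeroScheme L s).subschemeι) := by
  haveI : IsFinite Y.hom := Y.prop.1
  haveI : Etale Y.hom := Y.prop.2
  let g : Y.left ⟶ X := Y.hom
  haveI : IsFinite g := Y.prop.1
  haveI : Etale g := Y.prop.2
  show ConnectedSpace ↥(pullback g (PicF2.zeroScheme L s).subschemeι)
  let q : Y.left ⟶ Spec (CommRingCat.of k) := g ≫ f
  haveI : IsProper q := inferInstance
  haveI : IsLocallyNoetherian Y.left := LocallyOfFiniteType.isLocallyNoetherian q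
  haveI : CompactSpace Y.left := QuasiCompact.compactSpace_of_compactSpace q
  haveI : IsNoetherian Y.left := {}
  haveI : IsIntegral Y.left := Groth.Agent.VB17.isIntegral_of_connected fun y =>
    (Groth.Agent.Disc25.isNormalScheme_of_finite_etale g hN y).1
  have hclosed : IsClosedMap g.base := g.isClosedMap
  have hsurj : Function.Surjective g.base := by
    refine Set.range_eq_univ.1 (IsClopen.eq_univ ⟨hclosed.isClosed_range, g.isOpenMap.isOpen_range⟩ ?_)
    exact Set.range_nonempty _
  have hdimY : (2 : WithBot ℕ∞) ≤ topologicalKrullDim Y.left :=
    hdim.trans (Groth.Agent.H12.topologicalKrullDim_le_of_surjective_of_lift _ hsurj (Or.inl hclosed.specializingMap))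
  have hU := Groth.Agent.RA.isAffineOpen_genLocus_of_universallyClosed f hL s
  obtain ⟨x, hx⟩ := Groth.Agent.AffCompl.genLocus_nonempty hL.1 s hs
  obtain ⟨y, rfl⟩ := hsurj x
  have hc := Groth.Agent.AffCompl.isConnected_compl_affineOpen q hdimY (hU.preimage g) ⟨y, hx⟩
  let Z := PicF2.zeroScheme L s
  have hrange : Set.range (pullback.fst g Z.subschemeι).base = ((g ⁻¹ᵁ CohB1.genLocus L s : Y.left.Opens) : Set Y.left)ᶜ := by
    rw [Scheme.Pullback.range_fst, Scheme.IdealSheafData.range_subschemeι,
      Groth.Agent.AffCompl.coe_support_zeroScheme hL.1 s]
    rfl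
  rw [← hrange] at hc
  haveI : ConnectedSpace (Set.range (pullback.fst g Z.subschemeι).base) := isConnected_iff_connectedSpace.1 hc
  have e := (pullback.fst g Z.subschemeι).isEmbedding.toHomeomorph
  exact e.symm.surjective.connectedSpace e.symm.continuous

end Groth.Agent.S15551
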