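import Groth.Statements.S15552
import Groth.Agent.Lib.FC16.Contract

set_option autoImplicit false
universe v₁ v₂ v₃ u₁ u₂ u₃
open CategoryTheory
open FibCat

namespace Groth.Agent.S15552
open CategoryTheory.Functor
set_option linter.style.haveILetI false


/-- Let φ : C ⥤ D be a functor such that, for every object Y of D, the comma category (Y/φ) of arrows Y
⟶ φ X is non-empty and has trivial fundamental groupoid in the sense that for every groupoid G the
constant-functor functor G ⥤ ((Y/φ) ⥤ G) is an equivalence; let p : F ⥤ D be a category fibred in
groupoids over D. Then restriction along φ, from sections of F over D (functors D ⥤ F over D, with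
natural transformations over identities) to sections of F over the diagram φ (functors C ⥤ F over
D), is an equivalence of categories. (The published statement allows any fibred category F with its
cartesian sections; this row takes F fibred in groupoids, where every arrow is cartesian and every
section is a cartesian section. The test groupoids G are taken with objects and morphisms in a
universe level containing all the categories involved.) -/
theorem result
    {C : Type u₁} [Category.{v₁} C] {D : Type u₂} [Category.{v₂} D] {F : Type u₃} [Category.{v₃} F]
    (φ : C ⥤ D) (p : F ⥤ D) [FibCat.IsFibGrpd p]
    (hφ : ∀ Y : D, W4c2modmodulilect.HasContractibleNerve.{max u₁ u₂ u₃ v₁ v₂ v₃, max u₁ u₂ u₃ v₁ v₂ v₃} (StructuredArrow Y φ)) :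
    (Stk.restr (FibCat.toSelf (BasedCategory.ofFunctor φ)) (BasedCategory.ofFunctor p)).IsEquivalence := by
  exact Groth.Agent.FC16.restr_isEquivalence hφ

end Groth.Agent.S15552
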