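import Groth.Statements.S15556
import Groth.Agent.Lib.Cyc26.FinFlat
import Groth.Agent.Lib.Cyc26.PushRat
import Groth.Agent.Lib.Cyc26.RatPull
import Groth.Agent.Lib.RelCyc15.PerfectPull
import Mathlib.AlgebraicGeometry.Morphisms.FlatRank

set_option backward.isDefEq.respectTransparency.types false
set_option linter.style.haveILetI false

set_option autoImplicit false
universe u
open CategoryTheory AlgebraicGeometry
open CategoryTheory.Limits
open Cyc

namespace Groth.Agent.S15556

open Groth.Agent

theorem finrank_field (k E : Type u) [Field k] [Field E] [Algebra k E] [Module.Finite k E]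
    (x : ↥(Spec (CommRingCat.of k))) :
    Scheme.Hom.finrank (Spec.map (CommRingCat.ofHom (algebraMap k E))) x = Module.finrank k E := by
  rw [Scheme.Hom.finrank_SpecMap_algebraMap, Module.rankAtStalk_eq_finrank_of_free]
  rfl

/-- Pullback followed by pushforward, and pushforward followed by pullback. -/
theorem pull_push {X' X : Scheme.{u}} [IsLocallyNoetherian X] (f : X' ⟶ X) [IsFinite f] [Flat f] [UniversallyInjective f]
    {δ' : X' → ℤ} {δ : X → ℤ} (hδ : Cyc.DeltaCompat f δ' δ) {d : ℕ} (hd : ∀ y, f.finrank y = d)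
    (β : AlgebraicCycle X' ℤ) (x : X') :
    Cyc.pullFun f δ' δ 0 ⇑(AlgebraicCycle.map f δ' δ β) x = d * β x := by
  classical
  have hδx := Cyc26.delta_eq_of_finite f hδ x
  have hmap : AlgebraicCycle.map f δ' δ β (f x) = β x * (AlgebraicCycle.mapCoeff f δ' δ x : ℤ) := by
    rw [Cyc26.map_apply_eq_sum f δ' δ β (f x) {x} (fun z hz => by rw [Finset.mem_singleton.1 hz])
      (fun z hz _ _ => Finset.mem_singleton.2 (f.injective hz)), Finset.sum_singleton]
  let one : AlgebraicCycle X ℤ := ⟨fun y => if y = f x then 1 else 0, Set.subset_univ _, fun _ _ =>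
    ⟨Set.univ, Filter.univ_mem, (Set.finite_singleton (f x)).subset fun y hy => by
      by_contra hne
      exact hy.2 (if_neg hne)⟩⟩
  have hfin : ∀ z, Cyc.pullFun f δ' δ 0 ⇑one z ≠ 0 → z = x := fun z hz => by
    simp only [Cyc.pullFun] at hz
    split_ifs at hz with h
    · exact f.injective (of_not_not fun hne => left_ne_zero_of_mul hz (if_neg hne))
    · exact absurd rfl hz
  let one' : AlgebraicCycle X' ℤ := ⟨Cyc.pullFun f δ' δ 0 ⇑one, Set.subset_univ _, fun _ _ =>
    ⟨Set.univ, Filter.univ_mem, (Set.finite_singleton x).subset fun z hz => hfin z hz.2⟩⟩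
  have h1 := Cyc26.map_pullFun_finite_flat f hδ one one' rfl (f x)
  rw [Cyc26.map_apply_eq_sum f δ' δ one' (f x) {x} (fun z hz => by rw [Finset.mem_singleton.1 hz])
      (fun z hz _ _ => Finset.mem_singleton.2 (f.injective hz)), Finset.sum_singleton, hd] at h1
  have hone : one (f x) = 1 := if_pos rfl
  rw [hone, mul_one, show one' x = Cyc.pullFun f δ' δ 0 ⇑one x from rfl] at h1
  simp only [Cyc.pullFun, if_pos (show δ' x = δ (f x) + 0 by rw [add_zero]; exact hδx)] at h1 ⊢
  rw [hmap, ← h1, hone]
  ring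

/-- Pushforward respects the grading of cycles. -/
theorem map_mem_Zk {X' X : Scheme.{u}} (f : X' ⟶ X) [IsFinite f] [UniversallyInjective f] {δ' : X' → ℤ}
    {δ : X → ℤ} (hδ : Cyc.DeltaCompat f δ' δ) {i : ℤ} (a : AlgebraicCycle X' ℤ) (ha : a ∈ Cyc.Zk X' δ' i) :
    AlgebraicCycle.map f δ' δ a ∈ Cyc.Zk X δ i := fun y hy => by
  classical
  by_cases h : ∃ x, f x = y
  · obtain ⟨x, rfl⟩ := h
    rw [Cyc26.map_apply_eq_sum f δ' δ a (f x) {x} (fun z hz => by rw [Finset.mem_singleton.1 hz])
      (fun z hz _ _ => Finset.mem_singleton.2 (f.injective hz)), Finset.sum_singleton,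
      ha x (by rw [Cyc26.delta_eq_of_finite f hδ x]; exact hy), zero_mul]
  · rw [Cyc26.map_apply_eq_sum f δ' δ a y ∅ (fun z hz => absurd hz (by simp)) (fun z hz _ _ => absurd ⟨z, hz⟩ h),
      Finset.sum_empty]

/-- Let k be a field of characteristic p > 0, E a finite purely inseparable field extension of k, X a
separated scheme of finite type over k, X' = X ×_k E with projection f : X' → X (any pullback
square), δ a dimension function on X making (X, δ) a cycle setup (X locally Noetherian with
universally catenary local rings) and δ' the induced dimension function on X' (so (X', δ') is a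
cycle setup and δ' is compatible with δ along f, which has relative dimension 0). Then flat pullback
of cycles along f induces a bijection of Chow groups of i-cycles after inverting p, in the following
two-sided sense: for every i-cycle β on X' there are an i-cycle α on X, an i-cycle α' on X' with the
flat-pullback coefficients of α, and an exponent s with [α'] = p^s · [β] in CH_i(X'); and for every
i-cycle α on X and every i-cycle α' on X' with the flat-pullback coefficients of α, if [α'] = 0 in
CH_i(X') then p^s · [α] = 0 in CH_i(X) for some s. (The published statement allows an arbitrary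
purely inseparable extension E of k; this row takes E finite over k, the case the printed argument
carries out.) -/
theorem result (k E : Type u) [Field k] [Field E] [Algebra k E] (p : ℕ) [Fact p.Prime] [CharP k p] [Module.Finite k E] [IsPurelyInseparable k E] (X X' : Scheme.{u}) (g : X ⟶ Spec (CommRingCat.of k)) [IsSeparated g] [LocallyOfFiniteType g] [QuasiCompact g] (f : X' ⟶ X) (g' : X' ⟶ Spec (CommRingCat.of E)) (hsq : IsPullback f g' g (Spec.map (CommRingCat.ofHom (algebraMap k E)))) (δ : X → ℤ) (δ' : X' → ℤ) (hX : Cyc.IsSetup X δ) (hX' : Cyc.IsSetup X' δ') (hδ : Cyc.DeltaCompat f δ' δ) (i : ℤ) : (∀ (β : AlgebraicCycle X' ℤ) (hβ : β ∈ Cyc.Zk X' δ' i), ∃ (α : AlgebraicCycle X ℤ) (hα : α ∈ Cyc.Zk X δ i) (α' : AlgebraicCycle X' ℤ) (hα' : α' ∈ Cyc.Zk X' δ' i) (s : ℕ), ⇑α' = Cyc.pullFun f δ' δ 0 ⇑α ∧ ChowOps.cl α' hα' = p ^ s • ChowOps.cl β hβ) ∧ (∀ (α : AlgebraicCycle X ℤ) (hα : α ∈ Cyc.Zk X δ i) (α' : AlgebraicCycle X' ℤ) (hα' : α' ∈ Cyc.Zk X' δ' i), ⇑α' = Cyc.pullFun f δ' δ 0 ⇑α → ChowOps.cl α'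 hα' = 0 → ∃ s : ℕ, p ^ s • ChowOps.cl α hα = 0) := by
  classical
  haveI := hX.1
  haveI := hX'.1
  haveI : IsFinite (Spec.map (CommRingCat.ofHom (algebraMap k E))) :=
    (IsFinite.SpecMap_iff _).2 (RingHom.finite_algebraMap.2 inferInstance)
  haveI : Flat (Spec.map (CommRingCat.ofHom (algebraMap k E))) := inferInstance
  haveI : IsFinite f := MorphismProperty.of_isPullback hsq.flip inferInstance
  haveI : Flat f := MorphismProperty.of_isPullback hsq.flip inferInstance
  haveI : UniversallyInjective f := MorphismProperty.of_isPullback hsq.flip inferInstance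
  have hd : ∀ y, f.finrank y = Module.finrank k E := fun y => by
    rw [Scheme.Hom.finrank_of_isPullback g' f _ g hsq.flip y, finrank_field]
  haveI : ExpChar k p := ExpChar.prime (Fact.out : p.Prime)
  obtain ⟨s, hs⟩ := IsPurelyInseparable.finrank_eq_pow k E p
  refine ⟨fun β hβ => ?_, fun α hα α' hα' hpull h0 => ?_⟩
  · let α := AlgebraicCycle.map f δ' δ β
    have hα : α ∈ Cyc.Zk X δ i := map_mem_Zk f hδ β hβ
    refine ⟨α, hα, p ^ s • β, (ChowOps.zk X' δ' i).nsmul_mem hβ _, s, funext fun x => ?_, ?_⟩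
    · rw [pull_push f hδ hd β x, hs]
      show (p ^ s • ⇑β) x = _
      simp [nsmul_eq_mul]
    · exact (ChowOps.clHom X' δ' i).map_nsmul (p ^ s) ⟨β, hβ⟩
  · let P : ↥(ChowOps.zk X' δ' i) →+ ↥(ChowOps.zk X δ i) :=
      AddMonoidHom.ofMapSub (fun a => ⟨AlgebraicCycle.map f δ' δ a.1, map_mem_Zk f hδ a.1 a.2⟩)
        fun a b => Subtype.ext (Cyc26.map_sub f δ' δ a.1 b.1)
    have hmem : (⟨α', hα'⟩ : ↥(ChowOps.zk X' δ' i)) ∈ ChowOps.ratTriv X' δ' i :=
      (QuotientAddGroup.eq_zero_iff _).1 h0
    have hP : ∀ a ∈ ChowOps.ratTriv X' δ' i, P a ∈ ChowOps.ratTriv X δ i := by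
      intro a ha
      induction ha using AddSubgroup.closure_induction with
      | mem a ha => exact AddSubgroup.subset_closure (Cyc26.ratEquivZero_map f hX'.2.2 hX.2.2 hδ ha)
      | zero => rw [map_zero]; exact zero_mem _
      | add a b _ _ h1 h2 => rw [map_add]; exact add_mem h1 h2
      | neg a _ h1 => rw [map_neg]; exact neg_mem h1
    refine ⟨s, (QuotientAddGroup.eq_zero_iff (p ^ s • (⟨α, hα⟩ : ↥(ChowOps.zk X δ i)))).2 ?_⟩
    convert hP _ hmem using 1
    refine Subtype.ext ?_
    refine DFunLike.ext _ _ fun y => ?_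
    show (p ^ s • ⇑α) y = AlgebraicCycle.map f δ' δ α' y
    rw [Cyc26.map_pullFun_finite_flat f hδ α α' hpull y, hd, hs]
    simp [nsmul_eq_mul]

end Groth.Agent.S15556
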