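import Groth.Statements.S15559
import Groth.Agent.Lib.PerfModel2.Tower
import Groth.Agent.Lib.PerfCl20.Basic
import Groth.Agent.Lib.LimH13.DescendFP
import Groth.Agent.S2075

set_option backward.isDefEq.respectTransparency false
set_option linter.style.haveILetI false
-- import your own Groth.Agent.* helpers here

set_option autoImplicit false
universe u
open CategoryTheory CategoryTheory.Limits AlgebraicGeometry
open FrobSch

namespace Groth.Agent.S15559

/-- Call a morphism V → U of quasi-compact quasi-separated perfect schemes of characteristic p flat of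
finite presentation in the perfect sense when it factors as V → V₀ → U with V → V₀ a perfection map
(V perfect and universal for morphisms from perfect schemes of characteristic p into V₀) and V₀ → U
flat, locally of finite presentation, quasi-compact and quasi-separated; faithfully flat of finite
presentation when moreover V₀ → U is surjective. If Z → Y and Y → X are flat of finite presentation
in the perfect sense, so is the composite Z → X, and it is faithfully flat of finite presentation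
when both are. Here the data are given as Y₀ → X with perfection map Y → Y₀ and Z₀ → Y with
perfection map Z → Z₀, and the conclusion produces W₀ → X with a perfection map Z → W₀ over X. (The
published proposition is stated for pro-objects of perfections of schemes of finite type over a
perfect field and also for morphisms flat of profinite presentation; this row is its case of
schemes, which its proof treats first, with the base field replaced by characteristic p.) -/
theorem result (p : ℕ) [Fact p.Prime]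
    {X Y Z Y₀ Z₀ : Scheme.{u}} [FrobSch.IsCharP X p] [FrobSch.IsCharP Y p] [FrobSch.IsCharP Z p]
    [FrobSch.IsCharP Y₀ p] [FrobSch.IsCharP Z₀ p]
    [CompactSpace ↥X] [QuasiSeparatedSpace ↥X] [CompactSpace ↥Y] [QuasiSeparatedSpace ↥Y]
    [CompactSpace ↥Z] [QuasiSeparatedSpace ↥Z] (hX : FrobSch.IsPerfect X p)
    (g₀ : Y₀ ⟶ X) [Flat g₀] [LocallyOfFinitePresentation g₀] [QuasiCompact g₀] [QuasiSeparated g₀]
    (πY : Y ⟶ Y₀) (hY : FrobSch.IsPerfection πY p)
    (f₀ : Z₀ ⟶ Y) [Flat f₀] [LocallyOfFinitePresentation f₀] [QuasiCompact f₀] [QuasiSeparated f₀]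
    (πZ : Z ⟶ Z₀) (hZ : FrobSch.IsPerfection πZ p) :
    ∃ (W₀ : Scheme.{u}) (h₀ : W₀ ⟶ X) (ϖ : Z ⟶ W₀),
      Flat h₀ ∧ LocallyOfFinitePresentation h₀ ∧ QuasiCompact h₀ ∧ QuasiSeparated h₀ ∧
        FrobSch.IsPerfection ϖ p ∧ ϖ ≫ h₀ = πZ ≫ f₀ ≫ πY ≫ g₀ ∧
          (Surjective g₀ → Surjective f₀ → Surjective h₀) := by
  open Groth.Agent PerfModel2 in
  haveI : CompactSpace ↥Y₀ := QuasiCompact.compactSpace_of_compactSpace g₀
  haveI : QuasiSeparatedSpace ↥Y₀ := quasiSeparatedSpace_of_quasiSeparated g₀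
  have hP : FrobSch.IsPerfection (PerfModel2.π Y₀ p 0) p :=
    ⟨PerfModel2.isPerfect_P Y₀ p, fun T _ hT =>
      ⟨fun a b h => PerfModel2.π_injective Y₀ p hT h, fun g => PerfModel2.exists_lift Y₀ p hT g⟩⟩
  obtain ⟨e, he⟩ := PerfCl20.exists_iso hY hP
  let P := PerfModel2.P Y₀ p
  let f : Z₀ ⟶ P := f₀ ≫ e.hom
  haveI : CompactSpace ↥Z₀ := QuasiCompact.compactSpace_of_compactSpace f₀
  haveI : QuasiSeparatedSpace ↥Z₀ := quasiSeparatedSpace_of_quasiSeparated f₀
  haveI : ∀ i, CompactSpace ↥((PerfModel2.tower Y₀ p).obj i) := fun _ => ‹CompactSpace ↥Y₀›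
  haveI : ∀ i, QuasiSeparatedSpace ↥((PerfModel2.tower Y₀ p).obj i) := fun _ => ‹QuasiSeparatedSpace ↥Y₀›
  haveI : ∀ {i j : (ULift.{u} ℕ)ᵒᵖ} (a : i ⟶ j), IsAffineHom ((PerfModel2.tower Y₀ p).map a) :=
    fun a => PerfModel2.isAffineHom_tower_map Y₀ p a
  let c := limit.cone (PerfModel2.tower Y₀ p)
  let hc : IsLimit c := limit.isLimit _
  haveI : Flat (show Z₀ ⟶ c.pt from f) := inferInstanceAs (Flat (f₀ ≫ e.hom))
  haveI : LocallyOfFinitePresentation (show Z₀ ⟶ c.pt from f) :=
    inferInstanceAs (LocallyOfFinitePresentation (f₀ ≫ e.hom))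
  obtain ⟨i, W, w, q, hw, hWc, hWq, sq⟩ := LimH13.hasModel_of_finitePresentation hc (show Z₀ ⟶ c.pt from f)
  haveI := hw
  haveI := hWc
  haveI := hWq
  obtain ⟨i', φ, Xi, Yi, fi, gi, pY, pX, hYi, hXi, hfl⟩ :=
    Groth.Agent.S2075.result (PerfModel2.tower Y₀ p) c hc i w (𝟙 _) (show Z₀ ⟶ c.pt from f) (𝟙 c.pt) (c.π.app i) q
      (IsPullback.id_vert (c.π.app i)) sq
  haveI := hfl
  haveI : IsIso gi := MorphismProperty.of_isPullback (P := MorphismProperty.isomorphisms Scheme.{u}) hYi
    (inferInstanceAs (IsIso (𝟙 ((PerfModel2.tower Y₀ p).obj i))))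
  haveI : LocallyOfFinitePresentation fi := MorphismProperty.of_isPullback hXi hw
  haveI : QuasiSeparatedSpace ↥((PerfModel2.tower Y₀ p).obj i) := ‹QuasiSeparatedSpace ↥Y₀›
  haveI : QuasiCompact fi := MorphismProperty.of_isPullback hXi
    (inferInstance : QuasiCompact w)
  haveI : QuasiSeparated fi := MorphismProperty.of_isPullback hXi
    (QuasiSeparated.of_quasiSeparatedSpace w)
  have hT := hXi.paste_vert hYi
  rw [Category.comp_id] at hT
  have sq' : IsPullback q (show Z₀ ⟶ c.pt from f) w (c.π.app i' ≫ (PerfModel2.tower Y₀ p).map φ) := by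
    rw [c.w φ]; exact sq
  have hsq := IsPullback.of_right' sq' hT
  obtain ⟨q', hsq⟩ : ∃ q' : Z₀ ⟶ Xi,
      IsPullback q' (show Z₀ ⟶ c.pt from f) (fi ≫ gi) (c.π.app i') := ⟨_, hsq⟩
  let n := i'.unop.down
  let w' : Xi ⟶ Y₀ := fi ≫ gi
  have hsq' : IsPullback q' f w' (PerfModel2.π Y₀ p n) := hsq
  haveI : Flat w' := inferInstanceAs (Flat (fi ≫ gi))
  haveI : LocallyOfFinitePresentation w' := inferInstanceAs (LocallyOfFinitePresentation (fi ≫ gi))
  haveI : QuasiCompact w' := inferInstanceAs (QuasiCompact (fi ≫ gi))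
  haveI : QuasiSeparated w' := inferInstanceAs (QuasiSeparated (fi ≫ gi))
  haveI : FrobSch.IsCharP Xi p := FrobSch.IsCharP.of_hom w' p
  haveI : IsIso (PerfModel2.fI X p n) := PerfModel2.isIso_fI X p hX n
  have key : q' ≫ w' ≫ PerfModel2.fI Y₀ p n = f ≫ PerfModel2.π Y₀ p 0 := by
    rw [hsq'.w_assoc, PerfModel2.π_fI]
  clear_value w'
  refine ⟨Xi, w' ≫ g₀ ≫ PerfModel2.fI X p n, πZ ≫ q', inferInstance, inferInstance,
    inferInstance, inferInstance, ⟨hZ.1, fun T _ hTp => ⟨fun a b h => ?_, fun g => ?_⟩⟩, ?_, ?_⟩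
  · apply (hZ.2 T hTp).injective
    show a ≫ πZ = b ≫ πZ
    have h1 : (a ≫ πZ) ≫ q' = (b ≫ πZ) ≫ q' := by simpa only [Category.assoc] using h
    refine hsq'.hom_ext h1 (PerfModel2.π_injective Y₀ p hTp ?_)
    rw [Category.assoc (a ≫ πZ), Category.assoc (b ≫ πZ), ← key, ← Category.assoc (a ≫ πZ), ← Category.assoc (b ≫ πZ), h1]
  · haveI := PerfModel2.isIso_fI T p hTp n
    obtain ⟨h, hh⟩ := PerfModel2.exists_lift Y₀ p hTp (g ≫ w' ≫ PerfModel2.fI Y₀ p n)
    have hn : g ≫ w' = h ≫ PerfModel2.π Y₀ p n := by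
      rw [← cancel_epi (PerfModel2.fI T p n), PerfModel2.fI_comp, PerfModel2.fI_comp,
        Category.assoc, Category.assoc, PerfModel2.π_fI, hh]
    obtain ⟨l, hl⟩ := (hZ.2 T hTp).surjective (hsq'.lift g h hn)
    refine ⟨l, ?_⟩
    show l ≫ πZ ≫ q' = g
    rw [← Category.assoc, show l ≫ πZ = hsq'.lift g h hn from hl, hsq'.lift_fst]
  · rw [← PerfModel2.fI_comp]
    simp only [Category.assoc]
    rw [reassoc_of% key]
    show πZ ≫ (f₀ ≫ e.hom) ≫ PerfModel2.π Y₀ p 0 ≫ g₀ = _
    rw [Category.assoc, reassoc_of% he]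
  · intro hg hf
    haveI : Surjective πY := ⟨(MorphismProperty.universally_le _ _ (PerfCl20.isUnivHomeo hY) : IsHomeomorph πY).surjective⟩
    haveI : Surjective (q' ≫ w' ≫ PerfModel2.fI Y₀ p n) := by
      rw [key]
      show Surjective ((f₀ ≫ e.hom) ≫ PerfModel2.π Y₀ p 0)
      rw [Category.assoc, he]
      infer_instance
    haveI : Surjective (w' ≫ PerfModel2.fI Y₀ p n) := Surjective.of_comp q' _
    rw [← PerfModel2.fI_comp, ← Category.assoc]
    infer_instance

end Groth.Agent.S15559
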