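import Groth.Statements.S1556
import Groth.Agent.Lib.GeomRed18.Smooth
import Groth.Agent.Lib.Curve17.Basic

set_option autoImplicit false
universe u
open CategoryTheory CategoryTheory.Limits AlgebraicGeometry
attribute [local instance] Curv2.resAlgebra
open Variety

namespace Groth.Agent.S1556

/-- Let X be a curve over k (integral, separated, of finite type, of dimension one) and x a closed point
whose residue field is separable over k. Then the local ring at x is a discrete valuation ring if
and only if x lies in the smooth locus of X → Spec k. -/
theorem result (k : Type u) [Field k] (X : Scheme.{u}) [X.Over (Spec (CommRingCat.of k))] [IsIntegral X]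
    [IsSeparated (X ↘ (Spec (CommRingCat.of k)))] [LocallyOfFinitePresentation (X ↘ (Spec (CommRingCat.of k)))] [QuasiCompact (X ↘ (Spec (CommRingCat.of k)))]
    (hdim : topologicalKrullDim X = 1) (x : X) (hx : IsClosed ({x} : Set X))
    [Algebra.IsSeparable k (X.residueField x)] :
    IsDiscreteValuationRing (X.presheaf.stalk x) ↔ x ∈ (X ↘ (Spec (CommRingCat.of k))).smoothLocus := by
  let f := X ↘ Spec (CommRingCat.of k)
  constructor
  · intro h
    haveI : Algebra.EssFiniteType k (X.residueField x) := by
      refine RingHom.essFiniteType_algebraMap.1 ?_
      change (Curv2.resMap k X x).EssFiniteType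
      rw [GeomRed.resMap_eq_toStalk]
      refine RingHom.EssFiniteType.comp ?_ (RingHom.FiniteType.of_surjective _ (X.residue_surjective x)).essFiniteType
      rw [RegSmooth17.toStalk_eq]
      refine RingHom.EssFiniteType.comp (RingHom.EssFiniteType.comp ?_ ?_) (LocallyOfFiniteType.stalkMap f x)
      · exact (RingHom.FiniteType.of_surjective _
          (ConcreteCategory.bijective_of_isIso (Scheme.ΓSpecIso (CommRingCat.of k)).inv).2).essFiniteType
      · have hU := isAffineOpen_top (Spec (CommRingCat.of k))
        letI := (Spec (CommRingCat.of k)).presheaf.algebra_section_stalk (U := ⊤) ⟨f x, trivial⟩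
        haveI := hU.isLocalization_stalk ⟨f x, trivial⟩
        exact RingHom.essFiniteType_algebraMap.2
          (Algebra.EssFiniteType.of_isLocalization _ (hU.primeIdealOf ⟨f x, trivial⟩).asIdeal.primeCompl)
    haveI := h
    haveI : Algebra.FormallyEtale k (X.residueField x) := Algebra.FormallyEtale.of_isSeparable k _
    exact RegSmooth17.mem_smoothLocus_of_isRegularLocalRing f x (RingHom.formallySmooth_algebraMap.2 inferInstance)
  · intro h
    haveI : IsRegularLocalRing (X.presheaf.stalk x) := GeomRed.isRegularLocalRing_of_mem_smoothLocus h
    haveI : IsLocallyNoetherian X := LocallyOfFiniteType.isLocallyNoetherian f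
    have hd : ringKrullDim (X.presheaf.stalk x) = 1 := Curve17.ringKrullDim_stalk hdim hx
    haveI := RegLoc.isDomain (X.presheaf.stalk x)
    haveI := RegLoc.ufd_of_isRegularLocalRing (X.presheaf.stalk x)
    exact Curve17.isDiscreteValuationRing_of_dim_one _ hd

end Groth.Agent.S1556
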