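import Groth.Statements.S15568
import Mathlib.Analysis.Convex.Topology
import Mathlib.Topology.Order.IntermediateValue
import Mathlib.Data.Sign.Basic

set_option autoImplicit false
universe u
open QuiverStab

namespace Groth.Agent.S15568

/-- Walls and chambers for stability weights of a quiver. Let I be the finite vertex set, d ∈ ℕ^I a
dimension vector, and call two weights θ₁, θ₂ ∈ ℝ^I orthogonal to d numerically equivalent when, for
every d′ ≤ d in ℕ^I, the numbers θ₁·d′ and θ₂·d′ are both positive, both negative or both zero. The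
walls are the hyperplanes W(d′) = {θ ⊥ d : θ·d′ = 0} of d^⊥ for d′ ≤ d such that d is not a multiple
of d′. Then θ₁ and θ₂ are numerically equivalent if and only if there is a set J₁ of such d′ for
which θ₁ and θ₂ lie in the same connected component of the locally closed subset of d^⊥ consisting
of the weights lying on W(d₁) for every d₁ ∈ J₁ and off W(d₂) for every other wall W(d₂). (Only the
quiver's vertex set enters; multiples are taken with natural-number factors.) -/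
theorem result
    (I : Type u) [Fintype I] (d : I → ℕ) (θ₁ θ₂ : I → ℝ)
    (h₁ : ∑ i, θ₁ i * (d i : ℝ) = 0) (h₂ : ∑ i, θ₂ i * (d i : ℝ) = 0) :
    (∀ d' : I → ℕ, d' ≤ d →
        SignType.sign (∑ i, θ₁ i * (d' i : ℝ)) = SignType.sign (∑ i, θ₂ i * (d' i : ℝ))) ↔
    ∃ J₁ : Set (I → ℕ), J₁ ⊆ {d' | d' ≤ d ∧ ¬ ∃ m : ℕ, d = m • d'} ∧
      θ₂ ∈ connectedComponentIn
        {θ : I → ℝ | ∑ i, θ i * (d i : ℝ) = 0 ∧ (∀ d₁ ∈ J₁, ∑ i, θ i * (d₁ i : ℝ) = 0) ∧
          ∀ d₂ : I → ℕ, d₂ ≤ d → (¬ ∃ m : ℕ, d = m • d₂) → d₂ ∉ J₁ →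
            ∑ i, θ i * (d₂ i : ℝ) ≠ 0} θ₁ := by
  classical
  let φ : (I → ℕ) → (I → ℝ) → ℝ := fun d' θ => ∑ i, θ i * (d' i : ℝ)
  have hcont : ∀ d', Continuous (φ d') := fun d' =>
    continuous_finsetSum _ fun i _ => (continuous_apply i).mul continuous_const
  have hmul : ∀ (θ : I → ℝ), φ d θ = 0 → ∀ d' : I → ℕ, d' ≤ d → (∃ m : ℕ, d = m • d') → φ d' θ = 0 := by
    rintro θ hθ d' hd' ⟨m, rfl⟩
    rcases Nat.eq_zero_or_pos m with rfl | hm
    · have : d' = 0 := le_antisymm (by simpa using hd') (fun i => Nat.zero_le _)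
      simp [φ, this]
    · have h : φ (m • d') θ = (m : ℝ) * φ d' θ := by
        simp only [φ, Finset.mul_sum, Pi.smul_apply, smul_eq_mul, Nat.cast_mul]
        exact Finset.sum_congr rfl fun i _ => by ring
      rw [h] at hθ
      exact (mul_eq_zero.1 hθ).resolve_left (by positivity)
  constructor
  · intro hsign
    refine ⟨{d' | (d' ≤ d ∧ ¬ ∃ m : ℕ, d = m • d') ∧ φ d' θ₁ = 0}, fun d' h => h.1, ?_⟩
    refine (convex_segment θ₁ θ₂).isPreconnected.subset_connectedComponentIn (left_mem_segment ℝ θ₁ θ₂) ?_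
      (right_mem_segment ℝ θ₁ θ₂)
    rintro _ ⟨a, b, ha, hb, hab, rfl⟩
    have hlin : ∀ d', φ d' (a • θ₁ + b • θ₂) = a * φ d' θ₁ + b * φ d' θ₂ := fun d' => by
      simp only [φ, Finset.mul_sum, ← Finset.sum_add_distrib, Pi.add_apply, Pi.smul_apply, smul_eq_mul]
      exact Finset.sum_congr rfl fun i _ => by ring
    refine ⟨?_, ?_, ?_⟩
    · show φ d (a • θ₁ + b • θ₂) = 0
      rw [hlin, show φ d θ₁ = 0 from h₁, show φ d θ₂ = 0 from h₂]
      ring
    · rintro d₁ ⟨⟨hle, -⟩, hz⟩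
      show φ d₁ (a • θ₁ + b • θ₂) = 0
      have hs := hsign d₁ hle
      rw [show ∑ i, θ₁ i * (d₁ i : ℝ) = 0 from hz, sign_zero, eq_comm, sign_eq_zero_iff] at hs
      rw [hlin, hz, show φ d₁ θ₂ = 0 from hs]
      ring
    · intro d₂ hle hnm hnJ
      show φ d₂ (a • θ₁ + b • θ₂) ≠ 0
      have hne : φ d₂ θ₁ ≠ 0 := fun h => hnJ ⟨⟨hle, hnm⟩, h⟩
      have hs : SignType.sign (φ d₂ θ₁) = SignType.sign (φ d₂ θ₂) := hsign d₂ hle
      rw [hlin]
      rcases lt_or_gt_of_ne hne with hlt | hgt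
      · have h2 : φ d₂ θ₂ < 0 := by rwa [sign_neg hlt, eq_comm, sign_eq_neg_one_iff] at hs
        refine ne_of_lt ?_
        rcases eq_or_lt_of_le ha with rfl | ha'
        · rw [zero_add] at hab; rw [hab]; linarith
        · nlinarith [mul_neg_of_pos_of_neg ha' hlt, mul_nonpos_of_nonneg_of_nonpos hb h2.le]
      · have h2 : 0 < φ d₂ θ₂ := by rwa [sign_pos hgt, eq_comm, sign_eq_one_iff] at hs
        refine ne_of_gt ?_
        rcases eq_or_lt_of_le ha with rfl | ha'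
        · rw [zero_add] at hab; rw [hab]; linarith
        · nlinarith [mul_pos ha' hgt, mul_nonneg hb h2.le]
  · rintro ⟨J₁, hJ₁, hmem⟩
    intro d' hd'
    set T := {θ : I → ℝ | ∑ i, θ i * (d i : ℝ) = 0 ∧ (∀ d₁ ∈ J₁, ∑ i, θ i * (d₁ i : ℝ) = 0) ∧
          ∀ d₂ : I → ℕ, d₂ ≤ d → (¬ ∃ m : ℕ, d = m • d₂) → d₂ ∉ J₁ →
            ∑ i, θ i * (d₂ i : ℝ) ≠ 0} with hT
    have h1T : θ₁ ∈ T := by
      by_contra h
      rw [connectedComponentIn_eq_empty h] at hmem
      exact hmem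
    have h2T : θ₂ ∈ T := connectedComponentIn_subset _ _ hmem
    show SignType.sign (φ d' θ₁) = SignType.sign (φ d' θ₂)
    by_cases hm : ∃ m : ℕ, d = m • d'
    · rw [hmul θ₁ h₁ d' hd' hm, hmul θ₂ h₂ d' hd' hm]
    by_cases hJ : d' ∈ J₁
    · rw [show φ d' θ₁ = 0 from h1T.2.1 d' hJ, show φ d' θ₂ = 0 from h2T.2.1 d' hJ]
    have hne : ∀ θ ∈ connectedComponentIn T θ₁, φ d' θ ≠ 0 := fun θ hθ =>
      (connectedComponentIn_subset _ _ hθ).2.2 d' hd' hm hJ
    have hiv : ∀ x ∈ connectedComponentIn T θ₁, ∀ y ∈ connectedComponentIn T θ₁,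
        φ d' x < 0 → 0 < φ d' y → False := fun x hx y hy hx0 hy0 => by
      obtain ⟨z, hz, hz0⟩ := isPreconnected_connectedComponentIn.intermediate_value hx hy (hcont d').continuousOn
        (show (0 : ℝ) ∈ Set.Icc (φ d' x) (φ d' y) from ⟨hx0.le, hy0.le⟩)
      exact hne z hz hz0
    have hθ₁ := mem_connectedComponentIn h1T
    rcases lt_or_gt_of_ne (hne θ₁ hθ₁) with h | h <;> rcases lt_or_gt_of_ne (hne θ₂ hmem) with h' | h'
    · rw [sign_neg h, sign_neg h']
    · exact (hiv _ hθ₁ _ hmem h h').elim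
    · exact (hiv _ hmem _ hθ₁ h' h).elim
    · rw [sign_pos h, sign_pos h']

end Groth.Agent.S15568
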