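import Groth.Statements.S15578
import Groth.Agent.Lib.RInv29.Henselian

set_option autoImplicit false
universe u v
open RInv

namespace Groth.Agent.S15578

/-- Let `R` be a commutative ring with an involution `lam` whose fixed ring `S` is strictly henselian
(henselian local with separably closed residue field). Then `R` is isomorphic to a product of
finitely many strictly henselian local rings (existence of a ring isomorphism with such a product). -/
theorem result (S : Type u) (R : Type v) [CommRing S] [CommRing R]
    [Algebra S R] (lam : R ≃+* R) (hlam : Function.Involutive lam) (hS : RInv.IsFixedRing S R lam)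
    [HenselianLocalRing S] [IsSepClosed (IsLocalRing.ResidueField S)] :
    ∃ (ι : Type) (_ : Fintype ι) (T : ι → Type v) (_ : ∀ i, CommRing (T i))
      (_ : ∀ i, HenselianLocalRing (T i)),
      (∀ i, IsSepClosed (IsLocalRing.ResidueField (T i))) ∧ Nonempty (R ≃+* (∀ i, T i)) := by
  exact RInv29.exists_pi_henselian hlam hS

end Groth.Agent.S15578
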