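import Groth.Statements.S1558
import Groth.Agent.Lib.CurveCoh17.Euler
import Groth.Agent.Lib.CurveCoh17.Bases
import Groth.Agent.Lib.ModM1.Coh

set_option autoImplicit false
universe u
open CategoryTheory CategoryTheory.Limits AlgebraicGeometry
open Variety

namespace Groth.Agent.S1558

/-- On a proper scheme over a field, if F is coherent with support of dimension at most zero and E is
finite locally free of rank n, then χ(X, F ⊗ E) = n · χ(X, F). -/
theorem result (k : Type u) [Field k] (X : Scheme.{u}) [X.Over (Spec (CommRingCat.of k))] [IsProper (X ↘ (Spec (CommRingCat.of k)))]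
    (F : X.Modules) (hF : Coh.IsCoh F) (hsupp : topologicalKrullDim (CohB1.support F) ≤ 0)
    (n : ℕ) (E : X.Modules) (hE : FlatMod.IsFinLocFreeOfRank n E) :
    Curv2.euler k X (CohB1.tensorMod F E) = n * Curv2.euler k X F := by
  classical
  have hN : IsNoetherian X := by
    have := LocallyOfFiniteType.isLocallyNoetherian (X ↘ (Spec (CommRingCat.of k)))
    have : CompactSpace X := HasAffineProperty.iff_of_isAffine
      (P := @QuasiCompact).mp (inferInstance : QuasiCompact (X ↘ (Spec (CommRingCat.of k))))
    constructor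
  have hC := Groth.Agent.M1.isClosed_support hF.2
  have hpt : ∀ x ∈ CohB1.support F, IsClosed ({x} : Set X) := by
    intro x hx
    refine closure_subset_iff_isClosed.1 fun y hy => ?_
    by_contra hne
    have hyx : x ⤳ y := specializes_iff_mem_closure.2 hy
    have hyC : y ∈ CohB1.support F := hyx.mem_closed hC hx
    let I := TopologicalSpace.IrreducibleCloseds (CohB1.support F)
    let a : I := ⟨closure {⟨y, hyC⟩}, isIrreducible_singleton.closure, isClosed_closure⟩
    let b : I := ⟨closure {⟨x, hx⟩}, isIrreducible_singleton.closure, isClosed_closure⟩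
    have hab : a < b := by
      refine lt_of_le_not_ge (closure_minimal (Set.singleton_subset_iff.2 ?_) isClosed_closure)
        fun hle => hne ?_
      · refine specializes_iff_mem_closure.1 ?_
        exact (Topology.IsInducing.subtypeVal.specializes_iff).1 hyx
      · have hxy : (⟨x, hx⟩ : CohB1.support F) ∈ closure {(⟨y, hyC⟩ : CohB1.support F)} :=
          hle (subset_closure rfl)
        have := (Topology.IsInducing.subtypeVal.specializes_iff).2 (specializes_iff_mem_closure.2 hxy)
        exact (this.antisymm hyx).eq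
    have h1 : ((1 : ℕ) : WithBot ℕ∞) ≤ 0 :=
      (Order.LTSeries.length_le_krullDim ((RelSeries.singleton _ a).snoc b hab : LTSeries I)).trans hsupp
    exact absurd h1 (by decide)
  obtain ⟨S, hS⟩ : ∃ S : Finset X, (S : Set X) = CohB1.support F := by
    obtain ⟨G, hG⟩ := Groth.Agent.VarDim.exists_finite_generic hC
    refine ⟨G, Set.ext fun x => ⟨fun hx => (hG x).2 ⟨x, hx, specializes_rfl⟩, fun hx => ?_⟩⟩
    obtain ⟨g, hg, hgx⟩ := (hG x).1 hx
    have hgC : g ∈ CohB1.support F := (hG g).2 ⟨g, hg, specializes_rfl⟩
    have := hgx.mem_closed (hpt g hgC) rfl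
    exact Set.mem_singleton_iff.1 this ▸ hg
  have h : Groth.Agent.CurveCoh17.SuppIn F S := by
    refine ⟨fun x hx => hpt x (hS ▸ (hx : x ∈ (S : Set X))), fun x hx a => ?_⟩
    have : x ∉ CohB1.support F := hS ▸ (hx : x ∉ (S : Set X))
    simp only [CohB1.support, Set.mem_setOf_eq, not_not] at this
    exact Subsingleton.elim _ _
  letI : ∀ (M : X.Modules) (x : X), Module k (M.presheaf.stalk x) :=
    fun M x => Groth.Agent.CurveCoh17.stalkMod k M x
  have hE' := fun x => (Groth.Agent.CurveCoh17.nonempty_stalk_equiv hE x).some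
  have heuler : ∀ {M : X.Modules}, Groth.Agent.CurveCoh17.SuppIn M S →
      Curv2.euler k X M = Module.finrank k (Coh.HH X M 0) := by
    intro M hM
    rw [Curv2.euler, finsum_eq_single _ 0]
    · simp
    · intro i hi
      obtain ⟨j, rfl⟩ := Nat.exists_eq_succ_of_ne_zero hi
      have := hM.subsingleton_HH j
      simp [Module.finrank_zero_of_subsingleton]
  have hfr : ∀ (V : Type u) [AddCommGroup V] [Module k V],
      Module.finrank k (Fin n → V) = n * Module.finrank k V := by
    intro V _ _
    rw [Module.finrank, Module.finrank, rank_pi, Cardinal.sum_const, Cardinal.toNat_mul,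
      Cardinal.toNat_lift, Cardinal.toNat_lift, Cardinal.mk_fin, Cardinal.toNat_natCast]
  let swap : (∀ x : S, Fin n → F.presheaf.stalk (x : X)) ≃ₗ[k] (Fin n → ∀ x : S, F.presheaf.stalk (x : X)) :=
    { toFun := fun f i x => f x i, invFun := fun f x i => f i x, map_add' := fun _ _ => rfl,
      map_smul' := fun _ _ => rfl, left_inv := fun _ => rfl, right_inv := fun _ => rfl }
  rw [heuler h, heuler (h.tensor E), ((h.tensor E).h0Equiv k).finrank_eq,
    ((LinearEquiv.piCongrRight fun x : S =>
        Groth.Agent.CurveCoh17.stalkTensorPiA k F E (x : X) (hE' x)).trans swap).finrank_eq,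
    hfr, ← (h.h0Equiv k).finrank_eq, Nat.cast_mul]

end Groth.Agent.S1558
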