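import Groth.Statements.S15580
import Groth.Agent.Lib.RInv29.Branch

set_option autoImplicit false
universe u v
open RInv

namespace Groth.Agent.S15580

/-- Let `S` be a local ring, `R` a quadratic etale `S`-algebra and `lam` an involution of `R` with fixed
ring `S`. Then every unit `r` of `R` with `lam r * r = 1` can be written `a⁻¹ * lam a` for a unit
`a` of `R`. -/
theorem result (S : Type u) (R : Type v) [CommRing S] [CommRing R]
    [Algebra S R] (lam : R ≃+* R) (hlam : Function.Involutive lam) (hS : RInv.IsFixedRing S R lam)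
    [IsLocalRing S] (hq : RInv.IsQuadEtale S R) (r : Rˣ) (hr : lam r * r = 1) :
    ∃ a : Rˣ, (r : R) = (a⁻¹ : Rˣ) * lam a := by
  obtain ⟨r0, hr0⟩ := RInv29.exists_unit_of_quadEtale hlam hS hq
  have hrl : lam (lam (r : R)) = r := hlam _
  have key : ∀ x : R, lam (x + lam (r : R) * lam x) = (r : R) * (x + lam (r : R) * lam x) := fun x => by
    rw [map_add, map_mul, hrl, hlam x]
    linear_combination (-lam x) * hr
  have main : ∀ x : R, IsUnit (x + lam (r : R) * lam x) → ∃ a : Rˣ, (r : R) = (a⁻¹ : Rˣ) * lam a := fun x hx => by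
    refine ⟨hx.unit, ?_⟩
    rw [IsUnit.unit_spec, key, mul_comm (r : R), ← mul_assoc, IsUnit.val_inv_mul, one_mul]
  by_contra hno
  have h1 : ¬ IsUnit ((1 : R) + lam (r : R) * lam 1) := fun h => hno (main 1 h)
  have h2 : ¬ IsUnit (r0 + lam (r : R) * lam r0) := fun h => hno (main r0 h)
  obtain ⟨q, hq1, hm1⟩ := exists_max_ideal_of_mem_nonunits h1
  obtain ⟨q', hq2, hm2⟩ := exists_max_ideal_of_mem_nonunits h2
  have hm2' : r0 + lam (r : R) * lam r0 ∈ q := by
    rcases RInv29.maximal_eq hlam hS q q' with rfl | rfl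
    · exact hm2
    · rw [RInv29.mem_conj, key] at hm2
      exact (Ideal.IsPrime.mem_or_mem inferInstance hm2).resolve_left fun h =>
        hq1.ne_top (Ideal.eq_top_of_isUnit_mem q h r.isUnit)
  rw [map_one, mul_one] at hm1
  have h3 : lam (r : R) * (lam r0 - r0) ∈ q := by
    have := q.sub_mem hm2' (q.mul_mem_left r0 hm1)
    ring_nf at this ⊢
    exact this
  refine hq1.ne_top (Ideal.eq_top_of_isUnit_mem q h3 ((r.isUnit.map lam).mul ?_))
  simpa using hr0.neg

end Groth.Agent.S15580
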