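import Groth.Statements.S15581
import Groth.Agent.Lib.RInv29.Branch

set_option autoImplicit false
universe u v
open RInv

namespace Groth.Agent.S15581

/-- Let `A` be a commutative ring with an involution `lam` whose fixed ring `B` is local with `2`
invertible. Then `Jac(A)^2 ⊆ Jac(B) A`. -/
theorem result (B : Type u) (A : Type v) [CommRing B]
    [CommRing A] [Algebra B A] (lam : A ≃+* A) (hlam : Function.Involutive lam)
    (hB : RInv.IsFixedRing B A lam) [IsLocalRing B] (h2 : IsUnit (2 : B)) :
    (Ring.jacobson A) ^ 2 ≤ (IsLocalRing.maximalIdeal B).map (algebraMap B A) := by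
  rw [pow_two, Ideal.mul_le]
  intro x hx y hy
  obtain ⟨w, hw⟩ := h2.exists_left_inv
  have hstab : ∀ z ∈ Ring.jacobson A, lam z ∈ Ring.jacobson A := fun z hz =>
    RInv29.mem_jacobson_iff.2 fun q hq => by
      haveI := hq
      exact (RInv29.mem_jacobson_iff.1 hz (q.comap (lam : A →+* A))
        (Ideal.comap_isMaximal_of_surjective _ lam.surjective) :)
  have hmem : ∀ s : B, algebraMap B A s ∈ Ring.jacobson A → s ∈ IsLocalRing.maximalIdeal B := fun s hs => by
    haveI := RInv29.nontrivial hB
    obtain ⟨q, hq⟩ := Ideal.exists_maximal A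
    rw [← RInv29.comap_maximal hlam hB q]
    exact RInv29.mem_jacobson_iff.1 hs q hq
  set w' := algebraMap B A w
  have hw' : w' * 2 = 1 := by
    have := congrArg (algebraMap B A) hw
    rwa [map_mul, map_one, map_ofNat] at this
  obtain ⟨a, ha⟩ := (hB.2 (w' * (x + lam x))).1 (by
    rw [map_mul, RInv29.lam_algebraMap hB, map_add, hlam, add_comm])
  obtain ⟨b, hb⟩ := (hB.2 (w' * (y + lam y))).1 (by
    rw [map_mul, RInv29.lam_algebraMap hB, map_add, hlam, add_comm])
  obtain ⟨c, hc⟩ := (hB.2 (w' * (x - lam x) * (w' * (y - lam y)))).1 (by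
    rw [map_mul, map_mul, map_mul, RInv29.lam_algebraMap hB, map_sub, map_sub, hlam, hlam]; ring)
  have ha' : a ∈ IsLocalRing.maximalIdeal B := hmem a (by
    rw [ha]; exact Ideal.mul_mem_left _ _ (add_mem hx (hstab x hx)))
  have hb' : b ∈ IsLocalRing.maximalIdeal B := hmem b (by
    rw [hb]; exact Ideal.mul_mem_left _ _ (add_mem hy (hstab y hy)))
  have hc' : c ∈ IsLocalRing.maximalIdeal B := hmem c (by
    rw [hc]; exact Ideal.mul_mem_right _ _ (Ideal.mul_mem_left _ _ (sub_mem hx (hstab x hx))))
  have e : x * y = algebraMap B A a * y + algebraMap B A b * (x - algebraMap B A a) + algebraMap B A c := by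
    rw [ha, hb, hc]
    linear_combination (-(x * y * (w' * 2 + 1)) + w' * (x + lam x) * y + w' * (y + lam y) * x) * hw'
  rw [e]
  exact add_mem (add_mem (Ideal.mul_mem_right _ _ (Ideal.mem_map_of_mem _ ha'))
    (Ideal.mul_mem_right _ _ (Ideal.mem_map_of_mem _ hb'))) (Ideal.mem_map_of_mem _ hc')

end Groth.Agent.S15581
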