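import Groth.Statements.S15582
import Mathlib

set_option autoImplicit false
universe u
open CategoryTheory TopologicalSpace
open CohTop

namespace Groth.Agent.S15582
set_option linter.style.haveILetI false
set_option backward.isDefEq.respectTransparency false
set_option backward.isDefEq.respectTransparency.types false


/-- Let `π : X → Y` be a continuous map such that every open set containing a fibre `π⁻¹(y)` contains
the preimage of an open neighbourhood of `y`, and such that every fibre is finite with its points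
separated by pairwise disjoint open sets of `X`. Then the direct image of sheaves of sets along `π`
preserves epimorphisms. -/
theorem result
    {X Y : TopCat.{u}} (π : X ⟶ Y)
    (h1 : ∀ (y : Y) (U : Set X), IsOpen U → π ⁻¹' {y} ⊆ U →
      ∃ V : Set Y, IsOpen V ∧ y ∈ V ∧ π ⁻¹' V ⊆ U)
    (h2 : ∀ y : Y, (π ⁻¹' {y}).Finite ∧ ∃ U : X → Set X,
      (∀ x ∈ π ⁻¹' {y}, IsOpen (U x) ∧ x ∈ U x) ∧ (π ⁻¹' {y}).PairwiseDisjoint U) :
    (TopCat.Sheaf.pushforward (Type u) π).PreservesEpimorphisms := by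
  classical
  constructor
  intro F G φ hφ
  rw [← CategoryTheory.Sheaf.isLocallySurjective_iff_epi']
  have hl : TopCat.Presheaf.IsLocallySurjective φ.hom :=
    (CategoryTheory.Sheaf.isLocallySurjective_iff_epi' _ φ).2 hφ
  rw [TopCat.Presheaf.isLocallySurjective_iff] at hl
  refine (TopCat.Presheaf.isLocallySurjective_iff _).2 fun V s y hy => ?_
  obtain ⟨hfin, U, hU, hdis⟩ := h2 y
  let P : TopologicalSpace.Opens X := (TopologicalSpace.Opens.map π).obj V
  have hs : ∀ x : π ⁻¹' {y}, ∃ (W : TopologicalSpace.Opens X) (hW : W ≤ P), x.1 ∈ W ∧ (W : Set X) ⊆ U x.1 ∧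
      ∃ t, φ.hom.app (Opposite.op W) t = G.obj.map (homOfLE hW).op s := by
    intro x
    have hxP : x.1 ∈ P := by
      change π x.1 ∈ V
      rw [show π x.1 = y from x.2]
      exact hy
    obtain ⟨W, hW, ⟨t, ht⟩, hxW⟩ := hl P s x.1 hxP
    let W' : TopologicalSpace.Opens X := W ⊓ ⟨U x.1, (hU x.1 x.2).1⟩
    refine ⟨W', inf_le_left.trans hW, ⟨hxW, (hU x.1 x.2).2⟩, fun _ h => h.2, F.obj.map (homOfLE (inf_le_left : W' ≤ W)).op t, ?_⟩
    rw [NatTrans.naturality_apply φ.hom (homOfLE (inf_le_left : W' ≤ W)).op t, ht]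
    exact (ConcreteCategory.congr_hom (G.obj.map_comp (homOfLE hW).op (homOfLE (inf_le_left : W' ≤ W)).op) s).symm
  choose W hW hxW hWU t ht using hs
  obtain ⟨B, hBo, hyB, hB⟩ := h1 y (⋃ x, (W x : Set X)) (isOpen_iUnion fun x => (W x).isOpen)
    fun x hx => Set.mem_iUnion.2 ⟨⟨x, hx⟩, hxW ⟨x, hx⟩⟩
  let V' : TopologicalSpace.Opens Y := V ⊓ ⟨B, hBo⟩
  have hd : ∀ x x' : π ⁻¹' {y}, x ≠ x' → ∀ z : X, z ∈ W x → z ∉ W x' := fun x x' hne z hz hz' =>
    Set.disjoint_left.1 (hdis x.2 x'.2 fun h => hne (Subtype.ext h)) (hWU x hz) (hWU x' hz')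
  have comp : TopCat.Presheaf.IsCompatible F.obj W t := by
    intro x x'
    by_cases e : x = x'
    · subst e; rfl
    · have hbot : W x ⊓ W x' = ⊥ := eq_bot_iff.2 fun z hz => absurd hz.2 (hd x x' e z hz.1)
      refine TopCat.Sheaf.eq_of_locally_eq' F (fun i : PEmpty.{u + 1} => i.elim) _ (fun i => i.elim) ?_ _ _ fun i => i.elim
      rw [hbot]
      exact bot_le
  obtain ⟨g, hg, -⟩ := TopCat.Sheaf.existsUnique_gluing F W t comp
  have hle : (TopologicalSpace.Opens.map π).obj V' ≤ iSup W := fun z hz =>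
    TopologicalSpace.Opens.mem_iSup.2 (Set.mem_iUnion.1 (hB hz.2))
  refine ⟨V', inf_le_left, ⟨F.obj.map (homOfLE hle).op g, ?_⟩, ⟨hy, hyB⟩⟩
  have hP : iSup W ≤ P := iSup_le hW
  have hglue : φ.hom.app (Opposite.op (iSup W)) g = G.obj.map (homOfLE hP).op s :=
    TopCat.Sheaf.eq_of_locally_eq G W _ _ fun x => by
      rw [← NatTrans.naturality_apply φ.hom (TopologicalSpace.Opens.leSupr W x).op g, hg x, ht x]
      exact (ConcreteCategory.congr_hom (G.obj.map_comp (homOfLE hP).op (TopologicalSpace.Opens.leSupr W x).op) s)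
  change φ.hom.app (Opposite.op ((TopologicalSpace.Opens.map π).obj V')) (F.obj.map (homOfLE hle).op g) = _
  rw [NatTrans.naturality_apply φ.hom (homOfLE hle).op g, hglue]
  exact (ConcreteCategory.congr_hom (G.obj.map_comp (homOfLE hP).op (homOfLE hle).op) s).symm

end Groth.Agent.S15582
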