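import Groth.Statements.S15583
import Groth.Agent.Lib.RInv29.Diag

set_option autoImplicit false
universe u v
open RInv

namespace Groth.Agent.S15583

/-- Let `A` be a commutative ring with an involution `lam` whose fixed ring `B` is local, let `ε = ±1`,
and let `h` be an invertible `n × n` matrix over `A` that is `(ε, lam)`-hermitian: `h` equals `ε`
times the transpose of `lam` applied entrywise to `h`. If `lam` is not the identity modulo the
Jacobson radical of `A`, or `ε ≠ -1` modulo that radical, or `n` is odd, then `h` is congruent to a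
diagonal matrix: there is an invertible `v` with `(lam v)ᵀ h v` diagonal. -/
theorem result (B : Type u) (A : Type v) [CommRing B] [CommRing A]
    [Algebra B A] (lam : A ≃+* A) (hlam : Function.Involutive lam) (hB : RInv.IsFixedRing B A lam)
    [IsLocalRing B] (n : ℕ) (ε : A) (hε : ε = 1 ∨ ε = -1) (h : Matrix (Fin n) (Fin n) A)
    (hh : IsUnit h) (herm : ε • (h.map lam).transpose = h)
    (hcase : (∃ a : A, lam a - a ∉ Ring.jacobson A) ∨ ε + 1 ∉ Ring.jacobson A ∨ Odd n) :
    ∃ v : Matrix (Fin n) (Fin n) A, IsUnit v ∧
      ∃ d : Fin n → A, (v.map lam).transpose * h * v = Matrix.diagonal d := by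
  have hε2 : ε * ε = 1 := by rcases hε with rfl | rfl <;> ring
  have hlε : lam ε = ε := by rcases hε with rfl | rfl <;> simp
  have hhd : IsUnit h.det := (Matrix.isUnit_iff_isUnit_det h).1 hh
  suffices hd : ∃ d, RInv29.HC lam h (Matrix.diagonal d) by
    obtain ⟨d, v, hv, hvd⟩ := hd
    exact ⟨v, (Matrix.isUnit_iff_isUnit_det v).2 hv, d, hvd⟩
  by_cases hc : ∃ a : A, lam a - a ∉ Ring.jacobson A
  · refine RInv29.exists_diagonal hlam hε2 (Or.inr fun m g hg hgh =>
      RInv29.hasUnit_of_herm hlam hB hε2 hlε (Or.inl hc) hg hgh) n h hhd herm ?_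
    cases n with
    | zero => exact Or.inl rfl
    | succ n => exact Or.inr (RInv29.hasUnit_of_herm hlam hB hε2 hlε (Or.inl hc) hhd herm)
  · have hid : ∀ a : A, lam a - a ∈ Ring.jacobson A := fun a => by_contra fun h' => hc ⟨a, h'⟩
    haveI := RInv29.isLocalRing_of_forall hlam hB hid
    refine RInv29.exists_diagonal hlam hε2 (Or.inl inferInstance) n h hhd herm ?_
    by_cases he : ε + 1 ∈ Ring.jacobson A
    · have hn : Odd n := (hcase.resolve_left hc).resolve_left fun h' => h' he
      exact Or.inr (RInv29.hasUnit_of_odd hid he hn hhd herm)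
    · have h1 : ε = 1 := hε.resolve_right fun h' => he (by rw [h', neg_add_cancel]; exact Submodule.zero_mem _)
      subst h1
      cases n with
      | zero => exact Or.inl rfl
      | succ n =>
        refine Or.inr (RInv29.hasUnit_of_herm hlam hB hε2 hlε (Or.inr ⟨rfl, ?_⟩) hhd herm)
        by_contra hu
        refine he (RInv29.mem_jacobson_iff.2 fun q hq => ?_)
        rw [IsLocalRing.eq_maximalIdeal hq, one_add_one_eq_two]
        exact (IsLocalRing.mem_maximalIdeal _).2 hu

end Groth.Agent.S15583
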