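import Groth.Statements.S15585
import Groth.Agent.Lib.RInv29.Branch

set_option autoImplicit false
universe u v
open RInv

namespace Groth.Agent.S15585

/-- For a local ring `S` (maximal ideal `m`, residue field `k`) and a quadratic etale `S`-algebra `R`,
the ring `R/mR` is a field that is a separable extension of `k` of degree 2, or else it is
isomorphic as a `k`-algebra to `k × k`. -/
theorem result (S : Type u) (R : Type v) [CommRing S]
    [CommRing R] [Algebra S R] [IsLocalRing S] (hq : RInv.IsQuadEtale S R) :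
    (IsField (R ⧸ (IsLocalRing.maximalIdeal S).map (algebraMap S R)) ∧
      Module.finrank (S ⧸ IsLocalRing.maximalIdeal S)
        (R ⧸ (IsLocalRing.maximalIdeal S).map (algebraMap S R)) = 2 ∧
      Algebra.IsSeparable (S ⧸ IsLocalRing.maximalIdeal S)
        (R ⧸ (IsLocalRing.maximalIdeal S).map (algebraMap S R))) ∨
    Nonempty ((R ⧸ (IsLocalRing.maximalIdeal S).map (algebraMap S R)) ≃ₐ[S ⧸ IsLocalRing.maximalIdeal S]
      ((S ⧸ IsLocalRing.maximalIdeal S) × (S ⧸ IsLocalRing.maximalIdeal S))) := by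
  classical
  haveI := RInv29.isReduced_quot hq
  have hfr := RInv29.finrank_quot hq
  obtain ⟨_, _, hu, _⟩ := hq
  set m := IsLocalRing.maximalIdeal S
  set I := m.map (algebraMap S R)
  letI : Field (S ⧸ m) := Ideal.Quotient.field _
  haveI : Module.Finite (S ⧸ m) (R ⧸ I) := Module.Finite.of_restrictScalars_finite S _ _
  haveI : Algebra.FormallyUnramified (S ⧸ m) (R ⧸ I) := Algebra.FormallyUnramified.of_restrictScalars S _ _
  replace hfr : Module.finrank (S ⧸ m) (R ⧸ I) = 2 := hfr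
  haveI : IsArtinianRing (R ⧸ I) := IsArtinianRing.of_finite (S ⧸ m) (R ⧸ I)
  haveI : Nontrivial (R ⧸ I) := Module.nontrivial_of_finrank_pos (R := S ⧸ m) (by rw [hfr]; norm_num)
  by_cases hloc : IsLocalRing (R ⧸ I)
  · left
    have hf : IsField (R ⧸ I) := IsArtinianRing.isField_of_isReduced_of_isLocalRing _
    refine ⟨hf, hfr, ?_⟩
    letI : Field (R ⧸ I) := hf.toField
    exact Algebra.FormallyUnramified.isSeparable _ _
  · right
    obtain ⟨P, hP⟩ := Ideal.exists_maximal (R ⧸ I)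
    obtain ⟨Q, hQ, hne⟩ : ∃ Q : Ideal (R ⧸ I), Q.IsMaximal ∧ Q ≠ P := by
      by_contra hall
      push Not at hall
      exact hloc (IsLocalRing.of_unique_max_ideal ⟨P, hP, hall⟩)
    haveI := hP
    haveI := hQ
    have hco : IsCoprime P Q := Ideal.isCoprime_iff_sup_eq.2 (hP.coprime_of_ne hQ hne.symm)
    let f : (R ⧸ I) →ₐ[S ⧸ m] ((R ⧸ I) ⧸ P) × ((R ⧸ I) ⧸ Q) :=
      (Ideal.Quotient.mkₐ (S ⧸ m) P).prod (Ideal.Quotient.mkₐ (S ⧸ m) Q)
    have hsurj : Function.Surjective f := fun z => by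
      obtain ⟨⟨a, ha⟩, ⟨b, hb⟩⟩ := And.intro (Ideal.Quotient.mk_surjective z.1) (Ideal.Quotient.mk_surjective z.2)
      obtain ⟨u, hu', v, hv, huv⟩ := Submodule.mem_sup.1 ((Ideal.isCoprime_iff_sup_eq.1 hco).symm ▸ Submodule.mem_top (x := (1 : R ⧸ I)))
      refine ⟨v * a + u * b, Prod.ext ?_ ?_⟩
      · show Ideal.Quotient.mk P (v * a + u * b) = z.1
        rw [← ha, Ideal.Quotient.eq, show v * a + u * b - a = u * (b - a) by linear_combination a * huv]
        exact P.mul_mem_right _ hu'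
      · show Ideal.Quotient.mk Q (v * a + u * b) = z.2
        rw [← hb, Ideal.Quotient.eq, show v * a + u * b - b = v * (a - b) by linear_combination b * huv]
        exact Q.mul_mem_right _ hv
    haveI : Module.Finite (S ⧸ m) ((R ⧸ I) ⧸ P) := inferInstance
    haveI : Nontrivial ((R ⧸ I) ⧸ P) := Ideal.Quotient.nontrivial_iff.2 hP.ne_top
    haveI : Nontrivial ((R ⧸ I) ⧸ Q) := Ideal.Quotient.nontrivial_iff.2 hQ.ne_top
    have h1 : 0 < Module.finrank (S ⧸ m) ((R ⧸ I) ⧸ P) := Module.finrank_pos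
    have h2 : 0 < Module.finrank (S ⧸ m) ((R ⧸ I) ⧸ Q) := Module.finrank_pos
    have h3 := f.toLinearMap.finrank_range_add_finrank_ker
    rw [LinearMap.range_eq_top.2 hsurj, finrank_top, Module.finrank_prod, hfr] at h3
    have hker : LinearMap.ker f.toLinearMap = ⊥ := Submodule.finrank_eq_zero.1 (by omega)
    let eP := (Algebra.ofId (S ⧸ m) ((R ⧸ I) ⧸ P))
    have bP : Function.Bijective (algebraMap (S ⧸ m) ((R ⧸ I) ⧸ P)) :=
      Algebra.finrank_eq_one_iff_bijective_algebraMap.1 (by omega) |> id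
    have bQ : Function.Bijective (algebraMap (S ⧸ m) ((R ⧸ I) ⧸ Q)) :=
      Algebra.finrank_eq_one_iff_bijective_algebraMap.1 (by omega) |> id
    exact ⟨(AlgEquiv.ofBijective f ⟨LinearMap.ker_eq_bot.1 hker, hsurj⟩).trans
      (AlgEquiv.prodCongr (AlgEquiv.ofBijective (Algebra.ofId _ _) bP).symm (AlgEquiv.ofBijective (Algebra.ofId _ _) bQ).symm)⟩

end Groth.Agent.S15585
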