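import Groth.Statements.S15589
import Groth.Agent.Lib.RInv29.Branch

set_option autoImplicit false
universe u v
open scoped TensorProduct
open RInv

namespace Groth.Agent.S15589

/-- Let `R` be a commutative ring with an involution `lam` and fixed ring `S`, `W ⊆ Spec S` the branch
locus (primes `p` with `S_p ⊗_S R` not quadratic etale over `S_p`), `I` its vanishing ideal and `J =
rad(IR)`. Then `Spec(R/J) → Spec(S/I)` is a homeomorphism; if `2` is a unit of `S`, the ring map
`S/I → R/J` is moreover bijective, so the reduced preimage of the branch locus maps isomorphically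
onto it. Affine-local form of the statement for a good quotient of schemes by an involution (the
hypothesis `I ≤ J ∩ S` holds automatically and only serves to write down the map). -/
theorem result (S : Type u) (R : Type v) [CommRing S] [CommRing R]
    [Algebra S R] (lam : R ≃+* R) (hlam : Function.Involutive lam) (hS : RInv.IsFixedRing S R lam)
    (W : Set (PrimeSpectrum S))
    (hW : W = {p : PrimeSpectrum S | ¬ RInv.IsQuadEtale (Localization.AtPrime p.asIdeal) (Localization.AtPrime p.asIdeal ⊗[S] R)})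
    (J : Ideal R) (hJ : J = ((PrimeSpectrum.vanishingIdeal W).map (algebraMap S R)).radical)
    (hIJ : PrimeSpectrum.vanishingIdeal W ≤ J.comap (algebraMap S R)) :
    IsHomeomorph (PrimeSpectrum.comap (Ideal.quotientMap J (algebraMap S R) hIJ)) ∧
      (IsUnit (2 : S) → Function.Bijective (Ideal.quotientMap J (algebraMap S R) hIJ)) := by
  subst hW
  set W := {p : PrimeSpectrum S | ¬ RInv.IsQuadEtale (Localization.AtPrime p.asIdeal) (Localization.AtPrime p.asIdeal ⊗[S] R)}
  set Iv := PrimeSpectrum.vanishingIdeal W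
  haveI := RInv29.isIntegral hlam hS
  have hzero : ∀ p : PrimeSpectrum S, Iv ≤ p.asIdeal → p ∈ W := by
    intro p hp
    have hcl : IsClosed W := by
      show IsClosed {p : PrimeSpectrum S | _}
      rw [RInv29.branch_eq_zeroLocus hlam hS]; exact PrimeSpectrum.isClosed_zeroLocus _
    have : p ∈ PrimeSpectrum.zeroLocus (Iv : Set S) := hp
    rwa [PrimeSpectrum.zeroLocus_vanishingIdeal_eq_closure, hcl.closure_eq] at this
  have hWq : ∀ p ∈ W, ∀ q : Ideal R, q.IsPrime → q.comap (algebraMap S R) = p.asIdeal → ∀ r, lam r - r ∈ q :=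
    fun p hp => (RInv29.not_isQuadEtale_iff hlam hS p.asIdeal).1 hp
  have hint : (Ideal.quotientMap J (algebraMap S R) hIJ).IsIntegral := fun x => by
    obtain ⟨y, rfl⟩ := Ideal.Quotient.mk_surjective x
    obtain ⟨P, hPm, hP⟩ := Algebra.IsIntegral.isIntegral (R := S) y
    refine ⟨P.map (Ideal.Quotient.mk Iv), hPm.map _, ?_⟩
    rw [Polynomial.eval₂_map, Ideal.quotientMap_comp_mk, ← Polynomial.hom_eval₂, hP, map_zero]
  set g := PrimeSpectrum.comap (Ideal.quotientMap J (algebraMap S R) hIJ)
  have hinj : Function.Injective g := by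
    intro x y hxy
    have h1 := congrArg (fun z => (PrimeSpectrum.comap (Ideal.Quotient.mk Iv) z).asIdeal) hxy
    have e : ∀ z : PrimeSpectrum (R ⧸ J), (PrimeSpectrum.comap (Ideal.Quotient.mk Iv) (g z)).asIdeal =
        (z.asIdeal.comap (Ideal.Quotient.mk J)).comap (algebraMap S R) := fun z => by
      show (z.asIdeal.comap _).comap _ = _
      rw [Ideal.comap_comap, Ideal.comap_comap, Ideal.quotientMap_comp_mk]
    rw [e, e] at h1
    have hJle : ∀ z : PrimeSpectrum (R ⧸ J), Iv.map (algebraMap S R) ≤ z.asIdeal.comap (Ideal.Quotient.mk J) :=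
      fun z r hr => by
        have hrJ : r ∈ J := hJ ▸ Ideal.le_radical hr
        rw [Ideal.mem_comap, Ideal.Quotient.eq_zero_iff_mem.2 hrJ]
        exact zero_mem _
    exact PrimeSpectrum.ext (Ideal.comap_injective_of_surjective _ Ideal.Quotient.mk_surjective
      (RInv29.over_unique hlam hS _ _ h1
        fun r => RInv29.sub_mem_of_le hlam hS _ (hJle y) r))
  have hlift : ∀ p : PrimeSpectrum S, Iv ≤ p.asIdeal →
      ∃ q : Ideal R, q.IsPrime ∧ J ≤ q ∧ q.comap (algebraMap S R) = p.asIdeal := fun p hp => by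
    obtain ⟨q, hq, hqp⟩ := RInv29.exists_over hlam hS p.asIdeal
    refine ⟨q, hq, ?_, hqp⟩
    rw [hJ, hq.radical_le_iff, Ideal.map_le_iff_le_comap, hqp]
    exact hp
  have hsurj : Function.Surjective g := by
    intro P
    obtain ⟨q, hq, hJq, hqp⟩ := hlift (PrimeSpectrum.comap (Ideal.Quotient.mk Iv) P) fun s hs => by
      show Ideal.Quotient.mk Iv s ∈ P.asIdeal
      rw [Ideal.Quotient.eq_zero_iff_mem.2 hs]
      exact zero_mem _
    refine ⟨⟨q.map (Ideal.Quotient.mk J), Ideal.map_isPrime_of_surjective Ideal.Quotient.mk_surjective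
      (by rwa [Ideal.mk_ker])⟩, PrimeSpectrum.comap_injective_of_surjective _ Ideal.Quotient.mk_surjective (PrimeSpectrum.ext ?_)⟩
    show ((q.map (Ideal.Quotient.mk J)).comap _).comap _ = _
    rw [Ideal.comap_comap, Ideal.quotientMap_comp_mk, ← Ideal.comap_comap,
      Ideal.comap_map_of_surjective _ Ideal.Quotient.mk_surjective, ← RingHom.ker_eq_comap_bot, Ideal.mk_ker,
      sup_eq_left.2 hJq, hqp]
  refine ⟨⟨PrimeSpectrum.continuous_comap _, ?_, ⟨hinj, hsurj⟩⟩, fun h2 => ?_⟩
  · have hcl : IsClosedMap g := PrimeSpectrum.isClosedMap_comap_of_isIntegral _ hint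
    intro U hU
    have h1 := hcl _ hU.isClosed_compl
    rw [Set.image_compl_eq ⟨hinj, hsurj⟩] at h1
    simpa using h1.isOpen_compl
  constructor
  · rw [injective_iff_map_eq_zero]
    intro a ha
    obtain ⟨s, rfl⟩ := Ideal.Quotient.mk_surjective a
    rw [Ideal.quotientMap_mk, Ideal.Quotient.eq_zero_iff_mem] at ha
    rw [Ideal.Quotient.eq_zero_iff_mem, PrimeSpectrum.mem_vanishingIdeal]
    intro p hp
    obtain ⟨q, hq, hJq, hqp⟩ := hlift p fun s hs => (PrimeSpectrum.mem_vanishingIdeal _ _).1 hs p hp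
    rw [← hqp]
    exact hJq ha
  · intro x
    obtain ⟨r, rfl⟩ := Ideal.Quotient.mk_surjective x
    obtain ⟨w, hw⟩ := h2.exists_left_inv
    obtain ⟨s, hs⟩ := (hS.2 (algebraMap S R w * (r + lam r))).1 (by
      rw [map_mul, RInv29.lam_algebraMap hS, map_add, hlam, add_comm])
    refine ⟨Ideal.Quotient.mk _ s, ?_⟩
    rw [Ideal.quotientMap_mk, Ideal.Quotient.eq, hs]
    have hw' : algebraMap S R w * 2 = 1 := by
      have := congrArg (algebraMap S R) hw
      rwa [map_mul, map_one, map_ofNat] at this
    rw [show algebraMap S R w * (r + lam r) - r = algebraMap S R w * (lam r - r) by linear_combination r * hw']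
    refine Ideal.mul_mem_left _ _ ?_
    rw [hJ, Ideal.radical_eq_sInf, Submodule.mem_sInf]
    rintro q ⟨hle, hq⟩
    exact RInv29.sub_mem_of_le hlam hS q hle r

end Groth.Agent.S15589
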