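import Groth.Statements.S15590
import Mathlib

set_option autoImplicit false
universe u v
open CAlg

namespace Groth.Agent.S15590

/-- Let A → B be an injective homomorphism of commutative rings which makes B a finite flat A-module,
and suppose B is a Dedekind domain (Noetherian, integrally closed, of Krull dimension at most one; a
field is allowed). Then A is a Dedekind domain. -/
theorem result (A : Type u) (B : Type v)
    [CommRing A] [CommRing B] [Algebra A B] [IsDedekindDomain B]
    (hinj : Function.Injective (algebraMap A B)) [Module.Finite A B] [Module.Flat A B] :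
    IsDedekindDomain A := by
  have : IsDomain A := hinj.isDomain
  have : FaithfulSMul A B := (faithfulSMul_iff_algebraMap_injective A B).2 hinj
  have hint : Algebra.IsIntegral A B := Algebra.IsIntegral.of_finite A B
  have hff : Module.FaithfullyFlat A B := by
    refine ⟨fun m hm htop => ?_⟩
    obtain ⟨Q, -, hQ, hQm⟩ := Ideal.exists_ideal_over_prime_of_isIntegral m (⊥ : Ideal B)
      (by rw [Ideal.comap_bot_of_injective _ hinj]; exact bot_le)
    refine hQ.ne_top (eq_top_iff.2 fun x _ => ?_)
    have hx : x ∈ (m • ⊤ : Submodule A B) := by rw [htop]; trivial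
    refine Submodule.smul_induction_on hx (fun a ha z _ => ?_) (fun a b ha hb => add_mem ha hb)
    rw [Algebra.smul_def]
    exact Ideal.mul_mem_right _ _ (by rw [← hQm] at ha; exact ha)
  have hc : ∀ I : Ideal A, (I.map (algebraMap A B)).comap (algebraMap A B) = I := fun I =>
    I.comap_map_eq_self_of_faithfullyFlat
  have : IsNoetherianRing A := by
    rw [isNoetherianRing_iff, isNoetherian_iff', wellFoundedGT_iff_monotone_chain_condition]
    intro c
    obtain ⟨N, hN⟩ := monotone_stabilizes_iff_noetherian.2 (inferInstance : IsNoetherian B B)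
      ⟨fun i => Ideal.map (algebraMap A B) (c i), fun i j h => Ideal.map_mono (c.monotone h)⟩
    refine ⟨N, fun i hi => ?_⟩
    have h' : Ideal.map (algebraMap A B) (c N) = Ideal.map (algebraMap A B) (c i) := hN i hi
    rw [← hc (c N), h', hc]
  have hdim : Ring.DimensionLEOne A := by
    refine ⟨fun {p} hp0 hp => ?_⟩
    obtain ⟨Q, -, hQ, hQp⟩ := Ideal.exists_ideal_over_prime_of_isIntegral p (⊥ : Ideal B)
      (by rw [Ideal.comap_bot_of_injective _ hinj]; exact bot_le)
    have hQ0 : Q ≠ ⊥ := fun h => hp0 (by rw [← hQp, h, Ideal.comap_bot_of_injective _ hinj])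
    have := hQ.isMaximal hQ0
    rw [← hQp]
    exact Ideal.isMaximal_comap_of_isIntegral_of_isMaximal Q
  refine (isDedekindDomain_iff (A := A) (FractionRing A)).2 ⟨inferInstance, inferInstance, hdim, ?_⟩
  intro x hx
  obtain ⟨a, b, hb, rfl⟩ := IsFractionRing.div_surjective A x
  have hb0 : b ≠ 0 := nonZeroDivisors.ne_zero hb
  let L := FractionRing B
  let g : FractionRing A →ₐ[A] L := IsFractionRing.liftAlgHom (g := Algebra.ofId A L) (by
    show Function.Injective (algebraMap A L)
    rw [IsScalarTower.algebraMap_eq A B L]
    exact (IsFractionRing.injective B L).comp hinj)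
  have hgx : IsIntegral B (g (algebraMap A _ a / algebraMap A _ b)) := (hx.map g).tower_top
  obtain ⟨y, hy⟩ := IsIntegrallyClosed.isIntegral_iff.1 hgx
  have hby : algebraMap A B a = algebraMap A B b * y := by
    apply IsFractionRing.injective B L
    rw [map_mul, hy, map_div₀, AlgHom.commutes, AlgHom.commutes, ← IsScalarTower.algebraMap_apply,
      ← IsScalarTower.algebraMap_apply, mul_div_cancel₀]
    rw [IsScalarTower.algebraMap_apply A B L, Ne, map_eq_zero_iff _ (IsFractionRing.injective B L),
      map_eq_zero_iff _ hinj]
    exact hb0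
  have : a ∈ Ideal.span {b} := by
    rw [← hc (Ideal.span {b}), Ideal.mem_comap, hby]
    exact Ideal.mul_mem_right _ _ (Ideal.mem_map_of_mem _ (Ideal.mem_span_singleton_self b))
  obtain ⟨c, rfl⟩ := Ideal.mem_span_singleton'.1 this
  refine ⟨c, ?_⟩
  rw [map_mul, mul_div_cancel_right₀]
  rw [Ne, map_eq_zero_iff _ (IsFractionRing.injective A _)]
  exact hb0

end Groth.Agent.S15590
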