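import Groth.Statements.S15593
import Groth.Agent.Lib.AbRigid.FlatFibre
import Groth.Agent.Lib.AbRigid.SmoothGI
import Groth.Agent.Lib.AbRigid.Maximal
import Mathlib.AlgebraicGeometry.Morphisms.LocalFlatDescent
import Mathlib.AlgebraicGeometry.Morphisms.FlatDescent

set_option autoImplicit false
universe u
open CategoryTheory MonoidalCategory CartesianMonoidalCategory MonObj GrpObj AlgebraicGeometry
open AlgGrp

namespace Groth.Agent.S15593

open CategoryTheory.Limits

/-- Let k be a field and f : G ⟶ G' a homomorphism of smooth k-group schemes of finite type. If f is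
surjective (on underlying topological spaces) and has trivial kernel, that is, f is a monomorphism,
then f is an isomorphism. No flatness of f is assumed. -/
theorem result (k : Type u) [Field k]
    (G G' : Over (Spec (CommRingCat.of k))) [GrpObj G] [GrpObj G']
    [Smooth G.hom] [QuasiCompact G.hom] [Smooth G'.hom] [QuasiCompact G'.hom]
    (f : G ⟶ G') [IsMonHom f] [Mono f] [Surjective f.left] : IsIso f := by
  haveI : IsReduced G'.left := AbRigid.isReduced_of_smooth_over_field G'.hom
  haveI : Flat f.left := AbRigid.flat_of_surjective_of_isReduced G G' f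
  haveI : IsSeparated G'.hom := AbRigid.isSeparated_of_grpObj G'
  haveI : QuasiCompact (f.left ≫ G'.hom) := by rw [Over.w]; infer_instance
  haveI : QuasiCompact f.left := QuasiCompact.of_comp f.left G'.hom
  have hN : AlgGrp.IsKernel (η[G]) f := by
    refine IsPullback.of_isLimit' ⟨?_⟩ (PullbackCone.IsLimit.mk _ (fun s => s.snd) ?_ ?_ ?_)
    · rw [IsMonHom.one_hom, toUnit_unique (toUnit _) (𝟙 _), Category.id_comp]
    · intro s
      rw [← cancel_mono f, Category.assoc, IsMonHom.one_hom]
      exact s.condition.symm
    · intro s; rw [toUnit_unique (toUnit _) (𝟙 _), Category.comp_id]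
    · intro s m _ h2
      rw [← h2, toUnit_unique (toUnit _) (𝟙 _), Category.comp_id]
  haveI hi : IsIso f.left := AbRigid.of_kernel f η[G] hN (MorphismProperty.isomorphisms Scheme)
    (show IsIso (𝟙_ (Over (Spec (CommRingCat.of k)))).hom from inferInstanceAs (IsIso (𝟙 (Spec (CommRingCat.of k)))))
  haveI : IsIso ((Over.forget _).map f) := hi
  exact isIso_of_reflects_iso f (Over.forget _)

end Groth.Agent.S15593
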