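import Groth.Statements.S15595
import Groth.Agent.Lib.RegLoc.Unramified
import Mathlib

set_option autoImplicit false
universe u
open TensorProduct
attribute [local instance] RingHom.ker_isPrime
open CAlg

namespace Groth.Agent.S15595
open TensorProduct

/-- Let k ⊆ K be a field extension and A a Noetherian local k-algebra with residue field k, recorded by
a k-algebra map π : A → k whose kernel is the maximal ideal. Let π_K : K ⊗_k A → K be the induced
K-algebra map, m' its kernel, and A' the localization of K ⊗_k A at m'. Assume A' is Noetherian.
Then A is a regular local ring if and only if A' is a regular local ring. -/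
theorem result (k K A : Type u) [Field k] [Field K]
    [Algebra k K] [CommRing A] [Algebra k A] [IsLocalRing A] [IsNoetherianRing A]
    (π : A →ₐ[k] k) (hπ : RingHom.ker π = IsLocalRing.maximalIdeal A)
    [IsNoetherianRing (Localization.AtPrime (RingHom.ker
      ((Algebra.TensorProduct.rid k K K).toAlgHom.comp (Algebra.TensorProduct.map (AlgHom.id K K) π))))] :
    IsRegularLocalRing A ↔ IsRegularLocalRing (Localization.AtPrime (RingHom.ker
      ((Algebra.TensorProduct.rid k K K).toAlgHom.comp (Algebra.TensorProduct.map (AlgHom.id K K) π)))) := by
  set ε := (Algebra.TensorProduct.rid k K K).toAlgHom.comp (Algebra.TensorProduct.map (AlgHom.id K K) π)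
  let T := K ⊗[k] A
  set S := Localization.AtPrime (RingHom.ker ε)
  set m := IsLocalRing.maximalIdeal A
  letI : Algebra A T := Algebra.TensorProduct.rightAlgebra
  haveI : Module.Flat A T :=
    Module.Flat.of_linearEquiv (Algebra.TensorProduct.commRight k A K).symm.toLinearEquiv
  haveI : Module.Flat A S := Module.Flat.trans A T S
  have hsurj : Function.Surjective π := fun c => ⟨algebraMap k A c, π.commutes c⟩
  have hmap : m.map (algebraMap A T) = RingHom.ker ε := by
    have h1 : (RingHom.ker π).map (Algebra.TensorProduct.includeRight : A →ₐ[k] T) =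
        RingHom.ker (Algebra.TensorProduct.map (AlgHom.id k K) π) :=
      (Algebra.TensorProduct.lTensor_ker π hsurj).symm
    rw [← hπ]
    refine h1.trans ?_
    ext z
    show (Algebra.TensorProduct.map (AlgHom.id k K) π) z = 0 ↔
      (Algebra.TensorProduct.rid k K K) (Algebra.TensorProduct.map (AlgHom.id K K) π z) = 0
    rw [map_eq_zero_iff _ (Algebra.TensorProduct.rid k K K).injective]
    rfl
  have hmS : m.map (algebraMap A S) = IsLocalRing.maximalIdeal S := by
    rw [IsScalarTower.algebraMap_eq A T S, ← Ideal.map_map, hmap, Localization.AtPrime.map_eq_maximalIdeal]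
  haveI : IsLocalHom (algebraMap A S) := ⟨fun a ha => by
    by_contra hu
    have : algebraMap A S a ∈ IsLocalRing.maximalIdeal S := hmS ▸ Ideal.mem_map_of_mem _ hu
    exact this ha⟩
  exact Groth.Agent.RegLoc.isRegularLocalRing_iff_of_map_maximalIdeal hmS

end Groth.Agent.S15595
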