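import Groth.Statements.S15596
import Groth.Agent.Lib.AffGrp19.Centre
import Groth.Agent.Lib.OrbitTop19.Base

set_option autoImplicit false
universe u
open CategoryTheory MonoidalCategory CartesianMonoidalCategory MonObj GrpObj AlgebraicGeometry
open AlgGrp

namespace Groth.Agent.S15596

/-- Let k be an algebraically closed field, H a smooth k-group scheme of finite type, and U a dense open
subset of H. Then every k-rational point h of H is of the form u₂ · u₁⁻¹ for k-rational points u₁,
u₂ of H whose underlying points lie in U. -/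
theorem result (k : Type u) [Field k] [IsAlgClosed k]
    (H : Over (Spec (CommRingCat.of k))) [GrpObj H] [Smooth H.hom] [QuasiCompact H.hom]
    (U : H.left.Opens) (hU : Dense (U : Set ↥H.left)) (h : 𝟙_ (Over (Spec (CommRingCat.of k))) ⟶ H) :
    ∃ u₁ u₂ : 𝟙_ (Over (Spec (CommRingCat.of k))) ⟶ H,
      u₁.left.base (IsLocalRing.closedPoint k) ∈ U ∧ u₂.left.base (IsLocalRing.closedPoint k) ∈ U ∧
        h = u₂ * u₁⁻¹ := by
  let e := Groth.Agent.OrbitTop19.trIso (Groth.Agent.AffGrp19.regAction H) h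
  haveI : IsIso e.hom.left := inferInstanceAs (IsIso ((Over.forget _).map e.hom))
  have hd : Dense ((e.hom.left ⁻¹ᵁ U : H.left.Opens) : Set H.left) :=
    hU.preimage e.hom.left.homeomorph.isOpenMap
  haveI : LocallyOfFiniteType H.hom := inferInstance
  haveI : JacobsonSpace H.left := LocallyOfFiniteType.jacobsonSpace H.hom
  haveI : Nonempty H.left := ⟨η[H].left.base (IsLocalRing.closedPoint k)⟩
  obtain ⟨x, ⟨hx1, hx2⟩, hxc⟩ : (((U : Set H.left) ∩ (e.hom.left ⁻¹ᵁ U : H.left.Opens)) ∩ closedPoints H.left).Nonempty :=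
    nonempty_inter_closedPoints ((hU.inter_of_isOpen_left hd U.isOpen).nonempty.mono (fun _ hz => ⟨hz.1, hz.2⟩))
      ((U.isOpen.inter (e.hom.left ⁻¹ᵁ U).isOpen).isLocallyClosed)
  let u : 𝟙_ (Over (Spec (CommRingCat.of k))) ⟶ H :=
    Over.homMk (pointOfClosedPoint H.hom x hxc) (pointOfClosedPoint_comp H.hom x hxc)
  have hu : u.left.base (IsLocalRing.closedPoint k) = x := pointOfClosedPoint_apply H.hom x hxc _
  have hhu : u ≫ e.hom = h * u := by
    show u ≫ Groth.Agent.OrbitTop19.tr (Groth.Agent.AffGrp19.regAction H) h = _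
    rw [Groth.Agent.OrbitTop19.comp_tr]
    show CartesianMonoidalCategory.lift _ u ≫ μ[H] = _
    rw [Hom.mul_def]
    congr 2
  refine ⟨u, h * u, hu ▸ hx1, ?_, by rw [mul_inv_cancel_right]⟩
  rw [← hhu]
  show e.hom.left (u.left.base (IsLocalRing.closedPoint k)) ∈ U
  rw [hu]
  exact hx2

end Groth.Agent.S15596
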