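import Groth.Statements.S15597
import Groth.Agent.Lib.UnipPts20.Torus

set_option autoImplicit false
universe u v
open HopfRep

namespace Groth.Agent.S15597

/-- Let k be an algebraically closed field and G = Spec A a smooth connected affine k-group, that is, A
is a finitely generated commutative Hopf algebra over k which is reduced and has no idempotents
other than 0 and 1; commutativity of G is not assumed. If every k-point of G is semisimple, in the
sense that it acts semisimply in every finite-dimensional A-comodule, then G is a torus: A is
spanned over k by its group-like elements. (The published statement is over an arbitrary field, with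
the hypothesis on the points over an algebraic closure; this row is the algebraically closed case.) -/
theorem result (k : Type u) (A : Type v) [Field k]
    [IsAlgClosed k] [CommRing A] [HopfAlgebra k A] [Algebra.FiniteType k A] [IsReduced A]
    (hconn : ∀ e : A, IsIdempotentElem e → e = 0 ∨ e = 1)
    (hss : ∀ (g : A →ₐ[k] k) (V : Type v) [AddCommGroup V] [Module k V] [HopfRep.Comod k A V],
      Module.Finite k V → Module.End.IsSemisimple (HopfRep.Comod.act k A V g)) :
    HopfRep.IsDiagonalizable k A := by
  haveI : Small.{u} A := by
    obtain ⟨n, f, hf⟩ := Algebra.FiniteType.iff_quotient_mvPolynomial''.1 (inferInstance : Algebra.FiniteType k A)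
    exact small_of_surjective hf
  let e : Shrink.{u} A ≃ₐ[k] A := Shrink.algEquiv k A
  letI := Groth.Agent.UnipPts20.hopfT e
  haveI : Algebra.FiniteType k (Shrink.{u} A) := Algebra.FiniteType.equiv inferInstance e.symm
  haveI : IsReduced (Shrink.{u} A) := isReduced_of_injective e e.injective
  refine Groth.Agent.UnipPts20.isDiagonalizable_of_transport e
    (Groth.Agent.UnipPts20.isDiagonalizable_of_semisimple (Shrink.{u} A) (fun x hx => ?_) ?_)
  · rcases hconn (e x) (hx.map e) with h | h
    · exact Or.inl (e.injective (by rw [h, map_zero]))
    · exact Or.inr (e.injective (by rw [h, map_one]))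
  · intro g V _ _ _ hV
    exact Groth.Agent.UnipPts20.isSemisimple_act_transport e g
      (fun W _ _ _ hW => hss (g.comp e.symm.toAlgHom) W hW) V hV

end Groth.Agent.S15597
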