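import Groth.Statements.S15598
import Groth.Agent.Lib.OrbitTop19.Flat
import Groth.Agent.Lib.OrbitTop19.Smooth
import Groth.Agent.Lib.PtsDetect19.Basic
import Mathlib.AlgebraicGeometry.AlgClosed.Basic

set_option autoImplicit false
universe u
open CategoryTheory MonoidalCategory CartesianMonoidalCategory MonObj GrpObj AlgebraicGeometry
open AlgGrp

namespace Groth.Agent.S15598

set_option backward.isDefEq.respectTransparency.types false
open Groth.Agent.OrbitTop19


/-- Let k be an algebraically closed field, G a k-group scheme of finite type, and X a smooth connected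
k-scheme with an action of G. Suppose that for some k-point x₀ of X the orbit map g ↦ g · x₀ from G
to X is surjective, and that the stabilizer of x₀, a subgroup scheme H ⟶ G whose points are exactly
the points g of G with g · x₀ = x₀, is connected. Then G is connected. (Stated over an algebraically
closed field, to which the general case reduces since a k-group scheme of finite type is connected
exactly when it is geometrically connected.) -/
theorem result (k : Type u) [Field k] [IsAlgClosed k]
    (G X : Over (Spec (CommRingCat.of k))) [GrpObj G] [LocallyOfFiniteType G.hom] [QuasiCompact G.hom]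
    [Smooth X.hom] [ConnectedSpace ↥X.left] (a : AlgGrp.Action G X) (x₀ : 𝟙_ (Over (Spec (CommRingCat.of k))) ⟶ X)
    (hsurj : Surjective (a.orbitMap x₀).left)
    (H : Over (Spec (CommRingCat.of k))) [GrpObj H] (i : H ⟶ G) [IsMonHom i] [Mono i]
    (hH : ∀ (T : Over (Spec (CommRingCat.of k))) (g : T ⟶ G), (∃ h : T ⟶ H, h ≫ i = g) ↔ g ≫ a.orbitMap x₀ = toUnit T ≫ x₀)
    [ConnectedSpace ↥H.left] : ConnectedSpace ↥G.left := by
  let p₀ := IsLocalRing.closedPoint k
  let f := a.orbitMap x₀
  haveI : Surjective f.left := hsurj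
  haveI : LocallyOfFiniteType X.hom := inferInstance
  haveI : JacobsonSpace X.left := LocallyOfFiniteType.jacobsonSpace (Y := Spec _) X.hom
  haveI : JacobsonSpace G.left := LocallyOfFiniteType.jacobsonSpace (Y := Spec _) G.hom
  haveI : IsReduced X.left := isReduced_of_smooth X.hom
  haveI : IsLocallyNoetherian X.left := LocallyOfFiniteType.isLocallyNoetherian X.hom
  haveI : CompactSpace G.left := (quasiCompact_iff_compactSpace G.hom).1 inferInstance
  haveI : CompactSpace X.left := Function.Surjective.compactSpace f.left.continuous f.left.surjective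
  haveI : QuasiSeparatedSpace X.left := inferInstance
  haveI : LocallyOfFiniteType (f.left ≫ X.hom) := by rw [Over.w f]; infer_instance
  haveI : LocallyOfFiniteType f.left := locallyOfFiniteType_of_comp _ X.hom
  haveI := VarDim.locallyOfFinitePresentation_of_locallyNoetherian f.left
  haveI : QuasiSeparated X.hom := (quasiSeparated_iff_quasiSeparatedSpace X.hom).2 inferInstance
  haveI : QuasiCompact f.left := by
    haveI : QuasiCompact (f.left ≫ X.hom) := by rw [Over.w f]; infer_instance
    exact QuasiCompact.of_comp _ X.hom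
  have he := orbitMap_equivariant a x₀
  have hf : ∀ c, x₀ ≫ tr a c = c ≫ f := fun c => by
    show _ = c ≫ lift (𝟙 G) (toUnit G ≫ x₀) ≫ a.act
    rw [comp_tr, ← Category.assoc c, comp_lift, Category.comp_id, ← Category.assoc c, comp_toUnit,
      Subsingleton.elim (toUnit (𝟙_ _)) (𝟙 _), Category.id_comp, Category.id_comp]
  have hclpt : ∀ p : 𝟙_ (Over (Spec (CommRingCat.of k))) ⟶ X, IsClosed {p.left p₀} := fun p =>
    (pointEquivClosedPoint X.hom ⟨p.left, Over.w p⟩).2
  have hlift : ∀ p : 𝟙_ (Over (Spec (CommRingCat.of k))) ⟶ X, ∃ c, p = c ≫ f := by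
    intro p
    obtain ⟨g, hg, hgc⟩ := nonempty_inter_closedPoints (Z := f.left ⁻¹' {p.left p₀})
      (f.left.surjective _) ((hclpt p).preimage f.left.continuous).isLocallyClosed
    obtain ⟨c, hc⟩ := OrbitTop19.exists_point G g hgc
    refine ⟨c, Over.OverMorphism.ext (ext_of_apply_closedPoint_eq X.hom (Over.w p) (Over.w (c ≫ f)) ?_)⟩
    refine Eq.trans hg.symm ?_
    rw [← hc]
    exact (apply_comp_left c f _ rfl _)
  have htr : IsTransitive a := by
    intro p q
    obtain ⟨c, rfl⟩ := hlift p
    obtain ⟨d, rfl⟩ := hlift q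
    refine ⟨d * c⁻¹, ?_⟩
    rw [← hf c, ← hf d, comp_tr, comp_tr, comp_tr]
    simp only [Subsingleton.elim (toUnit (𝟙_ (Over (Spec (CommRingCat.of k))))) (𝟙 _), Category.id_comp]
    rw [← AlgGrpBasic19.act_mul, inv_mul_cancel_right]
  haveI : Nonempty G.left := ⟨(η[G]).left p₀⟩
  haveI : Nonempty X.left := ⟨x₀.left p₀⟩
  obtain ⟨W, hW, hne, hWf⟩ := exists_open_flat f.left
  obtain ⟨hflat, -⟩ := flat_surjective (a := mulAction G) (b := a) (f := f) htr he hW hne hWf
  haveI := hflat
  have hopen : IsOpenMap f.left := f.left.isOpenMap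
  have hfib₀ : _root_.IsPreconnected (f.left ⁻¹' {x₀.left p₀}) := by
    suffices h : f.left ⁻¹' {x₀.left p₀} = Set.range i.left from h ▸ isPreconnected_range i.left.continuous
    ext g
    constructor
    · intro hg
      let W' : Over (Spec (CommRingCat.of k)) := Over.mk (G.left.fromSpecResidueField g ≫ G.hom)
      let u : W' ⟶ G := Over.homMk (G.left.fromSpecResidueField g) rfl
      haveI : IsClosedImmersion x₀.left := (haveI : Subsingleton ↥(Spec (CommRingCat.of k)) := inferInstance; isClosedImmersion_of_comp_eq_id (Y := Spec (CommRingCat.of k)) X.hom x₀.left (Over.w x₀))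
      haveI : IsReduced W'.left := inferInstanceAs (IsReduced (Spec _))
      obtain ⟨l, hl⟩ := PtsDetect19.lift_of_range (W := W') (u ≫ f) x₀ (by
        rintro _ ⟨w, rfl⟩
        refine ⟨p₀, ?_⟩
        rw [← apply_comp_left u f _ rfl w, show u.left w = g from Scheme.fromSpecResidueField_apply g w]
        exact hg.symm)
      obtain ⟨h, hh⟩ := (hH W' u).2 (by rw [← hl, Subsingleton.elim l (toUnit W')])
      refine ⟨h.left (IsLocalRing.closedPoint _), ?_⟩
      rw [apply_comp_left h i u hh]
      exact Scheme.fromSpecResidueField_apply g _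
    · rintro ⟨z, rfl⟩
      show f.left (i.left z) = _
      have h1 := (hH H i).1 ⟨𝟙 H, Category.id_comp i⟩
      rw [apply_comp_left i f _ h1 z, ← apply_comp_left (toUnit H) x₀ _ rfl z]
      exact congrArg x₀.left (Subsingleton.elim (α := ↥(Spec (CommRingCat.of k))) _ _)
  have hfib : ∀ y : X.left, IsClosed {y} → _root_.IsPreconnected (f.left ⁻¹' {y}) := by
    intro y hy
    obtain ⟨p, rfl⟩ := OrbitTop19.exists_point X y hy
    obtain ⟨c, rfl⟩ := hlift p
    haveI : IsIso (tr (mulAction G) c).left :=
      inferInstanceAs (IsIso ((Over.forget _).map (trIso (mulAction G) c).hom))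
    have e : ∀ g, f.left ((tr (mulAction G) c).left g) = (tr a c).left (f.left g) := fun g =>
      (apply_comp_left (tr (mulAction G) c) f _ (tr_equivariant he c) g).trans
        (apply_comp_left f (tr a c) _ rfl g).symm
    have e0 : (tr a c).left (x₀.left p₀) = (c ≫ f).left p₀ := apply_comp_left x₀ (tr a c) _ (hf c) _
    suffices h : f.left ⁻¹' {(c ≫ f).left p₀} = (tr (mulAction G) c).left '' (f.left ⁻¹' {x₀.left p₀}) from
      h ▸ hfib₀.image _ (tr (mulAction G) c).left.continuous.continuousOn
    ext g
    constructor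
    · intro hg
      refine ⟨(tr (mulAction G) c⁻¹).left g, ?_, ?_⟩
      · show f.left _ = x₀.left p₀
        have e' := (apply_comp_left (tr (mulAction G) c⁻¹) f _ (tr_equivariant he c⁻¹) g).trans
          (apply_comp_left f (tr a c⁻¹) _ rfl g).symm
        rw [e', show f.left g = (tr a c).left (x₀.left p₀) from hg.trans e0.symm,
          apply_comp_left (tr a c) (tr a c⁻¹) _ (tr_inv a c) _]
        rfl
      · rw [apply_comp_left (tr (mulAction G) c⁻¹) (tr (mulAction G) c) _ (inv_tr (mulAction G) c) g]
        rfl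
    · rintro ⟨g, hg, rfl⟩
      show f.left _ = _
      rw [e g, show f.left g = x₀.left p₀ from hg, e0]
  rw [connectedSpace_iff_clopen]
  refine ⟨inferInstance, fun s hs => ?_⟩
  by_contra hne'
  push_neg at hne'
  have hdis : f.left '' s ∩ f.left '' sᶜ = ∅ := by
    by_contra hc
    obtain ⟨y, ⟨⟨g, hg, hgy⟩, ⟨g', hg', hgy'⟩⟩, hy⟩ := nonempty_inter_closedPoints
      (Set.nonempty_iff_ne_empty.2 hc) ((hopen _ hs.isOpen).inter (hopen _ hs.isClosed.isOpen_compl)).isLocallyClosed
    exact hg' ((hfib y hy).subset_isClopen hs ⟨g, hgy, hg⟩ hgy')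
  have hcompl : (f.left '' s)ᶜ = f.left '' sᶜ := by
    ext y
    constructor
    · intro hy
      obtain ⟨g, rfl⟩ := f.left.surjective y
      exact ⟨g, fun h => hy ⟨g, h, rfl⟩, rfl⟩
    · intro hy hy'
      exact (Set.eq_empty_iff_forall_notMem.1 hdis y) ⟨hy', hy⟩
  rcases isClopen_iff.1 (⟨isOpen_compl_iff.1 (hcompl ▸ hopen _ hs.isClosed.isOpen_compl), hopen _ hs.isOpen⟩ :
      IsClopen (f.left '' s)) with h | h
  · exact hne'.1.ne_empty (Set.image_eq_empty.1 h)
  · exact hne'.2 (Set.eq_univ_of_forall fun g => by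
      by_contra hg
      have : f.left g ∈ (f.left '' s)ᶜ := hcompl ▸ ⟨g, hg, rfl⟩
      exact this (h ▸ trivial))

end Groth.Agent.S15598
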