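import Groth.Statements.S15599
import Groth.Agent.Lib.TorPts21.UnipRadical
-- import your own Groth.Agent.* helpers here

set_option autoImplicit false
universe u
open CategoryTheory MonoidalCategory CartesianMonoidalCategory MonObj GrpObj AlgebraicGeometry
open AGF

namespace Groth.Agent.S15599

/-- Let k be an algebraically closed field and G a smooth affine k-group scheme, not necessarily
connected, whose unipotent radical is trivial: every smooth connected normal closed subgroup scheme
of G containing no non-trivial subtorus is trivial. Let N ⟶ G be a smooth closed normal subgroup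
scheme, not necessarily connected. Then N has the same property: every smooth connected closed
subgroup scheme of N which is normal in N and contains no non-trivial subtorus is trivial.
Reductivity, in this sense allowing disconnected groups, passes to smooth normal subgroups. (The
published statement is over an arbitrary field, with reductivity defined after extension to an
algebraic closure; this row is the algebraically closed case.) -/
theorem result (k : Type u) [Field k] [IsAlgClosed k]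
    (G N : Over (Spec (CommRingCat.of k))) [GrpObj G] [GrpObj N] [IsAffine G.left] [Smooth G.hom]
    (j : N ⟶ G) [IsMonHom j] (hj : IsClosedImmersion j.left) [Smooth N.hom] (hN : AlgGrp.IsNormalHom j)
    (hG : ∀ (U : Over (Spec (CommRingCat.of k))) [GrpObj U] (i : U ⟶ G) [IsMonHom i], IsClosedImmersion i.left → Smooth U.hom →
        ConnectedSpace ↥U.left → AlgGrp.IsNormalHom i → Red.HasNoSubtorus k U → Red.IsTrivialGrp U) :
    ∀ (U : Over (Spec (CommRingCat.of k))) [GrpObj U] (i : U ⟶ N) [IsMonHom i], IsClosedImmersion i.left → Smooth U.hom →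
        ConnectedSpace ↥U.left → AlgGrp.IsNormalHom i → Red.HasNoSubtorus k U → Red.IsTrivialGrp U := by
  intro U _ i _ hic hUs hUn hinorm hUns
  haveI := hj
  haveI := hic
  haveI := hUs
  haveI := hUn
  haveI : IsAffine N.left := isAffine_of_isAffineHom j.left
  haveI : IsAffine U.left := isAffine_of_isAffineHom i.left
  haveI : Mono j := Over.mono_of_mono_left j
  obtain ⟨N₀, _, j₀, hj₀, hj₀o, hN₀c⟩ := BorelFix21.exists_identity_component N
  haveI := hj₀
  haveI := hj₀o
  haveI := InvRing21.isClosedImmersion_of_open_subgroup j₀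
  haveI : Smooth N₀.hom := InvRing21.smooth_of_openImmersion j₀
  haveI : IsAffine N₀.left := isAffine_of_isAffineHom j₀.left
  haveI : Mono j₀ := Over.mono_of_mono_left j₀
  -- homomorphisms from connected groups land in the identity component
  have hlift : ∀ {W : Over (Spec (CommRingCat.of k))} [GrpObj W] [ConnectedSpace W.left] (w : W ⟶ N) [IsMonHom w],
      ∃ f : W ⟶ N₀, f ≫ j₀ = w := fun {W} _ _ w _ => by
    have hclo : IsClopen (Set.range j₀.left) :=
      ⟨j₀.left.isClosedEmbedding.isClosed_range, j₀.left.isOpenEmbedding.isOpen_range⟩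
    have hone : w.left (InvRing21.img (1 : VecGrp.pt k k ⟶ W)) ∈ Set.range j₀.left := by
      refine ⟨InvRing21.img (1 : VecGrp.pt k k ⟶ N₀), ?_⟩
      show InvRing21.img ((1 : VecGrp.pt k k ⟶ N₀) ≫ j₀) = InvRing21.img ((1 : VecGrp.pt k k ⟶ W) ≫ w)
      rw [MonObj.one_comp, MonObj.one_comp]
    have hr := (isPreconnected_range w.left.continuous).subset_isClopen hclo ⟨_, ⟨_, rfl⟩, hone⟩
    refine ⟨Over.homMk (IsOpenImmersion.lift j₀.left w.left hr) ?_, Over.OverMorphism.ext (IsOpenImmersion.lift_fac _ _ _)⟩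
    show _ ≫ N₀.hom = _
    rw [← Over.w j₀, IsOpenImmersion.lift_fac_assoc, Over.w]
  obtain ⟨V, _, v, hV, hVall⟩ := TorPts21.exists_unipotentRadical_connected N₀
  obtain ⟨hvm, hvc, hvnorm, hvs, -, hvn, hvns, -⟩ := (TorPts21.isUnipotentRadical_iff v).1 hV
  haveI := hvm
  haveI := hvc
  haveI := hvs
  haveI := hvn
  haveI : IsAffine V.left := isAffine_of_isAffineHom v.left
  -- the subgroup lies in the radical
  obtain ⟨i₀, hi₀⟩ := hlift i
  haveI : IsMonHom i₀ := BorelFix21.isMonHom_of_comp j₀ i₀ (hi₀ ▸ ‹IsMonHom i›)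
  haveI : IsClosedImmersion (i₀ ≫ j₀).left := hi₀ ▸ hic
  haveI : IsClosedImmersion i₀.left := IsClosedImmersion.of_comp i₀.left j₀.left
  have hi₀n : AlgGrp.IsNormalHom i₀ := fun X g x => by
    obtain ⟨x', hx'⟩ := hinorm X (g ≫ j₀) x
    refine ⟨x', (cancel_mono j₀).1 ?_⟩
    rw [MonObj.mul_comp, MonObj.mul_comp, GrpObj.inv_comp, Category.assoc, hi₀, Category.assoc, hi₀, hx']
  obtain ⟨f, hf⟩ := hVall U i₀ inferInstance inferInstance inferInstance hi₀n hUns
  -- conjugation by the points of the big group preserves the identity component and its radical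
  have hconj : ∀ (g : VecGrp.pt k k ⟶ G) (y : VecGrp.pt k k ⟶ N₀), ∃ y' : VecGrp.pt k k ⟶ N₀,
      y' ≫ j₀ ≫ j = g * (y ≫ j₀ ≫ j) * g⁻¹ := fun g y => by
    obtain ⟨g₀, hg₀⟩ := TorPts21.exists_gpt g
    obtain ⟨c, hc⟩ := hN _ (toUnit N₀ ≫ g₀) j₀
    haveI : IsMonHom c := by
      haveI := TorPts21.isMonHom_conjBy g₀ (j₀ ≫ j)
      exact BorelFix21.isMonHom_of_comp j c (by rw [← hc]; exact ‹IsMonHom (AGF.conjBy g₀ (j₀ ≫ j))›)
    obtain ⟨c₀, hc₀⟩ := hlift c
    refine ⟨y ≫ c₀, ?_⟩
    rw [Category.assoc, ← Category.assoc c₀, hc₀, ← hc, ← show toUnit (VecGrp.pt k k) ≫ g₀ = g from hg₀]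
    exact TorPts21.comp_conjBy g₀ (j₀ ≫ j) y
  haveI : IsClosedImmersion (v ≫ j₀ ≫ j).left := by rw [Over.comp_left, Over.comp_left]; infer_instance
  haveI : Mono (j₀ ≫ j) := mono_comp j₀ j
  have hVn : AlgGrp.IsNormalHom (v ≫ j₀ ≫ j) := by
    refine TorPts21.isNormalHom_of_pts _ fun g x => ?_
    obtain ⟨g₀, hg₀⟩ := TorPts21.exists_gpt g
    obtain ⟨c, hc⟩ := hN _ (toUnit V ≫ g₀) (v ≫ j₀)
    have hcj : c ≫ j = AGF.conjBy g₀ (v ≫ j₀ ≫ j) := by rw [← hc, Category.assoc]
    haveI := TorPts21.isMonHom_conjBy g₀ (v ≫ j₀ ≫ j)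
    haveI := TorPts21.isClosedImmersion_conjBy g₀ (v ≫ j₀ ≫ j)
    haveI : IsMonHom c := BorelFix21.isMonHom_of_comp j c (hcj ▸ inferInstance)
    obtain ⟨c₀, hc₀⟩ := hlift c
    have hc₀j : c₀ ≫ j₀ ≫ j = AGF.conjBy g₀ (v ≫ j₀ ≫ j) := by rw [← Category.assoc, hc₀, hcj]
    haveI : IsMonHom c₀ := BorelFix21.isMonHom_of_comp (j₀ ≫ j) c₀ (hc₀j ▸ inferInstance)
    haveI : IsClosedImmersion (c₀ ≫ j₀ ≫ j).left := hc₀j ▸ inferInstance
    haveI : IsClosedImmersion (j₀ ≫ j).left := by rw [Over.comp_left]; infer_instance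
    haveI : IsClosedImmersion c₀.left := IsClosedImmersion.of_comp c₀.left (j₀ ≫ j).left
    have hc₀n : AlgGrp.IsNormalHom c₀ := by
      refine TorPts21.isNormalHom_of_pts c₀ fun h y => ?_
      obtain ⟨h', hh'⟩ := hconj (toUnit _ ≫ g₀)⁻¹ h
      obtain ⟨y', hy'⟩ := hvnorm _ h' y
      refine ⟨y', (cancel_mono (j₀ ≫ j)).1 ?_⟩
      have hy'' := congrArg (fun z => z ≫ j₀ ≫ j) hy'
      simp only [MonObj.mul_comp, GrpObj.inv_comp, Category.assoc, hh'] at hy''
      simp only [MonObj.mul_comp, GrpObj.inv_comp, Category.assoc, hc₀j, TorPts21.comp_conjBy, ← hy'']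
      group
    obtain ⟨a, ha⟩ := hVall V c₀ inferInstance inferInstance inferInstance hc₀n hvns
    refine ⟨x ≫ a, ?_⟩
    rw [Category.assoc, ← Category.assoc a, ha, hc₀j, TorPts21.comp_conjBy,
      show toUnit (VecGrp.pt k k) ≫ g₀ = g from hg₀]
  haveI : IsIso V.hom := hG V (v ≫ j₀ ≫ j) inferInstance hvs hvn hVn hvns
  haveI : IsClosedImmersion f.left := by
    haveI : IsClosedImmersion (f ≫ v).left := hf ▸ ‹IsClosedImmersion i₀.left›
    exact IsClosedImmersion.of_comp f.left v.left
  haveI : Mono U.hom := by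
    rw [← Over.w f]
    exact mono_comp _ _
  haveI : IsSplitEpi U.hom := IsSplitEpi.mk' ⟨η[U].left, Over.w η[U]⟩
  exact isIso_of_mono_of_isSplitEpi U.hom

end Groth.Agent.S15599
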