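import Groth.Statements.S15602
import Groth.Agent.Lib.GaLaw19.Basic

set_option autoImplicit false
universe u
open CategoryTheory MonoidalCategory CartesianMonoidalCategory MonObj GrpObj AlgebraicGeometry
open AlgGrp

namespace Groth.Agent.S15602

set_option backward.isDefEq.respectTransparency.types false
open Groth.Agent

section
variable {k : Type u} [Field k]

local notation "S₀" => Spec (CommRingCat.of k)

private noncomputable abbrev spec (R : Type u) [CommRing R] [Algebra k R] : Over S₀ :=
  Over.mk (Spec.map (CommRingCat.ofHom (algebraMap k R)))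

private noncomputable def pt {R : Type u} [CommRing R] [Algebra k R] (r : R) : spec (k := k) R ⟶ Red.Ga S₀ :=
  GaPts.ptOfFn ((Scheme.ΓSpecIso (CommRingCat.of R)).inv r)

private noncomputable def val {R : Type u} [CommRing R] [Algebra k R] (x : spec (k := k) R ⟶ Red.Ga S₀) : R :=
  (Scheme.ΓSpecIso (CommRingCat.of R)).hom (Red.gaFn x)

private lemma val_pt {R : Type u} [CommRing R] [Algebra k R] (r : R) : val (pt (k := k) r) = r := by
  rw [val, pt, GaPts.gaFn_ptOfFn, ← CommRingCat.comp_apply, Iso.inv_hom_id]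
  rfl

private lemma pt_val {R : Type u} [CommRing R] [Algebra k R] (x : spec (k := k) R ⟶ Red.Ga S₀) : pt (val x) = x := by
  apply GaPts.gaFn_injective
  show Red.gaFn (pt (val x)) = Red.gaFn x
  rw [pt, GaPts.gaFn_ptOfFn, val, ← CommRingCat.comp_apply, Iso.hom_inv_id]
  rfl

private noncomputable def specHom {R R' : Type u} [CommRing R] [Algebra k R] [CommRing R'] [Algebra k R']
    (φ : R →ₐ[k] R') : spec (k := k) R' ⟶ spec R :=
  Over.homMk (Spec.map (CommRingCat.ofHom φ.toRingHom)) (by
    show Spec.map (CommRingCat.ofHom φ.toRingHom) ≫ Spec.map (CommRingCat.ofHom (algebraMap k R)) = Spec.map _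
    rw [← Spec.map_comp, ← CommRingCat.ofHom_comp]
    exact congrArg (fun r => Spec.map (CommRingCat.ofHom r)) φ.comp_algebraMap)

private lemma val_comp {R R' : Type u} [CommRing R] [Algebra k R] [CommRing R'] [Algebra k R']
    (φ : R →ₐ[k] R') (x : spec (k := k) R ⟶ Red.Ga S₀) : val (specHom φ ≫ x) = φ (val x) := by
  rw [val, val, GaPts.gaFn_comp]
  exact ConcreteCategory.congr_hom (Scheme.ΓSpecIso_naturality (CommRingCat.ofHom φ.toRingHom)) (Red.gaFn x)

/-- The unit. -/
private noncomputable def unitVal (h : GrpObj (Red.Ga S₀)) : k :=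
  letI := h
  val (toUnit (spec (k := k) k) ≫ η[Red.Ga S₀])

private lemma val_one (h : GrpObj (Red.Ga S₀)) {R : Type u} [CommRing R] [Algebra k R] :
    letI := h
    val (1 : spec (k := k) R ⟶ Red.Ga S₀) = algebraMap k R (unitVal h) := by
  letI := h
  rw [Hom.one_def, ← comp_toUnit (specHom (Algebra.ofId k R)), Category.assoc, val_comp,
    Algebra.ofId_apply, unitVal]

private noncomputable def op (h : GrpObj (Red.Ga S₀)) (R : Type u) [CommRing R] [Algebra k R] (a b : R) : R :=
  letI := h
  val (pt (k := k) a * pt b)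

private lemma op_nat (h : GrpObj (Red.Ga S₀)) (R R' : Type u) [CommRing R] [Algebra k R] [CommRing R']
    [Algebra k R'] (φ : R →ₐ[k] R') (a b : R) : φ (op h R a b) = op h R' (φ a) (φ b) := by
  letI := h
  rw [op, op, ← val_comp, MonObj.comp_mul]
  congr 2 <;> rw [← pt_val (specHom φ ≫ pt (k := k) _), val_comp, val_pt]

private lemma op_right (h : GrpObj (Red.Ga S₀)) (R : Type u) [CommRing R] [Algebra k R] (a : R) :
    op h R a (algebraMap k R (unitVal h)) = a := by
  letI := h
  rw [op, ← val_one h, pt_val, _root_.mul_one, val_pt]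

private lemma op_left (h : GrpObj (Red.Ga S₀)) (R : Type u) [CommRing R] [Algebra k R] (b : R) :
    op h R (algebraMap k R (unitVal h)) b = b := by
  letI := h
  rw [op, ← val_one h, pt_val, _root_.one_mul, val_pt]

private lemma op_surj (h : GrpObj (Red.Ga S₀)) (R : Type u) [CommRing R] [Algebra k R] (b : R) :
    Function.Surjective (fun a => op h R a b) := fun x => by
  letI := h
  refine ⟨val (pt (k := k) x * (pt b)⁻¹), ?_⟩
  simp only [op, pt_val]
  rw [inv_mul_cancel_right, val_pt]

private lemma op_eq' (h : GrpObj (Red.Ga S₀)) (R : Type u) [CommRing R] [Algebra k R] (a b : R) :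
    op h R a b = a + b - algebraMap k R (unitVal h) :=
  GaLaw19.op_eq (fun R i j => @op k _ h R i j) (op_nat h) (unitVal h) (op_right h) (op_left h) (op_surj h) R a b

end


/-- Additive case. Let k be a field and consider the affine line over k, taken here as the underlying
k-scheme of the additive group. Any two structures of k-group scheme on it with the same unit
section have the same multiplication; in particular a group law on the affine line whose identity is
the origin is the usual addition. -/
theorem result (k : Type u) [Field k]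
    (h₁ h₂ : GrpObj (Red.Ga (Spec (CommRingCat.of k)))) (e : h₁.one = h₂.one) : h₁.mul = h₂.mul := by
  let P : Over (Spec (CommRingCat.of k)) := Red.Ga (Spec (CommRingCat.of k)) ⊗ Red.Ga (Spec (CommRingCat.of k))
  let R := Γ(P.left, ⊤)
  letI : Algebra k R := ((Scheme.ΓSpecIso (CommRingCat.of k)).inv ≫ P.hom.appTop).hom.toAlgebra
  have hu : unitVal h₁ = unitVal h₂ := congrArg (fun o => val (toUnit (spec (k := k) k) ≫ o)) e
  let q : P ⟶ spec (k := k) R := Over.homMk P.left.toSpecΓ (by
    show P.left.toSpecΓ ≫ Spec.map (CommRingCat.ofHom (algebraMap k R)) = P.hom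
    have : CommRingCat.ofHom (algebraMap k R) = (Scheme.ΓSpecIso (CommRingCat.of k)).inv ≫ P.hom.appTop := rfl
    rw [this, Spec.map_comp, ← Category.assoc, ← Scheme.toSpecΓ_naturality, Category.assoc,
      toSpecΓ_SpecMap_ΓSpecIso_inv (CommRingCat.of k), Category.comp_id])
  have hq : ∀ x : P ⟶ Red.Ga (Spec (CommRingCat.of k)), ∃ r : R, q ≫ pt r = x := fun x => by
    refine ⟨Red.gaFn x, GaPts.gaFn_injective ?_⟩
    show Red.gaFn (q ≫ pt (Red.gaFn x)) = Red.gaFn x
    rw [GaPts.gaFn_comp, pt, GaPts.gaFn_ptOfFn]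
    show P.left.toSpecΓ.appTop _ = _
    rw [Scheme.toSpecΓ_appTop, ← CommRingCat.comp_apply]
    erw [Iso.inv_hom_id]
    rfl
  obtain ⟨r₁, hr₁⟩ := hq (fst _ _)
  obtain ⟨r₂, hr₂⟩ := hq (snd _ _)
  have key : ∀ h : GrpObj (Red.Ga (Spec (CommRingCat.of k))),
      h.mul = q ≫ pt (r₁ + r₂ - algebraMap k R (unitVal h)) := by
    intro h
    letI := h
    rw [← op_eq' h, op, pt_val, MonObj.comp_mul, hr₁, hr₂, Hom.mul_def, lift_fst_snd, Category.id_comp]
  rw [key h₁, key h₂, hu]

end Groth.Agent.S15602
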