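import Groth.Statements.S15603
import Groth.Agent.Lib.GmLaw19.Basic

set_option autoImplicit false
universe u
open CategoryTheory MonoidalCategory CartesianMonoidalCategory MonObj GrpObj AlgebraicGeometry
open AlgGrp

namespace Groth.Agent.S15603

set_option backward.isDefEq.respectTransparency.types false
open Groth.Agent

section
variable {k : Type u} [Field k]

local notation "S₀" => Spec (CommRingCat.of k)

private noncomputable abbrev spec (R : Type u) [CommRing R] [Algebra k R] : Over S₀ :=
  Over.mk (Spec.map (CommRingCat.ofHom (algebraMap k R)))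

private noncomputable def gm {R : Type u} [CommRing R] : Rˣ →* (Γ(Spec (CommRingCat.of R), ⊤))ˣ :=
  Units.map (Scheme.ΓSpecIso (CommRingCat.of R)).inv.hom.toMonoidHom

private noncomputable def mg {R : Type u} [CommRing R] : (Γ(Spec (CommRingCat.of R), ⊤))ˣ →* Rˣ :=
  Units.map (Scheme.ΓSpecIso (CommRingCat.of R)).hom.hom.toMonoidHom

private noncomputable def pt {R : Type u} [CommRing R] [Algebra k R] (r : Rˣ) : spec (k := k) R ⟶ Red.Gm S₀ :=
  GmPts.ptOfUnit (gm r)

private noncomputable def val {R : Type u} [CommRing R] [Algebra k R] (x : spec (k := k) R ⟶ Red.Gm S₀) : Rˣ :=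
  mg (GmPts.unitOfPt x)

private lemma val_pt {R : Type u} [CommRing R] [Algebra k R] (r : Rˣ) : val (pt (k := k) r) = r := by
  rw [val, pt, GmPts.unitOfPt_ptOfUnit]
  refine Units.ext ?_
  exact ConcreteCategory.congr_hom (Scheme.ΓSpecIso (CommRingCat.of R)).inv_hom_id (r : R)

private lemma pt_val {R : Type u} [CommRing R] [Algebra k R] (x : spec (k := k) R ⟶ Red.Gm S₀) : pt (val x) = x := by
  have : gm (mg (GmPts.unitOfPt x)) = GmPts.unitOfPt x :=
    Units.ext (by exact ConcreteCategory.congr_hom (Scheme.ΓSpecIso (CommRingCat.of R)).hom_inv_id _)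
  rw [pt, val, this, GmPts.ptOfUnit_unitOfPt]

private noncomputable def specHom {R R' : Type u} [CommRing R] [Algebra k R] [CommRing R'] [Algebra k R']
    (φ : R →ₐ[k] R') : spec (k := k) R' ⟶ spec R :=
  Over.homMk (Spec.map (CommRingCat.ofHom φ.toRingHom)) (by
    show Spec.map (CommRingCat.ofHom φ.toRingHom) ≫ Spec.map (CommRingCat.ofHom (algebraMap k R)) = Spec.map _
    rw [← Spec.map_comp, ← CommRingCat.ofHom_comp]
    exact congrArg (fun r => Spec.map (CommRingCat.ofHom r)) φ.comp_algebraMap)

private lemma val_comp {R R' : Type u} [CommRing R] [Algebra k R] [CommRing R'] [Algebra k R']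
    (φ : R →ₐ[k] R') (x : spec (k := k) R ⟶ Red.Gm S₀) :
    val (specHom φ ≫ x) = Units.map φ.toRingHom.toMonoidHom (val x) := by
  rw [val, val, GmPts.unitOfPt_comp]
  refine Units.ext ?_
  exact ConcreteCategory.congr_hom (Scheme.ΓSpecIso_naturality (CommRingCat.ofHom φ.toRingHom)) _

/-- The unit. -/
private noncomputable def unitVal (h : GrpObj (Red.Gm S₀)) : kˣ :=
  letI := h
  val (toUnit (spec (k := k) k) ≫ η[Red.Gm S₀])

private lemma val_one (h : GrpObj (Red.Gm S₀)) {R : Type u} [CommRing R] [Algebra k R] :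
    letI := h
    val (1 : spec (k := k) R ⟶ Red.Gm S₀) = Units.map (algebraMap k R).toMonoidHom (unitVal h) := by
  letI := h
  rw [Hom.one_def, ← comp_toUnit (specHom (Algebra.ofId k R)), Category.assoc, val_comp,
    unitVal]
  rfl

private noncomputable def op (h : GrpObj (Red.Gm S₀)) (R : Type u) [CommRing R] [Algebra k R] (a b : Rˣ) : Rˣ :=
  letI := h
  val (pt (k := k) a * pt b)

private lemma op_nat (h : GrpObj (Red.Gm S₀)) (R R' : Type u) [CommRing R] [Algebra k R] [CommRing R']
    [Algebra k R'] (φ : R →ₐ[k] R') (a b : Rˣ) : Units.map φ.toRingHom.toMonoidHom (op h R a b) =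
      op h R' (Units.map φ.toRingHom.toMonoidHom a) (Units.map φ.toRingHom.toMonoidHom b) := by
  letI := h
  rw [op, op, ← val_comp, MonObj.comp_mul]
  congr 2 <;> rw [← pt_val (specHom φ ≫ pt (k := k) _), val_comp, val_pt]

private lemma op_right (h : GrpObj (Red.Gm S₀)) (R : Type u) [CommRing R] [Algebra k R] (a : Rˣ) :
    op h R a (Units.map (algebraMap k R).toMonoidHom (unitVal h)) = a := by
  letI := h
  rw [op, ← val_one h, pt_val, _root_.mul_one, val_pt]

private lemma op_left (h : GrpObj (Red.Gm S₀)) (R : Type u) [CommRing R] [Algebra k R] (b : Rˣ) :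
    op h R (Units.map (algebraMap k R).toMonoidHom (unitVal h)) b = b := by
  letI := h
  rw [op, ← val_one h, pt_val, _root_.one_mul, val_pt]

private lemma op_eq' (h : GrpObj (Red.Gm S₀)) (R : Type u) [CommRing R] [Algebra k R] (a b : Rˣ) :
    op h R a b = a * b * Units.map (algebraMap k R).toMonoidHom (unitVal h)⁻¹ :=
  GmLaw19.op_eq (fun R i j => @op k _ h R i j) (op_nat h) (unitVal h) (op_right h) (op_left h) R a b

end


/-- Multiplicative case. Let k be a field and consider the affine line minus the origin over k, taken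
here as the underlying k-scheme of the multiplicative group. Any two structures of k-group scheme on
it with the same unit section have the same multiplication; in particular a group law on the
punctured line whose identity is the point 1 is the usual multiplication. -/
theorem result (k : Type u) [Field k]
    (h₁ h₂ : GrpObj (Red.Gm (Spec (CommRingCat.of k)))) (e : h₁.one = h₂.one) : h₁.mul = h₂.mul := by
  let P : Over (Spec (CommRingCat.of k)) := Red.Gm (Spec (CommRingCat.of k)) ⊗ Red.Gm (Spec (CommRingCat.of k))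
  let R := Γ(P.left, ⊤)
  letI : Algebra k R := ((Scheme.ΓSpecIso (CommRingCat.of k)).inv ≫ P.hom.appTop).hom.toAlgebra
  have hu : unitVal h₁ = unitVal h₂ := congrArg (fun o => val (toUnit (spec (k := k) k) ≫ o)) e
  let q : P ⟶ spec (k := k) R := Over.homMk P.left.toSpecΓ (by
    show P.left.toSpecΓ ≫ Spec.map (CommRingCat.ofHom (algebraMap k R)) = P.hom
    have : CommRingCat.ofHom (algebraMap k R) = (Scheme.ΓSpecIso (CommRingCat.of k)).inv ≫ P.hom.appTop := rfl
    rw [this, Spec.map_comp, ← Category.assoc, ← Scheme.toSpecΓ_naturality, Category.assoc,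
      toSpecΓ_SpecMap_ΓSpecIso_inv (CommRingCat.of k), Category.comp_id])
  have hq : ∀ x : P ⟶ Red.Gm (Spec (CommRingCat.of k)), ∃ r : Rˣ, q ≫ pt r = x := fun x => by
    refine ⟨GmPts.unitOfPt x, ?_⟩
    rw [← GmPts.ptOfUnit_unitOfPt (q ≫ pt (GmPts.unitOfPt x)), GmPts.unitOfPt_comp, pt, GmPts.unitOfPt_ptOfUnit]
    refine (congrArg GmPts.ptOfUnit (Units.ext ?_)).trans (GmPts.ptOfUnit_unitOfPt x)
    show P.left.toSpecΓ.appTop _ = (GmPts.unitOfPt x : Γ(P.left, ⊤))
    rw [Scheme.toSpecΓ_appTop]
    exact ConcreteCategory.congr_hom (Scheme.ΓSpecIso Γ(P.left, ⊤)).inv_hom_id _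
  obtain ⟨r₁, hr₁⟩ := hq (fst _ _)
  obtain ⟨r₂, hr₂⟩ := hq (snd _ _)
  have key : ∀ h : GrpObj (Red.Gm (Spec (CommRingCat.of k))),
      h.mul = q ≫ pt (r₁ * r₂ * Units.map (algebraMap k R).toMonoidHom (unitVal h)⁻¹) := by
    intro h
    letI := h
    rw [← op_eq' h, op, pt_val, MonObj.comp_mul, hr₁, hr₂, Hom.mul_def, lift_fst_snd, Category.id_comp]
  rw [key h₁, key h₂, hu]

end Groth.Agent.S15603
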