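import Groth.Statements.S15604
import Groth.Agent.Lib.GrpSmooth19.Basic
import Groth.Agent.Lib.GrpImage19.Basic
import Groth.Agent.Lib.RedSep.Basic
import Groth.Agent.Lib.AbRigid.SmoothGI

set_option autoImplicit false
universe u
open CategoryTheory MonoidalCategory CartesianMonoidalCategory MonObj GrpObj AlgebraicGeometry
open AlgGrp

namespace Groth.Agent.S15604

open CategoryTheory.Limits

/-- Let k be a field and f : G ⟶ G' a homomorphism of k-group schemes of finite type, with G smooth over
k. The image of f is closed (not asserted here); with its reduced induced structure it is smooth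
over k: every reduced closed subscheme H of G' whose underlying set is the set-theoretic image of f
is smooth over k. -/
theorem result (k : Type u) [Field k]
    (G G' : Over (Spec (CommRingCat.of k))) [GrpObj G] [GrpObj G'] [Smooth G.hom] [QuasiCompact G.hom]
    [LocallyOfFiniteType G'.hom] [QuasiCompact G'.hom] (f : G ⟶ G') [IsMonHom f]
    (H : Scheme.{u}) (i : H ⟶ G'.left) [IsClosedImmersion i] [IsReduced H]
    (hH : Set.range i.base = Set.range f.left.base) : Smooth (i ≫ G'.hom) := by
  haveI : IsReduced G.left := AbRigid.isReduced_of_smooth_over_field G.hom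
  obtain ⟨q, hq⟩ := RedSepLib.exists_lift_of_range_subset f.left i hH.ge
  let H0 : Over (Spec (CommRingCat.of k)) := Over.mk (i ≫ G'.hom)
  let j : H0 ⟶ G' := Over.homMk i rfl
  let q0 : G ⟶ H0 := Over.homMk q (by show q ≫ i ≫ G'.hom = _; rw [reassoc_of% hq]; exact Over.w f)
  have hq0 : q0 ≫ j = f := Over.OverMorphism.ext hq
  haveI : IsClosedImmersion j.left := inferInstanceAs (IsClosedImmersion i)
  haveI : IsSeparated G'.hom := AbRigid.isSeparated_of_grpObj G'
  haveI : QuasiCompact (f.left ≫ G'.hom) := by rw [Over.w]; infer_instance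
  haveI : QuasiCompact f.left := QuasiCompact.of_comp f.left G'.hom
  haveI : Surjective q := ⟨fun p => by
    obtain ⟨g, hg⟩ := hH.le ⟨p, rfl⟩
    refine ⟨g, i.isClosedEmbedding.injective ?_⟩
    rw [← Scheme.Hom.comp_apply, hq]; exact hg⟩
  haveI : IsSchemeTheoreticallyDominant q0.left := by
    haveI : IsDominant q := inferInstance
    exact IsSchemeTheoreticallyDominant.of_isDominant q
  haveI : QuasiCompact q0.left := GrpImage19.quasiCompact_of_factor f j q0 hq0
  obtain ⟨_, -, -⟩ := GrpImage19.exists_grpObj f j q0 hq0
  haveI : LocallyOfFiniteType H0.hom := inferInstanceAs (LocallyOfFiniteType (i ≫ G'.hom))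
  let φ := Spec.map (CommRingCat.ofHom (algebraMap k (AlgebraicClosure k)))
  haveI : IsReduced (pullback G.hom φ) := AbRigid.isReduced_of_smooth_over_field (pullback.snd G.hom φ)
  let m : pullback G.hom φ ⟶ pullback H0.hom φ :=
    pullback.map G.hom φ H0.hom φ q0.left (𝟙 _) (𝟙 _) (by rw [Category.comp_id, Over.w]) (by simp)
  have sq : IsPullback (pullback.fst G.hom φ) m q0.left (pullback.fst H0.hom φ) := by
    refine IsPullback.of_bot ?_ ?_ (IsPullback.of_hasPullback H0.hom φ)
    · rw [show m ≫ pullback.snd H0.hom φ = pullback.snd G.hom φ by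
        simp only [m, pullback.map, pullback.lift_snd, Category.comp_id], Over.w q0]
      exact IsPullback.of_hasPullback G.hom φ
    · exact (pullback.lift_fst _ _ _).symm
  haveI : IsSchemeTheoreticallyDominant m := IsSchemeTheoreticallyDominant.of_isPullback sq
  haveI : QuasiCompact m := MorphismProperty.of_isPullback sq ‹QuasiCompact q0.left›
  haveI : IsReduced (pullback H0.hom φ) := IsSchemeTheoreticallyDominant.isReduced m
  exact GrpSmooth19.smooth_of_isReduced_baseChange H0 (AlgebraicClosure k)

end Groth.Agent.S15604
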