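import Groth.Statements.S15605
import Mathlib.RingTheory.Ideal.Quotient.Operations
import Mathlib.LinearAlgebra.TensorProduct.RightExactness
import Groth.Agent.Lib.RatPts.Basic
-- import your own Groth.Agent.* helpers here

set_option autoImplicit false
universe u
open TensorProduct
open AGF

namespace Groth.Agent.S15605

/-- Affine form. Let k be a field, A and A' finitely generated commutative k-algebras and S, S' sets of
k-algebra homomorphisms A → k, A' → k. The closure of a set of rational points of Spec A is cut out
by the intersection of their kernels. Compatibility of these closures with products: in A ⊗_k A',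
the intersection over (σ, σ') ∈ S × S' of the kernels of σ ⊗ σ' : A ⊗_k A' → k equals the ideal
generated by the images of ⋂_{σ} ker σ and of ⋂_{σ'} ker σ'. -/
theorem result (k A A' : Type u) [Field k] [CommRing A] [Algebra k A]
    [Algebra.FiniteType k A] [CommRing A'] [Algebra k A'] [Algebra.FiniteType k A']
    (S : Set (A →ₐ[k] k)) (S' : Set (A' →ₐ[k] k)) :
    (⨅ σ ∈ S, ⨅ σ' ∈ S', RingHom.ker ((Algebra.TensorProduct.lmul' (S := k) k).comp
        (Algebra.TensorProduct.map σ σ'))) =
      Ideal.map (Algebra.TensorProduct.includeLeft : A →ₐ[k] A ⊗[k] A') (⨅ σ ∈ S, RingHom.ker σ) ⊔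
        Ideal.map (Algebra.TensorProduct.includeRight : A' →ₐ[k] A ⊗[k] A') (⨅ σ' ∈ S', RingHom.ker σ') := by
  set I := ⨅ σ ∈ S, RingHom.ker σ with hI
  set I' := ⨅ σ' ∈ S', RingHom.ker σ' with hI'
  set iL : A →ₐ[k] A ⊗[k] A' := Algebra.TensorProduct.includeLeft
  set iR : A' →ₐ[k] A ⊗[k] A' := Algebra.TensorProduct.includeRight
  apply le_antisymm
  · intro z hz
    simp only [Ideal.mem_iInf, RingHom.mem_ker] at hz
    let q : A' →ₐ[k] A' ⧸ I' := Ideal.Quotient.mkₐ k I'
    let π : A ⊗[k] A' →ₐ[k] (A' ⧸ I') ⊗[k] A :=
      (Algebra.TensorProduct.comm k A (A' ⧸ I')).toAlgHom.comp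
        (Algebra.TensorProduct.map (AlgHom.id k A) q)
    have hker : RingHom.ker π = Ideal.map iR I' := by
      have h1 : RingHom.ker π = RingHom.ker (Algebra.TensorProduct.map (AlgHom.id k A) q) := by
        ext w
        simp [RingHom.mem_ker, π]
      rw [h1, Algebra.TensorProduct.lTensor_ker q Ideal.Quotient.mk_surjective,
        show RingHom.ker q = I' from Ideal.Quotient.mkₐ_ker k I']
    have hπ : Function.Surjective π := (Algebra.TensorProduct.comm k A (A' ⧸ I')).surjective.comp
      (LinearMap.lTensor_surjective A (g := q.toLinearMap) Ideal.Quotient.mk_surjective)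
    have hmem : π z ∈ Ideal.map (Algebra.TensorProduct.includeRight : A →ₐ[k] (A' ⧸ I') ⊗[k] A) I := by
      refine Groth.Agent.RatPts.mem_map_of_evalAt_eq_zero S _ fun σ hσ => ?_
      let w : A ⊗[k] A' →ₐ[k] A' := (Algebra.TensorProduct.lid k A').toAlgHom.comp
        (Algebra.TensorProduct.map σ (AlgHom.id k A'))
      have hw : w z ∈ I' := by
        simp only [I', Ideal.mem_iInf, RingHom.mem_ker]
        intro σ' hσ'
        have e : σ'.comp w = (Algebra.TensorProduct.lmul' (S := k) k).comp
            (Algebra.TensorProduct.map σ σ') := by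
          apply Algebra.TensorProduct.ext' fun a a' => ?_
          simp [w, smul_eq_mul]
        exact (DFunLike.congr_fun e z).trans (hz σ hσ σ' hσ')
      have e : ((Groth.Agent.RatPts.evalAt (A' ⧸ I') σ).restrictScalars k).comp π = q.comp w := by
        apply Algebra.TensorProduct.ext' fun a a' => ?_
        simp [π, w, q]
        exact (map_smul (Ideal.Quotient.mkₐ k I') _ _).symm
      exact (DFunLike.congr_fun e z).trans (Ideal.Quotient.eq_zero_iff_mem.mpr hw)
    have hmap : Ideal.map (Algebra.TensorProduct.includeRight : A →ₐ[k] (A' ⧸ I') ⊗[k] A) I =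
        Ideal.map π (Ideal.map iL I) := by
      rw [Ideal.map_mapₐ]
      congr 1
    rw [hmap, ← Ideal.mem_comap, Ideal.comap_map_of_surjective π hπ,
      show Ideal.comap π ⊥ = RingHom.ker π from rfl, hker] at hmem
    exact hmem
  · simp only [sup_le_iff, Ideal.map_le_iff_le_comap]
    constructor
    · intro a ha
      simp only [I, Ideal.mem_iInf, RingHom.mem_ker] at ha
      simp only [Ideal.mem_comap, Ideal.mem_iInf, RingHom.mem_ker]
      intro σ hσ σ' _
      simp [iL, ha σ hσ]
    · intro a ha
      simp only [I', Ideal.mem_iInf, RingHom.mem_ker] at ha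
      simp only [Ideal.mem_comap, Ideal.mem_iInf, RingHom.mem_ker]
      intro σ _ σ' hσ'
      simp [iR, ha σ' hσ']

end Groth.Agent.S15605
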