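import Groth.Statements.S15607
import Groth.Agent.Lib.GmIsog6.Descent
import Groth.Agent.Lib.HopfPts19.Scheme
import Groth.Agent.Lib.DiagGL.Chars
import Groth.Agent.Lib.MTRigid29.BaseChange
import Groth.Agent.Lib.GammaD.Split26

set_option autoImplicit false
universe u
open CategoryTheory MonoidalCategory CartesianMonoidalCategory MonObj GrpObj AlgebraicGeometry
open AlgGrp
set_option backward.isDefEq.respectTransparency.types false

namespace Groth.Agent.S15607

/-- Multiplicative case. Let k be a field, H a smooth connected k-group scheme, and f a homomorphism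
from H to the multiplicative group over k which is finite and surjective (an isogeny). Then H is
isomorphic, as a k-group scheme, to the multiplicative group: a smooth connected k-group isogenous
to the multiplicative group over k is the split one-dimensional torus. -/
theorem result (k : Type u) [Field k]
    (H : Over (Spec (CommRingCat.of k))) [GrpObj H] [Smooth H.hom] [ConnectedSpace ↥H.left]
    (f : H ⟶ Red.Gm (Spec (CommRingCat.of k))) [IsMonHom f] [IsFinite f.left] [Surjective f.left] :
    Nonempty (Grp.mk H ≅ Grp.mk (Red.Gm (Spec (CommRingCat.of k)))) := by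
  classical
  obtain ⟨δ⟩ := MTRigid29.nonempty_grpIso_of_chars (DiagGL.charsDS (Spec (CommRingCat.of k)) ℤ) (DiagGL.charsDiag k ℤ)
  haveI : IsIso δ.hom.hom.hom := ⟨δ.inv.hom.hom, by simp [← Grp.comp', ← Mon.comp_hom'], by simp [← Grp.comp', ← Mon.comp_hom']⟩
  haveI : IsIso δ.hom.hom.hom.left := inferInstanceAs (IsIso ((Over.forget _).map δ.hom.hom.hom))
  haveI : IsAffine (Red.diag k ℤ).left := inferInstanceAs (IsAffine (Spec _))
  haveI : IsAffine (Red.Gm (Spec (CommRingCat.of k))).left := IsAffine.of_isIso δ.hom.hom.hom.left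
  haveI : IsAffine H.left := isAffine_of_isAffineHom f.left
  obtain ⟨A, _, _, ⟨eA⟩⟩ := HopfPts19.exists_model H
  let e : Grp.mk (CoactBr.sp k A) ≅ Grp.mk H := eA
  haveI : IsIso e.hom.hom.hom := ⟨e.inv.hom.hom, by simp [← Grp.comp', ← Mon.comp_hom'], by simp [← Grp.comp', ← Mon.comp_hom']⟩
  haveI : IsIso e.hom.hom.hom.left := inferInstanceAs (IsIso ((Over.forget _).map e.hom.hom.hom))
  let g : CoactBr.sp k A ⟶ Red.diag k ℤ := e.hom.hom.hom ≫ f ≫ δ.hom.hom.hom
  haveI hgf : IsFinite g.left := by simp only [g, Over.comp_left]; infer_instance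
  haveI hgs : Surjective g.left := by simp only [g, Over.comp_left]; infer_instance
  -- the ring map
  obtain ⟨ψ, hψ⟩ := Spec.map_surjective (R := CommRingCat.of (MonoidAlgebra k (Multiplicative ℤ)))
    (S := CommRingCat.of A) g.left
  have hw : CommRingCat.ofHom (algebraMap k (MonoidAlgebra k (Multiplicative ℤ))) ≫ ψ =
      CommRingCat.ofHom (algebraMap k A) := Spec.map_injective (by
    rw [Spec.map_comp, hψ]
    exact Over.w g)
  let φ : MonoidAlgebra k (Multiplicative ℤ) →ₐ[k] A :=
    { ψ.hom with commutes' := fun r => ConcreteCategory.congr_hom hw r }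
  -- properties of the coordinate ring
  haveI hsm : Smooth (CoactBr.sp k A).hom := by
    rw [← Over.w e.hom.hom.hom]; infer_instance
  haveI : Smooth (Spec.map (CommRingCat.ofHom (algebraMap k A))) := hsm
  have hsmooth : (algebraMap k A).Smooth := (HasRingHomProperty.Spec_iff (P := @Smooth)).1 (inferInstance : Smooth (Spec.map (CommRingCat.ofHom (algebraMap k A))))
  haveI : Algebra.Smooth k A := RingHom.smooth_algebraMap.1 hsmooth
  haveI : Algebra.FiniteType k A := inferInstance
  haveI : ConnectedSpace ↥(CoactBr.sp k A).left :=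
    (TopCat.homeoOfIso (Scheme.forgetToTop.mapIso (asIso e.hom.hom.hom.left))).symm.surjective.connectedSpace
      (TopCat.homeoOfIso (Scheme.forgetToTop.mapIso (asIso e.hom.hom.hom.left))).symm.continuous
  haveI : ConnectedSpace (PrimeSpectrum A) := ‹ConnectedSpace ↥(CoactBr.sp k A).left›
  have hint : φ.toRingHom.IsIntegral := by
    have h1 : IsFinite (Spec.map ψ) := by rw [hψ]; exact hgf
    exact ((IsFinite.SpecMap_iff ψ).1 h1).to_isIntegral
  have hinj : Function.Injective φ := by
    have h1 : Surjective (Spec.map ψ) := by rw [hψ]; exact hgs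
    have h2 := (PrimeSpectrum.denseRange_comap_iff_ker_le_nilRadical ψ.hom).1 h1.surj.denseRange
    rw [nilradical_eq_zero] at h2
    exact (RingHom.injective_iff_ker_eq_bot ψ.hom).2 (le_bot_iff.1 h2)
  obtain ⟨χ, hχ, hbij⟩ := GmIsog6.exists_generator A (fun a ha => GammaD.Split.idem_connected ha) φ hinj hint
  -- character coordinates
  let C : DiagGL.Chars ℤ (CoactBr.sp k A) :=
    { ch := fun {T} x => (DiagGL.ev x : A →* Γ(T.left, ⊤)).comp χ
      nat := fun t x a => DiagGL.ev_comp t x _
      mul := fun x y a => DiagGL.ev_mul_glike x y (hχ a).comul_eq_tmul_self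
      inj := fun {T x y} h => by
        letI := (DiagGL.alg T).toAlgebra
        refine DiagGL.ev_injective fun b => ?_
        obtain ⟨p, rfl⟩ := hbij.2 b
        have : ((⟨DiagGL.ev x, DiagGL.ev_algebraMap x⟩ : A →ₐ[k] Γ(T.left, ⊤))).comp (MonoidAlgebra.lift k A _ χ) =
            ((⟨DiagGL.ev y, DiagGL.ev_algebraMap y⟩ : A →ₐ[k] Γ(T.left, ⊤))).comp (MonoidAlgebra.lift k A _ χ) := by
          refine (MonoidAlgebra.lift k _ _).symm.injective (MonoidHom.ext fun a => ?_)
          show DiagGL.ev x (MonoidAlgebra.lift k A _ χ _) = DiagGL.ev y (MonoidAlgebra.lift k A _ χ _)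
          rw [MonoidAlgebra.lift_of]
          exact h a
        exact AlgHom.congr_fun this p
      surj := fun {T} c => by
        letI := (DiagGL.alg T).toAlgebra
        let E := AlgEquiv.ofBijective (MonoidAlgebra.lift k A _ χ) hbij
        let θ : A →ₐ[k] Γ(T.left, ⊤) := (MonoidAlgebra.lift k _ _ c).comp E.symm.toAlgHom
        refine ⟨DiagGL.mk θ.toRingHom θ.commutes, MonoidHom.ext fun a => ?_⟩
        show DiagGL.ev (DiagGL.mk θ.toRingHom θ.commutes) (χ a) = c a
        rw [DiagGL.ev_mk]
        show MonoidAlgebra.lift k _ _ c (E.symm (χ a)) = c a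
        rw [show χ a = E (MonoidAlgebra.of k _ a) from (MonoidAlgebra.lift_of (R := k) χ a).symm, E.symm_apply_apply,
          MonoidAlgebra.lift_of] }
  exact MTRigid29.nonempty_grpIso_of_chars (C.transport e.symm) (DiagGL.charsDS _ ℤ)

end Groth.Agent.S15607
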