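import Groth.Statements.S15608
import Groth.Agent.Lib.GeomRed21.Prod
import Groth.Agent.Lib.GrpSmooth19.Basic
import Groth.Agent.Lib.GrpQuot.Field
import Groth.Agent.Lib.AbRigid.Image
import Groth.Agent.Lib.PtsDetect19.Basic

set_option autoImplicit false
universe u
open CategoryTheory MonoidalCategory CartesianMonoidalCategory MonObj GrpObj AlgebraicGeometry
open AlgGrp

namespace Groth.Agent.S15608

open CategoryTheory.Limits
set_option backward.isDefEq.respectTransparency.types false

theorem apply_comp {S : Scheme.{u}} {A B C : Over S} (u : A ⟶ B) (v : B ⟶ C) (w : A ⟶ C)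
    (h : u ≫ v = w) (x : A.left) : v.left (u.left x) = w.left x := by
  subst h; rfl


/-- Let k be a field, G a smooth k-group scheme of finite type and Σ a subgroup of the abstract group
G(k) of k-rational points. Then the Zariski closure of Σ in G, with its reduced structure, is a
smooth closed k-subgroup: there are a smooth k-group scheme H and a homomorphism H ⟶ G which is a
closed immersion whose image is the closure of the set of points of G underlying the elements of Σ.
(The published statement also asserts that forming this closure commutes with extension of the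
ground field; that clause is not stated here, its affine form being stated separately.) -/
theorem result (k : Type u) [Field k]
    (G : Over (Spec (CommRingCat.of k))) [GrpObj G] [Smooth G.hom] [QuasiCompact G.hom]
    (S : Subgroup (𝟙_ (Over (Spec (CommRingCat.of k))) ⟶ G)) :
    ∃ (H : Over (Spec (CommRingCat.of k))) (_ : GrpObj H) (i : H ⟶ G), IsMonHom i ∧ IsClosedImmersion i.left ∧ Smooth H.hom ∧
      Set.range i.left.base =
        closure ((fun s : (𝟙_ (Over (Spec (CommRingCat.of k))) ⟶ G) => s.left.base (IsLocalRing.closedPoint k)) '' (S : Set _)) := by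
  let T := 𝟙_ (Over (Spec (CommRingCat.of k)))
  let p₀ := IsLocalRing.closedPoint k
  let D : Set G.left := (fun s : T ⟶ G => s.left p₀) '' (S : Set _)
  let I := Scheme.IdealSheafData.vanishingIdeal ⟨closure D, isClosed_closure⟩
  let Z : Over (Spec (CommRingCat.of k)) := Over.mk (I.subschemeι ≫ G.hom)
  let i : Z ⟶ G := Over.homMk I.subschemeι rfl
  haveI : IsClosedImmersion i.left := inferInstanceAs (IsClosedImmersion I.subschemeι)
  haveI : Mono i := (Over.forget _).mono_of_mono_map (inferInstanceAs (Mono i.left))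
  haveI : LocallyOfFiniteType Z.hom := inferInstanceAs (LocallyOfFiniteType (I.subschemeι ≫ G.hom))
  have hr : Set.range i.left = closure D := by
    show Set.range I.subschemeι = _
    rw [I.range_subschemeι, Scheme.IdealSheafData.coe_support_vanishingIdeal]
    rfl
  haveI : IsReduced Z.left := RedSepLib.isReduced_vanishingIdeal_subscheme _
  have hlift : ∀ s ∈ S, ∃ z : T ⟶ Z, z ≫ i = s := fun s hs => by
    haveI : IsReduced T.left := inferInstanceAs (IsReduced (Spec (CommRingCat.of k)))
    refine PtsDetect19.lift_of_range (W := T) s i ?_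
    rintro _ ⟨p, rfl⟩
    rw [hr, Subsingleton.elim (α := ↥(Spec (CommRingCat.of k))) p p₀]
    exact subset_closure ⟨s, hs, rfl⟩
  have hsub : D ⊆ closure D := subset_closure
  have hmemD : ∀ z : Z.left, i.left z ∈ D → GeomRed21.GRPt Z.hom z := by
    rintro z ⟨s, hs, he⟩
    obtain ⟨w, rfl⟩ := hlift s hs
    have hz : w.left p₀ = z := i.left.isClosedEmbedding.injective ((apply_comp w i _ rfl p₀).trans he)
    rw [← hz]
    exact GeomRed21.gRPt_specField k w.left ((Over.w w).trans (Spec.map_id _).symm) p₀
  haveI : GeometricallyReduced Z.hom := by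
    refine GeomRed21.geometricallyReduced_of_dense _ ?_
    intro z
    have hz : i.left z ∈ closure (Set.range i.left ∩ D) := by
      rw [Set.inter_eq_right.2 (hr.symm ▸ hsub)]
      exact hr.le ⟨z, rfl⟩
    rw [i.left.isClosedEmbedding.isInducing.closure_eq_preimage_closure_image]
    refine closure_mono ?_ hz
    rintro _ ⟨⟨y, rfl⟩, hy⟩
    exact ⟨y, hmemD y hy, rfl⟩
  haveI : GeometricallyReduced (Z ⊗ Z).hom := GeomRed21.geometricallyReduced_prod Z.hom Z.hom
  haveI : LocallyOfFiniteType (Z ⊗ Z).hom :=
    inferInstanceAs (LocallyOfFiniteType (pullback.fst Z.hom Z.hom ≫ Z.hom))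
  haveI : IsReduced (Z ⊗ Z).left := GeomRed21.isReduced_of_geometricallyReduced (Z ⊗ Z).hom
  obtain ⟨m, hm⟩ := PtsDetect19.lift_of_range ((i ⊗ₘ i) ≫ μ[G]) i (by
    rintro _ ⟨p, rfl⟩
    have h1 : ∀ q : Z.left, q ∈ closure (i.left ⁻¹' D) := fun q => by
      rw [i.left.isClosedEmbedding.isInducing.closure_eq_preimage_closure_image,
        Set.image_preimage_eq_inter_range, Set.inter_eq_left.2 (hr.symm ▸ hsub)]
      exact hr.le ⟨q, rfl⟩
    have hp := GrpQuot.mem_closure_prod (Iso.refl (Spec (CommRingCat.of k))) Z.hom Z.hom p (h1 _) (h1 _)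
    refine closure_minimal ?_ (i.left.isClosedEmbedding.isClosed_range.preimage
      ((i ⊗ₘ i) ≫ μ[G]).left.continuous) hp
    rintro q ⟨⟨s, hs, hes⟩, ⟨t, ht, het⟩⟩
    obtain ⟨zs, rfl⟩ := hlift s hs
    obtain ⟨zt, rfl⟩ := hlift t ht
    have es : zs.left p₀ = pullback.fst Z.hom Z.hom q :=
      i.left.isClosedEmbedding.injective ((apply_comp zs i _ rfl p₀).trans hes)
    have et : zt.left p₀ = pullback.snd Z.hom Z.hom q :=
      i.left.isClosedEmbedding.injective ((apply_comp zt i _ rfl p₀).trans het)
    let mp := pullback.map (𝟙 (Spec (CommRingCat.of k))) (𝟙 _) Z.hom Z.hom zs.left zt.left (𝟙 _)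
      ((Category.id_comp _).trans (Over.w zs).symm)
      ((Category.id_comp _).trans (Over.w zt).symm)
    obtain ⟨o, ho⟩ : q ∈ Set.range mp := by
      rw [Scheme.Pullback.range_map]
      exact ⟨⟨p₀, es⟩, ⟨p₀, et⟩⟩
    have hdef : pullback.fst (𝟙 (Spec (CommRingCat.of k))) (𝟙 (Spec (CommRingCat.of k))) ≫ (lift zs zt).left = mp := by
      apply pullback.hom_ext
      · rw [Category.assoc, pullback.lift_fst]
        exact congrArg _ (congrArg CommaMorphism.left (lift_fst zs zt))
      · rw [Category.assoc, pullback.lift_snd]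
        refine (congrArg _ (congrArg CommaMorphism.left (lift_snd zs zt))).trans ?_
        rw [show pullback.fst (𝟙 (Spec (CommRingCat.of k))) (𝟙 _) = pullback.snd (𝟙 (Spec (CommRingCat.of k))) (𝟙 _) by
          simpa using pullback.condition (f := 𝟙 (Spec (CommRingCat.of k))) (g := 𝟙 _)]
    have hq : (lift zs zt).left (pullback.fst (𝟙 (Spec (CommRingCat.of k))) (𝟙 _) o) = q := by
      rw [← ho, ← hdef]; rfl
    have e : lift zs zt ≫ (i ⊗ₘ i) ≫ μ[G] = (zs ≫ i) * (zt ≫ i) := by
      rw [lift_map_assoc, Hom.mul_def]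
    show ((i ⊗ₘ i) ≫ μ[G]).left q ∈ Set.range i.left
    rw [← hq, apply_comp (lift zs zt) _ _ e, hr,
      Subsingleton.elim (α := ↥(Spec (CommRingCat.of k)))
        (pullback.fst (𝟙 (Spec (CommRingCat.of k))) (𝟙 (Spec (CommRingCat.of k))) o) p₀]
    exact subset_closure ⟨_, S.mul_mem hs ht, rfl⟩)
  obtain ⟨e, he⟩ := hlift η[G] (by
    rw [show (η[G]) = 1 by simp [Hom.one_def]]; exact S.one_mem)
  obtain ⟨v, hv⟩ := PtsDetect19.lift_of_range (i ≫ ι[G]) i (by
    rintro _ ⟨p, rfl⟩
    have h1 : i.left p ∈ closure D := hr.le ⟨p, rfl⟩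
    rw [hr, show (i ≫ ι[G]).left p = (ι[G]).left (i.left p) from rfl]
    refine map_mem_closure (ι[G]).left.continuous h1 ?_
    rintro _ ⟨s, hs, rfl⟩
    refine ⟨s⁻¹, S.inv_mem hs, ?_⟩
    show (s⁻¹).left p₀ = (ι[G]).left (s.left p₀)
    rw [apply_comp s ι[G] _ rfl p₀, Hom.inv_def])
  letI : GrpObj Z := AbRigid.grpObjOfMono i e he m hm v hv
  haveI : IsMonHom i := ⟨he, hm⟩
  haveI : IsReduced (pullback Z.hom (Spec.map (CommRingCat.ofHom (algebraMap k (AlgebraicClosure k))))) :=
    GeometricallyReduced.geometrically_isReduced _ _ _ (IsPullback.of_hasPullback _ _)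
  exact ⟨Z, inferInstance, i, inferInstance, inferInstance,
    GrpSmooth19.smooth_of_isReduced_baseChange Z (AlgebraicClosure k), hr⟩

end Groth.Agent.S15608
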