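import Groth.Statements.S15609
import Groth.Agent.Lib.PtsDetect19.Affine
import Groth.Agent.Lib.AbRigid.Maximal
import Mathlib.Algebra.DualNumber
import Mathlib.RingTheory.Nilpotent.Lemmas
import Mathlib.RingTheory.Nakayama

set_option autoImplicit false
universe u
open CategoryTheory MonoidalCategory CartesianMonoidalCategory MonObj GrpObj AlgebraicGeometry
open AlgGrp

namespace Groth.Agent.S15609

set_option linter.style.haveILetI false
set_option backward.isDefEq.respectTransparency.types false
open CategoryTheory.Limits Groth.Agent Groth.Agent.GrpAlgClosed19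

theorem exists_algHom {k : Type u} [Field k] {A R : Type u} [CommRing A] [Algebra k A] [CommRing R] [Algebra k R]
    (w : specObj k R ⟶ specObj k A) : ∃ φ : A →ₐ[k] R, specHom φ = w := by
  obtain ⟨α, hα⟩ : ∃ α : CommRingCat.of A ⟶ CommRingCat.of R, Spec.map α = w.left :=
    ⟨Spec.preimage w.left, Spec.map_preimage _⟩
  have e : Spec.map (CommRingCat.ofHom (algebraMap k A) ≫ α) = Spec.map (CommRingCat.ofHom (algebraMap k R)) := by
    rw [Spec.map_comp, hα]
    exact Over.w w
  have e' := congrArg CommRingCat.Hom.hom (Spec.map_injective e)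
  exact ⟨{ α.hom with commutes' := fun r => RingHom.congr_fun e' r }, Over.OverMorphism.ext hα⟩

theorem specHom_injective {k : Type u} [Field k] {A R : Type u} [CommRing A] [Algebra k A] [CommRing R] [Algebra k R]
    {φ ψ : A →ₐ[k] R} (h : specHom φ = specHom ψ) : φ = ψ := by
  have h' := congrArg CommRingCat.Hom.hom (Spec.map_injective (congrArg CommaMorphism.left h))
  exact AlgHom.ext fun a => RingHom.congr_fun h' a

theorem specHom_comp {k : Type u} [Field k] {A R R' : Type u} [CommRing A] [Algebra k A] [CommRing R] [Algebra k R]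
    [CommRing R'] [Algebra k R'] (φ : A →ₐ[k] R) (ψ : R →ₐ[k] R') : specHom ψ ≫ specHom φ = specHom (ψ.comp φ) := by
  refine Over.OverMorphism.ext ?_
  show Spec.map _ ≫ Spec.map _ = Spec.map _
  rw [← Spec.map_comp, ← CommRingCat.ofHom_comp]
  rfl

/-- An artinian local algebra with trivial tangent space at its rational point is the field. -/
theorem ker_eq_bot {k : Type u} [Field k] {A : Type u} [CommRing A] [Algebra k A] [Algebra.FiniteType k A]
    (ε : A →ₐ[k] k) (hp : ∀ p q : PrimeSpectrum A, p = q)
    (ht : ∀ φ : A →ₐ[k] DualNumber k, (TrivSqZeroExt.fstHom k k k).comp φ = ε →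
      φ = (Algebra.ofId k (DualNumber k)).comp ε) : RingHom.ker ε = ⊥ := by
  set m := RingHom.ker ε
  haveI : IsNoetherianRing A := Algebra.FiniteType.isNoetherianRing k A
  have hm2 : m ≤ m * m := by
    intro a ha
    by_contra hn
    let W : Submodule k A := (m * m).restrictScalars k
    obtain ⟨l, hl0, hl⟩ := Submodule.exists_le_ker_of_notMem (p := W) (v := a) hn
    let d : A →ₗ[k] A := LinearMap.id - (Algebra.linearMap k A).comp ε.toLinearMap
    have hd : ∀ x, d x = x - algebraMap k A (ε x) := fun x => rfl
    let lam : A →ₗ[k] k := l.comp d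
    have hmul : ∀ x y, lam (x * y) = ε x * lam y + lam x * ε y := by
      intro x y
      have hz : (x - algebraMap k A (ε x)) * (y - algebraMap k A (ε y)) ∈ W := by
        refine Ideal.mul_mem_mul ?_ ?_ <;> rw [RingHom.mem_ker, map_sub, AlgHom.commutes] <;>
          exact sub_self _
      have h0 := LinearMap.mem_ker.1 (hl hz)
      have e : d (x * y) = (x - algebraMap k A (ε x)) * (y - algebraMap k A (ε y)) + ε x • d y + ε y • d x := by
        rw [hd, hd, hd, map_mul, map_mul, Algebra.smul_def, Algebra.smul_def]
        ring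
      show l (d (x * y)) = ε x * l (d y) + l (d x) * ε y
      rw [e, map_add, map_add, h0, map_smul, map_smul, smul_eq_mul, smul_eq_mul]
      ring
    let φ : A →ₐ[k] DualNumber k :=
      AlgHom.ofLinearMap ((TrivSqZeroExt.inlAlgHom k k k).toLinearMap.comp ε.toLinearMap +
          (TrivSqZeroExt.inrHom k k).comp lam) (by
        apply TrivSqZeroExt.ext
        · simp
        · simp [lam, hd]) fun x y => by
        apply TrivSqZeroExt.ext
        · simp
        · simp [hmul]
    have h1 := congr($(ht φ (AlgHom.ext fun x => by simp [φ])) a)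
    have h2 := congrArg TrivSqZeroExt.snd h1
    have ha' : ε a = 0 := ha
    apply hl0
    simpa [φ, lam, hd, ha'] using h2
  refine Submodule.eq_bot_of_le_smul_of_le_jacobson_bot m m m.fg_of_isNoetherianRing (by rwa [smul_eq_mul]) ?_
  intro a ha
  refine Ideal.mem_jacobson_bot.2 fun y => ?_
  by_contra hu
  obtain ⟨M, hM, hM'⟩ := exists_max_ideal_of_mem_nonunits hu
  have hMm : M = m := congrArg PrimeSpectrum.asIdeal
    (hp ⟨M, hM.isPrime⟩ ⟨m, RingHom.ker_isPrime ε.toRingHom⟩)
  rw [hMm] at hM'
  have h3 : (1 : A) ∈ m := by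
    have := m.sub_mem hM' (m.mul_mem_right y ha)
    simpa using this
  simp [m, RingHom.mem_ker] at h3

/-- The implication (ii) ⇒ (i). Let k be a field and f : G ⟶ G' a homomorphism of k-group schemes of
finite type. Suppose that f is injective on K-points for every algebraically closed field K over k,
and that f is injective on tangent spaces at the identity: every point of G with values in the dual
numbers k[ε] which restricts to the identity at ε = 0 and is sent by f to the identity point of G'
is itself the identity point. Then f has trivial kernel: it is a monomorphism. (The published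
statement assumes G smooth; this implication does not use it.) -/
theorem result (k : Type u) [Field k]
    (G G' : Over (Spec (CommRingCat.of k))) [GrpObj G] [GrpObj G'] [LocallyOfFiniteType G.hom] [QuasiCompact G.hom]
    [LocallyOfFiniteType G'.hom] [QuasiCompact G'.hom] (f : G ⟶ G') [IsMonHom f]
    (hgeom : ∀ (K : Type u) [Field K] [IsAlgClosed K] [Algebra k K],
      Function.Injective (fun g : (Over.mk (Spec.map (CommRingCat.ofHom (algebraMap k K)))) ⟶ G => g ≫ f))
    (htan : ∀ g : (Over.mk (Spec.map (CommRingCat.ofHom (algebraMap k (DualNumber k))))) ⟶ G,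
      (∀ x : 𝟙_ (Over (Spec (CommRingCat.of k))) ⟶ (Over.mk (Spec.map (CommRingCat.ofHom (algebraMap k (DualNumber k))))), x ≫ g = η[G]) →
        g ≫ f = toUnit _ ≫ η[G'] → g = toUnit _ ≫ η[G]) :
    Mono f := by
  haveI : IsSeparated G'.hom := Groth.Agent.AbRigid.isSeparated_of_grpObj G'
  haveI : IsClosedImmersion η[G'].left := by
    haveI : IsClosedImmersion (η[G'].left ≫ G'.hom) := by
      rw [Over.w η[G']]; exact inferInstanceAs (IsClosedImmersion (𝟙 _))
    exact IsClosedImmersion.of_comp η[G'].left G'.hom
  let K : Over (Spec (CommRingCat.of k)) := Over.mk (pullback.fst f.left η[G'].left ≫ G.hom)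
  let i : K ⟶ G := Over.homMk (pullback.fst f.left η[G'].left) rfl
  haveI : IsClosedImmersion i.left := inferInstanceAs (IsClosedImmersion (pullback.fst f.left η[G'].left))
  haveI : Mono i := Over.mono_of_mono_left i
  haveI : LocallyOfFiniteType K.hom := inferInstanceAs (LocallyOfFiniteType (i.left ≫ G.hom))
  have hsnd : pullback.snd f.left η[G'].left = K.hom := by
    show _ = pullback.fst f.left η[G'].left ≫ G.hom
    rw [← Over.w f, pullback.condition_assoc, Over.w η[G']]
    exact (Category.comp_id _).symm
  have hi : i ≫ f = toUnit K ≫ η[G'] := by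
    refine Over.OverMorphism.ext ?_
    show pullback.fst f.left η[G'].left ≫ f.left = (toUnit K).left ≫ η[G'].left
    rw [pullback.condition, hsnd, Over.toUnit_left]
  have hlift : ∀ {T : Over (Spec (CommRingCat.of k))} (a : T ⟶ G), a ≫ f = toUnit T ≫ η[G'] → ∃ a', a' ≫ i = a := by
    intro T a ha
    refine ⟨Over.homMk (pullback.lift a.left (toUnit T).left (congrArg CommaMorphism.left ha)) ?_,
      Over.OverMorphism.ext (pullback.lift_fst _ _ _)⟩
    show pullback.lift a.left (toUnit T).left _ ≫ pullback.fst f.left η[G'].left ≫ G.hom = _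
    rw [pullback.lift_fst_assoc, Over.w a]
  obtain ⟨e, he⟩ := hlift η[G] (by rw [IsMonHom.one_hom f]; simp)
  haveI : JacobsonSpace K.left := LocallyOfFiniteType.jacobsonSpace (Y := Spec _) K.hom
  let e₀ : K.left := e.left (IsLocalRing.closedPoint k : Spec (CommRingCat.of k))
  have hclosed : ∀ y : K.left, IsClosed {y} → y = e₀ := by
    intro y hy
    obtain ⟨w, hw⟩ := PtsDetect19.exists_point (k := k) (AlgebraicClosure k) y hy
    have h1 : w ≫ i = toUnit _ ≫ η[G] := hgeom (AlgebraicClosure k) (by
      show (w ≫ i) ≫ f = (toUnit _ ≫ η[G]) ≫ f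
      rw [Category.assoc, hi, Category.assoc, IsMonHom.one_hom f, ← Category.assoc, comp_toUnit])
    have h2 : w = toUnit _ ≫ e := by rw [← cancel_mono i, h1, Category.assoc, he]
    rw [← hw (IsLocalRing.closedPoint (AlgebraicClosure k)), h2]
    show e.left _ = e.left _
    congr 1
    exact Subsingleton.elim (α := PrimeSpectrum k) _ _
  obtain ⟨z, -, hz⟩ := nonempty_inter_closedPoints (Z := (Set.univ : Set K.left)) ⟨e₀, trivial⟩
    isClosed_univ.isLocallyClosed
  have hall : ∀ y : K.left, y = e₀ := by
    intro y
    have h := closure_closedPoints (X := K.left).ge (Set.mem_univ y)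
    rwa [show closedPoints K.left = {e₀} from Set.Subset.antisymm (fun x hx => hclosed x hx)
      (by rintro _ rfl; exact hclosed z hz ▸ hz), IsClosed.closure_eq (hclosed z hz ▸ hz)] at h
  haveI : IsAffine K.left := by
    obtain ⟨V, hV, hxV, -⟩ := exists_isAffineOpen_mem_and_subset (X := K.left) (x := e₀) (U := ⊤) trivial
    have : V = ⊤ := eq_top_iff.2 fun y _ => (hall y).symm ▸ hxV
    rw [this] at hV
    haveI : IsAffine (⊤ : K.left.Opens).toScheme := hV
    exact IsAffine.of_isIso K.left.topIso.inv
  obtain ⟨A, _, _, ⟨eK⟩⟩ := exists_iso_specObj K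
  haveI : LocallyOfFiniteType (specObj k A).hom := by rw [← Over.w eK.inv]; infer_instance
  haveI : Algebra.FiniteType k A :=
    RingHom.finiteType_algebraMap.1 ((HasRingHomProperty.Spec_iff (P := @LocallyOfFiniteType)).1 ‹_›)
  have hp : ∀ p q : PrimeSpectrum A, p = q := fun p q => by
    have hinj : Function.Injective eK.inv.left := fun a b hab => by
      have := congrArg eK.hom.left hab
      rwa [← Scheme.Hom.comp_apply, ← Scheme.Hom.comp_apply, ← Over.comp_left, Iso.inv_hom_id] at this
    exact hinj ((hall _).trans (hall _).symm)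
  let u₀ : specObj k k ⟶ 𝟙_ (Over (Spec (CommRingCat.of k))) := toUnit _
  let v₀ : 𝟙_ (Over (Spec (CommRingCat.of k))) ⟶ specObj k k := Over.homMk (𝟙 _) (by
    show 𝟙 _ ≫ Spec.map (CommRingCat.ofHom (algebraMap k k)) = 𝟙 _
    rw [Category.id_comp]
    exact Spec.map_id _)
  obtain ⟨ε, hε⟩ := exists_algHom (u₀ ≫ e ≫ eK.hom)
  have ht : ∀ φ : A →ₐ[k] DualNumber k, (TrivSqZeroExt.fstHom k k k).comp φ = ε →
      φ = (Algebra.ofId k (DualNumber k)).comp ε := by
    intro φ hφ
    apply specHom_injective
    rw [← specHom_comp, hε]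
    let g := specHom φ ≫ eK.inv ≫ i
    have hg : g = toUnit _ ≫ η[G] := by
      refine htan g (fun x => ?_) (by
        simp only [g, Category.assoc, hi]
        rw [← Category.assoc eK.inv, comp_toUnit, ← Category.assoc, comp_toUnit])
      obtain ⟨χ, hχ⟩ := exists_algHom (u₀ ≫ x)
      have hχ' : χ = TrivSqZeroExt.fstHom k k k := by
        refine DualNumber.algHom_ext ?_
        have h : χ DualNumber.eps * χ DualNumber.eps = 0 := by
          rw [← map_mul, DualNumber.eps_mul_eps, map_zero]
        simpa using h
      have h1 : u₀ ≫ x ≫ g = u₀ ≫ η[G] := by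
        rw [← Category.assoc, ← hχ, ← Category.assoc (specHom χ), specHom_comp, hχ', hφ, hε]
        simp only [Category.assoc, Iso.hom_inv_id_assoc]
        rw [he]
      haveI : IsIso u₀ := ⟨v₀, Over.OverMorphism.ext (by
        show (toUnit (specObj k k)).left ≫ 𝟙 _ = 𝟙 _
        rw [Category.comp_id, Over.toUnit_left]
        exact Spec.map_id _), Subsingleton.elim _ _⟩
      exact (cancel_epi u₀).1 h1
    rw [← cancel_mono eK.inv, ← cancel_mono i, Category.assoc]
    refine hg.trans ?_
    simp only [Category.assoc, Iso.hom_inv_id_assoc]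
    rw [he, ← Category.assoc (specHom _), comp_toUnit]
  have hker := ker_eq_bot ε hp ht
  have hK : ∀ {T : Over (Spec (CommRingCat.of k))} (a : T ⟶ K), a = toUnit T ≫ e := by
    have hid : 𝟙 (specObj k A) = toUnit _ ≫ e ≫ eK.hom := by
      have h1 : (Algebra.ofId k A).comp ε = AlgHom.id k A := by
        refine AlgHom.ext fun a => ?_
        have : a - algebraMap k A (ε a) ∈ RingHom.ker ε := by simp
        rw [hker, Ideal.mem_bot, sub_eq_zero] at this
        exact this.symm
      have h2 : specHom ((Algebra.ofId k A).comp ε) = 𝟙 (specObj k A) := by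
        rw [h1]; exact Over.OverMorphism.ext (Spec.map_id _)
      rw [← h2, ← specHom_comp, hε, ← Category.assoc, comp_toUnit]
    intro T a
    have := congrArg (fun m => (a ≫ eK.hom) ≫ m ≫ eK.inv) hid
    simpa [← Category.assoc a, ← Category.assoc (a ≫ eK.hom)] using this
  constructor
  intro T a b hab
  obtain ⟨c, hc⟩ := hlift (a * b⁻¹) (by
    rw [MonObj.mul_comp, GrpObj.inv_comp, hab, mul_inv_cancel, Hom.one_def])
  rw [hK c, Category.assoc, he] at hc
  exact mul_inv_eq_one.1 hc.symm

end Groth.Agent.S15609
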