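import Groth.Statements.S1562
import Groth.Agent.Lib.GeomReg18.Smooth

set_option autoImplicit false
universe u
open CategoryTheory CategoryTheory.Limits AlgebraicGeometry
open Variety

namespace Groth.Agent.S1562

/-- Let X be locally of finite type over a field k and x a point of X. Then X is geometrically regular
at x (regular local rings at all points over x after every finitely generated field extension) if
and only if x lies in the smooth locus of X → Spec k. -/
theorem result (k : Type u) [Field k] (X : Scheme.{u}) [X.Over (Spec (CommRingCat.of k))] [LocallyOfFinitePresentation (X ↘ (Spec (CommRingCat.of k)))] (x : X) :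
    Curv2.IsGeomRegularAt k X x ↔ x ∈ (X ↘ (Spec (CommRingCat.of k))).smoothLocus := by
  exact ⟨Groth.Agent.GeomReg18.mem_smoothLocus_of_isGeomRegularAt, Groth.Agent.GeomReg18.isGeomRegularAt_of_mem_smoothLocus⟩

end Groth.Agent.S1562
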