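import Groth.Statements.S15620
import Groth.Agent.Lib.SchFinH13.Affine

set_option autoImplicit false
universe u
open SchFin SchFin.Alg

namespace Groth.Agent.S15620

open SchFin in
/-- Let X be a schematic finite space, A a quasi-coherent algebra on X and U an affine up-closed set of
points. Then the value of A at every point of U is a finite module over the ring of that point if
and only if the ring map from the sections of the rings over U to the sections of A over U is
finite. (The published statement ranges over affine open subsets; this row states the criterion for
one affine up-closed subset and carries explicitly the hypothesis that the product of the rings of
the points of U is faithfully flat over the ring of sections of the rings over U, which holds for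
every affine open subset by a result the published proof uses and recalls without proof.) -/
theorem result (X : RSpace.{u}) (hX : X.IsSchematic) (A : Alg X) (hA : A.IsQcoh)
    (U : Set X.pt) (hU' : IsUpperSet U) (hUa : (X.restrict U).IsAffine)
    (hφ : Module.FaithfullyFlat (X.sectRing U) ((q : ↥U) → X.ring q.1)) :
    (∀ q : X.pt, q ∈ U → Module.Finite (X.ring q) (A.carrier q)) ↔ (A.sectMap U).Finite := by
  exact SchFinH13.finite_iff U A hA hUa hφ

end Groth.Agent.S15620
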