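import Groth.Statements.S15625
import Groth.Agent.Lib.SchFinH13.FEt

set_option autoImplicit false
universe u
open SchFin SchFin.FEt

namespace Groth.Agent.S15625

open SchFin CategoryTheory in
/-- Over a schematic finite space, every morphism of étale covers factors, inside the category of étale
covers, as a morphism that is surjective at every point followed by one that is injective at every
point (in particular as an epimorphism followed by a monomorphism; the middle object is the quotient
by the kernel). -/
theorem result (X : RSpace.{u}) (hX : X.IsSchematic) {A B : FEt X}
    (f : A ⟶ B) :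
    ∃ (Q : FEt X) (g : A ⟶ Q) (h : Q ⟶ B), g ≫ h = f ∧ (∀ p : X.pt, Function.Surjective (g.hom.app p)) ∧
      ∀ p : X.pt, Function.Injective (h.hom.app p) := by
  obtain ⟨Q, D, g, i, π, h1, h2, h3, -, -⟩ := SchFinH13.exists_factor f hX.1
  exact ⟨Q, g, i, h1, h2, h3⟩

end Groth.Agent.S15625
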