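import Groth.Statements.S15629
import Groth.Agent.Lib.SchFinH13.InvAlg

set_option autoImplicit false
universe u
open SchFin SchFin.FEt

namespace Groth.Agent.S15629

open SchFin CategoryTheory CategoryTheory.Limits in
/-- Over a well-connected schematic finite space, the category of étale covers has, for every finite
group G, limits of diagrams indexed by the one-object category of G; that is, for every action of G
on an étale cover A there is an étale cover (the invariants of A, pointwise) through which exactly
the G-invariant morphisms into A factor. (The published statement speaks of contravariant
categorical quotients by finite subgroups of the automorphism group; an action through a group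
homomorphism has the same invariants as its image.) (This row carries as a hypothesis the local
triviality of étale covers — for every étale cover A there are a quasi-coherent algebra B, finite
and faithfully flat at every point, and a natural number n with B_p ⊗ A_p isomorphic to B_p^n as a
B_p-algebra at every point p — which holds for well-connected schematic spaces, the published proof
of that fact going by way of an equivalence of quasi-coherent modules along qc-isomorphisms recalled
without proof; the published statement does not carry it.) -/
theorem result (X : RSpace.{u}) (hX : X.IsSchematic) (hwc : X.IsWellConnected)
    (hlt : ∀ A : FEt X, ∃ (B : Alg X) (n : ℕ), B.IsCovering ∧
      ∀ p : X.pt, Nonempty (TensorProduct (X.ring p) (B.carrier p) (A.obj.carrier p) ≃ₐ[B.carrier p] (Fin n → B.carrier p)))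
    (G : Type u) [Group G] [Finite G] : HasLimitsOfShape (SingleObj G) (FEt X) := by
  exact SchFinH13.hasLimitsOfShape_singleObj hX.1 hlt

end Groth.Agent.S15629
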