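import Groth.Statements.S7605
import Groth.Agent.Lib.Hens.Noetherian
import Mathlib.AlgebraicGeometry.Noetherian
import Mathlib.RingTheory.EssentialFiniteness

set_option autoImplicit false
universe u
open CategoryTheory CategoryTheory.Limits AlgebraicGeometry
open Variety

namespace Groth.Agent.S7605

/-- For a scheme X over a field k and a finitely generated field extension k' of k, local Noetherianity
of X is equivalent to local Noetherianity of its base change X_{k'}. -/
theorem result (k : Type u) [Field k] (X : Scheme.{u}) [X.Over (Spec (CommRingCat.of k))] (k' : Type u) [Field k'] [Algebra k k']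
    (hfg : (⊤ : IntermediateField k k').FG) :
    IsLocallyNoetherian X ↔ IsLocallyNoetherian (Curv2.bc k X k') := by
  haveI : Algebra.EssFiniteType k k' := IntermediateField.fg_top_iff.1 hfg
  rw [isLocallyNoetherian_iff_openCover X.affineCover,
    isLocallyNoetherian_iff_openCover (Scheme.Pullback.openCoverOfLeft X.affineCover
      (X ↘ (Spec (CommRingCat.of k))) (Spec.map (CommRingCat.ofHom (algebraMap k k'))))]
  refine forall_congr' fun i => ?_
  obtain ⟨R, h⟩ : ∃ R, X.affineCover.X i = Spec R := ⟨_, rfl⟩
  obtain ⟨φ, hφ⟩ := Spec.map_surjective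
    (eqToHom h.symm ≫ X.affineCover.f i ≫ (X ↘ (Spec (CommRingCat.of k))))
  letI : Algebra k R := φ.hom.toAlgebra
  have hc : X.affineCover.f i ≫ (X ↘ (Spec (CommRingCat.of k))) =
      eqToHom h ≫ Spec.map (CommRingCat.ofHom (algebraMap k R)) := by
    rw [show CommRingCat.ofHom (algebraMap k R) = φ from rfl, hφ, eqToHom_trans_assoc, eqToHom_refl,
      Category.id_comp]
  let m : pullback (X.affineCover.f i ≫ (X ↘ (Spec (CommRingCat.of k))))
      (Spec.map (CommRingCat.ofHom (algebraMap k k'))) ⟶
      pullback (Spec.map (CommRingCat.ofHom (algebraMap k R)))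
      (Spec.map (CommRingCat.ofHom (algebraMap k k'))) :=
    pullback.map _ _ _ _ (eqToHom h) (𝟙 _) (𝟙 _) (by rw [Category.comp_id, hc]) (by simp)
  haveI hm : IsIso m := by dsimp only [m]; infer_instance
  let e : (Scheme.Pullback.openCoverOfLeft X.affineCover (X ↘ (Spec (CommRingCat.of k)))
      (Spec.map (CommRingCat.ofHom (algebraMap k k')))).X i ≅ Spec (CommRingCat.of (TensorProduct k R k')) :=
    (@asIso _ _ _ _ m hm) ≪≫ pullbackSpecIso k R k'
  constructor
  · intro hX
    haveI : IsLocallyNoetherian (Spec R) := h ▸ hX
    haveI : IsNoetherianRing R := isLocallyNoetherian_Spec.1 inferInstance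
    haveI : IsNoetherianRing (TensorProduct k R k') := Algebra.EssFiniteType.isNoetherianRing R _
    exact isLocallyNoetherian_of_isOpenImmersion e.hom
  · intro hX
    haveI := hX
    haveI : IsLocallyNoetherian (Spec (CommRingCat.of (TensorProduct k R k'))) :=
      isLocallyNoetherian_of_isOpenImmersion e.inv
    haveI : IsNoetherianRing (TensorProduct k R k') :=
      isLocallyNoetherian_Spec (R := CommRingCat.of (TensorProduct k R k')).1 inferInstance
    haveI : IsNoetherianRing R := Groth.Agent.Hens.isNoetherianRing_of_faithfullyFlat R (TensorProduct k R k')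
    exact h ▸ (inferInstance : IsLocallyNoetherian (Spec R))

end Groth.Agent.S7605
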