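import Groth.Statements.S1563
import Groth.Agent.Lib.RegLoc.GlobalDim
import Groth.Agent.Lib.FlatH4.FlatComp
import Groth.Agent.S7605

set_option autoImplicit false
universe u
open CategoryTheory CategoryTheory.Limits AlgebraicGeometry
open Variety

namespace Groth.Agent.S1563

/-- Geometric regularity descends along a morphism f of locally Noetherian k-schemes which is flat at
the point x (the map of local rings at x is flat): if X has it at x then Y has it at f(x). -/
theorem result (k : Type u) [Field k] (X Y : Scheme.{u}) [X.Over (Spec (CommRingCat.of k))] [Y.Over (Spec (CommRingCat.of k))]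
    [IsLocallyNoetherian X] [IsLocallyNoetherian Y] (f : X ⟶ Y) (hf : f ≫ (Y ↘ (Spec (CommRingCat.of k))) = X ↘ (Spec (CommRingCat.of k)))
    (x : X) (hflat : (f.stalkMap x).hom.Flat) (hx : Curv2.IsGeomRegularAt k X x) :
    Curv2.IsGeomRegularAt k Y (f.base x) := by
  intro K _ _ hfg y' hy'
  haveI hY : IsLocallyNoetherian (Curv2.bc k Y K) :=
    (Groth.Agent.S7605.result k Y K hfg).1 inferInstance
  let s := Spec.map (CommRingCat.ofHom (algebraMap k K))
  let fK : Curv2.bc k X K ⟶ Curv2.bc k Y K :=
    pullback.map (X ↘ (Spec (CommRingCat.of k))) s (Y ↘ (Spec (CommRingCat.of k))) s f (𝟙 _) (𝟙 _)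
      (by rw [Category.comp_id, hf]) (by simp)
  have hsq : IsPullback fK (Curv2.bcFst k X K) (Curv2.bcFst k Y K) f := by
    refine IsPullback.of_right (t := IsPullback.flip (IsPullback.of_hasPullback (Y ↘ (Spec (CommRingCat.of k))) s)) ?_ ?_
    · rw [show fK ≫ pullback.snd _ _ = pullback.snd _ _ from (pullback.lift_snd _ _ _).trans (Category.comp_id _), hf]
      exact (IsPullback.of_hasPullback _ s).flip
    · exact pullback.lift_fst _ _ _
  obtain ⟨z, hz₁, hz₂⟩ := Scheme.Pullback.exists_preimage_pullback y' x hy'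
  let w : Curv2.bc k X K := hsq.isoPullback.inv z
  have hw₁ : fK w = y' := by
    rw [← hz₁, ← Scheme.Hom.comp_apply, hsq.isoPullback_inv_fst]
  have hw₂ : Curv2.bcFst k X K w = x := by
    rw [← hz₂, ← Scheme.Hom.comp_apply, hsq.isoPullback_inv_snd]
  subst hw₁
  have hreg := hx K hfg w hw₂
  subst hw₂
  have hfl := Groth.Agent.FlatH4.flat_stalkMap_baseChange hsq w hflat
  letI := (fK.stalkMap w).hom.toAlgebra
  haveI : Module.Flat ((Curv2.bc k Y K).presheaf.stalk (fK w)) ((Curv2.bc k X K).presheaf.stalk w) := hfl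
  haveI : IsLocalHom (algebraMap ((Curv2.bc k Y K).presheaf.stalk (fK w)) ((Curv2.bc k X K).presheaf.stalk w)) :=
    inferInstanceAs (IsLocalHom (fK.stalkMap w).hom)
  exact Groth.Agent.RegLoc.isRegularLocalRing_of_flat _ ((Curv2.bc k X K).presheaf.stalk w)

end Groth.Agent.S1563
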