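import Groth.Statements.S15632
import Groth.Agent.Lib.SchFinH13.InvAlg

set_option autoImplicit false
universe u
open SchFin SchFin.GeomPt

namespace Groth.Agent.S15632

open SchFin CategoryTheory in
/-- For a well-connected schematic finite space and a geometric point with values in an algebraically
closed field, the opposite of the category of étale covers, with the fibre functor at that point (an
étale cover A goes to the prime spectrum of Ω ⊗ A_x, x the point hit), is a Galois category: a
pre-Galois category for which that functor is a fibre functor. (The published statement assumes the
space only connected and reduces to the well-connected case through a pointwise construction and a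
comparison of geometric points resting on a result recalled without proof; this row takes the space
well-connected. It carries two hypotheses the published statement does not: the local triviality of
étale covers — for every étale cover A, a quasi-coherent algebra B, finite and faithfully flat at
every point, and n with B_p ⊗ A_p isomorphic to B_p^n as B_p-algebras at every point — and the
pointwise surjectivity of epimorphisms of étale covers; both hold for every such space, each being
proved in the published text by way of a result on quasi-coherent modules recalled without proof.) -/
theorem result (X : RSpace.{u}) (hX : X.IsSchematic)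
    (hwc : X.IsWellConnected)
    (hlt : ∀ A : FEt X, ∃ (B : Alg X) (n : ℕ), B.IsCovering ∧
      ∀ p : X.pt, Nonempty (TensorProduct (X.ring p) (B.carrier p) (A.obj.carrier p) ≃ₐ[B.carrier p] (Fin n → B.carrier p)))
    (hepi : ∀ (A B : FEt X) (f : A ⟶ B), Epi f → ∀ p : X.pt, Function.Surjective (f.hom.app p))
    {Ω : Type u} [Field Ω] [IsAlgClosed Ω] (ξ : GeomPt X Ω) :
    ∃ h : PreGaloisCategory (FEt X)ᵒᵖ, @PreGaloisCategory.FiberFunctor (FEt X)ᵒᵖ _ h ξ.fibFunctor := by
  open CategoryTheory.Limits Opposite in
  haveI : HasInitial (FEt X) := SchFinH13.hasInitial X
  open CategoryTheory.Limits Opposite in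
  haveI : HasPushouts (FEt X) := SchFinH13.hasPushouts X
  open CategoryTheory.Limits Opposite in
  haveI : HasTerminal (FEt X) := SchFinH13.hasTerminal X
  open CategoryTheory.Limits Opposite in
  haveI : HasBinaryProducts (FEt X) := SchFinH13.hasBinaryProducts X
  open CategoryTheory.Limits Opposite in
  haveI : HasFiniteProducts (FEt X) := hasFiniteProducts_of_has_binary_and_terminal
  open CategoryTheory.Limits Opposite in
  have hPG : PreGaloisCategory (FEt X)ᵒᵖ :=
    { hasQuotientsByFiniteGroups := fun G _ _ => ⟨fun K => HasColimit.mk
        ⟨_, SchFinH13.quotCoconeIsColimit hX.1 hlt K⟩⟩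
      monoInducesIsoOnDirectSummand := fun {U V} i _ => by
        haveI : Epi i.unop := inferInstance
        obtain ⟨D, π, ⟨h⟩⟩ := SchFinH13.exists_isLimit_of_surjective i.unop hX.1 (hepi _ _ i.unop inferInstance)
        exact ⟨op D, π.op, ⟨BinaryFan.IsLimit.op h⟩⟩ }
  haveI := hPG
  exact ⟨hPG,
    { preservesTerminalObjects := SchFinH13.preservesTerminal ξ
      preservesPullbacks := SchFinH13.preservesPullbacks ξ
      preservesFiniteCoproducts := SchFinH13.preservesFiniteCoproducts ξ
      preservesEpis := SchFinH13.preservesEpis ξ hX.1
      preservesQuotientsByFiniteGroups := fun G _ _ => SchFinH13.preservesQuotients ξ hX.1 hlt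
      reflectsIsos := SchFinH13.reflectsIso ξ hX hwc }⟩

end Groth.Agent.S15632
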