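import Groth.Statements.S15645
import Groth.Agent.Lib.Nodal27.NodeModel
-- import your own Groth.Agent.* helpers here

set_option autoImplicit false
universe u
open StrictSS

namespace Groth.Agent.S15645

open CategoryTheory CategoryTheory.Limits AlgebraicGeometry in
/-- A strictly semistable multipointed curve (C, D) over a scheme S is semistable. Here (C, D) is a
multipointed S-curve (C flat, finitely presented and of pure relative dimension one over S; D a
closed subscheme of C, flat, finitely presented and of relative dimension zero over S) every point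
of which has an open neighbourhood U, over an affine open Spec A of S, with an etale morphism of
pairs from (U, D ∩ U) to the line model (Spec A[T], zero section) or, when no marked point lies in
U, an etale morphism from U to a node model Spec A[u, v]/(uv - a); the conclusion is that C → S is
an at-worst-nodal family of curves, D → S is etale and D misses the non-smooth locus of C → S. (The
published remark concerns curves over the spectrum of a valuation ring; the notion and the
implication are local on the base, and this row states the implication over an arbitrary base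
scheme.) -/
theorem result
    {C D S : Scheme.{u}} (φ : C ⟶ S) (i : D ⟶ C) (h : StrictSS.IsStrictlySemistable φ i) :
    SSMod.IsSemistable φ i := by
  obtain ⟨hmp, hch⟩ := h
  obtain ⟨hflat, hlfp, -, -, -, hci, hDflat, hDlfp, -⟩ := id hmp
  haveI := hflat; haveI := hlfp; haveI := hci
  -- neighbourhoods with nodal structure
  have key : ∀ x : C, ∃ U : C.Opens, x ∈ U ∧ Nodal27.FamGood (U.ι ≫ φ) := by
    intro x
    rcases hch x with ⟨A, j, hj, U, hxU, q, hq, f, fD, hf, hfq, -, -⟩ | ⟨A, j, hj, U, hxU, q, hq, a, f, hf, hfq, -⟩
    · refine ⟨U, hxU, ?_⟩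
      haveI := hj; haveI := hf
      have hL := Nodal27.isNodalFamily_lineToBase (A : Type u)
      haveI := hL.1; haveI := hL.2.1
      have h1 := Nodal27.famGood_postcomp_etale j (f ≫ StrictSS.lineToBase A)
        (Nodal27.famGood_precomp_etale (StrictSS.lineToBase A) (Nodal27.famGood_of_isNodalFamily _ hL) f)
      intro L _ _ t
      have e : U.ι ≫ φ = (f ≫ StrictSS.lineToBase A) ≫ j := by rw [hfq]; exact hq
      exact (Nodal27.good_congr (pullback.congrHom e (rfl : t = t)) (by rw [pullback.congrHom_hom]; exact (pullback.lift_snd _ _ _).trans (Category.comp_id _))).2 (h1 L t)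
    · refine ⟨U, hxU, ?_⟩
      haveI := hj; haveI := hf
      haveI := Nodal27.locallyOfFinitePresentation_nodeToBase (A : Type u) a
      have h1 := Nodal27.famGood_postcomp_etale j (f ≫ StrictSS.nodeToBase A a)
        (Nodal27.famGood_precomp_etale (StrictSS.nodeToBase A a) (Nodal27.famGood_nodeToBase (A : Type u) a) f)
      intro L _ _ t
      have e : U.ι ≫ φ = (f ≫ StrictSS.nodeToBase A a) ≫ j := by rw [hfq]; exact hq
      exact (Nodal27.good_congr (pullback.congrHom e (rfl : t = t)) (by rw [pullback.congrHom_hom]; exact (pullback.lift_snd _ _ _).trans (Category.comp_id _))).2 (h1 L t)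
  choose U hU hUg using key
  have hsm : ∀ d : D, (∃ O : D.Opens, d ∈ O ∧ Etale (O.ι ≫ i ≫ φ)) ∧ i d ∈ φ.smoothLocus := by
    intro d
    rcases hch (i d) with ⟨A, j, hj, V, hxV, q, hq, f, fD, hf, hfq, hfD, hcomm⟩ | ⟨A, j, hj, V, hxV, q, hq, a, f, hf, hfq, hdis⟩
    · haveI := hj; haveI := hf; haveI := hfD
      refine ⟨⟨i ⁻¹ᵁ V, hxV, ?_⟩, ?_⟩
      · have hzero : StrictSS.lineZero A ≫ StrictSS.lineToBase A = 𝟙 _ := by
          rw [← Spec.map_comp, ← Spec.map_id]
          exact congrArg Spec.map (CommRingCat.hom_ext (RingHom.ext fun c => Polynomial.eval_C))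
        have : (i ⁻¹ᵁ V).ι ≫ i ≫ φ = fD ≫ j := by
          rw [← morphismRestrict_ι_assoc, hq, ← hfq, Category.assoc, ← reassoc_of% hcomm, reassoc_of% hzero]
        rw [this]; infer_instance
      · have hsL : Smooth (StrictSS.lineToBase A) := by
          rw [HasRingHomProperty.Spec_iff (P := @Smooth), CommRingCat.hom_ofHom, ← Polynomial.algebraMap_eq,
            RingHom.smooth_algebraMap]
          exact ⟨inferInstanceAs (Algebra.FormallySmooth A (Polynomial A)), inferInstanceAs (Algebra.FinitePresentation A (Polynomial A))⟩
        haveI : Smooth (V.ι ≫ φ) := by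
          rw [hq, ← hfq]; infer_instance
        have h1 : (⟨i d, hxV⟩ : V) ∈ (V.ι ≫ φ).smoothLocus := by
          rw [Scheme.Hom.smoothLocus_eq_top]; trivial
        rw [← Scheme.Hom.preimage_smoothLocus_eq] at h1
        exact h1
    · exact absurd hxV (Set.disjoint_left.1 hdis ⟨d, rfl⟩)
  refine ⟨hmp, Nodal27.isNodalFamily_of_famGood φ ?_, ?_, ?_⟩
  · exact Nodal27.famGood_of_etale_cover φ (fun x => (U x : Scheme.{u})) (fun x => (U x).ι)
      (fun x => ⟨x, ⟨x, hU x⟩, rfl⟩) hUg
  · choose O hO hOe using fun d => (hsm d).1
    exact IsZariskiLocalAtSource.of_openCover (P := @Etale) (D.openCoverOfIsOpenCover O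
      (TopologicalSpace.IsOpenCover.mk (top_le_iff.1 fun d _ => TopologicalSpace.Opens.mem_iSup.2 ⟨d, hO d⟩))) hOe
  · rw [Set.disjoint_left]
    rintro _ ⟨d, rfl⟩ hns
    exact hns (hsm d).2

end Groth.Agent.S15645
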