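import Groth.Statements.S15649
import Groth.Agent.Lib.KS29.StrictComp
-- import your own Groth.Agent.* helpers here

set_option autoImplicit false
universe u
open StrictSS

namespace Groth.Agent.S15649

open CategoryTheory CategoryTheory.Limits AlgebraicGeometry in
/-- Let k be a separably closed field and (C, D) a strictly semistable multipointed curve over Spec k
with C and D reduced. Then the irreducible components of C are smooth: for every irreducible
component Z of C there is a reduced closed subscheme of C with underlying set Z which is smooth over
k. (The published remark asserts that, for semistable curves over such a field, strict semistability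
is equivalent to smoothness of the irreducible components; this row is the implication from strict
semistability.) -/
theorem result
    (k : Type u) [Field k] [IsSepClosed k]
    {C D : Scheme.{u}} (φ : C ⟶ Spec (CommRingCat.of k)) (i : D ⟶ C) [IsReduced C] [IsReduced D]
    (h : StrictSS.IsStrictlySemistable φ i)
    (Z : Set C) (hZ : Z ∈ irreducibleComponents (C : Type u)) :
    ∃ (W : Scheme.{u}) (e : W ⟶ C), IsClosedImmersion e ∧ IsReduced W ∧
      Set.range e.base = Z ∧ Smooth (e ≫ φ) := by
  exact Groth.Agent.KS29.StrictComp.main φ i h Z hZ

end Groth.Agent.S15649
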