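import Groth.Statements.S1565
-- import your own Groth.Agent.* helpers here
import Groth.Agent.Lib.SepPt17.Point

set_option autoImplicit false
universe u
open CategoryTheory CategoryTheory.Limits AlgebraicGeometry
attribute [local instance] Curv2.resAlgebra
open Curves

namespace Groth.Agent.S1565

/-- Let X be a smooth proper curve over a field k whose global functions are k, of genus g ≥ 2. Then X
has a closed point whose residue field is a separable extension of k of degree at most 2g - 2. -/
theorem result (k : Type u) [Field k] (X : Scheme.{u}) [X.Over (Spec (CommRingCat.of k))]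
    (hX : Curve.IsSmoothProperCurve k X (X ↘ (Spec (CommRingCat.of k)))) (h0 : Module.finrank k (Coh.HH X (Coh.structureModule X) 0) = 1) (hg : 2 ≤ Curv2.genus k X) :
    ∃ x : X, IsClosed ({x} : Set X) ∧ Algebra.IsSeparable k (X.residueField x) ∧
      Module.finrank k (X.residueField x) ≤ 2 * Curv2.genus k X - 2 ∧ FiniteDimensional k (X.residueField x) := by
  obtain ⟨h1, h2, h3, h4⟩ := hX
  haveI := h1
  haveI := h2
  haveI := h3
  obtain ⟨f, hf, hsep, hd⟩ := SepPt17.exists_separable_coord h4 h0 hg
  letI := Curv2.stalkAlgebra k X (genericPoint X)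
  have hfin := (FunField.ff (GenusFF17.genus_functionField h4 h0).1).finiteDimensional hf
  obtain ⟨h, hh, hfi, hfl, hN, V, hV, het⟩ := SepPt17.exists_map_of_coord h4 f hf hfin hsep
  haveI := hfi
  haveI := hfl
  haveI := het
  haveI := hfin
  obtain ⟨x, hx, hs, hdx, hfd⟩ := SepPt17.exists_point h hh hN Module.finrank_pos hV
  exact ⟨x, hx, hs, hdx.trans hd, hfd⟩

end Groth.Agent.S1565
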