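import Groth.Statements.S15651
import Groth.Agent.Lib.AVQuotH1.KerImage
import Groth.Agent.Lib.AVQuotH1.Isog
import Groth.Agent.Lib.AVCSA22.End0
import Mathlib.RingTheory.Artinian.Module
import Mathlib.RingTheory.Artinian.Ring

set_option autoImplicit false
universe u
open CategoryTheory MonoidalCategory CartesianMonoidalCategory MonObj GrpObj AlgebraicGeometry
open AbVar

namespace Groth.Agent.S15651

section Aux
open CategoryTheory CategoryTheory.Limits MonoidalCategory CartesianMonoidalCategory MonObj AlgebraicGeometry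
open scoped GrpObj
open Groth.Agent.AVQuotH1

variable {k : Type u} [Field k] {A : Over (Spec (CommRingCat.of k))} [GrpObj A] [IsCommMonObj A] [IsProper A.hom]
  [GeometricallyIntegral A.hom]

/-- Every nonzero endomorphism has a right multiple which squares to a nonzero multiple of itself. -/
lemma exists_regular (φ : EndAV.End A) (hφ : φ.toHom ≠ 1) :
    ∃ (ψ : EndAV.End A) (c : ℕ), 0 < c ∧ (ψ * φ).toHom ≠ 1 ∧ (ψ * φ) * (ψ * φ) = c • (ψ * φ) := by
  obtain ⟨I, _, j, q, _, _, _, _, _, _, -, -, hqj⟩ := Groth.Agent.AbRigid.exists_image A A φ.toHom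
  haveI := isCommMonObj_of_isProper_of_geometricallyIntegral I
  obtain ⟨m, s, hm, _, hs⟩ := exists_quasiSection q
  obtain ⟨n, r, hn, _, hr⟩ := exists_retraction j
  haveI := epi_of_surjective q
  have hu : φ.toHom ≫ r ≫ s = q ≫ s ^ n := by
    rw [← hqj, Category.assoc, reassoc_of% hr, Groth.Agent.Isogeny14.hom_pow_comp, Category.id_comp]
  refine ⟨EndAV.End.of (r ≫ s), n * m, Nat.mul_pos hn hm, ?_, ?_⟩
  · show φ.toHom ≫ r ≫ s ≠ 1
    rw [hu]
    intro h
    have h1 : s ^ n = 1 := by rw [← cancel_epi q, h, MonObj.comp_one]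
    have h2 : 𝟙 I ^ (m * n) = 1 := by
      rw [pow_mul, ← hs, ← Groth.Agent.Isogeny14.hom_pow_comp, h1, MonObj.one_comp]
    obtain ⟨-, hsI⟩ := Groth.Agent.CubeField.isFinite_surjective_pow (A := I) Groth.Agent.CubeField.finH1
      (n := m * n) (Nat.mul_pos hm hn)
    haveI : Subsingleton I.left := ⟨fun a b => by
      rw [h2] at hsI
      obtain ⟨a', rfl⟩ := hsI.surj a
      obtain ⟨b', rfl⟩ := hsI.surj b
      rw [Groth.Agent.AVQuotH1.one_left_apply, Groth.Agent.AVQuotH1.one_left_apply]⟩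
    exact hφ (by rw [← hqj, Groth.Agent.AVQuotH1.eq_one_of_subsingleton (Z := ⟨I⟩) (Q := ⟨A⟩) j, MonObj.comp_one])
  · apply EndAV.Hom.ext
    show (φ.toHom ≫ r ≫ s) ≫ (φ.toHom ≫ r ≫ s) = _
    rw [EndAV.Hom.toHom_nsmul]
    show _ = (φ.toHom ≫ r ≫ s) ^ (n * m)
    rw [hu, Category.assoc, ← Category.assoc (s ^ n), Groth.Agent.Isogeny14.hom_pow_comp q, hs, ← pow_mul]
    simp only [MonObj.comp_pow, Groth.Agent.Isogeny14.hom_pow_comp s, Category.id_comp, ← pow_mul]
    congr 1
    ring

end Aux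


/-- Let A be an abelian variety over a field k (a proper, geometrically integral commutative group
scheme over k). Then the rational endomorphism algebra End⁰(A) = ℚ ⊗_ℤ End_k(A), where End_k(A) is
the ring of endomorphisms of A defined over k (sum pointwise in the group law, product by
composition), is a semisimple ring. -/
theorem result (k : Type u) [Field k]
    (A : Over (Spec (CommRingCat.of k)))
    [GrpObj A] [IsCommMonObj A] [IsProper A.hom] [GeometricallyIntegral A.hom] :
    IsSemisimpleRing (EndAV.End0 A) := by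
  classical
  haveI : Module.Finite ℚ (EndAV.End0 A) := Groth.Agent.AVCSA22.finite_end0 A
  haveI : IsArtinianRing (EndAV.End0 A) := IsArtinianRing.of_finite ℚ _
  rw [IsArtinianRing.isSemisimpleRing_iff_jacobson]
  obtain ⟨l, hl⟩ : IsNilpotent (Ring.jacobson (EndAV.End0 A)) := IsSemiprimaryRing.isNilpotent
  rw [eq_bot_iff]
  intro x hx
  rw [Submodule.mem_bot]
  by_contra hx0
  obtain ⟨N, φ, hN, hφ⟩ := Groth.Agent.AVCSA22.exists_natCast_smul_eq_one_tmul x
  rw [← EndAV.toEnd0_apply] at hφ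
  have hφ1 : φ.toHom ≠ 1 := fun h => by
    rw [show φ = 0 from EndAV.Hom.ext h, map_zero] at hφ
    exact hx0 ((smul_eq_zero.1 hφ).resolve_left (Nat.cast_ne_zero.2 hN))
  obtain ⟨ψ, c, hc, hne, hsq⟩ := exists_regular φ hφ1
  have hmem : EndAV.toEnd0 (ψ * φ) ∈ Ring.jacobson (EndAV.End0 A) := by
    rw [map_mul, ← hφ, Nat.cast_smul_eq_nsmul]
    exact Ideal.mul_mem_left _ _ (nsmul_mem hx N)
  have hpow : ∀ m : ℕ, (ψ * φ) ^ (m + 1) = c ^ m • (ψ * φ) := fun m => by
    induction m with
    | zero => simp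
    | succ m ih => rw [_root_.pow_succ, ih, smul_mul_assoc, hsq, smul_smul, ← _root_.pow_succ]
  have h0 : EndAV.toEnd0 (ψ * φ) ^ (l + 1) = 0 := by
    have h : EndAV.toEnd0 (ψ * φ) ^ l = 0 := by
      have := Ideal.pow_mem_pow hmem l
      rwa [hl] at this
    rw [_root_.pow_succ, h, zero_mul]
  rw [← map_pow, hpow] at h0
  have h1 : c ^ l • (ψ * φ) = 0 :=
    Groth.Agent.AVDegree22.toEnd0_injective (A := A) (by rw [h0, map_zero])
  haveI : Module.Free ℤ (EndAV.End A) := Groth.Agent.TateTors22.free_hom (A := A) (B := A)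
  rw [← natCast_zsmul] at h1
  rcases smul_eq_zero.1 h1 with h | h
  · exact (pow_pos hc l).ne' (by exact_mod_cast h)
  · exact hne (by rw [h]; rfl)

end Groth.Agent.S15651
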