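import Groth.Statements.S15653
import Groth.Agent.Lib.TateCons19.Algebra
import Groth.Agent.Lib.TateCons19.Count
import Groth.Agent.S15655
-- import your own Groth.Agent.* helpers here

set_option autoImplicit false
universe u
open CategoryTheory MonoidalCategory CartesianMonoidalCategory MonObj GrpObj AlgebraicGeometry
open AbVar

namespace Groth.Agent.S15653

set_option linter.style.haveILetI false
set_option backward.isDefEq.respectTransparency.types false


/-- Let A be a simple abelian variety of dimension g over a finite field k with q elements — a proper,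
geometrically integral commutative group scheme over k, of Krull dimension g, whose only abelian
subvarieties over k (geometrically integral closed subgroup schemes) are the trivial subgroup and A
itself — and π_A its q-Frobenius endomorphism (the identity on points and the q-th power map on
sections; a homomorphism). Then End⁰(A) = ℚ ⊗_ℤ End_k(A) is finite-dimensional over ℚ and its
reduced degree [End⁰(A) : ℚ[π_A]]^(1/2) · [ℚ[π_A] : ℚ] equals 2g: there is a natural number n such
that End⁰(A) has rank n² as a module (by left multiplication) over the ℚ-subalgebra ℚ[π_A] generated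
by the image of π_A — a field when A is non-trivial — and n · [ℚ[π_A] : ℚ] = 2g. -/
theorem result (k : Type u) [Field k] [Finite k]
    (A : Over (Spec (CommRingCat.of k)))
    [GrpObj A] [IsCommMonObj A] [IsProper A.hom] [GeometricallyIntegral A.hom]
    (g : ℕ) (hg : topologicalKrullDim A.left = g)
    (hsimple : ∀ (B : Over (Spec (CommRingCat.of k))) [GrpObj B] [GeometricallyIntegral B.hom] (i : B ⟶ A) [IsMonHom i]
      [IsClosedImmersion i.left], Subsingleton B.left ∨ IsIso i)
    (πA : A ⟶ A) [IsMonHom πA] (hπAb : πA.left.base = 𝟙 _)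
    (hπAle : ∀ U : A.left.Opens, U ≤ πA.left ⁻¹ᵁ U)
    (hπAapp : ∀ (U : A.left.Opens) (s : Γ(A.left, U)), (πA.left.appLE U U (hπAle U)).hom s = s ^ Nat.card k) :
    Module.Finite ℚ (EndAV.End0 A) ∧ ∃ n : ℕ,
      Module.finrank (EndAV.QAdj (EndAV.End.of πA)) (EndAV.End0 A) = n ^ 2 ∧
      n * Module.finrank ℚ (EndAV.QAdj (EndAV.End.of πA)) = 2 * g := by
  classical
  obtain ⟨l, hlp, hl⟩ := Groth.Agent.TateTors22.exists_prime_ne_zero k
  haveI : Fact l.Prime := ⟨hlp⟩
  let Ω := AlgebraicClosure k
  haveI := Groth.Agent.TateTors22.free_tateMod (A := A) Ω l hl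
  haveI := Groth.Agent.TateTors22.finite_tateMod (A := A) Ω l hl
  haveI := GeometricallyIntegral.isIntegral_of_subsingleton A.hom
  haveI := Groth.Agent.AVCSA22.finite_end0 A
  refine ⟨inferInstance, ?_⟩
  obtain ⟨P, -, -, -, hP⟩ := Groth.Agent.AVDegree22.exists_int_charpoly (K := Ω) (l := l) hl hg (EndAV.End.of πA)
  obtain ⟨hm, hd⟩ := Groth.Agent.TateCons19.charpoly_facts Ω l hl hg hP
  have hA : Groth.Agent.TateCons19.IsFrob k πA.left := ⟨hπAle, hπAapp⟩
  have hnum := Groth.Agent.TateCons19.finrank_end0_eq_num Ω l hl hA (Groth.Agent.TateCons19.tateHyp Ω l hl hA hA) hP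
  rcases subsingleton_or_nontrivial (EndAV.End0 A) with h0 | h0
  · have hg0 : 2 * g = 0 := by
      have := Groth.Agent.TateCons19.natDegree_le_num_self hm
      rw [← hnum, Module.finrank_zero_of_subsingleton, hd] at this
      omega
    haveI : Subsingleton (EndAV.QAdj (EndAV.End.of πA)) := ⟨fun a b => Subtype.ext (Subsingleton.elim _ _)⟩
    refine ⟨1, ?_, by rw [Module.finrank_zero_of_subsingleton, hg0]⟩
    rw [Module.finrank, rank_subsingleton, map_one, one_pow]
  have hu := Groth.Agent.S15655.result k A hsimple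
  haveI : NoZeroDivisors (EndAV.End0 A) := ⟨fun {a b} hab => by
    by_cases ha : a = 0
    · exact Or.inl ha
    · exact Or.inr ((hu a ha).mul_right_eq_zero.1 hab)⟩
  haveI : IsDomain (EndAV.End0 A) := NoZeroDivisors.to_isDomain _
  have hirr := minpoly.irreducible (A := ℚ) (Algebra.IsIntegral.isIntegral (EndAV.toEnd0 (EndAV.End.of πA)))
  have hK : IsField (EndAV.QAdj (EndAV.End.of πA)) := Groth.Agent.FrobPull22.isField_of_irreducible_minpoly _ hirr
  obtain ⟨P', hP', hPmp⟩ := Groth.Agent.AVDegree22.exists_charpoly_eq_minpoly_pow Ω hl hg (EndAV.End.of πA) hirr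
  obtain rfl : P = P' := Polynomial.map_injective (Int.castRingHom ℤ_[l]) (RingHom.injective_int _) (hP.symm.trans hP')
  set mp := minpoly ℚ (EndAV.toEnd0 (EndAV.End.of πA)) with hmu
  have hmpm : mp.Monic := minpoly.monic (Algebra.IsIntegral.isIntegral _)
  have hdeg : Module.finrank ℚ (EndAV.QAdj (EndAV.End.of πA)) = mp.natDegree :=
    Groth.Agent.TateCons19.finrank_adjoin_eq (EndAV.toEnd0 (EndAV.End.of πA))
  set e := 2 * g / mp.natDegree with he
  have hge : e * mp.natDegree = 2 * g := by
    have h := hd
    rw [hPmp, Polynomial.natDegree_pow] at h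
    exact h
  refine ⟨e, ?_, by rw [hdeg, hge]⟩
  letI : Field (EndAV.QAdj (EndAV.End.of πA)) := @IsField.toField _ (EndAV.QAdj (EndAV.End.of πA)).toRing hK
  haveI : Module.Free (EndAV.QAdj (EndAV.End.of πA)) (EndAV.End0 A) := Module.Free.of_divisionRing _ _
  have htower := Module.finrank_mul_finrank ℚ (EndAV.QAdj (EndAV.End.of πA)) (EndAV.End0 A)
  rw [hdeg, hnum, hPmp, Groth.Agent.TateCons19.num_pow_pow hirr hmpm] at htower
  have hpos := hirr.natDegree_pos
  rw [pow_two]
  exact Nat.eq_of_mul_eq_mul_left hpos (by rw [htower]; ring)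

end Groth.Agent.S15653
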