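import Groth.Statements.S15654
import Groth.Agent.Lib.FrobPull22.Spectral

set_option autoImplicit false
universe u
open CategoryTheory MonoidalCategory CartesianMonoidalCategory MonObj GrpObj AlgebraicGeometry
open AbVar

namespace Groth.Agent.S15654

/-- First assertion: let A be an abelian variety over a finite field k with q elements (a proper,
geometrically integral commutative group scheme over k) and π_A its q-Frobenius endomorphism (the
identity on points and the q-th power map on sections; a homomorphism). Then the ℚ-subalgebra ℚ[π_A]
of End⁰(A) = ℚ ⊗_ℤ End_k(A) (End_k(A) the ring of endomorphisms defined over k) generated by the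
image 1 ⊗ π_A of the Frobenius endomorphism is a semisimple ring. -/
theorem result (k : Type u) [Field k] [Finite k]
    (A : Over (Spec (CommRingCat.of k)))
    [GrpObj A] [IsCommMonObj A] [IsProper A.hom] [GeometricallyIntegral A.hom]
    (πA : A ⟶ A) [IsMonHom πA] (hπAb : πA.left.base = 𝟙 _)
    (hπAle : ∀ U : A.left.Opens, U ≤ πA.left ⁻¹ᵁ U)
    (hπAapp : ∀ (U : A.left.Opens) (s : Γ(A.left, U)), (πA.left.appLE U U (hπAle U)).hom s = s ^ Nat.card k) :
    IsSemisimpleRing (EndAV.QAdj (EndAV.End.of πA)) := by
  exact FrobPull22.isSemisimpleRing_adjoin_singleton _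
    (FrobPull22.minpoly_frobenius πA hπAle Nat.card_pos.ne' hπAapp).1

end Groth.Agent.S15654
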