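import Groth.Statements.S1567
import Groth.Agent.Lib.SecDiv18.Stalk

set_option autoImplicit false
universe u
open CategoryTheory CategoryTheory.Limits AlgebraicGeometry
open Divisors

namespace Groth.Agent.S1567

/-- Let X be locally Noetherian and D a locally principal closed subscheme. At a point ξ of D that is
maximal in D under generisation (a generic point of a component of D), the local ring of X has
dimension at most one. -/
theorem result (X : Scheme.{u}) [IsLocallyNoetherian X]
    (D : X.IdealSheafData) (hD : Curv2.IsLocPrincipal D) (ξ : X)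
    (hξ : ξ ∈ (D.support : Set X)) (hgen : ∀ y ∈ (D.support : Set X), y ⤳ ξ → y = ξ) :
    ringKrullDim (X.presheaf.stalk ξ) ≤ 1 := by
  obtain ⟨U, hxU, f, hI⟩ := hD ξ hξ
  have hm := Groth.Agent.SecDiv.germ_mem_maximalIdeal U hxU f hI hξ
  rw [← IsLocalRing.maximalIdeal_height_eq_ringKrullDim]
  have h1 : (IsLocalRing.maximalIdeal (X.presheaf.stalk ξ)) ∈
      (Ideal.span {X.presheaf.germ U.1 ξ hxU f}).minimalPrimes :=
    ⟨⟨inferInstance, (Ideal.span_singleton_le_iff_mem _).mpr hm⟩, fun q hq _ =>
      (Groth.Agent.SecDiv.prime_eq_maximalIdeal U hxU f hI hgen q hq.1 (hq.2 (Ideal.subset_span rfl))).ge⟩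
  exact_mod_cast Ideal.height_le_one_of_isPrincipal_of_mem_minimalPrimes _ _ h1

end Groth.Agent.S1567
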