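import Groth.Statements.S15681
import Groth.Agent.Lib.VB17.Duality
import Groth.Agent.Lib.VB17.Proper
import Groth.Agent.Lib.CurveCoh17.DegTwo
import Groth.Agent.Lib.CurveCoh17.HZero
import Groth.Agent.Lib.CurveCoh17.Equality
import Groth.Agent.Lib.TensorNat17.Basic
import Groth.Agent.Lib.TensorMod.IdealMod
-- import your own Groth.Agent.* helpers here

set_option autoImplicit false
set_option linter.style.haveILetI false
set_option backward.isDefEq.respectTransparency false
set_option backward.isDefEq.respectTransparency.types false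
set_option maxHeartbeats 800000
set_option backward.isDefEq.respectTransparency false
universe u
open CategoryTheory CategoryTheory.Limits AlgebraicGeometry MonoidalCategory
open FreeSec Groth.Agent Groth.Agent.M1 Groth.Agent.M2 Groth.Agent.CurveCoh17

namespace Groth.Agent.S15681

/-- Let X be a smooth proper integral curve of genus g over an algebraically closed field k, T a finite
locally free O_X-module and D an effective Cartier divisor on X of degree m = dim_k H^0(X, O_D),
with m ≥ 1 and m ≥ 2g. If the restriction map H^0(X, T) → H^0(X, T ⊗ O_D) (written on T ⊗ O_X ≅ T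
and induced by O_X → O_D) is surjective, then H^1(X, T ⊗ I_E) = 0 for every effective Cartier
divisor E on X of degree m - 2g, I_E its ideal sheaf. (The published statement is phrased for a
family of sections of a fibration over the curve, parametrised by a base scheme, with T the
pull-back of the relative tangent sheaf along the section; this row is the case of a single section
over an algebraically closed field, to which that statement reduces, with T any finite locally free
module, which is all the argument uses.) -/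
theorem result (k : Type u) [Field k] [IsAlgClosed k]
    (X : Scheme.{u}) [X.Over (Spec (CommRingCat.of k))]
    (hX : Curve.IsSmoothProperCurve k X (X ↘ (Spec (CommRingCat.of k))))
    (T : X.Modules) (hT : FlatMod.IsFinLocFree T)
    (D : X.IdealSheafData) (hD : BlowUp.IsEffCartierIdeal D)
    (hD1 : 1 ≤ Module.finrank k (Coh.HH X (ClSub.quotMod D) 0))
    (hDg : 2 * Curv2.genus k X ≤ Module.finrank k (Coh.HH X (ClSub.quotMod D) 0))
    (hsurj : Function.Surjective (Sheaf.H.map ((SheafOfModules.toSheaf X.ringCatSheaf).map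
      ((CohB1.sheafifyMod X).map (CohB1.toPMod T ◁ (ClSub.toSubscheme D).val) :
        CohB1.tensorMod T (Coh.structureModule X) ⟶ CohB1.tensorMod T (ClSub.quotMod D))) 0))
    (E : X.IdealSheafData) (hE : BlowUp.IsEffCartierIdeal E)
    (hdegE : Module.finrank k (Coh.HH X (ClSub.quotMod E) 0) + 2 * Curv2.genus k X =
      Module.finrank k (Coh.HH X (ClSub.quotMod D) 0)) :
    Subsingleton (Coh.HH X (CohB1.tensorMod T (ClSub.idealMod E)) 1) := by
  classical
  obtain ⟨hp, hs, hint, hdim⟩ := hX
  haveI := hp; haveI := hs; haveI := hint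
  have hR : VB17.RegCurve k X := VB17.regCurve' hdim
  haveI := hR.like.noetherian
  have hL := hR.like
  have hbig := hasBigDeg_of_regCurve hR hdim
  have h0 := hL.h0_eq_one
  obtain ⟨W, lam, hW⟩ := VB17.exists_isDualizing hR h0 hbig
  have hdW := (hW.invariants hR h0 hbig).2.2
  obtain ⟨r, hTr⟩ := VB17.exists_rank_of_isFinLocFree' hT
  have hQO : ∀ Z : X.IdealSheafData, BlowUp.IsEffCartierIdeal Z →
      Curv2.deg k X (ClSub.idealMod Z) 1 = -(Module.finrank k (Coh.HH X (ClSub.quotMod Z) 0) : ℤ) ∧
        ∃ S : Finset X, SuppIn (ClSub.quotMod Z) S := by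
    intro Z hZ
    have hI1 := (isInvertible_iff_isFinLocFreeOfRank_one _).1 (isInvertible_idealMod Z hZ)
    have hO1 := (isInvertible_iff_isFinLocFreeOfRank_one _).1 (PicLoc.isInvertible_structureModule X)
    have hS := shortExact_idealMod Z
    haveI : Mono (ClSub.idealModι Z) := hS.mono_f
    haveI : Epi (ClSub.toSubscheme Z) := hS.epi_g
    have hcQ : Coh.IsCoh (ClSub.quotMod Z) := CurveCoh17.isCoh_quotMod Z
    obtain ⟨S, hSupp⟩ := exists_suppIn_of_maximal hL.dim hcQ fun x hx => by
      rw [eq_genericPoint_of_maximal hx]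
      intro a
      obtain ⟨b, rfl⟩ := (epi_iff_stalk (ClSub.toSubscheme Z)).1 inferInstance _ a
      obtain ⟨c, rfl⟩ := surjective_stalkLin_genericPoint (nonempty_stalk_equiv hI1 _) (nonempty_stalk_equiv hO1 _)
        (ClSub.idealModι Z) ((mono_iff_stalk _).1 inferInstance _) b
      refine (stalkLin_comp (ClSub.idealModι Z) (ClSub.toSubscheme Z) _ c).symm.trans ?_
      rw [show ClSub.idealModι Z ≫ ClSub.toSubscheme Z = 0 from kernel.condition _]
      show (stalkAb _).map (0 : ClSub.idealMod Z ⟶ ClSub.quotMod Z) c = 0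
      rw [Functor.map_zero]
      rfl
    refine ⟨?_, S, hSupp⟩
    have hQfin := hL.fin _ hcQ 0
    have he := euler_add hS (hL.adm (isCoh_of_ofRank hI1)) (hL.adm hcQ)
    change Curv2.euler k X (Coh.structureModule X) = Curv2.euler k X (ClSub.idealMod Z) +
      Curv2.euler k X (ClSub.quotMod Z) at he
    rw [hSupp.euler_eq hQfin] at he
    rw [Curv2.deg, he]
    push_cast
    ring
  obtain ⟨hdI, -⟩ := hQO E hE
  obtain ⟨-, S, hSD⟩ := hQO D hD
  have hI := isInvertible_idealMod E hE
  obtain ⟨J, hJ, ⟨eJ⟩⟩ := exists_inverse hI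
  have hI1 := (isInvertible_iff_isFinLocFreeOfRank_one _).1 hI
  have hF : FlatMod.IsFinLocFreeOfRank r (CohB1.tensorMod T (ClSub.idealMod E)) := by
    simpa using isFinLocFreeOfRank_tensor hTr hI1
  by_contra hne
  rw [not_subsingleton_iff_nontrivial] at hne
  obtain ⟨η, hη⟩ := exists_ne (0 : Coh.HH X (CohB1.tensorMod T (ClSub.idealMod E)) 1)
  haveI : Module.Free k (Coh.HH X (CohB1.tensorMod T (ClSub.idealMod E)) 1) := Module.Free.of_divisionRing k _
  obtain ⟨μ, hμ⟩ := Module.Projective.exists_dual_ne_zero k hη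
  obtain ⟨φ, hφ⟩ := hW.exists_hom hR h0 hbig hF μ
  have hφ0 : φ ≠ 0 := by
    rintro rfl
    apply hμ
    rw [hφ, VB17.hmap_zero']
    simp
  -- transpose to a map `T ⟶ W ⊗ J`
  let L := CohB1.tensorMod W J
  have hL' : PicF.IsInvertible L := isInvertible_tensor hW.inv hJ
  have hL1 := (isInvertible_iff_isFinLocFreeOfRank_one L).1 hL'
  let ψ : T ⟶ L := (untwist eJ T).inv ≫ tensorMap φ (𝟙 J)
  have hψ : ψ ≠ 0 := by
    intro h
    haveI := VB17.isEquivalence_tensorR hJ
    have h1 : (tensorR J).map φ = 0 := by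
      rw [← cancel_epi (untwist eJ T).inv, comp_zero]
      exact h
    exact hφ0 ((tensorR J).map_injective (h1.trans (Functor.map_zero _ _ _).symm))
  obtain ⟨rK, rI, hK, hI', -, hle, h0', -⟩ := VB17.exists_image hR.pid hTr hL1 ψ
  obtain rfl : rI = 1 := by
    have : rI ≠ 0 := fun h => hψ (h0'.1 h)
    omega
  have hIinv := (isInvertible_iff_isFinLocFreeOfRank_one (Abelian.image ψ)).2 hI'
  have hdegL : Curv2.deg k X (Abelian.image ψ) 1 ≤
      (Module.finrank k (Coh.HH X (ClSub.quotMod D) 0) : ℤ) - 2 := by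
    refine (VB17.deg_le_of_mono hL hI' hL1 (Abelian.image.ι ψ)).1.trans ?_
    rw [hL.deg_tensor_invertible hW.inv hJ, hdW, hL.deg_of_tensor_iso hI hJ eJ, hdI]
    omega
  -- global sections of the image surject onto those of its restriction to `D`
  let Q := ClSub.quotMod D
  let q : Coh.structureModule X ⟶ Q := ClSub.toSubscheme D
  let π : T ⟶ Abelian.image ψ := Abelian.factorThruImage ψ
  have hsurj' : Function.Surjective (hmap k (tensorMap (𝟙 T) q) 0) := by
    have h : tensorMap (𝟙 T) q = (CohB1.sheafifyMod X).map (CohB1.toPMod T ◁ (ClSub.toSubscheme D).val) := by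
      show (shf X).map _ = _
      erw [CategoryTheory.Functor.map_id, MonoidalCategory.id_tensorHom]
      rfl
    rw [h]
    exact hsurj
  haveI hepi : Epi (tensorMap π (𝟙 Q)) := (epi_iff_stalk _).2 fun x =>
    surjective_stalk_tensorMap π (𝟙 Q) x ((epi_iff_stalk π).1 inferInstance x)
      ((epi_iff_stalk (𝟙 Q)).1 inferInstance x)
  have hsT : SuppIn (CohB1.tensorMod T Q) S := by
    refine ⟨hSD.closed, fun x hx a => ?_⟩
    obtain ⟨b, rfl⟩ := (epi_iff_stalk (tensorComm Q T).hom).1 inferInstance x a
    rw [(hSD.tensor T).zero x hx b]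
    exact map_zero _
  have hsurj2 : Function.Surjective (hmap k (tensorMap π (𝟙 Q)) 0) := by
    have hsK : SuppIn (kernel (tensorMap π (𝟙 Q))) S := ⟨hSD.closed, fun x hx a =>
      (mono_iff_stalk (kernel.ι (tensorMap π (𝟙 Q)))).1 inferInstance x
        ((hsT.zero x hx _).trans (map_zero _).symm)⟩
    haveI := hsK.subsingleton_HH 0
    let K : ShortComplex X.Modules :=
      ShortComplex.mk (kernel.ι (tensorMap π (𝟙 Q))) (tensorMap π (𝟙 Q)) (kernel.condition _)
    have hK : K.ShortExact := { exact := ShortComplex.exact_of_f_is_kernel _ (kernelIsKernel _) }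
    exact fun y => (exact_hmap_hdelta k hK 0 y).1 (Subsingleton.elim _ _)
  have hsurj3 : Function.Surjective (hmap k (tensorMap (𝟙 (Abelian.image ψ)) q) 0) := by
    intro z
    obtain ⟨y, rfl⟩ := hsurj2 z
    obtain ⟨x, rfl⟩ := hsurj' y
    refine ⟨hmap k (tensorMap π (𝟙 _)) 0 x, ?_⟩
    rw [← hmap_comp, ← hmap_comp, ← tensorMap_comp, ← tensorMap_comp]
    simp
  have hQfin : Module.Finite k (Coh.HH X Q 0) := hL.fin _ (CurveCoh17.isCoh_quotMod D) 0
  have hcount : Module.finrank k (Coh.HH X (CohB1.tensorMod (Abelian.image ψ) Q) 0) =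
      Module.finrank k (Coh.HH X Q 0) := by
    rw [← (hequiv k (tensorComm Q (Abelian.image ψ)) 0).finrank_eq,
      hSD.finrank_tensor hQfin (Abelian.image ψ) (fun x => nonempty_stalk_equiv hI' x), one_mul]
  haveI := hL.fin _ (isCoh_of_ofRank hI') 0
  haveI : Module.Finite k (Coh.HH X (CohB1.tensorMod (Abelian.image ψ) (Coh.structureModule X)) 0) :=
    Module.Finite.equiv (hequiv k (tensorRUnit (Abelian.image ψ)) 0).symm
  have hge := LinearMap.finrank_le_finrank_of_surjective hsurj3
  rw [hcount, (hequiv k (tensorRUnit (Abelian.image ψ)) 0).finrank_eq] at hge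
  have hnt : Nontrivial (Coh.HH X (Abelian.image ψ) 0) :=
    Module.finrank_pos_iff.1 (show 0 < Module.finrank k (Coh.HH X (Abelian.image ψ) 0) from
      lt_of_lt_of_le hD1 hge)
  have hub := hL.h0_le_deg_add (rkOne_of_invertible hL.dim hIinv) hnt
  rw [h0] at hub
  have hge' : (Module.finrank k (Coh.HH X Q 0) : ℤ) ≤
      Module.finrank k (Coh.HH X (Abelian.image ψ) 0) := by exact_mod_cast hge
  simp only [Q] at hge'
  omega

end Groth.Agent.S15681
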