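import Groth.Statements.S15682
import Groth.Agent.Lib.FreeSec5.Main

set_option autoImplicit false
universe u
open CategoryTheory CategoryTheory.Limits AlgebraicGeometry MonoidalCategory
open FreeSec

namespace Groth.Agent.S15682

/-- Let C be a smooth proper integral curve over a field k, T a k-scheme, F a finite locally free module
on T ×_k C (projections pr_T and pr_C) and D an effective Cartier divisor on C with ideal sheaf I_D.
Then R^1 pr_{T*}(F ⊗ pr_C^* I_D) vanishes if and only if R^1 pr_{T*} F vanishes and the restriction
pr_{T*}(F ⊗ pr_C^* O_C) → pr_{T*}(F ⊗ pr_C^* O_D), induced by O_C → O_D, is an epimorphism of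
O_T-modules. (The published statement has F equal to the pull-back of the relative tangent sheaf
along a family of sections of a fibration over C with values in its smooth locus, and calls the
three conditions D-free, 0-free and weakly D-free; this row keeps of F only its finite local
freeness, which is all the argument uses, and writes the restriction map on F ⊗ pr_C^* O_C ≅ F; the
curve is only assumed smooth, proper and integral over k, not geometrically connected, which the
argument does not use.) -/
theorem result (k : Type u) [Field k]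
    (C : Scheme.{u}) [C.Over (Spec (CommRingCat.of k))] (hC : Curve.IsSmoothProperCurve k C (C ↘ (Spec (CommRingCat.of k))))
    (T : Scheme.{u}) [T.Over (Spec (CommRingCat.of k))]
    [HasInjectiveResolutions (pullback (T ↘ (Spec (CommRingCat.of k))) (C ↘ (Spec (CommRingCat.of k)))).Modules]
    (F : (pullback (T ↘ (Spec (CommRingCat.of k))) (C ↘ (Spec (CommRingCat.of k)))).Modules) (hF : FlatMod.IsFinLocFree F)
    (D : C.IdealSheafData) (hD : BlowUp.IsEffCartierIdeal D) :
    IsZero ((Coh.Rpush (pullback.fst (T ↘ (Spec (CommRingCat.of k))) (C ↘ (Spec (CommRingCat.of k)))) 1).obj (CohB1.tensorMod F ((Scheme.Modules.pullback (pullback.snd (T ↘ (Spec (CommRingCat.of k))) (C ↘ (Spec (CommRingCat.of k))))).obj (ClSub.idealMod D)))) ↔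
    (IsZero ((Coh.Rpush (pullback.fst (T ↘ (Spec (CommRingCat.of k))) (C ↘ (Spec (CommRingCat.of k)))) 1).obj F) ∧
      Epi ((Coh.push (pullback.fst (T ↘ (Spec (CommRingCat.of k))) (C ↘ (Spec (CommRingCat.of k))))).map
        ((CohB1.sheafifyMod (pullback (T ↘ (Spec (CommRingCat.of k))) (C ↘ (Spec (CommRingCat.of k))))).map (CohB1.toPMod F ◁ ((Scheme.Modules.pullback (pullback.snd (T ↘ (Spec (CommRingCat.of k))) (C ↘ (Spec (CommRingCat.of k))))).map (ClSub.toSubscheme D)).val) :
          CohB1.tensorMod F ((Scheme.Modules.pullback (pullback.snd (T ↘ (Spec (CommRingCat.of k))) (C ↘ (Spec (CommRingCat.of k))))).obj (Coh.structureModule C)) ⟶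
            CohB1.tensorMod F ((Scheme.Modules.pullback (pullback.snd (T ↘ (Spec (CommRingCat.of k))) (C ↘ (Spec (CommRingCat.of k))))).obj (ClSub.quotMod D))))) := by
  obtain ⟨e⟩ := FreeSec5.nonempty_tensor_pullback_unit
    (pullback.snd (T ↘ (Spec (CommRingCat.of k))) (C ↘ (Spec (CommRingCat.of k)))) F
  refine (FreeSec5.isZero_iff k _ hC _ hF D hD).trans (and_congr ?_ Iff.rfl)
  exact Iso.isZero_iff ((Coh.Rpush _ 1).mapIso e)

end Groth.Agent.S15682
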