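import Groth.Statements.S15686
import Groth.Agent.Lib.StackGal23.Twist

set_option autoImplicit false
set_option backward.isDefEq.respectTransparency false
set_option backward.isDefEq.respectTransparency.types false
universe u
open CategoryTheory AlgebraicGeometry MonObj
open StackCount

namespace Groth.Agent.S15686

/-- Let k be a finite field with algebraic closure k̄, G a smooth affine algebraic group over k acting
on a variety X over k (reduced and of finite type), and [X/G] the quotient stack whose objects over
a k-scheme T are G-torsors P → T (schemes, locally trivial for the étale topology) with a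
G-equivariant morphism P → X. Suppose the Galois cohomology set H¹(k, G) (continuous cocycles of
Gal(k̄/k) with values in G(k̄), up to equivalence) is finite, and choose for every class c a
continuous cocycle z_c in it, a twist X_c of X by z_c through the action (a k-scheme whose base
change to k̄ is identified with that of X so that the Galois action becomes x ↦ z_c(σ) · σx), and
the inner form G_c of G determined by z_c. If the groupoid of k-points of [X/G] is essentially
finite, then its point count (the sum over isomorphism classes of the inverse orders of the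
automorphism groups) equals the sum over the classes c of #X_c(k) / #G_c(k). (The published
statement is for the k′-points over any finite extension k′ of k and for any smooth algebraic group
G; this row is the case k′ = k, to which the general case reduces by base change, and takes G affine
so that every torsor is a scheme.) -/
theorem result (k : Type u) [Field k] [Finite k]
    (kb : Type u) [Field kb] [Algebra k kb] [IsAlgClosure k kb]
    (G : Over (Spec (CommRingCat.of k))) [GrpObj G] [Smooth G.hom] [IsAffineHom G.hom]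
    (X : Over (Spec (CommRingCat.of k))) [LocallyOfFiniteType X.hom] [QuasiCompact X.hom]
    [IsReduced X.left] (aX : AlgGrp.Action G X)
    [Fintype (GpH1.H1lc (kb ≃ₐ[k] kb) (SGA7.Pts kb G))]
    (z : GpH1.H1lc (kb ≃ₐ[k] kb) (SGA7.Pts kb G) → GpH1.OneCocycleLC (kb ≃ₐ[k] kb) (SGA7.Pts kb G))
    (hz : ∀ c, (z c).cl = c)
    (Xz : GpH1.H1lc (kb ≃ₐ[k] kb) (SGA7.Pts kb G) → Over (Spec (CommRingCat.of k)))
    (hXz : ∀ c, GalTw.IsActTwist kb aX (z c).1 (Xz c))
    (Gin : GpH1.H1lc (kb ≃ₐ[k] kb) (SGA7.Pts kb G) → Over (Spec (CommRingCat.of k)))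
    [∀ c, GrpObj (Gin c)]
    (hGin : ∀ c, GalTw.IsInnTwist kb G (z c).1 (Gin c))
    (h : StkCnt.IsEssFinite (StkCnt.pts (AlgSt.QuotSt Scheme.etalePrecoverage G aX) k)) :
    StkCnt.ptCount (AlgSt.QuotSt Scheme.etalePrecoverage G aX) k h =
      ∑ c : GpH1.H1lc (kb ≃ₐ[k] kb) (SGA7.Pts kb G),
        (Nat.card (SGA7.Pts k (Xz c)) : ℚ) / (Nat.card (SGA7.Pts k (Gin c)) : ℚ) := by
  classical
  haveI : LocallyOfFiniteType G.hom := inferInstance
  haveI : QuasiCompact G.hom := inferInstance
  haveI hfinX : ∀ c, Finite (Groth.Agent.StackGal23.Fix (k' := k) kb aX (fun σ => (z c).1 σ)) := fun c => by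
    obtain ⟨⟨e⟩, hf⟩ := Groth.Agent.StackGal23.exists_twist_equiv kb (hXz c)
    exact Finite.of_equiv _ e
  haveI hfinG : ∀ c, Finite (Groth.Agent.StackGal23.innFix (k' := k) kb (fun σ => (z c).1 σ)) := fun c => by
    obtain ⟨⟨e⟩, hf⟩ := Groth.Agent.StackGal23.exists_inn_equiv kb (hGin c)
    exact Finite.of_equiv _ e
  refine (Groth.Agent.StackGal23.count_eq kb aX (fun c σ => (z c).1 σ) (fun c => ⟨(z c).1.2, (z c).2⟩) ?_ ?_ h).trans
    (Finset.sum_congr rfl fun c _ => ?_)
  · rintro i j ⟨g, hg⟩
    rw [← hz i, ← hz j]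
    exact (GpH1.OneCocycleLC.cl_eq_cl_iff _ _).2 ⟨g, hg⟩
  · intro a ha
    let a' : GpH1.OneCocycleLC (kb ≃ₐ[k] kb) (SGA7.Pts kb G) := ⟨⟨a, ha.1⟩, ha.2⟩
    obtain ⟨g, hg⟩ := (GpH1.OneCocycleLC.cl_eq_cl_iff _ _).1 (hz a'.cl)
    exact ⟨a'.cl, g, hg⟩
  · obtain ⟨⟨eX⟩, -⟩ := Groth.Agent.StackGal23.exists_twist_equiv kb (hXz c)
    obtain ⟨⟨eG⟩, -⟩ := Groth.Agent.StackGal23.exists_inn_equiv kb (hGin c)
    rw [Nat.card_congr eX, Nat.card_congr eG]

end Groth.Agent.S15686
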