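import Groth.Statements.S15688
import Groth.Agent.Lib.StackLang19.Main
-- import your own Groth.Agent.* helpers here

set_option autoImplicit false
universe u
open CategoryTheory AlgebraicGeometry MonoidalCategory CartesianMonoidalCategory MonObj
open StackCount

namespace Groth.Agent.S15688

set_option linter.style.haveILetI false
set_option backward.isDefEq.respectTransparency.types false


/-- Let k be a finite field with algebraic closure k̄, and let A, B, C be smooth algebraic groups over k
with homomorphisms i : A → B and π : B → C forming a short exact sequence 1 → A → B → C → 1 (π ∘ i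
trivial, B a pseudo-torsor over C under A acting through i, and π acquiring sections fppf-locally on
C), with A connected; let c be the action of B on A by conjugation, i.e. an action with i(b · a) = b
i(a) b⁻¹. Let z be a continuous cocycle of Gal(k̄/k) with values in B(k̄), A_z a twist of A by z
through the action c, B_z an inner form of B by z, and C_z an inner form of C by the image of z
under π. Then the numbers of k-points satisfy #B_z(k) = #A_z(k) · #C_z(k). -/
theorem result (k : Type u) [Field k] [Finite k]
    (kb : Type u) [Field kb] [Algebra k kb] [IsAlgClosure k kb]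
    (A B C : Over (Spec (CommRingCat.of k))) [GrpObj A] [GrpObj B] [GrpObj C]
    [Smooth A.hom] [Smooth B.hom] [Smooth C.hom]
    [QuasiCompact A.hom] [QuasiCompact B.hom] [QuasiCompact C.hom]
    (i : A ⟶ B) (π : B ⟶ C) [IsMonHom i] [IsMonHom π]
    (hex : NonAbH1.IsExactSeq Scheme.fppfPrecoverage i π) [ConnectedSpace A.left]
    (c : AlgGrp.Action B A) (hc : c.act ≫ i = fst B A * (snd B A ≫ i) * (fst B A)⁻¹)
    (z : GpH1.OneCocycleLC (kb ≃ₐ[k] kb) (SGA7.Pts kb B))
    (Az : Over (Spec (CommRingCat.of k))) (hAz : GalTw.IsActTwist kb c z.1 Az)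
    (Bz : Over (Spec (CommRingCat.of k))) [GrpObj Bz] (hBz : GalTw.IsInnTwist kb B z.1 Bz)
    (Cz : Over (Spec (CommRingCat.of k))) [GrpObj Cz]
    (hCz : GalTw.IsInnTwist kb C
      (GalTw.lcMap (GalTw.ptsMap (K := kb) π) (GalTw.ptsMap_smul (K := kb) π) z).1 Cz) :
    Nat.card (SGA7.Pts k Bz) = Nat.card (SGA7.Pts k Az) * Nat.card (SGA7.Pts k Cz) := by
  haveI : IsMonHom i := hex.1
  haveI : IsMonHom π := hex.2.1
  obtain ⟨⟨eB⟩, -⟩ := Groth.Agent.StackGal23.exists_inn_equiv kb hBz
  obtain ⟨⟨eC⟩, -⟩ := Groth.Agent.StackGal23.exists_inn_equiv kb hCz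
  obtain ⟨⟨eA⟩, -⟩ := Groth.Agent.StackGal23.exists_twist_equiv kb hAz
  rw [Nat.card_congr eA, Nat.card_congr eB, Nat.card_congr eC, Groth.Agent.StackLang19.card_innFix hex hc z]
  rfl

end Groth.Agent.S15688
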