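import Groth.Statements.S1569
import Groth.Agent.Lib.SecDiv18.Stalk

set_option autoImplicit false
universe u
open CategoryTheory CategoryTheory.Limits AlgebraicGeometry
open Divisors

namespace Groth.Agent.S1569

/-- On a Noetherian scheme, an effective Cartier divisor which is integral as a closed subscheme has a
discrete valuation ring as the local ring of the ambient scheme at its generic point. -/
theorem result (X : Scheme.{u}) [IsNoetherian X]
    (D : X.IdealSheafData) (hD : BlowUp.IsEffCartierIdeal D) [IsIntegral D.subscheme]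
    (ξ : X) (hξ : IsGenericPoint ξ (D.support : Set X)) :
    ∃ _ : IsDomain (X.presheaf.stalk ξ), IsDiscreteValuationRing (X.presheaf.stalk ξ) := by
  have hξD : ξ ∈ (D.support : Set X) := hξ.mem
  obtain ⟨U, hxU, f, hI, hf, hfm, hq⟩ := Groth.Agent.SecDiv.exists_stalk_eqn hD hξD
  refine Groth.Agent.SecDiv.exists_isDiscreteValuationRing hf ?_
  let := TopCat.Presheaf.algebra_section_stalk X.presheaf (⟨ξ, hxU⟩ : U.1)
  have := U.2.isLocalization_stalk ⟨ξ, hxU⟩
  have hne : Nonempty (D.subschemeι ⁻¹ᵁ U.1 : D.subscheme.Opens) := by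
    have : ξ ∈ Set.range D.subschemeι := D.range_subschemeι.ge hξD
    obtain ⟨z, hz⟩ := this
    exact ⟨⟨z, show D.subschemeι z ∈ U.1 from hz ▸ hxU⟩⟩
  have hIp : (D.ideal U).IsPrime := by
    conv => arg 1; rw [← D.ker_subschemeι, Scheme.Hom.ker_apply]
    exact RingHom.ker_isPrime _
  have hdisj : Disjoint ((U.2.primeIdealOf ⟨ξ, hxU⟩).asIdeal.primeCompl : Set Γ(X, U.1)) (D.ideal U : Set Γ(X, U.1)) := by
    refine Set.disjoint_left.mpr fun a ha haI => ha ?_
    have hξD' : ξ ∈ D.support := hξD
    rw [Scheme.IdealSheafData.mem_support_iff_of_mem hxU, Scheme.mem_zeroLocus_iff] at hξD'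
    by_contra haP
    exact hξD' a haI ((X.mem_basicOpen a ξ hxU).mpr ((Groth.Agent.M1.isUnit_germ_iff U.2 hxU a).mpr haP))
  have hp := IsLocalization.isPrime_of_isPrime_disjoint (U.2.primeIdealOf ⟨ξ, hxU⟩).asIdeal.primeCompl
    (X.presheaf.stalk ξ) (D.ideal U) hIp hdisj
  rw [hI, Ideal.map_span, Set.image_singleton] at hp
  exact (hq (fun y hy hyx => hyx.antisymm ((hξ.specializes hy)) |>.eq) _ hp (Ideal.subset_span rfl)).symm

end Groth.Agent.S1569
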