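import Groth.Statements.S15695
import Mathlib.RingTheory.FiniteType
import Mathlib.RingTheory.Localization.AtPrime.Basic
import Mathlib.AlgebraicGeometry.Morphisms.FiniteType

set_option autoImplicit false
universe u
open CategoryTheory AlgebraicGeometry
open RatVar

set_option linter.style.haveILetI false
set_option backward.isDefEq.respectTransparency.types false

namespace Groth.Agent.S15695

theorem range_subset_open {A : Type u} [CommRing A] [IsLocalRing A] {X : Scheme.{u}}
    (l : Spec (CommRingCat.of A) ⟶ X) (O : X.Opens)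
    (s : Spec (CommRingCat.of (IsLocalRing.ResidueField A)))
    (h : (Spec.map (CommRingCat.ofHom (IsLocalRing.residue A)) ≫ l) s ∈ O) :
    Set.range l ⊆ (O : Set X) := by
  have hs : Spec.map (CommRingCat.ofHom (IsLocalRing.residue A)) s = IsLocalRing.closedPoint A := by
    apply PrimeSpectrum.ext
    show Ideal.comap (IsLocalRing.residue A) (s : PrimeSpectrum (IsLocalRing.ResidueField A)).asIdeal = IsLocalRing.maximalIdeal A
    rw [Ideal.eq_bot_of_prime (s : PrimeSpectrum (IsLocalRing.ResidueField A)).asIdeal, ← RingHom.ker_eq_comap_bot, IsLocalRing.ker_residue]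
  rw [Scheme.Hom.comp_apply, hs] at h
  rintro _ ⟨x, rfl⟩
  exact ((IsLocalRing.specializes_closedPoint (x : PrimeSpectrum A)).map l.continuous).mem_open O.2 h

theorem of_retract {k : Type u} [Field k] {X : Scheme.{u}} (f : X ⟶ Spec (CommRingCat.of k)) (n : ℕ)
    {T : Scheme.{u}} (j : T ⟶ Spec (CommRingCat.of (MvPolynomial (Fin n) k))) [IsOpenImmersion j]
    (U : X.Opens) (hU : (U : Set X).Nonempty) (a₀ : (U : Scheme.{u}) ⟶ T) (b₀ : T ⟶ X)
    (hab : a₀ ≫ b₀ = U.ι)
    (hb : b₀ ≫ f = j ≫ Spec.map (CommRingCat.ofHom (algebraMap k (MvPolynomial (Fin n) k)))) :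
    ∃ (U : X.Opens) (n : ℕ) (Y : (Spec (CommRingCat.of (MvPolynomial (Fin n) k))).Opens)
        (a : (U : Scheme.{u}) ⟶ (Y : Scheme.{u})) (b : (Y : Scheme.{u}) ⟶ (U : Scheme.{u})),
        (U : Set X).Nonempty ∧ a ≫ b = 𝟙 (U : Scheme.{u}) ∧
        a ≫ Y.ι ≫ Spec.map (CommRingCat.ofHom (algebraMap k (MvPolynomial (Fin n) k))) = U.ι ≫ f ∧
        b ≫ U.ι ≫ f = Y.ι ≫ Spec.map (CommRingCat.ofHom (algebraMap k (MvPolynomial (Fin n) k))) := by
  let π := Spec.map (CommRingCat.ofHom (algebraMap k (MvPolynomial (Fin n) k)))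
  let V : T.Opens := b₀ ⁻¹ᵁ U
  let a₁ : (U : Scheme.{u}) ⟶ (V : Scheme.{u}) := IsOpenImmersion.lift V.ι a₀ (by
    rw [Scheme.Opens.range_ι]
    rintro _ ⟨z, rfl⟩
    show b₀ (a₀ z) ∈ U
    rw [← Scheme.Hom.comp_apply, hab]
    exact z.2)
  refine ⟨U, n, j ''ᵁ V, a₁ ≫ (j.isoImage V).hom, (j.isoImage V).inv ≫ (b₀ ∣_ U), hU, ?_, ?_, ?_⟩
  · rw [Category.assoc, Iso.hom_inv_id_assoc, ← cancel_mono U.ι, Category.id_comp, Category.assoc,
      morphismRestrict_ι, IsOpenImmersion.lift_fac_assoc, hab]
  · rw [Category.assoc, Scheme.Hom.isoImage_hom_ι_assoc, IsOpenImmersion.lift_fac_assoc, ← hb,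
      ← Category.assoc, hab]
  · rw [Category.assoc, morphismRestrict_ι_assoc, ← cancel_epi (j.isoImage V).hom, Iso.hom_inv_id_assoc,
      Scheme.Hom.isoImage_hom_ι_assoc, hb]

/-- Let X be an integral scheme of finite type over a field k. The following are equivalent. (i) There
are a non-empty open subscheme U of X, an open subscheme Y of an affine space Spec k[x_1, ..., x_n]
and k-morphisms U → Y → U whose composite is the identity of U. (ii) There is a non-empty open
subscheme V of X such that for every local k-algebra A with residue field κ, every k-morphism Spec κ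
→ V lifts along Spec κ → Spec A to a k-morphism Spec A → V. (Local k-algebras are taken in the
universe of k.) -/
theorem result (k : Type u) [Field k] (X : Scheme.{u})
    (f : X ⟶ Spec (CommRingCat.of k)) [IsIntegral X] [LocallyOfFiniteType f] [QuasiCompact f] :
    (∃ (U : X.Opens) (n : ℕ) (Y : (Spec (CommRingCat.of (MvPolynomial (Fin n) k))).Opens)
        (a : (U : Scheme.{u}) ⟶ (Y : Scheme.{u})) (b : (Y : Scheme.{u}) ⟶ (U : Scheme.{u})),
        (U : Set X).Nonempty ∧ a ≫ b = 𝟙 (U : Scheme.{u}) ∧
        a ≫ Y.ι ≫ Spec.map (CommRingCat.ofHom (algebraMap k (MvPolynomial (Fin n) k))) = U.ι ≫ f ∧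
        b ≫ U.ι ≫ f = Y.ι ≫ Spec.map (CommRingCat.ofHom (algebraMap k (MvPolynomial (Fin n) k)))) ↔
    (∃ V : X.Opens, (V : Set X).Nonempty ∧
      ∀ (A : Type u) [CommRing A] [IsLocalRing A] [Algebra k A]
        (g : Spec (CommRingCat.of (IsLocalRing.ResidueField A)) ⟶ (V : Scheme.{u})),
        g ≫ V.ι ≫ f = Spec.map (CommRingCat.ofHom ((IsLocalRing.residue A).comp (algebraMap k A))) →
        ∃ g' : Spec (CommRingCat.of A) ⟶ (V : Scheme.{u}),
          Spec.map (CommRingCat.ofHom (IsLocalRing.residue A)) ≫ g' = g ∧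
          g' ≫ V.ι ≫ f = Spec.map (CommRingCat.ofHom (algebraMap k A))) := by
  classical
  constructor
  · rintro ⟨U, n, Y, a, b, hU, hab, ha, hb⟩
    refine ⟨U, hU, fun A _ _ _ g hg => ?_⟩
    let P := MvPolynomial (Fin n) k
    let π := Spec.map (CommRingCat.ofHom (algebraMap k P))
    let res := IsLocalRing.residue A
    let c : P →+* IsLocalRing.ResidueField A := (Spec.preimage (g ≫ a ≫ Y.ι)).hom
    have hc : Spec.map (CommRingCat.ofHom c) = g ≫ a ≫ Y.ι := Spec.map_preimage _
    have hck : c.comp (algebraMap k P) = res.comp (algebraMap k A) := by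
      have h := hg
      rw [← ha, ← Category.assoc, ← Category.assoc, Category.assoc g a Y.ι, ← hc, ← Spec.map_comp] at h
      exact congrArg CommRingCat.Hom.hom (Spec.map_injective h)
    choose v hv using fun i => IsLocalRing.residue_surjective (c (MvPolynomial.X i))
    let e : P →+* A := (MvPolynomial.aeval v).toRingHom
    have hec : res.comp e = c := by
      apply MvPolynomial.ringHom_ext
      · intro r
        show res (MvPolynomial.aeval v (MvPolynomial.C r)) = c (MvPolynomial.C r)
        rw [MvPolynomial.aeval_C]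
        exact (RingHom.congr_fun hck r).symm
      · intro i
        show res (MvPolynomial.aeval v (MvPolynomial.X i)) = _
        rw [MvPolynomial.aeval_X]
        exact hv i
    let l : Spec (CommRingCat.of A) ⟶ Spec (CommRingCat.of P) := Spec.map (CommRingCat.ofHom e)
    have hl : Spec.map (CommRingCat.ofHom res) ≫ l = g ≫ a ≫ Y.ι := by
      rw [← hc, ← hec]
      exact (Spec.map_comp (CommRingCat.ofHom e) (CommRingCat.ofHom res)).symm
    let s : Spec (CommRingCat.of (IsLocalRing.ResidueField A)) := IsLocalRing.closedPoint (IsLocalRing.ResidueField A)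
    have hr : Set.range l ⊆ Set.range Y.ι := by
      rw [Scheme.Opens.range_ι]
      apply range_subset_open l Y s
      rw [hl, ← Category.assoc, Scheme.Hom.comp_apply]
      exact ((g ≫ a) s).2
    have hl' : Spec.map (CommRingCat.ofHom res) ≫ IsOpenImmersion.lift Y.ι l hr = g ≫ a := by
      rw [← cancel_mono Y.ι, Category.assoc, IsOpenImmersion.lift_fac, hl, Category.assoc]
    refine ⟨IsOpenImmersion.lift Y.ι l hr ≫ b, ?_, ?_⟩
    · rw [← Category.assoc, hl', Category.assoc, hab, Category.comp_id]
    · rw [Category.assoc, hb, IsOpenImmersion.lift_fac_assoc]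
      show Spec.map _ ≫ Spec.map _ = _
      rw [← Spec.map_comp]
      congr 1
      ext1
      exact (MvPolynomial.aeval v).comp_algebraMap
  · rintro ⟨V, hV, H⟩
    obtain ⟨x, hx⟩ := hV
    obtain ⟨_, ⟨W, hW, rfl⟩, hxW, hWV⟩ :=
      X.isBasis_affineOpens.exists_subset_of_mem_open hx V.isOpen
    haveI : Nonempty W := ⟨⟨x, hxW⟩⟩
    let R : Type u := Γ(X, W)
    haveI : IsDomain R := IsIntegral.component_integral W
    let φ := Spec.preimage (hW.fromSpec ≫ f)
    letI : Algebra k R := φ.hom.toAlgebra
    have hφ : Spec.map (CommRingCat.ofHom (algebraMap k R)) = hW.fromSpec ≫ f := Spec.map_preimage (hW.fromSpec ≫ f)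
    haveI : Algebra.FiniteType k R := by
      rw [← RingHom.finiteType_algebraMap]
      have : LocallyOfFiniteType (Spec.map (CommRingCat.ofHom (algebraMap k R))) := by
        rw [hφ]; infer_instance
      exact (HasRingHomProperty.Spec_iff (P := @LocallyOfFiniteType)).1 this
    obtain ⟨n, σ, hσ⟩ := Algebra.FiniteType.iff_quotient_mvPolynomial''.1 (inferInstance : Algebra.FiniteType k R)
    let P := MvPolynomial (Fin n) k
    let p : Ideal P := RingHom.ker σ
    haveI : p.IsPrime := RingHom.ker_isPrime σ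
    let A := Localization.AtPrime p
    let res := IsLocalRing.residue A
    let τ : P →+* IsLocalRing.ResidueField A := res.comp (algebraMap P A)
    have hτ : RingHom.ker τ = p := by
      ext q
      show res (algebraMap P A q) = 0 ↔ _
      rw [IsLocalRing.residue_eq_zero_iff, IsLocalization.AtPrime.to_map_mem_maximal_iff A p]
    let ε : R →+* IsLocalRing.ResidueField A := RingHom.liftOfSurjective σ.toRingHom hσ ⟨τ, le_of_eq hτ.symm⟩
    have hε : ∀ q, ε (σ q) = τ q := RingHom.liftOfRightInverse_comp_apply _ _ _ _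
    have hεinj : Function.Injective ε := by
      rw [injective_iff_map_eq_zero]
      intro r hr
      obtain ⟨q, rfl⟩ := hσ r
      rw [hε] at hr
      exact (show q ∈ p from hτ ▸ hr)
    let fV : Spec (CommRingCat.of R) ⟶ (V : Scheme.{u}) := IsOpenImmersion.lift V.ι hW.fromSpec (by
      rw [Scheme.Opens.range_ι, IsAffineOpen.range_fromSpec]; exact hWV)
    let g := Spec.map (CommRingCat.ofHom ε) ≫ fV
    obtain ⟨g', hg', hg'f⟩ := H A g (by
      show (Spec.map (CommRingCat.ofHom ε) ≫ fV) ≫ V.ι ≫ f = _
      rw [Category.assoc, IsOpenImmersion.lift_fac_assoc, ← hφ, ← Spec.map_comp]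
      congr 1
      ext1
      apply RingHom.ext
      intro r
      show ε (algebraMap k R r) = res (algebraMap k A r)
      rw [← σ.commutes, hε, IsScalarTower.algebraMap_apply k P A]
      rfl)
    have hg'V : Spec.map (CommRingCat.ofHom res) ≫ g' ≫ V.ι = Spec.map (CommRingCat.ofHom ε) ≫ hW.fromSpec := by
      rw [← Category.assoc, hg', Category.assoc, IsOpenImmersion.lift_fac]
    have hr : Set.range (g' ≫ V.ι) ⊆ Set.range hW.fromSpec := by
      rw [IsAffineOpen.range_fromSpec]
      apply range_subset_open (g' ≫ V.ι) W (IsLocalRing.closedPoint (IsLocalRing.ResidueField A))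
      rw [hg'V, Scheme.Hom.comp_apply, ← SetLike.mem_coe, ← hW.range_fromSpec]
      exact ⟨_, rfl⟩
    let L := IsOpenImmersion.lift hW.fromSpec (g' ≫ V.ι) hr
    let χ : R →+* A := (Spec.preimage L).hom
    have hχ : Spec.map (CommRingCat.ofHom χ) = L := Spec.map_preimage L
    have hχε : res.comp χ = ε := by
      refine congrArg CommRingCat.Hom.hom (Spec.map_injective (a₁ := CommRingCat.ofHom χ ≫ CommRingCat.ofHom res) (a₂ := CommRingCat.ofHom ε) ?_)
      rw [Spec.map_comp, hχ, ← cancel_mono hW.fromSpec, Category.assoc, IsOpenImmersion.lift_fac, hg'V]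
    have hχk : χ.comp (algebraMap k R) = algebraMap k A := by
      refine congrArg CommRingCat.Hom.hom (Spec.map_injective (a₁ := CommRingCat.ofHom (algebraMap k R) ≫ CommRingCat.ofHom χ) (a₂ := CommRingCat.ofHom (algebraMap k A)) ?_)
      rw [Spec.map_comp, hχ, hφ, IsOpenImmersion.lift_fac_assoc, Category.assoc, hg'f]
    obtain ⟨⟨h, hh⟩, hb⟩ := IsLocalization.exist_integer_multiples_of_finite p.primeCompl (fun i => χ (σ (MvPolynomial.X i)))
    choose num hnum using hb
    let Ph := Localization.Away h
    have hle : Submonoid.powers h ≤ p.primeCompl := Submonoid.powers_le.2 hh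
    have hu : IsUnit (algebraMap P A h) := IsLocalization.map_units A ⟨h, hh⟩
    let θ : Ph →+* A := IsLocalization.Away.lift h hu
    have hθ : ∀ q, θ (algebraMap P Ph q) = algebraMap P A q := IsLocalization.Away.lift_eq h hu
    have hθinj : Function.Injective θ := by
      refine (IsLocalization.lift_injective_iff _).2 fun a b => ?_
      have h1 := IsLocalization.injective Ph (M := Submonoid.powers h)
        (hle.trans p.primeCompl_le_nonZeroDivisors)
      have h2 := IsLocalization.injective A (M := p.primeCompl) p.primeCompl_le_nonZeroDivisors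
      exact ⟨fun e => congrArg _ (h1 e), fun e => congrArg _ (h2 e)⟩
    let ψ : P →+* Ph := MvPolynomial.eval₂Hom (algebraMap k Ph)
      (fun i => algebraMap P Ph (num i) * IsLocalization.Away.invSelf h)
    have hθψ : θ.comp ψ = χ.comp σ.toRingHom := by
      apply MvPolynomial.ringHom_ext
      · intro r
        show θ (MvPolynomial.eval₂Hom _ _ (MvPolynomial.C r)) = χ (σ (MvPolynomial.C r))
        rw [MvPolynomial.eval₂Hom_C, IsScalarTower.algebraMap_apply k P Ph, hθ,
          ← IsScalarTower.algebraMap_apply, ← RingHom.congr_fun hχk r]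
        exact congrArg χ (σ.commutes r).symm
      · intro i
        show θ (MvPolynomial.eval₂Hom _ _ (MvPolynomial.X i)) = χ (σ (MvPolynomial.X i))
        rw [MvPolynomial.eval₂Hom_X', map_mul, hθ, hnum i, Algebra.smul_def, mul_right_comm]
        show algebraMap P A h * θ _ * _ = _
        rw [← hθ h, ← map_mul, IsLocalization.Away.mul_invSelf, map_one, one_mul]
    let ψ' : R →+* Ph := RingHom.liftOfSurjective σ.toRingHom hσ ⟨ψ, fun q hq => hθinj <| by
      rw [map_zero]
      show (θ.comp ψ) q = 0
      rw [hθψ]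
      show χ (σ q) = 0
      rw [show σ q = 0 from hq, map_zero]⟩
    have hψ' : ∀ q, ψ' (σ q) = ψ q := RingHom.liftOfRightInverse_comp_apply _ _ _ _
    have hσh : σ h ≠ 0 := hh
    let Rh := Localization.Away (σ h)
    let π : Ph →+* Rh := IsLocalization.Away.lift (g := (algebraMap R Rh).comp σ.toRingHom) h
      (IsLocalization.Away.algebraMap_isUnit (σ h))
    have hπ : ∀ q, π (algebraMap P Ph q) = algebraMap R Rh (σ q) := IsLocalization.Away.lift_eq h _
    have huh : IsUnit (ε (σ h)) := by
      rw [isUnit_iff_ne_zero]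
      exact fun e => hσh (hεinj (by rw [e, map_zero]))
    let εh : Rh →+* IsLocalRing.ResidueField A := IsLocalization.Away.lift (σ h) huh
    have hεh : ∀ r, εh (algebraMap R Rh r) = ε r := IsLocalization.Away.lift_eq (σ h) huh
    have hεhinj : Function.Injective εh := by
      refine (IsLocalization.lift_injective_iff _).2 fun a b => ?_
      have h1 := IsLocalization.injective Rh (M := Submonoid.powers (σ h))
        (powers_le_nonZeroDivisors_of_noZeroDivisors hσh)
      exact ⟨fun e => congrArg _ (h1 e), fun e => congrArg _ (hεinj e)⟩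
    have hεπ : εh.comp π = res.comp θ := by
      refine IsLocalization.ringHom_ext (Submonoid.powers h) (RingHom.ext fun q => ?_)
      show εh (π (algebraMap P Ph q)) = res (θ (algebraMap P Ph q))
      rw [hπ, hεh, hε, hθ]
      rfl
    have hπψ : π.comp ψ' = algebraMap R Rh := by
      refine RingHom.ext fun r => hεhinj ?_
      obtain ⟨q, rfl⟩ := hσ r
      show (εh.comp π) (ψ' (σ q)) = εh (algebraMap R Rh (σ q))
      rw [hεπ, hεh, hψ']
      show res ((θ.comp ψ) q) = _
      rw [hθψ]
      exact RingHom.congr_fun hχε (σ q)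
    let j := Spec.map (CommRingCat.ofHom (algebraMap P Ph))
    haveI : IsOpenImmersion j := Scheme.isOpenImmersion_SpecMap_localizationAway (R := CommRingCat.of P) h
    haveI : IsOpenImmersion (Spec.map (CommRingCat.ofHom (algebraMap R Rh))) := Scheme.isOpenImmersion_SpecMap_localizationAway (R := CommRingCat.of R) (σ h)
    let ι' := Spec.map (CommRingCat.ofHom (algebraMap R Rh)) ≫ hW.fromSpec
    haveI : Nontrivial Rh := RingHom.domain_nontrivial εh
    obtain ⟨z⟩ : Nonempty (PrimeSpectrum Rh) := inferInstance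
    refine of_retract f n j ι'.opensRange ⟨ι' z, z, rfl⟩
      (ι'.isoOpensRange.inv ≫ Spec.map (CommRingCat.ofHom π)) (Spec.map (CommRingCat.ofHom ψ') ≫ hW.fromSpec) ?_ ?_
    · rw [← ι'.isoOpensRange_inv_comp, Category.assoc, ← Category.assoc (Spec.map (CommRingCat.ofHom π)),
        ← Spec.map_comp, ← CommRingCat.ofHom_comp, hπψ]
    · rw [Category.assoc, ← hφ, ← Spec.map_comp, ← Spec.map_comp, ← CommRingCat.ofHom_comp, ← CommRingCat.ofHom_comp]
      congr 2
      refine RingHom.ext fun r => ?_
      show ψ' (algebraMap k R r) = algebraMap P Ph (algebraMap k P r)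
      rw [← σ.commutes, hψ', ← IsScalarTower.algebraMap_apply]
      exact MvPolynomial.eval₂Hom_C _ _ r

end Groth.Agent.S15695
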