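import Groth.Statements.S15697
import Groth.Agent.Lib.InvFldH28.Fld

set_option autoImplicit false
universe u
open InvFld

namespace Groth.Agent.S15697

/-- Let k be a characteristic-zero field and suppose a finite group acts k-linearly on
finite-dimensional k-vector spaces V and W, faithfully on V. Then k(V ⊕ W)^G is purely
transcendental over k(V)^G, of transcendence degree dim W. Stated with V = k^n, W = k^m inside L =
k(x_1, ..., x_n, y_1, ..., y_m): G is a finite group of k-algebra automorphisms of L sending each
x_i into the k-span of the x's and each y_j into the k-span of the y's, such that an element of G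
fixing every x_i is trivial; F is the intersection of k(x_1, ..., x_n) with the fixed field of G;
then there are y'_1, ..., y'_m in L, algebraically independent over F, with F(y'_1, ..., y'_m) equal
to the fixed field of G. -/
theorem result (k : Type u) [Field k] [CharZero k] (n m : ℕ)
    (G : Subgroup (InvFld.Fld (Fin n ⊕ Fin m) k ≃ₐ[k] InvFld.Fld (Fin n ⊕ Fin m) k)) [Finite G]
    (hx : ∀ σ ∈ G, ∀ i : Fin n, σ (InvFld.X (Sum.inl i)) ∈ Submodule.span k (Set.range fun j : Fin n => (InvFld.X (Sum.inl j) : InvFld.Fld (Fin n ⊕ Fin m) k)))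
    (hy : ∀ σ ∈ G, ∀ i : Fin m, σ (InvFld.X (Sum.inr i)) ∈ Submodule.span k (Set.range fun j : Fin m => (InvFld.X (Sum.inr j) : InvFld.Fld (Fin n ⊕ Fin m) k)))
    (hfaith : ∀ σ ∈ G, (∀ i : Fin n, σ (InvFld.X (Sum.inl i)) = InvFld.X (Sum.inl i)) → σ = 1) :
    ∃ t : Fin m → InvFld.Fld (Fin n ⊕ Fin m) k,
      AlgebraicIndependent (↥(IntermediateField.adjoin k (Set.range fun j : Fin n => (InvFld.X (Sum.inl j) : InvFld.Fld (Fin n ⊕ Fin m) k)) ⊓ IntermediateField.fixedField G)) t ∧
      IntermediateField.restrictScalars k (IntermediateField.adjoin (↥(IntermediateField.adjoin k (Set.range fun j : Fin n => (InvFld.X (Sum.inl j) : InvFld.Fld (Fin n ⊕ Fin m) k)) ⊓ IntermediateField.fixedField G)) (Set.range t)) =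
        IntermediateField.fixedField G := by
  have hb : Function.Bijective (Sum.elim (Sum.inr : Fin m → Fin n ⊕ Fin m) Sum.inl) :=
    (Equiv.sumComm (Fin m) (Fin n)).bijective
  exact InvFldH28.no_name_coord (Sum.inl : Fin n → Fin n ⊕ Fin m) Sum.inr hb G hx hy hfaith

end Groth.Agent.S15697
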