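import Groth.Statements.S15698
import Groth.Agent.Lib.InvFldH28.Fld

set_option autoImplicit false
universe u
open InvFld

namespace Groth.Agent.S15698

open InvFld MvPolynomial in
theorem perm_fixed (k : Type u) [Field k] (n : ℕ) :
    ∃ (H : Subgroup (Fld (Fin n) k ≃ₐ[k] Fld (Fin n) k)), Finite H ∧ Nonempty (Equiv.Perm (Fin n) ≃* H) ∧
      (∀ s ∈ H, ∀ i : Fin n, s (InvFld.X i) ∈ Submodule.span k (Set.range fun j : Fin n => (InvFld.X j : Fld (Fin n) k))) ∧
      ∃ x : Fin n → IntermediateField.fixedField H, AlgebraicIndependent k x ∧ IntermediateField.adjoin k (Set.range x) = ⊤ := by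
  classical
  let P0 : Equiv.Perm (Fin n) → (Fld (Fin n) k ≃ₐ[k] Fld (Fin n) k) := fun s =>
    IsFractionRing.algEquivOfAlgEquiv (renameEquiv k s)
  have hP : ∀ s p, P0 s (algebraMap _ _ p) = algebraMap _ _ (rename s p) := fun s p =>
    IsFractionRing.algEquivOfAlgEquiv_algebraMap (renameEquiv k s) p
  let P : Equiv.Perm (Fin n) →* (Fld (Fin n) k ≃ₐ[k] Fld (Fin n) k) := MonoidHom.mk' P0 fun s t => by
    ext z
    obtain ⟨a, b, -, rfl⟩ := IsFractionRing.div_surjective (MvPolynomial (Fin n) k) z
    simp only [map_div₀, AlgEquiv.mul_apply, hP, rename_rename, Equiv.Perm.coe_mul]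
  have hPX : ∀ s i, P s (InvFld.X i) = InvFld.X (s i) := fun s i => by
    change P0 s (algebraMap _ _ (MvPolynomial.X i)) = _
    rw [hP, rename_X]
  have hinj : Function.Injective P := by
    intro s t h
    ext i
    have := congrArg (fun f : Fld (Fin n) k ≃ₐ[k] Fld (Fin n) k => f (InvFld.X i)) h
    simp only [hPX] at this
    exact congrArg Fin.val (MvPolynomial.X_injective (IsFractionRing.injective (MvPolynomial (Fin n) k) (Fld (Fin n) k) this))
  refine ⟨P.range, Finite.of_surjective P.rangeRestrict P.rangeRestrict_surjective, ⟨P.ofInjective hinj⟩, ?_, ?_⟩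
  · rintro _ ⟨s, rfl⟩ i
    rw [hPX]
    exact Submodule.subset_span ⟨s i, rfl⟩
  have hsym : ∀ p : MvPolynomial (Fin n) k, p.IsSymmetric ↔
      algebraMap _ (Fld (Fin n) k) p ∈ IntermediateField.fixedField P.range := by
    intro p
    rw [IntermediateField.mem_fixedField_iff]
    constructor
    · rintro h _ ⟨s, rfl⟩
      change P0 s _ = _
      rw [hP, h s]
    · intro h s
      have := h _ ⟨s, rfl⟩
      change P0 s _ = _ at this
      rw [hP] at this
      exact IsFractionRing.injective _ _ this
  let x : Fin n → IntermediateField.fixedField P.range := fun i =>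
    ⟨algebraMap _ _ (esymm (Fin n) k (i + 1)), (hsym _).mp (esymm_isSymmetric _ _ _)⟩
  have hval : ∀ p : MvPolynomial (Fin n) k, ((aeval x p : IntermediateField.fixedField P.range) : Fld (Fin n) k) =
      algebraMap _ _ ((esymmAlgHom (Fin n) k n p : symmetricSubalgebra (Fin n) k) : MvPolynomial (Fin n) k) := by
    intro p
    rw [esymmAlgHom_apply]
    change (IntermediateField.fixedField P.range).val (aeval x p) = IsScalarTower.toAlgHom k _ (Fld (Fin n) k) _
    have : (IntermediateField.fixedField P.range).val.comp (aeval x) =
        (IsScalarTower.toAlgHom k _ (Fld (Fin n) k)).comp (aeval fun i : Fin n => esymm (Fin n) k (i + 1)) := by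
      ext i; simp [x]
    exact DFunLike.congr_fun this p
  refine ⟨x, ?_, ?_⟩
  · intro p q h
    have := congrArg Subtype.val h
    rw [hval, hval] at this
    exact esymmAlgHom_injective (σ := Fin n) k (Fintype.card_fin n).ge
      (Subtype.ext (IsFractionRing.injective _ _ this))
  · refine eq_top_iff.mpr fun z _ => ?_
    have hpoly : ∀ (p : MvPolynomial (Fin n) k) (hp : p.IsSymmetric),
        (⟨algebraMap _ _ p, (hsym p).mp hp⟩ : IntermediateField.fixedField P.range) ∈ IntermediateField.adjoin k (Set.range x) := by
      intro p hp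
      obtain ⟨q, hq⟩ := esymmAlgHom_surjective (σ := Fin n) k (Fintype.card_fin n).le ⟨p, hp⟩
      have : (⟨algebraMap _ _ p, (hsym p).mp hp⟩ : IntermediateField.fixedField P.range) = aeval x q := by
        apply Subtype.ext
        rw [hval, hq]
      rw [this]
      clear this hq
      induction q using MvPolynomial.induction_on with
      | C a => rw [aeval_C]; exact IntermediateField.algebraMap_mem _ a
      | add a b ha hb => rw [map_add]; exact add_mem ha hb
      | mul_X a i ha => rw [map_mul, aeval_X]; exact mul_mem ha (IntermediateField.subset_adjoin k _ ⟨i, rfl⟩)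
    obtain ⟨a, b, hb, hz⟩ := IsFractionRing.div_surjective (MvPolynomial (Fin n) k) (z : Fld (Fin n) k)
    let b' := ∏ s ∈ (Finset.univ : Finset (Equiv.Perm (Fin n))).erase 1, rename s b
    have hB : (b * b').IsSymmetric := by
      intro t
      have : b * b' = ∏ s : Equiv.Perm (Fin n), rename s b := by
        rw [← Finset.mul_prod_erase Finset.univ (fun s : Equiv.Perm (Fin n) => rename s b) (Finset.mem_univ 1)]
        congr 1
        rw [Equiv.Perm.coe_one, rename_id_apply]
      rw [this, map_prod]
      exact Fintype.prod_equiv (Equiv.mulLeft t) _ _ fun s => by simp [rename_rename]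
    have hbne : algebraMap _ (Fld (Fin n) k) (b * b') ≠ 0 := by
      refine (map_ne_zero_iff _ (IsFractionRing.injective _ _)).mpr (mul_ne_zero (nonZeroDivisors.ne_zero hb) ?_)
      exact Finset.prod_ne_zero_iff.mpr fun s _ =>
        (map_ne_zero_iff _ (rename_injective _ s.injective)).mpr (nonZeroDivisors.ne_zero hb)
    have hA : algebraMap _ (Fld (Fin n) k) (a * b') = (z : Fld (Fin n) k) * algebraMap _ _ (b * b') := by
      rw [← hz, map_mul, map_mul]
      field_simp [(map_ne_zero_iff _ (IsFractionRing.injective (MvPolynomial (Fin n) k) (Fld (Fin n) k))).mpr (nonZeroDivisors.ne_zero hb)]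
    have hAs : (a * b').IsSymmetric := (hsym _).mpr (hA ▸ mul_mem z.2 ((hsym _).mp hB))
    have : z = (⟨_, (hsym _).mp hAs⟩ : IntermediateField.fixedField P.range) / ⟨_, (hsym _).mp hB⟩ := by
      apply Subtype.ext
      change (z : Fld (Fin n) k) = algebraMap _ (Fld (Fin n) k) (a * b') / algebraMap _ (Fld (Fin n) k) (b * b')
      rw [hA, mul_div_cancel_right₀ _ hbne]
    rw [this]
    exact div_mem (hpoly _ hAs) (hpoly _ hB)


set_option maxHeartbeats 1000000 in
/-- Let k be a characteristic-zero field; for each faithful finite-dimensional linear representation V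
of the symmetric group S_n over k, the field of invariants k(V)^{S_n} is stably pure over k. Stated
with V = k^m: G is a finite group of k-algebra automorphisms of k(x_1, ..., x_m), each sending every
variable to a k-linear combination of the variables, isomorphic as an abstract group to the
symmetric group on n letters; then for some r the rational function field in r variables over the
fixed field of G is generated over k by finitely many algebraically independent elements. -/
theorem result (k : Type u) [Field k] [CharZero k] (n m : ℕ)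
    (G : Subgroup (InvFld.Fld (Fin m) k ≃ₐ[k] InvFld.Fld (Fin m) k)) [Finite G] (e : G ≃* Equiv.Perm (Fin n))
    (hG : ∀ σ ∈ G, ∀ i : Fin m, σ (InvFld.X i) ∈ Submodule.span k (Set.range fun j : Fin m => (InvFld.X j : InvFld.Fld (Fin m) k))) :
    ∃ (r N : ℕ) (t : Fin N → InvFld.Fld (Fin r) (IntermediateField.fixedField G)),
      AlgebraicIndependent k t ∧ IntermediateField.adjoin k (Set.range t) = ⊤ := by
  obtain ⟨H, hHf, ⟨e'⟩, hH, x, hx, hxt⟩ := perm_fixed k n
  haveI := hHf
  obtain ⟨E⟩ := InvFldH28.exists_stable_equiv G H (e.trans e') hG hH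
  refine ⟨n, m + n, fun i => E.symm (Sum.elim (fun j => (InvFld.X j : InvFld.Fld (Fin m) (IntermediateField.fixedField H)))
    (algebraMap (IntermediateField.fixedField H) (InvFld.Fld (Fin m) (IntermediateField.fixedField H)) ∘ x) (finSumFinEquiv.symm i)), ?_, ?_⟩
  · exact ((hx.sumElim_comp (InvFldH28.algebraicIndependent_X (Fin m))).comp _ finSumFinEquiv.symm.injective).map'
      (f := E.symm.toAlgHom) E.symm.injective
  · set g := Sum.elim (fun j => (InvFld.X j : InvFld.Fld (Fin m) (IntermediateField.fixedField H)))
      (algebraMap (IntermediateField.fixedField H) (InvFld.Fld (Fin m) (IntermediateField.fixedField H)) ∘ x)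
    have hM : IntermediateField.adjoin k (Set.range g) = ⊤ := by
      set M := IntermediateField.adjoin k (Set.range g)
      have hc : ∀ c, algebraMap (IntermediateField.fixedField H) _ c ∈ M := by
        intro c
        have hc : c ∈ IntermediateField.adjoin k (Set.range x) := hxt ▸ IntermediateField.mem_top
        have hle : IntermediateField.adjoin k (Set.range x) ≤
            M.comap (IsScalarTower.toAlgHom k (IntermediateField.fixedField H) _) := by
          refine IntermediateField.adjoin_le_iff.mpr ?_
          rintro _ ⟨i, rfl⟩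
          exact IntermediateField.subset_adjoin k _ ⟨Sum.inr i, rfl⟩
        exact hle hc
      refine eq_top_iff.mpr fun w _ => ?_
      have hp : ∀ p : MvPolynomial (Fin m) (IntermediateField.fixedField H), algebraMap _ (InvFld.Fld (Fin m) _) p ∈ M := by
        intro p
        induction p using MvPolynomial.induction_on with
        | C a => rw [← MvPolynomial.algebraMap_eq, ← IsScalarTower.algebraMap_apply]; exact hc a
        | add p q hp hq => rw [map_add]; exact add_mem hp hq
        | mul_X p i hp => rw [map_mul]; exact mul_mem hp (IntermediateField.subset_adjoin k _ ⟨Sum.inl i, rfl⟩)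
      obtain ⟨a, b, -, rfl⟩ := IsFractionRing.div_surjective (MvPolynomial (Fin m) (IntermediateField.fixedField H)) w
      exact div_mem (hp a) (hp b)
    have h2 := IntermediateField.adjoin_map k (Set.range g)
      E.symm.toAlgHom
    rw [hM, ← AlgHom.fieldRange_eq_map, AlgHom.fieldRange_eq_top.mpr E.symm.surjective] at h2
    rw [← Set.range_comp] at h2
    rw [h2]
    congr 1
    exact (finSumFinEquiv.symm.surjective.range_comp (⇑E.symm.toAlgHom ∘ g))

end Groth.Agent.S15698
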