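import Groth.Statements.S15699
import Mathlib.AlgebraicGeometry.Birational.Birational
import Mathlib.Algebra.MvPolynomial.Funext
import Mathlib.Algebra.MvPolynomial.Supported

set_option autoImplicit false
universe u
open CategoryTheory CategoryTheory.Limits AlgebraicGeometry
open RatVar

set_option linter.style.haveILetI false
set_option backward.isDefEq.respectTransparency.types false

namespace Groth.Agent.S15699

open MvPolynomial in
theorem finite_vars {k : Type u} [Field k] {σ : Type u} (f : MvPolynomial σ k) (hf : f ≠ 0)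
    [Algebra.FiniteType k (Localization.Away f)] : Finite σ := by
  classical
  by_contra hinf
  rw [not_finite_iff_infinite] at hinf
  obtain ⟨G, hG⟩ := (inferInstance : Algebra.FiniteType k (Localization.Away f)).out
  choose x N hx using fun g : Localization.Away f => IsLocalization.Away.surj (x := f) g
  let F : Finset σ := f.vars ∪ G.biUnion fun g => (N g).vars
  obtain ⟨i, hi⟩ := Infinite.exists_notMem_finset F
  let P := MvPolynomial σ k
  let S₀ : Subalgebra k P := supported k (F : Set σ)
  have hfS : f ∈ S₀ := mem_supported.2 (Finset.coe_subset.2 Finset.subset_union_left)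
  let T : Subalgebra k (Localization.Away f) :=
    { carrier := {z | ∃ (m : ℕ) (q : P), q ∈ S₀ ∧ z * algebraMap P _ f ^ m = algebraMap P _ q}
      mul_mem' := by
        rintro a b ⟨m, q, hq, ha⟩ ⟨m', q', hq', hb⟩
        refine ⟨m + m', q * q', mul_mem hq hq', ?_⟩
        rw [map_mul, ← ha, ← hb, pow_add]; ring
      one_mem' := ⟨0, 1, one_mem _, by simp⟩
      add_mem' := by
        rintro a b ⟨m, q, hq, ha⟩ ⟨m', q', hq', hb⟩
        refine ⟨m + m', q * f ^ m' + q' * f ^ m, add_mem (mul_mem hq (pow_mem hfS _)) (mul_mem hq' (pow_mem hfS _)), ?_⟩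
        rw [map_add, map_mul, map_mul, map_pow, map_pow, ← ha, ← hb, pow_add]; ring
      zero_mem' := ⟨0, 0, zero_mem _, by simp⟩
      algebraMap_mem' := fun c => ⟨0, algebraMap k P c, Subalgebra.algebraMap_mem _ c, by
        rw [pow_zero, mul_one, ← IsScalarTower.algebraMap_apply]⟩ }
  have hT : T = ⊤ := by
    rw [eq_top_iff, ← hG, Algebra.adjoin_le_iff]
    intro g hg
    exact ⟨x g, N g, mem_supported.2 (Finset.coe_subset.2
      ((Finset.subset_biUnion_of_mem (fun g => (N g).vars) hg).trans Finset.subset_union_right)), hx g⟩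
  obtain ⟨m, q, hq, he⟩ : algebraMap P (Localization.Away f) (X i) ∈ T := hT ▸ Algebra.mem_top
  have he' : X i * f ^ m = q := by
    apply IsLocalization.injective (Localization.Away f) (powers_le_nonZeroDivisors_of_noZeroDivisors hf)
    rw [map_mul, map_pow]; exact he
  let φ : P →ₐ[k] P := aeval fun j => if j = i then X i + 1 else X j
  have hφ : ∀ p ∈ S₀, φ p = p := fun p hp => by
    induction hp using Algebra.adjoin_induction with
    | mem y hy =>
      obtain ⟨j, hj, rfl⟩ := hy
      show aeval _ (X j) = X j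
      erw [aeval_X]
      rw [if_neg]
      rintro rfl
      exact hi hj
    | algebraMap r => exact φ.commutes r
    | add a b _ _ ha hb => rw [map_add, ha, hb]
    | mul a b _ _ ha hb => rw [map_mul, ha, hb]
  have h2 := congrArg φ he'
  rw [map_mul, map_pow, hφ f hfS, hφ q hq] at h2
  rw [show φ (X i) = X i + 1 by show aeval _ (X i) = _; erw [aeval_X]; rw [if_pos rfl], add_mul, one_mul] at h2
  rw [he', add_eq_left] at h2
  exact pow_ne_zero m hf h2


/-- A direct factor of a k-rational variety is retract rational over k. Here k is an infinite field, X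
and Y are integral schemes of finite type over k whose fibre product over k is integral and rational
over k (birational over k, through dense open subschemes, to an affine space over k); the conclusion
is that some non-empty open subscheme U of X admits k-morphisms U → Y' → U with composite the
identity, Y' an open subscheme of an affine space Spec k[x_1, ..., x_n]. (The published statement
allows any field k; the argument picks a k-rational point of the given open set, so k is taken
infinite here.) -/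
theorem result (k : Type u) [Field k] [Infinite k]
    (X Y : Scheme.{u}) (f : X ⟶ Spec (CommRingCat.of k)) (g : Y ⟶ Spec (CommRingCat.of k))
    [IsIntegral X] [LocallyOfFiniteType f] [QuasiCompact f]
    [IsIntegral Y] [LocallyOfFiniteType g] [QuasiCompact g] [IsIntegral (pullback f g)]
    [Scheme.IsRationalOver (pullback.fst f g ≫ f)] :
    ∃ (U : X.Opens) (n : ℕ) (Y' : (Spec (CommRingCat.of (MvPolynomial (Fin n) k))).Opens)
        (a : (U : Scheme.{u}) ⟶ (Y' : Scheme.{u})) (b : (Y' : Scheme.{u}) ⟶ (U : Scheme.{u})),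
        (U : Set X).Nonempty ∧ a ≫ b = 𝟙 (U : Scheme.{u}) ∧
        a ≫ Y'.ι ≫ Spec.map (CommRingCat.ofHom (algebraMap k (MvPolynomial (Fin n) k))) = U.ι ≫ f ∧
        b ≫ U.ι ≫ f = Y'.ι ≫ Spec.map (CommRingCat.ofHom (algebraMap k (MvPolynomial (Fin n) k))) := by
  classical
  obtain ⟨σ, F, hF⟩ := Scheme.IsRationalOver.exists_birationalOver_affineSpace (pullback.fst f g ≫ f)
  let S := Spec (CommRingCat.of k)
  let P := MvPolynomial σ k
  let e₀ : Spec (CommRingCat.of P) ≅ 𝔸(σ; S) := (AffineSpace.SpecIso σ (CommRingCat.of k)).symm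
  have he₀ : e₀.hom ≫ 𝔸(σ; S) ↘ S = Spec.map (CommRingCat.ofHom MvPolynomial.C) :=
    AffineSpace.SpecIso_inv_over (n := σ) (CommRingCat.of k)
  let W₀ := e₀.hom ⁻¹ᵁ F.target
  let c₀ : (W₀ : Scheme.{u}) ⟶ pullback f g := (e₀.hom ∣_ F.target) ≫ F.iso.inv ≫ F.source.ι
  have hc₀ : c₀ ≫ pullback.fst f g ≫ f = W₀.ι ≫ Spec.map (CommRingCat.ofHom MvPolynomial.C) := by
    show (e₀.hom ∣_ F.target) ≫ F.iso.inv ≫ F.source.ι ≫ pullback.fst f g ≫ f = _
    rw [← he₀, ← morphismRestrict_ι_assoc]
    congr 1
    rw [Iso.inv_comp_eq]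
    exact Eq.symm hF
  obtain ⟨p, hp⟩ : (W₀ : Set (Spec (CommRingCat.of P))).Nonempty := by
    have : Nonempty ↥(pullback f g) := inferInstance
    obtain ⟨z, hz⟩ := F.dense_source.nonempty
    let z' : F.source := ⟨z, hz⟩
    refine ⟨e₀.inv (F.target.ι (F.iso.hom z')), ?_⟩
    show e₀.hom (e₀.inv (F.target.ι (F.iso.hom z'))) ∈ F.target
    rw [← Scheme.Hom.comp_apply, Iso.inv_hom_id]
    exact (F.iso.hom z').2
  obtain ⟨_, ⟨q, rfl⟩, hpq, hqW⟩ := PrimeSpectrum.isTopologicalBasis_basic_opens.exists_subset_of_mem_open hp W₀.isOpen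
  have hq : q ≠ 0 := fun h => by
    subst h; simp at hpq
  haveI : Finite σ := by
    haveI : Algebra.FiniteType k (Localization.Away q) := by
      let ρ := Spec.map (CommRingCat.ofHom (algebraMap P (Localization.Away q)))
      have hr : Set.range ρ ⊆ Set.range W₀.ι := by
        rw [Scheme.Opens.range_ι]
        exact (PrimeSpectrum.localization_away_comap_range (Localization.Away q) q).le.trans hqW
      haveI : IsOpenImmersion ρ := Scheme.isOpenImmersion_SpecMap_localizationAway q
      let ρ' := IsOpenImmersion.lift W₀.ι ρ hr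
      haveI : IsOpenImmersion (ρ' ≫ W₀.ι) := by rw [IsOpenImmersion.lift_fac]; infer_instance
      haveI : IsOpenImmersion ρ' := IsOpenImmersion.of_comp ρ' W₀.ι
      haveI : LocallyOfFiniteType (pullback.fst f g) := inferInstance
      have hl : LocallyOfFiniteType (ρ' ≫ c₀ ≫ pullback.fst f g ≫ f) := inferInstance
      rw [hc₀, IsOpenImmersion.lift_fac_assoc, ← Spec.map_comp, HasRingHomProperty.Spec_iff (P := @LocallyOfFiniteType)] at hl
      have e : (CommRingCat.ofHom (MvPolynomial.C (σ := σ) (R := k)) ≫ CommRingCat.ofHom (algebraMap P (Localization.Away q))).hom =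
          algebraMap k (Localization.Away q) := (IsScalarTower.algebraMap_eq k P (Localization.Away q)).symm
      rw [e] at hl
      exact RingHom.finiteType_algebraMap.1 hl
    exact finite_vars q hq
  let d := Nat.card σ
  let P' := MvPolynomial (Fin d) k
  let re : P ≃ₐ[k] P' := MvPolynomial.renameEquiv k (Finite.equivFin σ)
  let e₁ : Spec (CommRingCat.of P') ≅ Spec (CommRingCat.of P) := Scheme.Spec.mapIso re.toRingEquiv.toCommRingCatIso.op
  let π : Spec (CommRingCat.of P') ⟶ S := Spec.map (CommRingCat.ofHom (algebraMap k P'))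
  have he₁ : e₁.hom ≫ Spec.map (CommRingCat.ofHom MvPolynomial.C) = π := by
    show Spec.map _ ≫ Spec.map _ = _
    rw [← Spec.map_comp]
    congr 1
    ext1
    exact re.toAlgHom.comp_algebraMap
  let T := e₁.hom ⁻¹ᵁ W₀
  let c : (T : Scheme.{u}) ⟶ pullback f g := (e₁.hom ∣_ W₀) ≫ c₀
  have hc : c ≫ pullback.fst f g ≫ f = T.ι ≫ π := by
    show (e₁.hom ∣_ W₀) ≫ c₀ ≫ pullback.fst f g ≫ f = _
    rw [hc₀, morphismRestrict_ι_assoc, he₁]
  -- a rational point
  obtain ⟨v, hv⟩ : ∃ v : Fin d → k, MvPolynomial.eval v (re q) ≠ 0 := by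
    by_contra h
    push Not at h
    exact hq (re.injective (by rw [map_zero]; exact MvPolynomial.funext fun x => by rw [h x, map_zero]))
  let pt : S ⟶ Spec (CommRingCat.of P') := Spec.map (CommRingCat.ofHom (MvPolynomial.eval v))
  have hpt : pt ≫ π = 𝟙 S := by
    show Spec.map _ ≫ Spec.map _ = _
    rw [← Spec.map_comp, ← Spec.map_id]
    congr 1
    ext1
    exact RingHom.ext fun a => MvPolynomial.eval_C a
  have hptT : Set.range pt ⊆ Set.range T.ι := by
    rw [Scheme.Opens.range_ι]
    rintro _ ⟨s, rfl⟩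
    refine hqW ?_
    show q ∉ (e₁.hom (pt s)).asIdeal
    intro hmem
    haveI : Subsingleton ↥S := inferInstanceAs (Subsingleton (PrimeSpectrum k))
    have : MvPolynomial.eval v (re q) ∈ (s : PrimeSpectrum k).asIdeal := hmem
    exact (s : PrimeSpectrum k).2.ne_top (Ideal.eq_top_of_isUnit_mem _ this (isUnit_iff_ne_zero.2 hv))
  let t := IsOpenImmersion.lift T.ι pt hptT
  let w := t ≫ c
  have hwf : w ≫ pullback.fst f g ≫ f = 𝟙 S := by
    show t ≫ c ≫ pullback.fst f g ≫ f = _
    rw [hc, IsOpenImmersion.lift_fac_assoc, hpt]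
  have hwg : (w ≫ pullback.snd f g) ≫ g = 𝟙 S := by
    rw [Category.assoc, ← pullback.condition]; exact hwf
  let s : X ⟶ pullback f g := pullback.lift (𝟙 X) (f ≫ w ≫ pullback.snd f g)
    (by rw [Category.id_comp, Category.assoc, hwg, Category.comp_id])
  have hxs : (w ≫ pullback.fst f g) ≫ s = w := by
    apply pullback.hom_ext
    · rw [Category.assoc, pullback.lift_fst, Category.comp_id]
    · rw [Category.assoc, pullback.lift_snd, ← Category.assoc, Category.assoc w, hwf, Category.id_comp]
  let U : X.Opens := s ⁻¹ᵁ c.opensRange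
  have hU : (U : Set X).Nonempty := by
    refine ⟨(w ≫ pullback.fst f g) (IsLocalRing.closedPoint k : PrimeSpectrum k), ?_⟩
    show s _ ∈ Set.range c
    rw [← Scheme.Hom.comp_apply, hxs]
    exact ⟨t _, rfl⟩
  let a₀ : (U : Scheme.{u}) ⟶ (T : Scheme.{u}) := IsOpenImmersion.lift c (U.ι ≫ s) (by
    rintro _ ⟨z, rfl⟩
    exact z.2)
  let b₀ : (T : Scheme.{u}) ⟶ X := c ≫ pullback.fst f g
  have hab : a₀ ≫ b₀ = U.ι := by
    show a₀ ≫ c ≫ pullback.fst f g = _
    rw [IsOpenImmersion.lift_fac_assoc, Category.assoc, pullback.lift_fst, Category.comp_id]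
  let V : (T : Scheme.{u}).Opens := b₀ ⁻¹ᵁ U
  let a₁ : (U : Scheme.{u}) ⟶ (V : Scheme.{u}) := IsOpenImmersion.lift V.ι a₀ (by
    rw [Scheme.Opens.range_ι]
    rintro _ ⟨z, rfl⟩
    show b₀ (a₀ z) ∈ U
    rw [← Scheme.Hom.comp_apply, hab]
    exact z.2)
  refine ⟨U, d, T.ι ''ᵁ V, a₁ ≫ (T.ι.isoImage V).hom, (T.ι.isoImage V).inv ≫ (b₀ ∣_ U), hU, ?_, ?_, ?_⟩
  · rw [Category.assoc, Iso.hom_inv_id_assoc, ← cancel_mono U.ι, Category.id_comp, Category.assoc,
      morphismRestrict_ι, IsOpenImmersion.lift_fac_assoc, hab]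
  · rw [Category.assoc, Scheme.Hom.isoImage_hom_ι_assoc, IsOpenImmersion.lift_fac_assoc]
    show a₀ ≫ T.ι ≫ π = _
    rw [← hc, ← Category.assoc c, ← Category.assoc, hab]
  · rw [Category.assoc, morphismRestrict_ι_assoc, ← cancel_epi (T.ι.isoImage V).hom, Iso.hom_inv_id_assoc,
      Scheme.Hom.isoImage_hom_ι_assoc]
    show V.ι ≫ (c ≫ pullback.fst f g) ≫ f = V.ι ≫ T.ι ≫ π
    rw [Category.assoc, hc]

end Groth.Agent.S15699
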