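import Groth.Statements.S15700
import Groth.Agent.Lib.KS29.DomDim
-- import your own Groth.Agent.* helpers here

set_option autoImplicit false
universe u
open CategoryTheory AlgebraicGeometry
open RatVar

namespace Groth.Agent.S15700

/-- Over an infinite field k, an integral scheme X of finite type over k that admits a dominant
k-morphism from a k-rational variety admits one from a k-rational variety of the same dimension as
X. Stated with open subschemes of affine spaces: if a non-empty open subscheme of Spec k[x_1, ...,
x_n] maps dominantly to X over k, then some non-empty open subscheme of some Spec k[x_1, ..., x_m]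
with m = dim X maps dominantly to X over k. -/
theorem result (k : Type u) [Field k] [Infinite k]
    (X : Scheme.{u}) (f : X ⟶ Spec (CommRingCat.of k)) [IsIntegral X] [LocallyOfFiniteType f] [QuasiCompact f]
    (n : ℕ) (W : (Spec (CommRingCat.of (MvPolynomial (Fin n) k))).Opens) (hW : (W : Set ↑(Spec (CommRingCat.of (MvPolynomial (Fin n) k)))).Nonempty)
    (φ : (W : Scheme.{u}) ⟶ X) [IsDominant φ] (hφ : φ ≫ f = W.ι ≫ Spec.map (CommRingCat.ofHom (algebraMap k (MvPolynomial (Fin n) k)))) :
    ∃ (m : ℕ) (W' : (Spec (CommRingCat.of (MvPolynomial (Fin m) k))).Opens) (ψ : (W' : Scheme.{u}) ⟶ X),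
      (W' : Set ↑(Spec (CommRingCat.of (MvPolynomial (Fin m) k)))).Nonempty ∧ IsDominant ψ ∧ ψ ≫ f = W'.ι ≫ Spec.map (CommRingCat.ofHom (algebraMap k (MvPolynomial (Fin m) k))) ∧
      (m : WithBot ℕ∞) = topologicalKrullDim X := by
  exact Groth.Agent.KS29.DomDim.main k X f n W hW φ hφ

end Groth.Agent.S15700
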