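import Groth.Statements.S15701
import Mathlib.AlgebraicGeometry.Morphisms.Separated
import Mathlib.AlgebraicGeometry.ResidueField

set_option autoImplicit false
universe u
open CategoryTheory AlgebraicGeometry
open RatVar

set_option linter.style.haveILetI false

namespace Groth.Agent.S15701

/-- The points with a fixed field-valued point. -/
def fixedPts {X : Scheme.{u}} (a : X ⟶ X) : Set X :=
  {y | ∃ (K : Type u) (_ : Field K) (x : Spec (CommRingCat.of K) ⟶ X), y ∈ Set.range x.base ∧ x ≫ a = x}

theorem fixedPts_eq_range {X S : Scheme.{u}} (f : X ⟶ S) [IsSeparated f] (a : Over.mk f ⟶ Over.mk f) :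
    fixedPts a.left = Set.range (Limits.equalizer.ι a (𝟙 _)).left := by
  ext y
  constructor
  · rintro ⟨K, _, x, ⟨p, rfl⟩, hx⟩
    let t : Over.mk (x ≫ f) ⟶ Over.mk f := Over.homMk x
    let l := Limits.equalizer.lift (f := a) (g := 𝟙 _) t (by
      ext1
      simpa [t] using hx)
    have e : l.left ≫ (Limits.equalizer.ι a (𝟙 _)).left = x :=
      congrArg CommaMorphism.left (Limits.equalizer.lift_ι t _)
    exact ⟨l.left p, by rw [← Scheme.Hom.comp_apply, e]⟩
  · rintro ⟨z, rfl⟩
    let E := Limits.equalizer a (𝟙 (Over.mk f))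
    refine ⟨E.left.residueField z, inferInstance, E.left.fromSpecResidueField z ≫ (Limits.equalizer.ι a (𝟙 _)).left,
      ⟨IsLocalRing.closedPoint _, ?_⟩, ?_⟩
    · exact congrArg _ (Scheme.fromSpecResidueField_apply _ _)
    · have h := congrArg CommaMorphism.left (Limits.equalizer.condition a (𝟙 (Over.mk f)))
      rw [Category.comp_id] at h
      change (Limits.equalizer.ι a (𝟙 (Over.mk f))).left ≫ a.left = _ at h
      rw [Category.assoc, h]


/-- A faithful action of a finite group on a geometrically integral variety is almost free. Here k is a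
field of characteristic zero, X is an integral separated scheme of finite type over k, and the
finite group G acts on X by k-automorphisms through an injective homomorphism to Aut X; the
conclusion is a non-empty G-stable open subscheme U of X such that for every field K and every
morphism Spec K → X whose image lies in U, an element of G fixing that K-point is the identity. (X
is taken separated: for the affine line with a doubled origin and the involution exchanging the two
origins the action is faithful while every point off the origins is fixed, so no such U exists;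
integrality replaces geometric integrality, which is all the codimension argument uses.) -/
theorem result (k : Type u) [Field k] [CharZero k]
    (X : Scheme.{u}) (f : X ⟶ Spec (CommRingCat.of k)) [IsIntegral X] [LocallyOfFiniteType f]
    [QuasiCompact f] [IsSeparated f]
    (G : Type u) [Group G] [Finite G] (ρ : G →* Aut X)
    (hρ : ∀ g : G, (ρ g).hom ≫ f = f) (hfaith : Function.Injective ρ) :
    ∃ U : X.Opens, (U : Set X).Nonempty ∧ (∀ g : G, (ρ g).hom ⁻¹ᵁ U = U) ∧
      ∀ (K : Type u) [Field K] (x : Spec (CommRingCat.of K) ⟶ X),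
        Set.range x.base ⊆ (U : Set X) → ∀ g : G, x ≫ (ρ g).hom = x → g = 1 := by
  classical
  haveI : IsSeparated (Over.mk f).hom := inferInstanceAs (IsSeparated f)
  let a : G → (Over.mk f ⟶ Over.mk f) := fun g => Over.homMk (ρ g).hom (hρ g)
  let B : Set X := ⋃ g ∈ {g : G | g ≠ 1}, fixedPts (ρ g).hom
  have hcl : ∀ g, IsClosed (fixedPts (ρ g).hom) := fun g => by
    have e : fixedPts (ρ g).hom = _ := fixedPts_eq_range f (a g)
    rw [e]
    exact (Limits.equalizer.ι (a g) (𝟙 _)).left.isClosedEmbedding.isClosed_range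
  have hB : IsClosed B := (Set.toFinite _).isClosed_biUnion fun g _ => hcl g
  have hgen : genericPoint X ∉ B := fun h => by
    simp only [B, Set.mem_iUnion, exists_prop] at h
    obtain ⟨g, hg, hη⟩ := h
    have e : fixedPts (ρ g).hom = Set.range (Limits.equalizer.ι (a g) (𝟙 _)).left := fixedPts_eq_range f (a g)
    haveI : Surjective (Limits.equalizer.ι (a g) (𝟙 _)).left := ⟨fun y => by
      have hy : y ∈ closure ({genericPoint X} : Set X) := by rw [genericPoint_closure]; trivial
      have := (hcl g).closure_subset_iff.2 (Set.singleton_subset_iff.2 hη) hy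
      rwa [e] at this⟩
    haveI := isIso_of_isClosedImmersion_of_surjective (Y := X) (Limits.equalizer.ι (a g) (𝟙 _)).left
    have h1 := congrArg CommaMorphism.left (Limits.equalizer.condition (a g) (𝟙 (Over.mk f)))
    change (Limits.equalizer.ι (a g) (𝟙 (Over.mk f))).left ≫ (ρ g).hom =
      (Limits.equalizer.ι (a g) (𝟙 (Over.mk f))).left ≫ 𝟙 X at h1
    rw [cancel_epi] at h1
    apply hg
    refine hfaith ?_
    rw [map_one]
    exact Iso.ext h1
  refine ⟨⟨Bᶜ, hB.isOpen_compl⟩, ⟨genericPoint X, hgen⟩, fun h => ?_, fun K _ x hx g hfix => ?_⟩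
  · have hmem : ∀ (h : G) (y : X), (ρ h).hom y ∈ B → y ∈ B := by
      intro h y hy
      simp only [B, Set.mem_iUnion, exists_prop] at hy ⊢
      obtain ⟨g, hg, K, _, x, ⟨p, hp⟩, hx⟩ := hy
      refine ⟨h⁻¹ * g * h, fun e => hg ?_, K, inferInstance, x ≫ (ρ h).inv, ⟨p, ?_⟩, ?_⟩
      · calc g = h * (h⁻¹ * g * h) * h⁻¹ := by group
          _ = 1 := by rw [e]; group
      · have e1 : (ρ h).inv ((ρ h).hom y) = y := by
          rw [← Scheme.Hom.comp_apply, show (ρ h).hom ≫ (ρ h).inv = 𝟙 X from Iso.hom_inv_id _]; rfl
        rw [Scheme.Hom.comp_apply, hp, e1]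
      · have e2 : (ρ (h⁻¹ * g * h)).hom = (ρ h).hom ≫ (ρ g).hom ≫ (ρ h).inv := by
          rw [map_mul, map_mul, map_inv]
          rfl
        rw [e2, Category.assoc, ← Category.assoc (ρ h).inv (ρ h).hom, show (ρ h).inv ≫ (ρ h).hom = 𝟙 X from Iso.inv_hom_id _,
          Category.id_comp, reassoc_of% hx]
    ext y
    show (ρ h).hom y ∈ Bᶜ ↔ y ∈ Bᶜ
    refine not_congr ⟨hmem h y, fun hy => hmem h⁻¹ _ ?_⟩
    rw [map_inv]
    have e1 : (ρ h).inv ((ρ h).hom y) = y := by
      rw [← Scheme.Hom.comp_apply, show (ρ h).hom ≫ (ρ h).inv = 𝟙 X from Iso.hom_inv_id _]; rfl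
    show (ρ h).inv ((ρ h).hom y) ∈ B
    rwa [e1]
  · by_contra hg
    have hp : x (IsLocalRing.closedPoint K) ∈ B := by
      simp only [B, Set.mem_iUnion, exists_prop]
      exact ⟨g, hg, K, inferInstance, x, ⟨_, rfl⟩, hfix⟩
    exact hx ⟨_, rfl⟩ hp

end Groth.Agent.S15701
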