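import Groth.Statements.S15702
import Groth.Agent.Lib.UnitsRos.Affine
import Groth.Agent.Lib.EqLocH28.Basic
import Groth.Agent.Lib.OrbitH28.Stab
open TensorProduct Groth.Agent

set_option autoImplicit false
universe u
open GLin

namespace Groth.Agent.S15702

/-- Let k be algebraically closed of characteristic zero, let G be a connected linear algebraic group
over k without non-trivial characters acting on an integral affine k-variety Spec B of finite type
with B a unique factorisation domain; then the field of G-invariant rational functions is the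
fraction field of the ring of invariants B^G. In coordinate-ring form: A is a commutative Hopf
algebra of finite type over k, a domain, whose only group-like element is 1; B is a k-algebra of
finite type, a domain and a unique factorisation monoid, with a coaction of A that is an algebra
map; k-points φ : A →ₐ[k] k act on B through the coaction. If f, g ∈ B, g ≠ 0, satisfy (φ·f) g = f
(φ·g) for all φ, then f g' = f' g for some f', g' ∈ B fixed by all φ with g' ≠ 0. (The published
lemma allows G disconnected with character-free identity component; this row is the connected case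
treated first in its proof.) -/
theorem result (k : Type u) [Field k] [IsAlgClosed k] [CharZero k]
    (A : Type u) [CommRing A] [HopfAlgebra k A] [Algebra.FiniteType k A] [IsDomain A]
    (hchar : ∀ a : A, IsGroupLikeElem k a → a = 1)
    (B : Type u) [CommRing B] [Algebra k B] [Algebra.FiniteType k B] [IsDomain B] [UniqueFactorizationMonoid B]
    [HopfRep.Comod k A B] [GLin.IsCoactAlg k A B]
    (f g : B) (hg : g ≠ 0)
    (hinv : ∀ φ : A →ₐ[k] k, HopfRep.Comod.act k A B φ f * g = f * HopfRep.Comod.act k A B φ g) :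
    ∃ f' g' : B, (∀ φ : A →ₐ[k] k, HopfRep.Comod.act k A B φ f' = f') ∧
      (∀ φ : A →ₐ[k] k, HopfRep.Comod.act k A B φ g' = g') ∧ g' ≠ 0 ∧ f * g' = f' * g := by
  classical
  obtain ⟨f₀, g₀, c, hrel, hcf, hcg⟩ := UniqueFactorizationMonoid.exists_reduced_factors' f g hg
  have hc : c ≠ 0 := left_ne_zero_of_mul (hcg.symm ▸ hg)
  have hg₀ : g₀ ≠ 0 := right_ne_zero_of_mul (hcg.symm ▸ hg)
  let ρ : B →ₐ[k] B ⊗[k] A := GLin.coactAlgHom k A B
  let Φ : (A →ₐ[k] k) → (B ⊗[k] A →ₐ[k] B) := fun φ =>
    Algebra.TensorProduct.lift (AlgHom.id k B) ((Algebra.ofId k B).comp φ) fun _ _ => Commute.all _ _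
  have hact : ∀ φ b, HopfRep.Comod.act k A B φ b = Φ φ (ρ b) := fun φ b => by
    show _ = Φ φ (HopfRep.Comod.coact (k := k) (A := A) b)
    simp only [HopfRep.Comod.act, LinearMap.comp_apply, LinearEquiv.coe_coe]
    generalize HopfRep.Comod.coact (k := k) (A := A) b = t
    induction t with
    | zero => simp
    | tmul r a => simp [Φ, Algebra.smul_def, mul_comm]
    | add p q hp hq => simp only [map_add, hp, hq]
  have hpair : ∀ (z : B →ₐ[k] k) φ t,
      Algebra.TensorProduct.lift z φ (fun _ _ => .all _ _) t = z (Φ φ t) := by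
    intro z φ t
    refine AlgHom.congr_fun (?_ : Algebra.TensorProduct.lift z φ (fun _ _ => .all _ _) = z.comp (Φ φ)) t
    exact Algebra.TensorProduct.ext' fun r a => by simp [Φ]
  have hfg : (f ⊗ₜ[k] (1 : A)) * ρ g = (g ⊗ₜ[k] (1 : A)) * ρ f := by
    refine sub_eq_zero.1 (UnitsRos.eq_zero_of_points (k := k) fun z φ => ?_)
    rw [map_sub, map_mul, map_mul, hpair, hpair, hpair, hpair, ← hact, ← hact]
    have := congrArg z (hinv φ)
    rw [map_mul, map_mul] at this
    simp only [Φ, Algebra.TensorProduct.lift_tmul, map_one, mul_one, AlgHom.id_apply]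
    linear_combination -this
  have h₀ : (f₀ ⊗ₜ[k] (1 : A)) * ρ g₀ = (g₀ ⊗ₜ[k] (1 : A)) * ρ f₀ := by
    have hnz : c ∈ nonZeroDivisors B := mem_nonZeroDivisors_of_ne_zero hc
    refine sub_eq_zero.1 (EqLocH28.tmul_one_mul_eq_zero hnz (EqLocH28.coact_mul_eq_zero hnz _ ?_))
    rw [← hcf, ← hcg, map_mul, map_mul] at hfg
    have e : ∀ a b : B, ((a * b) ⊗ₜ[k] (1 : A)) = (a ⊗ₜ[k] (1 : A)) * (b ⊗ₜ[k] (1 : A)) := fun a b => by simp
    rw [e, e] at hfg
    show ρ c * _ = 0
    linear_combination hfg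
  let e := Module.Free.chooseBasis k A
  let E := TensorProduct.equivFinsuppOfBasisRight (M := B) (N := A) e
  have hE : ∀ (b : B) t i, E ((b ⊗ₜ[k] (1 : A)) * t) i = b * E t i := by
    intro b t i
    induction t with
    | zero => simp
    | tmul r a => simp [E]
    | add p q hp hq => simp only [mul_add, map_add, Finsupp.add_apply, hp, hq]
  have hdvd : ∀ i, ∃ w, E (ρ g₀) i = g₀ * w := fun i => by
    have := congrArg (fun t => E t i) h₀
    simp only [hE] at this
    exact hrel.symm.dvd_of_dvd_mul_left ⟨_, this⟩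
  choose w hw using hdvd
  let u : B ⊗[k] A := ∑ i ∈ (E (ρ g₀)).support, w i ⊗ₜ[k] e i
  have hug : ρ g₀ = (g₀ ⊗ₜ[k] (1 : A)) * u := by
    rw [Finset.mul_sum]
    simp only [Algebra.TensorProduct.tmul_mul_tmul, one_mul, ← hw]
    conv_lhs => rw [← E.symm_apply_apply (ρ g₀)]
    rw [TensorProduct.equivFinsuppOfBasisRight_symm_apply]
    rfl
  have hnzg : g₀ ∈ nonZeroDivisors B := mem_nonZeroDivisors_of_ne_zero hg₀
  have huf : ρ f₀ = (f₀ ⊗ₜ[k] (1 : A)) * u := by
    refine sub_eq_zero.1 (EqLocH28.tmul_one_mul_eq_zero hnzg ?_)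
    rw [mul_sub, ← h₀, hug]; ring
  have hcomp : ∀ φ : A →ₐ[k] k, ∀ b : B, HopfRep.Comod.act k A B φ
      (HopfRep.Comod.act k A B (WithConv.ofConv (WithConv.toConv φ)⁻¹) b) = b := by
    intro φ b
    by_contra hne
    obtain ⟨z, hz⟩ := UnitsRos.exists_point_ne_zero (k := k) (sub_ne_zero.2 hne)
    refine hz ?_
    rw [map_sub, sub_eq_zero, OrbitH28.act_apply, ← WithConv.ofConv_toConv φ, ← OrbitH28.mv_apply,
      OrbitH28.act_apply, ← OrbitH28.mv_apply, OrbitH28.mv_mv]
    simp [OrbitH28.mv_one]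
  have hu : IsUnit u := by
    by_contra hu
    obtain ⟨m, hm, hum⟩ := exists_max_ideal_of_mem_nonunits hu
    haveI : Algebra.FiniteType k (B ⊗[k] A) :=
      Algebra.FiniteType.trans (S := B) ‹Algebra.FiniteType k B› inferInstance
    obtain ⟨χ, rfl⟩ := OrbitH28.exists_point_eq (k := k) hm
    let z : B →ₐ[k] k := χ.comp Algebra.TensorProduct.includeLeft
    let φ : A →ₐ[k] k := χ.comp Algebra.TensorProduct.includeRight
    have hχ : χ = z.comp (Φ φ) := Algebra.TensorProduct.ext' fun r a => by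
      have := map_mul χ (r ⊗ₜ[k] (1 : A)) ((1 : B) ⊗ₜ[k] a)
      rw [Algebra.TensorProduct.tmul_mul_tmul, mul_one, one_mul] at this
      rw [this]
      show z r * φ a = z (Φ φ (r ⊗ₜ[k] a))
      simp [Φ]
    have hφu : IsUnit (Φ φ u) := by
      set ψ := WithConv.ofConv (WithConv.toConv φ)⁻¹
      have hΦ : ∀ ψ', HopfRep.Comod.act k A B ψ' g₀ = g₀ * Φ ψ' u := fun ψ' => by
        rw [hact, hug, map_mul]; simp [Φ]
      have key := hcomp φ g₀
      rw [hΦ ψ, hact, map_mul, map_mul, ← hact, ← hact, hΦ φ, mul_assoc] at key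
      exact IsUnit.of_mul_eq_one _ (mul_left_cancel₀ hg₀ (key.trans (mul_one g₀).symm))
    have : IsUnit (χ u) := by rw [hχ, AlgHom.comp_apply]; exact hφu.map z
    exact this.ne_zero hum
  obtain ⟨b, a, hb, ha, hba⟩ := UnitsRos.exists_eq_tmul hu
  let ε := Bialgebra.counitAlgHom k A
  have hε : ∀ x : B, Φ ε (ρ x) = x := fun x => by
    have h1 := LinearMap.congr_fun (HopfRep.Comod.counit_comp (k := k) (A := A) (V := B)) x
    simp only [LinearMap.comp_apply, LinearMap.flip_apply, TensorProduct.mk_apply] at h1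
    have h2 : ∀ t : B ⊗[k] A, Φ ε t =
        TensorProduct.rid k B ((CoalgebraStruct.counit (R := k) (A := A)).lTensor B t) := fun t => by
      induction t with
      | zero => simp
      | tmul r s => simp [Φ, ε, Algebra.smul_def, mul_comm]
      | add p q hp hq => simp only [map_add, hp, hq]
    show Φ ε (HopfRep.Comod.coact (k := k) (A := A) x) = x
    rw [h2, h1]; simp
  have hb1 : b * algebraMap k B (ε a) = 1 := by
    refine mul_left_cancel₀ hg₀ ?_
    conv_rhs => rw [mul_one, ← hε g₀, hug, hba]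
    simp [Φ, mul_assoc]
  have hεa : ε a ≠ 0 := fun h => by simp [h] at hb1
  let a' := (ε a)⁻¹ • a
  have hu' : u = (1 : B) ⊗ₜ[k] a' := by
    rw [hba, ← hb1, mul_comm, ← Algebra.smul_def, TensorProduct.smul_tmul, smul_smul,
      mul_inv_cancel₀ hεa, one_smul]
  obtain ⟨l, hl⟩ : ∃ l : B →ₗ[k] k, l g₀ = 1 := by
    obtain ⟨l, hl⟩ : ∃ l : B →ₗ[k] k, l g₀ ≠ 0 := by
      by_contra h
      push Not at h
      exact hg₀ ((Module.forall_dual_apply_eq_zero_iff k _).1 h)
    exact ⟨(l g₀)⁻¹ • l, by simp [hl]⟩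
  have hρg : ρ g₀ = g₀ ⊗ₜ[k] a' := by rw [hug, hu']; simp
  have ha' : IsGroupLikeElem k a' := by
    refine ⟨?_, ?_⟩
    · show ε a' = 1
      simp [a', hεa]
    · have h1 := LinearMap.congr_fun (HopfRep.Comod.coassoc (k := k) (A := A) (V := B)) g₀
      simp only [LinearMap.comp_apply, LinearEquiv.coe_coe] at h1
      change (TensorProduct.assoc k B A A) (LinearMap.rTensor A _ (ρ g₀)) =
        LinearMap.lTensor B _ (ρ g₀) at h1
      rw [hρg, LinearMap.rTensor_tmul] at h1
      change (TensorProduct.assoc k B A A) (ρ g₀ ⊗ₜ[k] a') = _ at h1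
      rw [hρg] at h1
      have h2 := congrArg (fun t => TensorProduct.lid k (A ⊗[k] A) (l.rTensor (A ⊗[k] A) t)) h1
      simpa [hl] using h2.symm
  have ha1 := hchar a' ha'
  refine ⟨f₀, g₀, fun φ => ?_, fun φ => ?_, hg₀, by rw [← hcf, ← hcg]; ring⟩
  · rw [hact, huf, hu', ha1]; simp [Φ]
  · rw [hact, hρg, ha1]; simp [Φ]

end Groth.Agent.S15702
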