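import Groth.Statements.S15703
import Groth.Agent.Lib.RankOne21.Elliptic

set_option linter.style.haveILetI false
set_option maxHeartbeats 1600000
set_option backward.isDefEq.respectTransparency.types false
-- import your own Groth.Agent.* helpers here

set_option autoImplicit false
universe u
open CategoryTheory MonoidalCategory CartesianMonoidalCategory MonObj GrpObj AlgebraicGeometry
open Red

namespace Groth.Agent.S15703

/-- Every central element of a connected semisimple group over an algebraically closed field of
characteristic zero is the commutator of two elements of finite order. Here K is an algebraically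
closed field of characteristic zero, G is a semisimple K-group scheme in the sense used for
reductive groups over an algebraically closed field (affine, smooth, connected, trivial unipotent
radical, no non-trivial normal subtorus), and the assertion concerns the group G(K) of K-rational
points: a central element c of G(K) equals a b a⁻¹ b⁻¹ for some a, b ∈ G(K) of finite order. (The
published statement is over the complex numbers; this row takes any algebraically closed field of
characteristic zero.) -/
theorem result (K : Type u) [Field K] [IsAlgClosed K] [CharZero K]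
    (G : Over (Spec (CommRingCat.of K))) [GrpObj G] (hG : Red.IsSemisimpleOver K G)
    (c : 𝟙_ (Over (Spec (CommRingCat.of K))) ⟶ G) (hc : c ∈ Subgroup.center (𝟙_ (Over (Spec (CommRingCat.of K))) ⟶ G)) :
    ∃ a b : 𝟙_ (Over (Spec (CommRingCat.of K))) ⟶ G, IsOfFinOrder a ∧ IsOfFinOrder b ∧ c = a * b * a⁻¹ * b⁻¹ := by
  haveI : IsAffine G.left := hG.1.1
  haveI : Smooth G.hom := hG.1.2.1
  haveI : ConnectedSpace G.left := hG.1.2.2.1
  obtain ⟨T, _, iT, hT⟩ := TorPts21.exists_maxTorus G
  haveI := hT.1
  haveI := hT.2.1
  obtain ⟨d, ⟨C⟩⟩ := TorPts21.exists_chars hT.2.2.1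
  let e : (𝟙_ (Over (Spec (CommRingCat.of K))) ⟶ G) →* (VecGrp.pt K K ⟶ G) :=
    MonoidHom.mk' TorPts21.gpt fun x y => MonObj.comp_mul _ x y
  have hinv : ∀ x : 𝟙_ (Over (Spec (CommRingCat.of K))) ⟶ G, InvRing21.toPt _ ≫ e x = x := fun x => by
    show InvRing21.toPt _ ≫ toUnit _ ≫ x = x
    rw [← Category.assoc, Subsingleton.elim (InvRing21.toPt (𝟙_ (Over (Spec (CommRingCat.of K)))) ≫ toUnit _) (𝟙 _),
      Category.id_comp]
  have hinj : Function.Injective e := fun x y h => by rw [← hinv x, ← hinv y, h]
  obtain ⟨a, b, ha, hb, hab⟩ := RankOne21.exists_commutator iT C hG (e c) (fun x => by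
    obtain ⟨g, rfl⟩ := TorPts21.exists_gpt x
    show e c * e g = e g * e c
    rw [← map_mul, ← map_mul, Subgroup.mem_center_iff.1 hc g]) hT
  obtain ⟨a₀, rfl⟩ := TorPts21.exists_gpt a
  obtain ⟨b₀, rfl⟩ := TorPts21.exists_gpt b
  refine ⟨a₀, b₀, ?_, ?_, hinj ?_⟩
  · exact (hinj.isOfFinOrder_iff (f := e)).1 ha
  · exact (hinj.isOfFinOrder_iff (f := e)).1 hb
  · rw [hab, map_mul, map_mul, map_mul, map_inv, map_inv]
    rfl

end Groth.Agent.S15703
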