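import Groth.Statements.S15704
import Groth.Agent.Lib.SpecialTorsor21.Torsor
-- import your own Groth.Agent.* helpers here

set_option autoImplicit false
universe u
open CategoryTheory CategoryTheory.Limits MonoidalCategory CartesianMonoidalCategory MonObj GrpObj AlgebraicGeometry
open AGF

namespace Groth.Agent.S15704

/-- Let G be a linear algebraic group over a field k of characteristic zero, contained as a closed
subgroup in two special groups G₁, G₂ whose underlying varieties are k-rational; then G₁/G and G₂/G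
are stably k-birationally equivalent. Here G, G₁, G₂ are affine group schemes of finite type over k
with homomorphic closed immersions G → G_j; 'special' is spelled out: for every action of G_j on a
k-scheme X of finite type and every faithfully flat k-morphism p : X → Y to a k-scheme of finite
type such that (g, x) ↦ (g·x, x) makes G_j × X the fibre product X ×_Y X, every point of Y has an
open neighbourhood over which p has a section; 'k-rational' is birationality over k with an affine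
space; Q_j with its G_j-action and base point is a quotient G_j/G; the conclusion is that Q₁ ×_k
Spec k[x_1, ..., x_r] and Q₂ ×_k Spec k[x_1, ..., x_s] are birational over k for some r, s. -/
theorem result (k : Type u) [Field k] [CharZero k]
    (G G₁ G₂ : Over (Spec (CommRingCat.of k))) [GrpObj G] [GrpObj G₁] [GrpObj G₂]
    [IsAffine G.left] [IsAffine G₁.left] [IsAffine G₂.left]
    [LocallyOfFiniteType G.hom] [LocallyOfFiniteType G₁.hom] [LocallyOfFiniteType G₂.hom]
    (i₁ : G ⟶ G₁) (i₂ : G ⟶ G₂) [IsMonHom i₁] [IsMonHom i₂]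
    [IsClosedImmersion i₁.left] [IsClosedImmersion i₂.left]
    (hsp₁ : (∀ (X' Y' : Over (Spec (CommRingCat.of k))) (a : AlgGrp.Action G₁ X') (p : X' ⟶ Y'),
      LocallyOfFiniteType X'.hom → QuasiCompact X'.hom → LocallyOfFiniteType Y'.hom → QuasiCompact Y'.hom →
      Flat p.left → Surjective p.left → IsPullback a.act.left (snd G₁ X').left p.left p.left →
      ∀ y : ↥Y'.left, ∃ (W : Y'.left.Opens) (s : (W : Scheme.{u}) ⟶ X'.left), y ∈ W ∧ s ≫ p.left = W.ι))
    (hsp₂ : (∀ (X' Y' : Over (Spec (CommRingCat.of k))) (a : AlgGrp.Action G₂ X') (p : X' ⟶ Y'),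
      LocallyOfFiniteType X'.hom → QuasiCompact X'.hom → LocallyOfFiniteType Y'.hom → QuasiCompact Y'.hom →
      Flat p.left → Surjective p.left → IsPullback a.act.left (snd G₂ X').left p.left p.left →
      ∀ y : ↥Y'.left, ∃ (W : Y'.left.Opens) (s : (W : Scheme.{u}) ⟶ X'.left), y ∈ W ∧ s ≫ p.left = W.ι))
    [Scheme.IsRationalOver G₁.hom] [Scheme.IsRationalOver G₂.hom]
    (Q₁ Q₂ : Over (Spec (CommRingCat.of k))) (a₁ : AlgGrp.Action G₁ Q₁) (a₂ : AlgGrp.Action G₂ Q₂)
    (o₁ : 𝟙_ (Over (Spec (CommRingCat.of k))) ⟶ Q₁) (o₂ : 𝟙_ (Over (Spec (CommRingCat.of k))) ⟶ Q₂)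
    (hQ₁ : AGF.IsQuotient i₁ Q₁ a₁ o₁) (hQ₂ : AGF.IsQuotient i₂ Q₂ a₂ o₂) :
    ∃ r s : ℕ, Scheme.BirationalOver
      (pullback.fst Q₁.hom (Spec.map (CommRingCat.ofHom (algebraMap k (MvPolynomial (Fin r) k)))) ≫ Q₁.hom)
      (pullback.fst Q₂.hom (Spec.map (CommRingCat.ofHom (algebraMap k (MvPolynomial (Fin s) k)))) ≫ Q₂.hom) := by
  haveI : QuasiCompact G.hom := inferInstance
  haveI : QuasiCompact G₁.hom := inferInstance
  haveI : QuasiCompact G₂.hom := inferInstance
  obtain ⟨r, hirr₁, hr⟩ := Groth.Agent.SpecialTorsor21.exists_finite_rational G₂.hom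
  obtain ⟨s, hirr₂, hs⟩ := Groth.Agent.SpecialTorsor21.exists_finite_rational G₁.hom
  let P := G₁ ⊗ G₂
  let p₁ : P ⟶ G₁ := fst G₁ G₂
  let p₂ : P ⟶ G₂ := snd G₁ G₂
  haveI : IsMonHom p₁ := inferInstanceAs (IsMonHom (fst G₁ G₂))
  haveI : IsMonHom p₂ := inferInstanceAs (IsMonHom (snd G₁ G₂))
  have hsur : ∀ K : Over (Spec (CommRingCat.of k)), ∀ [GrpObj K], Surjective K.hom := fun K _ =>
    ⟨fun z => ⟨(η[K]).left z, Subsingleton.elim (α := PrimeSpectrum k) _ _⟩⟩
  haveI := hsur G₁
  haveI := hsur G₂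
  haveI : LocallyOfFiniteType P.hom := inferInstanceAs (LocallyOfFiniteType (pullback.fst G₁.hom G₂.hom ≫ G₁.hom))
  haveI : IsAffineHom G₂.hom := isAffineHom_of_isAffine _
  haveI : IsAffine P.left := by
    haveI : IsAffineHom (pullback.fst G₁.hom G₂.hom) :=
      MorphismProperty.of_isPullback (P := @IsAffineHom) (IsPullback.of_hasPullback G₁.hom G₂.hom).flip inferInstance
    exact (isAffine_of_isAffineHom (pullback.fst G₁.hom G₂.hom) : IsAffine (pullback G₁.hom G₂.hom))
  haveI : QuasiCompact P.hom := inferInstance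
  haveI : Flat p₁.left := inferInstanceAs (Flat (pullback.fst G₁.hom G₂.hom))
  haveI : Flat p₂.left := inferInstanceAs (Flat (pullback.snd G₁.hom G₂.hom))
  haveI : Surjective p₁.left := inferInstanceAs (Surjective (pullback.fst G₁.hom G₂.hom))
  haveI : Surjective p₂.left := inferInstanceAs (Surjective (pullback.snd G₁.hom G₂.hom))
  let i : G ⟶ P := lift i₁ i₂
  have hi₁ : i ≫ p₁ = i₁ := lift_fst _ _
  have hi₂ : i ≫ p₂ = i₂ := lift_snd _ _
  haveI : IsMonHom i := by
    refine Groth.Agent.Desc.isMonHom_of_points i (fun T => ?_) fun T x y => ?_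
    · refine CartesianMonoidalCategory.hom_ext _ _ ?_ ?_
      · show ((1 : T ⟶ G) ≫ i) ≫ p₁ = (1 : T ⟶ P) ≫ p₁
        rw [Category.assoc, hi₁, MonObj.one_comp, MonObj.one_comp]
      · show ((1 : T ⟶ G) ≫ i) ≫ p₂ = (1 : T ⟶ P) ≫ p₂
        rw [Category.assoc, hi₂, MonObj.one_comp, MonObj.one_comp]
    · refine CartesianMonoidalCategory.hom_ext _ _ ?_ ?_
      · show ((x * y) ≫ i) ≫ p₁ = ((x ≫ i) * (y ≫ i)) ≫ p₁
        simp only [Category.assoc, MonObj.mul_comp, hi₁]
      · show ((x * y) ≫ i) ≫ p₂ = ((x ≫ i) * (y ≫ i)) ≫ p₂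
        simp only [Category.assoc, MonObj.mul_comp, hi₂]
  haveI : IsClosedImmersion i.left := by
    haveI : IsClosedImmersion (i.left ≫ p₁.left) := by rw [← Over.comp_left, hi₁]; infer_instance
    exact IsClosedImmersion.of_comp i.left p₁.left
  haveI : Mono i₁ := Over.mono_of_mono_left i₁
  haveI : Mono i₂ := Over.mono_of_mono_left i₂
  haveI : LocallyOfFiniteType Q₁.hom := hQ₁.1
  haveI : LocallyOfFiniteType Q₂.hom := hQ₂.1
  obtain ⟨X, a, o, hX, -, hXq⟩ := Groth.Agent.GrassAct21.exists_quotient_affine i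
  haveI := hXq
  have h1 := Groth.Agent.SpecialTorsor21.birationalOver_quotient p₁ p₂
    (fun h h' => CartesianMonoidalCategory.hom_ext _ _ h h')
    (fun x y => ⟨lift x y, lift_fst _ _, lift_snd _ _⟩) i i₁ hi₁ a o hX a₁ o₁ hQ₁ hsp₂
  have h2 := Groth.Agent.SpecialTorsor21.birationalOver_quotient p₂ p₁
    (fun h h' => CartesianMonoidalCategory.hom_ext _ _ h' h)
    (fun x y => ⟨lift y x, lift_snd _ _, lift_fst _ _⟩) i i₂ hi₂ a o hX a₂ o₂ hQ₂ hsp₁
  have swap : ∀ K Q : Over (Spec (CommRingCat.of k)),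
      Scheme.BirationalOver (K ⊗ Q).hom (pullback.fst Q.hom K.hom ≫ Q.hom) := fun K Q => by
    haveI : IsDominant (pullbackSymmetry K.hom Q.hom).hom :=
      ⟨(pullbackSymmetry K.hom Q.hom).hom.surjective.denseRange⟩
    refine (pullbackSymmetry K.hom Q.hom).hom.birationalOver _ _ ?_
    rw [pullbackSymmetry_hom_comp_fst_assoc, ← pullback.condition]
    rfl
  refine ⟨r, s, ?_⟩
  exact ((Groth.Agent.SpecialTorsor21.birationalOver_pullback Q₁.hom hr).symm.trans
    ((swap G₂ Q₁).symm.trans h1.symm)).trans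
      (h2.trans ((swap G₁ Q₂).trans (Groth.Agent.SpecialTorsor21.birationalOver_pullback Q₂.hom hs)))

end Groth.Agent.S15704
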