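import Groth.Statements.S15705
import Groth.Agent.Lib.OrbitH28.Stab
import Groth.Agent.Lib.WeightGrpH28.Basic
open Groth.Agent

set_option autoImplicit false
universe u
open GLin

namespace Groth.Agent.S15705

/-- Let k be algebraically closed of characteristic zero, G a linear algebraic group and X a factorial
affine G-variety with k[X]* = k*; then there is a G-invariant affine open U of X such that the field
of G-invariant rational functions is the fraction field of k[U]^G. In coordinate-ring form: A is a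
commutative Hopf algebra of finite type over k coacting by an algebra map on B, a finitely generated
k-algebra which is a domain and a unique factorisation monoid all of whose units are scalars;
k-points φ : A →ₐ[k] k of G act on B through the coaction. Conclusion: there is h ≠ 0 in B with D(h)
stable under every φ (φ·h divides a power of h) such that whenever a, b ∈ B, b ≠ 0, satisfy (φ·a) b
= a (φ·b) for all φ (the fraction a/b is invariant), there are c, d ∈ B and exponents r, t with d ≠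
0, with c/h^r and d/h^t invariant in B[1/h] — that is (φ·c) h^r = c (φ·h)^r and (φ·d) h^t = d
(φ·h)^t for all φ — and a d h^r = b c h^t (so a/b = (c/h^r)/(d/h^t)). -/
theorem result (k : Type u) [Field k] [IsAlgClosed k] [CharZero k]
    (A : Type u) [CommRing A] [HopfAlgebra k A] [Algebra.FiniteType k A]
    (B : Type u) [CommRing B] [Algebra k B] [Algebra.FiniteType k B] [IsDomain B] [UniqueFactorizationMonoid B]
    (hunits : ∀ u : Bˣ, ∃ c : k, algebraMap k B c = u)
    [HopfRep.Comod k A B] [GLin.IsCoactAlg k A B] :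
    ∃ h : B, h ≠ 0 ∧ (∀ φ : A →ₐ[k] k, ∃ (N : ℕ) (u : B), HopfRep.Comod.act k A B φ h * u = h ^ N) ∧
      ∀ a b : B, b ≠ 0 → (∀ φ : A →ₐ[k] k, HopfRep.Comod.act k A B φ a * b = a * HopfRep.Comod.act k A B φ b) →
        ∃ (c d : B) (r t : ℕ), d ≠ 0 ∧
          (∀ φ : A →ₐ[k] k, HopfRep.Comod.act k A B φ c * h ^ r = c * (HopfRep.Comod.act k A B φ h) ^ r) ∧
          (∀ φ : A →ₐ[k] k, HopfRep.Comod.act k A B φ d * h ^ t = d * (HopfRep.Comod.act k A B φ h) ^ t) ∧
          a * d * h ^ r = b * c * h ^ t := by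
  classical
  have hzact : ∀ (z : B →ₐ[k] k) (g : A →ₐ[k] k) (b : B),
      z (HopfRep.Comod.act k A B g b) = OrbitH28.mv (WithConv.toConv g) z b := fun z g b => by
    rw [OrbitH28.act_apply]; rfl
  have hinj : ∀ x y : B, (∀ z : B →ₐ[k] k, z x = z y) → x = y := by
    intro x y h
    by_contra hne
    obtain ⟨z, hz⟩ := UnitsRos.exists_point_ne_zero (k := k) (sub_ne_zero.2 hne)
    exact hz (by rw [map_sub, h, sub_self])
  let act' : WithConv (A →ₐ[k] k) → B → B := fun g b => HopfRep.Comod.act k A B g.ofConv b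
  have hact_mul : ∀ g h b, act' (g * h) b = act' g (act' h b) := fun g h b => hinj _ _ fun z => by
    simp only [act', hzact, WithConv.toConv_ofConv, OrbitH28.mv_mv]
  have hact_one : ∀ b, act' 1 b = b := fun b => hinj _ _ fun z => by
    simp only [act', hzact, WithConv.toConv_ofConv, OrbitH28.mv_one]
  have hmulB : ∀ g x y, act' g (x * y) = act' g x * act' g y := fun g x y => hinj _ _ fun z => by
    simp only [act', hzact, map_mul]
  have hone : ∀ g, act' g 1 = 1 := fun g => hinj _ _ fun z => by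
    simp only [act', hzact, map_one]
  have hne0 : ∀ g b, b ≠ 0 → act' g b ≠ 0 := fun g b hb h0 => hb (by
    rw [← hact_one b, ← inv_mul_cancel g, hact_mul, h0]; exact map_zero _)
  -- weights of semi-invariants
  let Semi : (WithConv (A →ₐ[k] k) →* kˣ) → B → Prop := fun χ b => b ≠ 0 ∧ ∀ g, act' g b = (χ g : k) • b
  let S : Set (WithConv (A →ₐ[k] k) →* kˣ) := {χ | ∃ b, Semi χ b}
  have hS : S ⊆ WeightGrpH28.charGrp k A := by
    rintro χ ⟨b, hb, hχ⟩
    obtain ⟨z, hz⟩ := UnitsRos.exists_point_ne_zero (k := k) hb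
    refine ⟨(z b)⁻¹ • GLin.orbitHom k A z b, fun g => ?_⟩
    have := congrArg z (hχ g)
    simp only [act', OrbitH28.act_apply, map_smul, smul_eq_mul] at this
    rw [map_smul, smul_eq_mul, this, mul_comm (χ g : k), inv_mul_cancel_left₀ hz]
  obtain ⟨s, hsS, hgen⟩ := WeightGrpH28.exists_finset S hS
  choose F hF using fun ψ : s => hsS (Finset.mem_coe.2 ψ.2)
  let h : B := ∏ ψ : s, F ψ
  let μ : WithConv (A →ₐ[k] k) → kˣ := fun g => ∏ ψ : s, ψ.1 g
  have hh : h ≠ 0 := Finset.prod_ne_zero_iff.2 fun ψ _ => (hF ψ).1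
  have hprod : ∀ (g : WithConv (A →ₐ[k] k)) (n : s → ℕ),
      act' g (∏ ψ, F ψ ^ n ψ) = ((∏ ψ : s, ψ.1 g ^ n ψ : kˣ) : k) • ∏ ψ, F ψ ^ n ψ := by
    intro g n
    let actM : B →* B := ⟨⟨act' g, hone g⟩, hmulB g⟩
    show actM _ = _
    rw [map_prod, Units.coe_prod, ← Finset.prod_smul]
    refine Finset.prod_congr rfl fun ψ _ => ?_
    rw [map_pow, Units.val_pow_eq_pow_val, ← smul_pow]
    exact congrArg (· ^ n ψ) ((hF ψ).2 g)
  have hhμ : ∀ g, act' g h = (μ g : k) • h := fun g => by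
    simpa [h, μ] using hprod g fun _ => 1
  refine ⟨h, hh, fun φ => ⟨1, algebraMap k B (↑(μ (WithConv.toConv φ))⁻¹ : k), ?_⟩, fun a b hb hinv => ?_⟩
  · have := hhμ (WithConv.toConv φ)
    simp only [act', WithConv.ofConv_toConv] at this
    rw [this, Algebra.smul_def, mul_right_comm, ← map_mul]
    simp
  obtain ⟨a₀, b₀, c, hrel, hca, hcb⟩ := UniqueFactorizationMonoid.exists_reduced_factors' a b hb
  have hc : c ≠ 0 := left_ne_zero_of_mul (hcb.symm ▸ hb)
  have hb₀ : b₀ ≠ 0 := right_ne_zero_of_mul (hcb.symm ▸ hb)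
  have hinv₀ : ∀ g, act' g a₀ * b₀ = a₀ * act' g b₀ := by
    intro g
    have h1 := hinv g.ofConv
    change act' g a * b = a * act' g b at h1
    rw [← hca, ← hcb, hmulB, hmulB] at h1
    refine mul_left_cancel₀ (mul_ne_zero (hne0 g c hc) hc) ?_
    linear_combination h1
  have hv : ∀ g, ∃ v, act' g b₀ = b₀ * v := fun g =>
    hrel.symm.dvd_of_dvd_mul_left ⟨act' g a₀, by rw [mul_comm b₀ (act' g a₀)]; exact (hinv₀ g).symm⟩
  choose v hv using hv
  have hvc : ∀ g, ∃ x : kˣ, act' g b₀ = (x : k) • b₀ := by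
    intro g
    have h1 : b₀ * (v g * act' g (v g⁻¹)) = b₀ * 1 := by
      rw [mul_one, ← mul_assoc, ← hv, ← hmulB, ← hv, ← hact_mul, mul_inv_cancel, hact_one]
    obtain ⟨x, hx⟩ := hunits (IsUnit.of_mul_eq_one _ (mul_left_cancel₀ hb₀ h1)).unit
    have hx0 : x ≠ 0 := fun h0 => by
      rw [h0, map_zero] at hx
      exact Units.ne_zero _ hx.symm
    exact ⟨Units.mk0 x hx0, by rw [Units.val_mk0, Algebra.smul_def, hx, IsUnit.unit_spec, mul_comm, hv]⟩
  choose x hx using hvc
  let χ : WithConv (A →ₐ[k] k) →* kˣ :=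
    { toFun := x
      map_one' := Units.ext (smul_left_injective k hb₀ (by simp [← hx, hact_one]))
      map_mul' := fun g g' => Units.ext (smul_left_injective k hb₀ (by
        show (x (g * g') : k) • b₀ = (x g * x g' : kˣ).val • b₀
        rw [← hx, hact_mul, hx g', Units.val_mul, mul_comm, mul_smul, ← hx g]
        exact map_smul _ _ _)) }
  have hχa : ∀ g, act' g a₀ = (χ g : k) • a₀ := fun g => by
    refine mul_right_cancel₀ hb₀ ?_
    rw [hinv₀ g, smul_mul_assoc, ← mul_smul_comm, hx g]; rfl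
  obtain ⟨e, he⟩ := hgen χ ⟨b₀, hb₀, hx⟩
  let N : ℕ := ∑ ψ ∈ s, (e ψ).natAbs
  let n : s → ℕ := fun ψ => ((N : ℤ) - e ψ.1).toNat
  let m : B := ∏ ψ, F ψ ^ n ψ
  have hm : m ≠ 0 := Finset.prod_ne_zero_iff.2 fun ψ _ => pow_ne_zero _ (hF ψ).1
  have hwt : ∀ g, (χ g * ∏ ψ : s, ψ.1 g ^ n ψ) = μ g ^ N := by
    intro g
    rw [he, MonoidHom.finsetProd_apply, ← Finset.prod_pow,
      ← Finset.prod_attach s (fun ψ => (ψ ^ e ψ) g), Finset.univ_eq_attach, ← Finset.prod_mul_distrib]
    refine Finset.prod_congr rfl fun ψ _ => ?_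
    have hle : e ψ.1 ≤ N := le_trans Int.le_natAbs
      (by exact_mod_cast Finset.single_le_sum (f := fun ψ => (e ψ).natAbs) (fun _ _ => Nat.zero_le _) ψ.2)
    rw [MonoidHom.zpow_apply, ← zpow_natCast (ψ.1 g) N, ← zpow_natCast (ψ.1 g) (n ψ), ← zpow_add]
    congr 1
    simp [n, hle]
  have hsemi : ∀ d : B, (∀ g, act' g d = (χ g : k) • d) →
      ∀ φ : A →ₐ[k] k, HopfRep.Comod.act k A B φ (d * m) * h ^ N = d * m * HopfRep.Comod.act k A B φ h ^ N := by
    intro d hd φ
    show act' (WithConv.toConv φ) (d * m) * _ = _ * act' (WithConv.toConv φ) h ^ N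
    rw [hmulB, hd, hprod, hhμ, smul_pow, smul_mul_smul_comm, ← Units.val_pow_eq_pow_val, ← hwt,
      Units.val_mul, smul_mul_assoc, mul_smul_comm]
  exact ⟨a₀ * m, b₀ * m, N, N, mul_ne_zero hb₀ hm, hsemi a₀ hχa, hsemi b₀ hx, by
    rw [← hca, ← hcb]; ring⟩

end Groth.Agent.S15705
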