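import Groth.Statements.S15708
import Mathlib

set_option autoImplicit false
universe u v
open CAlg

namespace Groth.Agent.S15708

theorem exists_hom_not_mem {R : Type u} {A : Type v} [CommRing R] [CommRing A] [Algebra R A]
    (𝒜 : ℕ → Submodule R A) [GradedRing 𝒜]
    {I p : Ideal A} (hI : I.IsHomogeneous 𝒜) (h : ¬ I ≤ p) :
    ∃ (n : ℕ) (x : A), x ∈ 𝒜 n ∧ x ∈ I ∧ x ∉ p := by
  classical
  obtain ⟨x, hxI, hxp⟩ := SetLike.not_le_iff_exists.mp h
  by_contra! hc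
  exact hxp (by
    rw [← DirectSum.sum_support_decompose 𝒜 x]
    exact sum_mem fun i _ => hc i _ (SetLike.coe_mem _) (hI i hxI))

theorem antichain {R : Type u} {A : Type v} [CommRing R] [CommRing A]
    [Algebra R A] (𝒜 : ℕ → Submodule R A) [GradedRing 𝒜]
    (J : Ideal A) (hJ : J.IsHomogeneous 𝒜) (P : Finset (Ideal A))
    (hP : ∀ p ∈ P, p.IsPrime ∧ p.IsHomogeneous 𝒜 ∧
      ¬ (HomogeneousIdeal.irrelevant 𝒜).toIdeal ≤ p ∧ ¬ J ≤ p)
    (hanti : ∀ p ∈ P, ∀ q ∈ P, q ≤ p → q = p) :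
    ∃ (z : A) (n : ℕ), 0 < n ∧ z ∈ 𝒜 n ∧ z ∈ J ∧ ∀ p ∈ P, z ∉ p := by
  classical
  have hstep : ∀ p ∈ P, ∃ (n : ℕ) (x : A), 0 < n ∧ x ∈ 𝒜 n ∧ x ∈ J ∧ x ∉ p ∧
      ∀ q ∈ P, q ≠ p → x ∈ q := by
    intro p hp
    obtain ⟨hpp, -, hirr, hJp⟩ := hP p hp
    obtain ⟨n1, x1, hx1, hx1I, hx1p⟩ := exists_hom_not_mem 𝒜 (HomogeneousIdeal.isHomogeneous _) hirr
    obtain ⟨n2, x2, hx2, hx2J, hx2p⟩ := exists_hom_not_mem 𝒜 hJ hJp
    have hn1 : 0 < n1 := by
      refine Nat.pos_of_ne_zero fun h0 => hx1p ?_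
      subst h0
      have h := (HomogeneousIdeal.mem_irrelevant_iff 𝒜 x1).mp hx1I
      rw [GradedRing.proj_apply, DirectSum.decompose_of_mem_same 𝒜 hx1] at h
      rw [h]; exact p.zero_mem
    have hq : ∀ q : {q // q ∈ P.erase p}, ∃ (n : ℕ) (x : A), x ∈ 𝒜 n ∧ x ∈ q.1 ∧ x ∉ p := fun q =>
      exists_hom_not_mem 𝒜 (hP q.1 (Finset.mem_of_mem_erase q.2)).2.1
        (fun hle => (Finset.ne_of_mem_erase q.2) (hanti p hp q.1 (Finset.mem_of_mem_erase q.2) hle))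
    choose nq xq hxq hxqq hxqp using hq
    refine ⟨n1 + n2 + ∑ q, nq q, x1 * x2 * ∏ q, xq q, by omega, ?_, ?_, ?_, ?_⟩
    · exact SetLike.GradedMul.mul_mem (SetLike.GradedMul.mul_mem hx1 hx2)
        (SetLike.prod_mem_graded 𝒜 nq xq (F := Finset.univ) fun q _ => hxq q)
    · exact J.mul_mem_right _ (J.mul_mem_left _ hx2J)
    · intro h
      rcases hpp.mem_or_mem h with h | h
      · rcases hpp.mem_or_mem h with h | h
        · exact hx1p h
        · exact hx2p h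
      · obtain ⟨q, -, hq⟩ := (Ideal.IsPrime.prod_mem_iff).mp h
        exact hxqp q hq
    · intro q hq hne
      exact q.mul_mem_left _ (q.mem_of_dvd
        (Finset.dvd_prod_of_mem _ (Finset.mem_univ ⟨q, Finset.mem_erase.mpr ⟨hne, hq⟩⟩))
        (hxqq ⟨q, Finset.mem_erase.mpr ⟨hne, hq⟩⟩))
  choose! n x hn hx hxJ hxp hxq using hstep
  set N := ∏ p ∈ P, n p
  have hN : 0 < N := Finset.prod_pos hn
  have hdiv : ∀ p ∈ P, n p ∣ N := fun p hp => Finset.dvd_prod_of_mem _ hp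
  have hk : ∀ p ∈ P, 0 < N / n p := fun p hp =>
    Nat.div_pos (Nat.le_of_dvd hN (hdiv p hp)) (hn p hp)
  refine ⟨∑ p ∈ P, x p ^ (N / n p), N, hN, sum_mem fun p hp => ?_, sum_mem fun p hp => ?_, ?_⟩
  · have h := SetLike.pow_mem_graded (N / n p) (hx p hp)
    rwa [smul_eq_mul, Nat.div_mul_cancel (hdiv p hp)] at h
  · exact J.pow_mem_of_mem (hxJ p hp) _ (hk p hp)
  · intro p hp h
    rw [← Finset.add_sum_erase P _ hp] at h
    have h2 : ∑ q ∈ P.erase p, x q ^ (N / n q) ∈ p := sum_mem fun q hq =>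
      p.pow_mem_of_mem (hxq q (Finset.mem_of_mem_erase hq) p hp (Finset.ne_of_mem_erase hq).symm) _
        (hk q (Finset.mem_of_mem_erase hq))
    exact hxp p hp ((hP p hp).1.mem_of_pow_mem _ ((Ideal.add_mem_iff_left p h2).mp h))

/-- Let A be a Noetherian commutative ring graded by the natural numbers, J a homogeneous ideal, and
p_1, ..., p_r finitely many prime ideals such that no p_i contains the irrelevant ideal A_+ and no
p_i contains J. Then there is a homogeneous element z of positive degree with z in J and z in no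
p_i. -/
theorem result {R : Type u} {A : Type v} [CommRing R] [CommRing A]
    [Algebra R A] [IsNoetherianRing A] (𝒜 : ℕ → Submodule R A) [GradedRing 𝒜]
    (J : Ideal A) (hJ : J.IsHomogeneous 𝒜) (P : Finset (Ideal A))
    (hP : ∀ p ∈ P, p.IsPrime ∧ ¬ (HomogeneousIdeal.irrelevant 𝒜).toIdeal ≤ p ∧ ¬ J ≤ p) :
    ∃ (z : A) (n : ℕ), 0 < n ∧ z ∈ 𝒜 n ∧ z ∈ J ∧ ∀ p ∈ P, z ∉ p := by
  classical
  let c : Ideal A → Ideal A := fun p => (p.homogeneousCore 𝒜).toIdeal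
  let Q := P.image c
  let Q' := Q.filter fun p => ∀ q ∈ Q, p ≤ q → q = p
  obtain ⟨z, n, hn, hz, hzJ, hzp⟩ := antichain 𝒜 J hJ Q' (fun q hq => by
      obtain ⟨p, hp, rfl⟩ := Finset.mem_image.mp (Finset.mem_of_mem_filter _ hq)
      obtain ⟨h1, h2, h3⟩ := hP p hp
      have hle : c p ≤ p := Ideal.toIdeal_homogeneousCore_le 𝒜 p
      exact ⟨h1.homogeneousCore, HomogeneousIdeal.isHomogeneous _, fun h => h2 (h.trans hle),
        fun h => h3 (h.trans hle)⟩)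
    (fun p hp q hq hqp => ((Finset.mem_filter.mp hq).2 p (Finset.mem_of_mem_filter _ hp) hqp).symm)
  refine ⟨z, n, hn, hz, hzJ, fun p hp hzmem => ?_⟩
  have hcz : z ∈ c p := Ideal.mem_homogeneousCore_of_homogeneous_of_mem ⟨n, hz⟩ hzmem
  obtain ⟨q, hle, hqmax⟩ := Q.exists_le_maximal (Finset.mem_image_of_mem c hp)
  exact hzp q (Finset.mem_filter.mpr ⟨hqmax.1, fun r hr h => le_antisymm (hqmax.2 hr h) h⟩) (hle hcz)

end Groth.Agent.S15708
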