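import Groth.Statements.S15712
import Groth.Agent.S1699
import Groth.Agent.Lib.Depth3.Zero
import Groth.Agent.Lib.FlatH4.GenPt

set_option autoImplicit false
universe u
open CategoryTheory AlgebraicGeometry TopologicalSpace
open RatSing

namespace Groth.Agent.S15712

/-- Let X be a locally Noetherian scheme with Serre's property (S_1), i.e. every local ring O_{X,x} has
depth at least min(1, dim O_{X,x}) (for instance X Cohen–Macaulay), and let U ⊆ X be open. Then
scheme-theoretic density of U in X is equivalent to U being dense as a subset. (The published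
statement assumes every scheme excellent, in particular locally Noetherian.) -/
theorem result (X : Scheme.{u}) [IsLocallyNoetherian X]
    (hS1 : ∀ x : X, min (1 : WithBot ℕ∞) (ringKrullDim (X.presheaf.stalk x)) ≤
      ((LocCoh.depth (X.presheaf.stalk x) (X.presheaf.stalk x) : ℕ∞) : WithBot ℕ∞))
    (U : X.Opens) : CInt.IsSchematicallyDense U ↔ Dense (U : Set X) := by
  constructor
  · intro hd
    rw [dense_iff_inter_open]
    intro V hV hVne
    by_contra hne
    let V' : X.Opens := ⟨V, hV⟩
    have hbot : V' ⊓ U = ⊥ := TopologicalSpace.Opens.ext (Set.not_nonempty_iff_eq_empty.1 hne)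
    haveI : Subsingleton Γ(X, V' ⊓ U) :=
      CommRingCat.subsingleton_of_isTerminal (hbot ▸ X.sheaf.isTerminalOfEmpty)
    haveI : Subsingleton Γ(X, V') := (hd V').subsingleton
    obtain ⟨v, hv⟩ := hVne
    haveI := (X.presheaf.germ V' v hv).hom.domain_nontrivial
    exact not_nontrivial Γ(X, V') inferInstance
  · intro hd
    rw [S1699.result]
    intro x hass
    refine (show FlatH4.IsMaxPt x from ?_).mem_of_dense U.isOpen hd
    have h0 : LocCoh.depth (X.presheaf.stalk x) (X.presheaf.stalk x) = 0 := Depth3.depth_eq_zero_iff.2 hass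
    have h1 := hS1 x
    rw [h0] at h1
    have hdim : ringKrullDim (X.presheaf.stalk x) = 0 := by
      refine le_antisymm ?_ ringKrullDim_nonneg_of_nontrivial
      rcases min_le_iff.1 h1 with h | h
      · exact absurd h (by decide)
      · exact h
    haveI : Ring.KrullDimLE 0 (X.presheaf.stalk x) := Ring.krullDimLE_iff.2 hdim.le
    intro y hy
    obtain ⟨p, hp⟩ : y ∈ Set.range (X.fromSpecStalk x) := by rw [Scheme.range_fromSpecStalk]; exact hy
    have hpc : p = IsLocalRing.closedPoint _ :=
      PrimeSpectrum.ext (IsLocalRing.eq_maximalIdeal (p.2.isMaximal'))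
    rw [← hp, hpc, Scheme.fromSpecStalk_closedPoint]

end Groth.Agent.S15712
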