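import Groth.Statements.S15715
import Groth.Agent.Lib.SchDense12.Basic
-- import your own Groth.Agent.* helpers here

set_option autoImplicit false
set_option backward.isDefEq.respectTransparency false
universe u
open CategoryTheory AlgebraicGeometry TopologicalSpace
open RatSing

namespace Groth.Agent.S15715

/-- Let X be a locally Noetherian scheme, φ : F → G a homomorphism of O_X-modules with F quasi-coherent
and torsion-free (over every affine open V, no nonzero section of F is killed by a regular element
of O_X(V)), and U a scheme-theoretically dense open subset of X such that the restriction of φ to U
is injective. Then φ is injective. (The published statement allows an arbitrary O_X-module F; for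
the skyscraper sheaf on the affine line over a field, placed at a closed point with value the local
ring at that point, which is torsion-free in this sense, the zero map to the zero module is
injective over the dense open complement of the point but not injective. This row takes F
quasi-coherent.) -/
theorem result (X : Scheme.{u})
    [IsLocallyNoetherian X] (F G : X.Modules) (hF : Coh.IsQCoh F)
    (htf : ∀ V : X.affineOpens, Submodule.torsion Γ(X, V.1) (F.val.obj (Opposite.op V.1)) = ⊥)
    (φ : F ⟶ G) (U : X.Opens) (hU : CInt.IsSchematicallyDense U)
    (hφU : ∀ V : X.Opens, V ≤ U → Function.Injective ⇑(ConcreteCategory.hom (φ.val.app (Opposite.op V)))) (V : X.Opens) :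
    Function.Injective ⇑(ConcreteCategory.hom (φ.val.app (Opposite.op V))) := Groth.Agent.SchDense12.app_injective hF htf φ hU hφU V

end Groth.Agent.S15715
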