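import Groth.Statements.S15717
import Mathlib
import Groth.Agent.Lib.Depth.CM

set_option autoImplicit false
universe u
open CAlg

namespace Groth.Agent.S15717
open CAlg RingTheory.Sequence

/-- Let R be a Cohen–Macaulay local ring and I an ideal of R with R/I equidimensional (all minimal
primes p over I have the same dim R/p). Then there is a regular sequence r_1, ..., r_n in I such
that the closed subscheme V(r_1, ..., r_n) of Spec R, a local complete intersection, contains V(I),
has the same dimension as V(I), and has the irreducible components of V(I) among its irreducible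
components: dim R/(r_1, ..., r_n) = dim R/I and every minimal prime over I is a minimal prime over
(r_1, ..., r_n). The sequence is asked to be weakly regular (each r_i a non-zero-divisor modulo the
previous ones), which for I proper is the same as regular and which also covers I = R with the
sequence (1). -/
theorem result (R : Type u) [CommRing R]
    [LocCoh.IsCohenMacaulayLocalRing R] (I : Ideal R)
    (hI : ∀ p ∈ I.minimalPrimes, ringKrullDim (R ⧸ p) = ringKrullDim (R ⧸ I)) :
    ∃ rs : List R, RingTheory.Sequence.IsWeaklyRegular R rs ∧ Ideal.ofList rs ≤ I ∧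
      ringKrullDim (R ⧸ Ideal.ofList rs) = ringKrullDim (R ⧸ I) ∧
      I.minimalPrimes ⊆ (Ideal.ofList rs).minimalPrimes := by
  by_cases htop : I = ⊤
  · subst htop
    have hl : Ideal.ofList [(1 : R)] = ⊤ := by simp
    refine ⟨[1], (isWeaklyRegular_singleton_iff R 1).2 (IsSMulRegular.one R), le_top, by rw [hl], ?_⟩
    rw [hl]
  have hCM : LocCoh.IsCohenMacaulayModule R R := LocCoh.IsCohenMacaulayLocalRing.supportDim_eq_depth
  have hne : I • (⊤ : Submodule R R) ≠ ⊤ := Groth.Agent.DepthLib.smul_top_ne_top htop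
  obtain ⟨n, hn⟩ := Groth.Agent.DepthLib.exists_depth_eq_natCast (R := R) (M := R)
  obtain ⟨g, hg⟩ := ENat.ne_top_iff_exists.1
    (ne_top_of_le_ne_top (ENat.natCast_ne_top n) (hn ▸ Groth.Agent.DepthLib.idealDepth_le_depth (M := R) htop))
  obtain ⟨rs, hrs, hrsI, hlen⟩ := Groth.Agent.DepthLib.exists_isWeaklyRegular_of_le_idealDepth hne (n := g) hg.le
  set J := Ideal.ofList rs
  have hJI : J ≤ I := Ideal.span_le.2 hrsI
  have hJtop : J ≠ ⊤ := ne_top_of_le_ne_top htop hJI
  have hdepth : LocCoh.idealDepth J R = LocCoh.idealDepth I R := by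
    refine le_antisymm (Groth.Agent.DepthLib.idealDepth_mono hJI) ?_
    rw [← hg, ← hlen]
    exact Groth.Agent.DepthLib.length_le_idealDepth hrs fun r hr => Ideal.subset_span hr
  have key : ∀ (K : Ideal R), K ≠ ⊤ → Module.supportDim R R =
      ringKrullDim (R ⧸ K) + ((LocCoh.idealDepth K R : ℕ∞) : WithBot ℕ∞) := fun K hK => by
    have := Groth.Agent.DepthLib.supportDim_eq_quotient_add_idealDepth hCM hK
    rwa [Ideal.smul_eq_mul, Ideal.mul_top, Module.supportDim_quotient_eq_ringKrullDim] at this
  have hdim : ringKrullDim (R ⧸ J) = ringKrullDim (R ⧸ I) := by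
    have h := (key J hJtop).symm.trans (key I htop)
    rw [hdepth, ← hg] at h
    exact le_antisymm (Groth.Agent.DepthLib.withBot_add_coe_cancel g h.le)
      (Groth.Agent.DepthLib.withBot_add_coe_cancel g h.ge)
  refine ⟨rs, hrs, hJI, hdim, fun p hp => ?_⟩
  haveI : p.IsPrime := hp.1.1
  obtain ⟨q, hq, hqp⟩ := Ideal.exists_minimalPrimes_le (hJI.trans hp.1.2)
  haveI : q.IsPrime := hq.1.1
  suffices h : q = p by rwa [← h]
  by_contra hne'
  obtain ⟨r, hr, hrq⟩ := SetLike.exists_of_lt (lt_of_le_of_ne hqp hne')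
  have h1 : ringKrullDim (R ⧸ p) + 1 ≤ ringKrullDim (R ⧸ q) :=
    ringKrullDim_succ_le_of_surjective (Ideal.Quotient.factor hqp) (Ideal.Quotient.factor_surjective hqp)
      (r := Ideal.Quotient.mk q r) (mem_nonZeroDivisors_of_ne_zero fun h => hrq (Ideal.Quotient.eq_zero_iff_mem.1 h))
      (Ideal.Quotient.eq_zero_iff_mem.2 hr)
  have h2 : ringKrullDim (R ⧸ q) ≤ ringKrullDim (R ⧸ J) :=
    ringKrullDim_le_of_surjective _ (Ideal.Quotient.factor_surjective hq.1.2)
  rw [hdim, ← hI p hp] at h2
  obtain ⟨d, hd⟩ := Groth.Agent.DepthLib.exists_ringKrullDim_quotient_eq_natCast p Ideal.IsPrime.ne_top'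
  have h3 := h1.trans h2
  rw [hd] at h3
  have h4 : d + 1 ≤ d := by exact_mod_cast h3
  omega

end Groth.Agent.S15717
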