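import Groth.Statements.S15723
import Mathlib

set_option autoImplicit false
universe u v
open CAlg

namespace Groth.Agent.S15723

open W4c2ratsingkovacs AlgebraicGeometry

variable {R : Type u} {A : Type v} [CommRing R] [CommRing A] [Algebra R A]
  (𝒜 : ℕ → Submodule R A) [GradedRing 𝒜]

/-- The homogeneous prime below a prime of the chart. -/
noncomputable def pr {f : A} {m : ℕ} (hf : f ∈ 𝒜 m) (hm : 0 < m)
    (q : PrimeSpectrum (HomogeneousLocalization.Away 𝒜 f)) : Ideal A :=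
  ProjIsoSpecTopComponent.FromSpec.carrier.asIdeal hf hm q

theorem pr_isPrime {f : A} {m : ℕ} (hf : f ∈ 𝒜 m) (hm : 0 < m) (q) : (pr 𝒜 hf hm q).IsPrime :=
  ProjIsoSpecTopComponent.FromSpec.carrier.asIdeal.prime hf hm q

theorem notMem_pr {f : A} {m : ℕ} (hf : f ∈ 𝒜 m) (hm : 0 < m) (q) : f ∉ pr 𝒜 hf hm q :=
  ProjIsoSpecTopComponent.FromSpec.carrier.denom_notMem hf hm q

theorem locIdeal_le_iff {f : A} {m : ℕ} (hf : f ∈ 𝒜 m) (hm : 0 < m)
    (q : PrimeSpectrum (HomogeneousLocalization.Away 𝒜 f)) {K : Ideal A} (hK : K.IsHomogeneous 𝒜) :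
    locIdeal 𝒜 K f ≤ q.asIdeal ↔ K ≤ pr 𝒜 hf hm q := by
  classical
  haveI := pr_isPrime 𝒜 hf hm q
  constructor
  · intro h a ha i
    refine h ?_
    show algebraMap (HomogeneousLocalization.Away 𝒜 f) (Localization.Away f) _ ∈ K.map (algebraMap A (Localization.Away f))
    rw [HomogeneousLocalization.algebraMap_apply, HomogeneousLocalization.val_mk, Localization.mk_eq_mk',
      IsLocalization.mk'_eq_mul_mk'_one]
    refine Ideal.mul_mem_right _ _ (Ideal.mem_map_of_mem _ (K.pow_mem_of_mem ?_ m hm))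
    exact hK i ha
  · intro h x hx
    obtain ⟨z, rfl⟩ := HomogeneousLocalization.mk_surjective x
    rw [← ProjIsoSpecTopComponent.FromSpec.num_mem_carrier_iff hf hm q z]
    show z.num.1 ∈ pr 𝒜 hf hm q
    have hx' : (z.num.1 : A) ∈ ((pr 𝒜 hf hm q).map (algebraMap A (Localization.Away f))).comap (algebraMap A (Localization.Away f)) := by
      rw [Ideal.mem_comap]
      have := Ideal.map_mono (f := algebraMap A (Localization.Away f)) h
        (show algebraMap (HomogeneousLocalization.Away 𝒜 f) (Localization.Away f) (HomogeneousLocalization.mk z) ∈ _ from hx)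
      rw [HomogeneousLocalization.algebraMap_apply, HomogeneousLocalization.val_mk, Localization.mk_eq_mk'] at this
      rw [← IsLocalization.mk'_spec (Localization.Away f) z.num.1 ⟨z.den.1, z.den_mem⟩]
      exact Ideal.mul_mem_right _ _ this
    exact (IsLocalization.under_map_of_isPrime_disjoint (Submonoid.powers f) (Localization.Away f) inferInstance
      ((Ideal.disjoint_powers_iff_notMem_of_isPrime _).2 (notMem_pr 𝒜 hf hm q))).le hx'

theorem exists_mem_notMem {I P : Ideal A} (hI : I.IsHomogeneous 𝒜) (h : ¬ I ≤ P) :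
    ∃ e, ∃ y ∈ 𝒜 e, y ∈ I ∧ y ∉ P := by
  classical
  obtain ⟨y, hy, hyP⟩ := SetLike.not_le_iff_exists.1 h
  by_contra hc
  push Not at hc
  refine hyP ?_
  rw [← DirectSum.sum_support_decompose 𝒜 y]
  exact Ideal.sum_mem _ fun e _ => hc e _ (DirectSum.decompose 𝒜 y e).2 (hI e hy)

/-- Homogeneous prime avoidance. -/
theorem exists_avoid {I : Ideal A} (hI : I.IsHomogeneous 𝒜) :
    ∀ s : Finset (Ideal A), (∀ P ∈ s, P.IsPrime ∧ P.IsHomogeneous 𝒜 ∧ ¬ I ≤ P ∧ ¬ (HomogeneousIdeal.irrelevant 𝒜).toIdeal ≤ P) →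
      ∃ d, 0 < d ∧ ∃ x ∈ 𝒜 d, x ∈ I ∧ ∀ P ∈ s, x ∉ P := by
  classical
  intro s
  induction s using Finset.strongInduction with
  | _ s ih =>
  intro hs
  rcases s.eq_empty_or_nonempty with rfl | hne
  · exact ⟨1, Nat.one_pos, 0, zero_mem _, zero_mem _, by simp⟩
  obtain ⟨P, hP, hmin⟩ := s.finite_toSet.exists_minimal hne
  obtain ⟨hPp, -, hIP, hirr⟩ := hs P hP
  obtain ⟨ez, hez, z, hz, hzP⟩ : ∃ ez, 0 < ez ∧ ∃ z ∈ 𝒜 ez, z ∉ P := by
    obtain ⟨ez, z, hz, hzI, hzP⟩ := exists_mem_notMem 𝒜 (HomogeneousIdeal.irrelevant 𝒜).isHomogeneous hirr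
    refine ⟨ez, Nat.pos_of_ne_zero fun h0 => hzP ?_, z, hz, hzP⟩
    subst h0
    have := (HomogeneousIdeal.mem_irrelevant_iff 𝒜 z).1 hzI
    rw [GradedRing.proj_apply, DirectSum.decompose_of_mem_same 𝒜 hz] at this
    rw [this]; exact zero_mem _
  obtain ⟨d, hd, x, hx, hxI, hxt⟩ := ih _ (Finset.erase_ssubset hP) fun Q hQ => hs Q (Finset.mem_of_mem_erase hQ)
  by_cases hxP : x ∈ P
  swap
  · exact ⟨d, hd, x, hx, hxI, fun Q hQ => if h : Q = P then h ▸ hxP else hxt Q (Finset.mem_erase.2 ⟨h, hQ⟩)⟩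
  have key : ∀ t : Finset (Ideal A), t ⊆ s.erase P → ∃ e, ∃ y ∈ 𝒜 e, y ∈ I ∧ y ∉ P ∧ ∀ Q ∈ t, y ∈ Q := by
    intro t
    induction t using Finset.induction with
    | empty =>
      intro _
      obtain ⟨e, y, hy, hyI, hyP⟩ := exists_mem_notMem 𝒜 hI hIP
      exact ⟨e, y, hy, hyI, hyP, by simp⟩
    | insert Q t hQt iht =>
      intro hsub
      obtain ⟨e, y, hy, hyI, hyP, hyt⟩ := iht ((Finset.subset_insert Q t).trans hsub)
      have hQ := Finset.mem_erase.1 (hsub (Finset.mem_insert_self Q t))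
      have hQP : ¬ Q ≤ P := fun hle => hQ.1 (le_antisymm hle (hmin (Finset.mem_coe.2 hQ.2) hle))
      obtain ⟨e', w, hw, hwQ, hwP⟩ := exists_mem_notMem 𝒜 (hs Q hQ.2).2.1 hQP
      refine ⟨e + e', y * w, SetLike.mul_mem_graded hy hw, I.mul_mem_right _ hyI,
        fun h => (hPp.mem_or_mem h).elim hyP hwP, fun Q' hQ' => ?_⟩
      rcases Finset.mem_insert.1 hQ' with rfl | hQ'
      · exact Ideal.mul_mem_left _ _ hwQ
      · exact Ideal.mul_mem_right _ _ (hyt Q' hQ')
  obtain ⟨e, y, hy, hyI, hyP, hyt⟩ := key _ subset_rfl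
  have hy' : y * z ∈ 𝒜 (e + ez) := SetLike.mul_mem_graded hy hz
  have hpos : 0 < e + ez := by omega
  have hyP' : y * z ∉ P := fun h => (hPp.mem_or_mem h).elim hyP hzP
  refine ⟨(e + ez) * d, Nat.mul_pos hpos hd, x ^ (e + ez) + (y * z) ^ d, add_mem ?_ ?_,
    add_mem (I.pow_mem_of_mem hxI _ hpos) (I.pow_mem_of_mem (I.mul_mem_right _ hyI) _ hd), fun Q hQ h => ?_⟩
  · have := SetLike.pow_mem_graded (e + ez) hx
    rwa [smul_eq_mul] at this
  · have := SetLike.pow_mem_graded d hy'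
    rwa [smul_eq_mul, mul_comm] at this
  by_cases hQP : Q = P
  · subst hQP
    exact hyP' (hPp.mem_of_pow_mem d ((Q.add_mem_iff_right (Q.pow_mem_of_mem hxP _ hpos)).1 h))
  · have hQ' : Q ∈ s.erase P := Finset.mem_erase.2 ⟨hQP, hQ⟩
    exact hxt Q hQ' ((hs Q hQ).1.mem_of_pow_mem _
      ((Q.add_mem_iff_left (Q.pow_mem_of_mem (Q.mul_mem_right _ (hyt Q hQ')) _ hd)).1 h))

theorem isHomogeneous_ofList {l : List A} (hl : ∀ z ∈ l, ∃ n : ℕ, z ∈ 𝒜 n) : (Ideal.ofList l).IsHomogeneous 𝒜 :=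
  Ideal.homogeneous_span 𝒜 _ fun z hz => hl z hz

theorem isHomogeneous_minimalPrime {K : Ideal A} (hK : K.IsHomogeneous 𝒜) {Q : Ideal A} (hQ : Q ∈ K.minimalPrimes) :
    Q.IsHomogeneous 𝒜 := by
  have hle : K ≤ (Q.homogeneousCore 𝒜).toIdeal := by
    rw [← hK.toIdeal_homogeneousCore_eq_self]
    exact Ideal.homogeneousCore_mono 𝒜 hQ.1.2
  have heq : (Q.homogeneousCore 𝒜).toIdeal = Q :=
    le_antisymm (Ideal.toIdeal_homogeneousCore_le 𝒜 Q)
      (hQ.2 ⟨hQ.1.1.homogeneousCore, hle⟩ (Ideal.toIdeal_homogeneousCore_le 𝒜 Q))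
  rw [← heq]
  exact (Q.homogeneousCore 𝒜).isHomogeneous

variable [IsNoetherianRing A]

theorem finiteType_zero : Algebra.FiniteType (𝒜 0) A := by
  classical
  obtain ⟨s, hs⟩ := IsNoetherian.noetherian (R := A) ((HomogeneousIdeal.irrelevant 𝒜).toIdeal : Ideal A)
  let E : Finset A := s.biUnion fun f => ((DirectSum.decompose 𝒜 f).support.filter (0 < ·)).image
    fun i => (DirectSum.decompose 𝒜 f i : A)
  have hE : ∀ e ∈ (E : Set A), ∃ i, 0 < i ∧ e ∈ 𝒜 i := by
    intro e he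
    obtain ⟨f, -, he⟩ := Finset.mem_biUnion.1 he
    obtain ⟨i, hi, rfl⟩ := Finset.mem_image.1 he
    exact ⟨i, (Finset.mem_filter.1 hi).2, (DirectSum.decompose 𝒜 f i).2⟩
  have hspan : (HomogeneousIdeal.irrelevant 𝒜).toIdeal ≤ Ideal.span (E : Set A) := by
    rw [← hs]
    refine Submodule.span_le.2 fun f hf => ?_
    have hf0 : (DirectSum.decompose 𝒜 f 0 : A) = 0 :=
      (HomogeneousIdeal.mem_irrelevant_iff 𝒜 f).1 (show f ∈ (HomogeneousIdeal.irrelevant 𝒜).toIdeal from hs.le (Submodule.subset_span hf))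
    rw [← DirectSum.sum_support_decompose 𝒜 f]
    refine sum_mem fun i hi => ?_
    rcases Nat.eq_zero_or_pos i with rfl | hpos
    · rw [hf0]; exact zero_mem _
    · exact Ideal.subset_span (Finset.mem_biUnion.2 ⟨f, hf,
        Finset.mem_image.2 ⟨i, Finset.mem_filter.2 ⟨hi, hpos⟩, rfl⟩⟩)
  have key : ∀ n : ℕ, ∀ x ∈ 𝒜 n, x ∈ Algebra.adjoin (𝒜 0) (E : Set A) := by
    intro n
    induction n using Nat.strong_induction_on with
    | _ n ih =>
      intro x hx
      rcases Nat.eq_zero_or_pos n with rfl | hn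
      · exact Subalgebra.algebraMap_mem (Algebra.adjoin (𝒜 0) (E : Set A)) (⟨x, hx⟩ : 𝒜 0)
      · have hxs : x ∈ Ideal.span (E : Set A) := hspan (HomogeneousIdeal.mem_irrelevant_of_mem 𝒜 hn hx)
        have main : ∀ y ∈ Ideal.span (E : Set A), ∀ z : A,
            (DirectSum.decompose 𝒜 (z * y) n : A) ∈ Algebra.adjoin (𝒜 0) (E : Set A) := by
          intro y hy
          induction hy using Submodule.span_induction with
          | mem e he =>
            intro z
            obtain ⟨i, hi, hei⟩ := hE e he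
            rw [DirectSum.coe_decompose_mul_of_right_mem 𝒜 n hei]
            split
            · exact mul_mem (ih (n - i) (by omega) _ (DirectSum.decompose 𝒜 z (n - i)).2) (Algebra.subset_adjoin he)
            · exact zero_mem _
          | zero => intro z; simp
          | add a b _ _ ha hb => intro z; simpa [mul_add] using add_mem (ha z) (hb z)
          | smul c a _ ha => intro z; simpa [smul_eq_mul, mul_assoc] using ha (z * c)
        have := main x hxs 1
        rwa [one_mul, DirectSum.decompose_of_mem_same 𝒜 hx] at this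
  refine ⟨E, eq_top_iff.2 fun x _ => ?_⟩
  rw [← DirectSum.sum_support_decompose 𝒜 x]
  exact sum_mem fun n _ => key n _ (DirectSum.decompose 𝒜 x n).2

theorem geomHeight_le {f : A} {m : ℕ} (hf : f ∈ 𝒜 m) (hm : 0 < m) (l : List A)
    (hl : ∀ z ∈ l, ∃ n : ℕ, z ∈ 𝒜 n) {J : Ideal A} (hlJ : Ideal.ofList l ≤ J) (hJt : locIdeal 𝒜 J f ≠ ⊤) :
    geomHeight 𝒜 (Ideal.ofList l) f ≤ l.length := by
  classical
  haveI := finiteType_zero 𝒜
  haveI : Algebra.FiniteType (𝒜 0) (HomogeneousLocalization.Away 𝒜 f) :=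
    HomogeneousLocalization.Away.finiteType f m hf
  haveI : IsNoetherianRing (HomogeneousLocalization.Away 𝒜 f) := Algebra.FiniteType.isNoetherianRing (𝒜 0) _
  choose d hd using hl
  let w : Fin l.length → HomogeneousLocalization.Away 𝒜 f := fun i =>
    HomogeneousLocalization.Away.mk 𝒜 hf (d (l.get i) (l.get_mem i)) (l.get i ^ m) (by
      have := SetLike.pow_mem_graded m (hd (l.get i) (l.get_mem i))
      rwa [smul_eq_mul, mul_comm, ← smul_eq_mul] at this)
  let W := Ideal.span (Set.range w)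
  have hWK : W ≤ locIdeal 𝒜 (Ideal.ofList l) f := by
    refine Ideal.span_le.2 ?_
    rintro _ ⟨i, rfl⟩
    show algebraMap (HomogeneousLocalization.Away 𝒜 f) (Localization.Away f) (w i) ∈ (Ideal.ofList l).map (algebraMap A (Localization.Away f))
    rw [HomogeneousLocalization.algebraMap_apply, HomogeneousLocalization.Away.val_mk, Localization.mk_eq_mk',
      IsLocalization.mk'_eq_mul_mk'_one]
    exact Ideal.mul_mem_right _ _ (Ideal.mem_map_of_mem _ (Ideal.pow_mem_of_mem _ (show l.get i ∈ Ideal.ofList l from Ideal.subset_span (show l.get i ∈ {x | x ∈ l} from l.get_mem i)) m hm))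
  have hrad : ∀ q : Ideal (HomogeneousLocalization.Away 𝒜 f), q.IsPrime → W ≤ q → locIdeal 𝒜 (Ideal.ofList l) f ≤ q := by
    intro q hq hWq
    rw [locIdeal_le_iff 𝒜 hf hm ⟨q, hq⟩ (isHomogeneous_ofList 𝒜 fun z hz => ⟨_, hd z hz⟩)]
    refine Ideal.span_le.2 fun z hz => ?_
    obtain ⟨i, rfl⟩ := List.mem_iff_get.1 hz
    refine (pr_isPrime 𝒜 hf hm ⟨q, hq⟩).mem_of_pow_mem m ?_
    exact (ProjIsoSpecTopComponent.FromSpec.num_mem_carrier_iff hf hm ⟨q, hq⟩
      ⟨d (l.get i) (l.get_mem i) • m, ⟨l.get i ^ m, by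
        have := SetLike.pow_mem_graded m (hd (l.get i) (l.get_mem i))
        rwa [smul_eq_mul, mul_comm, ← smul_eq_mul] at this⟩,
        ⟨f ^ d (l.get i) (l.get_mem i), SetLike.pow_mem_graded _ hf⟩, ⟨_, rfl⟩⟩).2 (hWq (Ideal.subset_span ⟨i, rfl⟩))
  have hWt : W ≠ ⊤ := fun h => hJt (top_le_iff.1 (h ▸ hWK.trans (Ideal.comap_mono (Ideal.map_mono hlJ))))
  obtain ⟨q, hq⟩ := Ideal.nonempty_minimalPrimes hWt
  calc geomHeight 𝒜 (Ideal.ofList l) f ≤ q.height := Ideal.height_mono (hrad q hq.1.1 hq.1.2)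
    _ ≤ (Set.range w).ncard := Ideal.height_le_card_of_mem_minimalPrimes_span (Set.finite_range w) hq
    _ ≤ l.length := by
      rw [← Set.image_univ]
      exact_mod_cast (Set.ncard_image_le Set.finite_univ).trans (by simp [Set.ncard_univ])

theorem le_geomHeight {f : A} {m : ℕ} (hf : f ∈ 𝒜 m) (hm : 0 < m) {J K K' : Ideal A} {z : A}
    (hJ : J.IsHomogeneous 𝒜) (hK : K.IsHomogeneous 𝒜) (hK' : K'.IsHomogeneous 𝒜)
    (hle : K' ≤ K) (hzK : z ∈ K) {i h : ℕ} (hih : i + 1 ≤ h) (hJh : (h : ℕ∞) ≤ geomHeight 𝒜 J f)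
    (hK'h : (i : ℕ∞) ≤ geomHeight 𝒜 K' f)
    (hz : ∀ Q ∈ K'.minimalPrimes, ¬ J ≤ Q → ¬ (HomogeneousIdeal.irrelevant 𝒜).toIdeal ≤ Q → z ∉ Q) :
    ((i + 1 : ℕ) : ℕ∞) ≤ geomHeight 𝒜 K f := by
  classical
  show _ ≤ (locIdeal 𝒜 K f).height
  rw [Ideal.height_eq_inf_minimalPrimes]
  refine le_iInf₂ fun q hq => ?_
  haveI := hq.1.1
  by_cases hJq : locIdeal 𝒜 J f ≤ q
  · exact le_trans (le_trans (by exact_mod_cast hih) hJh) (Ideal.height_mono hJq)
  have hKq := hq.1.2
  have hK'q : locIdeal 𝒜 K' f ≤ q := le_trans (Ideal.comap_mono (Ideal.map_mono hle)) hKq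
  obtain ⟨q₀, hq₀, hq₀q⟩ := Ideal.exists_minimalPrimes_le hK'q
  haveI := hq₀.1.1
  have hi : (i : ℕ∞) ≤ q₀.height := le_trans hK'h (Ideal.height_mono hq₀.1.2)
  have hlt : q₀ < q := by
    refine lt_of_le_of_ne hq₀q fun heq => ?_
    subst heq
    haveI := pr_isPrime 𝒜 hf hm ⟨q₀, inferInstance⟩
    obtain ⟨Q₀, hQ₀, hQ₀P⟩ := Ideal.exists_minimalPrimes_le ((locIdeal_le_iff 𝒜 hf hm ⟨q₀, inferInstance⟩ hK').1 hK'q)
    haveI := hQ₀.1.1
    have hfQ : f ∉ Q₀ := fun h => notMem_pr 𝒜 hf hm ⟨q₀, inferInstance⟩ (hQ₀P h)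
    have hzQ : z ∉ Q₀ := hz Q₀ hQ₀
      (fun h => hJq ((locIdeal_le_iff 𝒜 hf hm ⟨q₀, inferInstance⟩ hJ).2 (h.trans hQ₀P)))
      (fun h => hfQ (h (HomogeneousIdeal.mem_irrelevant_of_mem 𝒜 hm hf)))
    have hdisj := (Ideal.disjoint_powers_iff_notMem_of_isPrime (I := Q₀) f).2 hfQ
    haveI : (Q₀.map (algebraMap A (Localization.Away f))).IsPrime :=
      IsLocalization.isPrime_of_isPrime_disjoint (Submonoid.powers f) _ Q₀ inferInstance hdisj
    haveI : (locIdeal 𝒜 Q₀ f).IsPrime := Ideal.IsPrime.comap _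
    have hQle : locIdeal 𝒜 Q₀ f ≤ q₀ :=
      (locIdeal_le_iff 𝒜 hf hm ⟨q₀, inferInstance⟩ (isHomogeneous_minimalPrime 𝒜 hK' hQ₀)).2 hQ₀P
    have heq : q₀ = locIdeal 𝒜 Q₀ f :=
      le_antisymm (hq₀.2 ⟨inferInstance, Ideal.comap_mono (Ideal.map_mono hQ₀.1.2)⟩ hQle) hQle
    -- `z` lies in `Q₀` after all
    have hzP : z ∈ pr 𝒜 hf hm ⟨q₀, inferInstance⟩ := (locIdeal_le_iff 𝒜 hf hm ⟨q₀, inferInstance⟩ hK).1 hKq hzK
    refine hzQ ?_
    have hall : ∀ e, (DirectSum.decompose 𝒜 z e : A) ∈ Q₀ := fun e => by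
      have h1 := hzP e
      rw [show (⟨q₀, _⟩ : PrimeSpectrum (HomogeneousLocalization.Away 𝒜 f)).asIdeal = locIdeal 𝒜 Q₀ f from heq] at h1
      replace h1 : algebraMap (HomogeneousLocalization.Away 𝒜 f) (Localization.Away f) _ ∈ Q₀.map (algebraMap A (Localization.Away f)) := h1
      rw [HomogeneousLocalization.algebraMap_apply, HomogeneousLocalization.val_mk, Localization.mk_eq_mk'] at h1
      have h2 : algebraMap A (Localization.Away f) ((DirectSum.decompose 𝒜 z e : A) ^ m) ∈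
          Q₀.map (algebraMap A (Localization.Away f)) := by
        rw [← IsLocalization.mk'_spec (Localization.Away f) ((DirectSum.decompose 𝒜 z e : A) ^ m) (⟨f ^ e, e, rfl⟩ : Submonoid.powers f)]
        exact Ideal.mul_mem_right _ _ h1
      replace h2 : (DirectSum.decompose 𝒜 z e : A) ^ m ∈ Q₀ :=
        (IsLocalization.under_map_of_isPrime_disjoint (Submonoid.powers f) (Localization.Away f) inferInstance hdisj).le h2
      exact hQ₀.1.1.mem_of_pow_mem m h2
    rw [← DirectSum.sum_support_decompose 𝒜 z]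
    exact sum_mem fun e _ => hall e
  calc ((i + 1 : ℕ) : ℕ∞) = (i : ℕ∞) + 1 := by push_cast; rfl
    _ ≤ q₀.height + 1 := add_le_add_left hi 1
    _ ≤ q.height := Ideal.height_add_one_le_of_lt_of_isPrime hlt

/-- Let A be a Noetherian commutative ring graded by the natural numbers, J a homogeneous ideal of
uniform geometric height h (the height of the homogeneous localization J_(f) in the degree-zero ring
A_(f) is h for every homogeneous f of positive degree outside the radical of J), and q_1, ..., q_t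
finitely many prime ideals none of which contains J or the irrelevant ideal A_+. Then there are
homogeneous elements z_1, ..., z_h of positive degree, lying in J and in no q_i, such that for every
homogeneous f of positive degree outside the radical of J and every 1 ≤ j ≤ h the ideal (z_1, ...,
z_j) has geometric height j with respect to f. (The published statement lets f range over all
homogeneous elements outside the radical of J, degree 0 included; then it fails: in A = k[t][x] with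
t of degree 0 and x of degree 1, the ideal J = (t) has geometric height 1 with respect to every
homogeneous f outside its radical, f = 1 included, while (z)_(1) = 0 has height 0 for every
homogeneous z of positive degree. This row takes f of positive degree, in the hypothesis and in the
conclusion.) -/
theorem result {R : Type u} {A : Type v} [CommRing R] [CommRing A]
    [Algebra R A] [IsNoetherianRing A] (𝒜 : ℕ → Submodule R A) [GradedRing 𝒜]
    (J : Ideal A) (hJ : J.IsHomogeneous 𝒜) (h : ℕ) (hJh : W4c2ratsingkovacs.HasUniformGeomHeight 𝒜 J h)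
    (P : Finset (Ideal A)) (hP : ∀ q ∈ P, q.IsPrime ∧ ¬ J ≤ q ∧ ¬ (HomogeneousIdeal.irrelevant 𝒜).toIdeal ≤ q) :
    ∃ zs : List A, zs.length = h ∧
      (∀ z ∈ zs, (∃ n : ℕ, 0 < n ∧ z ∈ 𝒜 n) ∧ z ∈ J ∧ ∀ q ∈ P, z ∉ q) ∧
      ∀ (f : A) (n : ℕ), 0 < n → f ∈ 𝒜 n → f ∉ J.radical →
        ∀ j : ℕ, 1 ≤ j → j ≤ h → W4c2ratsingkovacs.geomHeight 𝒜 (Ideal.ofList (zs.take j)) f = j := by
  classical
  suffices H : ∀ i, i ≤ h → ∃ zs : List A, zs.length = i ∧
      (∀ z ∈ zs, (∃ n : ℕ, 0 < n ∧ z ∈ 𝒜 n) ∧ z ∈ J ∧ ∀ q ∈ P, z ∉ q) ∧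
      ∀ (f : A) (n : ℕ), 0 < n → f ∈ 𝒜 n → f ∉ J.radical →
        ∀ j : ℕ, j ≤ i → (j : ℕ∞) ≤ W4c2ratsingkovacs.geomHeight 𝒜 (Ideal.ofList (zs.take j)) f by
    obtain ⟨zs, hlen, hzs, hh⟩ := H h le_rfl
    refine ⟨zs, hlen, hzs, fun f n hn hf hfJ j _ hj => le_antisymm ?_ (hh f n hn hf hfJ j hj)⟩
    refine (geomHeight_le 𝒜 hf hn (zs.take j) (fun z hz => ?_) (J := J) ?_ ?_).trans ?_
    · obtain ⟨e, -, he⟩ := (hzs z (List.mem_of_mem_take hz)).1
      exact ⟨e, he⟩
    · exact Ideal.span_le.2 fun z hz => (hzs z (List.mem_of_mem_take hz)).2.1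
    · intro ht
      have := hJh f n hn hf hfJ
      rw [geomHeight, ht, Ideal.height_top] at this
      exact (ENat.coe_ne_top h) this.symm
    · exact_mod_cast List.length_take_le j zs
  intro i
  induction i with
  | zero => exact fun _ => ⟨[], rfl, by simp, fun f n _ _ _ j hj => by rw [Nat.le_zero.1 hj]; exact zero_le⟩
  | succ i ih =>
    intro hi
    obtain ⟨zs, hlen, hzs, hh⟩ := ih (by omega)
    have hhom : (Ideal.ofList zs).IsHomogeneous 𝒜 := isHomogeneous_ofList 𝒜 fun z hz => by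
      obtain ⟨e, -, he⟩ := (hzs z hz).1
      exact ⟨e, he⟩
    let Bad : Finset (Ideal A) := (Ideal.finite_minimalPrimes_of_isNoetherianRing A (Ideal.ofList zs)).toFinset.filter
      fun Q => ¬ J ≤ Q ∧ ¬ (HomogeneousIdeal.irrelevant 𝒜).toIdeal ≤ Q
    obtain ⟨d, hd, z, hzd, hzJ, hzav⟩ := exists_avoid 𝒜 hJ (P.image (fun q => (q.homogeneousCore 𝒜).toIdeal) ∪ Bad)
      (fun Q hQ => by
        rcases Finset.mem_union.1 hQ with hQ | hQ
        · obtain ⟨q, hq, rfl⟩ := Finset.mem_image.1 hQ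
          obtain ⟨hqp, hqJ, hqirr⟩ := hP q hq
          exact ⟨hqp.homogeneousCore, (q.homogeneousCore 𝒜).isHomogeneous,
            fun h => hqJ (h.trans (Ideal.toIdeal_homogeneousCore_le 𝒜 q)),
            fun h => hqirr (h.trans (Ideal.toIdeal_homogeneousCore_le 𝒜 q))⟩
        · obtain ⟨hQm, hQJ, hQi⟩ := Finset.mem_filter.1 hQ
          rw [Set.Finite.mem_toFinset] at hQm
          exact ⟨hQm.1.1, isHomogeneous_minimalPrime 𝒜 hhom hQm, hQJ, hQi⟩)
    refine ⟨zs ++ [z], by simp [hlen], fun w hw => ?_, fun f n hn hf hfJ j hj => ?_⟩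
    · rcases List.mem_append.1 hw with hw | hw
      · exact hzs w hw
      · rw [List.mem_singleton.1 hw]
        refine ⟨⟨d, hd, hzd⟩, hzJ, fun q hq hzq => ?_⟩
        refine hzav _ (Finset.mem_union_left _ (Finset.mem_image_of_mem _ hq)) ?_
        exact Ideal.mem_homogeneousCore_of_homogeneous_of_mem ⟨d, hzd⟩ hzq
    · rcases Nat.lt_or_eq_of_le hj with hj' | rfl
      · rw [List.take_append_of_le_length (by omega)]
        exact hh f n hn hf hfJ j (by omega)
      · rw [List.take_of_length_le (by simp [hlen])]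
        have hz' := hh f n hn hf hfJ i le_rfl
        rw [List.take_of_length_le (by omega)] at hz'
        refine le_geomHeight 𝒜 hf hn (z := z) hJ ?_ hhom (Ideal.span_mono fun w hw => List.mem_append_left _ hw)
          (Ideal.subset_span (List.mem_append_right _ (List.mem_singleton_self z))) hi (hJh f n hn hf hfJ).ge hz'
          (fun Q hQ hQJ hQi => hzav Q (Finset.mem_union_right _ (Finset.mem_filter.2 ⟨(Set.Finite.mem_toFinset _).2 hQ, hQJ, hQi⟩)))
        exact isHomogeneous_ofList 𝒜 fun w hw => by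
          rcases List.mem_append.1 hw with hw | hw
          · obtain ⟨e, -, he⟩ := (hzs w hw).1
            exact ⟨e, he⟩
          · exact ⟨d, (List.mem_singleton.1 hw).symm ▸ hzd⟩

end Groth.Agent.S15723
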