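import Groth.Statements.S15724
import Groth.Agent.Lib.HJH28.Pieces2

set_option autoImplicit false
universe u
open W4c2invhilbsl2

namespace Groth.Agent.S15724

/-- Grade the polynomial ring k[X₀,…,X₄] over a field k by ℤ × ℤ/m, giving X₀ weight (1,0), X₁ and X₂
weight (−p,−1), and X₃ and X₄ weight (q,1), where 0 < p < q are coprime integers and m ≥ 1, and let
P be the principal ideal generated by the weight-zero element X₀^(q−p) − X₁X₄ + X₂X₃ (the equation
of an affine hypersurface). Then every polynomial homogeneous of the weight of X₁ is congruent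
modulo P to some a·X₁ + b·X₂ with a and b homogeneous of weight zero, and every polynomial
homogeneous of the weight of X₃ is congruent modulo P to some a·X₃ + b·X₄ with a and b homogeneous
of weight zero. Equivalently, in the coordinate ring of the hypersurface the weight pieces of the
weights of X₁ and of X₃ are generated over the weight-zero subring (the ring of invariants of the
diagonal action of a one-dimensional torus times the group of m-th roots of unity with these
weights) by X₁, X₂ and by X₃, X₄ respectively. (For the weight of X₁ the congruence is already an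
equality in the polynomial ring; for the weight of X₃ the hypersurface equation is needed, e.g.
X₀^(q+p)X₁ has that weight when m divides 2.) -/
theorem result (k : Type u) [Field k] (p q m : ℕ) (hp : 0 < p) (hpq : p < q) (hcop : Nat.Coprime p q) (hm : 0 < m) (f : MvPolynomial (Fin 5) k) :
    (f ∈ MvPolynomial.weightedHomogeneousSubmodule k (W4c2invhilbsl2.wt5 p q m) (W4c2invhilbsl2.wt5 p q m 1) →
      ∃ a b : MvPolynomial (Fin 5) k, a ∈ MvPolynomial.weightedHomogeneousSubmodule k (W4c2invhilbsl2.wt5 p q m) 0 ∧ b ∈ MvPolynomial.weightedHomogeneousSubmodule k (W4c2invhilbsl2.wt5 p q m) 0 ∧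
        f - (a * MvPolynomial.X (1 : Fin 5) + b * MvPolynomial.X (2 : Fin 5)) ∈ Ideal.span {MvPolynomial.X (0 : Fin 5) ^ (q - p) - MvPolynomial.X 1 * MvPolynomial.X 4 + MvPolynomial.X 2 * MvPolynomial.X 3}) ∧
    (f ∈ MvPolynomial.weightedHomogeneousSubmodule k (W4c2invhilbsl2.wt5 p q m) (W4c2invhilbsl2.wt5 p q m 3) →
      ∃ a b : MvPolynomial (Fin 5) k, a ∈ MvPolynomial.weightedHomogeneousSubmodule k (W4c2invhilbsl2.wt5 p q m) 0 ∧ b ∈ MvPolynomial.weightedHomogeneousSubmodule k (W4c2invhilbsl2.wt5 p q m) 0 ∧
        f - (a * MvPolynomial.X (3 : Fin 5) + b * MvPolynomial.X (4 : Fin 5)) ∈ Ideal.span {MvPolynomial.X (0 : Fin 5) ^ (q - p) - MvPolynomial.X 1 * MvPolynomial.X 4 + MvPolynomial.X 2 * MvPolynomial.X 3}) := by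
  exact ⟨fun hf => Groth.Agent.HJH28.gen_X1 f _ hp hf, fun hf => Groth.Agent.HJH28.gen_X3 hpq f hf⟩

end Groth.Agent.S15724
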