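import Groth.Statements.S15725
import Groth.Agent.Lib.HJH28.Pieces2

set_option autoImplicit false
universe u
open W4c2invhilbsl2

namespace Groth.Agent.S15725

/-- Grade the polynomial ring k[X₀,X₁,X₂] over a field k by ℤ × ℤ/m, giving X₀ weight (1,0), X₁ weight
(−p,−1) and X₂ weight (q,1), where 0 < p < q are coprime integers and m ≥ 1 (this three-variable
ring stands for the subring k[X₀,X₁,Xⱼ], j = 3 or 4, of the five-variable ring with the same
weights). Then every polynomial homogeneous of weight (q−p, 0) can be written a·X₀^(q−p) + b·X₁X₂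
with a and b homogeneous of weight zero; in other words the weight-(q−p, 0) piece is generated by
X₀^(q−p) and X₁X₂ as a module over the weight-zero subring. -/
theorem result (k : Type u) [Field k] (p q m : ℕ) (hp : 0 < p) (hpq : p < q) (hcop : Nat.Coprime p q) (hm : 0 < m) (f : MvPolynomial (Fin 3) k)
    (hf : f ∈ MvPolynomial.weightedHomogeneousSubmodule k (W4c2invhilbsl2.wt3 p q m) ((q : ℤ) - (p : ℤ), (0 : ZMod m))) :
    ∃ a b : MvPolynomial (Fin 3) k, a ∈ MvPolynomial.weightedHomogeneousSubmodule k (W4c2invhilbsl2.wt3 p q m) 0 ∧ b ∈ MvPolynomial.weightedHomogeneousSubmodule k (W4c2invhilbsl2.wt3 p q m) 0 ∧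
      f = a * MvPolynomial.X (0 : Fin 3) ^ (q - p) + b * (MvPolynomial.X (1 : Fin 3) * MvPolynomial.X (2 : Fin 3)) := by
  exact Groth.Agent.HJH28.gen_three_diff hp hpq f hf

end Groth.Agent.S15725
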