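import Groth.Statements.S15726
import Groth.Agent.Lib.HJH28.Pieces2

set_option autoImplicit false
universe u
open W4c2invhilbsl2

namespace Groth.Agent.S15726

/-- Grade the polynomial ring k[X₀,…,X₄] over a field k by ℤ × ℤ/m, giving X₀ weight (1,0), X₁ and X₂
weight (−p,−1), and X₃ and X₄ weight (q,1), where 0 < p < q are coprime integers and m ≥ 1. Then
modulo the principal ideal generated by the weight-zero element X₀^(q−p) − X₁X₄ + X₂X₃ (the equation
of an affine hypersurface), every polynomial homogeneous of weight (q−p, 0) is congruent to a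
combination a₁₃X₁X₃ + a₁₄X₁X₄ + a₂₃X₂X₃ + a₂₄X₂X₄ whose four coefficients are homogeneous of weight
zero. Equivalently, in the coordinate ring of the hypersurface the weight-(q−p, 0) piece is
generated over the weight-zero subring (the invariant ring of the diagonal action with these
weights) by the span of the four products XₐX_b with a ∈ {1,2} and b ∈ {3,4}. (The published
statement is over the complex numbers; this row takes any field.) -/
theorem result (k : Type u) [Field k] (p q m : ℕ) (hp : 0 < p) (hpq : p < q) (hcop : Nat.Coprime p q) (hm : 0 < m) (f : MvPolynomial (Fin 5) k)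
    (hf : f ∈ MvPolynomial.weightedHomogeneousSubmodule k (W4c2invhilbsl2.wt5 p q m) ((q : ℤ) - (p : ℤ), (0 : ZMod m))) :
    ∃ a₁₃ a₁₄ a₂₃ a₂₄ : MvPolynomial (Fin 5) k,
      a₁₃ ∈ MvPolynomial.weightedHomogeneousSubmodule k (W4c2invhilbsl2.wt5 p q m) 0 ∧ a₁₄ ∈ MvPolynomial.weightedHomogeneousSubmodule k (W4c2invhilbsl2.wt5 p q m) 0 ∧ a₂₃ ∈ MvPolynomial.weightedHomogeneousSubmodule k (W4c2invhilbsl2.wt5 p q m) 0 ∧ a₂₄ ∈ MvPolynomial.weightedHomogeneousSubmodule k (W4c2invhilbsl2.wt5 p q m) 0 ∧
      f - (a₁₃ * (MvPolynomial.X (1 : Fin 5) * MvPolynomial.X 3) + a₁₄ * (MvPolynomial.X (1 : Fin 5) * MvPolynomial.X 4) +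
          a₂₃ * (MvPolynomial.X (2 : Fin 5) * MvPolynomial.X 3) + a₂₄ * (MvPolynomial.X (2 : Fin 5) * MvPolynomial.X 4)) ∈
        Ideal.span {MvPolynomial.X (0 : Fin 5) ^ (q - p) - MvPolynomial.X 1 * MvPolynomial.X 4 + MvPolynomial.X 2 * MvPolynomial.X 3} := by
  exact Groth.Agent.HJH28.gen_diff hp hpq f hf

end Groth.Agent.S15726
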