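import Groth.Statements.S15728
import Groth.Agent.Lib.HJH28.Pieces2

set_option autoImplicit false
universe u
open W4c2invhilbsl2

namespace Groth.Agent.S15728

/-- Let k be an algebraically closed field, 0 < p < q coprime integers and m ≥ 1; put g = gcd(m, q−p)
and a = m/g, and grade k[X₀,…,X₄] by ℤ × ℤ/m, giving X₀ weight (1,0), X₁ and X₂ weight (−p,−1), and
X₃ and X₄ weight (q,1). For s ∈ k let J_s be the ideal (X₀^g, X₂, X₄, s − X₁^(aq)X₃^(ap)), whose
generators are homogeneous (the last one of weight zero). Then for every weight ν the image in
k[X₀,…,X₄]/J_s of the homogeneous polynomials of weight ν is a k-vector space of dimension at most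
1. (The published statement asserts that this dimension equals 1 for every ν and every s; this row
states the upper bound, the half obtained from the monomial analysis of the weight pieces, while the
lower bound there is drawn from the moduli interpretation of these ideals. The published statement
is over the complex numbers; this row takes any algebraically closed field, which is what the
reduction to s = 0, 1 by rescaling the variables uses.) -/
theorem result (k : Type u) [Field k] [IsAlgClosed k] (p q m : ℕ) (hp : 0 < p) (hpq : p < q) (hcop : Nat.Coprime p q) (hm : 0 < m) (s : k) (ν : ℤ × ZMod m) :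
    Module.rank k (W4c2invhilbsl2.piece k (W4c2invhilbsl2.wt5 p q m) (W4c2invhilbsl2.idealJ k p q m s) ν) ≤ 1 := by
  exact Groth.Agent.HJH28.rank_J hpq hcop hm s ν

end Groth.Agent.S15728
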