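import Groth.Statements.S15732
import Groth.Agent.Lib.HJH28.Pieces2

set_option autoImplicit false
universe u
open W4c2invhilbsl2

namespace Groth.Agent.S15732

/-- Let 0 < p < q be coprime integers and m ≥ 1 such that q − p does not divide m; put g = gcd(m, q−p),
b = (q−p)/g, α = ⌊mp/(q−p)⌋, β = the remainder of mp modulo q−p and t = (q−p−β)/g, so that 1 ≤ t <
b, and let b/t = c₁ − 1/(c₂ − 1/(⋯ − 1/c_r)) be the negative-regular (Hirzebruch–Jung) continued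
fraction expansion with every cᵢ ≥ 2; set P₀ = 0, P₁ = 1, Q₀ = −1, Q₁ = 0, Pᵢ = cᵢ₋₁Pᵢ₋₁ − Pᵢ₋₂, Qᵢ
= cᵢ₋₁Qᵢ₋₁ − Qᵢ₋₂ for 2 ≤ i ≤ r+1, and eᵢ = (α+1+m)Pᵢ − Qᵢ, lᵢ = (α+1)Pᵢ − Qᵢ, nᵢ = q·lᵢ − p·eᵢ,
which are non-negative integers for 0 ≤ i ≤ r+1. Grade the polynomial ring k[X₀,…,X₄] over a field k
by ℤ × ℤ/m, giving X₀ weight (1,0), X₁ and X₂ weight (−p,−1), and X₃ and X₄ weight (q,1). Then for
every 1 ≤ i ≤ r, modulo the principal ideal generated by the weight-zero element X₀^(q−p) − X₁X₄ +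
X₂X₃, every polynomial homogeneous of weight (nᵢ, 0) is congruent to a combination a₀·X₀^(nᵢ) + Σ
a_{e,l}·X₁^(eᵢ−e)X₂^e X₃^(lᵢ−l)X₄^l (sum over 0 ≤ e ≤ eᵢ, 0 ≤ l ≤ lᵢ) whose coefficients a₀, a_{e,l}
are homogeneous of weight zero. Equivalently, in the coordinate ring of the hypersurface the
weight-(nᵢ,0) piece is generated over the weight-zero subring (the invariant ring) by X₀^(nᵢ)
together with the products of a degree-eᵢ monomial in X₁, X₂ and a degree-lᵢ monomial in X₃, X₄.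
(The published statement is over the complex numbers; this row takes any field.) -/
theorem result (k : Type u) [Field k] (p q m : ℕ) (hp : 0 < p) (hpq : p < q) (hcop : Nat.Coprime p q) (hm : 0 < m) (hnt : ¬ (q - p ∣ m)) (c : List ℤ) (hc : W4c2invhilbsl2.IsHJDigits p q m c) (i : ℕ) (hi : 1 ≤ i) (hir : i ≤ c.length)
    (f : MvPolynomial (Fin 5) k) (hf : f ∈ MvPolynomial.weightedHomogeneousSubmodule k (W4c2invhilbsl2.wt5 p q m) (W4c2invhilbsl2.nN p q m c i, (0 : ZMod m))) :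
    ∃ (a₀ : MvPolynomial (Fin 5) k) (a : ℕ → ℕ → MvPolynomial (Fin 5) k),
      a₀ ∈ MvPolynomial.weightedHomogeneousSubmodule k (W4c2invhilbsl2.wt5 p q m) 0 ∧ (∀ e l : ℕ, a e l ∈ MvPolynomial.weightedHomogeneousSubmodule k (W4c2invhilbsl2.wt5 p q m) 0) ∧
      f - (a₀ * MvPolynomial.X (0 : Fin 5) ^ (W4c2invhilbsl2.nN p q m c i).toNat +
          ∑ e ∈ Finset.range ((W4c2invhilbsl2.eE p q m c i).toNat + 1), ∑ l ∈ Finset.range ((W4c2invhilbsl2.lL p q m c i).toNat + 1),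
            a e l * (MvPolynomial.X (1 : Fin 5) ^ ((W4c2invhilbsl2.eE p q m c i).toNat - e) * MvPolynomial.X (2 : Fin 5) ^ e *
              MvPolynomial.X (3 : Fin 5) ^ ((W4c2invhilbsl2.lL p q m c i).toNat - l) * MvPolynomial.X (4 : Fin 5) ^ l)) ∈
        Ideal.span {MvPolynomial.X (0 : Fin 5) ^ (q - p) - MvPolynomial.X 1 * MvPolynomial.X 4 + MvPolynomial.X 2 * MvPolynomial.X 3} := by
  classical
  obtain ⟨hl, he, -, hel⟩ := HJH28.e_l_facts hpq hcop hm hnt hc i hi hir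
  obtain ⟨hn0, -, -⟩ := HJH28.nN_facts hpq hcop hm hnt hc (i - 1) (by omega)
  obtain ⟨-, hnlt, -⟩ := HJH28.nN_facts hpq hcop hm hnt hc (i - 1) (by omega)
  rw [Nat.sub_add_cancel hi] at hn0 hnlt
  obtain ⟨n, hn⟩ := Int.eq_ofNat_of_zero_le hn0
  obtain ⟨e, he'⟩ := Int.eq_ofNat_of_zero_le he.le
  obtain ⟨l, hl'⟩ := Int.eq_ofNat_of_zero_le hl
  rw [hn, he', hl']
  rw [hn] at hf
  simp only [Int.toNat_natCast]
  have hnel : (n : ℤ) = -(p : ℤ) * e + q * l := by rw [← hn, ← he', ← hl']; rfl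
  rw [he', hl'] at hel
  set W := MvPolynomial.weightedHomogeneousSubmodule k (W4c2invhilbsl2.wt5 p q m) 0 with hW
  let G : ℕ → ℕ → MvPolynomial (Fin 5) k := fun e' l' => MvPolynomial.X (1 : Fin 5) ^ (e - e') *
    MvPolynomial.X (2 : Fin 5) ^ e' * MvPolynomial.X (3 : Fin 5) ^ (l - l') * MvPolynomial.X (4 : Fin 5) ^ l'
  let T : Submodule k (MvPolynomial (Fin 5) k) :=
    { carrier := {g | ∃ (a₀ : MvPolynomial (Fin 5) k) (a : ℕ → ℕ → MvPolynomial (Fin 5) k), a₀ ∈ W ∧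
        (∀ e' l', a e' l' ∈ W) ∧ g = a₀ * MvPolynomial.X (0 : Fin 5) ^ n +
          ∑ e' ∈ Finset.range (e + 1), ∑ l' ∈ Finset.range (l + 1), a e' l' * G e' l'}
      add_mem' := by
        rintro g g' ⟨a₀, a, ha₀, ha, rfl⟩ ⟨b₀, b, hb₀, hb, rfl⟩
        refine ⟨a₀ + b₀, fun e' l' => a e' l' + b e' l', add_mem ha₀ hb₀, fun e' l' => add_mem (ha _ _) (hb _ _), ?_⟩
        simp only [add_mul, Finset.sum_add_distrib]
        abel
      zero_mem' := ⟨0, fun _ _ => 0, zero_mem _, fun _ _ => zero_mem _, by simp⟩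
      smul_mem' := by
        rintro c g ⟨a₀, a, ha₀, ha, rfl⟩
        refine ⟨c • a₀, fun e' l' => c • a e' l', W.smul_mem c ha₀, fun e' l' => W.smul_mem c (ha _ _), ?_⟩
        simp only [smul_add, Finset.smul_sum, smul_mul_assoc] }
  suffices hT : f ∈ T by
    obtain ⟨a₀, a, ha₀, ha, hfeq⟩ := hT
    refine ⟨a₀, a, ha₀, ha, ?_⟩
    rw [hfeq, sub_self]
    exact zero_mem _
  refine HJH28.whs_le (T := T) (fun d hd => ?_) hf
  rw [HJH28.weight5, Prod.ext_iff] at hd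
  obtain ⟨hd1, hd2⟩ := hd
  rw [HJH28.monomial5]
  by_cases ha : n ≤ d 0
  · obtain ⟨r, hr⟩ := Nat.exists_eq_add_of_le ha
    refine ⟨HJH28.M5 r (d 1) (d 2) (d 3) (d 4), fun _ _ => 0, HJH28.M5_mem _ _ _ _ _ ?_ hd2, fun _ _ => zero_mem _, ?_⟩
    · simp only [hr, Nat.cast_add] at hd1
      show _ = (0 : ℤ)
      linarith
    · simp only [zero_mul, Finset.sum_const_zero, add_zero, HJH28.M5, hr]
      ring
  have ha' : (d 0 : ℤ) < n := by exact_mod_cast (not_le.1 ha)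
  simp only at hd1 hd2
  have hdvd : (m : ℤ) ∣ ((d 1 + d 2 : ℕ) : ℤ) - ((d 3 + d 4 : ℕ) : ℤ) := by
    rw [← ZMod.intCast_zmod_eq_zero_iff_dvd]
    push_cast at hd2 ⊢
    linear_combination -hd2
  have hne : (0 : ℤ) < ((d 1 + d 2 : ℕ) : ℤ) + ((d 3 + d 4 : ℕ) : ℤ) := by
    by_contra hcon
    have e1 : (d 1 : ℤ) + d 2 = 0 := by push_cast at hcon; omega
    have e2 : (d 3 : ℤ) + d 4 = 0 := by push_cast at hcon; omega
    rw [e1, e2] at hd1
    linarith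
  obtain ⟨g1, g2⟩ := HJH28.core hp hpq hcop hm hnt hc i hi hir _ _ ((n : ℤ) - d 0)
    (Int.natCast_nonneg _) (Int.natCast_nonneg _) hne hdvd (by push_cast; linarith) (by linarith) (by omega)
  rw [he'] at g1
  rw [hl'] at g2
  have g1' : e ≤ d 1 + d 2 := by exact_mod_cast g1
  have g2' : l ≤ d 3 + d 4 := by exact_mod_cast g2
  obtain ⟨e₂, he₂⟩ : ∃ x, x = min e (d 2) := ⟨_, rfl⟩
  obtain ⟨l₄, hl₄⟩ : ∃ x, x = min l (d 4) := ⟨_, rfl⟩
  obtain ⟨r1, hr1⟩ := Nat.exists_eq_add_of_le (show e - e₂ ≤ d 1 by omega)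
  obtain ⟨r2, hr2⟩ := Nat.exists_eq_add_of_le (show e₂ ≤ d 2 by omega)
  obtain ⟨r3, hr3⟩ := Nat.exists_eq_add_of_le (show l - l₄ ≤ d 3 by omega)
  obtain ⟨r4, hr4⟩ := Nat.exists_eq_add_of_le (show l₄ ≤ d 4 by omega)
  have eU : (d 1 : ℤ) + d 2 = e + (r1 + r2) := by omega
  have eV : (d 3 : ℤ) + d 4 = l + (r3 + r4) := by omega
  have hmel : (((l : ℤ) - e : ℤ) : ZMod m) = 0 := by rw [hel]; push_cast; simp
  refine ⟨0, fun e' l' => if e' = e₂ ∧ l' = l₄ then HJH28.M5 (d 0) r1 r2 r3 r4 else 0, zero_mem _,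
    fun e' l' => ?_, ?_⟩
  · beta_reduce
    split_ifs
    · refine HJH28.M5_mem _ _ _ _ _ ?_ ?_
      · show _ = (0 : ℤ)
        rw [eU, eV] at hd1
        linarith
      · show _ = (0 : ZMod m)
        rw [eU, eV] at hd2
        push_cast at hd2 hmel ⊢
        linear_combination hd2 - hmel
    · exact zero_mem _
  · rw [zero_mul, zero_add, Finset.sum_eq_single e₂, Finset.sum_eq_single l₄]
    · beta_reduce
      rw [if_pos ⟨rfl, rfl⟩]
      simp only [G, HJH28.M5, hr1, hr2, hr3, hr4]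
      ring
    · intro b _ hb; simp [hb]
    · intro h; simp only [Finset.mem_range] at h; omega
    · intro b _ hb; simp [hb]
    · intro h; simp only [Finset.mem_range] at h; omega

end Groth.Agent.S15732
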