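import Groth.Statements.S15733
import Groth.Agent.Lib.HJH28.Digits

set_option autoImplicit false
open W4c2invhilbsl2

namespace Groth.Agent.S15733

/-- Let 0 < p < q be coprime integers and m ≥ 1 such that q − p does not divide m; put g = gcd(m, q−p),
b = (q−p)/g, α = ⌊mp/(q−p)⌋, β = the remainder of mp modulo q−p and t = (q−p−β)/g, so that 1 ≤ t <
b, and let b/t = c₁ − 1/(c₂ − 1/(⋯ − 1/c_r)) be the negative-regular (Hirzebruch–Jung) continued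
fraction expansion with every cᵢ ≥ 2; set P₀ = 0, P₁ = 1, Q₀ = −1, Q₁ = 0, Pᵢ = cᵢ₋₁Pᵢ₋₁ − Pᵢ₋₂, Qᵢ
= cᵢ₋₁Qᵢ₋₁ − Qᵢ₋₂ for 2 ≤ i ≤ r+1, and eᵢ = (α+1+m)Pᵢ − Qᵢ, lᵢ = (α+1)Pᵢ − Qᵢ, nᵢ = q·lᵢ − p·eᵢ,
which are non-negative integers for 0 ≤ i ≤ r+1. Then for every 1 < i ≤ r and every integer x with 0
< x < Pᵢ, the remainder of pmx + nᵢ on division by q − p equals nᵢ plus the remainder of pmx on
division by q − p (in particular nᵢ + (pmx mod (q−p)) < q − p). -/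
theorem result (p q m : ℕ) (hp : 0 < p) (hpq : p < q) (hcop : Nat.Coprime p q) (hm : 0 < m) (hnt : ¬ (q - p ∣ m)) (c : List ℤ) (hc : W4c2invhilbsl2.IsHJDigits p q m c) (i : ℕ) (hi : 1 < i) (hir : i ≤ c.length)
    (x : ℤ) (hx0 : 0 < x) (hx : x < W4c2invhilbsl2.hjP c i) :
    Int.emod ((p : ℤ) * m * x + W4c2invhilbsl2.nN p q m c i) ((q : ℤ) - p) = W4c2invhilbsl2.nN p q m c i + Int.emod ((p : ℤ) * m * x) ((q : ℤ) - p) := by
  exact Groth.Agent.HJH28.emod_pmx hpq hcop hm hnt hc i hi hir x hx0 hx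

end Groth.Agent.S15733
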