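import Groth.Statements.S15736
import Mathlib.Tactic
import Mathlib.RingTheory.MvPolynomial.Basic
import Mathlib.RingTheory.Ideal.Quotient.Operations
import Mathlib.LinearAlgebra.Basis.Basic
import Mathlib.Data.Matrix.Mul
import Mathlib.NumberTheory.Bernoulli
import Mathlib.RingTheory.PowerSeries.Inverse
import Mathlib.RingTheory.AdicCompletion.Basic
import Mathlib.LinearAlgebra.Matrix.Charpoly.Coeff
import Mathlib.Algebra.Polynomial.Expand
import Mathlib.NumberTheory.Padics.PadicVal.Basic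
import Mathlib.RingTheory.IntegralClosure.IsIntegralClosure.Basic
import Mathlib.GroupTheory.Torsion
import Mathlib.Algebra.MonoidAlgebra.Basic
import Mathlib.RingTheory.Norm.Basic
import Mathlib.LinearAlgebra.Eigenspace.Zero
import Mathlib.RingTheory.LocalRing.ResidueField.Basic
import Mathlib.RingTheory.Artinian.Module
import Mathlib.FieldTheory.IsAlgClosed.Basic
import Mathlib.RingTheory.Ideal.AssociatedPrime.Basic
import Mathlib.RingTheory.Ideal.MinimalPrime.Noetherian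
import Mathlib.RingTheory.RegularLocalRing.Defs
import Mathlib.RingTheory.Ideal.KrullsHeightTheorem
import Mathlib.RingTheory.Nakayama

set_option autoImplicit false
open W4c2invhilbsl2

namespace Groth.Agent.S15736

/-- For a monomial X₀^d₀X₁^d₁X₂^d₂ of the polynomial ring in X₀, X₁, X₂ (X₂ standing for Xⱼ, j = 3 or 4,
of the five-variable ring) put n = d₀ − p·d₁ + q·d₂ (its weight for the torus diag(t, t^(−p), t^q)),
c = d₁ − d₂ and ω = p·d₁ − q·d₂, so that d₀ = n + ω; here 0 < p < q are coprime integers. Then among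
all monomials X₀^d₀'X₁^d₁'X₂^d₂' with the same pair (n, c) as a given one, the maximum of ω equals
q·c when c < 0 and p·c when c ≥ 0: every such monomial has ω at most this value, and some such
monomial attains it. -/
theorem result (p q : ℕ) (hp : 0 < p) (hpq : p < q) (hcop : Nat.Coprime p q) (d0 d1 d2 : ℕ) :
    (∀ e0 e1 e2 : ℕ, (e0 : ℤ) - (p : ℤ) * e1 + (q : ℤ) * e2 = (d0 : ℤ) - (p : ℤ) * d1 + (q : ℤ) * d2 → (e1 : ℤ) - e2 = (d1 : ℤ) - d2 →
      (p : ℤ) * e1 - (q : ℤ) * e2 ≤ (if (d1 : ℤ) - d2 < 0 then (q : ℤ) * ((d1 : ℤ) - d2) else (p : ℤ) * ((d1 : ℤ) - d2))) ∧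
    (∃ e0 e1 e2 : ℕ, (e0 : ℤ) - (p : ℤ) * e1 + (q : ℤ) * e2 = (d0 : ℤ) - (p : ℤ) * d1 + (q : ℤ) * d2 ∧ (e1 : ℤ) - e2 = (d1 : ℤ) - d2 ∧
      (p : ℤ) * e1 - (q : ℤ) * e2 = (if (d1 : ℤ) - d2 < 0 then (q : ℤ) * ((d1 : ℤ) - d2) else (p : ℤ) * ((d1 : ℤ) - d2))) := by
  have hpq' : (p : ℤ) < q := by exact_mod_cast hpq
  constructor
  · intro e0 e1 e2 _ hc
    rw [← hc]
    have he1 : (0:ℤ) ≤ e1 := Int.natCast_nonneg e1
    have he2 : (0:ℤ) ≤ e2 := Int.natCast_nonneg e2
    split_ifs <;> nlinarith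
  · rcases lt_or_ge ((d1 : ℤ) - d2) 0 with h | h
    · obtain ⟨D, hD⟩ : ∃ D, q = p + D := ⟨q - p, by omega⟩
      obtain ⟨t, ht⟩ : ∃ t, d2 = d1 + t := ⟨d2 - d1, by omega⟩
      refine ⟨d0 + D * d1, 0, t, ?_, ?_, ?_⟩
      · subst hD ht; push_cast; ring
      · omega
      · rw [if_pos h]; subst hD ht; push_cast; ring
    · obtain ⟨D, hD⟩ : ∃ D, q = p + D := ⟨q - p, by omega⟩
      obtain ⟨t, ht⟩ : ∃ t, d1 = d2 + t := ⟨d1 - d2, by omega⟩
      refine ⟨d0 + D * d2, t, 0, ?_, ?_, ?_⟩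
      · subst hD ht; push_cast; ring
      · omega
      · rw [if_neg (by omega)]; subst hD ht; push_cast; ring

end Groth.Agent.S15736
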