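import Groth.Statements.S15737
import Mathlib.Tactic
import Mathlib.RingTheory.MvPolynomial.Basic
import Mathlib.RingTheory.Ideal.Quotient.Operations
import Mathlib.LinearAlgebra.Basis.Basic
import Mathlib.Data.Matrix.Mul
import Mathlib.NumberTheory.Bernoulli
import Mathlib.RingTheory.PowerSeries.Inverse
import Mathlib.RingTheory.AdicCompletion.Basic
import Mathlib.LinearAlgebra.Matrix.Charpoly.Coeff
import Mathlib.Algebra.Polynomial.Expand
import Mathlib.NumberTheory.Padics.PadicVal.Basic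
import Mathlib.RingTheory.IntegralClosure.IsIntegralClosure.Basic
import Mathlib.GroupTheory.Torsion
import Mathlib.Algebra.MonoidAlgebra.Basic
import Mathlib.RingTheory.Norm.Basic
import Mathlib.LinearAlgebra.Eigenspace.Zero
import Mathlib.RingTheory.LocalRing.ResidueField.Basic
import Mathlib.RingTheory.Artinian.Module
import Mathlib.FieldTheory.IsAlgClosed.Basic
import Mathlib.RingTheory.Ideal.AssociatedPrime.Basic
import Mathlib.RingTheory.Ideal.MinimalPrime.Noetherian
import Mathlib.RingTheory.RegularLocalRing.Defs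
import Mathlib.RingTheory.Ideal.KrullsHeightTheorem
import Mathlib.RingTheory.Nakayama

set_option autoImplicit false
open W4c2invhilbsl2

namespace Groth.Agent.S15737

/-- For a monomial X₀^d₀X₁^d₁X₂^d₂ of the polynomial ring in X₀, X₁, X₂ (X₂ standing for Xⱼ, j = 3 or 4,
of the five-variable ring) put n = d₀ − p·d₁ + q·d₂ (its weight for the torus diag(t, t^(−p), t^q)),
c = d₁ − d₂ and ω = p·d₁ − q·d₂, so that d₀ = n + ω; here 0 < p < q are coprime integers. Then n + ω
< q − p, that is d₀ < q − p, holds if and only if ω is the least value of ω among all monomials with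
the same pair (n, c). -/
theorem result (p q : ℕ) (hp : 0 < p) (hpq : p < q) (hcop : Nat.Coprime p q) (d0 d1 d2 : ℕ) :
    d0 < q - p ↔
      ∀ e0 e1 e2 : ℕ, (e0 : ℤ) - (p : ℤ) * e1 + (q : ℤ) * e2 = (d0 : ℤ) - (p : ℤ) * d1 + (q : ℤ) * d2 → (e1 : ℤ) - e2 = (d1 : ℤ) - d2 →
        (p : ℤ) * d1 - (q : ℤ) * d2 ≤ (p : ℤ) * e1 - (q : ℤ) * e2 := by
  obtain ⟨D, hD⟩ : ∃ D, q = p + D := ⟨q - p, by omega⟩
  subst hD
  rw [Nat.add_sub_cancel_left]
  constructor
  · intro hd e0 e1 e2 hn hc
    obtain ⟨t, ht⟩ : ∃ t : ℤ, (e2 : ℤ) = d2 + t := ⟨(e2:ℤ) - d2, by ring⟩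
    have h1 : (e1 : ℤ) = d1 + t := by omega
    push_cast at *
    rw [h1, ht] at hn ⊢
    have hd' : (d0 : ℤ) < D := by exact_mod_cast hd
    have : t ≤ 0 := by
      by_contra h
      have he0 : (0:ℤ) ≤ e0 := Int.natCast_nonneg e0
      nlinarith
    nlinarith
  · intro h
    by_contra hd
    obtain ⟨r, hr⟩ : ∃ r, d0 = D + r := ⟨d0 - D, by omega⟩
    have := h r (d1+1) (d2+1) (by rw [hr]; push_cast; ring) (by push_cast; ring)
    push_cast at this
    have : (0:ℤ) < D := by exact_mod_cast (show 0 < D by omega)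
    linarith

end Groth.Agent.S15737
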