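import Groth.Statements.S15738
import Mathlib.Tactic
import Mathlib.RingTheory.MvPolynomial.Basic
import Mathlib.RingTheory.Ideal.Quotient.Operations
import Mathlib.LinearAlgebra.Basis.Basic
import Mathlib.Data.Matrix.Mul
import Mathlib.NumberTheory.Bernoulli
import Mathlib.RingTheory.PowerSeries.Inverse
import Mathlib.RingTheory.AdicCompletion.Basic
import Mathlib.LinearAlgebra.Matrix.Charpoly.Coeff
import Mathlib.Algebra.Polynomial.Expand
import Mathlib.NumberTheory.Padics.PadicVal.Basic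
import Mathlib.RingTheory.IntegralClosure.IsIntegralClosure.Basic
import Mathlib.GroupTheory.Torsion
import Mathlib.Algebra.MonoidAlgebra.Basic
import Mathlib.RingTheory.Norm.Basic
import Mathlib.LinearAlgebra.Eigenspace.Zero
import Mathlib.RingTheory.LocalRing.ResidueField.Basic
import Mathlib.RingTheory.Artinian.Module
import Mathlib.FieldTheory.IsAlgClosed.Basic
import Mathlib.RingTheory.Ideal.AssociatedPrime.Basic
import Mathlib.RingTheory.Ideal.MinimalPrime.Noetherian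
import Mathlib.RingTheory.RegularLocalRing.Defs
import Mathlib.RingTheory.Ideal.KrullsHeightTheorem
import Mathlib.RingTheory.Nakayama

set_option autoImplicit false
universe u
open W4c2invhilbsl2

namespace Groth.Agent.S15738

/-- Let k be a field and m ≥ 1; for a monomial X₀^d₀X₁^d₁X₂^d₂ of the polynomial ring in X₀, X₁, X₂ (X₂
standing for Xⱼ, j = 3 or 4, of the five-variable ring) put n = d₀ − p·d₁ + q·d₂ (its weight for the
torus diag(t, t^(−p), t^q)), c = d₁ − d₂ and ω = p·d₁ − q·d₂, so that d₀ = n + ω; here 0 < p < q are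
coprime integers. Take two monomials X₀^d₀X₁^d₁X₂^d₂ and X₀^e₀X₁^e₁X₂^e₂ with the same n and with
values c, c' of c congruent modulo m (so both lie in the same ℤ × ℤ/m-weight piece for the weights
(1,0), (−p,−1), (q,1)). Then: (i) if c = c', the difference of the two monomials lies in the
principal ideal (X₀^(q−p) − X₁X₂); (ii) if c' < c, the monomial X₀^d₀X₁^d₁X₂^d₂ lies in the ideal
(X₀^(q−p) − X₁X₂, X₀^(mp)X₁^m); (iii) in all cases the difference lies in the ideal (X₀^(q−p) −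
X₁X₂, 1 − X₀^(mp)X₁^m). -/
theorem result (k : Type u) [Field k] (p q m : ℕ) (hp : 0 < p) (hpq : p < q) (hcop : Nat.Coprime p q) (hm : 0 < m)
    (d0 d1 d2 e0 e1 e2 : ℕ) (hn : (e0 : ℤ) - (p : ℤ) * e1 + (q : ℤ) * e2 = (d0 : ℤ) - (p : ℤ) * d1 + (q : ℤ) * d2)
    (hc : (m : ℤ) ∣ ((d1 : ℤ) - d2) - ((e1 : ℤ) - e2)) :
    ((d1 : ℤ) - d2 = (e1 : ℤ) - e2 →
      (MvPolynomial.X (0 : Fin 3) ^ d0 * MvPolynomial.X (1 : Fin 3) ^ d1 * MvPolynomial.X (2 : Fin 3) ^ d2 - MvPolynomial.X (0 : Fin 3) ^ e0 * MvPolynomial.X (1 : Fin 3) ^ e1 * MvPolynomial.X (2 : Fin 3) ^ e2 : MvPolynomial (Fin 3) k) ∈ Ideal.span {MvPolynomial.X (0 : Fin 3) ^ (q - p) - MvPolynomial.X (1 : Fin 3) * MvPolynomial.X (2 : Fin 3)}) ∧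
    ((e1 : ℤ) - e2 < (d1 : ℤ) - d2 →
      (MvPolynomial.X (0 : Fin 3) ^ d0 * MvPolynomial.X (1 : Fin 3) ^ d1 * MvPolynomial.X (2 : Fin 3) ^ d2 : MvPolynomial (Fin 3) k) ∈ Ideal.span {MvPolynomial.X (0 : Fin 3) ^ (q - p) - MvPolynomial.X (1 : Fin 3) * MvPolynomial.X (2 : Fin 3), MvPolynomial.X (0 : Fin 3) ^ (m * p) * MvPolynomial.X (1 : Fin 3) ^ m}) ∧
    ((MvPolynomial.X (0 : Fin 3) ^ d0 * MvPolynomial.X (1 : Fin 3) ^ d1 * MvPolynomial.X (2 : Fin 3) ^ d2 - MvPolynomial.X (0 : Fin 3) ^ e0 * MvPolynomial.X (1 : Fin 3) ^ e1 * MvPolynomial.X (2 : Fin 3) ^ e2 : MvPolynomial (Fin 3) k) ∈ Ideal.span {MvPolynomial.X (0 : Fin 3) ^ (q - p) - MvPolynomial.X (1 : Fin 3) * MvPolynomial.X (2 : Fin 3), 1 - MvPolynomial.X (0 : Fin 3) ^ (m * p) * MvPolynomial.X (1 : Fin 3) ^ m}) := by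
  obtain ⟨D, hD⟩ : ∃ D, q = p + D := ⟨q - p, by omega⟩
  subst hD
  have hD0 : 0 < D := by omega
  rw [Nat.add_sub_cancel_left]
  clear hcop hpq
  -- monomials of equal bidegree agree in any ring with `x ^ D = y * z`
  have G : ∀ (S : Type u) [CommRing S] (x y z : S), x ^ D = y * z → ∀ a b c a' b' c' : ℕ,
      (a' : ℤ) - p * b' + (p + D : ℕ) * c' = (a : ℤ) - p * b + (p + D : ℕ) * c →
      (b' : ℤ) - c' = (b : ℤ) - c → x ^ a * y ^ b * z ^ c = x ^ a' * y ^ b' * z ^ c' := by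
    intro S _ x y z hx a b c a' b' c'
    wlog h : b ≤ b' generalizing a b c a' b' c'
    · intro h1 h2; exact (this a' b' c' a b c (by omega) h1.symm h2.symm).symm
    intro h1 h2
    obtain ⟨t, rfl⟩ := Nat.exists_eq_add_of_le h
    have hc' : c' = c + t := by omega
    subst hc'
    have ha : a = a' + D * t := by
      have : (a : ℤ) = a' + D * t := by push_cast at h1; linarith
      exact_mod_cast this
    rw [ha, pow_add, pow_mul, hx, mul_pow, pow_add, pow_add]; ring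
  -- shifting the second degree by a multiple of `m`
  have G2 : ∀ (S : Type u) [CommRing S] (x y z : S), x ^ D = y * z → ∀ a b c a' b' c' : ℕ, ∀ j : ℕ,
      (a' : ℤ) - p * b' + (p + D : ℕ) * c' = (a : ℤ) - p * b + (p + D : ℕ) * c →
      (b : ℤ) - c = (b' : ℤ) - c' + m * j → x ^ a * y ^ b * z ^ c = (x ^ (m * p) * y ^ m) ^ j * (x ^ a' * y ^ b' * z ^ c') := by
    intro S _ x y z hx a b c a' b' c' j h1 h2
    rw [G S x y z hx a b c (a' + m * p * j) (b' + m * j) c' (by push_cast at h1 ⊢; linarith) (by push_cast; linarith)]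
    rw [pow_add, pow_add, mul_pow, ← pow_mul, ← pow_mul]; ring
  refine ⟨fun h => ?_, fun h => ?_, ?_⟩
  · rw [← Ideal.Quotient.eq]
    simp only [map_mul, map_pow]
    refine G _ _ _ _ ?_ _ _ _ _ _ _ hn h.symm
    rw [← map_pow, ← map_mul, Ideal.Quotient.eq]
    exact Ideal.subset_span rfl
  · rw [← Ideal.Quotient.eq_zero_iff_mem]
    simp only [map_mul, map_pow]
    obtain ⟨j, hj⟩ := hc
    have hjn : 0 < j := by
      by_contra hh
      have : (m:ℤ) * j ≤ 0 := mul_nonpos_of_nonneg_of_nonpos (Int.natCast_nonneg m) (not_lt.1 hh)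
      omega
    lift j to ℕ using hjn.le
    have hmem : (MvPolynomial.X (0 : Fin 3) ^ (m * p) * MvPolynomial.X (1 : Fin 3) ^ m : MvPolynomial (Fin 3) k) ∈ Ideal.span {MvPolynomial.X (0 : Fin 3) ^ D - MvPolynomial.X (1 : Fin 3) * MvPolynomial.X (2 : Fin 3), MvPolynomial.X (0 : Fin 3) ^ (m * p) * MvPolynomial.X (1 : Fin 3) ^ m} := Ideal.subset_span (Set.mem_insert_of_mem _ rfl)
    rw [G2 _ _ _ _ (by rw [← map_pow, ← map_mul, Ideal.Quotient.eq]; exact Ideal.subset_span (Set.mem_insert _ _)) _ _ _ e0 e1 e2 j hn (by omega),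
      ← map_pow, ← map_pow _ _ m, ← map_mul, Ideal.Quotient.eq_zero_iff_mem.2 hmem, zero_pow (by omega), zero_mul]
  · rw [← Ideal.Quotient.eq]
    simp only [map_mul, map_pow]
    set I : Ideal (MvPolynomial (Fin 3) k) := Ideal.span {MvPolynomial.X (0 : Fin 3) ^ D - MvPolynomial.X (1 : Fin 3) * MvPolynomial.X (2 : Fin 3), 1 - MvPolynomial.X (0 : Fin 3) ^ (m * p) * MvPolynomial.X (1 : Fin 3) ^ m}
    set f := Ideal.Quotient.mk I
    have hx : (f (MvPolynomial.X 0)) ^ D = f (MvPolynomial.X 1) * f (MvPolynomial.X 2) := by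
      rw [← map_pow, ← map_mul, Ideal.Quotient.eq]; exact Ideal.subset_span (Set.mem_insert _ _)
    have h1' : (f (MvPolynomial.X 0)) ^ (m * p) * (f (MvPolynomial.X 1)) ^ m = 1 := by
      rw [← map_pow, ← map_pow, ← map_mul, ← map_one f, eq_comm, Ideal.Quotient.eq]
      exact Ideal.subset_span (Set.mem_insert_of_mem _ rfl)
    obtain ⟨j, hj⟩ := hc
    rcases Int.eq_nat_or_neg j with ⟨j, rfl | rfl⟩
    · rw [G2 _ _ _ _ hx d0 d1 d2 e0 e1 e2 j hn (by omega), h1', one_pow, one_mul]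
    · rw [G2 _ _ _ _ hx e0 e1 e2 d0 d1 d2 j hn.symm (by rw [mul_neg] at hj; omega), h1', one_pow, one_mul]

end Groth.Agent.S15738
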