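import Groth.Statements.S15739
import Mathlib.Tactic
import Mathlib.RingTheory.MvPolynomial.Basic
import Mathlib.RingTheory.Ideal.Quotient.Operations
import Mathlib.LinearAlgebra.Basis.Basic
import Mathlib.Data.Matrix.Mul
import Mathlib.NumberTheory.Bernoulli
import Mathlib.RingTheory.PowerSeries.Inverse
import Mathlib.RingTheory.AdicCompletion.Basic
import Mathlib.LinearAlgebra.Matrix.Charpoly.Coeff
import Mathlib.Algebra.Polynomial.Expand
import Mathlib.NumberTheory.Padics.PadicVal.Basic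
import Mathlib.RingTheory.IntegralClosure.IsIntegralClosure.Basic
import Mathlib.GroupTheory.Torsion
import Mathlib.Algebra.MonoidAlgebra.Basic
import Mathlib.RingTheory.Norm.Basic
import Mathlib.LinearAlgebra.Eigenspace.Zero
import Mathlib.RingTheory.LocalRing.ResidueField.Basic
import Mathlib.RingTheory.Artinian.Module
import Mathlib.FieldTheory.IsAlgClosed.Basic
import Mathlib.RingTheory.Ideal.AssociatedPrime.Basic
import Mathlib.RingTheory.Ideal.MinimalPrime.Noetherian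
import Mathlib.RingTheory.RegularLocalRing.Defs
import Mathlib.RingTheory.Ideal.KrullsHeightTheorem
import Mathlib.RingTheory.Nakayama

set_option autoImplicit false
universe u
open W4c2invhilbsl2

namespace Groth.Agent.S15739

/-- Let k be a field and m ≥ 1, put g = gcd(m, q−p), a = m/g and b = (q−p)/g; for a monomial
X₀^d₀X₁^d₁X₂^d₂ of the polynomial ring in X₀, X₁, X₂ (X₂ standing for Xⱼ, j = 3 or 4, of the
five-variable ring) put n = d₀ − p·d₁ + q·d₂ (its weight for the torus diag(t, t^(−p), t^q)), c = d₁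
− d₂ and ω = p·d₁ − q·d₂, so that d₀ = n + ω; here 0 < p < q are coprime integers. Take two
monomials X₀^d₀X₁^d₁X₂^d₂ and X₀^e₀X₁^e₁X₂^e₂ with the same n, where 0 ≤ n < q − p, whose values c
and c' of c are both divisible by m, and with d₀ < g and e₀ < g (so each has the least ω for its
pair (n, c), as g ≤ q − p). Then: (i) d₀ = e₀, i.e. the two values of ω agree, and m·b divides c −
c'; (ii) if c < c', then X₀^e₀X₁^e₁X₂^e₂ is a multiple of X₀^d₀X₁^d₁X₂^d₂ · X₁^(aq)X₂^(ap); (iii)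
the difference of the two monomials lies in the principal ideal (1 − X₁^(aq)X₂^(ap)). -/
theorem result (k : Type u) [Field k] (p q m : ℕ) (hp : 0 < p) (hpq : p < q) (hcop : Nat.Coprime p q) (hm : 0 < m)
    (d0 d1 d2 e0 e1 e2 : ℕ) (hn : (e0 : ℤ) - (p : ℤ) * e1 + (q : ℤ) * e2 = (d0 : ℤ) - (p : ℤ) * d1 + (q : ℤ) * d2)
    (hn0 : 0 ≤ (d0 : ℤ) - (p : ℤ) * d1 + (q : ℤ) * d2) (hnq : (d0 : ℤ) - (p : ℤ) * d1 + (q : ℤ) * d2 < (q : ℤ) - p)
    (hcd : (m : ℤ) ∣ (d1 : ℤ) - d2) (hce : (m : ℤ) ∣ (e1 : ℤ) - e2)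
    (hd0 : d0 < Nat.gcd m (q - p)) (he0 : e0 < Nat.gcd m (q - p)) :
    (d0 = e0 ∧ ((m : ℤ) * ((q - p) / Nat.gcd m (q - p) : ℕ)) ∣ ((d1 : ℤ) - d2) - ((e1 : ℤ) - e2)) ∧
    ((d1 : ℤ) - d2 < (e1 : ℤ) - e2 →
      (MvPolynomial.X (0 : Fin 3) ^ d0 * MvPolynomial.X (1 : Fin 3) ^ d1 * MvPolynomial.X (2 : Fin 3) ^ d2 * (MvPolynomial.X (1 : Fin 3) ^ (m / Nat.gcd m (q - p) * q) * MvPolynomial.X (2 : Fin 3) ^ (m / Nat.gcd m (q - p) * p)) : MvPolynomial (Fin 3) k) ∣ MvPolynomial.X (0 : Fin 3) ^ e0 * MvPolynomial.X (1 : Fin 3) ^ e1 * MvPolynomial.X (2 : Fin 3) ^ e2) ∧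
    ((MvPolynomial.X (0 : Fin 3) ^ e0 * MvPolynomial.X (1 : Fin 3) ^ e1 * MvPolynomial.X (2 : Fin 3) ^ e2 - MvPolynomial.X (0 : Fin 3) ^ d0 * MvPolynomial.X (1 : Fin 3) ^ d1 * MvPolynomial.X (2 : Fin 3) ^ d2 : MvPolynomial (Fin 3) k) ∈
      Ideal.span {(1 : MvPolynomial (Fin 3) k) - MvPolynomial.X (1 : Fin 3) ^ (m / Nat.gcd m (q - p) * q) * MvPolynomial.X (2 : Fin 3) ^ (m / Nat.gcd m (q - p) * p)}) := by
  obtain ⟨D, hD⟩ : ∃ D, q = p + D := ⟨q - p, by omega⟩
  subst hD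
  have hD0 : 0 < D := by omega
  simp only [Nat.add_sub_cancel_left] at *
  obtain ⟨g, M, D', hg, hMD, hgdef, rfl, rfl⟩ : ∃ g M D', 0 < g ∧ Nat.Coprime M D' ∧ g = Nat.gcd m D ∧ m = M * g ∧ D = D' * g := by
    obtain ⟨g, M, D', h⟩ := Nat.exists_coprime' (Nat.gcd_pos_of_pos_left D hm)
    refine ⟨g, M, D', h.1, h.2.1, ?_, h.2.2⟩
    rw [h.2.2.1, h.2.2.2, Nat.gcd_mul_right, h.2.1, one_mul]
  rw [← hgdef] at hd0 he0 ⊢
  rw [Nat.mul_div_cancel _ hg, Nat.mul_div_cancel _ hg]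
  push_cast at *
  obtain ⟨c, hc⟩ := hcd
  obtain ⟨c', hc'⟩ := hce
  have h0 : d0 = e0 := by
    have h : ((g : ℤ)) ∣ (d0 : ℤ) - e0 := ⟨(p : ℤ) * M * c - p * M * c' - D' * d2 + D' * e2, by linear_combination (-1:ℤ) * hn + (p:ℤ) * hc - (p:ℤ) * hc'⟩
    have := Int.eq_zero_of_abs_lt_dvd h (by rw [abs_lt]; omega)
    omega
  subst h0
  have hcp : IsCoprime (D' : ℤ) (p : ℤ) := by
    exact Nat.Coprime.isCoprime (Nat.Coprime.coprime_mul_right_right (Nat.coprime_self_add_right.1 hcop)).symm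
  have hkey : (p : ℤ) * M * (c - c') = (D' : ℤ) * (d2 - e2) := by
    have hg' : (g : ℤ) ≠ 0 := by omega
    apply mul_left_cancel₀ hg'
    linear_combination hn - (p:ℤ) * hc + (p:ℤ) * hc'
  have hMD' : IsCoprime (D' : ℤ) (M : ℤ) := (Nat.Coprime.isCoprime hMD).symm
  obtain ⟨j, hj⟩ : (D' : ℤ) ∣ c - c' := (hcp.mul_right hMD').dvd_of_dvd_mul_left ⟨_, hkey⟩
  have hD' : (D' : ℤ) ≠ 0 := by
    intro h; simp [Nat.cast_eq_zero.1 h] at hD0
  have h2 : (d2 : ℤ) = e2 + M * p * j := by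
    have : (d2 : ℤ) - e2 = M * p * j := mul_left_cancel₀ hD' (by rw [← hkey, hj]; ring)
    linarith
  have h1 : (d1 : ℤ) = e1 + M * ((p : ℤ) + D' * g) * j := by
    linear_combination hc - hc' + h2 + (M:ℤ) * g * hj
  refine ⟨⟨rfl, ⟨j, by linear_combination hc - hc' + (M:ℤ) * g * hj⟩⟩, fun h => ?_, ?_⟩
  · have hjn : j < 0 := by
      by_contra hh
      have : (0:ℤ) ≤ M * (D' * g) * j := by have := not_lt.1 hh; positivity
      nlinarith
    obtain ⟨i, rfl⟩ : ∃ i : ℕ, j = -((i : ℤ) + 1) := ⟨(-j - 1).toNat, by omega⟩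
    have e2' : e2 = d2 + M * p * (i + 1) := by
      have : (e2 : ℤ) = d2 + M * p * (i + 1) := by linear_combination -h2
      exact_mod_cast this
    have e1' : e1 = d1 + M * (p + D' * g) * (i + 1) := by
      have : (e1 : ℤ) = d1 + M * (p + D' * g) * (i + 1) := by linear_combination -h1
      exact_mod_cast this
    rw [e1', e2']
    exact ⟨(MvPolynomial.X (1 : Fin 3) ^ (M * (p + D' * g)) * MvPolynomial.X (2 : Fin 3) ^ (M * p)) ^ i,
      by rw [mul_pow, ← pow_mul, ← pow_mul]; ring⟩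
  · rw [← Ideal.Quotient.eq]
    simp only [map_mul, map_pow]
    set I : Ideal (MvPolynomial (Fin 3) k) := Ideal.span {(1 : MvPolynomial (Fin 3) k) - MvPolynomial.X (1 : Fin 3) ^ (M * (p + D' * g)) * MvPolynomial.X (2 : Fin 3) ^ (M * p)}
    set f := Ideal.Quotient.mk I
    have hu : (f (MvPolynomial.X 1)) ^ (M * (p + D' * g)) * (f (MvPolynomial.X 2)) ^ (M * p) = 1 := by
      rw [← map_pow, ← map_pow, ← map_mul, ← map_one f, eq_comm, Ideal.Quotient.eq]
      exact Ideal.subset_span rfl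
    rcases Int.eq_nat_or_neg j with ⟨i, rfl | rfl⟩
    · rw [show d1 = e1 + M * (p + D' * g) * i by exact_mod_cast h1, show d2 = e2 + M * p * i by exact_mod_cast h2, pow_add, pow_add, pow_mul, pow_mul _ (M*p)]
      calc _ = f (MvPolynomial.X 0) ^ d0 * f (MvPolynomial.X 1) ^ e1 * f (MvPolynomial.X 2) ^ e2 * ((f (MvPolynomial.X 1)) ^ (M * (p + D' * g)) * (f (MvPolynomial.X 2)) ^ (M * p)) ^ i := by rw [hu, one_pow, mul_one]
        _ = _ := by ring
    · rw [show e1 = d1 + M * (p + D' * g) * i by have : (e1:ℤ) = d1 + M * (p + D' * g) * i := by linear_combination -h1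
                                                 exact_mod_cast this,
        show e2 = d2 + M * p * i by have : (e2:ℤ) = d2 + M * p * i := by linear_combination -h2
                                    exact_mod_cast this, pow_add, pow_add, pow_mul, pow_mul _ (M*p)]
      calc _ = f (MvPolynomial.X 0) ^ d0 * f (MvPolynomial.X 1) ^ d1 * f (MvPolynomial.X 2) ^ d2 * ((f (MvPolynomial.X 1)) ^ (M * (p + D' * g)) * (f (MvPolynomial.X 2)) ^ (M * p)) ^ i := by ring
        _ = _ := by rw [hu, one_pow, mul_one]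

end Groth.Agent.S15739
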