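import Groth.Statements.S1574
import Groth.Agent.S1573
import Mathlib.AlgebraicGeometry.Morphisms.Separated
import Mathlib.AlgebraicGeometry.Morphisms.Affine
import Mathlib.RingTheory.Ideal.Height

set_option autoImplicit false
universe u
open CategoryTheory CategoryTheory.Limits AlgebraicGeometry
open Divisors

namespace Groth.Agent.S1574

/-- For a Noetherian local ring A, the punctured spectrum (Spec A minus the closed point, as an open
subscheme) is affine if and only if dim A ≤ 1. -/
theorem result (A : Type u) [CommRing A] [IsLocalRing A] [IsNoetherianRing A] :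
    IsAffine (FEt.puncturedSpec A : Scheme.{u}) ↔ ringKrullDim A ≤ 1 := by
  classical
  have hmax : ∀ y : Spec (CommRingCat.of A), y ∉ FEt.puncturedSpec A → y = IsLocalRing.closedPoint A := fun y hy =>
    not_not.mp hy
  have hcl : IsLocalRing.closedPoint A ∉ FEt.puncturedSpec A := fun h => h rfl
  constructor
  · intro hU
    haveI := hU
    haveI : IsNoetherianRing (CommRingCat.of A) := ‹IsNoetherianRing A›
    haveI : IsAffineHom (FEt.puncturedSpec A).ι := isAffineHom_of_isAffine _
    have h := (Groth.Agent.S1573.result (Spec (CommRingCat.of A)) (FEt.puncturedSpec A) (IsLocalRing.closedPoint A) hcl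
      (fun y hy _ => hmax y hy)).1
    letI : Algebra A ((Spec (CommRingCat.of A)).presheaf.stalk (IsLocalRing.closedPoint A)) :=
      StructureSheaf.stalkAlgebra (CommRingCat.of A) (IsLocalRing.closedPoint A)
    haveI : IsLocalization.AtPrime ((Spec (CommRingCat.of A)).presheaf.stalk (IsLocalRing.closedPoint A)) (IsLocalRing.maximalIdeal A) :=
      StructureSheaf.IsLocalization.to_stalk (CommRingCat.of A) (IsLocalRing.closedPoint A)
    rw [IsLocalization.AtPrime.ringKrullDim_eq_height (IsLocalRing.maximalIdeal A)] at h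
    rwa [← IsLocalRing.maximalIdeal_height_eq_ringKrullDim]
  · intro h
    obtain ⟨x, hxm, hx⟩ : ∃ x ∈ IsLocalRing.maximalIdeal A, ∀ p ∈ minimalPrimes A, p ≠ IsLocalRing.maximalIdeal A → x ∉ p := by
      let T : Finset (Ideal A) := (minimalPrimes.finite_of_isNoetherianRing A).toFinset.erase (IsLocalRing.maximalIdeal A)
      have hnle : ¬ (IsLocalRing.maximalIdeal A : Set A) ⊆ ⋃ p ∈ (T : Set (Ideal A)), ((id p : Ideal A) : Set A) := by
        intro hsub
        have hT : ∀ p ∈ T, p ≠ ⊤ → p ≠ ⊤ → Ideal.IsPrime (id p : Ideal A) := fun p hp _ _ =>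
          ((Set.Finite.mem_toFinset _).mp (Finset.mem_erase.mp hp).2).1.1
        obtain ⟨p, hp, hle⟩ := (Ideal.subset_union_prime _ _ hT).mp hsub
        exact (Finset.mem_erase.mp hp).1 (((IsLocalRing.maximalIdeal.isMaximal A).eq_of_le
          ((Set.Finite.mem_toFinset _).mp (Finset.mem_erase.mp hp).2).1.1.ne_top hle).symm)
      obtain ⟨x, hxm, hx⟩ := Set.not_subset.mp hnle
      exact ⟨x, hxm, fun p hp hne hxp => hx (Set.mem_iUnion₂.mpr ⟨p, Finset.mem_erase.mpr ⟨hne, (Set.Finite.mem_toFinset _).mpr hp⟩, hxp⟩)⟩
    have he : FEt.puncturedSpec A = (Spec (CommRingCat.of A)).basicOpen ((Scheme.ΓSpecIso (CommRingCat.of A)).inv x) := by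
      rw [basicOpen_eq_of_affine]
      ext p
      constructor
      · intro hp
        change x ∉ p.asIdeal
        haveI := p.isPrime
        have hne : p.asIdeal ≠ IsLocalRing.maximalIdeal A := fun he => hp (PrimeSpectrum.ext he)
        refine hx p.asIdeal ?_ hne
        have hlt : p.asIdeal < IsLocalRing.maximalIdeal A := lt_of_le_of_ne (IsLocalRing.le_maximalIdeal p.isPrime.ne_top) hne
        have h1 := Ideal.height_strict_mono_of_isPrime hlt
        have h2 : (IsLocalRing.maximalIdeal A).height ≤ 1 := by
          rw [← IsLocalRing.maximalIdeal_height_eq_ringKrullDim] at h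
          exact_mod_cast h
        exact Ideal.height_eq_zero_iff.mp (Order.lt_one_iff.mp (h1.trans_le h2))
      · intro hp he
        rw [Set.mem_singleton_iff] at he
        subst he
        exact hp hxm
    rw [he]
    exact (isAffineOpen_top _).basicOpen _

end Groth.Agent.S1574
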