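import Groth.Statements.S15740
import Mathlib.Tactic
import Mathlib.RingTheory.MvPolynomial.Basic
import Mathlib.RingTheory.Ideal.Quotient.Operations
import Mathlib.LinearAlgebra.Basis.Basic
import Mathlib.Data.Matrix.Mul
import Mathlib.NumberTheory.Bernoulli
import Mathlib.RingTheory.PowerSeries.Inverse
import Mathlib.RingTheory.AdicCompletion.Basic
import Mathlib.LinearAlgebra.Matrix.Charpoly.Coeff
import Mathlib.Algebra.Polynomial.Expand
import Mathlib.NumberTheory.Padics.PadicVal.Basic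
import Mathlib.RingTheory.IntegralClosure.IsIntegralClosure.Basic
import Mathlib.GroupTheory.Torsion
import Mathlib.Algebra.MonoidAlgebra.Basic
import Mathlib.RingTheory.Norm.Basic
import Mathlib.LinearAlgebra.Eigenspace.Zero
import Mathlib.RingTheory.LocalRing.ResidueField.Basic
import Mathlib.RingTheory.Artinian.Module
import Mathlib.FieldTheory.IsAlgClosed.Basic
import Mathlib.RingTheory.Ideal.AssociatedPrime.Basic
import Mathlib.RingTheory.Ideal.MinimalPrime.Noetherian
import Mathlib.RingTheory.RegularLocalRing.Defs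
import Mathlib.RingTheory.Ideal.KrullsHeightTheorem
import Mathlib.RingTheory.Nakayama

set_option autoImplicit false
open W4c2invhilbsl2

namespace Groth.Agent.S15740

/-- For a monomial X₀^d₀X₁^d₁X₂^d₂ of the polynomial ring in X₀, X₁, X₂ (X₂ standing for Xⱼ, j = 3 or 4,
of the five-variable ring) put n = d₀ − p·d₁ + q·d₂ (its weight for the torus diag(t, t^(−p), t^q)),
c = d₁ − d₂ and ω = p·d₁ − q·d₂, so that d₀ = n + ω; here 0 < p < q are coprime integers. Suppose n
≥ 0, c > 0 and d₀ < q − p (the last condition says that ω is the least value of ω for the pair (n,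
c)). Then ω ≥ 0 if and only if the remainder of p·c on division by q − p, plus n, is less than q −
p. -/
theorem result (p q : ℕ) (hp : 0 < p) (hpq : p < q) (hcop : Nat.Coprime p q) (d0 d1 d2 : ℕ)
    (hn : 0 ≤ (d0 : ℤ) - (p : ℤ) * d1 + (q : ℤ) * d2) (hc : (d2 : ℤ) < d1) (hd0 : d0 < q - p) :
    0 ≤ (p : ℤ) * d1 - (q : ℤ) * d2 ↔
      Int.emod ((p : ℤ) * ((d1 : ℤ) - d2)) ((q : ℤ) - p) + ((d0 : ℤ) - (p : ℤ) * d1 + (q : ℤ) * d2) < (q : ℤ) - p := by
  have hd : (d0:ℤ) < (q:ℤ) - p := by omega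
  obtain ⟨V, hV⟩ : ∃ V, V = (p : ℤ) * d1 - (q : ℤ) * d2 := ⟨_, rfl⟩
  have h1 : (p : ℤ) * ((d1 : ℤ) - d2) = V + ((q : ℤ) - p) * d2 := by rw [hV]; ring
  have hV' : (d0 : ℤ) - (p : ℤ) * d1 + (q : ℤ) * d2 = d0 - V := by rw [hV]; ring
  rw [hV'] at hn ⊢
  rw [← hV]
  show 0 ≤ V ↔ ((p : ℤ) * ((d1 : ℤ) - d2)) % ((q : ℤ) - p) + _ < _
  rw [h1, Int.add_mul_emod_self_left]
  constructor
  · intro h
    rw [Int.emod_eq_of_lt h (by omega)]; omega
  · intro h
    by_contra hV0
    have h2 := Int.emod_nonneg V (show (q:ℤ) - p ≠ 0 by omega)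
    have h3 : ((q:ℤ) - p) ≤ V % ((q:ℤ) - p) - V := by
      refine Int.le_of_dvd (by omega) ⟨-(V / ((q:ℤ) - p)), ?_⟩
      rw [mul_neg]; have := Int.mul_ediv_add_emod V ((q:ℤ) - p); linarith
    omega

end Groth.Agent.S15740
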