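import Groth.Statements.S15741
import Groth.Agent.Lib.AffHom12.OmegaSect


set_option autoImplicit false
universe u
open CategoryTheory AlgebraicGeometry
open Mor

namespace Groth.Agent.S15741

/-- For a quasi-separated morphism of schemes `f : X ⟶ Y` and affine opens `U ⊆ X`, `V ⊆ Y` with `U ≤
f⁻¹ V`, the canonical `Γ(X, U)`-linear map from the module of Kähler differentials of the ring `Γ(X,
U)` over `Γ(Y, V)` to the sections over `U` of the sheaf of relative differentials of `f` — the map
sending `d b` to `d_{X/Y} b` — is an isomorphism. (Quasi-separatedness of `f` is the standing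
hypothesis under which the sheaf of relative differentials is named in this library; the published
statement is for an arbitrary morphism of schemes.) -/
theorem result (X Y : Scheme.{u}) (f : X ⟶ Y) [QuasiSeparated f]
    (U : X.affineOpens) (V : Y.affineOpens) (h : U.1 ≤ f ⁻¹ᵁ V.1) :
    IsIso (OmAff.toSect f V.1 U.1 h) := by
  let _ : Algebra Γ(Y, V.1) Γ(X, U.1) := (f.appLE V.1 U.1 h).hom.toAlgebra
  obtain ⟨c⟩ := Groth.Agent.AffHom12.nonempty_chart f U.2 V.2 h rfl
  have hW := Groth.Agent.AffHom12.isAffineOpen_WW f U.2 V.2 h rfl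
  let L := (OmAff.toSect f V.1 U.1 h).hom
  have hL : ∀ b, L (KaehlerDifferential.D Γ(Y, V.1) Γ(X, U.1) b) = OmegaSh.dSect f U.1 b :=
    fun b => OmAff.toSect_d f V.1 U.1 h b
  exact (ConcreteCategory.isIso_iff_bijective _).2
    ⟨Groth.Agent.AffHom12.injective_L f U.2 c hW L hL, Groth.Agent.AffHom12.surjective_L f U.2 c hW L hL⟩


end Groth.Agent.S15741
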