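import Groth.Statements.S15745
import Groth.Agent.Lib.Ample18.Sections

set_option autoImplicit false
universe u
open QCohSup

namespace Groth.Agent.S15745

open AlgebraicGeometry in
open CategoryTheory in
/-- Let `X` be a scheme, `L` and `L'` invertible `O_X`-modules, `f` a global section of `L` and `g` a
global section of `L'`. Then the open `X_{f ⊗ g}` where `f ⊗ g` generates `L ⊗ L'` is the
intersection of the open `X_f` where `f` generates `L` and the open `X_g` where `g` generates `L'`.
(The published statement is for a locally ringed space; this row is its case of a scheme.) -/
theorem result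
    (X : Scheme.{u}) (L L' : X.Modules) (hL : PicF.IsInvertible L) (hL' : PicF.IsInvertible L')
    (f : Coh.structureModule X ⟶ L) (g : Coh.structureModule X ⟶ L') :
    CohB1.genLocus (CohB1.tensorMod L L') (SecTwist.tmulHom f g) =
      CohB1.genLocus L f ⊓ CohB1.genLocus L' g := by
  exact Groth.Agent.Amp.genLocus_tmulHom hL hL' f g

end Groth.Agent.S15745
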