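import Groth.Statements.S15747
import Groth.Agent.Lib.PicH1_21.Thickening

set_option autoImplicit false
universe u
open CategoryTheory CategoryTheory.Limits AlgebraicGeometry Opposite
open UnitsSh

namespace Groth.Agent.S15747

/-- Let `X` be a scheme, `J` a quasi-coherent ideal of `O_X` with `J² = 0`, `X₀` the closed subscheme it
cuts out and `i : X₀ ⟶ X` the inclusion. Then there is a morphism of abelian sheaves `J ⟶ O_X^×` on
the underlying space of `X` sending every local section `f` of `J` to the unit `1 + f` (which
determines it), and the sequence `0 ⟶ J ⟶ O_X^× ⟶ i_* O_{X₀}^× ⟶ 0`, whose second map is the units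
map of `i`, is a short exact sequence of abelian sheaves. (The published lemma assumes moreover that
`X` is quasi-compact and separated and that the restriction of global functions `O_X(X) →
O_{X₀}(X₀)` is surjective, and concludes about Picard groups; the exactness of this sequence of
sheaves, proved there stalk by stalk, uses none of these assumptions.) -/
theorem result (X : Scheme.{u}) (J : X.IdealSheafData)
    (hJ : J * J = ⊥) :
    ∃ φ : Coh.toAb (ClSub.idealMod J) ⟶ UnitsSh.unitsAb X,
      (∀ (U : X.Opens) (f : (ClSub.idealMod J).val.obj (op U)),
        (UnitsSh.unitOfSect (φ.hom.app (op U) f)).val =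
          1 + (show X.sheaf.obj.obj (op U) from (ClSub.idealModι J).val.app (op U) f)) ∧
      ∃ w : φ ≫ UnitsSh.comap J.subschemeι = 0,
        (ShortComplex.mk φ (UnitsSh.comap J.subschemeι) w).ShortExact := by
  exact ⟨Groth.Agent.PicH1_21.oneAdd hJ, fun U f => rfl, Groth.Agent.PicH1_21.oneAdd_comap hJ,
    Groth.Agent.PicH1_21.usc_shortExact hJ⟩

end Groth.Agent.S15747
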