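import Groth.Statements.S15749
import Mathlib
import Groth.Agent.Lib.H2Alg.FinAlgClosed

set_option autoImplicit false
universe u
open CAlg

namespace Groth.Agent.S15749
open TensorProduct H2Alg

/-- For an arbitrary commutative ring R, every idempotent of the ring of formal Laurent series R((t)) is
the constant series attached to a unique idempotent of R. Equivalently, the structure map R → R((t))
induces a bijection on idempotents, so that the spectrum of R((t)) is connected if and only if the
spectrum of R is. No reducedness is assumed. -/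
theorem result (R : Type u) [CommRing R]
    (e : LaurentSeries R) (he : IsIdempotentElem e) :
    ∃! r : R, IsIdempotentElem r ∧ HahnSeries.C r = e := by
  have nil : ∀ u : LaurentSeries R, IsIdempotentElem u → (∀ i, IsNilpotent (u.coeff i)) → u = 0 := by
    intro u hu hn
    obtain ⟨N, hN⟩ : ∃ N : ℕ, ∀ i : ℤ, i < -(N : ℤ) → u.coeff i = 0 := by
      refine ⟨(-u.order).toNat, fun i hi => HahnSeries.coeff_eq_zero_of_lt_order ?_⟩
      omega
    set J := Ideal.span (u.coeff '' Set.Icc (-(N : ℤ)) 0)
    have hmul : ∀ n, u.coeff n = ∑ ij ∈ Finset.addAntidiagonal u.isPWO_support u.isPWO_support n, u.coeff ij.1 * u.coeff ij.2 := by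
      intro n
      conv_lhs => rw [← hu.eq]
      exact HahnSeries.coeff_mul
    have hJ : ∀ n : ℤ, u.coeff n ∈ J := by
      have low : ∀ n : ℤ, n ≤ 0 → u.coeff n ∈ J := by
        intro n hn
        by_cases h : n < -(N : ℤ)
        · rw [hN n h]; exact zero_mem _
        · exact Ideal.subset_span ⟨n, ⟨not_lt.1 h, hn⟩, rfl⟩
      have high : ∀ m : ℕ, ∀ n : ℤ, n ≤ m → u.coeff n ∈ J := by
        intro m
        induction m with
        | zero => simpa using low
        | succ m ih =>
          intro n hn
          by_cases h : n ≤ m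
          · exact ih n h
          · rw [hmul]
            refine sum_mem fun ij hij => ?_
            have hs := (Finset.mem_addAntidiagonal.1 hij).2.2
            by_cases h1 : ij.1 ≤ m
            · exact Ideal.mul_mem_right _ _ (ih _ h1)
            · exact Ideal.mul_mem_left _ _ (ih _ (by omega))
      exact fun n => high n.toNat n (Int.self_le_toNat n)
    have hpow : ∀ k : ℕ, ∀ n : ℤ, u.coeff n ∈ J ^ 2 ^ k := by
      intro k
      induction k with
      | zero => simpa using hJ
      | succ k ih =>
        intro n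
        rw [hmul, pow_succ 2, Nat.mul_two, pow_add]
        exact sum_mem fun ij _ => Ideal.mul_mem_mul (ih _) (ih _)
    obtain ⟨M, hM⟩ : IsNilpotent J := by
      rw [Ideal.FG.isNilpotent_iff_le_nilradical (Submodule.fg_span ((Set.finite_Icc _ _).image _)), Ideal.span_le]
      rintro _ ⟨i, -, rfl⟩
      exact hn i
    ext n
    have := Ideal.pow_le_pow_right (Nat.le_of_lt (Nat.lt_two_pow_self (n := M))) (hpow M n)
    rw [hM] at this
    simpa using this
  -- the idempotent constant
  have hp : ∀ (P : Ideal R) [P.IsPrime], (HahnSeries.map e (Ideal.Quotient.mk P) = (0 : LaurentSeries (R ⧸ P)))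
      ∨ (HahnSeries.map e (Ideal.Quotient.mk P) = (1 : LaurentSeries (R ⧸ P))) := by
    intro P _
    have : IsIdempotentElem (HahnSeries.map e (Ideal.Quotient.mk P) : LaurentSeries (R ⧸ P)) := by
      have h := HahnSeries.map_mul (x := e) (y := e) (Ideal.Quotient.mk P : R →ₙ+* R ⧸ P)
      rw [he.eq] at h
      exact h.symm
    exact IsIdempotentElem.iff_eq_zero_or_one.1 this
  have hr : IsIdempotentElem (Ideal.Quotient.mk (nilradical R) (e.coeff 0)) := by
    rw [IsIdempotentElem, ← map_mul, Ideal.Quotient.eq, nilradical_eq_sInf, Submodule.mem_sInf]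
    intro P hP
    have : Ideal.IsPrime P := hP
    rw [← Ideal.Quotient.eq, map_mul]
    rcases hp P with h | h <;>
    · have h0 := congrArg (fun s => HahnSeries.coeff s (0 : ℤ)) h
      simp at h0
      rw [h0]
      simp
  obtain ⟨r, hrid, hr'⟩ := exists_isIdempotentElem_eq_of_ker_isNilpotent (Ideal.Quotient.mk (nilradical R))
    (fun x hx => mem_nilradical.1 (Ideal.Quotient.eq_zero_iff_mem.1 hx)) _ ⟨e.coeff 0, rfl⟩ hr
  have hC : IsIdempotentElem (HahnSeries.C r : LaurentSeries R) := hrid.map HahnSeries.C
  have key : ∀ x y : LaurentSeries R, IsIdempotentElem x → IsIdempotentElem y →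
      (∀ (P : Ideal R) [P.IsPrime], (HahnSeries.map x (Ideal.Quotient.mk P) : LaurentSeries (R ⧸ P)) = HahnSeries.map y (Ideal.Quotient.mk P)) →
      x * (1 - y) = 0 := by
    intro x y hx hy h
    refine nil _ (hx.mul hy.one_sub) fun i => ?_
    rw [← mem_nilradical, nilradical_eq_sInf, Submodule.mem_sInf]
    intro P hP
    have : Ideal.IsPrime P := hP
    rw [← Ideal.Quotient.eq_zero_iff_mem]
    have e1 : (x * (1 - y)) = x - x * y := by ring
    have e2 : (HahnSeries.map (x * y) (Ideal.Quotient.mk P : R →ₙ+* R ⧸ P) : LaurentSeries (R ⧸ P)) = HahnSeries.map x (Ideal.Quotient.mk P : R →ₙ+* R ⧸ P) := by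
      rw [HahnSeries.map_mul]
      conv_rhs => rw [← hx.eq, HahnSeries.map_mul]
      exact congrArg (HahnSeries.map x (Ideal.Quotient.mk P : R →ₙ+* R ⧸ P) * ·) (h P).symm
    have e3 := congrArg (fun s => HahnSeries.coeff s i) e2
    simp only [HahnSeries.map_coeff] at e3
    rw [e1, HahnSeries.coeff_sub, map_sub, sub_eq_zero]
    exact e3.symm
  have agree : ∀ (P : Ideal R) [P.IsPrime], (HahnSeries.map e (Ideal.Quotient.mk P) : LaurentSeries (R ⧸ P)) = HahnSeries.map (HahnSeries.C r) (Ideal.Quotient.mk P) := by
    intro P hP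
    rw [HahnSeries.map_C]
    have h1 : Ideal.Quotient.mk P r = Ideal.Quotient.mk P (e.coeff 0) := by
      rw [Ideal.Quotient.eq] at hr' ⊢
      exact nilradical_le_prime P hr'
    rcases hp P with h | h <;>
    · have h0 := congrArg (fun s => HahnSeries.coeff s (0 : ℤ)) h
      simp at h0
      rw [h, h1, h0]
      simp
  have h1 := key e _ he hC agree
  have h2 := key _ e hC he fun P _ => (agree P).symm
  rw [mul_sub, mul_one, sub_eq_zero] at h1 h2
  refine ⟨r, ⟨hrid, h2.trans (by rw [mul_comm, ← h1])⟩, fun s hs => ?_⟩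
  apply HahnSeries.C_injective (Γ := ℤ)
  rw [hs.2]
  exact h1.trans (by rw [mul_comm, ← h2])

end Groth.Agent.S15749
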