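import Groth.Statements.S15750
import Mathlib

set_option autoImplicit false
universe u
open CAlg

namespace Groth.Agent.S15750

theorem lead (R : Type u) [CommRing R] (f g : LaurentSeries R) (hfg : f * g = 1)
    (p : Ideal R) [p.IsPrime] :
    ∃ n : ℤ, (∀ m < n, f.coeff m ∈ p) ∧ (∀ m < -n, g.coeff m ∈ p) ∧
      f.coeff n * g.coeff (-n) - 1 ∈ p := by
  let F : LaurentSeries (R ⧸ p) := f.map (Ideal.Quotient.mk p)
  let G : LaurentSeries (R ⧸ p) := g.map (Ideal.Quotient.mk p)
  have hF : ∀ m, F.coeff m = Ideal.Quotient.mk p (f.coeff m) := fun m => rfl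
  have hG : ∀ m, G.coeff m = Ideal.Quotient.mk p (g.coeff m) := fun m => rfl
  have hFG : F * G = 1 := by
    have := HahnSeries.map_mul (Ideal.Quotient.mk p : R →ₙ+* R ⧸ p) (x := f) (y := g)
    rw [hfg] at this
    refine this.symm.trans ?_
    ext m
    show (Ideal.Quotient.mk p) ((1 : LaurentSeries R).coeff m) = _
    rw [HahnSeries.coeff_one, HahnSeries.coeff_one, apply_ite (Ideal.Quotient.mk p), map_one, map_zero]
  have hF0 : F ≠ 0 := fun h => by rw [h, zero_mul] at hFG; exact zero_ne_one hFG
  have hG0 : G ≠ 0 := fun h => by rw [h, mul_zero] at hFG; exact zero_ne_one hFG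
  have ho : F.order + G.order = 0 := by
    rw [← HahnSeries.order_mul hF0 hG0, hFG, HahnSeries.order_one]
  refine ⟨F.order, fun m hm => ?_, fun m hm => ?_, ?_⟩
  · rw [← Ideal.Quotient.eq_zero_iff_mem, ← hF]; exact HahnSeries.coeff_eq_zero_of_lt_order hm
  · rw [← Ideal.Quotient.eq_zero_iff_mem, ← hG]
    exact HahnSeries.coeff_eq_zero_of_lt_order (by omega)
  · have h1 := HahnSeries.coeff_mul_order_add_order F G
    rw [hFG, ho, HahnSeries.coeff_one, if_pos rfl, HahnSeries.leadingCoeff_eq,
      HahnSeries.leadingCoeff_eq, show G.order = -F.order by omega, hF, hG] at h1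
    rw [← Ideal.Quotient.mk_eq_mk_iff_sub_mem, map_mul, map_one, ← h1]

theorem main (R : Type u) [CommRing R]
    [IsReduced R] [Nontrivial R] (hconn : ∀ e : R, IsIdempotentElem e → e = 0 ∨ e = 1)
    (F g : LaurentSeries R) (hfg : F * g = 1) :
    ∃! p : ℤ × (PowerSeries R)ˣ,
      F = HahnSeries.single p.1 (1 : R) * HahnSeries.ofPowerSeries ℤ R (p.2 : PowerSeries R) := by
  have hL := lead R F g hfg
  obtain ⟨p0, hp0⟩ := Ideal.exists_maximal R
  obtain ⟨n, -, -, hn0⟩ := hL p0
  have hkey : ∀ (p : Ideal R) [p.IsPrime], ∀ m, ∀ k, (∀ m < k, F.coeff m ∈ p) → (∀ m < -k, g.coeff m ∈ p) →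
      m ≠ k → F.coeff m * g.coeff (-m) ∈ p := by
    intro p _ m k hf hg hm
    rcases lt_or_gt_of_ne hm with h | h
    · exact p.mul_mem_right _ (hf m h)
    · exact p.mul_mem_left _ (hg _ (by omega))
  set e := F.coeff n * g.coeff (-n)
  have he : e = 1 := by
    have hid : IsIdempotentElem e := by
      show e * e = e
      rw [← sub_eq_zero]
      refine IsReduced.eq_zero _ (nilpotent_iff_mem_prime.mpr fun p hp => ?_)
      obtain ⟨k, hf, hg, hk⟩ := @hL p hp
      rw [show e * e - e = e * (e - 1) by ring]
      rcases eq_or_ne n k with rfl | hne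
      · exact p.mul_mem_left _ hk
      · exact p.mul_mem_right _ (hkey p n k hf hg hne)
    rcases hconn e hid with h | h
    · rw [h, zero_sub, neg_mem_iff] at hn0
      exact absurd hn0 ((Ideal.ne_top_iff_one _).mp hp0.ne_top)
    · exact h
  have hfn : IsUnit (F.coeff n) := IsUnit.of_mul_eq_one _ he
  have hlow : ∀ m < n, F.coeff m = 0 := by
    intro m hm
    refine IsReduced.eq_zero _ (nilpotent_iff_mem_prime.mpr fun p hp => ?_)
    obtain ⟨k, hf, hg, -⟩ := hL p
    rcases eq_or_ne n k with rfl | hne
    · exact hf m hm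
    · exact absurd (hkey p n k hf hg hne) (by rw [show F.coeff n * g.coeff (-n) = 1 from he]; exact (Ideal.ne_top_iff_one _).mp hp.ne_top)
  have coeffmul : ∀ (a : ℤ) (u : PowerSeries R) (m : ℤ),
      (HahnSeries.single a (1 : R) * HahnSeries.ofPowerSeries ℤ R u).coeff m =
        if m < a then 0 else PowerSeries.coeff (m - a).toNat u := by
    intro a u m
    rw [HahnSeries.coeff_single_mul, one_mul]
    split_ifs with h
    · rw [HahnSeries.ofPowerSeries_apply, HahnSeries.embDomain_notin_range]
      simp only [Set.mem_range, not_exists]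
      intro x hx
      simp at hx
      omega
    · obtain ⟨j, hj⟩ := Int.eq_ofNat_of_zero_le (a := m - a) (by omega)
      rw [hj]
      simp
  let U : PowerSeries R := PowerSeries.mk fun i => F.coeff (n + i)
  have hU : IsUnit U := by
    rw [PowerSeries.isUnit_iff_constantCoeff]; simpa [U] using hfn
  refine ⟨(n, hU.unit), ?_, ?_⟩
  · ext m
    rw [coeffmul]
    dsimp only
    split_ifs with h
    · exact hlow m h
    · rw [IsUnit.unit_spec]
      simp only [U, PowerSeries.coeff_mk]
      congr 1; omega
  · rintro ⟨a, u⟩ hau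
    dsimp at hau
    have hc : ∀ m, F.coeff m = if m < a then 0 else PowerSeries.coeff (m - a).toNat (u : PowerSeries R) := by
      intro m; rw [hau, coeffmul]
    have ha : a = n := by
      have hu0 : IsUnit (F.coeff a) := by
        rw [hc a, if_neg (lt_irrefl a), sub_self, Int.toNat_zero, PowerSeries.coeff_zero_eq_constantCoeff_apply]
        exact PowerSeries.isUnit_iff_constantCoeff.mp u.isUnit
      rcases lt_trichotomy a n with h | h | h
      · rw [hlow a h] at hu0; exact absurd hu0 not_isUnit_zero
      · exact h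
      · rw [hc n, if_pos h] at hfn; exact absurd hfn not_isUnit_zero
    subst ha
    refine Prod.ext rfl (Units.ext ?_)
    ext i
    rw [IsUnit.unit_spec]
    simp only [U, PowerSeries.coeff_mk, hc, if_neg (by omega : ¬ a + (i:ℤ) < a)]
    simp

/-- Let R be a nonzero reduced commutative ring with no idempotents other than 0 and 1. Then every unit
of the Laurent series ring R((t)) is t^n · u for a unique integer n and a unique unit u of the power
series ring R[[t]]. (The published statement is for an arbitrary torus T over a reduced ring R, with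
n replaced by a locally constant integer-valued function on Spec R, i.e. a point of the cocharacter
lattice; this row is the case where T is the multiplicative group and Spec R is connected, to which
the published proof reduces.) -/
theorem result (R : Type u) [CommRing R]
    [IsReduced R] [Nontrivial R] (hconn : ∀ e : R, IsIdempotentElem e → e = 0 ∨ e = 1)
    (f : (LaurentSeries R)ˣ) :
    ∃! p : ℤ × (PowerSeries R)ˣ,
      (f : LaurentSeries R) = HahnSeries.single p.1 (1 : R) * HahnSeries.ofPowerSeries ℤ R (p.2 : PowerSeries R) := by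
  exact main R hconn _ _ f.mul_inv

end Groth.Agent.S15750
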