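import Groth.Statements.S15773
-- Template for statement S15773 (row 15772; see the milestone table for weights).
-- Copy to Groth/Agent/S15773.lean and replace the sorry. The statement below is byte-identical to the frozen
-- statement CAlg.GrothFrozen.S15773 (Groth/Statements/S15773.lean; the theorem CAlg.ideals_avoiding_specialFibre_polynomial_inv_equiv_henselianLaurent);
-- the grader kernel-checks Groth.Agent.S15773.result against that frozen type. Keep the theorem IN THIS FILE
-- (a `result` declared elsewhere and merely imported here is not credited); helpers may live anywhere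
-- under Groth/Agent/.
import Mathlib
import Groth.Agent.Lib.DenseProj.HWeier

set_option autoImplicit false
universe u
open Polynomial
open CAlg

namespace Groth.Agent.S15773
open Polynomial
open CAlg

open Groth.Agent.DenseProj IsLocalRing

/-- For a Henselian local ring (R, m), a henselization B of R[t] along (t), L = B[1/t] and the R-algebra
map ψ : R[s] → L sending s to t⁻¹, extension and contraction along ψ are mutually inverse bijections
between the ideals of R[s] comaximal with mR[s] and the ideals of L comaximal with mL, and R[s]/I →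
L/IL is bijective for every such I. (The published statement is phrased with closed subschemes of
Spec R[t⁻¹] and of Spec L not meeting the residue fibre, matched by base change and schematic image,
and treats the localisation (R[t]_{1+tR[t]})[1/t] alongside R{t}[1/t]; this row states it with
ideals and includes the bijection of the corresponding quotient rings.) -/
theorem result (R : Type u) [CommRing R]
    [HenselianLocalRing R] (B : Type u) [CommRing B] [Algebra R B] [Algebra R[X] B] [IsScalarTower R R[X] B]
    (hB : Hens2.IsPairHenselization R[X] (Ideal.span {(X : R[X])}) B)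
    (ψ : R[X] →ₐ[R] Localization.Away (algebraMap R[X] B X))
    (hψ : ψ X * algebraMap B (Localization.Away (algebraMap R[X] B X)) (algebraMap R[X] B X) = 1) :
    (∀ I : Ideal R[X], I ⊔ (IsLocalRing.maximalIdeal R).map (algebraMap R R[X]) = ⊤ →
        (I.map ψ.toRingHom).comap ψ.toRingHom = I ∧
        I.map ψ.toRingHom ⊔ (IsLocalRing.maximalIdeal R).map
          (algebraMap R (Localization.Away (algebraMap R[X] B X))) = ⊤ ∧
        Function.Bijective (Ideal.quotientMap (I.map ψ.toRingHom) ψ.toRingHom Ideal.le_comap_map)) ∧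
    (∀ J : Ideal (Localization.Away (algebraMap R[X] B X)),
        J ⊔ (IsLocalRing.maximalIdeal R).map (algebraMap R (Localization.Away (algebraMap R[X] B X))) = ⊤ →
        (J.comap ψ.toRingHom).map ψ.toRingHom = J ∧
        J.comap ψ.toRingHom ⊔ (IsLocalRing.maximalIdeal R).map (algebraMap R R[X]) = ⊤) := by
  obtain ⟨ρ, hρ⟩ := exists_psi hB
  let L := Localization.Away (algebraMap R[X] B X)
  let xL : L := algebraMap B L (algebraMap R[X] B X)
  let al : R[X] →ₐ[R] L := (IsScalarTower.toAlgHom R B L).comp (IsScalarTower.toAlgHom R R[X] B)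
  have hxu : IsUnit xL := IsLocalization.Away.algebraMap_isUnit _
  -- reflection
  have hrefl : ∀ (q : R[X]) (N : ℕ), q.natDegree ≤ N → ψ q * xL ^ N = al (reflect N q) := by
    intro q N hN
    refine Polynomial.induction_with_natDegree_le (fun q => ψ q * xL ^ N = al (reflect N q)) N ?_ ?_ ?_ q hN
    · simp
    · intro n r _ hn
      rw [reflect_C_mul_X_pow, revAt_le hn, map_mul, map_mul, map_pow, map_pow, ← Polynomial.algebraMap_eq,
        AlgHom.commutes, AlgHom.commutes, mul_assoc]
      congr 1
      show ψ X ^ n * xL ^ N = xL ^ (N - n)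
      conv_lhs => rw [show N = n + (N - n) by omega, pow_add, ← mul_assoc, ← mul_pow, hψ, one_pow, one_mul]
    · intro a b _ _ ha hb
      rw [map_add, add_mul, ha, hb, reflect_add, map_add]
  have hmap : ((maximalIdeal R).map (algebraMap R R[X])).map ψ.toRingHom = (maximalIdeal R).map (algebraMap R L) := by
    rw [Ideal.map_map]
    congr 1
    exact ψ.comp_algebraMap
  have part1 : ∀ I : Ideal R[X], I ⊔ (maximalIdeal R).map (algebraMap R R[X]) = ⊤ →
      (I.map ψ.toRingHom).comap ψ.toRingHom = I ∧
      Function.Surjective (Ideal.quotientMap (I.map ψ.toRingHom) ψ.toRingHom Ideal.le_comap_map) := by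
    intro I hI
    obtain ⟨q0, hq0, μ, hμ, hsum⟩ := Submodule.mem_sup.1 (hI ▸ Submodule.mem_top : (1 : R[X]) ∈ _)
    rw [Polynomial.algebraMap_eq, Ideal.mem_map_C_iff] at hμ
    have hc0 : IsUnit (q0.coeff 0) := by
      have : q0.coeff 0 = μ.coeff 0 * (-1) + 1 := by
        rw [show q0 = 1 - μ by rw [← hsum]; ring, coeff_sub, coeff_one_zero]; ring
      rw [this]
      exact Ideal.mem_jacobson_bot.1 (IsLocalRing.maximalIdeal_le_jacobson ⊥ (hμ 0)) (-1)
    obtain ⟨c, hc⟩ := hc0.exists_left_inv
    obtain ⟨q1, hq1⟩ : (X : R[X]) ∣ 1 - Polynomial.C c * q0 := X_dvd_iff.2 (by simp [hc])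
    -- `q1` inverts `X` modulo `I`
    have hXq : X * q1 - 1 ∈ I := by
      rw [← hq1, sub_sub_cancel_left]
      exact neg_mem (I.mul_mem_left _ hq0)
    let N := q0.natDegree
    let Q := Polynomial.C c * reflect N q0
    have hQle : Q.natDegree ≤ N :=
      (natDegree_C_mul_le _ _).trans (natDegree_reflect_le.trans (max_le le_rfl le_rfl))
    have hQN : Q.coeff N = 1 := by rw [coeff_C_mul, coeff_reflect, revAt_le le_rfl, Nat.sub_self, hc]
    have hQm : Q.Monic := monic_of_natDegree_le_of_coeff_eq_one N hQle hQN
    have hQd : Q.natDegree = N := le_antisymm hQle (le_natDegree_of_ne_zero (by rw [hQN]; exact one_ne_zero))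
    have hQlow : ∀ j < Q.natDegree, Q.coeff j ∈ maximalIdeal R := fun j hj => by
      rw [hQd] at hj
      rw [coeff_C_mul, coeff_reflect, revAt_le hj.le]
      refine Ideal.mul_mem_left _ _ ?_
      rw [show q0 = 1 - μ by rw [← hsum]; ring, coeff_sub, coeff_one, if_neg (by omega), zero_sub]
      exact neg_mem (hμ _)
    have hQI : algebraMap B L (algebraMap R[X] B Q) ∈ I.map ψ.toRingHom := by
      have : algebraMap B L (algebraMap R[X] B Q) = al (Polynomial.C c) * (ψ q0 * xL ^ N) := by
        rw [hrefl q0 N le_rfl, ← map_mul]; rfl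
      rw [this]
      exact Ideal.mul_mem_left _ _ (Ideal.mul_mem_right _ _ (Ideal.mem_map_of_mem ψ.toRingHom hq0))
    obtain ⟨hqi, hqs⟩ := quotient_bijective hB Q hQm hQlow
    have hx1 : xL - ψ q1 ∈ I.map ψ.toRingHom := by
      have h1 : xL - ψ q1 = -xL * ψ (X * q1 - 1) := by
        rw [map_sub, map_mul, map_one]
        linear_combination (ψ q1) * hψ
      rw [h1]
      exact Ideal.mul_mem_left _ _ (Ideal.mem_map_of_mem ψ.toRingHom hXq)
    -- everything is in the image modulo `I`
    have hsurj : ∀ l : L, ∃ q : R[X], l - ψ q ∈ I.map ψ.toRingHom := by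
      intro l
      obtain ⟨n, b, hb⟩ := IsLocalization.Away.surj (algebraMap R[X] B X) l
      obtain ⟨p, hp⟩ := hqs (Ideal.Quotient.mk _ b)
      obtain ⟨p, rfl⟩ := Ideal.Quotient.mk_surjective p
      rw [Ideal.quotientMap_mk, Ideal.Quotient.eq, Ideal.mem_span_singleton] at hp
      obtain ⟨w, hw⟩ := hp
      refine ⟨aeval q1 p * X ^ n, ?_⟩
      have h2 : algebraMap B L b - al p ∈ I.map ψ.toRingHom := by
        have : algebraMap B L b - al p = -(algebraMap B L (algebraMap R[X] B Q) * algebraMap B L w) := by
          rw [← map_mul, ← hw, map_sub, neg_sub]; rfl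
        rw [this]
        exact neg_mem (Ideal.mul_mem_right _ _ hQI)
      have h3 : al p - ψ (aeval q1 p) ∈ I.map ψ.toRingHom := by
        rw [← Ideal.Quotient.eq]
        let mk' := Ideal.Quotient.mkₐ R (I.map ψ.toRingHom)
        have hal : al p = aeval xL p := by
          conv_lhs => rw [← Polynomial.aeval_X_left_apply p, ← Polynomial.aeval_algHom_apply]
          rfl
        show mk' (al p) = mk' (ψ (aeval q1 p))
        rw [hal, ← Polynomial.aeval_algHom_apply ψ, ← Polynomial.aeval_algHom_apply mk', ← Polynomial.aeval_algHom_apply mk']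
        exact congrArg (fun z => aeval z p) (Ideal.Quotient.eq.2 hx1)
      have hl : l = algebraMap B L b * ψ X ^ n := by
        rw [← hb, mul_assoc, ← mul_pow]
        show l = l * (xL * ψ X) ^ n
        rw [mul_comm xL, hψ, one_pow, mul_one]
      have h4 := Ideal.mul_mem_right (ψ X ^ n) _ (add_mem h2 h3)
      rw [sub_add_sub_cancel, sub_mul, ← hl, ← map_pow, ← map_mul] at h4
      exact h4
    refine ⟨le_antisymm (fun y hy => ?_) Ideal.le_comap_map, fun z => ?_⟩
    · -- the retraction `L → R[X]/I`
      let π := Ideal.Quotient.mkₐ R I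
      have hQ0 : aeval (π q1) Q = 0 := by
        have h5 : π X * π q1 = 1 := by
          rw [← map_mul, ← map_one π]
          exact Ideal.Quotient.eq.2 hXq
        let inv : Invertible (π X) := ⟨π q1, (mul_comm _ _).trans h5, h5⟩
        have h6 : eval₂ (algebraMap R _) (π q1) (reflect N q0) * π X ^ N =
            eval₂ (algebraMap R _) (π X) q0 := eval₂_reflect_mul_pow (algebraMap R _) (π X) N q0 le_rfl
        have h7 : eval₂ (algebraMap R (R[X] ⧸ I)) (π X) q0 = π q0 := by
          rw [← aeval_def, aeval_algHom_apply, aeval_X_left_apply]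
        have h8 : (π X ^ N) * π q1 ^ N = 1 := by rw [← mul_pow, h5, one_pow]
        have h9 : π q0 = 0 := Ideal.Quotient.eq_zero_iff_mem.2 hq0
        rw [map_mul, aeval_C, aeval_def (p := reflect N q0)]
        rw [h7, h9] at h6
        linear_combination (algebraMap R (R[X] ⧸ I) c * π q1 ^ N) * h6 -
          (algebraMap R (R[X] ⧸ I) c * eval₂ (algebraMap R _) (π q1) (reflect N q0)) * h8
      let ev : R[X] ⧸ Ideal.span {Q} →+* R[X] ⧸ I := Ideal.Quotient.lift _ (aeval (π q1)).toRingHom
        fun p hp => by
          obtain ⟨y, rfl⟩ := Ideal.mem_span_singleton.1 hp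
          show aeval (π q1) (Q * y) = 0
          rw [map_mul, hQ0, zero_mul]
      let eB := RingEquiv.ofBijective _ (quotient_bijective hB Q hQm hQlow)
      let gB : B →+* R[X] ⧸ I := ev.comp (eB.symm.toRingHom.comp (Ideal.Quotient.mk _))
      have hgB : ∀ p : R[X], gB (algebraMap R[X] B p) = aeval (π q1) p := by
        intro p
        show ev (eB.symm (Ideal.Quotient.mk _ (algebraMap R[X] B p))) = _
        rw [show eB.symm (Ideal.Quotient.mk _ (algebraMap R[X] B p)) = Ideal.Quotient.mk _ p from
          eB.symm_apply_apply (Ideal.Quotient.mk _ p)]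
        rfl
      have hu : IsUnit (gB (algebraMap R[X] B X)) := by
        rw [hgB, aeval_X]
        refine IsUnit.of_mul_eq_one (π X) ?_
        rw [← map_mul, mul_comm, ← map_one π]
        exact Ideal.Quotient.eq.2 hXq
      let gL : L →+* R[X] ⧸ I := IsLocalization.Away.lift (algebraMap R[X] B X) hu
      have hgL : ∀ b : B, gL (algebraMap B L b) = gB b := fun b => IsLocalization.Away.lift_eq _ hu b
      have hcomp : gL.comp ψ.toRingHom = Ideal.Quotient.mk I := by
        refine Polynomial.ringHom_ext (fun r => ?_) ?_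
        · show gL (ψ (algebraMap R R[X] r)) = _
          rw [AlgHom.commutes, IsScalarTower.algebraMap_apply R B L, hgL, IsScalarTower.algebraMap_apply R R[X] B,
            hgB, AlgHom.commutes]
          rfl
        · show gL (ψ X) = π X
          have h10 := congrArg gL hψ
          rw [map_mul, hgL, hgB, aeval_X, map_one] at h10
          have h5 : π X * π q1 = 1 := by
            rw [← map_mul, ← map_one π]
            exact Ideal.Quotient.eq.2 hXq
          linear_combination (π X) * h10 - gL (ψ X) * h5
      rw [← Ideal.Quotient.eq_zero_iff_mem, ← hcomp]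
      have : I.map ψ.toRingHom ≤ RingHom.ker gL := Ideal.map_le_iff_le_comap.2 fun a ha => by
        rw [Ideal.mem_comap, RingHom.mem_ker]
        exact (congr($hcomp a) : _).trans (Ideal.Quotient.eq_zero_iff_mem.2 ha)
      exact this hy
    · obtain ⟨z, rfl⟩ := Ideal.Quotient.mk_surjective z
      obtain ⟨q, hq⟩ := hsurj z
      exact ⟨Ideal.Quotient.mk I q, by rw [Ideal.quotientMap_mk]; exact (Ideal.Quotient.eq.2 hq).symm⟩
  refine ⟨fun I hI => ⟨(part1 I hI).1, ?_, Ideal.quotientMap_injective' (part1 I hI).1.le, (part1 I hI).2⟩,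
    fun J hJ => ?_⟩
  · rw [← hmap, ← Ideal.map_sup, hI, Ideal.map_top]
  · have htop : J.comap ψ.toRingHom ⊔ (maximalIdeal R).map (algebraMap R R[X]) = ⊤ := by
      obtain ⟨j, hj, μ, hμ, hsum⟩ := Submodule.mem_sup.1 (hJ ▸ Submodule.mem_top : (1 : L) ∈ _)
      rw [IsScalarTower.algebraMap_eq R B L, ← Ideal.map_map,
        IsLocalization.mem_map_algebraMap_iff (Submonoid.powers (algebraMap R[X] B X))] at hμ
      obtain ⟨⟨⟨c, hc⟩, ⟨_, a, rfl⟩⟩, hca⟩ := hμ
      simp only at hca
      have hb : algebraMap R[X] B X ^ a - c - algebraMap R[X] B X ^ a ∈ (maximalIdeal R).map (cB R B) := by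
        rw [sub_sub_cancel_left, cB_eq]; exact neg_mem hc
      obtain ⟨Q, u, hQ, hQd, hlow, hQu⟩ := exists_weierstrass hB ρ hρ _ a hb
      have hbJ : algebraMap B L (algebraMap R[X] B Q) ∈ J := by
        have h1 : algebraMap B L (algebraMap R[X] B Q) = j * (xL ^ a * algebraMap B L ((u⁻¹ : Bˣ) : B)) := by
          have h2 := congrArg (algebraMap B L) hQu
          rw [map_sub, map_pow, map_mul] at h2
          have h3 : algebraMap B L (u : B) * algebraMap B L ((u⁻¹ : Bˣ) : B) = 1 := by
            rw [← map_mul, Units.mul_inv, map_one]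
          rw [map_pow] at hca
          linear_combination (-(algebraMap B L ((u⁻¹ : Bˣ) : B))) * h2 - algebraMap B L (algebraMap R[X] B Q) * h3
            + (algebraMap B L ((u⁻¹ : Bˣ) : B)) * hca - (xL ^ a * algebraMap B L ((u⁻¹ : Bˣ) : B)) * hsum
        rw [h1]
        exact Ideal.mul_mem_right _ _ hj
      let q := reflect a Q
      have hq : ψ q * xL ^ a = algebraMap B L (algebraMap R[X] B Q) := by
        rw [hrefl q a (natDegree_reflect_le.trans (max_le le_rfl hQd.le)), reflect_reflect]; rfl
      have hqJ : q ∈ J.comap ψ.toRingHom := by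
        show ψ q ∈ J
        have h5 : ψ q = ψ X ^ a * algebraMap B L (algebraMap R[X] B Q) := by
          rw [← hq, mul_comm (ψ q), ← mul_assoc, ← mul_pow, hψ, one_pow, one_mul]
        rw [h5]
        exact J.mul_mem_left _ hbJ
      refine (Ideal.eq_top_iff_one _).2 (Submodule.mem_sup.2 ⟨q, hqJ, 1 - q, ?_, by ring⟩)
      rw [Polynomial.algebraMap_eq, Ideal.mem_map_C_iff]
      intro n
      rw [coeff_sub, coeff_reflect, coeff_one]
      rcases Nat.eq_zero_or_pos n with rfl | hn
      · rw [if_pos rfl, revAt_le (Nat.zero_le _), Nat.sub_zero, ← hQd, hQ.coeff_natDegree, sub_self]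
        exact zero_mem _
      · rw [if_neg (by omega), zero_sub]
        refine neg_mem ?_
        by_cases hna : n ≤ a
        · rw [revAt_le hna]; exact hlow _ (by omega)
        · rw [revAt_eq_self_of_lt (by omega), coeff_eq_zero_of_natDegree_lt (by omega)]
          exact zero_mem _
    refine ⟨le_antisymm Ideal.map_comap_le (fun l hl => ?_), htop⟩
    obtain ⟨q, hq⟩ := (part1 _ htop).2 (Ideal.Quotient.mk _ l)
    obtain ⟨q, rfl⟩ := Ideal.Quotient.mk_surjective q
    rw [Ideal.quotientMap_mk, Ideal.Quotient.eq] at hq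
    have hqJ : ψ q ∈ J := by
      have := add_mem (Ideal.map_comap_le hq) hl
      simpa using this
    have := sub_mem (Ideal.mem_map_of_mem ψ.toRingHom (show q ∈ J.comap ψ.toRingHom from hqJ)) hq
    simpa using this

end Groth.Agent.S15773
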