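import Groth.Statements.S15753
import Mathlib
import Groth.Agent.Lib.DenseProj.InvIdeal
import Groth.Agent.Lib.DenseProj.HWeier
import Groth.Agent.S15773

set_option autoImplicit false
universe u
open Polynomial TensorProduct
open CAlg

namespace Groth.Agent.S15753
open Polynomial TensorProduct
open CAlg

open Groth.Agent.DenseProj IsLocalRing Polynomial TensorProduct

variable {R : Type u} [CommRing R]

theorem mul_eq_zero_of_coeff_zero (q : R[X]) (hq : IsUnit (q.coeff 0)) (x : R[X]) (h : q * x = 0) : x = 0 := by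
  ext n
  rw [coeff_zero]
  induction n using Nat.strong_induction_on with
  | _ n ih =>
    have h1 := congrArg (fun p : R[X] => p.coeff n) h
    simp only [coeff_mul, coeff_zero] at h1
    rw [Finset.sum_eq_single ((0, n) : ℕ × ℕ)] at h1
    · exact hq.mul_right_eq_zero.1 h1
    · rintro ⟨a, b⟩ hab hne
      rw [Finset.HasAntidiagonal.mem_antidiagonal] at hab
      have : a ≠ 0 := fun ha => hne (by subst ha; simp at hab; simp [hab])
      rw [ih b (by simp only at hab; omega), mul_zero]
    · intro hh
      exact absurd (Finset.HasAntidiagonal.mem_antidiagonal.2 (zero_add n)) hh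

theorem isUnit_coeff_zero [IsLocalRing R] (q : R[X]) (hq : 1 - q ∈ (maximalIdeal R).map (algebraMap R R[X])) :
    IsUnit (q.coeff 0) := by
  rw [Polynomial.algebraMap_eq, Ideal.mem_map_C_iff] at hq
  have := Ideal.mem_jacobson_bot.1 (IsLocalRing.maximalIdeal_le_jacobson ⊥ (hq 0)) (-1)
  simpa using this

section algebra

variable {B : Type u} [CommRing B] [Algebra R B] [Algebra R[X] B] [IsScalarTower R R[X] B]
  (hB : Hens2.IsPairHenselization R[X] (Ideal.span {(X : R[X])}) B)
  (ψ : R[X] →ₐ[R] Localization.Away (algebraMap R[X] B X))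
  (hψ : ψ X * algebraMap B (Localization.Away (algebraMap R[X] B X)) (algebraMap R[X] B X) = 1)

local notation "L" => Localization.Away (algebraMap R[X] B Polynomial.X)

include hψ in
theorem psi_reflect (q : R[X]) (N : ℕ) (hN : q.natDegree ≤ N) :
    ψ q * algebraMap B L (algebraMap R[X] B X) ^ N = algebraMap B L (algebraMap R[X] B (reflect N q)) := by
  refine Polynomial.induction_with_natDegree_le (fun q => ψ q * algebraMap B L (algebraMap R[X] B X) ^ N =
    algebraMap B L (algebraMap R[X] B (reflect N q))) N ?_ ?_ ?_ q hN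
  · simp
  · intro n r _ hn
    have hC : ψ (Polynomial.C r) = algebraMap B L (algebraMap R[X] B (Polynomial.C r)) := by
      rw [← Polynomial.algebraMap_eq, AlgHom.commutes, ← IsScalarTower.algebraMap_apply R R[X] B,
        ← IsScalarTower.algebraMap_apply R B L]
    rw [reflect_C_mul_X_pow, revAt_le hn, map_mul, map_mul, map_mul, map_pow, map_pow, map_pow, hC, mul_assoc]
    congr 1
    conv_lhs => rw [show N = n + (N - n) by omega, pow_add, ← mul_assoc, ← mul_pow, hψ, one_pow, one_mul]
  · intro a b _ _ ha hb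
    rw [map_add, add_mul, ha, hb, reflect_add, map_add, map_add]

include hB hψ in
theorem psi_regular (q : R[X]) (hq : IsUnit (q.coeff 0)) (y : L) (h : ψ q * y = 0) : y = 0 := by
  obtain ⟨c, hc⟩ := hq.exists_left_inv
  let Q := Polynomial.C c * reflect q.natDegree q
  have hQm : Q.Monic := by
    refine monic_of_natDegree_le_of_coeff_eq_one q.natDegree
      ((natDegree_C_mul_le _ _).trans (natDegree_reflect_le.trans (max_le le_rfl le_rfl))) ?_
    rw [coeff_C_mul, coeff_reflect, revAt_le le_rfl, Nat.sub_self, hc]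
  haveI := Groth.Agent.Hens.IsPairHenselization.flat hB
  haveI : Module.Flat B L := IsLocalization.flat L (Submonoid.powers (algebraMap R[X] B X))
  haveI : Module.Flat R[X] L := Module.Flat.trans R[X] B L
  have h1 : IsSMulRegular R[X] Q := fun x z hxz => sub_eq_zero.1 (hQm.mul_right_eq_zero_iff.1
    (show Q * (x - z) = 0 by rw [mul_sub, sub_eq_zero]; exact hxz))
  have h2 : IsSMulRegular L (algebraMap R[X] L Q) := h1.of_flat
  refine h2 (show algebraMap R[X] L Q • y = algebraMap R[X] L Q • (0 : L) from ?_)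
  rw [smul_zero, smul_eq_mul, IsScalarTower.algebraMap_apply R[X] B L, map_mul, map_mul,
    ← psi_reflect ψ hψ q _ le_rfl, mul_assoc, mul_right_comm (ψ q), h, zero_mul, mul_zero]

include hB in
theorem isMaximal_mL [HenselianLocalRing R] : ((maximalIdeal R).map (algebraMap R L)).IsMaximal := by
  obtain ⟨ρ, hρ⟩ := exists_psi hB
  rw [IsScalarTower.algebraMap_eq R B L, ← Ideal.map_map, ← cB_eq (R := R) (B := B)]
  set mB := (maximalIdeal R).map (cB R B) with hmB
  rw [Ideal.isMaximal_iff]
  refine ⟨fun h => ?_, fun J l hJ hl hlJ => ?_⟩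
  · rw [← map_one (algebraMap B L),
      IsLocalization.algebraMap_mem_map_algebraMap_iff (Submonoid.powers (algebraMap R[X] B X))] at h
    obtain ⟨_, ⟨a, rfl⟩, ha⟩ := h
    have h2 := coeff_mem_of_mem_map ρ hρ _ ha a
    simp only [mul_one, map_pow, hρ, Polynomial.coe_X, PowerSeries.coeff_X_pow_self] at h2
    exact (IsLocalRing.maximalIdeal.isMaximal R).ne_top ((Ideal.eq_top_iff_one _).2 h2)
  · obtain ⟨n, b, hb⟩ := IsLocalization.Away.surj (algebraMap R[X] B X) l
    have hxu := IsLocalization.Away.algebraMap_isUnit (S := L) (algebraMap R[X] B X)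
    have hbm : b ∉ mB := fun hbm => hl ((Ideal.mul_unit_mem_iff_mem _ (hxu.pow n)).1 (hb ▸ Ideal.mem_map_of_mem _ hbm))
    obtain ⟨k, v, hv, hk⟩ := exists_congr_pow hB ρ hρ b hbm
    have h1 : algebraMap B L (algebraMap R[X] B X ^ k * v) ∈ J := by
      have h2 := hJ (Ideal.mem_map_of_mem (algebraMap B L) hk)
      rw [map_sub, ← hb] at h2
      have := J.sub_mem (J.mul_mem_right (algebraMap B L (algebraMap R[X] B X) ^ n) hlJ) h2
      rwa [sub_sub_cancel] at this
    rw [map_mul, map_pow] at h1
    rw [(J.eq_top_of_isUnit_mem h1 ((hxu.pow k).mul (hv.map _)))]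
    exact Submodule.mem_top

end algebra

theorem main (R : Type u) [CommRing R] [HenselianLocalRing R] [Algebra R[X] (LaurentSeries R)]
    {B : Type u} [CommRing B] [Algebra R[X] B]
    (hB : Hens2.IsPairHenselization R[X] (Ideal.span {(X : R[X])}) B)
    [Algebra R B] [IsScalarTower R R[X] B]
    (ρ : B →+* PowerSeries R) (hρ : ∀ p : R[X], ρ (algebraMap R[X] B p) = (p : PowerSeries R))
    [IsLocalization.Away (ρ (algebraMap R[X] B X)) (LaurentSeries R)]
    (L : Type u) [CommRing L] [Algebra B L] [IsLocalization.Away (algebraMap R[X] B X) L]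
    [algL : Algebra R[X] L] [algLS : Algebra L (LaurentSeries R)]
    (htow : (algebraMap L (LaurentSeries R)).comp (algebraMap R[X] L) = algebraMap R[X] (LaurentSeries R))
    (hφ' : ∀ b : B, algebraMap L (LaurentSeries R) (algebraMap B L b) =
      algebraMap (PowerSeries R) (LaurentSeries R) (ρ b))
    (mL : Ideal L) (hmL : mL.IsMaximal)
    (hmLB : mL = ((maximalIdeal R).map (cB R B)).map (algebraMap B L))
    (hmapN : ((maximalIdeal R).map (algebraMap R R[X])).map (algebraMap R[X] L) = mL)
    (hreg : ∀ (q : R[X]), IsUnit (q.coeff 0) → ∀ y : L, algebraMap R[X] L q * y = 0 → y = 0)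
    (hrefl : ∀ (q : R[X]) (N : ℕ), q.natDegree ≤ N →
      algebraMap R[X] L q * algebraMap B L (algebraMap R[X] B X) ^ N = algebraMap B L (algebraMap R[X] B (reflect N q)))
    (part1 : ∀ I : Ideal R[X], I ⊔ (maximalIdeal R).map (algebraMap R R[X]) = ⊤ →
      (I.map (algebraMap R[X] L)).comap (algebraMap R[X] L) = I)
    (part2 : ∀ J : Ideal L, J ⊔ mL = ⊤ → (J.comap (algebraMap R[X] L)).map (algebraMap R[X] L) = J ∧
      J.comap (algebraMap R[X] L) ⊔ (maximalIdeal R).map (algebraMap R R[X]) = ⊤) :
    (∀ (M : Type u) [AddCommGroup M] [Module R[X] M] [Module.Invertible R[X] M],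
        Module.Free (LaurentSeries R) (LaurentSeries R ⊗[R[X]] M) → Module.Free R[X] M) ∧
    (∀ (L' : Type u) [AddCommGroup L'] [Module (LaurentSeries R) L'] [Module.Invertible (LaurentSeries R) L'],
        ∃ (M : Type u) (_ : AddCommGroup M) (_ : Module R[X] M), Module.Invertible R[X] M ∧
          Nonempty (L' ≃ₗ[LaurentSeries R] LaurentSeries R ⊗[R[X]] M)) := by
  classical
  haveI : IsScalarTower R[X] L (LaurentSeries R) := IsScalarTower.of_algebraMap_eq' htow.symm
  haveI := pairX_henselian hB
  have C := cpl_powerSeries hB ρ hρ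
  let xL : L := algebraMap B L (algebraMap R[X] B X)
  haveI := hmL
  letI := Ideal.Quotient.field mL
  let D := C.dense hφ'
  set N := (maximalIdeal R).map (algebraMap R R[X]) with hN
  let eN : R[X] ⧸ N ≃+* (R ⧸ maximalIdeal R)[X] :=
    ((Ideal.polynomialQuotientEquivQuotientPolynomial (maximalIdeal R)).trans
      (Ideal.quotEquivOfEq (by rw [hN, Polynomial.algebraMap_eq]))).symm
  letI := Ideal.Quotient.field (maximalIdeal R)
  haveI : IsDomain (R[X] ⧸ N) := eN.toMulEquiv.isDomain
  haveI : IsPrincipalIdealRing (R[X] ⧸ N) := IsPrincipalIdealRing.of_surjective eN.symm.toRingHom eN.symm.surjective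
  refine ⟨fun M _ _ _ hfree => ?_, fun L' _ _ _ => ?_⟩
  · obtain ⟨g, hg⟩ := exists_functional (S := R[X]) (M := M) N
    let I : Ideal R[X] := LinearMap.range g
    obtain ⟨q, hqI, μ, hμ, hsum⟩ := Submodule.mem_sup.1 (hg ▸ Submodule.mem_top : (1 : R[X]) ∈ I ⊔ N)
    obtain ⟨x₀, rfl⟩ := hqI
    have hq0 : IsUnit ((g x₀).coeff 0) := isUnit_coeff_zero _ (by rw [← hsum, add_sub_cancel_left]; exact hμ)
    obtain ⟨I', hII', -⟩ := exists_mul_eq_span g x₀
    haveI hIinv : Module.Invertible R[X] I := invertible_of_mul_eq_span (mul_eq_zero_of_coeff_zero _ hq0) hII'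
    haveI : Module.Invertible R[X] (LinearMap.range g) := hIinv
    obtain ⟨eMI⟩ := nonempty_equiv_range g
    let J := I.map (algebraMap R[X] L)
    haveI : Module.Invertible L J := invertible_of_mul_eq_span (I' := I'.map (algebraMap R[X] L))
      (q := algebraMap R[X] L (g x₀)) (fun y => hreg _ hq0 y) (by
      rw [← Ideal.map_mul, hII', Ideal.map_span, Set.image_singleton])
    obtain ⟨eIJ⟩ := nonempty_baseChange_equiv_map (L := L) I
    obtain ⟨e1⟩ := (Module.Invertible.free_iff_linearEquiv (R := LaurentSeries R)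
      (M := LaurentSeries R ⊗[R[X]] M)).1 hfree
    obtain ⟨e2⟩ := D.linearEquiv_descend (L ⊗[R[X]] M) L
      ((AlgebraTensorModule.cancelBaseChange R[X] L (LaurentSeries R) (LaurentSeries R) M).trans
        (e1.trans (AlgebraTensorModule.rid L (LaurentSeries R) (LaurentSeries R)).symm))
    let eJ : J ≃ₗ[L] L :=
      eIJ.symm.trans ((AlgebraTensorModule.congr (LinearEquiv.refl L L) eMI.symm).trans e2)
    let h : J := eJ.symm 1
    have hJh : J = Ideal.span {(h : L)} := by
      refine le_antisymm (fun z hz => Ideal.mem_span_singleton'.2 ⟨eJ ⟨z, hz⟩, ?_⟩)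
        ((Ideal.span_singleton_le_iff_mem _).2 h.2)
      have : eJ ⟨z, hz⟩ • h = ⟨z, hz⟩ := by
        rw [← map_smul, smul_eq_mul, mul_one, LinearEquiv.symm_apply_apply]
      exact congrArg Subtype.val this
    have htop : J ⊔ mL = ⊤ := by
      rw [← hmapN, ← Ideal.map_sup, hg, Ideal.map_top]
    have hhm : (h : L) ∉ mL := fun hh => hmL.ne_top (by
      rwa [hJh, sup_eq_right.2 ((Ideal.span_singleton_le_iff_mem _).2 hh)] at htop)
    obtain ⟨n, b, hb⟩ := IsLocalization.Away.surj (algebraMap R[X] B X) (h : L)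
    have hbm : b ∉ (maximalIdeal R).map (cB R B) := fun hbm => hhm (by
      rw [← Ideal.mul_unit_mem_iff_mem _ ((IsLocalization.Away.algebraMap_isUnit (S := L) (algebraMap R[X] B X)).pow n),
        hb, hmLB]
      exact Ideal.mem_map_of_mem _ hbm)
    obtain ⟨a, v, hv, hk⟩ := exists_congr_pow hB ρ hρ b hbm
    obtain ⟨Q, u, hQ, hQd, hlow, hQu⟩ := exists_weierstrass hB ρ hρ (b * (↑hv.unit⁻¹ : B)) a (by
      have h2 := Ideal.mul_mem_right (↑hv.unit⁻¹ : B) _ hk
      rwa [sub_mul, mul_assoc, IsUnit.mul_val_inv, mul_one] at h2)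
    let p := reflect a Q
    have hp0 : p.coeff 0 = 1 := by
      rw [coeff_reflect, revAt_le (Nat.zero_le _), Nat.sub_zero, ← hQd, hQ.coeff_natDegree]
    have hpN : Ideal.span {p} ⊔ N = ⊤ := by
      refine (Ideal.eq_top_iff_one _).2 (Submodule.mem_sup.2 ⟨p, Ideal.mem_span_singleton_self p, 1 - p, ?_, by ring⟩)
      rw [hN, Polynomial.algebraMap_eq, Ideal.mem_map_C_iff]
      intro j
      rw [coeff_sub, coeff_one]
      rcases Nat.eq_zero_or_pos j with rfl | hj
      · rw [if_pos rfl, hp0, sub_self]; exact zero_mem _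
      · rw [if_neg (by omega), zero_sub, coeff_reflect]
        refine neg_mem ?_
        by_cases hja : j ≤ a
        · rw [revAt_le hja]; exact hlow _ (by omega)
        · rw [revAt_eq_self_of_lt (by omega), coeff_eq_zero_of_natDegree_lt (by omega)]
          exact zero_mem _
    have hJp : J = (Ideal.span {p}).map (algebraMap R[X] L) := by
      rw [Ideal.map_span, Set.image_singleton, hJh]
      have key : Ideal.span {(h : L)} = Ideal.span {algebraMap R[X] L p} := by
        have hxu := IsLocalization.Away.algebraMap_isUnit (S := L) (algebraMap R[X] B X)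
        have h1 : (h : L) * xL ^ n = algebraMap R[X] L p * (xL ^ a * algebraMap B L ((u : B) * v)) := by
          have h2 := hrefl p a (natDegree_reflect_le.trans (max_le le_rfl hQd.le))
          rw [reflect_reflect] at h2
          rw [← mul_assoc, h2, ← map_mul, hb, ← mul_assoc, ← hQu, mul_assoc, IsUnit.val_inv_mul, mul_one]
        have hw : IsUnit (xL ^ a * algebraMap B L ((u : B) * v)) := (hxu.pow a).mul ((u.isUnit.mul hv).map _)
        rw [← Ideal.span_singleton_mul_right_unit (hxu.pow n) (h : L), h1, Ideal.span_singleton_mul_right_unit hw]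
      exact key
    have hIp : I = Ideal.span {p} :=
      ((part1 I hg).symm.trans (congrArg (Ideal.comap (algebraMap R[X] L)) hJp)).trans (part1 _ hpN)
    have hinjp : Function.Injective (LinearMap.toSpanSingleton R[X] R[X] p) := fun x y hxy => sub_eq_zero.1
      (mul_eq_zero_of_coeff_zero p (hp0 ▸ isUnit_one) _ (by
        have hxy' : x * p = y * p := hxy
        linear_combination hxy'))
    exact Module.Free.of_equiv (eMI.trans ((LinearEquiv.ofEq _ _
      (hIp.trans (LinearMap.span_singleton_eq_range R[X] R[X] p))).trans (LinearEquiv.ofInjective _ hinjp).symm)).symm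
  · obtain ⟨M', _, _, _, _, ⟨eM⟩⟩ := C.exists_projective_descend hφ' L'
    obtain ⟨N', _, _, _, _, ⟨eN'⟩⟩ := C.exists_projective_descend hφ' (Module.Dual (LaurentSeries R) L')
    obtain ⟨eT⟩ := D.linearEquiv_descend (M' ⊗[L] N') L
      (((AlgebraTensorModule.distribBaseChange L (LaurentSeries R) M' N').trans
        ((TensorProduct.congr eM eN').trans ((TensorProduct.comm _ _ _).trans
          (Module.Invertible.linearEquiv (LaurentSeries R) L')))).trans
        (AlgebraTensorModule.rid L (LaurentSeries R) (LaurentSeries R)).symm)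
    haveI : Module.Invertible L M' := .left eT
    obtain ⟨g, hg⟩ := exists_functional (S := L) (M := M') mL
    let J : Ideal L := LinearMap.range g
    obtain ⟨hmapJ, htopI⟩ := part2 J hg
    obtain ⟨q, hqI, μ, hμ, hsum⟩ := Submodule.mem_sup.1 (htopI ▸ Submodule.mem_top : (1 : R[X]) ∈ J.comap (algebraMap R[X] L) ⊔ N)
    have hq0 : IsUnit (q.coeff 0) := isUnit_coeff_zero _ (by rw [← hsum, add_sub_cancel_left]; exact hμ)
    obtain ⟨x₀, hx₀⟩ := (hqI : algebraMap R[X] L q ∈ LinearMap.range g)
    obtain ⟨J', hJJ', hqJ'⟩ := exists_mul_eq_span g x₀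
    rw [hx₀] at hJJ' hqJ'
    haveI hJinv : Module.Invertible L J := invertible_of_mul_eq_span (fun y => hreg _ hq0 y) hJJ'
    haveI : Module.Invertible L (LinearMap.range g) := hJinv
    obtain ⟨eMJ⟩ := nonempty_equiv_range g
    have hqN : Ideal.span {q} ⊔ N = ⊤ :=
      (Ideal.eq_top_iff_one _).2 (Submodule.mem_sup.2 ⟨q, Ideal.mem_span_singleton_self q, μ, hμ, hsum⟩)
    have htopJ' : J' ⊔ mL = ⊤ := by
      rw [eq_top_iff, ← hmapN, ← Ideal.map_top (algebraMap R[X] L), ← hqN, Ideal.map_sup, Ideal.map_span, Set.image_singleton]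
      exact sup_le_sup_right ((Ideal.span_singleton_le_iff_mem _).2 hqJ') _
    obtain ⟨hmapJ', htopI'⟩ := part2 J' htopJ'
    let I := J.comap (algebraMap R[X] L)
    let I' := J'.comap (algebraMap R[X] L)
    have hII' : I * I' = Ideal.span {q} := by
      have h1 : (I * I') ⊔ N = ⊤ := by
        rw [eq_top_iff]
        calc (⊤ : Ideal R[X]) = (I ⊔ N) * (I' ⊔ N) := by rw [htopI, htopI', Ideal.top_mul]
          _ ≤ (I * I') ⊔ N := by
            rw [Ideal.sup_mul, Ideal.mul_sup]
            exact sup_le (sup_le le_sup_left (le_sup_of_le_right Ideal.mul_le_right))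
              (le_sup_of_le_right Ideal.mul_le_left)
      have h2 : (I * I').map (algebraMap R[X] L) = (Ideal.span {q}).map (algebraMap R[X] L) := by
        rw [Ideal.map_mul, hmapJ, hmapJ', Ideal.map_span, Set.image_singleton]
        exact hJJ'
      rw [← (part1 _ h1), h2, (part1 _ hqN)]
    haveI hIinv : Module.Invertible R[X] I := invertible_of_mul_eq_span (mul_eq_zero_of_coeff_zero _ hq0) hII'
    haveI : Module.Invertible L (I.map (algebraMap R[X] L)) :=
      Module.Invertible.congr (LinearEquiv.ofEq _ _ hmapJ.symm : J ≃ₗ[L] _)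
    obtain ⟨eIJ⟩ := nonempty_baseChange_equiv_map (L := L) I
    refine ⟨I, inferInstance, inferInstance, hIinv, ⟨?_⟩⟩
    exact eM.symm.trans ((AlgebraTensorModule.congr (LinearEquiv.refl _ _)
      (eMJ.trans ((LinearEquiv.ofEq _ _ hmapJ.symm : J ≃ₗ[L] _).trans eIJ.symm))).trans
      (AlgebraTensorModule.cancelBaseChange R[X] L (LaurentSeries R) (LaurentSeries R) I))

/-- Let R be a Henselian local ring and regard R((t)) as an R[s]-algebra through s ↦ t⁻¹. Then the
pullback map Pic(R[t⁻¹]) → Pic(R((t))) is bijective: an invertible R[s]-module that becomes free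
over R((t)) is free, and every invertible R((t))-module is extended from an invertible R[s]-module.
(The published statement is the chain of three bijections Pic(R[t⁻¹]) ≅ Pic((R[t]_{1+tR[t]})[1/t]) ≅
Pic(R{t}[1/t]) ≅ Pic(R((t))), each induced by pullback; this row states the composite.) -/
theorem result (R : Type u) [CommRing R]
    [HenselianLocalRing R] [Algebra R[X] (LaurentSeries R)]
    (halg : algebraMap R[X] (LaurentSeries R) =
      Polynomial.eval₂RingHom (HahnSeries.C) (HahnSeries.single (-1 : ℤ) (1 : R))) :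
    (∀ (M : Type u) [AddCommGroup M] [Module R[X] M] [Module.Invertible R[X] M],
        Module.Free (LaurentSeries R) (LaurentSeries R ⊗[R[X]] M) → Module.Free R[X] M) ∧
    (∀ (L : Type u) [AddCommGroup L] [Module (LaurentSeries R) L] [Module.Invertible (LaurentSeries R) L],
        ∃ (M : Type u) (_ : AddCommGroup M) (_ : Module R[X] M), Module.Invertible R[X] M ∧
          Nonempty (L ≃ₗ[LaurentSeries R] LaurentSeries R ⊗[R[X]] M)) := by
  classical
  let B := Groth.Agent.Hens.PHs (Ideal.span {(X : R[X])})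
  have hB : Hens2.IsPairHenselization R[X] (Ideal.span {(X : R[X])}) B := Groth.Agent.Hens.PHs.isPairHenselization
  letI : Algebra R B := ((algebraMap R[X] B).comp Polynomial.C).toAlgebra
  haveI : IsScalarTower R R[X] B := IsScalarTower.of_algebraMap_eq' (by rw [Polynomial.algebraMap_eq]; rfl)
  let L := Localization.Away (algebraMap R[X] B X)
  let xL : L := algebraMap B L (algebraMap R[X] B X)
  obtain ⟨inv, hinv⟩ := (IsLocalization.Away.algebraMap_isUnit (S := L) (algebraMap R[X] B X)).exists_left_inv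
  let ψ : R[X] →ₐ[R] L := aeval inv
  have hψ : ψ X * algebraMap B L (algebraMap R[X] B X) = 1 := by
    show aeval inv X * _ = 1
    rw [aeval_X]; exact hinv
  obtain ⟨ρ, hρ⟩ := exists_psi hB
  have C := cpl_powerSeries hB ρ hρ
  haveI := pairX_henselian hB
  have hX : ρ (algebraMap R[X] B X) = PowerSeries.X := by rw [hρ, Polynomial.coe_X]
  haveI : IsLocalization.Away (ρ (algebraMap R[X] B X)) (LaurentSeries R) := by rw [hX]; infer_instance
  let φ : L →+* LaurentSeries R :=
    IsLocalization.Away.lift (algebraMap R[X] B X) (g := (algebraMap (PowerSeries R) (LaurentSeries R)).comp ρ)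
      (IsLocalization.Away.algebraMap_isUnit (ρ (algebraMap R[X] B X)))
  have hφ : ∀ b : B, φ (algebraMap B L b) = algebraMap (PowerSeries R) (LaurentSeries R) (ρ b) :=
    fun b => IsLocalization.Away.lift_eq _ _ b
  have hφψ : φ.comp ψ.toRingHom = algebraMap R[X] (LaurentSeries R) := by
    rw [halg]
    refine Polynomial.ringHom_ext (fun r => ?_) ?_
    · show φ (aeval inv (Polynomial.C r)) = _
      rw [aeval_C, IsScalarTower.algebraMap_apply R B L, hφ,
        show algebraMap R B r = algebraMap R[X] B (Polynomial.C r) from rfl, hρ, Polynomial.coe_C,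
        LaurentSeries.coe_algebraMap, HahnSeries.ofPowerSeries_C]
      simp
    · show φ (aeval inv X) = _
      rw [aeval_X]
      have h1 : φ inv * HahnSeries.single (1 : ℤ) (1 : R) = 1 := by
        have h2 := congrArg φ hinv
        rwa [map_mul, hφ, hX, LaurentSeries.coe_algebraMap, HahnSeries.ofPowerSeries_X, map_one φ] at h2
      have h3 : (HahnSeries.single (1 : ℤ) (1 : R) : LaurentSeries R) * HahnSeries.single (-1 : ℤ) (1 : R) = 1 := by
        rw [HahnSeries.single_mul_single]; simp
      simp only [coe_eval₂RingHom, eval₂_X]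
      linear_combination (HahnSeries.single (-1 : ℤ) (1 : R) : LaurentSeries R) * h1 - φ inv * h3
  have hmL := isMaximal_mL (R := R) hB
  have hreg := psi_regular hB ψ hψ
  obtain ⟨part1, part2⟩ := Groth.Agent.S15773.result R B hB ψ hψ
  have hrefl := psi_reflect ψ hψ
  set mL := (maximalIdeal R).map (algebraMap R L) with hmLdef
  have hmapN : ((maximalIdeal R).map (algebraMap R R[X])).map ψ.toRingHom = mL := by
    rw [hmLdef, Ideal.map_map]
    congr 1
    exact ψ.comp_algebraMap
  exact @main R _ _ _ B _ _ hB _ _ ρ hρ _ L _ _ _ ψ.toRingHom.toAlgebra φ.toAlgebra hφψ hφ mL hmL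
    (by rw [hmLdef, IsScalarTower.algebraMap_eq R B L, ← Ideal.map_map, ← cB_eq (R := R) (B := B)])
    hmapN hreg hrefl (fun I hI => (part1 I hI).1) part2

end Groth.Agent.S15753
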