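import Groth.Statements.S15751
import Mathlib
import Groth.Agent.Lib.DenseProj.Seminormal
import Groth.Agent.S15753

set_option autoImplicit false
universe u
open CAlg

namespace Groth.Agent.S15751
open CAlg

open Polynomial TensorProduct

/-- For a seminormal Henselian local ring R the Picard group of the Laurent series ring R((t)) is
trivial: every invertible R((t))-module is free. -/
theorem result (R : Type u) [CommRing R]
    [HenselianLocalRing R] (hR : HTop.IsSeminormalRing R)
    (M : Type u) [AddCommGroup M] [Module (LaurentSeries R) M] [Module.Invertible (LaurentSeries R) M] :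
    Module.Free (LaurentSeries R) M := by
  haveI : IsReduced R := by
    refine (isReduced_iff_pow_one_lt 2 one_lt_two).2 fun x hx => ?_
    obtain ⟨a, -, hu⟩ := hR 0 0 (by simp)
    exact (hu x ⟨hx.symm, by rw [pow_succ, hx, zero_mul]⟩).trans (hu 0 ⟨by simp, by simp⟩).symm
  letI : Algebra R[X] (LaurentSeries R) :=
    (Polynomial.eval₂RingHom (HahnSeries.C) (HahnSeries.single (-1 : ℤ) (1 : R))).toAlgebra
  obtain ⟨N, _, _, hN, ⟨e⟩⟩ := (Groth.Agent.S15753.result R rfl).2 M
  haveI := hN
  haveI := Groth.Agent.Traverso.free_of_invertible (R := R) (fun x y h => (hR x y h).exists) N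
  exact Module.Free.of_equiv e.symm

end Groth.Agent.S15751
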