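import Groth.Statements.S15752
-- Template for statement S15752 (row 15751; see the milestone table for weights).
-- Copy to Groth/Agent/S15752.lean and replace the sorry. The statement below is byte-identical to the frozen
-- statement CAlg.GrothFrozen.S15752 (Groth/Statements/S15752.lean; the theorem CAlg.henselian_weierstrass_preparation_pairHenselization);
-- the grader kernel-checks Groth.Agent.S15752.result against that frozen type. Keep the theorem IN THIS FILE
-- (a `result` declared elsewhere and merely imported here is not credited); helpers may live anywhere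
-- under Groth/Agent/.
import Mathlib
import Groth.Agent.Lib.DenseProj.HWeier

set_option autoImplicit false
universe u
open Polynomial
open CAlg

namespace Groth.Agent.S15752
open Polynomial
open CAlg

open Groth.Agent.DenseProj IsLocalRing

/-- Let R be a Henselian local ring with maximal ideal m and let B be a henselization of R[t] along (t).
Every f ∈ B outside mB factors as f = P · u for a unique pair (P, u) with P ∈ R[t] monic whose
non-leading coefficients lie in m and u a unit of B; moreover the natural map R[t]/(P) → B/(f) is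
bijective, stated as: every element of B is congruent to (the image of) a polynomial modulo f, and a
polynomial whose image lies in fB lies in P·R[t]. -/
theorem result (R : Type u) [CommRing R]
    [HenselianLocalRing R] (B : Type u) [CommRing B] [Algebra R B] [Algebra R[X] B]
    [IsScalarTower R R[X] B] (hB : Hens2.IsPairHenselization R[X] (Ideal.span {(X : R[X])}) B)
    (f : B) (hf : f ∉ (IsLocalRing.maximalIdeal R).map (algebraMap R B)) :
    (∃! Pu : R[X] × Bˣ, Pu.1.Monic ∧ (∀ i : ℕ, i < Pu.1.natDegree → Pu.1.coeff i ∈ IsLocalRing.maximalIdeal R) ∧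
        f = algebraMap R[X] B Pu.1 * (Pu.2 : B)) ∧
    (∀ (P : R[X]) (u : Bˣ), P.Monic → (∀ i : ℕ, i < P.natDegree → P.coeff i ∈ IsLocalRing.maximalIdeal R) →
        f = algebraMap R[X] B P * (u : B) →
      (∀ b : B, ∃ q : R[X], algebraMap R[X] B q - b ∈ Ideal.span {f}) ∧
      (∀ q : R[X], algebraMap R[X] B q ∈ Ideal.span {f} → q ∈ Ideal.span {P})) := by
  obtain ⟨ψ, hψ⟩ := exists_psi hB
  have hm : (maximalIdeal R).map (algebraMap R B) = (maximalIdeal R).map (cB R B) := by rw [cB_eq]
  rw [hm] at hf
  obtain ⟨k, v, hv, hk⟩ := exists_congr_pow hB ψ hψ f hf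
  have hb : f * (↑hv.unit⁻¹ : B) - algebraMap R[X] B X ^ k ∈ (maximalIdeal R).map (cB R B) := by
    have h2 := Ideal.mul_mem_right (↑hv.unit⁻¹ : B) _ hk
    rwa [sub_mul, mul_assoc, IsUnit.mul_val_inv, mul_one] at h2
  obtain ⟨Q, u, hQ, hQd, hlow, hQu⟩ := exists_weierstrass hB ψ hψ _ k hb
  have part2 : ∀ (P : R[X]) (u : Bˣ), P.Monic → (∀ i : ℕ, i < P.natDegree → P.coeff i ∈ maximalIdeal R) →
      f = algebraMap R[X] B P * (u : B) →
      (∀ b : B, ∃ q : R[X], algebraMap R[X] B q - b ∈ Ideal.span {f}) ∧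
      (∀ q : R[X], algebraMap R[X] B q ∈ Ideal.span {f} → q ∈ Ideal.span {P}) := by
    intro P u hP hl hfP
    have hspan : Ideal.span {f} = Ideal.span {algebraMap R[X] B P} := by
      rw [hfP, Ideal.span_singleton_mul_right_unit u.isUnit]
    obtain ⟨hi, hs⟩ := quotient_bijective hB P hP hl
    rw [hspan]
    refine ⟨fun b => ?_, fun q hq => ?_⟩
    · obtain ⟨q, hq⟩ := hs (Ideal.Quotient.mk _ b)
      obtain ⟨q, rfl⟩ := Ideal.Quotient.mk_surjective q
      exact ⟨q, Ideal.Quotient.eq.1 hq⟩
    · rw [← Ideal.Quotient.eq_zero_iff_mem]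
      refine hi ?_
      rw [map_zero, Ideal.quotientMap_mk, Ideal.Quotient.eq_zero_iff_mem]
      exact hq
  have hfQ : f = algebraMap R[X] B Q * ((u * hv.unit : Bˣ) : B) := by
    rw [Units.val_mul, ← mul_assoc, ← hQu, mul_assoc, Units.inv_mul, mul_one]
  refine ⟨⟨(Q, u * hv.unit), ⟨hQ, hQd ▸ hlow, hfQ⟩, ?_⟩, part2⟩
  rintro ⟨P, w⟩ ⟨hP, hl, hfP⟩
  simp only at hP hl hfP
  have d1 : Q ∣ P := by
    rw [← Ideal.mem_span_singleton]
    refine (part2 Q _ hQ (hQd ▸ hlow) hfQ).2 P ?_
    rw [Ideal.mem_span_singleton]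
    exact ⟨((w⁻¹ : Bˣ) : B), by rw [hfP, mul_assoc, Units.mul_inv, mul_one]⟩
  have d2 : P ∣ Q := by
    rw [← Ideal.mem_span_singleton]
    refine (part2 P w hP hl hfP).2 Q ?_
    rw [Ideal.mem_span_singleton]
    exact ⟨((u * hv.unit)⁻¹ : Bˣ), by rw [hfQ, mul_assoc, Units.mul_inv, mul_one]⟩
  have hPQ : P = Q := by
    rcases subsingleton_or_nontrivial R[X] with hs | hs
    · exact Subsingleton.elim _ _
    · refine (Polynomial.eq_of_monic_of_dvd_of_natDegree_le hQ hP d1 ?_)
      obtain ⟨c', hc'⟩ := d2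
      rw [hc', hP.natDegree_mul' (by rintro rfl; exact hQ.ne_zero (by simpa using hc'))]
      omega
  subst hPQ
  refine Prod.ext rfl (Units.ext ?_)
  have hreg : ∀ z : B, algebraMap R[X] B P * z = 0 → z = 0 := by
    intro z hz
    haveI := Groth.Agent.Hens.IsPairHenselization.flat hB
    have h1 : IsSMulRegular R[X] P := fun x y h => hP.mul_right_eq_zero_iff.1
      (show P * (x - y) = 0 by rw [mul_sub, sub_eq_zero]; exact h) |> sub_eq_zero.1
    have h2 : IsSMulRegular B (algebraMap R[X] B P) := h1.of_flat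
    exact h2 (show algebraMap R[X] B P • z = algebraMap R[X] B P • (0 : B) by rw [smul_eq_mul, hz, smul_zero])
  have := hreg ((w : B) - ((u * hv.unit : Bˣ) : B)) (by rw [mul_sub, ← hfP, ← hfQ, sub_self])
  exact sub_eq_zero.1 this

end Groth.Agent.S15752
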