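import Groth.Statements.S15754
import Groth.Agent.Lib.H2Alg.HorrocksPatch
import Mathlib

set_option autoImplicit false
universe u
open TensorProduct
open CAlg

namespace Groth.Agent.S15754
open CAlg
open scoped TensorProduct

open Groth.Agent.H2Horrocks Matrix LaurentPolynomial

variable {R : Type u} [CommRing R]

/-- the unit `t` -/
noncomputable def tU : (LaurentSeries R)ˣ where
  val := HahnSeries.single (1 : ℤ) 1
  inv := HahnSeries.single (-1 : ℤ) 1
  val_inv := by simp [HahnSeries.single_mul_single]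
  inv_val := by simp [HahnSeries.single_mul_single]

/-- polynomials to series -/
noncomputable def ι : LaurentPolynomial R →+* LaurentSeries R :=
  LaurentPolynomial.eval₂ HahnSeries.C tU

theorem ι_C (r : R) : ι (LaurentPolynomial.C r) = HahnSeries.C r := eval₂_C _ _ _

theorem ι_T (n : ℤ) : ι (T n : LaurentPolynomial R) = HahnSeries.single n 1 := by
  rw [ι, eval₂_T]
  induction n using Int.induction_on with
  | zero => simp
  | succ i hi => rw [_root_.zpow_add_one, Units.val_mul, hi]; simp [tU, HahnSeries.single_mul_single]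
  | pred i hi =>
    rw [_root_.zpow_sub_one, Units.val_mul, hi]
    show _ * HahnSeries.single (-1 : ℤ) (1 : R) = _
    rw [HahnSeries.single_mul_single, mul_one, sub_eq_add_neg]

theorem ι_coeff (z : LaurentPolynomial R) (a : ℤ) : (ι z).coeff a = z.coeff a := by
  induction z using LaurentPolynomial.induction_on' with
  | add p q hp hq => simp [map_add, hp, hq]
  | C_mul_T m r =>
    rw [map_mul, ι_C, ι_T, ← single_eq_C_mul_T, AddMonoidAlgebra.coeff_single, Finsupp.single_apply,
      HahnSeries.C_apply, HahnSeries.single_mul_single, HahnSeries.coeff_single, zero_add, mul_one]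
    by_cases h : a = m <;> simp [h, eq_comm]

theorem ι_injective : Function.Injective (ι (R := R)) := fun x y h => by
  have h' : ∀ a, x.coeff a = y.coeff a := fun a => by rw [← ι_coeff, ← ι_coeff, h]
  rw [Groth.Agent.H2Horrocks.eq_sum x, Groth.Agent.H2Horrocks.eq_sum y]
  rw [show x.coeff = y.coeff from Finsupp.ext h']

/-- vanishing below `n` -/
def Ge (n : ℤ) (x : LaurentSeries R) : Prop := ∀ i, i < n → x.coeff i = 0

theorem Ge.mono {n m : ℤ} {x : LaurentSeries R} (h : Ge n x) (hm : m ≤ n) : Ge m x :=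
  fun i hi => h i (hi.trans_le hm)

theorem Ge.zero (n : ℤ) : Ge n (0 : LaurentSeries R) := fun i _ => by simp

theorem Ge.add {n : ℤ} {x y : LaurentSeries R} (hx : Ge n x) (hy : Ge n y) : Ge n (x + y) :=
  fun i hi => by simp [hx i hi, hy i hi]

theorem Ge.sub {n : ℤ} {x y : LaurentSeries R} (hx : Ge n x) (hy : Ge n y) : Ge n (x - y) :=
  fun i hi => by simp [hx i hi, hy i hi]

theorem ge_iff {n : ℤ} {x : LaurentSeries R} :
    Ge n x ↔ ∃ f : PowerSeries R, x = HahnSeries.single n 1 * HahnSeries.ofPowerSeries ℤ R f := by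
  constructor
  · intro h
    refine ⟨PowerSeries.mk fun k => x.coeff (n + k), HahnSeries.ext (funext fun i => ?_)⟩
    rw [HahnSeries.coeff_single_mul, one_mul]
    by_cases hi : i < n
    · rw [h i hi, HahnSeries.ofPowerSeries_apply, HahnSeries.embDomain_notin_range]
      rintro ⟨k, hk⟩
      change (k : ℤ) = i - n at hk
      omega
    · obtain ⟨k, hk⟩ : ∃ k : ℕ, i - n = k := ⟨(i - n).toNat, by omega⟩
      rw [hk, HahnSeries.ofPowerSeries_apply_coeff, PowerSeries.coeff_mk]
      congr 1
      omega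
  · rintro ⟨f, rfl⟩ i hi
    rw [HahnSeries.coeff_single_mul, one_mul, HahnSeries.ofPowerSeries_apply, HahnSeries.embDomain_notin_range]
    rintro ⟨k, hk⟩
    change (k : ℤ) = i - n at hk
    omega

theorem Ge.mul {n m : ℤ} {x y : LaurentSeries R} (hx : Ge n x) (hy : Ge m y) : Ge (n + m) (x * y) := by
  obtain ⟨f, rfl⟩ := ge_iff.1 hx
  obtain ⟨g, rfl⟩ := ge_iff.1 hy
  refine ge_iff.2 ⟨f * g, ?_⟩
  rw [map_mul, mul_mul_mul_comm, HahnSeries.single_mul_single, mul_one]

theorem coeff_zero_mul {x y : LaurentSeries R} (hx : Ge 0 x) (hy : Ge 0 y) :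
    (x * y).coeff 0 = x.coeff 0 * y.coeff 0 := by
  obtain ⟨f, rfl⟩ := ge_iff.1 hx
  obtain ⟨g, rfl⟩ := ge_iff.1 hy
  have h1 : ∀ f : PowerSeries R, (HahnSeries.single (0 : ℤ) (1 : R) * HahnSeries.ofPowerSeries ℤ R f).coeff 0 =
      PowerSeries.constantCoeff f := fun f => by
    rw [HahnSeries.single_zero_one, one_mul, show (0 : ℤ) = ((0 : ℕ) : ℤ) from rfl,
      HahnSeries.ofPowerSeries_apply_coeff, PowerSeries.coeff_zero_eq_constantCoeff]
  rw [mul_mul_mul_comm, HahnSeries.single_mul_single, add_zero, mul_one, ← map_mul, h1, h1, h1, map_mul]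

theorem exists_bound (x : LaurentSeries R) : ∃ a : ℕ, Ge (-(a : ℤ)) x := by
  by_cases hx : x = 0
  · exact ⟨0, hx ▸ Ge.zero _⟩
  · exact ⟨(-x.order).toNat, fun i hi => HahnSeries.coeff_eq_zero_of_lt_order (by omega)⟩

/-- truncation -/
noncomputable def trunc (a K : ℤ) (x : LaurentSeries R) : LaurentPolynomial R :=
  ∑ i ∈ Finset.Ico a K, LaurentPolynomial.C (x.coeff i) * T i

theorem trunc_coeff (a K : ℤ) (x : LaurentSeries R) (j : ℤ) :
    (ι (trunc a K x)).coeff j = if a ≤ j ∧ j < K then x.coeff j else 0 := by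
  rw [ι_coeff, trunc, AddMonoidAlgebra.coeff_sum, Finsupp.finset_sum_apply]
  simp only [← single_eq_C_mul_T, AddMonoidAlgebra.coeff_single, Finsupp.single_apply]
  rw [Finset.sum_ite_eq']
  simp [Finset.mem_Ico]

variable {m n k : Type} [Fintype m] [Fintype n] [Fintype k]

/-- matrices vanishing below `n` -/
def MGe (a : ℤ) (X : Matrix m n (LaurentSeries R)) : Prop := ∀ i j, Ge a (X i j)

theorem MGe.mul {a b : ℤ} {X : Matrix m n (LaurentSeries R)} {Y : Matrix n k (LaurentSeries R)}
    (hX : MGe a X) (hY : MGe b Y) : MGe (a + b) (X * Y) := fun i j => by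
  rw [Matrix.mul_apply]
  exact Finset.sum_induction _ (Ge (a + b)) (fun _ _ => Ge.add) (Ge.zero _) fun l _ => (hX i l).mul (hY l j)

theorem MGe.mul' {a b c : ℤ} {X : Matrix m n (LaurentSeries R)} {Y : Matrix n k (LaurentSeries R)}
    (hX : MGe a X) (hY : MGe b Y) (h : c ≤ a + b) : MGe c (X * Y) := fun i j => (hX.mul hY i j).mono h

theorem mge_C (X : Matrix m n R) : MGe 0 (X.map (HahnSeries.C : R →+* LaurentSeries R)) := fun i j a ha => by
  rw [Matrix.map_apply, HahnSeries.C_apply, HahnSeries.coeff_single_of_ne (ne_of_lt ha)]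

theorem exists_bound_matrix (X : Matrix m n (LaurentSeries R)) : ∃ a : ℕ, MGe (-(a : ℤ)) X := by
  choose a ha using fun p : m × n => exists_bound (X p.1 p.2)
  exact ⟨Finset.univ.sup a, fun i j => (ha (i, j)).mono (by
    have := Finset.le_sup (f := a) (Finset.mem_univ (i, j))
    omega)⟩

theorem coeff0_mul {X : Matrix m n (LaurentSeries R)} {Y : Matrix n k (LaurentSeries R)}
    (hX : MGe 0 X) (hY : MGe 0 Y) :
    (X * Y).map (fun x => x.coeff 0) = X.map (fun x => x.coeff 0) * Y.map (fun x => x.coeff 0) := by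
  ext i j
  simp only [Matrix.map_apply, Matrix.mul_apply, HahnSeries.coeff_sum]
  exact Finset.sum_congr rfl fun l _ => coeff_zero_mul (hX i l) (hY l j)

theorem exists_poly {z : LaurentPolynomial R} (hz : Ge 0 (ι z)) : ∃ p : Polynomial R, Polynomial.toLaurent p = z := by
  refine ⟨∑ a ∈ z.coeff.support, Polynomial.monomial a.toNat (z.coeff a), ?_⟩
  conv_rhs => rw [Groth.Agent.H2Horrocks.eq_sum z]
  rw [map_sum]
  refine Finset.sum_congr rfl fun a ha => ?_
  have : 0 ≤ a := by
    by_contra h
    exact (Finsupp.mem_support_iff.1 ha) (by rw [← ι_coeff]; exact hz a (by omega))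
  rw [← Polynomial.C_mul_X_pow_eq_monomial, Polynomial.toLaurent_C_mul_X_pow, Int.toNat_of_nonneg this]

variable [DecidableEq m] [DecidableEq n]

theorem sim_of_series {em : Matrix m m R} {en : Matrix n n R} (hm : em * em = em) (hn : en * en = en)
    (U : Matrix m n (LaurentSeries R)) (V : Matrix n m (LaurentSeries R))
    (hUV : U * V = em.map (HahnSeries.C : R →+* LaurentSeries R))
    (hVU : V * U = en.map (HahnSeries.C : R →+* LaurentSeries R))
    (hU : em.map (HahnSeries.C : R →+* LaurentSeries R) * U = U)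
    (hV : en.map (HahnSeries.C : R →+* LaurentSeries R) * V = V) : Sim em en := by
  classical
  set E := em.map (HahnSeries.C : R →+* LaurentSeries R) with hEd
  set N := en.map (HahnSeries.C : R →+* LaurentSeries R) with hNd
  have hEE : E * E = E := by rw [hEd, ← Matrix.map_mul, hm]
  have hNN : N * N = N := by rw [hNd, ← Matrix.map_mul, hn]
  have hUN : U * N = U := by rw [← hVU, ← Matrix.mul_assoc, hUV, hU]
  have hVE : V * E = V := by rw [← hUV, ← Matrix.mul_assoc, hVU, hV]
  obtain ⟨a1, h1⟩ := exists_bound_matrix U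
  obtain ⟨a2, h2⟩ := exists_bound_matrix V
  obtain ⟨a, ha⟩ : ∃ a : ℕ, a = a1 + a2 := ⟨_, rfl⟩
  have hbU : MGe (-(a : ℤ)) U := fun i j => (h1 i j).mono (by omega)
  have hbV : MGe (-(a : ℤ)) V := fun i j => (h2 i j).mono (by omega)
  let em' := em.map (LaurentPolynomial.C : R →+* LaurentPolynomial R)
  let en' := en.map (LaurentPolynomial.C : R →+* LaurentPolynomial R)
  have hem : em'.map ι = E := by ext i j; simp [em', hEd, ι_C]
  have hen : en'.map ι = N := by ext i j; simp [en', hNd, ι_C]
  have hem' : em' * em' = em' := by show em.map _ * em.map _ = _; rw [← Matrix.map_mul, hm]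
  have hen' : en' * en' = en' := by show en.map _ * en.map _ = _; rw [← Matrix.map_mul, hn]
  let U' := em' * U.map (trunc (-(a : ℤ)) (4 * a)) * en'
  let V' := en' * V.map (trunc (-(a : ℤ)) (4 * a)) * em'
  have hE0 : MGe 0 E := mge_C em
  have hN0 : MGe 0 N := mge_C en
  have happrox : ∀ {x : LaurentSeries R}, Ge (-(a : ℤ)) x → Ge (4 * a : ℤ) (ι (trunc (-(a : ℤ)) (4 * a)  x) - x) := by
    intro x hx j hj
    rw [HahnSeries.coeff_sub, trunc_coeff]
    split_ifs with h
    · simp
    · rw [hx j (by omega)]; simp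
  have hdU : MGe (4 * a : ℤ) (U'.map ι - U) := by
    have : U'.map ι - U = E * ((U.map (trunc (-(a : ℤ)) (4 * a))).map ι - U) * N := by
      simp only [U', Matrix.map_mul, hem, hen, Matrix.mul_sub, Matrix.sub_mul, hU, hUN]
    rw [this]
    refine (hE0.mul' (b := (4 * a : ℤ)) (c := (4 * a : ℤ)) ?_ (by omega)).mul' hN0 (by omega)
    exact fun i j => happrox (hbU i j)
  have hdV : MGe (4 * a : ℤ) (V'.map ι - V) := by
    have : V'.map ι - V = N * ((V.map (trunc (-(a : ℤ)) (4 * a))).map ι - V) * E := by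
      simp only [V', Matrix.map_mul, hem, hen, Matrix.mul_sub, Matrix.sub_mul, hV, hVE]
    rw [this]
    refine (hN0.mul' (b := (4 * a : ℤ)) (c := (4 * a : ℤ)) ?_ (by omega)).mul' hE0 (by omega)
    exact fun i j => happrox (hbV i j)
  let Φ : Matrix m (n ⊕ m) (LaurentPolynomial R) := fromCols U' ((T (a : ℤ) : LaurentPolynomial R) • em')
  let Ψ : Matrix (n ⊕ m) m (LaurentPolynomial R) := fromRows V' ((T (-(a : ℤ)) : LaurentPolynomial R) • (em' - U' * V'))
  have e1 : em' * U' = U' := by simp only [U', ← Matrix.mul_assoc, hem']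
  have e3 : em' * (U' * V') = U' * V' := by rw [← Matrix.mul_assoc, e1]
  have hΦΨ : Φ * Ψ = em' := by
    show fromCols U' _ * fromRows V' _ = em'
    rw [fromCols_mul_fromRows, Matrix.smul_mul, Matrix.mul_smul]
    have hTT : ∀ X : Matrix m m (LaurentPolynomial R),
        (T (a : ℤ) : LaurentPolynomial R) • (T (-(a : ℤ)) : LaurentPolynomial R) • X = X := fun X => by
      rw [smul_smul, ← T_add, add_neg_cancel, T_zero, one_smul]
    rw [hTT, Matrix.mul_sub, hem', e3]
    abel
  have hemΦ : em' * Φ = Φ := by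
    simp only [Φ, mul_fromCols, e1, Matrix.mul_smul, hem']
  have e4 : V' * em' = V' := by simp only [V', Matrix.mul_assoc, hem']
  have hΨem : Ψ * em' = Ψ := by
    simp only [Ψ, fromRows_mul, e4, Matrix.smul_mul, Matrix.sub_mul, hem', Matrix.mul_assoc]
  let A := Ψ.map ι * U
  let B := V * Φ.map ι
  have hBA : B * A = N := by
    show V * Φ.map ι * (Ψ.map ι * U) = N
    rw [Matrix.mul_assoc, ← Matrix.mul_assoc (Φ.map ι), ← Matrix.map_mul, hΦΨ, hem, hU, hVU]
  have hAB : A * B = (Ψ * Φ).map ι := by
    show Ψ.map ι * U * (V * Φ.map ι) = _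
    rw [Matrix.mul_assoc, ← Matrix.mul_assoc U, hUV, ← Matrix.mul_assoc, ← hem, ← Matrix.map_mul, hΨem,
      ← Matrix.map_mul]
  have hT : ∀ (b : ℤ) {X : Matrix m m (LaurentPolynomial R)} (c : ℤ), MGe c (X.map ι) → MGe (b + c) (((T b : LaurentPolynomial R) • X).map ι) := by
    intro b X c hX i j
    simp only [Matrix.map_apply, Matrix.smul_apply, smul_eq_mul, map_mul, ι_T]
    refine Ge.mul (fun l hl => HahnSeries.coeff_single_of_ne (ne_of_lt hl)) (hX i j)
  have hA0 : MGe 0 A := by
    intro i j
    rcases i with i | i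
    · show Ge 0 ((Ψ.map ι * U) (Sum.inl i) j)
      have : (Ψ.map ι * U) (Sum.inl i) j = N i j + ((V'.map ι - V) * U) i j := by
        rw [Matrix.sub_mul, Matrix.sub_apply, hVU, add_sub_cancel]
        rfl
      rw [this]
      exact (hN0 i j).add (hdV.mul' hbU (by omega) i j)
    · show Ge 0 ((Ψ.map ι * U) (Sum.inr i) j)
      have : (Ψ.map ι * U) (Sum.inr i) j =
          ((HahnSeries.single (-(a : ℤ)) (1 : R)) • ((em'.map ι - (U' * V').map ι) * U)) i j := by
        rw [← Matrix.smul_mul, Matrix.mul_apply, Matrix.mul_apply]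
        simp [Ψ, map_sub, ι_T]
        refine Finset.sum_congr rfl fun z _ => ?_
        rw [← Matrix.map_mul, Matrix.map_apply]
        ring
      rw [this, Matrix.smul_apply, smul_eq_mul]
      have hX : (em'.map ι - (U' * V').map ι) * U =
          -((U'.map ι - U) * N) - U'.map ι * ((V'.map ι - V) * U) := by
        rw [Matrix.map_mul, hem, Matrix.sub_mul, hU, Matrix.sub_mul, hUN, Matrix.sub_mul, hVU, Matrix.mul_assoc]
        have : U'.map ι * N = U'.map ι := by
          rw [← hen, ← Matrix.map_mul]; simp only [U', Matrix.mul_assoc, hen']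
        rw [Matrix.mul_sub, this]
        abel
      have hU'b : MGe (-(a : ℤ)) (U'.map ι) := fun i j => by
        have := ((hdU i j).mono (by omega : (-(a:ℤ)) ≤ 4 * a)).add (hbU i j)
        rwa [Matrix.sub_apply, sub_add_cancel] at this
      refine (Ge.mul (n := -(a : ℤ)) (m := a) (fun l hl => HahnSeries.coeff_single_of_ne (ne_of_lt hl)) ?_).mono (by omega)
      rw [hX, Matrix.sub_apply, Matrix.neg_apply]
      refine Ge.sub ?_ (hU'b.mul' (hdV.mul' hbU le_rfl) (by omega) i j)
      intro l hl
      rw [HahnSeries.coeff_neg, hdU.mul' hN0 (by omega : (a : ℤ) ≤ 4 * a + 0) i j l hl, neg_zero]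
  have hB0 : MGe 0 B := by
    intro i j
    rcases j with j | j
    · show Ge 0 ((V * Φ.map ι) i (Sum.inl j))
      have : (V * Φ.map ι) i (Sum.inl j) = N i j + (V * (U'.map ι - U)) i j := by
        rw [Matrix.mul_sub, Matrix.sub_apply, hVU, add_sub_cancel]
        rfl
      rw [this]
      exact (hN0 i j).add (hbV.mul' hdU (by omega) i j)
    · show Ge 0 ((V * Φ.map ι) i (Sum.inr j))
      have : (V * Φ.map ι) i (Sum.inr j) = (V * ((T (a : ℤ) : LaurentPolynomial R) • em').map ι) i j := rfl
      rw [this]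
      exact hbV.mul' (hT (a : ℤ) 0 (by rw [hem]; exact hE0)) (by omega) i j
  choose f hf using fun (i j : n ⊕ m) => exists_poly (z := (Ψ * Φ) i j) (by
    have := hA0.mul hB0 i j
    rwa [hAB, add_zero] at this)
  let F : Matrix (n ⊕ m) (n ⊕ m) (Polynomial R) := Matrix.of f
  have hF : F.map Polynomial.toLaurent = Ψ * Φ := by ext1 i j; exact hf i j
  let G : Matrix m m (Polynomial R) := em.map (Polynomial.C : R →+* Polynomial R)
  have hG : G.map sig = em' := by ext1 i j; simp [G, em', sig_apply]
  have hglue : Glue F G Ψ Φ :=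
    { he := by
        apply Matrix.map_injective (f := (Polynomial.toLaurent : Polynomial R →+* _)) Polynomial.toLaurent_injective
        show (F * F).map _ = F.map _
        rw [Matrix.map_mul, hF, Matrix.mul_assoc, ← Matrix.mul_assoc Φ, hΦΨ, hemΦ]
      hf := by show em.map _ * em.map _ = _; rw [← Matrix.map_mul, hm]
      hUV := hF.symm
      hVU := by rw [hG, hΦΨ]
      hU := by rw [hF, Matrix.mul_assoc, hΦΨ, hΨem]
      hV := by rw [hG, hemΦ] }
  have hs := Sim.map (Polynomial.evalRingHom (1 : R)) (extended_of_glue hglue)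
  rw [Matrix.map_map, ← RingHom.coe_comp, ← RingHom.comp_assoc] at hs
  have hc : (Polynomial.evalRingHom (1 : R)).comp Polynomial.C = RingHom.id R := RingHom.ext fun r => by simp
  rw [hc, RingHom.id_comp] at hs
  let ev : LaurentPolynomial R →+* R := LaurentPolynomial.eval₂ (RingHom.id R) 1
  have hev : ∀ i j, ev ((Ψ * Φ) i j) = (f i j).eval 1 := fun i j => by
    rw [← hf i j, eval₂_toLaurent]; simp
  have h1 : Sim em (F.map (Polynomial.evalRingHom (1 : R))) :=
    ⟨Φ.map ev, Ψ.map ev, by rw [← Matrix.map_mul, hΦΨ]; ext1 i j; simp [em', ev], by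
      rw [← Matrix.map_mul]; ext1 i j; exact hev i j⟩
  have h0 : Sim (F.map (Polynomial.evalRingHom (0 : R))) en := by
    refine ⟨A.map (fun x => x.coeff 0), B.map (fun x => x.coeff 0), ?_, ?_⟩
    · rw [← coeff0_mul hA0 hB0, hAB]
      ext1 i j
      simp only [Matrix.map_apply, ← hf i j, ι_coeff, F, Matrix.of_apply, Polynomial.coe_evalRingHom]
      rw [← Polynomial.coeff_zero_eq_eval_zero, show (0 : ℤ) = ((0 : ℕ) : ℤ) from rfl,
        Groth.Agent.H2Horrocks.toLaurent_coeff]
    · rw [← coeff0_mul hB0 hA0, hBA]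
      ext1 i j
      simp [hNd]
  have hFF : ∀ r : R, F.map (Polynomial.evalRingHom r) * F.map (Polynomial.evalRingHom r) = F.map (Polynomial.evalRingHom r) :=
    fun r => by rw [← Matrix.map_mul, hglue.he]
  exact Sim.trans h1 (Sim.trans hs h0 (hFF 1) hn) hm hn

/-- For an arbitrary commutative ring R, non-isomorphic finitely generated projective R-modules cannot
become isomorphic over the Laurent series ring R((t)): for an R-algebra L that is R-isomorphic to
R((t)), if L ⊗_R M ≅ L ⊗_R N as L-modules then M ≅ N. (L is R((t)) up to an R-algebra isomorphism;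
it is kept abstract only so that the L-module structure on L ⊗_R M elaborates.) -/
theorem result (R : Type u) [CommRing R]
    (L : Type u) [CommRing L] [Algebra R L] (eL : L ≃ₐ[R] LaurentSeries R)
    (M N : Type u) [AddCommGroup M] [Module R M] [Module.Finite R M] [Module.Projective R M]
    [AddCommGroup N] [Module R N] [Module.Finite R N] [Module.Projective R N]
    (e : L ⊗[R] M ≃ₗ[L] L ⊗[R] N) :
    Nonempty (M ≃ₗ[R] N) := by
  classical
  obtain ⟨a, πM, hπM⟩ := Module.Finite.exists_fin' R M
  obtain ⟨sM, hsM⟩ := Module.projective_lifting_property πM LinearMap.id hπM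
  obtain ⟨b, πN, hπN⟩ := Module.Finite.exists_fin' R N
  obtain ⟨sN, hsN⟩ := Module.projective_lifting_property πN LinearMap.id hπN
  let x : Fin a → M := fun i => πM (Pi.single i 1)
  let y : Fin b → N := fun i => πN (Pi.single i 1)
  have hx : ∀ z : M, ∑ i, sM z i • x i = z := fun z => by
    conv_rhs => rw [← LinearMap.id_apply (R := R) z, ← hsM, LinearMap.comp_apply,
      show sM z = ∑ j, sM z j • Pi.single j 1 from pi_eq_sum_univ' _, map_sum]
    simp only [map_smul, x]
  have hy : ∀ z : N, ∑ i, sN z i • y i = z := fun z => by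
    conv_rhs => rw [← LinearMap.id_apply (R := R) z, ← hsN, LinearMap.comp_apply,
      show sN z = ∑ j, sN z j • Pi.single j 1 from pi_eq_sum_univ' _, map_sum]
    simp only [map_smul, y]
  let cM : Fin a → (L ⊗[R] M →ₗ[L] L) := fun i =>
    (TensorProduct.AlgebraTensorModule.rid R L L).toLinearMap ∘ₗ LinearMap.baseChange L ((LinearMap.proj i : (Fin a → R) →ₗ[R] R).comp sM)
  let cN : Fin b → (L ⊗[R] N →ₗ[L] L) := fun i =>
    (TensorProduct.AlgebraTensorModule.rid R L L).toLinearMap ∘ₗ LinearMap.baseChange L ((LinearMap.proj i : (Fin b → R) →ₗ[R] R).comp sN)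
  have hcM : ∀ i (l : L) (z : M), cM i (l ⊗ₜ z) = sM z i • l := fun i l z => by simp [cM]
  have hcN : ∀ i (l : L) (z : N), cN i (l ⊗ₜ z) = sN z i • l := fun i l z => by simp [cN]
  have hexpM : ∀ z : L ⊗[R] M, ∑ i, cM i z • ((1 : L) ⊗ₜ[R] x i) = z := fun z => by
    induction z using TensorProduct.induction_on with
    | zero => simp
    | tmul l z =>
      simp only [hcM, TensorProduct.smul_tmul', smul_eq_mul, mul_one]
      conv_rhs => rw [← hx z, TensorProduct.tmul_sum]
      exact Finset.sum_congr rfl fun i _ => by rw [TensorProduct.smul_tmul]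
    | add z z' h h' => simp only [map_add, add_smul, Finset.sum_add_distrib, h, h']
  have hexpN : ∀ z : L ⊗[R] N, ∑ i, cN i z • ((1 : L) ⊗ₜ[R] y i) = z := fun z => by
    induction z using TensorProduct.induction_on with
    | zero => simp
    | tmul l z =>
      simp only [hcN, TensorProduct.smul_tmul', smul_eq_mul, mul_one]
      conv_rhs => rw [← hy z, TensorProduct.tmul_sum]
      exact Finset.sum_congr rfl fun i _ => by rw [TensorProduct.smul_tmul]
    | add z z' h h' => simp only [map_add, add_smul, Finset.sum_add_distrib, h, h']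
  let em : Matrix (Fin a) (Fin a) R := Matrix.of fun i k => sM (x k) i
  let en : Matrix (Fin b) (Fin b) R := Matrix.of fun i k => sN (y k) i
  have hm : em * em = em := by
    ext i k
    rw [Matrix.mul_apply]
    rw [show em i k = sM (x k) i from rfl]
    conv_rhs => rw [← hx (x k), map_sum, Finset.sum_apply]
    exact Finset.sum_congr rfl fun j _ => by simp [em, mul_comm]
  have hn : en * en = en := by
    ext i k
    rw [Matrix.mul_apply]
    rw [show en i k = sN (y k) i from rfl]
    conv_rhs => rw [← hy (y k), map_sum, Finset.sum_apply]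
    exact Finset.sum_congr rfl fun j _ => by simp [en, mul_comm]
  let U : Matrix (Fin a) (Fin b) L := Matrix.of fun i j => cM i (e.symm ((1 : L) ⊗ₜ y j))
  let V : Matrix (Fin b) (Fin a) L := Matrix.of fun j i => cN j (e ((1 : L) ⊗ₜ x i))
  have hUV : U * V = em.map (algebraMap R L) := by
    ext i k
    rw [Matrix.mul_apply]
    have h := congrArg (fun z => cM i (e.symm z)) (hexpN (e ((1 : L) ⊗ₜ x k)))
    simp only [map_sum, map_smul, smul_eq_mul, LinearEquiv.symm_apply_apply, hcM] at h
    simp only [U, V, em, Matrix.of_apply, Matrix.map_apply, Algebra.algebraMap_eq_smul_one]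
    rw [← h]
    exact Finset.sum_congr rfl fun j _ => mul_comm _ _
  have hVU : V * U = en.map (algebraMap R L) := by
    ext i k
    rw [Matrix.mul_apply]
    have h := congrArg (fun z => cN i (e z)) (hexpM (e.symm ((1 : L) ⊗ₜ y k)))
    simp only [map_sum, map_smul, smul_eq_mul, LinearEquiv.apply_symm_apply, hcN] at h
    simp only [U, V, en, Matrix.of_apply, Matrix.map_apply, Algebra.algebraMap_eq_smul_one]
    rw [← h]
    exact Finset.sum_congr rfl fun j _ => mul_comm _ _
  have hU : em.map (algebraMap R L) * U = U := by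
    ext i k
    rw [Matrix.mul_apply]
    have h := congrArg (cM i) (hexpM (e.symm ((1 : L) ⊗ₜ y k)))
    simp only [map_sum, map_smul, smul_eq_mul, hcM] at h
    simp only [U, em, Matrix.of_apply, Matrix.map_apply, Algebra.algebraMap_eq_smul_one]
    conv_rhs => rw [← h]
    exact Finset.sum_congr rfl fun j _ => mul_comm _ _
  have hV : en.map (algebraMap R L) * V = V := by
    ext i k
    rw [Matrix.mul_apply]
    have h := congrArg (cN i) (hexpN (e ((1 : L) ⊗ₜ x k)))
    simp only [map_sum, map_smul, smul_eq_mul, hcN] at h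
    simp only [V, en, Matrix.of_apply, Matrix.map_apply, Algebra.algebraMap_eq_smul_one]
    conv_rhs => rw [← h]
    exact Finset.sum_congr rfl fun j _ => mul_comm _ _
  let φ : L →+* LaurentSeries R := eL.toAlgHom.toRingHom
  have hφ : φ.comp (algebraMap R L) = (HahnSeries.C : R →+* LaurentSeries R) := RingHom.ext fun r => by
    show eL (algebraMap R L r) = _
    rw [AlgEquiv.commutes]
    rw [HahnSeries.algebraMap_apply', ← PowerSeries.C_eq_algebraMap, HahnSeries.ofPowerSeries_C]
  have hmap : ∀ (X : Matrix (Fin a) (Fin a) R), (X.map (algebraMap R L)).map φ = X.map (HahnSeries.C : R →+* LaurentSeries R) := fun X => by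
    rw [Matrix.map_map, ← RingHom.coe_comp, hφ]
  have hmap' : ∀ (X : Matrix (Fin b) (Fin b) R), (X.map (algebraMap R L)).map φ = X.map (HahnSeries.C : R →+* LaurentSeries R) := fun X => by
    rw [Matrix.map_map, ← RingHom.coe_comp, hφ]
  obtain ⟨F, G, hFG, hGF⟩ := sim_of_series hm hn (U.map φ) (V.map φ)
    (by rw [← Matrix.map_mul, hUV, hmap]) (by rw [← Matrix.map_mul, hVU, hmap'])
    (by rw [← hmap, ← Matrix.map_mul, hU]) (by rw [← hmap', ← Matrix.map_mul, hV])
  have hem : ∀ v, em.mulVec v = sM (πM v) := fun v => by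
    funext i
    conv_rhs => rw [show v = ∑ j, v j • Pi.single j 1 from pi_eq_sum_univ' _, map_sum, map_sum, Finset.sum_apply]
    simp [Matrix.mulVec, dotProduct, em, x, mul_comm]
  have hen : ∀ v, en.mulVec v = sN (πN v) := fun v => by
    funext i
    conv_rhs => rw [show v = ∑ j, v j • Pi.single j 1 from pi_eq_sum_univ' _, map_sum, map_sum, Finset.sum_apply]
    simp [Matrix.mulVec, dotProduct, en, y, mul_comm]
  have hsM' : ∀ z, πM (sM z) = z := LinearMap.congr_fun hsM
  have hsN' : ∀ z, πN (sN z) = z := LinearMap.congr_fun hsN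
  refine ⟨LinearEquiv.ofLinearMap (πN.comp (G.mulVecLin.comp sM)) (πM.comp (F.mulVecLin.comp sN))
    (LinearMap.ext fun z => ?_) (LinearMap.ext fun z => ?_)⟩
  · simp only [LinearMap.comp_apply, Matrix.mulVecLin_apply, LinearMap.id_apply]
    rw [← hem, ← hFG, Matrix.mulVec_mulVec, Matrix.mulVec_mulVec, ← Matrix.mul_assoc,
      hGF, Matrix.mul_assoc, hGF, hn, hen, hsN', hsN']
  · simp only [LinearMap.comp_apply, Matrix.mulVecLin_apply, LinearMap.id_apply]
    rw [← hen, ← hGF, Matrix.mulVec_mulVec, Matrix.mulVec_mulVec, ← Matrix.mul_assoc,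
      hFG, Matrix.mul_assoc, hFG, hm, hem, hsM', hsM']

end Groth.Agent.S15754
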