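import Groth.Statements.S15755
import Groth.Agent.Lib.ArtinApproxH7.FunctorCommAlg
import Groth.Agent.S0597

set_option autoImplicit false
universe u
open CategoryTheory CategoryTheory.Limits
open CAlg

namespace Groth.Agent.S15755

/-- Let (A, I) be a Henselian pair with A Noetherian whose map to the I-adic completion Â is a regular
ring homomorphism, and let F be a set-valued functor on commutative A-algebras preserving filtered
colimits. Then F(A) → F(Â) is injective, and an element of F(A/I) is in the image of F(A) if and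
only if it is in the image of F(Â) under the canonical A-algebra map Â → A/I. -/
theorem result (A : Type u) [CommRing A]
    [IsNoetherianRing A] (I : Ideal A) [HenselianRing A I]
    (hreg : CAlg.IsRegularHom A (AdicCompletion I A))
    (F : CommAlgCat.{u} A ⥤ Type u) [PreservesFilteredColimitsOfSize.{u, u} F] :
    Function.Injective (F.map (CommAlgCat.ofHom (Algebra.ofId A (AdicCompletion I A)))) ∧
    ∀ xbar : F.obj (CommAlgCat.of A (A ⧸ I)),
      (∃ x : F.obj (CommAlgCat.of A A), F.map (CommAlgCat.ofHom (Ideal.Quotient.mkₐ A I)) x = xbar) ↔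
      (∃ y : F.obj (CommAlgCat.of A (AdicCompletion I A)),
        F.map (CommAlgCat.ofHom (AdicCompletion.evalOneₐ I)) y = xbar) := by
  have hI : I.FG := IsNoetherian.noetherian I
  let T := AdicCompletion I A
  refine ⟨fun x x' hxx => ?_, fun xbar => ⟨fun ⟨x, hx⟩ => ⟨F.map (CommAlgCat.ofHom (Algebra.ofId A T)) x, ?_⟩, fun ⟨y, hy⟩ => ?_⟩⟩
  · obtain ⟨t, ht⟩ := Groth.Agent.ArtinApproxH7.exists_fg_eq F T x x' hxx
    let E := Algebra.adjoin A (t : Set T)
    haveI : Algebra.FiniteType A E := (Subalgebra.fg_iff_finiteType _).1 ⟨t, rfl⟩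
    haveI : Algebra.FinitePresentation A E := Algebra.FinitePresentation.of_finiteType.1 inferInstance
    haveI : IsNoetherianRing T := Compl.isNoetherianRing_adicCompletion I hI
    obtain ⟨B, _, _, hB, g, h, -⟩ := Groth.Agent.PopescuH7.indSmooth_of_isRegularHom hreg E inferInstance E.val
    haveI := hB
    obtain ⟨τ, -⟩ := Groth.Agent.Hens.exists_smooth_lift_of_henselianRing ‹HenselianRing A I›
      ((AdicCompletion.evalOneₐ I).comp h)
    have key : ∀ z : F.obj (CommAlgCat.of A A),
        F.map (CommAlgCat.ofHom (τ.comp g)) (F.map (CommAlgCat.ofHom (Algebra.ofId A E)) z) = z := fun z => by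
      rw [← FunctorToTypes.map_comp_apply]
      refine Eq.trans (congrArg (fun k => F.map k z) ?_) (FunctorToTypes.map_id_apply F z)
      ext
    rw [← key x, ← key x', ht]
  · rw [← FunctorToTypes.map_comp_apply, ← hx]
    refine congrArg (fun k => F.map k x) ?_
    ext
  · obtain ⟨η, hη⟩ := Groth.Agent.ArtinApproxH7.exists_eq_map (R := CommRingCat.of A)
      (Groth.Agent.ArtinApproxH7.underF F) (fun J _ _ => inferInstance) T (A ⧸ I) A
      (AdicCompletion.evalOneₐ I) (Ideal.Quotient.mkₐ A I) (fun k s x hx => by
        obtain ⟨b, hb, hcong⟩ := Groth.Agent.S0597.result A I hreg k s.card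
          (fun i => (s.equivFin.symm i).1) x (fun j => by rw [MvPolynomial.eval_map]; exact hx _ (s.equivFin.symm j).2) 1
        refine ⟨b, fun q hq => ?_, fun j => ?_⟩
        · have h1 := hb (s.equivFin ⟨q, hq⟩)
          rw [Equiv.symm_apply_apply] at h1
          exact h1
        · have h := hcong j
          rw [pow_one, ← AdicCompletion.ker_evalOneₐ_eq_map I hI] at h
          have h2 : AdicCompletion.evalOneₐ I (x j - algebraMap A T (b j)) = 0 := h
          rw [map_sub, AlgHom.commutes, sub_eq_zero] at h2
          exact h2.symm) (Groth.Agent.ArtinApproxH7.toG F T y)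
    refine ⟨Groth.Agent.ArtinApproxH7.ofG F A η, ?_⟩
    rw [← Groth.Agent.ArtinApproxH7.ofG_map, hη, Groth.Agent.ArtinApproxH7.ofG_map,
      Groth.Agent.ArtinApproxH7.ofG_toG, hy]

end Groth.Agent.S15755
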