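import Groth.Statements.S15756
import Mathlib
import Groth.Agent.Lib.DenseProj.Instances
import Groth.Agent.Lib.Hens.System
import Groth.Agent.Lib.Hens.SmoothLift

set_option autoImplicit false
universe u
open CAlg

namespace Groth.Agent.S15756
open CAlg

open MvPolynomial Matrix Groth.Agent.DenseProj

theorem exists_coeffs {R : Type u} [CommRing R] {m : ℕ} (f : Fin m → R) (J : Ideal R)
    (hJ : J = Ideal.span (Set.range f)) {x : R} (hx : x ∈ J * J) :
    ∃ r : Fin m → R, (∀ k, r k ∈ J) ∧ x = ∑ k, r k * f k := by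
  induction hx using Submodule.mul_induction_on' with
  | mem_mul_mem a ha b hb =>
    obtain ⟨c, hc⟩ := Ideal.mem_span_range_iff_exists_fun.1 (hJ ▸ hb : b ∈ Ideal.span (Set.range f))
    exact ⟨fun k => a * c k, fun k => J.mul_mem_right _ ha, by
      rw [← hc, Finset.mul_sum]; exact Finset.sum_congr rfl fun k _ => by ring⟩
  | add x _ y _ hx hy =>
    obtain ⟨r, hr, rfl⟩ := hx
    obtain ⟨r', hr', rfl⟩ := hy
    exact ⟨fun k => r k + r' k, fun k => add_mem (hr k) (hr' k), by simp [add_mul, Finset.sum_add_distrib]⟩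

/-- the linear data of a smooth presentation -/
theorem exists_data {L : Type u} [CommRing L] {C : Type u} [CommRing C] [Algebra L C] [Algebra.FormallySmooth L C]
    {N m : ℕ} (Θπ : MvPolynomial (Fin N) L →ₐ[L] C) (hPi : Function.Surjective Θπ)
    (f : Fin m → MvPolynomial (Fin N) L) (hf : RingHom.ker Θπ = Ideal.span (Set.range f)) :
    ∃ (H : Matrix (Fin N) (Fin m) (MvPolynomial (Fin N) L)) (Φ : Matrix (Fin m) (Fin m) (MvPolynomial (Fin N) L)),
      let D : Matrix (Fin m) (Fin N) (MvPolynomial (Fin N) L) := Matrix.of fun l j => pderiv j (f l)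
      (∀ l, f l = ∑ k, Φ l k * f k) ∧ (∀ l k, (Φ - D * H) l k ∈ RingHom.ker Θπ) ∧
        ∀ l j, (D * H * D - D) l j ∈ RingHom.ker Θπ := by
  classical
  set J := RingHom.ker Θπ with hJ
  let D : Matrix (Fin m) (Fin N) (MvPolynomial (Fin N) L) := Matrix.of fun l j => pderiv j (f l)
  let π2 : MvPolynomial (Fin N) L →ₐ[L] MvPolynomial (Fin N) L ⧸ J ^ 2 := Ideal.Quotient.mkₐ L _
  let q : (MvPolynomial (Fin N) L ⧸ J ^ 2) →ₐ[L] C := Ideal.Quotient.liftₐ _ Θπ fun x hx =>
    RingHom.mem_ker.1 (Ideal.pow_le_self two_ne_zero hx)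
  have hq : Function.Surjective q := fun c => by
    obtain ⟨p, rfl⟩ := hPi c
    exact ⟨π2 p, rfl⟩
  have hnil : IsNilpotent (RingHom.ker (q : (MvPolynomial (Fin N) L ⧸ J ^ 2) →+* C)) := by
    refine ⟨2, (Submodule.eq_bot_iff _).2 fun x hx => ?_⟩
    have hker : RingHom.ker (q : (MvPolynomial (Fin N) L ⧸ J ^ 2) →+* C) ≤ J.map (Ideal.Quotient.mk (J ^ 2)) := by
      intro y hy
      obtain ⟨y, rfl⟩ := Ideal.Quotient.mk_surjective y
      exact Ideal.mem_map_of_mem _ (hy : Θπ y = 0)
    have := Ideal.pow_right_mono hker 2 hx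
    rwa [← Ideal.map_pow, Ideal.map_quotient_self, Ideal.mem_bot] at this
  let s := Algebra.FormallySmooth.liftOfSurjective (AlgHom.id L C) q hq hnil
  have hs : ∀ c, q (s c) = c := Algebra.FormallySmooth.liftOfSurjective_apply (AlgHom.id L C) q hq hnil
  choose u hu using fun j => Ideal.Quotient.mk_surjective (s (Θπ (X j)))
  have hg : ∀ j, X j - u j ∈ J := fun j => by
    rw [hJ, RingHom.mem_ker, map_sub, sub_eq_zero]
    have h1 := hs (Θπ (X j))
    rw [← hu j] at h1
    exact h1.symm
  have hkey : ∀ l, f l - ∑ j, pderiv j (f l) * (X j - u j) ∈ J * J := fun l => by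
    have h1 := Groth.Agent.Hens.taylor_mem_sq J (fun j => X j - u j) hg (f l)
    simp only [sub_sub_cancel] at h1
    have h2 : π2.comp (aeval u) = s.comp Θπ := MvPolynomial.algHom_ext fun j => by simp [π2, hu]
    have h3 : aeval u (f l) ∈ J ^ 2 := by
      rw [← Ideal.Quotient.eq_zero_iff_mem]
      have h4 := congr($h2 (f l))
      simp only [AlgHom.comp_apply] at h4
      rw [show Θπ (f l) = 0 from RingHom.mem_ker.1 (hf ▸ Ideal.subset_span ⟨l, rfl⟩ : f l ∈ J), map_zero] at h4
      exact h4
    rw [pow_two] at h3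
    have := sub_mem h3 h1
    rwa [sub_sub_cancel] at this
  choose H hH using fun j => Ideal.mem_span_range_iff_exists_fun.1 (hf ▸ hg j : X j - u j ∈ Ideal.span (Set.range f))
  choose r hr hre using fun l => exists_coeffs f J hf (hkey l)
  let Hm : Matrix (Fin N) (Fin m) (MvPolynomial (Fin N) L) := Matrix.of H
  let Φ : Matrix (Fin m) (Fin m) (MvPolynomial (Fin N) L) := D * Hm + Matrix.of r
  have hΦ : ∀ l, f l = ∑ k, Φ l k * f k := fun l => by
    have h5 : ∑ j, pderiv j (f l) * (X j - u j) = ∑ k, (D * Hm) l k * f k := by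
      simp only [Matrix.mul_apply, D, Hm, Matrix.of_apply, Finset.sum_mul]
      rw [Finset.sum_comm]
      exact Finset.sum_congr rfl fun j _ => by
        rw [← hH j, Finset.mul_sum]; exact Finset.sum_congr rfl fun k _ => by ring
    calc f l = ∑ j, pderiv j (f l) * (X j - u j) + ∑ k, r l k * f k := by rw [← hre l]; ring
      _ = ∑ k, Φ l k * f k := by
        rw [h5, ← Finset.sum_add_distrib]
        exact Finset.sum_congr rfl fun k _ => by simp [Φ, add_mul]
  refine ⟨Hm, Φ, hΦ, fun l k => by simp [Φ, D, hr l k], fun l j => ?_⟩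
  -- differentiate
  have hfJ : ∀ k, f k ∈ J := fun k => hf ▸ Ideal.subset_span ⟨k, rfl⟩
  have h6 : D l j - ∑ k, Φ l k * D k j ∈ J := by
    have := congrArg (pderiv j) (hΦ l)
    rw [map_sum] at this
    simp only [pderiv_mul, Finset.sum_add_distrib] at this
    show pderiv j (f l) - ∑ k, Φ l k * pderiv j (f k) ∈ J
    rw [this, add_sub_cancel_right]
    exact sum_mem fun k _ => J.mul_mem_left _ (hfJ k)
  have h7 : ∑ k, Matrix.of r l k * D k j ∈ J := sum_mem fun k _ => J.mul_mem_right _ (hr l k)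
  have h8 : (D * Hm * D - D) l j = -(D l j - ∑ k, Φ l k * D k j) - ∑ k, Matrix.of r l k * D k j := by
    simp only [Matrix.sub_apply, Φ, Matrix.add_apply, add_mul, Finset.sum_add_distrib, Matrix.mul_apply (M := D * Hm)]
    ring
  show (D * Hm * D - D) l j ∈ J
  rw [h8]
  exact sub_mem (neg_mem h6) h7

theorem eval_taylor {R : Type u} [CommRing R] {N : ℕ} (a d : Fin N → R) (I : Ideal R) (hd : ∀ j, d j ∈ I)
    (p : MvPolynomial (Fin N) R) :
    eval (fun j => a j + d j) p - (eval a p + ∑ j, eval a (pderiv j p) * d j) ∈ I * I := by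
  induction p using MvPolynomial.induction_on with
  | C r => simp
  | add p q hp hq =>
    convert add_mem hp hq using 1
    simp only [map_add, add_mul, Finset.sum_add_distrib]
    ring
  | mul_X p i hp =>
    have hT : (∑ k, eval a (pderiv k (p * X i)) * d k) =
        (∑ k, eval a (pderiv k p) * d k) * a i + eval a p * d i := by
      classical
      simp only [pderiv_mul, pderiv_X, Pi.single_apply, map_add, map_mul, eval_X, apply_ite (eval a), map_one,
        map_zero, add_mul, Finset.sum_add_distrib, Finset.sum_mul]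
      congr 1
      · exact Finset.sum_congr rfl fun k _ => by ring
      · simp [Finset.sum_ite_eq']
    have h1 := (I * I).mul_mem_right (a i + d i) hp
    have hsum : (∑ k, eval a (pderiv k p) * d k) * d i ∈ I * I :=
      Ideal.mul_mem_mul (Ideal.sum_mem _ fun k _ => Ideal.mul_mem_left _ _ (hd k)) (hd i)
    convert add_mem h1 hsum using 1
    rw [map_mul, map_mul, eval_X, eval_X, hT]
    ring

theorem eval_sub_mem {R : Type u} [CommRing R] {N : ℕ} (a b : Fin N → R) (I : Ideal R) (h : ∀ j, a j - b j ∈ I)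
    (p : MvPolynomial (Fin N) R) : eval a p - eval b p ∈ I := by
  rw [← Ideal.Quotient.eq, map_eval, map_eval]
  exact congrArg (fun g => eval g (MvPolynomial.map (Ideal.Quotient.mk I) p)) (funext fun j => Ideal.Quotient.eq.2 (h j))

set_option maxHeartbeats 6000000 in

/-- Case of the whole affine base U = Spec A, the unit ideal I = A and an affine scheme X: let A be a
ring with an element t such that (A, tA) is a Henselian pair and the t-power torsion of A is
bounded, let Â be the t-adic completion, and let B be an A-algebra of finite type with B[1/t] smooth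
over A[1/t]. Then every A-algebra homomorphism B → Â is congruent modulo t^n, for any prescribed n,
to an A-algebra homomorphism B → A. (The published statement allows any quasi-compact open U of Spec
A containing Spec A[1/t], any bounded Zariski Gabber–Ramero triple (A, t, I) that is Henselian (or,
instead, satisfies a lifting condition for Zariski pairs over A[1/t]), and U-schemes locally of
finite type that are ind-quasi-affine or subprojective and smooth over A[1/t], and it asserts
density of X(U) in X(U_Â) for the (t, I)-adic topology; this row is the case U = Spec A, I = A, X =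
Spec B affine, under the Henselian alternative.) -/
theorem result (A : Type u) [CommRing A] (t : A)
    [HenselianRing A (Ideal.span {t})]
    (hbd : ∃ N : ℕ, ∀ a : A, (∃ m : ℕ, t ^ m * a = 0) → t ^ N * a = 0)
    (B : Type u) [CommRing B] [Algebra A B] [Algebra.FiniteType A B]
    (hsm : Algebra.Smooth (Localization.Away t)
      (Localization (Algebra.algebraMapSubmonoid B (Submonoid.powers t))))
    (n : ℕ) (σ : B →ₐ[A] AdicCompletion (Ideal.span {t}) A) :
    ∃ τ : B →ₐ[A] A,
      (Ideal.Quotient.mkₐ A (Ideal.span {t} ^ n)).comp τ =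
        (AdicCompletion.evalₐ (Ideal.span {t}) n).comp σ := by
  classical
  have hH : HenselianRing A (Ideal.span {t}) := inferInstance
  have ht : t ∈ (⊥ : Ideal A).jacobson := hH.jac (Ideal.mem_span_singleton_self t)
  let ι : A →+* AdicCompletion (Ideal.span ({t} : Set A)) A := algebraMap A _
  have Cc : Cpl ι t := cpl_adicCompletion ht
  let L := Localization.Away t
  let L' := Localization.Away (ι t)
  let φ : L →+* L' := Localization.awayMap ι t
  have hφ : ∀ a : A, φ (algebraMap A L a) = algebraMap _ L' (ι a) := fun a => IsLocalization.map_eq _ a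
  let D := Cc.dense hφ
  have htu : IsUnit (algebraMap A L t) := IsLocalization.Away.algebraMap_isUnit _
  let M := Algebra.algebraMapSubmonoid B (Submonoid.powers t)
  let C := Localization M
  -- presentation
  obtain ⟨N, π0, hπ0⟩ := Algebra.FiniteType.iff_quotient_mvPolynomial''.1 (inferInstance : Algebra.FiniteType A B)
  let xC : Fin N → C := fun j => algebraMap B C (π0 (X j))
  let Θπ : MvPolynomial (Fin N) L →ₐ[L] C := aeval xC
  let mp := MvPolynomial.map (σ := Fin N) (algebraMap A L)
  have hPimap : ∀ p : MvPolynomial (Fin N) A, Θπ (mp p) = algebraMap B C (π0 p) := by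
    intro p
    show aeval xC (MvPolynomial.map (algebraMap A L) p) = _
    rw [aeval_map_algebraMap]
    exact (congr($(MvPolynomial.aeval_unique ((IsScalarTower.toAlgHom A B C).comp π0)) p)).symm
  have hPi : Function.Surjective Θπ := by
    intro c
    obtain ⟨b, ⟨_, s, ⟨k, rfl⟩, rfl⟩, rfl⟩ := IsLocalization.exists_mk'_eq M c
    obtain ⟨p, rfl⟩ := hπ0 b
    obtain ⟨v, hv⟩ := htu.exists_left_inv
    refine ⟨MvPolynomial.C (v ^ k) * mp p, (IsLocalization.eq_mk'_iff_mul_eq).2 ?_⟩
    rw [map_mul, hPimap, aeval_C, mul_right_comm]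
    show algebraMap L C (v ^ k) * algebraMap B C (algebraMap A B (t ^ k)) * algebraMap B C (π0 p) = _
    rw [← IsScalarTower.algebraMap_apply A B C, IsScalarTower.algebraMap_apply A L C, ← map_mul,
      map_pow (algebraMap A L), ← mul_pow, hv, one_pow, map_one, one_mul]
  haveI : Algebra.Smooth L C := hsm
  obtain ⟨gens, hgens⟩ := Algebra.FinitePresentation.ker_fG_of_surjective Θπ hPi
  -- clear denominators of the generators
  have hmapC : ∀ a, mp (MvPolynomial.C a) = MvPolynomial.C (algebraMap A L a) := fun a => map_C _ _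
  letI : Algebra (MvPolynomial (Fin N) A) (MvPolynomial (Fin N) L) := mp.toAlgebra
  haveI hloc : IsLocalization ((Submonoid.powers t).map (MvPolynomial.C (σ := Fin N))) (MvPolynomial (Fin N) L) :=
    MvPolynomial.isLocalization (Submonoid.powers t) L
  have hclear : ∀ p : MvPolynomial (Fin N) L, ∃ (k : ℕ) (q : MvPolynomial (Fin N) A),
      MvPolynomial.C (algebraMap A L t ^ k) * p = mp q := fun p => by
    obtain ⟨⟨q, ⟨_, _, ⟨k, rfl⟩, rfl⟩⟩, hq⟩ := IsLocalization.surj ((Submonoid.powers t).map (MvPolynomial.C (σ := Fin N))) p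
    refine ⟨k, q, ?_⟩
    rw [mul_comm, ← map_pow, ← hmapC]
    exact hq
  let m := gens.card
  let gi : Fin m → MvPolynomial (Fin N) L := fun l => (gens.equivFin.symm l : MvPolynomial (Fin N) L)
  choose k1 q1 hq1 using fun l => hclear (gi l)
  have hq1B : ∀ l, ∃ k, algebraMap A B (t ^ k) * π0 (q1 l) = 0 := fun l => by
    have h1 : algebraMap B C (π0 (q1 l)) = 0 := by
      rw [← hPimap, ← hq1, map_mul]
      have : gi l ∈ RingHom.ker Θπ.toRingHom := hgens ▸ Ideal.subset_span (gens.equivFin.symm l).2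
      rw [show Θπ (gi l) = 0 from this, mul_zero]
    obtain ⟨⟨_, _, ⟨k, rfl⟩, rfl⟩, hk⟩ := (IsLocalization.map_eq_zero_iff M C _).1 h1
    exact ⟨k, hk⟩
  choose k2 hk2 using hq1B
  let fA : Fin m → MvPolynomial (Fin N) A := fun l => MvPolynomial.C (t ^ k2 l) * q1 l
  have hfA : ∀ l, π0 (fA l) = 0 := fun l => by
    rw [map_mul, ← MvPolynomial.algebraMap_eq, AlgHom.commutes]; exact hk2 l
  let f : Fin m → MvPolynomial (Fin N) L := fun l => mp (fA l)
  have hfg : ∀ l, f l = MvPolynomial.C (algebraMap A L t ^ (k2 l + k1 l)) * gi l := fun l => by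
    show mp (MvPolynomial.C (t ^ k2 l) * q1 l) = _
    rw [map_mul, hmapC, ← hq1, map_pow, pow_add, map_mul]; ring
  have hker : RingHom.ker Θπ = Ideal.span (Set.range f) := by
    refine le_antisymm ?_ (Ideal.span_le.2 ?_)
    · have hle : Ideal.span (gens : Set (MvPolynomial (Fin N) L)) ≤ Ideal.span (Set.range f) := by
        refine Ideal.span_le.2 fun g hg => ?_
        obtain ⟨l, hl⟩ : ∃ l, gi l = g := ⟨gens.equivFin ⟨g, hg⟩, by simp [gi]⟩
        obtain ⟨v, hv⟩ := (htu.pow (k2 l + k1 l)).exists_left_inv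
        have : g = MvPolynomial.C v * f l := by rw [hfg, ← mul_assoc, ← map_mul, hv, map_one, one_mul, hl]
        rw [this]
        exact Ideal.mul_mem_left _ _ (Ideal.subset_span ⟨l, rfl⟩)
      rw [hgens] at hle
      exact hle
    · rintro _ ⟨l, rfl⟩
      show Θπ (mp (fA l)) = 0
      rw [hPimap, hfA, map_zero]
  obtain ⟨H, Φ, hΦ, hΦJ, hDJ⟩ := exists_data Θπ hPi f hker
  -- integral versions
  obtain ⟨c, hcH, hcΦ⟩ : ∃ c : ℕ, (∀ j k, ∃ q, MvPolynomial.C (algebraMap A L t ^ c) * H j k = mp q) ∧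
      ∀ l k, ∃ q, MvPolynomial.C (algebraMap A L t ^ c) * Φ l k = mp q := by
    choose e q he using fun x : (Fin N × Fin m) ⊕ (Fin m × Fin m) =>
      hclear (Sum.elim (fun p : Fin N × Fin m => H p.1 p.2) (fun p : Fin m × Fin m => Φ p.1 p.2) x)
    have up : ∀ x, ∃ q', MvPolynomial.C (algebraMap A L t ^ Finset.univ.sup e) *
        Sum.elim (fun p : Fin N × Fin m => H p.1 p.2) (fun p : Fin m × Fin m => Φ p.1 p.2) x = mp q' := fun x => by
      refine ⟨MvPolynomial.C (t ^ (Finset.univ.sup e - e x)) * q x, ?_⟩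
      rw [map_mul, hmapC, ← he, ← mul_assoc, ← map_mul, map_pow (algebraMap A L), ← pow_add,
        Nat.sub_add_cancel (Finset.le_sup (Finset.mem_univ x))]
    exact ⟨Finset.univ.sup e, fun j k => up (Sum.inl (j, k)), fun l k => up (Sum.inr (l, k))⟩
  choose Hi hHi using hcH
  choose Φi hΦi using hcΦ
  -- the point
  let xh : Fin N → AdicCompletion (Ideal.span ({t} : Set A)) A := fun j => σ (π0 (X j))
  have hxh : ∀ p : MvPolynomial (Fin N) A, eval₂ ι xh p = σ (π0 p) := fun p =>
    (congr($(MvPolynomial.aeval_unique (σ.comp π0)) p)).symm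
  let ev' : MvPolynomial (Fin N) L →+* L' := eval₂Hom φ fun j => algebraMap _ L' (xh j)
  have hev' : ∀ p, ev' (mp p) = algebraMap _ L' (eval₂ ι xh p) := fun p => by
    show eval₂ φ _ (MvPolynomial.map (algebraMap A L) p) = _
    rw [eval₂_map, eval₂_comp_left (algebraMap _ L') ι xh p]
    congr 1
    exact RingHom.ext hφ
  have hevker : ∀ p ∈ RingHom.ker Θπ, ev' p = 0 := fun p hp => by
    rw [hker] at hp
    induction hp using Submodule.span_induction with
    | mem x hx =>
      obtain ⟨l, rfl⟩ := hx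
      rw [hev', hxh, hfA, map_zero, map_zero]
    | zero => simp
    | add x y _ _ hx hy => rw [map_add, hx, hy, add_zero]
    | smul r x _ hx => rw [smul_eq_mul, map_mul, hx, mul_zero]
  let Dm : Matrix (Fin m) (Fin N) (MvPolynomial (Fin N) L) := Matrix.of fun l j => pderiv j (f l)
  let e : Matrix (Fin m) (Fin m) L' := (Dm * H).map ev'
  have hee : e * e = e := by
    have h1 : (Dm * H * Dm).map ev' = Dm.map ev' := by
      ext l j
      have := hevker _ (hDJ l j)
      rw [Matrix.sub_apply, map_sub, sub_eq_zero] at this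
      exact this
    show (Dm * H).map ev' * (Dm * H).map ev' = (Dm * H).map ev'
    rw [← Matrix.map_mul, ← Matrix.mul_assoc, Matrix.map_mul, h1, ← Matrix.map_mul]
  have hΦe : Φ.map ev' = e := by
    ext l k
    have := hevker _ (hΦJ l k)
    rw [Matrix.sub_apply, map_sub, sub_eq_zero] at this
    exact this
  obtain ⟨P, hPP, hP⟩ := Cc.exists_idem_matrix_close hφ e hee 1
  obtain ⟨N0, hN0⟩ := hbd
  -- precision
  obtain ⟨s, hs⟩ : ∃ s, s = 2 * c + 2 + n + N0 := ⟨_, rfl⟩
  choose a0 b0 hab using fun j => Cc.approx (xh j) (2 * s + c + 1)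
  obtain ⟨tM, htM⟩ : ∃ T : Ideal (AdicCompletion (Ideal.span ({t} : Set A)) A), T = Ideal.span {ι t ^ (2 * s + c + 1)} := ⟨_, rfl⟩
  have ha0 : ∀ p : MvPolynomial (Fin N) A, ∀ a : Fin N → A,
      ι (eval a p) - eval₂ ι xh p = eval (fun j => ι (a j)) (MvPolynomial.map ι p) - eval xh (MvPolynomial.map ι p) := by
    intro p a
    rw [map_eval, ← eval_map]
    rfl
  have happ : ∀ (p : MvPolynomial (Fin N) A) (a : Fin N → A) (K : ℕ), (∀ j, ∃ b, xh j = ι (a j) + ι t ^ K * b) →
      ∃ b, ι (eval a p) = eval₂ ι xh p + ι t ^ K * b := by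
    intro p a K ha
    have h1 : ι (eval a p) - eval₂ ι xh p ∈ Ideal.span {ι t ^ K} := by
      rw [ha0]
      refine eval_sub_mem _ _ _ (fun j => ?_) _
      obtain ⟨b, hb⟩ := ha j
      exact Ideal.mem_span_singleton.2 ⟨-b, by rw [hb]; ring⟩
    obtain ⟨b, hb⟩ := Ideal.mem_span_singleton.1 h1
    exact ⟨b, by rw [← hb]; ring⟩
  have hval : ∀ l, ∃ u, eval a0 (fA l) = t ^ (2 * s + c + 1) * u := fun l => by
    obtain ⟨b, hb⟩ := happ (fA l) a0 _ (fun j => ⟨b0 j, hab j⟩)
    rw [hxh, hfA, map_zero, zero_add] at hb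
    exact Cc.refl _ _ _ hb
  choose u hu using hval
  let J0 : Matrix (Fin m) (Fin N) A := Matrix.of fun l j => eval a0 (pderiv j (fA l))
  let H0 : Matrix (Fin N) (Fin m) A := Matrix.of fun j k => eval a0 (Hi j k)
  let al := algebraMap A L
  let tv := al t
  obtain ⟨v, hv⟩ := htu.exists_left_inv
  have hsmall : ∀ l k, D.Nb 1 (φ ((v ^ c) * al ((J0 * H0) l k) - P l k)) := by
    intro l k
    have hDi : ∀ l j, Dm l j = mp (pderiv j (fA l)) := fun l j => pderiv_map
    have h1 : MvPolynomial.C (tv ^ c) * (Dm * H) l k = mp (∑ j, pderiv j (fA l) * Hi j k) := by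
      rw [Matrix.mul_apply, Finset.mul_sum, map_sum]
      refine Finset.sum_congr rfl fun j _ => ?_
      rw [map_mul, ← hHi, ← hDi]; ring
    obtain ⟨b, hb⟩ := happ (∑ j, pderiv j (fA l) * Hi j k) a0 _ (fun j => ⟨b0 j, hab j⟩)
    have h2 := congrArg ev' h1
    rw [map_mul, hev'] at h2
    simp only [ev', coe_eval₂Hom, eval₂_C] at h2
    have h3 : (J0 * H0) l k = eval a0 (∑ j, pderiv j (fA l) * Hi j k) := by
      simp [Matrix.mul_apply, J0, H0, map_sum]
    have h4 : φ (v ^ c * al ((J0 * H0) l k)) = e l k + φ (v ^ c) * algebraMap _ L' (ι t ^ (2 * s + c + 1) * b) := by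
      have hvc : φ (v ^ c) * φ (tv ^ c) = 1 := by rw [← map_mul, ← mul_pow, hv, one_pow, map_one]
      rw [map_mul, h3, hφ, hb, map_add]
      have he : e l k = ev' ((Dm * H) l k) := rfl
      rw [he]
      simp only [ev', coe_eval₂Hom] at h2 ⊢
      linear_combination (-(φ (v ^ c))) * h2 + eval₂ φ (fun j => algebraMap _ L' (xh j)) ((Dm * H) l k) * hvc
    have h5 : D.Nb 1 (φ (v ^ c) * algebraMap _ L' (ι t ^ (2 * s + c + 1) * b)) := by
      suffices h : D.Nb ((2 * s + 1 : ℕ) : ℤ) (φ (v ^ c) * algebraMap _ L' (ι t ^ (2 * s + c + 1) * b)) from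
        D.nb_mono h (by omega)
      refine ⟨b, ?_⟩
      have hu' : φ (v ^ c) * algebraMap _ L' (ι t) ^ c = 1 := by
        rw [← hφ, ← map_pow, ← map_mul, ← mul_pow, hv, one_pow, map_one]
      rw [_root_.zpow_neg, _root_.zpow_natCast, Units.eq_inv_mul_iff_mul_eq, Units.val_pow_eq_pow_val]
      show algebraMap _ L' (ι t) ^ (2 * s + 1) * _ = _
      rw [show 2 * s + c + 1 = (2 * s + 1) + c by ring]
      simp only [map_mul, map_pow, pow_add, pow_one] at hu' ⊢
      linear_combination (-(algebraMap _ L' (ι t) ^ (2 * s + 1) * algebraMap _ L' b)) * hu'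
    have h6 : D.Nb 1 (e l k - φ (P l k)) := hP l k
    have := D.nb_add h6 h5
    rw [map_sub, h4]
    convert this using 1
    ring
  choose Δ hΔ using fun l k => Cc.exists_eq_pow_mul hφ _ 1 (hsmall l k)
  -- the system over `A`
  have hsc : c ≤ s := by omega
  let d : Fin N → MvPolynomial (Fin m) A := fun j =>
    MvPolynomial.C (t ^ (s - c)) * ∑ k, MvPolynomial.C (H0 j k) * X k
  let a0C : Fin N → MvPolynomial (Fin m) A := fun j => MvPolynomial.C (a0 j)
  have hqq : ∀ l, ∃ q, eval (fun j => a0C j + d j) (MvPolynomial.map MvPolynomial.C (fA l)) -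
      (MvPolynomial.C (eval a0 (fA l)) + ∑ j, MvPolynomial.C (J0 l j) * d j) =
        MvPolynomial.C (t ^ (s - c + (s - c))) * q := fun l => by
    have h1 := eval_taylor a0C d (Ideal.span {MvPolynomial.C (t ^ (s - c))})
      (fun j => Ideal.mem_span_singleton.2 ⟨_, rfl⟩) (MvPolynomial.map MvPolynomial.C (fA l))
    rw [Ideal.span_singleton_mul_span_singleton, ← map_mul, ← pow_add, Ideal.mem_span_singleton] at h1
    obtain ⟨q, hq⟩ := h1
    refine ⟨q, ?_⟩
    rw [← hq]
    have hev : ∀ p : MvPolynomial (Fin N) A, eval a0C (MvPolynomial.map MvPolynomial.C p) = MvPolynomial.C (eval a0 p) := fun p => by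
      rw [map_eval]
      rfl
    simp only [pderiv_map, hev, J0, Matrix.of_apply]
  choose qq hqq using hqq
  let Q : Fin m → MvPolynomial (Fin m) A := fun l => X l + MvPolynomial.C t *
    (∑ k, MvPolynomial.C (Δ l k) * X k + MvPolynomial.C (t ^ (s + c) * u l) + MvPolynomial.C (t ^ (s - 2 * c - 1)) * qq l)
  have hQ0 : ∀ l, eval (0 : Fin m → A) (Q l) ∈ Ideal.span {t} := fun l => by
    simp only [Q, map_add, map_mul, eval_X, eval_C, Pi.zero_apply, zero_add]
    exact Ideal.mul_mem_right _ _ (Ideal.mem_span_singleton_self t)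
  have hjac : IsUnit (Ideal.Quotient.mk (Ideal.span {t}) (eval (0 : Fin m → A) (Groth.Agent.Hens.jacDet Q))) := by
    rw [Groth.Agent.Hens.jacDet, RingHom.map_det, RingHom.map_det]
    have : (Ideal.Quotient.mk (Ideal.span {t})).mapMatrix ((eval (0 : Fin m → A)).mapMatrix
        (Matrix.of fun i j => pderiv j (Q i))) = 1 := by
      ext i j
      have h0 : Ideal.Quotient.mk (Ideal.span {t}) t = 0 :=
        Ideal.Quotient.eq_zero_iff_mem.2 (Ideal.mem_span_singleton_self t)
      simp only [RingHom.mapMatrix_apply, Matrix.map_apply, Matrix.of_apply, Q, map_add, pderiv_mul, pderiv_C,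
        zero_mul, zero_add, map_mul, eval_C, h0, add_zero, pderiv_X]
      rcases eq_or_ne i j with h | h
      · subst h; simp
      · simp [Matrix.one_apply_ne h, h]
    rw [this, Matrix.det_one]
    exact isUnit_one
  obtain ⟨z, hz, -⟩ := Groth.Agent.Hens.exists_zero_of_isUnit_jacDet hH Q 0 hQ0 hjac
  let a : Fin N → A := fun j => a0 j + t ^ (s - c) * (H0 *ᵥ z) j
  have hFa : ∀ l, eval a (fA l) = eval a0 (fA l) + ∑ j, J0 l j * (t ^ (s - c) * (H0 *ᵥ z) j) +
      t ^ (s - c + (s - c)) * eval z (qq l) := fun l => by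
    have h1 := congrArg (eval z) (hqq l)
    simp only [map_sub, map_add, map_sum, map_mul, eval_C, d, eval_X] at h1
    have h2 : eval z (eval (fun j => a0C j + d j) (MvPolynomial.map MvPolynomial.C (fA l))) = eval a (fA l) := by
      rw [eval_map, eval₂_comp_left (eval z)]
      rw [← eval₂_id]
      congr 1
      · exact RingHom.ext fun r => by simp
      · funext j
        simp [a, a0C, d, Matrix.mulVec, dotProduct, map_sum]
    simp only [d, map_add, map_mul, eval_C, map_sum, eval_X] at h2
    rw [h2] at h1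
    simp only [Matrix.mulVec, dotProduct]
    linear_combination h1
  let y : Fin m → L := fun l => tv ^ s * al (z l)
  have hsys : ∀ l, al (eval a (fA l)) = -(y l - (P *ᵥ y) l) := fun l => by
    have hz' := congrArg al (hz l)
    simp only [Q, map_add, map_mul, map_sum, eval_X, eval_C, map_zero, map_pow] at hz'
    have h2 : al (∑ j, J0 l j * (t ^ (s - c) * (H0 *ᵥ z) j)) = tv ^ (s - c) * ∑ k, al ((J0 * H0) l k) * al (z k) := by
      rw [← map_pow]
      simp only [← map_mul, ← map_sum]
      congr 1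
      simp only [Matrix.mulVec, dotProduct, Matrix.mul_apply, Finset.mul_sum, Finset.sum_mul]
      rw [Finset.sum_comm]
      exact Finset.sum_congr rfl fun k _ => Finset.sum_congr rfl fun j _ => by ring
    have h3 : ∀ k, al ((J0 * H0) l k) = tv ^ c * P l k + tv ^ (c + 1) * al (Δ l k) := fun k => by
      have h7 := hΔ l k
      have hvc : v ^ c * tv ^ c = 1 := by rw [← mul_pow, hv, one_pow]
      linear_combination (tv ^ c) * h7 - al ((J0 * H0) l k) * hvc
    have hPy : (P *ᵥ y) l = tv ^ s * ∑ k, P l k * al (z k) := by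
      simp only [Matrix.mulVec, dotProduct, y]
      rw [Finset.mul_sum]
      exact Finset.sum_congr rfl fun k _ => mul_left_comm _ _ _
    rw [hPy]
    simp only [y]
    rw [hFa, map_add, map_add, hu, h2]
    simp only [h3, add_mul, Finset.sum_add_distrib, mul_assoc (tv ^ c), mul_assoc (tv ^ (c + 1)), ← Finset.mul_sum,
      map_mul, map_pow]
    have e1 : tv ^ (s - c) * tv ^ c = tv ^ s := by rw [← pow_add, Nat.sub_add_cancel hsc]
    have e2 : tv ^ (s - c) * tv ^ (c + 1) = tv ^ s * tv := by rw [pow_succ, ← mul_assoc, e1]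
    have e3 : tv ^ (2 * s + c + 1) = tv ^ s * (tv * tv ^ (s + c)) := by rw [← pow_succ', ← pow_add]; congr 1; omega
    have e4 : tv ^ (s - c + (s - c)) = tv ^ s * (tv * tv ^ (s - 2 * c - 1)) := by
      rw [← pow_succ', ← pow_add]; congr 1; omega
    linear_combination (tv ^ s) * hz' + (∑ k, P l k * al (z k)) * e1 + (∑ k, al (Δ l k) * al (z k)) * e2 +
      al (u l) * e3 + al (eval z (qq l)) * e4
  -- the correction vanishes
  have hcong : ∀ j, ∃ b, xh j = ι (a j) + ι t ^ (s - c) * b := fun j =>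
    ⟨ι t ^ (c + c + (s - c) + (2 * s + c + 1 - (c + c + (s - c) + (s - c)))) * b0 j - ι ((H0 *ᵥ z) j), by
      rw [hab j]
      simp only [a, map_add, map_mul, map_pow]
      have : ι t ^ (2 * s + c + 1) = ι t ^ (s - c) * ι t ^ (c + c + (s - c) + (2 * s + c + 1 - (c + c + (s - c) + (s - c)))) := by
        rw [← pow_add]; congr 1; omega
      rw [this]; ring⟩
  let Φa : Matrix (Fin m) (Fin m) L := Matrix.of fun l k => v ^ c * al (eval a (Φi l k))
  have hΦF : ∀ l, al (eval a (fA l)) = ∑ k, Φa l k * al (eval a (fA k)) := fun l => by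
    let evL : MvPolynomial (Fin N) L →+* L := eval fun j => al (a j)
    have hevL : ∀ p, evL (mp p) = al (eval a p) := fun p => by
      show eval _ (MvPolynomial.map al p) = _
      rw [eval_map, ← eval₂_id, eval₂_comp_left al]
      rfl
    have h1 := congrArg evL (hΦ l)
    rw [map_sum] at h1
    simp only [f, map_mul, hevL] at h1
    rw [h1]
    refine Finset.sum_congr rfl fun k _ => ?_
    congr 1
    have h8 := congrArg evL (hΦi l k)
    rw [map_mul, hevL] at h8
    simp only [evL, eval_C] at h8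
    show _ = v ^ c * al (eval a (Φi l k))
    rw [← h8, ← mul_assoc, ← mul_pow, hv, one_pow, one_mul]
  have hclose : D.MNb 1 ((1 - (Φa - P)).map φ - 1) := fun l k => by
    obtain ⟨b, hb⟩ := happ (Φi l k) a (s - c) hcong
    have h9 := congrArg ev' (hΦi l k)
    rw [map_mul, hev'] at h9
    simp only [ev', coe_eval₂Hom, eval₂_C] at h9
    have hvc : φ (v ^ c) * φ (tv ^ c) = 1 := by rw [← map_mul, ← mul_pow, hv, one_pow, map_one]
    have h10 : φ (Φa l k) = e l k + φ (v ^ c) * algebraMap _ L' (ι t ^ (s - c) * b) := by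
      show φ (v ^ c * al (eval a (Φi l k))) = _
      rw [map_mul, hφ, hb, map_add, ← hΦe, Matrix.map_apply]
      simp only [ev', coe_eval₂Hom]
      linear_combination (-(φ (v ^ c))) * h9 + eval₂ φ (fun j => algebraMap _ L' (xh j)) (Φ l k) * hvc
    have h5 : D.Nb 1 (φ (v ^ c) * algebraMap _ L' (ι t ^ (s - c) * b)) := by
      suffices h : D.Nb ((s - c - c : ℕ) : ℤ) (φ (v ^ c) * algebraMap _ L' (ι t ^ (s - c) * b)) from
        D.nb_mono h (by omega)
      refine ⟨b, ?_⟩
      have hu' : φ (v ^ c) * algebraMap _ L' (ι t) ^ c = 1 := by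
        rw [← hφ, ← map_pow, ← map_mul, ← mul_pow, hv, one_pow, map_one]
      rw [_root_.zpow_neg, _root_.zpow_natCast, Units.eq_inv_mul_iff_mul_eq, Units.val_pow_eq_pow_val]
      show algebraMap _ L' (ι t) ^ (s - c - c) * _ = _
      rw [show algebraMap _ L' (ι t ^ (s - c) * b) = algebraMap _ L' (ι t) ^ (s - c - c) * algebraMap _ L' (ι t) ^ c * algebraMap _ L' b by
        rw [map_mul, map_pow, ← pow_add, Nat.sub_add_cancel (by omega)]]
      linear_combination (-(algebraMap _ L' (ι t) ^ (s - c - c) * algebraMap _ L' b)) * hu'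
    have h6 : D.Nb 1 (e l k - φ (P l k)) := hP l k
    have := D.nb_sub (D.nb_zero 1) (D.nb_add h6 h5)
    convert this using 1
    simp only [Matrix.sub_apply, Matrix.map_apply, map_sub, h10]
    rcases eq_or_ne l k with h | h
    · subst h; simp; ring
    · simp [Matrix.one_apply_ne h]; ring
  obtain ⟨W, hW⟩ := D.isUnit_of_close hclose
  have hFzero : ∀ l, al (eval a (fA l)) = 0 := by
    let w : Fin m → L := fun l => al (eval a (fA l))
    have hw : w = -(y - P *ᵥ y) := funext hsys
    have hPw : P *ᵥ w = 0 := by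
      rw [hw, Matrix.mulVec_neg, Matrix.mulVec_sub, Matrix.mulVec_mulVec, hPP, sub_self, neg_zero]
    have hΦw : Φa *ᵥ w = w := funext fun l => (hΦF l).symm
    have h : (W : Matrix (Fin m) (Fin m) L) *ᵥ w = 0 := by
      rw [hW, Matrix.sub_mulVec, Matrix.one_mulVec, Matrix.sub_mulVec, hΦw, hPw, sub_zero, sub_self]
    have h2 : w = 0 := by
      rw [← Matrix.one_mulVec w, ← Units.inv_mul W, ← Matrix.mulVec_mulVec, h, Matrix.mulVec_zero]
    exact fun l => congrFun h2 l
  -- descend to `B`
  have hI : ∀ g, π0 g = 0 → eval a g = 0 := fun g hg => by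
    have h1 : mp g ∈ RingHom.ker Θπ := by rw [RingHom.mem_ker, hPimap, hg, map_zero]
    rw [hker] at h1
    let evL : MvPolynomial (Fin N) L →+* L := eval fun j => al (a j)
    have hevL : ∀ p, evL (mp p) = al (eval a p) := fun p => by
      show eval _ (MvPolynomial.map al p) = _
      rw [eval_map, ← eval₂_id, eval₂_comp_left al]
      rfl
    have h2 : evL (mp g) = 0 := by
      revert h1
      generalize mp g = p
      intro h1
      induction h1 using Submodule.span_induction with
      | mem x hx => obtain ⟨l, rfl⟩ := hx; rw [hevL, hFzero]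
      | zero => simp
      | add x y _ _ hx hy => rw [map_add, hx, hy, add_zero]
      | smul r x _ hx => rw [smul_eq_mul, map_mul, hx, mul_zero]
    rw [hevL] at h2
    obtain ⟨⟨_, k, rfl⟩, hk⟩ := (IsLocalization.map_eq_zero_iff (Submonoid.powers t) L _).1 h2
    obtain ⟨b, hb⟩ := happ g a (s - c) hcong
    rw [hxh, hg, map_zero, zero_add] at hb
    obtain ⟨x, hx⟩ := Cc.refl _ _ _ hb
    have h3 := hN0 x ⟨k + (s - c), by rw [pow_add, mul_assoc, ← hx]; exact hk⟩
    rw [hx, show s - c = (s - c - N0) + N0 by omega, pow_add, mul_assoc, h3, mul_zero]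
  let τ : B →ₐ[A] A := (Ideal.Quotient.liftₐ (RingHom.ker π0) (aeval a) (fun g hg => by
    rw [aeval_eq_eval]; exact hI g hg)).comp (Ideal.quotientKerAlgEquivOfSurjective hπ0).symm.toAlgHom
  have hτ : ∀ g, τ (π0 g) = eval a g := fun g => by
    simp only [τ, AlgHom.comp_apply, AlgEquiv.coe_toAlgHom]
    rw [show (Ideal.quotientKerAlgEquivOfSurjective hπ0).symm (π0 g) = Ideal.Quotient.mk _ g from
      (Ideal.quotientKerAlgEquivOfSurjective hπ0).symm_apply_apply (Ideal.Quotient.mk _ g)]
    exact congr($(aeval_eq_eval a) g)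
  refine ⟨τ, (AlgHom.cancel_right hπ0).1 (MvPolynomial.algHom_ext fun j => ?_)⟩
  show Ideal.Quotient.mk _ (τ (π0 (X j))) = AdicCompletion.evalₐ _ n (xh j)
  rw [hτ, eval_X]
  obtain ⟨b, hb⟩ := hcong j
  rw [hb, map_add (AdicCompletion.evalₐ (Ideal.span {t}) n), map_mul (AdicCompletion.evalₐ (Ideal.span {t}) n),
    map_pow (AdicCompletion.evalₐ (Ideal.span {t}) n)]
  show _ = AdicCompletion.evalₐ _ n (algebraMap A _ (a j)) + AdicCompletion.evalₐ _ n (algebraMap A _ t) ^ (s - c) * _
  have h0 : Ideal.Quotient.mk (Ideal.span {t} ^ n) (t ^ (s - c)) = 0 := Ideal.Quotient.eq_zero_iff_mem.2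
    (Ideal.pow_le_pow_right (by omega) (Ideal.pow_mem_pow (Ideal.mem_span_singleton_self t) _))
  rw [evalA_algebraMap, evalA_algebraMap, ← map_pow, h0, zero_mul, add_zero]

end Groth.Agent.S15756
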