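import Groth.Statements.S15759
import Groth.Statements.S15778
import Groth.Statements.S15774
import Groth.Agent.Lib.DenseProj.Away
import Mathlib

set_option autoImplicit false
universe u
open Polynomial TensorProduct
open CAlg

namespace Groth.Agent.S15759
open CAlg

open scoped TensorProduct Polynomial
open Groth.Agent.DenseProj Polynomial

variable {R : Type u} [CommRing R]

theorem split_mem (s : R[X]) (hs : s ∈ Submonoid.closure ({f : R[X] | f.coeff 0 = 1} ∪ {X})) :
    ∃ (k : ℕ) (g : R[X]), g.coeff 0 = 1 ∧ s = X ^ k * g := by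
  induction hs using Submonoid.closure_induction with
  | mem x hx =>
    rcases hx with hx | hx
    · exact ⟨0, x, hx, by simp⟩
    · exact ⟨1, 1, by simp, by simpa using hx⟩
  | one => exact ⟨0, 1, by simp, by simp⟩
  | mul a b _ _ ha hb =>
    obtain ⟨k, g, hg, rfl⟩ := ha
    obtain ⟨k', g', hg', rfl⟩ := hb
    exact ⟨k + k', g * g', by rw [mul_coeff_zero, hg, hg', mul_one], by rw [pow_add]; ring⟩

variable {L : Type u} [CommRing L] [Algebra R[X] L]
    [IsLocalization (Submonoid.closure ({f : R[X] | f.coeff 0 = 1} ∪ {X})) L]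
    {L' : Type u} [CommRing L'] [Algebra L L']

noncomputable def seriesDense (e : L' ≃+* LaurentSeries R)
    (he : ∀ p : R[X], e (algebraMap L L' (algebraMap R[X] L p)) =
      HahnSeries.ofPowerSeries ℤ R (Polynomial.coeToPowerSeries.ringHom p)) : Dense (algebraMap L L') where
  B := (e.symm.toRingHom.comp (HahnSeries.ofPowerSeries ℤ R)).range
  u := ((IsLocalization.map_units L (⟨X, Submonoid.subset_closure (Or.inr rfl)⟩ :
    Submonoid.closure ({f : R[X] | f.coeff 0 = 1} ∪ {X}))).map (algebraMap L L')).unit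
  u_mem := ⟨PowerSeries.X, e.injective (by
    rw [RingHom.comp_apply, RingEquiv.toRingHom_eq_coe, RingEquiv.coe_toRingHom, RingEquiv.apply_symm_apply,
      IsUnit.unit_spec, he]
    simp)⟩
  bdd x := by
    obtain ⟨⟨f, ⟨_, k, rfl⟩⟩, hf⟩ := IsLocalization.surj (Submonoid.powers (PowerSeries.X : PowerSeries R)) (e x)
    refine ⟨k, f, e.injective ?_⟩
    rw [RingHom.comp_apply, RingEquiv.toRingHom_eq_coe, RingEquiv.coe_toRingHom, RingEquiv.apply_symm_apply,
      map_mul, Units.val_pow_eq_pow_val, map_pow, IsUnit.unit_spec, he]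
    rw [LaurentSeries.coe_algebraMap] at hf
    simp only at hf
    rw [← hf, map_pow, mul_comm]
    simp
  dense x k := by
    obtain ⟨⟨f, ⟨_, j, rfl⟩⟩, hf⟩ := IsLocalization.surj (Submonoid.powers (PowerSeries.X : PowerSeries R)) (e x)
    rw [LaurentSeries.coe_algebraMap] at hf
    simp only at hf
    obtain ⟨b, hb⟩ : (PowerSeries.X : PowerSeries R) ^ (k + j) ∣ f - (PowerSeries.trunc (k + j) f : PowerSeries R) := by
      rw [PowerSeries.X_pow_dvd_iff]
      intro m hm
      simp [PowerSeries.coeff_trunc, hm]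
    obtain ⟨v, hv⟩ := (IsLocalization.map_units L (⟨X, Submonoid.subset_closure (Or.inr rfl)⟩ :
      Submonoid.closure ({f : R[X] | f.coeff 0 = 1} ∪ {X}))).exists_left_inv
    refine ⟨algebraMap R[X] L (PowerSeries.trunc (k + j) f) * v ^ j, b, e.injective ?_⟩
    have hX : e (algebraMap L L' (algebraMap R[X] L X)) = HahnSeries.ofPowerSeries ℤ R PowerSeries.X := by
      rw [he]; simp
    have hXu : IsUnit (HahnSeries.ofPowerSeries ℤ R PowerSeries.X) := by
      rw [← hX]
      exact ((IsLocalization.map_units L (⟨X, Submonoid.subset_closure (Or.inr rfl)⟩ :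
        Submonoid.closure ({f : R[X] | f.coeff 0 = 1} ∪ {X}))).map _).map e
    rw [RingHom.comp_apply, RingEquiv.toRingHom_eq_coe, RingEquiv.coe_toRingHom, RingEquiv.apply_symm_apply]
    refine (hXu.pow (k + j)).mul_left_injective ?_
    show _ * _ ^ (k + j) = _ * _ ^ (k + j)
    have hv' : e (algebraMap L L' v) * HahnSeries.ofPowerSeries ℤ R PowerSeries.X = 1 := by
      rw [← hX, ← map_mul, ← map_mul, hv, map_one, map_one]
    conv_rhs => rw [map_mul, zpow_neg, zpow_natCast, pow_add, ← mul_assoc, mul_comm (e _) (e _), mul_assoc (e _)]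
    have hu : e ((((IsLocalization.map_units L (⟨X, Submonoid.subset_closure (Or.inr rfl)⟩ :
        Submonoid.closure ({f : R[X] | f.coeff 0 = 1} ∪ {X}))).map (algebraMap L L')).unit ^ k)⁻¹ : L'ˣ) *
        HahnSeries.ofPowerSeries ℤ R PowerSeries.X ^ k = 1 := by
      rw [← hX, ← map_pow, ← map_mul]
      conv_lhs => arg 2; arg 2; arg 1; rw [← IsUnit.unit_spec ((IsLocalization.map_units L (⟨X, Submonoid.subset_closure (Or.inr rfl)⟩ :
        Submonoid.closure ({f : R[X] | f.coeff 0 = 1} ∪ {X}))).map (algebraMap L L'))]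
      rw [← Units.val_pow_eq_pow_val, Units.inv_mul, map_one]
    have hxj : e x * HahnSeries.ofPowerSeries ℤ R PowerSeries.X ^ j = HahnSeries.ofPowerSeries ℤ R f := by
      rw [← map_pow]; exact hf
    rw [hu, mul_one, map_sub, sub_mul, hxj, map_mul, map_mul, map_pow, map_pow, mul_assoc,
      ← mul_pow, hv', one_pow, mul_one, he, ← map_pow, ← map_mul, mul_comm, ← hb, map_sub]
    rfl
  unitL y hy := by
    obtain ⟨⟨f, s⟩, hfs⟩ := IsLocalization.surj (Submonoid.closure ({f : R[X] | f.coeff 0 = 1} ∪ {X})) y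
    obtain ⟨k, g, hg, hsk⟩ := split_mem (s : R[X]) s.2
    obtain ⟨b, hb⟩ := hy
    have hb' := congrArg e hb
    rw [RingHom.comp_apply, RingEquiv.toRingHom_eq_coe, RingEquiv.coe_toRingHom, RingEquiv.apply_symm_apply] at hb'
    have h1 : e (algebraMap L L' y) = 1 + HahnSeries.ofPowerSeries ℤ R (PowerSeries.X * b) := by
      rw [map_mul, hb', ← Polynomial.coe_X, ← Polynomial.coeToPowerSeries.ringHom_apply, ← he, ← map_mul,
        ← mul_assoc, IsUnit.mul_val_inv, one_mul, map_sub, map_one, add_sub_cancel]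
    simp only at hfs
    have h2 := congrArg (fun z => e (algebraMap L L' z)) hfs
    simp only [map_mul, h1, he, hsk] at h2
    rw [← map_one (HahnSeries.ofPowerSeries ℤ R), ← map_mul, ← map_add,
      ← map_mul, ← map_mul] at h2
    have h3 := HahnSeries.ofPowerSeries_injective h2
    simp only [map_pow, Polynomial.coeToPowerSeries.ringHom_apply, Polynomial.coe_X] at h3
    obtain ⟨f', hf'⟩ : (X : R[X]) ^ k ∣ f := by
      rw [X_pow_dvd_iff]
      intro m hm
      rw [← Polynomial.coeff_coe, ← h3, mul_left_comm, PowerSeries.coeff_X_pow_mul', if_neg (by omega)]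
    have hf0 : f'.coeff 0 = 1 := by
      have h4 := congrArg (PowerSeries.coeff k) h3
      rw [mul_left_comm, PowerSeries.coeff_X_pow_mul', if_pos le_rfl, Nat.sub_self,
        Polynomial.coeff_coe, hf', Polynomial.coeff_X_pow_mul', if_pos le_rfl, Nat.sub_self,
        PowerSeries.coeff_zero_eq_constantCoeff, map_mul, map_add, map_one, map_mul, PowerSeries.constantCoeff_X,
        zero_mul, add_zero, one_mul, ← PowerSeries.coeff_zero_eq_constantCoeff, Polynomial.coeff_coe, hg] at h4
      exact h4.symm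
    refine isUnit_of_mul_isUnit_left (y := algebraMap R[X] L (s : R[X])) ?_
    rw [hfs]
    refine IsLocalization.map_units L (⟨f, ?_⟩ : Submonoid.closure ({f : R[X] | f.coeff 0 = 1} ∪ {X}))
    rw [hf']
    have hXm : (X : R[X]) ∈ Submonoid.closure ({f : R[X] | f.coeff 0 = 1} ∪ {X}) := Submonoid.subset_closure (Or.inr rfl)
    have hfm : f' ∈ Submonoid.closure ({f : R[X] | f.coeff 0 = 1} ∪ {X}) := Submonoid.subset_closure (Or.inl hf0)
    exact mul_mem (pow_mem hXm k) hfm
  unitL' x hx := by
    obtain ⟨b, hb⟩ := hx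
    have hb' := congrArg e hb
    rw [RingHom.comp_apply, RingEquiv.toRingHom_eq_coe, RingEquiv.coe_toRingHom, RingEquiv.apply_symm_apply] at hb'
    have h1 : e x = HahnSeries.ofPowerSeries ℤ R (1 + PowerSeries.X * b) := by
      rw [map_add, map_one, map_mul, hb', ← Polynomial.coe_X, ← Polynomial.coeToPowerSeries.ringHom_apply, ← he, ← map_mul,
        ← mul_assoc, IsUnit.mul_val_inv, one_mul, map_sub, map_one, add_sub_cancel]
    have : IsUnit (e x) := by
      rw [h1]
      refine IsUnit.map _ (PowerSeries.isUnit_iff_constantCoeff.2 ?_)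
      simp
    simpa using this.map e.symm

/-- Let R be a ring, L = R(t) the localisation of R[t] at the monoid generated by t and the polynomials
with constant term 1 (that is, (R[t]_{1+tR[t]})[1/t]), and L' an L-algebra identified with R((t))
compatibly with R[t] → R((t)). Then (b) finitely generated projective L-modules that become
isomorphic over L' are isomorphic, and (c) every stably free L'-module is the base change of a
stably free L-module. -/
theorem result (R : Type u) [CommRing R]
    (L : Type u) [CommRing L] [Algebra R[X] L]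
    [IsLocalization (Submonoid.closure ({f : R[X] | f.coeff 0 = 1} ∪ {X})) L]
    (L' : Type u) [CommRing L'] [Algebra L L'] (e : L' ≃+* LaurentSeries R)
    (he : ∀ p : R[X], e (algebraMap L L' (algebraMap R[X] L p)) =
      HahnSeries.ofPowerSeries ℤ R (Polynomial.coeToPowerSeries.ringHom p)) :
    (∀ (M N : Type u) [AddCommGroup M] [Module L M] [Module.Finite L M] [Module.Projective L M]
        [AddCommGroup N] [Module L N] [Module.Finite L N] [Module.Projective L N],
        Nonempty (L' ⊗[L] M ≃ₗ[L'] L' ⊗[L] N) → Nonempty (M ≃ₗ[L] N)) ∧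
    (∀ (M' : Type u) [AddCommGroup M'] [Module L' M'] [Module.Finite L' M'],
        (∃ n m : ℕ, Nonempty ((M' × (Fin n → L')) ≃ₗ[L'] (Fin m → L'))) →
        ∃ (M : Type u) (_ : AddCommGroup M) (_ : Module L M), Module.Finite L M ∧
          (∃ n m : ℕ, Nonempty ((M × (Fin n → L)) ≃ₗ[L] (Fin m → L))) ∧
          Nonempty (L' ⊗[L] M ≃ₗ[L'] M')) := by
  let D := seriesDense e he
  exact ⟨fun M N _ _ _ _ _ _ _ _ ⟨θ⟩ => D.linearEquiv_descend M N θ,
    fun M' _ _ _ h => D.stablyFree_descend M' h⟩

end Groth.Agent.S15759
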