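import Groth.Statements.S1576
import Groth.Agent.Lib.WeakAss18.Basic
import Groth.Agent.Lib.EffCartier.Basic

set_option autoImplicit false
universe u
open CategoryTheory CategoryTheory.Limits AlgebraicGeometry
open Divisors

namespace Groth.Agent.S1576

/-- Let X be locally Noetherian and F coherent. Then the associated points of F lying in any
quasi-compact open subset form a finite set. -/
theorem result (X : Scheme.{u}) [IsLocallyNoetherian X]
    (F : X.Modules) (hF : Coh.IsCoh F) (U : X.Opens) (hU : IsCompact (U : Set X)) :
    {x : X | x ∈ U ∧ Curv2.IsAssPoint F x}.Finite := by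
  refine (Groth.Agent.WA.finite_weakAss hF.1 hF.2 hU).subset ?_
  rintro x ⟨hx, ha⟩
  exact ⟨hx, (Groth.Agent.WA.isAssPoint_iff x).mp ha⟩

end Groth.Agent.S1576
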