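import Groth.Statements.S15760
import Groth.Agent.Lib.QAffOrb15.Tori
-- import your own Groth.Agent.* helpers here

set_option autoImplicit false
universe u
open CategoryTheory MonoidalCategory CartesianMonoidalCategory MonObj GrpObj AlgebraicGeometry
open AlgGrp

namespace Groth.Agent.S15760

/-- Let G be a group scheme of finite type over a field k acting on a quasi-affine k-scheme X of finite
type, and let x be a k-point of X with orbit map G → X, g ↦ g · x. If every subtorus of G over an
algebraic closure of k fixes x (the base-changed orbit map restricted to the torus factors through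
the base change of x), then the orbit of x is a closed subset of X. -/
theorem result (k : Type u) [Field k]
    (G X : Over (Spec (CommRingCat.of k))) [GrpObj G] [LocallyOfFiniteType G.hom] [QuasiCompact G.hom]
    [LocallyOfFiniteType X.hom] (hX : X.left.IsQuasiAffine)
    (a : AlgGrp.Action G X) (x : 𝟙_ (Over (Spec (CommRingCat.of k))) ⟶ X)
    (htor : ∀ (T : Over (Spec (CommRingCat.of (AlgebraicClosure k)))) [GrpObj T]
      (i : T ⟶ Red.bc (Spec.map (CommRingCat.ofHom (algebraMap k (AlgebraicClosure k)))) G) [IsMonHom i],
      Mono i → Red.IsTorus T →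
      ∃ c : T ⟶ Red.bc (Spec.map (CommRingCat.ofHom (algebraMap k (AlgebraicClosure k))))
          (𝟙_ (Over (Spec (CommRingCat.of k)))),
        i ≫ (Over.pullback (Spec.map (CommRingCat.ofHom (algebraMap k (AlgebraicClosure k))))).map (a.orbitMap x) =
          c ≫ (Over.pullback (Spec.map (CommRingCat.ofHom (algebraMap k (AlgebraicClosure k))))).map x) :
    IsClosed (Set.range (a.orbitMap x).left) := by
  haveI := hX
  let K := AlgebraicClosure k
  let φ := Spec.map (CommRingCat.ofHom (algebraMap k K))
  let F := Over.pullback φ
  letI : GrpObj (F.obj G) := Functor.grpObjObj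
  haveI : LocallyOfFiniteType (F.obj G).hom := inferInstanceAs (LocallyOfFiniteType (Limits.pullback.snd G.hom φ))
  haveI : QuasiCompact (F.obj G).hom := inferInstanceAs (QuasiCompact (Limits.pullback.snd G.hom φ))
  haveI : LocallyOfFiniteType (F.obj X).hom := inferInstanceAs (LocallyOfFiniteType (Limits.pullback.snd X.hom φ))
  haveI : IsAffineHom φ := inferInstance
  haveI : IsAffineHom (Limits.pullback.fst X.hom φ) :=
    MorphismProperty.of_isPullback (P := @IsAffineHom) (IsPullback.of_hasPullback X.hom φ).flip ‹IsAffineHom φ›
  haveI : (F.obj X).left.IsQuasiAffine := Scheme.IsQuasiAffine.of_isAffineHom (Limits.pullback.fst X.hom φ)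
  have hfix : QAffOrb15.FixTori (OrbitTop19.mapAction F a) (Functor.LaxMonoidal.ε F ≫ F.map x) := by
    intro T _ i _ hi hT
    obtain ⟨c, hc⟩ := htor T i hi hT
    rw [OrbitTop19.map_orbitMap F a x]
    have hu : c = toUnit T ≫ Functor.LaxMonoidal.ε F := by
      have h1 : c ≫ Functor.OplaxMonoidal.η F = toUnit T := toUnit_unique _ _
      rw [← h1, Category.assoc, Functor.Monoidal.η_ε, Category.comp_id]
    rw [hu, Category.assoc] at hc
    exact hc
  have h := QAffOrb15.isClosed_orbit_of_fixTori (OrbitTop19.mapAction F a) (Functor.LaxMonoidal.ε F ≫ F.map x) hfix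
  rw [OrbitTop19.map_orbitMap F a x, OrbitTop19.range_pullback_map] at h
  let pr := Limits.pullback.fst X.hom φ
  have hprq : Topology.IsQuotientMap pr := pr.isOpenMap.isQuotientMap pr.continuous pr.surjective
  exact hprq.isClosed_preimage.1 h

end Groth.Agent.S15760
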