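import Groth.Statements.S15765
-- import your own Groth.Agent.* helpers here

set_option autoImplicit false
set_option backward.isDefEq.respectTransparency false
universe u
open CategoryTheory AlgebraicGeometry
open CAlg

namespace Groth.Agent.S15765

/-- Let B be a topological ring in which the units form an open subset, B₀ → B a ring map with dense
image and X a quasi-affine scheme over B₀. Then the image of any B-point Spec B → X over B₀ is
contained in an affine open of X. (The published statement allows X ind-quasi-affine, i.e. with all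
quasi-compact opens quasi-affine; since a B-point lands in a quasi-compact open, this row's
quasi-affine case carries the content.) -/
theorem result (B : Type u) [CommRing B] [TopologicalSpace B]
    [IsTopologicalRing B] (hB : IsOpen {b : B | IsUnit b})
    (B₀ : Type u) [CommRing B₀] (φ : B₀ →+* B) (hφ : DenseRange φ)
    (X : Scheme.{u}) [X.IsQuasiAffine] (p : X ⟶ Spec (CommRingCat.of B₀))
    (f : Spec (CommRingCat.of B) ⟶ X) (hf : f ≫ p = Spec.map (CommRingCat.ofHom φ)) :
    ∃ U : X.Opens, IsAffineOpen U ∧ Set.range f.base ⊆ (U : Set X) := by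
  classical
  let S := {r : Γ(X, ⊤) // IsAffineOpen (X.basicOpen r)}
  let g : S → B := fun r => (Scheme.ΓSpecIso (CommRingCat.of B)).hom (f.appTop r.1)
  have hspan : Ideal.span (Set.range g) = ⊤ := by
    rw [← PrimeSpectrum.iSup_basicOpen_eq_top_iff, eq_top_iff]
    intro z _
    obtain ⟨_, ⟨_, ⟨r, hr, rfl⟩, rfl⟩, hzr, -⟩ := (Scheme.IsQuasiAffine.isBasis_basicOpen
      X).exists_subset_of_mem_open (Set.mem_univ (f z)) isOpen_univ
    refine TopologicalSpace.Opens.mem_iSup.2 ⟨⟨r, hr⟩, ?_⟩
    have h1 : z ∈ f ⁻¹ᵁ X.basicOpen r := hzr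
    rw [Scheme.preimage_basicOpen_top, basicOpen_eq_of_affine'] at h1
    exact h1
  obtain ⟨b, hb⟩ := Finsupp.mem_span_range_iff_exists_finsupp.1
    (show (1 : B) ∈ Submodule.span B (Set.range g) by rw [show Submodule.span B (Set.range g) = ⊤ from hspan]; trivial)
  have hO : IsOpen {a : b.support → B | IsUnit (∑ r, a r * g r.1)} :=
    hB.preimage (continuous_finsetSum _ fun r _ => (continuous_apply r).mul continuous_const)
  have hbO : (fun r : b.support => b r.1) ∈ {a : b.support → B | IsUnit (∑ r, a r * g r.1)} := by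
    show IsUnit (∑ r : b.support, b r.1 * g r.1)
    rw [Finset.sum_coe_sort b.support (fun r => b r * g r)]
    simp only [Finsupp.sum, smul_eq_mul] at hb
    rw [hb]
    exact isUnit_one
  obtain ⟨c, hc⟩ := (DenseRange.piMap (ι := b.support) (fun _ => hφ)).exists_mem_open hO ⟨_, hbO⟩
  let ψ : B₀ → Γ(X, ⊤) := fun a => p.appTop ((Scheme.ΓSpecIso (CommRingCat.of B₀)).inv a)
  let h : Γ(X, ⊤) := ∑ r : b.support, ψ (c r) * r.1.1
  have hψ : ∀ a, (Scheme.ΓSpecIso (CommRingCat.of B)).hom (f.appTop (ψ a)) = φ a := fun a => by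
    have e := congrArg (fun q => q.appTop) hf
    simp only [Scheme.Hom.comp_appTop] at e
    show (p.appTop ≫ f.appTop ≫ (Scheme.ΓSpecIso (CommRingCat.of B)).hom)
      ((Scheme.ΓSpecIso (CommRingCat.of B₀)).inv a) = φ a
    rw [← Category.assoc, e, Scheme.ΓSpecIso_naturality]
    simp
  have hh : IsUnit ((Scheme.ΓSpecIso (CommRingCat.of B)).hom (f.appTop h)) := by
    have hc' : IsUnit (∑ r : b.support, φ (c r) * g r.1) := hc
    simp only [h, map_sum, map_mul, hψ]
    exact hc'
  refine ⟨X.basicOpen h, ?_, ?_⟩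
  · let res : Γ(X, ⊤) →+* Γ(X, X.basicOpen h) :=
      (X.presheaf.map (homOfLE le_top : X.basicOpen h ⟶ ⊤).op).hom
    refine isAffineOpen_of_isAffineOpen_basicOpen _ (Set.range fun r : S => res r.1) ?_ ?_
    · rw [Ideal.eq_top_iff_one]
      have hu : IsUnit (res h) := X.toRingedSpace.isUnit_res_basicOpen h
      have hm : res h ∈ Ideal.span (Set.range fun r : S => res r.1) := by
        simp only [h, map_sum, map_mul]
        exact Submodule.sum_mem _ fun r _ => Ideal.mul_mem_left _ _ (Ideal.subset_span ⟨r.1, rfl⟩)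
      exact (Ideal.eq_top_iff_one _).1 (Ideal.eq_top_of_isUnit_mem _ hm hu)
    · rintro _ ⟨⟨r, hr⟩, rfl⟩
      show IsAffineOpen (X.basicOpen (X.presheaf.map (homOfLE le_top : X.basicOpen h ⟶ ⊤).op r))
      rw [Scheme.basicOpen_res, inf_comm]
      have := hr.basicOpen (X.presheaf.map (homOfLE le_top : X.basicOpen r ⟶ ⊤).op h)
      rwa [Scheme.basicOpen_res] at this
  · rintro _ ⟨z, rfl⟩
    show z ∈ f ⁻¹ᵁ X.basicOpen h
    rw [Scheme.preimage_basicOpen_top, basicOpen_eq_of_affine']
    exact fun hz => (PrimeSpectrum.isPrime z).ne_top (Ideal.eq_top_of_isUnit_mem _ hz hh)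

end Groth.Agent.S15765
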