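import Groth.Statements.S15766
import Groth.Agent.Lib.LaurentSplitH7.Main

set_option autoImplicit false
set_option linter.style.haveILetI false
universe u
open CategoryTheory CategoryTheory.Limits AlgebraicGeometry
open FEt

namespace Groth.Agent.S15766

/-- Let R be a strictly Henselian local ring with residue field k, let d > 0 be invertible in R, and let
X → Spec R((t)) be finite étale and split (a trivial finite cover) after base change along the
substitution t ↦ t^d. Then every k((t))-point of X over R((t)) comes from a unique R((t))-section of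
X; here ρ : R((t)) → k((t)) is the coefficientwise residue map, pinned on power series. (The
published statement is for a finite étale group scheme G of order invertible in R that becomes
constant over a finite étale cover of R((t)) tamely ramified relative to R, in the form H⁰(R((t)),
G) ≅ H⁰(k((t)), G); the covers t ↦ t^d with d invertible in R are cofinal among such tame covers,
and the group structure plays no role in the H⁰ statement, so this row states it for any finite
étale X split by such a cover.) -/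
theorem result (R : Type u) [CommRing R]
    [HenselianLocalRing R] [IsSepClosed (IsLocalRing.ResidueField R)]
    (d : ℕ) (hd : 0 < d) (hdu : IsUnit (d : R))
    (hinj : Function.Injective (AddMonoidHom.mulLeft (d : ℤ)))
    (hmono : ∀ g g' : ℤ, AddMonoidHom.mulLeft (d : ℤ) g ≤ AddMonoidHom.mulLeft (d : ℤ) g' ↔ g ≤ g')
    (ρ : LaurentSeries R →+* LaurentSeries (IsLocalRing.ResidueField R))
    (hρ : ρ.comp (HahnSeries.ofPowerSeries ℤ R) =
      (HahnSeries.ofPowerSeries ℤ (IsLocalRing.ResidueField R)).comp (PowerSeries.map (IsLocalRing.residue R)))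
    (X : Scheme.{u}) (p : X ⟶ Spec (CommRingCat.of (LaurentSeries R))) [IsFinite p] [Etale p]
    (hsplit : ∃ (n : ℕ) (e : pullback p (Spec.map (CommRingCat.ofHom
        (HahnSeries.embDomainRingHom (R := R) (AddMonoidHom.mulLeft (d : ℤ)) hinj hmono))) ≅
        (∐ fun _ : Fin n => Spec (CommRingCat.of (LaurentSeries R)))),
      e.hom ≫ Sigma.desc (fun _ : Fin n => 𝟙 (Spec (CommRingCat.of (LaurentSeries R)))) =
        pullback.snd p (Spec.map (CommRingCat.ofHom
          (HahnSeries.embDomainRingHom (R := R) (AddMonoidHom.mulLeft (d : ℤ)) hinj hmono)))) :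
    (∀ s₁ s₂ : Spec (CommRingCat.of (LaurentSeries R)) ⟶ X,
        s₁ ≫ p = 𝟙 _ → s₂ ≫ p = 𝟙 _ →
        Spec.map (CommRingCat.ofHom ρ) ≫ s₁ = Spec.map (CommRingCat.ofHom ρ) ≫ s₂ → s₁ = s₂) ∧
    (∀ s' : Spec (CommRingCat.of (LaurentSeries (IsLocalRing.ResidueField R))) ⟶ X,
        s' ≫ p = Spec.map (CommRingCat.ofHom ρ) →
        ∃ s : Spec (CommRingCat.of (LaurentSeries R)) ⟶ X, s ≫ p = 𝟙 _ ∧ Spec.map (CommRingCat.ofHom ρ) ≫ s = s') := by
  obtain ⟨n, e, he⟩ := hsplit
  haveI : IsAffine X := isAffine_of_isAffineHom p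
  have hρ' := LaurentSplitH7.eq_mapC (IsLocalRing.residue R) ρ hρ
  subst hρ'
  obtain ⟨ζ, hζ, hprim⟩ := LaurentSplitH7.exists_root_of_unity d hd hdu
  have hR : ∀ x : LaurentSeries R, x * x = x → x = 0 ∨ x = 1 := fun x => LaurentSplitH7.eq_zero_or_one_of_idem x
  have hk : ∀ x : LaurentSeries (IsLocalRing.ResidueField R), x * x = x → x = 0 ∨ x = 1 :=
    fun x hx => IsIdempotentElem.iff_eq_zero_or_one.1 hx
  let φ := LaurentSplitH7.subD d hinj hmono R
  let φk := LaurentSplitH7.subD d hinj hmono (IsLocalRing.ResidueField R)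
  let π := LaurentSplitH7.mapC (IsLocalRing.residue R)
  let q := Spec.map (CommRingCat.ofHom φ)
  let qk := Spec.map (CommRingCat.ofHom φk)
  let r := Spec.map (CommRingCat.ofHom π)
  have hcomm : r ≫ q = qk ≫ r := by
    rw [← Spec.map_comp, ← Spec.map_comp]
    congr 1
    exact CommRingCat.hom_ext (RingHom.ext fun x => LaurentSplitH7.mapC_subD d hinj hmono (IsLocalRing.residue R) x)
  -- points over the split cover are components
  have hpt : ∀ h : Spec (CommRingCat.of (LaurentSeries R)) ⟶ X, h ≫ p = q → ∀ hh,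
      ∃ j, pullback.lift h (𝟙 _) hh ≫ e.hom = Sigma.ι (fun _ : Fin n => Spec (CommRingCat.of (LaurentSeries R))) j := by
    intro h _ hh
    obtain ⟨j, hj⟩ := LaurentSplitH7.exists_eq_ι hR (RingHom.id (LaurentSeries R)) (pullback.lift h (𝟙 _) hh ≫ e.hom)
      (by rw [Category.assoc, he, pullback.lift_snd]; exact (Spec.map_id _).symm)
    exact ⟨j, hj.trans (by rw [show CommRingCat.ofHom (RingHom.id (LaurentSeries R)) = 𝟙 _ from rfl, Spec.map_id,
      Category.id_comp])⟩
  have huniq : ∀ h₁ h₂ : Spec (CommRingCat.of (LaurentSeries R)) ⟶ X, h₁ ≫ p = q → h₂ ≫ p = q →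
      r ≫ h₁ = r ≫ h₂ → h₁ = h₂ := by
    intro h₁ h₂ e₁ e₂ e₁₂
    have c₁ : h₁ ≫ p = 𝟙 _ ≫ q := by rw [e₁, Category.id_comp]
    have c₂ : h₂ ≫ p = 𝟙 _ ≫ q := by rw [e₂, Category.id_comp]
    obtain ⟨j₁, hj₁⟩ := hpt h₁ e₁ c₁
    obtain ⟨j₂, hj₂⟩ := hpt h₂ e₂ c₂
    have hrv : r ≫ pullback.lift h₁ (𝟙 _) c₁ = r ≫ pullback.lift h₂ (𝟙 _) c₂ := by
      apply pullback.hom_ext
      · simpa only [Category.assoc, pullback.lift_fst] using e₁₂
      · simp only [Category.assoc, pullback.lift_snd]
    obtain rfl : j₁ = j₂ := by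
      by_contra hne
      have hsq : CommSq r r (Sigma.ι (fun _ : Fin n => Spec (CommRingCat.of (LaurentSeries R))) j₁)
          (Sigma.ι (fun _ : Fin n => Spec (CommRingCat.of (LaurentSeries R))) j₂) :=
        ⟨by rw [← hj₁, ← hj₂, ← Category.assoc, hrv, Category.assoc]⟩
      haveI : IsEmpty (Spec (CommRingCat.of (LaurentSeries (IsLocalRing.ResidueField R)))) :=
        isEmpty_of_commSq_sigmaι_of_ne (g := fun _ : Fin n => Spec (CommRingCat.of (LaurentSeries R))) hsq hne
      exact @IsEmpty.false _ this (⊥ : PrimeSpectrum (LaurentSeries (IsLocalRing.ResidueField R)))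
    have h := congrArg (fun f => f ≫ e.inv ≫ pullback.fst _ _) (hj₁.trans hj₂.symm)
    simp only [Category.assoc, Iso.hom_inv_id_assoc] at h
    rwa [pullback.lift_fst, pullback.lift_fst] at h
  refine ⟨fun s₁ s₂ h₁ h₂ h₁₂ => LaurentSplitH7.eq_of_injective φ (LaurentSplitH7.subD_injective d hinj hmono) _ _ ?_,
    fun s' hs' => ?_⟩
  · refine huniq _ _ (by rw [Category.assoc, h₁, Category.comp_id]) (by rw [Category.assoc, h₂, Category.comp_id]) ?_
    rw [← Category.assoc, ← Category.assoc, hcomm, Category.assoc, Category.assoc, h₁₂]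
  · have hc : (qk ≫ s') ≫ p = r ≫ q := by rw [Category.assoc, hs', hcomm]
    obtain ⟨j, hj⟩ := LaurentSplitH7.exists_eq_ι hk π (pullback.lift (qk ≫ s') r hc ≫ e.hom)
      (by rw [Category.assoc, he, pullback.lift_snd])
    let h := Sigma.ι (fun _ : Fin n => Spec (CommRingCat.of (LaurentSeries R))) j ≫ e.inv ≫ pullback.fst _ _
    have hp : h ≫ p = q := by
      simp only [h, Category.assoc]
      rw [pullback.condition, ← Category.assoc e.inv, show e.inv ≫ pullback.snd _ _ = Sigma.desc (fun _ : Fin n => 𝟙 (Spec (CommRingCat.of (LaurentSeries R))))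
        from (Iso.inv_comp_eq _).2 he.symm, Sigma.ι_desc_assoc, Category.id_comp]
    have hr : r ≫ h = qk ≫ s' := by
      show r ≫ Sigma.ι (fun _ : Fin n => Spec (CommRingCat.of (LaurentSeries R))) j ≫ e.inv ≫ pullback.fst _ _ = _
      rw [← Category.assoc, ← hj, Category.assoc, Iso.hom_inv_id_assoc, pullback.lift_fst]
    let σ := LaurentSplitH7.twist ζ
    have hσq : Spec.map (CommRingCat.ofHom σ) ≫ q = q := by
      rw [← Spec.map_comp]
      congr 1
      exact CommRingCat.hom_ext (RingHom.ext fun x => LaurentSplitH7.twist_subD d hinj hmono ζ hζ x)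
    let ζk := Units.map (IsLocalRing.residue R).toMonoidHom ζ
    let τ := LaurentSplitH7.twist ζk
    have hτq : Spec.map (CommRingCat.ofHom τ) ≫ qk = qk := by
      rw [← Spec.map_comp]
      congr 1
      exact CommRingCat.hom_ext (RingHom.ext fun x => LaurentSplitH7.twist_subD d hinj hmono ζk
        (by rw [← map_pow, hζ, map_one]) x)
    have hστ : r ≫ Spec.map (CommRingCat.ofHom σ) = Spec.map (CommRingCat.ofHom τ) ≫ r := by
      rw [← Spec.map_comp, ← Spec.map_comp]
      congr 1
      exact CommRingCat.hom_ext (RingHom.ext fun x => LaurentSplitH7.twist_mapC (IsLocalRing.residue R) ζ x)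
    have hinv : Spec.map (CommRingCat.ofHom σ) ≫ h = h := huniq _ _ (by rw [Category.assoc, hp, hσq]) hp (by
      rw [← Category.assoc, hστ, Category.assoc, hr, ← Category.assoc, hτq])
    obtain ⟨s, hs⟩ := LaurentSplitH7.exists_fac φ (LaurentSplitH7.subD_injective d hinj hmono) σ
      (fun x hx => LaurentSplitH7.exists_subD_eq d hinj hmono hd ζ hprim x hx) h hinv
    refine ⟨s, LaurentSplitH7.eq_of_injective φ (LaurentSplitH7.subD_injective d hinj hmono) _ _
      (by rw [← Category.assoc, hs, hp, Category.comp_id]), LaurentSplitH7.eq_of_injective φk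
      (LaurentSplitH7.subD_injective d hinj hmono) _ _ ?_⟩
    rw [← hr, ← hs, ← Category.assoc, ← Category.assoc]
    exact congrArg (fun f => f ≫ s) hcomm.symm

end Groth.Agent.S15766
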