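import Groth.Statements.S15768
-- Template for statement S15768 (row 15767; see the milestone table for weights).
-- Copy to Groth/Agent/S15768.lean and replace the sorry. The statement below is byte-identical to the frozen
-- statement CAlg.GrothFrozen.S15768 (Groth/Statements/S15768.lean; the theorem CAlg.existsUnique_idempotent_of_isIdempotentElem_henselianLaurent);
-- the grader kernel-checks Groth.Agent.S15768.result against that frozen type. Keep the theorem IN THIS FILE
-- (a `result` declared elsewhere and merely imported here is not credited); helpers may live anywhere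
-- under Groth/Agent/.
import Mathlib
import Groth.Agent.Lib.DenseProj.Instances
import Groth.Agent.S15749

set_option autoImplicit false
universe u
open Polynomial
open CAlg

namespace Groth.Agent.S15768
open Polynomial TensorProduct
open CAlg

open Groth.Agent.DenseProj

/-- For any ring R and a henselization B of R[t] along (t), every idempotent of B[1/t] comes from a
unique idempotent of R under R → R[t] → B → B[1/t]. -/
theorem result (R : Type u) [CommRing R]
    (B : Type u) [CommRing B] [Algebra R[X] B] (hB : Hens2.IsPairHenselization R[X] (Ideal.span {(X : R[X])}) B)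
    (e : Localization.Away (algebraMap R[X] B X)) (he : IsIdempotentElem e) :
    ∃! r : R, IsIdempotentElem r ∧
      algebraMap B (Localization.Away (algebraMap R[X] B X)) (algebraMap R[X] B (Polynomial.C r)) = e := by
  obtain ⟨ψ, hψ⟩ := exists_psi hB
  have C := cpl_powerSeries hB ψ hψ
  have hX : ψ (algebraMap R[X] B X) = PowerSeries.X := by rw [hψ, Polynomial.coe_X]
  haveI : IsLocalization.Away (ψ (algebraMap R[X] B X)) (LaurentSeries R) := by rw [hX]; infer_instance
  let φ : Localization.Away (algebraMap R[X] B X) →+* LaurentSeries R :=
    IsLocalization.Away.lift (algebraMap R[X] B X) (g := (algebraMap (PowerSeries R) (LaurentSeries R)).comp ψ)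
      (IsLocalization.Away.algebraMap_isUnit (ψ (algebraMap R[X] B X)))
  have hφ : ∀ b : B, φ (algebraMap B _ b) = algebraMap (PowerSeries R) (LaurentSeries R) (ψ b) :=
    fun b => IsLocalization.Away.lift_eq _ _ b
  let D := C.dense hφ
  have hC : ∀ r : R, φ (algebraMap B _ (algebraMap R[X] B (Polynomial.C r))) = HahnSeries.C r := fun r => by
    rw [hφ, hψ, LaurentSeries.coe_algebraMap, Polynomial.coe_C, HahnSeries.ofPowerSeries_C]
  obtain ⟨r, ⟨hr, hre⟩, huni⟩ := Groth.Agent.S15749.result R (φ e) (he.map φ)
  refine ⟨r, ⟨hr, D.idem_injective ((((hr.map Polynomial.C).map (algebraMap R[X] B))).map _) he ?_⟩, ?_⟩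
  · rw [hC, hre]
  · rintro s ⟨hs, hse⟩
    exact huni s ⟨hs, by rw [← hC, hse]⟩

end Groth.Agent.S15768
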