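import Groth.Statements.S15769
import Groth.Agent.CAlg.GluePts

set_option autoImplicit false
universe u
open CategoryTheory AlgebraicGeometry
open CAlg

namespace Groth.Agent.S15769

/-- Case of a quasi-affine X over U = Spec A: let φ : A → A' and t ∈ A be such that A/t^m → A'/t^m is
bijective for every m and φ restricts to a bijection between the t-power-torsion submodules; let X
be a quasi-affine scheme over Spec A. Then sections of X over Spec A correspond bijectively to pairs
of an A'-point and an A[1/t]-point of X over A that agree over A'[1/t]. (The published statement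
allows a flat A-scheme U as base and X either ind-quasi-affine or subprojective over U; this row is
U = Spec A with X quasi-affine.) -/
theorem result (A A' : Type u) [CommRing A] [CommRing A']
    (φ : A →+* A') (t : A)
    (hq : ∀ m : ℕ, Function.Bijective (Ideal.quotientMap (Ideal.map φ (Ideal.span {t} ^ m)) φ Ideal.le_comap_map))
    (htor : ∀ a' : A', (∃ m : ℕ, φ t ^ m * a' = 0) → ∃! a : A, (∃ m : ℕ, t ^ m * a = 0) ∧ φ a = a')
    (X : Scheme.{u}) [X.IsQuasiAffine] (p : X ⟶ Spec (CommRingCat.of A)) :
    (∀ s₁ s₂ : Spec (CommRingCat.of A) ⟶ X, s₁ ≫ p = 𝟙 _ → s₂ ≫ p = 𝟙 _ →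
        Spec.map (CommRingCat.ofHom φ) ≫ s₁ = Spec.map (CommRingCat.ofHom φ) ≫ s₂ →
        Spec.map (CommRingCat.ofHom (algebraMap A (Localization.Away t))) ≫ s₁ =
          Spec.map (CommRingCat.ofHom (algebraMap A (Localization.Away t))) ≫ s₂ →
        s₁ = s₂) ∧
    (∀ (x' : Spec (CommRingCat.of A') ⟶ X) (xt : Spec (CommRingCat.of (Localization.Away t)) ⟶ X),
        x' ≫ p = Spec.map (CommRingCat.ofHom φ) →
        xt ≫ p = Spec.map (CommRingCat.ofHom (algebraMap A (Localization.Away t))) →
        Spec.map (CommRingCat.ofHom (algebraMap A' (Localization.Away (φ t)))) ≫ x' =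
          Spec.map (CommRingCat.ofHom (Localization.awayMap φ t)) ≫ xt →
        ∃ s : Spec (CommRingCat.of A) ⟶ X, s ≫ p = 𝟙 _ ∧
          Spec.map (CommRingCat.ofHom φ) ≫ s = x' ∧
          Spec.map (CommRingCat.ofHom (algebraMap A (Localization.Away t))) ≫ s = xt) := by
  obtain ⟨h1, h2⟩ := Groth.Agent.GluePts.main φ t hq htor X p
  exact ⟨fun s₁ s₂ _ _ e1 e2 => h1 s₁ s₂ e1 e2, h2⟩

end Groth.Agent.S15769
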