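import Groth.Statements.S15770
import Mathlib
import Groth.Agent.Lib.CI2.ConstrJac

set_option autoImplicit false
universe u
open CAlg

namespace Groth.Agent.S15770
open Groth.Agent.CI2

/-- Let B be a topological ring with Bˣ ⊂ B open and M, M' finitely generated projective B-modules, and
endow Hom_B(M, M') with the module topology (the canonical topology of a finite module). Then the
set of surjective B-linear maps M → M' is open. -/
theorem result (B : Type u) [CommRing B] [TopologicalSpace B]
    [IsTopologicalRing B] (hB : IsOpen {b : B | IsUnit b})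
    (M M' : Type u) [AddCommGroup M] [Module B M] [Module.Finite B M] [Module.Projective B M]
    [AddCommGroup M'] [Module B M'] [Module.Finite B M'] [Module.Projective B M']
    [TopologicalSpace (M →ₗ[B] M')] [IsModuleTopology B (M →ₗ[B] M')] :
    IsOpen {f : M →ₗ[B] M' | Function.Surjective f} := by
  classical
  obtain ⟨n, π, ι, hπ, hι, hπι⟩ := Module.Finite.exists_comp_eq_id_of_projective B M'
  rw [isOpen_iff_forall_mem_open]
  intro f0 hf0
  obtain ⟨s, hs⟩ := Module.projective_lifting_property f0 LinearMap.id hf0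
  let L : (M →ₗ[B] M') →ₗ[B] ((Fin n → B) →ₗ[B] (Fin n → B)) :=
    (LinearMap.llcomp B (Fin n → B) M' (Fin n → B) ι) ∘ₗ (LinearMap.lcomp B M' (s ∘ₗ π))
  let c : (Fin n → B) →ₗ[B] (Fin n → B) := LinearMap.id - ι ∘ₗ π
  have hcont : ∀ i j, Continuous fun g : M →ₗ[B] M' => (LinearMap.toMatrix' (L g + c)) i j := by
    intro i j
    simp only [map_add, Matrix.add_apply]
    refine Continuous.add ?_ continuous_const
    exact IsModuleTopology.continuous_of_linearMap
      (((LinearMap.proj j : (Fin n → B) →ₗ[B] B) ∘ₗ (LinearMap.proj i : Matrix (Fin n) (Fin n) B →ₗ[B] (Fin n → B))) ∘ₗ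
        (LinearMap.toMatrix' : ((Fin n → B) →ₗ[B] (Fin n → B)) ≃ₗ[B] Matrix (Fin n) (Fin n) B).toLinearMap ∘ₗ L)
  let d : (M →ₗ[B] M') → B := fun g => (LinearMap.toMatrix' (L g + c)).det
  have hd : Continuous d := Continuous.matrix_det (continuous_matrix hcont)
  refine ⟨d ⁻¹' {b | IsUnit b}, ?_, hB.preimage hd, ?_⟩
  · intro g hg
    have hu : IsUnit (L g + c) := by
      have := (Matrix.isUnit_iff_isUnit_det _).mpr (show IsUnit (LinearMap.toMatrix' (L g + c)).det from hg)
      have h2 := this.map (LinearMap.toMatrixAlgEquiv' (R := B) (n := Fin n)).symm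
      have e : (LinearMap.toMatrixAlgEquiv' (R := B) (n := Fin n)).symm (LinearMap.toMatrix' (L g + c)) = L g + c :=
        LinearMap.toMatrix'.symm_apply_apply (L g + c)
      rwa [e] at h2
    obtain ⟨v, hv⟩ := (Module.End.isUnit_iff _).mp hu |>.2 |> fun h => (⟨Function.surjInv h, Function.surjInv_eq h⟩ : ∃ v, ∀ y, (L g + c) (v y) = y)
    intro y
    refine ⟨s (π (v (ι y))), ?_⟩
    have h1 := congrArg π (hv (ι y))
    have hπι' : ∀ z, π (ι z) = z := fun z => LinearMap.congr_fun hπι z
    simpa [L, c, hπι'] using h1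
  · show IsUnit (LinearMap.toMatrix' (L f0 + c)).det
    have hfs : ∀ z, f0 (s z) = z := fun z => LinearMap.congr_fun hs z
    have : L f0 + c = LinearMap.id := by
      refine LinearMap.ext fun x => ?_
      simp [L, c, hfs]
    rw [this, LinearMap.toMatrix'_id, Matrix.det_one]
    exact isUnit_one

end Groth.Agent.S15770
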