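import Groth.Statements.S15771
import Mathlib
import Groth.Prelude.Def_Fitting
import Groth.Agent.Lib.Fitting.More

set_option autoImplicit false
universe u
open TensorProduct
open CAlg

namespace Groth.Agent.S15771
open scoped TensorProduct

/-- For a ring map B₀ → B with dense image into a topological ring B, a finitely generated B₀-module M₀
and any topological B-module structure on M = B ⊗_{B₀} M₀, the natural map M₀ → M has dense image. -/
theorem result (B₀ B : Type u) [CommRing B₀] [CommRing B] [Algebra B₀ B]
    [TopologicalSpace B] [IsTopologicalRing B] (hφ : DenseRange (algebraMap B₀ B))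
    (M₀ : Type u) [AddCommGroup M₀] [Module B₀ M₀] [Module.Finite B₀ M₀]
    [TopologicalSpace (B ⊗[B₀] M₀)] [IsTopologicalAddGroup (B ⊗[B₀] M₀)] [ContinuousSMul B (B ⊗[B₀] M₀)] :
    DenseRange (fun m : M₀ => (1 : B) ⊗ₜ[B₀] m) := by
  let f : M₀ →+ B ⊗[B₀] M₀ := (TensorProduct.mk B₀ B M₀ 1).toAddMonoidHom
  show Dense (f.range : Set (B ⊗[B₀] M₀))
  intro z
  induction z using TensorProduct.induction_on with
  | zero => exact subset_closure (zero_mem f.range)
  | tmul b m =>
    have hcont : Continuous fun a : B => a • ((1 : B) ⊗ₜ[B₀] m) := by fun_prop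
    have h1 := map_mem_closure hcont (hφ b) (t := (f.range : Set _)) (by
      rintro _ ⟨a, rfl⟩
      exact ⟨a • m, by simp [f, TensorProduct.smul_tmul', Algebra.smul_def, ← TensorProduct.smul_tmul, TensorProduct.tmul_smul]⟩)
    simpa [TensorProduct.smul_tmul'] using h1
  | add a b ha hb => exact add_mem (s := f.range.topologicalClosure) ha hb

end Groth.Agent.S15771
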