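import Groth.Statements.S15774
import Groth.Agent.Lib.DenseProj.Away
import Mathlib

set_option autoImplicit false
universe u
open CAlg

namespace Groth.Agent.S15774
open CAlg

open Groth.Agent.DenseProj

variable {A : Type u} [CommRing A] {t : A}

theorem exists_root [HenselianRing A (Ideal.span {t})] (α b d : A)
    (hb : b - 1 ∈ Ideal.span ({t} : Set A)) (hd : d ∈ Ideal.span ({t} : Set A)) :
    ∃ c : A, α * c ^ 2 + b * c + d = 0 := by
  have hjac : Ideal.span ({t} : Set A) ≤ Ideal.jacobson ⊥ := HenselianRing.jac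
  have hbu : IsUnit b := by
    have := (Ideal.mem_jacobson_bot.1 (hjac hb)) 1
    simpa using this
  rcases subsingleton_or_nontrivial A with hA | hA
  · exact ⟨0, Subsingleton.elim _ _⟩
  let f : Polynomial A := Polynomial.X ^ 2 + Polynomial.C b * Polynomial.X + Polynomial.C (α * d)
  have hf : f.Monic := by
    simp only [f]
    monicity!
  obtain ⟨r, hr, hr0⟩ := HenselianRing.is_henselian (I := Ideal.span ({t} : Set A)) f hf 0
    (by simpa [f] using Ideal.mul_mem_left _ α hd)
    (by simpa [f, Polynomial.derivative_X_pow] using hbu.map (Ideal.Quotient.mk (Ideal.span ({t} : Set A))))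
  rw [sub_zero] at hr0
  have hu : IsUnit (b + r) := by
    have := (Ideal.mem_jacobson_bot.1 (hjac (add_mem hb hr0))) 1
    convert this using 1
    ring
  obtain ⟨v, hv⟩ := hu.exists_left_inv
  refine ⟨-d * v, ?_⟩
  have hr' : r ^ 2 + b * r + α * d = 0 := by simpa [Polynomial.IsRoot, f] using hr
  linear_combination (d * v ^ 2) * hr' - d * (1 + v * r) * hv

/-- The instance A[1/t] → Â[1/t]: if (A, tA) is a Henselian pair and the t-power torsion of A is
bounded, then every idempotent of Â[1/t] (Â the t-adic completion) comes from a unique idempotent of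
A[1/t]. -/
theorem result (A : Type u) [CommRing A] (t : A) [HenselianRing A (Ideal.span {t})]
    (hbd : ∃ N : ℕ, ∀ a : A, (∃ m : ℕ, t ^ m * a = 0) → t ^ N * a = 0)
    (e : Localization.Away (algebraMap A (AdicCompletion (Ideal.span {t}) A) t)) (he : IsIdempotentElem e) :
    ∃! e₀ : Localization.Away t, IsIdempotentElem e₀ ∧ Localization.awayMap (algebraMap A (AdicCompletion (Ideal.span {t}) A)) t e₀ = e := by
  have hjac : Ideal.span ({t} : Set A) ≤ Ideal.jacobson ⊥ := HenselianRing.jac
  have ht : t ∈ (⊥ : Ideal A).jacobson := hjac (Ideal.mem_span_singleton_self t)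
  obtain ⟨φ, hφ⟩ : ∃ φ, φ = Localization.awayMap (algebraMap A (AdicCompletion (Ideal.span {t}) A)) t := ⟨_, rfl⟩
  rw [← hφ]
  obtain ⟨T, hT⟩ : ∃ T, T = algebraMap A (Localization.Away t) t := ⟨_, rfl⟩
  have hTu : IsUnit T := hT ▸ IsLocalization.Away.algebraMap_isUnit t
  let D := awayDense ht φ hφ
  have hu : (D.u : Localization.Away (algebraMap A (AdicCompletion (Ideal.span {t}) A) t)) = φ T := by
    subst hφ hT
    refine (IsUnit.unit_spec _).trans ?_
    exact (IsLocalization.map_eq _ t).symm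
  have hA : ∀ a : A, φ (algebraMap A _ a) ∈ D.B := fun a => by
    subst hφ
    exact ⟨algebraMap A _ a, (IsLocalization.map_eq _ a).symm⟩
  -- elements of `A[1/t]` that are small come from small elements of `A`
  have hsmall : ∀ (y : Localization.Away t) (m : ℕ), D.Nb m (φ y) →
      ∃ a : A, y = T ^ m * algebraMap A _ a := by
    intro y m hy
    obtain ⟨n, a, ha⟩ := IsLocalization.Away.surj t y
    obtain ⟨bb, hbb⟩ := hy
    rw [zpow_neg, zpow_natCast, Units.eq_inv_mul_iff_mul_eq, Units.val_pow_eq_pow_val, hu] at hbb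
    obtain ⟨c, hc⟩ : ∃ c, algebraMap A (AdicCompletion (Ideal.span {t}) A) t ^ c *
        (algebraMap A _ a - algebraMap A (AdicCompletion (Ideal.span {t}) A) t ^ (n + m) * bb) = 0 := by
      have h1 : algebraMap (AdicCompletion (Ideal.span {t}) A) (Localization.Away (algebraMap A (AdicCompletion (Ideal.span {t}) A) t))
          (algebraMap A _ a - algebraMap A (AdicCompletion (Ideal.span {t}) A) t ^ (n + m) * bb) = 0 := by
        have := congrArg φ ha
        rw [← hT, map_mul, map_pow, ← hbb, hT] at this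
        subst hφ
        rw [show Localization.awayMap (algebraMap A (AdicCompletion (Ideal.span {t}) A)) t (algebraMap A _ t) =
            algebraMap _ _ (algebraMap A (AdicCompletion (Ideal.span {t}) A) t) from IsLocalization.map_eq _ t,
          show Localization.awayMap (algebraMap A (AdicCompletion (Ideal.span {t}) A)) t (algebraMap A _ a) =
            algebraMap _ _ (algebraMap A (AdicCompletion (Ideal.span {t}) A) a) from IsLocalization.map_eq _ a] at this
        rw [map_sub, ← this, map_mul, map_pow, pow_add]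
        ring
      obtain ⟨⟨_, c, rfl⟩, hc⟩ := (IsLocalization.map_eq_zero_iff (Submonoid.powers (algebraMap A (AdicCompletion (Ideal.span {t}) A) t)) _ _).1 h1
      exact ⟨c, hc⟩
    obtain ⟨b0, d, rfl⟩ := exists_approx bb (c + n + m)
    have h2 := congrArg (AdicCompletion.evalₐ (Ideal.span ({t} : Set A)) (c + n + m)) hc
    simp only [map_mul, map_sub, map_pow, map_add, map_zero, evalA_algebraMap] at h2
    have ht0 : (Ideal.Quotient.mk ((Ideal.span ({t} : Set A)) ^ (c + n + m)) t) ^ (c + n + m) = 0 := by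
      rw [← map_pow, Ideal.Quotient.eq_zero_iff_mem]
      exact Ideal.pow_mem_pow (Ideal.mem_span_singleton_self t) _
    rw [ht0, zero_mul, add_zero] at h2
    simp only [← map_mul, ← map_pow, ← map_sub, Ideal.Quotient.eq_zero_iff_mem, Ideal.span_singleton_pow,
      Ideal.mem_span_singleton'] at h2
    obtain ⟨f, hf⟩ := h2
    refine ⟨b0 + f, ?_⟩
    have h3 : t ^ c * a = t ^ (c + n) * (t ^ m * (b0 + f)) := by linear_combination -hf
    have h4 := congrArg (algebraMap A (Localization.Away t)) h3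
    simp only [map_mul, map_pow, ← ha, ← hT] at h4
    refine (hTu.pow (c + n)).mul_left_cancel ?_
    linear_combination h4
  have hclose : ∀ δ, D.Nb 1 δ → δ ^ 3 = δ → δ = 0 := by
    intro δ h1 h3
    have h2 := D.nb_sub (D.nb_zero 1) (D.nb_mono (D.nb_mul h1 h1) (show (1 : ℤ) ≤ 1 + 1 by norm_num))
    have hunit : IsUnit (1 - δ * δ) := D.unitL' _ (by simpa [Dense.Nb] using h2)
    exact hunit.mul_left_eq_zero.1 (by linear_combination -h3)
  have hidem : ∀ {S : Type u} [CommRing S] (p q : S), p * p = p → q * q = q → (p - q) ^ 3 = p - q := by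
    intro S _ p q hp hq
    linear_combination (p - 3 * q + 1) * hp + (3 * p - q - 1) * hq
  obtain ⟨n, hn⟩ := D.exists_nb (2 * e - 1)
  obtain ⟨y, hy⟩ := D.dense e (6 * n + 6)
  change D.Nb _ _ at hy
  have hεn : D.Nb ((4 * n + 5 : ℕ) : ℤ) (φ (y * y - y)) := by
    have h1 : φ (y * y - y) = (e - φ y) * (e - φ y) - (2 * e - 1) * (e - φ y) := by
      rw [map_sub, map_mul]
      linear_combination he.eq
    rw [h1]
    exact D.nb_sub (D.nb_mono (D.nb_mul hy hy) (by omega)) (D.nb_mono (D.nb_mul hn hy) (by omega))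
  obtain ⟨e1, he1⟩ := hsmall _ _ hεn
  -- a bound for `2 y - 1`
  obtain ⟨ω, hω⟩ : ∃ ω : A, T ^ n * (2 * y - 1) = algebraMap A _ ω := by
    have h1 : D.Nb ((0 : ℕ) : ℤ) (φ (T ^ n * (2 * y - 1))) := by
      have h2 : φ (T ^ n * (2 * y - 1)) = (D.u : Localization.Away (algebraMap A (AdicCompletion (Ideal.span {t}) A) t)) ^ n *
          ((2 * e - 1) - ((e - φ y) + (e - φ y))) := by
        rw [map_mul, map_pow, ← hu, map_sub, map_mul, map_ofNat, map_one]
        ring
      rw [h2]
      have h3 : D.Nb (n : ℤ) ((D.u : Localization.Away (algebraMap A (AdicCompletion (Ideal.span {t}) A) t)) ^ n) := by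
        rw [Dense.Nb, zpow_neg, zpow_natCast, ← Units.val_pow_eq_pow_val, Units.inv_mul]
        exact one_mem _
      exact D.nb_mono (D.nb_mul h3 (D.nb_sub hn (D.nb_mono (D.nb_add hy hy) (by omega)))) (by omega)
    obtain ⟨a, ha⟩ := hsmall _ 0 h1
    exact ⟨a, by rw [ha, pow_zero, one_mul]⟩
  obtain ⟨w, hw⟩ : ∃ w, w = 2 * y - 1 := ⟨_, rfl⟩
  rw [← hw] at hω
  obtain ⟨c, hc⟩ := exists_root (t := t) (t * ω) (1 + 4 * (t ^ (4 * n + 5) * e1)) (t ^ (2 * n + 4) * (ω * e1))
    (Ideal.mem_span_singleton'.2 ⟨4 * (t ^ (4 * n + 4) * e1), by ring⟩)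
    (Ideal.mem_span_singleton'.2 ⟨t ^ (2 * n + 3) * (ω * e1), by ring⟩)
  have hc' := congrArg (algebraMap A (Localization.Away t)) hc
  simp only [map_add, map_mul, map_pow, map_one, map_ofNat, map_zero, ← hT, ← hω] at hc'
  obtain ⟨z, hz⟩ : ∃ z, z = y + T ^ (n + 1) * algebraMap A _ c := ⟨_, rfl⟩
  have hwu : IsUnit (w * w) := by
    have hu1 : IsUnit (1 + 4 * (t ^ (4 * n + 5) * e1)) := by
      have := (Ideal.mem_jacobson_bot.1 ht) (4 * (t ^ (4 * n + 4) * e1))
      convert this using 1
      ring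
    have := hu1.map (algebraMap A (Localization.Away t))
    convert this using 1
    simp only [map_add, map_mul, map_pow, map_one, map_ofNat, ← hT]
    rw [hw]
    linear_combination (4 : Localization.Away t) * he1
  have hzz : z * z = z := by
    refine sub_eq_zero.1 ((isUnit_of_mul_isUnit_left hwu).mul_right_eq_zero.1 ?_)
    rw [hz]
    linear_combination (T ^ (n + 1)) * hc' + w * he1 +
      (T ^ (n + 1) * algebraMap A _ c) * (4 * he1 + (2 * y - 1) * hw)
  have hφz : φ z = e := by
    refine sub_eq_zero.1 (hclose _ ?_ (hidem _ _ (by rw [← map_mul, hzz]) he.eq))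
    have h1 : D.Nb 1 (φ (T ^ (n + 1) * algebraMap A _ c)) := by
      rw [map_mul, map_pow, ← hu]
      refine D.nb_mono (j := 1) (k := ((n + 1 : ℕ) : ℤ)) ?_ (by omega)
      rw [Dense.Nb, zpow_neg, zpow_natCast, ← mul_assoc, ← Units.val_pow_eq_pow_val, Units.inv_mul, one_mul]
      exact hA c
    have := D.nb_sub h1 (D.nb_mono hy (by omega : (1 : ℤ) ≤ ((6 * n + 6 : ℕ) : ℤ)))
    convert this using 1
    rw [hz, map_add]
    ring
  refine ⟨z, ⟨hzz, hφz⟩, fun z' ⟨hz', hφz'⟩ => ?_⟩
  have hunit : IsUnit (1 - (z' - z) * (z' - z)) := D.unitL _ (by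
    rw [map_sub, map_mul, map_sub, hφz, hφz', map_one]
    simp [zero_mem])
  exact sub_eq_zero.1 (hunit.mul_left_eq_zero.1 (by linear_combination -(hidem z' z hz'.eq hzz)))

end Groth.Agent.S15774
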