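import Groth.Statements.S15779
import Groth.Agent.Lib.CanElt.FactorLift
import Mathlib

set_option autoImplicit false
universe u
open Polynomial
open CAlg

namespace Groth.Agent.S15779
open CAlg

open Polynomial IsLocalRing

variable {R : Type u} [CommRing R] {L : Type u} [CommRing L] [Algebra R[X] L]
    [Algebra R L] [IsScalarTower R R[X] L]

theorem psi_mul_pow (ψ : R[X] →ₐ[R] L) (hψ : ψ X * algebraMap R[X] L X = 1) (f : R[X]) :
    ∀ N, f.natDegree ≤ N →
      algebraMap R[X] L f * ψ X ^ N = ψ (reflect N f) := by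
  intro N hN
  refine Polynomial.induction_with_natDegree_le
    (fun f => algebraMap R[X] L f * ψ X ^ N = ψ (reflect N f)) N ?_ ?_ ?_ f hN
  · simp
  · intro n r _ hn
    rw [reflect_C_mul_X_pow, revAt_le hn, map_mul, map_mul, map_pow, map_pow]
    have hC : algebraMap R[X] L (C r) = ψ (C r) := by
      rw [← algebraMap_eq, ← IsScalarTower.algebraMap_apply, AlgHom.commutes]
    rw [hC, mul_assoc]
    congr 1
    conv_lhs => rw [show N = n + (N - n) by omega, pow_add, ← mul_assoc, ← mul_pow, mul_comm _ (ψ X), hψ,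
      one_pow, one_mul]
  · intro a b _ _ ha hb
    rw [map_add, add_mul, ha, hb, reflect_add, map_add]

theorem key (S : Submonoid R[X]) (hS : S = Submonoid.closure ({f : R[X] | f.coeff 0 = 1} ∪ {X}))
    [IsLocalization S L] (ψ : R[X] →ₐ[R] L) (hψ : ψ X * algebraMap R[X] L X = 1) :
    (∀ h : R[X], h.Monic → IsUnit (ψ h)) ∧
    (∀ l : L, ∃ (h a : R[X]), h.Monic ∧ l * ψ h = ψ a) ∧ Function.Injective ψ := by
  have hX : IsUnit (ψ X) := IsUnit.of_mul_eq_one _ hψ
  have hmem : ∀ f : R[X], f.coeff 0 = 1 → f ∈ S := fun f hf => hS ▸ Submonoid.subset_closure (Or.inl hf)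
  have hsplit : ∀ s ∈ S, ∃ (k : ℕ) (g : R[X]), g.coeff 0 = 1 ∧ s = X ^ k * g := by
    intro s hs
    rw [hS] at hs
    induction hs using Submonoid.closure_induction with
    | mem x hx =>
      rcases hx with hx | hx
      · exact ⟨0, x, hx, by simp⟩
      · exact ⟨1, 1, by simp, by simpa using hx⟩
    | one => exact ⟨0, 1, by simp, by simp⟩
    | mul a b _ _ ha hb =>
      obtain ⟨k, g, hg, rfl⟩ := ha
      obtain ⟨k', g', hg', rfl⟩ := hb
      exact ⟨k + k', g * g', by rw [mul_coeff_zero, hg, hg', mul_one], by rw [pow_add]; ring⟩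
  refine ⟨fun h hh => ?_, fun l => ?_, ?_⟩
  · have h1 := psi_mul_pow ψ hψ (reflect h.natDegree h) h.natDegree
      ((natDegree_reflect_le).trans (max_le le_rfl le_rfl))
    rw [reflect_reflect] at h1
    rw [← h1]
    refine IsUnit.mul (IsLocalization.map_units L (⟨_, hmem _ ?_⟩ : S)) (hX.pow _)
    show (reflect h.natDegree h).coeff 0 = 1
    rw [coeff_reflect, revAt_le (Nat.zero_le _), Nat.sub_zero]
    exact hh
  · obtain ⟨⟨f, s⟩, hfs⟩ := IsLocalization.surj S l
    obtain ⟨k, g, hg, hsk⟩ := hsplit s s.2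
    let N := g.natDegree + f.natDegree
    refine ⟨reflect N g, X ^ k * reflect N f, ?_, ?_⟩
    · have hle : (reflect N g).natDegree ≤ N := natDegree_reflect_le.trans (max_le le_rfl (by omega))
      refine monic_of_natDegree_le_of_coeff_eq_one N hle ?_
      rw [coeff_reflect, revAt_le le_rfl, Nat.sub_self, hg]
    · rw [map_mul, map_pow, ← psi_mul_pow ψ hψ f N (by omega), ← psi_mul_pow ψ hψ g N (by omega)]
      simp only at hfs
      rw [← hfs, hsk, map_mul, map_pow]
      have : ψ X ^ k * algebraMap R[X] L X ^ k = 1 := by rw [← mul_pow, hψ, one_pow]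
      linear_combination (-(l * algebraMap R[X] L g * ψ X ^ N)) * this
  · rw [injective_iff_map_eq_zero]
    intro y hy
    have h1 := psi_mul_pow ψ hψ (reflect y.natDegree y) y.natDegree
      ((natDegree_reflect_le).trans (max_le le_rfl le_rfl))
    rw [reflect_reflect, hy, ((hX.pow _).mul_left_eq_zero)] at h1
    obtain ⟨s, hs⟩ := (IsLocalization.map_eq_zero_iff S L _).1 h1
    obtain ⟨k, g, hg, hsk⟩ := hsplit s s.2
    rw [hsk, mul_assoc, X_pow_mul, ← sub_eq_zero] at hs
    have h2 : g * reflect y.natDegree y = 0 := by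
      ext n
      have := congrArg (fun q : R[X] => q.coeff (n + k)) hs
      simpa [coeff_mul_X_pow] using this
    have h3 : reflect y.natDegree y = 0 := by
      ext n
      rw [coeff_zero]
      induction n using Nat.strong_induction_on with
      | _ n ih =>
        have h := congrArg (fun q : R[X] => q.coeff n) h2
        simp only [coeff_mul, coeff_zero] at h
        rw [Finset.sum_eq_single ((0, n) : ℕ × ℕ)] at h
        · simpa [hg] using h
        · rintro ⟨a, b⟩ hab hne
          rw [Finset.HasAntidiagonal.mem_antidiagonal] at hab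
          have : a ≠ 0 := fun ha => hne (by subst ha; simp at hab; simp [hab])
          rw [ih b (by simp only at hab; omega), mul_zero]
        · intro hh
          exact absurd (Finset.HasAntidiagonal.mem_antidiagonal.2 (zero_add n)) hh
    simpa using congrArg (reflect y.natDegree) h3

theorem mem_map {ψ : R[X] →ₐ[R] L} (hsurj : ∀ l : L, ∃ (h a : R[X]), h.Monic ∧ l * ψ h = ψ a)
    (I : Ideal R[X]) {l : L} (hl : l ∈ I.map ψ.toRingHom) :
    ∃ h a : R[X], h.Monic ∧ a ∈ I ∧ l * ψ h = ψ a := by
  change l ∈ Submodule.span L (ψ.toRingHom '' I) at hl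
  induction hl using Submodule.span_induction with
  | mem x hx =>
    obtain ⟨a, ha, rfl⟩ := hx
    exact ⟨1, a, monic_one, ha, by simp⟩
  | zero => exact ⟨1, 0, monic_one, zero_mem _, by simp⟩
  | add x y _ _ hx hy =>
    obtain ⟨h, a, hh, ha, e⟩ := hx
    obtain ⟨h', a', hh', ha', e'⟩ := hy
    exact ⟨h * h', a * h' + a' * h, hh.mul hh',
      add_mem (I.mul_mem_right _ ha) (I.mul_mem_right _ ha'),
      by simp only [map_mul, map_add]; linear_combination (ψ h') * e + (ψ h) * e'⟩
  | smul c x _ hx =>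
    obtain ⟨h, a, hh, ha, e⟩ := hx
    obtain ⟨h', a', hh', e'⟩ := hsurj c
    exact ⟨h * h', a' * a, hh.mul hh', I.mul_mem_left _ ha,
      by simp only [map_mul, smul_eq_mul]; linear_combination (c * ψ h') * e + (ψ a) * e'⟩

theorem monic_unit [IsLocalRing R] (I : Ideal R[X])
    (hI : I ⊔ (maximalIdeal R).map (algebraMap R R[X]) = ⊤) {h : R[X]} (hh : h.Monic) :
    ∃ u : R[X], u * h - 1 ∈ I := by
  haveI : Module.Finite R (AdjoinRoot h) := hh.finite_adjoinRoot
  let N : Submodule R (AdjoinRoot h) := (I.map (AdjoinRoot.mk h)).restrictScalars R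
  have htop : (⊤ : Submodule R (AdjoinRoot h)) ≤ N ⊔ maximalIdeal R • ⊤ := by
    intro x _
    obtain ⟨x, rfl⟩ := AdjoinRoot.mk_surjective x
    obtain ⟨a, ha, b, hb, hab⟩ := Submodule.mem_sup.1 (hI ▸ Submodule.mem_top : x ∈ _)
    rw [← hab, map_add]
    refine Submodule.add_mem_sup (Ideal.mem_map_of_mem _ ha) ?_
    rw [Ideal.smul_top_eq_map]
    have := Ideal.mem_map_of_mem (AdjoinRoot.mk h) hb
    rw [Ideal.map_map] at this
    exact this
  have hN := Submodule.le_of_le_smul_of_le_jacobson_bot Module.Finite.fg_top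
    (IsLocalRing.jacobson_eq_maximalIdeal ⊥ (by simp)).ge htop (Submodule.mem_top : (1 : AdjoinRoot h) ∈ ⊤)
  obtain ⟨a, ha, ha1⟩ := (Ideal.mem_map_iff_of_surjective _ AdjoinRoot.mk_surjective).1 hN
  rw [← map_one (AdjoinRoot.mk h), AdjoinRoot.mk_eq_mk] at ha1
  obtain ⟨c, hc⟩ := ha1
  exact ⟨-c, by rw [show -c * h - 1 = -a by linear_combination hc]; exact neg_mem ha⟩

/-- For a Henselian local ring (R, m), L the localisation of R[t] at the monoid generated by t and the
polynomials with constant term 1, and ψ : R[s] → L the R-algebra map with s ↦ t⁻¹, extension and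
contraction along ψ are mutually inverse bijections between the ideals of R[s] comaximal with mR[s]
and the ideals of L comaximal with mL, and R[s]/I → L/IL is bijective for every such I. -/
theorem result (R : Type u) [CommRing R]
    [HenselianLocalRing R] (L : Type u) [CommRing L] [Algebra R[X] L]
    [IsLocalization (Submonoid.closure ({f : R[X] | f.coeff 0 = 1} ∪ {X})) L]
    [Algebra R L] [IsScalarTower R R[X] L]
    (ψ : R[X] →ₐ[R] L) (hψ : ψ X * algebraMap R[X] L X = 1) :
    (∀ I : Ideal R[X], I ⊔ (IsLocalRing.maximalIdeal R).map (algebraMap R R[X]) = ⊤ →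
        (I.map ψ.toRingHom).comap ψ.toRingHom = I ∧
        I.map ψ.toRingHom ⊔ (IsLocalRing.maximalIdeal R).map (algebraMap R L) = ⊤ ∧
        Function.Bijective (Ideal.quotientMap (I.map ψ.toRingHom) ψ.toRingHom Ideal.le_comap_map)) ∧
    (∀ J : Ideal L, J ⊔ (IsLocalRing.maximalIdeal R).map (algebraMap R L) = ⊤ →
        (J.comap ψ.toRingHom).map ψ.toRingHom = J ∧
        J.comap ψ.toRingHom ⊔ (IsLocalRing.maximalIdeal R).map (algebraMap R R[X]) = ⊤) := by
  obtain ⟨hu, hsurj, hinj⟩ := key _ rfl ψ hψ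
  have hm : ((maximalIdeal R).map (algebraMap R R[X])).map ψ.toRingHom =
      (maximalIdeal R).map (algebraMap R L) := by
    rw [Ideal.map_map]
    congr 1
    exact ψ.comp_algebraMap
  refine ⟨fun I hI => ?_, fun J hJ => ?_⟩
  · have hcomap : (I.map ψ.toRingHom).comap ψ.toRingHom = I := by
      refine le_antisymm (fun x hx => ?_) Ideal.le_comap_map
      obtain ⟨h, a, hh, ha, e⟩ := mem_map hsurj I hx
      have hxh : x * h = a := hinj (by rw [map_mul]; exact e)
      obtain ⟨v, hv⟩ := monic_unit I hI hh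
      have : x = v * a - x * (v * h - 1) := by linear_combination v * hxh
      rw [this]
      exact sub_mem (I.mul_mem_left _ ha) (I.mul_mem_left _ hv)
    refine ⟨hcomap, ?_, ?_, ?_⟩
    · rw [← hm, ← Ideal.map_sup, hI, Ideal.map_top]
    · exact Ideal.quotientMap_injective' hcomap.le
    · intro l
      obtain ⟨l, rfl⟩ := Ideal.Quotient.mk_surjective l
      obtain ⟨h, a, hh, e⟩ := hsurj l
      obtain ⟨v, hv⟩ := monic_unit I hI hh
      refine ⟨Ideal.Quotient.mk I (a * v), ?_⟩
      rw [Ideal.quotientMap_mk, Ideal.Quotient.eq]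
      have hkey : ψ.toRingHom (a * v) - l = l * ψ.toRingHom (v * h - 1) := by
        simp only [AlgHom.toRingHom_eq_coe, RingHom.coe_coe, map_mul, map_sub, map_one]
        linear_combination (-(ψ v)) * e
      rw [hkey]
      exact Ideal.mul_mem_left _ _ (Ideal.mem_map_of_mem _ hv)
  · refine ⟨le_antisymm Ideal.map_comap_le (fun l hl => ?_), ?_⟩
    · obtain ⟨h, a, hh, e⟩ := hsurj l
      have ha : ψ.toRingHom a ∈ (J.comap ψ.toRingHom).map ψ.toRingHom :=
        Ideal.mem_map_of_mem _ (show ψ a ∈ J from e ▸ J.mul_mem_right _ hl)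
      obtain ⟨w, hw⟩ := (hu h hh).exists_right_inv
      have : l = ψ a * w := by rw [← e, mul_assoc, hw, mul_one]
      rw [this]
      exact Ideal.mul_mem_right _ _ ha
    · obtain ⟨j, hj, μ, hμ, hsum⟩ := Submodule.mem_sup.1 (hJ ▸ Submodule.mem_top : (1 : L) ∈ _)
      rw [← hm] at hμ
      obtain ⟨h, b, hh, hb, e⟩ := mem_map hsurj _ hμ
      have ha : ψ (h - b) ∈ J := by
        have : ψ (h - b) = j * ψ h := by rw [map_sub]; linear_combination (-(ψ h)) * hsum + e
        exact this ▸ J.mul_mem_right _ hj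
      have hmap : (h - b).map (residue R) = h.map (residue R) * 1 := by
        rw [mul_one, Polynomial.map_sub, sub_eq_self]
        rw [algebraMap_eq] at hb
        ext n
        rw [coeff_map, coeff_zero, residue_eq_zero_iff]
        exact Ideal.mem_map_C_iff.1 hb n
      obtain ⟨g, q, hgq, hg, -, hq⟩ := Groth.Agent.CanElt.exists_factor_lift R (h - b) _ 1 (hh.map _)
        isCoprime_one_right hmap
      have hqJ : q ∈ J.comap ψ.toRingHom := by
        obtain ⟨w, hw⟩ := (hu g hg).exists_right_inv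
        rw [hgq, map_mul] at ha
        show ψ q ∈ J
        have h2 : ψ q = w * (ψ g * ψ q) := by linear_combination (-(ψ q)) * hw
        rw [h2]
        exact J.mul_mem_left _ ha
      refine (Ideal.eq_top_iff_one _).2 (Submodule.mem_sup.2 ⟨q, hqJ, 1 - q, ?_, by ring⟩)
      rw [algebraMap_eq, Ideal.mem_map_C_iff]
      intro n
      rw [← residue_eq_zero_iff, ← coeff_map, Polynomial.map_sub, Polynomial.map_one, hq, sub_self, coeff_zero]

end Groth.Agent.S15779
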