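import Groth.Statements.S1578
import Groth.Agent.Lib.WeakAss18.Tilde

set_option autoImplicit false
universe u
open CategoryTheory CategoryTheory.Limits AlgebraicGeometry
open Divisors

namespace Groth.Agent.S1578

/-- Let M be a module over a ring A, F the associated quasi-coherent module on Spec A, and p a prime of
A. If p is an associated prime of M then p is an associated point of F; the converse holds when p is
finitely generated. -/
theorem result (A : CommRingCat.{u}) (M : ModuleCat.{u} A)
    (p : Spec A) :
    (p.asIdeal ∈ associatedPrimes A M → Curv2.IsAssPoint (tilde M) p) ∧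
    (p.asIdeal.FG → Curv2.IsAssPoint (tilde M) p → p.asIdeal ∈ associatedPrimes A M) := by
  constructor
  · rintro ⟨-, m, hm⟩
    refine (Groth.Agent.WA.isAssPoint_iff p).mpr (Groth.Agent.WA.isWeakAssPoint_of_elem' M p m (fun c hc h0 => ?_) fun a ha => ?_)
    · refine hc (hm ▸ Ideal.le_radical ?_)
      rw [Submodule.mem_colon_singleton, Submodule.mem_bot]
      exact h0
    · rw [hm] at ha
      obtain ⟨k, hk⟩ := ha
      rw [Submodule.mem_colon_singleton, Submodule.mem_bot] at hk
      exact ⟨k, 1, fun h => p.isPrime.ne_top ((Ideal.eq_top_iff_one _).mpr h), by rw [one_smul, hk]⟩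
  · intro hfg h
    classical
    obtain ⟨m, hne, hkill⟩ := Groth.Agent.WA.exists_of_isWeakAssPoint M p ((Groth.Agent.WA.isAssPoint_iff p).mp h)
    obtain ⟨s, hs⟩ := hfg
    choose! k c hc hc0 using fun a (ha : a ∈ s) => hkill a (hs ▸ Submodule.subset_span ha)
    let d := ∏ a ∈ s, c a
    have hd : d ∈ p.asIdeal.primeCompl := Submonoid.prod_mem _ fun a ha => hc a ha
    refine ⟨p.isPrime, d • m, le_antisymm ?_ ?_⟩
    · conv_lhs => rw [← hs]
      rw [Submodule.span_le]
      intro a ha
      refine ⟨k a, ?_⟩
      rw [Submodule.mem_colon_singleton, Submodule.mem_bot]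
      obtain ⟨q, hq⟩ := Finset.dvd_prod_of_mem c ha
      rw [show d = c a * q from hq, mul_comm (c a), mul_smul, smul_comm, smul_comm (a ^ k a) (c a), hc0 a ha, smul_zero]
    · rintro a ⟨n, hn⟩
      rw [Submodule.mem_colon_singleton, Submodule.mem_bot, ← mul_smul] at hn
      by_contra hap
      exact hne _ (p.asIdeal.primeCompl.mul_mem (p.asIdeal.primeCompl.pow_mem hap n) hd) hn

end Groth.Agent.S1578
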