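import Groth.Statements.S15782
import Groth.Agent.Lib.WeilComp19.Setup
-- import your own Groth.Agent.* helpers here

set_option autoImplicit false
universe u
open CategoryTheory MonoidalCategory CartesianMonoidalCategory MonObj GrpObj AlgebraicGeometry
open Neron

namespace Groth.Agent.S15782

set_option linter.style.haveILetI false
set_option backward.isDefEq.respectTransparency.types false


/-- Let R ⊆ R' be discrete valuation rings with R complete, R' a finite R-algebra and the residue field
k of R algebraically closed; let k' be the residue field of R' and f the morphism Spec R' → Spec R.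
Let N' be a smooth separated R'-group scheme and (W, q) a Weil restriction of N' along f, endowed
with a group structure for which q is a homomorphism. Say that a group scheme G over a discrete
valuation ring has split reduction when for every rational point x of its special fibre there is a
rational point y of the special fibre lying in the connected component of x (x·y⁻¹ lies in the
identity component) whose order equals the order of the component of x in the component group: for
every n, y^n = 1 if and only if x^n lies in the identity component (for a commutative group scheme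
with finitely generated component group over an algebraically closed residue field this says that
the extension of the component group by the identity component splits). If W has split reduction
then N' has split reduction. (The published statement: if the Weil restriction to K of a
semi-abelian variety G over a finite separable extension L of K has split reduction then so does G,
reduction being taken on Néron lft-models; this row states the implication for any smooth separated
group scheme N' over R' and a Weil restriction W of it.) -/
theorem result
    (R : Type u) [CommRing R] [IsDomain R] [IsDiscreteValuationRing R]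
    [IsAdicComplete (IsLocalRing.maximalIdeal R) R] [IsAlgClosed (IsLocalRing.ResidueField R)]
    (R' : Type u) [CommRing R'] [IsDomain R'] [IsDiscreteValuationRing R'] [Algebra R R']
    [Module.Finite R R'] [FaithfulSMul R R']
    (N' : Over (Spec (CommRingCat.of R'))) [GrpObj N'] [Smooth N'.hom] [IsSeparated N'.hom]
    (W : Over (Spec (CommRingCat.of R))) [GrpObj W]
    (q : Red.bc (Spec.map (CommRingCat.ofHom (algebraMap R R'))) W ⟶ N') [IsMonHom q]
    (hW : WeilRes.IsWeilRes (Spec.map (CommRingCat.ofHom (algebraMap R R'))) N' W q)
    (hsplit : ∀ x : (Over.mk (Spec.map (CommRingCat.ofHom (IsLocalRing.residue R)))) ⟶ W, ∃ y : (Over.mk (Spec.map (CommRingCat.ofHom (IsLocalRing.residue R)))) ⟶ W,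
      (x * y⁻¹).left.base (IsLocalRing.closedPoint (IsLocalRing.ResidueField R)) ∈ SGA3x.neutralSet W ∧
        ∀ n : ℕ, y ^ n = 1 ↔ (x ^ n).left.base (IsLocalRing.closedPoint (IsLocalRing.ResidueField R)) ∈ SGA3x.neutralSet W)
    (x' : (Over.mk (Spec.map (CommRingCat.ofHom (IsLocalRing.residue R')))) ⟶ N') :
    ∃ y' : (Over.mk (Spec.map (CommRingCat.ofHom (IsLocalRing.residue R')))) ⟶ N',
      (x' * y'⁻¹).left.base (IsLocalRing.closedPoint (IsLocalRing.ResidueField R')) ∈ SGA3x.neutralSet N' ∧
        ∀ n : ℕ, y' ^ n = 1 ↔ (x' ^ n).left.base (IsLocalRing.closedPoint (IsLocalRing.ResidueField R')) ∈ SGA3x.neutralSet N' := by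
  classical
  obtain ⟨hT, hloc, hφ, θ, hθ⟩ := WeilComp19.exists_setup R R'
  haveI := hloc
  have hθs := WeilComp19.theta_surjective hφ θ
  obtain ⟨Φ, hΦ⟩ := WeilComp19.exists_transfer θ hθs hθ N'
  let φk := algebraMap R (IsLocalRing.ResidueField R)
  let P := WeilComp19.pts θ.toRingHom N'
  let red := WeilComp19.redHom θ q
  have hW0 : ∀ a, a.left (IsLocalRing.closedPoint (IsLocalRing.ResidueField R)) ∈ SGA3x.neutralSet W ↔
      ModelTors19.SameComp 1 (P (red a)) := fun a =>
    (WeilComp19.mem_neutralSet_iff_redPt hT hφ θ hθ q hW a).trans (WeilComp19.mem_neutralSet_iff θ.toRingHom hθs N' _)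
  have hN0 : ∀ a, a.left (IsLocalRing.closedPoint (IsLocalRing.ResidueField R')) ∈ SGA3x.neutralSet N' ↔
      ModelTors19.SameComp 1 (P (Φ a)) := fun a => by
    rw [← hΦ a]
    exact WeilComp19.mem_neutralSet_iff θ.toRingHom hθs N' _
  obtain ⟨x, hx⟩ := WeilComp19.exists_redPt_mem hT hφ θ hθ q hW ((Φ x').left (IsLocalRing.closedPoint (IsLocalRing.ResidueField R)))
    (WeilComp19.mem_fib θ.toRingHom hθs N' (Φ x') _)
  have hgx : ModelTors19.SameComp (P (Φ x')) (P (red x)) := (WeilComp19.sameComp_iff θ.toRingHom hθs N' _ _).2 hx
  obtain ⟨y, hy, hyn⟩ := hsplit x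
  change WeilComp19.tst (R := R) (IsLocalRing.ResidueField R) ⟶ W at y
  have hxy : ModelTors19.SameComp 1 (P (red x) * (P (red y))⁻¹) := by
    rw [← map_inv, ← map_inv, ← map_mul, ← map_mul]
    exact (hW0 _).1 hy
  refine ⟨Φ.symm (red y), ?_, fun n => ?_⟩
  · rw [hN0, map_mul, map_inv, MulEquiv.apply_symm_apply, map_mul, map_inv]
    exact hxy.trans (WeilComp19.sameComp_mul_right hgx.symm _)
  · have hxn : ModelTors19.SameComp 1 (P (Φ (x' ^ n))) ↔ ModelTors19.SameComp 1 (P (red (x ^ n))) := by
      simp only [map_pow]
      exact ⟨fun h => h.trans (WeilComp19.sameComp_pow hgx n), fun h => h.trans (WeilComp19.sameComp_pow hgx n).symm⟩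
    rw [hN0, hxn]
    constructor
    · intro h
      have hred : red (y ^ n) = 1 := by
        rw [map_pow, ← Φ.apply_symm_apply (red y), ← map_pow, h, map_one]
      have hyx : ModelTors19.SameComp (P (red y)) (P (red x)) := by
        have := WeilComp19.sameComp_mul_right hxy (P (red y))
        rwa [_root_.one_mul, inv_mul_cancel_right] at this
      have h2 := WeilComp19.sameComp_pow hyx n
      rw [← map_pow, ← map_pow, hred, map_one] at h2
      rw [map_pow red, map_pow P]
      exact h2
    · intro h
      rw [← map_pow, ← map_pow]
      exact (congrArg (fun v => Φ.symm (red v)) ((hyn n).2 ((hW0 _).2 h))).trans ((congrArg Φ.symm (map_one red)).trans (map_one Φ.symm))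

end Groth.Agent.S15782
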