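import Groth.Statements.S15783
import Groth.Agent.Lib.WeilComp19.Setup
-- import your own Groth.Agent.* helpers here

set_option autoImplicit false
universe u
open CategoryTheory MonoidalCategory CartesianMonoidalCategory MonObj GrpObj AlgebraicGeometry
open Neron

namespace Groth.Agent.S15783

set_option linter.style.haveILetI false
set_option backward.isDefEq.respectTransparency.types false


/-- Let R ⊆ R' be discrete valuation rings with R complete, R' a finite R-algebra and the residue field
k of R algebraically closed of characteristic p > 0; let k' be the residue field of R' and f the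
morphism Spec R' → Spec R. Let N' be a smooth separated R'-group scheme and (W, q) a Weil
restriction of N' along f, endowed with a group structure for which q is a homomorphism. Say that a
group scheme G over a discrete valuation ring has totally not split reduction when no element of
order p of the component group of its special fibre lifts to a rational point of order p: for every
rational point x of the special fibre with x^p in the identity component and x outside it, no
rational point y in the connected component of x (x·y⁻¹ in the identity component) satisfies y^p =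
1. If N' has totally not split reduction then W has totally not split reduction. (The published
statement: if a semi-abelian variety G over a finite separable extension L of K has totally not
split reduction then so does its Weil restriction to K, reduction being taken on Néron lft-models;
this row states the implication for any smooth separated group scheme N' over R' and a Weil
restriction W of it.) -/
theorem result
    (R : Type u) [CommRing R] [IsDomain R] [IsDiscreteValuationRing R]
    [IsAdicComplete (IsLocalRing.maximalIdeal R) R] [IsAlgClosed (IsLocalRing.ResidueField R)]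
    (R' : Type u) [CommRing R'] [IsDomain R'] [IsDiscreteValuationRing R'] [Algebra R R']
    [Module.Finite R R'] [FaithfulSMul R R']
    (N' : Over (Spec (CommRingCat.of R'))) [GrpObj N'] [Smooth N'.hom] [IsSeparated N'.hom]
    (p : ℕ) [Fact p.Prime] [CharP (IsLocalRing.ResidueField R) p]
    (W : Over (Spec (CommRingCat.of R))) [GrpObj W]
    (q : Red.bc (Spec.map (CommRingCat.ofHom (algebraMap R R'))) W ⟶ N') [IsMonHom q]
    (hW : WeilRes.IsWeilRes (Spec.map (CommRingCat.ofHom (algebraMap R R'))) N' W q)
    (htns : ∀ x' : (Over.mk (Spec.map (CommRingCat.ofHom (IsLocalRing.residue R')))) ⟶ N', (x' ^ p).left.base (IsLocalRing.closedPoint (IsLocalRing.ResidueField R')) ∈ SGA3x.neutralSet N' →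
      x'.left.base (IsLocalRing.closedPoint (IsLocalRing.ResidueField R')) ∉ SGA3x.neutralSet N' →
        ∀ y' : (Over.mk (Spec.map (CommRingCat.ofHom (IsLocalRing.residue R')))) ⟶ N', (x' * y'⁻¹).left.base (IsLocalRing.closedPoint (IsLocalRing.ResidueField R')) ∈ SGA3x.neutralSet N' → y' ^ p ≠ 1)
    (x : (Over.mk (Spec.map (CommRingCat.ofHom (IsLocalRing.residue R)))) ⟶ W) (hxp : (x ^ p).left.base (IsLocalRing.closedPoint (IsLocalRing.ResidueField R)) ∈ SGA3x.neutralSet W)
    (hx : x.left.base (IsLocalRing.closedPoint (IsLocalRing.ResidueField R)) ∉ SGA3x.neutralSet W)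
    (y : (Over.mk (Spec.map (CommRingCat.ofHom (IsLocalRing.residue R)))) ⟶ W) (hy : (x * y⁻¹).left.base (IsLocalRing.closedPoint (IsLocalRing.ResidueField R)) ∈ SGA3x.neutralSet W) :
    y ^ p ≠ 1 := by
  intro hyp
  change WeilComp19.tst (R := R) (IsLocalRing.ResidueField R) ⟶ W at x y
  classical
  obtain ⟨hT, hloc, hφ, θ, hθ⟩ := WeilComp19.exists_setup R R'
  haveI := hloc
  have hθs := WeilComp19.theta_surjective hφ θ
  obtain ⟨Φ, hΦ⟩ := WeilComp19.exists_transfer θ hθs hθ N'
  let red := WeilComp19.redHom θ q
  let F := Φ.symm.toMonoidHom.comp red
  have hN0 : ∀ a, (F a).left (IsLocalRing.closedPoint (IsLocalRing.ResidueField R')) ∈ SGA3x.neutralSet N' ↔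
      a.left (IsLocalRing.closedPoint (IsLocalRing.ResidueField R)) ∈ SGA3x.neutralSet W := fun a => by
    rw [← hΦ (F a), show Φ (F a) = red a from Φ.apply_symm_apply _]
    exact (WeilComp19.mem_neutralSet_iff_redPt hT hφ θ hθ q hW a).symm
  refine htns (F x) ?_ ((hN0 x).not.2 hx) (F y) ?_ ?_
  · rw [← map_pow]; exact (hN0 _).2 hxp
  · rw [← map_inv, ← map_mul]; exact (hN0 _).2 hy
  · rw [← map_pow]
    exact (congrArg F hyp).trans (map_one F)

end Groth.Agent.S15783
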