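import Groth.Statements.S15784
import Mathlib.Tactic.LinearCombination
import Mathlib.Algebra.GroupWithZero.Units.Lemmas

set_option autoImplicit false
universe u
open Neron

namespace Groth.Agent.S15784

/-- Let O be a discrete valuation ring with fraction field L and uniformizer ϖ', let ϖ be an element of
the maximal ideal of O, let q = u·ϖ'^n with u a unit of O and n ≥ 1, and let m ≥ 1 be a divisor of
n. Then the following are equivalent: (i) there is a nonzero element z = w·ϖ'^a of L, with w a unit
of O and a an integer congruent to n/m modulo n, and an integer j such that z^m·q^j lies in 1 + ϖO;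
(ii) ϖ'^n/q is an m-th power in the group of units of O/ϖO, that is, u·(y^m + ϖ·r) = 1 for some y, r
∈ O. (The published statement phrases (i) geometrically, as the existence of a point of order m in
the special fibre of the Néron model of the Weil restriction of the Tate curve with parameter q from
L down to a subfield over which L is totally ramified with ϖ a uniformizer of the subfield, whose
image in the component group also has order m; this row states the equivalence between (i) and (ii)
that the printed argument establishes.) -/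
theorem result
    (O : Type u) [CommRing O] [IsDomain O] [IsDiscreteValuationRing O]
    (L : Type u) [Field L] [Algebra O L] [IsFractionRing O L]
    (ϖ' : O) (hϖ' : Irreducible ϖ') (ϖ : O) (hϖ : ϖ ∈ IsLocalRing.maximalIdeal O)
    (n : ℕ) (hn : 1 ≤ n) (u : Oˣ) (q : O) (hq : q = u * ϖ' ^ n)
    (m : ℕ) (hm : 1 ≤ m) (hmn : m ∣ n) :
    (∃ (w : Oˣ) (a j t : ℤ) (r : O), a = (n / m : ℕ) + t * n ∧
        (algebraMap O L w * algebraMap O L ϖ' ^ a) ^ m * algebraMap O L q ^ j = algebraMap O L (1 + ϖ * r)) ↔
      ∃ y r : O, (u : O) * (y ^ m + ϖ * r) = 1 := by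
  have hq0 : algebraMap O L ϖ' ≠ 0 := by
    rw [Ne, map_eq_zero_iff _ (IsFractionRing.injective O L)]; exact hϖ'.ne_zero
  have hunit : ∀ r : O, IsUnit (1 + ϖ * r) := fun r =>
    (IsLocalRing.isUnit_or_isUnit_of_add_one (show (1 + ϖ * r) + -(ϖ * r) = 1 by ring)).resolve_right
      fun h => (IsLocalRing.mem_maximalIdeal _).1 ((IsLocalRing.maximalIdeal O).mul_mem_right r hϖ) (IsUnit.neg_iff _ |>.1 h)
  set U : Lˣ := Units.map (algebraMap O L : O →* L) u with hU
  have hq' : algebraMap O L q = (U : L) * algebraMap O L ϖ' ^ (n : ℤ) := by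
    rw [hq, map_mul, map_pow, zpow_natCast]; rfl
  obtain ⟨d, hd⟩ := hmn
  have hd' : n / m = d := by rw [hd, Nat.mul_div_cancel_left _ (by omega)]
  constructor
  · rintro ⟨w, a, j, t, r, ha, h⟩
    set W : Lˣ := Units.map (algebraMap O L : O →* L) w with hW
    rw [hq', mul_zpow, mul_pow] at h
    have hW' : algebraMap O L w = (W : L) := rfl
    rw [hW', ← zpow_natCast (algebraMap O L ϖ' ^ a), ← zpow_mul, ← zpow_mul] at h
    have h2 : (W : L) ^ m * ((U : L) ^ j) * algebraMap O L ϖ' ^ (a * m + n * j) = algebraMap O L (1 + ϖ * r) := by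
      rw [← h, zpow_add₀ hq0]; ring
    -- the exponent of the uniformizer vanishes
    obtain ⟨v, hv⟩ : ∃ v : Oˣ, (W : L) ^ m * ((U : L) ^ j) = algebraMap O L (v : O) := by
      refine ⟨w ^ m * u ^ j, ?_⟩
      have e : Units.map (algebraMap O L : O →* L) (w ^ m * u ^ j) = W ^ m * U ^ j := by
        rw [map_mul, map_pow, map_zpow]
      have := congrArg Units.val e
      rw [Units.val_mul (W ^ m), Units.val_pow_eq_pow_val, Units.val_zpow_eq_zpow_val] at this
      exact this.symm
    rw [hv] at h2
    have hexp : a * m + n * j = 0 := by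
      by_contra hne
      rcases Int.eq_nat_or_neg (a * m + n * j) with ⟨e, he | he⟩
      · rw [he, zpow_natCast, ← map_pow, ← map_mul] at h2
        have h3 := IsFractionRing.injective O L h2
        refine hϖ'.not_isUnit ((isUnit_pow_iff (n := e) ?_).1 ?_)
        · intro h0; exact hne (by rw [he, h0]; rfl)
        · exact isUnit_of_mul_isUnit_right (h3 ▸ hunit r)
      · rw [he, zpow_neg, zpow_natCast, ← div_eq_mul_inv, div_eq_iff (pow_ne_zero _ hq0), ← map_pow, ← map_mul] at h2
        have h3 := IsFractionRing.injective O L h2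
        refine hϖ'.not_isUnit ((isUnit_pow_iff (n := e) ?_).1 ?_)
        · intro h0; exact hne (by rw [he, h0]; rfl)
        · exact isUnit_of_mul_isUnit_right (h3 ▸ v.isUnit)
    have hj : j = -(1 + t * m) := by
      have hn0 : (n : ℤ) ≠ 0 := by omega
      refine mul_left_cancel₀ hn0 ?_
      rw [ha, hd'] at hexp
      have : (n : ℤ) = m * d := by exact_mod_cast hd
      rw [this] at hexp ⊢
      linear_combination hexp
    rw [hexp, zpow_zero, mul_one] at h2
    have h3 : (v : O) = 1 + ϖ * r := IsFractionRing.injective O L h2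
    have hv' : v = w ^ m * u ^ j := by
      apply Units.ext
      apply IsFractionRing.injective O L
      have e : Units.map (algebraMap O L : O →* L) (w ^ m * u ^ j) = W ^ m * U ^ j := by
        rw [map_mul, map_pow, map_zpow]
      have := congrArg Units.val e
      rw [show ((W ^ m * U ^ j : Lˣ) : L) = (W : L) ^ m * (U : L) ^ j by simp, hv] at this
      exact this.symm
    set y : Oˣ := (w * u ^ (-t))⁻¹ with hy
    refine ⟨(y : O), (y : O) ^ m * r, ?_⟩
    have key : u * y ^ m * v = 1 := by
      rw [hv', hj, hy, inv_pow, mul_pow, ← zpow_natCast (u ^ (-t)), ← zpow_mul, mul_inv, ← zpow_neg]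
      calc u * ((w ^ m)⁻¹ * u ^ (-(-t * (m : ℤ)))) * (w ^ m * u ^ (-(1 + t * (m : ℤ))))
          = u ^ (1 : ℤ) * u ^ (-(-t * (m : ℤ))) * u ^ (-(1 + t * (m : ℤ))) * ((w ^ m)⁻¹ * w ^ m) := by
            rw [zpow_one]; ac_rfl
        _ = 1 := by rw [inv_mul_cancel, mul_one, ← zpow_add, ← zpow_add]; ring_nf; simp
    have := congrArg Units.val key
    simp only [Units.val_mul, Units.val_pow_eq_pow_val, Units.val_one, h3] at this
    linear_combination this
  · rintro ⟨y, r, h⟩
    have hy : IsUnit y := by
      by_contra hy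
      have hmem : y ^ m + ϖ * r ∈ IsLocalRing.maximalIdeal O :=
        add_mem (Ideal.pow_mem_of_mem _ ((IsLocalRing.mem_maximalIdeal _).2 hy) m (by omega))
          ((IsLocalRing.maximalIdeal O).mul_mem_right r hϖ)
      exact (IsLocalRing.mem_maximalIdeal _).1 hmem (isUnit_of_mul_isUnit_right (h ▸ isUnit_one))
    obtain ⟨y, rfl⟩ := hy
    refine ⟨y⁻¹, (d : ℤ), -1, 0, r * (((y⁻¹ : Oˣ) : O) ^ m), by rw [hd']; simp, ?_⟩
    have e : ((y : O) ^ m) * (((y⁻¹ : Oˣ) : O) ^ m) = 1 := by rw [← mul_pow, Units.mul_inv, one_pow]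
    have h2 : algebraMap O L (1 + ϖ * (r * ((y⁻¹ : Oˣ) : O) ^ m)) * algebraMap O L u = algebraMap O L (((y⁻¹ : Oˣ) : O) ^ m) := by
      rw [← map_mul]; congr 1
      linear_combination ((y⁻¹ : Oˣ) : O) ^ m * h - (u : O) * e
    rw [zpow_neg_one, ← div_eq_mul_inv, div_eq_iff, hq, map_mul, map_pow (algebraMap O L) ϖ', ← mul_assoc, h2, mul_pow,
      map_pow, zpow_natCast, ← pow_mul, hd, mul_comm m d]
    rw [hq, map_mul, map_pow]
    exact mul_ne_zero (Units.map (algebraMap O L : O →* L) u).ne_zero (pow_ne_zero _ hq0)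

end Groth.Agent.S15784
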