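import Groth.Statements.S15792
import Groth.Agent.Lib.WildQuotH28.PGroup

set_option autoImplicit false
universe u v
open WildQuot

namespace Groth.Agent.S15792

/-- Let `A` be a regular local ring of Krull dimension `n` and prime characteristic `p`, and let a
finite `p`-group `G` act on `A` by ring automorphisms inducing the identity on the residue field.
Then there is an admissible regular system of parameters: `u_1, …, u_n ∈ A` such that for every
choice `σ_1, …, σ_n ∈ G` the elements `σ_1 u_1, …, σ_n u_n` generate the maximal ideal. (The
published statement is for a complete regular local ring containing a field of representatives fixed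
by `G`; this row drops completeness and asks only that `G` act trivially on the residue field.) -/
theorem result
    (p : ℕ) [Fact p.Prime] (A : Type u) [CommRing A] [IsRegularLocalRing A] [CharP A p]
    (G : Type v) [Group G] [Finite G] [MulSemiringAction G A] (hG : IsPGroup p G)
    (hres : ∀ (σ : G) (a : A), σ • a - a ∈ IsLocalRing.maximalIdeal A)
    (n : ℕ) (hn : ringKrullDim A = n) :
    ∃ u : Fin n → A, ∀ τ : Fin n → G,
      Ideal.span (Set.range fun i => τ i • u i) = IsLocalRing.maximalIdeal A := by
  exact WildQuotH28.exists_admissible p hG hres n hn

end Groth.Agent.S15792
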