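import Groth.Statements.S15793
import Groth.Agent.Lib.WildQuotH28.Inv
import Groth.Agent.Lib.RegLoc.Sop
import Mathlib.RingTheory.AdicCompletion.Noetherian
open IsLocalRing

set_option autoImplicit false
universe u v w
open WildQuot

namespace Groth.Agent.S15793

/-- Let `A` be a complete regular local ring of Krull dimension at least `2` and prime characteristic
`p`, with maximal ideal `m`; let `k` be a field with a ring map `k → A` whose composite with `A →
A/m` is onto (a field of representatives); let `G` be a group of order `p` acting on `A` by ring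
automorphisms that fix the image of `k`, ramified precisely at the origin: for every prime `P ≠ m`,
the inertia subgroup of `P` (the elements of `G` fixing every element of `A` modulo `P`) is trivial.
Then no element of `m` outside `m ^ 2` is fixed by every element of `G`; in particular the action is
not linear in any regular system of parameters. -/
theorem result
    (p : ℕ) [Fact p.Prime] (A : Type u) [CommRing A] [IsRegularLocalRing A] [CharP A p]
    [IsAdicComplete (IsLocalRing.maximalIdeal A) A] (hdim : 2 ≤ ringKrullDim A)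
    (k : Type v) [Field k] [Algebra k A]
    (hk : Function.Surjective (IsLocalRing.residue A ∘ algebraMap k A))
    (G : Type w) [Group G] [Finite G] [MulSemiringAction G A] (hcard : Nat.card G = p)
    (hGk : ∀ (σ : G) (c : k), σ • algebraMap k A c = algebraMap k A c)
    (hram : ∀ P : Ideal A, P.IsPrime → P ≠ IsLocalRing.maximalIdeal A → P.inertia G = ⊥)
    (v : A) (hv : v ∈ IsLocalRing.maximalIdeal A) (hv2 : v ∉ IsLocalRing.maximalIdeal A ^ 2) :
    ∃ σ : G, σ • v ≠ v := by
  classical
  by_contra hfix
  push Not at hfix
  have hv1 : Ideal.span {v} ≤ maximalIdeal A := (Ideal.span_singleton_le_iff_mem _).2 hv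
  haveI := RegLoc.isLocalRing_quotient (I := Ideal.span {v})
    (ne_top_of_le_ne_top (maximalIdeal.isMaximal A).ne_top hv1)
  obtain ⟨hreg, hfr⟩ := RegLoc.quotient_span_singleton hv hv2
  obtain ⟨z, hz⟩ := RegLoc.exists_fin_generators (A ⧸ Ideal.span ({v} : Set A))
  choose x hx using fun i => Ideal.Quotient.mk_surjective (z i)
  have hm : maximalIdeal A = Ideal.span (Set.range x) ⊔ Ideal.span {v} :=
    RegLoc.maximalIdeal_eq_sup_span x (by rw [show Ideal.Quotient.mk _ ∘ x = z from funext hx]; exact hz) hv1
  haveI : Nontrivial G := (Finite.one_lt_card_iff_nontrivial).1 (by rw [hcard]; exact (Fact.out : p.Prime).one_lt)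
  obtain ⟨σ, hσ⟩ := exists_ne (1 : G)
  let I : Ideal A := Ideal.span (Set.range fun i => σ • x i - x i)
  have hIm : I ≤ maximalIdeal A := Ideal.span_le.2 (by
    rintro _ ⟨i, rfl⟩; exact WildQuotH28.smul_sub_mem hk hGk σ _)
  haveI : (maximalIdeal A).IsPrime := (maximalIdeal.isMaximal A).isPrime
  obtain ⟨P, hP, hPm⟩ := Ideal.exists_minimalPrimes_le hIm
  haveI := hP.1.1
  have hne : P ≠ maximalIdeal A := by
    rintro rfl
    have h1 := Ideal.height_le_spanRank_toENat_of_mem_minimal_primes I _ hP
    have h2 : I.spanRank.toENat ≤ ((maximalIdeal (A ⧸ Ideal.span ({v} : Set A))).spanFinrank : ℕ∞) := by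
      refine (Cardinal.toENat.monotone' (Submodule.spanRank_span_le_card _)).trans ?_
      show Set.encard _ ≤ _
      rw [← Set.image_univ]
      exact (Set.encard_image_le _ _).trans (by simp [Set.encard_univ])
    have hr := IsRegularLocalRing.spanFinrank_maximalIdeal (R := A)
    rw [← IsLocalRing.maximalIdeal_height_eq_ringKrullDim] at hr
    have hr' : ((maximalIdeal A).spanFinrank : ℕ∞) = (maximalIdeal A).height := WithBot.coe_injective hr
    have h3 := h1.trans h2
    rw [← hr', Nat.cast_le] at h3
    omega
  have hsm : ∀ y ∈ maximalIdeal A, σ • y ∈ maximalIdeal A := fun y hy => WildQuotH28.smul_mem_maximalIdeal σ hy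
  have key : ∀ N : ℕ, ∀ a : A, σ • a - a ∈ P ⊔ maximalIdeal A ^ N := by
    intro N
    induction N with
    | zero => intro a; rw [pow_zero, Ideal.one_eq_top, sup_top_eq]; trivial
    | succ N ih =>
      intro a
      have hPN : P ≤ P ⊔ maximalIdeal A ^ (N + 1) := le_sup_left
      have hmul : ∀ y ∈ maximalIdeal A, ∀ b : A, σ • y * (σ • b - b) ∈ P ⊔ maximalIdeal A ^ (N + 1) := by
        intro y hy b
        obtain ⟨q, hq, r, hr, hqr⟩ := Submodule.mem_sup.1 (ih b)
        rw [← hqr, mul_add]
        refine add_mem (Ideal.mem_sup_left (P.mul_mem_left _ hq)) (Ideal.mem_sup_right ?_)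
        rw [pow_succ']
        exact Ideal.mul_mem_mul (hsm y hy) hr
      have hgen : ∀ y ∈ maximalIdeal A, σ • y - y ∈ P ⊔ maximalIdeal A ^ (N + 1) := by
        intro y hy
        rw [hm, ← Ideal.span_union] at hy
        induction hy using Submodule.span_induction with
        | mem y hy =>
          rcases hy with ⟨i, rfl⟩ | rfl
          · exact hPN (hP.1.2 (Ideal.subset_span ⟨i, rfl⟩))
          · rw [hfix σ, sub_self]; exact zero_mem _
        | zero => rw [smul_zero, sub_zero]; exact zero_mem _
        | add y z _ _ hy hz =>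
          rw [smul_add, show σ • y + σ • z - (y + z) = (σ • y - y) + (σ • z - z) by ring]
          exact add_mem hy hz
        | smul b y hy' hy =>
          have hym : y ∈ maximalIdeal A := by rw [hm, ← Ideal.span_union]; exact hy'
          rw [smul_eq_mul, smul_mul', show σ • b * σ • y - b * y = σ • y * (σ • b - b) + b * (σ • y - y) by ring]
          exact add_mem (hmul y hym b) (Ideal.mul_mem_left _ b hy)
      obtain ⟨c, hc⟩ := hk (residue A a)
      have h : a - algebraMap k A c ∈ maximalIdeal A := Ideal.Quotient.eq.1 hc.symm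
      simpa [smul_sub, hGk] using hgen _ h
  have hin : σ ∈ P.inertia G := by
    rw [AddSubgroup.mem_inertia]
    intro a
    haveI : Nontrivial (A ⧸ P) := Ideal.Quotient.nontrivial_iff.2 hP.1.1.ne_top
    haveI : IsHausdorff (maximalIdeal A) (A ⧸ P) :=
      IsHausdorff.of_le_jacobson _ _ (IsLocalRing.maximalIdeal_le_jacobson _)
    refine Ideal.Quotient.eq_zero_iff_mem.1 (IsHausdorff.haus (I := maximalIdeal A) inferInstance _ fun N => ?_)
    obtain ⟨q, hq, r, hr, hqr⟩ := Submodule.mem_sup.1 (key N a)
    rw [SModEq.zero, ← hqr, map_add, Ideal.Quotient.eq_zero_iff_mem.2 hq, zero_add,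
      show Ideal.Quotient.mk P r = r • (1 : A ⧸ P) from by rw [Algebra.smul_def, mul_one]; rfl]
    exact Submodule.smul_mem_smul hr trivial
  rw [hram P hP.1.1 hne, Subgroup.mem_bot] at hin
  exact hσ hin

end Groth.Agent.S15793
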