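import Groth.Statements.S15795
import Mathlib.Tactic
import Mathlib.RingTheory.MvPolynomial.Basic
import Mathlib.RingTheory.Ideal.Quotient.Operations
import Mathlib.LinearAlgebra.Basis.Basic
import Mathlib.Data.Matrix.Mul
import Mathlib.NumberTheory.Bernoulli
import Mathlib.RingTheory.PowerSeries.Inverse
import Mathlib.RingTheory.AdicCompletion.Basic
import Mathlib.LinearAlgebra.Matrix.Charpoly.Coeff
import Mathlib.Algebra.Polynomial.Expand
import Mathlib.NumberTheory.Padics.PadicVal.Basic
import Mathlib.RingTheory.IntegralClosure.IsIntegralClosure.Basic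
import Mathlib.GroupTheory.Torsion
import Mathlib.Algebra.MonoidAlgebra.Basic
import Mathlib.RingTheory.Norm.Basic
import Mathlib.LinearAlgebra.Eigenspace.Zero
import Mathlib.RingTheory.LocalRing.ResidueField.Basic
import Mathlib.RingTheory.Artinian.Module
import Mathlib.FieldTheory.IsAlgClosed.Basic
import Mathlib.RingTheory.Ideal.AssociatedPrime.Basic
import Mathlib.RingTheory.Ideal.MinimalPrime.Noetherian
import Mathlib.RingTheory.RegularLocalRing.Defs
import Mathlib.RingTheory.Ideal.KrullsHeightTheorem
import Mathlib.RingTheory.Nakayama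

set_option autoImplicit false
universe u v
open WildQuot

namespace Groth.Agent.S15795

/-- Let `A` be a regular local ring of Krull dimension `n` with maximal ideal `m`, let a finite group
`G` act on `A` by ring automorphisms inducing the identity on the residue field, and let `u_1, …,
u_n` generate `m`. Suppose that for every `σ ∈ G` and every `i`, `σ u_i ∈ (u_1, …, u_i) + m ^ 2`,
i.e. the induced linear maps of `m / m ^ 2` are upper triangular in the basis given by the `u_i`.
Then the system `u` is admissible: for every choice `σ_1, …, σ_n ∈ G` the elements `σ_1 u_1, …, σ_n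
u_n` generate `m`. (The published statement is for a complete regular local ring containing a
`G`-fixed field of representatives; this row drops completeness and asks only that `G` act trivially
on the residue field.) -/
theorem result
    (A : Type u) [CommRing A] [IsRegularLocalRing A]
    (G : Type v) [Group G] [Finite G] [MulSemiringAction G A]
    (hres : ∀ (σ : G) (a : A), σ • a - a ∈ IsLocalRing.maximalIdeal A)
    (n : ℕ) (hn : ringKrullDim A = n) (u : Fin n → A)
    (hu : Ideal.span (Set.range u) = IsLocalRing.maximalIdeal A)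
    (htri : ∀ (σ : G) (i : Fin n),
      σ • u i ∈ Ideal.span (u '' {j | j ≤ i}) ⊔ IsLocalRing.maximalIdeal A ^ 2) :
    ∀ τ : Fin n → G,
      Ideal.span (Set.range fun i => τ i • u i) = IsLocalRing.maximalIdeal A := by
  intro τ
  set m := IsLocalRing.maximalIdeal A
  have hm : ∀ (σ : G) (a : A), a ∈ m → σ • a ∈ m := fun σ a ha => by
    simpa using add_mem (hres σ a) ha
  have hmap : ∀ σ : G, m.map (MulSemiringAction.toRingHom G A σ) ≤ m := fun σ => Ideal.map_le_iff_le_comap.2 (hm σ)
  have hum : ∀ i, u i ∈ m := fun i => hu ▸ Ideal.subset_span ⟨i, rfl⟩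
  set S := Ideal.span (Set.range fun i => τ i • u i) with hS
  have hSm : S ≤ m := Ideal.span_le.2 (by rintro _ ⟨i, rfl⟩; exact hm _ _ (hum i))
  have W : ∀ (σ : G) (i : Fin n) (x : A), x ∈ Ideal.span (u '' {j | j < i}) ⊔ m ^ 2 → σ • x ∈ Ideal.span (u '' {j | j < i}) ⊔ m ^ 2 := by
    intro σ i x hx
    have hle : (Ideal.span (u '' {j | j < i}) ⊔ m ^ 2).map (MulSemiringAction.toRingHom G A σ) ≤ Ideal.span (u '' {j | j < i}) ⊔ m ^ 2 := by
      rw [Ideal.map_sup, Ideal.map_pow, Ideal.map_span, sup_le_iff, Ideal.span_le]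
      refine ⟨?_, le_sup_of_le_right (Ideal.pow_right_mono (hmap σ) 2)⟩
      rintro _ ⟨_, ⟨j, hj, rfl⟩, rfl⟩
      exact SetLike.le_def.1 (sup_le_sup_right (Ideal.span_mono (Set.image_mono fun l (hl : l ≤ j) => show l < i from lt_of_le_of_lt hl hj)) _) (htri σ j)
    exact hle (Ideal.mem_map_of_mem _ hx)
  have key : ∀ i, u i ∈ S ⊔ m ^ 2 := by
    intro i
    induction i using WellFoundedLT.induction with
    | _ i ih =>
      have hlow : Ideal.span (u '' {j | j < i}) ⊔ m ^ 2 ≤ S ⊔ m ^ 2 :=
        sup_le (Ideal.span_le.2 (by rintro _ ⟨j, hj, rfl⟩; exact ih j hj)) le_sup_right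
      have hset : u '' {j | j ≤ i} = insert (u i) (u '' {j | j < i}) := by
        rw [← Set.image_insert_eq]; congr 1; ext j; simp [le_iff_eq_or_lt]
      have h := htri (τ i) i
      rw [hset, Ideal.span_insert, sup_assoc, Submodule.mem_sup] at h
      obtain ⟨y, hy, w, hw, hyw⟩ := h
      obtain ⟨a, rfl⟩ := Ideal.mem_span_singleton'.1 hy
      by_cases ha : IsUnit a
      · obtain ⟨a, rfl⟩ := ha
        have : u i = (↑a⁻¹ : A) * (τ i • u i) - (↑a⁻¹ : A) * w := by rw [← hyw, mul_add, ← mul_assoc, Units.inv_mul]; ring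
        rw [this]
        exact sub_mem (Ideal.mul_mem_left _ _ (Ideal.mem_sup_left (Ideal.subset_span ⟨i, rfl⟩))) (Ideal.mul_mem_left _ _ (hlow hw))
      · apply hlow
        have : τ i • u i ∈ Ideal.span (u '' {j | j < i}) ⊔ m ^ 2 := by
          rw [← hyw]
          refine add_mem (Ideal.mem_sup_right ?_) hw
          rw [pow_two]
          exact Ideal.mul_mem_mul ha (hum i)
        simpa using W (τ i)⁻¹ i _ this
  refine le_antisymm hSm ?_
  refine Submodule.le_of_le_smul_of_le_jacobson_bot (I := m) (IsNoetherian.noetherian m) (IsLocalRing.jacobson_eq_maximalIdeal ⊥ bot_ne_top).ge ?_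
  rw [smul_eq_mul, ← pow_two]
  calc m = Ideal.span (Set.range u) := hu.symm
    _ ≤ _ := Ideal.span_le.2 (by rintro _ ⟨i, rfl⟩; exact key i)

end Groth.Agent.S15795
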