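import Groth.Statements.S15796
import Mathlib.Tactic
import Mathlib.RingTheory.MvPolynomial.Basic
import Mathlib.RingTheory.Ideal.Quotient.Operations
import Mathlib.LinearAlgebra.Basis.Basic
import Mathlib.Data.Matrix.Mul
import Mathlib.NumberTheory.Bernoulli
import Mathlib.RingTheory.PowerSeries.Inverse
import Mathlib.RingTheory.AdicCompletion.Basic
import Mathlib.LinearAlgebra.Matrix.Charpoly.Coeff
import Mathlib.Algebra.Polynomial.Expand
import Mathlib.NumberTheory.Padics.PadicVal.Basic
import Mathlib.RingTheory.IntegralClosure.IsIntegralClosure.Basic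
import Mathlib.GroupTheory.Torsion
import Mathlib.Algebra.MonoidAlgebra.Basic
import Mathlib.RingTheory.Norm.Basic
import Mathlib.LinearAlgebra.Eigenspace.Zero
import Mathlib.RingTheory.LocalRing.ResidueField.Basic
import Mathlib.RingTheory.Artinian.Module
import Mathlib.FieldTheory.IsAlgClosed.Basic
import Mathlib.RingTheory.Ideal.AssociatedPrime.Basic
import Mathlib.RingTheory.Ideal.MinimalPrime.Noetherian
import Mathlib.RingTheory.RegularLocalRing.Defs
import Mathlib.RingTheory.Ideal.KrullsHeightTheorem
import Mathlib.RingTheory.Nakayama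

set_option autoImplicit false
universe u v
open WildQuot

namespace Groth.Agent.S15796

/-- Let `A` be a Noetherian local ring of Krull dimension `n` whose maximal ideal `m` is generated by
`u_1, …, u_n`, and let a finite group `G` act on `A` by ring automorphisms. If some `σ ∈ G` maps
some `u_i` into the ideal generated by the `u_j` with `j ≠ i`, then the system `u` is not weakly
admissible: for some choice `σ_1, …, σ_n ∈ G` the radical of `(σ_1 u_1, …, σ_n u_n)` does not
contain `m`. (The published statement is for a linear action on `k[[u_1, …, u_n]]` whose matrix has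
a zero diagonal entry; this row assumes instead that some `σ u_i` lies in the ideal generated by the
other `u_j`.) -/
theorem result
    (A : Type u) [CommRing A] [IsLocalRing A] [IsNoetherianRing A]
    (G : Type v) [Group G] [Finite G] [MulSemiringAction G A]
    (n : ℕ) (hn : ringKrullDim A = n) (u : Fin n → A)
    (hu : Ideal.span (Set.range u) = IsLocalRing.maximalIdeal A)
    (σ : G) (i : Fin n) (hσ : σ • u i ∈ Ideal.span (u '' {j | j ≠ i})) :
    ∃ τ : Fin n → G,
      ¬ IsLocalRing.maximalIdeal A ≤ (Ideal.span (Set.range fun j => τ j • u j)).radical := by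
  classical
  refine ⟨Function.update (fun _ => 1) i σ, fun h => ?_⟩
  let J := Ideal.span (u '' {j | j ≠ i})
  have hle : Ideal.span (Set.range fun j => Function.update (fun _ => (1 : G)) i σ j • u j) ≤ J := by
    rw [Ideal.span_le]; rintro _ ⟨j, rfl⟩
    rcases eq_or_ne j i with rfl | hj
    · simpa using hσ
    · simp only [Function.update_of_ne hj, one_smul]; exact Ideal.subset_span ⟨j, hj, rfl⟩
  have hJm : J ≤ IsLocalRing.maximalIdeal A := hu ▸ Ideal.span_mono (Set.image_subset_range _ _)
  have hJ : J ≠ ⊤ := ne_top_of_le_ne_top (IsLocalRing.maximalIdeal.isMaximal A).ne_top hJm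
  have hmin : IsLocalRing.maximalIdeal A ∈ J.minimalPrimes := by
    refine ⟨⟨inferInstance, hJm⟩, fun P hP _ => ?_⟩
    exact (h.trans (Ideal.radical_mono hle)).trans (hP.1.radical_le_iff.2 hP.2)
  have h1 : (IsLocalRing.maximalIdeal A).height ≤ J.spanRank.toENat := Ideal.height_le_spanRank_toENat_of_mem_minimal_primes J _ hmin
  have h2 : J.spanRank.toENat ≤ ((n - 1 : ℕ) : ℕ∞) := by
    have hb : J.spanRank ≤ Cardinal.mk (u '' {j | j ≠ i}) := Submodule.spanRank_span_le_card _
    refine (Cardinal.toENat.monotone' hb).trans ?_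
    have hc : (u '' {j | j ≠ i}).ncard ≤ n - 1 := by
      refine (Set.ncard_image_le (Set.toFinite _)).trans ?_
      rw [show {j : Fin n | j ≠ i} = ({i} : Set (Fin n))ᶜ from rfl, Set.ncard_compl, Set.ncard_singleton, Nat.card_eq_fintype_card, Fintype.card_fin]
    have hfin : (u '' {j | j ≠ i}).Finite := Set.toFinite _
    exact le_of_eq_of_le (show Cardinal.toENat (Cardinal.mk ↑(u '' {j | j ≠ i})) = ((u '' {j | j ≠ i}).ncard : ℕ∞) from hfin.cast_ncard_eq.symm) (by exact_mod_cast hc)
  have h3 := h1.trans h2
  rw [← IsLocalRing.maximalIdeal_height_eq_ringKrullDim] at hn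
  rw [show (IsLocalRing.maximalIdeal A).height = (n : ℕ∞) by exact_mod_cast hn, ENat.coe_le_coe] at h3
  have := i.2
  omega

end Groth.Agent.S15796
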