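import Groth.Statements.S15799
import Groth.Agent.Lib.WildQuotH28.PurelyInsep
import Groth.Agent.Lib.RegLoc.Basic
open IsLocalRing

set_option autoImplicit false
universe u v w
open WildQuot

namespace Groth.Agent.S15799

/-- Let `A` be a complete regular local ring of Krull dimension `n ≥ 2` and prime characteristic `p`,
`k` a field with `k → A` mapping onto the residue field, and `G` a group of order `p` acting on `A`
by `k`-algebra automorphisms, ramified precisely at the origin (for every non-maximal prime `P`, the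
inertia subgroup of `P` (the elements of `G` fixing every element modulo `P`) is trivial). Let `u_1,
…, u_n` be an admissible regular system of parameters (for every choice `σ_1, …, σ_n ∈ G`, the
elements `σ_i u_i` generate the maximal ideal) and let `φ : k[[X_1, …, X_n]] → A` be the `k`-algebra
map with `φ X_i = x_i = ∏_{σ} σ u_i`, whose image is the norm subring `R`. Then `Frac(A^G)` is not
purely inseparable over `Frac(R)`; equivalently (as `A` is integral over the integrally closed `R`),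
some `G`-invariant `y ∈ A` has no iterated `p`-th power `y ^ (p ^ e)` in `R`. -/
theorem result
    (p : ℕ) [Fact p.Prime] (A : Type u) [CommRing A] [IsRegularLocalRing A] [CharP A p]
    [IsAdicComplete (IsLocalRing.maximalIdeal A) A] (n : ℕ) (hn : ringKrullDim A = n) (h2 : 2 ≤ n)
    (k : Type v) [Field k] [Algebra k A]
    (hk : Function.Surjective (IsLocalRing.residue A ∘ algebraMap k A))
    (G : Type w) [Group G] [Fintype G] [MulSemiringAction G A] (hcard : Fintype.card G = p)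
    [SMulCommClass G k A]
    (hram : ∀ P : Ideal A, P.IsPrime → P ≠ IsLocalRing.maximalIdeal A → P.inertia G = ⊥)
    (u : Fin n → A)
    (hu : ∀ τ : Fin n → G,
      Ideal.span (Set.range fun i => τ i • u i) = IsLocalRing.maximalIdeal A)
    (φ : MvPowerSeries (Fin n) k →ₐ[k] A) (hφ : ∀ i, φ (MvPowerSeries.X i) = ∏ σ : G, σ • u i) :
    ∃ y : A, (∀ σ : G, σ • y = y) ∧ ∀ e : ℕ, y ^ p ^ e ∉ Set.range φ := by
  classical
  by_contra hall
  push Not at hall
  haveI := RegLoc.isDomain A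
  have hGk : ∀ (σ : G) (c : k), σ • algebraMap k A c = algebraMap k A c := fun σ c => by
    rw [Algebra.algebraMap_eq_smul_one, smul_comm, smul_one]
  have hres := WildQuotH28.smul_sub_mem hk hGk
  have hcard' : Nat.card G = p := by rw [Nat.card_eq_fintype_card, hcard]
  haveI : Nontrivial G := (Finite.one_lt_card_iff_nontrivial).1 (by rw [hcard']; exact (Fact.out : p.Prime).one_lt)
  obtain ⟨σ, hσ⟩ := exists_ne (1 : G)
  haveI : CharP k p := RingHom.charP (algebraMap k A) (algebraMap k A).injective p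
  have hu1 : Ideal.span (Set.range u) = maximalIdeal A := by simpa using hu fun _ => 1
  have hrad := (S15790.result A G n u hu1).2 fun τ => by rw [hu τ]; exact Ideal.le_radical
  have hxm : ∀ i, φ (MvPowerSeries.X i) ∈ maximalIdeal A := fun i => by
    rw [hφ]
    exact (maximalIdeal A).prod_mem (Finset.mem_univ (1 : G))
      (by rw [one_smul, ← hu1]; exact Ideal.subset_span ⟨i, rfl⟩)
  have hxfix : ∀ (τ : G) (i : Fin n), τ • φ (MvPowerSeries.X i) = φ (MvPowerSeries.X i) := fun τ i => by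
    rw [hφ, Finset.smul_prod']
    exact Fintype.prod_equiv (Equiv.mulLeft τ) _ _ fun ρ => (mul_smul τ ρ (u i)).symm
  have hfix : ∀ (τ : G) (r : MvPowerSeries (Fin n) k), τ • φ r = φ r :=
    WildQuotH28.smul_apply_eq hGk φ hxm hxfix
  have hle : Ideal.span (Set.range fun i => φ (MvPowerSeries.X i)) ≤ maximalIdeal A :=
    Ideal.span_le.2 (by rintro _ ⟨i, rfl⟩; exact hxm i)
  obtain ⟨d, b, -, hb⟩ := WildQuotH28.exists_basis_ps' hn hk φ
    (le_antisymm ((Ideal.radical_mono hle).trans (maximalIdeal.isMaximal A).isPrime.radical.le)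
      (by rw [funext hφ]; exact hrad))
  have hd0 : 0 < d := by
    rcases Nat.eq_zero_or_pos d with hd | hd
    · subst hd
      obtain ⟨r, hr⟩ := hb.2 1
      simp at hr
    · exact hd
  have hinj : Function.Injective φ := fun r r' h => by
    have := congrFun (hb.1 (a₁ := fun _ => r) (a₂ := fun _ => r')
      (Finset.sum_congr rfl fun i _ => by rw [h])) ⟨0, hd0⟩
    exact this
  -- traces
  let T : Ideal (FixedPoints.subring A G) :=
    { carrier := {b | ∃ a : A, ∑ g : G, g • a = (b : A)}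
      zero_mem' := ⟨0, by simp⟩
      add_mem' := by
        rintro x y ⟨a, ha⟩ ⟨c, hc⟩
        exact ⟨a + c, by simp [smul_add, Finset.sum_add_distrib, ha, hc]⟩
      smul_mem' := by
        rintro c x ⟨a, ha⟩
        refine ⟨(c : A) * a, ?_⟩
        rw [show ((c • x : FixedPoints.subring A G) : A) = (c : A) * (x : A) from rfl, ← ha, Finset.mul_sum]
        exact Finset.sum_congr rfl fun g _ => by rw [smul_mul', c.2 g] }
  haveI hinv : Algebra.IsInvariant (FixedPoints.subring A G) A G := ⟨fun x h => ⟨⟨x, h⟩, rfl⟩⟩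
  haveI := Algebra.IsInvariant.isIntegral (FixedPoints.subring A G) A G
  have hTpow : ∀ i, ∃ N : ℕ, 0 < N ∧ ∃ a : A, ∑ g : G, g • a = φ (MvPowerSeries.X i) ^ N := by
    intro i
    have hmem : (⟨φ (MvPowerSeries.X i), fun τ => hxfix τ i⟩ : FixedPoints.subring A G) ∈ T.radical := by
      rw [Ideal.radical_eq_sInf, Ideal.mem_sInf]
      rintro P ⟨hTP, hP⟩
      haveI := hP
      obtain ⟨Q, -, hQ, hQP⟩ := Ideal.exists_ideal_over_prime_of_isIntegral P (⊥ : Ideal A)
        (fun x hx => by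
          rw [Ideal.mem_comap, Ideal.mem_bot] at hx
          rw [Subtype.coe_injective (hx.trans (ZeroMemClass.coe_zero _).symm)]
          exact P.zero_mem)
      haveI := hQ
      by_cases hQm : Q = maximalIdeal A
      · rw [← hQP, hQm]; exact hxm i
      obtain ⟨f, hf, hf1, hf0⟩ := WildQuotH28.exists_orbit_separate Q (hram Q hQ hQm) (1 : G)
        (Finset.univ.erase 1) (Finset.notMem_erase _ _)
      refine absurd ?_ hf1
      have key : ∀ f ∈ WildQuotH28.orbitSpan A G, ∑ g : G, f g ∈ Q := fun f hf => by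
        induction hf using Submodule.span_induction with
        | mem f hf =>
          obtain ⟨x, rfl⟩ := hf
          have hx : (⟨∑ g : G, g • x, fun τ => by
              rw [Finset.smul_sum]
              exact Fintype.sum_equiv (Equiv.mulLeft τ) _ _ fun g => (mul_smul τ g x).symm⟩ :
              FixedPoints.subring A G) ∈ P := hTP ⟨x, rfl⟩
          rw [← hQP] at hx
          exact hx
        | zero => simp
        | add f g _ _ hf hg => simpa [Finset.sum_add_distrib] using add_mem hf hg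
        | smul c f _ hf => simpa [← Finset.mul_sum] using Q.mul_mem_left c hf
      have h1 := key f hf
      rwa [Finset.sum_eq_single 1 (fun g _ hg => hf0 g (Finset.mem_erase.2 ⟨hg, Finset.mem_univ _⟩))
        (fun h => absurd (Finset.mem_univ _) h)] at h1
    obtain ⟨N, hN⟩ := hmem
    obtain ⟨a, ha⟩ := T.mul_mem_left (⟨φ (MvPowerSeries.X i), fun τ => hxfix τ i⟩) hN
    exact ⟨N + 1, N.succ_pos, a, by rw [ha, pow_succ']; rfl⟩
  let i0 : Fin n := ⟨0, by omega⟩
  let i1 : Fin n := ⟨1, by omega⟩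
  have h01 : i0 ≠ i1 := fun h => by simp [i0, i1] at h
  obtain ⟨N0, hN0, d0, hd0'⟩ := hTpow i0
  obtain ⟨N1, hN1, d1, hd1'⟩ := hTpow i1
  obtain ⟨α0, hα0⟩ := WildQuotH28.exists_smul_sub_eq_trace p hcard σ hσ d0
  obtain ⟨β0, hβ0⟩ := WildQuotH28.exists_smul_sub_eq_trace p hcard σ hσ d1
  -- a common exponent
  let M0 := N0 * N1
  obtain ⟨α1, hα1⟩ : ∃ α1, σ • α1 = α1 + φ (MvPowerSeries.X i0) ^ M0 := by
    refine ⟨φ (MvPowerSeries.X i0) ^ (N0 * (N1 - 1)) * α0, ?_⟩
    show σ • (_ * α0) = _ * α0 + _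
    rw [smul_mul', smul_pow', hxfix, eq_add_of_sub_eq hα0, hd0', mul_add, ← pow_add, add_comm,
      show N0 * (N1 - 1) + N0 = M0 by rw [Nat.mul_sub, mul_one]; exact Nat.sub_add_cancel (Nat.le_mul_of_pos_right _ hN1)]
  obtain ⟨β1, hβ1⟩ : ∃ β1, σ • β1 = β1 + φ (MvPowerSeries.X i1) ^ M0 := by
    refine ⟨φ (MvPowerSeries.X i1) ^ (N1 * (N0 - 1)) * β0, ?_⟩
    show σ • (_ * β0) = _ * β0 + _
    rw [smul_mul', smul_pow', hxfix, eq_add_of_sub_eq hβ0, hd1', mul_add, ← pow_add, add_comm,
      show N1 * (N0 - 1) + N1 = M0 by rw [Nat.mul_sub, mul_one, mul_comm]; exact Nat.sub_add_cancel (Nat.le_mul_of_pos_left _ hN0)]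
  set a0 := φ (MvPowerSeries.X i0) ^ M0 with ha0
  set b0 := φ (MvPowerSeries.X i1) ^ M0 with hb0
  have haf : ∀ τ : G, τ • a0 = a0 := fun τ => by rw [ha0, smul_pow', hxfix]
  have hbf : ∀ τ : G, τ • b0 = b0 := fun τ => by rw [hb0, smul_pow', hxfix]
  have hext : ∀ y : A, σ • y = y → ∀ τ : G, τ • y = y := fun y hy τ => by
    have hs : σ ∈ MulAction.stabilizer G y := hy
    exact (Subgroup.zpowers_le.2 hs) (mem_zpowers_of_prime_card hcard' hσ)
  have hp1 : p - 1 + 1 = p := Nat.sub_add_cancel (Fact.out : p.Prime).one_le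
  have hgfix : ∀ (γ c : A), σ • γ = γ + c → σ • c = c →
      σ • (γ ^ p - c ^ (p - 1) * γ) = γ ^ p - c ^ (p - 1) * γ := fun γ c hγ hc => by
    rw [smul_sub, smul_pow', smul_mul', smul_pow', hγ, hc, add_pow_char, mul_add, ← pow_succ, hp1]
    ring
  obtain ⟨e1, he1⟩ := hall (α1 ^ p - a0 ^ (p - 1) * α1) (hext _ (hgfix _ _ hα1 (haf σ)))
  obtain ⟨e2, he2⟩ := hall (β1 ^ p - b0 ^ (p - 1) * β1) (hext _ (hgfix _ _ hβ1 (hbf σ)))
  obtain ⟨e3, he3⟩ := hall (b0 * α1 - a0 * β1) (hext _ (by
    rw [smul_sub, smul_mul', smul_mul', hbf, haf, hα1, hβ1]; ring))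
  let e := e1 + e2 + e3
  have hup : ∀ (y : A) (e' : ℕ), y ^ p ^ e' ∈ Set.range φ → e' ≤ e → y ^ p ^ e ∈ Set.range φ := by
    rintro y e' ⟨r, hr⟩ he'
    refine ⟨r ^ p ^ (e - e'), ?_⟩
    rw [map_pow, hr, ← pow_mul, ← pow_add, Nat.add_sub_cancel' he']
  obtain ⟨g, hg⟩ := hup _ e1 he1 (by omega)
  obtain ⟨h, hh⟩ := hup _ e2 he2 (by omega)
  obtain ⟨r, hr⟩ := hup _ e3 he3 (by omega)
  let M := M0 * p ^ e
  let α := α1 ^ p ^ e
  let β := β1 ^ p ^ e
  have hM : 0 < M := Nat.mul_pos (Nat.mul_pos hN0 hN1) (pow_pos (Fact.out : p.Prime).pos _)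
  have hA : φ (MvPowerSeries.X i0 ^ M) = a0 ^ p ^ e := by rw [map_pow, ha0, ← pow_mul]
  have hB : φ (MvPowerSeries.X i1 ^ M) = b0 ^ p ^ e := by rw [map_pow, hb0, ← pow_mul]
  rw [sub_pow_char_pow, mul_pow, mul_pow] at hr
  rw [sub_pow_char_pow, mul_pow, pow_right_comm, pow_right_comm a0] at hg
  rw [sub_pow_char_pow, mul_pow, pow_right_comm, pow_right_comm b0] at hh
  have heq : r ^ p - r * (MvPowerSeries.X i0 ^ M * MvPowerSeries.X i1 ^ M) ^ (p - 1) =
      (MvPowerSeries.X i1 ^ M) ^ p * g - (MvPowerSeries.X i0 ^ M) ^ p * h := by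
    refine hinj ?_
    simp only [map_sub, map_mul, map_pow _ _ (p - 1), map_pow _ _ p, hA, hB, hr, hg, hh]
    rw [sub_pow_char, mul_pow, mul_pow, mul_pow]
    set A' := a0 ^ p ^ e
    set B' := b0 ^ p ^ e
    rw [show A' ^ p = A' ^ (p - 1) * A' by rw [← pow_succ, hp1],
      show B' ^ p = B' ^ (p - 1) * B' by rw [← pow_succ, hp1]]
    ring
  obtain ⟨s, t, hst⟩ := WildQuotH28.exists_eq_add_of_coeff i0 i1 r
    (WildQuotH28.mem_span_of_frobenius p i0 i1 h01 hM r g h heq)
  have hdiv : ∃ θ, α - φ t = φ (MvPowerSeries.X i0 ^ M) * θ := by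
    have h1 : φ (MvPowerSeries.X i1 ^ M) * (α - φ t) = φ (MvPowerSeries.X i0 ^ M) * (β + φ s) := by
      rw [hst, map_add, map_mul, map_mul, hA, hB] at hr
      rw [hA, hB]
      linear_combination -hr
    obtain ⟨c, hc⟩ := hb.2 (α - φ t)
    obtain ⟨c', hc'⟩ := hb.2 (β + φ s)
    have h2 : (fun i => MvPowerSeries.X i1 ^ M * c i) = fun i => MvPowerSeries.X i0 ^ M * c' i := hb.1 (by
      simp only [map_mul, mul_assoc, ← Finset.mul_sum]
      rw [show (∑ i, φ (c i) * b i) = α - φ t from hc, show (∑ i, φ (c' i) * b i) = β + φ s from hc', h1])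
    choose w hw using fun i => WildQuotH28.dvd_of_dvd_pow_mul h01 (M := M) (N := M) (z := c i)
      ⟨c' i, congrFun h2 i⟩
    refine ⟨∑ i, φ (w i) * b i, ?_⟩
    rw [← hc, Finset.mul_sum]
    exact Finset.sum_congr rfl fun i _ => by rw [hw i, map_mul, mul_assoc]
  obtain ⟨θ, hθ⟩ := hdiv
  have hσα : σ • α = α + a0 ^ p ^ e := by
    show σ • (α1 ^ p ^ e) = _
    rw [smul_pow', hα1, add_pow_char_pow]
  have hne : φ (MvPowerSeries.X i0 ^ M) ≠ 0 := fun h => by
    rw [← map_zero φ] at h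
    exact pow_ne_zero M (fun h' => by simpa [MvPowerSeries.coeff_X] using congrArg (MvPowerSeries.coeff (Finsupp.single i0 1)) h') (hinj h)
  have h1 : σ • θ - θ = 1 := by
    refine mul_left_cancel₀ hne ?_
    have h2 := congrArg (σ • ·) hθ
    simp only [smul_sub, smul_mul', hfix, hσα] at h2
    rw [hA] at hθ h2 ⊢
    linear_combination hθ - h2
  exact (maximalIdeal.isMaximal A).ne_top ((Ideal.eq_top_iff_one _).2 (h1 ▸ hres σ θ))

end Groth.Agent.S15799
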