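import Groth.Statements.S15800
import Groth.Agent.Lib.WildQuotH28.Lift
open IsLocalRing

set_option autoImplicit false
universe u v w
open WildQuot

namespace Groth.Agent.S15800

/-- Let `A` be a complete regular local ring of Krull dimension at least `2` and prime characteristic
`p`; let `k` be a field with `k → A` mapping onto the residue field, such that `k` has no Galois
extension of degree `p`; let `G` be a group of order `p` acting on `A` by `k`-algebra automorphisms,
ramified precisely at the origin (for every non-maximal prime `P`, the inertia subgroup of `P` (the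
elements of `G` fixing every element modulo `P`) is trivial). Then every `k`-algebra automorphism of
the ring of invariants `A^G` is the restriction of a `k`-algebra automorphism of `A`. (The published
statement also asserts that when `A^G` contains a subring `R` with `A^G` finite over `R` and
`Frac(A^G)/Frac(R)` Galois, then `Frac(A)/Frac(R)` is Galois; this row omits that clause.) -/
theorem result
    (p : ℕ) [Fact p.Prime] (A : Type u) [CommRing A] [IsRegularLocalRing A] [CharP A p]
    [IsAdicComplete (IsLocalRing.maximalIdeal A) A] (hdim : 2 ≤ ringKrullDim A)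
    (k : Type v) [Field k] [Algebra k A]
    (hk : Function.Surjective (IsLocalRing.residue A ∘ algebraMap k A))
    (hkp : ∀ (L : Type v) [Field L] [Algebra k L], IsGalois k L → Module.finrank k L ≠ p)
    (G : Type w) [Group G] [Finite G] [MulSemiringAction G A] (hcard : Nat.card G = p)
    [SMulCommClass G k A]
    (hram : ∀ P : Ideal A, P.IsPrime → P ≠ IsLocalRing.maximalIdeal A → P.inertia G = ⊥)
    (φ : FixedPoints.subalgebra k A G ≃ₐ[k] FixedPoints.subalgebra k A G) :
    ∃ ψ : A ≃ₐ[k] A, ∀ x : FixedPoints.subalgebra k A G, ψ x = φ x := by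
  haveI := RegLoc.isDomain A
  haveI := RegLoc.ufd_of_isRegularLocalRing A
  have hGk : ∀ (σ : G) (c : k), σ • algebraMap k A c = algebraMap k A c := fun σ c => by
    rw [Algebra.algebraMap_eq_smul_one, smul_comm, smul_one]
  let φ' : FixedPoints.subring A G ≃+* FixedPoints.subring A G :=
    { toFun := fun b => ⟨(φ ⟨b.1, b.2⟩ : A), (φ ⟨b.1, b.2⟩).2⟩
      invFun := fun b => ⟨(φ.symm ⟨b.1, b.2⟩ : A), (φ.symm ⟨b.1, b.2⟩).2⟩
      left_inv := fun b => Subtype.ext (congrArg Subtype.val (φ.symm_apply_apply ⟨b.1, b.2⟩))
      right_inv := fun b => Subtype.ext (congrArg Subtype.val (φ.apply_symm_apply ⟨b.1, b.2⟩))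
      map_mul' := fun a b => Subtype.ext (congrArg Subtype.val (map_mul φ ⟨a.1, a.2⟩ ⟨b.1, b.2⟩))
      map_add' := fun a b => Subtype.ext (congrArg Subtype.val (map_add φ ⟨a.1, a.2⟩ ⟨b.1, b.2⟩)) }
  obtain ⟨ψ, hψi, hψ⟩ := WildQuotH28.exists_lift p hk hkp hGk hcard hdim hram φ'
  obtain ⟨χ, hχi, hχ⟩ := WildQuotH28.exists_lift p hk hkp hGk hcard hdim hram φ'.symm
  have hψb : Function.Bijective ψ := by
    refine ⟨hψi, Function.Surjective.of_comp (g := χ) ?_⟩
    refine (WildQuotH28.bijective_of_fix (G := G) (ψ.comp χ) (hψi.comp hχi) fun b => ?_).2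
    rw [RingHom.comp_apply, hχ, hψ, φ'.apply_symm_apply]
  refine ⟨AlgEquiv.ofBijective ({ ψ with commutes' := fun c => ?_ } : A →ₐ[k] A) hψb, fun x => ?_⟩
  · show ψ (algebraMap k A c) = algebraMap k A c
    rw [show algebraMap k A c = ((⟨_, fun σ => hGk σ c⟩ : FixedPoints.subring A G) : A) from rfl, hψ]
    show (φ (algebraMap k (FixedPoints.subalgebra k A G) c) : A) = algebraMap k A c
    rw [AlgEquiv.commutes]
    rfl
  · exact hψ ⟨x.1, x.2⟩

end Groth.Agent.S15800
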