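import Groth.Statements.S15803
import Groth.Agent.S15802
import Mathlib.GroupTheory.PGroup
import Mathlib.GroupTheory.SpecificGroups.Cyclic

set_option autoImplicit false
universe u v w
open WildQuot

namespace Groth.Agent.S15803

/-- Let `R` be a regular local ring and `A` a normal local domain, finite over `R` (with `R → A`
injective) and with the same residue field; let a finite group `H` act faithfully on `A` by
`R`-algebra automorphisms with ring of invariants exactly `R` (so `Frac(A)/Frac(R)` is Galois with
group `H`); let `p` be a prime and suppose that every nontrivial inertia subgroup of a height-one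
prime of `A` has order `p` and is normal in `H`. Then `H` is commutative and every element satisfies
`h ^ p = 1`: `H` is an elementary abelian `p`-group (of order the degree of `Frac(A)` over
`Frac(R)`). (The published statement is for `A` a complete regular local ring with an action
ramified precisely at the origin, `R = k[[x_1, …, x_n]]` a norm subring and `H` the Galois group of
`Frac(A)/Frac(R)`, when that extension is Galois; this row assumes only the hypotheses listed
above.) -/
theorem result
    (p : ℕ) [Fact p.Prime] (R : Type u) [CommRing R] [IsRegularLocalRing R]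
    (A : Type v) [CommRing A] [IsDomain A] [IsIntegrallyClosed A] [IsLocalRing A]
    [Algebra R A] [Module.Finite R A] (hinj : Function.Injective (algebraMap R A))
    (hres : Function.Surjective (IsLocalRing.residue A ∘ algebraMap R A))
    (H : Type w) [Group H] [Finite H] [MulSemiringAction H A] [SMulCommClass H R A] [FaithfulSMul H A]
    (hfix : ∀ a : A, (∀ h : H, h • a = a) → a ∈ Set.range (algebraMap R A))
    (hMR2 : ∀ P : Ideal A, P.IsPrime → P.height = 1 → P.inertia H ≠ ⊥ →
      Nat.card (P.inertia H) = p ∧ (P.inertia H).Normal) :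
    (∀ g h : H, g * h = h * g) ∧ ∀ h : H, h ^ p = 1 := by
  have htop := Groth.Agent.S15802.result R A hinj hres H hfix
  have hmem : ∀ g : H, g ∈ (⨆ P : {P : Ideal A // P.IsPrime ∧ P.height = 1}, P.1.inertia H) := fun g => by
    rw [htop]; trivial
  have hgen : ∀ (P Q : {P : Ideal A // P.IsPrime ∧ P.height = 1}), ∀ x ∈ P.1.inertia H, ∀ y ∈ Q.1.inertia H,
      x * y = y * x := by
    intro P Q x hx y hy
    by_cases hP : P.1.inertia H = ⊥
    · rw [hP, Subgroup.mem_bot] at hx; simp [hx]
    by_cases hQ : Q.1.inertia H = ⊥
    · rw [hQ, Subgroup.mem_bot] at hy; simp [hy]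
    obtain ⟨hPc, hPn⟩ := hMR2 P.1 P.2.1 P.2.2 hP
    obtain ⟨hQc, hQn⟩ := hMR2 Q.1 Q.2.1 Q.2.2 hQ
    have hdvd := Subgroup.card_dvd_of_le (inf_le_left : P.1.inertia H ⊓ Q.1.inertia H ≤ P.1.inertia H)
    rw [hPc] at hdvd
    rcases (Nat.dvd_prime (Fact.out : p.Prime)).mp hdvd with h1 | h1
    · exact Subgroup.commute_of_normal_of_disjoint _ _ hPn hQn
        (disjoint_iff.mpr (Subgroup.eq_bot_of_card_eq _ h1)) x y hx hy
    · have hPQ : x ∈ Q.1.inertia H := by
        haveI : Finite (P.1.inertia H) := inferInstance
        have := Subgroup.eq_of_le_of_card_ge (inf_le_left : P.1.inertia H ⊓ Q.1.inertia H ≤ P.1.inertia H)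
          (by rw [hPc, h1])
        exact (inf_eq_left.mp this) hx
      haveI := isCyclic_of_prime_card hQc
      letI := IsCyclic.commGroup (α := Q.1.inertia H)
      exact congrArg Subtype.val (mul_comm (⟨x, hPQ⟩ : Q.1.inertia H) ⟨y, hy⟩)
  have hcen : ∀ (P : {P : Ideal A // P.IsPrime ∧ P.height = 1}), ∀ x ∈ P.1.inertia H, ∀ g : H, x * g = g * x := by
    intro P x hx g
    refine Subgroup.iSup_induction _ (C := fun g => x * g = g * x) (hmem g) (fun Q y hy => hgen P Q x hx y hy)
      (by simp) fun a b ha hb => ?_
    rw [← mul_assoc, ha, mul_assoc, hb, mul_assoc]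
  have hcomm : ∀ g h : H, g * h = h * g := fun g h => by
    refine Subgroup.iSup_induction _ (C := fun g => g * h = h * g) (hmem g) (fun P x hx => hcen P x hx h)
      (by simp) fun a b ha hb => ?_
    rw [mul_assoc, hb, ← mul_assoc, ha, mul_assoc]
  refine ⟨hcomm, fun h => ?_⟩
  refine Subgroup.iSup_induction _ (C := fun h => h ^ p = 1) (hmem h) (fun P x hx => ?_) (one_pow p)
    fun a b ha hb => by rw [Commute.mul_pow (hcomm a b), ha, hb, one_mul]
  by_cases hP : P.1.inertia H = ⊥
  · rw [hP, Subgroup.mem_bot] at hx; simp [hx]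
  have := pow_card_eq_one' (x := (⟨x, hx⟩ : P.1.inertia H))
  rw [(hMR2 P.1 P.2.1 P.2.2 hP).1] at this
  exact congrArg Subtype.val this

end Groth.Agent.S15803
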