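import Groth.Statements.S15805
import Groth.Agent.Lib.WildQuotH28.Sym

set_option autoImplicit false
universe u v
open WildQuot

namespace Groth.Agent.S15805

open MvPolynomial in
/-- Let `k` be a field of characteristic `p > 0`, `R = k[[x_1, …, x_n]]`, `a_1, …, a_n ∈ R` with zero
constant term and not all zero, and `A = R[u_1, …, u_n] / (u_i ^ p - a_i ^ (p-1) u_i - x_i : i =
1..n)`. Let `G` be a group of order `p` acting on `A` by `R`-algebra automorphisms, generated by an
element `g` acting by `u_i ↦ u_i + a_i`. Then the skew group ring `A∗G` (free `A`-module on `G` with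
`(a g)(b h) = a g(b) gh`) is a symmetric `R`-algebra: there is an `R`-linear form `φ : A∗G → R` with
`φ(xy) = φ(yx)` for all `x, y`, such that `y ↦ (x ↦ φ(x y))` is injective and reaches every
`R`-linear form on `A∗G` (so `Hom_R(A∗G, R) ≅ A∗G` as bimodules). -/
theorem result
    (p : ℕ) [Fact p.Prime] (k : Type u) [Field k] [CharP k p] (n : ℕ)
    (a : Fin n → MvPowerSeries (Fin n) k)
    (ham : ∀ i, MvPowerSeries.constantCoeff (a i) = 0) (hne : ∃ i, a i ≠ 0) :
    let R := MvPowerSeries (Fin n) k
    let I : Ideal (MvPolynomial (Fin n) R) :=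
      Ideal.span (Set.range fun i : Fin n =>
        X i ^ p - C (a i ^ (p - 1)) * X i - C (MvPowerSeries.X i))
    let A := MvPolynomial (Fin n) R ⧸ I
    ∀ (G : Type v) [Group G] [Finite G] [MulSemiringAction G A] [SMulCommClass G R A]
      (g : G), Nat.card G = p → (∀ h : G, h ∈ Subgroup.zpowers g) →
      (∀ i, g • (Ideal.Quotient.mk I (X i)) = Ideal.Quotient.mk I (X i) + algebraMap R A (a i)) →
      ∃ φ : SkewMonoidAlgebra A G →ₗ[R] R,
        (∀ x y : SkewMonoidAlgebra A G, φ (x * y) = φ (y * x)) ∧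
        Function.Injective (fun y : SkewMonoidAlgebra A G => fun x : SkewMonoidAlgebra A G => φ (x * y)) ∧
        ∀ ψ : SkewMonoidAlgebra A G →ₗ[R] R, ∃ y : SkewMonoidAlgebra A G, ∀ x, ψ x = φ (x * y) := by
  intro R I A G _ _ _ _ g hcard hg hgX
  let c : Fin n → R := fun i => a i ^ (p - 1)
  let d : Fin n → R := fun i => MvPowerSeries.X i
  let ω : A →ₗ[R] R := WildQuotH28.Sym.ψ (p := p) c d (Fact.out : p.Prime).two_le
  have hgω : ∀ x : A, ω (g • x) = ω x := fun x =>
    WildQuotH28.Sym.ψ_shift (p := p) c d (Fact.out : p.Prime).two_le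
      (MulSemiringAction.toAlgHom R A g) a (fun j => hgX j) x
  have hω : ∀ (h : G) (x : A), ω (h • x) = ω x := by
    intro h
    have hh : h ∈ Subgroup.zpowers g := hg h
    rw [Subgroup.zpowers_eq_closure] at hh
    induction hh using Subgroup.closure_induction with
    | mem y hy => rw [Set.mem_singleton_iff] at hy; subst hy; exact hgω
    | one => intro x; rw [one_smul]
    | mul y z _ _ hy hz => intro x; rw [mul_smul, hy, hz]
    | inv y _ hy => intro x; rw [← hy, smul_inv_smul]
  have hb := WildQuotH28.Sym.pairing_bijective (p := p) c d (Fact.out : p.Prime).two_le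
  refine WildQuotH28.Sym.skew_symmetric (A := A) ω hω (fun y y' h => hb.1 (LinearMap.ext h)) fun θ => ?_
  obtain ⟨y, hy⟩ := hb.2 θ
  exact ⟨y, fun x => (LinearMap.congr_fun hy x).symm⟩

end Groth.Agent.S15805
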