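import Groth.Statements.S15806
import Groth.Agent.Lib.SchExt28.Basic

set_option autoImplicit false
universe u
open CategoryTheory AlgebraicGeometry
open WildQuot

namespace Groth.Agent.S15806

/-- Let `S` be a Noetherian scheme, `G_1 → S` and `G_2 → S` finite flat morphisms, and `U ⊆ S` an open
subset containing every associated point of `S`, i.e. every point whose local ring has the maximal
ideal as an associated prime (for `S` Noetherian this says exactly that `U` is dense and contains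
all points at which `S` does not satisfy Serre's condition `S_1`, which is the printed hypothesis).
If two `S`-morphisms `φ, ψ : G_1 → G_2` agree on the preimage of `U`, then `φ = ψ`. -/
theorem result
    (S G₁ G₂ : Scheme.{u}) [AlgebraicGeometry.IsNoetherian S] (f₁ : G₁ ⟶ S) (f₂ : G₂ ⟶ S)
    [AlgebraicGeometry.IsFinite f₁] [AlgebraicGeometry.Flat f₁]
    [AlgebraicGeometry.IsFinite f₂] [AlgebraicGeometry.Flat f₂]
    (U : S.Opens)
    (hU : ∀ s : S, IsLocalRing.maximalIdeal (S.presheaf.stalk s) ∈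
        associatedPrimes (S.presheaf.stalk s) (S.presheaf.stalk s) → s ∈ U)
    (φ ψ : G₁ ⟶ G₂) (hφ : φ ≫ f₂ = f₁) (hψ : ψ ≫ f₂ = f₁)
    (h : (f₁ ⁻¹ᵁ U).ι ≫ φ = (f₁ ⁻¹ᵁ U).ι ≫ ψ) : φ = ψ := by
  haveI : IsLocallyNoetherian G₁ := LocallyOfFiniteType.isLocallyNoetherian f₁
  refine (Scheme.openCoverOfIsOpenCover G₁ (fun V : S.affineOpens => f₁ ⁻¹ᵁ V.1) ?_).hom_ext _ _ fun V => ?_
  · rw [TopologicalSpace.IsOpenCover, ← Scheme.Hom.preimage_iSup, iSup_affineOpens_eq_top, Scheme.Hom.preimage_top]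
  · show (f₁ ⁻¹ᵁ V.1).ι ≫ φ = (f₁ ⁻¹ᵁ V.1).ι ≫ ψ
    have haff : IsAffineOpen (f₂ ⁻¹ᵁ V.1) := V.2.preimage f₂
    haveI : IsAffine ((f₂ ⁻¹ᵁ V.1 : G₂.Opens) : Scheme.{u}) := haff
    set O := f₁ ⁻¹ᵁ V.1 with hO
    haveI : IsLocallyNoetherian (O : Scheme.{u}) := LocallyOfFiniteType.isLocallyNoetherian O.ι
    have hle : ∀ χ : G₁ ⟶ G₂, χ ≫ f₂ = f₁ → O ≤ χ ⁻¹ᵁ (f₂ ⁻¹ᵁ V.1) := fun χ hχ => by
      rw [← Scheme.Hom.comp_preimage, hχ]
    rw [← Scheme.Hom.resLE_comp_ι φ (hle φ hφ), ← Scheme.Hom.resLE_comp_ι ψ (hle ψ hψ)]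
    congr 1
    set U' : (O : Scheme.{u}).Opens := O.ι ⁻¹ᵁ (f₁ ⁻¹ᵁ U) with hU'
    have hass : ∀ z : (O : Scheme.{u}), IsLocalRing.maximalIdeal ((O : Scheme.{u}).presheaf.stalk z) ∈
        associatedPrimes ((O : Scheme.{u}).presheaf.stalk z) ((O : Scheme.{u}).presheaf.stalk z) → z ∈ U' := by
      intro z hz
      obtain ⟨g, hg⟩ : ∃ g : (O : Scheme.{u}) ⟶ S, g = O.ι ≫ f₁ := ⟨_, rfl⟩
      haveI : Flat g := by rw [hg]; infer_instance
      have := hU _ (SchExt28.maximalIdeal_mem_ass_of_flat (g.stalkMap z).hom (Flat.stalkMap g z) hz)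
      subst hg
      exact this
    refine SchExt28.hom_ext_affine U'.ι ?_ _ _ ?_
    · rw [Scheme.Opens.ι_appTop]
      have hb := SchExt28.injective_restrict U' hass ⊤
      have heq : U'.ι ''ᵁ ⊤ = ⊤ ⊓ U' := by rw [Scheme.Hom.image_top_eq_opensRange, Scheme.Opens.opensRange_ι, top_inf_eq]
      have hfac : (O : Scheme.{u}).presheaf.map (homOfLE (le_top : U'.ι ''ᵁ ⊤ ≤ ⊤)).op =
          (O : Scheme.{u}).presheaf.map (homOfLE (inf_le_left : ⊤ ⊓ U' ≤ ⊤)).op ≫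
            (O : Scheme.{u}).presheaf.map (eqToHom heq).op := by
        rw [← Functor.map_comp]; rfl
      rw [hfac]
      exact ((ConcreteCategory.bijective_of_isIso ((O : Scheme.{u}).presheaf.map (eqToHom heq).op)).1).comp hb
    · rw [← cancel_mono (f₂ ⁻¹ᵁ V.1).ι]
      simp only [Category.assoc, Scheme.Hom.resLE_comp_ι]
      obtain ⟨i, hi⟩ : ∃ i : (U' : Scheme.{u}) ⟶ (f₁ ⁻¹ᵁ U : G₁.Opens), U'.ι ≫ O.ι = i ≫ (f₁ ⁻¹ᵁ U).ι :=
        ⟨IsOpenImmersion.lift (f₁ ⁻¹ᵁ U).ι (U'.ι ≫ O.ι) (by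
          rw [Scheme.Opens.range_ι]
          rintro _ ⟨z, rfl⟩
          exact z.2), (IsOpenImmersion.lift_fac _ _ _).symm⟩
      rw [← Category.assoc, hi, Category.assoc, h, ← Category.assoc, ← hi, Category.assoc]

end Groth.Agent.S15806
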