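import Groth.Statements.S15807
import Groth.Agent.Lib.WildQuotH28.MinorApp
import Mathlib.RingTheory.MvPowerSeries.NoZeroDivisors

set_option autoImplicit false
universe u
open WildQuot

namespace Groth.Agent.S15807

open MvPolynomial in
/-- Let `k` be a field of characteristic `p > 0`, `n ≥ 3`, `R = k[[x_1, …, x_n]]`, `a_1, …, a_n ∈ R`
with zero constant term and pairwise coprime, `μ ∈ R` nonzero and coprime to each `a_i`, and `A =
R[u_1, …, u_n] / (u_i ^ p - (μ a_i) ^ (p-1) u_i - x_i : i = 1..n)`. Fix an index `i₀`. Then the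
`R`-algebra map `R[Z_j : j ≠ i₀] → A` sending `Z_j` to the minor element `z_j = a_{i₀} u_j - a_j
u_{i₀}` has kernel generated by the polynomials `Z_j ^ p - (μ a_{i₀} a_j) ^ (p-1) Z_j - (a_{i₀} ^ p
x_j - a_j ^ p x_{i₀})`; i.e. the complete intersection `R[Z_j] /` (these relations) maps
isomorphically onto the subring of `A` generated over `R` by the minor elements through `u_{i₀}`.
(The published statement uses the first index for `i₀` and allows `n ≥ 2`; this row allows any index
`i₀` and takes `n ≥ 3`.) -/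
theorem result
    (p : ℕ) [Fact p.Prime] (k : Type u) [Field k] [CharP k p] (n : ℕ) (hn : 3 ≤ n)
    (a : Fin n → MvPowerSeries (Fin n) k) (μ : MvPowerSeries (Fin n) k)
    (ham : ∀ i, MvPowerSeries.constantCoeff (a i) = 0) (hcop : ∀ i j, i ≠ j → IsRelPrime (a i) (a j))
    (hμ : μ ≠ 0) (hμa : ∀ i, IsRelPrime μ (a i)) (i₀ : Fin n) :
    let R := MvPowerSeries (Fin n) k
    let I : Ideal (MvPolynomial (Fin n) R) :=
      Ideal.span (Set.range fun i : Fin n =>
        X i ^ p - C ((μ * a i) ^ (p - 1)) * X i - C (MvPowerSeries.X i))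
    let A := MvPolynomial (Fin n) R ⧸ I
    let u : Fin n → A := fun i => Ideal.Quotient.mk I (X i)
    let z : {j : Fin n // j ≠ i₀} → A := fun j =>
      algebraMap R A (a i₀) * u j.1 - algebraMap R A (a j.1) * u i₀
    let r : {j : Fin n // j ≠ i₀} → MvPolynomial {j : Fin n // j ≠ i₀} R := fun j =>
      X j ^ p - C ((μ * a i₀ * a j.1) ^ (p - 1)) * X j
        - C (a i₀ ^ p * MvPowerSeries.X j.1 - a j.1 ^ p * MvPowerSeries.X i₀)
    RingHom.ker (MvPolynomial.aeval z : MvPolynomial {j : Fin n // j ≠ i₀} R →ₐ[R] A) =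
      Ideal.span (Set.range r) := by
  intro R I A u z r
  obtain ⟨m, rfl⟩ : ∃ m, n = m + 1 := ⟨n - 1, by omega⟩
  haveI : Nontrivial (Fin (m + 1)) := Fin.nontrivial_iff_two_le.mpr (by omega)
  haveI : IsDomain (MvPowerSeries (Fin (m + 1)) k) := NoZeroDivisors.to_isDomain _
  haveI hR : CharP (MvPowerSeries (Fin (m + 1)) k) p := WildQuotH28.AS.charP_R
  obtain ⟨j₀, hj₀⟩ := exists_ne i₀
  have ha : a i₀ ≠ 0 := by
    intro h
    have h1 := hcop i₀ j₀ hj₀.symm
    rw [h, isRelPrime_zero_left] at h1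
    have h2 := MvPowerSeries.isUnit_constantCoeff _ h1
    rw [ham j₀] at h2
    exact not_isUnit_zero h2
  let d : Fin (m + 1) → MvPowerSeries (Fin (m + 1)) k := fun i => MvPowerSeries.X i

  let π : MvPolynomial {j : Fin (m + 1) // j ≠ i₀} (MvPowerSeries (Fin (m + 1)) k) →ₐ[MvPowerSeries (Fin (m + 1)) k] _ :=
    (Ideal.Quotient.mkₐ _ (WildQuotH28.AS.rel p (WildQuotH28.Minor.c0 (p := p) a μ i₀) (WildQuotH28.Minor.d0 (p := p) a d i₀))).comp
      (WildQuotH28.Minor.reindex i₀).toAlgHom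
  ext q
  rw [RingHom.mem_ker]
  have he := WildQuotH28.Minor.aeval_zz_eq (p := p) a μ d i₀ z
    (fun j => by rw [finSuccAboveEquiv_apply]; rfl) q
  have hmap := WildQuotH28.Minor.map_span_eq (p := p) a μ d i₀ r (fun j => rfl)
  constructor
  · intro hq
    have h1 : π q = 0 := by
      refine WildQuotH28.Minor.iota_injective (p := p) a μ d i₀ ha ?_
      rw [map_zero]
      exact he.symm.trans hq
    have h2 : WildQuotH28.Minor.reindex i₀ q ∈ WildQuotH28.AS.rel p (WildQuotH28.Minor.c0 (p := p) a μ i₀) (WildQuotH28.Minor.d0 (p := p) a d i₀) :=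
      Ideal.Quotient.eq_zero_iff_mem.mp h1
    rw [← hmap] at h2
    obtain ⟨q', hq', heq⟩ := (Ideal.mem_map_iff_of_surjective _ (WildQuotH28.Minor.reindex (R := MvPowerSeries (Fin (m + 1)) k) i₀).surjective).mp h2
    rwa [(WildQuotH28.Minor.reindex (R := MvPowerSeries (Fin (m + 1)) k) i₀).injective heq] at hq'
  · intro hq
    refine he.trans ?_
    have h2 : WildQuotH28.Minor.reindex i₀ q ∈ WildQuotH28.AS.rel p (WildQuotH28.Minor.c0 (p := p) a μ i₀) (WildQuotH28.Minor.d0 (p := p) a d i₀) := by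
      rw [← hmap]
      exact Ideal.mem_map_of_mem _ hq
    rw [Ideal.Quotient.eq_zero_iff_mem.mpr h2, map_zero]
    all_goals rfl

end Groth.Agent.S15807
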