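import Groth.Statements.S15808
import Groth.Agent.Lib.WildQuotH28.MinorApp
import Mathlib.RingTheory.MvPowerSeries.NoZeroDivisors

set_option autoImplicit false
universe u
open WildQuot

namespace Groth.Agent.S15808

open MvPolynomial in
/-- Let `k` be a field of characteristic `p > 0`, `n ≥ 2`, `R = k[[x_1, …, x_n]]`, `a_1, …, a_n ∈ R`
with zero constant term and pairwise coprime, `μ ∈ R` nonzero and coprime to each `a_i`; fix an
index `i₀` and let `B = R[Z_j : j ≠ i₀] / (Z_j ^ p - (μ a_{i₀} a_j) ^ (p-1) Z_j - (a_{i₀} ^ p x_j -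
a_j ^ p x_{i₀}) : j ≠ i₀)`, the complete-intersection ring of the minor elements through `u_{i₀}`.
Then `B` is a free `R`-module of rank `p ^ (n-1)`, `B` is an integral domain, and the localisation
`B[1/(μ a_{i₀})]` is integrally closed. (The published statement uses the first index for `i₀`; this
row allows any index.) -/
theorem result
    (p : ℕ) [Fact p.Prime] (k : Type u) [Field k] [CharP k p] (n : ℕ) (hn : 2 ≤ n)
    (a : Fin n → MvPowerSeries (Fin n) k) (μ : MvPowerSeries (Fin n) k)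
    (ham : ∀ i, MvPowerSeries.constantCoeff (a i) = 0) (hcop : ∀ i j, i ≠ j → IsRelPrime (a i) (a j))
    (hμ : μ ≠ 0) (hμa : ∀ i, IsRelPrime μ (a i)) (i₀ : Fin n) :
    let R := MvPowerSeries (Fin n) k
    let r : {j : Fin n // j ≠ i₀} → MvPolynomial {j : Fin n // j ≠ i₀} R := fun j =>
      X j ^ p - C ((μ * a i₀ * a j.1) ^ (p - 1)) * X j
        - C (a i₀ ^ p * MvPowerSeries.X j.1 - a j.1 ^ p * MvPowerSeries.X i₀)
    let B := MvPolynomial {j : Fin n // j ≠ i₀} R ⧸ Ideal.span (Set.range r)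
    Module.Free R B ∧ Module.finrank R B = p ^ (n - 1) ∧ IsDomain B ∧
      IsIntegrallyClosed (Localization.Away (algebraMap R B (μ * a i₀))) := by
  intro R r B
  obtain ⟨m, rfl⟩ : ∃ m, n = m + 1 := ⟨n - 1, by omega⟩
  haveI : Nontrivial (Fin (m + 1)) := Fin.nontrivial_iff_two_le.mpr (by omega)
  haveI : IsDomain (MvPowerSeries (Fin (m + 1)) k) := NoZeroDivisors.to_isDomain _
  haveI hR : CharP (MvPowerSeries (Fin (m + 1)) k) p := WildQuotH28.AS.charP_R
  obtain ⟨j₀, hj₀⟩ := exists_ne i₀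
  have ha : a i₀ ≠ 0 := by
    intro h
    have h1 := hcop i₀ j₀ hj₀.symm
    rw [h, isRelPrime_zero_left] at h1
    have h2 := MvPowerSeries.isUnit_constantCoeff _ h1
    rw [ham j₀] at h2
    exact not_isUnit_zero h2
  let d : Fin (m + 1) → MvPowerSeries (Fin (m + 1)) k := fun i => MvPowerSeries.X i

  haveI hdom : IsDomain (WildQuotH28.Minor.AA (p := p) a μ d) :=
    WildQuotH28.AS.isDomain (p := p) (fun i => μ * a i) (fun i => by simp [ham i])
  haveI hreg : IsRegularLocalRing (WildQuotH28.Minor.AA (p := p) a μ d) :=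
    WildQuotH28.AS.isRegularLocalRing (p := p) (fun i => μ * a i) (fun i => by simp [ham i])
  haveI : UniqueFactorizationMonoid (WildQuotH28.Minor.AA (p := p) a μ d) :=
    Groth.Agent.RegLoc.ufd_of_isRegularLocalRing _
  let B0 := WildQuotH28.Minor.BB (p := p) a μ d i₀
  let e : B ≃ₐ[MvPowerSeries (Fin (m + 1)) k] B0 := Ideal.quotientEquivAlg _ _ (WildQuotH28.Minor.reindex i₀)
    (WildQuotH28.Minor.map_span_eq (p := p) a μ d i₀ r (fun j => rfl)).symm
  let f : B →+* WildQuotH28.Minor.AA (p := p) a μ d := (WildQuotH28.Minor.iota a μ d i₀).toRingHom.comp e.toRingHom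
  have hf : Function.Injective f := (WildQuotH28.Minor.iota_injective (p := p) a μ d i₀ ha).comp e.injective
  haveI hB : IsDomain B := Function.Injective.isDomain f hf
  refine ⟨?_, ?_, hB, ?_⟩
  · haveI := WildQuotH28.AS.free (p := p) (WildQuotH28.Minor.c0 (p := p) a μ i₀) (WildQuotH28.Minor.d0 (p := p) a d i₀) (Fact.out : p.Prime).two_le
    exact Module.Free.of_equiv e.symm.toLinearEquiv
  · exact e.toLinearEquiv.finrank_eq.trans (WildQuotH28.AS.finrank_eq _ _ (Fact.out : p.Prime).two_le)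
  letI : Algebra B (WildQuotH28.Minor.AA (p := p) a μ d) := f.toAlgebra
  let σ0 : WildQuotH28.Minor.AA (p := p) a μ d ≃ₐ[MvPowerSeries (Fin (m + 1)) k] WildQuotH28.Minor.AA (p := p) a μ d :=
    WildQuotH28.AS.shiftEquiv (p := p) (fun i => μ * a i) (fun _ => 1)
  have hσ0 : ∀ i, σ0 (WildQuotH28.Minor.w a μ d i) = WildQuotH28.Minor.w a μ d i + algebraMap _ _ (μ * a i) := fun i => by
    have := WildQuotH28.AS.shiftEquiv_v (p := p) (fun i => μ * a i) (fun _ => 1) i
    simp only [Nat.cast_one, one_mul] at this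
    exact this
  have hfixB : ∀ b : B, σ0 (f b) = f b := by
    intro b
    have h : σ0.toAlgHom.comp (WildQuotH28.Minor.iota a μ d i₀) = WildQuotH28.Minor.iota a μ d i₀ := by
      refine Ideal.Quotient.algHom_ext _ (MvPolynomial.algHom_ext fun j => ?_)
      change σ0 (WildQuotH28.Minor.iota a μ d i₀ (WildQuotH28.AS.u _ _ j)) = WildQuotH28.Minor.iota a μ d i₀ (WildQuotH28.AS.u _ _ j)
      rw [WildQuotH28.Minor.iota_u, WildQuotH28.Minor.zz, map_sub, map_mul, map_mul, AlgEquiv.commutes,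
        AlgEquiv.commutes, hσ0, hσ0]
      simp only [map_mul]
      ring
    exact DFunLike.congr_fun h (e b)
  let σ : WildQuotH28.Minor.AA (p := p) a μ d ≃ₐ[B] WildQuotH28.Minor.AA (p := p) a μ d :=
    AlgEquiv.ofRingEquiv (f := σ0.toRingEquiv) hfixB
  have hs : algebraMap (MvPowerSeries (Fin (m + 1)) k) B (μ * a i₀) ≠ 0 := by
    intro h
    have h2 := congrArg e h
    rw [AlgEquiv.commutes, map_zero] at h2
    exact mul_ne_zero hμ ha (WildQuotH28.Minor.algebraMap_injective (p := p) _ _ (h2.trans (map_zero _).symm))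
  refine WildQuotH28.Minor.isIntegrallyClosed_away (B := B) (A := WildQuotH28.Minor.AA (p := p) a μ d) hf σ _ hs fun t ht => ⟨(m + 1) * p, ?_⟩
  have h := WildQuotH28.Minor.exists_pow_mul_mem (p := p) a μ d i₀ ha hμ σ0 hσ0 t ht
  rw [← WildQuotH28.Minor.range_iota] at h
  obtain ⟨b, hb⟩ := h
  refine ⟨e.symm b, ?_⟩
  rw [map_pow]
  change f (e.symm b) = f (algebraMap (MvPowerSeries (Fin (m + 1)) k) B (μ * a i₀)) ^ ((m + 1) * p) * t
  have h3 : ∀ x, f x = WildQuotH28.Minor.iota a μ d i₀ (e x) := fun _ => rfl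
  rw [h3, h3, e.apply_symm_apply, AlgEquiv.commutes, AlgHom.commutes, ← map_pow]
  exact hb

end Groth.Agent.S15808
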