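import Groth.Statements.S15810
import Groth.Agent.Lib.WildQuotH28.OrthApp

set_option autoImplicit false
universe u
open WildQuot

namespace Groth.Agent.S15810

open MvPolynomial in
/-- Let `k` be a field of characteristic `p > 0`, `n ≥ 2`, `R = k[[x_1, …, x_n]]`, `a_1, …, a_n ∈ R`
with zero constant term and pairwise coprime, `μ ∈ R` nonzero and coprime to each `a_i`, `A = R[u_1,
…, u_n] / (u_i ^ p - (μ a_i) ^ (p-1) u_i - x_i : i = 1..n)`, and `σ_1, …, σ_n` the `R`-algebra
automorphisms of `A` with `σ_i u_j = u_j + δ_{ij} μ a_i` (they generate an elementary abelian group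
`H` of order `p ^ n`). For a nonzero vector `s ∈ (ℤ/p)^n` let `H_s = {ν : Σ ν_i s_i = 0}`, `α =
∏_{s_i ≠ 0} a_i`, `α_i = ∏_{j ≠ i, s_j ≠ 0} a_j`, `z_s = Σ_{s_i ≠ 0} s_i α_i u_i` and `f_s(T) = T ^
p - (μ α) ^ (p-1) T - Σ_{s_i ≠ 0} s_i α_i ^ p x_i`. Then an element of `A` is fixed by `∏_i σ_i ^
{ν_i}` for every `ν ∈ H_s` if and only if it is a polynomial over `R` in `z_s`, and the kernel of
`R[T] → A`, `T ↦ z_s`, is generated by `f_s`: the ring of invariants of `H_s` is `R[T]/(f_s)`, in
particular free of rank `p` over `R`. -/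
theorem result
    (p : ℕ) [Fact p.Prime] (k : Type u) [Field k] [CharP k p] (n : ℕ) (hn : 2 ≤ n)
    (a : Fin n → MvPowerSeries (Fin n) k) (μ : MvPowerSeries (Fin n) k)
    (ham : ∀ i, MvPowerSeries.constantCoeff (a i) = 0) (hcop : ∀ i j, i ≠ j → IsRelPrime (a i) (a j))
    (hμ : μ ≠ 0) (hμa : ∀ i, IsRelPrime μ (a i))
    (s : Fin n → ZMod p) (hs : s ≠ 0) :
    let R := MvPowerSeries (Fin n) k
    let I : Ideal (MvPolynomial (Fin n) R) :=
      Ideal.span (Set.range fun i : Fin n =>
        X i ^ p - C ((μ * a i) ^ (p - 1)) * X i - C (MvPowerSeries.X i))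
    let A := MvPolynomial (Fin n) R ⧸ I
    let u : Fin n → A := fun i => Ideal.Quotient.mk I (X i)
    let c : Fin n → R := fun i => algebraMap k R (ZMod.castHom (dvd_refl p) k (s i))
    let α : R := ∏ i ∈ Finset.univ.filter (fun i => s i ≠ 0), a i
    let αi : Fin n → R := fun i => ∏ j ∈ (Finset.univ.filter (fun j => s j ≠ 0)).erase i, a j
    let z : A := ∑ i ∈ Finset.univ.filter (fun i => s i ≠ 0), algebraMap R A (c i * αi i) * u i
    let f : Polynomial R := Polynomial.X ^ p - Polynomial.C ((μ * α) ^ (p - 1)) * Polynomial.X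
      - Polynomial.C (∑ i ∈ Finset.univ.filter (fun i => s i ≠ 0), c i * αi i ^ p * MvPowerSeries.X i)
    ∀ σ : Fin n → (A ≃ₐ[R] A),
      (∀ i j, σ i (u j) = u j + (if i = j then algebraMap R A (μ * a i) else 0)) →
      (∀ t : A, (∀ ν : Fin n → ZMod p, ∑ i, ν i * s i = 0 →
          (List.ofFn (fun i : Fin n => σ i ^ (ν i).val)).prod t = t) ↔
        t ∈ (Polynomial.aeval z : Polynomial R →ₐ[R] A).range) ∧
      RingHom.ker (Polynomial.aeval z : Polynomial R →ₐ[R] A) = Ideal.span {f} := by
  intro R I A u c α αi z f σ hσ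
  classical
  haveI : IsDomain R := NoZeroDivisors.to_isDomain _
  haveI hR : CharP R p := WildQuotH28.AS.charP_R
  haveI : Nontrivial (Fin n) := Fin.nontrivial_iff_two_le.mpr hn
  have ha : ∀ i, a i ≠ 0 := by
    intro i h
    obtain ⟨j, hj⟩ := exists_ne i
    have h1 := hcop i j hj.symm
    rw [h, isRelPrime_zero_left] at h1
    have h2 := MvPowerSeries.isUnit_constantCoeff _ h1
    rw [ham j] at h2
    exact not_isUnit_zero h2
  have hμa0 : ∀ i, μ * a i ≠ 0 := fun i => mul_ne_zero hμ (ha i)
  let d : Fin n → R := fun i => MvPowerSeries.X i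
  have ham' : ∀ i, MvPowerSeries.constantCoeff (μ * a i) = 0 := fun i => by simp [ham i]
  haveI hreg : IsRegularLocalRing R := H2Alg.PSHom.isRegularLocalRing k n
  haveI : UniqueFactorizationMonoid R := Groth.Agent.RegLoc.ufd_of_isRegularLocalRing R
  haveI hdom : IsDomain (WildQuotH28.Orth.AA (p := p) a μ d) :=
    WildQuotH28.AS.isDomain (p := p) (fun i => μ * a i) ham'
  haveI hcA : CharP (WildQuotH28.Orth.AA (p := p) a μ d) p :=
    WildQuotH28.AS.charP_A (p := p) (fun i => μ * a i)
  have hinjA : Function.Injective (algebraMap R (WildQuotH28.Orth.AA (p := p) a μ d)) :=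
    WildQuotH28.AS.algebraMap_injective (p := p) (fun i => μ * a i)
  -- constants
  have hc0 : ∀ i, s i = 0 → c i = 0 := fun i h => by simp [c, h]
  have hc1 : ∀ i, s i ≠ 0 → IsUnit (c i) := fun i h => by
    exact (((isUnit_iff_ne_zero.mpr h).map (ZMod.castHom (dvd_refl p) k)).map (algebraMap k R))
  have hcp : ∀ i, c i ^ p = c i := fun i => by
    simp only [c, ← map_pow, ZMod.pow_card]
  have hcpq : ∀ i, s i ≠ 0 → c i ^ (p - 1) = 1 := fun i h => by
    simp only [c, ← map_pow, ZMod.pow_card_sub_one_eq_one h, map_one]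
  let γ : Fin n → R := fun i => c i * αi i
  have hγa : ∀ i, γ i * a i = c i * α := by
    intro i
    by_cases h : s i = 0
    · simp [γ, hc0 i h]
    · simp only [γ, αi, α, mul_assoc]
      rw [mul_comm (∏ j ∈ _, a j) (a i), Finset.mul_prod_erase _ _ (Finset.mem_filter.mpr ⟨Finset.mem_univ i, h⟩)]
  have hγ0 : ∀ i, s i = 0 → γ i = 0 := fun i h => by simp [γ, hc0 i h]
  have hγ : ∀ i, γ i ^ p * (μ * a i) ^ (p - 1) = (μ * α) ^ (p - 1) * γ i := by
    intro i
    by_cases h : s i = 0
    · rw [hγ0 i h, zero_pow (Fact.out : p.Prime).ne_zero, zero_mul, mul_zero]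
    · obtain ⟨q, hq⟩ : ∃ q, p = q + 1 := ⟨p - 1, by have := (Fact.out : p.Prime).pos; omega⟩
      have h1 := hcpq i h
      rw [show p - 1 = q by omega] at h1 ⊢
      have h2 : (γ i * a i) ^ q = α ^ q := by rw [hγa i, mul_pow, h1, one_mul]
      rw [hq]
      linear_combination (μ ^ q * γ i) * h2
  have hz : z = WildQuotH28.Orth.Z (p := p) a μ d γ := by
    refine Finset.sum_subset (Finset.subset_univ _) fun i _ hi => ?_
    simp only [Finset.mem_filter, Finset.mem_univ, true_and, not_not] at hi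
    simp [hc0 i hi]
  have hf : ∑ i ∈ Finset.univ.filter (fun i => s i ≠ 0), c i * αi i ^ p * MvPowerSeries.X i = ∑ i, γ i ^ p * d i := by
    rw [Finset.sum_subset (Finset.subset_univ _) (fun i _ hi => by
      simp only [Finset.mem_filter, Finset.mem_univ, true_and, not_not] at hi
      simp [hc0 i hi])]
    exact Finset.sum_congr rfl fun i _ => by simp only [γ, d, mul_pow, hcp]
  have hα : α ≠ 0 := Finset.prod_ne_zero_iff.mpr fun i _ => ha i
  have hshift : ∀ m : Fin n → ℕ, WildQuotH28.AS.shiftEquiv (p := p) (fun i => μ * a i) m (WildQuotH28.Orth.Z a μ d γ) =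
      WildQuotH28.Orth.Z a μ d γ + algebraMap R _ (μ * α * ∑ i, (m i : R) * c i) := by
    intro m
    simp only [WildQuotH28.Orth.Z, map_sum, Finset.mul_sum]
    rw [← Finset.sum_add_distrib]
    refine Finset.sum_congr rfl fun i _ => ?_
    rw [map_mul, AlgEquiv.commutes, show WildQuotH28.AS.u (p := p) (fun i => (μ * a i) ^ (p - 1)) d i = WildQuotH28.AS.v p (fun i => μ * a i) i from rfl,
      WildQuotH28.AS.shiftEquiv_v, mul_add, ← map_mul]
    congr 2
    linear_combination ((m i : R) * μ) * hγa i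
  have hν : ∀ ν : Fin n → ZMod p, ∑ i, ((ν i).val : R) * c i = algebraMap k R (ZMod.castHom (dvd_refl p) k (∑ i, ν i * s i)) := by
    intro ν
    rw [map_sum, map_sum]
    refine Finset.sum_congr rfl fun i _ => ?_
    rw [map_mul, map_mul]
    congr 1
    conv_rhs => rw [← ZMod.natCast_zmod_val (ν i), map_natCast, map_natCast]
  have hprod : ∀ ν : Fin n → ZMod p, (List.ofFn (fun i : Fin n => σ i ^ (ν i).val)).prod =
      WildQuotH28.AS.shiftEquiv (p := p) (fun i => μ * a i) (fun i => (ν i).val) := by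
    intro ν
    have hpow : ∀ i (m : ℕ), σ i ^ m = WildQuotH28.AS.shiftEquiv (p := p) (fun i => μ * a i) (Pi.single i m) := by
      intro i m
      induction m with
      | zero =>
        refine AlgEquiv.coe_algHom_injective (WildQuotH28.AS.algHom_ext _ fun j => ?_)
        rw [pow_zero]
        refine Eq.trans ?_ (WildQuotH28.AS.shiftEquiv_v (p := p) (fun i => μ * a i) (Pi.single i 0) j).symm
        simp
        rfl
      | succ m ih =>
        rw [pow_succ, ih]
        refine AlgEquiv.coe_algHom_injective (WildQuotH28.AS.algHom_ext _ fun j => ?_)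
        change WildQuotH28.AS.shiftEquiv (p := p) (fun i => μ * a i) (Pi.single i m) (σ i (u j)) = _
        refine ((congrArg (WildQuotH28.AS.shiftEquiv (p := p) (fun i => μ * a i) (Pi.single i m)) (hσ i j)).trans
          (map_add (WildQuotH28.AS.shiftEquiv (p := p) (fun i => μ * a i) (Pi.single i m)) _ _)).trans ?_
        refine Eq.trans ?_ (WildQuotH28.AS.shiftEquiv_v (p := p) (fun i => μ * a i) (Pi.single i (m + 1)) j).symm
        rw [show WildQuotH28.AS.shiftEquiv (p := p) (fun i => μ * a i) (Pi.single i m) (u j) = _ from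
          WildQuotH28.AS.shiftEquiv_v (p := p) (fun i => μ * a i) (Pi.single i m) j]
        by_cases hij : i = j
        · subst hij
          rw [if_pos rfl, Pi.single_eq_same, Pi.single_eq_same, add_assoc]
          refine congrArg _ (((congrArg₂ (· + ·) rfl (AlgEquiv.commutes _ _)).trans (map_add (algebraMap R (WildQuotH28.AS.Fam p fun i => μ * a i)) _ _).symm).trans ?_)
          refine congrArg _ ?_
          push_cast; ring
        · rw [if_neg hij]
          erw [map_zero]
          rw [add_zero, Pi.single_eq_of_ne (Ne.symm hij), Pi.single_eq_of_ne (Ne.symm hij)]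
    simp only [hpow]
    have hlist : ∀ l : List (Fin n), (l.map fun i => WildQuotH28.AS.shiftEquiv (p := p) (fun i => μ * a i) (Pi.single i (ν i).val)).prod =
        WildQuotH28.AS.shiftEquiv (p := p) (fun i => μ * a i) ((l.map fun i => (Pi.single i (ν i).val : Fin n → ℕ)).sum) := by
      intro l
      induction l with
      | nil =>
        refine AlgEquiv.coe_algHom_injective (WildQuotH28.AS.algHom_ext _ fun j => ?_)
        refine Eq.trans ?_ (WildQuotH28.AS.shiftEquiv_v (p := p) (fun i => μ * a i) 0 j).symm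
        simp
      | cons x l ih =>
        rw [List.map_cons, List.prod_cons, ih, WildQuotH28.AS.shiftEquiv_mul, List.map_cons, List.sum_cons]
    refine ((congrArg List.prod List.ofFn_eq_map).trans (hlist _)).trans ?_
    congr 1
    rw [← List.ofFn_eq_map, List.sum_ofFn]
    exact Finset.univ_sum_single _
  have hs' : ∃ i, s i ≠ 0 := by
    by_contra h
    push Not at h
    exact hs (funext h)
  obtain ⟨i₀, hi₀⟩ := hs'
  have hg0 : γ i₀ ≠ 0 := mul_ne_zero (hc1 i₀ hi₀).ne_zero (Finset.prod_ne_zero_iff.mpr fun i _ => ha i)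
  rw [hz]
  refine ⟨fun t => ⟨fun ht => ?_, ?_⟩, ?_⟩
  · let ν : Fin n → Fin n → ZMod p := fun i => Function.update (Pi.single i 1) i₀ (-(s i / s i₀))
    have hνs : ∀ i, i ≠ i₀ → ∑ j, ν i j * s j = 0 := by
      intro i hi
      rw [← Finset.sum_subset (Finset.subset_univ ({i, i₀} : Finset (Fin n)))]
      · rw [Finset.sum_pair hi]
        simp only [ν, Function.update_self, Function.update_of_ne hi, Pi.single_eq_same, one_mul, neg_mul,
          div_mul_cancel₀ _ hi₀, add_neg_cancel]
      · intro j _ hj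
        simp only [Finset.mem_insert, Finset.mem_singleton, not_or] at hj
        simp only [ν, Function.update_of_ne hj.2, Pi.single_eq_of_ne hj.1, zero_mul]
    obtain ⟨q, hq, hqt⟩ := WildQuotH28.Orth.exists_rational (p := p) a μ α d γ i₀ hγ hg0 hμa0
      (fun i => WildQuotH28.AS.shiftEquiv (p := p) (fun i => μ * a i) (fun j => (ν i j).val))
      (fun i hi => by rw [hshift, hν, hνs i hi, map_zero, map_zero, mul_zero, map_zero, add_zero])
      (fun i j hi hj => by
        refine (WildQuotH28.AS.shiftEquiv_v (p := p) (fun i => μ * a i) _ j).trans ?_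
        congr 1
        simp only [ν, Function.update_of_ne hj]
        by_cases hij : i = j
        · subst hij; rw [Pi.single_eq_same, ZMod.val_one, Nat.cast_one, one_mul, if_pos rfl]
        · rw [Pi.single_eq_of_ne (Ne.symm hij), ZMod.val_zero, Nat.cast_zero, zero_mul, map_zero, if_neg hij])
      t (fun i hi => by rw [← hprod]; exact ht _ (hνs i hi))
    have hsat : ∀ g : R, Prime g → ∃ i, ¬ g ∣ γ i := by
      intro g hg
      by_contra hall
      push Not at hall
      have hαi : ∀ i, s i ≠ 0 → ∃ j, (j ≠ i ∧ s j ≠ 0) ∧ g ∣ a j := by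
        intro i hi
        obtain ⟨j, hj, hjd⟩ := hg.exists_mem_finset_dvd (((hc1 i hi).dvd_mul_left).mp (hall i))
        rw [Finset.mem_erase, Finset.mem_filter] at hj
        exact ⟨j, ⟨hj.1, hj.2.2⟩, hjd⟩
      obtain ⟨j, ⟨-, hj⟩, hjd⟩ := hαi i₀ hi₀
      obtain ⟨l, ⟨hlj, -⟩, hld⟩ := hαi j hj
      exact hg.not_unit (hcop l j hlj hld hjd)
    obtain ⟨q', hq'⟩ := WildQuotH28.Orth.saturate (p := p) a μ d γ hsat _ (pow_ne_zero _ hg0) t q hq hqt
    exact ⟨q', hq'.symm⟩
  · rintro ⟨q, rfl⟩ ν hν0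
    rw [hprod]
    change WildQuotH28.AS.shiftEquiv (p := p) (fun i => μ * a i) _ (Polynomial.aeval _ q) = Polynomial.aeval _ q
    rw [← Polynomial.aeval_algHom_apply]
    congr 1
    rw [hshift, hν, hν0, map_zero, map_zero, mul_zero, map_zero, add_zero]
  · have hmonic : f.Monic := by
      have : f = WildQuotH28.AS.g p (fun _ : Fin 1 => (μ * α) ^ (p - 1)) (fun _ => ∑ i ∈ Finset.univ.filter (fun i => s i ≠ 0), c i * αi i ^ p * MvPowerSeries.X i) 0 := rfl
      rw [this]
      exact WildQuotH28.AS.g_monic _ _ (Fact.out : p.Prime).two_le _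
    have hdeg : f.natDegree = p :=
      WildQuotH28.AS.g_natDegree (fun _ : Fin 1 => (μ * α) ^ (p - 1)) (fun _ => ∑ i ∈ Finset.univ.filter (fun i => s i ≠ 0), c i * αi i ^ p * MvPowerSeries.X i) (Fact.out : p.Prime).two_le 0
    have hfz : Polynomial.aeval (WildQuotH28.Orth.Z (p := p) a μ d γ) f = 0 := by
      simp only [f, map_sub, map_mul, map_pow, Polynomial.aeval_X, Polynomial.aeval_C, hf]
      rw [WildQuotH28.Orth.Z_pow a μ α d γ hγ]
      simp only [map_pow, map_mul]
      ring
    refine le_antisymm (fun q hq => ?_) ((Ideal.span_singleton_le_iff_mem _).mpr hfz)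
    refine Ideal.mem_span_singleton.mpr ((Polynomial.modByMonic_eq_zero_iff_dvd hmonic).mp ?_)
    have hne1 : f ≠ 1 := fun h => by
      rw [h, Polynomial.natDegree_one] at hdeg
      exact (Fact.out : p.Prime).ne_zero hdeg.symm
    refine WildQuotH28.Orth.coeff_zero_of_aeval (p := p) a μ d γ
      (WildQuotH28.AS.shiftEquiv (p := p) (fun i => μ * a i) (Pi.single i₀ 1)) (μ * α * c i₀) ?_ ?_ _
      (hdeg ▸ Polynomial.natDegree_modByMonic_lt q hmonic hne1) hinjA ?_
    · exact (map_ne_zero_iff _ hinjA).mpr (mul_ne_zero (mul_ne_zero hμ hα) (hc1 i₀ hi₀).ne_zero)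
    · rw [hshift, Finset.sum_eq_single i₀ (fun j _ hj => by rw [Pi.single_eq_of_ne hj, Nat.cast_zero, zero_mul]) (by simp),
        Pi.single_eq_same, Nat.cast_one, one_mul]
    · rw [Polynomial.modByMonic_eq_sub_mul_div q f, map_sub, map_mul, hfz, zero_mul, sub_zero]
      exact hq

end Groth.Agent.S15810
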