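import Groth.Statements.S15811
import Mathlib

set_option autoImplicit false
universe u
open WildQuot

namespace Groth.Agent.S15811

/-- Let `R` be an integrally closed domain of prime characteristic `p` with fraction field `K`, and `α ∈
R`. Then `α ≠ 0` and the polynomial `T ^ p - α T` splits into linear factors over `K` — which says
that the finite flat group scheme `Spec R[T]/(T ^ p - α T)` of order `p` has constant generic fibre
(its `p` roots are then distinct) — if and only if `α = a ^ (p-1)` for some nonzero `a ∈ R`. (The
published statement is that the generic fibre of the finite flat group scheme of order `p` with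
parameters `α, β` satisfying `α β = 0`, whose underlying scheme is `Spec R[T]/(T ^ p - α T)`, is
constant if and only if `β = 0` and `α` is the `(p-1)`-th power of a nonzero element of `R`; this
row states the polynomial condition, in which `α ≠ 0` already forces `β = 0` over a domain.) -/
theorem result
    (p : ℕ) [Fact p.Prime] (R : Type u) [CommRing R] [IsDomain R] [IsIntegrallyClosed R]
    [CharP R p] (α : R) :
    (α ≠ 0 ∧ (Polynomial.map (algebraMap R (FractionRing R))
        (Polynomial.X ^ p - Polynomial.C α * Polynomial.X)).Splits) ↔
      ∃ a : R, a ≠ 0 ∧ α = a ^ (p - 1) := by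
  have hp : 1 < p := (Fact.out : p.Prime).one_lt
  set K := FractionRing R
  have hinj := IsFractionRing.injective R K
  have hchar : CharP K p := charP_of_injective_algebraMap hinj p
  set P : Polynomial K := Polynomial.map (algebraMap R K) (Polynomial.X ^ p - Polynomial.C α * Polynomial.X)
  have hP : P = Polynomial.X ^ p - Polynomial.C (algebraMap R K α) * Polynomial.X := by simp [P]
  have hdeg : P.natDegree = p := by
    rw [hP, Polynomial.natDegree_sub_eq_left_of_natDegree_lt, Polynomial.natDegree_X_pow]
    rw [Polynomial.natDegree_X_pow]
    exact lt_of_le_of_lt ((Polynomial.natDegree_C_mul_le _ _).trans Polynomial.natDegree_X_le) hp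
  have hP0 : P ≠ 0 := fun h => by rw [h, Polynomial.natDegree_zero] at hdeg; omega
  constructor
  · rintro ⟨hα, hs⟩
    have hroot : ∃ r ∈ P.roots, r ≠ 0 := by
      by_contra h
      push Not at h
      have hrep : P.roots = Multiset.replicate p 0 :=
        Multiset.eq_replicate.2 ⟨by rw [← hs.natDegree_eq_card_roots, hdeg], h⟩
      have hmonic : P.Monic := by
        rw [Polynomial.Monic, Polynomial.leadingCoeff, hdeg, hP]
        simp [Polynomial.coeff_X_pow, Polynomial.coeff_X, show ¬ 1 = p by omega]
      have := hs.eq_prod_roots_of_monic hmonic
      rw [hrep, Multiset.map_replicate, Multiset.prod_replicate] at this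
      have h1 := congrArg (fun Q => Polynomial.coeff Q 1) this
      rw [hP] at h1
      simp [Polynomial.coeff_X_pow, show ¬ 1 = p by omega] at h1
      exact hα (hinj (by simpa using h1))
    obtain ⟨r, hr, hr0⟩ := hroot
    have hev : r ^ p - algebraMap R K α * r = 0 := by
      have := Polynomial.isRoot_of_mem_roots hr
      rw [hP, Polynomial.IsRoot.def] at this
      simpa using this
    have hr1 : r ^ (p - 1) = algebraMap R K α := by
      apply mul_right_cancel₀ hr0
      rw [← pow_succ, Nat.sub_add_cancel hp.le]
      exact sub_eq_zero.1 hev
    obtain ⟨a, rfl⟩ := IsIntegrallyClosed.exists_algebraMap_eq_of_isIntegral_pow (R := R) (K := K) (n := p - 1) (by omega)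
      (hr1 ▸ isIntegral_algebraMap)
    exact ⟨a, fun h => hr0 (by simp [h]), hinj (by rw [← hr1, map_pow])⟩
  · rintro ⟨a, ha, rfl⟩
    refine ⟨pow_ne_zero _ ha, Polynomial.splits_iff_card_roots.2 (le_antisymm (Polynomial.card_roots' P) ?_)⟩
    classical
    let g : ZMod p → K := fun i => ZMod.castHom (dvd_refl p) K i * algebraMap R K a
    have hg : Function.Injective g := fun i j h =>
      (ZMod.castHom (dvd_refl p) K).injective (mul_right_cancel₀ (fun h0 => ha (hinj (by simpa using h0))) h)
    have hsub : (Finset.univ.image g) ⊆ P.roots.toFinset := by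
      intro x hx
      obtain ⟨i, -, rfl⟩ := Finset.mem_image.1 hx
      rw [Multiset.mem_toFinset, Polynomial.mem_roots hP0, hP, Polynomial.IsRoot.def]
      simp only [Polynomial.eval_sub, Polynomial.eval_pow, Polynomial.eval_X, Polynomial.eval_mul, Polynomial.eval_C, g,
        mul_pow, ← map_pow (ZMod.castHom (dvd_refl p) K), ZMod.pow_card]
      rw [map_pow, ← mul_assoc, mul_comm (algebraMap R K a ^ (p - 1)), mul_assoc, ← pow_succ, Nat.sub_add_cancel hp.le, sub_self]
    calc P.natDegree = (Finset.univ.image g).card := by rw [hdeg, Finset.card_image_of_injective _ hg, Finset.card_univ, ZMod.card]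
      _ ≤ _ := (Finset.card_le_card hsub).trans (Multiset.toFinset_card_le _)

end Groth.Agent.S15811
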