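import Groth.Statements.S15812
import Groth.Agent.Lib.RegLoc.UFD
import Mathlib.RingTheory.Invariant.Basic
import Mathlib.Algebra.Group.Pointwise.Set.Card
import Mathlib.RingTheory.Ideal.GoingUp

set_option autoImplicit false
universe u v w
open WildQuot TensorProduct Pointwise

namespace Groth.Agent.S15812

open Finset

variable {R : Type u} {A : Type v} {H : Type w} [CommRing R] [CommRing A] [Algebra R A]
  [Group H] [MulSemiringAction H A] [SMulCommClass H R A] {n : ℕ}

abbrev Kc (Gi : Fin n → Subgroup H) (j : Fin n) : Subgroup H :=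
  ⨆ l ∈ (Finset.univ.erase j : Finset (Fin n)), Gi l

abbrev Af (R : Type u) (A : Type v) [CommRing R] [CommRing A] [Algebra R A] [MulSemiringAction H A]
    [SMulCommClass H R A] (Gi : Fin n → Subgroup H) (j : Fin n) : Subalgebra R A :=
  FixedPoints.subalgebra R A ↥(Kc Gi j)

lemma mem_Af (Gi : Fin n → Subgroup H) {j : Fin n} {a : A} :
    a ∈ Af R A Gi j ↔ ∀ g ∈ Kc Gi j, g • a = a :=
  ⟨fun h g hg => h ⟨g, hg⟩, fun h g => h g g.2⟩

lemma le_Kc (Gi : Fin n → Subgroup H) {j l : Fin n} (h : l ≠ j) : Gi l ≤ Kc Gi j :=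
  le_iSup₂ (f := fun l (_ : l ∈ Finset.univ.erase j) => Gi l) l (Finset.mem_erase.2 ⟨h, mem_univ l⟩)

lemma mem_Af_of_gen (Gi : Fin n → Subgroup H) {j : Fin n} {a : A}
    (h : ∀ l, l ≠ j → ∀ g ∈ Gi l, g • a = a) : a ∈ Af R A Gi j := by
  rw [mem_Af]
  have : Kc Gi j ≤ MulAction.stabilizer H a :=
    iSup₂_le fun l hl g hg => h l (Finset.mem_erase.1 hl).1 g hg
  exact fun g hg => this hg

lemma card_iSup_le [Finite H] (p : ℕ) (hcomm : ∀ g h : H, g * h = h * g) (Gi : Fin n → Subgroup H)
    (hGi : ∀ i, Nat.card (Gi i) = p) (S : Finset (Fin n)) :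
    Nat.card ↥(⨆ l ∈ S, Gi l) ≤ p ^ S.card := by
  classical
  induction S using Finset.induction_on with
  | empty => simp
  | @insert a S ha ih =>
    rw [Finset.iSup_insert, Finset.card_insert_of_notMem ha, pow_succ']
    haveI : (⨆ l ∈ S, Gi l).Normal := ⟨fun x hx g => by rw [hcomm g x, mul_assoc, mul_inv_cancel, mul_one]; exact hx⟩
    have e := Subgroup.mul_normal (Gi a) (⨆ l ∈ S, Gi l)
    have h1 := Set.natCard_mul_le (s := (Gi a : Set H)) (t := ((⨆ l ∈ S, Gi l : Subgroup H) : Set H))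
    rw [← e] at h1
    exact h1.trans (by rw [show Nat.card ↥(Gi a : Set H) = p from hGi a]; exact Nat.mul_le_mul_left p ih)

lemma eq_one_of_mem [Finite H] {p : ℕ} (hp : p.Prime) (hcomm : ∀ g h : H, g * h = h * g)
    (Gi : Fin n → Subgroup H) (hGi : ∀ i, Nat.card (Gi i) = p) (hcard : Nat.card H = p ^ n)
    (hsup : (⨆ i, Gi i) = ⊤) {j : Fin n} {σ : H} (h1 : σ ∈ Gi j) (h2 : σ ∈ Kc Gi j) : σ = 1 := by
  classical
  by_contra hne
  have hle : Gi j ⊓ Kc Gi j = Gi j := by
    refine Subgroup.eq_of_le_of_card_ge inf_le_left ?_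
    rcases (Nat.dvd_prime hp).1 (hGi j ▸ Subgroup.card_dvd_of_le (inf_le_left : Gi j ⊓ Kc Gi j ≤ Gi j)) with h | h
    · have := (Subgroup.card_eq_one.1 h ▸ (⟨h1, h2⟩ : σ ∈ Gi j ⊓ Kc Gi j) : σ ∈ (⊥ : Subgroup H))
      exact absurd (Subgroup.mem_bot.1 this) hne
    · rw [h, hGi j]
  have htop : Kc Gi j = ⊤ := by
    rw [eq_top_iff, ← hsup]
    refine iSup_le fun l => ?_
    by_cases h : l = j
    · subst h; exact inf_eq_left.1 hle
    · exact le_Kc Gi h
  have h3 := card_iSup_le p hcomm Gi hGi (Finset.univ.erase j)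
  rw [show (⨆ l ∈ Finset.univ.erase j, Gi l) = ⊤ from htop, Subgroup.card_top, hcard,
    Finset.card_erase_of_mem (mem_univ j), Finset.card_univ, Fintype.card_fin] at h3
  have := (Nat.pow_le_pow_iff_right hp.one_lt).1 h3
  have := j.pos
  omega

section
variable (hcomm : ∀ g h : H, g * h = h * g) (Gi : Fin n → Subgroup H)
include hcomm

lemma smul_mem_Af (σ : H) {j : Fin n} {a : A} (ha : a ∈ Af R A Gi j) : σ • a ∈ Af R A Gi j := by
  rw [mem_Af] at ha ⊢
  intro g hg
  rw [← mul_smul, hcomm g σ, mul_smul, ha g hg]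

/-- `Bad q j`: some non-trivial element of `Gi j` is trivial modulo a prime over `q`. -/
def Bad (R : Type u) (A : Type v) [CommRing R] [CommRing A] [Algebra R A] [MulSemiringAction H A]
    [SMulCommClass H R A] (q : Ideal R) (j : Fin n) : Prop :=
  ∃ σ ∈ Gi j, σ ≠ 1 ∧ (Ideal.span (Set.range fun a : Af R A Gi j =>
    a - (⟨σ • (a : A), smul_mem_Af hcomm Gi σ a.2⟩ : Af R A Gi j))).comap (algebraMap R (Af R A Gi j)) ≤ q

lemma inertia_of_bad [IsDomain A] [Finite H] [Module.Finite R A] {p : ℕ} (hp : p.Prime)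
    (hGi : ∀ i, Nat.card (Gi i) = p) (hcard : Nat.card H = p ^ n) (hsup : (⨆ i, Gi i) = ⊤)
    (q : Ideal R) [q.IsPrime]
    (hq : ∀ P : Ideal A, P.IsPrime → P.comap (algebraMap R A) = q →
      P.inertia H = ⊥ ∨ ∃ l, P.inertia H = Gi l)
    {j : Fin n} (hb : Bad hcomm Gi R A q j) :
    ∃ P : Ideal A, P.IsPrime ∧ P.comap (algebraMap R A) = q ∧ P.inertia H = Gi j := by
  obtain ⟨σ, hσ, hσ1, hJ⟩ := hb
  haveI : Algebra.IsIntegral R A := Algebra.IsIntegral.of_finite R A
  haveI : Algebra.IsIntegral R (Af R A Gi j) := ⟨fun x =>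
    (isIntegral_algHom_iff (Af R A Gi j).val Subtype.val_injective).1 (Algebra.IsIntegral.isIntegral (x : A))⟩
  obtain ⟨Q, hQJ, hQ, hQq⟩ := Ideal.exists_ideal_over_prime_of_isIntegral q _ hJ
  haveI : Algebra.IsIntegral (Af R A Gi j) A := Algebra.IsIntegral.tower_top R
  obtain ⟨P, -, hP, hPQ⟩ := Ideal.exists_ideal_over_prime_of_isIntegral Q (⊥ : Ideal A) (by
    rw [Ideal.comap_bot_of_injective _ Subtype.val_injective]; exact bot_le)
  haveI hlies : P.LiesOver Q := ⟨hPQ.symm⟩
  have hmem : ∀ a : Af R A Gi j, (a : A) ∈ P ↔ a ∈ Q := fun a => by rw [← hPQ]; rfl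
  have hdiff : ∀ a : Af R A Gi j, (a : A) - σ • (a : A) ∈ P := fun a =>
    (hmem _).2 (hQJ (Ideal.subset_span ⟨a, rfl⟩))
  haveI : Algebra.IsInvariant (Af R A Gi j) A ↥(Kc Gi j) := ⟨fun b hb => ⟨⟨b, hb⟩, rfl⟩⟩
  haveI : SMulCommClass ↥(Kc Gi j) (Af R A Gi j) A := ⟨fun g a x => by
    show g • ((a : A) * x) = (a : A) * g • x
    rw [smul_mul', a.2 g]⟩
  have hunder : (σ • P).under (Af R A Gi j) = P.under (Af R A Gi j) := by
    ext a
    show (a : A) ∈ σ • P ↔ (a : A) ∈ P
    rw [Ideal.mem_pointwise_smul_iff_inv_smul_mem]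
    have h1 := hdiff ⟨σ⁻¹ • (a : A), smul_mem_Af hcomm Gi _ a.2⟩
    simp only [smul_inv_smul] at h1
    exact ⟨fun h => by simpa using P.sub_mem h h1, fun h => by simpa using P.add_mem h1 h⟩
  haveI : (σ • P).IsPrime := hP.smul σ
  obtain ⟨k, hk⟩ := Algebra.IsInvariant.exists_smul_of_under_eq (Af R A Gi j) A ↥(Kc Gi j) (σ • P) P hunder
  set τ : H := (k : H) * σ with hτ
  have hτP : τ • P = P := by rw [hτ, mul_smul]; exact hk.symm
  let e : (A ⧸ P) ≃+* (A ⧸ P) := Ideal.quotientEquiv P P (MulSemiringAction.toRingEquiv H A τ) (by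
    rw [Ideal.pointwise_smul_def] at hτP; exact hτP.symm)
  have he : ∀ x : A, e (Ideal.Quotient.mk P x) = Ideal.Quotient.mk P (τ • x) := fun x => rfl
  let f : (A ⧸ P) ≃ₐ[(Af R A Gi j) ⧸ Q] (A ⧸ P) := AlgEquiv.ofRingEquiv (f := e) (fun x => by
    obtain ⟨x, rfl⟩ := Ideal.Quotient.mk_surjective x
    show e (Ideal.Quotient.mk P (x : A)) = Ideal.Quotient.mk P (x : A)
    rw [he, Ideal.Quotient.eq, hτ, mul_smul,
      show (k : H) • σ • (x : A) = σ • (x : A) from (mem_Af Gi).1 (smul_mem_Af hcomm Gi σ x.2) _ k.2]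
    simpa using P.neg_mem (hdiff x))
  obtain ⟨k', hk'⟩ := Ideal.Quotient.stabilizerHom_surjective ↥(Kc Gi j) Q P f
  have hk'' : ∀ x : A, ((k'.1 : ↥(Kc Gi j)) : H) • x - τ • x ∈ P := fun x => by
    have := AlgEquiv.congr_fun hk' (Ideal.Quotient.mk P x)
    exact Ideal.Quotient.eq.1 this
  set k₁ : H := ((k'.1 : ↥(Kc Gi j)) : H)
  have hk₁ : k₁ ∈ Kc Gi j := (k'.1).2
  have hk₁P : k₁ • P = P := k'.2
  set ι : H := k₁⁻¹ * τ with hι
  have hιI : ι ∈ P.inertia H := by
    intro x
    have h1 : τ • x - k₁ • x ∈ k₁ • P := by rw [hk₁P]; simpa using P.neg_mem (hk'' x)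
    rw [Ideal.mem_pointwise_smul_iff_inv_smul_mem, smul_sub, inv_smul_smul, ← mul_smul] at h1
    exact h1
  have hιK : ι ∉ Kc Gi j := fun h => hσ1 <| eq_one_of_mem hp hcomm Gi hGi hcard hsup hσ (by
    have h1 : σ = (k : H)⁻¹ * (k₁ * ι) := by rw [hι, hτ]; group
    rw [h1]; exact mul_mem (inv_mem k.2) (mul_mem hk₁ h))
  have hPq : P.comap (algebraMap R A) = q := by
    rw [← hQq, ← hPQ, Ideal.comap_comap, ← IsScalarTower.algebraMap_eq]
  refine ⟨P, hP, hPq, ?_⟩
  rcases hq P hP hPq with h | ⟨l, h⟩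
  · rw [h, Subgroup.mem_bot] at hιI
    exact absurd (hιI ▸ one_mem _) hιK
  · by_cases hl : l = j
    · rw [h, hl]
    · rw [h] at hιI; exact absurd (le_Kc Gi hl hιI) hιK

lemma bad_unique [IsDomain A] [Finite H] [Module.Finite R A] {p : ℕ} (hp : p.Prime)
    (hGi : ∀ i, Nat.card (Gi i) = p) (hcard : Nat.card H = p ^ n) (hsup : (⨆ i, Gi i) = ⊤)
    (hfix : ∀ a : A, (∀ h : H, h • a = a) → a ∈ Set.range (algebraMap R A))
    (q : Ideal R) [q.IsPrime]
    (hq : ∀ P : Ideal A, P.IsPrime → P.comap (algebraMap R A) = q →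
      P.inertia H = ⊥ ∨ ∃ l, P.inertia H = Gi l)
    {i j : Fin n} (hi : Bad hcomm Gi R A q i) (hj : Bad hcomm Gi R A q j) : i = j := by
  obtain ⟨P, hP, hPq, hPI⟩ := inertia_of_bad hcomm Gi hp hGi hcard hsup q hq hi
  obtain ⟨P', hP', hPq', hPI'⟩ := inertia_of_bad hcomm Gi hp hGi hcard hsup q hq hj
  haveI : Algebra.IsInvariant R A H := ⟨hfix⟩
  obtain ⟨h, hh⟩ := Algebra.IsInvariant.exists_smul_of_under_eq R A H P P' (hPq.trans hPq'.symm)
  have hle : P.inertia H ≤ P'.inertia H := fun ι hι x => by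
    rw [hh]
    show ι • x - x ∈ h • P
    rw [Ideal.mem_pointwise_smul_iff_inv_smul_mem, smul_sub, ← mul_smul, hcomm, mul_smul]
    exact hι (h⁻¹ • x)
  rw [hPI, hPI'] at hle
  by_contra hne
  haveI : Fintype ↥(Gi i) := Fintype.ofFinite _
  haveI : Nontrivial ↥(Gi i) := Finite.one_lt_card_iff_nontrivial.1 (hGi i ▸ hp.one_lt)
  obtain ⟨⟨x, hx⟩, hx1⟩ := exists_ne (1 : ↥(Gi i))
  exact hx1 (Subtype.ext (eq_one_of_mem hp hcomm Gi hGi hcard hsup hx (le_Kc Gi (Ne.symm hne) (hle hx))))

/-- the map `x ⊗ y ↦ (σ ↦ x * σ y)` -/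
noncomputable def ev (R : Type u) (A : Type v) [CommRing R] [CommRing A] [Algebra R A] [MulSemiringAction H A]
    [SMulCommClass H R A] (Gi : Fin n → Subgroup H) (j : Fin n) : Af R A Gi j ⊗[R] Af R A Gi j →ₐ[R] (↥(Gi j) → A) :=
  Algebra.TensorProduct.lift (Pi.algHom R (fun _ => A) fun _ => (Af R A Gi j).val)
    (Pi.algHom R (fun _ => A) fun σ => (MulSemiringAction.toAlgHom R A (σ : H)).comp (Af R A Gi j).val)
    fun _ _ => Commute.all _ _

omit hcomm in
lemma ev_tmul (j : Fin n) (x y : Af R A Gi j) (σ : ↥(Gi j)) :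
    ev R A Gi j (x ⊗ₜ[R] y) σ = (x : A) * (σ : H) • (y : A) := by
  simp [ev]

lemma exists_kill {q : Ideal R} [q.IsPrime] {j : Fin n} (hg : ¬ Bad hcomm Gi R A q j)
    (F : Finset ↥(Gi j)) (hF : ∀ σ ∈ F, σ ≠ 1) :
    ∃ (z : Af R A Gi j ⊗[R] Af R A Gi j) (s : R), s ∉ q ∧ ev R A Gi j z 1 = algebraMap R A s ∧
      ∀ σ ∈ F, ev R A Gi j z σ = 0 := by
  classical
  induction F using Finset.induction_on with
  | empty => exact ⟨1, 1, q.ne_top_iff_one.1 (Ideal.IsPrime.ne_top'), by simp, by simp⟩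
  | @insert τ F hτ ih =>
    obtain ⟨z, s, hs, hz1, hz⟩ := ih fun σ hσ => hF σ (mem_insert_of_mem hσ)
    have hτ1 : (τ : H) ≠ 1 := fun h => hF τ (mem_insert_self τ F) (Subtype.ext h)
    have hJ := fun h => hg ⟨τ, τ.2, hτ1, h⟩
    obtain ⟨t, htJ, htq⟩ := SetLike.not_le_iff_exists.1 hJ
    have key : ∀ x ∈ Ideal.span (Set.range fun a : Af R A Gi j =>
        a - (⟨(τ : H) • (a : A), smul_mem_Af hcomm Gi _ a.2⟩ : Af R A Gi j)),
        ∃ z', ev R A Gi j z' 1 = ((x : Af R A Gi j) : A) ∧ ev R A Gi j z' τ = 0 := by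
      intro x hx
      induction hx using Submodule.span_induction with
      | mem x hx =>
        obtain ⟨a, rfl⟩ := hx
        refine ⟨1 ⊗ₜ a - (⟨(τ : H) • (a : A), smul_mem_Af hcomm Gi _ a.2⟩ : Af R A Gi j) ⊗ₜ 1, ?_, ?_⟩
        · simp [map_sub, ev_tmul]
        · simp [map_sub, ev_tmul]
      | zero => exact ⟨0, by simp, by simp⟩
      | add x y _ _ hx hy =>
        obtain ⟨z₁, a1, b1⟩ := hx
        obtain ⟨z₂, a2, b2⟩ := hy
        exact ⟨z₁ + z₂, by simp [a1, a2], by simp [b1, b2]⟩
      | smul c x _ hx =>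
        obtain ⟨z₁, a1, b1⟩ := hx
        exact ⟨(c ⊗ₜ 1) * z₁, by simp [map_mul, a1, ev_tmul], by simp [map_mul, b1]⟩
    obtain ⟨z', hz'1, hz'⟩ := key _ htJ
    refine ⟨z * z', s * t, Ideal.IsPrime.mul_notMem inferInstance hs htq, ?_, fun σ hσ => ?_⟩
    · rw [map_mul, Pi.mul_apply, hz1, hz'1, map_mul]; rfl
    · rw [map_mul, Pi.mul_apply]
      rcases mem_insert.1 hσ with rfl | h
      · rw [hz', mul_zero]
      · rw [hz σ h, zero_mul]

lemma descend {j₀ : Fin n} [Fintype ↥(Gi j₀)] {q : Ideal R} [q.IsPrime] (hg : ¬ Bad hcomm Gi R A q j₀) :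
    ∃ (z : Af R A Gi j₀ ⊗[R] Af R A Gi j₀) (s : R), s ∉ q ∧
      ∀ a : A, ∑ σ, ev R A Gi j₀ z σ * (σ : H) • a = s • a := by
  classical
  obtain ⟨z, s, hs, h1, h0⟩ := exists_kill hcomm Gi hg (univ.erase 1) fun σ hσ => (mem_erase.1 hσ).1
  refine ⟨z, s, hs, fun a => ?_⟩
  rw [Finset.sum_eq_single 1 (fun σ _ hσ => by rw [h0 σ (mem_erase.2 ⟨hσ, mem_univ σ⟩), zero_mul])
    (fun h => absurd (mem_univ _) h), h1, OneMemClass.coe_one, one_smul, Algebra.smul_def]

lemma exists_smul_mem [Finite H] (hsup : (⨆ i, Gi i) = ⊤)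
    (hfix : ∀ a : A, (∀ h : H, h • a = a) → a ∈ Set.range (algebraMap R A))
    (q : Ideal R) [q.IsPrime]
    (huniq : ∀ i j, Bad hcomm Gi R A q i → Bad hcomm Gi R A q j → i = j) (a : A) :
    ∃ s, s ∉ q ∧ s • a ∈ (⨆ i, Af R A Gi i : Subalgebra R A) := by
  classical
  set B : Subalgebra R A := ⨆ i, Af R A Gi i
  have hone : (1 : R) ∉ q := q.ne_top_iff_one.1 (Ideal.IsPrime.ne_top')
  let M : Subalgebra R A :=
    { carrier := {a | ∃ s, s ∉ q ∧ s • a ∈ B}
      mul_mem' := fun {a b} ⟨s, hs, ha⟩ ⟨t, ht, hb⟩ => ⟨s * t, Ideal.IsPrime.mul_notMem inferInstance hs ht, by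
        rw [← smul_mul_smul_comm]; exact mul_mem ha hb⟩
      add_mem' := fun {a b} ⟨s, hs, ha⟩ ⟨t, ht, hb⟩ => ⟨s * t, Ideal.IsPrime.mul_notMem inferInstance hs ht, by
        rw [smul_add]
        refine add_mem ?_ ?_
        · rw [mul_comm, mul_smul]; exact Subalgebra.smul_mem _ ha t
        · rw [mul_smul]; exact Subalgebra.smul_mem _ hb s⟩
      algebraMap_mem' := fun r => ⟨1, hone, by rw [one_smul]; exact B.algebraMap_mem r⟩ }
  have hBM : ∀ x ∈ B, x ∈ M := fun x hx => ⟨1, hone, by rwa [one_smul]⟩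
  have hAM : ∀ i, ∀ x ∈ Af R A Gi i, x ∈ M := fun i x hx => hBM x (le_iSup (Af R A Gi) i hx)
  set B₀ := univ.filter fun j => Bad hcomm Gi R A q j
  suffices ∀ S : Finset (Fin n), ∀ a : A, (∀ l, l ∉ S ∪ B₀ → ∀ g ∈ Gi l, g • a = a) → a ∈ M from
    this univ a fun l hl => absurd (mem_union_left _ (mem_univ l)) hl
  intro S
  induction S using Finset.induction_on with
  | empty =>
    intro a ha
    by_cases h : ∃ i, Bad hcomm Gi R A q i
    · obtain ⟨i, hi⟩ := h
      refine hAM i a (mem_Af_of_gen Gi fun l hl => ha l ?_)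
      simp only [empty_union, B₀, mem_filter, mem_univ, true_and]
      exact fun h => hl (huniq _ _ h hi)
    · simp only [not_exists] at h
      obtain ⟨r, rfl⟩ := hfix a fun g => by
        have : (⊤ : Subgroup H) ≤ MulAction.stabilizer H a := hsup ▸ iSup_le fun l g hg =>
          ha l (by simp [B₀, h l]) g hg
        exact this (Subgroup.mem_top g)
      exact M.algebraMap_mem r
  | @insert j S hj ih =>
    intro a ha
    by_cases hb : j ∈ S ∪ B₀
    · exact ih a fun l hl => ha l fun h => hl (by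
        rcases mem_union.1 h with h | h
        · rcases mem_insert.1 h with rfl | h
          · exact hb
          · exact mem_union_left _ h
        · exact mem_union_right _ h)
    · haveI : Fintype ↥(Gi j) := Fintype.ofFinite _
      obtain ⟨z, s, hs, hz⟩ := descend hcomm Gi (q := q) (j₀ := j)
        (fun h => hb (mem_union_right _ (mem_filter.2 ⟨mem_univ _, h⟩)))
      suffices ∀ w : Af R A Gi j ⊗[R] Af R A Gi j, ∑ σ, ev R A Gi j w σ * (σ : H) • a ∈ M by
        obtain ⟨t, ht, h⟩ := hz a ▸ this z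
        exact ⟨t * s, Ideal.IsPrime.mul_notMem inferInstance ht hs, by rwa [mul_smul]⟩
      intro w
      induction w using TensorProduct.induction_on with
      | zero => simp
      | add x y hx hy =>
        simp only [map_add, Pi.add_apply, add_mul, Finset.sum_add_distrib]
        exact add_mem hx hy
      | tmul x y =>
        simp only [ev_tmul, mul_assoc, ← Finset.mul_sum]
        refine mul_mem (hAM j _ x.2) (ih _ fun l hl g hg => ?_)
        rw [Finset.smul_sum]
        by_cases hlj : l = j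
        · subst hlj
          refine Fintype.sum_equiv (Equiv.mulLeft ⟨g, hg⟩) _ _ fun σ => ?_
          simp [smul_mul', mul_smul]
        · refine Finset.sum_congr rfl fun σ _ => ?_
          rw [smul_mul', ← mul_smul, ← mul_smul, hcomm g σ, mul_smul, mul_smul,
            (mem_Af Gi).1 y.2 g (le_Kc Gi hlj hg), ha l (fun h => hl (by
              rcases mem_union.1 h with h | h
              · exact mem_union_left _ ((mem_insert.1 h).resolve_left hlj)
              · exact mem_union_right _ h)) g hg]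

lemma card_basis_le [IsDomain A] [Finite H] (hinj : Function.Injective (algebraMap R A))
    (hsup : (⨆ i, Gi i) = ⊤)
    (hfix : ∀ a : A, (∀ h : H, h • a = a) → a ∈ Set.range (algebraMap R A))
    {j : Fin n} (hgood : ¬ Bad hcomm Gi R A (⊥ : Ideal R) j) [(⊥ : Ideal R).IsPrime]
    {ι : Type*} [Fintype ι] (b : Module.Basis ι R (Af R A Gi j)) :
    Fintype.card ι ≤ Nat.card ↥(Gi j) := by
  classical
  haveI : Fintype ↥(Gi j) := Fintype.ofFinite _
  obtain ⟨z, s, hs, hz⟩ := descend hcomm Gi (q := (⊥ : Ideal R)) (j₀ := j) hgood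
  have hli : LinearIndependent A fun k => fun σ : ↥(Gi j) => (σ : H) • (b k : A) := by
    rw [Fintype.linearIndependent_iff]
    intro c hc l
    have hc' : ∀ σ : ↥(Gi j), ∑ k, c k * (σ : H) • (b k : A) = 0 := fun σ => by
      simpa using congrFun hc σ
    have key : ∀ w : Af R A Gi j ⊗[R] Af R A Gi j, ∃ v : ι → Af R A Gi j,
        (∀ k, (v k : A) = ∑ σ, ev R A Gi j w σ * (σ : H) • (b k : A)) ∧
          ∑ k, c k * algebraMap R A (b.repr (v k) l) = 0 := by
      intro w
      induction w using TensorProduct.induction_on with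
      | zero => exact ⟨0, by simp, by simp⟩
      | add x y hx hy =>
        obtain ⟨v, h1, h2⟩ := hx
        obtain ⟨v', h1', h2'⟩ := hy
        refine ⟨v + v', fun k => ?_, ?_⟩
        · simp [h1, h1', add_mul, Finset.sum_add_distrib]
        · simp [mul_add, Finset.sum_add_distrib, h2, h2']
      | tmul x y =>
        have hr : ∀ k, ∃ r, algebraMap R A r = ∑ σ : ↥(Gi j), (σ : H) • ((y : A) * (b k : A)) := by
          intro k
          refine hfix _ fun g => ?_
          have : (⊤ : Subgroup H) ≤ MulAction.stabilizer H (∑ σ : ↥(Gi j), (σ : H) • ((y : A) * (b k : A))) := by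
            rw [← hsup]
            refine iSup_le fun m g hg => ?_
            show g • _ = _
            rw [Finset.smul_sum]
            by_cases hmj : m = j
            · subst hmj
              exact Fintype.sum_equiv (Equiv.mulLeft ⟨g, hg⟩) _ _ fun σ => by simp [mul_smul]
            · refine Finset.sum_congr rfl fun σ _ => ?_
              rw [← mul_smul, hcomm g σ, mul_smul, (mem_Af Gi).1 (mul_mem y.2 (b k).2) g (le_Kc Gi hmj hg)]
          exact this (Subgroup.mem_top g)
        choose r hr using hr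
        refine ⟨fun k => r k • x, fun k => ?_, ?_⟩
        · simp [ev_tmul, mul_assoc, ← Finset.mul_sum, ← smul_mul', ← hr k, Algebra.smul_def, mul_comm]
        · have h0 : ∑ k, c k * algebraMap R A (r k) = 0 := by
            simp only [hr, Finset.mul_sum]
            rw [Finset.sum_comm]
            refine Finset.sum_eq_zero fun σ _ => ?_
            rw [← mul_zero ((σ : H) • (y : A)), ← hc' σ, Finset.mul_sum]
            exact Finset.sum_congr rfl fun k _ => by rw [smul_mul']; ring
          simp only [map_smul, Finsupp.smul_apply, smul_eq_mul, map_mul]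
          rw [← zero_mul (algebraMap R A (b.repr x l)), ← h0, Finset.sum_mul]
          exact Finset.sum_congr rfl fun k _ => by ring
    obtain ⟨v, h1, h2⟩ := key z
    have hv : ∀ k, v k = s • b k := fun k => Subtype.ext (by rw [h1 k, hz]; rfl)
    simp only [hv, map_smul, Module.Basis.repr_self, Finsupp.smul_apply, Finsupp.single_apply] at h2
    rw [Finset.sum_eq_single l (fun k _ hk => by simp [hk]) (fun h => absurd (mem_univ l) h)] at h2
    simp only [if_true, smul_eq_mul, mul_one, mul_eq_zero] at h2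
    exact h2.resolve_right fun h => hs (Ideal.mem_bot.2 (hinj (h.trans (map_zero _).symm)))
  simpa [Nat.card_eq_fintype_card] using hli.fintype_card_le_finrank

end

lemma kernel_zero [IsDomain A] [Finite H] [FaithfulSMul H A] (hinj : Function.Injective (algebraMap R A))
    {I : Type*} [Fintype I] (φ : (I → R) →ₗ[R] A) (hI : Fintype.card I ≤ Nat.card H)
    (hgen : ∀ a : A, ∃ s : R, s ≠ 0 ∧ s • a ∈ LinearMap.range φ) :
    Function.Injective φ := by
  classical
  haveI : Fintype H := Fintype.ofFinite H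
  rw [← LinearMap.ker_eq_bot, LinearMap.ker_eq_bot']
  intro f hf
  by_contra hne
  obtain ⟨i₀, hi₀⟩ := Function.ne_iff.1 hne
  let v : I → A := fun i => φ (Pi.single i 1)
  have hφ : ∀ g : I → R, φ g = ∑ i, g i • v i := fun g => by
    conv_lhs => rw [pi_eq_sum_univ' g]
    simp [v, map_sum]
  let L : (H → A) →ₗ[A] ({i // i ≠ i₀} → A) :=
    LinearMap.pi fun i => ∑ σ : H, ((σ • v i.1) • LinearMap.proj σ)
  obtain ⟨c, hc, hc0⟩ : ∃ c, L c = 0 ∧ c ≠ 0 := by
    by_contra h
    push Not at h
    have hLi : Function.Injective L := by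
      rw [← LinearMap.ker_eq_bot, LinearMap.ker_eq_bot']; exact h
    have := LinearMap.finrank_le_finrank_of_injective hLi
    rw [Module.finrank_pi, Module.finrank_pi, Fintype.card_subtype_compl, Fintype.card_subtype_eq,
      ← Nat.card_eq_fintype_card] at this
    have hpos : 0 < Fintype.card I := Fintype.card_pos_iff.2 ⟨i₀⟩
    have h2 : 0 < Nat.card H := Nat.card_pos
    omega
  let T : A →ₗ[R] A := ∑ σ : H, c σ • (MulSemiringAction.toAlgHom R A σ).toLinearMap
  have hT : ∀ a, T a = ∑ σ : H, c σ * σ • a := fun a => by simp [T]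
  have hTv : ∀ i, i ≠ i₀ → T (v i) = 0 := fun i hi => by
    rw [hT]
    simpa [L, mul_comm] using congrFun hc ⟨i, hi⟩
  have hTv₀ : T (v i₀) = 0 := by
    have h1 := congrArg T hf
    rw [hφ, map_zero, map_sum] at h1
    rw [Finset.sum_eq_single i₀ (fun i _ hi => by rw [map_smul, hTv i hi, smul_zero])
      (fun h => absurd (mem_univ _) h), map_smul, Algebra.smul_def, mul_eq_zero] at h1
    exact h1.resolve_left fun h => hi₀ (hinj (h.trans (map_zero _).symm))
  have hTall : ∀ a, T a = 0 := fun a => by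
    obtain ⟨s, hs, g, hg⟩ := hgen a
    have h1 : T (s • a) = 0 := by
      rw [← hg, hφ, map_sum]
      refine Finset.sum_eq_zero fun i _ => ?_
      rw [map_smul]
      by_cases hi : i = i₀
      · rw [hi, hTv₀, smul_zero]
      · rw [hTv i hi, smul_zero]
    rw [map_smul, Algebra.smul_def, mul_eq_zero] at h1
    exact h1.resolve_left fun h => hs (hinj (h.trans (map_zero _).symm))
  let χ : H → (A →* A) := fun σ => (MulSemiringAction.toRingHom H A σ : A →* A)
  have hχ : Function.Injective χ := fun σ σ' h => eq_of_smul_eq_smul fun a : A => DFunLike.congr_fun h a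
  have hd := (linearIndependent_monoidHom A A).comp χ hχ
  rw [Fintype.linearIndependent_iff] at hd
  exact hc0 (funext fun σ => hd c (funext fun a => by simpa [χ, hT] using hTall a) σ)

lemma height_eq_one [IsDomain R] [UniqueFactorizationMonoid R] [IsDomain A] [IsNoetherianRing A] [Algebra.IsIntegral R A]
    (hinj : Function.Injective (algebraMap R A)) {π : R} (hπ : Prime π) (P : Ideal A) [P.IsPrime]
    (hP : P.comap (algebraMap R A) = Ideal.span {π}) : P.height = 1 := by
  refine le_antisymm ?_ ?_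
  · rw [show (1 : ℕ∞) = ((1 : ℕ) : ℕ∞) from rfl, Ideal.height_le_iff]
    intro Q hQ hlt
    have hQ0 : Q = ⊥ := by
      by_contra h
      have hQc : Q.comap (algebraMap R A) ≠ ⊥ := fun h' => h (Ideal.eq_bot_of_comap_eq_bot h')
      obtain ⟨x, hxP, hxQ⟩ := SetLike.exists_of_lt hlt
      have hlt' := Ideal.comap_lt_comap_of_integral_mem_sdiff hlt.le ⟨hxP, hxQ⟩
        (Algebra.IsIntegral.isIntegral (R := R) x)
      rw [hP] at hlt'
      obtain ⟨r, hr, hrp⟩ := Ideal.IsPrime.exists_mem_prime_of_ne_bot inferInstance hQc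
      have hdvd : π ∣ r := Ideal.mem_span_singleton.1 (hlt'.le hr)
      have hπQ : π ∈ Q.comap (algebraMap R A) :=
        Ideal.mem_of_dvd _ (hπ.associated_of_dvd hrp hdvd).symm.dvd hr
      exact absurd ((Ideal.span_singleton_le_iff_mem _).2 hπQ) (not_le_of_gt hlt')
    rw [hQ0]
    simp
  · rw [ENat.one_le_iff_ne_zero]
    intro h
    have hne : P ≠ ⊥ := by
      rintro rfl
      rw [Ideal.comap_bot_of_injective _ hinj] at hP
      exact hπ.ne_zero (by simpa using hP.symm)
    have hlt := Ideal.height_strict_mono_of_isPrime (bot_lt_iff_ne_bot.2 hne)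
    rw [h] at hlt
    exact not_lt_zero hlt

/-- Let `R` be a regular local ring and `A` a normal local domain, finite over `R` (with `R → A`
injective) and with the same residue field; let a finite group `H` act faithfully on `A` by
`R`-algebra automorphisms with ring of invariants exactly `R` (so `Frac(A)/Frac(R)` is Galois with
group `H`); assume `H` is commutative of order `p ^ n` (`p` prime) and let `G_1, …, G_n ≤ H` be
subgroups of order `p` generating `H`, each the inertia subgroup of some height-one prime of `A`,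
such that every nontrivial inertia subgroup of a height-one prime of `A` is one of the `G_i`. Put
`G_i^⊥ =` the subgroup generated by the `G_j` with `j ≠ i`, and assume each invariant ring
`A^{G_i^⊥}` is a free `R`-module (the published statement asks them to be Cohen–Macaulay, which for
a finite algebra over the regular local ring `R` is the same). Then the subalgebras `A^{G_1^⊥}, …,
A^{G_n^⊥}` generate `A` over `R`. (The published conclusion is that the product map `A^{G_1^⊥} ⊗_R ⋯
⊗_R A^{G_n^⊥} → A` is an isomorphism; as each factor is then free of rank `p` and `A` has rank `p ^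
n` over `R`, that is equivalent to the generation statement given here. The published statement is
for `A` a complete regular local ring with an action ramified precisely at the origin, `R = k[[x_1,
…, x_n]]` a norm subring and `H` the Galois group of `Frac(A)/Frac(R)`, when that extension is
Galois; this row assumes only the hypotheses listed above.) -/
theorem result
    (p : ℕ) [Fact p.Prime] (R : Type u) [CommRing R] [IsRegularLocalRing R]
    (A : Type v) [CommRing A] [IsDomain A] [IsIntegrallyClosed A] [IsLocalRing A]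
    [Algebra R A] [Module.Finite R A] (hinj : Function.Injective (algebraMap R A))
    (hres : Function.Surjective (IsLocalRing.residue A ∘ algebraMap R A))
    (H : Type w) [Group H] [Finite H] [MulSemiringAction H A] [SMulCommClass H R A] [FaithfulSMul H A]
    (hfix : ∀ a : A, (∀ h : H, h • a = a) → a ∈ Set.range (algebraMap R A))
    (hcomm : ∀ g h : H, g * h = h * g)
    (n : ℕ) (hcard : Nat.card H = p ^ n) (Gi : Fin n → Subgroup H)
    (hGi : ∀ i, Nat.card (Gi i) = p) (hsup : (⨆ i, Gi i) = ⊤)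
    (hinert : ∀ i, ∃ P : Ideal A, P.IsPrime ∧ P.height = 1 ∧ P.inertia H = Gi i)
    (hMR3 : ∀ P : Ideal A, P.IsPrime → P.height = 1 → P.inertia H ≠ ⊥ → ∃ i, P.inertia H = Gi i)
    (hMR4 : ∀ i, Module.Free R
      (FixedPoints.subalgebra R A ↥(⨆ j ∈ (Finset.univ.erase i : Finset (Fin n)), Gi j : Subgroup H))) :
    (⨆ i, FixedPoints.subalgebra R A ↥(⨆ j ∈ (Finset.univ.erase i : Finset (Fin n)), Gi j : Subgroup H)) = ⊤ := by
  classical
  have hp : p.Prime := Fact.out
  haveI : IsDomain R := Groth.Agent.RegLoc.isDomain R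
  haveI : UniqueFactorizationMonoid R := Groth.Agent.RegLoc.ufd_of_isRegularLocalRing R
  haveI : Algebra.IsIntegral R A := Algebra.IsIntegral.of_finite R A
  haveI : IsNoetherianRing A := IsNoetherianRing.of_finite R A
  haveI := Ideal.bot_prime (α := R)
  -- generic point
  have hbot : ∀ P : Ideal A, P.IsPrime → P.comap (algebraMap R A) = ⊥ →
      P.inertia H = ⊥ ∨ ∃ l, P.inertia H = Gi l := fun P _ hP => by
    left
    rw [Ideal.eq_bot_of_comap_eq_bot hP, eq_bot_iff]
    intro σ hσ
    refine Subgroup.mem_bot.2 (eq_of_smul_eq_smul fun a : A => ?_)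
    rw [one_smul]
    exact sub_eq_zero.1 (Ideal.mem_bot.1 (hσ a))
  have hgood : ∀ j, ¬ Bad hcomm Gi R A (⊥ : Ideal R) j := fun j hb => by
    obtain ⟨P, hP, hPq, hPI⟩ := inertia_of_bad hcomm Gi hp hGi hcard hsup ⊥ hbot hb
    rw [Ideal.eq_bot_of_comap_eq_bot hPq] at hPI
    have h1 : (⊥ : Ideal A).inertia H = ⊥ := (hbot ⊥ Ideal.bot_prime (Ideal.comap_bot_of_injective _ hinj)).elim id
      fun ⟨l, _⟩ => eq_bot_iff.2 fun σ hσ => Subgroup.mem_bot.2 (eq_of_smul_eq_smul fun a : A => by
        rw [one_smul]; exact sub_eq_zero.1 (Ideal.mem_bot.1 (hσ a)))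
    rw [h1] at hPI
    have := hGi j
    rw [← hPI, Subgroup.card_bot] at this
    exact hp.ne_one this.symm
  -- bases
  haveI : ∀ i, Module.Free R (Af R A Gi i) := hMR4
  haveI : IsNoetherian R A := isNoetherian_of_isNoetherianRing_of_finite R A
  haveI : ∀ i, Module.Finite R (Af R A Gi i) := fun i =>
    Module.Finite.of_injective (Af R A Gi i).val.toLinearMap Subtype.val_injective
  let b := fun i => Module.Free.chooseBasis R (Af R A Gi i)
  let I := ∀ i, Module.Free.ChooseBasisIndex R (Af R A Gi i)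
  let v : I → A := fun f => ∏ i, ((b i (f i) : Af R A Gi i) : A)
  let φ : (I → R) →ₗ[R] A := Fintype.linearCombination R v
  have hv : ∀ f, v f ∈ LinearMap.range φ := fun f => ⟨Pi.single f 1, by simp [φ]⟩
  have hrange : (⨆ i, Af R A Gi i : Subalgebra R A).toSubmodule ≤ LinearMap.range φ := by
    let N : Subalgebra R A :=
      { carrier := {x | ∀ y ∈ LinearMap.range φ, x * y ∈ LinearMap.range φ}
        mul_mem' := fun {x x'} hx hx' y hy => by rw [mul_assoc]; exact hx _ (hx' y hy)
        add_mem' := fun {x x'} hx hx' y hy => by rw [add_mul]; exact add_mem (hx y hy) (hx' y hy)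
        algebraMap_mem' := fun r y hy => by rw [← Algebra.smul_def]; exact Submodule.smul_mem _ r hy }
    have hN : ∀ i, Af R A Gi i ≤ N := fun i x hx y hy => by
      obtain ⟨g, rfl⟩ := hy
      rw [show φ g = ∑ f, g f • v f from Fintype.linearCombination_apply R v g, Finset.mul_sum]
      refine Submodule.sum_mem _ fun f _ => ?_
      rw [mul_smul_comm]
      refine Submodule.smul_mem _ _ ?_
      set xb : Af R A Gi i := ⟨x, hx⟩ * b i (f i)
      have h1 : x * v f = (xb : A) * ∏ l ∈ univ.erase i, ((b l (f l) : Af R A Gi l) : A) := by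
        rw [show (xb : A) = x * ((b i (f i) : Af R A Gi i) : A) from rfl, mul_assoc]
        exact congrArg _ (Finset.mul_prod_erase univ _ (mem_univ i)).symm
      rw [h1, ← (b i).sum_repr xb, AddSubmonoidClass.coe_finsetSum, Finset.sum_mul]
      refine Submodule.sum_mem _ fun k _ => ?_
      rw [Subalgebra.coe_smul, smul_mul_assoc]
      refine Submodule.smul_mem _ _ ?_
      convert hv (Function.update f i k) using 1
      rw [show v (Function.update f i k) = _ from (Finset.mul_prod_erase univ _ (mem_univ i)).symm,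
        Function.update_self]
      congr 1
      refine Finset.prod_congr rfl fun l hl => ?_
      rw [Function.update_of_ne (mem_erase.1 hl).1]
    have h1 : (1 : A) ∈ LinearMap.range φ := by
      have h : (1 : A) = ∏ i, ∑ k, ((((b i).repr 1 k) • b i k : Af R A Gi i) : A) := by
        rw [eq_comm]
        refine Finset.prod_eq_one fun i _ => ?_
        rw [← AddSubmonoidClass.coe_finsetSum, (b i).sum_repr]; rfl
      rw [h, Fintype.prod_sum]
      refine Submodule.sum_mem _ fun f _ => ?_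
      simp only [Subalgebra.coe_smul, Finset.prod_smul]
      exact Submodule.smul_mem _ _ (hv f)
    intro x hx
    have := (iSup_le hN : (⨆ i, Af R A Gi i) ≤ N) hx 1 h1
    rwa [mul_one] at this
  have hrange' : LinearMap.range φ ≤ (⨆ i, Af R A Gi i : Subalgebra R A).toSubmodule := by
    rintro _ ⟨g, rfl⟩
    rw [show φ g = ∑ f, g f • v f from Fintype.linearCombination_apply R v g]
    exact Submodule.sum_mem _ fun f _ => Submodule.smul_mem _ _
      (Subalgebra.prod_mem _ fun i _ => le_iSup (Af R A Gi) i (b i (f i)).2)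
  have hI : Fintype.card I ≤ Nat.card H := by
    rw [hcard, Fintype.card_pi]
    calc _ ≤ ∏ _i : Fin n, p := Finset.prod_le_prod' fun i _ =>
          (card_basis_le hcomm Gi hinj hsup hfix (hgood i) (b i)).trans (hGi i).le
      _ = p ^ n := by simp
  have hgen : ∀ a : A, ∃ s : R, s ≠ 0 ∧ s • a ∈ LinearMap.range φ := fun a => by
    obtain ⟨s, hs, h⟩ := exists_smul_mem hcomm Gi hsup hfix ⊥
      (fun i j hi _ => absurd hi (hgood i)) a
    exact ⟨s, fun h0 => hs (h0 ▸ zero_mem _), hrange h⟩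
  have hφ : Function.Injective φ := kernel_zero hinj φ hI hgen
  refine eq_top_iff.2 fun a _ => hrange' ?_
  obtain ⟨s, hs, hsa⟩ := hgen a
  revert a
  induction s using UniqueFactorizationMonoid.induction_on_prime with
  | h₁ => exact absurd rfl hs
  | h₂ x hx =>
    intro a _ ha
    obtain ⟨u, rfl⟩ := hx
    simpa [← mul_smul] using Submodule.smul_mem _ ((u⁻¹ : Rˣ) : R) ha
  | h₃ s π hs0 hπ ih =>
    intro a _ ha
    refine ih hs0 a trivial ?_
    obtain ⟨f, hf⟩ := ha
    haveI : (Ideal.span {π}).IsPrime := (Ideal.span_singleton_prime hπ.ne_zero).2 hπ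
    have hq : ∀ P : Ideal A, P.IsPrime → P.comap (algebraMap R A) = Ideal.span {π} →
        P.inertia H = ⊥ ∨ ∃ l, P.inertia H = Gi l := fun P hP hPq => by
      haveI := hP
      by_cases h : P.inertia H = ⊥
      · exact Or.inl h
      · exact Or.inr (hMR3 P hP (height_eq_one hinj hπ P hPq) h)
    obtain ⟨t, ht, htg⟩ := exists_smul_mem hcomm Gi hsup hfix (Ideal.span {π})
      (fun i j => bad_unique hcomm Gi hp hGi hcard hsup hfix _ hq) (s • a)
    obtain ⟨g, hg⟩ := hrange htg
    have heq : π • g = t • f := hφ (by rw [map_smul, map_smul, hg, hf]; simp only [smul_smul]; congr 1; ring)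
    have hdvd : ∀ i, π ∣ f i := fun i => by
      have := congrFun heq i
      simp only [Pi.smul_apply, smul_eq_mul] at this
      exact (hπ.dvd_or_dvd ⟨g i, this.symm⟩).resolve_left fun h => ht (Ideal.mem_span_singleton.2 h)
    choose f' hf' using hdvd
    refine ⟨f', ?_⟩
    have h1 : π • φ f' = π • (s • a) := by
      rw [← map_smul, smul_smul, ← hf]
      exact congrArg φ (funext fun i => by simp [hf' i])
    rw [Algebra.smul_def, Algebra.smul_def π (s • a)] at h1
    exact mul_left_cancel₀ (fun h => hπ.ne_zero (hinj (h.trans (map_zero _).symm))) h1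

end Groth.Agent.S15812
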