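import Groth.Statements.S15813
import Mathlib.RingTheory.PowerSeries.Inverse
import Mathlib.Algebra.CharP.Algebra
import Mathlib.Algebra.CharP.Lemmas
import Mathlib.Tactic.LinearCombination

set_option autoImplicit false
universe u
open WildQuot

namespace Groth.Agent.S15813

/-- Let `k` be a field of characteristic `p > 0`, `A = k[[u]]`, and `σ` a `k`-algebra automorphism of
`A` of order exactly `p`, with ramification break `m`: `σ u - u` has order `m + 1`. Let `x = ∏_{i <
p} σ^i u` be the norm of `u`, let `f ∈ A` be `σ`-invariant with nonzero constant term (a unit of the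
invariant ring `k[[x]]`), let `μ > 0` be prime to `p`, and let `z ∈ Frac(A)` satisfy the
Artin–Schreier equation `z ^ p - z = f / x ^ μ`. Then `μ = m`. (The published statement also records
that `Frac(A) = Frac(A^σ)(z)`; that follows from the equation since `p` does not divide `μ`, so it
is not repeated as a hypothesis.) -/
theorem result
    (p : ℕ) [Fact p.Prime] (k : Type u) [Field k] [CharP k p]
    (σ : PowerSeries k ≃ₐ[k] PowerSeries k) (hσp : σ ^ p = 1) (hσ1 : σ ≠ 1)
    (m : ℕ) (hm : (σ PowerSeries.X - PowerSeries.X).order = ((m + 1 : ℕ) : ℕ∞))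
    (f : PowerSeries k) (hfσ : σ f = f) (hf0 : PowerSeries.constantCoeff f ≠ 0)
    (μ : ℕ) (hμ : 0 < μ) (hpμ : ¬ p ∣ μ)
    (z : FractionRing (PowerSeries k))
    (hz : z ^ p - z = algebraMap (PowerSeries k) (FractionRing (PowerSeries k)) f /
      algebraMap (PowerSeries k) (FractionRing (PowerSeries k))
        (∏ i ∈ Finset.range p, (σ ^ i) PowerSeries.X) ^ μ) :
    μ = m := by
  classical
  have hp : p.Prime := Fact.out
  set u : PowerSeries k := PowerSeries.X with hu
  haveI : CharP (PowerSeries k) p := charP_of_injective_ringHom PowerSeries.C_injective p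
  -- σ u = u (1 + u^m e)
  obtain ⟨e, he⟩ : u ^ (m + 1) ∣ σ u - u := by
    refine PowerSeries.X_pow_dvd_iff.mpr fun i hi => PowerSeries.coeff_of_lt_order i ?_
    rw [hm]; exact_mod_cast hi
  have he0 : PowerSeries.constantCoeff e ≠ 0 := by
    have h1 : PowerSeries.coeff (m + 1) (σ u - u) ≠ 0 := by
      have h := PowerSeries.coeff_order (show σ u - u ≠ 0 from fun h0 => by
        rw [hu] at h0; rw [h0, PowerSeries.order_zero] at hm; exact absurd hm (ENat.top_ne_natCast _))
      rw [hu] at h ⊢
      rw [hm, ENat.toNat_natCast] at h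
      exact h
    rw [he] at h1
    rw [hu] at h1
    have h2 := PowerSeries.coeff_X_pow_mul e (m + 1) 0
    rw [zero_add] at h2
    rw [h2] at h1
    simpa using h1
  have hσu : σ u = u * (1 + u ^ m * e) := by linear_combination he
  -- the break is positive
  have hm0 : 0 < m := by
    rcases Nat.eq_zero_or_pos m with rfl | h
    · exfalso
      set c : k := 1 + PowerSeries.constantCoeff e with hc
      have hpow : ∀ n : ℕ, ∃ g : PowerSeries k, (σ ^ n) u = u * g ∧ PowerSeries.constantCoeff g = c ^ n := by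
        intro n
        induction n with
        | zero => exact ⟨1, by simp, by simp⟩
        | succ n ih =>
          obtain ⟨g, hg, hg0⟩ := ih
          refine ⟨(1 + e) * σ g, ?_, ?_⟩
          · rw [pow_succ', AlgEquiv.mul_apply, hg, map_mul, hσu, pow_zero, one_mul, mul_assoc]
          · have : ∀ g : PowerSeries k, PowerSeries.constantCoeff (σ g) = PowerSeries.constantCoeff g := by
              intro g
              obtain ⟨r, hr⟩ : u ∣ g - PowerSeries.C (PowerSeries.constantCoeff g) :=
                PowerSeries.X_dvd_iff.mpr (by simp)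
              rw [sub_eq_iff_eq_add] at hr
              conv_lhs => rw [hr]
              rw [map_add, map_mul, hσu, show PowerSeries.C (PowerSeries.constantCoeff g) =
                algebraMap k (PowerSeries k) (PowerSeries.constantCoeff g) from rfl, σ.commutes]
              simp [hu]
            rw [map_mul, this, hg0, pow_succ', hc]; simp
      obtain ⟨g, hg, hg0⟩ := hpow p
      rw [hσp, AlgEquiv.one_apply] at hg
      have hg1 : g = 1 := mul_left_cancel₀ (PowerSeries.X_ne_zero) (hg.symm.trans (mul_one u).symm)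
      rw [hg1, map_one] at hg0
      have : (c - 1) ^ p = 0 := by rw [sub_pow_char, one_pow, ← hg0, sub_self]
      exact he0 (by simpa [hc] using eq_zero_of_pow_eq_zero this)
    · exact h
  -- σ r ≡ r mod u^(m+1)
  have hcong : ∀ j, j ≤ m + 1 → ∀ r : PowerSeries k, u ^ j ∣ σ r - r := by
    intro j
    induction j with
    | zero => intro _ r; simp
    | succ j ih =>
      intro hj r
      obtain ⟨r', hr⟩ : u ∣ r - PowerSeries.C (PowerSeries.constantCoeff r) :=
        PowerSeries.X_dvd_iff.mpr (by simp)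
      rw [sub_eq_iff_eq_add] at hr
      have : σ r - r = (σ u - u) * σ r' + u * (σ r' - r') := by
        rw [hr, map_add, map_mul, show PowerSeries.C (PowerSeries.constantCoeff r) =
          algebraMap k (PowerSeries k) (PowerSeries.constantCoeff r) from rfl, σ.commutes]
        ring
      rw [this]
      refine dvd_add (Dvd.dvd.mul_right ?_ _) ?_
      · rw [he]; exact Dvd.dvd.mul_right (pow_dvd_pow u hj) _
      · rw [pow_succ']; exact mul_dvd_mul_left u (ih (by omega) r')
  -- first order expansion
  have hexp : ∀ (n : ℕ) (α : PowerSeries k), ∃ q, σ (u ^ n * α) =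
      u ^ n * α + u ^ (n + m) * ((n : PowerSeries k) * e * α) + u ^ (n + m + 1) * q := by
    intro n α
    have h1 : ∀ n : ℕ, ∃ q, (1 + u ^ m * e) ^ n = 1 + (n : PowerSeries k) * u ^ m * e + u ^ (m + 1) * q := by
      intro n
      induction n with
      | zero => exact ⟨0, by simp⟩
      | succ n ih =>
        obtain ⟨q, hq⟩ := ih
        refine ⟨q * (1 + u ^ m * e) + (n : PowerSeries k) * u ^ (m - 1) * e * e, ?_⟩
        have : u ^ (m + 1) * u ^ (m - 1) = u ^ m * u ^ m := by
          rw [← pow_add, ← pow_add]; congr 1; omega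
        rw [pow_succ, hq]; push_cast
        linear_combination -((n : PowerSeries k) * e * e) * this
    obtain ⟨q, hq⟩ := h1 n
    obtain ⟨r, hr⟩ := hcong (m + 1) le_rfl α
    rw [sub_eq_iff_eq_add] at hr
    refine ⟨q * α + (1 + u ^ m * e) ^ n * r, ?_⟩
    rw [map_mul, map_pow, hσu, mul_pow, hr, pow_add, pow_add, pow_add]
    rw [hq]; ring
  -- orders
  have hord : ∀ (n : ℕ) (η : PowerSeries k), PowerSeries.constantCoeff η ≠ 0 →
      (u ^ n * η).order = (n : ℕ∞) := fun n η hη => by
    rw [PowerSeries.order_mul, PowerSeries.order_X_pow, PowerSeries.order_zero_of_unit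
      (PowerSeries.isUnit_iff_constantCoeff.mpr (isUnit_iff_ne_zero.mpr hη)), add_zero]
  have hfac : ∀ a : PowerSeries k, a ≠ 0 →
      ∃ (n : ℕ) (α : PowerSeries k), a = u ^ n * α ∧ PowerSeries.constantCoeff α ≠ 0 := fun a ha => by
    refine ⟨a.order.toNat, a.divXPowOrder, (PowerSeries.X_pow_order_mul_divXPowOrder).symm, ?_⟩
    simpa [PowerSeries.constantCoeff_divXPowOrder_eq_zero_iff] using ha
  -- the norm
  set x : PowerSeries k := ∏ i ∈ Finset.range p, (σ ^ i) u with hxdef
  have hσx : σ x = x := by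
    rw [hxdef, map_prod]
    simp only [← AlgEquiv.mul_apply, ← pow_succ']
    have h1 := Finset.prod_range_succ' (fun i => (σ ^ i) u) p
    rw [Finset.prod_range_succ, hσp, ← pow_zero σ] at h1
    exact mul_right_cancel₀ (show (σ ^ 0) u ≠ 0 by simp [hu, PowerSeries.X_ne_zero]) h1.symm
  obtain ⟨ξ, hx, hξ0⟩ : ∃ ξ, x = u ^ p * ξ ∧ PowerSeries.constantCoeff ξ ≠ 0 := by
    have h1 : ∀ i : ℕ, ∃ g, (σ ^ i) u = u * g ∧ PowerSeries.constantCoeff g = 1 := by
      intro i
      induction i with
      | zero => exact ⟨1, by simp, by simp⟩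
      | succ i ih =>
        obtain ⟨g, hg, hg0⟩ := ih
        obtain ⟨r, hr⟩ := hcong (m + 1) le_rfl g
        rw [sub_eq_iff_eq_add] at hr
        refine ⟨(1 + u ^ m * e) * σ g, by rw [pow_succ', AlgEquiv.mul_apply, hg, map_mul, hσu, mul_assoc], ?_⟩
        rw [hr]; simp [hu, hg0, zero_pow hm0.ne']
    choose g hg hg0 using h1
    refine ⟨∏ i ∈ Finset.range p, g i, ?_, ?_⟩
    · simp only [hxdef, hg, Finset.prod_mul_distrib, Finset.prod_const, Finset.card_range]
    · simp [map_prod, hg0]
  have hx0 : x ≠ 0 := by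
    rw [hx]
    exact mul_ne_zero (pow_ne_zero _ PowerSeries.X_ne_zero) fun h => hξ0 (by rw [h, map_zero])
  -- clear denominators
  obtain ⟨a, b, hb, rfl⟩ := IsFractionRing.div_surjective (PowerSeries k) z
  have hb0 : b ≠ 0 := nonZeroDivisors.ne_zero hb
  have hinj := IsFractionRing.injective (PowerSeries k) (FractionRing (PowerSeries k))
  have hbK := (map_ne_zero_iff _ hinj).mpr hb0
  have heq : (a ^ p - a * b ^ (p - 1)) * x ^ μ = f * b ^ p := by
    apply hinj
    have hxK := (map_ne_zero_iff _ hinj).mpr hx0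
    have hbp : algebraMap (PowerSeries k) (FractionRing (PowerSeries k)) b ^ (p - 1) *
        algebraMap (PowerSeries k) (FractionRing (PowerSeries k)) b =
        algebraMap (PowerSeries k) (FractionRing (PowerSeries k)) b ^ p := by
      rw [← pow_succ, Nat.sub_add_cancel hp.one_le]
    rw [div_pow] at hz
    simp only [map_mul, map_sub, map_pow]
    field_simp at hz
    rw [← mul_left_inj' hbK]
    linear_combination hz - (algebraMap (PowerSeries k) (FractionRing (PowerSeries k)) a *
      algebraMap (PowerSeries k) (FractionRing (PowerSeries k)) x ^ μ) * hbp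
  have hf' : f ≠ 0 := fun h => hf0 (by rw [h, map_zero])
  have ha0 : a ≠ 0 := fun h => by
    rw [h, zero_pow hp.ne_zero, zero_mul, sub_zero, zero_mul] at heq
    exact mul_ne_zero hf' (pow_ne_zero _ hb0) heq.symm
  obtain ⟨i, α, ha, hα⟩ := hfac a ha0
  obtain ⟨j, β, hbe, hβ⟩ := hfac b hb0
  have hf1 : f.order = 0 :=
    PowerSeries.order_zero_of_unit (PowerSeries.isUnit_iff_constantCoeff.mpr (isUnit_iff_ne_zero.mpr hf0))
  have hxo : (x ^ μ).order = ((p * μ : ℕ) : ℕ∞) := by
    rw [hx, mul_pow, ← pow_mul]; exact hord _ _ (by simp [hξ0])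
  have hrhs : (f * b ^ p).order = ((j * p : ℕ) : ℕ∞) := by
    rw [PowerSeries.order_mul, hf1, zero_add, hbe, mul_pow, ← pow_mul]
    exact hord _ _ (by simp [hβ])
  have hij : j = i + μ := by
    have ho := congrArg PowerSeries.order heq
    rw [PowerSeries.order_mul, hxo, hrhs] at ho
    rcases lt_or_ge i j with hlt | hge
    · have hp' : i * p < i + j * (p - 1) := by
        obtain ⟨q, rfl⟩ := Nat.exists_eq_add_of_le hp.two_le
        simp only [show 2 + q - 1 = q + 1 by omega]; nlinarith
      have : a ^ p - a * b ^ (p - 1) = u ^ (i * p) *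
          (α ^ p - u ^ (i + j * (p - 1) - i * p) * (α * β ^ (p - 1))) := by
        rw [ha, hbe, mul_sub, ← mul_assoc, ← pow_add, Nat.add_sub_cancel' hp'.le, mul_pow, mul_pow,
          ← pow_mul, ← pow_mul, pow_add]
        ring
      rw [this, hord _ _ (by simp [hu, hα, zero_pow (Nat.sub_ne_zero_of_lt hp')])] at ho
      have ho' : i * p + p * μ = j * p := by exact_mod_cast ho
      exact (Nat.eq_of_mul_eq_mul_right hp.pos (by rw [← ho']; ring)).symm
    · exfalso
      have hdvd : u ^ (j * p) ∣ a ^ p - a * b ^ (p - 1) := by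
        refine dvd_sub ?_ ?_
        · rw [ha, mul_pow, ← pow_mul]; exact Dvd.dvd.mul_right (pow_dvd_pow u (Nat.mul_le_mul_right p hge)) _
        · rw [ha, hbe, mul_pow, ← pow_mul, show u ^ i * α * (u ^ (j * (p - 1)) * β ^ (p - 1)) =
            u ^ (i + j * (p - 1)) * (α * β ^ (p - 1)) by rw [pow_add]; ring]
          refine Dvd.dvd.mul_right (pow_dvd_pow u ?_) _
          obtain ⟨q, rfl⟩ := Nat.exists_eq_add_of_le hp.one_le
          simp only [Nat.add_sub_cancel_left]; nlinarith
      have hle : ((j * p : ℕ) : ℕ∞) ≤ (a ^ p - a * b ^ (p - 1)).order :=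
        PowerSeries.nat_le_order _ _ fun t ht => PowerSeries.X_pow_dvd_iff.mp hdvd t ht
      have h2 : ((j * p : ℕ) : ℕ∞) + ((p * μ : ℕ) : ℕ∞) ≤ ((j * p : ℕ) : ℕ∞) :=
        (add_le_add_left hle _).trans ho.le
      have h3 : j * p + p * μ ≤ j * p := by exact_mod_cast h2
      have := Nat.mul_pos hp.pos hμ
      omega
  -- compare with the conjugate root
  set N := σ a * b - a * σ b with hN
  set D := σ b * b with hD
  have hND : N ^ p = N * D ^ (p - 1) := by
    have heq' := congrArg σ heq
    simp only [map_mul, map_sub, map_pow, hσx, hfσ] at heq'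
    have h1 : (σ a ^ p - σ a * σ b ^ (p - 1)) * b ^ p = (a ^ p - a * b ^ (p - 1)) * σ b ^ p :=
      mul_right_cancel₀ (pow_ne_zero μ hx0) (by linear_combination b ^ p * heq' - σ b ^ p * heq)
    have hb1 : b ^ (p - 1) * b = b ^ p := by rw [← pow_succ, Nat.sub_add_cancel hp.one_le]
    have hb2 : σ b ^ (p - 1) * σ b = σ b ^ p := by rw [← pow_succ, Nat.sub_add_cancel hp.one_le]
    rw [hN, hD, sub_pow_char, mul_pow, mul_pow, mul_pow]
    linear_combination h1 - σ a * σ b ^ (p - 1) * hb1 + a * b ^ (p - 1) * hb2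
  obtain ⟨qa, hqa⟩ := hexp i α
  obtain ⟨qb, hqb⟩ := hexp j β
  have hNe : N = u ^ (i + j + m) *
      (((i : PowerSeries k) - (j : PowerSeries k)) * e * α * β + u * (qa * β - α * qb)) := by
    rw [hN, ha, hbe, hqa, hqb]
    simp only [pow_add, pow_one]; ring
  have hNord : N.order = ((i + j + m : ℕ) : ℕ∞) := by
    rw [hNe]
    refine hord _ _ ?_
    have hne : (i : k) - (j : k) ≠ 0 := by
      rw [hij, Nat.cast_add, sub_add_cancel_left, neg_ne_zero]
      exact fun h => hpμ ((CharP.cast_eq_zero_iff k p μ).mp h)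
    simp [hu, hne, he0, hα, hβ]
  have hDord : D.order = ((j + j : ℕ) : ℕ∞) := by
    have h1 : D = u ^ (j + j) *
        ((β + u ^ m * ((j : PowerSeries k) * e * β) + u ^ (m + 1) * qb) * β) := by
      rw [hD, hbe, hqb]; simp only [pow_add, pow_one]; ring
    rw [h1]
    exact hord _ _ (by simp [hu, hβ, zero_pow hm0.ne'])
  have hN0 : N ≠ 0 := fun h => by
    rw [h, PowerSeries.order_zero] at hNord; exact ENat.top_ne_natCast _ hNord
  have hpow : N ^ (p - 1) = D ^ (p - 1) :=
    mul_left_cancel₀ hN0 (by rw [← hND, ← pow_succ', Nat.sub_add_cancel hp.one_le])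
  have ho := congrArg PowerSeries.order hpow
  rw [PowerSeries.order_pow, PowerSeries.order_pow, hNord, hDord] at ho
  have ho' : (p - 1) * (i + j + m) = (p - 1) * (j + j) := by
    simp only [nsmul_eq_mul] at ho; exact_mod_cast ho
  have := Nat.eq_of_mul_eq_mul_left (Nat.sub_pos_of_lt hp.one_lt) ho'
  omega

end Groth.Agent.S15813
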