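import Groth.Statements.S15814
import Groth.Agent.Lib.TensorFreeH28.Basic

set_option autoImplicit false
universe u v w
open WildQuot

namespace Groth.Agent.S15814

/-- Let `R` be a regular local ring and `A` a regular local ring, finite over `R` (with `R → A`
injective) and with the same residue field; let a finite commutative group `H` of order `p ^ n` (`p`
prime) act faithfully on `A` by `R`-algebra automorphisms with ring of invariants exactly `R`, and
let `G_1, …, G_n ≤ H` be subgroups of order `p` generating `H`, each the inertia subgroup of some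
height-one prime of `A`. Put `G_i^⊥ =` the subgroup generated by the `G_j` with `j ≠ i` and `B_i =
A^{G_i^⊥}`. Suppose `A` is the coproduct of the `R`-algebras `B_1, …, B_n`: every family of
`R`-algebra maps `B_i → C` into a commutative `R`-algebra `C` is the restriction of a unique
`R`-algebra map `A → C` (that is, the product map `B_1 ⊗_R ⋯ ⊗_R B_n → A` is an isomorphism). Then
every `B_i` is a free `R`-module and a regular local ring. (The published statement is for `A`
complete regular with an action ramified precisely at the origin, `R` a norm subring and `H` the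
Galois group of `Frac(A)/Frac(R)`, when that extension is Galois, and adds that the branch-locus
equations `a_1, …, a_n` of the `B_i` over `R` form a system of parameters of `R`; that last clause
is not included, and the test algebras `C` are taken in one universe large enough to contain the
tensor product.) -/
theorem result
    (p : ℕ) [Fact p.Prime] (R : Type u) [CommRing R] [IsRegularLocalRing R]
    (A : Type v) [CommRing A] [IsRegularLocalRing A]
    [Algebra R A] [Module.Finite R A] (hinj : Function.Injective (algebraMap R A))
    (hres : Function.Surjective (IsLocalRing.residue A ∘ algebraMap R A))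
    (H : Type w) [Group H] [Finite H] [MulSemiringAction H A] [SMulCommClass H R A] [FaithfulSMul H A]
    (hfix : ∀ a : A, (∀ h : H, h • a = a) → a ∈ Set.range (algebraMap R A))
    (hcomm : ∀ g h : H, g * h = h * g)
    (n : ℕ) (hcard : Nat.card H = p ^ n) (Gi : Fin n → Subgroup H)
    (hGi : ∀ i, Nat.card (Gi i) = p) (hsup : (⨆ i, Gi i) = ⊤)
    (hinert : ∀ i, ∃ P : Ideal A, P.IsPrime ∧ P.height = 1 ∧ P.inertia H = Gi i)
    (hcoprod : ∀ (C : Type (max u v)) [CommRing C] [Algebra R C]
      (φ : ∀ i : Fin n,
        FixedPoints.subalgebra R A ↥(⨆ j ∈ (Finset.univ.erase i : Finset (Fin n)), Gi j : Subgroup H) →ₐ[R] C),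
      ∃! ψ : A →ₐ[R] C, ∀ i
        (x : FixedPoints.subalgebra R A ↥(⨆ j ∈ (Finset.univ.erase i : Finset (Fin n)), Gi j : Subgroup H)),
        ψ x = φ i x) :
    ∀ i, Module.Free R
        (FixedPoints.subalgebra R A ↥(⨆ j ∈ (Finset.univ.erase i : Finset (Fin n)), Gi j : Subgroup H)) ∧
      IsRegularLocalRing
        (FixedPoints.subalgebra R A ↥(⨆ j ∈ (Finset.univ.erase i : Finset (Fin n)), Gi j : Subgroup H)) := by
  intro i
  classical
  have := RegLoc.isDomain R
  have := TensorFreeH28.free_of_finite_regular R A hinj
  let B : Fin n → Subalgebra R A := fun i =>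
    FixedPoints.subalgebra R A ↥(⨆ j ∈ (Finset.univ.erase i : Finset (Fin n)), Gi j : Subgroup H)
  have hgen : ⨆ i, B i = ⊤ := by
    set S := ⨆ i, B i with hS
    have hle : ∀ i, B i ≤ S := fun i => le_iSup B i
    obtain ⟨ψ₁, hψ₁, -⟩ := hcoprod (ULift.{u} S)
      (fun i => (ULift.algEquiv (R := R) (A := S)).symm.toAlgHom.comp (Subalgebra.inclusion (hle i)))
    obtain ⟨ψ₀, -, huniq⟩ := hcoprod (ULift.{u} A)
      (fun i => (ULift.algEquiv (R := R) (A := A)).symm.toAlgHom.comp (B i).val)
    have h1 := huniq (ULift.algEquiv (R := R) (A := A)).symm.toAlgHom (fun i x => rfl)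
    have h2 := huniq (((ULift.algEquiv (R := R) (A := A)).symm.toAlgHom.comp S.val).comp
      ((ULift.algEquiv (R := R) (A := S)).toAlgHom.comp ψ₁)) (fun i x => by
        simp only [AlgHom.comp_apply, hψ₁ i x]
        rfl)
    rw [eq_top_iff]
    intro a _
    have h3 := congrArg ULift.down (DFunLike.congr_fun (h2.trans h1.symm) a)
    simp at h3
    rw [← h3]
    exact SetLike.coe_mem _
  obtain ⟨ψ, hψ, -⟩ := hcoprod (PiTensorProduct R (fun i => B i))
    (fun i => PiTensorProduct.singleAlgHom (R := R) (A := fun i => B i) i)
  obtain ⟨hf, hfA⟩ := TensorFreeH28.free_of_tensor B hgen ψ hψ i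
  refine ⟨hf, ?_⟩
  obtain ⟨hloc, hlh⟩ := TensorFreeH28.isLocalRing_subalgebra (B i)
  have := hfA
  have : IsNoetherianRing (B i) := by
    have : Module.Finite R (B i) :=
      Module.Finite.of_injective (B i).val.toLinearMap Subtype.val_injective
    exact IsNoetherianRing.of_finite R (B i)
  exact RegLoc.isRegularLocalRing_of_flat (B i) A

end Groth.Agent.S15814
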