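import Groth.Statements.S15817
import Mathlib
import Groth.Agent.Lib.Compl.Complete

set_option autoImplicit false
universe u v
open CategoryTheory
open CAlg

namespace Groth.Agent.S15817
open CategoryTheory

/-- Let A be a commutative ring, M an A-module and P, Q submodules of M. Then the commuting square of
quotient projections with corners M/(P ∩ Q), M/P, M/Q and M/(P + Q) is cartesian in the category of
A-modules: M/(P ∩ Q) is the fibre product of M/P and M/Q over M/(P + Q). -/
theorem result (A : Type u) [CommRing A] (M : Type v) [AddCommGroup M] [Module A M]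
    (P Q : Submodule A M) :
    IsPullback (ModuleCat.ofHom (Submodule.factor (inf_le_left : P ⊓ Q ≤ P)))
      (ModuleCat.ofHom (Submodule.factor (inf_le_right : P ⊓ Q ≤ Q)))
      (ModuleCat.ofHom (Submodule.factor (le_sup_left : P ≤ P ⊔ Q)))
      (ModuleCat.ofHom (Submodule.factor (le_sup_right : Q ≤ P ⊔ Q))) := by
  refine IsPullback.of_map (forget (ModuleCat.{v} A)) ?_ ?_
  · ext x
    rfl
  rw [Limits.Types.isPullback_iff]
  refine ⟨?_, ?_, ?_⟩
  · rw [← Functor.map_comp, ← Functor.map_comp]
    congr 1
    ext x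
    rfl
  · intro x y hxy
    obtain ⟨x, rfl⟩ := Submodule.Quotient.mk_surjective (P ⊓ Q) x
    obtain ⟨y, rfl⟩ := Submodule.Quotient.mk_surjective (P ⊓ Q) y
    exact (Submodule.Quotient.eq _).2 ⟨(Submodule.Quotient.eq P).1 hxy.1, (Submodule.Quotient.eq Q).1 hxy.2⟩
  · intro x y hxy
    obtain ⟨x, rfl⟩ := Submodule.Quotient.mk_surjective P x
    obtain ⟨y, rfl⟩ := Submodule.Quotient.mk_surjective Q y
    obtain ⟨p, hp, q, hq, hpq⟩ := Submodule.mem_sup.1 ((Submodule.Quotient.eq (P ⊔ Q)).1 hxy)
    refine ⟨Submodule.Quotient.mk (x - p), (Submodule.Quotient.eq P).2 ?_, (Submodule.Quotient.eq Q).2 ?_⟩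
    · simpa using hp
    · show x - p - y ∈ Q
      have e : p + q = x - y := hpq
      rw [show x - p - y = q by rw [sub_right_comm, ← e]; abel]
      exact hq

end Groth.Agent.S15817
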