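import Groth.Statements.S15816
import Mathlib
import Groth.Agent.S15817
import Groth.Agent.S15821
import Groth.Agent.Lib.CI2.KoszulScale

set_option autoImplicit false
universe u
open CategoryTheory
open scoped TensorProduct
open Koszul

namespace Groth.Agent.S15816
open CategoryTheory CategoryTheory.Limits
open scoped TensorProduct

/-- Let A be a commutative ring, f = (f_1, …, f_n) a sequence in A that is regular in the weak sense
(f_1 is a non-zero-divisor of A and each f_i is a non-zero-divisor modulo (f_1, …, f_{i-1})), with
Koszul complex K(f) and differentials ∂^q, and let x be a non-zero-divisor of A. Then for every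
integer q < 0 the q-th cohomology module of the Koszul complex of (x f_1, …, x f_n) is isomorphic as
an A-module to Ker(∂^q) ⊗_A A/(x) (existence of an A-linear isomorphism; mapping-cone model of the
Koszul complex). -/
theorem result (A : Type u) [CommRing A] (l : List A)
    (hl : RingTheory.Sequence.IsWeaklyRegular A l) (x : A) (hx : x ∈ nonZeroDivisors A) (q : ℤ) (hq : q < 0) :
    Nonempty ((Koszul.koszul A (l.map (fun f => x * f))).homology q ≅
      ModuleCat.of A (↥(LinearMap.ker ((Koszul.koszul A l).d q (q + 1)).hom) ⊗[A] (A ⧸ Ideal.span {x}))) := by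
  obtain ⟨e⟩ := Groth.Agent.CI2.KoszulScale.homology_iso l x hx q
  have h0 := (Groth.Agent.S15821.result A l hl).1 q hq.ne
  rw [← HomologicalComplex.exactAt_iff_isZero_homology,
    HomologicalComplex.exactAt_iff' _ (q - 1) q (q + 1) (by simp) (by simp),
    ShortComplex.moduleCat_exact_iff_ker_sub_range] at h0
  set Z := LinearMap.ker ((Koszul.koszul A l).d q (q + 1)).hom
  set B := LinearMap.range ((Koszul.koszul A l).d (q - 1) q).hom
  have hBZ : B = Z := by
    refine le_antisymm ?_ h0
    rintro _ ⟨y, rfl⟩
    exact LinearMap.congr_fun (congrArg ModuleCat.Hom.hom ((Koszul.koszul A l).d_comp_d (q - 1) q (q + 1))) y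
  have hc : Submodule.comap Z.subtype (Ideal.span {x} • B) = Ideal.span {x} • (⊤ : Submodule A Z) := by
    apply Submodule.map_injective_of_injective Z.subtype_injective
    rw [Submodule.map_comap_eq, Submodule.map_smul'', Submodule.map_top, Submodule.range_subtype, hBZ]
    exact inf_eq_right.mpr Submodule.smul_le_right
  exact ⟨e ≪≫ (Submodule.quotEquivOfEq _ _ hc ≪≫ₗ (TensorProduct.tensorQuotEquivQuotSMul Z (Ideal.span {x})).symm).toModuleIso⟩

end Groth.Agent.S15816
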