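import Groth.Statements.S4628
import Mathlib.AlgebraicGeometry.Geometrically.Reduced
import Mathlib.RingTheory.Flat.Basic
import Mathlib.RingTheory.FiniteType
import Mathlib.AlgebraicGeometry.Properties


set_option autoImplicit false
open CategoryTheory AlgebraicGeometry
universe u
set_option linter.style.haveILetI false
open FBase

namespace Groth.Agent.S4628

open CategoryTheory.Limits in
/-- Let X be a scheme over a field k which is geometrically reduced (X ⊗_k K is reduced for every
extension field K of k), and let S be any reduced scheme over k. Then the product X ×_k S is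
reduced. (No Noetherian or finiteness assumption on S.) -/
theorem result {k : Type u} [Field k] {X S : Scheme.{u}}
    (f : X ⟶ Spec (CommRingCat.of k)) (g : S ⟶ Spec (CommRingCat.of k)) [GeometricallyReduced f]
    [AlgebraicGeometry.IsReduced S] : AlgebraicGeometry.IsReduced (pullback f g) := by
  have key : ∀ (U : X.affineOpens) (V : S.affineOpens),
      AlgebraicGeometry.IsReduced (pullback (U.1.ι ≫ f) (V.1.ι ≫ g)) := by
    intro U V
    haveI : IsAffine (U.1 : Scheme) := U.2
    haveI : IsAffine (V.1 : Scheme) := V.2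
    obtain ⟨φ, hφ⟩ : ∃ φ, U.1.toScheme.isoSpec.inv ≫ U.1.ι ≫ f = Spec.map φ :=
      ⟨Spec.preimage _, (Spec.map_preimage _).symm⟩
    obtain ⟨ψ, hψ⟩ : ∃ ψ, V.1.toScheme.isoSpec.inv ≫ V.1.ι ≫ g = Spec.map ψ :=
      ⟨Spec.preimage _, (Spec.map_preimage _).symm⟩
    letI : Algebra k Γ(U.1.toScheme, ⊤) := φ.hom.toAlgebra
    letI : Algebra k Γ(V.1.toScheme, ⊤) := ψ.hom.toAlgebra
    haveI : _root_.IsReduced Γ(V.1.toScheme, ⊤) := inferInstance
    haveI : _root_.IsReduced (TensorProduct k Γ(U.1.toScheme, ⊤) Γ(V.1.toScheme, ⊤)) := by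
      refine IsReduced.tensorProduct_of_flat_of_forall_fg fun D hD => ?_
      haveI : Algebra.FiniteType k D := (Subalgebra.fg_iff_finiteType D).1 hD
      haveI : IsNoetherianRing D := Algebra.FiniteType.isNoetherianRing k D
      haveI : _root_.IsReduced D := isReduced_of_injective D.val Subtype.val_injective
      let j : Spec (.of Γ(U.1.toScheme, ⊤)) ⟶ X := U.1.toScheme.isoSpec.inv ≫ U.1.ι
      let a : Spec (.of Γ(U.1.toScheme, ⊤)) ⟶ Spec (.of k) :=
        Spec.map (CommRingCat.ofHom (algebraMap k Γ(U.1.toScheme, ⊤)))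
      let b : Spec (.of D) ⟶ Spec (.of k) := Spec.map (CommRingCat.ofHom (algebraMap k D))
      have ha : a = j ≫ f := by rw [Category.assoc]; exact hφ.symm
      haveI : AlgebraicGeometry.IsReduced (pullback (j ≫ f) b) :=
        isReduced_of_isOpenImmersion
          (pullback.map (j ≫ f) b f b j (𝟙 _) (𝟙 _) (by simp) (by simp))
      haveI : AlgebraicGeometry.IsReduced (pullback a b) := by rw [ha]; infer_instance
      haveI : AlgebraicGeometry.IsReduced (Spec (.of (TensorProduct k Γ(U.1.toScheme, ⊤) D))) :=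
        isReduced_of_isOpenImmersion (pullbackSpecIso k Γ(U.1.toScheme, ⊤) D).inv
      exact (affine_isReduced_iff (.of (TensorProduct k Γ(U.1.toScheme, ⊤) D))).1 inferInstance
    haveI : AlgebraicGeometry.IsReduced
        (pullback (Spec.map φ) (Spec.map ψ)) :=
      isReduced_of_isOpenImmersion
        (pullbackSpecIso k Γ(U.1.toScheme, ⊤) Γ(V.1.toScheme, ⊤)).hom
    refine isReduced_of_isOpenImmersion (pullback.map (U.1.ι ≫ f) (V.1.ι ≫ g) (Spec.map φ) (Spec.map ψ)
      U.1.toScheme.isoSpec.hom V.1.toScheme.isoSpec.hom (𝟙 _) ?_ ?_)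
    · rw [Category.comp_id, ← hφ, Iso.hom_inv_id_assoc]
    · rw [Category.comp_id, ← hψ, Iso.hom_inv_id_assoc]
  haveI : ∀ p : ↥(pullback f g), ∃ (W : Scheme.{u}) (i : W ⟶ pullback f g) (_ : IsOpenImmersion i),
      AlgebraicGeometry.IsReduced W ∧ p ∈ Set.range i := by
    intro p
    obtain ⟨U, hU, hpU, -⟩ := exists_isAffineOpen_mem_and_subset (X := X) (x := pullback.fst f g p) (U := ⊤) trivial
    obtain ⟨V, hV, hpV, -⟩ := exists_isAffineOpen_mem_and_subset (X := S) (x := pullback.snd f g p) (U := ⊤) trivial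
    refine ⟨_, pullback.map (U.ι ≫ f) (V.ι ≫ g) f g U.ι V.ι (𝟙 _) (by simp) (by simp), inferInstance,
      key ⟨U, hU⟩ ⟨V, hV⟩, ?_⟩
    rw [Scheme.Pullback.range_map]
    exact ⟨⟨⟨_, hpU⟩, rfl⟩, ⟨⟨_, hpV⟩, rfl⟩⟩
  haveI : ∀ p, _root_.IsReduced ((pullback f g).presheaf.stalk p) := by
    intro p
    obtain ⟨W, i, _, hW, w, rfl⟩ := this p
    exact isReduced_of_injective (i.stalkMap w).hom
      (asIso (i.stalkMap w)).commRingCatIsoToRingEquiv.injective
  exact isReduced_of_isReduced_stalk _


end Groth.Agent.S4628
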