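import Groth.Statements.S1582
import Groth.Agent.Lib.GeomRed18.PtInt
import Groth.Agent.S4628
import Groth.Agent.Lib.GeomIrr18.Scheme

set_option autoImplicit false
universe u
open CategoryTheory CategoryTheory.Limits AlgebraicGeometry
open Variety

namespace Groth.Agent.S1582

/-- Let k be algebraically closed and X, Y varieties over k (integral, separated, of finite type). Then
the fibre product X ×_k Y is integral (and so again a variety over k). -/
theorem result (k : Type u) [Field k] [IsAlgClosed k] (X Y : Scheme.{u})
    (f : X ⟶ Spec (CommRingCat.of k)) (g : Y ⟶ Spec (CommRingCat.of k))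
    [IsIntegral X] [IsIntegral Y] [IsSeparated f] [IsSeparated g]
    [LocallyOfFiniteType f] [LocallyOfFiniteType g] [QuasiCompact f] [QuasiCompact g] :
    IsIntegral (pullback f g) := by
  letI : Y.Over (Spec (CommRingCat.of k)) := ⟨g⟩
  haveI : GeometricallyReduced g := (GeomRed.geometricallyReduced_iff_forall (k := k) (X := Y)).mpr fun y => GeomRed.isGeomReducedAt_of_perfectField y
  haveI : IsReduced (pullback g f) := S4628.result g f
  haveI : IsReduced (pullback f g) := isReduced_of_isOpenImmersion (pullbackSymmetry f g).hom
  haveI := GeomIrr.geometricallyIrreducible_of_isSepClosed g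
  haveI : Subsingleton ↥(Spec (CommRingCat.of k)) := inferInstanceAs (Subsingleton (PrimeSpectrum k))
  haveI : UniversallyOpen g := inferInstance
  exact isIntegral_of_irreducibleSpace_of_isReduced _

end Groth.Agent.S1582
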