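import Groth.Statements.S15824
import Groth.Agent.Lib.RegImm26.Noeth
import Groth.Agent.Lib.RegSeq26.FlatBC
import Groth.Agent.Lib.CI2.Smooth
import Groth.Agent.Lib.SMT.CMBasic
import Groth.Agent.Lib.Depth.CM
import Mathlib

set_option autoImplicit false
universe u
open CategoryTheory AlgebraicGeometry
open RegImm

namespace Groth.Agent.S15824

/-- Let X be a locally Noetherian scheme all of whose local rings are Cohen–Macaulay, and i : Z → X a
closed immersion which is regular (around every point, on some affine open of X the ideal of Z is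
generated by a regular sequence). Then Z has no embedded points (each associated point of Z is
generic in an irreducible component): for every point z of Z, if the maximal ideal of O_{Z,z} is an
associated prime of O_{Z,z} (as a module over itself), then O_{Z,z} has Krull dimension 0. (The
published statement takes X Noetherian and Z a local complete intersection subscheme; the assertion
is local on X and uses only that the ideal of Z is locally generated by a regular sequence.) -/
theorem result {X Z : Scheme.{u}}
    [IsLocallyNoetherian X] (hCM : ∀ x : X, LocCoh.IsCohenMacaulayLocalRing (X.presheaf.stalk x))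
    (i : Z ⟶ X) [IsClosedImmersion i] (hi : RegImm.IsRegularImmersion RegImm.Kind.regular i) (z : Z)
    (hz : IsAssociatedPrime (IsLocalRing.maximalIdeal (Z.presheaf.stalk z)) (Z.presheaf.stalk z)) :
    ringKrullDim (Z.presheaf.stalk z) = 0 := by
  obtain ⟨U, hzU, hcl, rs0, hrs0, hker0⟩ := hi.2 z
  obtain ⟨rs, hrs, hker⟩ := (RegImm26.regular_near_iff i z).1
    ⟨⊤, trivial, by
      refine (RegImm26.regularClosedImmersion_iff _).2 ⟨IsZariskiLocalAtTarget.restrict (P := @IsClosedImmersion) inferInstance ⊤, ?_⟩
      exact RegSeq26.isRegularImmersion_baseChange RegImm.Kind.regular i (⊤ : X.Opens).ι (i ∣_ ⊤) _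
        (isPullback_morphismRestrict i ⊤).flip hi⟩
  haveI := hCM (i z)
  let L := X.presheaf.stalk (i z)
  have hmem : ∀ r ∈ rs, r ∈ IsLocalRing.maximalIdeal L := fun r hr =>
    IsLocalRing.le_maximalIdeal (RingHom.ker_ne_top (i.stalkMap z).hom) (hker ▸ Ideal.subset_span hr)
  have hdim := ringKrullDim_add_length_eq_ringKrullDim_of_isRegular rs hrs
  haveI : Nontrivial (L ⧸ Ideal.ofList rs) := Ideal.Quotient.nontrivial_iff.2 (hker ▸ RingHom.ker_ne_top _)
  haveI : IsLocalRing (L ⧸ Ideal.ofList rs) := IsLocalRing.of_surjective' _ Ideal.Quotient.mk_surjective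
  have hq := CI2.isCM_quotient rs hmem hrs.toIsWeaklyRegular hdim
  let e : (L ⧸ Ideal.ofList rs) ≃+* Z.presheaf.stalk z :=
    (Ideal.quotEquivOfEq hker.symm).trans (RingHom.quotientKerEquivOfSurjective (i.stalkMap_surjective z))
  haveI hCMz := SMT.isCM_of_ringEquiv e hq
  have hM : LocCoh.IsCohenMacaulayModule (Z.presheaf.stalk z) (Z.presheaf.stalk z) := hCMz.supportDim_eq_depth
  have h := DepthLib.ringKrullDim_quotient_eq_of_mem_associatedPrimes hM hz
  rw [Module.supportDim_self_eq_ringKrullDim] at h
  rw [← h]
  exact ringKrullDim_eq_zero_of_isField ((Ideal.Quotient.maximal_ideal_iff_isField_quotient _).1 (IsLocalRing.maximalIdeal.isMaximal _))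

end Groth.Agent.S15824
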