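import Groth.Statements.S15825
import Groth.Agent.Lib.RegDesc11.TorLoc
import Groth.Agent.Lib.CI2.TorKoszul
import Groth.Agent.Lib.CI2.RImmBC
import Groth.Agent.Lib.CI2.Field
import Groth.Agent.Lib.PerfLCI4.Kind
import Groth.Agent.Lib.Goren.CMHeight27
import Groth.Agent.Lib.EmbDef.Regular
import Groth.Agent.Lib.SMT.CMBasic
import Mathlib

set_option autoImplicit false
universe u
open CategoryTheory CategoryTheory.Limits AlgebraicGeometry
open RegImm

namespace Groth.Agent.S15825

open RingTheory.Sequence TensorProduct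
open IsLocalRing (maximalIdeal)

theorem weaklyRegular_one {L : Type u} [CommRing L] (M : Type u) [AddCommGroup M] [Module L M] :
    IsWeaklyRegular M [(1 : L)] := by
  rw [isWeaklyRegular_singleton_iff]
  exact IsSMulRegular.one M

theorem map_eq_top {A : Type u} [CommRing A] {I m : Ideal A} [m.IsPrime] (h : ¬ I ≤ m) :
    I.map (algebraMap A (Localization.AtPrime m)) = ⊤ := by
  obtain ⟨x, hxI, hxm⟩ := Set.not_subset.1 h
  exact Ideal.eq_top_of_isUnit_mem _ (Ideal.mem_map_of_mem _ hxI)
    (IsLocalization.map_units (Localization.AtPrime m) (⟨x, hxm⟩ : m.primeCompl))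

theorem regular_append {L : Type u} [CommRing L] [LocCoh.IsCohenMacaulayLocalRing L] (ys zs : List L)
    (hy : ∀ x ∈ ys, x ∈ maximalIdeal L) (hz : ∀ x ∈ zs, x ∈ maximalIdeal L)
    (h : ((ys.length + zs.length : ℕ) : ℕ∞) ≤ (Ideal.ofList (ys ++ zs)).height) :
    IsWeaklyRegular L (ys ++ zs) ∧ Ideal.ofList (ys ++ zs) ≠ ⊤ := by
  have hm : ∀ x ∈ ys ++ zs, x ∈ maximalIdeal L := fun x hx => (List.mem_append.1 hx).elim (hy x) (hz x)
  have hne : Ideal.ofList (ys ++ zs) ≠ ⊤ :=
    ne_top_of_le_ne_top (IsLocalRing.maximalIdeal.isMaximal L).ne_top (Ideal.span_le.2 hm)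
  refine ⟨EmbDef.isWeaklyRegular_of_dim _ hm (le_antisymm ?_ ?_), hne⟩
  · rw [GorenLib.ringKrullDim_eq_quotient_add_height _ hne, List.length_append]
    exact add_le_add le_rfl (WithBot.coe_le_coe.2 h)
  · exact CI2.ringKrullDim_le_quotient_add_length _ hm

theorem hCM' {X : Scheme.{u}} (hCM : ∀ x : X, LocCoh.IsCohenMacaulayLocalRing (X.presheaf.stalk x))
    {U : X.Opens} (hU : IsAffineOpen U) (P : PrimeSpectrum Γ(X, U)) :
    LocCoh.IsCohenMacaulayLocalRing (Localization.AtPrime P.asIdeal) := by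
  let e : X.presheaf.stalk (hU.fromSpec P) ≃+* Localization.AtPrime P.asIdeal :=
    (@asIso _ _ _ _ (hU.fromSpec.stalkMap (show ↥(Spec Γ(X, U)) from P)) inferInstance ≪≫
      Spec.stalkIso Γ(X, U) P).commRingCatIsoToRingEquiv
  exact SMT.isCM_of_ringEquiv e (hCM _)

theorem ker_comp {X Y Z : Scheme.{u}} (iY : Y ⟶ X) (iZ : Z ⟶ X) [IsClosedImmersion iY] [IsClosedImmersion iZ]
    {U : X.Opens} (hU : IsAffineOpen U) :
    RingHom.ker ((pullback.fst iY iZ ≫ iY).app U).hom = RingHom.ker (iY.app U).hom ⊔ RingHom.ker (iZ.app U).hom := by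
  haveI : IsClosedImmersion (iY ∣_ U) := IsZariskiLocalAtTarget.restrict (P := @IsClosedImmersion) inferInstance U
  haveI : IsClosedImmersion (iZ ∣_ U) := IsZariskiLocalAtTarget.restrict (P := @IsClosedImmersion) inferInstance U
  obtain ⟨hV, hs⟩ := CI2.surjective_app_of_closed iY hU
  have h := CI2.ker_app_of_isPullback iZ iY _ _ (IsPullback.of_hasPullback iY iZ).flip hU hV le_rfl
  rw [← Scheme.Hom.app_eq_appLE] at h
  rw [Scheme.Hom.comp_app]
  refine (RingHom.comap_ker ((pullback.fst iY iZ).app (iY ⁻¹ᵁ U)).hom (iY.app U).hom).symm.trans ?_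
  rw [h, Ideal.comap_map_of_surjective _ hs, ← RingHom.ker_eq_comap_bot, sup_comm]

theorem le_height {X Y Z : Scheme.{u}} (iY : Y ⟶ X) (iZ : Z ⟶ X) [IsClosedImmersion iY] [IsClosedImmersion iZ]
    {U : X.Opens} (hU : IsAffineOpen U) (a b : ℕ)
    (hcodim : ∀ w : ↥(pullback iY iZ), ((a + b : ℕ) : WithBot ℕ∞) ≤
      ringKrullDim (X.presheaf.stalk ((pullback.fst iY iZ ≫ iY).base w)))
    (P : PrimeSpectrum Γ(X, U)) :
    ((a + b : ℕ) : ℕ∞) ≤
      ((RingHom.ker ((pullback.fst iY iZ ≫ iY).app U).hom).map (algebraMap Γ(X, U) (Localization.AtPrime P.asIdeal))).height := by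
  haveI : IsClosedImmersion ((pullback.fst iY iZ ≫ iY) ∣_ U) :=
    IsZariskiLocalAtTarget.restrict (P := @IsClosedImmersion) inferInstance U
  rw [Ideal.height_eq_inf_minimalPrimes]
  refine le_iInf₂ fun Q hQ => ?_
  haveI := hQ.isPrime
  let q : PrimeSpectrum Γ(X, U) := ⟨Q.comap (algebraMap Γ(X, U) (Localization.AtPrime P.asIdeal)), inferInstance⟩
  obtain ⟨w, hw⟩ := CI2.exists_point_of_ker_le _ hU q (Ideal.map_le_iff_le_comap.1 hQ.1.2)
  have h1 := hcodim w
  rw [show (pullback.fst iY iZ ≫ iY).base w = hU.fromSpec q from hw] at h1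
  let e : X.presheaf.stalk (hU.fromSpec q) ≃+* Localization.AtPrime q.asIdeal :=
    (@asIso _ _ _ _ (hU.fromSpec.stalkMap (show ↥(Spec Γ(X, U)) from q)) inferInstance ≪≫
      Spec.stalkIso Γ(X, U) q).commRingCatIsoToRingEquiv
  rw [ringKrullDim_eq_of_ringEquiv e, IsLocalization.AtPrime.ringKrullDim_eq_height q.asIdeal] at h1
  rw [← IsLocalization.height_comap P.asIdeal.primeCompl Q]
  exact WithBot.coe_le_coe.1 h1

theorem exists_local_gens {X Y : Scheme.{u}} (i : Y ⟶ X) [IsClosedImmersion i] {a : ℕ}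
    (hi : RegImm.IsRegularImmersionOfCodim RegImm.Kind.regular a i) {U : X.Opens} (hU : IsAffineOpen U)
    (P : PrimeSpectrum Γ(X, U)) (hP : RingHom.ker (i.app U).hom ≤ P.asIdeal) :
    ∃ l : List (Localization.AtPrime P.asIdeal), l.length = a ∧
      IsWeaklyRegular (Localization.AtPrime P.asIdeal) l ∧ (∀ x ∈ l, x ∈ maximalIdeal (Localization.AtPrime P.asIdeal)) ∧
        (RingHom.ker (i.app U).hom).map (algebraMap Γ(X, U) (Localization.AtPrime P.asIdeal)) = Ideal.ofList l := by
  haveI : IsClosedImmersion (i ∣_ U) := IsZariskiLocalAtTarget.restrict (P := @IsClosedImmersion) inferInstance U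
  obtain ⟨y, hy⟩ := CI2.exists_point_of_ker_le i hU P hP
  have hxU : hU.fromSpec P ∈ U := by rw [← SetLike.mem_coe, ← hU.range_fromSpec]; exact Set.mem_range_self P
  obtain ⟨⟨U', hU'⟩, hyU', hcl, rs, hlen, hrs, hker⟩ := hi.2 y
  haveI := hcl
  obtain ⟨f, g, hfg, hxf⟩ := exists_basicOpen_le_affine_inter hU hU' (hU.fromSpec P) ⟨hxU, hy ▸ hyU'⟩
  haveI := hU.isLocalization_basicOpen f
  have hle : X.basicOpen f ≤ U' := hfg ▸ X.basicOpen_le g
  let L := Localization.AtPrime P.asIdeal
  let D := Γ(X, X.basicOpen f)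
  letI : Algebra Γ(X, U') D := (X.presheaf.map (homOfLE hle).op).hom.toAlgebra
  haveI : IsLocalization.Away g D := hU'.isLocalization_of_eq_basicOpen g (homOfLE hle) hfg
  haveI : Module.Flat Γ(X, U') D := IsLocalization.flat _ (Submonoid.powers g)
  have hfP : f ∉ P.asIdeal := fun hm => by
    have h2 : P ∈ hU.fromSpec ⁻¹ᵁ X.basicOpen f := hxf
    rw [hU.fromSpec_preimage_basicOpen] at h2
    exact h2 hm
  have hu : IsUnit (algebraMap Γ(X, U) L f) := IsLocalization.map_units L (⟨f, hfP⟩ : P.asIdeal.primeCompl)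
  letI : Algebra D L := (IsLocalization.Away.lift (S := D) f hu).toAlgebra
  haveI : IsScalarTower Γ(X, U) D L := IsScalarTower.of_algebraMap_eq' (IsLocalization.Away.lift_comp f hu).symm
  haveI : Module.Flat D L := (Module.flat_iff_of_isLocalization D (Submonoid.powers f) L).2
    (IsLocalization.flat _ P.asIdeal.primeCompl)
  have hspan : (RingHom.ker (i.app U).hom).map (algebraMap Γ(X, U) L) =
      Ideal.ofList ((rs.map (algebraMap Γ(X, U') D)).map (algebraMap D L)) := by
    have h3 : Ideal.ofList (rs.map (algebraMap Γ(X, U') D)) =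
        (RingHom.ker (i.app U).hom).map (algebraMap Γ(X, U) D) := by
      refine Eq.trans ?_ (CI2.ker_app_basicOpen i hU f rfl (X.basicOpen_le f))
      rw [CI2.ker_app_basicOpen i hU' g hfg hle, hker, Ideal.map_ofList]
      rfl
    rw [← Ideal.map_ofList, h3, Ideal.map_map, ← IsScalarTower.algebraMap_eq]
  refine ⟨(rs.map (algebraMap Γ(X, U') D)).map (algebraMap D L), by simpa using hlen,
    (hrs.toIsWeaklyRegular.of_flat (S := D)).of_flat, fun x hx => ?_, hspan⟩
  have h4 : x ∈ (RingHom.ker (i.app U).hom).map (algebraMap Γ(X, U) L) := hspan.ge (Ideal.subset_span hx)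
  rw [← Localization.AtPrime.map_eq_maximalIdeal]
  exact Ideal.map_mono hP h4

theorem tor_local {A : Type u} [CommRing A] {m : Ideal A} [m.IsPrime] (I J : Ideal A) {i : ℕ}
    (ys : List (Localization.AtPrime m)) (hys : I.map (algebraMap A (Localization.AtPrime m)) = Ideal.ofList ys)
    (h : Limits.IsZero (((CategoryTheory.Tor (ModuleCat.{u} (Localization.AtPrime m)) (i + 1)).obj
        (ModuleCat.of (Localization.AtPrime m) (Localization.AtPrime m ⧸ Ideal.ofList ys))).obj
        (ModuleCat.of (Localization.AtPrime m) (Localization.AtPrime m ⧸ J.map (algebraMap A (Localization.AtPrime m)))))) :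
    Subsingleton (DRing.Tor A (i + 1) (Localization.AtPrime m ⊗[A] (A ⧸ I)) (A ⧸ J)) := by
  let L := Localization.AtPrime m
  haveI : Module.Flat A L := IsLocalization.flat L m.primeCompl
  obtain ⟨φ, hφ⟩ := TorBal27.exists_semilinear_left_of_flat (A := A) (A' := L) (L ⊗[A] (A ⧸ I)) (A ⧸ J) (i + 1)
  let eI : L ⊗[A] (A ⧸ I) ≃ₗ[L] L ⧸ Ideal.ofList ys :=
    (Algebra.TensorProduct.quotIdealMapEquivTensorQuot L I).symm.toLinearEquiv.trans (Submodule.quotEquivOfEq _ _ hys)
  let eJ : L ⊗[A] (A ⧸ J) ≃ₗ[L] L ⧸ J.map (algebraMap A L) :=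
    (Algebra.TensorProduct.quotIdealMapEquivTensorQuot L J).symm.toLinearEquiv
  let F := CategoryTheory.Tor (ModuleCat.{u} L) (i + 1)
  have h2 : Limits.IsZero ((F.obj (ModuleCat.of L (L ⊗[A] (A ⧸ I)))).obj (ModuleCat.of L (L ⊗[A] (A ⧸ J)))) :=
    h.of_iso (((F.obj _).mapIso eJ.toModuleIso) ≪≫ (F.mapIso eI.toModuleIso).app _)
  haveI : Subsingleton (DRing.Tor L (i + 1) (L ⊗[A] (A ⧸ I)) (L ⊗[A] (A ⧸ J))) := ModuleCat.subsingleton_of_isZero h2
  exact hφ.1.subsingleton

theorem tor_sub {A B C : Type u} [CommRing A] [CommRing B] [CommRing C] (φ : A →+* B) (hφ : Function.Surjective φ)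
    (ψ : A →+* C) (hψ : Function.Surjective ψ) (i : ℕ)
    (h : Subsingleton (DRing.Tor A (i + 1) (A ⧸ RingHom.ker φ) (A ⧸ RingHom.ker ψ))) :
    Subsingleton (@DRing.Tor A _ (i + 1) B C _ φ.toModule _ ψ.toModule) := by
  letI := φ.toModule
  letI := ψ.toModule
  let eB : (A ⧸ RingHom.ker φ) ≃ₗ[A] B :=
    { (RingHom.quotientKerEquivOfSurjective hφ).toAddEquiv with
      map_smul' := fun a x => by
        obtain ⟨x, rfl⟩ := Ideal.Quotient.mk_surjective x
        exact map_mul φ a x }
  let eC : (A ⧸ RingHom.ker ψ) ≃ₗ[A] C :=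
    { (RingHom.quotientKerEquivOfSurjective hψ).toAddEquiv with
      map_smul' := fun a x => by
        obtain ⟨x, rfl⟩ := Ideal.Quotient.mk_surjective x
        exact map_mul ψ a x }
  let F := CategoryTheory.Tor (ModuleCat.{u} A) (i + 1)
  let e := ((F.obj (ModuleCat.of A (A ⧸ RingHom.ker φ))).mapIso eC.toModuleIso) ≪≫ (F.mapIso eB.toModuleIso).app _
  exact e.toLinearEquiv.toEquiv.subsingleton_congr.1 h


/-- Let X be a locally Noetherian scheme all of whose local rings are Cohen–Macaulay, and let iY : Y → X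
and iZ : Z → X be closed immersions which are regular of constant codimension a and b respectively
(around every point, on some affine open of X the ideal is generated by a regular sequence of length
a, resp. b). Let W = Y ×_X Z be the scheme-theoretic intersection, with closed immersion w = pr_1 ≫
iY : W → X, and suppose W has the expected codimension: at every point of W the local ring of X has
Krull dimension at least a + b. Then w is a regular immersion of codimension a + b (so W is again a
local complete intersection in X), and the fibre square formed by W, Y, Z, X is Tor-independent: for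
every affine open U of X and every i > 0 the module Tor_i over Γ(X, U) of Γ(Y, iY⁻¹U) and Γ(Z,
iZ⁻¹U) (module structures through iY and iZ; Tor computed by resolving the second argument) is zero.
(The published statement is phrased with local complete intersections in a Cohen–Macaulay scheme and
the global codimension of Y ∩ Z; regular sequences of the stated lengths and the pointwise dimension
bound express the same hypotheses, and the vanishing of these Tor modules on affine opens is
equivalent to the vanishing of the stalkwise Tor groups at the points of W.) -/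
theorem result {X Y Z : Scheme.{u}}
    [IsLocallyNoetherian X] (hCM : ∀ x : X, LocCoh.IsCohenMacaulayLocalRing (X.presheaf.stalk x))
    (iY : Y ⟶ X) (iZ : Z ⟶ X) [IsClosedImmersion iY] [IsClosedImmersion iZ] (a b : ℕ)
    (hY : RegImm.IsRegularImmersionOfCodim RegImm.Kind.regular a iY)
    (hZ : RegImm.IsRegularImmersionOfCodim RegImm.Kind.regular b iZ)
    (hcodim : ∀ w : ↥(pullback iY iZ), ((a + b : ℕ) : WithBot ℕ∞) ≤
      ringKrullDim (X.presheaf.stalk ((pullback.fst iY iZ ≫ iY).base w))) :
    RegImm.IsRegularImmersionOfCodim RegImm.Kind.regular (a + b) (pullback.fst iY iZ ≫ iY) ∧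
      ∀ (U : X.Opens), IsAffineOpen U → ∀ (i : ℕ), 0 < i →
        Subsingleton (@DRing.Tor Γ(X, U) _ i Γ(Y, iY ⁻¹ᵁ U) Γ(Z, iZ ⁻¹ᵁ U) _ (iY.app U).hom.toModule _ (iZ.app U).hom.toModule) := by
  haveI := hY.1
  haveI := hZ.1
  have hnoeth : ∀ U : X.Opens, IsAffineOpen U → IsNoetherianRing Γ(X, U) := fun U hU =>
    IsLocallyNoetherian.component_noetherian ⟨U, hU⟩
  refine ⟨⟨inferInstance, fun w => ?_⟩, fun U hU i hi => ?_⟩
  · let x := (pullback.fst iY iZ ≫ iY) w
    obtain ⟨_, ⟨U, hU, rfl⟩, hxU, -⟩ := X.isBasis_affineOpens.exists_subset_of_mem_open (Set.mem_univ x) isOpen_univ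
    haveI := hnoeth U hU
    haveI hcl : IsClosedImmersion ((pullback.fst iY iZ ≫ iY) ∣_ U) :=
      IsZariskiLocalAtTarget.restrict (P := @IsClosedImmersion) inferInstance U
    let P := hU.primeIdealOf ⟨x, hxU⟩
    have hP := CI2.ker_le_primeIdealOf (pullback.fst iY iZ ≫ iY) hU (z := w) hxU
    have hker := ker_comp iY iZ hU
    have hIP : RingHom.ker (iY.app U).hom ≤ P.asIdeal := le_trans (hker ▸ le_sup_left) hP
    have hJP : RingHom.ker (iZ.app U).hom ≤ P.asIdeal := le_trans (hker ▸ le_sup_right) hP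
    haveI := hCM' hCM hU P
    obtain ⟨ys, hya, hys, hysm, hyspan⟩ := exists_local_gens iY hY hU P hIP
    obtain ⟨zs, hzb, hzs, hzsm, hzspan⟩ := exists_local_gens iZ hZ hU P hJP
    have hreg := regular_append ys zs hysm hzsm (by
      rw [hya, hzb, Ideal.ofList_append, ← hyspan, ← hzspan, ← Ideal.map_sup, ← hker]
      exact le_height iY iZ hU a b hcodim P) 
    have hspan : (RingHom.ker ((pullback.fst iY iZ ≫ iY).app U).hom).map (algebraMap Γ(X, U) (Localization.AtPrime P.asIdeal)) =
        Ideal.ofList (ys ++ zs) := by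
      rw [hker, Ideal.map_sup, hyspan, hzspan, Ideal.ofList_append]
    have hex := CI2.ex_of_isWeaklyRegular _ _ hreg.1
    obtain ⟨g, hg, rs, hrs, hrspan⟩ := PerfLCI4.exists_away_regular P hP hex hspan
    haveI := hU.isLocalization_basicOpen g
    let e : Localization.Away g ≃ₐ[Γ(X, U)] Γ(X, X.basicOpen g) :=
      IsLocalization.algEquiv (Submonoid.powers g) _ _
    refine ⟨⟨X.basicOpen g, hU.basicOpen g⟩, ?_, CI2.isClosedImmersion_restrict_of_le _ (X.basicOpen_le g),
      rs.map e.toRingEquiv, ?_, ?_, ?_⟩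
    · have h2 : P ∈ hU.fromSpec ⁻¹ᵁ X.basicOpen g := by rw [hU.fromSpec_preimage_basicOpen g]; exact hg
      have h3 : hU.fromSpec P ∈ X.basicOpen g := h2
      rwa [hU.fromSpec_primeIdealOf] at h3
    · have hu : IsUnit (algebraMap Γ(X, U) (Localization.AtPrime P.asIdeal) g) :=
        IsLocalization.map_units (Localization.AtPrime P.asIdeal) (⟨g, hg⟩ : P.asIdeal.primeCompl)
      letI : Algebra (Localization.Away g) (Localization.AtPrime P.asIdeal) :=
        (IsLocalization.Away.lift (S := Localization.Away g) g hu).toAlgebra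
      haveI : IsScalarTower Γ(X, U) (Localization.Away g) (Localization.AtPrime P.asIdeal) :=
        IsScalarTower.of_algebraMap_eq' (IsLocalization.Away.lift_comp g hu).symm
      haveI : Module.Flat (Localization.Away g) (Localization.AtPrime P.asIdeal) :=
        (Module.flat_iff_of_isLocalization (Localization.Away g) (Submonoid.powers g) _).2
          (IsLocalization.flat _ P.asIdeal.primeCompl)
      have hrsL := CI2.ex_of_isWeaklyRegular _ _ (hrs.toIsWeaklyRegular.of_flat (S := Localization.AtPrime P.asIdeal))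
      have heq : Ideal.ofList (rs.map (algebraMap (Localization.Away g) (Localization.AtPrime P.asIdeal))) = Ideal.ofList (ys ++ zs) := by
        rw [← Ideal.map_ofList, ← hrspan, Ideal.map_map, ← IsScalarTower.algebraMap_eq, hspan]
      have hne : Ideal.ofList (ys ++ zs) ≠ ⊤ := hreg.2
      have h1 := CI2.length_le_of_ofList_eq hex hne heq
      have h2 := CI2.length_le_of_ofList_eq hrsL (heq ▸ hne) heq.symm
      simp only [List.length_map, List.length_append, hya, hzb] at h1 h2 ⊢
      omega
    · exact (e.toRingEquiv.toAddEquiv.isRegular_congr (by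
        rw [List.forall₂_map_right_iff, List.forall₂_same]
        exact fun x _ y => map_mul e.toRingEquiv x y)).1 hrs
    · refine (CI2.ker_app_basicOpen _ hU g rfl (X.basicOpen_le g)).trans ?_
      rw [show rs.map e.toRingEquiv = rs.map e.toRingEquiv.toRingHom from rfl, ← Ideal.map_ofList, ← hrspan, Ideal.map_map]
      exact congrArg (fun φ => Ideal.map φ _) (RingHom.ext fun a => (e.commutes a).symm)
  · obtain ⟨i, rfl⟩ : ∃ j, i = j + 1 := ⟨i - 1, by omega⟩
    haveI := hnoeth U hU
    haveI : IsClosedImmersion (iY ∣_ U) := IsZariskiLocalAtTarget.restrict (P := @IsClosedImmersion) inferInstance U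
    haveI : IsClosedImmersion (iZ ∣_ U) := IsZariskiLocalAtTarget.restrict (P := @IsClosedImmersion) inferInstance U
    refine tor_sub (iY.app U).hom (CI2.surjective_app_of_closed iY hU).2 (iZ.app U).hom
      (CI2.surjective_app_of_closed iZ hU).2 i ?_
    refine RegDesc11.subsingleton_tor_of_local _ _ i fun m hm => ?_
    let P : PrimeSpectrum Γ(X, U) := ⟨m, hm.isPrime⟩
    haveI := hCM' hCM hU P
    let L := Localization.AtPrime m
    let I := RingHom.ker (iY.app U).hom
    let J := RingHom.ker (iZ.app U).hom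
    obtain ⟨ys, hyex, hyspan, hyN⟩ : ∃ ys : List L, CI2.Ex L L ys ∧ I.map (algebraMap Γ(X, U) L) = Ideal.ofList ys ∧
        CI2.Ex L (L ⧸ J.map (algebraMap Γ(X, U) L)) ys := by
      by_cases hI : I ≤ m
      · obtain ⟨ys, hya, hys, hysm, hyspan⟩ := exists_local_gens iY hY hU P hI
        refine ⟨ys, CI2.ex_of_isWeaklyRegular _ _ hys, hyspan, ?_⟩
        by_cases hJ : J ≤ m
        · obtain ⟨zs, hzb, hzs, hzsm, hzspan⟩ := exists_local_gens iZ hZ hU P hJ
          have hreg := regular_append zs ys hzsm hysm (by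
            rw [hya, hzb, Ideal.ofList_append, ← hyspan, ← hzspan, sup_comm, ← Ideal.map_sup, ← ker_comp iY iZ hU, add_comm]
            exact le_height iY iZ hU a b hcodim P)
          refine CI2.ex_of_isWeaklyRegular _ _ ?_
          have h := ((RingTheory.Sequence.isWeaklyRegular_append_iff L zs ys).1 hreg.1).2
          refine ((Submodule.quotEquivOfEq _ _ ?_).isWeaklyRegular_congr ys).1 h
          rw [smul_eq_mul, Ideal.mul_top]; exact hzspan.symm
        · haveI : Subsingleton (L ⧸ J.map (algebraMap Γ(X, U) L)) := Ideal.Quotient.subsingleton_iff.2 (map_eq_top hJ)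
          exact (CI2.ex_of_isWeaklyRegular _ _ hys).of_flat _
      · refine ⟨[1], CI2.ex_of_isWeaklyRegular _ _ (weaklyRegular_one L), ?_, CI2.ex_of_isWeaklyRegular _ _ (weaklyRegular_one _)⟩
        rw [Ideal.ofList_singleton, Ideal.span_singleton_one]
        exact map_eq_top hI
    exact tor_local I J ys hyspan ((CI2.forall_isZero_tor_iff_ex hyex _).2 hyN (i + 1) (Nat.le_add_left 1 i))


end Groth.Agent.S15825
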