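import Groth.Statements.S15826
import Groth.Agent.Lib.KFlat.Pullback
import Groth.Agent.Lib.Cyc26.Stalk
import Groth.Agent.Lib.GrMap12.Relative
import Groth.Agent.Lib.TensorMod.Invertible
import Mathlib.RingTheory.Regular.Flat

set_option autoImplicit false
universe u
open CategoryTheory AlgebraicGeometry Opposite
open RegImm

namespace Groth.Agent.S15826
open CategoryTheory AlgebraicGeometry Opposite
open RegImm

open Groth.Agent TensorProduct

lemma syzygy {P : Type u} [CommRing P] : ∀ {r : ℕ} (F : Fin r → P),
    RingTheory.Sequence.IsWeaklyRegular P (List.ofFn F) → ∀ a : Fin r → P, ∑ i, a i * F i = 0 →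
      ∀ i, a i ∈ Ideal.span (Set.range F) := by
  intro r
  induction r with
  | zero => intro F _ a _ i; exact i.elim0
  | succ r ih =>
    intro F hF a ha
    rw [List.ofFn_succ', List.concat_eq_append, RingTheory.Sequence.isWeaklyRegular_append_iff,
      RingTheory.Sequence.isWeaklyRegular_singleton_iff] at hF
    obtain ⟨hF0, hlast⟩ := hF
    have hle : Ideal.span (Set.range fun i : Fin r => F i.castSucc) ≤ Ideal.span (Set.range F) :=
      Ideal.span_mono (by rintro _ ⟨i, rfl⟩; exact ⟨_, rfl⟩)
    have hJ : Ideal.ofList (List.ofFn fun i : Fin r => F i.castSucc) =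
        Ideal.span (Set.range fun i : Fin r => F i.castSucc) := by
      rw [Ideal.ofList]
      congr 1
      ext z
      simp [List.mem_ofFn]
    rw [Fin.sum_univ_castSucc] at ha
    have hmem : F (Fin.last r) * a (Fin.last r) ∈ Ideal.span (Set.range fun i : Fin r => F i.castSucc) := by
      rw [mul_comm, eq_neg_of_add_eq_zero_right ha]
      exact neg_mem (Ideal.sum_mem _ fun i _ =>
        Ideal.mul_mem_left _ _ (Ideal.subset_span ⟨i, rfl⟩))
    have hal : a (Fin.last r) ∈ Ideal.span (Set.range fun i : Fin r => F i.castSucc) := by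
      have hz : Submodule.Quotient.mk (p := Ideal.ofList (List.ofFn fun i : Fin r => F i.castSucc) •
          (⊤ : Submodule P P)) (a (Fin.last r)) = 0 := by
        apply hlast
        simp only [smul_zero]
        rw [← Submodule.Quotient.mk_smul, Submodule.Quotient.mk_eq_zero, hJ]
        simpa using hmem
      rw [Submodule.Quotient.mk_eq_zero, hJ] at hz
      simpa using hz
    obtain ⟨c, hc⟩ := Submodule.mem_span_range_iff_exists_fun P |>.1 hal
    have h0 : ∑ i : Fin r, (a i.castSucc + c i * F (Fin.last r)) * F i.castSucc = 0 := by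
      rw [← ha, ← hc, Finset.sum_mul, ← Finset.sum_add_distrib]
      exact Finset.sum_congr rfl fun i _ => by simp only [smul_eq_mul]; ring
    intro i
    induction i using Fin.lastCases with
    | last => exact hle hal
    | cast i =>
      have h1 := hle (ih _ hF0 _ h0 i)
      have h2 : c i * F (Fin.last r) ∈ Ideal.span (Set.range F) :=
        Ideal.mul_mem_left _ _ (Ideal.subset_span ⟨_, rfl⟩)
      simpa using sub_mem h1 h2

lemma isWeaklyRegular_map {R P : Type u} [CommRing R] [CommRing P] [Algebra R P] (M : Submonoid R)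
    [IsLocalization M P] {n : ℕ} {f : Fin n → R}
    (h : RingTheory.Sequence.IsWeaklyRegular R (List.ofFn f)) :
    RingTheory.Sequence.IsWeaklyRegular P (List.ofFn fun k => algebraMap R P (f k)) := by
  have h2 := RingTheory.Sequence.IsWeaklyRegular.of_isLocalizedModule P M (Algebra.linearMap R P) h
  rwa [List.map_ofFn] at h2

lemma lTensor_bijective {R M N : Type u} [CommRing R] [AddCommGroup M] [Module R M] [AddCommGroup N]
    [Module R N] {S : Type u} [CommRing S] [Algebra R S] (T : M →ₗ[R] N) (hT : Function.Surjective T)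
    {n : ℕ} (e : Module.Basis (Fin n) R M) (f : Fin n → R)
    (hf : RingTheory.Sequence.IsWeaklyRegular R (List.ofFn f))
    (hJ : ∀ k, algebraMap R S (f k) = 0) (hker : ∀ a : Fin n → R, T (∑ k, a k • e k) = 0 → ∑ k, a k * f k = 0) :
    Function.Bijective (T.lTensor S) := by
  refine ⟨?_, LinearMap.lTensor_surjective S hT⟩
  have hex := lTensor_exact S (f := (LinearMap.ker T).subtype) (g := T)
    (LinearMap.exact_subtype_ker_map T) hT
  refine (injective_iff_map_eq_zero _).2 fun z hz => ?_
  obtain ⟨w, rfl⟩ := (hex z).1 hz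
  induction w using TensorProduct.induction_on with
  | zero => rw [map_zero]
  | tmul c m =>
    obtain ⟨m, hm⟩ := m
    rw [LinearMap.lTensor_tmul]
    show c ⊗ₜ[R] m = 0
    have hle : Ideal.span (Set.range f) ≤ RingHom.ker (algebraMap R S) :=
      Ideal.span_le.2 (by rintro _ ⟨k, rfl⟩; exact hJ k)
    have ha : ∀ k, algebraMap R S (e.repr m k) = 0 := fun k =>
      hle (syzygy f hf (fun k => e.repr m k) (hker _ (by rw [e.sum_repr]; exact hm)) k)
    rw [← e.sum_repr m, tmul_sum]
    refine Finset.sum_eq_zero fun k _ => ?_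
    rw [tmul_smul, smul_tmul', Algebra.smul_def, ha, zero_mul, zero_tmul]
  | add a b ha hb =>
    rw [map_add, ha ((hex _).2 ⟨a, rfl⟩), hb ((hex _).2 ⟨b, rfl⟩), add_zero]

/-- Let X be a scheme, E a finite locally free O_X-module of rank n and s : E → O_X a regular section,
meaning that around every point of X there is an affine open U and a basis e_1, …, e_n of E(U) over
Γ(X, U) such that s(e_1), …, s(e_n) is a weakly regular sequence in Γ(X, U) (each a non-zero-divisor
modulo the previous ones). Let i : Y → X be a closed immersion whose ideal sheaf I_Y is the image of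
s: t : E → I_Y is an epimorphism of O_X-modules with t followed by the inclusion I_Y → O_X equal to
s. Then the pulled-back map i^*t : i^*E → i^*I_Y is an isomorphism of O_Y-modules; its target is the
conormal sheaf C_{Y/X} = I_Y/I_Y², so E|_Y ≅ C_{Y/X} via s and, dually, N_{Y/X} ≅ E^∨|_Y. (The
published statement calls s regular when its image is a regular ideal sheaf locally generated by
rank-many sections; the local bases mapping to regular sequences used here are how the published
proofs read that condition.) -/
theorem result {X Y : Scheme.{u}} (n : ℕ) (E : X.Modules)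
    (hE : FlatMod.IsFinLocFreeOfRank n E) (s : E ⟶ Coh.structureModule X)
    (hs : ∀ x : X, ∃ U : X.affineOpens, x ∈ U.1 ∧
      ∃ b : Module.Basis (Fin n) Γ(X, U.1) (E.val.obj (op U.1)),
        @RingTheory.Sequence.IsWeaklyRegular Γ(X, U.1) Γ(X, U.1) _ _ _ (List.ofFn fun k => (s.val.app (op U.1)).hom (b k)))
    (i : Y ⟶ X) [IsClosedImmersion i] (t : E ⟶ ClSub.idealMod i.ker) [Epi t]
    (hts : t ≫ ClSub.idealModι i.ker = s) :
    IsIso ((Scheme.Modules.pullback i).map t) := by
  haveI : Coh.IsQCoh E := M2.isQCoh_of_isFinLocFree (fun x => by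
    obtain ⟨U, hx, hU⟩ := hE x
    exact ⟨U, n, hx, hU⟩)
  refine (M1.isIso_iff_stalk _).2 fun y => ?_
  suffices H : Function.Bijective ((KFlat.Sch.stk t (i y)).lTensor (Y.presheaf.stalk y)) by
    have e : ∀ z, (M1.stalkAb y).map ((Scheme.Modules.pullback i).map t) z =
        M2.pullStalkEquiv i y _ ((KFlat.Sch.stk t (i y)).lTensor (Y.presheaf.stalk y)
          ((M2.pullStalkEquiv i y E).symm z)) := fun z => by
      rw [← KFlat.Sch.pullStalkEquiv_naturality, LinearEquiv.apply_symm_apply]
    have e' : ⇑((M1.stalkAb y).map ((Scheme.Modules.pullback i).map t)) = _ := funext e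
    rw [e']
    exact (M2.pullStalkEquiv i y _).bijective.comp (H.comp (M2.pullStalkEquiv i y E).symm.bijective)
  obtain ⟨⟨U, hU⟩, hxU, b, hreg⟩ := hs (i y)
  letI := M1.stalkModule E hxU
  haveI := M1.isLocalizedModule_germ E hU hxU
  letI := TopCat.Presheaf.algebra_section_stalk X.presheaf (⟨i y, hxU⟩ : U)
  haveI := hU.isLocalization_stalk ⟨i y, hxU⟩
  haveI : IsScalarTower Γ(X, U) (X.presheaf.stalk (i y)) (E.presheaf.stalk (i y)) :=
    IsScalarTower.of_algebraMap_smul fun _ _ => rfl
  let e := Module.Basis.ofIsLocalizedModule (X.presheaf.stalk (i y))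
    (hU.primeIdealOf ⟨i y, hxU⟩).asIdeal.primeCompl (M1.germₗ E hxU) b
  let F : Fin n → Γ(X, U) := fun k => (s.val.app (op U)).hom (b k)
  let f : Fin n → X.presheaf.stalk (i y) := fun k => X.presheaf.germ U (i y) hxU (F k)
  have hf : RingTheory.Sequence.IsWeaklyRegular (X.presheaf.stalk (i y)) (List.ofFn f) :=
    isWeaklyRegular_map (hU.primeIdealOf ⟨i y, hxU⟩).asIdeal.primeCompl hreg
  have hFI : ∀ k, M2.idealIncl i.ker (t.app U (b k)) = F k := fun k => by
    show (ClSub.idealModι i.ker).app U (t.app U (b k)) = _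
    simp only [F]
    rw [← hts]
    rfl
  refine lTensor_bijective (KFlat.Sch.stk t (i y)) ((M1.epi_iff_stalk t).1 inferInstance (i y)) e f hf ?_ ?_
  · intro k
    show (i.stalkMap y).hom (X.presheaf.germ U (i y) hxU (F k)) = 0
    rw [Scheme.Hom.germ_stalkMap_apply, ← hFI, GrMap12.app_idealIncl_eq_zero, map_zero]
  · intro a ha
    refine (Cyc26.structureModule_stalk_bijective (i y)).1 ?_
    simp only [zero_smul]
    have h1 : ∀ k, KFlat.Sch.stk s (i y) (e k) = f k •
        ((Coh.structureModule X).presheaf.germ ⊤ (i y) trivial (M1.one ⊤) : (Coh.structureModule X).presheaf.stalk (i y)) := by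
      intro k
      have he : e k = E.presheaf.germ U (i y) hxU (b k) := Module.Basis.ofIsLocalizedModule_apply _ _ _ _ k
      rw [he]
      refine (TopCat.Presheaf.stalkFunctor_map_germ_apply U (i y) hxU
        ((Scheme.Modules.toPresheaf X).map s) (b k)).trans ?_
      rw [← M1.germ_mres (Coh.structureModule X) (le_top : U ≤ ⊤) hxU, M1.mres_one, ← M1.germ_smul]
      exact congrArg _ (show F k = F k * 1 from (mul_one (F k)).symm)
    rw [Finset.sum_smul]
    simp only [mul_smul, ← h1, ← map_smul, ← map_sum]
    have h2 : ∀ z, KFlat.Sch.stk s (i y) z = (M1.stalkAb (i y)).map (ClSub.idealModι i.ker)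
        (KFlat.Sch.stk t (i y) z) := fun z => by
      rw [← hts]
      exact ConcreteCategory.congr_hom ((M1.stalkAb (i y)).map_comp t (ClSub.idealModι i.ker)) z
    rw [h2, ha]
    exact map_zero ((M1.stalkAb (i y)).map (ClSub.idealModι i.ker)).hom

end Groth.Agent.S15826
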