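import Groth.Statements.S15827
import Groth.Agent.Lib.KoszShH13.TwistMain

set_option autoImplicit false
set_option backward.isDefEq.respectTransparency false
set_option backward.isDefEq.respectTransparency.types false
universe u
open CategoryTheory AlgebraicGeometry
open ExtPow

namespace Groth.Agent.S15827

/-- Let X be a scheme, E a finite locally free O_X-module and L a finite locally free O_X-module of rank
1 (an invertible module), and k a natural number. If M is a k-th exterior power of E ⊗ L and N is a
k-th exterior power of E (affine-local characterisation of exterior powers), then M is isomorphic to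
N ⊗ L^{⊗k} as an O_X-module (existence of an isomorphism; the published isomorphism is induced by
(e_1 ⊗ l_1) ∧ ⋯ ∧ (e_k ⊗ l_k) ↦ (e_1 ∧ ⋯ ∧ e_k) ⊗ l_1 ⋯ l_k). -/
theorem result {X : Scheme.{u}} (E L : X.Modules)
    (hE : FlatMod.IsFinLocFree E) (hL : FlatMod.IsFinLocFreeOfRank 1 L) (k : ℕ) (M N : X.Modules)
    (hM : ExtPow.IsExtPow k (CohB1.tensorMod E L) M) (hN : ExtPow.IsExtPow k E N) :
    Nonempty (M ≅ CohB1.tensorMod N (CohB1.tensorPow L k)) := by
  exact KoszShH13.extPow_twist ((M2.isInvertible_iff_isFinLocFreeOfRank_one L).2 hL) k hM hN

end Groth.Agent.S15827
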