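import Groth.Statements.S18543
import Groth.Agent.Lib.Versch23.Basic
import Groth.Agent.Lib.RelFrob23.Basic
import Groth.Agent.Lib.OT.Dual
import Groth.Agent.Lib.FinGrp20.Field
import Mathlib.LinearAlgebra.FiniteDimensional.Basic

set_option autoImplicit false
universe u
open Hopf

namespace Groth.Agent.S18543

open TensorProduct


/-- Let p be a prime number, k a field of characteristic p and A a finite-dimensional commutative,
cocommutative Hopf algebra over k — the coordinate ring of a finite commutative group scheme G over
k — such that A is étale over k and dim_k A = p^n for some n (G is an étale group scheme of p-power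
order). Then the Cartier dual A^∨ = Hom_k(A, k), with its convolution ring structure, is a local
ring; that is, the Cartier dual group scheme G^∨ = Spec A^∨ is infinitesimal (its underlying space
is a single point). -/
theorem result (p : ℕ) [Fact p.Prime]
    (k : Type u) [Field k] [CharP k p] (A : Type u) [CommRing A] [HopfAlgebra k A] [Coalgebra.IsCocomm k A]
    [Module.Finite k A] [Algebra.Etale k A] (n : ℕ) (hA : Module.finrank k A = p ^ n) :
    IsLocalRing (CartDual.D k A) := by
  classical
  haveI : Nontrivial A := (Bialgebra.counitAlgHom k A).toRingHom.domain_nontrivial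
  haveI : CharP A p := charP_of_injective_algebraMap (algebraMap k A).injective p
  haveI : Algebra.FinitePresentation k A := Algebra.FinitePresentation.of_finiteType.1 inferInstance
  let b := Module.finBasis k A
  have h : ∀ a, a = ∑ i, b.coord i a • b i := fun a => (b.sum_repr a).symm
  -- the `p`-th powers of a basis span, as the relative Frobenius is surjective
  have hspan : ⊤ ≤ Submodule.span k (Set.range fun i => b i ^ p) := by
    intro a _
    obtain ⟨z, rfl⟩ := (RelFrob23.bijective_of_etale p k A).2 a
    induction z using TensorProduct.induction_on with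
    | zero => simp
    | add x y hx hy => rw [map_add]; exact add_mem (hx Submodule.mem_top) (hy Submodule.mem_top)
    | tmul c t =>
      rw [RelFrob23.relFrob_tmul, mul_comm, ← Algebra.smul_def]
      refine Submodule.smul_mem _ _ ?_
      have hp : ((p : ℕ) : A) = 0 := CharP.cast_eq_zero A p
      rw [h c, Versch23.sum_pow_prime p hp]
      exact Submodule.sum_mem _ fun i _ => by
        rw [smul_pow]; exact Submodule.smul_mem _ _ (Submodule.subset_span ⟨i, rfl⟩)
  let b' : Module.Basis (Fin (Module.finrank k A)) k A :=
    basisOfTopLeSpanOfCardEqFinrank _ hspan (Fintype.card_fin _)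
  have hb' : ∀ i, b' i = b i ^ p := fun i => congrFun (coe_basisOfTopLeSpanOfCardEqFinrank _ hspan _) i
  have step : ∀ x : CartDual.D k A, ∃ y : CartDual.D k A, x ^ p = SGA3b.powConv k (CartDual.D k A) p y := by
    intro x
    refine ⟨WithConv.toConv (∑ i, (x (b i)) ^ p • b'.coord i), ?_⟩
    refine WithConv.ofConv_injective (LinearMap.ext fun a => ?_)
    rw [OT.powConv_dual_apply]
    refine (Versch23.dual_pow_apply h x a).trans ?_
    simp only [WithConv.ofConv_toConv, LinearMap.sum_apply, LinearMap.smul_apply, smul_eq_mul]
    refine Finset.sum_congr rfl fun i _ => ?_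
    congr 1
    rw [Versch23.powConv_apply h]
    simp only [← hb', map_sum, map_smul, Module.Basis.coord_apply, b'.repr_self, Finsupp.single_apply, smul_eq_mul,
      mul_ite, mul_one, mul_zero, Finset.sum_ite_eq', Finset.mem_univ, if_true]
  have iter : ∀ j, ∀ x : CartDual.D k A, ∃ y : CartDual.D k A, x ^ p ^ j = SGA3b.powConv k (CartDual.D k A) (p ^ j) y := by
    intro j
    induction j with
    | zero => intro x; exact ⟨x, by simp [SGA3b.powConv]⟩
    | succ j ih =>
      intro x
      obtain ⟨y, hy⟩ := step x
      obtain ⟨c, hc⟩ := ih y
      refine ⟨c, ?_⟩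
      rw [pow_succ', pow_mul, hy, ← map_pow, hc, MTSub29.powConv_powConv]
  have hkill : SGA3b.powConv k (CartDual.D k A) (p ^ n) = (Algebra.ofId k _).comp (Bialgebra.counitAlgHom k _) := by
    have h1 := FinGrp.convPow_finrank_eq_one k (CartDual.D k A)
    have h2 : Module.finrank k (CartDual.D k A) = p ^ n := by
      rw [(WithConv.linearEquiv k (A →ₗ[k] k)).finrank_eq, Module.finrank_linearMap, hA, Module.finrank_self, mul_one]
    rw [h2] at h1
    rw [SGA3b.powConv, h1]
    exact AlgHom.ext fun x => by simp [AlgHom.convOne_apply]
  refine IsLocalRing.of_isUnit_or_isUnit_of_isUnit_add ?_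
  have key : ∀ x : CartDual.D k A, IsNilpotent x ∨ IsUnit x := by
    intro x
    obtain ⟨y, hy⟩ := iter n x
    rw [hkill, AlgHom.comp_apply, Algebra.ofId_apply] at hy
    by_cases h0 : Bialgebra.counitAlgHom k (CartDual.D k A) y = 0
    · exact Or.inl ⟨p ^ n, by rw [hy, h0, map_zero]⟩
    · refine Or.inr ((isUnit_pow_iff (pow_ne_zero n (Fact.out : p.Prime).pos.ne')).1 ?_)
      rw [hy]
      exact (isUnit_iff_ne_zero.2 h0).map _
  intro a c hac
  rcases key a with ha | ha
  · refine Or.inr ?_
    have := ha.neg.isUnit_add_left_of_commute hac (Commute.all _ _)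
    rwa [add_neg_cancel_comm] at this
  · exact Or.inl ha


end Groth.Agent.S18543
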