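import Groth.Statements.S15832
import Mathlib

set_option autoImplicit false
universe u
open TopGrp

namespace Groth.Agent.S15832

/-- For a group T with a topology, let B be the family of two-sided translates x Γ y, where Γ runs over
the subgroups of T open in the given topology and x, y over T; the topology generated by B makes T a
topological group in which every neighbourhood of the identity contains a subgroup open for that
topology. (The published statement is for the free topological product of two Noohi groups whose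
open subgroups form a basis of neighbourhoods of the identity; the argument uses only the group
structure and the chosen family of subgroups, so the row is stated for an arbitrary group with a
topology. The published conventions include Hausdorffness in the word topological group; this row
does not assert it, and the published argument does not prove it.) -/
theorem result (T : Type u) [Group T]
    [TopologicalSpace T] :
    @NonarchimedeanGroup T _ (TopologicalSpace.generateFrom
      {S : Set T | ∃ (Γ : OpenSubgroup T) (x y : T), S = (fun g : T => x * g * y) '' (Γ : Set T)}) := by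
  suffices key : ∀ C : Set (Subgroup T), @NonarchimedeanGroup T _ (TopologicalSpace.generateFrom
      {S : Set T | ∃ Γ ∈ C, ∃ x y : T, S = (fun g : T => x * g * y) '' (Γ : Set T)}) by
    have e : {S : Set T | ∃ (Γ : OpenSubgroup T) (x y : T), S = (fun g : T => x * g * y) '' (Γ : Set T)} =
        {S : Set T | ∃ Γ ∈ Set.range (OpenSubgroup.toSubgroup : OpenSubgroup T → Subgroup T), ∃ x y : T, S = (fun g : T => x * g * y) '' (Γ : Set T)} := by
      ext S
      constructor
      · rintro ⟨Γ, x, y, h⟩; exact ⟨_, ⟨Γ, rfl⟩, x, y, h⟩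
      · rintro ⟨_, ⟨Γ, rfl⟩, x, y, h⟩; exact ⟨Γ, x, y, h⟩
    rw [e]; exact key _
  intro C
  set B := {S : Set T | ∃ Γ ∈ C, ∃ x y : T, S = (fun g : T => x * g * y) '' (Γ : Set T)}
  letI τ : TopologicalSpace T := TopologicalSpace.generateFrom B
  have hmem : ∀ (Γ : Subgroup T) (x y g : T), g ∈ (fun g : T => x * g * y) '' (Γ : Set T) ↔ x⁻¹ * g * y⁻¹ ∈ Γ := by
    intro Γ x y g
    constructor
    · rintro ⟨a, ha, rfl⟩; simpa [mul_assoc] using ha
    · intro h; exact ⟨_, h, by group⟩
  have hop : ∀ S ∈ B, IsOpen S := fun S hS => TopologicalSpace.isOpen_generateFrom_of_mem hS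
  have hmul : Continuous fun q : T × T => q.1 * q.2 := by
    refine continuous_generateFrom_iff.2 ?_
    rintro _ ⟨Γ, hΓ, x, y, rfl⟩
    rw [isOpen_iff_forall_mem_open]
    rintro ⟨g, h⟩ hgh
    rw [Set.mem_preimage, hmem] at hgh
    refine ⟨((fun a : T => (g * h * y⁻¹) * a * (y * h⁻¹)) '' (Γ : Set T)) ×ˢ ((fun a : T => (h * y⁻¹) * a * y) '' (Γ : Set T)), ?_,
      (hop _ ⟨Γ, hΓ, _, _, rfl⟩).prod (hop _ ⟨Γ, hΓ, _, _, rfl⟩), ?_⟩
    · rintro ⟨g', h'⟩ ⟨⟨a, ha, rfl⟩, ⟨b, hb, rfl⟩⟩
      rw [Set.mem_preimage, hmem]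
      have e : x⁻¹ * ((g * h * y⁻¹) * a * (y * h⁻¹) * ((h * y⁻¹) * b * y)) * y⁻¹ = (x⁻¹ * (g * h) * y⁻¹) * (a * b) := by group
      show x⁻¹ * ((g * h * y⁻¹) * a * (y * h⁻¹) * ((h * y⁻¹) * b * y)) * y⁻¹ ∈ Γ
      rw [e]
      exact Γ.mul_mem hgh (Γ.mul_mem ha hb)
    · exact ⟨⟨1, Γ.one_mem, by group⟩, ⟨1, Γ.one_mem, by group⟩⟩
  have hinv : Continuous fun g : T => g⁻¹ := by
    refine continuous_generateFrom_iff.2 ?_
    rintro _ ⟨Γ, hΓ, x, y, rfl⟩
    refine hop _ ⟨Γ, hΓ, y⁻¹, x⁻¹, ?_⟩
    ext g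
    rw [Set.mem_preimage, hmem, hmem]
    constructor <;> intro h <;> simpa [mul_assoc] using Γ.inv_mem h
  haveI : IsTopologicalGroup T := { continuous_mul := hmul, continuous_inv := hinv }
  have key : ∀ U, TopologicalSpace.GenerateOpen B U → (1 : T) ∈ U → ∃ V : OpenSubgroup T, (V : Set T) ⊆ U := by
    intro U hU
    induction hU with
    | basic S hS =>
      obtain ⟨Γ, hΓ, x, y, rfl⟩ := hS
      intro h1
      rw [hmem, mul_one] at h1
      let H : Subgroup T :=
        { carrier := (fun g : T => x * g * y) '' (Γ : Set T)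
          one_mem' := by rw [hmem, mul_one]; exact h1
          mul_mem' := fun {a b} ha hb => by
            rw [hmem] at ha hb ⊢
            have e : x⁻¹ * (a * b) * y⁻¹ = (x⁻¹ * a * y⁻¹) * (x⁻¹ * y⁻¹)⁻¹ * (x⁻¹ * b * y⁻¹) := by group
            rw [e]; exact Γ.mul_mem (Γ.mul_mem ha (Γ.inv_mem h1)) hb
          inv_mem' := fun {a} ha => by
            rw [hmem] at ha ⊢
            have e : x⁻¹ * a⁻¹ * y⁻¹ = (x⁻¹ * y⁻¹) * (x⁻¹ * a * y⁻¹)⁻¹ * (x⁻¹ * y⁻¹) := by group
            rw [e]; exact Γ.mul_mem (Γ.mul_mem h1 (Γ.inv_mem ha)) h1 }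
      exact ⟨⟨H, hop _ ⟨Γ, hΓ, x, y, rfl⟩⟩, subset_rfl⟩
    | univ => exact fun _ => ⟨⊤, Set.subset_univ _⟩
    | inter a b _ _ iha ihb =>
      intro h
      obtain ⟨V, hV⟩ := iha h.1
      obtain ⟨W, hW⟩ := ihb h.2
      exact ⟨V ⊓ W, fun z hz => ⟨hV hz.1, hW hz.2⟩⟩
    | sUnion S _ ih =>
      rintro ⟨s, hs, h1⟩
      obtain ⟨V, hV⟩ := ih s hs h1
      exact ⟨V, hV.trans (Set.subset_sUnion_of_mem hs)⟩
  refine { is_nonarchimedean := fun U hU => ?_ }
  obtain ⟨O, hOU, hO, h1⟩ := mem_nhds_iff.1 hU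
  obtain ⟨V, hV⟩ := key O hO h1
  exact ⟨V, hV.trans hOU⟩

end Groth.Agent.S15832
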