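import Groth.Statements.S15833
-- import your own Groth.Agent.* helpers here

set_option autoImplicit false
universe u
open EtBase

namespace Groth.Agent.S15833

open CategoryTheory CategoryTheory.Limits AlgebraicGeometry in
/-- Let i : X₀ ⟶ X be a surjective closed immersion of schemes and f : Y ⟶ X a morphism. Then f
satisfies the valuative criterion (existence and uniqueness of a lift in every valuative square,
over arbitrary valuation rings) if and only if its base change Y ×_X X₀ ⟶ X₀ does. (The published
statement takes X locally Noetherian and connected, X₀ the reduced closed subscheme with the same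
underlying space and f étale, and combines this step with the equivalence between étale schemes over
X and over X₀ to identify the geometric coverings, i.e. the étale morphisms satisfying the valuative
criterion, of X and of X₀; the argument for this step uses only that X₀ ⟶ X is a surjective closed
immersion and that valuation rings are reduced.) -/
theorem result {X X₀ Y : Scheme.{u}} (i : X₀ ⟶ X)
    [IsClosedImmersion i] [Surjective i] (f : Y ⟶ X) :
    ValuativeCriterion f ↔ ValuativeCriterion (pullback.snd f i) := by
  have hiso : ∀ {R : Type u} [CommRing R] [IsDomain R] (p : Spec (CommRingCat.of R) ⟶ X),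
      ∃ q, q ≫ i = p := by
    intro R _ _ p
    haveI : IsIso (pullback.snd i p) := isIso_of_isClosedImmersion_of_surjective _
    exact ⟨inv (pullback.snd i p) ≫ pullback.fst i p, by rw [Category.assoc, pullback.condition, IsIso.inv_hom_id_assoc]⟩
  constructor
  · intro h S
    let S' : ValuativeCommSq f :=
      { R := S.R, K := S.K, i₁ := S.i₁ ≫ pullback.fst f i, i₂ := S.i₂ ≫ i
        commSq := ⟨by rw [Category.assoc, pullback.condition, ← Category.assoc, S.commSq.w, Category.assoc]⟩ }
    obtain ⟨u⟩ := h S'
    let l := u.default
    let l₀ : S.commSq.LiftStruct :=
      { l := pullback.lift l.l S.i₂ l.fac_right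
        fac_left := by
          apply pullback.hom_ext
          · rw [Category.assoc, pullback.lift_fst]; exact l.fac_left
          · rw [Category.assoc, pullback.lift_snd]; exact S.commSq.w.symm
        fac_right := pullback.lift_snd _ _ _ }
    refine ⟨⟨⟨l₀⟩, fun m => CommSq.LiftStruct.ext ?_⟩⟩
    apply pullback.hom_ext
    · let m' : S'.commSq.LiftStruct :=
        { l := m.l ≫ pullback.fst f i
          fac_left := by simp [S', reassoc_of% m.fac_left]
          fac_right := by rw [Category.assoc, pullback.condition, ← Category.assoc, m.fac_right] }
      show m.l ≫ pullback.fst f i = l₀.l ≫ pullback.fst f i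
      exact (congrArg CommSq.LiftStruct.l (u.uniq m')).trans (pullback.lift_fst _ _ _).symm
    · exact m.fac_right.trans l₀.fac_right.symm
  · intro h S
    obtain ⟨q, hq⟩ := hiso (R := S.R) S.i₂
    let S' : ValuativeCommSq (pullback.snd f i) :=
      { R := S.R, K := S.K
        i₁ := pullback.lift S.i₁ (Spec.map (CommRingCat.ofHom (algebraMap S.R S.K)) ≫ q) (by rw [Category.assoc, hq, S.commSq.w])
        i₂ := q
        commSq := ⟨pullback.lift_snd _ _ _⟩ }
    obtain ⟨u⟩ := h S'
    let l := u.default
    let l₀ : S.commSq.LiftStruct :=
      { l := l.l ≫ pullback.fst f i
        fac_left := by rw [← Category.assoc, l.fac_left]; exact pullback.lift_fst _ _ _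
        fac_right := by rw [Category.assoc, pullback.condition, ← Category.assoc, l.fac_right]; exact hq }
    refine ⟨⟨⟨l₀⟩, fun m => CommSq.LiftStruct.ext ?_⟩⟩
    let m' : S'.commSq.LiftStruct :=
      { l := pullback.lift m.l q (by rw [m.fac_right, hq])
        fac_left := by
          apply pullback.hom_ext
          · rw [Category.assoc, pullback.lift_fst]; exact m.fac_left.trans (pullback.lift_fst _ _ _).symm
          · rw [Category.assoc, pullback.lift_snd]; exact (pullback.lift_snd _ _ _).symm
        fac_right := pullback.lift_snd _ _ _ }
    have := congrArg (fun z => z.l ≫ pullback.fst f i) (u.uniq m')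
    exact (pullback.lift_fst _ _ _).symm.trans this

end Groth.Agent.S15833
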