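import Groth.Statements.S15835
import Mathlib.Tactic
import Mathlib.RingTheory.MvPolynomial.Basic
import Mathlib.RingTheory.Ideal.Quotient.Operations
import Mathlib.LinearAlgebra.Basis.Basic
import Mathlib.Data.Matrix.Mul
import Mathlib.NumberTheory.Bernoulli
import Mathlib.RingTheory.PowerSeries.Inverse
import Mathlib.RingTheory.AdicCompletion.Basic
import Mathlib.LinearAlgebra.Matrix.Charpoly.Coeff
import Mathlib.Algebra.Polynomial.Expand
import Mathlib.NumberTheory.Padics.PadicVal.Basic
import Mathlib.RingTheory.IntegralClosure.IsIntegralClosure.Basic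
import Mathlib.GroupTheory.Torsion
import Mathlib.Algebra.MonoidAlgebra.Basic
import Mathlib.RingTheory.Norm.Basic
import Mathlib.LinearAlgebra.Eigenspace.Zero
import Mathlib.RingTheory.LocalRing.ResidueField.Basic
import Mathlib.RingTheory.Artinian.Module
import Mathlib.FieldTheory.IsAlgClosed.Basic
import Mathlib.RingTheory.Ideal.AssociatedPrime.Basic
import Mathlib.RingTheory.Ideal.MinimalPrime.Noetherian
import Mathlib.RingTheory.RegularLocalRing.Defs
import Mathlib.RingTheory.Ideal.KrullsHeightTheorem
import Mathlib.RingTheory.Nakayama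

set_option autoImplicit false
universe u
open SprIso

namespace Groth.Agent.S15835

/-- Over a commutative ring R of prime characteristic p, let n ≥ 1 and let p^m be the largest power of p
dividing n. The locus of n × n matrices with characteristic polynomial t^n is stable under adding a
scalar matrix a·1 with n·a = 0 exactly when a^(p^m) = 0: for X with characteristic polynomial t^n
and such an a, the matrix X + a·1 has characteristic polynomial t^n if and only if a^(p^m) = 0.
(Stated on points with values in an arbitrary ring of characteristic p; the scheme-theoretic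
assertion about the nilpotent scheme of SL_n is this statement for all such rings.) -/
theorem result (p : ℕ) [Fact p.Prime] (R : Type u) [CommRing R]
    [CharP R p] (n : ℕ) (hn : 0 < n) (X : Matrix (Fin n) (Fin n) R) (hX : X.charpoly = Polynomial.X ^ n)
    (a : R) (ha : (n : R) * a = 0) :
    (X + Matrix.scalar (Fin n) a).charpoly = Polynomial.X ^ n ↔ a ^ (p ^ padicValNat p n) = 0 := by
  have hc : (X + Matrix.scalar (Fin n) a).charpoly = (Polynomial.X - Polynomial.C a) ^ n := by
    have := Matrix.charpoly_sub_scalar X (-a)
    rw [map_neg, sub_neg_eq_add, hX] at this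
    rw [this, Polynomial.pow_comp, Polynomial.X_comp, map_neg, sub_eq_add_neg]
  rw [hc]
  obtain ⟨m, hm⟩ : p ^ padicValNat p n ∣ n := pow_padicValNat_dvd
  generalize hv : padicValNat p n = v at hm ⊢
  have hpm : ¬ p ∣ m := by
    rintro ⟨c, rfl⟩
    exact pow_succ_padicValNat_not_dvd hn.ne' ⟨c, by rw [hv, hm, pow_succ]; ring⟩
  have hunit : IsUnit (m : R) := by
    obtain ⟨c, d, hcd⟩ : IsCoprime (m : ℤ) (p : ℤ) := Nat.Coprime.isCoprime (((Fact.out : p.Prime).coprime_iff_not_dvd.2 hpm).symm)
    refine IsUnit.of_mul_eq_one (b := (c : R)) ?_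
    have := congrArg (Int.cast : ℤ → R) hcd
    push_cast at this
    rw [CharP.cast_eq_zero R p, mul_zero, add_zero, mul_comm] at this
    exact this
  nontriviality R
  rw [hm, pow_mul, sub_pow_char_pow, ← map_pow]
  have hm0 : m ≠ 0 := fun h => hpm (h ▸ dvd_zero p)
  constructor
  · intro h
    have he : Polynomial.expand R (p ^ v) ((Polynomial.X - Polynomial.C (a ^ p ^ v)) ^ m) = Polynomial.expand R (p ^ v) (Polynomial.X ^ m) := by
      simp only [map_pow, map_sub, Polynomial.expand_X, Polynomial.expand_C]
      simpa [← pow_mul] using h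
    have h2 := congrArg Polynomial.nextCoeff (Polynomial.expand_injective (pow_pos (Fact.out : p.Prime).pos v) he)
    rw [Polynomial.Monic.nextCoeff_pow (Polynomial.monic_X_sub_C _), Polynomial.nextCoeff_X_sub_C, Polynomial.Monic.nextCoeff_pow Polynomial.monic_X] at h2
    simp [Polynomial.nextCoeff] at h2
    obtain ⟨w, hw⟩ := hunit
    rw [← hw] at h2
    exact (Units.mul_right_eq_zero w).1 h2
  · intro h; rw [h, map_zero, sub_zero, ← pow_mul]

end Groth.Agent.S15835
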