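import Groth.Statements.S15836
import Mathlib

set_option autoImplicit false
universe u
open SprIso

namespace Groth.Agent.S15836

open Polynomial in
theorem gauss {K : Type*} [Field K] (V : ValuationSubring K) (p q : K[X])
    (h : ∀ n, (p * q).coeff n ∈ V) (i j : ℕ) : p.coeff i * q.coeff j ∈ V := by
  classical
  rw [← V.valuation_le_one_iff, map_mul]
  by_cases hp : p = 0
  · simp [hp]
  by_cases hq : q = 0
  · simp [hq]
  set v := V.valuation with hv
  -- first index of maximal valuation
  have first : ∀ r : K[X], r ≠ 0 → ∃ i0, (∀ i, v (r.coeff i) ≤ v (r.coeff i0)) ∧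
      (∀ i < i0, v (r.coeff i) < v (r.coeff i0)) ∧ v (r.coeff i0) ≠ 0 := by
    intro r hr
    obtain ⟨m, hm, hmax⟩ := Finset.exists_max_image r.support (fun i => v (r.coeff i))
      (Finset.nonempty_iff_ne_empty.mpr (by simpa using hr))
    have hmax' : ∀ i, v (r.coeff i) ≤ v (r.coeff m) := by
      intro i
      by_cases hi : i ∈ r.support
      · exact hmax i hi
      · simp [Polynomial.notMem_support_iff.mp hi]
    have hex : ∃ i, v (r.coeff i) = v (r.coeff m) := ⟨m, rfl⟩
    refine ⟨Nat.find hex, fun i => by rw [Nat.find_spec hex]; exact hmax' i, fun i hi => ?_, ?_⟩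
    · rw [Nat.find_spec hex]
      exact lt_of_le_of_ne (hmax' i) (Nat.find_min hex hi)
    · rw [Nat.find_spec hex]
      exact v.ne_zero_iff.mpr (Polynomial.mem_support_iff.mp hm)
  obtain ⟨i0, hi0, hi0', hi0n⟩ := first p hp
  obtain ⟨j0, hj0, hj0', hj0n⟩ := first q hq
  have hc : v ((p * q).coeff (i0 + j0)) = v (p.coeff i0) * v (q.coeff j0) := by
    rw [Polynomial.coeff_mul, ← map_mul]
    refine Valuation.map_sum_eq_of_lt v (j := (i0, j0)) (by simp) ?_
    rintro ⟨a, b⟩ hab
    simp only [Finset.mem_sdiff, Finset.HasAntidiagonal.mem_antidiagonal, Finset.mem_singleton,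
      Prod.mk.injEq] at hab
    simp only [map_mul]
    rcases lt_trichotomy a i0 with ha | ha | ha
    · exact (mul_le_mul' le_rfl (hj0 b)).trans_lt (mul_lt_mul_of_pos_right (hi0' a ha) (zero_lt_iff.mpr hj0n))
    · omega
    · exact (mul_le_mul' (hi0 a) le_rfl).trans_lt (mul_lt_mul_of_pos_left (hj0' b (by omega)) (zero_lt_iff.mpr hi0n))
  have := (V.valuation_le_one_iff _).mpr (h (i0 + j0))
  rw [← hv, hc] at this
  exact (mul_le_mul' (hi0 i) (hj0 j)).trans this

open Polynomial in
theorem dvd_coeff_mul {A : Type*} [CommRing A] [IsDomain A] [IsIntegrallyClosed A]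
    (p q : A[X]) {h : A} (hh : h ≠ 0) (hd : ∀ n, h ∣ (p * q).coeff n) (i j : ℕ) :
    h ∣ p.coeff i * q.coeff j := by
  let K := FractionRing A
  let f := algebraMap A K
  have hf : f h ≠ 0 := (map_ne_zero_iff f (IsFractionRing.injective A K)).mpr hh
  have hint : IsIntegral A ((f h)⁻¹ * f (p.coeff i) * f (q.coeff j)) := by
    have key : (f h)⁻¹ * f (p.coeff i) * f (q.coeff j) ∈
        ⨅ V : {V : ValuationSubring K // (f.range : Set K) ⊆ V.toSubring}, V.1.toSubring := by
      rw [Subring.mem_iInf]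
      intro V
      have := gauss V.1 (Polynomial.C (f h)⁻¹ * p.map f) (q.map f) (fun n => by
        obtain ⟨c, hc⟩ := hd n
        rw [mul_assoc, ← Polynomial.map_mul, Polynomial.coeff_C_mul, Polynomial.coeff_map, hc,
          map_mul, inv_mul_cancel_left₀ hf]
        exact V.2 ⟨c, rfl⟩) i j
      rw [Polynomial.coeff_C_mul, Polynomial.coeff_map, Polynomial.coeff_map] at this
      exact this
    rw [iInf_valuationSubring_superset, Subring.closure_eq] at key
    obtain ⟨P, hP1, hP2⟩ : IsIntegral f.range ((f h)⁻¹ * f (p.coeff i) * f (q.coeff j)) := key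
    have hs : Function.Surjective f.rangeRestrict := f.rangeRestrict_surjective
    have hl : P ∈ Polynomial.lifts f.rangeRestrict := by
      rw [Polynomial.lifts_iff_coeff_lifts]; exact fun n => hs _
    obtain ⟨Q, hQ, -, hQm⟩ := Polynomial.lifts_and_degree_eq_and_monic hl hP1
    refine ⟨Q, hQm, ?_⟩
    rw [← hQ, Polynomial.eval₂_map] at hP2
    exact hP2
  obtain ⟨y, hy⟩ := IsIntegrallyClosed.isIntegral_iff.mp hint
  refine ⟨y, IsFractionRing.injective A K ?_⟩
  rw [map_mul, map_mul, hy, mul_assoc, mul_inv_cancel_left₀ hf]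

section Graded
open Polynomial
variable {A : Type*} [CommRing A] [IsDomain A] [IsIntegrallyClosed A] (φ : A →+* A[X])
  (hev : ∀ a, (φ a).eval 1 = a) (hhom : ∀ a n, φ ((φ a).coeff n) = Polynomial.C ((φ a).coeff n) * X ^ n)

include hev in
theorem phi_inj : Function.Injective φ := fun a b h => by rw [← hev a, ← hev b, h]

include hev hhom in
theorem exists_hom_dvd {g : A} (hg : g ≠ 0) (J : Ideal A) (hgJ : g ∈ J)
    (hmin : ∀ x ∈ J, x ≠ 0 → (φ g).natDegree - (φ g).natTrailingDegree ≤
      (φ x).natDegree - (φ x).natTrailingDegree) :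
    ∀ N : ℕ, ∀ x ∈ J, (φ x).natDegree - (φ x).natTrailingDegree < N →
      ∃ s : A, s ≠ 0 ∧ (∃ e, φ s = Polynomial.C s * X ^ e) ∧ g ∣ s * x := by
  intro N
  induction N with
  | zero => intro x _ h; exact absurd h (Nat.not_lt_zero _)
  | succ N ih =>
    intro x hx hN
    have hinj := phi_inj φ hev
    by_cases hx0 : x = 0
    · exact ⟨1, one_ne_zero, ⟨0, by simp⟩, by simp [hx0]⟩
    have hG : φ g ≠ 0 := fun h => hg (hinj (by simpa using h))
    have hF : φ x ≠ 0 := fun h => hx0 (hinj (by simpa using h))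
    have hw := hmin x hx hx0
    have hFt := natTrailingDegree_le_natDegree (φ x)
    have hGt := natTrailingDegree_le_natDegree (φ g)
    set D := (φ g).natDegree with hD
    set E := (φ x).natDegree with hE
    set a := (φ g).coeff D with ha
    set b := (φ x).coeff E with hb
    have hφa : φ a = Polynomial.C a * X ^ D := hhom g D
    have hφb : φ b = Polynomial.C b * X ^ E := hhom x E
    have ha0 : a ≠ 0 := by rw [ha, hD]; exact fun h => hG (leadingCoeff_eq_zero.mp h)
    set y := a * x - b * g with hy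
    by_cases hy0 : y = 0
    · exact ⟨a, ha0, ⟨D, hφa⟩, ⟨b, by rw [sub_eq_zero.mp (hy ▸ hy0 : a * x - b * g = 0)]; ring⟩⟩
    have hY : φ y = Polynomial.C a * φ x * X ^ D - Polynomial.C b * φ g * X ^ E := by
      rw [hy, map_sub, map_mul, map_mul, hφa, hφb]; ring
    have hY0 : φ y ≠ 0 := fun h => hy0 (hinj (by simpa using h))
    have hwy : (φ y).natDegree - (φ y).natTrailingDegree < N := by
      have hzero_hi : ∀ n, D + E ≤ n → (φ y).coeff n = 0 := by
        intro n hn
        rw [hY, coeff_sub, coeff_mul_X_pow', coeff_mul_X_pow', if_pos (by omega), if_pos (by omega),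
          Polynomial.coeff_C_mul, Polynomial.coeff_C_mul]
        rcases eq_or_lt_of_le hn with rfl | hlt
        · rw [show D + E - D = E by omega, show D + E - E = D by omega, ← hb, ← ha]; ring
        · rw [coeff_eq_zero_of_natDegree_lt (show (φ x).natDegree < n - D by omega),
            coeff_eq_zero_of_natDegree_lt (show (φ g).natDegree < n - E by omega)]; simp
      have hzero_lo : ∀ n, n < D + (φ x).natTrailingDegree → (φ y).coeff n = 0 := by
        intro n hn
        rw [hY, coeff_sub, coeff_mul_X_pow', coeff_mul_X_pow']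
        have e1 : (if D ≤ n then (Polynomial.C a * φ x).coeff (n - D) else 0) = 0 := by
          split_ifs with h
          · rw [Polynomial.coeff_C_mul, coeff_eq_zero_of_lt_natTrailingDegree (by omega), mul_zero]
          · rfl
        have e2 : (if E ≤ n then (Polynomial.C b * φ g).coeff (n - E) else 0) = 0 := by
          split_ifs with h
          · rw [Polynomial.coeff_C_mul, coeff_eq_zero_of_lt_natTrailingDegree (by omega), mul_zero]
          · rfl
        rw [e1, e2, sub_zero]
      have h1 : (φ y).natDegree < D + E := by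
        by_contra h
        exact hY0 (leadingCoeff_eq_zero.mp (hzero_hi _ (not_lt.mp h)))
      have h2 : D + (φ x).natTrailingDegree ≤ (φ y).natTrailingDegree :=
        le_natTrailingDegree hY0 hzero_lo
      have h3 := natTrailingDegree_le_natDegree (φ y)
      omega
    obtain ⟨s, hs0, ⟨e, hse⟩, m, hm⟩ := ih y (J.sub_mem (J.mul_mem_left a hx) (J.mul_mem_left b hgJ)) hwy
    refine ⟨s * a, mul_ne_zero hs0 ha0, ⟨e + D, ?_⟩, ⟨m + s * b, ?_⟩⟩
    · rw [map_mul, hse, hφa, map_mul, pow_add]; ring
    · linear_combination hm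

variable (h0 : ∀ a, (φ a).coeff 0 = 0 ∨ IsUnit ((φ a).coeff 0))
include hev hhom h0 in
theorem isPrincipal_of_mul_eq (J K : Ideal A) {f : A} (hf : f ≠ 0) (hJK : J * K = Ideal.span {f}) :
    J.IsPrincipal := by
  classical
  have hfd : ∀ x ∈ J, ∀ k ∈ K, f ∣ x * k := fun x hx k hk =>
    Ideal.mem_span_singleton.mp (hJK ▸ Ideal.mul_mem_mul hx hk)
  obtain ⟨l, hl, hsum⟩ : ∃ l : List (A × A), (∀ p ∈ l, p.1 ∈ J ∧ p.2 ∈ K) ∧
      (l.map fun p => p.1 * p.2).sum = f := by
    have hfmem : f ∈ J * K := hJK ▸ Ideal.mem_span_singleton_self f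
    refine Submodule.mul_induction_on hfmem (fun a ha b hb => ⟨[(a, b)], by simp [ha, hb], by simp⟩) ?_
    rintro x y ⟨l1, h1, rfl⟩ ⟨l2, h2, rfl⟩
    exact ⟨l1 ++ l2, fun p hp => (List.mem_append.mp hp).elim (h1 p) (h2 p), by simp⟩
  have hJne : ∃ x, x ∈ J ∧ x ≠ 0 := by
    by_contra h
    push Not at h
    refine hf ?_
    rw [← hsum]
    refine List.sum_eq_zero fun z hz => ?_
    obtain ⟨p, hp, rfl⟩ := List.mem_map.mp hz
    rw [h _ (hl p hp).1, zero_mul]
  -- element of minimal width
  have hex : ∃ w, ∃ x, x ∈ J ∧ x ≠ 0 ∧ (φ x).natDegree - (φ x).natTrailingDegree = w :=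
    let ⟨x, h1, h2⟩ := hJne; ⟨_, x, h1, h2, rfl⟩
  obtain ⟨g, hgJ, hg, hgw⟩ := Nat.find_spec hex
  have hmin : ∀ x ∈ J, x ≠ 0 → (φ g).natDegree - (φ g).natTrailingDegree ≤
      (φ x).natDegree - (φ x).natTrailingDegree := fun x hx hx0 =>
    hgw ▸ Nat.find_min' hex ⟨x, hx, hx0, rfl⟩
  -- one homogeneous s for all x
  obtain ⟨s, hs0, ⟨e, hse⟩, hsg⟩ : ∃ s : A, s ≠ 0 ∧ (∃ e, φ s = Polynomial.C s * X ^ e) ∧
      ∀ p ∈ l, g ∣ s * p.1 := by
    clear hsum
    induction l with
    | nil => exact ⟨1, one_ne_zero, ⟨0, by simp⟩, by simp⟩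
    | cons p l ih =>
      obtain ⟨s, hs, ⟨e, he⟩, hd⟩ := ih (fun q hq => hl q (List.mem_cons_of_mem _ hq))
      obtain ⟨t, ht, ⟨d, htd⟩, hpd⟩ := exists_hom_dvd φ hev hhom hg J hgJ hmin _ p.1
        (hl p List.mem_cons_self).1 (Nat.lt_succ_self _)
      refine ⟨s * t, mul_ne_zero hs ht, ⟨e + d, by rw [map_mul, he, htd, map_mul, pow_add]; ring⟩, ?_⟩
      intro q hq
      rcases List.mem_cons.mp hq with rfl | hq
      · rw [mul_assoc]; exact hpd.mul_left s
      · rw [mul_comm s t, mul_assoc]; exact (hd q hq).mul_left t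
  have hall : ∀ x ∈ J, g ∣ s * x := by
    intro x hx
    obtain ⟨c, hc⟩ : g * f ∣ s * x * f := by
      conv => arg 2; rw [← hsum, ← List.sum_map_mul_left]
      apply List.dvd_sum
      intro z hz
      obtain ⟨p, hp, rfl⟩ := List.mem_map.mp hz
      obtain ⟨u, hu⟩ := hsg p hp
      obtain ⟨v, hv⟩ := hfd x hx p.2 (hl p hp).2
      exact ⟨u * v, by linear_combination (x * p.2) * hu + (g * u) * hv⟩
    exact ⟨c, mul_right_cancel₀ hf (by linear_combination hc)⟩
  choose! u hu using hall
  choose! m hm using fun (p : A × A) (hp : p ∈ l) => hfd g hgJ p.2 (hl p hp).2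
  have hkey : ∀ x ∈ J, ∀ p ∈ l, s ∣ u x * m p := by
    intro x hx p hp
    obtain ⟨c, hc⟩ := hfd x hx p.2 (hl p hp).2
    refine ⟨c, mul_left_cancel₀ (mul_ne_zero hg hf) ?_⟩
    linear_combination (-(f * m p)) * hu x hx + (-(s * x)) * hm p hp + (g * s) * hc
  have hsm : (l.map fun p => u p.1 * m p).sum = s := by
    refine mul_left_cancel₀ (mul_ne_zero hg hf) ?_
    rw [← List.sum_map_mul_left]
    conv_rhs => rw [← hsum, mul_comm _ s, mul_comm g, ← List.sum_map_mul_right, ← List.sum_map_mul_left]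
    congr 1
    refine List.map_congr_left fun p hp => ?_
    linear_combination (-(f * m p)) * hu p.1 (hl p hp).1 + (-(s * p.1)) * hm p hp
  -- coefficient products
  have hdiv : ∀ x ∈ J, ∀ p ∈ l, ∀ i j, s ∣ (φ (u x)).coeff i * (φ (m p)).coeff j := by
    intro x hx p hp i j
    obtain ⟨c, hc⟩ := hkey x hx p hp
    refine dvd_coeff_mul _ _ hs0 (fun n => ?_) i j
    rw [← map_mul, hc, map_mul, hse, mul_assoc, Polynomial.coeff_C_mul]
    exact dvd_mul_right _ _
  obtain ⟨p0, hp0, d, d', hdd, hne⟩ : ∃ p0 ∈ l, ∃ d d', d + d' = e ∧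
      (φ (u p0.1)).coeff d * (φ (m p0)).coeff d' ≠ 0 := by
    by_contra h
    push Not at h
    refine hs0 ?_
    have := congrArg (fun z => (φ z).coeff e) hsm
    simp only [map_list_sum, hse, Polynomial.coeff_C_mul, coeff_X_pow, if_true, mul_one] at this
    rw [← this]
    rw [← lcoeff_apply, map_list_sum]
    refine List.sum_eq_zero fun z hz => ?_
    simp only [List.mem_map] at hz
    obtain ⟨_, ⟨_, ⟨p, hp, rfl⟩, rfl⟩, rfl⟩ := hz
    rw [lcoeff_apply, map_mul, Polynomial.coeff_mul]
    exact Finset.sum_eq_zero fun ij hij => h p hp _ _ (Finset.HasAntidiagonal.mem_antidiagonal.mp hij)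
  set ud := (φ (u p0.1)).coeff d with hud
  set md := (φ (m p0)).coeff d' with hmd
  obtain ⟨a, hα⟩ := hdiv p0.1 (hl p0 hp0).1 p0 hp0 d d'
  rw [← hud, ← hmd] at hα
  have haunit : IsUnit a := by
    have h1 : φ (ud * md) = Polynomial.C (ud * md) * X ^ e := by
      rw [map_mul, hud, hmd, hhom, hhom, ← hud, ← hmd, map_mul, ← hdd, pow_add]; ring
    rw [hα, map_mul, hse] at h1
    have h2 := congrArg (fun z => Polynomial.coeff z e) h1
    simp only [Polynomial.coeff_C_mul, coeff_X_pow, if_true, mul_one, mul_assoc,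
      coeff_X_pow_mul', le_refl, Nat.sub_self] at h2
    have h3 : (φ a).coeff 0 = a := mul_left_cancel₀ hs0 h2
    rcases h0 a with h | h
    · rw [h3] at h; exact absurd (by rw [hα, h, mul_zero] : ud * md = 0) hne
    · rwa [h3] at h
  -- ud is in the image
  have hudm : ∀ p ∈ l, s ∣ ud * m p := by
    intro p hp
    rw [← hev (m p), eval_eq_sum_range, Finset.mul_sum]
    refine Finset.dvd_sum fun n _ => ?_
    rw [one_pow, mul_one]
    exact hdiv p0.1 (hl p0 hp0).1 p hp d n
  choose! c hc using hudm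
  set x0 := (l.map fun p => p.1 * c p).sum with hx0
  have hx0J : x0 ∈ J := by
    refine list_sum_mem fun z hz => ?_
    obtain ⟨p, hp, rfl⟩ := List.mem_map.mp hz
    exact J.mul_mem_right _ (hl p hp).1
  have hux0 : s * x0 = g * ud := by
    refine mul_left_cancel₀ hs0 ?_
    conv_rhs => rw [← hsm]
    rw [hx0, ← List.sum_map_mul_left, ← List.sum_map_mul_left, ← List.sum_map_mul_right]
    congr 1
    refine List.map_congr_left fun p hp => ?_
    linear_combination (s * c p) * hu p.1 (hl p hp).1 - (g * u p.1) * hc p hp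
  refine ⟨x0, le_antisymm (fun x hx => ?_) ((Ideal.span_singleton_le_iff_mem J).mpr hx0J)⟩
  obtain ⟨b, hb⟩ : s ∣ u x * md := by
    rw [← hev (u x), eval_eq_sum_range, Finset.sum_mul]
    refine Finset.dvd_sum fun n _ => ?_
    rw [one_pow, mul_one]
    exact hdiv x hx p0 hp0 n d'
  obtain ⟨ai, hai⟩ := haunit
  refine Ideal.mem_span_singleton.mpr ⟨b * ↑ai⁻¹, mul_left_cancel₀ hs0 ?_⟩
  have h1 : u x * (s * a) = ud * (s * b) := by rw [← hα, ← hb]; ring
  have h2 : u x * a = ud * b := mul_left_cancel₀ hs0 (by linear_combination h1)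
  have h3 : (a : A) * ↑ai⁻¹ = 1 := by rw [← hai]; exact ai.mul_inv
  linear_combination hu x hx + (g * ↑ai⁻¹) * h2 - (g * u x) * h3 - (b * ↑ai⁻¹) * hux0

end Graded


/-- Let k be a field and C a closed subscheme of affine n-space over k which is stable under the scaling
action of the affine line, i.e. C = Spec A with A = k[x_1, …, x_n]/I for an ideal I generated by
homogeneous polynomials, and assume C is normal (A is an integrally closed domain). Then Pic(C) = 0:
every invertible A-module is free. -/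
theorem result (k : Type u) [Field k] (n : ℕ)
    (I : Ideal (MvPolynomial (Fin n) k))
    (hI : ∃ s : Set (MvPolynomial (Fin n) k), (∀ f ∈ s, ∃ d : ℕ, f.IsHomogeneous d) ∧ I = Ideal.span s)
    [IsDomain (MvPolynomial (Fin n) k ⧸ I)] [IsIntegrallyClosed (MvPolynomial (Fin n) k ⧸ I)]
    (M : Type u) [AddCommGroup M] [Module (MvPolynomial (Fin n) k ⧸ I) M]
    [Module.Invertible (MvPolynomial (Fin n) k ⧸ I) M] :
    Module.Free (MvPolynomial (Fin n) k ⧸ I) M := by
  classical
  set B := MvPolynomial (Fin n) k ⧸ I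
  let mk : MvPolynomial (Fin n) k →+* B := Ideal.Quotient.mk I
  let ψ : MvPolynomial (Fin n) k →+* Polynomial B :=
    MvPolynomial.eval₂Hom ((Polynomial.C).comp (mk.comp MvPolynomial.C))
      (fun i => Polynomial.C (mk (MvPolynomial.X i)) * Polynomial.X)
  have hψ : ∀ (f : MvPolynomial (Fin n) k) (d : ℕ), f.IsHomogeneous d →
      ψ f = Polynomial.C (mk f) * Polynomial.X ^ d := by
    intro f d hf
    conv_lhs => rw [f.as_sum]
    conv_rhs => rw [f.as_sum]
    simp only [map_sum, Finset.sum_mul]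
    refine Finset.sum_congr rfl fun m hm => ?_
    have hd : m.sum (fun _ e => e) = d := by
      rw [← hf (MvPolynomial.mem_support_iff.mp hm)]
      simp [Finsupp.weight_apply, Finsupp.sum]
    rw [MvPolynomial.eval₂Hom_monomial, MvPolynomial.monomial_eq, map_mul, map_mul, ← hd]
    simp only [Finsupp.prod, Finsupp.sum, map_prod, map_pow, mul_pow, Finset.prod_mul_distrib,
      Finset.prod_pow_eq_pow_sum, RingHom.comp_apply]
    have : ∏ x ∈ m.support, (Polynomial.C (mk (MvPolynomial.X x)) * Polynomial.X) ^ m x =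
        (∏ x ∈ m.support, Polynomial.C (mk (MvPolynomial.X x)) ^ m x) * Polynomial.X ^ ∑ x ∈ m.support, m x := by
      exact (Finset.prod_congr rfl fun x _ => mul_pow _ _ _).trans
        (Finset.prod_mul_distrib.trans (congrArg (_ * ·) (Finset.prod_pow_eq_pow_sum _ _ _)))
    refine (congrArg (_ * ·) this).trans ?_
    ring
  have hker : ∀ f ∈ I, ψ f = 0 := by
    obtain ⟨S, hS, rfl⟩ := hI
    intro f hf
    refine Submodule.span_induction (p := fun f _ => ψ f = 0) ?_ (map_zero ψ) ?_ ?_ hf
    · intro g hg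
      obtain ⟨d, hd⟩ := hS g hg
      rw [hψ g d hd, (Ideal.Quotient.eq_zero_iff_mem).mpr (Ideal.subset_span hg), map_zero, zero_mul]
    · intro x y _ _ hx hy; rw [map_add, hx, hy, add_zero]
    · intro c x _ hx; rw [smul_eq_mul, map_mul, hx, mul_zero]
  let φ : B →+* Polynomial B := Ideal.Quotient.lift I ψ hker
  have hφ : ∀ p, φ (mk p) = ψ p := fun p => Ideal.Quotient.lift_mk I ψ hker
  have hev : ∀ a, (φ a).eval 1 = a := by
    intro a
    obtain ⟨p, rfl⟩ := Ideal.Quotient.mk_surjective a
    rw [hφ]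
    change ((Polynomial.evalRingHom 1).comp ψ) p = mk p
    congr 1
    refine MvPolynomial.ringHom_ext (fun r => ?_) (fun i => ?_) <;> simp [ψ, mk]
  have hcoeff : ∀ p N, (φ (mk p)).coeff N = mk (MvPolynomial.homogeneousComponent N p) := by
    intro p N
    rw [hφ]
    conv_lhs => rw [← MvPolynomial.sum_homogeneousComponent p]
    rw [map_sum, Polynomial.finsetSum_coeff]
    simp only [hψ _ _ (MvPolynomial.homogeneousComponent_isHomogeneous _ p), Polynomial.coeff_C_mul,
      Polynomial.coeff_X_pow, mul_ite, mul_one, mul_zero, Finset.sum_ite_eq, Finset.mem_range]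
    split_ifs with h
    · rfl
    · rw [MvPolynomial.homogeneousComponent_eq_zero _ _ (by omega), map_zero]
  have hhom : ∀ a N, φ ((φ a).coeff N) = Polynomial.C ((φ a).coeff N) * Polynomial.X ^ N := by
    intro a N
    obtain ⟨p, rfl⟩ := Ideal.Quotient.mk_surjective a
    rw [hcoeff, hφ]
    exact hψ _ _ (MvPolynomial.homogeneousComponent_isHomogeneous N p)
  have h0 : ∀ a, (φ a).coeff 0 = 0 ∨ IsUnit ((φ a).coeff 0) := by
    intro a
    obtain ⟨p, rfl⟩ := Ideal.Quotient.mk_surjective a
    rw [hcoeff, MvPolynomial.homogeneousComponent_zero]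
    by_cases h : MvPolynomial.coeff 0 p = 0
    · left; simp [h]
    · right; exact ((isUnit_iff_ne_zero.mpr h).map MvPolynomial.C).map mk
  have hcl : Subsingleton (ClassGroup B) := by
    refine ⟨fun x y => ?_⟩
    suffices h : ∀ z : ClassGroup B, z = 1 by rw [h x, h y]
    intro z
    refine ClassGroup.induction (K := FractionRing B) (P := fun z => z = 1) (fun U => ?_) z
    rw [ClassGroup.mk_eq_one_iff]
    obtain ⟨a, J, ha, hJ⟩ := FractionalIdeal.exists_eq_spanSingleton_mul (U : FractionalIdeal (nonZeroDivisors B) (FractionRing B))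
    obtain ⟨b, J', hb, hJ'⟩ := FractionalIdeal.exists_eq_spanSingleton_mul ((U⁻¹ : (FractionalIdeal (nonZeroDivisors B) (FractionRing B))ˣ) : FractionalIdeal (nonZeroDivisors B) (FractionRing B))
    have ha' : algebraMap B (FractionRing B) a ≠ 0 :=
      (map_ne_zero_iff _ (IsFractionRing.injective _ _)).mpr ha
    have hb' : algebraMap B (FractionRing B) b ≠ 0 :=
      (map_ne_zero_iff _ (IsFractionRing.injective _ _)).mpr hb
    have hmul : J * J' = Ideal.span {a * b} := by
      apply FractionalIdeal.coeIdeal_injective (K := FractionRing B)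
      beta_reduce
      have h := U.mul_inv
      rw [hJ, hJ', mul_mul_mul_comm, FractionalIdeal.spanSingleton_mul_spanSingleton] at h
      rw [FractionalIdeal.coeIdeal_mul, FractionalIdeal.coeIdeal_span_singleton, map_mul]
      calc (J : FractionalIdeal (nonZeroDivisors B) (FractionRing B)) * (J' : FractionalIdeal (nonZeroDivisors B) (FractionRing B))
          = FractionalIdeal.spanSingleton _ (algebraMap B (FractionRing B) a * algebraMap B (FractionRing B) b) *
            (FractionalIdeal.spanSingleton _ ((algebraMap B (FractionRing B) a)⁻¹ * (algebraMap B (FractionRing B) b)⁻¹) * ((J : FractionalIdeal (nonZeroDivisors B) (FractionRing B)) * (J' : FractionalIdeal (nonZeroDivisors B) (FractionRing B)))) := by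
              rw [← mul_assoc, FractionalIdeal.spanSingleton_mul_spanSingleton,
                show algebraMap B (FractionRing B) a * algebraMap B (FractionRing B) b *
                  ((algebraMap B (FractionRing B) a)⁻¹ * (algebraMap B (FractionRing B) b)⁻¹) = 1 by rw [mul_mul_mul_comm, mul_inv_cancel₀ ha', mul_inv_cancel₀ hb', one_mul],
                FractionalIdeal.spanSingleton_one, one_mul]
        _ = _ := by rw [h, mul_one]
    obtain ⟨⟨x0, hx0⟩⟩ := isPrincipal_of_mul_eq φ hev hhom h0 J J' (mul_ne_zero ha hb) hmul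
    rw [FractionalIdeal.isPrincipal_iff]
    refine ⟨(algebraMap B (FractionRing B) a)⁻¹ * algebraMap B (FractionRing B) x0, ?_⟩
    rw [hJ, hx0, FractionalIdeal.coeIdeal_span_singleton, FractionalIdeal.spanSingleton_mul_spanSingleton]
  haveI : Subsingleton (CommRing.Pic B) := (ClassGroup.equivPic B).toEquiv.symm.subsingleton
  infer_instance

end Groth.Agent.S15836
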