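import Groth.Statements.S4101
import Groth.Agent.Lib.PureSmooth29.EssFree

set_option autoImplicit false
set_option backward.isDefEq.respectTransparency.types false
universe u
open CategoryTheory MonoidalCategory CartesianMonoidalCategory MonObj GrpObj AlgebraicGeometry CategoryTheory.Limits
open SGA3

namespace Groth.Agent.S4101

/-- Let f : Z → S be essentially free (every point of S has an affine open neighbourhood U and a flat
surjective morphism S' → U from an affine scheme S' such that Z ×_S S' is covered by affine opens
whose rings of sections are projective Γ(S')-modules) and j : Y → Z a closed immersion. Then there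
is a closed immersion t : T → S such that a morphism g : S' → S factors through T exactly when the
closed immersion Y ×_Z Z_{S'} → Z_{S'} deduced from j by base change is an isomorphism; if moreover
Z is quasi-compact over S and j is of finite presentation, then t is of finite presentation. (The
published statement omits the quasi-compactness of Z over S in the last clause; it is stated here
with it.) -/
theorem result (S Z Y : Scheme.{u}) (f : Z ⟶ S)
    (hf : SGA3x.IsEssentiallyFree f) (j : Y ⟶ Z) [IsClosedImmersion j] :
    ∃ (T : Scheme.{u}) (t : T ⟶ S), IsClosedImmersion t ∧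
      (∀ (S' : Scheme.{u}) (g : S' ⟶ S),
        (∃ g' : S' ⟶ T, g' ≫ t = g) ↔ IsIso (pullback.snd j (pullback.fst f g))) ∧
      (QuasiCompact f → LocallyOfFinitePresentation j → LocallyOfFinitePresentation t) := by
  by_cases hc : QuasiCompact f
  · obtain ⟨T, t, ht, hrep, hfp⟩ := PureSmooth29.exists_closed f j fun s => by
      obtain ⟨U, hs, I, hI, hfg⟩ := PureSmooth29.exists_cutBy_of_essentiallyFree f j hf s
      exact ⟨U, hs, I, hI, hfg hc⟩
    exact ⟨T, t, ht, fun S' g => (hrep S' g).trans (PureSmooth29.fac_iff_isIso f j g), fun _ => hfp⟩
  · choose U hs I hI _hfg using PureSmooth29.exists_cutBy_of_essentiallyFree f j hf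
    obtain ⟨T, t, ht, hrep⟩ := WeilClosed.exists_closedSubscheme (PureSmooth29.isLocalProp_fac f j)
      fun s => ⟨U s, hs s, (PureSmooth29.hasMin_of_cutBy f j (U s) (hI s)).2⟩
    exact ⟨T, t, ht, fun S' g => (hrep g).trans (PureSmooth29.fac_iff_isIso f j g), fun h => absurd h hc⟩

end Groth.Agent.S4101
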