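import Groth.Statements.S15837
import Groth.Agent.S4101
import Groth.Agent.Lib.SchBasic.Basic

set_option autoImplicit false
set_option backward.isDefEq.respectTransparency false
set_option backward.isDefEq.respectTransparency.types false
set_option linter.style.haveILetI false
universe u
open CategoryTheory MonoidalCategory CartesianMonoidalCategory MonObj GrpObj AlgebraicGeometry
open SprIso

namespace Groth.Agent.S15837

/-- Let S be a scheme, G an S-group scheme of finite presentation acting on an S-scheme X which is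
affine and of finite presentation over S, and Y a closed subscheme of X which is finite, flat and of
finite presentation over S. Then the functorial stabilizer of Y in G — whose points with values in
an S-scheme T are the points g of G such that g acts as the identity on every point of Y with values
in a scheme over T — is represented by a closed subscheme of G whose inclusion is of finite
presentation. -/
theorem result (S : Scheme.{u}) (G X Y : Over S) [GrpObj G]
    [LocallyOfFinitePresentation G.hom] [QuasiCompact G.hom] [QuasiSeparated G.hom]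
    [IsAffineHom X.hom] [LocallyOfFinitePresentation X.hom] (a : AlgGrp.Action G X)
    (i : Y ⟶ X) [IsClosedImmersion i.left] [IsFinite Y.hom] [Flat Y.hom] [LocallyOfFinitePresentation Y.hom] :
    ∃ (Z : Over S) (j : Z ⟶ G), IsClosedImmersion j.left ∧ LocallyOfFinitePresentation j.left ∧
      ∀ (T : Over S) (g : T ⟶ G), (∃ z : T ⟶ Z, z ≫ j = g) ↔
        ∀ (T' : Over S) (t : T' ⟶ T) (y : T' ⟶ Y), lift (t ≫ g) (y ≫ i) ≫ a.act = y ≫ i := by
  let f := fst G Y
  let w₁ : G ⊗ Y ⟶ X := (G ◁ i) ≫ a.act
  let w₂ : G ⊗ Y ⟶ X := snd G Y ≫ i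
  let d : (G ⊗ Y).left ⟶ Limits.pullback X.hom X.hom :=
    Limits.pullback.lift w₁.left w₂.left ((Over.w w₁).trans (Over.w w₂).symm)
  haveI hΔ : LocallyOfFinitePresentation (Limits.pullback.diagonal X.hom) :=
    haveI : LocallyOfFinitePresentation (Limits.pullback.diagonal X.hom ≫ Limits.pullback.fst X.hom X.hom) := by
      rw [Limits.pullback.diagonal_fst]; infer_instance
    Groth.Agent.SchBasic.locallyOfFinitePresentation_of_comp (Limits.pullback.diagonal X.hom) (Limits.pullback.fst X.hom X.hom)
  haveI : IsClosedImmersion (Limits.pullback.diagonal X.hom) := inferInstance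
  let j := Limits.pullback.fst d (Limits.pullback.diagonal X.hom)
  haveI : IsClosedImmersion j := inferInstance
  have hjfp : LocallyOfFinitePresentation j := inferInstance
  have hjfac : ∀ {W : Scheme.{u}} (p : W ⟶ (G ⊗ Y).left), (∃ l, l ≫ j = p) ↔ p ≫ w₁.left = p ≫ w₂.left := by
    intro W p
    constructor
    · rintro ⟨l, rfl⟩
      have h := Limits.pullback.condition (f := d) (g := Limits.pullback.diagonal X.hom)
      have h1 := congrArg (· ≫ Limits.pullback.fst X.hom X.hom) h
      have h2 := congrArg (· ≫ Limits.pullback.snd X.hom X.hom) h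
      simp only [Category.assoc, Limits.pullback.diagonal_fst, Limits.pullback.diagonal_snd, Category.comp_id, d,
        Limits.pullback.lift_fst, Limits.pullback.lift_snd] at h1 h2
      rw [Category.assoc, Category.assoc, h1, h2]
    · intro h
      exact ⟨Limits.pullback.lift p (p ≫ w₁.left) (Limits.pullback.hom_ext (by simp [d]) (by simp [d, h])),
        Limits.pullback.lift_fst _ _ _⟩
  have sq : IsPullback f.left (snd G Y).left G.hom Y.hom := IsPullback.of_hasPullback _ _
  haveI : IsFinite f.left := MorphismProperty.of_isPullback sq.flip ‹IsFinite Y.hom›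
  haveI : Flat f.left := MorphismProperty.of_isPullback sq.flip ‹Flat Y.hom›
  haveI : LocallyOfFinitePresentation f.left := MorphismProperty.of_isPullback sq.flip ‹LocallyOfFinitePresentation Y.hom›
  have hf : SGA3x.IsEssentiallyFree f.left := by
    intro s
    obtain ⟨U, hU, hsU, -⟩ := exists_isAffineOpen_mem_and_subset (X := G.left) (U := ⊤) (x := s) trivial
    haveI : IsAffine U.toScheme := hU
    refine ⟨U, hsU, hU, U.toScheme, hU, 𝟙 _, inferInstance, inferInstance, fun x => ?_⟩
    let h := Limits.pullback.snd f.left (𝟙 U.toScheme ≫ U.ι)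
    haveI : IsAffine (Limits.pullback f.left (𝟙 U.toScheme ≫ U.ι)) := isAffine_of_isAffineHom h
    haveI : IsAffine (⊤ : (Limits.pullback f.left (𝟙 U.toScheme ≫ U.ι)).Opens).toScheme := isAffineOpen_top _
    refine ⟨⊤, trivial, isAffineOpen_top _, ?_⟩
    let h' := (⊤ : (Limits.pullback f.left (𝟙 U.toScheme ≫ U.ι)).Opens).ι ≫ h
    haveI : IsFinite h := inferInstance
    haveI : IsIso (⊤ : (Limits.pullback f.left (𝟙 U.toScheme ≫ U.ι)).Opens).ι := by
      rw [← Scheme.topIso_hom]; infer_instance
    haveI : IsFinite h' := inferInstance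
    have h1 : h'.appTop.hom.Finite := h'.finite_appTop
    have h2 : h'.appTop.hom.Flat := HasRingHomProperty.appTop @Flat h' inferInstance
    have h3 : h'.appTop.hom.FinitePresentation := HasRingHomProperty.appTop @LocallyOfFinitePresentation h' inferInstance
    letI := h'.appTop.hom.toAlgebra
    haveI : Module.Finite Γ(↑U, ⊤) Γ(↑(⊤ : (Limits.pullback f.left (𝟙 U.toScheme ≫ U.ι)).Opens), ⊤) := h1
    haveI : Module.Flat Γ(↑U, ⊤) Γ(↑(⊤ : (Limits.pullback f.left (𝟙 U.toScheme ≫ U.ι)).Opens), ⊤) := h2
    haveI : Algebra.FinitePresentation Γ(↑U, ⊤) Γ(↑(⊤ : (Limits.pullback f.left (𝟙 U.toScheme ≫ U.ι)).Opens), ⊤) := h3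
    haveI := Module.FinitePresentation.of_finite_of_finitePresentation Γ(↑U, ⊤)
      Γ(↑(⊤ : (Limits.pullback f.left (𝟙 U.toScheme ≫ U.ι)).Opens), ⊤)
    exact Module.Flat.projective_of_finitePresentation
  obtain ⟨Z, t, ht, hrep, hfp⟩ := Groth.Agent.S4101.result G.left (G ⊗ Y).left _ f.left hf j
  haveI := ht
  refine ⟨Over.mk (t ≫ G.hom), Over.homMk t rfl, ht, hfp inferInstance hjfp, fun T g => ?_⟩
  have hz : (∃ z : T ⟶ Over.mk (t ≫ G.hom), z ≫ Over.homMk t rfl = g) ↔ ∃ z, z ≫ t = g.left :=
    ⟨fun ⟨z, hz⟩ => ⟨z.left, congrArg CommaMorphism.left hz⟩, fun ⟨z, hz⟩ =>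
      ⟨Over.homMk z (by show z ≫ t ≫ G.hom = T.hom; rw [← Category.assoc, hz]; exact Over.w g), Over.OverMorphism.ext hz⟩⟩
  rw [hz, hrep, ← Groth.Agent.PureSmooth29.fac_iff_isIso]
  change (∃ l, l ≫ j = Limits.pullback.fst f.left g.left) ↔ _
  rw [hjfac]
  let P : Over S := Over.mk (Limits.pullback.snd f.left g.left ≫ T.hom)
  let q : P ⟶ G ⊗ Y := Over.homMk (Limits.pullback.fst f.left g.left) (by
    show _ = Limits.pullback.snd f.left g.left ≫ T.hom
    rw [← Over.w g, ← Category.assoc, ← Limits.pullback.condition, Category.assoc, Over.w f])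
  let pT : P ⟶ T := Over.homMk (Limits.pullback.snd f.left g.left)
  have hq : q ≫ fst G Y = pT ≫ g := Over.OverMorphism.ext Limits.pullback.condition
  constructor
  · intro h T' t' y
    let k₀ := lift (t' ≫ g) y
    let l : T'.left ⟶ Limits.pullback f.left g.left := Limits.pullback.lift k₀.left t'.left
      (congrArg CommaMorphism.left (lift_fst (t' ≫ g) y : k₀ ≫ f = t' ≫ g))
    have h' : k₀ ≫ w₁ = k₀ ≫ w₂ := by
      refine Over.OverMorphism.ext ?_
      have := congrArg (l ≫ ·) h
      simpa only [l, Limits.pullback.lift_fst_assoc, Over.comp_left] using this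
    simpa only [k₀, w₁, w₂, lift_whiskerLeft_assoc, lift_snd_assoc] using h'
  · intro h
    have h' := h P pT (q ≫ snd G Y)
    have h'' : q ≫ w₁ = q ≫ w₂ := by
      have e : q = lift (pT ≫ g) (q ≫ snd G Y) := hom_ext _ _ (by rw [lift_fst, hq]) (by rw [lift_snd])
      calc q ≫ w₁ = lift (pT ≫ g) (q ≫ snd G Y) ≫ w₁ := congrArg (· ≫ w₁) e
        _ = q ≫ w₂ := by
          rw [lift_whiskerLeft_assoc, h', Category.assoc]
    exact congrArg CommaMorphism.left h''

end Groth.Agent.S15837
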