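import Groth.Statements.S15838
import Mathlib.LinearAlgebra.JordanChevalley
import Mathlib.LinearAlgebra.TensorProduct.Tower
import Mathlib.LinearAlgebra.Semisimple
import Mathlib.Tactic

set_option autoImplicit false
universe u
open scoped TensorProduct
open SprIso

namespace Groth.Agent.S15838

/-- General linear group case: this is the case G = GL(V), to which the general case reduces along a
closed embedding. Let k be a perfect field and V a finite-dimensional k-vector space. If an
invertible endomorphism g of V has multiplicative Jordan decomposition g = t u (t semisimple, u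
unipotent, t and u commuting), then the scheme-theoretic centralizer of g in GL(V) is the
centralizer of u inside the centralizer of t: for every commutative k-algebra R, an R-linear
endomorphism h of R ⊗ V commutes with g_R if and only if it commutes with both t_R and u_R.
Likewise, if an endomorphism X of V has additive Jordan decomposition X = Y + N (Y semisimple, N
nilpotent, commuting), then h commutes with X_R if and only if it commutes with both Y_R and N_R. -/
theorem result (k : Type u) [Field k] [PerfectField k]
    (V : Type u) [AddCommGroup V] [Module k V] [FiniteDimensional k V]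
    (R : Type u) [CommRing R] [Algebra k R] (h : Module.End R (R ⊗[k] V)) :
    (∀ (g t u : Module.End k V), IsUnit g → t.IsSemisimple → IsNilpotent (u - 1) → Commute t u → g = t * u →
      (Commute h (g.baseChange R) ↔ Commute h (t.baseChange R) ∧ Commute h (u.baseChange R))) ∧
    (∀ (X Y N : Module.End k V), Y.IsSemisimple → IsNilpotent N → Commute Y N → X = Y + N →
      (Commute h (X.baseChange R) ↔ Commute h (Y.baseChange R) ∧ Commute h (N.baseChange R))) := by
  have hpoly : ∀ (X : Module.End k V) (P : Polynomial k), Commute h (X.baseChange R) →
      Commute h ((Polynomial.aeval X P).baseChange R) := by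
    intro X P hc
    have : (Polynomial.aeval X P).baseChange R = Polynomial.aeval (X.baseChange R) P := by
      exact (Polynomial.aeval_algHom_apply (Module.End.baseChangeHom k R V) X P).symm
    rw [this]
    induction P using Polynomial.induction_on' with
    | add P Q hP hQ => rw [map_add]; exact (hP (Polynomial.aeval_algHom_apply (Module.End.baseChangeHom k R V) X P).symm).add_right (hQ (Polynomial.aeval_algHom_apply (Module.End.baseChangeHom k R V) X Q).symm)
    | monomial m r =>
      rw [Polynomial.aeval_monomial]
      exact Commute.mul_right (Algebra.commutes _ _).symm (hc.pow_right m)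
  have hadd : ∀ (X Y N : Module.End k V), Y.IsSemisimple → IsNilpotent N → Commute Y N → X = Y + N →
      (Commute h (X.baseChange R) ↔ Commute h (Y.baseChange R) ∧ Commute h (N.baseChange R)) := by
    intro X Y N hY hN hYN hX
    refine ⟨fun hc => ?_, fun ⟨h1, h2⟩ => by rw [hX, LinearMap.baseChange_add]; exact h1.add_right h2⟩
    obtain ⟨n₀, hn₀, s₀, hs₀, hnn, hss, hXs⟩ := Module.End.exists_isNilpotent_isSemisimple (f := X)
    have hXY : Commute X Y := hX ▸ (Commute.refl Y).add_left hYN.symm
    have hsY : Commute s₀ Y := by
      obtain ⟨P, rfl⟩ := Algebra.adjoin_singleton_eq_range_aeval k X ▸ hs₀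
      exact (Algebra.commute_of_mem_adjoin_singleton_of_commute (Polynomial.aeval_mem_adjoin_singleton k X) hXY.symm).symm
    have hnN : Commute n₀ N := by
      have hXN : Commute X N := hX ▸ hYN.add_left (Commute.refl N)
      exact (Algebra.commute_of_mem_adjoin_singleton_of_commute hn₀ hXN.symm).symm
    have hz : Y - s₀ = 0 := by
      refine Module.End.eq_zero_of_isNilpotent_isSemisimple ?_ (hY.sub_of_commute hsY.symm hss)
      have : Y - s₀ = n₀ - N := by rw [sub_eq_sub_iff_add_eq_add, ← hX, hXs]
      rw [this]
      exact hnN.isNilpotent_sub hnn hN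
    rw [sub_eq_zero] at hz
    obtain ⟨P, hP⟩ := Algebra.adjoin_singleton_eq_range_aeval k X ▸ hs₀
    have h1 : Commute h (Y.baseChange R) := by
      rw [hz, ← hP]; exact hpoly X P hc
    refine ⟨h1, ?_⟩
    rw [show N = X - Y by rw [hX, add_sub_cancel_left], LinearMap.baseChange_sub]
    exact (Commute.sub_right (R := Module.End R (R ⊗[k] V)) hc h1 : _)
  refine ⟨fun g t u hg ht hu htu hgt => ?_, hadd⟩
  have hu' : IsUnit u := by
    have := hu.isUnit_one_add
    rwa [add_sub_cancel] at this
  have htunit : IsUnit t := ((htu.isUnit_mul_iff).mp (hgt ▸ hg)).1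
  obtain ⟨t', ht'⟩ := htunit
  refine ⟨fun hc => ?_, fun ⟨h1, h2⟩ => by
    rw [hgt]; exact (show (t * u).baseChange R = t.baseChange R * u.baseChange R from map_mul (Module.End.baseChangeHom k R V) t u) ▸ h1.mul_right h2⟩
  have hcomm : Commute t (t * (u - 1)) := (Commute.refl t).mul_right (htu.sub_right (Commute.one_right t))
  have h1 : Commute h (t.baseChange R) := ((hadd g t (t * (u - 1)) ht
    ((htu.sub_right (Commute.one_right t)).isNilpotent_mul_left hu) hcomm (by rw [hgt, mul_sub, mul_one]; abel)).mp hc).1
  refine ⟨h1, ?_⟩
  let T := Units.map (Module.End.baseChangeHom k R V).toMonoidHom t'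
  have hT : (T : Module.End R (R ⊗[k] V)) = t.baseChange R := by rw [← ht']; rfl
  have hu2 : u.baseChange R = (T⁻¹ : (Module.End R (R ⊗[k] V))ˣ) * g.baseChange R := by
    rw [hgt, show (t * u).baseChange R = t.baseChange R * u.baseChange R from map_mul (Module.End.baseChangeHom k R V) t u,
      ← hT, Units.inv_mul_cancel_left]
  rw [hu2]
  exact ((hT ▸ h1).units_inv_right).mul_right hc

end Groth.Agent.S15838
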