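import Groth.Statements.S15839
import Groth.Agent.Lib.Descend.PointLocal
open CategoryTheory.Limits

set_option autoImplicit false
universe u
open CategoryTheory MonoidalCategory CartesianMonoidalCategory MonObj GrpObj AlgebraicGeometry
open SprIso

namespace Groth.Agent.S15839

/-- Let S be a scheme, G an S-group scheme which is affine and of finite presentation over S, and g a
section of G over S. Then the centralizer of g — the subfunctor of G whose points with values in an
S-scheme T are the points x of G with x g_T = g_T x — is represented by a closed subscheme of G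
whose inclusion is of finite presentation. -/
theorem result (S : Scheme.{u}) (G : Over S) [GrpObj G]
    [IsAffineHom G.hom] [LocallyOfFinitePresentation G.hom] (g : 𝟙_ (Over S) ⟶ G) :
    ∃ (Z : Over S) (j : Z ⟶ G), IsClosedImmersion j.left ∧ LocallyOfFinitePresentation j.left ∧
      ∀ (T : Over S) (x : T ⟶ G), (∃ z : T ⟶ Z, z ≫ j = x) ↔
        x * (toUnit T ≫ g) = (toUnit T ≫ g) * x := by
  let F : G ⟶ G := 𝟙 G * (toUnit G ≫ g)
  let F' : G ⟶ G := (toUnit G ≫ g) * 𝟙 G
  haveI : IsSeparated G.hom := inferInstance
  haveI : LocallyOfFinitePresentation (pullback.diagonal G.hom) := Groth.Agent.Descend.locallyOfFinitePresentation_diagonal G.hom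
  refine ⟨equalizer F F', equalizer.ι F F', inferInstance, ?_, fun T x => ⟨?_, fun h => ?_⟩⟩
  · haveI : MorphismProperty.RespectsIso @LocallyOfFinitePresentation := locallyOfFinitePresentation_isStableUnderBaseChange.respectsIso
    refine MorphismProperty.of_isPullback ((isPullback_equalizer_prod F F').map (Over.forget S)).flip ?_
    show LocallyOfFinitePresentation (prod.lift (𝟙 G) (𝟙 G)).left
    rw [← MorphismProperty.cancel_right_of_respectsIso @LocallyOfFinitePresentation _ (Over.prodLeftIsoPullback G G).hom]
    convert! (inferInstance : LocallyOfFinitePresentation (pullback.diagonal G.hom))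
    ext1 <;> simp [← Over.comp_left] <;> (first | rw [prod.lift_fst] | rw [prod.lift_snd]) <;> rfl
  · rintro ⟨z, rfl⟩
    have hc := congrArg (fun e => z ≫ e) (equalizer.condition F F')
    simpa [F, F', MonObj.comp_mul, Category.assoc] using hc
  · refine ⟨equalizer.lift x ?_, equalizer.lift_ι _ _⟩
    simpa [F, F', MonObj.comp_mul] using h

end Groth.Agent.S15839
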