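import Groth.Statements.S15840
import Mathlib.Tactic
import Mathlib.LinearAlgebra.FreeModule.PID
import Mathlib.LinearAlgebra.Dimension.Finrank
import Mathlib.Algebra.MonoidAlgebra.MapDomain
import Mathlib.Algebra.MonoidAlgebra.Basic
import Mathlib.RingTheory.GradedAlgebra.Basic
import Mathlib.RingTheory.FiniteType
import Mathlib.Analysis.Seminorm
import Mathlib.Algebra.Module.CharacterModule
import Mathlib.Topology.Algebra.Group.Basic
import Mathlib.GroupTheory.FiniteAbelian.Basic
import Mathlib.NumberTheory.Padics.PadicVal.Basic
import Mathlib.Data.Nat.Factorial.BigOperators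
import Mathlib.Algebra.CharP.Basic
import Mathlib.Data.Nat.Choose.Sum

set_option autoImplicit false
universe u
open SprIso

namespace Groth.Agent.S15840

/-- For G = SL_n (n = r + 1) over a field of characteristic p > 0, write n = m p^e with m prime to p, so
that the identity component of the centre of G is μ_{p^e} embedded diagonally. The character of the
i-th exterior power of the standard representation takes the value C(n, i) α^i at a point α of
μ_{p^e}, and this is constant: for every commutative ring R of characteristic p and every α in R
with α^(p^e) = 1 one has C(n, i) α^i = C(n, i) in R, for all i. -/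
theorem result (p : ℕ) [Fact p.Prime] (R : Type u) [CommRing R]
    [CharP R p] (n : ℕ) (hn : 0 < n) (α : R) (hα : α ^ (p ^ padicValNat p n) = 1) (i : ℕ) :
    (n.choose i : R) * α ^ i = (n.choose i : R) := by
  have hp : p.Prime := Fact.out
  by_cases hC : p ∣ n.choose i
  · rw [(CharP.cast_eq_zero_iff R p _).2 hC, zero_mul]
  · rcases i with _ | i
    · simp
    · obtain ⟨n, rfl⟩ := Nat.exists_eq_add_of_le' hn
      have h1 : p ^ padicValNat p (n + 1) ∣ (n+1).choose (i+1) * (i+1) := by
        rw [← Nat.add_one_mul_choose_eq]
        exact Dvd.dvd.mul_right pow_padicValNat_dvd _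
      obtain ⟨c, hc⟩ := (Nat.Coprime.pow_left _ (hp.coprime_iff_not_dvd.2 hC)).dvd_of_dvd_mul_left h1
      rw [hc, pow_mul, hα, one_pow, mul_one]

end Groth.Agent.S15840
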