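import Groth.Statements.S15841
import Mathlib.LinearAlgebra.RootSystem.Base

set_option autoImplicit false
universe u
open scoped TensorProduct
open SprIso

namespace Groth.Agent.S15841

/-- For a connected reductive group G with maximal torus T whose derived group is simply connected, and
a Coxeter element w (the product of the simple reflections, each once, in any order), an element of
Lie T = k ⊗ X_*(T) fixed by Ad(w) is killed by the differential of every simple root, i.e. lies in
the centre of Lie G. In root-datum form: let P be a root pairing over ℤ with character lattice M and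
cocharacter lattice N, b a base, and suppose each simple coroot has a dual character ω_i in M with
⟨ω_i, α_i^∨⟩ = 1 and ⟨ω_i, α_j^∨⟩ = 0 for every other simple j (the simply connected derived group
hypothesis). If l lists the simple roots without repetition, w^∨ is the composite of the
coreflections along l acting on N, k is a field and H in k ⊗ N satisfies w^∨_k H = H, then (α_i)_k H
= 0 for every simple root α_i, where (α_i)_k is the base change to k of the functional ⟨α_i, −⟩ on
N. (Stated for an arbitrary field k; the published setting is an algebraically closed field, and the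
argument does not depend on k.) -/
theorem result {ι M N : Type u} [AddCommGroup M] [AddCommGroup N]
    (P : RootPairing ι ℤ M N) (b : P.Base)
    (hsc : ∀ i ∈ b.support, ∃ ω : M, P.coroot' i ω = 1 ∧ ∀ j ∈ b.support, j ≠ i → P.coroot' j ω = 0)
    (l : List ι) (hl : l.Nodup) (hlb : ∀ i : ι, i ∈ l ↔ i ∈ b.support)
    (k : Type u) [Field k] (H : k ⊗[ℤ] N)
    (hH : ((l.map (fun i => ((P.coreflection i : N ≃ₗ[ℤ] N) : N →ₗ[ℤ] N))).prod).baseChange k H = H) :
    ∀ i ∈ b.support, (P.root' i).baseChange k H = 0 := by
  classical
  let c : ι → k ⊗[ℤ] N → k := fun i z => TensorProduct.rid ℤ k ((P.root' i).baseChange k z)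
  let W : List ι → (k ⊗[ℤ] N →ₗ[k] k ⊗[ℤ] N) := fun t =>
    ((t.map (fun i => ((P.coreflection i : N ≃ₗ[ℤ] N) : N →ₗ[ℤ] N))).prod).baseChange k
  have hW : ∀ (a : ι) (t : List ι) (z : k ⊗[ℤ] N),
      W (a :: t) z = W t z - c a (W t z) • ((1 : k) ⊗ₜ[ℤ] P.coroot a) := by
    intro a t z
    have e : W (a :: t) z = ((P.coreflection a : N ≃ₗ[ℤ] N) : N →ₗ[ℤ] N).baseChange k (W t z) := by
      simp only [W, List.map_cons, List.prod_cons]
      rw [Module.End.mul_eq_comp, LinearMap.baseChange_comp, LinearMap.comp_apply]
    rw [e]
    generalize W t z = y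
    induction y with
    | zero => simp [c]
    | add p q hp hq => simp only [c, map_add, add_smul] at hp hq ⊢; rw [hp, hq]; abel
    | tmul r n =>
      simp only [c, LinearMap.baseChange_tmul, LinearEquiv.coe_coe, RootPairing.coreflection_apply,
        TensorProduct.rid_tmul, TensorProduct.tmul_sub, TensorProduct.smul_tmul', smul_eq_mul, mul_one]
      rw [TensorProduct.smul_tmul]
  have main : ∀ t : List ι, t.Nodup → (∀ i ∈ t, i ∈ b.support) → W t H = H →
      ∀ i ∈ t, (P.root' i).baseChange k H = 0 := by
    intro t
    induction t with
    | nil => simp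
    | cons a t ih =>
      intro hnd hsub hfix
      rw [List.nodup_cons] at hnd
      obtain ⟨ω, hω1, hω⟩ := hsc a (hsub a (by simp))
      let φ : k ⊗[ℤ] N → k := fun z => TensorProduct.rid ℤ k ((P.toLinearMap ω).baseChange k z)
      have hφsub : ∀ y z, φ (y - z) = φ y - φ z := fun y z => by simp [φ]
      have hφsmul : ∀ (r : k) (j : ι), φ (r • ((1 : k) ⊗ₜ[ℤ] P.coroot j)) = r * ((P.coroot' j ω : ℤ) : k) := by
        intro r j
        simp [φ, TensorProduct.smul_tmul', RootPairing.coroot', mul_comm]
      have hφinv : ∀ u : List ι, (∀ i ∈ u, i ∈ b.support ∧ i ≠ a) → φ (W u H) = φ H := by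
        intro u
        induction u with
        | nil =>
          intro _
          simp [W, Module.End.one_eq_id]
        | cons j u ihu =>
          intro hu
          rw [hW, hφsub, hφsmul, hω j (hu j (by simp)).1 (hu j (by simp)).2, ihu fun i hi => hu i (by simp [hi])]
          simp
      have h1 := congrArg φ (hfix)
      rw [hW, hφsub, hφsmul, hω1, hφinv t fun i hi => ⟨hsub i (by simp [hi]), fun e => hnd.1 (e ▸ hi)⟩] at h1
      simp at h1
      have hfix' : W t H = H := by
        have := hfix
        rw [hW, h1, zero_smul, sub_zero] at this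
        exact this
      intro i hi
      rcases List.mem_cons.1 hi with rfl | hi
      · rw [hfix'] at h1
        exact (TensorProduct.rid ℤ k).injective (by simpa [c] using h1)
      · exact ih hnd.2 (fun i hi => hsub i (by simp [hi])) hfix' i hi
  exact fun i hi => main l hl (fun j hj => (hlb j).1 hj) hH i ((hlb i).2 hi)

end Groth.Agent.S15841
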