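import Groth.Statements.S15843
import Groth.Agent.Lib.RegMat28.Matrix
import Mathlib.RingTheory.RingHom.Flat
import Mathlib.RingTheory.Flat.Localization

set_option autoImplicit false
universe u
open SprIso

namespace Groth.Agent.S15843

/-- The flatness assertion, for a section of the group and equally for a section of its Lie algebra, in
the case G = GL_n (its derived group SL_n is simply connected and every prime is good for it, so the
hypotheses on the fundamental group and on the characteristic that the general statement needs hold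
over every base, and strong regularity is regularity). Let A be a commutative ring and g an n × n
matrix over A — a section of GL_n when invertible, of its Lie algebra gl_n in general; in both cases
the centralizer in GL_n is the scheme of invertible matrices commuting with g — which is fiberwise
regular (at every field-valued point A → K the commutant of g_K in M_n(K) has dimension n). Then the
centralizer Z_{GL_n}(g) is flat over A; concretely, with X the generic n × n matrix over A[x_ij],
the ring obtained from A[x_ij] by dividing by the entries of X g − g X and inverting det X is a flat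
A-module. -/
theorem result (A : Type u) [CommRing A] (n : ℕ)
    (g : Matrix (Fin n) (Fin n) A)
    (hreg : ∀ (K : Type u) [Field K] (φ : A →+* K),
      Module.finrank K (Subalgebra.centralizer K ({g.map φ} : Set (Matrix (Fin n) (Fin n) K))) = n) :
    Module.Flat A (Localization.Away
      (Ideal.Quotient.mk (Ideal.span (Set.range fun ij : Fin n × Fin n =>
        (Matrix.mvPolynomialX (Fin n) (Fin n) A * g.map MvPolynomial.C -
          g.map MvPolynomial.C * Matrix.mvPolynomialX (Fin n) (Fin n) A :
            Matrix (Fin n) (Fin n) (MvPolynomial (Fin n × Fin n) A)) ij.1 ij.2))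
        (Matrix.mvPolynomialX (Fin n) (Fin n) A).det)) := by
  classical
  let Xg : Matrix (Fin n) (Fin n) (MvPolynomial (Fin n × Fin n) A) := Matrix.mvPolynomialX (Fin n) (Fin n) A
  let gC : Matrix (Fin n) (Fin n) (MvPolynomial (Fin n × Fin n) A) := g.map MvPolynomial.C
  let I : Ideal (MvPolynomial (Fin n × Fin n) A) := Ideal.span (Set.range fun ij : Fin n × Fin n => (Xg * gC - gC * Xg) ij.1 ij.2)
  let C := MvPolynomial (Fin n × Fin n) A ⧸ I
  suffices hflat : (algebraMap A C).Flat by
    haveI : Module.Flat A C := RingHom.flat_algebraMap_iff.1 hflat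
    exact Module.Flat.trans A C (Localization.Away (Ideal.Quotient.mk I (Matrix.mvPolynomialX (Fin n) (Fin n) A).det))
  let mk := Ideal.Quotient.mk I
  let X : Matrix (Fin n) (Fin n) C := Xg.map mk
  have hgC : g.map (algebraMap A C) = gC.map mk := by
    rw [Matrix.map_map]; rfl
  have hXg : X * g.map (algebraMap A C) = g.map (algebraMap A C) * X := by
    rw [hgC, ← Matrix.map_mul, ← Matrix.map_mul]
    refine Matrix.ext fun i j => Ideal.Quotient.eq.2 (Ideal.subset_span ⟨(i, j), ?_⟩)
    rfl
  refine RingHom.Flat.ofLocalizationSpanTarget (algebraMap A C)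
    (algebraMap A C '' Set.range fun v : Fin n → A => (Groth.Agent.RegMat28.cyc g v).det) ?_ ?_
  · rw [← Ideal.map_span, Groth.Agent.RegMat28.span_det_eq_top g hreg, Ideal.map_top]
  rintro ⟨_, _, ⟨v, rfl⟩, rfl⟩
  set d := (Groth.Agent.RegMat28.cyc g v).det with hd
  let Cd := Localization.Away (algebraMap A C d)
  show RingHom.Flat ((algebraMap C Cd).comp (algebraMap A C))
  rw [← IsScalarTower.algebraMap_eq, RingHom.flat_algebraMap_iff]
  let Ad := Localization.Away d
  let P := MvPolynomial (Fin n) Ad
  let M : Matrix (Fin n) (Fin n) P := ∑ l : Fin n, (MvPolynomial.X l : P) • (g.map (algebraMap A P)) ^ (l : ℕ)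
  have hMg : Commute M (g.map (algebraMap A P)) :=
    Commute.sum_left _ _ _ fun l _ => ((Commute.refl _).pow_left _).smul_left _
  let α₀ : MvPolynomial (Fin n × Fin n) A →ₐ[A] P := MvPolynomial.aeval fun ij => M ij.1 ij.2
  have hαX : Xg.map α₀ = M := Matrix.ext fun i j => by simp [Xg, α₀]
  have hαg : gC.map α₀ = g.map (algebraMap A P) := Matrix.ext fun i j => by simp [gC, α₀]
  have hα : I ≤ RingHom.ker α₀ := by
    refine Ideal.span_le.2 (Set.range_subset_iff.2 fun ij => ?_)
    have h : (Xg * gC - gC * Xg).map α₀ = 0 := by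
      rw [Matrix.map_sub, Matrix.map_mul, Matrix.map_mul, hαX, hαg, hMg.eq, sub_self]
      exact map_sub α₀
    exact congrFun (congrFun h ij.1) ij.2
  let α₁ : C →ₐ[A] P := Ideal.Quotient.liftₐ I α₀ fun a ha => hα ha
  have hu : IsUnit (algebraMap A P d) := by
    rw [IsScalarTower.algebraMap_apply A Ad P]
    exact (IsLocalization.Away.algebraMap_isUnit d).map _
  let α : Cd →ₐ[A] P := IsLocalization.liftAlgHom (M := Submonoid.powers (algebraMap A C d)) (f := α₁) (by
    rintro ⟨_, m, rfl⟩
    rw [map_pow, AlgHom.commutes]
    exact hu.pow m)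
  have hαC : ∀ z : C, α (algebraMap C Cd z) = α₁ z := fun z => by
    simp [α, IsLocalization.liftAlgHom_apply, IsLocalization.lift_eq]
  -- the inverse
  let gd := g.map (algebraMap A Cd)
  let vd : Fin n → Cd := algebraMap A Cd ∘ v
  let Xd := X.map (algebraMap C Cd)
  have hud : IsUnit (algebraMap A Cd d) := by
    rw [IsScalarTower.algebraMap_apply A C Cd]
    exact IsLocalization.Away.algebraMap_isUnit _
  let t : Fin n → Cd := fun l => ↑hud.unit⁻¹ * (Groth.Agent.RegMat28.cyc gd vd).adjugate.mulVec (Xd.mulVec vd) l
  let ι : Ad →ₐ[A] Cd := IsLocalization.liftAlgHom (M := Submonoid.powers d) (f := Algebra.ofId A Cd) (by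
    rintro ⟨_, m, rfl⟩
    rw [map_pow]
    exact hud.pow m)
  let β : P →ₐ[A] Cd :=
    { MvPolynomial.eval₂Hom ι.toRingHom t with
      commutes' := fun a => by
        show MvPolynomial.eval₂Hom ι.toRingHom t (algebraMap A P a) = _
        rw [IsScalarTower.algebraMap_apply A Ad P, MvPolynomial.algebraMap_eq, MvPolynomial.eval₂Hom_C]
        exact ι.commutes a }
  have hβX : ∀ l, β (MvPolynomial.X l) = t l := fun l => MvPolynomial.eval₂Hom_X' _ _ _
  have hgd : gd = (g.map (algebraMap A C)).map (algebraMap C Cd) := by
    rw [Matrix.map_map]; rfl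
  have hXd : Xd * gd = gd * Xd := by
    rw [hgd]
    show X.map (algebraMap C Cd) * _ = _ * X.map (algebraMap C Cd)
    rw [← Matrix.map_mul, ← Matrix.map_mul, hXg]
  have hdet : (Groth.Agent.RegMat28.cyc gd vd).det = algebraMap A Cd d := by
    rw [← Groth.Agent.RegMat28.map_cyc]; exact (RingHom.map_det _ _).symm
  have hsum : (∑ l : Fin n, t l • gd ^ (l : ℕ)) = Xd := by
    have h := Groth.Agent.RegMat28.det_smul_eq gd Xd vd hXd
    rw [hdet, hud.smul_eq_zero, sub_eq_zero] at h
    simp only [t, mul_smul]
    rw [← Finset.smul_sum, ← h, smul_smul, IsUnit.val_inv_mul, one_smul]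
  haveI : Module.Flat A Ad := IsLocalization.flat Ad (Submonoid.powers d)
  haveI : Module.Flat A P := Module.Flat.trans A Ad P
  refine Module.Flat.of_linearEquiv (M := P) (AlgEquiv.ofAlgHom α β ?_ ?_).toLinearEquiv
  · have hA : ∀ (a : A), α (algebraMap A Cd a) = algebraMap A P a := α.commutes
    have hX' : ∀ l, α (t l) = MvPolynomial.X l := by
      intro l
      have hXm : Xd.map α = M := by
        rw [Matrix.map_map]
        refine Matrix.ext fun i j => ?_
        show α (algebraMap C Cd (mk (Xg i j))) = _
        rw [hαC]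
        exact congrFun (congrFun hαX i) j
      have hgm : gd.map α = g.map (algebraMap A P) := Matrix.ext fun i j => hA _
      have hvm : α ∘ vd = algebraMap A P ∘ v := funext fun i => hA _
      have e1 : (Groth.Agent.RegMat28.cyc gd vd).map α = Groth.Agent.RegMat28.cyc (g.map (algebraMap A P)) (algebraMap A P ∘ v) := by
        rw [← hgm, ← hvm]; exact Groth.Agent.RegMat28.map_cyc α.toRingHom gd vd
      have e2 : α ((Groth.Agent.RegMat28.cyc gd vd).adjugate.mulVec (Xd.mulVec vd) l) =
          algebraMap A P d * MvPolynomial.X l := by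
        have h0 := RingHom.map_mulVec α.toRingHom (Groth.Agent.RegMat28.cyc gd vd).adjugate (Xd.mulVec vd) l
        refine h0.trans ?_
        have h1 : α.toRingHom ∘ Xd.mulVec vd = M.mulVec (algebraMap A P ∘ v) := funext fun i =>
          (RingHom.map_mulVec α.toRingHom Xd vd i).trans (by
            rw [show Xd.map α.toRingHom = M from hXm, show (α.toRingHom ∘ vd) = algebraMap A P ∘ v from hvm])
        rw [h1, show (Groth.Agent.RegMat28.cyc gd vd).adjugate.map α.toRingHom =
          (Groth.Agent.RegMat28.cyc (g.map (algebraMap A P)) (algebraMap A P ∘ v)).adjugate by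
            rw [← e1]; exact RingHom.map_adjugate α.toRingHom _]
        rw [← Groth.Agent.RegMat28.cyc_mulVec _ _ (fun l => (MvPolynomial.X l : P)), Matrix.mulVec_mulVec,
          Matrix.adjugate_mul, Matrix.smul_mulVec, Matrix.one_mulVec, Pi.smul_apply, smul_eq_mul,
          ← Groth.Agent.RegMat28.map_cyc, ← RingHom.mapMatrix_apply, ← RingHom.map_det]
      show α (↑hud.unit⁻¹ * _) = _
      rw [map_mul, e2, ← mul_assoc, ← hA d, ← map_mul, IsUnit.val_inv_mul, map_one, one_mul]
    refine AlgHom.coe_ringHom_injective (MvPolynomial.ringHom_ext' ?_ fun l => ?_)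
    · refine IsLocalization.ringHom_ext (Submonoid.powers d) (RingHom.ext fun a => ?_)
      show α (β (MvPolynomial.C (algebraMap A Ad a))) = MvPolynomial.C (algebraMap A Ad a)
      rw [← MvPolynomial.algebraMap_eq, ← IsScalarTower.algebraMap_apply, AlgHom.commutes, AlgHom.commutes]
    · show α (β (MvPolynomial.X l)) = MvPolynomial.X l
      rw [hβX, hX']
  · refine IsLocalization.algHom_ext (Submonoid.powers (algebraMap A C d)) (Ideal.Quotient.algHom_ext A (MvPolynomial.algHom_ext fun ij => ?_))
    show β (α (algebraMap C Cd (mk (MvPolynomial.X ij)))) = algebraMap C Cd (mk (MvPolynomial.X ij))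
    rw [hαC]
    show β (α₀ (MvPolynomial.X ij)) = _
    rw [MvPolynomial.aeval_X]
    have hb : M.map β = ∑ l : Fin n, t l • gd ^ (l : ℕ) := by
      have hgb : (g.map (algebraMap A P)).map β = gd := Matrix.ext fun i j => β.commutes _
      rw [← hgb]
      ext i j
      simp only [M, Matrix.map_apply, Matrix.sum_apply, Matrix.smul_apply, smul_eq_mul, map_sum, map_mul, hβX]
      refine Finset.sum_congr rfl fun l _ => ?_
      congr 1
      exact congrFun (congrFun (Matrix.map_pow (g.map (algebraMap A P)) β.toRingHom (l : ℕ)) i) j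
    exact congrFun (congrFun (hb.trans hsum) ij.1) ij.2

end Groth.Agent.S15843
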