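import Groth.Statements.S15844
import Groth.Agent.Lib.RegMat28.Matrix
import Mathlib.RingTheory.Ideal.Colon

set_option autoImplicit false
universe u
open SprIso

namespace Groth.Agent.S15844

theorem comm_of_regular (A : Type u) [CommRing A] (n : ℕ)
    (g : Matrix (Fin n) (Fin n) A)
    (hreg : ∀ (K : Type u) [Field K] (φ : A →+* K),
      Module.finrank K (Subalgebra.centralizer K ({g.map φ} : Set (Matrix (Fin n) (Fin n) K))) = n)
    (B : Type u) [CommRing B] [Algebra A B] (x y : Matrix (Fin n) (Fin n) B)
    (hxg : x * g.map (algebraMap A B) = g.map (algebraMap A B) * x)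
    (hyg : y * g.map (algebraMap A B) = g.map (algebraMap A B) * y) :
    x * y = y * x := by
  have key : ∀ v : Fin n → A, (algebraMap A B (Groth.Agent.RegMat28.cyc g v).det) ^ 2 • (x * y - y * x) = 0 := by
    intro v
    set gB := g.map (algebraMap A B)
    have hd : (Groth.Agent.RegMat28.cyc gB (algebraMap A B ∘ v)).det = algebraMap A B (Groth.Agent.RegMat28.cyc g v).det := by
      rw [← Groth.Agent.RegMat28.map_cyc, RingHom.map_det]; rfl
    have h := Groth.Agent.RegMat28.det_smul_eq gB x (algebraMap A B ∘ v) hxg
    rw [hd, smul_sub, sub_eq_zero, smul_smul, ← pow_two] at h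
    have hc : Commute (∑ l : Fin n, (Groth.Agent.RegMat28.cyc gB (algebraMap A B ∘ v)).adjugate.mulVec
        (x.mulVec (algebraMap A B ∘ v)) l • gB ^ (l : ℕ)) y :=
      Commute.sum_left _ _ _ fun l _ => (((show Commute gB y from hyg.symm)).pow_left _).smul_left _
    rw [smul_sub, ← smul_mul_assoc, ← mul_smul_comm, h, smul_mul_assoc, mul_smul_comm, hc.eq, sub_self]
  have htop := Ideal.span_pow_eq_top _ (Groth.Agent.RegMat28.span_det_eq_top g hreg) 2
  refine sub_eq_zero.1 (Matrix.ext fun i j => ?_)
  let J : Ideal B := ((⊥ : Submodule B B).colon {(x * y - y * x) i j})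
  have hJ : Ideal.map (algebraMap A B) ⊤ ≤ J := by
    rw [← htop, Ideal.map_span, Ideal.span_le]
    rintro _ ⟨_, ⟨_, ⟨v, rfl⟩, rfl⟩, rfl⟩
    have h := congrFun (congrFun (key v) i) j
    simp only [SetLike.mem_coe, J, Submodule.mem_colon_singleton, Submodule.mem_bot, smul_eq_mul, map_pow]
    simpa [Matrix.smul_apply] using h
  have h1 : (1 : B) ∈ J := hJ (by rw [Ideal.map_top]; exact Submodule.mem_top)
  simpa [J, Submodule.mem_colon_singleton] using h1



/-- General linear group case: this is the case G = GL_n (derived group SL_n simply connected, all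
primes good). Let A be a commutative ring, u an n × n matrix over A with characteristic polynomial
(t − 1)^n (a section of the unipotent scheme) and X one with characteristic polynomial t^n (a
section of the nilpotent scheme), both fiberwise regular — at every field-valued point A → K the
commutant in M_n(K) has dimension n — and suppose X commutes with u (X lies in the Lie algebra of
the centralizer of u). Then Z(u) = Z(X) inside GL_n: for every commutative A-algebra B and every
invertible x ∈ M_n(B), x commutes with u_B if and only if x commutes with X_B. -/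
theorem result (A : Type u) [CommRing A] (n : ℕ)
    (u X : Matrix (Fin n) (Fin n) A)
    (hu : u.charpoly = (Polynomial.X - 1) ^ n) (hX : X.charpoly = Polynomial.X ^ n)
    (hureg : ∀ (K : Type u) [Field K] (φ : A →+* K),
      Module.finrank K (Subalgebra.centralizer K ({u.map φ} : Set (Matrix (Fin n) (Fin n) K))) = n)
    (hXreg : ∀ (K : Type u) [Field K] (φ : A →+* K),
      Module.finrank K (Subalgebra.centralizer K ({X.map φ} : Set (Matrix (Fin n) (Fin n) K))) = n)
    (hXu : X * u = u * X)
    (B : Type u) [CommRing B] [Algebra A B] (x : Matrix (Fin n) (Fin n) B) (hx : IsUnit x) :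
    x * u.map (algebraMap A B) = u.map (algebraMap A B) * x ↔
      x * X.map (algebraMap A B) = X.map (algebraMap A B) * x := by
  have hmap : ∀ (M N : Matrix (Fin n) (Fin n) A), M * N = N * M →
      N.map (algebraMap A B) * M.map (algebraMap A B) = M.map (algebraMap A B) * N.map (algebraMap A B) :=
    fun M N h => (Matrix.map_mul (L := N) (M := M) (f := algebraMap A B)).symm.trans
      ((congrArg (fun Q : Matrix (Fin n) (Fin n) A => Q.map (algebraMap A B)) h.symm).trans Matrix.map_mul)
  exact ⟨fun h => comm_of_regular A n u hureg B x _ h (hmap u X hXu.symm),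
    fun h => comm_of_regular A n X hXreg B x _ h (hmap X u hXu)⟩

end Groth.Agent.S15844
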