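import Groth.Statements.S15845
import Mathlib.Tactic

set_option autoImplicit false
universe u
open SprIso

namespace Groth.Agent.S15845

/-- General linear group case: this is the case G = GL_n with its upper-triangular Borel subgroup B
(derived group SL_n simply connected, all primes good, so the hypotheses on the characteristic
hold), together with the companion statement for a regular nilpotent element of Lie B. Let k be a
field and u an n × n upper-triangular matrix over k whose diagonal entries are all equal and whose
superdiagonal entries u_{i,i+1} are all non-zero — for diagonal 1 this is a regular unipotent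
element of B(k), for diagonal 0 a regular nilpotent element of Lie B. Then the centralizer of u in
GL_n is contained in B and is the product of the centre with the centralizer in the unipotent
radical: for every commutative k-algebra R and every invertible x ∈ M_n(R) commuting with u_R, x is
upper triangular and its diagonal entries are all equal. (The smoothness of the centralizer in the
unipotent radical, also part of the published statement, is not stated here.) -/
theorem result (k : Type u) [Field k] (n : ℕ)
    (u : Matrix (Fin n) (Fin n) k) (htri : ∀ i j : Fin n, j < i → u i j = 0) (hdiag : ∀ i j : Fin n, u i i = u j j)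
    (hreg : ∀ (i j : Fin n), j.val = i.val + 1 → u i j ≠ 0)
    (R : Type u) [CommRing R] [Algebra k R] (x : Matrix (Fin n) (Fin n) R) (hx : IsUnit x)
    (hxu : x * u.map (algebraMap k R) = u.map (algebraMap k R) * x) :
    (∀ i j : Fin n, j < i → x i j = 0) ∧ (∀ i j : Fin n, x i i = x j j) := by
  classical
  let f := algebraMap k R
  let v : Matrix (Fin n) (Fin n) R := u.map f
  have hv0 : ∀ i j : Fin n, j < i → v i j = 0 := fun i j h => by simp [v, htri i j h]
  have hvd : ∀ i j : Fin n, v i i = v j j := fun i j => by simp [v, hdiag i j]
  have hvu : ∀ i j : Fin n, j.val = i.val + 1 → IsUnit (v i j) := fun i j h =>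
    (isUnit_iff_ne_zero.mpr (hreg i j h)).map f
  have heq : ∀ i j, ∑ l, x i l * v l j = ∑ l, v i l * x l j := fun i j => congrFun (congrFun hxu i) j
  -- remove the diagonal
  have heq' : ∀ i j : Fin n, ∑ l ∈ Finset.univ.filter (fun l => l < j), x i l * v l j =
      ∑ l ∈ Finset.univ.filter (fun l => i < l), v i l * x l j := by
    intro i j
    have hA : ∑ l, x i l * v l j = ∑ l ∈ Finset.univ.filter (fun l => l < j), x i l * v l j + x i j * v j j := by
      rw [← Finset.sum_filter_add_sum_filter_not Finset.univ (fun l => l < j)]
      congr 1
      refine Finset.sum_eq_single j (fun l hl hne => ?_) (by simp)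
      simp only [Finset.mem_filter, not_lt] at hl
      rw [hv0 l j (lt_of_le_of_ne hl.2 (Ne.symm hne)), mul_zero]
    have hB : ∑ l, v i l * x l j = ∑ l ∈ Finset.univ.filter (fun l => i < l), v i l * x l j + v i i * x i j := by
      rw [← Finset.sum_filter_add_sum_filter_not Finset.univ (fun l => i < l)]
      congr 1
      refine Finset.sum_eq_single i (fun l hl hne => ?_) (by simp)
      simp only [Finset.mem_filter, not_lt] at hl
      rw [hv0 i l (lt_of_le_of_ne hl.2 hne), zero_mul]
    have := heq i j
    rw [hA, hB, hvd i j, mul_comm (v j j)] at this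
    exact add_right_cancel this
  have hup : ∀ (j : ℕ) (hj : j < n) (i : Fin n), j < i → x i ⟨j, hj⟩ = 0 := by
    intro j
    induction j using Nat.strong_induction_on with
    | _ j ih =>
      intro hj
      suffices h : ∀ (e : ℕ) (i : Fin n), (i : ℕ) + e + 1 = n → j < i → x i ⟨j, hj⟩ = 0 from
        fun i hi => h (n - i - 1) i (by omega) hi
      intro e
      induction e using Nat.strong_induction_on with
      | _ e ihe =>
        intro i hie hji
        have hi' : (i : ℕ) - 1 < n := by omega
        have h := heq' ⟨i - 1, hi'⟩ ⟨j, hj⟩
        rw [Finset.sum_eq_zero fun l hl => ?_, Finset.sum_eq_single i] at h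
        · exact (hvu ⟨i - 1, hi'⟩ i (by simp only; omega)).mul_right_eq_zero.mp h.symm
        · intro l hl hne
          simp only [Finset.mem_filter, Fin.lt_def] at hl
          have hl2 : (i : ℕ) < l := by
            have : (l : ℕ) ≠ i := fun h => hne (Fin.ext h)
            omega
          rw [ihe (n - l - 1) (by omega) l (by omega) (by omega), mul_zero]
        · intro hni
          refine absurd (Finset.mem_filter.mpr ⟨Finset.mem_univ i, ?_⟩) hni
          rw [Fin.lt_def]; simp only; omega
        · simp only [Finset.mem_filter, Fin.lt_def] at hl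
          rw [ih l hl.2 l.isLt ⟨i - 1, hi'⟩ (by simp only; omega), zero_mul]
  have hup' : ∀ i j : Fin n, j < i → x i j = 0 := fun i j h => hup j j.isLt i h
  refine ⟨hup', ?_⟩
  have hstep : ∀ (i : ℕ) (hi : i + 1 < n), x ⟨i, by omega⟩ ⟨i, by omega⟩ = x ⟨i + 1, hi⟩ ⟨i + 1, hi⟩ := by
    intro i hi
    have h := heq' ⟨i, by omega⟩ ⟨i + 1, hi⟩
    rw [Finset.sum_eq_single (⟨i, by omega⟩ : Fin n), Finset.sum_eq_single (⟨i + 1, hi⟩ : Fin n), mul_comm] at h
    · exact (hvu ⟨i, by omega⟩ ⟨i + 1, hi⟩ rfl).mul_left_cancel h
    · intro l hl hne
      simp only [Finset.mem_filter, Fin.lt_def] at hl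
      rw [hup' l _ (by rw [Fin.lt_def]; have : (l : ℕ) ≠ i + 1 := fun h => hne (Fin.ext h); simp only; omega), mul_zero]
    · simp
    · intro l hl hne
      simp only [Finset.mem_filter, Fin.lt_def] at hl
      rw [hup' _ l (by rw [Fin.lt_def]; have : (l : ℕ) ≠ i := fun h => hne (Fin.ext h); simp only; omega), zero_mul]
    · simp
  intro i j
  have h0 : ∀ (m : ℕ) (hm : m < n), x ⟨m, hm⟩ ⟨m, hm⟩ = x ⟨0, by omega⟩ ⟨0, by omega⟩ := by
    intro m
    induction m with
    | zero => intro hm; rfl
    | succ m ih => intro hm; rw [← hstep m hm, ih (by omega)]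
  exact (h0 i i.isLt).trans (h0 j j.isLt).symm

end Groth.Agent.S15845
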