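import Groth.Statements.S15849
import Groth.Agent.Lib.LMSimple8.Ext2
import Groth.Agent.Lib.SurfRR10.Proj

set_option backward.isDefEq.respectTransparency false
set_option backward.isDefEq.respectTransparency.types false
set_option maxHeartbeats 1600000

set_option autoImplicit false
universe u
open CategoryTheory CategoryTheory.Limits AlgebraicGeometry
open ShStab

namespace Groth.Agent.S15849

/-- Let k be an algebraically closed field of characteristic zero and S a smooth projective surface over
k (integral, smooth over k, of dimension two, with a closed immersion over k into some projective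
space) whose Picard group is infinite cyclic, generated by the class of an ample invertible sheaf L.
Let N ⊆ L be a coherent subsheaf whose quotient L/N has support of dimension at most zero (N is L
twisted by the ideal sheaf of a finite subscheme, possibly empty), and let V be a coherent
O_S-module with torsion-free stalks in a short exact sequence 0 → O_S → V → N → 0 that does not
split. Then V is slope-stable of dimension two with respect to L: V has no coherent subsheaf with
one-dimensional support, and every coherent subsheaf whose multiplicity lies strictly between 0 and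
that of V has normalised slope of its Hilbert polynomial strictly smaller than that of V. (The
published statement does not ask the extension to be non-split; for the split extension V = O_S ⊕ N
the subsheaf N has larger slope than V, and the printed argument uses that the sequence does not
split, so non-splitness is assumed here.) -/
theorem result
    (k : Type u) [Field k] [IsAlgClosed k] [CharZero k]
    (S : Scheme.{u}) [S.Over (Spec (CommRingCat.of k))] [IsIntegral S]
    [Smooth (S ↘ Spec (CommRingCat.of k))] (hdim : topologicalKrullDim S = 2)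
    [IsProper (S ↘ Spec (CommRingCat.of k))]
    (hproj : ∃ (n : ℕ) (ι : S ⟶ CohB1.ProjSpace n k), IsClosedImmersion ι ∧
      ι ≫ CohB1.ProjSpace.toSpec n k = S ↘ Spec (CommRingCat.of k))
    (L : S.Modules) (hLi : PicF.IsInvertible L) (hLa : CohB1.IsAmple L)
    [PicGrp.Law S] (hgen : ∀ c : PicLoc.PicSet S, ∃ n : ℤ, c = PicGrp.cls L hLi ^ n)
    (hfree : ∀ n : ℤ, PicGrp.cls L hLi ^ n = 1 → n = 0)
    (N : S.Modules) (ι : N ⟶ L) [Mono ι] (hN : Coh.IsCoh N)
    (hZ : topologicalKrullDim (CohB1.support (cokernel ι)) ≤ 0)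
    (V : S.Modules) (hV : Coh.IsCoh V) (hVtf : TorSh.IsTorsionFree V)
    (a : Coh.structureModule S ⟶ V) (b : V ⟶ N) (w : a ≫ b = 0)
    (hex : (ShortComplex.mk a b w).ShortExact)
    (hns : ∀ r : V ⟶ Coh.structureModule S, a ≫ r ≠ 𝟙 (Coh.structureModule S)) :
    ShStab.IsMuStable k S L V 2 := by
  haveI : IsNoetherian S := CohFound.isNoetherian_of_isProper (S ↘ Spec (CommRingCat.of k))
  have hX : Pi1.IsNormalScheme S := RH26.isNormalScheme_of_regular fun x => SurfRR10.regular (k := k) x
  have hU : ∀ x : S, UniqueFactorizationMonoid (S.presheaf.stalk x) := fun x => by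
    haveI := SurfRR10.regular (k := k) x
    haveI := Groth.Agent.RegLoc.isDomain (S.presheaf.stalk x)
    exact Groth.Agent.RegLoc.ufd_of_isRegularLocalRing (S.presheaf.stalk x)
  have hpos := ShStab28.positive k hLa
  let Y := ShStab28.sys k S L hLa.1 hpos
  have hOc := M1.isCoh_structureModule S
  have hLc := Snapper.isCoh_of_isInvertible hLi
  have hsp : ∀ x, Function.Injective (V.presheaf.stalkSpecializes (RH26.gsp x)) := fun x => by
    haveI : Module.IsTorsionFree (S.presheaf.stalk x) (V.presheaf.stalk x) := hVtf x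
    exact RH26.injective_sp_of_isTorsionFree hV.1 x
  have hP : ShStab.IsPure S V 2 := LMSimple8.isPure_of_injective_sp hsp hdim
  set A := StabCat.alpha 2 (ShStab28.hilb k S L (Coh.structureModule S)) with hA
  set B := StabCat.alpha 1 (ShStab28.hilb k S L (Coh.structureModule S)) with hB
  have hO0 : ¬ IsZero (Coh.structureModule S) := fun hz => by
    haveI : Subsingleton ((Coh.structureModule S).presheaf.stalk (genericPoint S)) :=
      AddCommGrpCat.subsingleton_of_isZero ((M1.stalkAb (genericPoint S)).map_isZero hz)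
    exact RH26.str_one_ne_zero (X := S) (Subsingleton.elim _ _)
  have hsuppO : topologicalKrullDim (CohB1.support (Coh.structureModule S)) = ((2 : ℕ) : WithBot ℕ∞) :=
    LMSimple8.isPure_of_injective_sp (RH26.closed1_structure hX).1 hdim _ (𝟙 _) inferInstance hOc hO0
  have hA0 : 0 < A := ShStab28.alpha_pos (hpos _ hOc 2 hsuppO).1 (hpos _ hOc 2 hsuppO).2
  obtain ⟨hL2, hL1⟩ := LMSimple8.alpha_of_cls (k := k) hLa.1 hdim (M := L) hLi (n := 1) (by rw [zpow_one])
  obtain ⟨hN2, hN1⟩ : StabCat.alpha 2 (ShStab28.hilb k S L N) = A ∧ StabCat.alpha 1 (ShStab28.hilb k S L N) = B + A := by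
    have hQ : Coh.IsCoh (cokernel ι) := Y.ok_coker ι hN hLc
    have hd := ShStab28.natDegree_hilb_le k hLa.1 hQ (d := 0) hZ
    have hsum : ShStab28.hilb k S L L = ShStab28.hilb k S L N + ShStab28.hilb k S L (cokernel ι) :=
      ShStab28.Sys.hp_mono Y ι hN hLc
    have e2 := congrArg (StabCat.alpha 2) hsum
    have e1 := congrArg (StabCat.alpha 1) hsum
    rw [ShStab28.alpha_add, ShStab28.alpha_eq_zero_of_lt (P := ShStab28.hilb k S L (cokernel ι)) (by omega), hL2] at e2
    rw [ShStab28.alpha_add, ShStab28.alpha_eq_zero_of_lt (P := ShStab28.hilb k S L (cokernel ι)) (by omega), hL1] at e1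
    push_cast at e1
    constructor <;> linarith
  haveI : Mono a := hex.mono_f
  have hVsum : ShStab28.hilb k S L V = ShStab28.hilb k S L (Coh.structureModule S) + ShStab28.hilb k S L N :=
    ShStab28.hilb_add k hLa.1 (S := ShortComplex.mk a b w) hex hOc hV hN
  have hV0 : ¬ IsZero V := fun hz => hO0 ((IsZero.iff_id_eq_zero _).2 (Mono.right_cancellation (f := a) _ _
    (hz.eq_of_tgt _ _)))
  refine ⟨hV, hV0, hP _ (𝟙 _) inferInstance hV hV0, fun G g hg hG h => ?_, fun G g hg hG pG pV hpG hpV h0 h1 => ?_⟩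
  · by_cases hz : IsZero G
    · haveI : IsEmpty (CohB1.support G) := Set.isEmpty_coe_sort.mpr (Set.eq_empty_of_forall_notMem fun x hx =>
        hx (AddCommGrpCat.subsingleton_of_isZero ((M1.stalkAb x).map_isZero hz)))
      haveI : IsEmpty (TopologicalSpace.IrreducibleCloseds (CohB1.support G)) :=
        ⟨fun s => IsEmpty.false (α := CohB1.support G) s.isIrreducible'.nonempty.some⟩
      rw [topologicalKrullDim, Order.krullDim_eq_bot] at h
      simp at h
    · rw [hP G g hg hG hz] at h
      exact absurd h (by decide)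
  haveI := hg
  rw [(ShStab28.isHilbPoly_iff k hLa.1 hG).1 hpG] at h0 h1 ⊢
  rw [(ShStab28.isHilbPoly_iff k hLa.1 hV).1 hpV] at h1 ⊢
  have hV2 : StabCat.alpha 2 (ShStab28.hilb k S L V) = 2 * A := by
    rw [hVsum, ShStab28.alpha_add, hN2, ← hA]; ring
  have hV1 : StabCat.alpha 1 (ShStab28.hilb k S L V) = 2 * B + A := by
    rw [hVsum, ShStab28.alpha_add, hN1, ← hB]; ring
  suffices hmain : StabCat.alpha 2 (ShStab28.hilb k S L G) = A ∧ StabCat.alpha 1 (ShStab28.hilb k S L G) ≤ B by
    show StabCat.alpha 1 (ShStab28.hilb k S L G) / StabCat.alpha 2 (ShStab28.hilb k S L G) <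
      StabCat.alpha 1 (ShStab28.hilb k S L V) / StabCat.alpha 2 (ShStab28.hilb k S L V)
    rw [hmain.1, hV1, hV2, div_lt_div_iff₀ hA0 (by linarith)]
    nlinarith [mul_le_mul_of_nonneg_left hmain.2 hA0.le]
  let u := g ≫ b ≫ ι
  have hlift : ∀ {T : S.Modules} (t : T ⟶ G), t ≫ u = 0 → ∃ s : T ⟶ Coh.structureModule S, s ≫ a = t ≫ g := fun t ht =>
    ⟨hex.exact.lift (t ≫ g) ((cancel_mono ι).1 (by rw [zero_comp, Category.assoc, Category.assoc]; exact ht)),
      hex.exact.lift_f _ _⟩
  have hG0 : ¬ IsZero G := fun hz => by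
    rw [show ShStab28.hilb k S L G = 0 from ShStab28.Sys.hp_zero Y hz, ShStab28.alpha_zero] at h0
    exact lt_irrefl _ h0
  by_cases hu : u = 0
  · obtain ⟨s, hs⟩ := hlift (𝟙 G) (by rw [Category.id_comp, hu])
    rw [Category.id_comp] at hs
    haveI : Mono (s ≫ a) := hs.symm ▸ hg
    haveI : Mono s := mono_of_mono s a
    exact LMSimple8.alpha_ideal hdim hLa hG s hG0 hX
  let K := kernel u
  have hK : Coh.IsCoh K := Y.ok_ker u hG hLc
  have hJ : Coh.IsCoh (Abelian.image u) := ShStab28.Sys.ok_image Y u hG hLc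
  have hsum : ShStab28.hilb k S L G = ShStab28.hilb k S L K + ShStab28.hilb k S L (Abelian.image u) := by
    refine ShStab28.Sys.hp_of_ker Y (kernel.ι u) (Abelian.factorThruImage u) ?_ (fun t ht => ?_) hG hJ
    · rw [← cancel_mono (Abelian.image.ι u), Category.assoc, Abelian.image.fac, kernel.condition, zero_comp]
    · exact ⟨kernel.lift u t (by rw [← Abelian.image.fac u, ← Category.assoc, ht, zero_comp]), kernel.lift_ι _ _ _⟩
  obtain ⟨L₁, hL₁, β₁, φ₁, -, -, hβ₁, hφ₁, hc₁, -⟩ := LMSimple8.exists_hull' hX hU hJ hLi (Abelian.image.ι u)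
    (ShStab28.Sys.image_ne_zero hu)
  have hJ2 : StabCat.alpha 2 (ShStab28.hilb k S L (Abelian.image u)) = A := by
    refine (LMSimple8.alpha_le_of_generic (k := k) hdim hLa hJ hLc (Abelian.image.ι u) fun y => ?_).1.trans hL2
    obtain ⟨z, rfl⟩ := hφ₁ y
    obtain ⟨w', rfl⟩ := hβ₁ z
    exact ⟨w', by rw [← hc₁, LMSimple8.stalkMap_comp]⟩
  have hK0 : IsZero K := by
    by_contra hK0
    obtain ⟨s, hs⟩ := hlift (kernel.ι u) (kernel.condition u)
    haveI : Mono (s ≫ a) := hs.symm ▸ (mono_comp (kernel.ι u) g)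
    haveI : Mono s := mono_of_mono s a
    have hK2 := (LMSimple8.alpha_ideal (k := k) hdim hLa hK s hK0 hX).1
    rw [hsum, ShStab28.alpha_add, hK2, hJ2, hV2, ← hA] at h1
    linarith
  haveI : Mono u := Preadditive.mono_of_kernel_zero (hK0.eq_of_src _ _)
  obtain ⟨M, hM, β, φ, hβm, hφm, hβ, hφ, hc, hβ1⟩ := LMSimple8.exists_hull' hX hU hG hLi u hG0
  haveI := hβm
  haveI := hφm
  have hMc := Snapper.isCoh_of_isInvertible hM
  obtain ⟨n, hn⟩ := hgen (PicGrp.cls M hM)
  obtain ⟨hM2, hM1⟩ := LMSimple8.alpha_of_cls (k := k) hLa.1 hdim hM hn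
  have hle := LMSimple8.alpha_le_of_generic (k := k) hdim hLa hG hMc β hβ
  refine ⟨hle.1.trans hM2, ?_⟩
  have hle2 := LMSimple8.alpha_le_of_generic (k := k) hdim hLa hMc hLc φ hφ
  rcases le_or_gt n 0 with hn0 | hn0
  · refine hle.2.trans ?_
    rw [hM1, ← hA, ← hB]
    have : (n : ℚ) ≤ 0 := by exact_mod_cast hn0
    nlinarith [mul_nonpos_of_nonpos_of_nonneg this hA0.le]
  exfalso
  have h1' := hle2.2
  rw [hM1, hL1, ← hA, ← hB] at h1'
  obtain rfl : n = 1 := by
    by_contra h
    have h2 : (2 : ℚ) ≤ n := by exact_mod_cast (show (2 : ℤ) ≤ n by omega)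
    push_cast at h1'
    nlinarith [mul_le_mul_of_nonneg_right h2 hA0.le]
  obtain ⟨e⟩ := (PicGrp.cls_eq_cls_iff hM hLi).1 (by rw [hn, zpow_one])
  haveI : IsIso φ := ShStab28.Sys.isIso_of_hp Y φ hMc hLc (ShStab28.hilb_iso k hLa.1 e hMc).symm
  have hφb := (RH26.isIso_iff_stalkMapₗ φ).1 inferInstance
  have hui : Function.Injective (RefHull.stalkMapₗ u (genericPoint S)) := (M1.mono_iff_stalk u).1 inferInstance _
  have hus : ∀ x, Function.Surjective (RefHull.stalkMapₗ β x) → Function.Surjective (RefHull.stalkMapₗ u x) :=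
    fun x hx y => by
      obtain ⟨z, rfl⟩ := (hφb x).2 y
      obtain ⟨w', rfl⟩ := hx z
      exact ⟨w', by rw [← hc, LMSimple8.stalkMap_comp]⟩
  obtain ⟨r, hr⟩ := LMSimple8.exists_retraction hX a b w hex ι g ⟨hui, hus _ hβ⟩ fun x hx => hus x (hβ1 x hx)
  exact hns r hr

end Groth.Agent.S15849
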