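import Groth.Statements.S15851
import Groth.Agent.Lib.BC8.ExtBidual
import Groth.Agent.Lib.BC8.CurveSheafRes
import Groth.Agent.Lib.BC8.ExtOneSheaf
import Groth.Agent.Lib.AmpleFam11.Factorial
import Groth.Agent.Lib.Exact8.AmpleFam
import Groth.Agent.Lib.DBC9.Main
import Groth.Agent.Lib.WeilExt.Apply
import Groth.Agent.Lib.FundIso12.SmoothProj
import Groth.Agent.Lib.SmDim19.RelDimVariety

set_option linter.style.haveILetI false
set_option backward.isDefEq.respectTransparency false
set_option backward.isDefEq.respectTransparency.types false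

set_option autoImplicit false
universe u
open CategoryTheory CategoryTheory.Limits AlgebraicGeometry
attribute [local instance] HasDerivedCategory.standard
open Surf

namespace Groth.Agent.S15851

/-- Let k be an algebraically closed field of characteristic zero, S a smooth projective surface over k
(integral, smooth over k, of dimension two, with a closed immersion over k into some projective
space) and ω an O_S-module which is a second exterior power of the sheaf of differentials of S over
k (the canonical sheaf). Let j : C → S be a closed immersion with C integral of dimension one and A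
a coherent O_C-module with torsion-free stalks and one-dimensional generic stalk (a rank-one
torsion-free sheaf on C). Put A^* = Ext^1_{O_S}(j_*A, ω), the value at ω of the first right derived
functor of the sheaf Hom functor Hom_{O_S}(j_*A, -) (taken as the right adjoint of j_*A ⊗ -). Then
Ext^1_{O_S}(A^*, ω) is isomorphic to j_*A: the operation A ↦ A^* is an involution up to isomorphism
(existence of an isomorphism only). (The instance binders on sheaf Hom functors and injective
resolutions always hold.) -/
theorem result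
    (k : Type u) [Field k] [IsAlgClosed k] [CharZero k]
    (S : Scheme.{u}) [S.Over (Spec (CommRingCat.of k))] [IsIntegral S]
    [Smooth (S ↘ Spec (CommRingCat.of k))] (hdim : topologicalKrullDim S = 2)
    [IsProper (S ↘ Spec (CommRingCat.of k))]
    (hproj : ∃ (n : ℕ) (ι : S ⟶ CohB1.ProjSpace n k), IsClosedImmersion ι ∧
      ι ≫ CohB1.ProjSpace.toSpec n k = S ↘ Spec (CommRingCat.of k))
    [HasInjectiveResolutions S.Modules]
    (ω : S.Modules) (hω : Canon.IsTopDiff (S ↘ Spec (CommRingCat.of k)) 2 ω)
    (C : Scheme.{u}) (j : C ⟶ S) [IsClosedImmersion j] [IsIntegral C]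
    (hC : topologicalKrullDim C = 1)
    (M : C.Modules) (hM : Coh.IsCoh M) (hMtf : TorSh.IsTorsionFree M)
    (hrk : Module.finrank (C.presheaf.stalk (genericPoint C)) (M.presheaf.stalk (genericPoint C)) = 1)
    [DCoh.HasSheafHom ((Coh.push j).obj M)] [(DCoh.sheafHom ((Coh.push j).obj M)).Additive]
    [DCoh.HasSheafHom (((DCoh.sheafHom ((Coh.push j).obj M)).rightDerived 1).obj ω)]
    [(DCoh.sheafHom (((DCoh.sheafHom ((Coh.push j).obj M)).rightDerived 1).obj ω)).Additive] :
    Nonempty (((DCoh.sheafHom (((DCoh.sheafHom ((Coh.push j).obj M)).rightDerived 1).obj ω)).rightDerived 1).obj ω ≅ (Coh.push j).obj M) := by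
  haveI : SmoothOfRelativeDimension 2 (S ↘ Spec (CommRingCat.of k)) :=
    SmDim19.smoothOfRelativeDimension_of_smooth (S ↘ Spec (CommRingCat.of k)) 2 (by exact_mod_cast hdim)
  haveI : IsLocallyNoetherian S := LocallyOfFiniteType.isLocallyNoetherian (S ↘ Spec (CommRingCat.of k))
  haveI : CompactSpace S := QuasiCompact.compactSpace_of_compactSpace (S ↘ Spec (CommRingCat.of k))
  haveI : HasInjectiveResolutions (ModSite.Mod S.sheaf) := inferInstanceAs (HasInjectiveResolutions S.Modules)
  have hω' : PicF.IsInvertible ω := FundIso12.isInvertible_omega (n := 2) hω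
  have hreg : ∀ x : S, IsRegularLocalRing (S.presheaf.stalk x) := fun x =>
    WeilExt.isRegularLocalRing_stalk_of_smooth (S ↘ Spec (CommRingCat.of k)) x
  have hη : genericPoint S ∉ Set.range j := fun ⟨y, hy⟩ => by
    have hsurj : Function.Surjective j := fun x => by
      have hx : x ∈ closure ({genericPoint S} : Set S) := by rw [genericPoint_spec S |>.def]; trivial
      exact (j.isClosedEmbedding.isClosed_range.closure_subset_iff.2 (by simpa [← hy] using ⟨y, rfl⟩) hx :)
    have := (j.isClosedEmbedding.isEmbedding.toHomeomorphOfSurjective hsurj).isHomeomorph.topologicalKrullDim_eq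
    rw [hC, hdim] at this
    norm_cast at this
  let F := (Coh.push j).obj M
  have hF : Coh.IsCoh F := CohFound.isCoh_push_closedImm j hM
  haveI : IsAffineHom (pullback.diagonal (S ↘ Spec (CommRingCat.of k))) := inferInstance
  have hΔ : ∀ V W : S.Opens, IsAffineOpen V → IsAffineOpen W → IsAffineOpen (V ⊓ W) := fun V W hV hW => by
    haveI : S.IsSeparated := ⟨by
      rw [show terminal.from S = (S ↘ Spec (CommRingCat.of k)) ≫ terminal.from _ from (terminal.comp_from _).symm]
      infer_instance⟩
    exact hV.inf hW
  obtain ⟨E, π, hE, hπ⟩ := Exact8.AmpleFam.hasResolutionProperty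
    (AmpleFam11.hasAmpleFamily_of_regular S hΔ hreg) F hF.1 (M1.isFP_isFT (M1.isFP_of_isCoh hF))
  haveI := hπ
  have hK := BC8.CurveRes.isFinLocFree_kernel hreg (le_of_eq hdim) j hC hM hMtf hE π
  let T := ShortComplex.mk (kernel.ι π) π (kernel.condition π)
  have hT : T.ShortExact := { exact := ShortComplex.exact_kernel π }
  haveI : ModSite.HasSheafHom (O := S.sheaf) (kernel π) := CohMop.isLeftAdjoint_tenR _
  haveI := CohMop.isIso_bidual hK
  haveI : ModSite.HasSheafHom (O := S.sheaf) (CohMop.dual (kernel π)) := CohMop.isLeftAdjoint_tenR _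
  have hloc : FlatMod.IsFinLocFree ((CohMop.ihom (kernel π)).obj ω) :=
    M2.isFinLocFree_of_iso
      (((CohMop.ihomIso (asIso (CohMop.bidual (kernel π)))).app ω) ≪≫
        ((CohMop.tenRIhomIso (CohMop.dual (kernel π)) (CohMop.isFinLocFree_dual hK)).app ω).symm ≪≫
        (ES11.tenRIso _).app ω).symm
      (M2.isFinLocFree_tensor (M2.isFinLocFree_of_isInvertible hω') (CohMop.isFinLocFree_dual hK))
  obtain ⟨d⟩ := BC8.BidualW.nonempty_extOne_extOne hT hK hE hω' (BC8.ExtOne.isZero_ihom_push j hη M hω') hloc
  let A₁ := ((DCoh.sheafHom F).rightDerived 1).obj ω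
  let I := InjectiveResolution.of ω
  let i₀ : A₁ ≅ ((CohMop.ihom F).rightDerived 1).obj ω :=
    I.isoRightDerivedObj _ 1 ≪≫ (HomologicalComplex.homologyFunctor _ _ 1).mapIso
      ((NatIso.mapHomologicalComplex (BC8.ExtOne.sheafHomIso F) _).app I.cocomplex) ≪≫
      (I.isoRightDerivedObj _ 1).symm
  let i₁ : ((DCoh.sheafHom A₁).rightDerived 1).obj ω ≅ ((CohMop.ihom A₁).rightDerived 1).obj ω :=
    I.isoRightDerivedObj _ 1 ≪≫ (HomologicalComplex.homologyFunctor _ _ 1).mapIso
      ((NatIso.mapHomologicalComplex (BC8.ExtOne.sheafHomIso A₁) _).app I.cocomplex) ≪≫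
      (I.isoRightDerivedObj _ 1).symm
  obtain ⟨i₂⟩ := BC8.BidualW.nonempty_extOne_congr i₀ ω
  exact ⟨i₁ ≪≫ i₂ ≪≫ d⟩

end Groth.Agent.S15851
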