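import Groth.Statements.S15852
import Groth.Agent.Lib.BC8.ExtOneSheaf
import Groth.Agent.Lib.FundIso12.SmoothProj
import Groth.Agent.Lib.SmDim19.RelDimVariety
import Groth.Agent.Lib.CohFound.ClosedImmPush

set_option linter.style.haveILetI false
set_option backward.isDefEq.respectTransparency false
set_option backward.isDefEq.respectTransparency.types false

set_option autoImplicit false
universe u
open CategoryTheory CategoryTheory.Limits AlgebraicGeometry
open Surf

namespace Groth.Agent.S15852

/-- Let k be an algebraically closed field of characteristic zero, S a smooth projective surface over k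
(integral, smooth over k, of dimension two, with a closed immersion over k into some projective
space) and ω an O_S-module which is a second exterior power of the sheaf of differentials of S over
k. Let j : C → S be a closed immersion with C integral of dimension one and A a coherent O_C-module
with torsion-free stalks and one-dimensional generic stalk, and put A^* = Ext^1_{O_S}(j_*A, ω), the
first right derived functor of the sheaf Hom functor Hom_{O_S}(j_*A, -) (the right adjoint of j_*A ⊗
-) evaluated at ω. Then the group Ext^1_{O_S}(j_*A, ω), computed in the category of all O_S-modules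
with its k-linear structure (the Ext instance is the stated hypothesis; it holds), is k-linearly
isomorphic to H^0(S, A^*), and also to the k-dual of H^1(S, j_*A) = H^1(C, A). (Existence of
k-linear isomorphisms only.) -/
theorem result
    (k : Type u) [Field k] [IsAlgClosed k] [CharZero k]
    (S : Scheme.{u}) [S.Over (Spec (CommRingCat.of k))] [IsIntegral S]
    [Smooth (S ↘ Spec (CommRingCat.of k))] (hdim : topologicalKrullDim S = 2)
    [IsProper (S ↘ Spec (CommRingCat.of k))]
    (hproj : ∃ (n : ℕ) (ι : S ⟶ CohB1.ProjSpace n k), IsClosedImmersion ι ∧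
      ι ≫ CohB1.ProjSpace.toSpec n k = S ↘ Spec (CommRingCat.of k))
    [HasInjectiveResolutions S.Modules] [HasExt.{u} S.Modules]
    (ω : S.Modules) (hω : Canon.IsTopDiff (S ↘ Spec (CommRingCat.of k)) 2 ω)
    (C : Scheme.{u}) (j : C ⟶ S) [IsClosedImmersion j] [IsIntegral C]
    (hC : topologicalKrullDim C = 1)
    (M : C.Modules) (hM : Coh.IsCoh M) (hMtf : TorSh.IsTorsionFree M)
    (hrk : Module.finrank (C.presheaf.stalk (genericPoint C)) (M.presheaf.stalk (genericPoint C)) = 1)
    [DCoh.HasSheafHom ((Coh.push j).obj M)] [(DCoh.sheafHom ((Coh.push j).obj M)).Additive] :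
    Nonempty (Abelian.Ext ((Coh.push j).obj M) ω 1 ≃ₗ[k]
        Coh.HH S (((DCoh.sheafHom ((Coh.push j).obj M)).rightDerived 1).obj ω) 0) ∧
      Nonempty (Abelian.Ext ((Coh.push j).obj M) ω 1 ≃ₗ[k]
        Module.Dual k (Coh.HH S ((Coh.push j).obj M) 1)) := by
  haveI : SmoothOfRelativeDimension 2 (S ↘ Spec (CommRingCat.of k)) :=
    SmDim19.smoothOfRelativeDimension_of_smooth (S ↘ Spec (CommRingCat.of k)) 2 (by exact_mod_cast hdim)
  obtain ⟨N, ι, hι1, hι2⟩ := hproj
  haveI : IsLocallyNoetherian S := LocallyOfFiniteType.isLocallyNoetherian (S ↘ Spec (CommRingCat.of k))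
  haveI : CompactSpace S := QuasiCompact.compactSpace_of_compactSpace (S ↘ Spec (CommRingCat.of k))
  have hω' : PicF.IsInvertible ω := FundIso12.isInvertible_omega (n := 2) hω
  have hη : genericPoint S ∉ Set.range j := fun ⟨y, hy⟩ => by
    have hsurj : Function.Surjective j := fun x => by
      have hx : x ∈ closure ({genericPoint S} : Set S) := by rw [genericPoint_spec S |>.def]; trivial
      exact (j.isClosedEmbedding.isClosed_range.closure_subset_iff.2 (by simpa [← hy] using ⟨y, rfl⟩) hx :)
    have := (j.isClosedEmbedding.isEmbedding.toHomeomorphOfSurjective hsurj).isHomeomorph.topologicalKrullDim_eq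
    rw [hC, hdim] at this
    norm_cast at this
  refine ⟨BC8.ExtOne.nonempty_ext_one_linearEquiv _ ω (BC8.ExtOne.isZero_ihom_push j hη M hω'), ?_⟩
  exact FundIso12.nonempty_ext_omega ι hω hι2 ((Coh.push j).obj M) (CohFound.isCoh_push_closedImm j hM) 1 one_le_two

end Groth.Agent.S15852
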