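import Groth.Statements.S15853
import Groth.Agent.Lib.LMSimple8.Sat3

set_option backward.isDefEq.respectTransparency false
set_option backward.isDefEq.respectTransparency.types false
set_option maxHeartbeats 1600000

set_option autoImplicit false
universe u
open CategoryTheory CategoryTheory.Limits AlgebraicGeometry Polynomial
open ShStab

namespace Groth.Agent.S15853

/-- Let k be an algebraically closed field of characteristic zero and S a K3 surface over k — a smooth
projective surface (integral, smooth over k, of dimension two, with a closed immersion over k into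
some projective space) whose structure sheaf is a second exterior power of its sheaf of
differentials and with H^1(S, O_S) = 0 — whose Picard group is infinite cyclic, generated by the
class of an ample invertible sheaf L. Let V be a coherent O_S-module with torsion-free stalks,
stable of dimension two with respect to L, and let P be its Hilbert polynomial with respect to L,
P(m) = χ(V ⊗ L^m). Assume: the leading coefficient of P is twice that of the Hilbert polynomial of
O_S (V has rank two); the coefficients of m and of m^2 in P agree (on such a surface this says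
c_1(V)·L = L^2, i.e. the first Chern class of V is the class of L); and P(0) = χ(V) ≥ 1
(equivalently c_2(V) ≤ L^2/2 + 3). Then V is an extension of L ⊗ I_Z by O_S for some finite
subscheme Z: there are a coherent subsheaf N ⊆ L with L/N supported in dimension at most zero and a
short exact sequence 0 → O_S → V → N → 0, which moreover does not split. -/
theorem result
    (k : Type u) [Field k] [IsAlgClosed k] [CharZero k]
    (S : Scheme.{u}) [S.Over (Spec (CommRingCat.of k))] [IsIntegral S]
    [Smooth (S ↘ Spec (CommRingCat.of k))] (hdim : topologicalKrullDim S = 2)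
    [IsProper (S ↘ Spec (CommRingCat.of k))]
    (hproj : ∃ (n : ℕ) (ι : S ⟶ CohB1.ProjSpace n k), IsClosedImmersion ι ∧
      ι ≫ CohB1.ProjSpace.toSpec n k = S ↘ Spec (CommRingCat.of k))
    (hK : Canon.IsTopDiff (S ↘ Spec (CommRingCat.of k)) 2 (Coh.structureModule S))
    (hq : Module.finrank k (Coh.HH S (Coh.structureModule S) 1) = 0)
    (L : S.Modules) (hLi : PicF.IsInvertible L) (hLa : CohB1.IsAmple L)
    [PicGrp.Law S] (hgen : ∀ c : PicLoc.PicSet S, ∃ n : ℤ, c = PicGrp.cls L hLi ^ n)
    (hfree : ∀ n : ℤ, PicGrp.cls L hLi ^ n = 1 → n = 0)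
    (V : S.Modules) (hV : Coh.IsCoh V) (hVtf : TorSh.IsTorsionFree V)
    (hst : ShStab.IsStable k S L V 2)
    (P PO : ℚ[X]) (hP : ShStab.IsHilbPoly k S L V P)
    (hPO : ShStab.IsHilbPoly k S L (Coh.structureModule S) PO)
    (hrk : P.coeff 2 = 2 * PO.coeff 2) (hc1 : P.coeff 1 = P.coeff 2) (hchi : 1 ≤ P.coeff 0) :
    ∃ (N : S.Modules) (ι : N ⟶ L) (_ : Mono ι) (_ : Coh.IsCoh N)
      (_ : topologicalKrullDim (CohB1.support (cokernel ι)) ≤ 0)
      (a : Coh.structureModule S ⟶ V) (b : V ⟶ N) (w : a ≫ b = 0),
      (ShortComplex.mk a b w).ShortExact ∧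
        ∀ r : V ⟶ Coh.structureModule S, a ≫ r ≠ 𝟙 (Coh.structureModule S) := by
  haveI : IsNoetherian S := CohFound.isNoetherian_of_isProper (S ↘ Spec (CommRingCat.of k))
  have hX : Pi1.IsNormalScheme S := RH26.isNormalScheme_of_regular fun x => SurfRR10.regular (k := k) x
  have hsp : ∀ x, Function.Injective (V.presheaf.stalkSpecializes (RH26.gsp x)) := fun x => by
    haveI : Module.IsTorsionFree (S.presheaf.stalk x) (V.presheaf.stalk x) := hVtf x
    exact RH26.injective_sp_of_isTorsionFree hV.1 x
  have ha := LMSimple8.alpha_pos_structure (k := k) hdim hLa hK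
  rw [(ShStab28.isHilbPoly_iff k hLa.1 hV).1 hP] at hrk hc1 hchi
  rw [(ShStab28.isHilbPoly_iff k hLa.1 (M1.isCoh_structureModule S)).1 hPO] at hrk
  have hV2 : StabCat.alpha 2 (ShStab28.hilb k S L V) =
      2 * StabCat.alpha 2 (ShStab28.hilb k S L (Coh.structureModule S)) := by
    simp only [StabCat.alpha]; rw [hrk]; ring
  have hV1 : StabCat.alpha 1 (ShStab28.hilb k S L V) =
      StabCat.alpha 2 (ShStab28.hilb k S L (Coh.structureModule S)) := by
    simp only [StabCat.alpha, Nat.factorial_one, Nat.factorial_two]; push_cast; rw [hc1, hrk]; ring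
  have hO0 : PicGrp.cls (Coh.structureModule S) (PicLoc.isInvertible_structureModule S) =
      PicGrp.cls L hLa.1 ^ (0 : ℤ) := by rw [zpow_zero]; exact PicGrp.cls_structureModule_eq_one ..
  have hhom : ∀ f : V ⟶ Coh.structureModule S, f = 0 := fun f =>
    LMSimple8.hom_eq_zero_of_stable (k := k) hdim hLa hK hV hst hV2 hV1 (PicLoc.isInvertible_structureModule S) hO0 le_rfl f
  have hχ : 1 ≤ Curv2.euler k S V := by
    have h0 := ShStab28.hilb_spec k hLa.1 hV 0
    rw [show ShStab.twist S L V 0 = CohB1.tensorMod V (Coh.structureModule S) from rfl,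
      CurveCoh17.euler_iso (M2.tensorRUnit V)] at h0
    rw [Nat.cast_zero, Polynomial.eval, Polynomial.eval₂_at_zero] at h0
    simp only [RingHom.id_apply] at h0
    rw [← h0] at hchi
    exact_mod_cast hchi
  obtain ⟨s, hs0⟩ := LMSimple8.exists_section (k := k) hdim hV
    (LMSimple8.subsingleton_h2 (k := k) hdim hLa hK hV hsp hhom) hχ
  obtain ⟨M, hM, n, hn, N, ι, hι, hN, hιd, b, hb, s', hs'm, hs', hKc, hn1, hn2, -, hK1, hsurj⟩ :=
    LMSimple8.exists_saturated (k := k) hdim hLa hK hV hst hV2 hV1 hsp hgen (PicLoc.isInvertible_structureModule S) hO0 s hs0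
  obtain rfl : n = 1 := by omega
  haveI := hs'm
  haveI := hb
  haveI := hι
  have hOc : Coh.IsCoh (Coh.structureModule S) := M1.isCoh_structureModule S
  have hKsp : ∀ x, Function.Injective ((kernel b).presheaf.stalkSpecializes (RH26.gsp x)) := fun x v v' h =>
    (M1.mono_iff_stalk (kernel.ι b)).1 inferInstance x (hsp x (by
      show V.presheaf.stalkSpecializes (RH26.gsp x) (RefHull.stalkMapₗ (kernel.ι b) x v) =
        V.presheaf.stalkSpecializes (RH26.gsp x) (RefHull.stalkMapₗ (kernel.ι b) x v')
      rw [RH26.stalkMapₗ_stalkSpecializes, RH26.stalkMapₗ_stalkSpecializes, h]))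
  haveI : IsIso s' := LMSimple8.isIso_of_alpha (k := k) hdim hLa hOc (RH26.closed1_structure hX) hKc hKsp s' hsurj (by
    rw [hK1, LMSimple8.alpha_one_structure (k := k) hdim hLa hK]; push_cast; ring)
  obtain ⟨e⟩ := (PicGrp.cls_eq_cls_iff hM hLi).1 (by rw [hn, zpow_one])
  have hN' : topologicalKrullDim (CohB1.support (cokernel (ι ≫ e.hom))) ≤ 0 := by
    refine LMSimple8.dim_support_cokernel_le_zero (k := k) hdim hN (Snapper.isCoh_of_isInvertible hLi) _ fun x hx m => ?_
    obtain ⟨v, hv⟩ := LMSimple8.surjective_of_notMem_support (k := k) ι (LMSimple8.notMem_of_dim_le_zero (k := k) hdim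
      (M1.isClosed_support (ShStab28.Sys.ok_coker (ShStab28.sys k S L hLa.1 (ShStab28.positive k hLa)) ι hN
        (Snapper.isCoh_of_isInvertible hM)).2) hιd hx) (RefHull.stalkMapₗ e.inv x m)
    refine ⟨v, ?_⟩
    rw [LMSimple8.stalkMap_comp, hv, ← LMSimple8.stalkMap_comp, e.inv_hom_id]
    show (M1.stalkAb x).map (𝟙 L) m = m
    rw [CategoryTheory.Functor.map_id]; rfl
  refine ⟨N, ι ≫ e.hom, inferInstance, hN, hN', s, b, by rw [← hs', Category.assoc, kernel.condition, CategoryTheory.Limits.comp_zero], ?_, ?_⟩
  · refine ShortComplex.shortExact_of_iso (ShortComplex.isoMk (asIso s').symm (Iso.refl V) (Iso.refl N) ?_ ?_)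
      (ShortComplex.ShortExact.mk (S := ShortComplex.mk (kernel.ι b) b (kernel.condition b))
        (ShortComplex.exact_kernel b))
    · show inv s' ≫ s = kernel.ι b ≫ 𝟙 V
      rw [Category.comp_id, ← hs', IsIso.inv_hom_id_assoc]
    · show 𝟙 V ≫ b = b ≫ 𝟙 N
      rw [Category.id_comp, Category.comp_id]
  · intro r hr
    rw [hhom r, CategoryTheory.Limits.comp_zero] at hr
    haveI : Subsingleton ((Coh.structureModule S).presheaf.stalk (genericPoint S)) :=
      AddCommGrpCat.subsingleton_of_isZero ((M1.stalkAb (genericPoint S)).map_isZero ((IsZero.iff_id_eq_zero _).2 hr.symm))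
    exact RH26.str_one_ne_zero (X := S) (Subsingleton.elim _ _)

end Groth.Agent.S15853
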