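import Groth.Statements.S15854
import Groth.Agent.Lib.LMSimple8.Sat4

set_option backward.isDefEq.respectTransparency false
set_option backward.isDefEq.respectTransparency.types false
set_option maxHeartbeats 1600000

set_option autoImplicit false
universe u
open CategoryTheory CategoryTheory.Limits AlgebraicGeometry Polynomial
open ShStab

namespace Groth.Agent.S15854

/-- Let k be an algebraically closed field of characteristic zero and S a K3 surface over k — a smooth
projective surface (integral, smooth over k, of dimension two, with a closed immersion over k into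
some projective space) whose structure sheaf is a second exterior power of its sheaf of
differentials and with H^1(S, O_S) = 0 — whose Picard group is infinite cyclic, generated by the
class of an ample invertible sheaf L. Let V be a locally free O_S-module of rank two, stable of
dimension two with respect to L, with Hilbert polynomial P, P(m) = χ(V ⊗ L^m), such that the
coefficients of m and m^2 in P agree (c_1(V)·L = L^2, i.e. the first Chern class of V is the class
of L), and let n be a natural number with P(n) = χ(V ⊗ L^n) ≥ 1 (by Riemann–Roch this is the bound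
c_2(V) ≤ (n^2 + n + 1/2) L^2 + 3). Then V is an extension of type m for some m ≤ n: there are a
natural number m ≤ n, an invertible O_S-module M whose class is the inverse of the class of L^{⊗m},
a coherent subsheaf N ⊆ L^{⊗(m+1)} whose quotient is supported in dimension at most zero (N is
L^{⊗(m+1)} twisted by the ideal of a finite subscheme Z_m), and a short exact sequence 0 → M → V → N
→ 0. (The published statement also records the length of Z_m as c_2 + m(m+1)L^2; that Chern-class
bookkeeping is not restated here. The published statement also assumes the lower bound c_2 >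
((n-1)^2 + (n-1) + 1/2) L^2 + 3 with n ≥ 1; the argument uses only the upper bound, and neither the
lower bound nor n ≥ 1 is assumed here.) -/
theorem result
    (k : Type u) [Field k] [IsAlgClosed k] [CharZero k]
    (S : Scheme.{u}) [S.Over (Spec (CommRingCat.of k))] [IsIntegral S]
    [Smooth (S ↘ Spec (CommRingCat.of k))] (hdim : topologicalKrullDim S = 2)
    [IsProper (S ↘ Spec (CommRingCat.of k))]
    (hproj : ∃ (n : ℕ) (ι : S ⟶ CohB1.ProjSpace n k), IsClosedImmersion ι ∧
      ι ≫ CohB1.ProjSpace.toSpec n k = S ↘ Spec (CommRingCat.of k))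
    (hK : Canon.IsTopDiff (S ↘ Spec (CommRingCat.of k)) 2 (Coh.structureModule S))
    (hq : Module.finrank k (Coh.HH S (Coh.structureModule S) 1) = 0)
    (L : S.Modules) (hLi : PicF.IsInvertible L) (hLa : CohB1.IsAmple L)
    [PicGrp.Law S] (hgen : ∀ c : PicLoc.PicSet S, ∃ n : ℤ, c = PicGrp.cls L hLi ^ n)
    (hfree : ∀ n : ℤ, PicGrp.cls L hLi ^ n = 1 → n = 0)
    (V : S.Modules) (hV : FlatMod.IsFinLocFreeOfRank 2 V)
    (hst : ShStab.IsStable k S L V 2)
    (P : ℚ[X]) (hP : ShStab.IsHilbPoly k S L V P) (hc1 : P.coeff 1 = P.coeff 2)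
    (n : ℕ) (hn : 1 ≤ P.eval (n : ℚ)) :
    ∃ (m : ℕ) (_ : m ≤ n) (M : S.Modules) (hM : PicF.IsInvertible M)
      (_ : PicGrp.cls M hM * PicGrp.cls L hLi ^ m = 1)
      (N : S.Modules) (ι : N ⟶ CohB1.tensorPow L (m + 1)) (_ : Mono ι) (_ : Coh.IsCoh N)
      (_ : topologicalKrullDim (CohB1.support (cokernel ι)) ≤ 0)
      (a : M ⟶ V) (b : V ⟶ N) (w : a ≫ b = 0),
      (ShortComplex.mk a b w).ShortExact := by
  haveI : IsNoetherian S := CohFound.isNoetherian_of_isProper (S ↘ Spec (CommRingCat.of k))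
  have hX : Pi1.IsNormalScheme S := RH26.isNormalScheme_of_regular fun x => SurfRR10.regular (k := k) x
  have hU : ∀ x : S, UniqueFactorizationMonoid (S.presheaf.stalk x) := fun x => by
    haveI := SurfRR10.regular (k := k) x
    haveI := Groth.Agent.RegLoc.isDomain (S.presheaf.stalk x)
    exact Groth.Agent.RegLoc.ufd_of_isRegularLocalRing (S.presheaf.stalk x)
  have hVc : Coh.IsCoh V := CurveCoh17.isCoh_of_ofRank hV
  have hsp := LMSimple8.injective_sp_of_ofRank hV
  have hVcl : RH26.Closed1 V := (RH26.isReflexive_iff_closed1 hX hVc).1 ((RH26.isReflexive_iff_stalks hVc).2 fun y => by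
    obtain ⟨j⟩ := CurveCoh17.nonempty_stalk_equiv hV y
    haveI : Module.Finite (S.presheaf.stalk y) (V.presheaf.stalk y) := Module.Finite.equiv j.symm
    haveI := Module.Free.of_equiv j.symm
    show Module.IsReflexive (S.presheaf.stalk y) (V.presheaf.stalk y)
    infer_instance)
  have ha := LMSimple8.alpha_pos_structure (k := k) hdim hLa hK
  rw [(ShStab28.isHilbPoly_iff k hLa.1 hVc).1 hP] at hc1 hn
  have hV2 : StabCat.alpha 2 (ShStab28.hilb k S L V) =
      2 * StabCat.alpha 2 (ShStab28.hilb k S L (Coh.structureModule S)) := by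
    rw [LMSimple8.alpha_two_eq (k := k) hdim hLa hVc, LMSimple8.lenAt_of_ofRank hV]; norm_num
  have hV1 : StabCat.alpha 1 (ShStab28.hilb k S L V) =
      StabCat.alpha 2 (ShStab28.hilb k S L (Coh.structureModule S)) := by
    have h : StabCat.alpha 2 (ShStab28.hilb k S L V) = 2 * (ShStab28.hilb k S L V).coeff 2 := rfl
    rw [hV2] at h
    have h1 : StabCat.alpha 1 (ShStab28.hilb k S L V) = (ShStab28.hilb k S L V).coeff 1 := by
      simp [StabCat.alpha]
    rw [h1, hc1]
    linarith
  -- the twist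
  let P' := CohB1.tensorPow L n
  have hP' : PicF.IsInvertible P' := M2.isInvertible_tensorPow hLa.1 n
  obtain ⟨Q, hQ, ⟨e⟩⟩ := M2.exists_inverse hP'
  let e' : CohB1.tensorMod Q P' ≅ Coh.structureModule S := M2.tensorComm _ _ ≪≫ e
  have hQcl : PicGrp.cls Q hQ = PicGrp.cls L hLa.1 ^ (-(n : ℤ)) := by
    have h : PicGrp.cls Q hQ * PicGrp.cls P' hP' = 1 := (PicGrp.cls_mul_cls_eq_one_iff hQ hP').2 ⟨e'⟩
    have hp : PicGrp.cls P' hP' = PicGrp.cls L hLa.1 ^ n := Subtype.ext (by rw [PicGrp.cls_pow_val]; rfl)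
    rw [hp] at h
    rw [zpow_neg, zpow_natCast]
    exact eq_inv_of_mul_eq_one_left h
  let W := CohB1.tensorMod V P'
  let c : CohB1.tensorMod W Q ≅ V :=
    M2.tensorAssoc V P' Q ≪≫ M2.tensorIso (Iso.refl V) e ≪≫ M2.tensorRUnit V
  have hW : FlatMod.IsFinLocFreeOfRank (2 * 1) W :=
    M2.isFinLocFreeOfRank_tensor hV ((M2.isInvertible_iff_isFinLocFreeOfRank_one _).1 hP')
  have hWc : Coh.IsCoh W := CurveCoh17.isCoh_of_ofRank hW
  have hWhom : ∀ f : W ⟶ Coh.structureModule S, f = 0 := fun f => by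
    by_contra hf
    exact RankTwo11.iso_comp_ne_zero
      (RankTwo11.comp_iso_ne_zero (RankTwo11.tensor_ne_zero e' hf) (M2.tensorLUnit Q)) c.symm
      (LMSimple8.hom_eq_zero_of_stable (k := k) hdim hLa hK hVc hst hV2 hV1 hQ hQcl (by omega) _)
  have hχ : 1 ≤ Curv2.euler k S W := by
    have h0 := ShStab28.hilb_spec k hLa.1 hVc n
    rw [show ShStab.twist S L V n = W from rfl] at h0
    rw [← h0] at hn
    exact_mod_cast hn
  obtain ⟨s₀, hs₀⟩ := LMSimple8.exists_section (k := k) hdim hWc
    (LMSimple8.subsingleton_h2 (k := k) hdim hLa hK hWc (LMSimple8.injective_sp_of_ofRank hW) hWhom) hχ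
  let s : Q ⟶ V := (M2.tensorLUnit Q).inv ≫ M2.tensorMap s₀ (𝟙 Q) ≫ c.hom
  have hs : s ≠ 0 := RankTwo11.iso_comp_ne_zero
    (RankTwo11.comp_iso_ne_zero (RankTwo11.tensor_ne_zero e' hs₀) c) (M2.tensorLUnit Q).symm
  obtain ⟨M, hM, n', hn', N, ι, hι, hN, hιd, b, hb, s', hs'm, -, hKc, hn1, hn2, hK2, hK1, hsurj⟩ :=
    LMSimple8.exists_saturated (k := k) hdim hLa hK hVc hst hV2 hV1 hsp hgen hQ hQcl s hs
  haveI := hb
  haveI := hι
  have hMR := Div21F12.r1_of_invertible hX hM (Snapper.isCoh_of_isInvertible hM)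
  have hNsp : ∀ x, Function.Injective (N.presheaf.stalkSpecializes (RH26.gsp x)) := fun x v v' h =>
    (M1.mono_iff_stalk ι).1 inferInstance x (hMR.closed.1 x (by
      show M.presheaf.stalkSpecializes (RH26.gsp x) (RefHull.stalkMapₗ ι x v) =
        M.presheaf.stalkSpecializes (RH26.gsp x) (RefHull.stalkMapₗ ι x v')
      rw [RH26.stalkMapₗ_stalkSpecializes, RH26.stalkMapₗ_stalkSpecializes, h]))
  have hKcl := LMSimple8.closed1_kernel hVcl hNsp b
  have hlenK : NumPoly18.lenAt (kernel b) (genericPoint S) = 1 := by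
    have h := LMSimple8.alpha_two_eq (k := k) hdim hLa hKc
    rw [hK2] at h
    exact mul_right_cancel₀ ha.ne' (h.symm.trans (one_mul _).symm)
  have hKR : RH26.R1 (kernel b) := ⟨hX, hKc, hKcl, LMSimple8.exists_gen_of_lenAt hlenK⟩
  have hKi : PicF.IsInvertible (kernel b) := RH26.isInvertible_of_gen hKc fun x => by
    haveI := hU x
    obtain ⟨g, hg⟩ := hKR.gen
    exact RH26.exists_gen_of_isReflexiveAt_ufd hKc
      ((RH26.isReflexive_iff_stalks hKc).1 ((RH26.isReflexive_iff_closed1 hX hKc).2 hKcl) x) hg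
  obtain ⟨j, hj⟩ := hgen (PicGrp.cls (kernel b) hKi)
  have hj1 : j = 1 - n' := by
    have h := (LMSimple8.alpha_of_cls (k := k) hLa.1 hdim hKi hj).2
    rw [hK1, LMSimple8.alpha_one_structure (k := k) hdim hLa hK, zero_add] at h
    have : ((1 - n' : ℤ) : ℚ) = (j : ℚ) := by push_cast; exact mul_right_cancel₀ ha.ne' h
    exact (Int.cast_inj.1 this).symm
  obtain ⟨m, hm⟩ : ∃ m : ℕ, n' = (m : ℤ) + 1 := ⟨(n' - 1).toNat, by omega⟩
  have hP1 := M2.isInvertible_tensorPow hLa.1 (m + 1)
  obtain ⟨j'⟩ := (PicGrp.cls_eq_cls_iff hM hP1).1 (by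
    rw [hn', hm, show (m : ℤ) + 1 = ((m + 1 : ℕ) : ℤ) by push_cast; rfl, zpow_natCast]
    exact Subtype.ext (by rw [PicGrp.cls_pow_val]; rfl))
  have hN' : topologicalKrullDim (CohB1.support (cokernel (ι ≫ j'.hom))) ≤ 0 := by
    refine LMSimple8.dim_support_cokernel_le_zero (k := k) hdim hN (Snapper.isCoh_of_isInvertible hP1) _ fun x hx z => ?_
    obtain ⟨v, hv⟩ := LMSimple8.surjective_of_notMem_support (k := k) ι (LMSimple8.notMem_of_dim_le_zero (k := k) hdim
      (M1.isClosed_support (ShStab28.Sys.ok_coker (ShStab28.sys k S L hLa.1 (ShStab28.positive k hLa)) ι hN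
        (Snapper.isCoh_of_isInvertible hM)).2) hιd hx) (RefHull.stalkMapₗ j'.inv x z)
    refine ⟨v, ?_⟩
    rw [LMSimple8.stalkMap_comp, hv, ← LMSimple8.stalkMap_comp, j'.inv_hom_id]
    show (M1.stalkAb x).map (𝟙 (CohB1.tensorPow L (m + 1))) z = z
    rw [CategoryTheory.Functor.map_id]; rfl
  refine ⟨m, by omega, kernel b, hKi, ?_, N, ι ≫ j'.hom, inferInstance, hN, hN', kernel.ι b, b, kernel.condition b, ?_⟩
  · rw [hj, hj1, ← zpow_natCast, ← zpow_add, show (1 - n' + (m : ℤ)) = 0 by omega, zpow_zero]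
  · exact ShortComplex.ShortExact.mk (S := ShortComplex.mk (kernel.ι b) b (kernel.condition b))
      (ShortComplex.exact_kernel b)

end Groth.Agent.S15854
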