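import Groth.Statements.S15855
import Groth.Agent.Lib.LMSimple8.PureOne2
import Groth.Agent.Lib.LMSimple8.PureOne3
import Groth.Agent.Lib.LMSimple8.PureOne4
import Groth.Agent.Lib.FundIso12.SmoothProj
import Groth.Agent.Lib.SmDim19.RelDimVariety

set_option linter.style.haveILetI false
set_option backward.isDefEq.respectTransparency false
set_option backward.isDefEq.respectTransparency.types false
set_option maxHeartbeats 1600000
-- import your own Groth.Agent.* helpers here

set_option autoImplicit false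
universe u
open CategoryTheory CategoryTheory.Limits AlgebraicGeometry
attribute [local instance] HasDerivedCategory.standard
open Surf

namespace Groth.Agent.S15855

open Groth.Agent.LMSimple8

/-- `H⁰` of an injection which is surjective on sections. -/
theorem finrank_h0_eq {k : Type u} [Field k] {S : Scheme.{u}} [S.Over (Spec (CommRingCat.of k))]
    {P Q : S.Modules} (f : P ⟶ Q) [Mono f] (hf : Function.Surjective (CurveCoh17.hmap k f 0)) :
    Module.finrank k (Coh.HH S P 0) = Module.finrank k (Coh.HH S Q 0) := by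
  have hT : (ShortComplex.mk f (cokernel.π f) (cokernel.condition f)).ShortExact :=
    { exact := ShortComplex.exact_of_g_is_cokernel _ (cokernelIsCokernel f) }
  have hinj := CurveCoh17.hmap_f_injective (S := ShortComplex.mk f (cokernel.π f) (cokernel.condition f)) k hT
  exact (LinearEquiv.ofBijective (CurveCoh17.hmap k f 0) ⟨hinj, hf⟩).finrank_eq

/-- Sections lift along an injection which stays injective on `H¹`. -/
theorem surjective_h0_cokernel {k : Type u} [Field k] {S : Scheme.{u}} [S.Over (Spec (CommRingCat.of k))]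
    {P Q : S.Modules} (f : P ⟶ Q) [Mono f] (hinj : Function.Injective (CurveCoh17.hmap k f 1)) :
    Function.Surjective (CurveCoh17.hmap k (cokernel.π f) 0) := fun y => by
  have hT : (ShortComplex.mk f (cokernel.π f) (cokernel.condition f)).ShortExact :=
    { exact := ShortComplex.exact_of_g_is_cokernel _ (cokernelIsCokernel f) }
  refine (CurveCoh17.exact_hmap_hdelta k hT 0 y).1 (hinj ?_)
  exact ((CurveCoh17.exact_hdelta_hmap k hT 0 _).2 ⟨y, rfl⟩).trans (map_zero _).symm

/-- Let k be an algebraically closed field of characteristic zero, S a smooth projective surface over k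
(integral, smooth over k, of dimension two, with a closed immersion over k into some projective
space), ω an O_S-module which is a second exterior power of the sheaf of differentials of S over k,
j : C → S a closed immersion with C integral of dimension one, and A a coherent O_C-module with
torsion-free stalks and one-dimensional generic stalk, with H^0(S, j_*A) ≠ 0 and H^1(S, j_*A) ≠ 0.
For a coherent O_S-module F write F^* = Ext^1_{O_S}(F, ω) (first right derived functor of the sheaf
Hom functor Hom_{O_S}(F, -), the right adjoint of F ⊗ -, at ω). Let A' ⊆ j_*A be the base-point-free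
part of A: a globally generated coherent subsheaf such that H^0(S, A') → H^0(S, j_*A) is surjective
(the image of the evaluation map). Let B ⊆ A'^* be, likewise, a globally generated coherent subsheaf
with H^0(S, B) → H^0(S, A'^*) surjective, and put A'' = B^*. Then both A'' and A''^* are globally
generated (quotients of free O_S-modules). -/
theorem result
    (k : Type u) [Field k] [IsAlgClosed k] [CharZero k]
    (S : Scheme.{u}) [S.Over (Spec (CommRingCat.of k))] [IsIntegral S]
    [Smooth (S ↘ Spec (CommRingCat.of k))] (hdim : topologicalKrullDim S = 2)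
    [IsProper (S ↘ Spec (CommRingCat.of k))]
    (hproj : ∃ (n : ℕ) (ι : S ⟶ CohB1.ProjSpace n k), IsClosedImmersion ι ∧
      ι ≫ CohB1.ProjSpace.toSpec n k = S ↘ Spec (CommRingCat.of k))
    [HasInjectiveResolutions S.Modules]
    (ω : S.Modules) (hω : Canon.IsTopDiff (S ↘ Spec (CommRingCat.of k)) 2 ω)
    (C : Scheme.{u}) (j : C ⟶ S) [IsClosedImmersion j] [IsIntegral C]
    (hC : topologicalKrullDim C = 1)
    (M : C.Modules) (hM : Coh.IsCoh M) (hMtf : TorSh.IsTorsionFree M)
    (hrk : Module.finrank (C.presheaf.stalk (genericPoint C)) (M.presheaf.stalk (genericPoint C)) = 1)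
    (h0 : 0 < Module.finrank k (Coh.HH S ((Coh.push j).obj M) 0)) (h1 : 0 < Module.finrank k (Coh.HH S ((Coh.push j).obj M) 1))
    (A' : S.Modules) (ι₁ : A' ⟶ ((Coh.push j).obj M)) [Mono ι₁] (hA'c : Coh.IsCoh A')
    (hA'g : Curv2.IsGloballyGenerated A') (hA'0 : Function.Surjective (Canon.HHlin k ι₁ 0))
    [DCoh.HasSheafHom A'] [(DCoh.sheafHom A').Additive]
    (B : S.Modules) (ι₂ : B ⟶ ((DCoh.sheafHom A').rightDerived 1).obj ω) [Mono ι₂] (hBc : Coh.IsCoh B)
    (hBg : Curv2.IsGloballyGenerated B) (hB0 : Function.Surjective (Canon.HHlin k ι₂ 0))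
    [DCoh.HasSheafHom B] [(DCoh.sheafHom B).Additive]
    [DCoh.HasSheafHom (((DCoh.sheafHom B).rightDerived 1).obj ω)] [(DCoh.sheafHom (((DCoh.sheafHom B).rightDerived 1).obj ω)).Additive] :
    Curv2.IsGloballyGenerated (((DCoh.sheafHom B).rightDerived 1).obj ω) ∧
      Curv2.IsGloballyGenerated (((DCoh.sheafHom (((DCoh.sheafHom B).rightDerived 1).obj ω)).rightDerived 1).obj ω) := by
  haveI : SmoothOfRelativeDimension 2 (S ↘ Spec (CommRingCat.of k)) :=
    SmDim19.smoothOfRelativeDimension_of_smooth (S ↘ Spec (CommRingCat.of k)) 2 (by exact_mod_cast hdim)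
  obtain ⟨N, iota, hi1, hi2⟩ := hproj
  haveI : IsLocallyNoetherian S := LocallyOfFiniteType.isLocallyNoetherian (S ↘ Spec (CommRingCat.of k))
  haveI : CompactSpace S := QuasiCompact.compactSpace_of_compactSpace (S ↘ Spec (CommRingCat.of k))
  haveI : HasInjectiveResolutions (ModSite.Mod S.sheaf) := inferInstanceAs (HasInjectiveResolutions S.Modules)
  have hω' : PicF.IsInvertible ω := FundIso12.isInvertible_omega (n := 2) hω
  have hreg : ∀ x : S, IsRegularLocalRing (S.presheaf.stalk x) := fun x =>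
    WeilExt.isRegularLocalRing_stalk_of_smooth (S ↘ Spec (CommRingCat.of k)) x
  have hΔ : ∀ V W : S.Opens, IsAffineOpen V → IsAffineOpen W → IsAffineOpen (V ⊓ W) := fun V W hV hW => by
    haveI : S.IsSeparated := ⟨by
      rw [show terminal.from S = (S ↘ Spec (CommRingCat.of k)) ≫ terminal.from _ from (terminal.comp_from _).symm]
      infer_instance⟩
    exact hV.inf hW
  have hη : genericPoint S ∉ Set.range j := PureOne.genericPoint_notMem j hC hdim
  let ξ := j (genericPoint C)
  have hωc : Coh.IsCoh ω := Snapper.isCoh_of_isInvertible hω'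
  let A : S.Modules := (Coh.push j).obj M
  have hAc : Coh.IsCoh A := CohFound.isCoh_push_closedImm j hM
  have hApd : PureOne.PD1 A := fun x => BC8.CurveRes.pd_stalk_le_one hreg hdim.le j hC hM hMtf x
  have hA'pd : PureOne.PD1 A' := PureOne.pd1_of_mono hreg hdim.le hA'c hAc ι₁ hApd
  have hA's : ∀ x ∉ Set.range j, ∀ a : A'.presheaf.stalk x, a = 0 := fun x hx a =>
    (M1.mono_iff_stalk ι₁).1 inferInstance x ((M1.eq_zero_stalk_push j M hx _).trans (map_zero _).symm)
  -- length one at the generic point of the curve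
  have hAl : Module.length (S.presheaf.stalk ξ) (A.presheaf.stalk ξ) = 1 := by
    refine (Cyc26.length_stalk_push_closedImmersion j M (genericPoint C)).trans ?_
    letI : Field (C.presheaf.stalk (genericPoint C)) :=
      (inferInstanceAs (Field C.functionField) : Field (C.presheaf.stalk (genericPoint C)))
    haveI : Module.Finite (C.presheaf.stalk (genericPoint C)) (M.presheaf.stalk (genericPoint C)) :=
      Module.finite_of_finrank_eq_succ hrk
    rw [Module.length_eq_finrank, hrk]
    rfl
  have hsimple : ∀ {P Q : S.Modules} (f : P ⟶ Q) [Mono f],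
      Module.length (S.presheaf.stalk ξ) (Q.presheaf.stalk ξ) = 1 → ¬ (∀ a : P.presheaf.stalk ξ, a = 0) →
      Module.length (S.presheaf.stalk ξ) (P.presheaf.stalk ξ) = 1 ∧
        Function.Surjective (CurveCoh17.stalkLin f ξ) := by
    intro P Q f _ hQ hP
    have hinj : Function.Injective (CurveCoh17.stalkLin f ξ) := (M1.mono_iff_stalk f).1 inferInstance ξ
    haveI := Module.length_eq_one_iff.1 hQ
    have hsurj : Function.Surjective (CurveCoh17.stalkLin f ξ) := by
      refine LinearMap.range_eq_top.1 ((eq_bot_or_eq_top _).resolve_left fun h => hP fun a => hinj ?_)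
      rw [map_zero]
      exact (Submodule.eq_bot_iff _).1 h _ ⟨a, rfl⟩
    exact ⟨(LinearEquiv.ofBijective _ ⟨hinj, hsurj⟩).length_eq.trans hQ, hsurj⟩
  have hzero : ∀ {P : S.Modules}, Coh.IsCoh P → PureOne.PD1 P →
      (∀ x ∉ Set.range j, ∀ a : P.presheaf.stalk x, a = 0) → (∀ a : P.presheaf.stalk ξ, a = 0) →
      Subsingleton (Coh.HH S P 0) := by
    intro P hP hPd hPs hPξ
    obtain ⟨Z, hZ⟩ := PureOne.exists_suppIn (k := k) j hC hP hPs hPξ
    exact PureOne.subsingleton_h0 (PureOne.eq_zero_of_suppIn (k := k) hreg hP hPd hZ)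
  have hA'ξ : ¬ ∀ a : A'.presheaf.stalk ξ, a = 0 := fun h => by
    haveI := hzero hA'c hA'pd hA's h
    haveI : Subsingleton (Coh.HH S A 0) := hA'0.subsingleton
    rw [Module.finrank_zero_of_subsingleton] at h0
    exact h0.false
  obtain ⟨hA'l, hA'surj⟩ := hsimple ι₁ hAl hA'ξ
  -- `H¹(A') → H¹(A)` is onto
  obtain ⟨Z₁, hZ₁⟩ := PureOne.exists_suppIn (k := k) j hC (M1.isCoh_cokernel hA'c.1 hAc ι₁)
    (fun x hx a => by
      obtain ⟨b, rfl⟩ := (M1.epi_iff_stalk (cokernel.π ι₁)).1 inferInstance x a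
      exact (congrArg _ (M1.eq_zero_stalk_push j M hx b)).trans (map_zero _))
    (CurveCoh17.eq_zero_stalk_cokernel ι₁ ξ hA'surj)
  haveI : Module.Finite k (Coh.HH S A' 1) := CohFound.finite_HH_of_isProper A' hA'c 1
  have hA'1 : 0 < Module.finrank k (Coh.HH S A' 1) :=
    h1.trans_le ((CurveCoh17.hmap k ι₁ 1).finrank_le_finrank_of_surjective (PureOne.surjective_h1 ι₁ hZ₁))
  -- the dual `G` of `A'`
  have hηA' : ∀ a : A'.presheaf.stalk (genericPoint S), a = 0 := hA's _ hη
  let G := ((CohMop.ihom A').rightDerived 1).obj ω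
  have hGc : Coh.IsCoh G := CohMop.isCoh_extSheaf 1 A' ω hA'c hωc
  obtain ⟨hGpd, ⟨dA⟩⟩ := PureOne.exists_dual hreg hΔ hω' hA'c hA'pd hηA'
  have hGs : ∀ x ∉ Set.range j, ∀ a : G.presheaf.stalk x, a = 0 := fun x hx =>
    PureOne.stalk_extSh_eq_zero hA'c x (hA's x hx) ω 1
  have hGl := PureOne.length_extSh j hC hdim (hreg ξ) hA'c hA'l hω'
  let iG := PureOne.extIso (S := S) A' ω
  let ι : B ⟶ G := ι₂ ≫ iG.hom
  haveI : Mono ι := mono_comp _ _
  have hBpd : PureOne.PD1 B := PureOne.pd1_of_mono hreg hdim.le hBc hGc ι hGpd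
  have hBs : ∀ x ∉ Set.range j, ∀ a : B.presheaf.stalk x, a = 0 := fun x hx a =>
    (M1.mono_iff_stalk ι).1 inferInstance x ((hGs x hx _).trans (map_zero _).symm)
  have hι0 : Function.Surjective (CurveCoh17.hmap k ι 0) := fun y => by
    obtain ⟨z, hz⟩ := hB0 ((CurveCoh17.hequiv k iG 0).symm y)
    refine ⟨z, ?_⟩
    rw [CurveCoh17.hmap_comp]
    show CurveCoh17.hequiv k iG 0 (CurveCoh17.hmap k ι₂ 0 z) = y
    rw [show CurveCoh17.hmap k ι₂ 0 z = Canon.HHlin k ι₂ 0 z from rfl, hz, LinearEquiv.apply_symm_apply]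
  have hG0 := PureOne.finrank_h0_extSh iota hi2 hω hA'c hηA'
  have hBξ : ¬ ∀ a : B.presheaf.stalk ξ, a = 0 := fun h => by
    haveI := hzero hBc hBpd hBs h
    haveI : Subsingleton (Coh.HH S G 0) := hι0.subsingleton
    rw [Module.finrank_zero_of_subsingleton] at hG0
    omega
  obtain ⟨-, hBsurj⟩ := hsimple ι hGl hBξ
  obtain ⟨Z, hZ⟩ := PureOne.exists_suppIn (k := k) j hC (M1.isCoh_cokernel hBc.1 hGc ι)
    (fun x hx a => by
      obtain ⟨b, rfl⟩ := (M1.epi_iff_stalk (cokernel.π ι)).1 inferInstance x a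
      exact (congrArg _ (hGs x hx b)).trans (map_zero _))
    (CurveCoh17.eq_zero_stalk_cokernel ι ξ hBsurj)
  -- the dual `D` of `B`
  have hηB : ∀ a : B.presheaf.stalk (genericPoint S), a = 0 := hBs _ hη
  let D := ((CohMop.ihom B).rightDerived 1).obj ω
  have hDc : Coh.IsCoh D := CohMop.isCoh_extSheaf 1 B ω hBc hωc
  obtain ⟨-, ⟨dB⟩⟩ := PureOne.exists_dual hreg hΔ hω' hBc hBpd hηB
  let iD := PureOne.extIso (S := S) B ω
  have hηD : ∀ a : D.presheaf.stalk (genericPoint S), a = 0 :=
    PureOne.stalk_extSh_eq_zero hBc _ hηB ω 1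
  -- the map `A' = G^* → B^* = D`
  let φ : A' ⟶ D := dA.inv ≫ PureOne.dualMap ι ω
  have hbij : ∀ x ∉ Z, Function.Bijective (CurveCoh17.stalkLin φ x) := fun x hx => by
    have hb := PureOne.bijective_dualMap hBc hGc ι ω x (hZ.zero x hx)
    have hd : Function.Bijective (CurveCoh17.stalkLin dA.inv x) := ConcreteCategory.bijective_of_isIso
      ((M1.stalkAb x).map dA.inv)
    refine Function.Bijective.of_comp_iff' hb _ |>.2 hd |> fun h => ?_
    exact (funext fun a => (CurveCoh17.stalkLin_comp dA.inv (PureOne.dualMap ι ω) x a)) ▸ h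
  have hKc : Coh.IsCoh (kernel φ) := M1.isCoh_kernel hA'c hDc.1 φ
  have hKz : ∀ (x : S) (a : (kernel φ).presheaf.stalk x), a = 0 :=
    PureOne.eq_zero_of_suppIn (k := k) hreg hKc (PureOne.pd1_of_mono hreg hdim.le hKc hA'c (kernel.ι φ) hA'pd)
      (Z := Z) ⟨hZ.closed, fun x hx => CurveCoh17.eq_zero_stalk_kernel φ x (hbij x hx).1⟩
  haveI : Mono φ := Preadditive.mono_of_kernel_zero (Defo13.hom_eq_zero_of_stalk _ fun x a => by
    rw [hKz x a, map_zero])
  have hQ : CurveCoh17.SuppIn (cokernel φ) Z :=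
    ⟨hZ.closed, fun x hx => CurveCoh17.eq_zero_stalk_cokernel φ x (hbij x hx).2⟩
  have hD0 := PureOne.finrank_h0_extSh iota hi2 hω hDc hηD
  rw [(CurveCoh17.hequiv k dB 0).finrank_eq] at hD0
  haveI : Module.Finite k (Coh.HH S D 1) := CohFound.finite_HH_of_isProper D hDc 1
  haveI : Module.Finite k (Coh.HH S B 0) := CohFound.finite_HH_of_isProper B hBc 0
  have hBG : Module.finrank k (Coh.HH S B 0) = Module.finrank k (Coh.HH S G 0) := finrank_h0_eq ι hι0
  have hinj : Function.Injective (CurveCoh17.hmap k φ 1) :=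
    (LinearMap.injective_iff_surjective_of_finrank_eq_finrank ((hG0.symm.trans hBG.symm).trans hD0)).2 (PureOne.surjective_h1 φ hQ)
  have hlift : Function.Surjective (CurveCoh17.hmap k (cokernel.π φ) 0) := surjective_h0_cokernel φ hinj
  have hDg : Curv2.IsGloballyGenerated D := PureOne.isGloballyGenerated_of_mono (k := k) φ hQ hA'g hlift
  have hgiso : ∀ {P Q : S.Modules}, (P ≅ Q) → Curv2.IsGloballyGenerated P → Curv2.IsGloballyGenerated Q :=
    fun e ⟨I, p, hp⟩ => ⟨I, p ≫ e.hom, by haveI := hp; exact epi_comp _ _⟩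
  refine ⟨hgiso iD.symm hDg, hgiso (Nonempty.some ?_) hBg⟩
  let i₃ := PureOne.extIso (S := S) (((DCoh.sheafHom B).rightDerived 1).obj ω) ω
  obtain ⟨i₄⟩ := BC8.BidualW.nonempty_extOne_congr iD ω
  exact ⟨(i₃ ≪≫ i₄ ≪≫ dB).symm⟩

end Groth.Agent.S15855
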