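import Groth.Statements.S15856
import Groth.Agent.Lib.LMSimple8.NonFree

set_option backward.isDefEq.respectTransparency false
set_option backward.isDefEq.respectTransparency.types false
set_option maxHeartbeats 1600000

set_option autoImplicit false
universe u
open CategoryTheory CategoryTheory.Limits AlgebraicGeometry
open ShStab

namespace Groth.Agent.S15856

/-- Let k be an algebraically closed field of characteristic zero and S a K3 surface over k — a smooth
projective surface (integral, smooth over k, of dimension two, with a closed immersion over k into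
some projective space) whose structure sheaf is a second exterior power of its sheaf of
differentials and with H^1(S, O_S) = 0 — whose Picard group is infinite cyclic, generated by the
class of an ample invertible sheaf G. Let L and L' be invertible O_S-modules and N ⊆ L' a coherent
subsheaf whose quotient L'/N is supported in dimension at most zero (N is L' twisted by the ideal
sheaf of a finite subscheme Z). If the group Ext^1_{O_S}(N, L), computed in the category of all
O_S-modules with its k-linear structure (the Ext instance is the stated hypothesis; it holds), has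
k-dimension at least 2, then there is a short exact sequence 0 → L → V → N → 0 which does not split
and whose middle term V is not a finite locally free O_S-module. -/
theorem result
    (k : Type u) [Field k] [IsAlgClosed k] [CharZero k]
    (S : Scheme.{u}) [S.Over (Spec (CommRingCat.of k))] [IsIntegral S]
    [Smooth (S ↘ Spec (CommRingCat.of k))] (hdim : topologicalKrullDim S = 2)
    [IsProper (S ↘ Spec (CommRingCat.of k))]
    (hproj : ∃ (n : ℕ) (ι : S ⟶ CohB1.ProjSpace n k), IsClosedImmersion ι ∧
      ι ≫ CohB1.ProjSpace.toSpec n k = S ↘ Spec (CommRingCat.of k))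
    (hK : Canon.IsTopDiff (S ↘ Spec (CommRingCat.of k)) 2 (Coh.structureModule S))
    (hq : Module.finrank k (Coh.HH S (Coh.structureModule S) 1) = 0)
    (G : S.Modules) (hGi : PicF.IsInvertible G) (hGa : CohB1.IsAmple G)
    [PicGrp.Law S] (hgen : ∀ c : PicLoc.PicSet S, ∃ n : ℤ, c = PicGrp.cls G hGi ^ n)
    (hfree : ∀ n : ℤ, PicGrp.cls G hGi ^ n = 1 → n = 0)
    [HasExt.{u} S.Modules]
    (L L' : S.Modules) (hL : PicF.IsInvertible L) (hL' : PicF.IsInvertible L')
    (N : S.Modules) (ι : N ⟶ L') [Mono ι] (hN : Coh.IsCoh N)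
    (hZ : topologicalKrullDim (CohB1.support (cokernel ι)) ≤ 0)
    (h2 : 2 ≤ Module.finrank k (Abelian.Ext N L 1)) :
    ∃ (V : S.Modules) (a : L ⟶ V) (b : V ⟶ N) (w : a ≫ b = 0),
      (ShortComplex.mk a b w).ShortExact ∧ (∀ r : V ⟶ L, a ≫ r ≠ 𝟙 L) ∧
        ¬ FlatMod.IsFinLocFree V := by
  haveI : IsNoetherian S := CohFound.isNoetherian_of_isProper (S ↘ Spec (CommRingCat.of k))
  have hX : Pi1.IsNormalScheme S := RH26.isNormalScheme_of_regular fun x => SurfRR10.regular (k := k) x
  let Y := ShStab28.sys k S G hGa.1 (ShStab28.positive k hGa)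
  have hLc := Snapper.isCoh_of_isInvertible hL
  have hLR := Div21F12.r1_of_invertible hX hL hLc
  have hL'c := Snapper.isCoh_of_isInvertible hL'
  have hL'R := Div21F12.r1_of_invertible hX hL' hL'c
  obtain ⟨N', φ, ι', e, hφ, hι', hN'c, hfac, hφi, hne⟩ := LMSimple8.exists_class (k := k) hdim hGa hK hgen hq hL hL' ι hN hZ h2
  haveI := hφ
  haveI := hι'
  let P : InjectivePresentation L := Classical.arbitrary _
  have hSI : P.shortComplex.ShortExact := P.shortExact_shortComplex
  haveI : Injective P.shortComplex.X₂ := P.injective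
  obtain ⟨g, hg⟩ := Abelian.Ext.covariant_sequence_exact₁ N' hSI e
    ((Abelian.Ext.subsingleton_of_injective N' P.shortComplex.X₂ 0).elim _ _) (show 0 + 1 = 1 from rfl)
  obtain ⟨g, rfl⟩ := (Abelian.Ext.mk₀_bijective _ _).2 g
  obtain ⟨w, hV⟩ := LMSimple8.shortExact_pullback P.shortComplex.f P.shortComplex.g P.shortComplex.zero hSI (φ ≫ g)
  obtain ⟨w', hV'⟩ := LMSimple8.shortExact_pullback P.shortComplex.f P.shortComplex.g P.shortComplex.zero hSI g
  refine ⟨pullback P.shortComplex.g (φ ≫ g),
    pullback.lift P.shortComplex.f 0 (by rw [P.shortComplex.zero, zero_comp]), pullback.snd _ _, w, hV, fun r hr => ?_, fun hfree => ?_⟩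
  · let sp := ShortComplex.Splitting.ofExactOfRetraction _ hV.exact r hr hV.epi_g
    have h1 : φ ≫ g = (sp.s ≫ pullback.fst P.shortComplex.g (φ ≫ g)) ≫ P.shortComplex.g := by
      rw [Category.assoc, pullback.condition, ← Category.assoc,
        show sp.s ≫ pullback.snd P.shortComplex.g (φ ≫ g) = 𝟙 N from sp.s_g, Category.id_comp]
    refine hne ?_
    rw [← hg, Abelian.Ext.mk₀_comp_mk₀_assoc, h1, ← Abelian.Ext.mk₀_comp_mk₀_assoc,
      ShortComplex.ShortExact.comp_extClass hSI, Abelian.Ext.comp_zero]
  · let g₀ : pullback P.shortComplex.g (φ ≫ g) ⟶ pullback P.shortComplex.g g :=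
      pullback.map _ _ _ _ (𝟙 _) φ (𝟙 _) (by simp) (by simp)
    let a : L ⟶ pullback P.shortComplex.g (φ ≫ g) := pullback.lift P.shortComplex.f 0 (by rw [P.shortComplex.zero, zero_comp])
    let a' : L ⟶ pullback P.shortComplex.g g := pullback.lift P.shortComplex.f 0 (by rw [P.shortComplex.zero, zero_comp])
    have hag : a ≫ g₀ = a' := by
      refine pullback.hom_ext ?_ ?_
      · rw [Category.assoc, pullback.lift_fst, pullback.lift_fst_assoc, pullback.lift_fst, Category.comp_id]
      · rw [Category.assoc, pullback.lift_snd, pullback.lift_snd_assoc, pullback.lift_snd, zero_comp]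
    have hgb : g₀ ≫ pullback.snd P.shortComplex.g g = pullback.snd P.shortComplex.g (φ ≫ g) ≫ φ := pullback.lift_snd _ _ _
    have hgf : g₀ ≫ pullback.fst P.shortComplex.g g = pullback.fst P.shortComplex.g (φ ≫ g) := by
      rw [pullback.lift_fst, Category.comp_id]
    haveI : Mono g₀ := Preadditive.mono_of_cancel_zero _ fun t ht => by
      refine pullback.hom_ext ?_ ?_
      · rw [zero_comp, ← hgf, reassoc_of% ht, zero_comp]
      · rw [zero_comp, ← cancel_mono φ, Category.assoc, ← hgb, reassoc_of% ht, zero_comp, zero_comp]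
    have hVc : Coh.IsCoh (pullback P.shortComplex.g (φ ≫ g)) := Y.ok_ext hV hLc hN
    have hFcl : RH26.Closed1 (pullback P.shortComplex.g (φ ≫ g)) :=
      (RH26.isReflexive_iff_closed1 hX hVc).1 ((RH26.isReflexive_iff_stalks hVc).2 fun x => by
        haveI := ((M1.isFinLocFree_iff _).1 hfree).2 x
        haveI := M1.finite_stalk hVc.1 hVc.2 x
        show Module.IsReflexive (S.presheaf.stalk x) ((pullback P.shortComplex.g (φ ≫ g)).presheaf.stalk x)
        infer_instance)
    have hN'sp : ∀ x, Function.Injective (N'.presheaf.stalkSpecializes (RH26.gsp x)) := fun x v v' h =>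
      (M1.mono_iff_stalk ι').1 inferInstance x (hL'R.closed.1 x (by
        show L'.presheaf.stalkSpecializes (RH26.gsp x) (RefHull.stalkMapₗ ι' x v) =
          L'.presheaf.stalkSpecializes (RH26.gsp x) (RefHull.stalkMapₗ ι' x v')
        rw [RH26.stalkMapₗ_stalkSpecializes, RH26.stalkMapₗ_stalkSpecializes, h]))
    have hV'sp := LMSimple8.injective_sp_extension a' (pullback.snd P.shortComplex.g g) w' hV' hLR.closed.1 hN'sp
    haveI : Epi (pullback.snd P.shortComplex.g (φ ≫ g)) := hV.epi_g
    have hgs : ∀ x : S, ringKrullDim (S.presheaf.stalk x) ≤ 1 → Function.Surjective (RefHull.stalkMapₗ g₀ x) := fun x hx v => by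
      obtain ⟨q, hq⟩ := LMSimple8.surjective_of_notMem_support (k := k) ι (LMSimple8.notMem_of_dim_le_zero (k := k) hdim
        (M1.isClosed_support (Y.ok_coker ι hN hL'c).2) hZ hx)
        (RefHull.stalkMapₗ ι' x (RefHull.stalkMapₗ (pullback.snd P.shortComplex.g g) x v))
      obtain ⟨(u : (pullback P.shortComplex.g (φ ≫ g)).presheaf.stalk x), hu⟩ :=
        (M1.epi_iff_stalk (pullback.snd P.shortComplex.g (φ ≫ g))).1 inferInstance x q
      have hu' : RefHull.stalkMapₗ (pullback.snd P.shortComplex.g (φ ≫ g)) x u = q := hu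
      rw [← hu'] at hq
      have h1 : RefHull.stalkMapₗ (pullback.snd P.shortComplex.g g) x (v - RefHull.stalkMapₗ g₀ x u) = 0 := by
        refine (M1.mono_iff_stalk ι').1 inferInstance x ?_
        show RefHull.stalkMapₗ ι' x _ = RefHull.stalkMapₗ ι' x 0
        rw [map_sub, map_sub, map_zero, sub_eq_zero, ← LMSimple8.stalkMap_comp g₀, hgb, ← hq, ← LMSimple8.stalkMap_comp,
          ← LMSimple8.stalkMap_comp, Category.assoc, hfac]
      obtain ⟨m, hm⟩ := ((Cyc26.stalkLin_exact hV' x).2.1 _).1 h1
      refine ⟨u + RefHull.stalkMapₗ a x m, ?_⟩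
      rw [map_add, ← LMSimple8.stalkMap_comp a g₀, hag,
        show RefHull.stalkMapₗ a' x m = v - RefHull.stalkMapₗ g₀ x u from hm, add_sub_cancel]
    haveI : IsIso g₀ := LMSimple8.isIso_of_codim_one hFcl hV'sp g₀ hgs
    haveI : Epi (pullback.snd P.shortComplex.g g) := hV'.epi_g
    haveI : Epi (g₀ ≫ pullback.snd P.shortComplex.g g) := epi_comp _ _
    haveI : Epi (pullback.snd P.shortComplex.g (φ ≫ g) ≫ φ) := hgb ▸ (inferInstance : Epi (g₀ ≫ pullback.snd P.shortComplex.g g))
    haveI : Epi φ := epi_of_epi (pullback.snd P.shortComplex.g (φ ≫ g)) φ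
    exact hφi (isIso_of_mono_of_epi φ)

end Groth.Agent.S15856
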