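import Groth.Statements.S15859
import Groth.Agent.Lib.NumPoly18.FamilyEuler
import Groth.Agent.Lib.NumPoly18.HodgeIndex
import Groth.Agent.Lib.VecLift3.RelExt
import Groth.Agent.Lib.CurveCoh17.LES
-- import your own Groth.Agent.* helpers here

set_option autoImplicit false
set_option maxHeartbeats 800000
set_option linter.style.haveILetI false
universe u
open CategoryTheory CategoryTheory.Limits AlgebraicGeometry
open Surf

namespace Groth.Agent.S15859

open Groth.Agent.CurveCoh17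

theorem finrank_middle {k : Type u} [Field k] {A B C : Type u} [AddCommGroup A] [Module k A] [AddCommGroup B]
    [Module k B] [AddCommGroup C] [Module k C] [Module.Finite k B] (f : A →ₗ[k] B) (g : B →ₗ[k] C)
    (hf : Function.Injective f) (he : Function.Exact f g) :
    Module.finrank k B = Module.finrank k A + Module.finrank k (LinearMap.range g) := by
  have h := LinearMap.finrank_range_add_finrank_ker g
  rw [LinearMap.exact_iff.1 he, LinearMap.finrank_range_of_inj hf] at h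
  omega

variable {k : Type u} [Field k] {S : Scheme.{u}} [S.Over (Spec (CommRingCat.of k))]
  [IsProper (S ↘ Spec (CommRingCat.of k))]

theorem h0_of_ses {T : ShortComplex S.Modules} (hT : T.ShortExact) (h2 : Coh.IsCoh T.X₂)
    (h3 : Coh.IsCoh T.X₃) :
    Module.finrank k (Coh.HH S T.X₂ 0) ≤
      Module.finrank k (Coh.HH S T.X₁ 0) + Module.finrank k (Coh.HH S T.X₃ 0) := by
  haveI : IsNoetherian S := CohFound.isNoetherian_of_isProper (S ↘ (Spec (CommRingCat.of k)))
  haveI := CohFound.finite_HH_of_isProper (A := k) T.X₂ h2 0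
  haveI := CohFound.finite_HH_of_isProper (A := k) T.X₃ h3 0
  rw [finrank_middle _ _ (hmap_f_injective k hT) (exact_hmap_hmap k hT 0)]
  exact Nat.add_le_add_left (Submodule.finrank_le _) _

theorem h0_of_ses_eq {T : ShortComplex S.Modules} (hT : T.ShortExact) (h1 : Coh.IsCoh T.X₁)
    (h2 : Coh.IsCoh T.X₂) (hv : Subsingleton (Coh.HH S T.X₃ 1))
    (he : Module.finrank k (Coh.HH S T.X₁ 1) = Module.finrank k (Coh.HH S T.X₂ 1)) :
    Module.finrank k (Coh.HH S T.X₂ 0) =
      Module.finrank k (Coh.HH S T.X₁ 0) + Module.finrank k (Coh.HH S T.X₃ 0) := by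
  haveI : IsNoetherian S := CohFound.isNoetherian_of_isProper (S ↘ (Spec (CommRingCat.of k)))
  haveI := CohFound.finite_HH_of_isProper (A := k) T.X₂ h2 0
  haveI := CohFound.finite_HH_of_isProper (A := k) T.X₁ h1 1
  haveI := CohFound.finite_HH_of_isProper (A := k) T.X₂ h2 1
  have hs : Function.Surjective (hmap k T.f 1) := fun y =>
    ((exact_hmap_hmap k hT 1) y).1 (@Subsingleton.elim _ hv _ _)
  have hi : Function.Injective (hmap k T.f 1) :=
    (LinearMap.injective_iff_surjective_of_finrank_eq_finrank he).2 hs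
  have hg : LinearMap.range (hmap k T.g 0) = ⊤ := LinearMap.range_eq_top.2 fun y => by
    refine ((exact_hmap_hdelta k hT 0) y).1 (hi ?_)
    rw [map_zero]
    exact ((exact_hdelta_hmap k hT 0) _).2 ⟨y, rfl⟩
  rw [finrank_middle _ _ (hmap_f_injective k hT) (exact_hmap_hmap k hT 0), hg, finrank_top]


theorem h0_ses_eq' {A B C : S.Modules} (f : A ⟶ B) (g : B ⟶ C) (w : f ≫ g = 0)
    (hT : (ShortComplex.mk f g w).ShortExact) (h1 : Coh.IsCoh A)
    (h2 : Coh.IsCoh B) (hv : Subsingleton (Coh.HH S C 1))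
    (he : Module.finrank k (Coh.HH S A 1) = Module.finrank k (Coh.HH S B 1)) :
    Module.finrank k (Coh.HH S B 0) =
      Module.finrank k (Coh.HH S A 0) + Module.finrank k (Coh.HH S C 0) :=
  (@h0_of_ses_eq k _ S _ _ (ShortComplex.mk f g w) hT h1 h2 hv he :)

theorem h0_ses' {A B C : S.Modules} (f : A ⟶ B) (g : B ⟶ C) (w : f ≫ g = 0)
    (hT : (ShortComplex.mk f g w).ShortExact) (h2 : Coh.IsCoh B) (h3 : Coh.IsCoh C) :
    Module.finrank k (Coh.HH S B 0) ≤
      Module.finrank k (Coh.HH S A 0) + Module.finrank k (Coh.HH S C 0) :=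
  (@h0_of_ses k _ S _ _ (ShortComplex.mk f g w) hT h2 h3 :)

theorem h0_ses_mono {A B C : S.Modules} (f : A ⟶ B) (g : B ⟶ C) (w : f ≫ g = 0)
    (hT : (ShortComplex.mk f g w).ShortExact) (h2 : Coh.IsCoh B) :
    Module.finrank k (Coh.HH S A 0) ≤ Module.finrank k (Coh.HH S B 0) := by
  haveI : IsNoetherian S := CohFound.isNoetherian_of_isProper (S ↘ (Spec (CommRingCat.of k)))
  haveI := CohFound.finite_HH_of_isProper (A := k) B h2 0
  have hi := hmap_f_injective k (S := ShortComplex.mk f g w) hT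
  exact (LinearMap.finrank_le_finrank_of_injective (f := hmap k f 0) hi :)

/-- Let k be an algebraically closed field of characteristic zero, S a smooth projective surface over k
(integral, smooth over k, of dimension two, with a closed immersion over k into some projective
space) and P an integral one-dimensional k-scheme locally of finite type (a curve, not necessarily
proper). Let 𝒜, 𝒜', 𝒜'' be coherent O-modules on S ×_k P, flat over P, with monomorphisms 𝒜' → 𝒜 and
𝒜' → 𝒜'' whose cokernels 𝒬 and 𝒬~ are flat over P, the fibres of 𝒬~ being supported in dimension at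
most zero (so they have constant length). For a k-point p of P write F_p for the pull-back of a
module F along the section S → S ×_k P at p (identity on S, p on the second factor), a module on S.
Suppose that at some k-point p₀ one has dim H^0(S, 𝒜'_{p₀}) = dim H^0(S, 𝒜_{p₀}) and dim H^1(S,
𝒜'_{p₀}) = dim H^1(S, 𝒜''_{p₀}), and that dim H^0(S, 𝒜''_p) ≥ dim H^0(S, 𝒜''_{p₀}) for every k-point
p. Then dim H^0(S, 𝒜_p) ≥ dim H^0(S, 𝒜_{p₀}) for every k-point p. (The published statement also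
assumes that the fibres 𝒜_p, 𝒜'_p, 𝒜''_p are rank-one torsion-free sheaves on curves C_p ⊆ S, using
this only to see that the fibrewise maps are injective; that follows here from the flatness of the
cokernels, so the assumption is not made.) -/
theorem result
    (k : Type u) [Field k] [IsAlgClosed k] [CharZero k]
    (S : Scheme.{u}) [S.Over (Spec (CommRingCat.of k))] [IsIntegral S]
    [Smooth (S ↘ Spec (CommRingCat.of k))] (hdim : topologicalKrullDim S = 2)
    [IsProper (S ↘ Spec (CommRingCat.of k))]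
    (hproj : ∃ (n : ℕ) (ι : S ⟶ CohB1.ProjSpace n k), IsClosedImmersion ι ∧
      ι ≫ CohB1.ProjSpace.toSpec n k = (S ↘ Spec (CommRingCat.of k)))
    (P : Scheme.{u}) (pP : P ⟶ Spec (CommRingCat.of k)) [IsIntegral P] [LocallyOfFiniteType pP]
    (hP : topologicalKrullDim P = 1)
    (𝒜 𝒜' 𝒜'' : (pullback (S ↘ Spec (CommRingCat.of k)) pP).Modules) (h𝒜 : Coh.IsCoh 𝒜) (h𝒜' : Coh.IsCoh 𝒜') (h𝒜'' : Coh.IsCoh 𝒜'')
    (hfl : FlatMod.IsFlatOver (pullback.snd (S ↘ Spec (CommRingCat.of k)) pP) 𝒜)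
    (hfl' : FlatMod.IsFlatOver (pullback.snd (S ↘ Spec (CommRingCat.of k)) pP) 𝒜')
    (hfl'' : FlatMod.IsFlatOver (pullback.snd (S ↘ Spec (CommRingCat.of k)) pP) 𝒜'')
    (α : 𝒜' ⟶ 𝒜) (β : 𝒜' ⟶ 𝒜'') [Mono α] [Mono β]
    (hQ : FlatMod.IsFlatOver (pullback.snd (S ↘ Spec (CommRingCat.of k)) pP) (cokernel α))
    (hQ' : FlatMod.IsFlatOver (pullback.snd (S ↘ Spec (CommRingCat.of k)) pP) (cokernel β))
    (hQ'0 : ∀ (t : Spec (CommRingCat.of k) ⟶ P) (_ : t ≫ pP = 𝟙 _)
      (s : S ⟶ pullback (S ↘ Spec (CommRingCat.of k)) pP) (_ : s ≫ pullback.fst (S ↘ Spec (CommRingCat.of k)) pP = 𝟙 S)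
      (_ : s ≫ pullback.snd (S ↘ Spec (CommRingCat.of k)) pP = (S ↘ Spec (CommRingCat.of k)) ≫ t),
      topologicalKrullDim (CohB1.support ((Scheme.Modules.pullback s).obj (cokernel β))) ≤ 0)
    (t₀ : Spec (CommRingCat.of k) ⟶ P) (ht₀ : t₀ ≫ pP = 𝟙 _)
    (s₀ : S ⟶ pullback (S ↘ Spec (CommRingCat.of k)) pP) (hs₀ : s₀ ≫ pullback.fst (S ↘ Spec (CommRingCat.of k)) pP = 𝟙 S)
    (hs₀' : s₀ ≫ pullback.snd (S ↘ Spec (CommRingCat.of k)) pP = (S ↘ Spec (CommRingCat.of k)) ≫ t₀)
    (h0 : Module.finrank k (Coh.HH S ((Scheme.Modules.pullback s₀).obj 𝒜') 0) =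
      Module.finrank k (Coh.HH S ((Scheme.Modules.pullback s₀).obj 𝒜) 0))
    (h1 : Module.finrank k (Coh.HH S ((Scheme.Modules.pullback s₀).obj 𝒜') 1) =
      Module.finrank k (Coh.HH S ((Scheme.Modules.pullback s₀).obj 𝒜'') 1))
    (hup : ∀ (t : Spec (CommRingCat.of k) ⟶ P) (_ : t ≫ pP = 𝟙 _)
      (s : S ⟶ pullback (S ↘ Spec (CommRingCat.of k)) pP) (_ : s ≫ pullback.fst (S ↘ Spec (CommRingCat.of k)) pP = 𝟙 S)
      (_ : s ≫ pullback.snd (S ↘ Spec (CommRingCat.of k)) pP = (S ↘ Spec (CommRingCat.of k)) ≫ t),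
      Module.finrank k (Coh.HH S ((Scheme.Modules.pullback s₀).obj 𝒜'') 0) ≤
        Module.finrank k (Coh.HH S ((Scheme.Modules.pullback s).obj 𝒜'') 0))
    (t : Spec (CommRingCat.of k) ⟶ P) (ht : t ≫ pP = 𝟙 _)
    (s : S ⟶ pullback (S ↘ Spec (CommRingCat.of k)) pP) (hs : s ≫ pullback.fst (S ↘ Spec (CommRingCat.of k)) pP = 𝟙 S)
    (hs' : s ≫ pullback.snd (S ↘ Spec (CommRingCat.of k)) pP = (S ↘ Spec (CommRingCat.of k)) ≫ t) :
    Module.finrank k (Coh.HH S ((Scheme.Modules.pullback s₀).obj 𝒜) 0) ≤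
      Module.finrank k (Coh.HH S ((Scheme.Modules.pullback s).obj 𝒜) 0) := by
  classical
  let str := S ↘ Spec (CommRingCat.of k)
  let X := pullback str pP
  let f : X ⟶ P := pullback.snd str pP
  haveI : IsNoetherian S := CohFound.isNoetherian_of_isProper str
  haveI : IsLocallyNoetherian P := LocallyOfFiniteType.isLocallyNoetherian pP
  haveI : IsProper f := inferInstanceAs (IsProper (pullback.snd str pP))
  haveI : IsLocallyNoetherian X := LocallyOfFiniteType.isLocallyNoetherian f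
  haveI : LocallyOfFinitePresentation f := LimH13.locallyOfFinitePresentation_of_noetherian f
  let Q := cokernel β
  have hQc : Coh.IsCoh Q := M1.isCoh_cokernel h𝒜'.1 h𝒜'' β
  have hQac : Coh.IsCoh (cokernel α) := M1.isCoh_cokernel h𝒜'.1 h𝒜 α
  have sq : ∀ (t : Spec (CommRingCat.of k) ⟶ P) (_ : t ≫ pP = 𝟙 _) (s : S ⟶ X)
      (_ : s ≫ pullback.fst str pP = 𝟙 S) (_ : s ≫ pullback.snd str pP = str ≫ t),
      IsPullback s str f t := by
    intro t ht s hs hs'
    refine IsPullback.of_right ?_ hs' (IsPullback.of_hasPullback str pP)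
    rw [hs, ht]
    exact IsPullback.of_horiz_isIso ⟨by simp [str]⟩
  have trSE : ∀ (B : X.Modules) (γ : 𝒜' ⟶ B) (_ : Mono γ) (_ : FlatMod.IsFlatOver f (cokernel γ))
      (t : Spec (CommRingCat.of k) ⟶ P) (ht : t ≫ pP = 𝟙 _) (s : S ⟶ X)
      (hs : s ≫ pullback.fst str pP = 𝟙 S) (hs' : s ≫ pullback.snd str pP = str ≫ t),
      ((ShortComplex.mk γ (cokernel.π γ) (cokernel.condition γ)).map (Scheme.Modules.pullback s)).ShortExact := by
    intro B γ hγ hfl t ht s hs hs'
    let T0 := ShortComplex.mk γ (cokernel.π γ) (cokernel.condition γ)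
    have hT0 : T0.ShortExact :=
      { exact := ShortComplex.exact_cokernel γ, mono_f := hγ, epi_g := inferInstanceAs (Epi (cokernel.π γ)) }
    haveI : Epi T0.g := hT0.epi_g
    exact { exact := hT0.exact.map_of_epi_of_preservesCokernel (Scheme.Modules.pullback s) inferInstance inferInstance
            mono_f := VecLift3.mono_pullback_of_relFlat (sq t ht s hs hs') hT0 hfl
            epi_g := inferInstanceAs (Epi ((Scheme.Modules.pullback s).map T0.g)) }
  have hvan : ∀ (t : Spec (CommRingCat.of k) ⟶ P) (ht : t ≫ pP = 𝟙 _) (s : S ⟶ X)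
      (hs : s ≫ pullback.fst str pP = 𝟙 S) (hs' : s ≫ pullback.snd str pP = str ≫ t) (n : ℕ), 0 < n →
      Subsingleton (Coh.HH S ((Scheme.Modules.pullback s).obj Q) n) := fun t ht s hs hs' n hn =>
    NumPoly18.subsingleton_HH_of_support (k := k) (M1.isCoh_pullback s hQc)
      (d := 0) (by exact_mod_cast hQ'0 t ht s hs hs') hn
  have heul : ∀ (t : Spec (CommRingCat.of k) ⟶ P) (ht : t ≫ pP = 𝟙 _) (s : S ⟶ X)
      (hs : s ≫ pullback.fst str pP = 𝟙 S) (hs' : s ≫ pullback.snd str pP = str ≫ t),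
      PerfAux.eulerChar f Q (t.base ⟨⊥, Ideal.isPrime_bot⟩) =
        (Module.finrank k (Coh.HH S ((Scheme.Modules.pullback s).obj Q) 0) : ℤ) := by
    intro t ht s hs hs'
    rw [NumPoly18.eulerChar_eq_euler f hQc hQ' s t (sq t ht s hs hs')]
    have h : EulerAdd18.Bdd k 1 ((Scheme.Modules.pullback s).obj Q) :=
      ⟨fun n => CohFound.finite_HH_of_isProper _ (M1.isCoh_pullback s hQc) n,
        fun n hn => hvan t ht s hs hs' n (by omega)⟩
    rw [h.euler_eq]
    simp
  have hconst := (FibEuler9.isLocallyConstant_eulerChar f Q (M1.isFP_of_isCoh hQc) hQ').apply_eq_of_preconnectedSpace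
    (t.base ⟨⊥, Ideal.isPrime_bot⟩) (t₀.base ⟨⊥, Ideal.isPrime_bot⟩)
  rw [heul t ht s hs hs', heul t₀ ht₀ s₀ hs₀ hs₀'] at hconst
  have e0 : Module.finrank k (Coh.HH S ((Scheme.Modules.pullback s₀).obj 𝒜'') 0) =
      Module.finrank k (Coh.HH S ((Scheme.Modules.pullback s₀).obj 𝒜') 0) +
        Module.finrank k (Coh.HH S ((Scheme.Modules.pullback s₀).obj (cokernel β)) 0) := h0_ses_eq' (k := k) ((Scheme.Modules.pullback s₀).map β) ((Scheme.Modules.pullback s₀).map (cokernel.π β)) _ (trSE 𝒜'' β inferInstance hQ' t₀ ht₀ s₀ hs₀ hs₀')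
    (M1.isCoh_pullback s₀ h𝒜') (M1.isCoh_pullback s₀ h𝒜'') (hvan t₀ ht₀ s₀ hs₀ hs₀' 1 one_pos) h1
  have e1 : Module.finrank k (Coh.HH S ((Scheme.Modules.pullback s).obj 𝒜'') 0) ≤
      Module.finrank k (Coh.HH S ((Scheme.Modules.pullback s).obj 𝒜') 0) +
        Module.finrank k (Coh.HH S ((Scheme.Modules.pullback s).obj (cokernel β)) 0) := h0_ses' (k := k) ((Scheme.Modules.pullback s).map β) ((Scheme.Modules.pullback s).map (cokernel.π β)) _ (trSE 𝒜'' β inferInstance hQ' t ht s hs hs')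
    (M1.isCoh_pullback s h𝒜'') (M1.isCoh_pullback s hQc)
  have e2 := hup t ht s hs hs'
  have e3 : Module.finrank k (Coh.HH S ((Scheme.Modules.pullback s).obj 𝒜') 0) ≤
      Module.finrank k (Coh.HH S ((Scheme.Modules.pullback s).obj 𝒜) 0) :=
    h0_ses_mono (k := k) ((Scheme.Modules.pullback s).map α) ((Scheme.Modules.pullback s).map (cokernel.π α)) _
      (trSE 𝒜 α inferInstance hQ t ht s hs hs') (M1.isCoh_pullback s h𝒜)
  have hc : Module.finrank k (Coh.HH S ((Scheme.Modules.pullback s).obj (cokernel β)) 0) =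
      Module.finrank k (Coh.HH S ((Scheme.Modules.pullback s₀).obj (cokernel β)) 0) := Int.ofNat.inj hconst
  exact h0.symm.le.trans ((Nat.le_of_add_le_add_right
    (e0.symm.le.trans (e2.trans (e1.trans (Nat.add_le_add_left hc.le _))))).trans e3)

end Groth.Agent.S15859
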