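import Groth.Statements.S15860
import Groth.Agent.Lib.PlaneOne10.Coh

set_option autoImplicit false
set_option maxHeartbeats 1000000
set_option linter.style.haveILetI false
set_option backward.isDefEq.respectTransparency false
set_option backward.isDefEq.respectTransparency.types false
open CategoryTheory CategoryTheory.Limits AlgebraicGeometry
open BlowUp

namespace Groth.Agent.S15860

/-- Case of a non-positive coefficient of the exceptional divisor. Let σ : X ⟶ P² be the blow-up of the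
complex projective plane at a closed point (universal property), I_E the ideal of the exceptional
curve and H = σ^*O(1). For an integer p and a natural number b write M = σ^*O(p) ⊗ I_E ^ b (the line
bundle pH − bE) and C(n,2) for the binomial coefficient, taken to be 0 when n < 2. Then the
dimensions h^i = dim H^i(X, M) are: if b ≤ p, h^0 = C(p+2,2) − C(b+1,2) and h^1 = h^2 = 0; if p = b
− 1, h^0 = h^1 = h^2 = 0; if p ≤ b − 2, h^0 = 0, h^1 = C(b+1,2) − C(p+2,2) and h^2 = C(−p−1,2). (The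
structure of scheme over C on X is the composite through σ.) -/
theorem result
    (x : ↥(CohB1.ProjSpace 2 ℂ)) (hx : IsClosed ({x} : Set ↥(CohB1.ProjSpace 2 ℂ)))
    {X : Scheme.{0}} [X.Over (Spec (CommRingCat.of ℂ))] (σ : X ⟶ CohB1.ProjSpace 2 ℂ)
    (hσk : σ ≫ CohB1.ProjSpace.toSpec 2 ℂ = X ↘ Spec (CommRingCat.of ℂ))
    (hσ : BlowUp.IsBlowUp σ (Scheme.IdealSheafData.vanishingIdeal ⟨{x}, hx⟩)) (p : ℤ) (b : ℕ) :
    ((b : ℤ) ≤ p →
      (Module.finrank ℂ (Coh.HH X (CohB1.tensorMod ((Scheme.Modules.pullback σ).obj (Twist.twistProjSpace 2 ℂ p))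
        (ClSub.idealMod ((BlowUp.exceptional σ (Scheme.IdealSheafData.vanishingIdeal ⟨{x}, hx⟩)) ^ b))) 0) : ℤ) = ((p + 2).toNat.choose 2 : ℤ) - ((b + 1).choose 2 : ℤ) ∧
      Module.finrank ℂ (Coh.HH X (CohB1.tensorMod ((Scheme.Modules.pullback σ).obj (Twist.twistProjSpace 2 ℂ p))
        (ClSub.idealMod ((BlowUp.exceptional σ (Scheme.IdealSheafData.vanishingIdeal ⟨{x}, hx⟩)) ^ b))) 1) = 0 ∧
      Module.finrank ℂ (Coh.HH X (CohB1.tensorMod ((Scheme.Modules.pullback σ).obj (Twist.twistProjSpace 2 ℂ p))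
        (ClSub.idealMod ((BlowUp.exceptional σ (Scheme.IdealSheafData.vanishingIdeal ⟨{x}, hx⟩)) ^ b))) 2) = 0) ∧
    (p = (b : ℤ) - 1 →
      Module.finrank ℂ (Coh.HH X (CohB1.tensorMod ((Scheme.Modules.pullback σ).obj (Twist.twistProjSpace 2 ℂ p))
        (ClSub.idealMod ((BlowUp.exceptional σ (Scheme.IdealSheafData.vanishingIdeal ⟨{x}, hx⟩)) ^ b))) 0) = 0 ∧
      Module.finrank ℂ (Coh.HH X (CohB1.tensorMod ((Scheme.Modules.pullback σ).obj (Twist.twistProjSpace 2 ℂ p))
        (ClSub.idealMod ((BlowUp.exceptional σ (Scheme.IdealSheafData.vanishingIdeal ⟨{x}, hx⟩)) ^ b))) 1) = 0 ∧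
      Module.finrank ℂ (Coh.HH X (CohB1.tensorMod ((Scheme.Modules.pullback σ).obj (Twist.twistProjSpace 2 ℂ p))
        (ClSub.idealMod ((BlowUp.exceptional σ (Scheme.IdealSheafData.vanishingIdeal ⟨{x}, hx⟩)) ^ b))) 2) = 0) ∧
    (p ≤ (b : ℤ) - 2 →
      Module.finrank ℂ (Coh.HH X (CohB1.tensorMod ((Scheme.Modules.pullback σ).obj (Twist.twistProjSpace 2 ℂ p))
        (ClSub.idealMod ((BlowUp.exceptional σ (Scheme.IdealSheafData.vanishingIdeal ⟨{x}, hx⟩)) ^ b))) 0) = 0 ∧
      (Module.finrank ℂ (Coh.HH X (CohB1.tensorMod ((Scheme.Modules.pullback σ).obj (Twist.twistProjSpace 2 ℂ p))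
        (ClSub.idealMod ((BlowUp.exceptional σ (Scheme.IdealSheafData.vanishingIdeal ⟨{x}, hx⟩)) ^ b))) 1) : ℤ) = ((b + 1).choose 2 : ℤ) - ((p + 2).toNat.choose 2 : ℤ) ∧
      Module.finrank ℂ (Coh.HH X (CohB1.tensorMod ((Scheme.Modules.pullback σ).obj (Twist.twistProjSpace 2 ℂ p))
        (ClSub.idealMod ((BlowUp.exceptional σ (Scheme.IdealSheafData.vanishingIdeal ⟨{x}, hx⟩)) ^ b))) 2) = (-p - 1).toNat.choose 2) := by
  obtain ⟨hi, hpr, hsm, hdim⟩ := Groth.Agent.PlaneOne10.setup hx σ hσk hσ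
  haveI := hi
  haveI := hpr
  haveI := hsm
  letI := M2.law X
  letI := M2.law (CohB1.ProjSpace 2 ℂ)
  have hA := Twist.isInvertible_pullback σ ((CMReg18.projData ℂ 2).inv p)
  have hBc := BlowUpExist.isEffCartierIdeal_pow hσ.1 b
  have hB := M2.isInvertible_idealMod _ hBc
  have hc : PicGrp.cls _ (M2.isInvertible_tensor hA hB) = PlaneOne10.pr hx σ hσ p b := by
    rw [← AlgEquiv22.cls_tensor hA hB, show PicGrp.cls _ hB = NumConn10.icl hσ.1 ^ b from BlowPic10.icl_pow hσ.1 b hBc,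
      PlaneOne10.pr, zpow_natCast]
    congr 1
    have := congrArg (PicGrp.pullHom σ (M2.pullMul σ)) (PlaneOne10.cls_twist (k := ℂ) p)
    rw [map_zpow, PicGrp.pullHom_cls, PicGrp.pullHom_cls] at this
    exact this
  have hf := fun q => (PlaneOne10.finrank_eq_hh (k := ℂ) hdim (M2.isInvertible_tensor hA hB) q).trans
    (congrArg (HypSq10.hh ℂ q) hc)
  erw [hf 0, hf 1, hf 2]
  have h2 := PlaneOne10.duality hx σ hσk hσ hdim p b (q := 2) le_rfl
  rw [show (2 - 2 : ℕ) = 0 from rfl, show -1 - (b : ℤ) = -((b + 1 : ℕ) : ℤ) by push_cast; ring,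
    PlaneOne10.hh0_neg hx σ hσk hσ hdim, show -3 - p + 2 = -p - 1 by ring] at h2
  obtain ⟨h0, h0'⟩ := PlaneOne10.hh0_pos hx σ hσk hσ hdim p b
  have hchi := PlaneOne10.chi_pr hx σ hσk hσ hdim p b
  rw [PlaneOne10.chi_eq hdim, h2] at hchi
  have hb := PlaneOne10.two_mul_choose_two (b + 1)
  push_cast at hb
  refine ⟨fun h => ?_, fun h => ?_, fun h => ?_⟩
  · have hp := PlaneOne10.two_mul_toNat_choose_two (m := p + 2) (by omega)
    have hz := PlaneOne10.toNat_choose_two_eq_zero (m := -p - 1) (by omega)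
    have h0 := h0 h
    rw [hz] at hchi h2
    refine ⟨by linarith, ?_, h2⟩
    push_cast at hchi
    have : ((HypSq10.hh ℂ 1 (PlaneOne10.pr hx σ hσ p b) : ℕ) : ℤ) = 0 := by linarith
    exact_mod_cast this
  · subst h
    have h0 := h0' (by omega)
    have hz := PlaneOne10.toNat_choose_two_eq_zero (m := -((b : ℤ) - 1) - 1) (by omega)
    rw [hz] at hchi h2
    rw [h0] at hchi
    refine ⟨h0, ?_, h2⟩
    push_cast at hchi
    have : ((HypSq10.hh ℂ 1 (PlaneOne10.pr hx σ hσ ((b : ℤ) - 1) b) : ℕ) : ℤ) = 0 := by linarith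
    exact_mod_cast this
  · have h0 := h0' (by omega)
    refine ⟨h0, ?_, h2⟩
    rw [h0] at hchi
    push_cast at hchi
    by_cases hq : 0 ≤ p + 2
    · have hp := PlaneOne10.two_mul_toNat_choose_two (m := p + 2) hq
      by_cases hq' : 0 ≤ -p - 1
      · have hn := PlaneOne10.two_mul_toNat_choose_two (m := -p - 1) hq'
        have : p = -1 ∨ p = -2 := by omega
        rcases this with rfl | rfl <;> linarith
      · rw [PlaneOne10.toNat_choose_two_eq_zero (m := -p - 1) (by omega)] at hchi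
        push_cast at hchi
        linarith
    · rw [PlaneOne10.toNat_choose_two_eq_zero (m := p + 2) (by omega)]
      have hn := PlaneOne10.two_mul_toNat_choose_two (m := -p - 1) (by omega)
      push_cast
      linarith

end Groth.Agent.S15860
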