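import Groth.Statements.S15861
import Groth.Agent.Lib.PlaneOne10.Coh

set_option autoImplicit false
set_option maxHeartbeats 1000000
set_option linter.style.haveILetI false
set_option backward.isDefEq.respectTransparency false
set_option backward.isDefEq.respectTransparency.types false
open CategoryTheory CategoryTheory.Limits AlgebraicGeometry
open BlowUp

namespace Groth.Agent.S15861

/-- Case of a non-negative coefficient of the exceptional divisor. Let σ : X ⟶ P² be the blow-up of the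
complex projective plane at a closed point (universal property), I_E the ideal of the exceptional
curve, H = σ^*O(1), and L an O_X-module with L ⊗ I_E ≅ O_X (L is O_X(E)). For an integer p and a
natural number b write M = σ^*O(p) ⊗ L^{⊗b} (the line bundle pH + bE) and C(n,2) for the binomial
coefficient, taken to be 0 when n < 2. Then the dimensions h^i = dim H^i(X, M) are: if p + b ≥ 0,
h^0 = C(p+2,2), h^1 = C(b,2) − C(−p−1,2) and h^2 = 0; if p + b = −1, h^0 = h^1 = h^2 = 0; if p + b ≤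
−2, h^0 = h^1 = 0 and h^2 = C(−p−1,2) − C(b,2). (The structure of scheme over C on X is the
composite through σ.) -/
theorem result
    (x : ↥(CohB1.ProjSpace 2 ℂ)) (hx : IsClosed ({x} : Set ↥(CohB1.ProjSpace 2 ℂ)))
    {X : Scheme.{0}} [X.Over (Spec (CommRingCat.of ℂ))] (σ : X ⟶ CohB1.ProjSpace 2 ℂ)
    (hσk : σ ≫ CohB1.ProjSpace.toSpec 2 ℂ = X ↘ Spec (CommRingCat.of ℂ))
    (hσ : BlowUp.IsBlowUp σ (Scheme.IdealSheafData.vanishingIdeal ⟨{x}, hx⟩))
    (L : X.Modules) (hL : ClSub.IsInverseOf L (ClSub.idealMod (BlowUp.exceptional σ (Scheme.IdealSheafData.vanishingIdeal ⟨{x}, hx⟩))))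
    (p : ℤ) (b : ℕ) :
    (0 ≤ p + b →
      Module.finrank ℂ (Coh.HH X (CohB1.tensorMod ((Scheme.Modules.pullback σ).obj (Twist.twistProjSpace 2 ℂ p)) (CohB1.tensorPow L b)) 0) = (p + 2).toNat.choose 2 ∧
      (Module.finrank ℂ (Coh.HH X (CohB1.tensorMod ((Scheme.Modules.pullback σ).obj (Twist.twistProjSpace 2 ℂ p)) (CohB1.tensorPow L b)) 1) : ℤ) = (b.choose 2 : ℤ) - ((-p - 1).toNat.choose 2 : ℤ) ∧
      Module.finrank ℂ (Coh.HH X (CohB1.tensorMod ((Scheme.Modules.pullback σ).obj (Twist.twistProjSpace 2 ℂ p)) (CohB1.tensorPow L b)) 2) = 0) ∧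
    (p + b = -1 →
      Module.finrank ℂ (Coh.HH X (CohB1.tensorMod ((Scheme.Modules.pullback σ).obj (Twist.twistProjSpace 2 ℂ p)) (CohB1.tensorPow L b)) 0) = 0 ∧
      Module.finrank ℂ (Coh.HH X (CohB1.tensorMod ((Scheme.Modules.pullback σ).obj (Twist.twistProjSpace 2 ℂ p)) (CohB1.tensorPow L b)) 1) = 0 ∧
      Module.finrank ℂ (Coh.HH X (CohB1.tensorMod ((Scheme.Modules.pullback σ).obj (Twist.twistProjSpace 2 ℂ p)) (CohB1.tensorPow L b)) 2) = 0) ∧
    (p + b ≤ -2 →
      Module.finrank ℂ (Coh.HH X (CohB1.tensorMod ((Scheme.Modules.pullback σ).obj (Twist.twistProjSpace 2 ℂ p)) (CohB1.tensorPow L b)) 0) = 0 ∧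
      Module.finrank ℂ (Coh.HH X (CohB1.tensorMod ((Scheme.Modules.pullback σ).obj (Twist.twistProjSpace 2 ℂ p)) (CohB1.tensorPow L b)) 1) = 0 ∧
      (Module.finrank ℂ (Coh.HH X (CohB1.tensorMod ((Scheme.Modules.pullback σ).obj (Twist.twistProjSpace 2 ℂ p)) (CohB1.tensorPow L b)) 2) : ℤ) = ((-p - 1).toNat.choose 2 : ℤ) - (b.choose 2 : ℤ)) := by
  obtain ⟨hi, hpr, hsm, hdim⟩ := Groth.Agent.PlaneOne10.setup hx σ hσk hσ
  haveI := hi
  haveI := hpr
  haveI := hsm
  letI := M2.law X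
  letI := M2.law (CohB1.ProjSpace 2 ℂ)
  have hA := Twist.isInvertible_pullback σ ((CMReg18.projData ℂ 2).inv p)
  obtain ⟨eL⟩ := hL
  have hEi := M2.isInvertible_idealMod _ hσ.1
  have hLi : PicF.IsInvertible L := M2.isInvertible_of_tensor_iso_unit L _ eL
  have hLc : PicGrp.cls L hLi = (NumConn10.icl hσ.1)⁻¹ :=
    (PicGrp.cls_inv_eq_cls hEi hLi ⟨M2.tensorComm _ _ ≪≫ eL⟩).symm
  have hB := M2.isInvertible_tensorPow hLi b
  have hc : PicGrp.cls _ (M2.isInvertible_tensor hA hB) = PlaneOne10.pr hx σ hσ p (-(b : ℤ)) := by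
    rw [← AlgEquiv22.cls_tensor hA hB, HypSq10.cls_pow_eq hLi, hLc, PlaneOne10.pr, zpow_neg, zpow_natCast, inv_pow]
    congr 1
    have := congrArg (PicGrp.pullHom σ (M2.pullMul σ)) (PlaneOne10.cls_twist (k := ℂ) p)
    rw [map_zpow, PicGrp.pullHom_cls, PicGrp.pullHom_cls] at this
    exact this
  have hf := fun q => (PlaneOne10.finrank_eq_hh (k := ℂ) hdim (M2.isInvertible_tensor hA hB) q).trans
    (congrArg (HypSq10.hh ℂ q) hc)
  erw [hf 0, hf 1, hf 2]
  have h0 := PlaneOne10.hh0_neg hx σ hσk hσ hdim p b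
  have h2 := PlaneOne10.duality hx σ hσk hσ hdim p (-(b : ℤ)) (q := 2) le_rfl
  rw [show (2 - 2 : ℕ) = 0 from rfl] at h2
  have hchi := PlaneOne10.chi_pr hx σ hσk hσ hdim p (-(b : ℤ))
  rw [PlaneOne10.chi_eq hdim, h0] at hchi
  push_cast at hchi
  have hb := PlaneOne10.two_mul_choose_two b
  -- the second cohomology
  have key : (p + b + 2 ≤ 0 → 2 * (HypSq10.hh ℂ 2 (PlaneOne10.pr hx σ hσ p (-(b : ℤ))) : ℤ) =
        (-p - 1) * (-p - 2) - (b : ℤ) * ((b : ℤ) - 1)) ∧
      (0 < p + b + 2 → HypSq10.hh ℂ 2 (PlaneOne10.pr hx σ hσ p (-(b : ℤ))) = 0) := by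
    rcases Nat.eq_zero_or_pos b with hb0 | hb0
    · subst hb0
      have h := PlaneOne10.hh0_neg hx σ hσk hσ hdim (-3 - p) 1
      rw [show -((1 : ℕ) : ℤ) = -1 - -((0 : ℕ) : ℤ) by norm_num, ← h2, show -3 - p + 2 = -p - 1 by ring] at h
      refine ⟨fun hh => ?_, fun hh => h.trans (PlaneOne10.toNat_choose_two_eq_zero (by omega))⟩
      rw [h, PlaneOne10.two_mul_toNat_choose_two (by omega)]
      push_cast
      ring
    · obtain ⟨c, rfl⟩ : ∃ c, b = c + 1 := ⟨b - 1, by omega⟩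
      obtain ⟨hp1, hp2⟩ := PlaneOne10.hh0_pos hx σ hσk hσ hdim (-3 - p) c
      rw [show ((c : ℕ) : ℤ) = -1 - -((c + 1 : ℕ) : ℤ) by push_cast; ring] at hp1 hp2
      rw [← h2] at hp1 hp2
      refine ⟨fun hh => ?_, fun hh => hp2 (by push_cast at hh ⊢; omega)⟩
      have := hp1 (by push_cast at hh ⊢; omega)
      push_cast at this ⊢
      linarith
  refine ⟨fun h => ?_, fun h => ?_, fun h => ?_⟩
  · have hz := key.2 (by omega)
    refine ⟨h0, ?_, hz⟩
    rw [hz] at hchi
    push_cast at hchi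
    by_cases hq : 0 ≤ p + 2
    · have hp := PlaneOne10.two_mul_toNat_choose_two (m := p + 2) hq
      by_cases hq' : 0 ≤ -p - 1
      · have hn := PlaneOne10.two_mul_toNat_choose_two (m := -p - 1) hq'
        have : p = -1 ∨ p = -2 := by omega
        rcases this with rfl | rfl <;> linarith
      · rw [PlaneOne10.toNat_choose_two_eq_zero (m := -p - 1) (by omega)]
        push_cast
        linarith
    · rw [PlaneOne10.toNat_choose_two_eq_zero (m := p + 2) (by omega)] at hchi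
      have hn := PlaneOne10.two_mul_toNat_choose_two (m := -p - 1) (by omega)
      push_cast at hchi
      linarith
  · have hz := key.2 (by omega)
    have hG := PlaneOne10.toNat_choose_two_eq_zero (m := p + 2) (by omega)
    rw [hG] at hchi
    rw [hz] at hchi
    refine ⟨h0.trans hG, ?_, hz⟩
    push_cast at hchi
    obtain rfl : p = -1 - (b : ℤ) := by omega
    have : ((HypSq10.hh ℂ 1 (PlaneOne10.pr hx σ hσ (-1 - (b : ℤ)) (-(b : ℤ))) : ℕ) : ℤ) = 0 := by linarith
    exact_mod_cast this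
  · have hz := key.1 (by omega)
    have hG := PlaneOne10.toNat_choose_two_eq_zero (m := p + 2) (by omega)
    rw [hG] at hchi
    push_cast at hchi
    have hn := PlaneOne10.two_mul_toNat_choose_two (m := -p - 1) (by omega)
    refine ⟨h0.trans hG, ?_, by linarith⟩
    have : ((HypSq10.hh ℂ 1 (PlaneOne10.pr hx σ hσ p (-(b : ℤ))) : ℕ) : ℤ) = 0 := by linarith
    exact_mod_cast this

end Groth.Agent.S15861
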