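import Groth.Statements.S15866
import Groth.Agent.Lib.MultDeg12.Deg
-- import your own Groth.Agent.* helpers here

set_option autoImplicit false
set_option backward.isDefEq.respectTransparency false
set_option backward.isDefEq.respectTransparency.types false
open CategoryTheory CategoryTheory.Limits AlgebraicGeometry
open SurfBl Groth.Agent

namespace Groth.Agent.S15866

/-- Let S be a smooth projective surface over the complex numbers (integral, smooth of relative
dimension 2 over C) with a closed immersion ι over C into some projective space P^n, H = ι^*O(1) the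
very ample invertible module, C ⊆ S an integral curve (an integral closed subscheme of dimension
one, closed immersion j over C), P a closed point of S with ideal m_P, and m a natural number such
that the ideal of C is contained in m_P^m, i.e. C has multiplicity at least m at P. Then H·C ≥ m,
where H·C is the degree of H|_C on C, written χ(C, j^*H) − χ(C, O_C). (The published statement is
for a curve C ⊆ S; this row takes C integral.) -/
theorem result
    (S : Scheme.{0}) [S.Over (Spec (CommRingCat.of ℂ))] [IsIntegral S]
    [SmoothOfRelativeDimension 2 (S ↘ Spec (CommRingCat.of ℂ))]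
    (n : ℕ) (ι : S ⟶ CohB1.ProjSpace n ℂ) [IsClosedImmersion ι]
    (hι : ι ≫ CohB1.ProjSpace.toSpec n ℂ = S ↘ Spec (CommRingCat.of ℂ))
    (C : Scheme.{0}) [C.Over (Spec (CommRingCat.of ℂ))] [IsIntegral C] (hdimC : topologicalKrullDim ↥C = 1)
    (j : C ⟶ S) [IsClosedImmersion j] (hj : j ≫ (S ↘ Spec (CommRingCat.of ℂ)) = C ↘ Spec (CommRingCat.of ℂ))
    (P : ↥S) (hP : IsClosed ({P} : Set ↥S)) (m : ℕ)
    (hm : j.ker ≤ Scheme.IdealSheafData.vanishingIdeal ⟨{P}, hP⟩ ^ m) :
    (m : ℤ) ≤ Curv2.deg ℂ C ((Scheme.Modules.pullback j).obj
      ((Scheme.Modules.pullback ι).obj (Twist.twistProjSpace n ℂ 1))) 1 := by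
  exact MultDeg12.mult_le_deg S n ι hι C hdimC j hj P hP m hm

end Groth.Agent.S15866
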