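import Groth.Statements.S15870
import Groth.Agent.Lib.TrivFinite25.Main
-- import your own Groth.Agent.* helpers here

set_option autoImplicit false
universe u
open CategoryTheory MonoidalCategory CartesianMonoidalCategory MonObj GrpObj AlgebraicGeometry
open NonAbH1

namespace Groth.Agent.S15870

/-- Let π : S' → S be finite locally free (finite, flat, locally of finite presentation), G a smooth
S'-group scheme and E an fppf G-torsor over S'. Then E trivializes fppf locally on S: some fppf
covering family of S consists of morphisms U → S such that E has a section over U ×_S S' → S'. (The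
published statement is for a variable S-scheme T, torsors over S' ×_S T and G a group algebraic
space; this row is the case T = S with G a scheme, to which the general case reduces by base change
of π.) -/
theorem result
    {S S' : Scheme.{u}} (π : S' ⟶ S) [IsFinite π] [Flat π] [LocallyOfFinitePresentation π]
    (G : Over S') [GrpObj G] [Smooth G.hom]
    (E : NonAbH1.TorsorSch G Scheme.fppfPrecoverage) :
    ∃ R ∈ Scheme.fppfPrecoverage S, ∀ ⦃U : Scheme.{u}⦄ (g : U ⟶ S), R g →
      NonAbH1.HasSectionOver E.X (Limits.pullback.snd g π) := by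
  obtain ⟨R, hR, hsec⟩ := E.isTorsor.2
  haveI : Smooth E.X.hom := Groth.Agent.TorsorSch25.prop_of_isTorsorFor @Smooth
    ⟨E.isTorsor.1, R, Scheme.fppfPrecoverage_le_fpqcPrecoverage _ hR, hsec⟩ inferInstance
  haveI : Surjective E.X.hom := ⟨fun x => by
    obtain ⟨⟨T, f⟩, hf⟩ : ∃ q : Σ T : Scheme.{u}, T ⟶ S', R q.2 ∧ x ∈ Set.range q.2 := by
      rw [← Presieve.ofArrows_category R] at hR
      obtain ⟨hcov, -⟩ := (Scheme.ofArrows_mem_precoverage_iff _).1 hR
      obtain ⟨i, hi⟩ := hcov x
      exact ⟨⟨_, i.obj.hom⟩, i.property, hi⟩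
    obtain ⟨s, hs⟩ := hsec f hf.1
    obtain ⟨t, ht⟩ := hf.2
    exact ⟨s t, by rw [← Scheme.Hom.comp_apply, hs, ht]⟩⟩
  obtain ⟨U, g, hg, hcov, hσ⟩ := Groth.Agent.TrivFinite25.exists_cover π E.X.hom
  haveI := hg
  refine ⟨Presieve.ofArrows U g, (Scheme.ofArrows_mem_precoverage_iff _).2
    ⟨fun s => ⟨s, hcov s⟩, fun s => ⟨inferInstance, inferInstance⟩⟩, ?_⟩
  rintro V h ⟨s⟩
  exact hσ s
end Groth.Agent.S15870
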