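import Groth.Statements.S15873
import Groth.Agent.Lib.FEtLimit25.EtaleTorsor

set_option autoImplicit false
universe u
open CategoryTheory MonoidalCategory CartesianMonoidalCategory MonObj GrpObj AlgebraicGeometry
open NonAbH1


namespace Groth.Agent.S15873

/-- Let G be an étale k-group scheme, S a normal integral k-scheme with generic point η and E an fppf
torsor over S under G. Then every point of E over S with values in Spec κ(η) extends to a unique
section of E over S: E(S) → E(κ(η)) is bijective. (The published statement takes S merely integral;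
for the nodal cubic over an algebraically closed field and the connected étale double cover, a
torsor under the constant group of order 2, the generic fibre has rational points while there is no
section, and the published proof extends generic points of finite étale schemes, which requires
normality, so S is taken normal here.) -/
theorem result (k : Type u) [Field k]
    (G : Over (Spec (CommRingCat.of k))) [GrpObj G] [Etale G.hom]
    (S : Scheme.{u}) [IsIntegral S] (hS : Pi1.IsNormalScheme S) (s : S ⟶ Spec (CommRingCat.of k))
    (E : NonAbH1.TorsorSch (Red.bc s G) Scheme.fppfPrecoverage) :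
    (∀ σ₁ σ₂ : S ⟶ E.X.left, σ₁ ≫ E.X.hom = 𝟙 S → σ₂ ≫ E.X.hom = 𝟙 S →
        S.fromSpecResidueField (genericPoint S) ≫ σ₁ = S.fromSpecResidueField (genericPoint S) ≫ σ₂ → σ₁ = σ₂) ∧
    (∀ x : Spec (S.residueField (genericPoint S)) ⟶ E.X.left,
        x ≫ E.X.hom = S.fromSpecResidueField (genericPoint S) →
        ∃ σ : S ⟶ E.X.left, σ ≫ E.X.hom = 𝟙 S ∧ S.fromSpecResidueField (genericPoint S) ≫ σ = x) := by
  refine ⟨fun σ₁ σ₂ h₁ h₂ he => ?_, FEtLimit25.exists_torsor_section E hS⟩
  haveI := FEtLimit25.etale_torsor E
  haveI := FEtLimit25.isSeparated_torsor E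
  let d := Limits.pullback.diagonal E.X.hom
  haveI : IsOpenImmersion d := inferInstance
  let l : S ⟶ Limits.pullback E.X.hom E.X.hom := Limits.pullback.lift σ₁ σ₂ (h₁.trans h₂.symm)
  let q := Limits.pullback.snd d l
  haveI : IsOpenImmersion q := MorphismProperty.pullback_snd _ _ inferInstance
  haveI : IsClosedImmersion q := MorphismProperty.pullback_snd _ _ inferInstance
  let jj := S.fromSpecResidueField (genericPoint S)
  let pt : ↥(Spec (S.residueField (genericPoint S))) := IsLocalRing.closedPoint _
  have hη : (jj ≫ σ₁) ≫ d = jj ≫ l := by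
    apply Limits.pullback.hom_ext
    · simp only [Category.assoc, d, l, Limits.pullback.lift_fst, Limits.pullback.diagonal_fst, Category.comp_id]
    · simp only [Category.assoc, d, l, Limits.pullback.lift_snd, Limits.pullback.diagonal_snd, Category.comp_id]
      exact he
  haveI : Surjective q := ⟨fun y => Set.eq_univ_iff_forall.1 (IsClopen.eq_univ
    ⟨q.isClosedEmbedding.isClosed_range, q.isOpenEmbedding.isOpen_range⟩
    ⟨jj pt, (Limits.pullback.lift (jj ≫ σ₁) jj hη) pt, by rw [← Scheme.Hom.comp_apply, Limits.pullback.lift_snd]⟩) y⟩
  haveI : IsIso q := (isIso_iff_isOpenImmersion_and_surjective _).2 ⟨inferInstance, inferInstance⟩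
  have hl : (inv q ≫ Limits.pullback.fst d l) ≫ d = l := by
    rw [Category.assoc, Limits.pullback.condition, IsIso.inv_hom_id_assoc]
  have e1 := congrArg (· ≫ Limits.pullback.fst E.X.hom E.X.hom) hl
  have e2 := congrArg (· ≫ Limits.pullback.snd E.X.hom E.X.hom) hl
  simp only [Category.assoc, d, l, Limits.pullback.diagonal_fst, Limits.pullback.diagonal_snd, Category.comp_id,
    Limits.pullback.lift_fst, Limits.pullback.lift_snd] at e1 e2
  exact e1.symm.trans e2

end Groth.Agent.S15873
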