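import Groth.Statements.S15874
import Groth.Agent.Lib.FEtLimit25.EtaleTorsor

set_option autoImplicit false
universe u
open CategoryTheory MonoidalCategory CartesianMonoidalCategory MonObj GrpObj AlgebraicGeometry
open NonAbH1

namespace Groth.Agent.S15874

/-- Let G be an étale k-group scheme and S a normal integral k-scheme with generic point η. Then an fppf
torsor over S under G whose base change to Spec κ(η) is trivial is itself trivial: the kernel of
H¹(S, G) → H¹(κ(η), G) on classes of torsors that are schemes is the base point. (The published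
statement takes S merely integral; the connected étale double cover of a nodal cubic over an
algebraically closed field is a non-trivial torsor under the constant group of order 2 that is
trivial at the generic point, so S is taken normal here, which is what the published proof uses.) -/
theorem result (k : Type u) [Field k]
    (G : Over (Spec (CommRingCat.of k))) [GrpObj G] [Etale G.hom]
    (S : Scheme.{u}) [IsIntegral S] (hS : Pi1.IsNormalScheme S) (s : S ⟶ Spec (CommRingCat.of k))
    (c : NonAbH1.H1Sch (Red.bc s G) Scheme.fppfPrecoverage)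
    (hc : NonAbH1.H1Sch.bcMap (S.fromSpecResidueField (genericPoint S)) (Red.bc s G) Scheme.fppfPrecoverage c = 1) :
    c = 1 := by
  obtain ⟨P, rfl⟩ := Quot.exists_rep c
  let jj := S.fromSpecResidueField (genericPoint S)
  let Φ : NonAbH1.H1Sch (Red.bc jj (Red.bc s G)) Scheme.fppfPrecoverage → Prop :=
    Quot.lift (fun Q => Nonempty (MonoidalCategoryStruct.tensorUnit (Over (Spec (S.residueField (genericPoint S)))) ⟶ Q.X))
      (fun Q Q' ⟨e⟩ => propext ⟨fun ⟨p⟩ => ⟨p ≫ e.iso.hom⟩, fun ⟨p⟩ => ⟨p ≫ e.iso.inv⟩⟩)
  have h1 : Φ 1 := ⟨MonObj.one⟩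
  rw [← hc] at h1
  obtain ⟨p⟩ : Nonempty (MonoidalCategoryStruct.tensorUnit (Over (Spec (S.residueField (genericPoint S)))) ⟶ Red.bc jj P.X) := h1
  let x : Spec (S.residueField (genericPoint S)) ⟶ P.X.left := p.left ≫ Limits.pullback.fst P.X.hom jj
  have hx : x ≫ P.X.hom = jj := by
    rw [Category.assoc, Limits.pullback.condition, ← Category.assoc]
    exact (congrArg (· ≫ jj) (Over.w p)).trans (Category.id_comp jj)
  obtain ⟨σ, hσ, -⟩ := FEtLimit25.exists_torsor_section P hS x hx
  obtain ⟨e, -⟩ := TorsorSch25.exists_equivIso P.isTorsor.1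
    (Over.homMk σ hσ : MonoidalCategoryStruct.tensorUnit (Over S) ⟶ P.X)
  exact (Quot.sound ⟨e⟩).symm

end Groth.Agent.S15874
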