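import Groth.Statements.S15875
import Groth.Agent.Lib.AbRigid.Maximal
import Mathlib.AlgebraicGeometry.Morphisms.UniversallyOpen
import Mathlib.AlgebraicGeometry.Morphisms.FlatMono
-- import your own Groth.Agent.* helpers here

set_option autoImplicit false
universe u
open CategoryTheory MonoidalCategory CartesianMonoidalCategory MonObj GrpObj AlgebraicGeometry
open AGF

namespace Groth.Agent.S15875

open CategoryTheory.Limits Opposite

/-- A flat surjective homomorphism of groups locally of finite type with quasi-compact kernel is quasi-compact. -/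
theorem quasiCompact_of_kernel {k : Type u} [Field k] {G H : Over (Spec (CommRingCat.of k))} [GrpObj G] [GrpObj H]
    [LocallyOfFiniteType G.hom] [LocallyOfFiniteType H.hom] (q : G ⟶ H) [IsMonHom q] [Surjective q.left] [Flat q.left]
    {N : Over (Spec (CommRingCat.of k))} {iN : N ⟶ G} (hN : AlgGrp.IsKernel iN q) [CompactSpace N.left] :
    QuasiCompact q.left := by
  have : LocallyOfFiniteType q.left := by
    have : LocallyOfFiniteType (q.left ≫ H.hom) := by rw [Over.w]; infer_instance
    exact locallyOfFiniteType_of_comp q.left H.hom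
  have : IsLocallyNoetherian H.left := LocallyOfFiniteType.isLocallyNoetherian H.hom
  have : LocallyOfFinitePresentation q.left := inferInstance
  have hopen : IsOpenMap q.left := q.left.isOpenMap
  refine quasiCompact_iff_forall_isAffineOpen.mpr fun V hV => ?_
  -- a compact open subset of the preimage mapping onto `V`
  obtain ⟨t, ht⟩ := hV.isCompact.elim_finite_subcover
    (fun U : {U : G.left.Opens // IsAffineOpen U ∧ U ≤ q.left ⁻¹ᵁ V} => q.left '' (U.1 : Set G.left))
    (fun U => hopen _ U.1.2) fun v hv => by
      obtain ⟨g, rfl⟩ := q.left.surjective v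
      obtain ⟨U, hU, hgU, hUV⟩ := exists_isAffineOpen_mem_and_subset (X := G.left) (x := g) (U := q.left ⁻¹ᵁ V) hv
      exact Set.mem_iUnion.mpr ⟨⟨U, hU, hUV⟩, g, hgU, rfl⟩
  let W : G.left.Opens := ⨆ U ∈ t, U.1
  have hW : IsCompact (W : Set G.left) := by
    simp only [W, TopologicalSpace.Opens.coe_iSup]
    exact t.isCompact_biUnion fun U _ => U.2.1.isCompact
  have hWV : W ≤ q.left ⁻¹ᵁ V := iSup₂_le fun U _ => U.2.2
  have hVW : ∀ v ∈ V, ∃ w : (W : Scheme.{u}), q.left (W.ι w) = v := fun v hv => by
    obtain ⟨U, hUt, w, hw, rfl⟩ : ∃ U ∈ t, v ∈ q.left '' (U.1 : Set G.left) := by simpa using ht hv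
    exact ⟨⟨w, TopologicalSpace.Opens.mem_iSup.mpr ⟨U, TopologicalSpace.Opens.mem_iSup.mpr ⟨hUt, hw⟩⟩⟩, rfl⟩
  let Wo : Over (Spec (CommRingCat.of k)) := Over.mk (W.ι ≫ G.hom)
  let wι : Wo ⟶ G := Over.homMk W.ι rfl
  let m : Wo ⊗ N ⟶ G := (fst Wo N ≫ wι) * (snd Wo N ≫ iN)
  have hKq : iN ≫ q = 1 := by rw [Hom.one_def]; exact hN.w
  have hm : m ≫ q = fst Wo N ≫ wι ≫ q := by
    rw [MonObj.mul_comp, Category.assoc, Category.assoc, hKq, MonObj.comp_one, _root_.mul_one]
  have : CompactSpace (W : Scheme.{u}) := isCompact_iff_compactSpace.mp hW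
  have : QuasiCompact N.hom := (quasiCompact_iff_compactSpace _).mpr inferInstance
  have : QuasiCompact (pullback.fst Wo.hom N.hom) := inferInstance
  have : CompactSpace ↥(pullback Wo.hom N.hom) := by
    have : CompactSpace Wo.left := ‹CompactSpace (W : Scheme.{u})›
    exact QuasiCompact.compactSpace_of_compactSpace (pullback.fst Wo.hom N.hom)
  suffices h : Set.range m.left = q.left ⁻¹' (V : Set H.left) by
    change IsCompact (q.left ⁻¹' (V : Set H.left))
    rw [← h]
    have : CompactSpace ↥(Wo ⊗ N).left := ‹CompactSpace ↥(pullback Wo.hom N.hom)›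
    exact isCompact_range (X := (Wo ⊗ N).left) m.left.continuous
  refine Set.Subset.antisymm ?_ fun g hg => ?_
  · rintro _ ⟨z, rfl⟩
    have h := congrArg (fun e : Wo ⊗ N ⟶ H => e.left z) hm
    change q.left (m.left z) ∈ V
    rw [show q.left (m.left z) = q.left (W.ι ((fst Wo N).left z)) from h]
    exact hWV ((fst Wo N).left z).2
  · obtain ⟨w, hw⟩ := hVW _ hg
    obtain ⟨z, hz₁, hz₂⟩ := Scheme.Pullback.exists_preimage_pullback (f := W.ι ≫ q.left) (g := q.left) w g hw
    let P : Over (Spec (CommRingCat.of k)) := Over.mk (pullback.fst (W.ι ≫ q.left) q.left ≫ Wo.hom)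
    let a : P ⟶ Wo := Over.homMk (pullback.fst _ _) rfl
    let b : P ⟶ G := Over.homMk (pullback.snd _ _) (by
      change _ = pullback.fst _ _ ≫ W.ι ≫ G.hom
      rw [← Over.w q, ← Category.assoc, ← pullback.condition]
      simp)
    have hab : (a ≫ wι) ≫ q = b ≫ q := by
      ext : 1
      change (pullback.fst _ _ ≫ W.ι) ≫ q.left = pullback.snd _ _ ≫ q.left
      rw [Category.assoc, pullback.condition]
    obtain ⟨n, hn⟩ : ∃ n : P ⟶ N, n ≫ iN = (a ≫ wι)⁻¹ * b := by
      refine ⟨hN.lift ((a ≫ wι)⁻¹ * b) (toUnit _) ?_, hN.lift_fst _ _ _⟩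
      rw [MonObj.mul_comp, GrpObj.inv_comp, hab, inv_mul_cancel, Hom.one_def]
    refine ⟨(lift a n).left z, ?_⟩
    have hb : lift a n ≫ m = b := by
      rw [MonObj.comp_mul, lift_fst_assoc, lift_snd_assoc, hn, mul_inv_cancel_left]
    exact (congrArg (fun e : P ⟶ G => e.left z) hb).trans hz₂

/-- Let k'/k be a finite purely inseparable field extension, G a k-group locally of finite type, q :
G_{k'} → Ḡ a faithfully flat homomorphism onto a k'-group Ḡ locally of finite type with
quasi-compact kernel N, and (R, q_R) a Weil restriction of Ḡ to k carrying a group structure for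
which q_R is a homomorphism. Then the comparison morphism i : G → R corresponding to q is
quasi-compact. (The published statement allows any finite extension k'/k and adds that the kernel of
i is quasi-compact as well; the published proof goes through the purely inseparable case of the
kernel of the counit of Weil restriction, so k'/k is taken purely inseparable here.) -/
theorem result (k k' : Type u) [Field k] [Field k'] [Algebra k k']
    [Module.Finite k k'] [IsPurelyInseparable k k']
    (G : Over (Spec (CommRingCat.of k))) [GrpObj G] [LocallyOfFiniteType G.hom]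
    (Gbar : Over (Spec (CommRingCat.of k'))) [GrpObj Gbar] [LocallyOfFiniteType Gbar.hom]
    (q : Red.bc (Spec.map (CommRingCat.ofHom (algebraMap k k'))) G ⟶ Gbar) [IsMonHom q] [Surjective q.left] [Flat q.left]
    (N : Over (Spec (CommRingCat.of k'))) (iN : N ⟶ Red.bc (Spec.map (CommRingCat.ofHom (algebraMap k k'))) G) (hN : AlgGrp.IsKernel iN q) [CompactSpace N.left]
    (R : Over (Spec (CommRingCat.of k))) [GrpObj R] (qR : Red.bc (Spec.map (CommRingCat.ofHom (algebraMap k k'))) R ⟶ Gbar) [IsMonHom qR]
    (hR : WeilRes.IsWeilRes (Spec.map (CommRingCat.ofHom (algebraMap k k'))) Gbar R qR) :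
    QuasiCompact (hR.lift G q).left := by
  let f := Spec.map (CommRingCat.ofHom (algebraMap k k'))
  have : LocallyOfFiniteType (Red.bc f G).hom := inferInstanceAs (LocallyOfFiniteType (pullback.snd G.hom f))
  have := quasiCompact_of_kernel q hN
  let i := hR.lift G q
  let j := (Over.pullback f).map i
  have hi : j ≫ qR = q := WeilRes.IsWeilRes.restr_lift hR G q
  have : IsSeparated qR.left := by
    have : IsSeparated (qR.left ≫ Gbar.hom) := by
      rw [Over.w]
      exact AbRigid.isSeparated_of_grpObj _
    exact IsSeparated.of_comp qR.left Gbar.hom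
  have : QuasiCompact j.left := by
    have : QuasiCompact (j.left ≫ qR.left) := by
      rw [← Over.comp_left, hi]
      infer_instance
    exact QuasiCompact.of_comp j.left qR.left
  have hc : j.left ≫ pullback.fst R.hom f = pullback.fst G.hom f ≫ i.left := by
    exact pullback.lift_fst _ _ _
  have : Surjective f := ⟨fun x => ⟨Nonempty.some inferInstance, Subsingleton.elim _ _⟩⟩
  have : Surjective (pullback.fst G.hom f) := MorphismProperty.pullback_fst (P := @Surjective) _ _ inferInstance
  have : QuasiCompact (j.left ≫ pullback.fst R.hom f) := inferInstance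
  rw [hc] at this
  refine quasiCompact_iff_forall_isAffineOpen.mpr fun V hV => ?_
  have h := (quasiCompact_iff_forall_isAffineOpen.mp this V hV).image (pullback.fst G.hom f).continuous
  convert h using 1
  exact (Set.image_preimage_eq _ (pullback.fst G.hom f).surjective).symm

end Groth.Agent.S15875
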