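import Groth.Statements.S15876
import Groth.Agent.Lib.WeilRes21.KernelGen
-- import your own Groth.Agent.* helpers here

set_option autoImplicit false
universe u
open CategoryTheory MonoidalCategory CartesianMonoidalCategory MonObj GrpObj AlgebraicGeometry
open AGF

namespace Groth.Agent.S15876

open Groth.Agent.WeilRes21

set_option backward.isDefEq.respectTransparency false

noncomputable local instance (priority := 10000) instS {k k' A : Type u} [Field k] [Field k'] [Algebra k k']
    [Module.Finite k k'] [CommRing A] [Algebra k' A] : CommRing (TensorProduct k k' (WeilRes21.Ring k k' A)) :=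
  Algebra.TensorProduct.instCommRing

/-- Let k'/k be a finite purely inseparable extension, G' a k'-group locally of finite type, (R, q) a
Weil restriction of G' to k with a group structure making q : R_{k'} → G' a homomorphism, and K the
kernel of q. Then K is affine and quasi-compact with no non-trivial subtorus in its geometric fibre,
and when G' is smooth K is moreover smooth and connected. (The published statement says that K is
unipotent, and split unipotent when G' is smooth; unipotent k'-groups are affine of finite type with
no geometric subtori and split ones are in addition smooth and connected, which is what this row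
records, a weaker conclusion.) -/
theorem result (k k' : Type u) [Field k] [Field k']
    [Algebra k k'] [Module.Finite k k'] [IsPurelyInseparable k k']
    (G' : Over (Spec (CommRingCat.of k'))) [GrpObj G'] [LocallyOfFiniteType G'.hom]
    (R : Over (Spec (CommRingCat.of k))) [GrpObj R] (q : Red.bc (Spec.map (CommRingCat.ofHom (algebraMap k k'))) R ⟶ G') [IsMonHom q]
    (hR : WeilRes.IsWeilRes (Spec.map (CommRingCat.ofHom (algebraMap k k'))) G' R q)
    (K : Over (Spec (CommRingCat.of k'))) [GrpObj K] (iK : K ⟶ Red.bc (Spec.map (CommRingCat.ofHom (algebraMap k k'))) R) [IsMonHom iK]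
    (hK : AlgGrp.IsKernel iK q) :
    (IsAffine K.left ∧ CompactSpace ↥K.left ∧ (∀ s : ↥(Spec (CommRingCat.of k')), Red.HasNoSubtorus (AlgebraicClosure ((Spec (CommRingCat.of k')).residueField s)) (Red.geomFibre s K))) ∧
    (Smooth G'.hom → Smooth K.hom ∧ ConnectedSpace ↥K.left) := by
  have : IsMonHom q := inferInstance
  obtain ⟨A, _, _, iU, _, ε, hε⟩ := exists_open_nhd_one G'
  have := finiteType_of_openImmersion iU
  obtain ⟨iso⟩ := nonempty_kernel_iso hR iU ε hε hK
  let Q := (TensorProduct k k' (WeilRes21.Ring k k' A)) ⧸ kerIdeal k ε
  have : IsIso iso.hom.left := inferInstanceAs (IsIso ((Over.forget _).map iso.hom))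
  have : IsAffine K.left := IsAffine.of_isIso iso.hom.left
  refine ⟨⟨inferInstance, inferInstance, fun s T _ j _ _ hT => ?_⟩, fun hsm => ?_⟩
  · obtain ⟨M, hM0, hM⟩ := exists_pow_kernel hR
    have hKq : iK ≫ q = 1 := by
      rw [Hom.one_def]
      exact hK.w
    refine isTrivialGrp_of_isTorus_of_pow hT M hM0 ?_
    set w := Red.geomPt s
    let x := DiagGL.fl w K j
    have hx : x ^ M = 1 := by
      apply hK.hom_ext
      · rw [MonObj.pow_comp, MonObj.one_comp]
        exact hM _ _ (by rw [Category.assoc, hKq, MonObj.comp_one])
      · exact toUnit_unique _ _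
    have hflone : DiagGL.fl w K (1 : T ⟶ Red.bc w K) = 1 := by
      have := DiagGL.fl_mul w K (1 : T ⟶ Red.bc w K) 1
      rw [_root_.one_mul] at this
      exact left_eq_mul.mp this
    have hpow : ∀ n, DiagGL.fl w K (j ^ n) = DiagGL.fl w K j ^ n := fun n => by
      induction n with
      | zero => rw [pow_zero, pow_zero, hflone]
      | succ n ih => rw [pow_succ, pow_succ, DiagGL.fl_mul, ih]
    have hj : j ^ M = 1 := DiagGL.fl_injective w K (by rw [hpow, hflone]; exact hx)
    rw [← cancel_mono j, MonObj.pow_comp, MonObj.one_comp, Category.id_comp, hj]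
  · have := smooth_of_openImmersion iU
    have := smooth_quot (k := k) ε
    refine ⟨?_, ?_⟩
    · rw [← Over.w iso.hom]
      have : Smooth (specOver k' Q).hom :=
        (HasRingHomProperty.Spec_iff (P := @Smooth)).mpr ((RingHom.smooth_algebraMap (R := k') (S := Q)).mpr inferInstance)
      infer_instance
    · obtain ⟨x⟩ : Nonempty K.left :=
        ⟨(η[K]).left (Nonempty.some (inferInstanceAs (Nonempty (Spec (CommRingCat.of k')))))⟩
      have : Nontrivial Q := PrimeSpectrum.nonempty_iff_nontrivial.mp ⟨iso.hom.left x⟩
      have : ConnectedSpace ↥(specOver k' Q).left := connected_kernel (k := k) ε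
      have hs : Function.Surjective iso.inv.left := fun p =>
        ⟨iso.hom.left p, congrArg (fun m : K ⟶ K => m.left p) iso.hom_inv_id⟩
      exact Function.Surjective.connectedSpace hs iso.inv.left.continuous

end Groth.Agent.S15876
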