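import Groth.Statements.S1588
import Groth.Agent.Lib.Nodal27.Families
-- import your own Groth.Agent.* helpers here

set_option autoImplicit false
universe u
open CategoryTheory CategoryTheory.Limits AlgebraicGeometry
open Curves

namespace Groth.Agent.S1588

/-- Let K be a field extension of k, X locally of finite type over k of dimension one, and y a point of
X_K with image x in X. Then x is a node of X (in particular closed) if and only if y is a node of
X_K. -/
theorem result (k : Type u) [Field k] (X : Scheme.{u}) [X.Over (Spec (CommRingCat.of k))] [LocallyOfFiniteType (X ↘ (Spec (CommRingCat.of k)))]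
    (hdim : topologicalKrullDim X = 1) (K : Type u) [Field K] [Algebra k K] (y : Curv2.bc k X K) :
    Curv2.IsNode k X (Curv2.bcFst k X K y) ↔ @Curv2.IsNode K _ (Curv2.bc k X K) ⟨Curv2.bcSnd k X K⟩ y := by
  let f := X ↘ Spec (CommRingCat.of k)
  letI : (Curv2.bc k X K).Over (Spec (CommRingCat.of K)) := ⟨Curv2.bcSnd k X K⟩
  haveI : LocallyOfFiniteType ((Curv2.bc k X K) ↘ Spec (CommRingCat.of K)) :=
    inferInstanceAs (LocallyOfFiniteType (pullback.snd _ _))
  let kb := AlgebraicClosure k
  let Kb := AlgebraicClosure K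
  let φ : kb →ₐ[k] Kb := IsAlgClosed.lift
  letI : Algebra kb Kb := φ.toRingHom.toAlgebra
  let W := Curv2.bc K (Curv2.bc k X K) Kb
  let c := Curv2.bcFst K (Curv2.bc k X K) Kb
  let q : W ⟶ Spec (CommRingCat.of Kb) := Curv2.bcSnd K (Curv2.bc k X K) Kb
  let σ := Spec.map (CommRingCat.ofHom (algebraMap kb Kb))
  have hσ : σ ≫ Spec.map (CommRingCat.ofHom (algebraMap k kb)) =
      Spec.map (CommRingCat.ofHom (algebraMap K Kb)) ≫ Spec.map (CommRingCat.ofHom (algebraMap k K)) := by
    rw [← Spec.map_comp, ← Spec.map_comp, ← CommRingCat.ofHom_comp, ← CommRingCat.ofHom_comp]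
    congr 2
    rw [← IsScalarTower.algebraMap_eq k K Kb]
    exact φ.comp_algebraMap
  have h1 : IsPullback (c ≫ Curv2.bcFst k X K) q f (σ ≫ Spec.map (CommRingCat.ofHom (algebraMap k kb))) := by
    rw [hσ]
    exact ((IsPullback.of_hasPullback (Curv2.bcSnd k X K) _).paste_horiz (IsPullback.of_hasPullback f _))
  let π : W ⟶ Curv2.bc k X kb := pullback.lift (c ≫ Curv2.bcFst k X K) (q ≫ σ) (by rw [Category.assoc]; exact h1.w.trans (Category.assoc _ _ _).symm)
  have hπ : π ≫ Curv2.bcFst k X kb = c ≫ Curv2.bcFst k X K := pullback.lift_fst _ _ _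
  have sq : IsPullback π q (Curv2.bcSnd k X kb) σ :=
    IsPullback.of_right (by rw [hπ]; exact h1) (pullback.lift_snd _ _ _) (IsPullback.of_hasPullback f _)
  -- closed points over closed points
  have key : ∀ w : W, IsClosed ({π w} : Set (Curv2.bc k X kb)) →
      IsClosed ({w} : Set W) ∧ (Nodal27.ODPAt q w ↔ Nodal27.ODPAt (Curv2.bcSnd k X kb) (π w)) := fun w hw => by
    let e := sq.isoPullback
    have hfst : pullback.fst (Curv2.bcSnd k X kb) σ (e.hom w) = π w := by
      rw [← Scheme.Hom.comp_apply]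
      exact congrArg (fun m : W ⟶ Curv2.bc k X kb => m w) sq.isoPullback_hom_fst
    obtain ⟨hcl, hiff⟩ := Nodal27.closedPoint_bc (Curv2.bcSnd k X kb) (e.hom w) (by rw [hfst]; exact hw)
    rw [hfst] at hiff
    have hwc := Nodal27.isClosed_of_etale_of_isClosed e.hom (pullback.snd _ _) hcl
    have h2 := Nodal27.odpAt_etale_iff e.hom (pullback.snd (Curv2.bcSnd k X kb) σ) hwc
    rw [show e.hom ≫ pullback.snd (Curv2.bcSnd k X kb) σ = q from sq.isoPullback_hom_snd] at h2
    exact ⟨hwc, h2.trans hiff⟩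
  rw [Nodal27.isNode_iff X k, Nodal27.isNode_iff (Curv2.bc k X K) K]
  have hover : ∀ w : W, Curv2.bcFst k X kb (π w) = Curv2.bcFst k X K (c w) := fun w => by
    rw [← Scheme.Hom.comp_apply, hπ, Scheme.Hom.comp_apply]
  constructor
  · rintro ⟨hx, xb, hxb, ho⟩
    haveI : Surjective (Spec.map (CommRingCat.ofHom (algebraMap K Kb))) :=
      ⟨Function.surjective_to_subsingleton (α := Spec (CommRingCat.of Kb)) (β := Spec (CommRingCat.of K)) _⟩
    haveI : Surjective c := MorphismProperty.pullback_fst _ _ inferInstance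
    obtain ⟨w, rfl⟩ := c.surjective y
    obtain ⟨hwc, hiff⟩ := key w ((Nodal27.isClosed_bc_iff X k _).2 (by rw [hover]; exact hx))
    exact ⟨(Nodal27.isClosed_bc_iff (Curv2.bc k X K) K w).1 hwc, w, rfl,
      hiff.2 (Nodal27.odpAt_conj X k ((hover w).trans hxb.symm) ho)⟩
  · rintro ⟨hy, w, rfl, ho⟩
    rw [← hover w]
    by_cases hz : IsClosed ({π w} : Set (Curv2.bc k X kb))
    · exact ⟨(Nodal27.isClosed_bc_iff X k _).1 hz, π w, rfl, (key w hz).2.1 ho⟩
    exfalso
    have hwc : IsClosed ({w} : Set W) := (Nodal27.isClosed_bc_iff (Curv2.bc k X K) K w).2 hy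
    have hd : FlatMor.localDim (Curv2.bc k X kb) (π w) ≤ 1 := by
      rw [DimF18.localDim_bc (IsPullback.of_hasPullback f _) (π w), ← hdim]
      exact TopDimLib.localDim_le _
    have hdw : FlatMor.localDim W w ≤ 1 := by rw [DimF18.localDim_bc sq w]; exact hd
    haveI : _root_.IsReduced (W.presheaf.stalk w) := Nodal27.isReduced_of_odpAt q ho
    haveI : Flat π := MorphismProperty.of_isPullback sq.flip inferInstance
    have hs := Nodal27.mem_smoothLocus_of_flat_reduced (Curv2.bcSnd k X kb) π w
      fun z h => Nodal27.isMaxPt_of_not_isClosed (Curv2.bcSnd k X kb) hd hz h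
    refine Nodal27.not_mem_smoothLocus_of_odpAt q hwc hdw ho ?_
    rw [S2155.result _ σ q π sq (Or.inr inferInstance)]
    exact hs

end Groth.Agent.S1588
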