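import Groth.Statements.S15881
-- import your own Groth.Agent.* helpers here
import Groth.Agent.Lib.DerGlue25.Torsor

set_option autoImplicit false
set_option backward.isDefEq.respectTransparency false
set_option backward.isDefEq.respectTransparency.types false
universe u
open CategoryTheory MonoidalCategory CartesianMonoidalCategory MonObj GrpObj AlgebraicGeometry
open NonAbH1

namespace Groth.Agent.S15881

/-- With φ : A → A' and t as in the glueing set-up (A/t^m → A'/t^m bijective for all m, φ bijective on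
t-power torsion), G a flat A-group scheme with quasi-affine underlying scheme, and P, P' fppf
G-torsors over A: an equivariant isomorphism of the base changes to A[1/t] and one of the base
changes to A', which agree over A'[1/t] under the canonical identifications of iterated base
changes, are the base changes of a unique equivariant isomorphism P ≅ P' over A. (The hypothesis h
is the evident commutativity of the square of base rings.) -/
theorem result (A A' : Type u) [CommRing A] [CommRing A']
    (φ : A →+* A') (t : A)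
    (hq : ∀ m : ℕ, Function.Bijective (Ideal.quotientMap (Ideal.map φ (Ideal.span {t} ^ m)) φ Ideal.le_comap_map))
    (htor : ∀ a' : A', (∃ m : ℕ, φ t ^ m * a' = 0) → ∃! a : A, (∃ m : ℕ, t ^ m * a = 0) ∧ φ a = a')
    (h : Spec.map (CommRingCat.ofHom (Localization.awayMap φ t)) ≫
        Spec.map (CommRingCat.ofHom (algebraMap A (Localization.Away t))) =
      Spec.map (CommRingCat.ofHom (algebraMap A' (Localization.Away (φ t)))) ≫ Spec.map (CommRingCat.ofHom φ))
    (G : Over (Spec (CommRingCat.of A))) [GrpObj G] [Flat G.hom] [G.left.IsQuasiAffine]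
    (P P' : NonAbH1.TorsorSch G Scheme.fppfPrecoverage)
    (αU : NonAbH1.EquivIso (P.act.bc (Spec.map (CommRingCat.ofHom (algebraMap A (Localization.Away t))))) (P'.act.bc (Spec.map (CommRingCat.ofHom (algebraMap A (Localization.Away t))))))
    (α' : NonAbH1.EquivIso (P.act.bc (Spec.map (CommRingCat.ofHom φ))) (P'.act.bc (Spec.map (CommRingCat.ofHom φ))))
    (hagree : (NonAbH1.EquivIso.bc (Spec.map (CommRingCat.ofHom (Localization.awayMap φ t))) αU).iso.hom ≫ (ActBC.bcCompIso (Spec.map (CommRingCat.ofHom (Localization.awayMap φ t))) (Spec.map (CommRingCat.ofHom (algebraMap A (Localization.Away t)))) P'.X h).hom =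
      (ActBC.bcCompIso (Spec.map (CommRingCat.ofHom (Localization.awayMap φ t))) (Spec.map (CommRingCat.ofHom (algebraMap A (Localization.Away t)))) P.X h).hom ≫ (ActBC.bcCompIso (Spec.map (CommRingCat.ofHom (algebraMap A' (Localization.Away (φ t))))) (Spec.map (CommRingCat.ofHom φ)) P.X rfl).inv ≫
        (NonAbH1.EquivIso.bc (Spec.map (CommRingCat.ofHom (algebraMap A' (Localization.Away (φ t))))) α').iso.hom ≫ (ActBC.bcCompIso (Spec.map (CommRingCat.ofHom (algebraMap A' (Localization.Away (φ t))))) (Spec.map (CommRingCat.ofHom φ)) P'.X rfl).hom) :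
    ∃! α : NonAbH1.EquivIso P.act P'.act,
      (NonAbH1.EquivIso.bc (Spec.map (CommRingCat.ofHom (algebraMap A (Localization.Away t)))) α).iso = αU.iso ∧ (NonAbH1.EquivIso.bc (Spec.map (CommRingCat.ofHom φ)) α).iso = α'.iso := by
  letI : Algebra A A' := φ.toAlgebra
  have hfp : ∀ (R : NonAbH1.TorsorSch G Scheme.fppfPrecoverage),
      NonAbH1.IsTorsorFor Scheme.fpqcPrecoverage R.act := fun R => ⟨R.isTorsor.1, R.isTorsor.2.choose,
    Scheme.fppfPrecoverage_le_fpqcPrecoverage _ R.isTorsor.2.choose_spec.1, R.isTorsor.2.choose_spec.2⟩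
  have hD : DerGlue25.Datum (A' := A') t := ⟨hq, htor⟩
  let gU := Spec.map (CommRingCat.ofHom (algebraMap A (Localization.Away t)))
  let g' := Spec.map (CommRingCat.ofHom φ)
  let fU := Spec.map (CommRingCat.ofHom (Localization.awayMap φ t))
  let f' := Spec.map (CommRingCat.ofHom (algebraMap A' (Localization.Away (φ t))))
  let jU : Over.mk (f' ≫ g') ⟶ Over.mk gU := Over.homMk fU h
  let j' : Over.mk (f' ≫ g') ⟶ Over.mk g' := Over.homMk f' rfl
  have hmid : (ActBC.bcCompIso fU gU P.X h).inv ≫ (NonAbH1.EquivIso.bc fU αU).iso.hom ≫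
        (ActBC.bcCompIso fU gU P'.X h).hom =
      (ActBC.bcCompIso f' g' P.X rfl).inv ≫ (NonAbH1.EquivIso.bc f' α').iso.hom ≫
        (ActBC.bcCompIso f' g' P'.X rfl).hom := by
    rw [hagree, Iso.inv_hom_id_assoc]
  obtain ⟨ψ, ⟨hψ, hψU, hψ'⟩, hu⟩ := DerGlue25.existsUnique_hom t hD (gU := gU) rfl (g' := g') rfl
    jU rfl j' rfl (hfp P) (hfp P') αU α' fun {V} x c => by
      rw [DerGlue25.evalAt_comp gU fU h αU x c jU rfl, DerGlue25.evalAt_comp g' f' rfl α' x c j' rfl, hmid]
  haveI := TorsorSch25.isIso_of_equivariant (hfp P) P'.isTorsor.1 ψ hψ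
  refine ⟨⟨asIso ψ, hψ⟩, ⟨Iso.ext hψU, Iso.ext hψ'⟩, fun α hα => ?_⟩
  obtain ⟨i, hi⟩ := α
  have e : i.hom = ψ := hu i.hom ⟨hi, congrArg Iso.hom hα.1, congrArg Iso.hom hα.2⟩
  have : i = asIso ψ := Iso.ext e
  subst this
  rfl

end Groth.Agent.S15881
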