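import Groth.Statements.S15885
import Groth.Agent.Lib.BMCoh.Generic

set_option autoImplicit false
universe u
open CategoryTheory AlgebraicGeometry Opposite
open BMCoh

namespace Groth.Agent.S15885


/-- Let T be a twisted Borel–Moore cohomology theory with coefficients in A on a constructible class V
of Noetherian schemes and M a coefficient module. Assume there is a natural number c such that for
every object Y of V and every point y of Y the groups H^i(y, M(n)) of the point y vanish for all n
and all i > dim(closure of y) + c. Then for every reduced object X of V and every natural number j,
H^i(F_jX, M(n)) = 0 for all n and all i > dim X + j + c. (This row takes X reduced: the groups of a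
point are formed on the closure of the point with its reduced structure, and for a non-reduced X the
identification of the groups of F_0X with those of the generic points of the top-dimensional
components would need insensitivity of the theory to nilpotents, which is not among the conditions
imposed on a theory here; the published statement carries no reducedness hypothesis. The bound in
the hypothesis is read with the dimension of the closure of the point, as the inequalities of the
published proof require.) -/
theorem result (V : ObjectProperty Scheme.{u}) [BMCoh.IsConstructible V] (R : Type u) [CommRing R] (A : BMCoh.Coefs R) (T : BMCoh.TheoryOn V R A) (M : A.Cat) (c : ℕ) (hc : ∀ (Y : BMCoh.Obj V) (y : Y.scheme) (i n : ℤ), (WeilCoh.pdim Y.scheme y : ℤ) + c < i → Limits.IsZero (T.ptGp Y y M i n)) (X : BMCoh.Obj V) [IsReduced X.scheme] (j : ℕ) (i n : ℤ) (hi : (WeilCoh.dim X.scheme : ℤ) + j + c < i) : Limits.IsZero (T.fjGp X j M i n) := by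
  exact Groth.Agent.BMLib.isZero_fjGp M c (fun y i n h => hc X y i n h) j i n hi


end Groth.Agent.S15885
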