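import Groth.Statements.S15887
import Groth.Agent.Lib.BMCoh.ClosedCriterion

set_option autoImplicit false
universe u
open CategoryTheory AlgebraicGeometry Opposite
open BMCoh

namespace Groth.Agent.S15887


/-- Let T be a twisted Borel–Moore cohomology theory with coefficients in A on a constructible class V
of Noetherian schemes, X an object of V, M a coefficient module, j and m natural numbers and i, n
integers. If for every reduced object Z of V admitting a closed immersion into X with dim Z + (j +
1) = dim X the groups H^{i−2(j+1)}(F_mZ, M(n−j−1)) and H^{i+1−2(j+1)}(F_mZ, M(n−j−1)) are zero, then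
the restriction map H^i(F_{j+1+m}X, M(n)) → H^i(F_jX, M(n)) is bijective. (The published lemma is
the long exact sequence obtained from the Gysin sequences by passage to the colimit, whose terms
around these two are the colimits, over the reduced closed subschemes Z of X of codimension j + 1,
of those groups of F_mZ; its maps on the colimits are not part of the definitions used here, and
this row records the resulting bijectivity criterion.) -/
theorem result (V : ObjectProperty Scheme.{u}) [BMCoh.IsConstructible V] (R : Type u) [CommRing R] (A : BMCoh.Coefs R) (T : BMCoh.TheoryOn V R A) (X : BMCoh.Obj V) (M : A.Cat) (j m : ℕ) (i n : ℤ) (hZ : ∀ (Z : BMCoh.Obj V) (ι : Z.scheme ⟶ X.scheme) [IsClosedImmersion ι] [IsReduced Z.scheme], WeilCoh.dim Z.scheme + (j + 1) = WeilCoh.dim X.scheme → Limits.IsZero (T.fjGp Z m M (i - 2 * ((j : ℤ) + 1)) (n - ((j : ℤ) + 1))) ∧ Limits.IsZero (T.fjGp Z m M (i + 1 - 2 * ((j : ℤ) + 1)) (n - ((j : ℤ) + 1)))) : Function.Bijective ((T.fjRes X ((Nat.le_succ j).trans (Nat.le_add_right (j + 1) m)) i n).app M).hom := by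
  exact Groth.Agent.BMLib.bijective_fjRes_of_closed M j m i n hZ


end Groth.Agent.S15887
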