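import Groth.Statements.S15890
import Groth.Agent.Lib.Versch23.Basic
import Groth.Agent.S3176
import Mathlib.LinearAlgebra.Dual.Lemmas
import Mathlib.RingTheory.FiniteType
import Mathlib.LinearAlgebra.FiniteDimensional.Basic

set_option autoImplicit false
universe u v
open Versch

namespace Groth.Agent.S15890

open TensorProduct WithConv

theorem bijective_coord {R : Type u} [CommRing R] {M : Type v} [AddCommGroup M] [Module R M] {N : Type u}
    [AddCommGroup N] [Module R N] {ι : Type} [Fintype ι] (b : Module.Basis ι R M) :
    Function.Bijective (fun t : ι → N => ∑ i, b i ⊗ₜ[R] t i) := by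
  classical
  let e := (TensorProduct.equivFinsuppOfBasisLeft (N := N) b).trans (Finsupp.linearEquivFunOnFinite R N ι)
  convert e.symm.bijective using 1
  funext t
  simp [e, TensorProduct.equivFinsuppOfBasisLeft_symm_apply, Finsupp.sum_fintype]

theorem bijective_relFrob_iff {p : ℕ} [Fact p.Prime] {k : Type u} [Field k] [CharP k p] {B : Type v} [CommRing B]
    [Algebra k B] [CharP B p] {ι : Type} [Fintype ι] (b : Module.Basis ι k B) :
    Function.Bijective (FrobAlg.relFrob p k B) ↔ LinearIndependent k fun i => b i ^ p := by
  haveI := Module.Finite.of_basis b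
  let L : (ι → k) →ₗ[k] B := Fintype.linearCombination k fun i => b i ^ p
  have hψ := bijective_coord (N := FrobAlg.Twist p k) b
  have hL : ∀ t, FrobAlg.relFrob p k B (∑ i, b i ⊗ₜ[k] t i) = L ((FrobAlg.toTwist p k).symm ∘ t) := fun t => by
    rw [map_sum, Fintype.linearCombination_apply]
    refine Finset.sum_congr rfl fun i _ => ?_
    rw [Algebra.smul_def, mul_comm]
    simp [FrobAlg.relFrob, FrobAlg.frobHom, FrobAlg.inclHom, Algebra.TensorProduct.lift_tmul]
    rfl
  have hj : Function.Bijective (fun t : ι → FrobAlg.Twist p k => (FrobAlg.toTwist p k).symm ∘ t) :=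
    (Equiv.arrowCongr (Equiv.refl ι) (FrobAlg.toTwist p k).symm.toEquiv).bijective
  rw [← Function.Bijective.of_comp_iff (FrobAlg.relFrob p k B) hψ,
    show (FrobAlg.relFrob p k B) ∘ (fun t : ι → FrobAlg.Twist p k => ∑ i, b i ⊗ₜ[k] t i) =
      L ∘ fun t => (FrobAlg.toTwist p k).symm ∘ t from funext hL, Function.Bijective.of_comp_iff _ hj,
    linearIndependent_iff_injective_fintypeLinearCombination]
  refine ⟨fun h => h.1, fun h => ⟨h, ?_⟩⟩
  exact (LinearMap.injective_iff_surjective_of_finrank_eq_finrank
    (by rw [Module.finrank_fintype_fun_eq_card, Module.finrank_eq_card_basis b])).1 h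


/-- Let p be a prime, k a field of characteristic p and A a finite-dimensional commutative and
cocommutative Hopf algebra over k (a finite commutative k-group scheme G = Spec A), and let v : A →
A ⊗_k k^(Frob) be the comorphism of the Verschiebung V : G^(p) → G (the ring map whose transpose
under the canonical pairing is the relative Frobenius of the dual Hopf algebra). Then G is
multiplicative, i.e. the dual Hopf algebra Hom_k(A, k) of the Cartier dual G^D is étale over k, if
and only if v is bijective, i.e. V is an isomorphism. -/
theorem result (p : ℕ) [Fact p.Prime] (k : Type u) [Field k] [CharP k p]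
    (A : Type v) [CommRing A] [HopfAlgebra k A] [Coalgebra.IsCocomm k A] [FiniteDimensional k A]
    (v : A →+* FrobAlg.BaseChange p k A) (hv : Versch.IsVerschiebung p k A v) :
    Algebra.Etale k (CartDual.D k A) ↔ Function.Bijective v := by
  classical
  let b := Module.finBasis k A
  let φ := fun i => b.coord i
  have h : ∀ a, a = ∑ i, φ i a • b i := fun a => (b.sum_repr a).symm
  let bD : Module.Basis (Fin (Module.finrank k A)) k (CartDual.D k A) :=
    b.dualBasis.map (WithConv.linearEquiv k (A →ₗ[k] k)).symm
  have hbD : ∀ i, bD i = (toConv (φ i) : CartDual.D k A) := fun i => by simp [bD, φ, Module.Basis.coe_dualBasis]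
  haveI : Module.Finite k (CartDual.D k A) := Module.Finite.of_basis bD
  -- a model of the dual in the universe of the field
  obtain ⟨m, f, hf⟩ := Algebra.FiniteType.iff_quotient_mvPolynomial''.1 (inferInstance : Algebra.FiniteType k (CartDual.D k A))
  let B := MvPolynomial (Fin m) k ⧸ RingHom.ker f
  let e : B ≃ₐ[k] CartDual.D k A := Ideal.quotientKerAlgEquivOfSurjective hf
  haveI : CharP B p := charP_of_injective_ringHom (f := e.symm.toAlgHom.toRingHom) e.symm.injective p
  haveI : Module.Finite k B := Module.Finite.equiv e.symm.toLinearEquiv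
  haveI : Algebra.FinitePresentation k B := Algebra.FinitePresentation.of_finiteType.1 inferInstance
  have h1 : Algebra.Etale k (CartDual.D k A) ↔ Algebra.Etale k B :=
    ⟨fun _ => Algebra.Etale.of_equiv e.symm, fun _ => Algebra.Etale.of_equiv e⟩
  rw [h1, S3176.result p k B, bijective_relFrob_iff (bD.map e.symm.toLinearEquiv)]
  have h2 : (LinearIndependent k fun i => (bD.map e.symm.toLinearEquiv) i ^ p) ↔
      LinearIndependent k fun i => (toConv (φ i) : CartDual.D k A) ^ p := by
    rw [← LinearMap.linearIndependent_iff e.toLinearEquiv.toLinearMap e.toLinearEquiv.ker]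
    rw [show (e.toLinearEquiv.toLinearMap ∘ fun i => (bD.map e.symm.toLinearEquiv) i ^ p) =
      fun i => (toConv (φ i) : CartDual.D k A) ^ p from funext fun i => by simp [hbD]]
  rw [h2]
  let Λ : A →ₗ[k] (Fin (Module.finrank k A) → k) :=
    LinearMap.pi fun i => ((toConv (φ i) : CartDual.D k A) ^ p).ofConv
  have hv' : ⇑v = (fun t : Fin (Module.finrank k A) → FrobAlg.Twist p k => ∑ i, b i ⊗ₜ[k] t i) ∘
      (fun t : Fin (Module.finrank k A) → k => FrobAlg.toTwist p k ∘ t) ∘ Λ :=
    funext fun a => Versch23.verschiebung_apply h v hv a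
  have hj : Function.Bijective (fun t : Fin (Module.finrank k A) → k => FrobAlg.toTwist p k ∘ t) :=
    (Equiv.arrowCongr (Equiv.refl _) (FrobAlg.toTwist p k).toEquiv).bijective
  rw [hv', Function.Bijective.of_comp_iff' (bijective_coord b), Function.Bijective.of_comp_iff' hj]
  constructor
  · intro hli
    have hspan := hli.span_eq_top_of_card_eq_finrank' (by rw [Module.finrank_eq_card_basis bD])
    have hinj : Function.Injective Λ := by
      rw [injective_iff_map_eq_zero]
      intro a ha
      have hall : ∀ x : CartDual.D k A, x a = 0 := fun x => by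
        have hx : x ∈ Submodule.span k (Set.range fun i => (toConv (φ i) : CartDual.D k A) ^ p) := hspan ▸ Submodule.mem_top
        induction hx using Submodule.span_induction with
        | mem x hx => obtain ⟨i, rfl⟩ := hx; exact congrFun ha i
        | zero => rfl
        | add x y _ _ hx hy => rw [CartDual.coe_apply] at hx hy ⊢; simp [hx, hy]
        | smul c x _ hx => rw [CartDual.coe_apply] at hx ⊢; simp [hx]
      rw [h a]
      exact Finset.sum_eq_zero fun i _ => by rw [show φ i a = 0 from hall (toConv (φ i)), zero_smul]
    exact ⟨hinj, (LinearMap.injective_iff_surjective_of_finrank_eq_finrank (by simp)).1 hinj⟩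
  · intro hbij
    rw [Fintype.linearIndependent_iff]
    intro g hg j
    obtain ⟨a, ha⟩ := hbij.2 (Pi.single j 1)
    have h0 := congrArg (fun x : CartDual.D k A => x.ofConv a) hg
    simp only [WithConv.ofConv_sum, WithConv.ofConv_smul, LinearMap.sum_apply, LinearMap.smul_apply, smul_eq_mul,
      WithConv.ofConv_zero, LinearMap.zero_apply] at h0
    rw [Finset.sum_eq_single j (fun i _ hij => ?_) (by simp)] at h0
    · rwa [show ((toConv (φ j) : CartDual.D k A) ^ p).ofConv a = 1 from (congrFun ha j).trans (by simp), mul_one] at h0
    · rw [show ((toConv (φ i) : CartDual.D k A) ^ p).ofConv a = 0 from (congrFun ha i).trans (by simp [hij]), mul_zero]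


end Groth.Agent.S15890
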