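import Groth.Statements.S15892
import Groth.Agent.Lib.QuotHopf23.Basic
import Groth.Agent.Lib.HopfFF23.Range
-- import your own Groth.Agent.* helpers here

set_option autoImplicit false
universe u
open CartDual
open scoped TensorProduct

namespace Groth.Agent.S15892

theorem exists_linear_retraction {R : Type u} [CommRing R] [IsNoetherianRing R] {C A : Type u} [CommRing C] [Algebra R C]
    [Module.Finite R C] [CommRing A] [Algebra R A] [Module.Finite R A] (f : C →ₐ[R] A) (hf : f.toRingHom.FaithfullyFlat) :
    ∃ ρ : A →ₗ[R] C, ∀ c, ρ (f c) = c := by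
  classical
  letI : Algebra C A := f.toRingHom.toAlgebra
  haveI : IsScalarTower R C A := IsScalarTower.of_algebraMap_eq fun r => (f.commutes r).symm
  haveI : Module.FaithfullyFlat C A := hf
  haveI : Module.Finite C A := Module.Finite.of_restrictScalars_finite R C A
  haveI : IsNoetherianRing C := IsNoetherianRing.of_finite R C
  haveI : Module.FinitePresentation C A := Module.finitePresentation_of_finite C A
  haveI : Module.Projective C A := Module.Flat.projective_of_finitePresentation
  obtain ⟨n, φ, g, -, -, hfg⟩ := Module.Finite.exists_comp_eq_id_of_projective C A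
  let M : Ideal C := Ideal.span (Set.range (g (1 : A)))
  have h1 : (1 : A) ∈ M • (⊤ : Submodule C A) := by
    rw [show (1 : A) = ∑ i, g 1 i • φ (Pi.single i 1) from
      (LinearMap.congr_fun hfg 1).symm.trans ((congrArg φ (pi_eq_sum_univ' (g 1))).trans (by simp))]
    exact sum_mem fun i _ => Submodule.smul_mem_smul (Ideal.subset_span ⟨i, rfl⟩) trivial
  have hM : M = ⊤ := by
    by_contra hne
    obtain ⟨m, hm, hle⟩ := Ideal.exists_le_maximal M hne
    refine Module.FaithfullyFlat.submodule_ne_top (M := A) hm ?_
    rw [Ideal.smul_top_eq_map, Submodule.restrictScalars_eq_top_iff, Ideal.eq_top_iff_one]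
    have := Submodule.smul_mono_left hle h1
    rwa [Ideal.smul_top_eq_map, Submodule.restrictScalars_mem] at this
  obtain ⟨w, hw⟩ := Ideal.mem_span_range_iff_exists_fun.1 (hM ▸ Submodule.mem_top : (1 : C) ∈ M)
  refine ⟨((Fintype.linearCombination C w) ∘ₗ g).restrictScalars R, fun c => ?_⟩
  have hc : f c = c • (1 : A) := (mul_one (f c)).symm
  rw [LinearMap.restrictScalars_apply, LinearMap.comp_apply, hc, map_smul, map_smul, Fintype.linearCombination_apply]
  simp only [smul_eq_mul, mul_comm (g 1 _)]
  rw [hw, mul_one]

theorem isHopfIdeal_ker {R : Type u} [CommRing R] {A B : Type u} [CommRing A] [HopfAlgebra R A] [CommRing B] [HopfAlgebra R B]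
    (φ : A →ₐc[R] B) (hφ : Function.Surjective φ) : (RingHom.ker (φ : A →ₐ[R] B)).IsHopfIdeal R := by
  set K := RingHom.ker (φ : A →ₐ[R] B)
  let e := Ideal.quotientKerAlgEquivOfSurjective (f := (φ : A →ₐ[R] B)) hφ
  exact
    { counit_eq_zero := fun x hx => (CoalgHomClass.counit_comp_apply φ x).symm.trans (by
        rw [show φ x = 0 from hx, map_zero])
      map_mkQ_comul_eq_zero := fun x hx => by
        let π := Ideal.Quotient.mkₐ R K
        have hz : Algebra.TensorProduct.map π π (Bialgebra.comulAlgHom R A x) = 0 := by
          refine (Algebra.TensorProduct.congr e e).injective ?_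
          rw [map_zero]
          have h := AlgHom.congr_fun (BialgHom.map_comp_comulAlgHom φ) x
          simp only [AlgHom.comp_apply] at h
          rw [show (φ : A →ₐ[R] B) x = 0 from hx, map_zero] at h
          refine Eq.trans ?_ h
          generalize Bialgebra.comulAlgHom R A x = z
          induction z using TensorProduct.induction_on with
          | zero => simp
          | add u v hu hv => simp only [map_add, hu, hv]
          | tmul a b => rfl
        exact hz
      antipode_mem := fun x hx => (HopfFF23.map_antipode φ x).trans (by rw [show φ x = 0 from hx, map_zero]) }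

set_option maxHeartbeats 1000000 in
/-- Let R be a Noetherian ring and A', A, A'' commutative and cocommutative Hopf algebras over R, each
finitely generated and projective as an R-module (finite flat commutative R-groups G' = Spec A', G =
Spec A, G'' = Spec A''). Let f : A'' → A be a bialgebra homomorphism which is faithfully flat as a
ring map (the comorphism of a faithfully flat homomorphism π : G → G'') and g : A → A' a surjective
bialgebra homomorphism whose kernel is the ideal of A generated by the image under f of the
augmentation ideal of A'' (the comorphism of a closed immersion ι : G' → G identifying G' with the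
kernel of π), so that 1 → G' → G → G'' → 1 is a short exact sequence of finite flat R-groups. Then
the Cartier dual sequence 1 → G''^D → G^D → G'^D → 1 is again short exact: the transpose Hom_R(A',
R) → Hom_R(A, R) of g is a faithfully flat ring map between the dual Hopf algebras, and the
transpose Hom_R(A, R) → Hom_R(A'', R) of f is surjective with kernel the ideal generated by the
image, under the transpose of g, of the augmentation ideal of Hom_R(A', R). -/
theorem result (R : Type u) [CommRing R] [IsNoetherianRing R]
    (A' A A'' : Type u) [CommRing A'] [HopfAlgebra R A'] [Coalgebra.IsCocomm R A'] [Module.Finite R A']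
    [Module.Projective R A'] [CommRing A] [HopfAlgebra R A] [Coalgebra.IsCocomm R A] [Module.Finite R A]
    [Module.Projective R A] [CommRing A''] [HopfAlgebra R A''] [Coalgebra.IsCocomm R A''] [Module.Finite R A'']
    [Module.Projective R A''] (f : A'' →ₐc[R] A) (hf : (f : A'' →ₐ[R] A).toRingHom.FaithfullyFlat)
    (g : A →ₐc[R] A') (hg : Function.Surjective g)
    (hker : RingHom.ker (g : A →ₐ[R] A') = Ideal.map (f : A'' →ₐ[R] A) (RingHom.ker (Bialgebra.counitAlgHom R A''))) :
    (CartDual.transpose R g : CartDual.D R A' →ₐ[R] CartDual.D R A).toRingHom.FaithfullyFlat ∧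
      Function.Surjective (CartDual.transpose R f) ∧
      RingHom.ker (CartDual.transpose R f : CartDual.D R A →ₐ[R] CartDual.D R A'') =
        Ideal.map (CartDual.transpose R g : CartDual.D R A' →ₐ[R] CartDual.D R A)
          (RingHom.ker (Bialgebra.counitAlgHom R (CartDual.D R A'))) := by
  classical
  obtain ⟨s, hs⟩ := (g : A →ₐ[R] A').toLinearMap.exists_rightInverse_of_surjective (LinearMap.range_eq_top.2 hg)
  obtain ⟨ρ, hρ⟩ := exists_linear_retraction (f : A'' →ₐ[R] A) hf
  let φ : CartDual.D R A →ₐc[R] CartDual.D R A'' := CartDual.transpose R f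
  have hsurj : Function.Surjective φ := fun x => ⟨CartDual.transposeLin R ρ x, WithConv.ofConv_injective (LinearMap.ext fun a => by
    show x (ρ (f a)) = x a
    exact congrArg x.ofConv (hρ a))⟩
  refine ⟨?_, hsurj, ?_⟩
  all_goals
    set K : Ideal (CartDual.D R A) := RingHom.ker (φ : CartDual.D R A →ₐ[R] CartDual.D R A'')
    let e := Ideal.quotientKerAlgEquivOfSurjective (f := (φ : CartDual.D R A →ₐ[R] CartDual.D R A'')) hsurj
    haveI : K.IsHopfIdeal R := isHopfIdeal_ker φ hsurj
    haveI : Module.Finite R (CartDual.D R A ⧸ K) := Module.Finite.equiv e.symm.toLinearEquiv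
    haveI : Module.Projective R (CartDual.D R A ⧸ K) := Module.Projective.of_equiv e.symm.toLinearEquiv
    have hkey : ∀ x : CartDual.D R A, x ∈ QuotHopf23.inv R K ↔
        ∀ (a : A) (a'' : A''), x.ofConv (a * f a'') = x.ofConv a * Bialgebra.counitAlgHom R A'' a'' := by
      intro x
      let ψ : CartDual.D R A ⊗[R] (CartDual.D R A ⧸ K) ≃ₗ[R] Module.Dual R (A ⊗[R] A'') :=
        TensorProduct.congr (LinearEquiv.refl R _) e.toLinearEquiv ≪≫ₗ
          (TensorProduct.congr (CartDual.toDual R A) (CartDual.toDual R A'') ≪≫ₗ CartDual.dualTensorEquiv R A A'')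
      have h1 : ∀ (z : CartDual.D R A ⊗[R] CartDual.D R A) (a : A) (a'' : A''),
          ψ (Algebra.TensorProduct.map (AlgHom.id R _) (Ideal.Quotient.mkₐ R K) z) (a ⊗ₜ a'') =
            CartDual.ev₂ R A z (a ⊗ₜ f a'') := by
        intro z a a''
        induction z using TensorProduct.induction_on with
        | zero => simp
        | add u v hu hv => simp only [map_add, LinearMap.add_apply, hu, hv]
        | tmul u v =>
          rw [CartDual.ev₂_tmul]
          show (CartDual.dualTensorEquiv R A A'') ((CartDual.toDual R A) u ⊗ₜ (CartDual.toDual R A'')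
            (e (Ideal.Quotient.mk K v))) (a ⊗ₜ a'') = _
          rw [CartDual.dualTensorEquiv_tmul]
          rfl
      have h2 : ∀ (a : A) (a'' : A''), ψ (x ⊗ₜ (1 : CartDual.D R A ⧸ K)) (a ⊗ₜ a'') =
          x.ofConv a * Bialgebra.counitAlgHom R A'' a'' := by
        intro a a''
        show (CartDual.dualTensorEquiv R A A'') ((CartDual.toDual R A) x ⊗ₜ (CartDual.toDual R A'') (e 1)) (a ⊗ₜ a'') = _
        rw [CartDual.dualTensorEquiv_tmul, map_one, CartDual.toDual_apply, CartDual.toDual_apply]
        rw [LinearMap.convOne_apply]
        rfl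
      constructor
      · intro hx a a''
        have h := congrArg (fun z => ψ z (a ⊗ₜ a'')) (hx : QuotHopf23.coact K x = QuotHopf23.incL K x)
        simp only [AlgHom.comp_apply, Algebra.TensorProduct.includeLeft_apply] at h
        rw [h1, h2] at h
        rw [← h]
        exact (LinearMap.congr_fun (CartDual.ev₂_comul R A x) (a ⊗ₜ f a'')).symm
      · intro h
        show QuotHopf23.coact K x = QuotHopf23.incL K x
        apply ψ.injective
        apply TensorProduct.ext'
        intro a a''
        show ψ (Algebra.TensorProduct.map (AlgHom.id R _) (Ideal.Quotient.mkₐ R K) (Bialgebra.comulAlgHom R _ x)) (a ⊗ₜ a'') =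
          ψ (x ⊗ₜ 1) (a ⊗ₜ a'')
        rw [h1, h2, ← h]
        exact LinearMap.congr_fun (CartDual.ev₂_comul R A x) (a ⊗ₜ f a'')
    let T : CartDual.D R A' →ₐ[R] CartDual.D R A := (CartDual.transpose R g : CartDual.D R A' →ₐ[R] CartDual.D R A)
    have hgf : ∀ a'' : A'', g (f a'') = algebraMap R A' (Bialgebra.counitAlgHom R A'' a'') := fun a'' => by
      have h : f (a'' - algebraMap R A'' (Bialgebra.counitAlgHom R A'' a'')) ∈ RingHom.ker (g : A →ₐ[R] A') := by
        rw [hker]
        refine Ideal.mem_map_of_mem (f : A'' →ₐ[R] A) ?_
        rw [RingHom.mem_ker, map_sub, AlgHom.commutes]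
        exact sub_self _
      rw [RingHom.mem_ker] at h
      simp only [map_sub] at h
      rw [sub_eq_zero] at h
      exact h.trans (((g : A →ₐ[R] A').comp (f : A'' →ₐ[R] A)).commutes _)
    have hTmem : ∀ x', T x' ∈ QuotHopf23.inv R K := fun x' => (hkey _).2 fun a a'' => by
      show x'.ofConv (g (a * f a'')) = x'.ofConv (g a) * _
      rw [map_mul, hgf, mul_comm (g a), ← Algebra.smul_def, map_smul, smul_eq_mul, mul_comm]
    have hrange : ∀ x ∈ QuotHopf23.inv R K, ∃ x', T x' = x := by
      intro x hx
      have hvan : ∀ m ∈ RingHom.ker (g : A →ₐ[R] A'), x.ofConv m = 0 := by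
        intro m hm
        rw [hker] at hm
        induction hm using Submodule.span_induction with
        | mem y hy =>
          obtain ⟨a'', ha'', rfl⟩ := hy
          have h := (hkey x).1 hx 1 a''
          rw [one_mul] at h
          exact h.trans (by rw [show Bialgebra.counitAlgHom R A'' a'' = 0 from ha'', mul_zero])
        | zero => simp
        | add a b _ _ ha hb => rw [map_add, ha, hb, add_zero]
        | smul c m hm ih =>
          rw [smul_eq_mul]
          clear ih
          revert c
          induction hm using Submodule.span_induction with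
          | mem y hy =>
            intro c
            obtain ⟨a'', ha'', rfl⟩ := hy
            have h := (hkey x).1 hx c a''
            exact h.trans (by rw [show Bialgebra.counitAlgHom R A'' a'' = 0 from ha'', mul_zero])
          | zero => intro c; simp
          | add a b _ _ ha hb => intro c; rw [mul_add, map_add, ha, hb, add_zero]
          | smul d m _ ih => intro c; rw [smul_eq_mul, ← mul_assoc]; exact ih _
      refine ⟨CartDual.transposeLin R s x, WithConv.ofConv_injective (LinearMap.ext fun a => ?_)⟩
      show x.ofConv (s (g a)) = x.ofConv a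
      rw [← sub_eq_zero, ← map_sub]
      refine hvan _ ?_
      rw [RingHom.mem_ker, map_sub, sub_eq_zero]
      exact LinearMap.congr_fun hs (g a)
  · let T' : CartDual.D R A' →ₐ[R] ↥(QuotHopf23.inv R K) := T.codRestrict _ hTmem
    have hT' : Function.Bijective T' := by
      refine ⟨fun u v huv => WithConv.ofConv_injective (LinearMap.ext fun b => ?_), fun ⟨x, hx⟩ => ?_⟩
      · obtain ⟨a, rfl⟩ := hg b
        exact congrArg (fun z : ↥(QuotHopf23.inv R K) => (z : CartDual.D R A).ofConv a) huv
      · obtain ⟨x', hx'⟩ := hrange x hx
        exact ⟨x', Subtype.ext hx'⟩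
    haveI : Module.FaithfullyFlat ↥(QuotHopf23.inv R K) (CartDual.D R A) := QuotHopf23.faithfullyFlat_over_inv K
    exact RingHom.FaithfullyFlat.stableUnderComposition T'.toRingHom (algebraMap ↥(QuotHopf23.inv R K) (CartDual.D R A))
      (RingHom.FaithfullyFlat.of_bijective hT') (RingHom.faithfullyFlat_algebraMap_iff.2 inferInstance)
  · show K = _
    refine le_antisymm ?_ (Ideal.map_le_iff_le_comap.2 fun x hx => ?_)
    · conv_lhs => rw [← QuotHopf23.augIdeal_eq (R := R) K]
      refine Ideal.span_le.2 fun x hx => ?_
      obtain ⟨x', hx'⟩ := hrange x hx.1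
      refine hx' ▸ Ideal.mem_map_of_mem T ?_
      rw [RingHom.mem_ker]
      refine Eq.trans ?_ hx.2
      rw [← hx']
      exact (CoalgHomClass.counit_comp_apply (CartDual.transpose R g) x').symm
    · rw [RingHom.mem_ker] at hx
      have h := QuotHopf23.mk_eq_counit (R := R) K (hTmem x)
      rw [show Bialgebra.counitAlgHom R _ (T x) = 0 from
        (CoalgHomClass.counit_comp_apply (CartDual.transpose R g) x).trans hx, map_zero] at h
      exact (Ideal.Quotient.eq_zero_iff_mem.1 h : T x ∈ K)

end Groth.Agent.S15892
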