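import Groth.Statements.S15893
import Groth.Prelude.Def_CartDual2

set_option autoImplicit false
universe u v w
open CartDual

namespace Groth.Agent.S15893

/-- Let R be a commutative ring and A, B commutative and cocommutative Hopf algebras over R, each
finitely generated and projective as an R-module (finite locally free commutative group schemes G =
Spec A, H = Spec B over Spec R). Then Cartier duality is a fully faithful contravariant functor: the
map sending a bialgebra homomorphism f : A → B (a homomorphism of group schemes H → G) to its
transpose between the dual Hopf algebras, Hom_R(B, R) → Hom_R(A, R) (the dual homomorphism G^D →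
H^D), is a bijection between bialgebra homomorphisms A → B and bialgebra homomorphisms Hom_R(B, R) →
Hom_R(A, R). (The published statement also asserts that the canonical map to the double dual is an
isomorphism, which makes duality an involutory anti-equivalence; that part is not restated here. The
published notes work over a Noetherian base ring; the row allows any commutative base ring.) -/
theorem result (R : Type u) [CommRing R] (A : Type v) (B : Type w)
    [CommRing A] [HopfAlgebra R A] [Coalgebra.IsCocomm R A] [Module.Finite R A] [Module.Projective R A]
    [CommRing B] [HopfAlgebra R B] [Coalgebra.IsCocomm R B] [Module.Finite R B] [Module.Projective R B] :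
    Function.Bijective (fun f : A →ₐc[R] B => CartDual.transpose R f) := by
  have hbij : Function.Bijective (CartDual.eval R B) :=
    ((Module.evalEquiv R B).trans ((CartDual.toDual R B).dualMap.trans
      (CartDual.toDual R (CartDual.D R B)).symm)).bijective
  refine ⟨fun f g h => ?_, fun g => ?_⟩
  · refine DFunLike.ext _ _ fun a => (Module.evalEquiv R B).injective (LinearMap.ext fun x => ?_)
    simp only [Module.evalEquiv_apply, Module.Dual.eval_apply]
    exact congrArg (fun t => t.ofConv a) (DFunLike.congr_fun h (WithConv.toConv x))
  · let e := BialgEquiv.ofBijective (R := R) (A := B) (B := CartDual.D R (CartDual.D R B)) (f := CartDual.eval R B) (by exact hbij)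
    let f : A →ₐc[R] B := (e.symm : CartDual.D R (CartDual.D R B) →ₐc[R] B).comp
      ((CartDual.transpose R g).comp (CartDual.eval R A))
    have hf : ∀ a, CartDual.eval R B (f a) = CartDual.transpose R g (CartDual.eval R A a) := fun a =>
      e.apply_symm_apply _
    refine ⟨f, DFunLike.ext _ _ fun x => WithConv.ext (LinearMap.ext fun a => ?_)⟩
    exact congrArg (fun t => t.ofConv x) (hf a)

end Groth.Agent.S15893
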