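import Groth.Statements.S15895
import Groth.Agent.Lib.CartDual23.Basic

set_option autoImplicit false
universe u
open scoped TensorProduct
open Versch

namespace Groth.Agent.S15895

open scoped TensorProduct

/-- Let p be a prime, R a commutative ring of characteristic p and B = Hom_R(R[ℤ/p], R) the dual Hopf
algebra of the group algebra of the cyclic group of order p: the Hopf algebra of the constant group
scheme ℤ/p over Spec R (the Cartier dual of μ_p). Let v : B → B ⊗_R R^(Frob) be the comorphism of
the Verschiebung V : (ℤ/p)^(p) → ℤ/p (the ring map whose transpose under the canonical pairing is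
the relative Frobenius of the dual Hopf algebra of B). Then V is the trivial homomorphism: v is the
composite of the counit ε : B → R, the identity of underlying rings R → R^(Frob) and the inclusion
of the twisted factor R^(Frob) → B ⊗_R R^(Frob), i.e. v(b) = 1 ⊗ ε(b). -/
theorem result (p : ℕ) [Fact p.Prime] (R : Type u) [CommRing R]
    [CharP R p] (v : CartDual.D R (MonoidAlgebra R (Multiplicative (ZMod p))) →+* FrobAlg.BaseChange p R (CartDual.D R (MonoidAlgebra R (Multiplicative (ZMod p)))))
    (hv : Versch.IsVerschiebung p R (CartDual.D R (MonoidAlgebra R (Multiplicative (ZMod p)))) v) :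
    v = ((Algebra.TensorProduct.includeRight (R := R) (A := CartDual.D R (MonoidAlgebra R (Multiplicative (ZMod p))))
            (B := FrobAlg.Twist p R)).toRingHom.comp (FrobAlg.toTwist p R).toRingHom).comp
          (Bialgebra.counitAlgHom R (CartDual.D R (MonoidAlgebra R (Multiplicative (ZMod p))))).toRingHom := by

  refine Groth.Agent.CartDual23.verschiebung_trivial p R (CartDual.D R (MonoidAlgebra R (Multiplicative (ZMod p)))) (fun X b => ?_) v hv
  let ev : MonoidAlgebra R (Multiplicative (ZMod p)) →ₗ[R]
      CartDual.D R (CartDual.D R (MonoidAlgebra R (Multiplicative (ZMod p)))) :=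
    (CartDual.toDual R _).symm.toLinearMap ∘ₗ
      (CartDual.toDual R (MonoidAlgebra R (Multiplicative (ZMod p)))).toLinearMap.dualMap ∘ₗ
      Module.Dual.eval R _
  have hev : ∀ a y, ev a y = y a := fun _ _ => rfl
  let eva : MonoidAlgebra R (Multiplicative (ZMod p)) →ₐ[R]
      CartDual.D R (CartDual.D R (MonoidAlgebra R (Multiplicative (ZMod p)))) :=
    AlgHom.ofLinearMap ev
      (by
        apply WithConv.ext; apply LinearMap.ext; intro y
        show ev 1 y = _
        rw [hev, LinearMap.convOne_def]
        simp)
      (fun a a' => by
        apply WithConv.ext; apply LinearMap.ext; intro y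
        show ev (a * a') y = _
        rw [hev, LinearMap.convMul_def, WithConv.ofConv_toConv, LinearMap.comp_apply,
          LinearMap.comp_apply, ← CartDual.ev₂_coalgebra_comul_tmul]
        generalize Coalgebra.comul (R := R) y = t
        induction t using TensorProduct.induction_on with
        | zero => simp
        | add t t' ht ht' => simp only [map_add, LinearMap.add_apply, ht, ht']
        | tmul u w =>
          rw [CartDual.ev₂_tmul, TensorProduct.map_tmul, LinearMap.mul'_apply]
          rfl)
  obtain ⟨z, rfl⟩ : ∃ z, eva z = X := by
    obtain ⟨z, hz⟩ := (Module.evalEquiv R (MonoidAlgebra R (Multiplicative (ZMod p)))).surjective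
      (X.ofConv ∘ₗ (CartDual.toDual R (MonoidAlgebra R (Multiplicative (ZMod p)))).symm.toLinearMap)
    refine ⟨z, ?_⟩
    apply WithConv.ext
    refine LinearMap.ext fun y => ?_
    exact LinearMap.congr_fun hz y.ofConv
  have h1 : (eva z) 1 = Coalgebra.counit (R := R) z := by
    show ev z 1 = _
    rw [hev, CartDual.coe_apply, LinearMap.convOne_def]
    simp
  rw [← map_pow, Groth.Agent.CartDual23.monoidAlgebra_pow_p p R z, AlgHom.commutes, h1,
    CartDual.coe_apply, LinearMap.convAlgebraMap_apply]
  simp [CartDual.coe_apply]


end Groth.Agent.S15895
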