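import Groth.Statements.S15896
import Groth.Agent.Lib.UnitComp23.Basic
-- import your own Groth.Agent.* helpers here

set_option autoImplicit false
universe u
open scoped TensorProduct
open Hopf

namespace Groth.Agent.S15896

open scoped TensorProduct

theorem mulLeft_eq_of_mk {R : Type u} [CommRing R] {D : Type u} [CommRing D] [Algebra R D] {f : D} (hf : IsIdempotentElem f)
    (z : D ⊗[R] D) (x : D)
    (h : Algebra.TensorProduct.map (AlgHom.id R D) (Ideal.Quotient.mkₐ R (Ideal.span ({1 - f} : Set D))) z = x ⊗ₜ[R] 1) :
    LinearMap.lTensor D (LinearMap.mulLeft R f) z = x ⊗ₜ[R] f := by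
  let s : D ⧸ Ideal.span ({1 - f} : Set D) →ₗ[R] D :=
    Submodule.liftQ ((Ideal.span ({1 - f} : Set D)).restrictScalars R) (LinearMap.mulLeft R f) (fun x hx => by
      obtain ⟨c, rfl⟩ := Ideal.mem_span_singleton'.1 hx
      show f * (c * (1 - f)) = 0
      rw [mul_left_comm, mul_sub, mul_one, hf.eq, sub_self, mul_zero]) ∘ₗ
      (Submodule.Quotient.restrictScalarsEquiv R (Ideal.span ({1 - f} : Set D))).symm.toLinearMap
  have hs : ∀ a, s (Ideal.Quotient.mk _ a) = f * a := fun a => rfl
  have h1 : ∀ w : D ⊗[R] D, LinearMap.lTensor D s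
      (Algebra.TensorProduct.map (AlgHom.id R D) (Ideal.Quotient.mkₐ R (Ideal.span ({1 - f} : Set D))) w) =
      LinearMap.lTensor D (LinearMap.mulLeft R f) w := fun w => by
    induction w using TensorProduct.induction_on with
    | zero => simp
    | add a b ha hb => simp only [map_add, ha, hb]
    | tmul a b => simp [hs]
  have h2 := (h1 z).symm.trans (congrArg (LinearMap.lTensor D s) h)
  rw [LinearMap.lTensor_tmul, ← map_one (Ideal.Quotient.mk (Ideal.span ({1 - f} : Set D))), hs, mul_one] at h2
  exact h2


/-- Let R be a henselian Noetherian local ring and A a commutative and cocommutative Hopf algebra over R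
which is finitely generated and projective as an R-module (a finite flat commutative R-group G =
Spec A). Let e ∈ A be an idempotent with ε(e) = 1 such that the ideal (1 − e) is a Hopf ideal and A⁰
= A/(1 − e) is a local ring, projective over R, with cocommutative quotient structure (G⁰ = Spec A⁰
is the connected component of the unit section). Let B = Hom_R(A⁰, R) be the dual Hopf algebra (the
Cartier dual (G⁰)^D) and e' ∈ B an idempotent with ε(e') = 1 and B/(1 − e') local (the unit
component of (G⁰)^D). Say that x ∈ B is invariant when (id ⊗ (multiplication by e'))(Δ x) = x ⊗ e',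
i.e. x is invariant under translation by the unit component of (G⁰)^D, so that the invariant
elements form the Hopf algebra of the maximal étale quotient of (G⁰)^D; the ideal in A⁰ of the
closed subgroup G_μ ⊆ G⁰ ⊆ G consists of the elements annihilated by every invariant x (G_μ is the
Cartier dual of the étale quotient of (G⁰)^D, a connected multiplicative subgroup of G). Then G_μ is
the largest connected multiplicative closed subgroup of G: for every Hopf ideal J of A such that A/J
is a local ring, projective over R, cocommutative, and has étale dual Hopf algebra Hom_R(A/J, R) (H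
= Spec A/J a connected closed subgroup with étale Cartier dual), every a ∈ A whose image in A⁰ is
annihilated by all invariant x lies in J, i.e. H ⊆ G_μ. -/
theorem result (R : Type u) [CommRing R]
    [HenselianLocalRing R] [IsNoetherianRing R] (A : Type u) [CommRing A] [HopfAlgebra R A] [Coalgebra.IsCocomm R A]
    [Module.Finite R A] [Module.Projective R A] (e : A) (he : IsIdempotentElem e)
    (hε : Bialgebra.counitAlgHom R A e = 1) [(Ideal.span ({1 - e} : Set A)).IsHopfIdeal R] [IsLocalRing (A ⧸ Ideal.span ({1 - e} : Set A))]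
    [Module.Projective R (A ⧸ Ideal.span ({1 - e} : Set A))] [Coalgebra.IsCocomm R (A ⧸ Ideal.span ({1 - e} : Set A))]
    (e' : CartDual.D R (A ⧸ Ideal.span ({1 - e} : Set A))) (he' : IsIdempotentElem e')
    (hε' : Bialgebra.counitAlgHom R (CartDual.D R (A ⧸ Ideal.span ({1 - e} : Set A))) e' = 1)
    [IsLocalRing (CartDual.D R (A ⧸ Ideal.span ({1 - e} : Set A)) ⧸ Ideal.span ({1 - e'} : Set (CartDual.D R (A ⧸ Ideal.span ({1 - e} : Set A)))))]
    (J : Ideal A) [J.IsHopfIdeal R] [IsLocalRing (A ⧸ J)] [Module.Projective R (A ⧸ J)]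
    [Coalgebra.IsCocomm R (A ⧸ J)] [Algebra.Etale R (CartDual.D R (A ⧸ J))]
    (a : A) (ha : ∀ x : CartDual.D R (A ⧸ Ideal.span ({1 - e} : Set A)), LinearMap.lTensor (CartDual.D R (A ⧸ Ideal.span ({1 - e} : Set A))) (LinearMap.mulLeft R e') (Coalgebra.comul (R := R) x) = x ⊗ₜ[R] e' → x (Ideal.Quotient.mk (Ideal.span ({1 - e} : Set A)) a) = 0) :
    a ∈ J := by
  set A₀ := A ⧸ Ideal.span ({1 - e} : Set A)
  have hle : Ideal.span ({1 - e} : Set A) ≤ J := by
    refine Ideal.span_le.2 fun z hz => Ideal.Quotient.eq_zero_iff_mem.1 ?_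
    obtain rfl : z = 1 - e := hz
    rw [map_sub, map_one, sub_eq_zero]
    have hid : IsIdempotentElem (Ideal.Quotient.mk J e) := he.map _
    rcases IsLocalRing.isUnit_or_isUnit_one_sub_self (Ideal.Quotient.mk J e) with h | h
    · exact (h.mul_left_cancel (hid.eq.trans (mul_one _).symm)).symm
    · have h0 : Ideal.Quotient.mk J e = 0 := h.mul_left_cancel (by rw [sub_mul, one_mul, hid.eq, sub_self, mul_zero])
      have h1 : Bialgebra.counitAlgHom R (A ⧸ J) (Ideal.Quotient.mk J e) = Bialgebra.counitAlgHom R A e := rfl
      rw [h0, map_zero, hε] at h1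
      exact absurd h1 zero_ne_one
  let g' : A₀ →ₐ[R] A ⧸ J := Ideal.Quotient.factorₐ R hle
  let g : A₀ →ₐc[R] A ⧸ J := BialgHom.ofAlgHom g'
    (Ideal.Quotient.algHom_ext R (AlgHom.ext fun x => rfl))
    (Ideal.Quotient.algHom_ext R (AlgHom.ext fun x => by
      show Algebra.TensorProduct.map g' g' (Algebra.TensorProduct.map (Ideal.Quotient.mkₐ R _) (Ideal.Quotient.mkₐ R _)
        (Bialgebra.comulAlgHom R A x)) = Algebra.TensorProduct.map (Ideal.Quotient.mkₐ R J) (Ideal.Quotient.mkₐ R J)
        (Bialgebra.comulAlgHom R A x)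
      generalize Bialgebra.comulAlgHom R A x = w
      induction w using TensorProduct.induction_on with
      | zero => simp
      | add a b ha hb => simp only [map_add, ha, hb]
      | tmul a b => rfl))
  haveI : Module.Finite R A₀ := Module.Finite.of_surjective (Ideal.Quotient.mkₐ R _).toLinearMap Ideal.Quotient.mk_surjective
  haveI : Module.Finite R (A ⧸ J) := Module.Finite.of_surjective (Ideal.Quotient.mkₐ R J).toLinearMap Ideal.Quotient.mk_surjective
  have key : ∀ y : CartDual.D R (A ⧸ J), y (Ideal.Quotient.mk J a) = 0 := fun y => by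
    refine ha (CartDual.transpose R g y) (mulLeft_eq_of_mk he' _ _ ?_)
    exact UnitComp23.etale_invariant e' hε' (CartDual.transpose R g) y
  refine Ideal.Quotient.eq_zero_iff_mem.1 ((Module.forall_dual_apply_eq_zero_iff R _).1 fun φ => ?_)
  exact key (WithConv.toConv φ)

end Groth.Agent.S15896
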