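import Groth.Statements.S15898
import Groth.Agent.Lib.MTDual29.Split
import Groth.Agent.Lib.MTDual29.Isotrivial

set_option autoImplicit false
universe u
open SGA3b

namespace Groth.Agent.S15898

/-- Let R be a Noetherian ring whose spectrum is connected and A a commutative and cocommutative Hopf
algebra over R which is finitely generated and projective as an R-module (a finite flat commutative
group scheme G = Spec A over the connected base S = Spec R). Then G is multiplicative, i.e. the dual
Hopf algebra Hom_R(A, R) of the Cartier dual G^D is étale over R, if and only if A is isotrivial:
for some finite étale faithfully flat R-algebra R' the base change R' ⊗_R A is isomorphic as an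
R'-bialgebra to the group algebra R'[M] of a commutative group M (G becomes a diagonalizable group
after a finite étale surjective base change). -/
theorem result (R : Type u) [CommRing R] [IsNoetherianRing R]
    [ConnectedSpace (PrimeSpectrum R)] (A : Type u) [CommRing A] [HopfAlgebra R A] [Coalgebra.IsCocomm R A]
    [Module.Finite R A] [Module.Projective R A] :
    Algebra.Etale R (CartDual.D R A) ↔ SGA3b.IsIsotrivial R A := by
  constructor
  · intro h
    exact MTDual29.isIsotrivial_of_etale_dual
  · intro h
    have := MTDual29.nontrivial_of_connected (R := R)
    obtain ⟨U, _, _, _, _, hU, M, _, ⟨e⟩⟩ := h
    exact MTDual29.etale_dual_of_split e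

end Groth.Agent.S15898
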