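import Groth.Statements.S1590
import Groth.Agent.Lib.NodalCrit14.Sub
import Groth.Agent.Lib.NodalCrit14.Curve
import Groth.Agent.Lib.GrpHomog20.Field
import Groth.Agent.S1586

set_option autoImplicit false
universe u
open CategoryTheory CategoryTheory.Limits AlgebraicGeometry
open Curves

namespace Groth.Agent.S1590

open CategoryTheory CategoryTheory.Limits AlgebraicGeometry IsLocalRing

set_option linter.style.haveILetI false
set_option backward.isDefEq.respectTransparency.types false

theorem exists_regular_mem {R : Type u} [CommRing R] [IsLocalRing R] [IsNoetherianRing R] [_root_.IsReduced R]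
    (h : ∃ x y : PrimeSpectrum R, x ≠ y) : ∃ t ∈ maximalIdeal R, IsSMulRegular R t := by
  by_contra hc
  push Not at hc
  let s := (minimalPrimes.finite_of_isNoetherianRing R).toFinset
  have hsub : (maximalIdeal R : Set R) ⊆ ⋃ p ∈ (s : Set (Ideal R)), (p : Set R) := by
    intro t ht
    obtain ⟨y, hy, hy0⟩ : ∃ y, t * y = 0 ∧ y ≠ 0 := by
      by_contra hh
      push Not at hh
      exact hc t ht (isSMulRegular_iff_right_eq_zero_of_smul.2 fun y hy => hh y hy)
    obtain ⟨p, hp, hyp⟩ : ∃ p ∈ minimalPrimes R, y ∉ p := by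
      by_contra hh
      push Not at hh
      refine hy0 (IsNilpotent.eq_zero ?_)
      rw [← mem_nilradical, nilradical, Ideal.zero_eq_bot, ← Ideal.sInf_minimalPrimes]
      exact Ideal.mem_sInf.2 fun hI hI' => hh hI hI'
    exact Set.mem_biUnion (by simpa [s] using hp)
      ((hp.1.1.mem_or_mem (hy ▸ p.zero_mem)).resolve_right hyp)
  obtain ⟨p, hp, hle⟩ := (Ideal.subset_union_prime (f := id) ⊥ ⊥
    (fun i hi _ _ => ((Set.Finite.mem_toFinset _).1 hi).1.1)).1 hsub
  have hp' : p ∈ minimalPrimes R := (Set.Finite.mem_toFinset _).1 hp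
  have hmax : ∀ x : PrimeSpectrum R, x.asIdeal = maximalIdeal R := fun x => by
    refine le_antisymm (le_maximalIdeal x.isPrime.ne_top) ?_
    exact hle.trans (hp'.2 ⟨x.isPrime, bot_le⟩ ((le_maximalIdeal x.isPrime.ne_top).trans hle))
  obtain ⟨x, y, hxy⟩ := h
  exact hxy (PrimeSpectrum.ext ((hmax x).trans (hmax y).symm))

theorem exists_regular_stalk {Y : Scheme.{u}} [IsLocallyNoetherian Y] [IsReduced Y]
    (hY : ∀ Z ∈ irreducibleComponents (Y : Type u), topologicalKrullDim Z = 1) {y : Y}
    (hy : IsClosed ({y} : Set Y)) : ∃ t ∈ maximalIdeal (Y.presheaf.stalk y), IsSMulRegular (Y.presheaf.stalk y) t := by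
  refine exists_regular_mem ?_
  by_contra hh
  push Not at hh
  have hmax : FlatH4.IsMaxPt y := fun z hz => by
    obtain ⟨a, ha⟩ := (Y.range_fromSpecStalk (x := y)).ge hz
    obtain ⟨b, hb⟩ := (Y.range_fromSpecStalk (x := y)).ge (specializes_refl y : y ⤳ y)
    exact ha.symm.trans ((congrArg (Y.fromSpecStalk y) (hh a b)).trans hb)
  have h1 := GrpHomog20.closure_mem_irreducibleComponents hmax
  rw [hy.closure_eq] at h1
  have h2 := hY _ h1
  haveI : Subsingleton ↥({y} : Set Y) := ⟨fun a b => Subtype.ext (a.2.trans b.2.symm)⟩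
  haveI : Subsingleton (TopologicalSpace.IrreducibleCloseds ↥({y} : Set Y)) := ⟨fun a b =>
    TopologicalSpace.IrreducibleCloseds.ext ((Subsingleton.eq_univ_of_nonempty a.isIrreducible.nonempty).trans
      (Subsingleton.eq_univ_of_nonempty b.isIrreducible.nonempty).symm)⟩
  have h3 : topologicalKrullDim ↥({y} : Set Y) ≤ 0 := Order.krullDim_nonpos_of_subsingleton
  rw [h2] at h3
  exact absurd h3 (by decide)

theorem good_subscheme (k : Type u) [Field k] (X : Scheme.{u}) [X.Over (Spec (CommRingCat.of k))]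
    [LocallyOfFiniteType (X ↘ (Spec (CommRingCat.of k)))]
    (hg : Nodal27.Good (Curv2.bcSnd k X (AlgebraicClosure k)))
    {Y : Scheme.{u}} (ι : Y ⟶ X) [IsClosedImmersion ι] [IsReduced Y] [Y.Over (Spec (CommRingCat.of k))]
    (hι : ι ≫ (X ↘ Spec (CommRingCat.of k)) = Y ↘ Spec (CommRingCat.of k))
    [LocallyOfFiniteType (Y ↘ (Spec (CommRingCat.of k)))]
    (hY : ∀ Z ∈ irreducibleComponents (Y : Type u), topologicalKrullDim Z = 1) :
    Nodal27.Good (Curv2.bcSnd k Y (AlgebraicClosure k)) := by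
  let K := AlgebraicClosure k
  let σ := Spec.map (CommRingCat.ofHom (algebraMap k K))
  haveI : Flat σ := (HasRingHomProperty.Spec_iff (P := @Flat)).2 (RingHom.flat_algebraMap_iff.2 inferInstance)
  haveI : LocallyOfFiniteType (Curv2.bcSnd k X K) := inferInstanceAs (LocallyOfFiniteType (pullback.snd _ _))
  haveI : LocallyOfFiniteType (Curv2.bcSnd k Y K) := inferInstanceAs (LocallyOfFiniteType (pullback.snd _ _))
  haveI : IsLocallyNoetherian (Curv2.bc k X K) := LocallyOfFiniteType.isLocallyNoetherian (Curv2.bcSnd k X K)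
  haveI : IsLocallyNoetherian (Curv2.bc k Y K) := LocallyOfFiniteType.isLocallyNoetherian (Curv2.bcSnd k Y K)
  haveI : IsLocallyNoetherian Y := LocallyOfFiniteType.isLocallyNoetherian (Y ↘ Spec (CommRingCat.of k))
  let J : Curv2.bc k Y K ⟶ Curv2.bc k X K :=
    pullback.lift (Curv2.bcFst k Y K ≫ ι) (Curv2.bcSnd k Y K)
      (by rw [Category.assoc, hι]; exact pullback.condition)
  have top : IsPullback (Curv2.bcFst k Y K) J ι (Curv2.bcFst k X K) := by
    refine IsPullback.of_bot ?_ (pullback.lift_fst _ _ _).symm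
      (IsPullback.of_hasPullback (X ↘ Spec (CommRingCat.of k)) σ)
    rw [pullback.lift_snd, hι]
    exact IsPullback.of_hasPullback _ _
  haveI : IsClosedImmersion J := MorphismProperty.of_isPullback top.flip.flip inferInstance
  have hJ : J ≫ Curv2.bcSnd k X K = Curv2.bcSnd k Y K := pullback.lift_snd _ _ _
  refine ⟨fun y => ?_, fun yb hyb => ?_⟩
  · refine (DimF18.localDim_bc (IsPullback.of_hasPullback (Y ↘ Spec (CommRingCat.of k)) σ) y).trans ?_
    exact (Nodal27.components_iff (Y ↘ Spec (CommRingCat.of k))).1 hY _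
  obtain ⟨t, ht, htreg⟩ := exists_regular_stalk hY ((Nodal27.isClosed_bc_iff Y k yb).1 hyb)
  haveI : Flat (Curv2.bcFst k Y K) := inferInstanceAs (Flat (pullback.fst _ σ))
  let ψ := ((Curv2.bcFst k Y K).stalkMap yb).hom
  have hψ : IsSMulRegular ((Curv2.bc k Y K).presheaf.stalk yb) (ψ t) := by
    letI := ψ.toAlgebra
    haveI : Module.Flat (Y.presheaf.stalk (Curv2.bcFst k Y K yb)) ((Curv2.bc k Y K).presheaf.stalk yb) :=
      Flat.stalkMap (Curv2.bcFst k Y K) yb
    exact IsSMulRegular.of_flat htreg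
  have hψm : ψ t ∈ maximalIdeal _ := fun hu => ht ((isUnit_map_iff ψ t).1 hu)
  let φ := (J.stalkMap yb).hom
  have hφ : Function.Surjective φ := J.stalkMap_surjective yb
  have hcl : IsClosed ({J yb} : Set ↥(Curv2.bc k X K)) := by
    rw [← Set.image_singleton]; exact J.isClosedMap _ hyb
  have hreg : IsRegularLocalRing ((Curv2.bc k Y K).presheaf.stalk yb) →
      Nodal27.GoodAt (Curv2.bcSnd k Y K) yb := fun h =>
    Or.inl ((Nodal27.mem_smoothLocus_iff_isRegular _ hyb).2 h)
  rcases hg.2 _ hcl with hs | ho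
  · refine hreg ?_
    haveI := (Nodal27.mem_smoothLocus_iff_isRegular _ hcl).1 hs
    haveI : IsDomain ((Curv2.bc k X K).presheaf.stalk (J yb)) := RegLoc.isDomain _
    have hker : RingHom.ker φ = ⊥ := by
      by_contra hne
      haveI : Ring.KrullDimLE 1 ((Curv2.bc k X K).presheaf.stalk (J yb)) := Ring.krullDimLE_iff.2 (by
        rw [NodalCrit14.ringKrullDim_stalk_of_isClosed (Curv2.bcSnd k X K) hcl, hg.1]
        rfl)
      obtain ⟨t0, ht0⟩ := hφ (ψ t)
      have hrad : t0 ∈ (RingHom.ker φ).radical := by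
        rw [Ideal.radical_eq_sInf, Ideal.mem_sInf]
        rintro Q ⟨hQ, hQp⟩
        haveI := hQp
        haveI := Ideal.isMaximal_of_isPrime_of_ne_bot Q fun h => hne (le_bot_iff.1 (h ▸ hQ))
        rw [IsLocalRing.eq_maximalIdeal (inferInstance : Q.IsMaximal)]
        exact fun hu => hψm (ht0 ▸ hu.map φ)
      obtain ⟨n, hn⟩ := hrad
      rw [RingHom.mem_ker, map_pow, ht0] at hn
      exact one_ne_zero ((hψ.pow n) (by simp only [smul_eq_mul, hn, zero_mul, mul_zero] : ψ t ^ n • (1 : (Curv2.bc k Y K).presheaf.stalk yb) = ψ t ^ n • 0))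
    exact IsRegularLocalRing.of_ringEquiv (RingEquiv.ofBijective φ
      ⟨(RingHom.injective_iff_ker_eq_bot φ).2 hker, hφ⟩)
  · letI : (Curv2.bc k X K).Over (Spec (CommRingCat.of K)) := ⟨Curv2.bcSnd k X K⟩
    letI : (Curv2.bc k Y K).Over (Spec (CommRingCat.of K)) := ⟨Curv2.bcSnd k Y K⟩
    letI := Curv2.stalkAlgebra K (Curv2.bc k X K) (J yb)
    letI := Curv2.stalkAlgebra K (Curv2.bc k Y K) yb
    obtain ⟨e, he⟩ := Nodal27.isOrdDoublePt_of_nodeData (K := K) ho
    rcases NodalCrit14.bijective_or_regular K e φ hφ (ψ t) hψm hψ with hb | hr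
    · refine Or.inr ?_
      let E : (Curv2.bc k X K).presheaf.stalk (J yb) ≃ₐ[K] (Curv2.bc k Y K).presheaf.stalk yb :=
        AlgEquiv.ofBijective
          ({ φ with
            commutes' := fun c => by
              show φ (RegSmooth17.toStalk (Curv2.bcSnd k X K) (J yb) c) = RegSmooth17.toStalk (Curv2.bcSnd k Y K) yb c
              rw [← hJ]
              exact Nodal27.stalkMap_toStalk J (Curv2.bcSnd k X K) yb c } :
            (Curv2.bc k X K).presheaf.stalk (J yb) →ₐ[K] (Curv2.bc k Y K).presheaf.stalk yb) hb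
      obtain ⟨C, hC⟩ := S1586.exists_cplEquiv_map E.toRingEquiv
      obtain ⟨e', he'⟩ := Nodal27.isOrdDoublePt_of_nodeData (K := K) ho
      refine Nodal27.isOrdDoublePt_iff.1 ⟨C.symm.trans e', fun c => ?_⟩
      rw [RingEquiv.trans_apply, ← E.commutes c, show E (algebraMap K _ c) = E.toRingEquiv (algebraMap K _ c) from rfl,
        ← hC, RingEquiv.symm_apply_apply]
      exact he' c
    · exact hreg hr

/-- Let X be locally of finite type over k, with all irreducible components of dimension one and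
at-worst-nodal singularities. A reduced closed subscheme Y of X all of whose irreducible components
have dimension one again has at-worst-nodal singularities. -/
theorem result (k : Type u) [Field k] (X : Scheme.{u}) [X.Over (Spec (CommRingCat.of k))] [LocallyOfFiniteType (X ↘ (Spec (CommRingCat.of k)))]
    (hequi : ∀ Z ∈ irreducibleComponents (X : Type u), topologicalKrullDim Z = 1) (hX : Curv2.AtWorstNodal k X)
    (I : X.IdealSheafData) [IsReduced I.subscheme]
    (hY : ∀ Z ∈ irreducibleComponents (I.subscheme : Type u), topologicalKrullDim Z = 1) :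
    @Curv2.AtWorstNodal k _ I.subscheme ⟨I.subschemeι ≫ (X ↘ (Spec (CommRingCat.of k)))⟩ := by
  let f := X ↘ (Spec (CommRingCat.of k))
  letI : I.subscheme.Over (Spec (CommRingCat.of k)) := ⟨I.subschemeι ≫ f⟩
  haveI : LocallyOfFiniteType (I.subscheme ↘ Spec (CommRingCat.of k)) :=
    inferInstanceAs (LocallyOfFiniteType (I.subschemeι ≫ f))
  exact ((Nodal27.good_bar_iff I.subscheme k).1
    (good_subscheme k X ((Nodal27.good_bar_iff X k).2 ⟨hequi, hX⟩) I.subschemeι rfl hY)).2

end Groth.Agent.S1590
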