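import Groth.Statements.S15900
import Groth.Agent.Lib.KoszShH13.Cx

set_option autoImplicit false
universe u
open CategoryTheory AlgebraicGeometry Opposite
open KoszSh

namespace Groth.Agent.S15900

set_option backward.isDefEq.respectTransparency false
set_option backward.isDefEq.respectTransparency.types false
set_option maxHeartbeats 800000

/-- Let X be a scheme, E and F finite locally free O_X-modules with cosections s : E → O_X and t : F →
O_X, and let f : E → F be a morphism of O_X-modules with t ∘ f = s. Then for every Koszul complex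
K(E, s) of s and every Koszul complex K(F, t) of t there is a unique morphism of chain complexes of
O_X-modules K(E, s) → K(F, t) whose degree-p component sends, on sections over every affine open U,
the decomposable section e_1 ∧ … ∧ e_p to f(e_1) ∧ … ∧ f(e_p), for all e_1, …, e_p in E(U) and all p
≥ 0 (the p-th exterior power of f, read through the affine-local identifications of the terms with
exterior powers of sections). (The published statement is for arbitrary O_X-modules with a map to
O_X; this row takes E and F locally free of finite rank, the case the surrounding text works in.) -/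
theorem result {X : Scheme.{u}} (E F : X.Modules)
    (hE : FlatMod.IsFinLocFree E) (hF : FlatMod.IsFinLocFree F)
    (s : E ⟶ Coh.structureModule X) (t : F ⟶ Coh.structureModule X) (f : E ⟶ F) (hf : f ≫ t = s)
    (C : KoszSh.Cx E s) (D : KoszSh.Cx F t) :
    ∃! φ : C.K ⟶ D.K, ∀ (p : ℕ) (U : X.affineOpens) (e : Fin p → Γ(E, U.1)),
      (φ.f p).app U.1 ((C.loc p U).symm (exteriorPower.ιMulti _ p e)) =
        (D.loc p U).symm (exteriorPower.ιMulti _ p (fun j => f.app U.1 (e j))) := by
  let ψ : ∀ (p : ℕ) (U : X.affineOpens), Γ(C.K.X p, U.1) →ₗ[Γ(X, U.1)] Γ(D.K.X p, U.1) := fun p U =>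
    (D.loc p U).symm.toLinearMap.comp
      ((exteriorPower.map p (KoszShH13.appLin f U.1)).comp (C.loc p U).toLinearMap)
  have hψ : ∀ (p : ℕ) (U : X.affineOpens) (e : Fin p → Γ(E, U.1)),
      ψ p U ((C.loc p U).symm (exteriorPower.ιMulti _ p e)) =
        (D.loc p U).symm (exteriorPower.ιMulti _ p (fun j => f.app U.1 (e j))) := fun p U e => by
    simp only [ψ, LinearMap.comp_apply, LinearEquiv.coe_coe, LinearEquiv.apply_symm_apply,
      exteriorPower.map_apply_ιMulti]
    rfl
  have hres : ∀ p (V W : X.affineOpens) (h : W.1 ≤ V.1) (m : Γ(C.K.X p, V.1)),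
      M1.mres (D.K.X p) h (ψ p V m) = ψ p W (M1.mres (C.K.X p) h m) := fun p V W h m => by
    obtain ⟨x, rfl⟩ := (C.loc p V).symm.surjective m
    refine KoszShH13.extPow_ext
      (((M1.mres (D.K.X p) h).hom.comp (ψ p V).toAddMonoidHom).comp (C.loc p V).symm.toLinearMap.toAddMonoidHom)
      (((ψ p W).toAddMonoidHom.comp (M1.mres (C.K.X p) h).hom).comp (C.loc p V).symm.toLinearMap.toAddMonoidHom)
      (fun c e => ?_) x
    show M1.mres (D.K.X p) h (ψ p V ((C.loc p V).symm (c • _))) =
      ψ p W (M1.mres (C.K.X p) h ((C.loc p V).symm (c • _)))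
    rw [map_smul, map_smul, hψ, M1.mres_smul, M1.mres_smul, map_smul]
    congr 1
    refine (D.loc_res p V W h _).trans ?_
    refine Eq.trans ?_ (congrArg (ψ p W) (C.loc_res p V W h e).symm)
    rw [hψ]
    congr 2
    funext j
    exact (M1.map_app_eq f h (e j)).symm
  choose g hg using fun p => KoszShH13.exists_glue KoszShH13.isAffBasis_top (M := C.K.X p) (N := D.K.X p)
    (fun U _ => (ψ p U).toAddMonoidHom) (fun U _ r m => map_smul (ψ p U) r m)
    (fun V _ W _ h m => hres p V W h m)
  have hst : ∀ U : X.Opens, (KoszSh.secForm t U).comp (KoszShH13.appLin f U) = KoszSh.secForm s U := fun U => by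
    refine LinearMap.ext fun e => ?_
    subst hf
    rfl
  refine ⟨{ f := g, comm' := fun i j hij => ?_ }, fun p U e => ?_, fun φ hφ => ?_⟩
  · obtain rfl : i = j + 1 := hij.symm
    refine KoszShH13.hom_ext_basis KoszShH13.isAffBasis_top fun U _ m => ?_
    obtain ⟨x, rfl⟩ := (C.loc (j + 1) U).symm.surjective m
    show (D.K.d (j + 1) j).app U.1 ((g (j + 1)).app U.1 _) = (g j).app U.1 ((C.K.d (j + 1) j).app U.1 _)
    rw [hg _ U trivial, KoszShH13.d_app, hg _ U trivial]
    show (D.K.d (j + 1) j).app U.1 (ψ (j + 1) U _) = ψ j U _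
    simp only [ψ, LinearMap.comp_apply, LinearEquiv.coe_coe, LinearEquiv.apply_symm_apply]
    rw [KoszShH13.d_app, KoszShH13.dK_map _ _ _ (hst U.1)]
  · exact (hg p U trivial _).trans (hψ p U e)
  · refine HomologicalComplex.hom_ext _ _ fun p => KoszShH13.hom_ext_basis KoszShH13.isAffBasis_top fun U _ m => ?_
    obtain ⟨x, rfl⟩ := (C.loc p U).symm.surjective m
    show (φ.f p).app U.1 _ = (g p).app U.1 _
    rw [hg p U trivial]
    refine KoszShH13.extPow_ext (((φ.f p).app U.1).hom.comp (C.loc p U).symm.toLinearMap.toAddMonoidHom)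
      ((ψ p U).toAddMonoidHom.comp (C.loc p U).symm.toLinearMap.toAddMonoidHom) (fun c e => ?_) x
    show (φ.f p).app U.1 ((C.loc p U).symm (c • _)) = ψ p U ((C.loc p U).symm (c • _))
    rw [map_smul, map_smul (ψ p U), hψ]
    exact ((φ.f p).app_smul c _).trans (congrArg (c • ·) (hφ p U e))


end Groth.Agent.S15900
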