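import Groth.Statements.S15901
import Groth.Agent.Lib.KoszShH13.Main

set_option autoImplicit false
set_option backward.isDefEq.respectTransparency false
set_option backward.isDefEq.respectTransparency.types false
universe u
open CategoryTheory AlgebraicGeometry Opposite
open KoszSh

namespace Groth.Agent.S15901

/-- Let X be a scheme and let Y_1, …, Y_n and D be effective Cartier divisors on X, given by their ideal
sheaves I_1, …, I_n and I_D (each locally generated by a single non-zero-divisor), so that I_i =
O(-Y_i) and I_i · I_D = O(-Y_i - D). Let K be a Koszul complex of the cosection ⊕_i O(-Y_i) → O_X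
(sum of the inclusions), whose homology sheaves H_q = Z_q / B_q compute Tor_q^{O_X}(O_{Y_1}, …,
O_{Y_n}), with cycle sheaves Z_q and quotient maps π_q : Z_q → H_q; and let K' be a Koszul complex
of the cosection ⊕_i O(-Y_i - D) → O_X, whose homology sheaves compute Tor_q^{O_X}(O_{Y_1 + D}, …,
O_{Y_n + D}). Fix q ≥ 0 and assume that on every affine open U over which I_D is generated by a
non-zero-divisor x, multiplication by x is injective on H_q(U) (when X is locally Noetherian this
says that D contains no associated point of H_q). Write M|_D = i_* i^* M for the restriction of an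
O_X-module to D followed by direct image along i : D → X, with its canonical map M → M|_D. Then the
q-th homology sheaf of K' is isomorphic, as an O_X-module, to P ⊗ I_D^{⊗ q} = P(-qD), where P is the
fibre product of π_q|_D : Z_q|_D → H_q|_D and the canonical map H_q → H_q|_D; equivalently
Tor_q(O_{Y_1+D}, …, O_{Y_n+D}) is the top left corner of a cartesian square whose other corners are
Z_q(-qD)|_D, Tor_q(O_{Y_1}, …, O_{Y_n})(-qD) and Tor_q(O_{Y_1}, …, O_{Y_n})(-qD)|_D (existence of an
isomorphism with the fibre product; the published statement takes X smooth over an algebraically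
closed base field of characteristic zero and assumes the condition on associated points for every q,
while the argument is local and uses only the hypotheses kept here). -/
theorem result {X : Scheme.{u}} (n : ℕ)
    (IY : Fin n → X.IdealSheafData) (hY : ∀ i, BlowUp.IsEffCartierIdeal (IY i))
    (ID : X.IdealSheafData) (hD : BlowUp.IsEffCartierIdeal ID)
    (C : KoszSh.Cx (∐ fun i => ClSub.idealMod (IY i)) (Limits.Sigma.desc fun i => ClSub.idealModι (IY i)))
    (C' : KoszSh.Cx (∐ fun i => ClSub.idealMod (IY i * ID)) (Limits.Sigma.desc fun i => ClSub.idealModι (IY i * ID)))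
    (q : ℕ)
    (hreg : ∀ (U : X.affineOpens) (x : Γ(X, U.1)), x ∈ nonZeroDivisors Γ(X, U.1) → ID.ideal U = Ideal.span {x} →
      IsSMulRegular Γ(C.K.homology q, U.1) x) :
    Nonempty (C'.K.homology q ≅ CohB1.tensorMod
      (Limits.pullback
        ((Scheme.Modules.pullback ID.subschemeι ⋙ Scheme.Modules.pushforward ID.subschemeι).map (C.K.homologyπ q))
        ((Scheme.Modules.pullbackPushforwardAdjunction ID.subschemeι).unit.app (C.K.homology q)))
      (CohB1.tensorPow (ClSub.idealMod ID) q)) := by
  exact KoszShH13.homology_iso C C' q (KoszShH13.isAffBasis_good hY hD) hreg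

end Groth.Agent.S15901
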