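import Groth.Statements.S15902
import Groth.Agent.Lib.KoszShH13.Lci2

set_option autoImplicit false
set_option backward.isDefEq.respectTransparency false
set_option backward.isDefEq.respectTransparency.types false
universe u
open CategoryTheory AlgebraicGeometry Opposite
open KoszSh

namespace Groth.Agent.S15902

/-- Let X be a locally Noetherian scheme all of whose local rings are Cohen–Macaulay, i : Y → X a closed
immersion and c a natural number such that Y is a local complete intersection of codimension c in
the following sense: around every point of Y there is an affine open of X on which c sections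
generate the ideal sheaf of Y, and for every point y of Y the ideal of Y in the local ring O_{X,y}
(the kernel of O_{X,y} → O_{Y,y}) has height at least c. Then around every point of Y there is an
affine open U of X and sections f_1, …, f_c ∈ Γ(X, U) which generate the ideal of Y on U and form a
weakly regular sequence in Γ(X, U); consequently, on the open subscheme U, for every cosection s :
O_U^c → O_U sending the k-th standard basis section to f_k and every Koszul complex K(O_U^c, s) of
s, the homology sheaves of K(O_U^c, s) vanish in every degree q ≥ 1, so that K(O_U^c, s) is a finite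
free resolution of the restriction of i_*O_Y to U. (The published statement takes Y a local complete
intersection in a smooth variety X over a field, the ideal being generated near each closed point by
codim(Y, X) elements, and asserts the existence of such a neighbourhood with a free Koszul
resolution; the hypotheses here are what that gives at every point of Y over a Cohen–Macaulay base,
the existence of the Koszul complex is not asserted, and the resolution property is stated for every
Koszul complex of the local free pair.) -/
theorem result {X Y : Scheme.{u}}
    [IsLocallyNoetherian X] (hCM : ∀ x : X, LocCoh.IsCohenMacaulayLocalRing (X.presheaf.stalk x))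
    (i : Y ⟶ X) [IsClosedImmersion i] (c : ℕ)
    (hgen : ∀ y : Y, ∃ U : X.affineOpens, i.base y ∈ U.1 ∧ ∃ g : Fin c → Γ(X, U.1), i.ker.ideal U = Ideal.span (Set.range g))
    (hht : ∀ y : Y, (c : ℕ∞) ≤ (RingHom.ker (i.stalkMap y).hom).height) :
    ∀ y : Y, ∃ U : X.affineOpens, i.base y ∈ U.1 ∧ ∃ f : Fin c → Γ(X, U.1),
      i.ker.ideal U = Ideal.span (Set.range f) ∧ RingTheory.Sequence.IsWeaklyRegular Γ(X, U.1) (List.ofFn f) ∧
      ∀ (s : FlatMod.freeMod (↑U.1) c ⟶ Coh.structureModule (↑U.1)),
        (∀ k : Fin c, KoszSh.secForm s ⊤ ((Limits.Sigma.ι (fun _ : Fin c => Coh.structureModule (↑U.1)) k).app ⊤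
            (OmegaSh.strSect (↑U.1) ⊤ 1)) = U.1.topIso.inv (f k)) →
        ∀ (C : KoszSh.Cx (FlatMod.freeMod (↑U.1) c) s) (q : ℕ), 1 ≤ q → Limits.IsZero (C.K.homology q) := by
  intro y
  obtain ⟨U, hyU, f, hf, hreg⟩ := KoszShH13.exists_regular_generators hCM i c hgen hht y
  exact ⟨U, hyU, f, hf, hreg, fun s hs C q hq =>
    KoszShH13.isZero_homology_of_top_regular U f hreg s hs C q hq⟩

end Groth.Agent.S15902
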