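import Groth.Statements.S15906
import Groth.Agent.Lib.DPLat.Orbits
import Mathlib.Data.Fin.Tuple.Sort
import Mathlib.Tactic.FinCases

set_option autoImplicit false
open Surf

namespace Groth.Agent.S15906

open W4c3severiratdp in
/-- Work in the lattice of vectors (a; b_1, …, b_δ), standing for divisor classes a ℓ − Σ b_i e_i on the
blow-up of the projective plane at δ points written in a standard basis, with intersection form a a'
− Σ b_i b_i' and canonical class K = (−3; −1, …, −1); a conic class is a class Q with Q·Q = 0 and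
K·Q = −2, an exceptional class (the class of a (−1)-curve) is a class E with E·E = −1 and K·E = −1,
and the Weyl group W_δ is the group of additive automorphisms of the lattice preserving the form and
fixing K. For δ = 8, a class (a; b_1, …, b_8) is a conic class if and only if, up to a permutation
of b_1, …, b_8, it is one of the fifteen vectors (1; 1, 0, 0, 0, 0, 0, 0, 0), (2; 1, 1, 1, 1, 0, 0,
0, 0), (3; 2, 1, 1, 1, 1, 1, 0, 0), (4; 2, 2, 2, 1, 1, 1, 1, 0), (4; 3, 1, 1, 1, 1, 1, 1, 1), (5; 2,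
2, 2, 2, 2, 2, 1, 0), (5; 3, 2, 2, 2, 1, 1, 1, 1), (6; 3, 3, 2, 2, 2, 2, 1, 1), (7; 3, 3, 3, 3, 2,
2, 2, 1), (7; 4, 3, 2, 2, 2, 2, 2, 2), (8; 4, 3, 3, 3, 3, 2, 2, 2), (8; 3, 3, 3, 3, 3, 3, 3, 1), (9;
4, 4, 3, 3, 3, 3, 3, 2), (10; 4, 4, 4, 4, 3, 3, 3, 3), (11; 4, 4, 4, 4, 4, 4, 4, 3). (One line of
the published table is illegible in the available copy; the fifteen vectors here are the complete
solution set of the two defining equations a² = Σ b_i², 3a − Σ b_i = 2.) -/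
theorem result (v : DP 8) :
    IsConic v ↔
      ∃ t ∈ ({![1, 1, 0, 0, 0, 0, 0, 0, 0],
        ![2, 1, 1, 1, 1, 0, 0, 0, 0],
        ![3, 2, 1, 1, 1, 1, 1, 0, 0],
        ![4, 2, 2, 2, 1, 1, 1, 1, 0],
        ![4, 3, 1, 1, 1, 1, 1, 1, 1],
        ![5, 2, 2, 2, 2, 2, 2, 1, 0],
        ![5, 3, 2, 2, 2, 1, 1, 1, 1],
        ![6, 3, 3, 2, 2, 2, 2, 1, 1],
        ![7, 3, 3, 3, 3, 2, 2, 2, 1],
        ![7, 4, 3, 2, 2, 2, 2, 2, 2],
        ![8, 4, 3, 3, 3, 3, 2, 2, 2],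
        ![8, 3, 3, 3, 3, 3, 3, 3, 1],
        ![9, 4, 4, 3, 3, 3, 3, 3, 2],
        ![10, 4, 4, 4, 4, 3, 3, 3, 3],
        ![11, 4, 4, 4, 4, 4, 4, 4, 3]} : Set (DP 8)),
        ∃ σ : Equiv.Perm (Fin 8), v 0 = t 0 ∧ ∀ i : Fin 8, v (σ i).succ = t i.succ := by
  constructor
  · intro hv
    let σ : Equiv.Perm (Fin 8) := Tuple.sort (fun i => -v i.succ)
    have hmono : Monotone ((fun i => -v i.succ) ∘ σ) := Tuple.monotone_sort _
    let w : DP 8 := Fin.cons (v 0) (fun i => v (σ i).succ)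
    have hw : w ∈ Groth.Agent.DPLat.conicList 8 := by
      rw [Groth.Agent.DPLat.mem_conicList le_rfl]
      obtain ⟨e1, e2⟩ := hv
      refine ⟨?_, ?_⟩
      · rw [← e1]
        simp only [form, w, Fin.cons_zero, Fin.cons_succ]
        rw [Equiv.sum_comp σ (fun i => v i.succ * v i.succ)]
      · rw [← e2]
        simp only [Groth.Agent.DPLat.form_canon, w, Fin.cons_zero, Fin.cons_succ]
        rw [Equiv.sum_comp σ (fun i => v i.succ)]
    have hchk : ∀ w ∈ Groth.Agent.DPLat.conicList 8, (∀ i : Fin 7, w i.succ.succ ≤ w i.castSucc.succ) →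
        w ∈ [(![1, 1, 0, 0, 0, 0, 0, 0, 0] : DP 8), ![2, 1, 1, 1, 1, 0, 0, 0, 0],
          ![3, 2, 1, 1, 1, 1, 1, 0, 0], ![4, 2, 2, 2, 1, 1, 1, 1, 0], ![4, 3, 1, 1, 1, 1, 1, 1, 1],
          ![5, 2, 2, 2, 2, 2, 2, 1, 0], ![5, 3, 2, 2, 2, 1, 1, 1, 1], ![6, 3, 3, 2, 2, 2, 2, 1, 1],
          ![7, 3, 3, 3, 3, 2, 2, 2, 1], ![7, 4, 3, 2, 2, 2, 2, 2, 2], ![8, 4, 3, 3, 3, 3, 2, 2, 2],
          ![8, 3, 3, 3, 3, 3, 3, 3, 1], ![9, 4, 4, 3, 3, 3, 3, 3, 2], ![10, 4, 4, 4, 4, 3, 3, 3, 3],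
          ![11, 4, 4, 4, 4, 4, 4, 4, 3]] := by decide +kernel
    have := hchk w hw (fun i => by
      have := hmono (Fin.castSucc_le_succ i)
      simpa [w] using this)
    refine ⟨w, by simpa only [List.mem_cons, List.not_mem_nil, or_false, Set.mem_insert_iff,
      Set.mem_singleton_iff] using this, σ, by simp [w], fun i => by simp [w]⟩
  · rintro ⟨t, ht, σ, h0, hs⟩
    have htc : form t t = 0 ∧ form (canon 8) t = -2 := by
      simp only [Set.mem_insert_iff, Set.mem_singleton_iff] at ht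
      rcases ht with rfl | rfl | rfl | rfl | rfl | rfl | rfl | rfl | rfl | rfl | rfl | rfl | rfl | rfl | rfl <;>
        decide +kernel
    obtain ⟨e1, e2⟩ := htc
    refine ⟨?_, ?_⟩
    · rw [← e1]
      simp only [form, h0, ← hs]
      rw [Equiv.sum_comp σ (fun i => v i.succ * v i.succ)]
    · rw [← e2]
      simp only [Groth.Agent.DPLat.form_canon, h0, ← hs]
      rw [Equiv.sum_comp σ (fun i => v i.succ)]

end Groth.Agent.S15906
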