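import Groth.Statements.S15908
import Groth.Agent.Lib.DPLat.Orbits

set_option autoImplicit false
open Surf

namespace Groth.Agent.S15908

open W4c3severiratdp in
/-- Work in the lattice of vectors (a; b_1, …, b_δ), standing for divisor classes a ℓ − Σ b_i e_i on the
blow-up of the projective plane at δ points written in a standard basis, with intersection form a a'
− Σ b_i b_i' and canonical class K = (−3; −1, …, −1); a conic class is a class Q with Q·Q = 0 and
K·Q = −2, an exceptional class (the class of a (−1)-curve) is a class E with E·E = −1 and K·E = −1,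
and the Weyl group W_δ is the group of additive automorphisms of the lattice preserving the form and
fixing K. For δ = 8 the ordered pairs (Q_1, Q_2) of conic classes with Q_1·Q_2 = 4 form exactly two
W_8-orbits: there are two such pairs that no element of W_8 carries one to the other, and every such
pair is carried by an element of W_8 to one of these two. -/
theorem result :
    ∃ p₁ p₂ q₁ q₂ : DP 8, IsConic p₁ ∧ IsConic p₂ ∧ IsConic q₁ ∧ IsConic q₂ ∧ form p₁ p₂ = 4 ∧ form q₁ q₂ = 4 ∧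
      (¬ ∃ g : DP 8 ≃ₗ[ℤ] DP 8, IsWeyl g ∧ g p₁ = q₁ ∧ g p₂ = q₂) ∧
      ∀ v₁ v₂ : DP 8, IsConic v₁ → IsConic v₂ → form v₁ v₂ = 4 →
        ∃ g : DP 8 ≃ₗ[ℤ] DP 8, IsWeyl g ∧ ((g v₁ = p₁ ∧ g v₂ = p₂) ∨ (g v₁ = q₁ ∧ g v₂ = q₂)) := by
  refine ⟨Groth.Agent.DPLat.conic₀ 8, ![4, 0, 2, 2, 2, 1, 1, 1, 1], Groth.Agent.DPLat.conic₀ 8,
    ![5, 1, 2, 2, 2, 2, 2, 2, 0], ?_, ?_, ?_, ?_, ?_, ?_, ?_, ?_⟩
  iterate 4 (unfold IsConic; decide +kernel)
  · decide +kernel
  · decide +kernel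
  · rintro ⟨g, hg, e1, e2⟩
    have hs : g (Groth.Agent.DPLat.conic₀ 8 + ![4, 0, 2, 2, 2, 1, 1, 1, 1]) =
        (2 : ℤ) • (![3, 1, 1, 1, 1, 1, 1, 1, 0] : DP 8) := by
      rw [map_add, e1, e2]; decide +kernel
    have h5 := congr_fun (congrArg g.symm hs) 0
    rw [LinearEquiv.symm_apply_apply, map_smul, Pi.smul_apply, smul_eq_mul, Pi.add_apply] at h5
    simp [Groth.Agent.DPLat.conic₀] at h5
    omega
  · intro v₁ v₂ h₁ h₂ h4
    obtain ⟨g, hg, hg1, hg2, hg3⟩ := Groth.Agent.DPLat.conic_pair (by norm_num) le_rfl h₁ h₂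
    have hchk : ∀ v ∈ Groth.Agent.DPLat.term (Groth.Agent.DPLat.stabGens [Groth.Agent.DPLat.conic₀ 8])
        (Groth.Agent.DPLat.conicList 8), form (Groth.Agent.DPLat.conic₀ 8) v = 4 →
        v = ![4, 0, 2, 2, 2, 1, 1, 1, 1] ∨ v = ![5, 1, 2, 2, 2, 2, 2, 2, 0] := by decide +kernel
    exact ⟨g, hg, (hchk _ hg2 (by rw [hg3, h4])).imp (⟨hg1, ·⟩) (⟨hg1, ·⟩)⟩

end Groth.Agent.S15908
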