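import Groth.Statements.S15909
import Groth.Agent.Lib.DPLat.Orbits

set_option autoImplicit false
open Surf

namespace Groth.Agent.S15909

open W4c3severiratdp in
/-- Work in the lattice of vectors (a; b_1, …, b_δ), standing for divisor classes a ℓ − Σ b_i e_i on the
blow-up of the projective plane at δ points written in a standard basis, with intersection form a a'
− Σ b_i b_i' and canonical class K = (−3; −1, …, −1); a conic class is a class Q with Q·Q = 0 and
K·Q = −2, an exceptional class (the class of a (−1)-curve) is a class E with E·E = −1 and K·E = −1,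
and the Weyl group W_δ is the group of additive automorphisms of the lattice preserving the form and
fixing K. Let δ = 8 (a del Pezzo surface of degree one) and let L be an exceptional class. If L_1
and L_2 are exceptional classes with L_1·L = L_2·L, then L_1 and L_2 lie in the same orbit of the
stabilizer of L in W_8. -/
theorem result (L L₁ L₂ : DP 8) (hL : IsExc L) (hL₁ : IsExc L₁)
    (hL₂ : IsExc L₂) (h : form L₁ L = form L₂ L) :
    ∃ g : DP 8 ≃ₗ[ℤ] DP 8, IsWeyl g ∧ g L = L ∧ g L₁ = L₂ := by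
  obtain ⟨g₀, hg₀, e₀⟩ := Groth.Agent.DPLat.exists_move_exc hL
  obtain ⟨g₁, hg₁, hf₁, hm₁⟩ := Groth.Agent.DPLat.exists_stab_exc
    (Groth.Agent.DPLat.isExc_map hg₀ hL₁) [Groth.Agent.DPLat.exc₀]
  obtain ⟨g₂, hg₂, hf₂, hm₂⟩ := Groth.Agent.DPLat.exists_stab_exc
    (Groth.Agent.DPLat.isExc_map hg₀ hL₂) [Groth.Agent.DPLat.exc₀]
  have f₁ : g₁ Groth.Agent.DPLat.exc₀ = Groth.Agent.DPLat.exc₀ := hf₁ _ (by simp)
  have f₂ : g₂ Groth.Agent.DPLat.exc₀ = Groth.Agent.DPLat.exc₀ := hf₂ _ (by simp)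
  have he := Groth.Agent.DPLat.term_exc_stab _ hm₁ _ hm₂ (by
    conv_lhs => rw [← f₁, hg₁.1, ← e₀, hg₀.1, Groth.Agent.DPLat.form_comm, h]
    conv_rhs => rw [← f₂, hg₂.1, ← e₀, hg₀.1, Groth.Agent.DPLat.form_comm])
  refine ⟨((g₀.trans g₁).trans g₂.symm).trans g₀.symm, ?_, ?_, ?_⟩
  · exact Groth.Agent.DPLat.isWeyl_trans (Groth.Agent.DPLat.isWeyl_trans
      (Groth.Agent.DPLat.isWeyl_trans hg₀ hg₁) (Groth.Agent.DPLat.isWeyl_symm hg₂))
      (Groth.Agent.DPLat.isWeyl_symm hg₀)
  · simp only [LinearEquiv.trans_apply]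
    rw [e₀, f₁, (LinearEquiv.symm_apply_eq g₂).mpr f₂.symm, ← e₀, LinearEquiv.symm_apply_apply]
  · simp only [LinearEquiv.trans_apply]
    rw [he, LinearEquiv.symm_apply_apply, LinearEquiv.symm_apply_apply]

end Groth.Agent.S15909
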