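import Groth.Statements.S15910
import Groth.Agent.Lib.DPLat.Orbits
import Mathlib.Data.Fin.Tuple.Sort
import Mathlib.Tactic.FinCases

set_option autoImplicit false
open Surf

namespace Groth.Agent.S15910

open W4c3severiratdp in
/-- Work in the lattice of vectors (a; b_1, …, b_δ), standing for divisor classes a ℓ − Σ b_i e_i on the
blow-up of the projective plane at δ points written in a standard basis, with intersection form a a'
− Σ b_i b_i' and canonical class K = (−3; −1, …, −1); a conic class is a class Q with Q·Q = 0 and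
K·Q = −2, an exceptional class (the class of a (−1)-curve) is a class E with E·E = −1 and K·E = −1,
and the Weyl group W_δ is the group of additive automorphisms of the lattice preserving the form and
fixing K. Let δ = 8 and let L be an exceptional class. Let B be the set of unordered triples {λ_1,
λ_2, λ_3} of exceptional classes (repetitions allowed) with λ_1 + λ_2 + λ_3 = −2K + L. Then the
stabilizer of L in W_8 has exactly four orbits on B. Triples are written as maps Fin 3 → lattice and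
compared up to reordering: there are four members of B, no two of which are identified by an element
of the stabilizer followed by a reordering, and every member of B is so identified with one of the
four. -/
theorem result (L : DP 8) (hL : IsExc L) :
    ∃ r : Fin 4 → (Fin 3 → DP 8),
      (∀ j, (∀ i, IsExc (r j i)) ∧ r j 0 + r j 1 + r j 2 = L - 2 • canon 8) ∧
      (∀ j j', (∃ g : DP 8 ≃ₗ[ℤ] DP 8, IsWeyl g ∧ g L = L ∧ ∃ σ : Equiv.Perm (Fin 3), ∀ i, g (r j (σ i)) = r j' i) → j = j') ∧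
      ∀ t : Fin 3 → DP 8, (∀ i, IsExc (t i)) → t 0 + t 1 + t 2 = L - 2 • canon 8 →
        ∃ j, ∃ g : DP 8 ≃ₗ[ℤ] DP 8, IsWeyl g ∧ g L = L ∧ ∃ σ : Equiv.Perm (Fin 3), ∀ i, g (t (σ i)) = r j i := by
  obtain ⟨g₀, hg₀, e₀⟩ := Groth.Agent.DPLat.exists_move_exc hL
  let R : Fin 4 → Fin 3 → DP 8 := ![
    ![![0, 0, 0, 0, 0, 0, 0, 0, -1], ![0, 0, 0, 0, 0, 0, 0, 0, -1], ![6, 2, 2, 2, 2, 2, 2, 2, 3]],
    ![![0, 0, 0, 0, 0, 0, 0, 0, -1], ![1, 1, 0, 0, 0, 0, 0, 0, 1], ![5, 1, 2, 2, 2, 2, 2, 2, 1]],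
    ![![0, 0, 0, 0, 0, 0, 0, 0, -1], ![0, 0, 0, 0, 0, 0, 0, -1, 0], ![6, 2, 2, 2, 2, 2, 2, 3, 2]],
    ![![0, 0, 0, 0, 0, 0, 0, -1, 0], ![1, 1, 0, 0, 0, 0, 0, 1, 0], ![5, 1, 2, 2, 2, 2, 2, 2, 1]]]
  have hR : ∀ j i, form (R j i) (R j i) = -1 ∧ form (canon 8) (R j i) = -1 := by decide +kernel
  have hRs : ∀ j, R j 0 + R j 1 + R j 2 = Groth.Agent.DPLat.exc₀ - (2 : ℤ) • canon 8 := by decide +kernel
  have hsym := Groth.Agent.DPLat.isWeyl_symm hg₀
  have hcan : g₀.symm (canon 8) = canon 8 := hsym.2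
  refine ⟨fun j i => g₀.symm (R j i), fun j => ⟨fun i => Groth.Agent.DPLat.isExc_map hsym (hR j i), ?_⟩, ?_, ?_⟩
  · rw [← map_add, ← map_add, hRs j, map_sub, map_smul, hcan, ← e₀, LinearEquiv.symm_apply_apply,
      two_smul, two_smul]
  · rintro j j' ⟨g, hg, hgL, σ, hσ⟩
    have hf : ∀ x, form L (g₀.symm x) = form Groth.Agent.DPLat.exc₀ x := fun x => by
      rw [← hg₀.1 L, e₀, LinearEquiv.apply_symm_apply]
    have hchk : ∀ j j' : Fin 4, ∀ σ : Equiv.Perm (Fin 3),
        (∀ i, form Groth.Agent.DPLat.exc₀ (R j (σ i)) = form Groth.Agent.DPLat.exc₀ (R j' i)) → j = j' := by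
      decide +kernel
    refine hchk j j' σ fun i => ?_
    have := hσ i
    dsimp only at this
    rw [← hf, ← hf, ← this]
    conv_rhs => rw [← hgL, hg.1]
  · intro t ht hs
    let u : Fin 3 → DP 8 := fun i => g₀ (t i)
    let c : Fin 3 → ℤ := fun i => form Groth.Agent.DPLat.exc₀ (u i)
    let σ : Equiv.Perm (Fin 3) := Tuple.sort c
    have hc : Monotone (c ∘ σ) := Tuple.monotone_sort c
    obtain ⟨g₁, hg₁, hf₁, hm₁⟩ := Groth.Agent.DPLat.exists_stab_exc
      (Groth.Agent.DPLat.isExc_map hg₀ (ht (σ 0))) [Groth.Agent.DPLat.exc₀]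
    obtain ⟨g₂, hg₂, hf₂, hm₂⟩ := Groth.Agent.DPLat.exists_stab_exc
      (Groth.Agent.DPLat.isExc_map hg₁ (Groth.Agent.DPLat.isExc_map hg₀ (ht (σ 1))))
      [Groth.Agent.DPLat.exc₀, g₁ (g₀ (t (σ 0)))]
    let h := (g₀.trans g₁).trans g₂
    have hh : IsWeyl h := Groth.Agent.DPLat.isWeyl_trans (Groth.Agent.DPLat.isWeyl_trans hg₀ hg₁) hg₂
    have hL' : h L = Groth.Agent.DPLat.exc₀ := by
      simp only [h, LinearEquiv.trans_apply]
      rw [e₀, hf₁ _ (by simp), hf₂ _ (by simp)]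
    have ha : h (t (σ 0)) = g₁ (g₀ (t (σ 0))) := by
      simp only [h, LinearEquiv.trans_apply]
      exact hf₂ _ (by simp)
    have hsum : h (t (σ 0)) + h (t (σ 1)) + h (t (σ 2)) = Groth.Agent.DPLat.exc₀ - (2 : ℤ) • canon 8 := by
      have e := Equiv.sum_comp σ t
      simp only [Fin.sum_univ_three] at e
      rw [← map_add, ← map_add, e, hs, map_sub, hL', ← hh.2]
      simp only [two_smul, map_add, hh.2]
    have hord : ∀ i, form Groth.Agent.DPLat.exc₀ (h (t (σ i))) = c (σ i) := fun i => by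
      rw [← hL', hh.1, ← hg₀.1, e₀]
    have hchk : ∀ a ∈ Groth.Agent.DPLat.term (Groth.Agent.DPLat.stabGens [Groth.Agent.DPLat.exc₀])
        (Groth.Agent.DPLat.excList 8),
        ∀ b ∈ Groth.Agent.DPLat.term (Groth.Agent.DPLat.stabGens [Groth.Agent.DPLat.exc₀, a])
        (Groth.Agent.DPLat.excList 8),
        form (Groth.Agent.DPLat.exc₀ - (2 : ℤ) • canon 8 - a - b) (Groth.Agent.DPLat.exc₀ - (2 : ℤ) • canon 8 - a - b) = -1 →
        form Groth.Agent.DPLat.exc₀ a ≤ form Groth.Agent.DPLat.exc₀ b →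
        form Groth.Agent.DPLat.exc₀ b ≤ form Groth.Agent.DPLat.exc₀ (Groth.Agent.DPLat.exc₀ - (2 : ℤ) • canon 8 - a - b) →
        ∃ j, R j 0 = a ∧ R j 1 = b ∧ R j 2 = Groth.Agent.DPLat.exc₀ - (2 : ℤ) • canon 8 - a - b := by
      decide +kernel
    have h2e : Groth.Agent.DPLat.exc₀ - (2 : ℤ) • canon 8 - h (t (σ 0)) - h (t (σ 1)) = h (t (σ 2)) := by
      rw [← hsum]; abel
    obtain ⟨j, j0, j1, j2⟩ := hchk _ (ha ▸ hm₁) (h (t (σ 1))) (by rw [ha]; exact hm₂)
      (by rw [h2e]; exact (Groth.Agent.DPLat.isExc_map hh (ht _)).1)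
      (by rw [hord, hord]; exact hc (by decide))
      (by rw [h2e, hord, hord]; exact hc (by decide))
    rw [h2e] at j2
    refine ⟨j, h.trans g₀.symm, Groth.Agent.DPLat.isWeyl_trans hh hsym, ?_, σ, ?_⟩
    · rw [LinearEquiv.trans_apply, hL', ← e₀, LinearEquiv.symm_apply_apply]
    · intro i
      rw [LinearEquiv.trans_apply]
      congr 1
      fin_cases i
      · exact j0.symm
      · exact j1.symm
      · exact j2.symm

end Groth.Agent.S15910
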