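import Groth.Statements.S15914
import Groth.Agent.Lib.SurfRR10.Curves

set_option autoImplicit false
set_option linter.style.haveILetI false
set_option maxHeartbeats 2000000
set_option backward.isDefEq.respectTransparency false
set_option backward.isDefEq.respectTransparency.types false
universe u
open CategoryTheory CategoryTheory.Limits AlgebraicGeometry TopologicalSpace
open Surf

namespace Groth.Agent.S15914

noncomputable local instance instLawS15914 (Y : Scheme.{u}) : PicGrp.Law Y := M2.law Y

/-- Let k be an algebraically closed field of characteristic zero and X a smooth surface over k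
(integral, proper and smooth over k of dimension 2) with canonical module W, a second exterior power
of Ω_{X/k}; intersection numbers of invertible modules are (L·M) = χ(O_X) − χ(L) − χ(M) + χ(L ⊗ M),
so that for a closed subscheme C with ideal I_C one has C·C = (I_C·I_C) and K·C = −(I_C·W). If C ⊆ X
is an integral closed one-dimensional subscheme with K·C = −1, that is (I_C·W) = 1, then C·C is odd
and C·C ≥ −1. -/
theorem result (k : Type u) [Field k] [IsAlgClosed k]
    [CharZero k] (X : Scheme.{u}) [X.Over (Spec (CommRingCat.of k))] [IsIntegral X] [IsProper (X ↘ (Spec (CommRingCat.of k)))] [Smooth (X ↘ (Spec (CommRingCat.of k)))]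
    (hdim : topologicalKrullDim X = 2)
    (W : X.Modules) (hW : ExtPow.IsExtPow 2 (Omega.sheaf (X ↘ (Spec (CommRingCat.of k)))) W)
    (C : X.IdealSheafData) (hC : IsIntegral C.subscheme) (hC1 : topologicalKrullDim (C.support : Set X) = 1)
    (hdeg : FGA.intNum k X 2 ![ClSub.idealMod C, W] (Coh.structureModule X) = 1) :
    Odd (FGA.intNum k X 2 ![ClSub.idealMod C, ClSub.idealMod C] (Coh.structureModule X)) ∧
      -1 ≤ FGA.intNum k X 2 ![ClSub.idealMod C, ClSub.idealMod C] (Coh.structureModule X) := by
  have hWi : PicF.IsInvertible W := SurfRR10.isInvertible_canonical hdim hW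
  have hd := SurfRR10.dim_eq (k := k) hdim
  obtain ⟨ξ, rfl, hξ⟩ := SurfR.exists_eq_ptIdeal C hC hC1
  have hIi := M2.isInvertible_idealMod _ (Goodman10.isEffCartier_pt (k := k) (SurfRR10.regular (k := k)) hd hξ)
  obtain ⟨g, hadj, -, hg0⟩ := SurfRR10.exists_genus hdim hW hWi hξ
  rw [SymSq10.intNum_eq' hd.le hIi hWi, SurfRR10.cls_ideal_pt (k := k) hdim hξ, SurfRR10.sdot_inv_left (k := k) hdim] at hdeg
  rw [SymSq10.intNum_eq' hd.le hIi hIi, SurfRR10.cls_ideal_pt (k := k) hdim hξ, SurfRR10.sdot_inv_left (k := k) hdim,
    SurfRR10.sdot_inv_right (k := k) hdim, neg_neg]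
  exact ⟨⟨(g : ℤ) - 1, by linarith⟩, by omega⟩

end Groth.Agent.S15914
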