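import Groth.Statements.S15916
import Groth.Agent.Lib.NumPoly18.SurfBir
import Groth.Agent.Lib.NumPoly18.SurfCones
import Groth.Agent.Lib.NumPoly18.SurfProj

set_option autoImplicit false
universe u
open CategoryTheory CategoryTheory.Limits AlgebraicGeometry TopologicalSpace
open Surf

open Groth.Agent Groth.Agent.NumPoly18
namespace Groth.Agent.S15916

/-- Let k be an algebraically closed field of characteristic zero and X a smooth projective surface over
k (integral, proper and smooth over k of dimension 2, with a closed immersion over k into some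
projective space); intersection numbers of invertible modules are (L·M) = χ(O_X) − χ(L) − χ(M) + χ(L
⊗ M), and for an integral closed one-dimensional subscheme C ⊆ X write (L·C) = χ(O_C ⊗ L) − χ(O_C);
an invertible module is nef when (L·C) ≥ 0 for all such C. Let D be an invertible module generated
by its global sections, nef, with (D·D) > 0, and let N be a nef invertible module with (D·N) = 0.
Then N is numerically trivial: (N·C) = 0 for every integral curve C ⊆ X. (The published statement
concludes that N is zero in Pic X; on the product of an elliptic curve with the projective line, the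
pull-back N of a non-trivial degree-zero class of the elliptic curve is nef, orthogonal to an ample
base-point-free D, and non-zero, while the printed proof establishes numerical triviality, which is
what this row states.) -/
theorem result (k : Type u) [Field k] [IsAlgClosed k]
    [CharZero k] (X : Scheme.{u}) [X.Over (Spec (CommRingCat.of k))] [IsIntegral X] [IsProper (X ↘ (Spec (CommRingCat.of k)))] [Smooth (X ↘ (Spec (CommRingCat.of k)))]
    (hdim : topologicalKrullDim X = 2)
    (hproj : ∃ (n : ℕ) (ι : X ⟶ CohB1.ProjSpace n k), IsClosedImmersion ι ∧ ι ≫ CohB1.ProjSpace.toSpec n k = (X ↘ (Spec (CommRingCat.of k))))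
    (D N : X.Modules) (hDi : PicF.IsInvertible D) (hNi : PicF.IsInvertible N)
    (hDgg : Curv2.IsGloballyGenerated D)
    (hDnef : ∀ C : X.IdealSheafData, IsIntegral C.subscheme → topologicalKrullDim (C.support : Set X) = 1 → 0 ≤ (Curv2.euler k X (CohB1.tensorMod (ClSub.quotMod C) D) - Curv2.euler k X (ClSub.quotMod C)))
    (hD2 : 0 < FGA.intNum k X 2 ![D, D] (Coh.structureModule X))
    (hNnef : ∀ C : X.IdealSheafData, IsIntegral C.subscheme → topologicalKrullDim (C.support : Set X) = 1 → 0 ≤ (Curv2.euler k X (CohB1.tensorMod (ClSub.quotMod C) N) - Curv2.euler k X (ClSub.quotMod C)))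
    (hDN : FGA.intNum k X 2 ![D, N] (Coh.structureModule X) = 0) :
    ∀ C : X.IdealSheafData, IsIntegral C.subscheme → topologicalKrullDim (C.support : Set X) = 1 → (Curv2.euler k X (CohB1.tensorMod (ClSub.quotMod C) N) - Curv2.euler k X (ClSub.quotMod C)) = 0 := by
  obtain ⟨n, ι, hι, hιc⟩ := hproj
  haveI := hι
  have hd : topologicalKrullDim X = ((2 : ℕ) : WithBot ℕ∞) := by simpa using hdim
  haveI : IsNoetherian X := CohFound.isNoetherian_of_isProper (X ↘ Spec (CommRingCat.of k))
  have hA := isAmple_pullback_twistProjSpace (k := k) ι
  have hN : Nef k N := cdeg_nonneg_of_quotMod fun C hC h1 => by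
    rw [cdeg_quotMod]
    exact_mod_cast hNnef C hC h1
  have hNN : 0 ≤ dot k N N := by
    rw [dot_self]
    exact md_nonneg_of_nef hA (fun _ => hNi) (fun _ => hN) (M1.isCoh_structureModule X) (dim_support_le hd.le _)
  have hDD : 0 < dot k D D := by
    rw [← intNum2 hd.le hDi hDi]
    exact_mod_cast hD2
  have hND : dot k N D = 0 := by
    rw [dot_comm, ← intNum2 hd.le hDi hNi, hDN, Int.cast_zero]
  intro C hC h1
  obtain ⟨η, rfl, hη⟩ := SurfR.exists_eq_ptIdeal C hC h1
  have h := cdeg_eq_zero_of_hodge hd hDi hNi hDD hND hNN hη
  rw [cdeg_quotMod] at h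
  exact_mod_cast h

end Groth.Agent.S15916
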