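import Groth.Statements.S15917
import Groth.Agent.Lib.CurveH1Min27.TreeRestrict
import Groth.Agent.Lib.CurveH1Min27.Tails
import Groth.Agent.Lib.CurveH1Min27.GorAmple
-- import your own Groth.Agent.* helpers here

set_option autoImplicit false
universe u
open CategoryTheory CategoryTheory.Limits AlgebraicGeometry TopologicalSpace
open Curves

namespace Groth.Agent.S15917

/-- Let k be an algebraically closed field of characteristic zero and C a rational tree over k: a
connected, reduced scheme, proper over k of dimension one, with at-worst-nodal singularities and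
H¹(C, O_C) = 0 (equivalently, all components are smooth rational curves and the dual graph is a
tree). Let F be a finite locally free O_C-module and R ⊆ C a closed subscheme that is reduced and
connected and whose support is a union of irreducible components of C. If for every irreducible
component Z of C not contained in R (taken with its reduced structure, i.e. every integral closed
one-dimensional subscheme Z whose support is not inside R) the restriction F|_Z is generated by
global sections, then h¹(C, F) = h¹(R, F|_R). -/
theorem result (k : Type u) [Field k] [IsAlgClosed k] [CharZero k]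
    (C : Scheme.{u}) [C.Over (Spec (CommRingCat.of k))] [IsProper (C ↘ (Spec (CommRingCat.of k)))] [IsReduced C] [ConnectedSpace C]
    (hdim : topologicalKrullDim C = 1) (hnodal : Curv2.AtWorstNodal k C)
    (hg : Subsingleton (Coh.HH C (Coh.structureModule C) 1))
    (F : C.Modules) (hF : FlatMod.IsFinLocFree F)
    (R : C.IdealSheafData) [IsReduced R.subscheme] [ConnectedSpace R.subscheme]
    (hRunion : ∀ x ∈ (R.support : Set C), ∃ Z : C.IdealSheafData, IsIntegral Z.subscheme ∧
      topologicalKrullDim (Z.support : Set C) = 1 ∧ (Z.support : Set C) ⊆ R.support ∧ x ∈ (Z.support : Set C))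
    (hgg : ∀ Z : C.IdealSheafData, IsIntegral Z.subscheme → topologicalKrullDim (Z.support : Set C) = 1 →
      ¬ ((Z.support : Set C) ⊆ R.support) → Curv2.IsGloballyGenerated ((Scheme.Modules.pullback Z.subschemeι).obj F)) :
    letI : R.subscheme.Over (Spec (CommRingCat.of k)) := ⟨R.subschemeι ≫ (C ↘ (Spec (CommRingCat.of k)))⟩
    Module.finrank k (Coh.HH C F 1) =
      Module.finrank k (Coh.HH R.subscheme ((Scheme.Modules.pullback R.subschemeι).obj F) 1) := by
  haveI := Groth.Agent.CohFound.isNoetherian_of_isProper (C ↘ Spec (CommRingCat.of k))
  obtain ⟨T, hT, rfl⟩ : ∃ (T : Set C) (hT : IsClosed T), R = Groth.Agent.CurveH1Min27.vI T hT :=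
    ⟨_, _, Groth.Agent.CurveH1Min27.eq_vI R⟩
  have hs : ∀ (T : Set C) (hT : IsClosed T), ((Groth.Agent.CurveH1Min27.vI T hT).support : Set C) = T :=
    fun T hT => Scheme.IdealSheafData.coe_support_vanishingIdeal _
  refine Groth.Agent.CurveH1Min27.finrank_h1_eq_restrict hdim.le hg hF hT
    (Groth.Agent.CurveH1Min27.isConnected_of_connectedSpace_vI hT) fun η hη hne => ?_
  have hE : closure ({η} : Set C) ∈ irreducibleComponents (C : Type u) := hη
  obtain ⟨hc, hd1⟩ := Groth.Agent.CurveH1Min27.component_curve k hdim _ hE
  haveI : IrreducibleSpace (Groth.Agent.CurveH1Min27.vI (closure ({η} : Set C)) isClosed_closure).subscheme :=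
    Groth.Agent.CurveH1Min27.irreducibleSpace_of_range
      (Groth.Agent.CurveH1Min27.vI (closure ({η} : Set C)) isClosed_closure).subschemeι (by
      rw [show Set.range (Groth.Agent.CurveH1Min27.vI (closure ({η} : Set C)) isClosed_closure).subschemeι =
        closure ({η} : Set C) from Groth.Agent.TFOne27.range_sub _ isClosed_closure]
      exact isIrreducible_singleton.closure)
  haveI : AlgebraicGeometry.IsReduced (Groth.Agent.CurveH1Min27.vI (closure ({η} : Set C)) isClosed_closure).subscheme :=
    inferInstanceAs (AlgebraicGeometry.IsReduced (VecSt.subsch C (closure ({η} : Set C)) isClosed_closure))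
  refine hgg (Groth.Agent.CurveH1Min27.vI (closure ({η} : Set C)) isClosed_closure)
    (isIntegral_of_irreducibleSpace_of_isReduced _) ((Groth.Agent.AmpleFin18.dim_subscheme _ rfl).symm.trans hd1) ?_
  rw [hs, hs]
  exact hne


end Groth.Agent.S15917
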