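import Groth.Statements.S15918
import Groth.Agent.Lib.CurveH1Min27.TreeSeq
import Groth.Agent.Lib.CurveH1Min27.Tails
import Groth.Agent.Lib.CurveH1Min27.NodalOmega
-- import your own Groth.Agent.* helpers here

set_option autoImplicit false
universe u
open CategoryTheory CategoryTheory.Limits AlgebraicGeometry TopologicalSpace
open Curves

namespace Groth.Agent.S15918

/-- Let k be an algebraically closed field of characteristic zero and C a rational tree over k: a
connected, reduced scheme, proper over k of dimension one, with at-worst-nodal singularities and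
H¹(C, O_C) = 0. Let F be a finite locally free O_C-module. Suppose C = C_1 ∪ C_2 with C_1, C_2
reduced closed subschemes whose supports are unions of irreducible components of C having no
irreducible component in common, and let P = C_1 ∩ C_2 be the finite set of nodes where they meet,
taken as a reduced closed subscheme of C_1 with ideal I_P. If H¹(C_1, F|_{C_1} ⊗ I_P) = 0 then h¹(C,
F) = h¹(C_2, F|_{C_2}). -/
theorem result (k : Type u) [Field k] [IsAlgClosed k] [CharZero k]
    (C : Scheme.{u}) [C.Over (Spec (CommRingCat.of k))] [IsProper (C ↘ (Spec (CommRingCat.of k)))] [IsReduced C] [ConnectedSpace C]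
    (hdim : topologicalKrullDim C = 1) (hnodal : Curv2.AtWorstNodal k C)
    (hg : Subsingleton (Coh.HH C (Coh.structureModule C) 1))
    (F : C.Modules) (hF : FlatMod.IsFinLocFree F)
    (C₁ C₂ : C.IdealSheafData) [IsReduced C₁.subscheme] [IsReduced C₂.subscheme]
    (hunion₁ : ∀ x ∈ (C₁.support : Set C), ∃ Z : C.IdealSheafData, IsIntegral Z.subscheme ∧
      topologicalKrullDim (Z.support : Set C) = 1 ∧ (Z.support : Set C) ⊆ C₁.support ∧ x ∈ (Z.support : Set C))
    (hunion₂ : ∀ x ∈ (C₂.support : Set C), ∃ Z : C.IdealSheafData, IsIntegral Z.subscheme ∧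
      topologicalKrullDim (Z.support : Set C) = 1 ∧ (Z.support : Set C) ⊆ C₂.support ∧ x ∈ (Z.support : Set C))
    (hcover : (C₁.support : Set C) ∪ C₂.support = Set.univ)
    (hnocommon : ∀ Z : C.IdealSheafData, IsIntegral Z.subscheme → topologicalKrullDim (Z.support : Set C) = 1 →
      ¬ ((Z.support : Set C) ⊆ C₁.support ∧ (Z.support : Set C) ⊆ C₂.support))
    (P : C₁.subscheme.IdealSheafData) [IsReduced P.subscheme]
    (hP : ∀ x : C₁.subscheme, x ∈ (P.support : Set C₁.subscheme) ↔ C₁.subschemeι x ∈ (C₂.support : Set C))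
    (hvan : Subsingleton (Coh.HH C₁.subscheme
        (CohB1.tensorMod ((Scheme.Modules.pullback C₁.subschemeι).obj F) (ClSub.idealMod P)) 1)) :
    letI : C₂.subscheme.Over (Spec (CommRingCat.of k)) := ⟨C₂.subschemeι ≫ (C ↘ (Spec (CommRingCat.of k)))⟩
    Module.finrank k (Coh.HH C F 1) =
      Module.finrank k (Coh.HH C₂.subscheme ((Scheme.Modules.pullback C₂.subschemeι).obj F) 1) := by
  have hN : Groth.Agent.StabUniq18.IsNodalCurve k C :=
    ⟨inferInstance, Groth.Agent.CurveH1Min27.components_dim_one k C hdim, hnodal⟩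
  haveI := Groth.Agent.CohFound.isNoetherian_of_isProper (C ↘ Spec (CommRingCat.of k))
  obtain ⟨T₁, h₁, rfl⟩ : ∃ (T : Set C) (hT : IsClosed T), C₁ = Groth.Agent.CurveH1Min27.vI T hT :=
    ⟨_, _, Groth.Agent.CurveH1Min27.eq_vI C₁⟩
  obtain ⟨T₂, h₂, rfl⟩ : ∃ (T : Set C) (hT : IsClosed T), C₂ = Groth.Agent.CurveH1Min27.vI T hT :=
    ⟨_, _, Groth.Agent.CurveH1Min27.eq_vI C₂⟩
  have hs : ∀ (T : Set C) (hT : IsClosed T), ((Groth.Agent.CurveH1Min27.vI T hT).support : Set C) = T :=
    fun T hT => Scheme.IdealSheafData.coe_support_vanishingIdeal _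
  simp only [hs] at hcover hP hunion₁ hunion₂ hnocommon
  have hg : ∀ T : Set C, (∀ x ∈ T, ∃ Z : C.IdealSheafData, IsIntegral Z.subscheme ∧
      topologicalKrullDim (Z.support : Set C) = 1 ∧ (Z.support : Set C) ⊆ T ∧ x ∈ (Z.support : Set C)) →
      Groth.Agent.TFOne27.GenClosed T := fun T h x hx => by
    obtain ⟨Z, hZi, hZ1, hZT, hxZ⟩ := h x hx
    obtain ⟨E, hE, rfl, -⟩ := Groth.Agent.CurveH1Min27.component_of_integral k hdim Z hZi hZ1
    rw [hs] at hZT hxZ
    obtain ⟨η, hη, hgen⟩ := Groth.Agent.TFOne27.exists_generic_of_component hE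
    exact ⟨η, hη, hZT hgen.mem, hgen.specializes hxZ⟩
  have hcs : Groth.Agent.CurveH1Min27.IsComplSub T₁ T₂ := ⟨hg T₁ hunion₁, hg T₂ hunion₂, fun η hη =>
    ⟨fun h2 h1 => by
      have hE : closure ({η} : Set C) ∈ irreducibleComponents (C : Type u) := hη
      obtain ⟨hc, hd1⟩ := Groth.Agent.CurveH1Min27.component_curve k hdim _ hE
      haveI : IrreducibleSpace (Groth.Agent.CurveH1Min27.vI (closure ({η} : Set C)) isClosed_closure).subscheme :=
        Groth.Agent.CurveH1Min27.irreducibleSpace_of_range
          (Groth.Agent.CurveH1Min27.vI (closure ({η} : Set C)) isClosed_closure).subschemeι (by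
          rw [show Set.range (Groth.Agent.CurveH1Min27.vI (closure ({η} : Set C)) isClosed_closure).subschemeι =
            closure ({η} : Set C) from Groth.Agent.TFOne27.range_sub _ isClosed_closure]
          exact isIrreducible_singleton.closure)
      haveI : AlgebraicGeometry.IsReduced (Groth.Agent.CurveH1Min27.vI (closure ({η} : Set C)) isClosed_closure).subscheme :=
        inferInstanceAs (AlgebraicGeometry.IsReduced (VecSt.subsch C (closure ({η} : Set C)) isClosed_closure))
      refine hnocommon (Groth.Agent.CurveH1Min27.vI (closure ({η} : Set C)) isClosed_closure)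
        (isIntegral_of_irreducibleSpace_of_isReduced _) ((Groth.Agent.AmpleFin18.dim_subscheme _ rfl).symm.trans hd1) ?_
      rw [hs]
      exact ⟨closure_minimal (Set.singleton_subset_iff.mpr h1) h₁, closure_minimal (Set.singleton_subset_iff.mpr h2) h₂⟩,
    fun h1 => (hcover.ge (Set.mem_univ η)).resolve_left h1⟩⟩
  exact Groth.Agent.CurveH1Min27.finrank_h1_component_sequence hN hdim.le hF h₁ h₂ hcs hcover P hP hvan


end Groth.Agent.S15918
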