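import Groth.Statements.S15920
import Groth.Agent.Lib.RatSingEuler13.Basic
import Groth.Agent.Lib.Ruled10.LineH1
import Groth.Agent.Lib.AsympCoh18.Push
import Groth.Agent.Lib.CurveH1Min27.NodalOmega
import Groth.Agent.Lib.CurveCoh17.Birational
import Groth.Agent.Lib.H0Comp5.Main
import Groth.Agent.Lib.CohMop.Bidual
import Groth.Agent.S0927

set_option autoImplicit false
universe u
open CategoryTheory CategoryTheory.Limits AlgebraicGeometry TopologicalSpace
open Curves

namespace Groth.Agent.S15920

/-- Let k be an algebraically closed field of characteristic zero; a rational tree over k is a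
connected, reduced scheme, proper over k of dimension one, with at-worst-nodal singularities and
H¹(O) = 0. Let C be a rational tree, p ∈ C a node, and π : C' → C the total transform of C at p: C'
is a rational tree, π is a morphism over k restricting to an isomorphism over C ∖ {p}, and the fibre
π⁻¹(p) is, as a set, a closed subscheme E of C' isomorphic to P¹_k over k (the exceptional
component). Then for every finite locally free O_C-module F and i = 0, 1 one has h^i(C, F) = h^i(C',
π^*F). -/
theorem result (k : Type u) [Field k] [IsAlgClosed k] [CharZero k]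
    (C : Scheme.{u}) [C.Over (Spec (CommRingCat.of k))] [IsProper (C ↘ (Spec (CommRingCat.of k)))] [IsReduced C] [ConnectedSpace C] (hdim : topologicalKrullDim C = 1) (hnodal : Curv2.AtWorstNodal k C)
    (hg : Subsingleton (Coh.HH C (Coh.structureModule C) 1))
    (C' : Scheme.{u}) [C'.Over (Spec (CommRingCat.of k))] [IsProper (C' ↘ (Spec (CommRingCat.of k)))] [IsReduced C'] [ConnectedSpace C'] (hdim' : topologicalKrullDim C' = 1) (hnodal' : Curv2.AtWorstNodal k C')
    (hg' : Subsingleton (Coh.HH C' (Coh.structureModule C') 1))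
    (p : C) (hp : Curv2.IsNode k C p) (hpc : IsClosed ({p} : Set C))
    (π : C' ⟶ C) (hπ : π ≫ (C ↘ (Spec (CommRingCat.of k))) = C' ↘ (Spec (CommRingCat.of k)))
    (hiso : IsIso (π ∣_ (⟨({p} : Set C)ᶜ, hpc.isOpen_compl⟩ : C.Opens)))
    (E : C'.IdealSheafData) (e : E.subscheme ≅ CohB1.ProjSpace 1 k)
    (he : e.hom ≫ CohB1.ProjSpace.toSpec 1 k = E.subschemeι ≫ (C' ↘ (Spec (CommRingCat.of k))))
    (hfib : ∀ x : C', π x = p ↔ x ∈ (E.support : Set C'))
    (F : C.Modules) (hF : FlatMod.IsFinLocFree F) :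
    Module.finrank k (Coh.HH C F 0) = Module.finrank k (Coh.HH C' ((Scheme.Modules.pullback π).obj F) 0) ∧
      Module.finrank k (Coh.HH C F 1) = Module.finrank k (Coh.HH C' ((Scheme.Modules.pullback π).obj F) 1) := by
  classical
  haveI hCn := Groth.Agent.CohFound.isNoetherian_of_isProper (C ↘ Spec (CommRingCat.of k))
  haveI := Groth.Agent.CohFound.isNoetherian_of_isProper (C' ↘ Spec (CommRingCat.of k))
  haveI : IsProper (π ≫ (C ↘ Spec (CommRingCat.of k))) := by rw [hπ]; infer_instance
  haveI : IsProper π := MorphismProperty.of_postcomp (W := @IsProper) (W' := @IsSeparated) π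
    (C ↘ Spec (CommRingCat.of k)) inferInstance inferInstance
  haveI : HasInjectiveResolutions C'.Modules := Groth.Agent.CohFound.hasInjectiveResolutions_modules _
  have hX := Groth.Agent.CurveAmple18.curveLike k C hdim.le
  have hX' := Groth.Agent.CurveAmple18.curveLike k C' hdim'.le
  let U : C.Opens := ⟨({p} : Set C)ᶜ, hpc.isOpen_compl⟩
  haveI : IsIso (π ∣_ U) := hiso
  have hU : Dense (U : Set C) := fun z => by
    obtain ⟨η, hηz, hη⟩ := Groth.Agent.CurveCoh17.exists_maximal_generization z
    refine (specializes_iff_mem_closure.1 hηz : z ∈ closure {η}) |> fun h => closure_mono ?_ h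
    refine Set.singleton_subset_iff.2 fun hp' : η = p => ?_
    refine Groth.Agent.CurveH1Min27.not_closed_of_generic (k := k) hdim
      (Groth.Agent.TFOne27.mem_genericPoints.mpr hη) ?_
    rw [hp']
    exact hpc
  let ψ := ClSub.unitToPush π
  haveI hmono : Mono ψ := ⟨fun {Z} g h e => by
    refine Scheme.Modules.hom_ext _ _ fun W => ?_
    ext s
    refine Groth.Agent.CurveCoh17.injective_app_of_dense π U hU W ?_
    exact congrArg (fun φ => φ.app W s) e⟩
  have hPc : Coh.IsCoh ((Scheme.Modules.pushforward π).obj (Coh.structureModule C')) :=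
    Groth.Agent.ProperFormalH7.isCoh_pushforward_of_isProper π Groth.Agent.CurveCoh17.isCoh_structureModule
  have hQ : Coh.IsCoh (cokernel ψ) :=
    Groth.Agent.M1.isCoh_cokernel Groth.Agent.CurveCoh17.isCoh_structureModule.1 hPc ψ
  obtain ⟨S, hS⟩ := Groth.Agent.CurveCoh17.exists_suppIn_of_maximal hdim.le hQ fun g hg =>
    Groth.Agent.CurveCoh17.eq_zero_stalk_cokernel ψ g (Groth.Agent.CurveCoh17.surjective_stalkLin_unitToPush π U
      (Groth.Agent.CurveCoh17.mem_of_dense_of_maximal hU hg))
  have h01 : Module.finrank k (Coh.HH C (Coh.structureModule C) 0) = 1 :=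
    (Groth.Agent.H0Comp5.finrank_h0_eq_card k).trans Nat.card_unique
  have h01' : Module.finrank k (Coh.HH C' (Coh.structureModule C') 0) = 1 :=
    (Groth.Agent.H0Comp5.finrank_h0_eq_card k).trans Nat.card_unique
  obtain ⟨e0⟩ := Groth.Agent.AsympCoh18.nonempty_HH_push_of_acyclic (k := k) π hπ C.isBasis_affineOpens
    (Coh.structureModule C') 0 (fun q hq => absurd hq (Nat.not_lt_zero q))
  let T : ShortComplex C.Modules := ShortComplex.mk ψ (cokernel.π ψ) (cokernel.condition ψ)
  have hT : T.ShortExact := { exact := ShortComplex.exact_of_g_is_cokernel _ (cokernelIsCokernel ψ) }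
  haveI f1 : Module.Finite k (Coh.HH C T.X₁ 0) := hX.fin _ Groth.Agent.CurveCoh17.isCoh_structureModule 0
  haveI f2 : Module.Finite k (Coh.HH C T.X₂ 0) := hX.fin _ hPc 0
  have hinj : Function.Injective (Groth.Agent.CurveCoh17.hmap k ψ 0) :=
    Groth.Agent.CurveH1Min27.hmap_zero_injective (k := k) ψ
  have heq : Module.finrank k (Coh.HH C T.X₁ 0) = Module.finrank k (Coh.HH C T.X₂ 0) :=
    h01.trans (h01'.symm.trans e0.finrank_eq.symm)
  have hsurj : Function.Surjective (Groth.Agent.CurveCoh17.hmap k T.f 0) :=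
    (LinearMap.injective_iff_surjective_of_finrank_eq_finrank heq).1 hinj
  haveI hH1 : Subsingleton (Coh.HH C T.X₁ (0 + 1)) := hg
  have hQ0 : ∀ z : Coh.HH C T.X₃ 0, z = 0 := fun z => by
    obtain ⟨y, rfl⟩ := (Groth.Agent.CurveCoh17.exact_hmap_hdelta k hT 0 z).1 (Subsingleton.elim _ _)
    obtain ⟨x, rfl⟩ := hsurj y
    exact (Groth.Agent.CurveCoh17.exact_hmap_hmap k hT 0 _).2 ⟨x, rfl⟩
  haveI : Epi ψ := (Groth.Agent.M1.epi_iff_stalk ψ).2 fun y b => by
    have hz : (cokernel.π ψ |> fun c => Groth.Agent.CurveCoh17.stalkLin c y b) = 0 := by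
      by_cases hy : y ∈ S
      · obtain ⟨s, hs⟩ := hS.exists_section ⊤ (Function.update (fun w => (0 : (cokernel ψ).presheaf.stalk w)) y
          (Groth.Agent.CurveCoh17.stalkLin (cokernel.π ψ) y b))
        have h1 := hs y hy trivial
        have hs0 : s = 0 := by
          rw [← (Groth.Agent.CurveCoh17.hh0 T.X₃).apply_symm_apply s, hQ0 ((Groth.Agent.CurveCoh17.hh0 T.X₃).symm s), map_zero]
        rw [hs0, map_zero, Function.update_self] at h1
        exact h1.symm
      · exact hS.zero y hy _
    exact (Groth.Agent.M1.exact_iff_stalk_eq_zero T).1 hT.exact y b hz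
  haveI hψ : IsIso ψ := isIso_of_mono_of_epi ψ
  have heul : Curv2.euler k C' (Coh.structureModule C') = Curv2.euler k C (Coh.structureModule C) := by
    rw [(hX'.adm Groth.Agent.CurveCoh17.isCoh_structureModule).euler_eq,
      (hX.adm Groth.Agent.CurveCoh17.isCoh_structureModule).euler_eq, h01, h01']
    haveI := hg; haveI := hg'
    rw [Module.finrank_zero_of_subsingleton, Module.finrank_zero_of_subsingleton]
  have hR : IsZero ((Coh.Rpush π 1).obj (Coh.structureModule C')) :=
    Groth.Agent.RatSingEuler13.isZero_rpush_of_rpushAb π _ 1 ((Groth.Agent.RatSingEuler13.main k π hπ hψ {p} hpc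
      (fun z hz => (Set.mem_singleton_iff.1 hz).symm ▸ hpc)
      (fun y => Topology.IsInducing.subtypeVal.topologicalKrullDim_le.trans hdim'.le)
      (fun y hy => Groth.Agent.RatSingEuler13.dim_le_zero (W := U) hiso hy)).2 heul)
  let P := (Scheme.Modules.pullback π).obj F
  obtain ⟨pf⟩ := Groth.Agent.S0927.result π (Coh.structureModule C') F hF 1
  have hRP : IsZero ((Coh.Rpush π 1).obj P) :=
    (((Groth.Agent.M2.tensorR F).map_isZero hR).of_iso (Groth.Agent.M2.tensorComm _ _)).of_iso
      ((Coh.Rpush π 1).mapIso (Groth.Agent.M2.tensorRUnit P).symm ≪≫ pf.symm)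
  let eP : F ≅ (Scheme.Modules.pushforward π).obj P :=
    (Groth.Agent.M2.tensorLUnit F).symm ≪≫ Groth.Agent.M2.tensorIso (asIso ψ) (Iso.refl F) ≪≫
      (Groth.Agent.CohMop.pushTenIso π F hF).app (Coh.structureModule C') ≪≫
      (Scheme.Modules.pushforward π).mapIso (Groth.Agent.M2.tensorLUnit P)
  have hPq : Coh.IsQCoh P := Groth.Agent.M1.isQCoh_pullback π (Groth.Agent.M2.isQCoh_of_isFinLocFree hF)
  obtain ⟨a0⟩ := Groth.Agent.AsympCoh18.nonempty_HH_push_of_acyclic (k := k) π hπ C.isBasis_affineOpens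
    P 0 (fun q hq => absurd hq (Nat.not_lt_zero q))
  obtain ⟨a1⟩ := Groth.Agent.Ruled10.nonempty_HH_push_one (k := k) π hπ P hPq hRP
  exact ⟨((Groth.Agent.CurveCoh17.hequiv k eP 0).trans a0).finrank_eq,
    ((Groth.Agent.CurveCoh17.hequiv k eP 1).trans a1).finrank_eq⟩

end Groth.Agent.S15920
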