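import Groth.Statements.S15921
import Groth.Agent.Lib.DlzCurve17.Duality
import Groth.Agent.Lib.CurveH1Min27.NodalOmega
import Groth.Agent.Lib.NodeMeet1
import Groth.Agent.Lib.CurveOm17.AnyField

set_option autoImplicit false
universe u
open CategoryTheory CategoryTheory.Limits AlgebraicGeometry
attribute [local instance] HasDerivedCategory.standard
open Curves

namespace Groth.Agent.S15921

/-- Let k be an algebraically closed field and X a nodal curve over k (proper over k, of dimension one,
with H^0(X, O_X) = k and at-worst-nodal singularities), ω_X its dualizing module (the degree -1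
cohomology sheaf of f^! O for f : X → Spec k, assuming Rf_* on D_QCoh and its right adjoint exist),
and Y ⊊ X a connected reduced closed subscheme of dimension one (a connected proper subcurve). Let
δ_Y be the number of points of Y lying in the closure of X ∖ Y. Then deg(ω_X|_Y) = -2χ(Y, O_Y) +
δ_Y, that is, 2g_Y - 2 + δ_Y where g_Y = 1 - χ(Y, O_Y). -/
theorem result (k : Type u) [Field k] [IsAlgClosed k] (X : Scheme.{u}) [X.Over (Spec (CommRingCat.of k))] [IsProper (X ↘ (Spec (CommRingCat.of k)))] (hdim : topologicalKrullDim X = 1)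
    (h0 : Module.finrank k (Coh.HH X (Coh.structureModule X) 0) = 1) (hX : Curv2.AtWorstNodal k X)
    [DCoh.HasRpush (X ↘ (Spec (CommRingCat.of k)))] (h : DCoh.RpushPreservesQCoh (X ↘ (Spec (CommRingCat.of k)))) [DCoh.HasShriek (X ↘ (Spec (CommRingCat.of k))) h]
    (OY : DCoh.DQCoh (Spec (CommRingCat.of k))) (hOY : Nonempty (OY.obj ≅ DCoh.inD (Spec (CommRingCat.of k)) (Coh.structureModule (Spec (CommRingCat.of k)))))
    (J : X.IdealSheafData) [IsReduced J.subscheme] [ConnectedSpace J.subscheme]
    (hJ1 : topologicalKrullDim J.subscheme = 1) (hJne : J ≠ ⊥) :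
    @Curv2.deg k _ J.subscheme ⟨J.subschemeι ≫ (X ↘ (Spec (CommRingCat.of k)))⟩ ((Scheme.Modules.pullback J.subschemeι).obj (DCoh.dualizingMod (X ↘ (Spec (CommRingCat.of k))) h OY 1)) 1 =
      -2 * @Curv2.euler k _ J.subscheme ⟨J.subschemeι ≫ (X ↘ (Spec (CommRingCat.of k)))⟩ (Coh.structureModule J.subscheme) +
        (Nat.card ((J.support : Set X) ∩ closure ((J.support : Set X)ᶜ) : Set X) : ℤ) := by
  haveI : ConnectedSpace X := Groth.Agent.CurveOm17.connectedSpace_of_h0 h0
  haveI := Groth.Agent.CohFound.isNoetherian_of_isProper (X ↘ (Spec (CommRingCat.of k)))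
  have hN : Groth.Agent.StabUniq18.IsNodalCurve k X :=
    ⟨inferInstance, Groth.Agent.CurveH1Min27.components_dim_one k X hdim, hX⟩
  haveI : AlgebraicGeometry.IsReduced X := hN.isReduced
  have hGor := Groth.Agent.CurveH1Min27.isInvertible_dualizing_nodal k X hdim hX h OY hOY
  obtain ⟨t, ht⟩ := Groth.Agent.DlzCurve17.exists_trace k X hdim h OY hOY
  have ht' : Groth.Agent.CurveH1Min27.IsTrace k (DCoh.dualizingMod (X ↘ (Spec (CommRingCat.of k))) h OY 1) t := ht
  obtain ⟨T, hT, rfl⟩ : ∃ (T : Set X) (hT : IsClosed T), J = Groth.Agent.CurveH1Min27.vI T hT :=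
    ⟨_, _, Groth.Agent.CurveH1Min27.eq_vI J⟩
  letI : (Groth.Agent.CurveH1Min27.vI T hT).subscheme.Over (Spec (CommRingCat.of k)) :=
    ⟨(Groth.Agent.CurveH1Min27.vI T hT).subschemeι ≫ (X ↘ (Spec (CommRingCat.of k)))⟩
  have hg := Groth.Agent.CurveH1Min27.genClosed_of_dim_one hdim.le hT inferInstance hJ1
  have hcs := Groth.Agent.CurveH1Min27.isComplSub_closure hT hg
  have hs : ((Groth.Agent.CurveH1Min27.vI T hT).support : Set X) = T :=
    Scheme.IdealSheafData.coe_support_vanishingIdeal _
  rw [hs]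
  have hcov : T ∪ closure Tᶜ = Set.univ :=
    Set.eq_univ_of_forall fun x => (Classical.em (x ∈ T)).imp id fun hx => subset_closure hx
  have hm := Groth.Agent.NodeMeet1.meet_eq_ncard hN hT isClosed_closure hg hcs.2.1 hcov
    fun η hη he => (hcs.2.2 η hη).1 he.2 he.1
  have hadj := Groth.Agent.CurveH1Min27.adjunction hGor ht' hdim.le hT isClosed_closure hcs
  have he : Curv2.euler k X (Groth.Agent.TFOne27.OT T hT) =
      Curv2.euler k (Groth.Agent.CurveH1Min27.vI T hT).subscheme (Coh.structureModule _) :=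
    Groth.Agent.TFOne27.euler_push (k := k) T hT _ (Groth.Agent.M1.isQCoh_structureModule _)
  rw [Groth.Agent.CurveH1Min27.delta_eq_degOn hGor hT, he, hm, ← Nat.card_coe_set_eq] at hadj
  exact hadj

end Groth.Agent.S15921
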