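import Groth.Statements.S15922
import Groth.Agent.Lib.VB17.Proper
import Groth.Agent.Lib.CurveCoh17.Point
-- import your own Groth.Agent.* helpers here

set_option autoImplicit false
universe u
open CategoryTheory CategoryTheory.Limits AlgebraicGeometry
open Curves TopologicalSpace Groth.Agent.M1 Groth.Agent.M2 Groth.Agent.CurveCoh17

namespace Groth.Agent.S15922

/-- Let k be an algebraically closed field, X a curve over k (proper over k, reduced, connected, every
irreducible component of dimension one) and P a closed point of X, with m_P the ideal sheaf of the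
reduced point P viewed as an O_X-module. Then m_P is a torsion-free sheaf of rank one and degree -1:
regular elements of each local ring O_{X,x} act injectively on the stalk of m_P at x, the stalk at
every generic point of an irreducible component has dimension one over the local ring there, and
χ(X, m_P) - χ(X, O_X) = -1. -/
theorem result (k : Type u) [Field k] [IsAlgClosed k] (X : Scheme.{u}) [X.Over (Spec (CommRingCat.of k))] [IsProper (X ↘ (Spec (CommRingCat.of k)))] [IsReduced X] [ConnectedSpace X]
    (hequi : ∀ Z ∈ irreducibleComponents (X : Type u), topologicalKrullDim Z = 1)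
    (P : X) (hP : IsClosed ({P} : Set X)) :
    TorSh.IsTorsionFree (ClSub.idealMod (Scheme.IdealSheafData.vanishingIdeal ⟨{P}, hP⟩)) ∧
    (∀ η : X, closure ({η} : Set X) ∈ irreducibleComponents (X : Type u) →
      Module.finrank (X.presheaf.stalk η) ((ClSub.idealMod (Scheme.IdealSheafData.vanishingIdeal ⟨{P}, hP⟩)).presheaf.stalk η) = 1) ∧
    Curv2.deg k X (ClSub.idealMod (Scheme.IdealSheafData.vanishingIdeal ⟨{P}, hP⟩)) 1 = -1 := by
  haveI := VB17.isNoetherian_of_over (k := k) (X := X)
  have hdim : topologicalKrullDim X ≤ 1 := by
    rw [VarDim.scheme_dim_eq_iSup_height]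
    refine iSup_le fun x => ?_
    obtain ⟨g, hgx, hg⟩ := exists_maximal_generization x
    have hZ : closure ({g} : Set X) ∈ irreducibleComponents (X : Type u) :=
      (VarDim.maximal_iff_mem_irreducibleComponents g).1 hg
    have h1 := hequi _ hZ
    rw [VarDim.topologicalKrullDim_closure_singleton] at h1
    rw [← h1]
    have : x ≤ g := hgx
    exact_mod_cast Order.height_mono this
  set Z := Scheme.IdealSheafData.vanishingIdeal (⟨{P}, hP⟩ : Closeds X)
  have hS := shortExact_idealMod Z
  haveI := hS.mono_f
  have hinj : ∀ x, Function.Injective (stalkLin (ClSub.idealModι Z) x) := (mono_iff_stalk _).1 hS.mono_f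
  refine ⟨fun x => ?_, fun η hη => ?_, ?_⟩
  · obtain ⟨e⟩ := nonempty_stalk_equiv_structureModule (X := X) x
    refine ⟨fun r hr a b hab => hinj x (e.injective ?_)⟩
    have := congrArg (fun w => e (stalkLin (ClSub.idealModι Z) x w)) hab
    simp only [map_smul, smul_eq_mul] at this
    have h2 := congrFun this 0
    funext i
    rw [Subsingleton.elim i 0]
    exact hr.left h2
  · have hne : η ∉ ({P} : Finset X) := fun h => by
      have h1 := hequi _ hη
      rw [Finset.mem_singleton.1 h, hP.closure_eq] at h1
      have h2 : topologicalKrullDim ({P} : Set X) ≤ 0 := topologicalKrullDim_zero_of_discreteTopology _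
      rw [h1] at h2
      exact absurd h2 (by norm_num)
    have hsurj : Function.Surjective (stalkLin (ClSub.idealModι Z) η) := fun b =>
      (exact_iff_stalk_eq_zero _).1 hS.exact η b ((suppIn_quotMod_point hP).zero η hne _)
    obtain ⟨e⟩ := nonempty_stalk_equiv_structureModule (X := X) η
    haveI : Nontrivial (X.presheaf.stalk η) := inferInstance
    rw [((LinearEquiv.ofBijective _ ⟨hinj η, hsurj⟩).trans e).finrank_eq, Module.finrank_fin_fun]
  · have hX : CurveLike k X := ⟨inferInstance, VB17.isSeparated_of_over (k := k), hdim, VB17.fin_of_proper⟩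
    have he := euler_add (k := k) hS (hX.adm (isCoh_idealMod Z)) (hX.adm (isCoh_quotMod Z))
    have hq := (suppIn_quotMod_point hP).euler_eq (hX.fin _ (isCoh_quotMod Z) 0)
    rw [finrank_quotMod_point (k := k) hP, finrank_residueField hP] at hq
    have he' : Curv2.euler k X (Coh.structureModule X) = Curv2.euler k X (ClSub.idealMod Z) + 1 := by
      refine he.trans ?_
      exact congrArg (Curv2.euler k X (ClSub.idealMod Z) + ·) hq
    rw [Curv2.deg]
    push_cast
    omega


end Groth.Agent.S15922
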