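import Groth.Statements.S15923
import Groth.Agent.Lib.CurveCoh17.RegPoint
import Groth.Agent.Lib.CurveCoh17.Point
import Groth.Agent.Lib.RegSmooth17.Scheme
import Groth.Agent.Lib.RegLoc.Basic
import Groth.Agent.S1535
import Groth.Agent.Lib.RankFree12.Scheme
import Groth.Agent.Lib.CurveR1_10.Dim

set_option autoImplicit false
universe u
open CategoryTheory CategoryTheory.Limits AlgebraicGeometry
open Curves

namespace Groth.Agent.S15923

set_option linter.style.haveILetI false
set_option backward.isDefEq.respectTransparency false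
set_option maxHeartbeats 800000
section Aux
open Groth.Agent Groth.Agent.M1 Groth.Agent.M2 Groth.Agent.CurveCoh17 TopologicalSpace

theorem point_ideal_stalk {X : Scheme.{u}} {x : X} (hx : IsClosed ({x} : Set X)) :
    (∃ φ : (ClSub.idealMod (Scheme.IdealSheafData.vanishingIdeal (⟨{x}, hx⟩ : Closeds X))).presheaf.stalk x
        →ₗ[X.presheaf.stalk x] X.presheaf.stalk x,
      Function.Injective φ ∧ LinearMap.range φ = IsLocalRing.maximalIdeal (X.presheaf.stalk x)) ∧
    ∀ y : X, y ≠ x → Nonempty ((ClSub.idealMod (Scheme.IdealSheafData.vanishingIdeal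
      (⟨{x}, hx⟩ : Closeds X))).presheaf.stalk y ≃ₗ[X.presheaf.stalk y] X.presheaf.stalk y) := by
  let Z := Scheme.IdealSheafData.vanishingIdeal (⟨{x}, hx⟩ : Closeds X)
  haveI := epi_toSubscheme Z
  haveI : Mono (ClSub.idealModι Z) := (M2.shortExact_idealMod Z).mono_f
  have hex := fun y => (M1.exact_iff_stalk_eq_zero _).1 (M2.shortExact_idealMod Z).exact y
  have hinj : ∀ y, Function.Injective (stalkLin (ClSub.idealModι Z) y) :=
    (M1.mono_iff_stalk (ClSub.idealModι Z)).1 inferInstance
  have e : ∀ y : X, (Coh.structureModule X).presheaf.stalk y ≃ₗ[X.presheaf.stalk y] X.presheaf.stalk y :=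
    fun y => (nonempty_stalk_equiv_structureModule y).some.trans (LinearEquiv.funUnique (Fin 1) _ _)
  refine ⟨⟨(e x).toLinearMap ∘ₗ stalkLin (ClSub.idealModι Z) x, (e x).injective.comp (hinj x), ?_⟩,
    fun y hy => ⟨(LinearEquiv.ofBijective _ ⟨hinj y, fun b =>
      hex y b ((suppIn_quotMod_point hx).zero y (by simpa using hy) _)⟩).trans (e y)⟩⟩
  obtain ⟨hkill, a₀, ha₀⟩ := quot_point_props hx
  let g : X.presheaf.stalk x →ₗ[X.presheaf.stalk x] (ClSub.quotMod Z).presheaf.stalk x :=
    stalkLin (ClSub.toSubscheme Z) x ∘ₗ (e x).symm.toLinearMap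
  have hsurj : Function.Surjective g := fun a => by
    obtain ⟨b, hb⟩ := (M1.epi_iff_stalk (ClSub.toSubscheme Z)).1 inferInstance x a
    exact ⟨e x b, (congrArg (stalkLin (ClSub.toSubscheme Z) x) ((e x).symm_apply_apply b)).trans hb⟩
  have hker : LinearMap.ker g = IsLocalRing.maximalIdeal (X.presheaf.stalk x) := by
    refine ((IsLocalRing.maximalIdeal.isMaximal _).eq_of_le ?_ fun r hr => ?_).symm
    · intro htop
      obtain ⟨c, hc⟩ := hsurj a₀
      exact ha₀ (hc.symm.trans (LinearMap.mem_ker.1 (htop ▸ Submodule.mem_top : c ∈ LinearMap.ker g)))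
    · rw [LinearMap.mem_ker, show r = r • (1 : X.presheaf.stalk x) by simp, map_smul, hkill r hr]
  rw [← hker]
  ext r
  constructor
  · rintro ⟨a, rfl⟩
    show stalkLin (ClSub.toSubscheme Z) x ((e x).symm (e x (stalkLin (ClSub.idealModι Z) x a))) = 0
    rw [LinearEquiv.symm_apply_apply]
    show ((M1.stalkAb x).map (ClSub.idealModι Z) ≫ (M1.stalkAb x).map (ClSub.toSubscheme Z)) a = 0
    rw [← Functor.map_comp, show ClSub.idealModι Z ≫ ClSub.toSubscheme Z = 0 from kernel.condition _, Functor.map_zero]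
    rfl
  · intro hr
    obtain ⟨a, ha⟩ := hex x ((e x).symm r) hr
    exact ⟨a, (congrArg (e x) ha).trans ((e x).apply_symm_apply r)⟩

theorem dim_pos {X : Scheme.{u}} (hequi : ∀ Z ∈ irreducibleComponents (X : Type u), topologicalKrullDim Z = 1)
    {P : X} (hP : IsClosed ({P} : Set X)) : 1 ≤ ringKrullDim (X.presheaf.stalk P) := by
  obtain ⟨Z, hZ, hsub⟩ := exists_mem_irreducibleComponents_subset_of_isIrreducible _
    (isIrreducible_singleton (x := P))
  have hcl := isClosed_of_mem_irreducibleComponents Z hZ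
  obtain ⟨η, hη⟩ := QuasiSober.sober (Set.mem_of_mem_of_subset hZ (fun W hW => hW)).1 hcl
  have hηP : η ⤳ P := hη.specializes (hsub rfl)
  have hne : η ≠ P := fun e => by
    have hZP : Z = {P} := by
      rw [← hη.def, e]
      exact hP.closure_eq
    have h1 := hequi Z hZ
    haveI : Subsingleton ↥Z := by rw [hZP]; infer_instance
    have := h1.symm.le.trans (topologicalKrullDim_zero_of_discreteTopology _)
    exact absurd this (by norm_num)
  rw [ringKrullDim_stalk_eq_coheight]
  have h0 : 0 < Order.coheight P := Order.coheight_pos.2 fun hmax =>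
    hne (hηP.antisymm (hmax hηP)).eq
  exact_mod_cast Order.one_le_iff_pos.2 h0

end Aux


/-- Let k be an algebraically closed field, X a curve over k (proper over k, reduced, connected, every
irreducible component of dimension one) and P a closed point of X, with m_P the ideal sheaf of the
reduced point P as an O_X-module. Then m_P is invertible (locally on X isomorphic to the structure
sheaf) exactly when some open neighbourhood of P is smooth over k. -/
theorem result (k : Type u) [Field k] [IsAlgClosed k] (X : Scheme.{u}) [X.Over (Spec (CommRingCat.of k))] [IsProper (X ↘ (Spec (CommRingCat.of k)))] [IsReduced X] [ConnectedSpace X]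
    (hequi : ∀ Z ∈ irreducibleComponents (X : Type u), topologicalKrullDim Z = 1)
    (P : X) (hP : IsClosed ({P} : Set X)) :
    PicF.IsInvertible (ClSub.idealMod (Scheme.IdealSheafData.vanishingIdeal ⟨{P}, hP⟩)) ↔
      ∃ U : X.Opens, P ∈ U ∧ Smooth (U.ι ≫ (X ↘ (Spec (CommRingCat.of k)))) := by
  haveI : IsLocallyNoetherian X :=
    LocallyOfFiniteType.isLocallyNoetherian (X ↘ Spec (CommRingCat.of k))
  haveI : CompactSpace X := QuasiCompact.compactSpace_of_compactSpace (X ↘ Spec (CommRingCat.of k))
  haveI : AlgebraicGeometry.IsNoetherian X := {}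
  set I := ClSub.idealMod (Scheme.IdealSheafData.vanishingIdeal (⟨{P}, hP⟩ : TopologicalSpace.Closeds X))
  obtain ⟨⟨φ, hφ, hrange⟩, haway⟩ := point_ideal_stalk hP
  have hdim1 := dim_pos hequi hP
  constructor
  · intro hI
    obtain ⟨e0⟩ := Groth.Agent.CurveCoh17.nonempty_stalk_equiv
      ((Groth.Agent.M2.isInvertible_iff_isFinLocFreeOfRank_one I).1 hI) P
    let e1 : I.presheaf.stalk P ≃ₗ[X.presheaf.stalk P] X.presheaf.stalk P :=
      e0.trans (LinearEquiv.funUnique (Fin 1) _ _)
    let t : X.presheaf.stalk P := φ (e1.symm 1)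
    have hm : IsLocalRing.maximalIdeal (X.presheaf.stalk P) = Ideal.span {t} := by
      rw [← hrange]
      refine le_antisymm ?_ ((Ideal.span_singleton_le_iff_mem _).2 ⟨_, rfl⟩)
      rintro _ ⟨a, rfl⟩
      refine Ideal.mem_span_singleton'.2 ⟨e1 a, ?_⟩
      show e1 a • t = φ a
      rw [← map_smul, ← map_smul, smul_eq_mul, mul_one, LinearEquiv.symm_apply_apply]
    haveI : IsRegularLocalRing (X.presheaf.stalk P) := by
      refine IsRegularLocalRing.of_spanFinrank_maximalIdeal_le (R := X.presheaf.stalk P) (le_trans ?_ hdim1)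
      rw [hm]
      have h1 : (Ideal.span ({t} : Set (X.presheaf.stalk P))).spanFinrank ≤ 1 :=
        (Submodule.spanFinrank_span_le_ncard_of_finite (Set.finite_singleton t)).trans (Set.ncard_singleton t).le
      exact_mod_cast h1
    let f := X ↘ Spec (CommRingCat.of k)
    haveI : LocallyOfFinitePresentation f := inferInstance
    refine ⟨f.smoothLocus, Groth.Agent.RegSmooth17.mem_smoothLocus_of_isRegularLocalRing f P
      (Groth.Agent.RegSmooth17.formallySmooth_residue_of_perfectField f P), ?_⟩
    rw [← Scheme.Hom.smoothLocus_eq_top_iff, ← Scheme.Hom.preimage_smoothLocus_eq]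
    exact f.smoothLocus.ι_preimage_self
  · rintro ⟨U, hPU, hU⟩
    letI : (U : Scheme.{u}).Over (Spec (CommRingCat.of k)) := ⟨U.ι ≫ (X ↘ Spec (CommRingCat.of k))⟩
    haveI : Smooth ((U : Scheme.{u}) ↘ Spec (CommRingCat.of k)) := hU
    haveI := Groth.Agent.S1535.result k (U : Scheme.{u}) ⟨P, hPU⟩
    haveI : IsRegularLocalRing (X.presheaf.stalk P) :=
      IsRegularLocalRing.of_ringEquiv (U.stalkIso ⟨P, hPU⟩).commRingCatIsoToRingEquiv
    haveI : IsDomain (X.presheaf.stalk P) := Groth.Agent.RegLoc.isDomain _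
    have hd : topologicalKrullDim X ≤ 1 := Groth.Agent.CurveR1_10.topologicalKrullDim_le_of_components fun Z hZ => (hequi Z hZ).le
    haveI := Groth.Agent.CurveCoh17.pid_stalk_of_regular hd P
    obtain ⟨t, ht⟩ := (IsPrincipalIdealRing.principal (IsLocalRing.maximalIdeal (X.presheaf.stalk P))).principal
    have ht0 : t ≠ 0 := by
      rintro rfl
      have hb : IsLocalRing.maximalIdeal (X.presheaf.stalk P) = ⊥ := by rw [ht]; simp
      have := hdim1
      rw [ringKrullDim_eq_zero_of_isField (IsLocalRing.isField_iff_maximalIdeal_eq.2 hb)] at this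
      exact absurd this (by norm_num)
    have hfree : ∀ y, Nonempty (I.presheaf.stalk y ≃ₗ[X.presheaf.stalk y] X.presheaf.stalk y) := by
      intro y
      by_cases hy : y = P
      · subst hy
        exact ⟨(LinearEquiv.ofInjective φ hφ).trans ((LinearEquiv.ofEq _ _ (hrange.trans ht)).trans
          (LinearEquiv.toSpanNonzeroSingleton _ _ t ht0).symm)⟩
      · exact haway y hy
    have hc : Coh.IsCoh I := Groth.Agent.CurveCoh17.isCoh_idealMod _
    have hlf : FlatMod.IsFinLocFree I := (Groth.Agent.M1.isFinLocFree_iff I).2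
      ⟨Groth.Agent.M1.isFP_of_isCoh hc, fun y => Module.Free.of_equiv (hfree y).some.symm⟩
    refine (Groth.Agent.M2.isInvertible_iff_isFinLocFreeOfRank_one _).2 fun y => ?_
    obtain ⟨W, n, hyW, ⟨e⟩⟩ := hlf y
    have hn : n = 1 := by
      rw [← Groth.Agent.RankFree12.rk_of_freeMod hc.1 e hyW]
      show Module.finrank _ _ = 1
      rw [((hfree y).some.baseChange (X.presheaf.stalk y) _ _ _).finrank_eq, Module.finrank_baseChange,
        Module.finrank_self]
    subst hn
    exact ⟨W, hyW, ⟨e⟩⟩

end Groth.Agent.S15923
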