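import Groth.Statements.S15924
import Groth.Agent.Lib.SepNode1

set_option autoImplicit false
universe u
open CategoryTheory CategoryTheory.Limits AlgebraicGeometry
open Curves

namespace Groth.Agent.S15924




/-- Let k be an algebraically closed field, X a curve over k (proper over k, reduced, connected, every
irreducible component of dimension one) and P a separating node of X, i.e. a closed point which is a
node and whose complement X ∖ {P} is not connected. Then the ideal sheaf m_P of the reduced point P,
as an O_X-module, is not simple: it admits an idempotent endomorphism other than 0 and the identity.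
(The converse, simplicity of m_P when P is not a separating node, also holds but is not part of this
statement.) -/
theorem result (k : Type u) [Field k] [IsAlgClosed k] (X : Scheme.{u}) [X.Over (Spec (CommRingCat.of k))] [IsProper (X ↘ (Spec (CommRingCat.of k)))] [IsReduced X] [ConnectedSpace X]
    (hequi : ∀ Z ∈ irreducibleComponents (X : Type u), topologicalKrullDim Z = 1)
    (P : X) (hP : IsClosed ({P} : Set X)) (hnode : Curv2.IsNode k X P) (hsep : ¬ IsPreconnected (({P} : Set X)ᶜ)) :
    ∃ e : ClSub.idealMod (Scheme.IdealSheafData.vanishingIdeal ⟨{P}, hP⟩) ⟶ ClSub.idealMod (Scheme.IdealSheafData.vanishingIdeal ⟨{P}, hP⟩),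
      e ≫ e = e ∧ e ≠ 0 ∧ e ≠ 𝟙 _ := by
  exact Groth.Agent.SepNode1.exists_idempotent_of_separating hequi hP hnode hsep

end Groth.Agent.S15924
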