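import Groth.Statements.S15926
import Groth.Agent.Lib.RankOneDeg27.Basic
import Groth.Agent.S1589
import Groth.Agent.Lib.GeomRed21.Locus
import Groth.Agent.Lib.CurveR1_10.Dim
-- import your own Groth.Agent.* helpers here

set_option autoImplicit false
universe u
open CategoryTheory CategoryTheory.Limits AlgebraicGeometry
open Curves

namespace Groth.Agent.S15926

/-- Let k be an algebraically closed field, X a nodal curve over k (proper over k, connected, every
irreducible component of dimension one, at-worst-nodal singularities), and L, M coherent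
torsion-free O_X-modules of rank one (regular elements of each local ring act injectively on the
stalk; the stalk at each generic point of an irreducible component has dimension one) such that
every point of X has an open neighbourhood on which L or M is isomorphic to the structure sheaf (M
is invertible wherever L is not). Then deg(L ⊗ M) = deg(L) + deg(M), degrees of rank-one sheaves
being χ(X, −) − χ(X, O_X). (L ⊗ M is again torsion-free of rank one; that clause is not part of this
statement.) -/
theorem result (k : Type u) [Field k] [IsAlgClosed k] (X : Scheme.{u}) [X.Over (Spec (CommRingCat.of k))] [IsProper (X ↘ (Spec (CommRingCat.of k)))] [ConnectedSpace X]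
    (hequi : ∀ Z ∈ irreducibleComponents (X : Type u), topologicalKrullDim Z = 1) (hX : Curv2.AtWorstNodal k X)
    (L M : X.Modules) (hLc : Coh.IsCoh L) (hMc : Coh.IsCoh M) (hLt : TorSh.IsTorsionFree L) (hMt : TorSh.IsTorsionFree M)
    (hLr : ∀ η : X, closure ({η} : Set X) ∈ irreducibleComponents (X : Type u) → Module.finrank (X.presheaf.stalk η) (L.presheaf.stalk η) = 1)
    (hMr : ∀ η : X, closure ({η} : Set X) ∈ irreducibleComponents (X : Type u) → Module.finrank (X.presheaf.stalk η) (M.presheaf.stalk η) = 1)
    (hLM : ∀ P : X, (∃ U : X.Opens, P ∈ U ∧ Nonempty (L.restrict U.ι ≅ Coh.structureModule (↑U : Scheme.{u}))) ∨ (∃ U : X.Opens, P ∈ U ∧ Nonempty (M.restrict U.ι ≅ Coh.structureModule (↑U : Scheme.{u})))) :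
    Curv2.deg k X (CohB1.tensorMod L M) 1 = Curv2.deg k X L 1 + Curv2.deg k X M 1 := by
  haveI := (S1589.result k X hequi hX).2
  haveI : AlgebraicGeometry.IsReduced X := GeomRed21.isReduced_of_geometricallyReduced (X ↘ Spec (CommRingCat.of k))
  have hd : topologicalKrullDim X ≤ 1 := CurveR1_10.topologicalKrullDim_le_of_components fun C hC => (hequi C hC).le
  haveI := (CurveAmple18.curveLike k X hd).noetherian
  have hgen : ∀ {N : X.Modules}, Coh.IsCoh N →
      (∀ η : X, closure ({η} : Set X) ∈ irreducibleComponents (X : Type u) →
        Module.finrank (X.presheaf.stalk η) (N.presheaf.stalk η) = 1) →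
      ∀ η ∈ genericPoints (X : Type u), η ∈ RankOneDeg27.trivLocus N := by
    intro N hN hr η hη
    letI := (TFOne27.isField_stalk hη).toField
    haveI : Module.Free (X.presheaf.stalk η) (N.presheaf.stalk η) := Module.Free.of_divisionRing _ _
    obtain ⟨U, n, hU, ⟨e⟩⟩ := M1.exists_freeMod_of_free_stalk (M1.isFP_of_isCoh hN) η
    have hn := RankFree12.rk_of_freeMod hN.1 e hU
    rw [RankFree12.rk, Module.finrank_baseChange, hr η hη] at hn
    subst hn
    exact ⟨U, hU, ⟨e ≪≫ M2.freeModOneIso _⟩⟩
  have h := RankOneDeg27.euler_tensor_of_trivial_or_trivial (k := k) hd hequi hLc hMc (hgen hLc hLr) (hgen hMc hMr) hLM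
  simp only [Curv2.deg, Nat.cast_one, one_mul]
  linarith


end Groth.Agent.S15926
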