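import Groth.Statements.S15927
import Groth.Agent.Lib.BMCoh.Sequence

set_option autoImplicit false
universe u
open CategoryTheory AlgebraicGeometry Opposite
open BMCoh

namespace Groth.Agent.S15927


/-- Let T be a twisted Borel–Moore cohomology theory with coefficients in A (a full subcategory of
R-modules containing R) on a constructible class V of Noetherian schemes, X an object of V, M a
coefficient module, j a natural number and i, n, i', n' integers with i' = i + 1 − 2(j + 1) and n' =
n − (j + 1); H^i(F_kX, M(n)) denotes the colimit of H^i(U, M(n)) over the open subschemes U of X
containing every point of codimension at most k (codimension of a point = dim X minus the dimension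
of its closure), and H^i(x, M(n)) the group of a point x (colimit over the nonempty opens of its
reduced closure). Let Q be residue data for X at level j: for every point x of codimension j + 1 a
map ∂_x : H^i(F_jX, M(n)) → H^{i'}(x, M(n')), agreeing with the residue maps of the Gysin sequences
on classes coming from the open part of a decomposition, each class having only finitely many
nonzero residues. Then the sequence H^i(F_{j+1}X, M(n)) → H^i(F_jX, M(n)) → ⊕_x H^{i'}(x, M(n')),
restriction followed by the total residue map ∂ = (∂_x)_x over the points of codimension j + 1, is
exact: the image of the restriction map is the kernel of ∂. -/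
theorem result (V : ObjectProperty Scheme.{u}) [BMCoh.IsConstructible V] (R : Type u) [CommRing R] (A : BMCoh.Coefs R) (T : BMCoh.TheoryOn V R A) (X : BMCoh.Obj V) (j : ℕ) (Q : T.ResData X j) (M : A.Cat) (i n i' n' : ℤ) (hi : i' = i + 1 - 2 * ((j : ℤ) + 1)) (hn : n' = n - ((j : ℤ) + 1)) : Function.Exact ((T.fjRes X (Nat.le_succ j) i n).app M).hom (Q.tot M i n i' n' hi hn).hom := by
  exact Groth.Agent.BMLib.exact_fjRes_resData M Q i n i' n' hi hn


end Groth.Agent.S15927
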