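import Groth.Statements.S1593
import Groth.Agent.Lib.Nodal27.Families
import Groth.Agent.Lib.FppfSource.Scheme
import Groth.Agent.Lib.SmoothFppf.Ring
-- import your own Groth.Agent.* helpers here

set_option autoImplicit false
universe u
open CategoryTheory CategoryTheory.Limits AlgebraicGeometry
open Curves

namespace Groth.Agent.S1593

/-- Being an at-worst-nodal family of curves is étale local on the source: let f : X → S be a morphism
and g_i : U_i → X a jointly surjective family of étale morphisms. If every composite g_i ≫ f is
at-worst-nodal of relative dimension one, then so is f. -/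
theorem result {X S : Scheme.{u}} (f : X ⟶ S) (ι : Type u) (U : ι → Scheme.{u})
    (g : ∀ i, U i ⟶ X) [∀ i, Etale (g i)] (hsurj : ∀ x : X, ∃ i, x ∈ Set.range (g i).base)
    (h : ∀ i, Curv2.IsNodalFamily (g i ≫ f)) : Curv2.IsNodalFamily f := by
  let d : (∐ U) ⟶ X := Limits.Sigma.desc g
  haveI : Etale d := IsZariskiLocalAtSource.sigmaDesc (P := @Etale) fun i => inferInstance
  haveI : Surjective d := ⟨fun x => by
    obtain ⟨i, u, hu⟩ := hsurj x
    refine ⟨Limits.Sigma.ι U i u, ?_⟩
    rw [← Scheme.Hom.comp_apply, Limits.Sigma.ι_desc]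
    exact hu⟩
  have hd : d ≫ f = Limits.Sigma.desc (fun i => g i ≫ f) := Limits.Sigma.hom_ext _ _ fun i => by simp [d]
  haveI : Flat (d ≫ f) := by rw [hd]; exact IsZariskiLocalAtSource.sigmaDesc (P := @Flat) fun i => (h i).1
  haveI : LocallyOfFinitePresentation (d ≫ f) := by
    rw [hd]; exact IsZariskiLocalAtSource.sigmaDesc (P := @LocallyOfFinitePresentation) fun i => (h i).2.1
  haveI : LocallyOfFinitePresentation f := FppfSource.locallyOfFinitePresentation_of_fppf_comp d f
  haveI : Flat f := FppfSource.descends_fppf_surjective_of_ring @Flat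
    (fun A B C _ _ _ _ _ _ _ _ _ h => by
      rw [RingHom.flat_algebraMap_iff] at h ⊢
      exact SmoothFppf.flat_of_faithfullyFlat A B C) d f inferInstance inferInstance inferInstance inferInstance
  exact Nodal27.isNodalFamily_of_famGood f (Nodal27.famGood_of_etale_cover f U g hsurj fun i =>
    haveI := (h i).1
    haveI := (h i).2.1
    Nodal27.famGood_of_isNodalFamily _ (h i))

end Groth.Agent.S1593
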