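import Groth.Statements.S15931
import Groth.Agent.Lib.BMCoh.Unique

set_option autoImplicit false
universe u
open CategoryTheory AlgebraicGeometry Opposite
open BMCoh

namespace Groth.Agent.S15931


/-- Let T be a twisted Borel–Moore cohomology theory with coefficients in A (a full subcategory of
R-modules containing R) on a constructible class V of Noetherian schemes, X an object of V and j a
natural number; H^i(F_kX, M(n)) denotes the colimit of H^i(U, M(n)) over the open subschemes U of X
containing every point of codimension at most k (codimension of a point = dim X minus the dimension
of its closure), and H^i(x, M(n)) the group of a point x (colimit over the nonempty opens of its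
reduced closure). A push-forward datum for X at level j consists of maps ι_x : H^i(x, M(n)) →
H^{i+2j}(F_jX, M(n+j)) for every point x of codimension j, every coefficient module M and all i, n,
such that for every open U of X containing the points of codimension at most j (of the dimension of
X), every nonempty open W of the reduced closure of x (of its dimension) and every proper morphism f
: W → U compatible with the two inclusions into X, the composite H^i(W) → H^i(x) → H^{i+2j}(F_jX) is
the push-forward along f followed by the canonical map from H^{i+2j}(U). There is at most one such
datum. -/
theorem result (V : ObjectProperty Scheme.{u}) [BMCoh.IsConstructible V] (R : Type u) [CommRing R] (A : BMCoh.Coefs R) (T : BMCoh.TheoryOn V R A) (X : BMCoh.Obj V) (j : ℕ) : Subsingleton (T.PushData X j) := by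
  exact Groth.Agent.BMLib.subsingleton_pushData


end Groth.Agent.S15931
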