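import Groth.Statements.S15939
import Mathlib

set_option autoImplicit false
universe u
open CAlg

namespace Groth.Agent.S15939
open Polynomial

open Polynomial in
/-- Let κ be a field and A a commutative κ-algebra whose only κ-subalgebras are the image of κ and A
itself, these two being different. Then A is finite-dimensional over κ, and A is isomorphic as a
κ-algebra to the dual numbers over κ, or to κ × κ, or A is a field which is either separable over κ
or isomorphic to κ[X]/(X^p - a) with p the (positive) characteristic of κ and a an element of κ that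
is not a p-th power. (The published statement also records that these four cases exclude one
another; that part is not restated.) -/
theorem result (κ A : Type u) [Field κ] [CommRing A] [Algebra κ A]
    (h : IsSimpleOrder (Subalgebra κ A)) :
    FiniteDimensional κ A ∧
    (Nonempty (A ≃ₐ[κ] DualNumber κ) ∨ Nonempty (A ≃ₐ[κ] (κ × κ)) ∨
      (IsField A ∧ (Algebra.IsSeparable κ A ∨
        ∃ (p : ℕ) (a : κ), p.Prime ∧ CharP κ p ∧ (∀ b : κ, b ^ p ≠ a) ∧
          Nonempty (A ≃ₐ[κ] AdjoinRoot (X ^ p - C a))))) := by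
  classical
  haveI : Nontrivial A := by
    by_contra hn
    haveI := not_nontrivial_iff_subsingleton.1 hn
    exact bot_ne_top (α := Subalgebra κ A) (SetLike.ext fun x => by simp [Subsingleton.elim x 0])
  have hinj : Function.Injective (algebraMap κ A) := (algebraMap κ A).injective
  have hgen : ∀ a : A, a ∉ (⊥ : Subalgebra κ A) → Algebra.adjoin κ {a} = ⊤ := fun a ha =>
    (eq_bot_or_eq_top _).resolve_left fun hb => ha (hb ▸ Algebra.self_mem_adjoin_singleton κ a)
  -- a surjective map out of a `κ`-algebra
  have hsurj : ∀ (T : Type u) [CommRing T] [Algebra κ T] (φ : T →ₐ[κ] A) (t : T), φ t ∉ (⊥ : Subalgebra κ A) →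
      Function.Surjective φ := by
    intro T _ _ φ t ht
    rw [← AlgHom.range_eq_top]
    exact top_unique ((hgen _ ht).symm.le.trans (Algebra.adjoin_le (by simp)))
  obtain ⟨a₀, -, ha₀⟩ := SetLike.exists_of_lt (bot_lt_top (α := Subalgebra κ A))
  have halg : IsIntegral κ a₀ := by
    by_contra hni
    have htr : Transcendental κ a₀ := fun h => hni h.isIntegral
    have h2 : a₀ ^ 2 ∉ (⊥ : Subalgebra κ A) := by
      intro h2
      obtain ⟨c, hc⟩ := Algebra.mem_bot.1 h2
      exact htr ⟨X ^ 2 - C c, X_pow_sub_C_ne_zero (by norm_num) c, by simp [hc]⟩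
    have h3 : a₀ ∈ Algebra.adjoin κ {a₀ ^ 2} := by rw [hgen _ h2]; trivial
    rw [Algebra.adjoin_singleton_eq_range_aeval] at h3
    obtain ⟨q, hq⟩ := h3
    have hq' : q.comp (X ^ 2) - X = 0 := by
      by_contra hne
      refine htr ⟨_, hne, ?_⟩
      have : aeval (a₀ ^ 2) q = a₀ := hq
      rw [map_sub, aeval_comp, map_pow, aeval_X, this, sub_self]
    have := congrArg natDegree (sub_eq_zero.1 hq')
    rw [natDegree_comp, natDegree_X_pow, natDegree_X] at this
    omega
  haveI hfin : FiniteDimensional κ A := by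
    have := halg.fg_adjoin_singleton
    rw [hgen _ ha₀] at this
    exact Module.finite_def.2 (by rwa [Algebra.top_toSubmodule] at this)
  refine ⟨hfin, ?_⟩
  haveI : IsArtinianRing A := IsArtinianRing.of_finite κ A
  by_cases hred : IsReduced A
  swap
  · left
    obtain ⟨x, hx0, hx⟩ : ∃ x : A, x ≠ 0 ∧ x * x = 0 := by
      by_contra! hc
      refine hred ⟨fun z hz => ?_⟩
      obtain ⟨n, hn⟩ := hz
      induction n generalizing z with
      | zero => rw [pow_zero] at hn; exact eq_zero_of_zero_eq_one hn.symm z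
      | succ n ih =>
        rcases n with _ | n
        · simpa using hn
        · exact ih z (by
            by_contra h0
            refine hc _ h0 ?_
            rw [← pow_add, show n + 1 + (n + 1) = (n + 1 + 1) + n by omega, pow_add, hn, zero_mul])
    have hxb : x ∉ (⊥ : Subalgebra κ A) := by
      intro hb
      obtain ⟨c, rfl⟩ := Algebra.mem_bot.1 hb
      rw [← map_mul] at hx
      have hc : c = 0 := mul_self_eq_zero.1 (hinj (hx.trans (map_zero _).symm))
      exact hx0 (by rw [hc, map_zero])
    let φ : DualNumber κ →ₐ[κ] A := DualNumber.lift ⟨(Algebra.ofId κ A, x), hx, fun _ => Commute.all _ _⟩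
    have hε : φ DualNumber.eps = x := DualNumber.lift_apply_eps _
    refine ⟨(AlgEquiv.ofBijective φ ⟨?_, hsurj _ φ DualNumber.eps (by rwa [hε])⟩).symm⟩
    rw [injective_iff_map_eq_zero]
    intro z hz
    have hz' : z = algebraMap κ _ z.fst + z.snd • DualNumber.eps := by
      ext <;> simp [TrivSqZeroExt.algebraMap_eq_inl]
    rw [hz', map_add, AlgHom.commutes, map_smul, hε] at hz
    by_cases hs : z.snd = 0
    · rw [hs, zero_smul, add_zero] at hz
      rw [hz', hs, hinj (hz.trans (map_zero _).symm)]
      simp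
    · refine absurd ?_ hxb
      rw [Algebra.mem_bot]
      refine ⟨-(z.snd⁻¹ * z.fst), ?_⟩
      rw [eq_comm, ← sub_eq_zero, map_neg, sub_neg_eq_add, map_mul, ← Algebra.smul_def, add_comm]
      have := congrArg (fun w => z.snd⁻¹ • w) hz
      simpa [smul_add, inv_smul_smul₀ hs] using this
  right
  by_cases hF : IsField A
  swap
  · left
    haveI := hred
    obtain ⟨x, hx0, hxu⟩ : ∃ x : A, x ≠ 0 ∧ ¬ IsUnit x := by
      by_contra! hc
      exact hF ⟨exists_pair_ne A, mul_comm, fun {z} hz => (hc z hz).exists_right_inv⟩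
    obtain ⟨n, y, hy⟩ := IsArtinian.exists_pow_succ_smul_dvd x (1 : A)
    rw [smul_eq_mul, smul_eq_mul, mul_one, pow_succ] at hy
    have hxy : x * (1 - x * y) = 0 := by
      refine IsReduced.eq_zero _ ⟨n + 1, ?_⟩
      rw [mul_pow, show x ^ (n + 1) = x ^ n * x by rw [pow_succ], pow_succ (1 - x * y) n]
      linear_combination (-(x * (1 - x * y) ^ n)) * hy
    set e := x * y
    have he : e * e = e := by
      show x * y * (x * y) = x * y
      linear_combination (-y) * hxy
    have he0 : e ≠ 0 := fun h0 => hx0 (by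
      rw [h0, sub_zero, mul_one] at hxy; exact hxy)
    have he1 : e ≠ 1 := fun h1 => hxu (IsUnit.of_mul_eq_one y h1)
    have heb : e ∉ (⊥ : Subalgebra κ A) := by
      intro hb
      obtain ⟨c, hc⟩ := Algebra.mem_bot.1 hb
      rw [← hc, ← map_mul] at he
      rcases mul_right_eq_self₀.1 (hinj he) with h' | h'
      · exact he1 (by rw [← hc, h', map_one])
      · exact he0 (by rw [← hc, h', map_zero])
    let φ : κ × κ →ₐ[κ] A :=
      { toFun := fun c => c.1 • e + c.2 • (1 - e)
        map_one' := by simp
        map_mul' := fun c d => by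
          simp only [Prod.fst_mul, Prod.snd_mul, Algebra.smul_def, map_mul]
          linear_combination (-(algebraMap κ A c.1 * algebraMap κ A d.1 + algebraMap κ A c.2 * algebraMap κ A d.2
            - algebraMap κ A c.1 * algebraMap κ A d.2 - algebraMap κ A c.2 * algebraMap κ A d.1)) * he
        map_zero' := by simp
        map_add' := fun c d => by simp [add_smul]; abel
        commutes' := fun r => by
          simp [Algebra.smul_def]
          ring }
    refine ⟨(AlgEquiv.ofBijective φ ⟨?_, hsurj _ φ (1, 0) (by simpa [φ] using heb)⟩).symm⟩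
    rw [injective_iff_map_eq_zero]
    rintro ⟨c, d⟩ hz
    have hz' : c • e + d • (1 - e) = 0 := hz
    have h1 := congrArg (e * ·) hz'
    simp only [mul_add, mul_smul_comm, mul_sub, mul_one, he, sub_self, smul_zero, add_zero, mul_zero] at h1
    have hc := (smul_eq_zero.1 h1).resolve_right he0
    rw [hc, zero_smul, zero_add] at hz'
    have hd := (smul_eq_zero.1 hz').resolve_right (sub_ne_zero.2 (Ne.symm he1))
    rw [hc, hd]; rfl
  right
  refine ⟨hF, ?_⟩
  letI := hF.toField
  rcases eq_bot_or_eq_top (separableClosure κ A).toSubalgebra with hsc | hsc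
  swap
  · left
    exact ⟨fun x => mem_separableClosure_iff.1 (show x ∈ (separableClosure κ A).toSubalgebra by rw [hsc]; trivial)⟩
  right
  haveI : IsPurelyInseparable κ A := by
    refine ⟨inferInstance, fun x hx => ?_⟩
    have : x ∈ (separableClosure κ A).toSubalgebra := mem_separableClosure_iff.2 hx
    rw [hsc] at this
    exact Algebra.mem_bot.1 this
  obtain ⟨p, hEx⟩ := ExpChar.exists κ
  have hpow : ∃ m, a₀ ^ p ^ m ∈ (⊥ : Subalgebra κ A) := by
    obtain ⟨m, hm⟩ := IsPurelyInseparable.pow_mem κ p a₀
    exact ⟨m, Algebra.mem_bot.2 hm⟩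
  obtain ⟨k, hk⟩ : ∃ k, Nat.find hpow = k + 1 := by
    refine ⟨Nat.find hpow - 1, (Nat.succ_pred ?_).symm⟩
    intro h0
    have := Nat.find_spec hpow
    rw [h0, pow_zero, pow_one] at this
    exact ha₀ this
  set b := a₀ ^ p ^ k
  have hb : b ∉ (⊥ : Subalgebra κ A) := Nat.find_min hpow (by omega)
  have hbp : b ^ p ∈ (⊥ : Subalgebra κ A) := by
    show (a₀ ^ p ^ k) ^ p ∈ _
    rw [← pow_mul, ← pow_succ, ← hk]
    exact Nat.find_spec hpow
  have hp : p.Prime := by
    rcases expChar_is_prime_or_one κ p with hp | hp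
    · exact hp
    · rw [hp, pow_one] at hbp; exact absurd hbp hb
  haveI : CharP κ p := by
    cases hEx with
    | zero => exact absurd hp Nat.not_prime_one
    | prime _ => assumption
  haveI : Fact p.Prime := ⟨hp⟩
  haveI : CharP A p := charP_of_injective_algebraMap hinj p
  obtain ⟨c, hc⟩ := Algebra.mem_bot.1 hbp
  have hnc : ∀ β : κ, β ^ p ≠ c := by
    intro β hβ
    refine hb (Algebra.mem_bot.2 ⟨β, (sub_eq_zero.1 (IsReduced.eq_zero _ ⟨p, ?_⟩)).symm⟩)
    rw [sub_pow_char, ← hc, ← hβ, map_pow, sub_self]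
  haveI : Fact (Irreducible (X ^ p - C c)) := ⟨X_pow_sub_C_irreducible_of_prime hp hnc⟩
  let φ : AdjoinRoot (X ^ p - C c) →ₐ[κ] A := AdjoinRoot.liftAlgHom _ (Algebra.ofId κ A) b (by simp [hc])
  refine ⟨p, c, hp, inferInstance, hnc, ⟨(AlgEquiv.ofBijective φ ⟨RingHom.injective φ.toRingHom,
    hsurj _ φ (AdjoinRoot.root _) (by simpa [φ] using hb)⟩).symm⟩⟩

end Groth.Agent.S15939
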