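import Groth.Statements.S1594
import Groth.Agent.Lib.Nodal27.Families
import Groth.Agent.Lib.TorsorSch25.Transfer
import Mathlib.AlgebraicGeometry.Morphisms.LocalFlatDescent
-- import your own Groth.Agent.* helpers here

set_option autoImplicit false
universe u
open CategoryTheory CategoryTheory.Limits AlgebraicGeometry
open Curves

namespace Groth.Agent.S1594

/-- (2) implies (1), for a covering by one flat quasi-compact surjective morphism: let f : X → S and g :
S' → S flat, quasi-compact and surjective. If the base change X ×_S S' → S' is at-worst-nodal of
relative dimension one then so is f. -/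
theorem result {X S S' : Scheme.{u}} (f : X ⟶ S) (g : S' ⟶ S) [Flat g] [QuasiCompact g] [Surjective g]
    (h : Curv2.IsNodalFamily (pullback.snd f g)) : Curv2.IsNodalFamily f := by
  have hg : (@Surjective ⊓ @Flat ⊓ @QuasiCompact : MorphismProperty Scheme) g := ⟨⟨inferInstance, inferInstance⟩, inferInstance⟩
  haveI := TorsorSch25.flat_descendsAlong
  haveI : Flat f := MorphismProperty.of_pullback_snd_of_descendsAlong (P := @Flat) hg h.1
  haveI : LocallyOfFinitePresentation f :=
    MorphismProperty.of_pullback_snd_of_descendsAlong (P := @LocallyOfFinitePresentation) hg h.2.1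
  exact Nodal27.isNodalFamily_of_famGood f
    (Nodal27.famGood_of_surjective_baseChange f g (Nodal27.famGood_of_isNodalFamily _ h))

end Groth.Agent.S1594
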