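import Groth.Statements.S15940
import Groth.Agent.Lib.Seminormal26.Scheme
-- import your own Groth.Agent.* helpers here

set_option autoImplicit false
universe u
open HTop

namespace Groth.Agent.S15940

open CategoryTheory AlgebraicGeometry in
/-- Let ν : X' → X be a seminormalization of the scheme X, that is, a universal homeomorphism inducing
isomorphisms on all residue fields which is initial among such morphisms with target X. If X is
seminormal then ν is an isomorphism. (The published statement is the equivalence: ν is an
isomorphism if and only if X is seminormal; the other direction rests on the source of a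
seminormalization being seminormal, which the predicate used here does not record, and is not
restated.) -/
theorem result {X' X : Scheme.{u}} (ν : X' ⟶ X)
    (hν : HTop.IsSeminormalization ν) (hX : HTop.IsSeminormal X) : IsIso ν := by
  obtain ⟨h, hh, -⟩ := SN26.isFinal_of_normal (r := True) (𝟙 X) (SN26.normalScheme_true_iff.2 hX)
    (SN26.goodHom_true_iff.2 hν.1)
  obtain ⟨k, -, hk⟩ := hν.2 X' ν hν.1.1 hν.1.2
  exact ⟨h, (hk (ν ≫ h) (by simp [hh])).trans (hk (𝟙 X') (Category.id_comp _)).symm, hh⟩

end Groth.Agent.S15940
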