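import Groth.Statements.S15942
import Groth.Agent.Lib.NeronGlue19.Basic
import Groth.Agent.Lib.WeilExt.Regular
import Groth.Agent.Lib.RegLoc.Basic
import Mathlib.AlgebraicGeometry.Morphisms.UniversallyOpen

set_option autoImplicit false
universe u
open Neron

namespace Groth.Agent.S15942

open CategoryTheory CategoryTheory.Limits AlgebraicGeometry TopologicalSpace

set_option linter.style.haveILetI false
set_option backward.isDefEq.respectTransparency.types false

open CategoryTheory AlgebraicGeometry in
/-- Let S be a Dedekind scheme (integral, Noetherian, separated, of dimension one, with regular local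
rings), K its function field with generic point η : Spec K → S, and G → S a smooth separated
S-scheme. Suppose that for every closed point p of S the base change G_p = G ×_S Spec O_{S,p} is a
Néron lft-model of its generic fibre over Spec O_{S,p}: for every smooth scheme Y over Spec O_{S,p},
restricting to generic fibres is a bijection from morphisms Y → G_p over Spec O_{S,p} onto morphisms
of generic fibres over K. Then G is a Néron lft-model of its generic fibre over S: for every smooth
S-scheme Y, restriction along η is a bijection from S-morphisms Y → G onto K-morphisms Y_η → G_η.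
(The published statement is for a smooth separated group scheme; the group structure plays no part
in the property or in its proof and is not assumed here.) -/
theorem result
    {S : Scheme.{u}} [IsIntegral S] [IsNoetherian S] [S.IsSeparated]
    (hreg : ∀ s : S, IsRegularLocalRing (S.presheaf.stalk s)) (hdim : topologicalKrullDim S = 1)
    (G : Over S) [Smooth G.hom] [IsSeparated G.hom]
    (hloc : ∀ p : S, IsClosed ({p} : Set S) →
      ∀ Y : Over (Spec (S.presheaf.stalk p)), Smooth Y.hom →
        Function.Bijective (fun g : Y ⟶ (Over.pullback (S.fromSpecStalk p)).obj G =>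
          (Over.pullback (Spec.map (S.presheaf.stalkSpecializes (genericPoint_specializes p)))).map g)) :
    ∀ Y : Over S, Smooth Y.hom →
      Function.Bijective (fun g : Y ⟶ G => (Over.pullback (S.fromSpecStalk (genericPoint S))).map g) := by
  intro Y hY
  haveI := hY
  let η := S.fromSpecStalk (genericPoint S)
  let d := pullback.fst Y.hom η
  haveI : IsLocallyNoetherian Y.left := LocallyOfFiniteType.isLocallyNoetherian Y.hom
  have hdom : ∀ y : Y.left, IsDomain (Y.left.presheaf.stalk y) := fun y => by
    haveI := WeilExt.isRegularLocalRing_of_smooth Y.hom hreg y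
    exact RegLoc.isDomain _
  have hηpt : η (IsLocalRing.closedPoint _) = genericPoint S := Scheme.fromSpecStalk_closedPoint
  have hD : ∀ ξ : Y.left, (∀ ζ, ζ ⤳ ξ → ζ = ξ) → ξ ∈ Set.range d := by
    intro ξ hξ
    obtain ⟨ζ, hζ, hζη⟩ :=
      Flat.generalizingMap Y.hom ((genericPoint_spec S).specializes (Set.mem_univ (Y.hom ξ)))
    obtain rfl := hξ ζ hζ
    obtain ⟨z, hz, -⟩ := Scheme.Pullback.exists_preimage_pullback (f := Y.hom) (g := η) ζ
      (IsLocalRing.closedPoint _) (by rw [hζη, hηpt])
    exact ⟨z, hz⟩
  refine ⟨fun g₁ g₂ hg => ?_, fun h => ?_⟩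
  · have h1 : d ≫ g₁.left = d ≫ g₂.left :=
      (pullback.lift_fst _ _ _).symm.trans
        ((congrArg (fun k => k.left ≫ pullback.fst G.hom η) hg).trans (pullback.lift_fst _ _ _))
    haveI := NeronGlue19.isReduced_of_isDomain hdom
    haveI : IsDominant d := ⟨fun y => by
      obtain ⟨ζ, hζ, hζη⟩ :=
        Flat.generalizingMap Y.hom ((genericPoint_spec S).specializes (Set.mem_univ (Y.hom y)))
      obtain ⟨z, hz, -⟩ := Scheme.Pullback.exists_preimage_pullback (f := Y.hom) (g := η) ζ
        (IsLocalRing.closedPoint _) (by rw [hζη, hηpt])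
      exact hζ.mem_closed isClosed_closure (subset_closure ⟨z, hz⟩)⟩
    exact Over.OverMorphism.ext
      (ext_of_isDominant_of_isSeparated G.hom ((Over.w g₁).trans (Over.w g₂).symm) d h1)
  let hG : (pullback Y.hom η) ⟶ G.left := h.left ≫ pullback.fst G.hom η
  have hhq : hG ≫ G.hom = d ≫ Y.hom := by
    show (h.left ≫ pullback.fst G.hom η) ≫ G.hom = pullback.fst Y.hom η ≫ Y.hom
    rw [Category.assoc, pullback.condition, pullback.condition, ← Category.assoc]
    congr 1
    exact Over.w h
  have key : ∀ y : Y.left, ∃ a : Spec (Y.left.presheaf.stalk y) ⟶ G.left,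
      a ≫ G.hom = Y.left.fromSpecStalk y ≫ Y.hom ∧ NeronGlue19.Compat d hG y a := by
    intro y
    let σ : Spec (Y.left.presheaf.stalk y) ⟶ Spec (S.presheaf.stalk (Y.hom y)) := Spec.map (Y.hom.stalkMap y)
    have hσ : σ ≫ S.fromSpecStalk (Y.hom y) = Y.left.fromSpecStalk y ≫ Y.hom :=
      Scheme.SpecMap_stalkMap_fromSpecStalk Y.hom
    by_cases hy : Y.hom y = genericPoint S
    · let σ' : Spec (Y.left.presheaf.stalk y) ⟶ Spec (S.presheaf.stalk (genericPoint S)) :=
        σ ≫ Spec.map (S.presheaf.stalkSpecializes (Inseparable.of_eq hy).specializes)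
      have hσ' : σ' ≫ η = Y.left.fromSpecStalk y ≫ Y.hom := by
        rw [Category.assoc, Scheme.SpecMap_stalkSpecializes_fromSpecStalk, hσ]
      let l : Spec (Y.left.presheaf.stalk y) ⟶ pullback Y.hom η :=
        pullback.lift (Y.left.fromSpecStalk y) σ' hσ'.symm
      refine ⟨l ≫ hG, by rw [Category.assoc, hhq, pullback.lift_fst_assoc], fun t t' htt => ?_⟩
      haveI : Mono η := inferInstance
      have : t ≫ l = t' := by
        rw [← cancel_mono d, Category.assoc, pullback.lift_fst, htt]
      rw [← Category.assoc, this]
    have hcl : IsClosed ({Y.hom y} : Set S) := by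
      refine isClosed_of_closure_subset fun x hx => ?_
      by_contra hne
      have h0 : genericPoint S ⤳ Y.hom y := (genericPoint_spec S).specializes (Set.mem_univ _)
      have h1 : Y.hom y ⤳ x := specializes_iff_mem_closure.2 hx
      let C₀ : TopologicalSpace.IrreducibleCloseds S :=
        ⟨closure {x}, isIrreducible_singleton.closure, isClosed_closure⟩
      let C₁ : TopologicalSpace.IrreducibleCloseds S :=
        ⟨closure {Y.hom y}, isIrreducible_singleton.closure, isClosed_closure⟩
      let C₂ : TopologicalSpace.IrreducibleCloseds S :=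
        ⟨closure {genericPoint S}, isIrreducible_singleton.closure, isClosed_closure⟩
      have hlt : ∀ {a b : S}, a ⤳ b → a ≠ b → closure ({b} : Set S) ⊂ closure {a} := fun {a b} hab hne' => by
        refine ⟨specializes_iff_closure_subset.1 hab, fun hsub => hne' ?_⟩
        exact (hab.antisymm (specializes_iff_closure_subset.2 hsub)).eq
      let c : LTSeries (TopologicalSpace.IrreducibleCloseds S) :=
        ((RelSeries.singleton _ C₀).snoc C₁ (by
          rw [RelSeries.last_singleton]
          exact (SetLike.coe_ssubset_coe (S := C₀) (T := C₁)).1 (hlt h1 (fun e => hne (e ▸ Set.mem_singleton _))))).snoc C₂ (by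
          rw [RelSeries.last_snoc]
          exact (SetLike.coe_ssubset_coe (S := C₁) (T := C₂)).1 (hlt h0 (fun e => hy e.symm)))
      have hc : ((2 : ℕ) : WithBot ℕ∞) ≤ topologicalKrullDim S := Order.LTSeries.length_le_krullDim c
      rw [hdim] at hc
      exact absurd hc (by norm_num)
    let ηp := Spec.map (S.presheaf.stalkSpecializes (genericPoint_specializes (Y.hom y)))
    have hηp : ηp ≫ S.fromSpecStalk (Y.hom y) = η := Scheme.SpecMap_stalkSpecializes_fromSpecStalk _
    let Yp := (Over.pullback (S.fromSpecStalk (Y.hom y))).obj Y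
    haveI : Smooth Yp.hom := inferInstanceAs (Smooth (pullback.snd Y.hom (S.fromSpecStalk (Y.hom y))))
    let u : ((Over.pullback ηp).obj Yp).left ⟶ pullback Y.hom η :=
      pullback.lift (pullback.fst Yp.hom ηp ≫ pullback.fst Y.hom (S.fromSpecStalk (Y.hom y)))
        (pullback.snd Yp.hom ηp)
        ((Category.assoc _ _ _).trans ((congrArg (pullback.fst Yp.hom ηp ≫ ·) pullback.condition).trans
          ((Category.assoc _ _ _).symm.trans ((congrArg (· ≫ S.fromSpecStalk (Y.hom y))
            (pullback.condition (f := Yp.hom) (g := ηp))).trans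
              ((Category.assoc _ _ _).trans (congrArg (pullback.snd Yp.hom ηp ≫ ·) hηp))))))
    have hu : u ≫ d = pullback.fst Yp.hom ηp ≫ pullback.fst Y.hom (S.fromSpecStalk (Y.hom y)) :=
      pullback.lift_fst _ _ _
    let hp : (Over.pullback ηp).obj Yp ⟶
        (Over.pullback ηp).obj ((Over.pullback (S.fromSpecStalk (Y.hom y))).obj G) :=
      Over.homMk (pullback.lift (pullback.lift (u ≫ hG) (pullback.snd Yp.hom ηp ≫ ηp) (by
        rw [Category.assoc, hhq, reassoc_of% hu]
        exact ((congrArg (pullback.fst Yp.hom ηp ≫ ·) pullback.condition).trans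
          ((Category.assoc _ _ _).symm.trans (congrArg (· ≫ S.fromSpecStalk (Y.hom y))
            (pullback.condition (f := Yp.hom) (g := ηp)))))))
        (pullback.snd Yp.hom ηp) (pullback.lift_snd _ _ _)) (pullback.lift_snd _ _ _)
    obtain ⟨k, hk⟩ := (hloc _ hcl Yp inferInstance).2 hp
    let l : Spec (Y.left.presheaf.stalk y) ⟶ Yp.left := pullback.lift (Y.left.fromSpecStalk y) σ hσ.symm
    refine ⟨l ≫ k.left ≫ pullback.fst G.hom _, ?_, fun {T} t t' htt => ?_⟩
    · rw [Category.assoc, Category.assoc, pullback.condition]
      have hkw : k.left ≫ pullback.snd G.hom _ = pullback.snd Y.hom _ := Over.w k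
      rw [reassoc_of% hkw, pullback.lift_snd_assoc, hσ]
    · let v : T ⟶ ((Over.pullback ηp).obj Yp).left := pullback.lift (t ≫ l) (t' ≫ pullback.snd Y.hom η) (by
        rw [← cancel_mono (S.fromSpecStalk (Y.hom y)), Category.assoc, Category.assoc, Category.assoc,
          Category.assoc, hηp, ← pullback.condition]
        show t ≫ l ≫ pullback.snd Y.hom _ ≫ _ = t' ≫ d ≫ Y.hom
        rw [← pullback.condition, pullback.lift_fst_assoc, reassoc_of% htt])
      have hv : v ≫ u = t' := by
        apply pullback.hom_ext
        · rw [Category.assoc]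
          show v ≫ u ≫ d = t' ≫ d
          rw [hu, ← htt]
          show pullback.lift _ _ _ ≫ pullback.fst _ _ ≫ _ = _
          rw [pullback.lift_fst_assoc, Category.assoc, pullback.lift_fst]
        · rw [Category.assoc, pullback.lift_snd, pullback.lift_snd]
      have e1 : pullback.fst Yp.hom ηp ≫ k.left ≫ pullback.fst G.hom (S.fromSpecStalk (Y.hom y)) = u ≫ hG :=
        (Category.assoc _ _ _).symm.trans <|
          (congrArg (· ≫ pullback.fst G.hom (S.fromSpecStalk (Y.hom y)))
            ((pullback.lift_fst _ _ _).symm.trans ((congrArg (fun m => m.left ≫ pullback.fst _ ηp) hk).trans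
              (pullback.lift_fst _ _ _)))).trans (pullback.lift_fst _ _ _)
      rw [← hv, Category.assoc, ← e1, pullback.lift_fst_assoc, Category.assoc]
  choose a ha hc using key
  obtain ⟨g, hgq, hgd⟩ := NeronGlue19.exists_extend Y.hom G.hom d hG hdom hD a ha hc
  refine ⟨Over.homMk g hgq, Over.OverMorphism.ext (pullback.hom_ext ?_ ?_)⟩
  · exact (pullback.lift_fst _ _ _).trans hgd
  · exact (pullback.lift_snd _ _ _).trans (Over.w h).symm

end Groth.Agent.S15942
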