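import Groth.Statements.S15948
import Groth.Agent.Lib.KS29.CondSquare
import Groth.Agent.Lib.FlatH4.GenPt
-- import your own Groth.Agent.* helpers here

set_option autoImplicit false
set_option backward.isDefEq.respectTransparency false
set_option backward.isDefEq.respectTransparency.types false
universe u
open Curves

namespace Groth.Agent.S15948

open CategoryTheory AlgebraicGeometry Limits in
/-- Let κ be a field, C a seminormal reduced scheme of finite type over κ whose irreducible components
all have dimension one, and ν : C̃ → C its normalisation (C̃ has integrally closed local domains, ν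
is finite over κ and restricts to an isomorphism over a dense open subset of C whose preimage is
dense in C̃). Let D → C be the reduced closed subscheme whose underlying set is the set of points at
which the local ring of C is not regular. Then the square with vertices C̃ ×_C D, C̃, D and C is a
push-out in the category of schemes, and moreover every fibre of ν is a reduced scheme. -/
theorem result {κ : Type u} [Field κ] {C Cn D : Scheme.{u}}
    (g : C ⟶ Spec (CommRingCat.of κ)) [LocallyOfFiniteType g] [QuasiCompact g] [IsReduced C]
    (hdimC : ∀ W ∈ irreducibleComponents (C : Type u), topologicalKrullDim W = 1)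
    (hsn : HTop.IsSeminormal C)
    (ν : Cn ⟶ C) [IsFinite ν] (hn : Pi1.IsNormalScheme Cn)
    (hbir : ∃ U : C.Opens, Dense (U : Set C) ∧ Dense ((ν ⁻¹ᵁ U : Cn.Opens) : Set Cn) ∧ IsIso (ν ∣_ U))
    (d : D ⟶ C) [IsClosedImmersion d] [IsReduced D]
    (hd : Set.range d.base = {x : C | ¬ IsRegularLocalRing (C.presheaf.stalk x)}) :
    IsPushout (pullback.fst ν d) (pullback.snd ν d) ν d ∧ ∀ x : C, IsReduced (ν.fiber x) := by
  have hdata : KS29.Cond.Data ν d := by
    refine ⟨inferInstance, (S7420.result C).1.1 hsn, LocallyOfFiniteType.isLocallyNoetherian g, inferInstance,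
      ?_, hbir, inferInstance, inferInstance, fun x hx => ?_, fun δ δ' hs => ?_⟩
    · haveI : ∀ x : Cn, _root_.IsReduced (Cn.presheaf.stalk x) := fun x => by
        haveI := (hn x).1; infer_instance
      exact isReduced_of_isReduced_stalk _
    · rw [hd] at hx
      haveI : IsRegularLocalRing (C.presheaf.stalk x) := not_not.1 hx
      exact RelMin.isDomain_normal
    · by_contra hne
      obtain ⟨η, hη, hsη⟩ := FlatH4.exists_isMaxPt_specializes (d δ')
      have hF : IsField (C.presheaf.stalk η) := MinPoint13.isField_stalk_of_specializes η hη
      have hηd : η ∉ Set.range d := by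
        rw [hd]
        intro hη'
        apply hη'
        haveI := hF.isDomain
        haveI : IsPrincipalIdealRing (C.presheaf.stalk η) := ⟨fun I => by
          letI := hF.toField
          rcases Ideal.eq_bot_or_top I with rfl | rfl
          · exact ⟨⟨0, by simp⟩⟩
          · exact ⟨⟨1, by simp⟩⟩⟩
        infer_instance
      have h12 : d δ' ⤳ d δ := hs.map d.continuous
      have hne₁ : η ≠ d δ' := fun e => hηd ⟨δ', e.symm⟩
      have hne₂ : d δ' ≠ d δ := fun e => hne (d.isClosedEmbedding.injective e)
      have hirr : closure ({η} : Set C) ∈ irreducibleComponents (C : Type u) := by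
        refine ⟨isIrreducible_singleton.closure, fun S hS hle => ?_⟩
        obtain ⟨ξ, hξ⟩ := QuasiSober.sober hS.closure isClosed_closure
        have hξη : ξ ⤳ η := hξ.specializes (subset_closure (hle (subset_closure rfl)))
        rw [← hη ξ hξη]
        exact fun s hs' => hξ.specializes (subset_closure hs') |> fun h => specializes_iff_mem_closure.1 h
      let W := closure ({η} : Set C)
      let mk : W → TopologicalSpace.IrreducibleCloseds W := fun a =>
        ⟨closure {a}, isIrreducible_singleton.closure, isClosed_closure⟩
      let a : W := ⟨η, subset_closure rfl⟩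
      let b : W := ⟨d δ', specializes_iff_mem_closure.1 hsη⟩
      let c : W := ⟨d δ, specializes_iff_mem_closure.1 (hsη.trans h12)⟩
      have hlt : ∀ p q : W, p.1 ⤳ q.1 → p.1 ≠ q.1 → mk q < mk p := by
        intro p q hpq hne'
        refine lt_of_le_not_ge ?_ fun hle => ?_
        · exact closure_minimal (Set.singleton_subset_iff.2 (specializes_iff_mem_closure.1 ((subtype_specializes_iff p q).2 hpq)))
            isClosed_closure
        · exact hne' (hpq.antisymm ((subtype_specializes_iff q p).1 (specializes_iff_mem_closure.2 (hle (subset_closure rfl))))).eq
      let l : LTSeries (TopologicalSpace.IrreducibleCloseds W) :=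
        ((RelSeries.singleton _ (mk c)).snoc (mk b) (hlt b c h12 hne₂)).snoc (mk a) (by
          simpa using hlt a b hsη hne₁)
      have h2 := Order.LTSeries.length_le_krullDim l
      rw [show Order.krullDim (TopologicalSpace.IrreducibleCloseds W) = 1 from hdimC W hirr] at h2
      exact absurd (show (2 : ℕ) ≤ 1 by exact_mod_cast h2) (by norm_num)
  exact ⟨hdata.isPinch.1.isPushout, fun x => hdata.isReduced_fiber x⟩

end Groth.Agent.S15948
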