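import Groth.Statements.S15949
import Groth.Agent.Lib.P1Group6.Main
import Groth.Agent.Lib.AbRigid.Maximal
import Groth.Agent.Lib.ProjSpace.BaseChange
-- import your own Groth.Agent.* helpers here

set_option autoImplicit false
universe u
open AlgGrp

namespace Groth.Agent.S15949

set_option linter.style.haveILetI false
set_option backward.isDefEq.respectTransparency.types false


open CategoryTheory AlgebraicGeometry in
/-- Auxiliary step: let κ be an arbitrary field, G a group scheme over κ which is smooth over κ, and φ :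
P¹_κ → G a morphism over κ. Then φ is constant: there is a κ-rational point g of G such that φ is
the structure morphism P¹_κ → Spec κ followed by g. (The published proof states this step for any
smooth group scheme over a field in the course of proving the main proposition.) -/
theorem result (κ : Type u) [Field κ]
    (G : Over (Spec (CommRingCat.of κ))) [GrpObj G] [Smooth G.hom]
    (φ : CohB1.ProjSpaceOver 1 (Spec (CommRingCat.of κ)) ⟶ G.left)
    (hφ : φ ≫ G.hom = CohB1.ProjSpaceOver.toBase 1 (Spec (CommRingCat.of κ))) :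
    ∃ g : Spec (CommRingCat.of κ) ⟶ G.left, g ≫ G.hom = 𝟙 _ ∧
      φ = CohB1.ProjSpaceOver.toBase 1 (Spec (CommRingCat.of κ)) ≫ g := by
  classical
  let K := AlgebraicClosure κ
  haveI : IsSeparated G.hom := Groth.Agent.AbRigid.isSeparated_of_grpObj G
  let ι₀ := Groth.Agent.ProjSpace.overSpecIso 1 κ
  let φ' : CohB1.ProjSpace 1 κ ⟶ G.left := ι₀.hom ≫ φ
  have hφ' : φ' ≫ G.hom = CohB1.ProjSpace.toSpec 1 κ := by
    rw [Category.assoc, hφ, Groth.Agent.ProjSpace.overSpecIso_hom_toBase]
  let ψ : Spec (CommRingCat.of K) ⟶ Spec (CommRingCat.of κ) := Spec.map (CommRingCat.ofHom (algebraMap κ K))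
  let q := Groth.Agent.ProjSpace.map 1 (algebraMap κ K)
  have hq : IsPullback q (CohB1.ProjSpace.toSpec 1 K) (CohB1.ProjSpace.toSpec 1 κ) ψ :=
    Groth.Agent.ProjSpace.isPullback_map 1 (algebraMap κ K)
  haveI : Flat ψ := (HasRingHomProperty.Spec_iff (P := @Flat)).2
    (RingHom.flat_algebraMap_iff.2 (inferInstance : Module.Flat κ K))
  haveI : Surjective ψ := ⟨fun x => ⟨Classical.arbitrary _, Subsingleton.elim _ _⟩⟩
  haveI : Flat q := MorphismProperty.of_isPullback hq.flip ‹Flat ψ›
  haveI : Surjective q := MorphismProperty.of_isPullback hq.flip ‹Surjective ψ›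
  haveI : Epi q := Flat.epi_of_flat_of_surjective q
  let GK := (Over.pullback ψ).obj G
  letI : GrpObj GK := Functor.grpObjObj
  haveI : IsSeparated GK.hom := MorphismProperty.pullback_snd _ _ ‹IsSeparated G.hom›
  haveI : LocallyOfFiniteType GK.hom := MorphismProperty.pullback_snd _ _ (inferInstance : LocallyOfFiniteType G.hom)
  let Φ : Groth.Agent.RegExt.P K ⟶ GK := Over.homMk (Limits.pullback.lift (q ≫ φ') (CohB1.ProjSpace.toSpec 1 K) (by
    rw [Category.assoc, hφ', hq.w])) (Limits.pullback.lift_snd _ _ _)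
  obtain ⟨g₀, hg₀⟩ := Groth.Agent.P1Group6.exists_pt_eq_const K GK Φ
  let σ : Spec (CommRingCat.of κ) ⟶ CohB1.ProjSpace 1 κ :=
    Spec.map (CommRingCat.ofHom (MvPolynomial.aeval (fun _ => (0 : κ))).toRingHom) ≫ Groth.Agent.ProjSpace.chart 1 κ 0
  have hσ : σ ≫ CohB1.ProjSpace.toSpec 1 κ = 𝟙 _ := by
    rw [Category.assoc, Groth.Agent.ProjSpace.chart_toSpec, ← Spec.map_comp, ← CommRingCat.ofHom_comp, ← Spec.map_id]
    congr 2
    ext r
    simp
  refine ⟨σ ≫ φ', by rw [Category.assoc, hφ', hσ], ?_⟩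
  rw [← cancel_epi ι₀.hom, Groth.Agent.ProjSpace.overSpecIso_hom_toBase_assoc]
  show φ' = CohB1.ProjSpace.toSpec 1 κ ≫ σ ≫ φ'
  rw [← cancel_epi q, hq.w_assoc]
  have e : q ≫ φ' = CohB1.ProjSpace.toSpec 1 K ≫ g₀.left ≫ Limits.pullback.fst G.hom ψ := by
    have h1 := congrArg (fun f : Groth.Agent.RegExt.P K ⟶ GK => f.left ≫ Limits.pullback.fst G.hom ψ) hg₀
    exact ((Limits.pullback.lift_fst (q ≫ φ') (CohB1.ProjSpace.toSpec 1 K) _).symm.trans h1).trans (Category.assoc _ _ _)
  let σK : Spec (CommRingCat.of K) ⟶ CohB1.ProjSpace 1 K :=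
    hq.lift (ψ ≫ σ) (𝟙 _) (by rw [Category.assoc, hσ, Category.comp_id, Category.id_comp])
  have e2 : ψ ≫ σ ≫ φ' = g₀.left ≫ Limits.pullback.fst G.hom ψ := by
    rw [← Category.assoc ψ, ← hq.lift_fst (ψ ≫ σ) (𝟙 _) (by rw [Category.assoc, hσ, Category.comp_id, Category.id_comp]),
      Category.assoc, e, ← Category.assoc, hq.lift_snd, Category.id_comp]
  rw [e2, e]

end Groth.Agent.S15949
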