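import Groth.Statements.S1595
import Groth.Agent.Lib.Nodal27.Families
-- import your own Groth.Agent.* helpers here

set_option autoImplicit false
universe u
open CategoryTheory CategoryTheory.Limits AlgebraicGeometry
open Curves

namespace Groth.Agent.S1595

/-- If S' → S is étale and f : X → S' is at-worst-nodal of relative dimension one, then the composite X
→ S is at-worst-nodal of relative dimension one. -/
theorem result {X S S' : Scheme.{u}} (e : S' ⟶ S) [Etale e] (f : X ⟶ S') (hf : Curv2.IsNodalFamily f) :
    Curv2.IsNodalFamily (f ≫ e) := by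
  obtain ⟨hflat, hlfp, -⟩ := id hf
  haveI := hflat
  haveI := hlfp
  have h := Nodal27.famGood_of_isNodalFamily f hf
  refine Nodal27.isNodalFamily_of_famGood (f ≫ e) fun L _ _ t => Nodal27.good_of_cover _ fun x => ?_
  let i := pullbackRightPullbackFstIso e t f
  let b := pullback.snd f (pullback.fst e t)
  let q := pullback.snd e t
  haveI : Etale q := MorphismProperty.pullback_snd _ _ inferInstance
  obtain ⟨z, rfl⟩ := i.hom.surjective x
  have hu : IsClosed ({b z} : Set (pullback e t : Scheme.{u})) :=
    Nodal27.isClosed_of_etale_of_isClosed q (𝟙 _) (by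
      rw [show ({q (b z)} : Set (Spec (CommRingCat.of L))) = Set.univ from
        Set.eq_univ_of_forall fun w => Set.mem_singleton_iff.2 (Subsingleton.elim (α := PrimeSpectrum L) _ _)]
      exact isClosed_univ)
  let P := pointOfClosedPoint q (b z) hu
  haveI : Etale (P ≫ q) := by rw [show P ≫ q = 𝟙 _ from pointOfClosedPoint_comp _ _ _]; infer_instance
  haveI : Etale P := Etale.of_comp P q
  haveI : Etale (pullback.fst b P) := MorphismProperty.pullback_fst _ _ inferInstance
  obtain ⟨w, hw, -⟩ := Scheme.Pullback.exists_preimage_pullback (f := b) (g := P) z (IsLocalRing.closedPoint L)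
    (pointOfClosedPoint_apply q (b z) hu _).symm
  refine ⟨_, pullback.fst b P ≫ i.hom, inferInstance, ⟨w, by rw [Scheme.Hom.comp_apply, hw]⟩, ?_⟩
  have he : (pullback.fst b P ≫ i.hom) ≫ pullback.snd (f ≫ e) t = pullback.snd b P := by
    rw [Category.assoc, pullbackRightPullbackFstIso_hom_snd, ← Category.assoc, pullback.condition, Category.assoc,
      pointOfClosedPoint_comp, Category.comp_id]
  refine (Nodal27.good_congr (Iso.refl _) ?_).1
    ((Nodal27.good_congr (pullbackLeftPullbackSndIso f (pullback.fst e t) P)
      (pullbackLeftPullbackSndIso_hom_snd _ _ _)).2 (h L (P ≫ pullback.fst e t)))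
  rw [Iso.refl_hom, Category.id_comp, he]

end Groth.Agent.S1595
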