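import Groth.Statements.S15957
import Groth.Agent.Lib.NeronCrit19.StrictPoints
import Groth.Agent.S0539
import Groth.Agent.S0506
-- import your own Groth.Agent.* helpers here

set_option autoImplicit false
universe u
open Neron

namespace Groth.Agent.S15957

set_option linter.style.haveILetI false
set_option backward.isDefEq.respectTransparency.types false


open CategoryTheory AlgebraicGeometry in
/-- (ii) ⇒ (i): let R be a discrete valuation ring with field of fractions K and G a smooth separated
group scheme over Spec R. Suppose that for every local extension R ⊆ R' of discrete valuation rings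
of ramification index one (the maximal ideal of R generates that of R' and the residue field
extension is separable, i.e. geometrically reduced) with R' strictly Henselian, and K' the fraction
field of R', every K'-valued point of G over R extends to an R'-valued point. Then G is a Néron
lft-model of its generic fibre: for every smooth scheme Y over Spec R, restriction to generic fibres
is a bijection from morphisms Y → G over R onto morphisms Y_K → G_K over K. (The published statement
is the equivalence of this criterion, of the Néron lft property, and of a third intermediate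
criterion; only this implication is stated.) -/
theorem result
    (R : Type u) [CommRing R] [IsDomain R] [IsDiscreteValuationRing R]
    (G : Over (Spec (CommRingCat.of R))) [GrpObj G] [Smooth G.hom] [IsSeparated G.hom]
    (h : ∀ (R' : Type u) [CommRing R'] [IsDomain R'] [IsDiscreteValuationRing R'] [Algebra R R']
        [IsLocalHom (algebraMap R R')] [HenselianLocalRing R'] [IsSepClosed (IsLocalRing.ResidueField R')],
      (IsLocalRing.maximalIdeal R).map (algebraMap R R') = IsLocalRing.maximalIdeal R' →
      Algebra.IsGeometricallyReduced (IsLocalRing.ResidueField R) (IsLocalRing.ResidueField R') →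
      ∀ x : Spec (CommRingCat.of (FractionRing R')) ⟶ G.left,
        x ≫ G.hom = Spec.map (CommRingCat.ofHom ((algebraMap R' (FractionRing R')).comp (algebraMap R R'))) →
        ∃ y : Spec (CommRingCat.of R') ⟶ G.left, y ≫ G.hom = Spec.map (CommRingCat.ofHom (algebraMap R R')) ∧
          Spec.map (CommRingCat.ofHom (algebraMap R' (FractionRing R'))) ≫ y = x) :
    ∀ Y : Over (Spec (CommRingCat.of R)), Smooth Y.hom →
      Function.Bijective (fun g : Y ⟶ G => (Neron.genericFibre R).map g) := by
  intro Y hY
  haveI := hY
  refine Groth.Agent.NeronCrit19.bijective_genericFibre Y G fun U f hf hU x hx hdim l hl => ?_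
  obtain ⟨hdom, hdvr, hinj, hloc⟩ := Groth.Agent.NeronCrit19.stalk_facts Y.hom x hx hdim
  haveI := hdom
  haveI := hdvr
  haveI := hloc
  let O := Y.left.presheaf.stalk x
  letI : Algebra R O := (Groth.Agent.WeilExt.rStalk Y.hom x).hom.toAlgebra
  haveI : IsLocalHom (algebraMap R O) := hloc
  obtain ⟨hmax, hgr⟩ := Groth.Agent.NeronCrit19.stalk_residue_facts Y.hom x hinj rfl
  haveI := hgr
  obtain ⟨S, _, _, _, _, hS⟩ := Groth.Agent.S0537.result O
  haveI := hS
  obtain ⟨H, _, _, _, _, hH⟩ := Groth.Agent.S0506.result O
  haveI := hH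
  obtain ⟨hSd, hSdvr⟩ := ((Groth.Agent.S9262.result O H S).2).1 ⟨inferInstance, hdvr⟩
  haveI := hSd
  haveI := hSdvr
  haveI : HenselianLocalRing S := Hensel.IsStrictHenselization.henselian (R := O)
  haveI := Hensel.IsStrictHenselization.isSepClosure (R := O) (S := S)
  haveI : IsSepClosed (IsLocalRing.ResidueField S) :=
    IsSepClosure.sep_closed (IsLocalRing.ResidueField O)
  haveI : Algebra.IsSeparable (IsLocalRing.ResidueField O) (IsLocalRing.ResidueField S) :=
    IsSepClosure.separable
  letI : Algebra R S := ((algebraMap O S).comp (algebraMap R O)).toAlgebra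
  haveI : IsScalarTower R O S := IsScalarTower.of_algebraMap_eq fun _ => rfl
  haveI : IsLocalHom (algebraMap R S) := RingHom.isLocalHom_comp _ _
  have hm : (IsLocalRing.maximalIdeal R).map (algebraMap R S) = IsLocalRing.maximalIdeal S := by
    rw [IsScalarTower.algebraMap_eq R O S, ← Ideal.map_map, hmax, Groth.Agent.S0538.result O S]
  haveI : IsScalarTower (IsLocalRing.ResidueField R) (IsLocalRing.ResidueField O) (IsLocalRing.ResidueField S) :=
    IsScalarTower.of_algebraMap_eq fun z => by
      obtain ⟨r, rfl⟩ := IsLocalRing.residue_surjective z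
      rfl
  have hgS : Algebra.IsGeometricallyReduced (IsLocalRing.ResidueField R) (IsLocalRing.ResidueField S) :=
    Groth.Agent.NeronCrit19.isGeometricallyReduced_trans _ (IsLocalRing.ResidueField O) _
  have hinjS : Function.Injective (algebraMap O S) := by
    haveI := Groth.Agent.S0539.result O S
    exact FaithfulSMul.algebraMap_injective O S
  let K := FractionRing O
  let L := FractionRing S
  let jKL : K →+* L := IsFractionRing.lift (g := (algebraMap S L).comp (algebraMap O S))
    ((IsFractionRing.injective S L).comp hinjS)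
  have hjKL : ∀ o : O, jKL (algebraMap O K o) = algebraMap S L (algebraMap O S o) :=
    fun o => IsFractionRing.lift_algebraMap _ o
  let γ : Spec (CommRingCat.of K) ⟶ G.left := l ≫ f
  have hγ : γ ≫ G.hom = Spec.map (Groth.Agent.WeilExt.rStalk Y.hom x ≫ Groth.Agent.WeilExt.toFF O) := by
    simp only [γ, Category.assoc, hf, reassoc_of% hl]
    rw [Spec.map_comp, Groth.Agent.WeilExt.rStalk_spec, Groth.Agent.WeilExt.genι, Category.assoc]
  obtain ⟨y, hy, hyγ⟩ := h S hm hgS (Spec.map (CommRingCat.ofHom jKL) ≫ γ) (by
    rw [Category.assoc, hγ, ← Spec.map_comp]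
    congr 1
    ext r
    exact hjKL _)
  let z := y (IsLocalRing.closedPoint S)
  obtain ⟨W, hW, hzW, -⟩ := AlgebraicGeometry.exists_isAffineOpen_mem_and_subset (X := G.left) (x := z) (U := ⊤) trivial
  have hyr : Set.range y ⊆ (W : Set G.left) := by
    rintro _ ⟨q, rfl⟩
    exact ((IsLocalRing.specializes_closedPoint q).map y.continuous).mem_open W.isOpen hzW
  have hγr : Set.range γ ⊆ (W : Set G.left) := by
    rintro _ ⟨q, rfl⟩
    have hq : q = (Spec.map (CommRingCat.ofHom jKL)) (IsLocalRing.closedPoint L) := Subsingleton.elim _ _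
    rw [hq, ← Scheme.Hom.comp_apply, ← hyγ, Scheme.Hom.comp_apply]
    exact hyr ⟨_, rfl⟩
  let ly := IsOpenImmersion.lift hW.fromSpec y (by rw [hW.range_fromSpec]; exact hyr)
  let lγ := IsOpenImmersion.lift hW.fromSpec γ (by rw [hW.range_fromSpec]; exact hγr)
  have hly : ly ≫ hW.fromSpec = y := IsOpenImmersion.lift_fac _ _ _
  have hlγ : lγ ≫ hW.fromSpec = γ := IsOpenImmersion.lift_fac _ _ _
  let a := Spec.preimage ly
  let b := Spec.preimage lγ
  have hab : a ≫ CommRingCat.ofHom (algebraMap S L) = b ≫ CommRingCat.ofHom jKL := by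
    apply Spec.map_injective
    simp only [Spec.map_comp, a, b, Spec.map_preimage]
    rw [← cancel_mono hW.fromSpec, Category.assoc, Category.assoc, hly, hlγ, hyγ]
  have hrange : ∀ w, b w ∈ Set.range (Groth.Agent.WeilExt.toFF O) := by
    intro w
    rcases ValuationRing.isInteger_or_isInteger O (b w) with hb | ⟨t, ht⟩
    · exact hb
    by_cases h0 : b w = 0
    · exact ⟨0, by rw [map_zero, h0]⟩
    by_cases htu : IsUnit t
    · obtain ⟨v, rfl⟩ := htu
      refine ⟨((v⁻¹ : Oˣ) : O), ?_⟩
      apply inv_injective
      show ((algebraMap O K) _)⁻¹ = _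
      rw [← ht, map_units_inv, inv_inv]
    · exfalso
      have hw : algebraMap S L (a w) = jKL (b w) :=
        congrArg (fun m : Γ(G.left, W) ⟶ CommRingCat.of L => m.hom w) hab
      have h1 : algebraMap S L (a w * algebraMap O S t) = algebraMap S L 1 := by
        rw [map_mul, hw, ← hjKL, ← map_mul, ht, mul_inv_cancel₀ h0, map_one, map_one]
      have h2 := IsFractionRing.injective S L h1
      exact (map_mem_nonunits_iff (algebraMap O S) t).2 htu (IsUnit.of_mul_eq_one _ ((mul_comm _ _).trans h2))
  obtain ⟨a₀, ha₀⟩ := Groth.Agent.WeilExt.exists_lift_of_range_subset b (Groth.Agent.WeilExt.toFF O)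
    (IsFractionRing.injective O (FractionRing O)) hrange
  let σ₀ : Spec O ⟶ G.left := Spec.map a₀ ≫ hW.fromSpec
  have hσ₀ : Spec.map (Groth.Agent.WeilExt.toFF O) ≫ σ₀ = γ := by
    simp only [σ₀]
    rw [← Spec.map_comp_assoc, ha₀, Spec.map_preimage, hlγ]
  refine ⟨Over.homMk σ₀ ?_, hσ₀⟩
  show σ₀ ≫ G.hom = Spec.map (Groth.Agent.WeilExt.rStalk Y.hom x)
  obtain ⟨φ, hφ⟩ := Spec.map_surjective (σ₀ ≫ G.hom)
  rw [← hφ]
  congr 1
  have : φ ≫ Groth.Agent.WeilExt.toFF O =
      Groth.Agent.WeilExt.rStalk Y.hom x ≫ Groth.Agent.WeilExt.toFF O := by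
    apply Spec.map_injective
    rw [Spec.map_comp, hφ, reassoc_of% hσ₀, hγ]
  ext r
  exact IsFractionRing.injective O (FractionRing O)
    (congrArg (fun m : CommRingCat.of R ⟶ CommRingCat.of (FractionRing O) => m.hom r) this)

end Groth.Agent.S15957
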