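import Groth.Statements.S15958
import Groth.Agent.Lib.NeronGlue19.Descent
import Groth.Agent.Lib.AbRigid.KernelPair
import Groth.Agent.Lib.GrpLocus20.MaxOpen

set_option autoImplicit false
universe u
open Neron

namespace Groth.Agent.S15958

open CategoryTheory Limits AlgebraicGeometry MonoidalCategory CartesianMonoidalCategory MonObj
open Groth.Agent.NeronGlue19

set_option linter.style.haveILetI false
set_option backward.isDefEq.respectTransparency.types false

open CategoryTheory AlgebraicGeometry MonObj in
/-- Let S be a Dedekind scheme (integral, Noetherian, separated, of dimension one, with regular local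
rings) with generic point η : Spec K → S, and let G', G and G'' be smooth separated group schemes
over S sitting in a short exact sequence 0 → G' → G → G'' → 0: i : G' → G and q : G → G'' are
homomorphisms, i identifies G' with the kernel of q, and q is flat and surjective. If G' and G'' are
Néron lft-models of their generic fibres (for every smooth S-scheme Y, restriction to η is a
bijection from S-morphisms into them onto K-morphisms of generic fibres), then so is G. -/
theorem result
    {S : Scheme.{u}} [IsIntegral S] [IsNoetherian S] [S.IsSeparated]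
    (hreg : ∀ s : S, IsRegularLocalRing (S.presheaf.stalk s)) (hdim : topologicalKrullDim S = 1)
    (G' G G'' : Over S) [GrpObj G'] [GrpObj G] [GrpObj G'']
    [Smooth G'.hom] [IsSeparated G'.hom] [Smooth G.hom] [IsSeparated G.hom] [Smooth G''.hom] [IsSeparated G''.hom]
    (i : G' ⟶ G) (q : G ⟶ G'') [IsMonHom i] [IsMonHom q]
    (hker : AlgGrp.IsKernel i q) [Flat q.left] [Surjective q.left]
    (hG' : ∀ Y : Over S, Smooth Y.hom →
        Function.Bijective (fun g : Y ⟶ G' => (Over.pullback (S.fromSpecStalk (genericPoint S))).map g))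
    (hG'' : ∀ Y : Over S, Smooth Y.hom →
        Function.Bijective (fun g : Y ⟶ G'' => (Over.pullback (S.fromSpecStalk (genericPoint S))).map g)) :
    ∀ Y : Over S, Smooth Y.hom →
        Function.Bijective (fun g : Y ⟶ G => (Over.pullback (S.fromSpecStalk (genericPoint S))).map g) := by
  simp only [bijective_iff] at hG' hG'' ⊢
  set η₀ := S.fromSpecStalk (genericPoint S)
  have hqs : Smooth q.left := by
    have hp := ((AbRigid.isPullback_kernelPair q i hker).map (Over.forget S)).flip
    haveI : Smooth (fst G G').left := MorphismProperty.pullback_fst G.hom G'.hom ‹Smooth G'.hom›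
    haveI : LocallyOfFinitePresentation (q.left ≫ G''.hom) := by rw [Over.w]; infer_instance
    haveI : LocallyOfFinitePresentation q.left := SchBasic.locallyOfFinitePresentation_of_comp q.left G''.hom
    haveI : Surjective (fst G G' * (snd G G' ≫ i)).left := MorphismProperty.of_isPullback hp.flip ‹Surjective q.left›
    haveI : Surjective (⊤ : (G ⊗ G').left.Opens).ι := ⟨fun x => ⟨⟨x, trivial⟩, rfl⟩⟩
    exact GrpLocus20.descendsAlong_smooth hp ⟨inferInstanceAs (Flat q.left), inferInstanceAs (LocallyOfFinitePresentation q.left)⟩ ⊤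
      (inferInstanceAs (Smooth ((⊤ : (G ⊗ G').left.Opens).ι ≫ (fst G G').left)))
      (inferInstanceAs (Surjective ((⊤ : (G ⊗ G').left.Opens).ι ≫ (fst G G' * (snd G G' ≫ i)).left)))
  haveI : Mono i := by
    refine ⟨fun {T} x y h => hker.hom_ext h ?_⟩
    exact toUnit_unique _ _
  have hinj : ∀ W : Over S, Smooth W.hom → Function.Injective (fun g : W ⟶ G => NeronGlue19.ι η₀ W ≫ g) := by
    intro W hW f₁ f₂ h
    simp only at h
    have hu : NeronGlue19.ι η₀ W ≫ (f₁ * f₂⁻¹) = 1 := by
      rw [MonObj.comp_mul, GrpObj.comp_inv, h, mul_inv_cancel]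
    have hq : (f₁ * f₂⁻¹) ≫ q = 1 := (hG'' W hW).1 (by
      show NeronGlue19.ι η₀ W ≫ (f₁ * f₂⁻¹) ≫ q = NeronGlue19.ι η₀ W ≫ 1
      rw [← Category.assoc, hu, MonObj.one_comp, MonObj.comp_one])
    let u := hker.lift (f₁ * f₂⁻¹) (toUnit W) (by rw [hq, Hom.one_def])
    have hu1 : u = 1 := (hG' W hW).1 (by
      show NeronGlue19.ι η₀ W ≫ u = NeronGlue19.ι η₀ W ≫ 1
      rw [← cancel_mono i, Category.assoc, hker.lift_fst, hu, MonObj.comp_one, MonObj.one_comp])
    have h6 := hker.lift_fst (f₁ * f₂⁻¹) (toUnit W) (by rw [hq, Hom.one_def])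
    rw [show hker.lift (f₁ * f₂⁻¹) (toUnit W) (by rw [hq, Hom.one_def]) = 1 from hu1, MonObj.one_comp] at h6
    exact mul_inv_eq_one.1 h6.symm
  intro Y hY
  haveI := hY
  refine ⟨hinj Y hY, fun h => ?_⟩
  obtain ⟨g, hg⟩ := (hG'' Y hY).2 (h ≫ q)
  simp only at hg
  haveI := hqs
  let P : Over S := Over.mk (pullback.fst g.left q.left ≫ Y.hom)
  let p : P ⟶ Y := Over.homMk (pullback.fst g.left q.left) rfl
  let r : P ⟶ G := Over.homMk (pullback.snd g.left q.left) (by
    show pullback.snd g.left q.left ≫ G.hom = pullback.fst g.left q.left ≫ Y.hom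
    rw [← Over.w q, ← pullback.condition_assoc, Over.w g])
  have hpr : p ≫ g = r ≫ q := Over.OverMorphism.ext pullback.condition
  haveI : Smooth p.left := inferInstanceAs (Smooth (pullback.fst g.left q.left))
  haveI : Surjective p.left := inferInstanceAs (Surjective (pullback.fst g.left q.left))
  haveI : Smooth P.hom := inferInstanceAs (Smooth (pullback.fst g.left q.left ≫ Y.hom))
  let k := (resMap η₀ p ≫ h) * (NeronGlue19.ι η₀ P ≫ r)⁻¹
  have hk : k ≫ q = 1 := by
    rw [MonObj.mul_comp, GrpObj.inv_comp, Category.assoc, Category.assoc, ← hg, ← hpr, resMap_ι_assoc,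
      mul_inv_cancel]
  obtain ⟨k₁, hk₁⟩ := (hG' P inferInstance).2 (hker.lift k (toUnit _) (by rw [hk, Hom.one_def]))
  simp only at hk₁
  refine exists_of_cover η₀ p hinj h ((k₁ ≫ i) * r) ?_
  rw [MonObj.comp_mul, ← Category.assoc, hk₁, hker.lift_fst]
  show (resMap η₀ p ≫ h) * (NeronGlue19.ι η₀ P ≫ r)⁻¹ * (NeronGlue19.ι η₀ P ≫ r) = _
  rw [inv_mul_cancel_right]

end Groth.Agent.S15958
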