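import Groth.Statements.S1596
import Groth.Agent.Lib.CurveR1_10.Basic
import Groth.Agent.Lib.CurveR1_10.Dim
import Groth.Agent.Lib.NodalRed10.Scheme
-- import your own Groth.Agent.* helpers here

set_option autoImplicit false
universe u
open CategoryTheory CategoryTheory.Limits AlgebraicGeometry
open Curves

namespace Groth.Agent.S1596

/-- Let f : X → S be a proper morphism of schemes that is at-worst-nodal of relative dimension one with
geometrically connected fibres. Then R¹f_*O_X is a finite locally free O_S-module and R^q f_*O_X = 0
for every q ≥ 2. The published statement also includes the compatibility of these direct images with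
base change, which is not asserted here. (Existence of injective resolutions in the category of
O_X-modules is carried as an instance binder.) -/
theorem result {X S : Scheme.{u}} (f : X ⟶ S) [IsProper f] (hf : Curv2.IsNodalFamily f)
    [GeometricallyConnected f] [HasInjectiveResolutions X.Modules] :
    FlatMod.IsFinLocFree ((Coh.Rpush f 1).obj (Coh.structureModule X)) ∧
      ∀ q : ℕ, 2 ≤ q → IsZero ((Coh.Rpush f q).obj (Coh.structureModule X)) := by
  obtain ⟨hflat, hlfp, hfib⟩ := hf
  haveI := hflat
  haveI := hlfp
  have hdim : ∀ s : S, topologicalKrullDim ↥(f.fiber s) ≤ 1 := fun s =>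
    Groth.Agent.CurveR1_10.topologicalKrullDim_le_of_components fun Z hZ => le_of_eq ((hfib s).1 Z hZ)
  have hsec : ∀ s : S, Function.Surjective (f.fiberToSpecResidueField s).appTop := fun s => by
    letI : (f.fiber s).Over (Spec (CommRingCat.of (S.residueField s))) := ⟨f.fiberToSpecResidueField s⟩
    have sq : IsPullback (f.fiberι s) (f.fiberToSpecResidueField s) f (S.fromSpecResidueField s) :=
      IsPullback.of_hasPullback _ _
    haveI : LocallyOfFiniteType ((f.fiber s) ↘ Spec (CommRingCat.of (S.residueField s))) :=
      MorphismProperty.of_isPullback (P := @LocallyOfFiniteType) sq inferInstance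
    haveI : GeometricallyReduced (f.fiberToSpecResidueField s) :=
      Groth.Agent.NodalRed10.geometricallyReduced_of_atWorstNodal (f.fiber s) (hfib s).2
    haveI : GeometricallyConnected (f.fiberToSpecResidueField s) :=
      MorphismProperty.of_isPullback (P := @GeometricallyConnected) sq inferInstance
    exact (Groth.Agent.CurveR1_10.bijective_appTop_fiber f s).2
  exact ⟨Groth.Agent.CurveR1_10.isFinLocFree_R1 f hdim hsec, fun q hq =>
    Groth.Agent.CurveR1_10.isZero_Rq f (d := 1) (fun s => by simpa using hdim s) hq⟩

end Groth.Agent.S1596
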