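import Groth.Statements.S15963
import Groth.Agent.Lib.Seminormal26.Normal
-- import your own Groth.Agent.* helpers here

set_option autoImplicit false
universe u
open HTop

namespace Groth.Agent.S15963

open CategoryTheory AlgebraicGeometry in
/-- Let S be a reduced Noetherian scheme, π : S̃ → S its normalisation (S̃ has integrally closed local
domains, π is integral and an isomorphism over a dense open subset of S with dense preimage), ν : X'
→ S a seminormalization of S (X' seminormal, ν a universal homeomorphism with residue-field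
isomorphisms, initial among such) and g : S̃ → X' a morphism with g followed by ν equal to π. Then ν
and g are scheme-theoretically dominant (the structure sheaf maps injectively into the direct
image), and if π is finite then so are ν and g. -/
theorem result {S Sn X' : Scheme.{u}}
    [IsNoetherian S] [IsReduced S]
    (π : Sn ⟶ S) [IsIntegralHom π] (hn : Pi1.IsNormalScheme Sn)
    (hbir : ∃ U : S.Opens, Dense (U : Set S) ∧ Dense ((π ⁻¹ᵁ U : Sn.Opens) : Set Sn) ∧ IsIso (π ∣_ U))
    (ν : X' ⟶ S) (hν : HTop.IsSeminormalization ν) (hX' : HTop.IsSeminormal X')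
    (g : Sn ⟶ X') (hg : g ≫ ν = π) :
    (IsSchemeTheoreticallyDominant ν ∧ IsSchemeTheoreticallyDominant g) ∧
      (IsFinite π → IsFinite ν ∧ IsFinite g) := by
  obtain ⟨U, hU, -, hiso⟩ := hbir
  haveI : IsReduced X' := (SN26.normalScheme_true_iff.2 hX').isReduced
  have hG : SN26.GoodHom True ν := SN26.goodHom_true_iff.2 hν.1
  haveI := hG.isAffineHom
  have hhom := UH.isHomeomorph_of_isUnivHomeo hν.1.1
  haveI : IsDominant π := ⟨hU.mono fun x hx => by
    obtain ⟨y, hy⟩ := (π ∣_ U).surjective ⟨x, hx⟩
    exact ⟨y.1, by rw [← morphismRestrict_base_coe, hy]⟩⟩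
  haveI : IsDominant ν := ⟨hhom.surjective.denseRange⟩
  haveI : IsDominant g := by
    refine ⟨?_⟩
    have hd : Dense (Set.range π) := (inferInstance : IsDominant π).denseRange
    rw [← hg, show Set.range (g ≫ ν) = ν '' Set.range g from Set.range_comp ν g] at hd
    intro x
    have := hd (ν x)
    replace := hhom.isClosedMap.closure_image_subset _ this
    obtain ⟨x', hx', e⟩ := this
    exact hhom.injective e ▸ hx'
  haveI : QuasiCompact (g ≫ ν) := by rw [hg]; infer_instance
  haveI : QuasiCompact g := QuasiCompact.of_comp g ν
  haveI h1 : IsSchemeTheoreticallyDominant ν := .of_isDominant ν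
  haveI h2 : IsSchemeTheoreticallyDominant g := .of_isDominant g
  refine ⟨⟨h1, h2⟩, fun hπ => ?_⟩
  haveI : IsFinite (g ≫ ν) := by rw [hg]; exact hπ
  exact ⟨SN26.isFinite_of_factor g ν, IsFinite.of_comp g ν⟩

end Groth.Agent.S15963
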