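import Groth.Statements.S1598
import Groth.Agent.Lib.RegBC19.Basic
import Groth.Agent.S0543
import Mathlib.RingTheory.AdicCompletion.LocalRing
import Mathlib.RingTheory.AdicCompletion.AsTensorProduct
-- import your own Groth.Agent.* helpers here

set_option autoImplicit false
universe u
open CategoryTheory CategoryTheory.Limits AlgebraicGeometry
open Resolve

namespace Groth.Agent.S1598

set_option linter.style.haveILetI false
set_option backward.isDefEq.respectTransparency.types false


/-- Let A be a Noetherian local ring with completion A^, X locally of finite type over Spec A, Y its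
base change to Spec A^, and y a point of Y lying over the closed point of Spec A^ with image x in X.
Then the local ring of Y at y is regular if and only if the local ring of X at x is regular. -/
theorem result (A : Type u) [CommRing A] [IsLocalRing A] [IsNoetherianRing A]
    (X : Scheme.{u}) (f : X ⟶ Spec (CommRingCat.of A)) [LocallyOfFiniteType f]
    (y : Curv2.bcCpl A f) (hy : (Curv2.bcCplSnd A f).base y = IsLocalRing.closedPoint (Curv2.cpl A)) :
    IsRegularLocalRing ((Curv2.bcCpl A f).presheaf.stalk y) ↔
      IsRegularLocalRing (X.presheaf.stalk ((Curv2.bcCplFst A f).base y)) := by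
  haveI : IsNoetherianRing (Curv2.cpl A) := Compl.isNoetherianRing_adicCompletion _ (IsNoetherian.noetherian _)
  let φ : CommRingCat.of A ⟶ CommRingCat.of (Curv2.cpl A) := CommRingCat.ofHom (algebraMap A (Curv2.cpl A))
  haveI : IsLocalRing (CommRingCat.of A) := ‹IsLocalRing A›
  haveI : IsLocalRing (CommRingCat.of (Curv2.cpl A)) := inferInstanceAs (IsLocalRing (Curv2.cpl A))
  haveI : IsLocalHom φ.hom := inferInstanceAs (IsLocalHom (algebraMap A (Curv2.cpl A)))
  haveI : Flat (Spec.map φ) := (HasRingHomProperty.Spec_iff (P := @Flat)).2
    (RingHom.flat_algebraMap_iff.2 inferInstance)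
  haveI : IsNoetherianRing (CommRingCat.of A) := ‹IsNoetherianRing A›
  haveI : IsNoetherianRing (CommRingCat.of (Curv2.cpl A)) := ‹IsNoetherianRing (Curv2.cpl A)›
  haveI : IsLocallyNoetherian X := LocallyOfFiniteType.isLocallyNoetherian f
  haveI : LocallyOfFiniteType (Curv2.bcCplSnd A f) := inferInstanceAs (LocallyOfFiniteType (pullback.snd f (Spec.map φ)))
  haveI : IsLocallyNoetherian (Curv2.bcCpl A f) := LocallyOfFiniteType.isLocallyNoetherian (Curv2.bcCplSnd A f)
  exact RegBC19.isRegularLocalRing_iff φ (IsPullback.of_hasPullback f (Spec.map φ))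
    AdicCompletion.maximalIdeal_eq_map.symm (AdicCompletion.residueField_map_bijective A) y hy

end Groth.Agent.S1598
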