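import Groth.Statements.S1597
import Groth.Agent.S1598
import Groth.Agent.Lib.Ram25.Scheme
import Groth.Agent.Lib.Compl.Noetherian
import Mathlib.RingTheory.AdicCompletion.LocalRing
-- import your own Groth.Agent.* helpers here

set_option autoImplicit false
universe u
open CategoryTheory CategoryTheory.Limits AlgebraicGeometry
open Resolve

namespace Groth.Agent.S1597

set_option linter.style.haveILetI false
set_option backward.isDefEq.respectTransparency.types false


/-- Let A be a Noetherian local ring with completion A^, X a scheme proper over Spec A and Y its base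
change to Spec A^. Then all local rings of X are regular if and only if all local rings of Y are
regular. -/
theorem result (A : Type u) [CommRing A] [IsLocalRing A] [IsNoetherianRing A]
    (X : Scheme.{u}) (f : X ⟶ Spec (CommRingCat.of A)) [IsProper f] :
    (∀ x : X, IsRegularLocalRing (X.presheaf.stalk x)) ↔
      ∀ y : Curv2.bcCpl A f, IsRegularLocalRing ((Curv2.bcCpl A f).presheaf.stalk y) := by
  haveI : IsNoetherianRing (Curv2.cpl A) := Compl.isNoetherianRing_adicCompletion _ (IsNoetherian.noetherian _)
  haveI : IsNoetherianRing (CommRingCat.of A) := ‹IsNoetherianRing A›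
  haveI : IsNoetherianRing (CommRingCat.of (Curv2.cpl A)) := ‹IsNoetherianRing (Curv2.cpl A)›
  haveI : IsLocallyNoetherian X := LocallyOfFiniteType.isLocallyNoetherian f
  haveI : IsProper (Curv2.bcCplSnd A f) := inferInstanceAs (IsProper (pullback.snd f _))
  haveI : IsLocallyNoetherian (Curv2.bcCpl A f) := LocallyOfFiniteType.isLocallyNoetherian (Curv2.bcCplSnd A f)
  have key : ∀ (B : Type u) [CommRing B] [IsLocalRing B] (W : Scheme.{u}) (g : W ⟶ Spec (CommRingCat.of B))
      [IsProper g] (w : W), ∃ w', w ⤳ w' ∧ g w' = IsLocalRing.closedPoint B := by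
    intro B _ _ W g _ w
    have hcl : IsClosed (g '' closure {w}) := g.isClosedMap _ isClosed_closure
    have hm : IsLocalRing.closedPoint B ∈ g '' closure {w} := by
      have : g w ∈ g '' closure {w} := ⟨w, subset_closure rfl, rfl⟩
      exact (IsLocalRing.specializes_closedPoint (g w)).mem_closed hcl this
    obtain ⟨w', hw', he⟩ := hm
    exact ⟨w', specializes_iff_mem_closure.2 hw', he⟩
  have hloc : IsLocalHom (algebraMap A (Curv2.cpl A)) := inferInstance
  constructor
  · intro h y
    obtain ⟨y', hy', he⟩ := key (Curv2.cpl A) _ (Curv2.bcCplSnd A f) y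
    haveI := (S1598.result A X f y' he).2 (h _)
    exact Ram25.isRegularLocalRing_of_specializes hy'
  · intro h x
    obtain ⟨x', hx', he⟩ := key A _ f x
    obtain ⟨y, hy1, hy2⟩ := Scheme.Pullback.exists_preimage_pullback (f := f)
      (g := Spec.map (CommRingCat.ofHom (algebraMap A (Curv2.cpl A)))) x' (IsLocalRing.closedPoint (Curv2.cpl A))
      (he.trans (IsLocalRing.comap_closedPoint (algebraMap A (Curv2.cpl A))).symm)
    have h2 := (S1598.result A X f y hy2).1 (h y)
    rw [hy1] at h2
    haveI := h2
    exact Ram25.isRegularLocalRing_of_specializes hx'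

end Groth.Agent.S1597
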