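import Groth.Statements.S15976
import Groth.Agent.Lib.GenSec15.Avoid
import Groth.Agent.Lib.GenSec15.Regular
-- import your own Groth.Agent.* helpers here

set_option autoImplicit false
universe u
open IntSh

namespace Groth.Agent.S15976

open CategoryTheory CategoryTheory.Limits AlgebraicGeometry Opposite in
/-- Let A be a Noetherian local ring with infinite residue field, V a Noetherian scheme over Spec A, L
an invertible O_V-module generated by finitely many global sections σ_0, …, σ_N (at every point some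
σ_i generates L), and F_1, …, F_m coherent O_V-modules. Then some A-linear combination σ of the σ_i
is F_j-regular for every j, regularity of a global section σ of L with respect to F meaning that the
map F ⊗ O_V → F ⊗ L induced by σ is injective. The combination is expressed through the global
sections σ(1), σ_i(1) ∈ Γ(V, L) and the images in Γ(V, O_V) of the coefficients from A. -/
theorem result
    {A : Type u} [CommRing A] [IsNoetherianRing A] [IsLocalRing A]
    (hA : Infinite (IsLocalRing.ResidueField A))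
    {V : Scheme.{u}} [IsNoetherian V] (f : V ⟶ Spec (CommRingCat.of A))
    (L : V.Modules) (hL : PicF.IsInvertible L)
    {N : ℕ} (σ : Fin (N + 1) → (Coh.structureModule V ⟶ L))
    (hgen : ∀ x : V, ∃ i, x ∈ CohB1.genLocus L (σ i))
    {m : ℕ} (F : Fin m → V.Modules) (hF : ∀ j, Coh.IsCoh (F j)) :
    ∃ (τ : Coh.structureModule V ⟶ L) (a : Fin (N + 1) → A),
      τ.val.app (op ⊤) (1 : V.ringCatSheaf.obj.obj (op ⊤)) =
        ∑ i, f.appTop ((Scheme.ΓSpecIso (CommRingCat.of A)).inv (a i)) •
          (σ i).val.app (op ⊤) (1 : V.ringCatSheaf.obj.obj (op ⊤)) ∧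
      ∀ j, Mono (((DCoh.tensorBi (X := V)).obj (F j)).map τ) := by
  classical
  let Z : Set V := ⋃ j, {x | x ∈ (⊤ : V.Opens) ∧ Curv2.IsWeakAssPoint (F j) x}
  have hZ : Z.Finite := Set.finite_iUnion fun j =>
    WA.finite_weakAss (hF j).1 (hF j).2 (CompactSpace.isCompact_univ (X := V))
  haveI := hZ.to_subtype
  choose i0 hi0 using hgen
  let e : ∀ z : V, (L.presheaf.stalk z : Type u) := fun z =>
    Amp.gm L z (U := ⊤) trivial (Amp.gval (σ (i0 z)))
  have he : ∀ z, Amp.Gen (e z) := fun z => (Amp.mem_genLocus_iff hL _).mp (hi0 z)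
  choose c hc using fun z (i : Fin (N + 1)) => (he z).2 (Amp.gm L z (U := ⊤) trivial (Amp.gval (σ i)))
  let φ : ∀ z : V, A →+* V.presheaf.stalk z := fun z =>
    (V.presheaf.germ ⊤ z trivial).hom.comp (f.appTop.hom.comp (Scheme.ΓSpecIso (CommRingCat.of A)).inv.hom)
  let P : V → Submodule A (Fin (N + 1) → A) := fun z =>
    { carrier := {a | ∑ i, φ z (a i) * c z i ∈ IsLocalRing.maximalIdeal (V.presheaf.stalk z)}
      add_mem' := fun {a b} ha hb => by
        simp only [Set.mem_setOf_eq, Pi.add_apply, map_add, add_mul, Finset.sum_add_distrib]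
        exact add_mem ha hb
      zero_mem' := by simp
      smul_mem' := fun r a ha => by
        simp only [Set.mem_setOf_eq, Pi.smul_apply, smul_eq_mul, map_mul, mul_assoc, ← Finset.mul_sum]
        exact Ideal.mul_mem_left _ _ ha }
  have hP : ∀ z, P z ≠ ⊤ := fun z htop => by
    have h1 : Pi.single (i0 z) (1 : A) ∈ P z := htop ▸ trivial
    have hci : c z (i0 z) = 1 := (he z).1 ((hc z (i0 z)).trans
      (show e z = (1 : V.presheaf.stalk z) • e z from (one_smul (V.presheaf.stalk z) (e z)).symm))
    change ∑ i, φ z ((Pi.single (i0 z) (1 : A) : Fin (N + 1) → A) i) * c z i ∈ IsLocalRing.maximalIdeal (V.presheaf.stalk z) at h1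
    rw [Finset.sum_eq_single (i0 z) (fun i _ hi => by rw [Pi.single_eq_of_ne hi, map_zero, zero_mul])
      (fun h => absurd (Finset.mem_univ _) h), Pi.single_eq_same, map_one, one_mul, hci] at h1
    exact IsLocalRing.notMem_maximalIdeal.mpr (isUnit_one (M := V.presheaf.stalk z)) h1
  haveI := hA
  obtain ⟨a, ha⟩ := GenSec15.exists_forall_notMem (fun z : Z => P z.1) (fun z => hP z.1)
  let t : Γ(L, ⊤) := ∑ i, f.appTop ((Scheme.ΓSpecIso (CommRingCat.of A)).inv (a i)) • Amp.gval (σ i)
  refine ⟨M1.secHom t, a, Amp.gval_secHom t, fun j => ?_⟩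
  haveI := (hF j).1
  refine GenSec15.mono_tensor_of_ass (F j) hL _ fun z hz => ?_
  have hzZ : z ∈ Z := Set.mem_iUnion.mpr ⟨j, trivial, hz⟩
  rw [Amp.mem_genLocus_iff hL, Amp.gval_secHom]
  have key : Amp.gm L z (U := ⊤) trivial t = (∑ i, φ z (a i) * c z i) • e z := by
    rw [Finset.sum_smul]
    refine (map_sum (L.presheaf.germ ⊤ z trivial).hom _ _).trans (Finset.sum_congr rfl fun i _ => ?_)
    refine (Amp.gm_smul (M := L) (U := ⊤) (x := z) trivial _ _).trans ?_
    exact ((mul_smul _ _ _).trans (congrArg (φ z (a i) • ·) (hc z i))).symm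
  rw [key]
  exact ((he z).ne_zero_smul _).mpr (IsLocalRing.notMem_maximalIdeal.mp (ha ⟨z, hzZ⟩))


end Groth.Agent.S15976
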