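import Groth.Statements.S15978
import Groth.Agent.Lib.FamCyc26.Main
import Groth.Agent.Lib.QuotProj11.Proper

set_option backward.isDefEq.respectTransparency false

set_option autoImplicit false
universe u
open IntSh

namespace Groth.Agent.S15978

open CategoryTheory CategoryTheory.Limits AlgebraicGeometry in
/-- Let k be an algebraically closed field, X an integral scheme admitting a closed immersion into a
projective space over k, Y an integral normal scheme proper over k, and Z_1, …, Z_n closed
irreducible subsets of X ×_k Y each mapping onto Y under the second projection with all fibres of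
the same Krull dimension d (a family of effective d-cycles of X parametrised by Y). Let B ⊆ Y be a
connected closed subset and F ⊆ X the image under the first projection of S ∩ p_2⁻¹(B), where S = ⋃
Z_i. If F has Krull dimension d, then S ∩ p_2⁻¹(B) = p_1⁻¹(F) ∩ p_2⁻¹(B). (The published statement
is over an arbitrary field with Y a normal variety; for k = ℝ and X = Y = Spec ℂ one point of X ×_k
Y is such a family with d = 0 and B = Y, while p_1⁻¹(F) ∩ p_2⁻¹(B) has two points, and the published
proof uses irreducibility of products of irreducible closed subsets and a proper birational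
flattening of Y; so k is taken algebraically closed and Y proper over k here.) -/
theorem result
    {k : Type u} [Field k] [IsAlgClosed k] {X Y : Scheme.{u}}
    (sX : X ⟶ Spec (CommRingCat.of k)) (sY : Y ⟶ Spec (CommRingCat.of k))
    [IsIntegral X] (hX : RelProj.IsHProjective sX)
    [IsIntegral Y] [IsProper sY] (hN : Pi1.IsNormalScheme Y)
    (d : ℕ) {n : ℕ} (Z : Fin n → Set ↥(pullback sX sY))
    (hZc : ∀ i, IsClosed (Z i)) (hZi : ∀ i, IsIrreducible (Z i))
    (hZs : ∀ i, (pullback.snd sX sY).base '' Z i = Set.univ)
    (hZd : ∀ i (y : Y), topologicalKrullDim ↥(Z i ∩ (pullback.snd sX sY).base ⁻¹' {y}) = d)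
    (B : Set Y) (hB : IsClosed B) (hBc : _root_.IsPreconnected B)
    (hFd : topologicalKrullDim
        ↥((pullback.fst sX sY).base '' ((⋃ i, Z i) ∩ (pullback.snd sX sY).base ⁻¹' B)) = d) :
    (⋃ i, Z i) ∩ (pullback.snd sX sY).base ⁻¹' B =
      (pullback.fst sX sY).base ⁻¹'
          ((pullback.fst sX sY).base '' ((⋃ i, Z i) ∩ (pullback.snd sX sY).base ⁻¹' B)) ∩
        (pullback.snd sX sY).base ⁻¹' B := by
  haveI : IsProper sX := Groth.Agent.QuotProj11.isProper_of_isHProjective hX
  exact Set.Subset.antisymm
    (fun w hw => ⟨⟨w, hw, rfl⟩, hw.2⟩)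
    (FamCyc26.main sX sY hN d Z hZc hZi hZs hZd B hB hBc hFd)

end Groth.Agent.S15978
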