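import Groth.Statements.S15981
import Groth.Agent.Lib.KRank26.Main

set_option autoImplicit false
set_option backward.isDefEq.respectTransparency false
universe u
open IntSh

namespace Groth.Agent.S15981

open CategoryTheory CategoryTheory.Limits AlgebraicGeometry in
/-- Let X be a reduced Noetherian scheme and η_i the generic points of its irreducible components (the
points with zero-dimensional local ring). Sending the class of a coherent O_X-module F to the family
of lengths of its stalks F_{η_i} over O_{X,η_i} is a well defined homomorphism rk from the
Grothendieck group of coherent O_X-modules to the group of integer-valued functions on the η_i;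
every such rk is surjective and its kernel is the subgroup generated by the classes of coherent
modules whose support contains no η_i (the first step of the coniveau filtration), so that rk
identifies the zeroth graded piece of that filtration with the free abelian group on the irreducible
components. -/
theorem result
    {X : Scheme.{u}} [IsNoetherian X] [IsReduced X] :
    (∃ rk : SGA6.Kcoh X →+ ({x : X // ringKrullDim (X.presheaf.stalk x) = 0} → ℤ),
        ∀ F : X.Modules, Coh.IsCoh F →
          rk (KZero.clSub (fun M : X.Modules => Coh.IsCoh M) F) =
            fun x => ((Module.length (X.presheaf.stalk x.1) (F.presheaf.stalk x.1)).toNat : ℤ)) ∧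
    ∀ rk : SGA6.Kcoh X →+ ({x : X // ringKrullDim (X.presheaf.stalk x) = 0} → ℤ),
      (∀ F : X.Modules, Coh.IsCoh F →
          rk (KZero.clSub (fun M : X.Modules => Coh.IsCoh M) F) =
            fun x => ((Module.length (X.presheaf.stalk x.1) (F.presheaf.stalk x.1)).toNat : ℤ)) →
        Function.Surjective rk ∧
          rk.ker = AddSubgroup.closure {c : SGA6.Kcoh X | ∃ F : X.Modules, Coh.IsCoh F ∧
            (∀ x ∈ CohB1.support F, (1 : WithBot ℕ∞) ≤ ringKrullDim (X.presheaf.stalk x)) ∧
            c = KZero.clSub (fun M : X.Modules => Coh.IsCoh M) F} := by
  exact ⟨Groth.Agent.KRank26.exists_rank, Groth.Agent.KRank26.surjective_and_ker⟩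

end Groth.Agent.S15981
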