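import Groth.Statements.S15987
import Mathlib.Tactic.Ring

set_option autoImplicit false
universe u v
open Deform

namespace Groth.Agent.S15987

open TrivSqZeroExt in
/-- Let k be a field, A a commutative k-algebra and q_i : A → k (i ∈ ι) k-algebra maps (marked k-points
of Spec A). The k-algebra automorphisms φ of the ring of dual numbers A[ε] that fix ε (so are
k[ε]-linear), are the identity modulo ε, and satisfy q_i((φ x)_ε) = q_i(x_ε) for all i and x
(compatibility with the trivial lifts A[ε] → k[ε] of the marked points) are in bijection with the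
k-derivations D : A → A such that q_i ∘ D = 0 for every i, the bijection sending φ to a ↦ (φ(a))_ε.
(The source identifies the right-hand side with the global vector fields vanishing at the marked
points; the condition the computation yields is q_i ∘ D = 0, which is the same for Spec A smooth
over k but is weaker in general, e.g. for A = k[x]/(x^2) with 2 invertible in k.) -/
theorem result
    (k : Type u) [Field k] (A : Type u) [CommRing A] [Algebra k A] {ι : Type v} (q : ι → (A →ₐ[k] k)) :
    ∃ e : {φ : DualNumber A ≃ₐ[k] DualNumber A //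
            φ DualNumber.eps = DualNumber.eps ∧ (∀ x, (φ x).fst = x.fst) ∧
              ∀ i x, q i (φ x).snd = q i x.snd} ≃
          {D : Derivation k A A // ∀ i a, q i (D a) = 0},
      ∀ φ (a : A), (e φ).1 a = (φ.1 (inl a : DualNumber A)).snd := by
  classical
  let Da : {φ : DualNumber A ≃ₐ[k] DualNumber A //
      φ DualNumber.eps = DualNumber.eps ∧ (∀ x, (φ x).fst = x.fst) ∧
        ∀ i x, q i (φ x).snd = q i x.snd} → {D : Derivation k A A // ∀ i a, q i (D a) = 0} := fun φ =>
    ⟨Derivation.mk'
      { toFun := fun a => (φ.1 (inl a : DualNumber A)).snd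
        map_add' := fun a b => by rw [inl_add, map_add, snd_add]
        map_smul' := fun c a => by rw [inl_smul, map_smul, snd_smul]; rfl }
      fun a b => by
        change (φ.1 (inl (a * b) : DualNumber A)).snd =
          a * (φ.1 (inl b : DualNumber A)).snd + b * (φ.1 (inl a : DualNumber A)).snd
        rw [inl_mul, map_mul, TrivSqZeroExt.snd_mul, φ.2.2.1, φ.2.2.1, fst_inl, fst_inl, op_smul_eq_smul,
          smul_eq_mul, smul_eq_mul],
      fun i a => (φ.2.2.2 i (inl a)).trans (by rw [snd_inl, map_zero])⟩
  let mkφ : {D : Derivation k A A // ∀ i a, q i (D a) = 0} → (DualNumber A →ₐ[k] DualNumber A) := fun D =>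
    { toFun := fun x => (x.fst, x.snd + D.1 x.fst)
      map_one' := TrivSqZeroExt.ext rfl (by change (1 : DualNumber A).snd + D.1 (1 : DualNumber A).fst = _; simp)
      map_zero' := TrivSqZeroExt.ext rfl (by change (0 : DualNumber A).snd + D.1 (0 : DualNumber A).fst = _; simp)
      map_add' := fun x y => TrivSqZeroExt.ext rfl (by
        change (x + y).snd + D.1 (x + y).fst = (x.snd + D.1 x.fst) + (y.snd + D.1 y.fst)
        simp; ring)
      map_mul' := fun x y => TrivSqZeroExt.ext rfl (by
        change (x * y).snd + D.1 (x * y).fst =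
          x.fst • (y.snd + D.1 y.fst) + MulOpposite.op y.fst • (x.snd + D.1 x.fst)
        simp; ring)
      commutes' := fun c => TrivSqZeroExt.ext rfl (by
        change (algebraMap k (DualNumber A) c).snd + D.1 (algebraMap k (DualNumber A) c).fst = _
        simp [TrivSqZeroExt.algebraMap_eq_inl']) }
  let inv : ∀ D : {D : Derivation k A A // ∀ i a, q i (D a) = 0}, DualNumber A ≃ₐ[k] DualNumber A := fun D =>
    AlgEquiv.ofAlgHom (mkφ D) (mkφ ⟨-D.1, fun i a => by simp [D.2 i a]⟩)
      (AlgHom.ext fun x => TrivSqZeroExt.ext rfl (by
        change x.snd + (-D.1) x.fst + D.1 x.fst = x.snd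
        simp))
      (AlgHom.ext fun x => TrivSqZeroExt.ext rfl (by
        change x.snd + D.1 x.fst + (-D.1) x.fst = x.snd
        simp))
  refine ⟨
    { toFun := Da
      invFun := fun D => ⟨inv D, TrivSqZeroExt.ext rfl (by
          change (DualNumber.eps : DualNumber A).snd + D.1 (DualNumber.eps : DualNumber A).fst = _
          simp), fun x => rfl, fun i x => by
        change q i (x.snd + D.1 x.fst) = q i x.snd
        rw [map_add, D.2, add_zero]⟩
      left_inv := fun φ => Subtype.ext (AlgEquiv.ext fun x => ?_)
      right_inv := fun D => Subtype.ext (Derivation.ext fun a => ?_) }, fun φ a => rfl⟩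
  · refine TrivSqZeroExt.ext (φ.2.2.1 x).symm ?_
    change x.snd + (φ.1 (inl x.fst : DualNumber A)).snd = (φ.1 x).snd
    conv_rhs => rw [← inl_fst_add_inr_snd_eq x, map_add, show (inr x.snd : DualNumber A) = inl x.snd * DualNumber.eps by
      rw [DualNumber.eps, inl_mul_inr, smul_eq_mul, mul_one], map_mul, φ.2.1, snd_add, TrivSqZeroExt.snd_mul,
      φ.2.2.1]
    simp [add_comm]
  · change (inl a : DualNumber A).snd + D.1 (inl a : DualNumber A).fst = D.1 a
    simp

end Groth.Agent.S15987
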