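import Groth.Statements.S15988
import Groth.Agent.Lib.MarkedDef3.Derivation

set_option autoImplicit false
universe u v
open Deform

namespace Groth.Agent.S15988

open TrivSqZeroExt in
/-- Let k be a field, A a smooth commutative k-algebra, q_i : A → k (i ∈ ι, ι finite) pairwise distinct
k-algebra maps, and q'_i : A[ε] → k[ε] k-algebra maps with q'_i(ε) = ε which reduce to q_i modulo ε
(marked points of a first-order deformation with underlying trivial deformation). Then some
k-algebra automorphism φ of A[ε] with φ(ε) = ε and φ = id modulo ε carries every q'_i to the trivial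
lift of q_i: q'_i(φ x) = (q_i(x_0), q_i(x_ε)) for all i and x. Together with the triviality of
first-order deformations of a smooth affine scheme this gives the source's statement that
first-order deformations of a smooth affine scheme with marked points are trivial. (The published
statement does not say that the finitely many marked points are distinct; for two coincident points
with different lifts no such automorphism exists, so the points are taken pairwise distinct here,
and the source's non-singular is read as smooth over k.) -/
theorem result
    (k : Type u) [Field k] (A : Type u) [CommRing A] [Algebra k A] [Algebra.Smooth k A]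
    {ι : Type v} [Finite ι] (q : ι → (A →ₐ[k] k)) (hq : Function.Injective q)
    (q' : ι → (DualNumber A →ₐ[k] DualNumber k))
    (hε : ∀ i, q' i DualNumber.eps = DualNumber.eps) (hq' : ∀ i x, (q' i x).fst = q i x.fst) :
    ∃ φ : DualNumber A ≃ₐ[k] DualNumber A,
      φ DualNumber.eps = DualNumber.eps ∧ (∀ x, (φ x).fst = x.fst) ∧
        ∀ i x, (q' i (φ x)).fst = q i x.fst ∧ (q' i (φ x)).snd = q i x.snd := by
  classical
  have hinl : ∀ i a, (q' i (inl a)).fst = q i a := fun i a => (hq' i (inl a)).trans (congrArg (q i) (fst_inl _ a))
  let v : ι → A → k := fun i a => (q' i (inl a)).snd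
  obtain ⟨D, hD⟩ := Groth.Agent.MarkedDef3.exists_derivation q hq (fun i a => - v i a)
    (fun i x y => by
      show -(q' i (inl (x + y))).snd = -(q' i (inl x)).snd + -(q' i (inl y)).snd
      rw [inl_add, map_add, snd_add, neg_add])
    (fun i c x => by
      show -(q' i (inl (c • x))).snd = c * -(q' i (inl x)).snd
      rw [inl_smul, map_smul, snd_smul, smul_eq_mul, mul_neg])
    (fun i x y => by
      show -(q' i (inl (x * y))).snd = q i x * -(q' i (inl y)).snd + q i y * -(q' i (inl x)).snd
      rw [inl_mul, map_mul, DualNumber.snd_mul, hinl, hinl]
      ring)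
  have hsnd : ∀ i (x : DualNumber A), (q' i x).snd = v i x.fst + q i x.snd := fun i x => by
    have hx : x = inl x.fst + inl x.snd * DualNumber.eps := TrivSqZeroExt.ext (by simp) (by simp)
    conv_lhs => rw [hx, map_add, map_mul, hε, snd_add, DualNumber.snd_mul]
    rw [hinl]
    simp [v]
  let f : DualNumber A → DualNumber A := fun x => inl x.fst + inr (x.snd + D x.fst)
  let g : DualNumber A → DualNumber A := fun x => inl x.fst + inr (x.snd - D x.fst)
  have hf1 : ∀ x, (f x).fst = x.fst := fun x => by simp [f]
  have hf2 : ∀ x, (f x).snd = x.snd + D x.fst := fun x => by simp [f]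
  let φ : DualNumber A ≃ₐ[k] DualNumber A :=
    { toFun := f
      invFun := g
      left_inv := fun x => TrivSqZeroExt.ext (by simp [f, g]) (by simp [f, g])
      right_inv := fun x => TrivSqZeroExt.ext (by simp [f, g]) (by simp [f, g])
      map_mul' := fun x y => TrivSqZeroExt.ext (by simp [hf1]) (by
        rw [hf2, DualNumber.snd_mul, DualNumber.snd_mul, hf1, hf1, hf2, hf2, fst_mul, Derivation.leibniz, smul_eq_mul,
          smul_eq_mul]
        ring)
      map_add' := fun x y => TrivSqZeroExt.ext (by simp [hf1]) (by
        rw [hf2, snd_add, snd_add, hf2, hf2, fst_add, map_add]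
        ring)
      commutes' := fun c => TrivSqZeroExt.ext (by simp [hf1]) (by
        rw [hf2, TrivSqZeroExt.algebraMap_eq_inl', snd_inl, fst_inl, Derivation.map_algebraMap, add_zero]) }
  refine ⟨φ, TrivSqZeroExt.ext (by simp [φ, f]) (by simp [φ, f]), hf1, fun i x => ⟨?_, ?_⟩⟩
  · rw [hq', show (φ x).fst = x.fst from hf1 x]
  · rw [hsnd, show (φ x).fst = x.fst from hf1 x, show (φ x).snd = x.snd + D x.fst from hf2 x, map_add, hD]
    ring

end Groth.Agent.S15988
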