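import Groth.Statements.S15989
import Groth.Agent.Lib.GenusOne14.Cubic

set_option autoImplicit false
universe u
open ModFun

namespace Groth.Agent.S15989

theorem idents {F : Type u} [Field F] {s : F} (hs : s ≠ 0) (x : F) :
    s ^ 3 * s⁻¹ ^ 3 = 1 ∧ (s ^ 3) ^ 2 * (s⁻¹ ^ 2) ^ 3 = 1 ∧ x * s ^ 3 * (1 * s⁻¹ * s⁻¹ ^ 2) = x := by
  refine ⟨?_, ?_, ?_⟩ <;> field_simp

open AlgebraicGeometry CategoryTheory MvPolynomial Groth.Agent.GenusOne14 in
theorem exists_twisted (k : Type u) [Field k] [IsAlgClosed k] :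
    ∃ (f g : LefPen.Form 2 (RatFunc k) 3), ModFun.IsCurveOfGenus 1 (hypStr f) ∧ ModFun.IsCurveOfGenus 1 (hypStr g) ∧
      (¬ ∃ σ, σ ≫ hypStr f = 𝟙 _) ∧ (∃ σ, σ ≫ hypStr g = 𝟙 _) ∧
      ∃ (L : Type u) (_ : Field L) (τ : RatFunc k →+* L) (f' g' : LefPen.Form 2 L 3) (a b : _),
        IsPullback a (hypStr f') (hypStr f) (Spec.map (CommRingCat.ofHom τ)) ∧
        IsPullback b (hypStr g') (hypStr g) (Spec.map (CommRingCat.ofHom τ)) ∧
        ModFun.IsCurveOfGenus 1 (hypStr f') ∧
        ∃ e : (LefPen.hypIdeal f').subscheme ≅ (LefPen.hypIdeal g').subscheme, e.hom ≫ hypStr g' = hypStr f' := by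
  classical
  let P : Polynomial k := Polynomial.X * (Polynomial.X ^ 3 + Polynomial.C 27)
  have hP : P ≠ 0 := mul_ne_zero Polynomial.X_ne_zero (Polynomial.X_pow_add_C_ne_zero (by norm_num) _)
  obtain ⟨c, hc⟩ := Infinite.exists_notMem_finset P.roots.toFinset
  rw [Multiset.mem_toFinset, Polynomial.mem_roots hP] at hc
  have hc0 : c ≠ 0 := fun h => hc (by simp [P, h])
  have hc27 : c ^ 3 + 27 ≠ 0 := fun h => hc (by simp [P, h])
  let t : RatFunc k := RatFunc.X
  let e : RatFunc k := RatFunc.C c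
  have ht : t ≠ 0 := RatFunc.X_ne_zero
  have he : e ≠ 0 := (map_ne_zero RatFunc.C).2 hc0
  have he27 : e ^ 3 + 27 ≠ 0 := by
    rw [show e ^ 3 + 27 = RatFunc.C (c ^ 3 + 27) by simp [e, map_ofNat]]
    exact (map_ne_zero RatFunc.C).2 hc27
  let f := cub (1 : RatFunc k) t (t ^ 2) (e * t)
  let g := cub (1 : RatFunc k) 1 1 e
  have hf : f ≠ 0 := cub_ne_zero one_ne_zero _ _ _
  have hg : g ≠ 0 := cub_ne_zero one_ne_zero _ _ _
  have hfs : Smooth (hypStr f) := smooth_cub one_ne_zero ht (pow_ne_zero 2 ht) (mul_ne_zero he ht) (by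
    rw [show (e * t) ^ 3 + 27 * (1 * t * t ^ 2) = t ^ 3 * (e ^ 3 + 27) by ring]
    exact mul_ne_zero (pow_ne_zero 3 ht) he27)
  have hgs : Smooth (hypStr g) := smooth_cub one_ne_zero one_ne_zero one_ne_zero he (by simpa using he27)
  refine ⟨f, g, isCurveOfGenus_one f hf hfs, isCurveOfGenus_one g hg hgs, ?_, ?_, ?_⟩
  · rintro ⟨σ, hσ⟩
    obtain ⟨v, hv, h0⟩ := exists_coords f σ hσ
    exact hv (no_zero c v h0)
  · refine exists_point g ![1, -1, 0] 0 rfl ?_
    rw [aeval_cub]
    simp
    ring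
  let L := AlgebraicClosure (RatFunc k)
  let τ : RatFunc k →+* L := algebraMap (RatFunc k) L
  obtain ⟨s, hs⟩ := IsAlgClosed.exists_pow_nat_eq (τ t) (by norm_num : 0 < 3)
  have hs0 : s ≠ 0 := fun h => (map_ne_zero τ).2 ht (by rw [← hs, h, zero_pow (by norm_num)])
  obtain ⟨a, ha⟩ := exists_bc τ f
  obtain ⟨b, hb⟩ := exists_bc τ g
  let f' := scaleForm τ (fun _ => 1) f
  let g' := scaleForm τ (fun _ => 1) g
  let v : Fin 3 → L := ![1, s⁻¹, s⁻¹ ^ 2]
  have hv : ∀ j, v j ≠ 0 := by
    intro j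
    fin_cases j <;> simp [v, hs0]
  have hfg : scaleForm (RingHom.id L) v f' = g' := by
    simp only [f', g', f, g, scaleForm_cub, RingHom.id_apply, map_mul, map_pow, map_one, one_pow, mul_one, v,
      Matrix.cons_val_zero, Matrix.cons_val_one, Matrix.cons_val]
    rw [← hs]
    congr 1 <;> first | exact (idents hs0 0).1 | exact (idents hs0 0).2.1 | exact (idents hs0 (τ e)).2.2
  obtain ⟨ε, hε⟩ : ∃ ε : (LefPen.hypIdeal g').subscheme ≅ (LefPen.hypIdeal f').subscheme,
      ε.hom ≫ hypStr f' = hypStr g' := hfg ▸ exists_scale_iso v hv f'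
  have hs' : Smooth (hypStr f') := MorphismProperty.of_isPullback (P := @Smooth) ha hfs
  refine ⟨L, inferInstance, τ, f', g', a, b, ha, hb, isCurveOfGenus_one f' (scaleForm_ne_zero τ f hf) hs',
    ε.symm, ?_⟩
  rw [Iso.symm_hom, ← hε, Iso.inv_hom_id_assoc]

open AlgebraicGeometry CategoryTheory in
/-- Over an algebraically closed field k, the moduli problem of curves of genus 1 (proper smooth
geometrically irreducible C → T with one-dimensional geometric fibres of genus 1, modulo isomorphism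
over T, on all k-schemes T) is not representable: no k-scheme M carries a universal family. (The
published statement asserts non-representability for every genus g and every number n of marked
points, which fails for g = 0 and n = 3: three disjoint sections identify every family with the
projective line over the base marked at 0, 1 and ∞, so that functor is represented by a point; its
argument is carried out in genus 1 with one marked point, and the unpointed genus-1 case stated here
is what that argument, with the same isotrivial family, proves.) -/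
theorem result (k : Type u) [Field k] [IsAlgClosed k]
    (M : Over (Spec (CommRingCat.of k))) :
    ¬ ModFun.IsFineModuli ⊤ (ModFun.Mg (Spec (CommRingCat.of k)) 1) M := by
  rintro ⟨ξ, hξ, huniv⟩
  obtain ⟨f, g, hf, hg, hno, ⟨σ, hσ⟩, L, iL, τ, f', g', a, b, ha, hb, hf', e, he⟩ := exists_twisted k
  let T : Over (Spec (CommRingCat.of k)) := Over.mk (Spec.map (CommRingCat.ofHom (algebraMap k (RatFunc k))))
  let x : Over T.left := Over.mk (Groth.Agent.GenusOne14.hypStr f)
  let y : Over T.left := Over.mk (Groth.Agent.GenusOne14.hypStr g)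
  let T' : Over (Spec (CommRingCat.of k)) := Over.mk (Spec.map (CommRingCat.ofHom τ) ≫ T.hom)
  let h : T' ⟶ T := Over.homMk (Spec.map (CommRingCat.ofHom τ)) rfl
  let x' : Over T'.left := Over.mk (Groth.Agent.GenusOne14.hypStr f')
  obtain ⟨gx, ⟨ix⟩, -⟩ := huniv T x trivial ⟨trivial, hf⟩
  obtain ⟨gy, ⟨iy⟩, -⟩ := huniv T y trivial ⟨trivial, hg⟩
  have px : (Over.pullback h.left).obj x ≅ x' :=
    Over.isoMk ((IsPullback.of_hasPullback _ _).isoIsPullback _ _ ha) (IsPullback.isoIsPullback_hom_snd _ _ _ _)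
  have py : (Over.pullback h.left).obj y ≅ x' :=
    Over.isoMk ((IsPullback.of_hasPullback _ _).isoIsPullback _ _ hb ≪≫ e.symm) (by
      simp only [Iso.trans_hom, Iso.symm_hom, Category.assoc]
      show _ ≫ e.inv ≫ Groth.Agent.GenusOne14.hypStr f' = _
      rw [← he, Iso.inv_hom_id_assoc]
      exact IsPullback.isoIsPullback_hom_snd _ _ _ _)
  have hu := (huniv T' x' trivial ⟨trivial, hf'⟩).unique
    (y₁ := h ≫ gx) (y₂ := h ≫ gy)
    ⟨((Over.pullbackComp h.left gx.left).app ξ) ≪≫ (Over.pullback h.left).mapIso ix ≪≫ px⟩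
    ⟨((Over.pullbackComp h.left gy.left).app ξ) ≪≫ (Over.pullback h.left).mapIso iy ≪≫ py⟩
  have : Flat (Spec.map (CommRingCat.ofHom τ)) := inferInstance
  have : Surjective (Spec.map (CommRingCat.ofHom τ)) := ⟨fun z => ⟨IsLocalRing.closedPoint L, Subsingleton.elim _ _⟩⟩
  have : Epi (Spec.map (CommRingCat.ofHom τ)) := inferInstance
  have hxy : gx = gy := by
    apply Over.OverMorphism.ext
    rw [← cancel_epi (Spec.map (CommRingCat.ofHom τ))]
    exact congrArg CommaMorphism.left hu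
  subst hxy
  refine hno ⟨σ ≫ ((iy.symm ≪≫ ix).hom).left, ?_⟩
  rw [Category.assoc]
  show σ ≫ (iy.symm ≪≫ ix).hom.left ≫ x.hom = _
  rw [Over.w (iy.symm ≪≫ ix).hom]
  exact hσ

end Groth.Agent.S15989
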