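import Groth.Statements.S15991
import Groth.Agent.Lib.MarkedDef3.Trivialization
import Groth.Agent.Lib.DefAff3.Scheme
import Groth.Prelude.Def_ArtFun
import Mathlib.AlgebraicGeometry.Morphisms.Smooth

set_option autoImplicit false
universe u v
open Deform

namespace Groth.Agent.S15991

open AlgebraicGeometry CategoryTheory

set_option backward.isDefEq.respectTransparency false

open TensorProduct in
theorem exists_spec_iso {k A B B' : Type u} [CommRing k] [CommRing A] [Algebra k A] [CommRing B] [Algebra k B]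
    [CommRing B'] (θ : A ⊗[k] B ≃+* B') :
    ∃ E : Spec (CommRingCat.of B') ≅ Limits.pullback (Spec.map (CommRingCat.ofHom (algebraMap k B)))
        (Spec.map (CommRingCat.ofHom (algebraMap k A))),
      E.hom ≫ Limits.pullback.fst _ _ = Spec.map (CommRingCat.ofHom
          (θ.toRingHom.comp (Algebra.TensorProduct.includeRight (R := k) (A := A) (B := B)).toRingHom)) ∧
        E.hom ≫ Limits.pullback.snd _ _ = Spec.map (CommRingCat.ofHom (θ.toRingHom.comp (algebraMap A (A ⊗[k] B)))) := by
  refine ⟨Scheme.Spec.mapIso θ.toCommRingCatIso.op ≪≫ (pullbackSpecIso k A B).symm ≪≫ Limits.pullbackSymmetry _ _, ?_, ?_⟩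
  · simp only [Iso.trans_hom, Iso.symm_hom, Category.assoc, Limits.pullbackSymmetry_hom_comp_fst, pullbackSpecIso_inv_snd]
    change Spec.map _ ≫ Spec.map _ = _
    rw [← Spec.map_comp]
    rfl
  · simp only [Iso.trans_hom, Iso.symm_hom, Category.assoc, Limits.pullbackSymmetry_hom_comp_snd, pullbackSpecIso_inv_fst]
    change Spec.map _ ≫ Spec.map _ = _
    rw [← Spec.map_comp]
    rfl

open AlgebraicGeometry CategoryTheory in
/-- Let k be a field and X an affine scheme smooth over k, with finitely many pairwise distinct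
k-rational points p_j (j ∈ ι). Let X' → Spec k[ε] be flat, i : X → X' a morphism making X the fibre
over the closed point Spec k → Spec k[ε] (cartesian square), and p'_j : Spec k[ε] → X' sections
restricting to the p_j. Then there is an isomorphism φ : X' ≅ X ×_{Spec k} Spec k[ε] over Spec k[ε]
such that i followed by φ is the inclusion of X at the closed point (its first component is the
identity of X) and each p'_j followed by φ is the constant section through p_j: every first-order
deformation of a smooth affine scheme with marked points is trivial. (The source says non-singular;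
smooth over k is assumed here, and the marked points are taken pairwise distinct and finite in
number.) -/
theorem result
    (k : Type u) [Field k] (X : Scheme.{u}) (hX : X ⟶ Spec (CommRingCat.of k)) [IsAffine X] [Smooth hX]
    {ι : Type v} [Finite ι] (p : ι → (Spec (CommRingCat.of k) ⟶ X)) (hp : ∀ j, p j ≫ hX = 𝟙 _)
    (hinj : Function.Injective p)
    (X' : Scheme.{u}) (g : X' ⟶ Spec (CommRingCat.of (DualNumber k))) [Flat g] (i : X ⟶ X')
    (hsq : IsPullback i hX g
      (Spec.map (CommRingCat.ofHom (TrivSqZeroExt.fstHom k k k).toRingHom)))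
    (p' : ι → (Spec (CommRingCat.of (DualNumber k)) ⟶ X')) (hp' : ∀ j, p' j ≫ g = 𝟙 _)
    (hpp' : ∀ j, p j ≫ i = Spec.map (CommRingCat.ofHom (TrivSqZeroExt.fstHom k k k).toRingHom) ≫ p' j) :
    ∃ φ : X' ≅ Limits.pullback hX (Spec.map (CommRingCat.ofHom (algebraMap k (DualNumber k)))),
      φ.hom ≫ Limits.pullback.snd hX (Spec.map (CommRingCat.ofHom (algebraMap k (DualNumber k)))) = g ∧
        i ≫ φ.hom ≫ Limits.pullback.fst hX (Spec.map (CommRingCat.ofHom (algebraMap k (DualNumber k)))) = 𝟙 X ∧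
          ∀ j, p' j ≫ φ.hom ≫
              Limits.pullback.fst hX (Spec.map (CommRingCat.ofHom (algebraMap k (DualNumber k)))) =
            Spec.map (CommRingCat.ofHom (algebraMap k (DualNumber k))) ≫ p j := by
  classical
  let e : DualNumber k →ₐ[k] k := TrivSqZeroExt.fstHom k k k
  haveI : IsArtinianRing (DualNumber k) := ArtFun.Art.isArtinianRing_tsze k k
  haveI : IsAffine X' := Groth.Agent.ThickAff3.isAffine_of_isPullback e.toRingHom
    (fun c => ⟨TrivSqZeroExt.inl c, rfl⟩) hsq
  let B : CommRingCat.{u} := Γ(X, ⊤)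
  let B' : CommRingCat.{u} := Γ(X', ⊤)
  let φ : CommRingCat.of k ⟶ B := Spec.preimage (X.isoSpec.inv ≫ hX)
  have hφ : Spec.map φ = X.isoSpec.inv ≫ hX := Spec.map_preimage _
  let ψ : CommRingCat.of (DualNumber k) ⟶ B' := Spec.preimage (X'.isoSpec.inv ≫ g)
  have hψ : Spec.map ψ = X'.isoSpec.inv ≫ g := Spec.map_preimage _
  let ρ₀ : B' ⟶ B := Spec.preimage (X.isoSpec.inv ≫ i ≫ X'.isoSpec.hom)
  have hρ₀ : Spec.map ρ₀ = X.isoSpec.inv ≫ i ≫ X'.isoSpec.hom := Spec.map_preimage _
  have hsq' : IsPullback (Spec.map ρ₀) (Spec.map φ) (Spec.map ψ) (Spec.map (CommRingCat.ofHom e.toRingHom)) :=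
    IsPullback.of_iso hsq X.isoSpec X'.isoSpec (Iso.refl _) (Iso.refl _) (by simp [hρ₀]) (by simp [hφ])
      (by simp [hψ]) (by simp [e])
  have hpo : IsPushout ψ (CommRingCat.ofHom e.toRingHom) ρ₀ φ :=
    (show IsPullback ρ₀.op φ.op ψ.op (CommRingCat.ofHom e.toRingHom).op from
      IsPullback.of_map_of_faithful Scheme.Spec hsq').unop.flip
  have hflat : ψ.hom.Flat := (HasRingHomProperty.Spec_iff (P := @Flat)).1 (hψ ▸ inferInstance)
  have hsm : φ.hom.Smooth := (HasRingHomProperty.Spec_iff (P := @Smooth)).1 (hφ ▸ inferInstance)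
  letI : Algebra k B := φ.hom.toAlgebra
  letI : Algebra (DualNumber k) B' := ψ.hom.toAlgebra
  letI : Algebra k B' := (ψ.hom.comp (algebraMap k (DualNumber k))).toAlgebra
  haveI : IsScalarTower k (DualNumber k) B' := IsScalarTower.of_algebraMap_eq (R := k) (S := DualNumber k) (A := B') fun _ => rfl
  haveI : Algebra.Smooth k B := hsm
  haveI : Module.Flat (DualNumber k) B' := hflat
  let ρ : B' →ₐ[k] B :=
    { ρ₀.hom with
      commutes' := fun c => by
        show ρ₀.hom (ψ.hom (algebraMap k (DualNumber k) c)) = φ.hom c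
        refine (congrArg (fun t : CommRingCat.of (DualNumber k) ⟶ B => t.hom (algebraMap k (DualNumber k) c)) hpo.w).trans ?_
        show φ.hom (e (algebraMap k (DualNumber k) c)) = φ.hom c
        rw [AlgHom.commutes, Algebra.algebraMap_self, RingHom.id_apply] }
  obtain ⟨hρs, hρk⟩ := Groth.Agent.DefAff3.data_of_isPushout hpo (fun c => ⟨TrivSqZeroExt.inl c, rfl⟩)
  -- points and sections
  let q₀ : ι → (B ⟶ CommRingCat.of k) := fun j => Spec.preimage (p j ≫ X.isoSpec.hom)
  have hq₀ : ∀ j, Spec.map (q₀ j) = p j ≫ X.isoSpec.hom := fun j => Spec.map_preimage _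
  have hq₀φ : ∀ j, φ ≫ q₀ j = 𝟙 _ := fun j => Spec.map_injective (by
    rw [Spec.map_comp, hq₀, hφ, Category.assoc, Iso.hom_inv_id_assoc, hp, Spec.map_id])
  let q : ι → (B →ₐ[k] k) := fun j =>
    { (q₀ j).hom with commutes' := fun c => congrArg (fun t : CommRingCat.of k ⟶ CommRingCat.of k => t.hom c) (hq₀φ j) }
  have hq : Function.Injective q := fun a b hab => hinj (by
    have h : q₀ a = q₀ b := CommRingCat.hom_ext (RingHom.ext fun x => AlgHom.congr_fun hab x)
    have h' := hq₀ a
    rw [h, hq₀] at h'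
    exact ((cancel_mono X.isoSpec.hom).1 h').symm)
  let s₀ : ι → (B' ⟶ CommRingCat.of (DualNumber k)) := fun j => Spec.preimage (p' j ≫ X'.isoSpec.hom)
  have hs₀ : ∀ j, Spec.map (s₀ j) = p' j ≫ X'.isoSpec.hom := fun j => Spec.map_preimage _
  have hs₀ψ : ∀ j, ψ ≫ s₀ j = 𝟙 _ := fun j => Spec.map_injective (by
    rw [Spec.map_comp, hs₀, hψ, Category.assoc, Iso.hom_inv_id_assoc, hp', Spec.map_id])
  let s : ι → (B' →ₐ[DualNumber k] DualNumber k) := fun j =>
    { (s₀ j).hom with
      commutes' := fun c => congrArg (fun t : CommRingCat.of (DualNumber k) ⟶ CommRingCat.of (DualNumber k) => t.hom c) (hs₀ψ j) }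
  have hs : ∀ j y, (s j y).fst = q j (ρ y) := by
    intro j y
    have h : s₀ j ≫ CommRingCat.ofHom e.toRingHom = ρ₀ ≫ q₀ j := Spec.map_injective (by
      rw [Spec.map_comp, Spec.map_comp, hs₀, hq₀, hρ₀, Category.assoc, Iso.hom_inv_id_assoc, reassoc_of% (hpp' j)])
    exact congrArg (fun t : B' ⟶ CommRingCat.of k => t.hom y) h
  obtain ⟨θ, hθρ, hθs⟩ := Groth.Agent.MarkedDef3.exists_marked_trivialization e DualNumber.eps DualNumber.eps_mul_eps DualNumber.fst_eps (TrivSqZeroExt.sndHom k k) (fun a => TrivSqZeroExt.ext (by simp [e, TrivSqZeroExt.algebraMap_eq_inl]) (by simp [e, TrivSqZeroExt.algebraMap_eq_inl])) (fun a a' => by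
      show (a * a').snd = a.fst * a'.snd + a'.fst * a.snd
      rw [DualNumber.snd_mul]
      ring) ρ hρs hρk q hq s hs
  obtain ⟨E, hE1, hE2⟩ := exists_spec_iso (k := k) (A := DualNumber k) (B := B) (B' := B') θ.toRingEquiv
  let c : Limits.pullback (Spec.map (CommRingCat.ofHom (algebraMap k B))) (Spec.map (CommRingCat.ofHom (algebraMap k (DualNumber k)))) ≅
      Limits.pullback hX (Spec.map (CommRingCat.ofHom (algebraMap k (DualNumber k)))) :=
    asIso (Limits.pullback.map _ _ _ _ X.isoSpec.inv (𝟙 _) (𝟙 _) (by rw [Category.comp_id]; exact hφ) (by simp))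
  let incR : B ⟶ B' := CommRingCat.ofHom
    (θ.toRingEquiv.toRingHom.comp (Algebra.TensorProduct.includeRight (R := k) (A := DualNumber k) (B := B)).toRingHom)
  have hfst : (X'.isoSpec ≪≫ E ≪≫ c).hom ≫
      Limits.pullback.fst hX (Spec.map (CommRingCat.ofHom (algebraMap k (DualNumber k)))) =
      X'.isoSpec.hom ≫ Spec.map incR ≫ X.isoSpec.inv := by
    simp only [Iso.trans_hom, Category.assoc, c, asIso_hom, Limits.pullback.lift_fst]
    rw [reassoc_of% hE1]
  refine ⟨X'.isoSpec ≪≫ E ≪≫ c, ?_, ?_, fun j => ?_⟩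
  · simp only [Iso.trans_hom, Category.assoc, c, asIso_hom, Limits.pullback.lift_snd, Category.comp_id]
    rw [hE2]
    refine Eq.trans (congrArg (fun t => X'.isoSpec.hom ≫ Spec.map t) (?_ : _ = ψ)) (by rw [hψ, Iso.hom_inv_id_assoc])
    exact CommRingCat.hom_ext (RingHom.ext fun a => θ.commutes a)
  · have h : incR ≫ ρ₀ = 𝟙 B := CommRingCat.hom_ext (RingHom.ext hθρ)
    have h' := congrArg Spec.map h
    rw [Spec.map_comp, hρ₀, Spec.map_id, Category.assoc, Category.assoc] at h'
    rw [hfst]
    have := congrArg (fun t => X.isoSpec.hom ≫ t ≫ X.isoSpec.inv) h'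
    simp only [Category.assoc, Iso.hom_inv_id_assoc] at this
    refine this.trans ?_
    erw [Category.id_comp]
    exact X.isoSpec.hom_inv_id
  · have h : incR ≫ s₀ j = q₀ j ≫ CommRingCat.ofHom (algebraMap k (DualNumber k)) :=
      CommRingCat.hom_ext (RingHom.ext fun b => hθs j b)
    have h' := congrArg Spec.map h
    rw [Spec.map_comp, Spec.map_comp, hs₀, hq₀, Category.assoc] at h'
    rw [hfst]
    have := congrArg (fun t => t ≫ X.isoSpec.inv) h'
    simpa using this

end Groth.Agent.S15991
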