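import Groth.Statements.S15993
import Groth.Agent.Lib.NeronMap.Dense
import Groth.Agent.Lib.EffCartier.Dense
import Mathlib.AlgebraicGeometry.Morphisms.FlatDescent
-- import your own Groth.Agent.* helpers here

set_option autoImplicit false
open CategoryTheory AlgebraicGeometry
universe u
open EtHull

namespace Groth.Agent.S15993

/-- Let f : X → S be a morphism of schemes which is faithfully flat (flat and surjective), quasi-compact
and separated, and schematically birational in the following sense: there are schematically dense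
opens U of S and V of X, with the inclusion V → X quasi-compact, such that f maps V into U and the
induced morphism V → U is an isomorphism. Then f is an isomorphism. (The source states this for
algebraic spaces and puts no quasi-compactness condition on the dense opens. Its proof base-changes
along f and uses that the inverse image of V in X ×_S X is again schematically dense, which holds
when V → X is quasi-compact, for instance when X is locally Noetherian, and fails in general: over
the Boolean ring of eventually constant sequences of elements of the field with two elements, the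
spectrum of the ring of eventually two-periodic sequences is faithfully flat and affine, and it is
an isomorphism above the open set of principal points, which is schematically dense on both sides,
yet it is not an isomorphism, the point at infinity being doubled. So V is taken retrocompact in X
here, and X, S are schemes.) -/
theorem result {X S : Scheme.{u}} (f : X ⟶ S)
    [Flat f] [Surjective f] [QuasiCompact f] [IsSeparated f]
    (U : S.Opens) (V : X.Opens) [QuasiCompact V.ι]
    (hU : CInt.IsSchematicallyDense U) (hV : CInt.IsSchematicallyDense V)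
    (hle : V ≤ f ⁻¹ᵁ U) (hiso : IsIso (f.resLE U V hle)) : IsIso f := by
  have hVU : V = f ⁻¹ᵁ U := by
    refine le_antisymm hle fun x hx => ?_
    by_contra hxV
    let r := X.homOfLE hle ≫ (f ∣_ U)
    have hr : r = f.resLE U V hle := by
      rw [← cancel_mono U.ι]; simp [r]
    have : IsIso r := hr ▸ hiso
    let s : (U : Scheme.{u}) ⟶ (f ⁻¹ᵁ U : X.Opens) := inv r ≫ X.homOfLE hle
    have hs : s ≫ (f ∣_ U) = 𝟙 _ := by simp [s, r]
    have hc : IsClosedImmersion s := by
      have : IsClosedImmersion (s ≫ (f ∣_ U)) := by rw [hs]; infer_instance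
      exact IsClosedImmersion.of_comp s (f ∣_ U)
    let O : (f ⁻¹ᵁ U : X.Opens).toScheme.Opens := ⟨(Set.range s)ᶜ, s.isClosedEmbedding.isClosed_range.isOpen_compl⟩
    let O' : X.Opens := (f ⁻¹ᵁ U).ι ''ᵁ O
    have hxO : x ∈ O' := by
      refine ⟨⟨x, hx⟩, fun ⟨u, hu⟩ => hxV ?_, rfl⟩
      have := congrArg (f ⁻¹ᵁ U).ι hu
      rw [← Scheme.Hom.comp_apply, Category.assoc, Scheme.homOfLE_ι, Scheme.Hom.comp_apply] at this
      have hx' : V.ι ((inv r) u) = x := this
      rw [← hx']
      exact (inv r u).2
    have hempty : O' ⊓ V ≤ (⊥ : X.Opens) := by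
      rintro y ⟨⟨z, hz, rfl⟩, hyV⟩
      refine (hz ⟨r ⟨_, hyV⟩, (f ⁻¹ᵁ U).ι.isOpenEmbedding.injective ?_⟩).elim
      rw [← Scheme.Hom.comp_apply, Category.assoc, Scheme.homOfLE_ι, Scheme.Hom.comp_apply,
        ← Scheme.Hom.comp_apply r, IsIso.hom_inv_id]
      rfl
    have hsub : Subsingleton Γ(X, O' ⊓ V) := by
      rw [le_bot_iff.1 hempty]
      exact CommRingCat.subsingleton_of_isTerminal X.sheaf.isTerminalOfEmpty
    have : Subsingleton Γ(X, O') := (hV O').subsingleton
    have : Nonempty O' := ⟨⟨x, hxO⟩⟩
    exact false_of_nontrivial_of_subsingleton Γ(X, O')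
  have hisoU : IsIso (f ∣_ U) := by
    have : IsIso (X.homOfLE hle) := by subst hVU; rw [Scheme.homOfLE_rfl]; infer_instance
    have hr : X.homOfLE hle ≫ (f ∣_ U) = f.resLE U V hle := by
      rw [← cancel_mono U.ι]; simp
    have : IsIso (X.homOfLE hle ≫ (f ∣_ U)) := hr ▸ hiso
    exact IsIso.of_isIso_comp_left (X.homOfLE hle) _
  have hUqc : QuasiCompact U.ι := by
    rw [quasiCompact_iff]
    intro A hA hAc
    refine U.ι.isOpenEmbedding.toIsEmbedding.isCompact_iff.2 ?_
    rw [Set.image_preimage_eq_inter_range, Scheme.Opens.range_ι]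
    have h1 : IsCompact (f ⁻¹' A) := QuasiCompact.isCompact_preimage A hA hAc
    have h2 : IsCompact (V.ι ⁻¹' (f ⁻¹' A)) :=
      QuasiCompact.isCompact_preimage _ (hA.preimage f.continuous) h1
    have h3 := (h2.image (f.continuous.comp V.ι.continuous))
    have h4 : (f ∘ V.ι) '' (V.ι ⁻¹' (f ⁻¹' A)) = A ∩ ↑U := by
      rw [Set.image_comp, Set.image_preimage_eq_inter_range, Scheme.Opens.range_ι]
      ext y
      constructor
      · rintro ⟨z, ⟨hz, hzV⟩, rfl⟩; exact ⟨hz, hle hzV⟩
      · rintro ⟨hy, hyU⟩
        obtain ⟨z, rfl⟩ := f.surjective y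
        exact ⟨z, ⟨hy, hVU ▸ hyU⟩, rfl⟩
    rwa [h4] at h3
  have hUd : IsSchemeTheoreticallyDominant U.ι := ⟨Groth.Agent.NeronMap.ker_ι_eq_bot hU⟩
  let q : Limits.pullback f f ⟶ S := Limits.pullback.fst f f ≫ f
  have : Flat q := inferInstance
  have : IsSchemeTheoreticallyDominant (q ⁻¹ᵁ U).ι := Groth.Agent.EffCartier.dominant_preimage q U
  have hfac : (q ⁻¹ᵁ U).ι ≫ Limits.pullback.fst f f = (q ⁻¹ᵁ U).ι ≫ Limits.pullback.snd f f := by
    let W := q ⁻¹ᵁ U
    have hW₂ : W ≤ Limits.pullback.snd f f ⁻¹ᵁ (f ⁻¹ᵁ U) := by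
      intro y hy
      change (Limits.pullback.snd f f ≫ f) y ∈ U
      rw [← Limits.pullback.condition]
      exact hy
    have e : (Limits.pullback.fst f f).resLE (f ⁻¹ᵁ U) W le_rfl ≫ (f ∣_ U) =
        (Limits.pullback.snd f f).resLE (f ⁻¹ᵁ U) W hW₂ ≫ (f ∣_ U) := by
      rw [← cancel_mono U.ι]
      simp only [Category.assoc, morphismRestrict_ι, Scheme.Hom.resLE_comp_ι_assoc, Limits.pullback.condition]
    have := congrArg (· ≫ (f ⁻¹ᵁ U).ι) ((cancel_mono (f ∣_ U)).1 e)
    simp only [Scheme.Hom.resLE_comp_ι] at this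
    exact this
  have hΔ : IsIso (Limits.pullback.diagonal f) := by
    rw [IsClosedImmersion.isIso_iff_ker_eq_bot]
    have e : ((q ⁻¹ᵁ U).ι ≫ Limits.pullback.fst f f) ≫ Limits.pullback.diagonal f = (q ⁻¹ᵁ U).ι :=
      Limits.pullback.hom_ext (by simp) (by simpa using hfac)
    refine le_bot_iff.1 ?_
    refine le_of_le_of_eq ?_ (IsSchemeTheoreticallyDominant.ker_eq_bot (f := (q ⁻¹ᵁ U).ι))
    rw [← e]
    exact Scheme.Hom.le_ker_comp _ _
  have hmono : Mono f := (Limits.pullback.isIso_diagonal_iff f).1 hΔ
  have sq : IsPullback (𝟙 X) (𝟙 X) f f := IsPullback.id_horiz f |> fun _ => IsKernelPair.id_of_mono f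
  exact MorphismProperty.of_isPullback_of_descendsAlong (P := MorphismProperty.isomorphisms Scheme)
    (Q := @Surjective ⊓ @Flat ⊓ @QuasiCompact) sq ⟨⟨inferInstance, inferInstance⟩, inferInstance⟩
    (inferInstanceAs (IsIso (𝟙 X)))

end Groth.Agent.S15993
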