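import Groth.Statements.S15994
import Groth.Agent.Lib.EtHull15.Hull
-- import your own Groth.Agent.* helpers here

set_option autoImplicit false
open CategoryTheory AlgebraicGeometry
universe u
open EtHull

namespace Groth.Agent.S15994

/-- Let S be a Noetherian scheme all of whose local rings are geometrically unibranch and whose
structure sheaf has no embedded associated points, and let f : X → S be flat, surjective and of
finite presentation. Then there is a factorization X → E₀ → S of f with E₀ → S étale and affine and
X → E₀ schematically dominant (the étale affine hull of X over S), and it is initial among all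
factorizations of f through étale affine S-schemes: for every factorization X → E → S of f with E →
S étale and affine there is a unique morphism E₀ → E compatible with the maps from X and to S. In
particular it is the largest factorization with X → E schematically dominant. (The source allows X
to be an algebraic space; X is a scheme here.) -/
theorem result {X S : Scheme.{u}} [IsNoetherian S]
    (hS : ∀ s : S, CAlg2.IsGeomUnibranch (S.presheaf.stalk s))
    (hemb : AssSch.NoEmbedded (Coh.structureModule S))
    (f : X ⟶ S) [Flat f] [Surjective f] [LocallyOfFinitePresentation f] [QuasiCompact f]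
    [QuasiSeparated f] :
    ∃ (E₀ : Scheme.{u}) (g₀ : E₀ ⟶ S) (u₀ : X ⟶ E₀), Etale g₀ ∧ IsAffineHom g₀ ∧
      IsSchemeTheoreticallyDominant u₀ ∧ u₀ ≫ g₀ = f ∧
      ∀ (E : Scheme.{u}) (g : E ⟶ S) (u : X ⟶ E), Etale g → IsAffineHom g → u ≫ g = f →
        ∃! v : E₀ ⟶ E, u₀ ≫ v = u ∧ v ≫ g = g₀ := by
  obtain ⟨T, hT⟩ := Groth.Agent.EtHull15.exists_trivial (f := f) hS hemb
  obtain ⟨C, -, hmin⟩ := Groth.Agent.EtHull15.exists_min (f := f) hS hemb (fun _ => True) ⟨T, trivial⟩ (fun A B _ _ => by
      obtain ⟨C, hCA, hCB, -⟩ := Groth.Agent.EtHull15.exists_sup (f := f) hS hemb A B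
      exact ⟨C, trivial, hCA, hCB⟩)
  refine ⟨C.E, C.g, C.u, inferInstance, inferInstance, inferInstance, C.w, fun E g u he ha hu => ?_⟩
  haveI := he
  haveI := ha
  obtain ⟨D, i, hi, hi', -⟩ := Groth.Agent.EtHull15.exists_factor (f := f) hS hemb g u hu
  obtain ⟨w, hw, hw'⟩ := hmin D trivial
  refine ⟨w ≫ i, ⟨(Category.assoc _ _ _).symm.trans ((congrArg (· ≫ i) hw).trans hi),
    (Category.assoc _ _ _).trans ((congrArg (w ≫ ·) hi').trans hw')⟩, fun v hv => ?_⟩
  exact C.hom_ext g v (w ≫ i) (hv.1.trans ((congrArg (· ≫ i) hw).trans hi).symm |>.trans (Category.assoc _ _ _))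
    (hv.2.trans ((Category.assoc _ _ _).trans ((congrArg (w ≫ ·) hi').trans hw')).symm)

end Groth.Agent.S15994
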