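import Groth.Statements.S15995
-- import your own Groth.Agent.* helpers here

set_option autoImplicit false
set_option backward.isDefEq.respectTransparency.types false
open CategoryTheory CategoryTheory.Limits AlgebraicGeometry
universe u
open FrobSch

namespace Groth.Agent.S15995

/-- Coperfection commutes with base restriction. Let S and T be schemes of characteristic p and f : T →
S a relatively perfect morphism (its relative Frobenius T → T^(p/S) is an isomorphism). Let g : X →
T and let c : X → X' be a T-morphism to a relatively perfect T-scheme π : X' → T which is a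
coperfection of X over T: for every relatively perfect T-scheme Y, every T-morphism X → Y factors
uniquely through c. Then X' with structure map π ≫ f is relatively perfect over S and c is a
coperfection of X over S: every S-morphism from X to a relatively perfect S-scheme factors uniquely
through c. (The source works with algebraic spaces; schemes here.) -/
theorem result (p : ℕ) [Fact p.Prime] {X X' T S : Scheme.{u}}
    [FrobSch.IsCharP S p] [FrobSch.IsCharP T p] (f : T ⟶ S) (hf : IsIso (FrobSch.relFrob f p))
    (g : X ⟶ T) (π : X' ⟶ T) (hπ : IsIso (FrobSch.relFrob π p)) (c : X ⟶ X') (hc : c ≫ π = g)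
    (huniv : ∀ (Y : Scheme.{u}) (q : Y ⟶ T), IsIso (FrobSch.relFrob q p) →
      ∀ k : X ⟶ Y, k ≫ q = g → ∃! h : X' ⟶ Y, h ≫ q = π ∧ c ≫ h = k) :
    IsIso (FrobSch.relFrob (π ≫ f) p) ∧
      ∀ (Y : Scheme.{u}) (r : Y ⟶ S), IsIso (FrobSch.relFrob r p) →
        ∀ k : X ⟶ Y, k ≫ r = g ≫ f → ∃! h : X' ⟶ Y, h ≫ r = π ≫ f ∧ c ≫ h = k := by
  have key : ∀ {A B : Scheme.{u}} (r : A ⟶ B) [FrobSch.IsCharP A p] [FrobSch.IsCharP B p],
      IsIso (FrobSch.relFrob r p) ↔ IsPullback (FrobSch.frob A p) r r (FrobSch.frob B p) := by
    intro A B r _ _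
    constructor
    · intro hr
      exact IsPullback.of_iso_pullback ⟨FrobSch.frob_comp p r⟩ (asIso (FrobSch.relFrob r p))
        (FrobSch.relFrob_fst r p) (FrobSch.relFrob_snd r p)
    · intro hr
      have : FrobSch.relFrob r p = hr.isoPullback.hom := by
        apply pullback.hom_ext
        · rw [FrobSch.relFrob_fst, IsPullback.isoPullback_hom_fst]
        · rw [FrobSch.relFrob_snd, IsPullback.isoPullback_hom_snd]
      rw [this]; infer_instance
  haveI : FrobSch.IsCharP X' p := FrobSch.IsCharP.of_hom π p
  have h1 := (key f).1 hf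
  refine ⟨(key (π ≫ f)).2 (((key π).1 hπ).paste_vert h1), fun Y r hr k hk => ?_⟩
  haveI : FrobSch.IsCharP Y p := FrobSch.IsCharP.of_hom r p
  haveI : FrobSch.IsCharP (pullback r f) p := FrobSch.IsCharP.of_hom (pullback.snd r f) p
  have hq : IsIso (FrobSch.relFrob (pullback.snd r f) p) := by
    refine (key (pullback.snd r f)).2 (IsPullback.of_right ?_ (FrobSch.frob_comp p _) (IsPullback.of_hasPullback r f))
    rw [FrobSch.frob_comp p (pullback.fst r f), FrobSch.frob_comp p f]
    exact (IsPullback.of_hasPullback r f).paste_horiz ((key r).1 hr)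
  obtain ⟨w, ⟨hw1, hw2⟩, huniq⟩ := huniv (pullback r f) (pullback.snd r f) hq (pullback.lift k g hk)
    (pullback.lift_snd _ _ _)
  refine ⟨w ≫ pullback.fst r f, ⟨?_, ?_⟩, fun v hv => ?_⟩
  · rw [Category.assoc, pullback.condition, ← Category.assoc, hw1]
  · rw [← Category.assoc, hw2, pullback.lift_fst]
  · have hu := huniq (pullback.lift v π hv.1) ⟨pullback.lift_snd _ _ _, by
      apply pullback.hom_ext
      · rw [Category.assoc, pullback.lift_fst, pullback.lift_fst, hv.2]
      · rw [Category.assoc, pullback.lift_snd, pullback.lift_snd, hc]⟩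
    rw [← hu, pullback.lift_fst]

end Groth.Agent.S15995
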