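import Groth.Statements.S15996
import Groth.Agent.Lib.EtHull15.Regular
-- import your own Groth.Agent.* helpers here

set_option autoImplicit false
open CategoryTheory AlgebraicGeometry
universe u
open EtHull

namespace Groth.Agent.S15996

/-- Let R be a Noetherian ring whose localizations at all prime ideals are regular local rings, S = Spec
R, and q : U → S an étale, separated and quasi-compact morphism of schemes. The following are
equivalent: (1) there is an open immersion of U into a scheme E which is étale and affine over S,
compatible with q; (2) the affine hull Spec Γ(U, O_U) → S of U over S is étale. (The source states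
this for a locally Noetherian algebraic space S all of whose étale atlases are locally ℚ-factorial;
this row is the case of an affine regular Noetherian base, a regular scheme being locally
ℚ-factorial.) -/
theorem result {R : Type u} [CommRing R]
    [IsNoetherianRing R] (hreg : ∀ (P : Ideal R) [P.IsPrime], IsRegularLocalRing (Localization.AtPrime P))
    {U : Scheme.{u}} (q : U ⟶ Spec (CommRingCat.of R)) [Etale q] [IsSeparated q] [QuasiCompact q] :
    (∃ (E : Scheme.{u}) (j : U ⟶ E) (g : E ⟶ Spec (CommRingCat.of R)),
        IsOpenImmersion j ∧ Etale g ∧ IsAffineHom g ∧ j ≫ g = q) ↔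
      Etale (Spec.map q.appTop ≫ (Spec (CommRingCat.of R)).isoSpec.inv) := by
  refine ⟨?_, fun h => Groth.Agent.EtHull15.exists_openImmersion q h⟩
  rintro ⟨E, j, g, hj, hg, ha, hjg⟩
  haveI := hj; haveI := hg; haveI := ha
  refine Groth.Agent.EtHull15.etale_spec_appTop (fun s => ?_) q j g hjg
  haveI : IsRegularLocalRing (Localization.AtPrime s.asIdeal) := hreg s.asIdeal
  exact IsRegularLocalRing.of_ringEquiv
    (StructureSheaf.stalkIso (CommRingCat.of R) s).toRingEquiv

end Groth.Agent.S15996
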