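import Groth.Statements.S1600
import Groth.Agent.S0414
import Groth.Agent.S0565
import Groth.Agent.Lib.Stein6.Finite
import Groth.Agent.Lib.VarDim.Normal
import Groth.Agent.Lib.SmoothReg17.Basic
import Mathlib.AlgebraicGeometry.Morphisms.SchemeTheoreticallyDominant
-- import your own Groth.Agent.* helpers here

set_option autoImplicit false
universe u
open CategoryTheory CategoryTheory.Limits AlgebraicGeometry
open Resolve

namespace Groth.Agent.S1600

set_option linter.style.haveILetI false
set_option backward.isDefEq.respectTransparency.types false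


/-- Let A be a Noetherian domain such that Spec A admits an alteration f : X → Spec A with X regular.
Then the integral closure of A in its fraction field is a finite A-module (A is N-1), and some
nonempty open subset of Spec A consists of points whose local ring is regular. (The published
statement is for any Noetherian integral scheme; it is stated here for an affine one.) -/
theorem result (A : Type u) [CommRing A] [IsDomain A] [IsNoetherianRing A]
    (X : Scheme.{u}) (f : X ⟶ Spec (CommRingCat.of A)) (hf : Curv2.IsAlteration f)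
    (hreg : ∀ x : X, IsRegularLocalRing (X.presheaf.stalk x)) :
    CAlg.IsN1 A ∧ ∃ U : (Spec (CommRingCat.of A)).Opens, (U : Set (Spec (CommRingCat.of A))).Nonempty ∧
      ∀ y ∈ U, IsRegularLocalRing ((Spec (CommRingCat.of A)).presheaf.stalk y) := by
  obtain ⟨hpr, hI, -, hdom, -⟩ := hf
  haveI := hpr
  haveI := hI
  haveI := hdom
  haveI : IsNoetherianRing (CommRingCat.of A) := ‹IsNoetherianRing A›
  haveI : IsDomain (CommRingCat.of A) := ‹IsDomain A›
  haveI : IsNoetherianRing Γ(Spec (CommRingCat.of A), ⊤) :=
    IsLocallyNoetherian.component_noetherian ⟨⊤, isAffineOpen_top _⟩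
  haveI : IsReduced (Spec (CommRingCat.of A)) := inferInstance
  haveI hsd : IsSchemeTheoreticallyDominant f := IsSchemeTheoreticallyDominant.of_isDominant f
  haveI : Nonempty ↥((⊤ : X.Opens) : Scheme) := ⟨⟨genericPoint X, trivial⟩⟩
  haveI : Nonempty ↥(⊤ : X.Opens) := ⟨⟨genericPoint X, trivial⟩⟩
  constructor
  · let g : A →+* Γ(X, ⊤) := f.appTop.hom.comp (Scheme.ΓSpecIso (CommRingCat.of A)).inv.hom
    have hg : g.Finite := RingHom.Finite.comp (Stein6.finite_appTop f)
      (RingHom.Finite.of_surjective _ (ConcreteCategory.bijective_of_isIso (Scheme.ΓSpecIso (CommRingCat.of A)).inv).surjective)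
    have hginj : Function.Injective g :=
      (Scheme.Hom.app_injective f ⊤).comp
        (ConcreteCategory.bijective_of_isIso (Scheme.ΓSpecIso (CommRingCat.of A)).inv).injective
    let ψ : Γ(X, ⊤) →+* X.functionField := (X.germToFunctionField ⊤).hom
    have hψ : Function.Injective ψ := X.germToFunctionField_injective ⊤
    let φ : FractionRing A →+* X.functionField := IsFractionRing.lift (g := ψ.comp g) (hψ.comp hginj)
    have hφ : ∀ a, φ (algebraMap A (FractionRing A) a) = ψ (g a) := fun a =>
      IsFractionRing.lift_algebraMap (g := ψ.comp g) (hψ.comp hginj) a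
    have hnor : ∀ x : X, IsIntegrallyClosed (X.presheaf.stalk x) := fun x => by
      haveI := hreg x
      haveI := RegLoc.isDomain (X.presheaf.stalk x)
      haveI := RegLoc.ufd_of_isRegularLocalRing (X.presheaf.stalk x)
      infer_instance
    letI := g.toAlgebra
    haveI : Module.Finite A Γ(X, ⊤) := hg
    letI : Algebra A X.functionField := (ψ.comp g).toAlgebra
    let Ψ : Γ(X, ⊤) →ₐ[A] X.functionField := { ψ with commutes' := fun a => rfl }
    let Φ : integralClosure A (FractionRing A) →ₐ[A] X.functionField :=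
      { φ.comp (integralClosure A (FractionRing A)).val.toRingHom with commutes' := fun a => hφ a }
    have hmem : ∀ z, Φ z ∈ LinearMap.range Ψ.toLinearMap := by
      intro z
      obtain ⟨p, hp, hp0⟩ := z.2
      obtain ⟨a, ha⟩ := VarDim.exists_section_of_integral hnor ⊤ (φ z.1)
        ⟨p.map g, hp.map g, by
          rw [Polynomial.eval₂_map, show ψ.comp g = φ.comp (algebraMap A (FractionRing A)) from
            RingHom.ext fun a => (hφ a).symm, ← Polynomial.hom_eval₂, hp0, map_zero]⟩
      exact ⟨a, ha⟩
    haveI : IsNoetherian A (LinearMap.range Ψ.toLinearMap) := isNoetherian_of_isNoetherianRing_of_finite A _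
    exact Module.Finite.of_injective (Φ.toLinearMap.codRestrict _ hmem) fun a b h =>
      Subtype.ext (φ.injective (congrArg Subtype.val h))
  · obtain ⟨U, hU, hflat, -⟩ := S0414.result f
    refine ⟨U, hU.nonempty, fun y hy => ?_⟩
    obtain ⟨x, rfl⟩ : y ∈ Set.range f := by
      rw [(f.denseRange).closure_range.symm.trans (f.isClosedMap.isClosed_range.closure_eq)|>.symm]
      trivial
    let x' : (f ⁻¹ᵁ U : X.Opens) := ⟨x, hy⟩
    haveI : Flat ((f ∣_ U) ≫ U.ι) := inferInstance
    haveI : Flat ((f ⁻¹ᵁ U).ι ≫ f) := by rw [← morphismRestrict_ι]; infer_instance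
    have h1 := Flat.stalkMap ((f ⁻¹ᵁ U).ι ≫ f) x'
    haveI := hreg x
    haveI : IsRegularLocalRing ((f ⁻¹ᵁ U : X.Opens).toScheme.presheaf.stalk x') :=
      IsRegularLocalRing.of_ringEquiv (asIso ((f ⁻¹ᵁ U).ι.stalkMap x')).commRingCatIsoToRingEquiv
    letI := (((f ⁻¹ᵁ U).ι ≫ f).stalkMap x').hom.toAlgebra
    haveI : Module.Flat ((Spec (CommRingCat.of A)).presheaf.stalk (((f ⁻¹ᵁ U).ι ≫ f) x'))
        ((f ⁻¹ᵁ U : X.Opens).toScheme.presheaf.stalk x') := h1
    haveI : IsLocalHom (algebraMap ((Spec (CommRingCat.of A)).presheaf.stalk (((f ⁻¹ᵁ U).ι ≫ f) x'))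
        ((f ⁻¹ᵁ U : X.Opens).toScheme.presheaf.stalk x')) :=
      inferInstanceAs (IsLocalHom (((f ⁻¹ᵁ U).ι ≫ f).stalkMap x').hom)
    exact S0565.result ((Spec (CommRingCat.of A)).presheaf.stalk (((f ⁻¹ᵁ U).ι ≫ f) x')) ((f ⁻¹ᵁ U : X.Opens).toScheme.presheaf.stalk x')

end Groth.Agent.S1600
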