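import Groth.Statements.S16000
import Groth.Agent.S13045
import Groth.Agent.Lib.ProjSect14.Alg
import Mathlib.FieldTheory.PerfectClosure
import Mathlib.RingTheory.RingHom.FaithfullyFlat
import Mathlib.RingTheory.Flat.Tensor
-- import your own Groth.Agent.* helpers here

set_option autoImplicit false
universe u
open FrobAlg

namespace Groth.Agent.S16000

open TensorProduct

noncomputable section

variable (p : ℕ) [Fact p.Prime] (R : Type u) [CommRing R] [CharP R p]

set_option linter.unusedVariables false in
/-- A copy of `R`, over `R` through the `n`-th Frobenius iterate. -/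
@[nolint unusedArguments] def Tw (p : ℕ) (R : Type u) (n : ℕ) : Type u := R

instance (n : ℕ) : CommRing (Tw p R n) := inferInstanceAs (CommRing R)

/-- The tautological identification. -/
def tw (n : ℕ) : R ≃+* Tw p R n := RingEquiv.refl R

instance (n : ℕ) : Algebra R (Tw p R n) := ((tw p R n : R →+* Tw p R n).comp (iterateFrobenius R p n)).toAlgebra

theorem algebraMap_tw (n : ℕ) (r : R) : algebraMap R (Tw p R n) r = tw p R n (r ^ p ^ n) := rfl

/-- Frobenius between consecutive copies. -/
def step (n : ℕ) : Tw p R n →+* Tw p R (n + 1) :=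
  (tw p R (n + 1) : R →+* Tw p R (n + 1)).comp ((frobenius R p).comp ((tw p R n).symm : Tw p R n →+* R))

theorem projective_tw [hP : Module.Projective R (FrobAlg.Twist p R)] : ∀ n, Module.Projective R (Tw p R n)
  | 0 => by
    let e : R ≃ₗ[R] Tw p R 0 := (tw p R 0).toAddEquiv.toLinearEquiv fun r x => by
      show tw p R 0 (r * x) = algebraMap R (Tw p R 0) r * tw p R 0 x
      rw [algebraMap_tw, pow_zero, pow_one, map_mul]
    exact Module.Projective.of_equiv e
  | n + 1 => by
    haveI := projective_tw n
    letI : Algebra (Tw p R n) (Tw p R (n + 1)) := (step p R n).toAlgebra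
    haveI : IsScalarTower R (Tw p R n) (Tw p R (n + 1)) := IsScalarTower.of_algebraMap_eq fun r => by
      show tw p R (n + 1) (r ^ p ^ (n + 1)) = tw p R (n + 1) (frobenius R p (r ^ p ^ n))
      rw [frobenius_def, ← pow_mul, pow_succ]
    haveI : Module.Projective (Tw p R n) (Tw p R (n + 1)) := hP
    exact ProjSect14.projective_trans (R' := Tw p R n)

/-- The perfect closure as an algebra. -/
local instance pcAlgebra : Algebra R (PerfectClosure R p) := (PerfectClosure.of R p).toAlgebra

/-- The `n`-th copy inside the perfect closure. -/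
def toPC (n : ℕ) : Tw p R n →+* PerfectClosure R p where
  toFun x := PerfectClosure.mk R p (n, (tw p R n).symm x)
  map_one' := by
    rw [map_one, PerfectClosure.one_def, PerfectClosure.mk_eq_iff]
    exact ⟨0, by simp⟩
  map_mul' x y := by
    rw [PerfectClosure.mk_mul_mk, PerfectClosure.mk_eq_iff, map_mul]
    exact ⟨0, by simp [← Function.iterate_add_apply]⟩
  map_zero' := by
    rw [map_zero, PerfectClosure.zero_def, PerfectClosure.mk_eq_iff]
    exact ⟨0, by simp⟩
  map_add' x y := by
    rw [PerfectClosure.mk_add_mk, PerfectClosure.mk_eq_iff, map_add]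
    exact ⟨0, by simp [← Function.iterate_add_apply]⟩

theorem toPC_algebraMap (n : ℕ) (r : R) : toPC p R n (algebraMap R (Tw p R n) r) = algebraMap R (PerfectClosure R p) r := by
  show PerfectClosure.mk R p (n, r ^ p ^ n) = PerfectClosure.mk R p (0, r)
  rw [PerfectClosure.mk_eq_iff]
  exact ⟨0, by simp [iterate_frobenius]⟩

/-- The `n`-th copy inside the perfect closure, linearly. -/
def ell (n : ℕ) : Tw p R n →ₗ[R] PerfectClosure R p where
  toFun := toPC p R n
  map_add' := map_add _
  map_smul' r x := by
    rw [RingHom.id_apply, Algebra.smul_def, Algebra.smul_def, map_mul, toPC_algebraMap]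

/-- Going up the tower. -/
def up {n m : ℕ} (h : n ≤ m) : Tw p R n →ₗ[R] Tw p R m where
  toFun x := tw p R m (((tw p R n).symm x) ^ p ^ (m - n))
  map_add' x y := by rw [map_add, add_pow_char_pow, map_add]
  map_smul' r x := by
    rw [RingHom.id_apply, Algebra.smul_def, Algebra.smul_def, algebraMap_tw, algebraMap_tw, map_mul,
      RingEquiv.symm_apply_apply, mul_pow, ← pow_mul, ← pow_add, Nat.add_sub_cancel' h, map_mul]

theorem ell_up {n m : ℕ} (h : n ≤ m) : ell p R m ∘ₗ up p R h = ell p R n := LinearMap.ext fun x => by
  show PerfectClosure.mk R p (m, ((tw p R n).symm x) ^ p ^ (m - n)) = PerfectClosure.mk R p (n, (tw p R n).symm x)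
  rw [PerfectClosure.mk_eq_iff]
  refine ⟨0, ?_⟩
  simp only [add_zero, iterate_frobenius, ← pow_mul, ← pow_add]
  rw [Nat.sub_add_cancel h]

theorem exists_preimage {P : Type u} [AddCommGroup P] [Module R P] (z : PerfectClosure R p ⊗[R] P) :
    ∃ n w, (ell p R n).rTensor P w = z := by
  induction z using TensorProduct.induction_on with
  | zero => exact ⟨0, 0, map_zero _⟩
  | tmul x y =>
    obtain ⟨⟨n, a⟩, rfl⟩ := PerfectClosure.mk_surjective R p x
    exact ⟨n, tw p R n a ⊗ₜ y, rfl⟩
  | add z₁ z₂ h₁ h₂ =>
    obtain ⟨n, w, rfl⟩ := h₁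
    obtain ⟨m, v, rfl⟩ := h₂
    refine ⟨max n m, (up p R (le_max_left n m)).rTensor P w + (up p R (le_max_right n m)).rTensor P v, ?_⟩
    rw [map_add, ← LinearMap.rTensor_comp_apply, ← LinearMap.rTensor_comp_apply, ell_up, ell_up]

theorem flat_perfectClosure [Module.Projective R (FrobAlg.Twist p R)] : Module.Flat R (PerfectClosure R p) := by
  rw [Module.Flat.iff_lTensor_injective']
  intro I
  rw [injective_iff_map_eq_zero]
  intro z hz
  obtain ⟨n, w, rfl⟩ := exists_preimage p R z
  let y := TensorProduct.rid R (Tw p R n) (I.subtype.lTensor (Tw p R n) w)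
  have hnat : ∀ {M N : Type u} [AddCommGroup M] [Module R M] [AddCommGroup N] [Module R N] (f : M →ₗ[R] N) (v : M ⊗[R] I),
      TensorProduct.rid R N (I.subtype.lTensor N (f.rTensor I v)) = f (TensorProduct.rid R M (I.subtype.lTensor M v)) :=
    fun {M N} _ _ _ _ f v => by
      induction v using TensorProduct.induction_on with
      | zero => simp
      | tmul a b => simp
      | add a b ha hb => simp only [map_add, ha, hb]
  have h0 : ell p R n y = 0 := (hnat (ell p R n) w).symm.trans ((congrArg _ hz).trans (map_zero _))
  obtain ⟨e, he⟩ := (PerfectClosure.mk_eq_iff R p _ (0, 0)).1 (h0.trans (PerfectClosure.zero_def R p))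
  have h1 : up p R (Nat.le_add_right n e) y = 0 := by
    show tw p R (n + e) (((tw p R n).symm y) ^ p ^ (n + e - n)) = 0
    simp only [zero_add, iterate_map_zero, iterate_frobenius] at he
    rw [Nat.add_sub_cancel_left, he, map_zero]
  haveI := projective_tw p R (n + e)
  have h2 : (up p R (Nat.le_add_right n e)).rTensor I w = 0 := by
    refine (injective_iff_map_eq_zero _).1
      ((Module.Flat.iff_lTensor_injective' (R := R) (M := Tw p R (n + e))).1 inferInstance I) _ ?_
    apply (TensorProduct.rid R (Tw p R (n + e))).injective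
    rw [hnat, map_zero]
    exact h1
  rw [← ell_up p R (Nat.le_add_right n e), LinearMap.rTensor_comp_apply, h2, map_zero]

theorem faithfullyFlat_perfectClosure [Module.Projective R (FrobAlg.Twist p R)] :
    Module.FaithfullyFlat R (PerfectClosure R p) := by
  haveI := flat_perfectClosure p R
  refine ⟨fun m hm htop => ?_⟩
  haveI := hm
  rw [Ideal.smul_top_eq_map, Submodule.restrictScalars_eq_top_iff, Ideal.eq_top_iff_one] at htop
  letI := Ideal.Quotient.field m
  haveI : CharP (R ⧸ m) p := (CharP.charP_iff_prime_eq_zero Fact.out).2 (by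
    rw [← map_natCast (Ideal.Quotient.mk m), CharP.cast_eq_zero, map_zero])
  let χ : PerfectClosure R p →+* PerfectClosure (R ⧸ m) p :=
    PerfectClosure.lift R p _ ((PerfectClosure.of (R ⧸ m) p).comp (Ideal.Quotient.mk m))
  have hle : Ideal.map (algebraMap R (PerfectClosure R p)) m ≤ RingHom.ker χ := Ideal.map_le_iff_le_comap.2 fun x hx => by
    show χ (PerfectClosure.of R p x) = 0
    have h := RingHom.congr_fun ((PerfectClosure.lift R p _).symm_apply_apply
      ((PerfectClosure.of (R ⧸ m) p).comp (Ideal.Quotient.mk m))) x
    refine Eq.trans ?_ (h.trans ?_)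
    · rfl
    · rw [RingHom.comp_apply, Ideal.Quotient.eq_zero_iff_mem.2 hx, map_zero]
  have h1 := hle htop
  rw [RingHom.mem_ker, map_one] at h1
  exact one_ne_zero h1

theorem ell_rTensor_injective [Module.Projective R (FrobAlg.Twist p R)] (n : ℕ) (T : Type u) [AddCommGroup T] [Module R T] :
    Function.Injective ((ell p R n).rTensor T) := by
  haveI := faithfullyFlat_perfectClosure p R
  letI : Algebra (Tw p R n) (PerfectClosure R p) := (toPC p R n).toAlgebra
  haveI : IsScalarTower R (Tw p R n) (PerfectClosure R p) :=
    IsScalarTower.of_algebraMap_eq fun r => (toPC_algebraMap p R n r).symm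
  haveI : Module.FaithfullyFlat (Tw p R n) (PerfectClosure R p) := by
    let e : PerfectClosure R p ≃+* PerfectClosure R p := iterateFrobeniusEquiv (PerfectClosure R p) p n
    have h : toPC p R n = (e.symm : PerfectClosure R p →+* PerfectClosure R p).comp
        ((PerfectClosure.of R p).comp ((tw p R n).symm : Tw p R n →+* R)) := RingHom.ext fun x => by
      show _ = e.symm (PerfectClosure.of R p ((tw p R n).symm x))
      rw [RingEquiv.eq_symm_apply]
      show iterateFrobenius (PerfectClosure R p) p n (PerfectClosure.mk R p (n, (tw p R n).symm x)) = _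
      rw [coe_iterateFrobenius, PerfectClosure.iterate_frobenius_mk]
    rw [← RingHom.faithfullyFlat_algebraMap_iff]
    show (toPC p R n).FaithfullyFlat
    rw [h]
    exact RingHom.FaithfullyFlat.stableUnderComposition _ _
      (RingHom.FaithfullyFlat.stableUnderComposition _ _ (RingHom.FaithfullyFlat.of_bijective (tw p R n).symm.bijective)
        (RingHom.faithfullyFlat_algebraMap_iff.2 inferInstance))
      (RingHom.FaithfullyFlat.of_bijective e.symm.bijective)
  let E := TensorProduct.AlgebraTensorModule.cancelBaseChange R (Tw p R n) (Tw p R n) (PerfectClosure R p) T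
  have h : ((ell p R n).rTensor T : Tw p R n ⊗[R] T → PerfectClosure R p ⊗[R] T) =
      E ∘ fun y => (1 : PerfectClosure R p) ⊗ₜ[Tw p R n] y := funext fun y => by
    induction y using TensorProduct.induction_on with
    | zero => simp
    | tmul a b =>
      simp only [LinearMap.rTensor_tmul, Function.comp_apply, E,
        TensorProduct.AlgebraTensorModule.cancelBaseChange_tmul, Algebra.smul_def, mul_one]
      rfl
    | add a b ha hb => simp only [map_add, Function.comp_apply, TensorProduct.tmul_add, ha, hb]
  rw [h]
  exact E.injective.comp (Module.FaithfullyFlat.tensorProduct_mk_injective (B := PerfectClosure R p) _)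

end


open TensorProduct in
/-- Let p be a prime, R a commutative ring of characteristic p such that R is a projective R-module
through its absolute Frobenius, and A a commutative R-algebra of characteristic p, with Frobenius
twists A^{p^i/R} = R ⊗_{F^i,R} A, relative Frobenius maps A^{p^{i+1}/R} → A^{p^i/R} and
preperfection A^{p^∞/R} = lim_i A^{p^i/R} ⊆ Π_i A^{p^i/R}. Let R' be the direct-limit perfection
colim(R → R → ⋯) of R along Frobenius, an R-module through the canonical map R → R'. Then the
natural map R' ⊗_R A^{p^∞/R} → Π_i (R' ⊗_R A^{p^i/R}), r ⊗ x ↦ (r ⊗ x_i)_i, is injective; in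
particular the base-change map R' ⊗_R lim_i A^{p^i/R} → lim_i (R' ⊗_R A^{p^i/R}) is injective. (The
published statement identifies the target limit with the preperfection of A ⊗_R R' over R'; that
identification is not part of this row.) -/
theorem result
    (p : ℕ) [Fact p.Prime] (R : Type u) [CommRing R] [CharP R p]
    (A : Type u) [CommRing A] [Algebra R A] [CharP A p]
    [Module.Projective R (FrobAlg.Twist p R)] :
    letI : Algebra R (PerfectClosure R p) := (PerfectClosure.of R p).toAlgebra
    Function.Injective
      (LinearMap.pi fun i : ℕ =>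
        LinearMap.lTensor (PerfectClosure R p)
          (((Pi.evalAlgHom R (fun k => W4c1imperftorsors.Twist p R A k) i).comp
            (W4c1imperftorsors.prePerf p R A).val).toLinearMap) :
        PerfectClosure R p ⊗[R] ↥(W4c1imperftorsors.prePerf p R A) →ₗ[R]
          (Π i : ℕ, PerfectClosure R p ⊗[R] W4c1imperftorsors.Twist p R A i)) := by
  letI : Algebra R (PerfectClosure R p) := (PerfectClosure.of R p).toAlgebra
  rw [injective_iff_map_eq_zero]
  intro z hz
  obtain ⟨n, w, rfl⟩ := exists_preimage p R z
  haveI := projective_tw p R n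
  suffices w = 0 by rw [this, map_zero]
  refine (injective_iff_map_eq_zero _).1 (S13045.result p R A (Tw p R n)) w (funext fun i => ?_)
  refine ell_rTensor_injective p R n _ (Eq.trans ?_ ((congrFun hz i).trans (map_zero _).symm))
  simp only [LinearMap.pi_apply]
  rw [← LinearMap.comp_apply, LinearMap.rTensor_comp_lTensor, ← LinearMap.lTensor_comp_rTensor, LinearMap.comp_apply]

end Groth.Agent.S16000
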