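import Groth.Statements.S16003
import Groth.Agent.Lib.VB17.Proper
import Groth.Agent.Lib.VB17.Pair
-- import your own Groth.Agent.* helpers here

set_option autoImplicit false
open CategoryTheory AlgebraicGeometry CategoryTheory.Limits
open VBCurve

namespace Groth.Agent.S16003

/-- Let X be a smooth proper integral curve over the complex numbers and L an invertible O_X-module; an
L-valued pair is a finite locally free O_X-module E of rank r ≥ 1 with a map φ : E → E ⊗ L; a
submodule j : G → E (a monomorphism) is φ-invariant when some χ : G → G ⊗ L followed by j ⊗ L equals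
j followed by φ; the pair is semistable when deg G · r ≤ deg E · n for every φ-invariant finite
locally free submodule G of rank n ≥ 1, degrees being χ − rank · χ(O_X). If (E, φ) is a semistable
pair and φ is not zero, then L has non-negative degree. (The published statement is for tuples of
finitely many commuting twisting maps; this is the assertion for the one map φ.) -/
theorem result
    (X : Scheme.{0}) [X.Over (Spec (CommRingCat.of ℂ))] [IsIntegral X]
    [IsProper (X ↘ Spec (CommRingCat.of ℂ))] [Smooth (X ↘ Spec (CommRingCat.of ℂ))]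
    (hdim : topologicalKrullDim X = 1)
    (L : X.Modules) (hL : PicF.IsInvertible L)
    (r : ℕ) (hr : 0 < r) (E : X.Modules) (hE : FlatMod.IsFinLocFreeOfRank r E)
    (φ : E ⟶ CohB1.tensorMod E L)
    (hss : (∀ (G : X.Modules) (n : ℕ) (j : G ⟶ E) (χ : G ⟶ CohB1.tensorMod G L), Mono j → 0 < n →
      FlatMod.IsFinLocFreeOfRank n G →
      χ ≫ (CohB1.sheafifyMod X).map (MonoidalCategoryStruct.whiskerRight (C := CohB1.PMod X) j.val (CohB1.toPMod L)) = j ≫ φ →
      Curv2.deg ℂ X G n * (r : ℤ) ≤ Curv2.deg ℂ X E r * (n : ℤ)))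
    (hφ : φ ≠ 0) :
    0 ≤ Curv2.deg ℂ X L 1 := by
  have hX := Groth.Agent.VB17.regCurve' (k := ℂ) hdim
  simp only [Groth.Agent.VB17.whisker_eq_tensorMap] at hss
  have hL1 := (Groth.Agent.M2.isInvertible_iff_isFinLocFreeOfRank_one L).1 hL
  have hEL : FlatMod.IsFinLocFreeOfRank r (CohB1.tensorMod E L) := by
    simpa using Groth.Agent.M2.isFinLocFreeOfRank_tensor hE hL1
  haveI := Groth.Agent.VB17.isEquivalence_tensorR hL
  obtain ⟨D, hD, ⟨e⟩⟩ := Groth.Agent.M2.exists_inverse hL
  have hD1 := (Groth.Agent.M2.isInvertible_iff_isFinLocFreeOfRank_one D).1 hD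
  have key := Groth.Agent.VB17.slope_le_of_bounds hX φ hφ hE hEL (r : ℤ)
    (Curv2.deg ℂ X E r + (r : ℤ) * Curv2.deg ℂ X L 1) ?_ ?_ (Int.natCast_nonneg r)
  · have hr' : (0 : ℤ) < r := by exact_mod_cast hr
    have h1 : (0 : ℤ) ≤ ((r : ℤ) * r) * Curv2.deg ℂ X L 1 := by nlinarith
    exact nonneg_of_mul_nonneg_right h1 (by positivity)
  · intro n hn hK
    refine hss _ n (kernel.ι φ) 0 inferInstance hn hK ?_
    rw [kernel.condition]
    exact zero_comp
  · intro n hn hI
    let T := Groth.Agent.M2.tensorR L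
    let I := Abelian.image φ
    let t : CohB1.tensorMod (T.objPreimage I) L ≅ I := T.objObjPreimageIso I
    let j : T.objPreimage I ⟶ E := T.preimage (t.hom ≫ Abelian.image.ι φ)
    have hj : Groth.Agent.M2.tensorMap j (𝟙 L) = t.hom ≫ Abelian.image.ι φ :=
      T.map_preimage (t.hom ≫ Abelian.image.ι φ)
    haveI : Mono (T.map j) := by
      show Mono (Groth.Agent.M2.tensorMap j (𝟙 L))
      rw [hj]; infer_instance
    have hjm : Mono j := T.mono_of_mono_map (f := j) inferInstance
    have hI' : FlatMod.IsFinLocFreeOfRank n (T.objPreimage I) :=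
      Groth.Agent.M2.isFinLocFreeOfRank_of_iso
        ((Groth.Agent.M2.tensorIso t.symm (Iso.refl D)) ≪≫ Groth.Agent.M2.untwist e (T.objPreimage I))
        (by simpa using Groth.Agent.M2.isFinLocFreeOfRank_tensor hI hD1)
    have h := hss _ n j (j ≫ Abelian.factorThruImage φ ≫ t.inv) hjm hn hI' (by
      refine (congrArg (fun z => (j ≫ Abelian.factorThruImage φ ≫ t.inv) ≫ z)
        (Groth.Agent.VB17.whisker_eq_tensorMap j L)).trans ?_
      rw [hj, Category.assoc, Category.assoc]
      exact congrArg (fun z => j ≫ z) ((congrArg (fun z => Abelian.factorThruImage φ ≫ z)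
        (t.inv_hom_id_assoc (Abelian.image.ι φ))).trans (Abelian.image.fac φ)))
    have d : Curv2.deg ℂ X I n = Curv2.deg ℂ X (T.objPreimage I) n + (n : ℤ) * Curv2.deg ℂ X L 1 := by
      rw [← Groth.Agent.CurveCoh17.deg_iso t]
      simpa using hX.like.deg_tensor hI' hL1
    show Curv2.deg ℂ X I n * (r : ℤ) ≤ _
    rw [d]
    nlinarith

end Groth.Agent.S16003
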