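import Groth.Statements.S16004
import Groth.Agent.Lib.VB17.Proper
import Groth.Agent.Lib.VB17.Bound
import Groth.Agent.Lib.VB17.Saturate
import Groth.Agent.Lib.VB17.Pair
-- import your own Groth.Agent.* helpers here

set_option autoImplicit false
open CategoryTheory AlgebraicGeometry CategoryTheory.Limits
open VBCurve Groth.Agent.M1 Groth.Agent.M2 Groth.Agent.CurveCoh17 Groth.Agent.VB17

namespace Groth.Agent.S16004

/-- Let X be a smooth proper integral curve over the complex numbers and L an invertible O_X-module of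
degree 0; an L-valued pair is a finite locally free O_X-module E of rank r ≥ 1 with a map φ : E → E
⊗ L; a submodule j : G → E (a monomorphism) is φ-invariant when some χ : G → G ⊗ L followed by j ⊗ L
equals j followed by φ; the pair is semistable when deg G · r ≤ deg E · n for every φ-invariant
finite locally free submodule G of rank n ≥ 1, degrees being χ − rank · χ(O_X). If (E, φ) is a
semistable pair then E is slope-semistable as a module of rank r: deg G · r ≤ deg E · n for every
finite locally free submodule G of rank n ≥ 1, invariant or not. (The published statement deletes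
one degree-zero twisting map from a tuple of finitely many commuting ones; this is the case of a
single map.) -/
theorem result
    (X : Scheme.{0}) [X.Over (Spec (CommRingCat.of ℂ))] [IsIntegral X]
    [IsProper (X ↘ Spec (CommRingCat.of ℂ))] [Smooth (X ↘ Spec (CommRingCat.of ℂ))]
    (hdim : topologicalKrullDim X = 1)
    (L : X.Modules) (hL : PicF.IsInvertible L) (hL0 : Curv2.deg ℂ X L 1 = 0)
    (r : ℕ) (hr : 0 < r) (E : X.Modules) (hE : FlatMod.IsFinLocFreeOfRank r E)
    (φ : E ⟶ CohB1.tensorMod E L)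
    (hss : (∀ (G : X.Modules) (n : ℕ) (j : G ⟶ E) (χ : G ⟶ CohB1.tensorMod G L), Mono j → 0 < n →
      FlatMod.IsFinLocFreeOfRank n G →
      χ ≫ (CohB1.sheafifyMod X).map (MonoidalCategoryStruct.whiskerRight (C := CohB1.PMod X) j.val (CohB1.toPMod L)) = j ≫ φ →
      Curv2.deg ℂ X G n * (r : ℤ) ≤ Curv2.deg ℂ X E r * (n : ℤ))) :
    ∀ (G : X.Modules) (n : ℕ) (j : G ⟶ E), Mono j → 0 < n → FlatMod.IsFinLocFreeOfRank n G →
      Curv2.deg ℂ X G n * (r : ℤ) ≤ Curv2.deg ℂ X E r * (n : ℤ) := by
  have hX := VB17.regCurve' (k := ℂ) (X := X) hdim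
  haveI := hX.like.noetherian
  obtain ⟨E₁, r₁, i₁, hi₁, hr₁, hE₁, hmax, hrank, hss₁⟩ := exists_max_slope hX hr hE
  haveI := hi₁
  have hfree : FlatMod.IsFinLocFree (cokernel i₁) := isFinLocFree_cokernel hX hE hE₁ i₁ fun P j hj hP =>
    le_of_mul_le_mul_right (hmax P r₁ j hj hr₁ hP) (by exact_mod_cast hr₁)
  obtain ⟨s, hQ⟩ := exists_rank_of_isFinLocFree hfree
  obtain ⟨L', hL', ⟨e⟩⟩ := exists_inverse hL
  have hdL' : Curv2.deg ℂ X L' 1 = 0 := by rw [hX.like.deg_of_tensor_iso hL hL' e, hL0]; simp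
  have hQL : FlatMod.IsFinLocFreeOfRank s (CohB1.tensorMod (cokernel i₁) L) := by
    simpa using isFinLocFreeOfRank_tensor hQ ((isInvertible_iff_isFinLocFreeOfRank_one L).1 hL)
  let S : ShortComplex X.Modules := ShortComplex.mk i₁ (cokernel.π i₁) (cokernel.condition i₁)
  have hS : S.ShortExact := { exact := ShortComplex.exact_of_g_is_cokernel _ (cokernelIsCokernel i₁) }
  have hz : i₁ ≫ φ ≫ tensorMap (cokernel.π i₁) (𝟙 L) = 0 := by
    refine hom_eq_zero_of_forall_lt hX hE₁ hQL hss₁ (fun G n j hj hn hG => ?_) _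
    haveI := hj
    haveI := mono_tensorMap j hL'
    have hG' : FlatMod.IsFinLocFreeOfRank n (CohB1.tensorMod G L') := by
      simpa using isFinLocFreeOfRank_tensor hG ((isInvertible_iff_isFinLocFreeOfRank_one L').1 hL')
    obtain ⟨P, l, hl, hP, hdP⟩ := exists_preimage hX hE hE₁ i₁ hG'
      (tensorMap j (𝟙 L') ≫ (untwist e (cokernel i₁)).hom)
    have hdG' : Curv2.deg ℂ X (CohB1.tensorMod G L') n = Curv2.deg ℂ X G n := by
      have := hX.like.deg_tensor hG ((isInvertible_iff_isFinLocFreeOfRank_one L').1 hL')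
      simpa [hdL'] using this
    have h1 := hmax P (r₁ + n) l hl (by omega) hP
    rcases h1.lt_or_eq with h | h
    · rw [hdP, hdG'] at h
      push_cast at h
      linarith
    · exact absurd (hrank P (r₁ + n) l hl (by omega) hP h) (by omega)
  have hST := shortExact_tensorR hS L (flat_stalk hL)
  have hzero : (i₁ ≫ φ) ≫ (S.map (tensorR L)).g = 0 := by rw [Category.assoc]; exact hz
  haveI := hST.mono_f
  have key : Curv2.deg ℂ X E₁ r₁ * (r : ℤ) ≤ Curv2.deg ℂ X E r * (r₁ : ℤ) :=
    hss E₁ r₁ i₁ (hST.exact.lift (i₁ ≫ φ) hzero) hi₁ hr₁ hE₁ (by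
      exact (congrArg (hST.exact.lift (i₁ ≫ φ) hzero ≫ ·) (whisker_eq_tensorMap i₁ L)).trans
        (hST.exact.lift_f _ hzero))
  intro G n j hj hn hG
  refine le_of_mul_le_mul_right ?_ (show (0 : ℤ) < r₁ by exact_mod_cast hr₁)
  have h1 := mul_le_mul_of_nonneg_right (hmax G n j hj hn hG) (show (0 : ℤ) ≤ r by positivity)
  have h2 := mul_le_mul_of_nonneg_right key (show (0 : ℤ) ≤ n by positivity)
  linarith


end Groth.Agent.S16004
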