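import Groth.Statements.S16005
import Groth.Agent.Lib.VB17.PairSat
-- import your own Groth.Agent.* helpers here

set_option autoImplicit false
open CategoryTheory AlgebraicGeometry CategoryTheory.Limits
open VBCurve

open Groth.Agent.M1 Groth.Agent.M2 Groth.Agent.CurveCoh17 Groth.Agent.VB17

namespace Groth.Agent.S16005

/-- Let X be a smooth proper integral curve over the complex numbers and L an invertible O_X-module; an
L-valued pair is a finite locally free O_X-module E of rank r ≥ 1 with a map φ : E → E ⊗ L; a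
submodule j : G → E (a monomorphism) is φ-invariant when some χ : G → G ⊗ L followed by j ⊗ L equals
j followed by φ; the pair is semistable when deg G · r ≤ deg E · n for every φ-invariant finite
locally free submodule G of rank n ≥ 1, degrees being χ − rank · χ(O_X). Let (E, φ) be a pair and ψ
: E → E an endomorphism commuting with φ (ψ followed by φ equals φ followed by ψ ⊗ L); a submodule
is ψ-invariant when ψ restricts to an endomorphism of it. Then (E, φ, ψ) is semistable, meaning deg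
G · r ≤ deg E · n for every finite locally free submodule G of rank n ≥ 1 that is both φ-invariant
and ψ-invariant, if and only if the pair (E, φ) is semistable. (The published statement takes L to
be the canonical sheaf; the row allows any invertible L.) -/
theorem result
    (X : Scheme.{0}) [X.Over (Spec (CommRingCat.of ℂ))] [IsIntegral X]
    [IsProper (X ↘ Spec (CommRingCat.of ℂ))] [Smooth (X ↘ Spec (CommRingCat.of ℂ))]
    (hdim : topologicalKrullDim X = 1)
    (L : X.Modules) (hL : PicF.IsInvertible L)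
    (r : ℕ) (hr : 0 < r) (E : X.Modules) (hE : FlatMod.IsFinLocFreeOfRank r E)
    (φ : E ⟶ CohB1.tensorMod E L) (ψ : E ⟶ E)
    (hcomm : ψ ≫ φ = φ ≫ (CohB1.sheafifyMod X).map (MonoidalCategoryStruct.whiskerRight (C := CohB1.PMod X) ψ.val (CohB1.toPMod L))) :
    (∀ (G : X.Modules) (n : ℕ) (j : G ⟶ E) (χ : G ⟶ CohB1.tensorMod G L) (ψ' : G ⟶ G), Mono j → 0 < n →
      FlatMod.IsFinLocFreeOfRank n G →
      χ ≫ (CohB1.sheafifyMod X).map (MonoidalCategoryStruct.whiskerRight (C := CohB1.PMod X) j.val (CohB1.toPMod L)) = j ≫ φ → ψ' ≫ j = j ≫ ψ →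
      Curv2.deg ℂ X G n * (r : ℤ) ≤ Curv2.deg ℂ X E r * (n : ℤ)) ↔
    (∀ (G : X.Modules) (n : ℕ) (j : G ⟶ E) (χ : G ⟶ CohB1.tensorMod G L), Mono j → 0 < n →
      FlatMod.IsFinLocFreeOfRank n G →
      χ ≫ (CohB1.sheafifyMod X).map (MonoidalCategoryStruct.whiskerRight (C := CohB1.PMod X) j.val (CohB1.toPMod L)) = j ≫ φ →
      Curv2.deg ℂ X G n * (r : ℤ) ≤ Curv2.deg ℂ X E r * (n : ℤ)) := by
  simp only [whisker_eq_tensorMap] at hcomm ⊢
  refine ⟨fun h => ?_, fun h G n j χ _ hj hn hG hχ _ => h G n j χ hj hn hG hχ⟩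
  have hX := VB17.regCurve' (k := ℂ) (X := X) hdim
  haveI := hX.like.noetherian
  haveI := hX.integral
  obtain ⟨E₁, r₁, i₁, hi₁, hr₁, hE₁, ⟨χ₁, hχ₁⟩, hmax, hrank⟩ := exists_max_inv hX hr hE φ
  haveI := hi₁
  -- the maximal invariant submodule is saturated
  obtain ⟨P, jP, u, hjP, hP, hu, hco, hd1, hiso⟩ := exists_saturation hX hE hE₁ i₁
  haveI := hjP
  haveI : Mono (u ≫ jP) := hu ▸ inferInstance
  haveI : Mono u := mono_of_mono u jP
  have hPi : Inv φ jP := inv_saturation hX hL hE hE₁ hP hco ⟨χ₁, hu.symm ▸ hχ₁⟩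
  have hdP : Curv2.deg ℂ X P r₁ ≤ Curv2.deg ℂ X E₁ r₁ :=
    le_of_mul_le_mul_right (hmax P r₁ jP hjP hr₁ hP hPi) (by exact_mod_cast hr₁)
  have hdE : Curv2.deg ℂ X P r₁ = Curv2.deg ℂ X E₁ r₁ := le_antisymm hdP hd1
  obtain ⟨χ, hχ⟩ := hPi
  obtain ⟨φ', hφ'⟩ := exists_quotient (φ := φ) (i := jP) ⟨χ, hχ⟩
  obtain ⟨s, hQ⟩ := exists_rank_of_isFinLocFree hco
  let f : P ⟶ cokernel jP := jP ≫ ψ ≫ cokernel.π jP
  have hcomp : ∀ {A B C : X.Modules} (a : A ⟶ B) (b : B ⟶ C),
      tensorMap (a ≫ b) (𝟙 L) = tensorMap a (𝟙 L) ≫ tensorMap b (𝟙 L) := fun a b => (tensorR L).map_comp a b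
  have hf : f ≫ φ' = χ ≫ tensorMap f (𝟙 L) := by
    show (jP ≫ ψ ≫ cokernel.π jP) ≫ φ' = χ ≫ tensorMap (jP ≫ ψ ≫ cokernel.π jP) (𝟙 L)
    have hcomm' : ψ ≫ φ = φ ≫ tensorMap ψ (𝟙 L) := hcomm.trans (congrArg (φ ≫ ·) (whisker_eq_tensorMap ψ L))
    calc (jP ≫ ψ ≫ cokernel.π jP) ≫ φ'
        = jP ≫ ψ ≫ φ ≫ tensorMap (cokernel.π jP) (𝟙 L) := by rw [Category.assoc, Category.assoc, hφ']
      _ = jP ≫ (φ ≫ tensorMap ψ (𝟙 L)) ≫ tensorMap (cokernel.π jP) (𝟙 L) := by rw [← hcomm', Category.assoc]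
      _ = (χ ≫ tensorMap jP (𝟙 L)) ≫ tensorMap ψ (𝟙 L) ≫ tensorMap (cokernel.π jP) (𝟙 L) := by
        rw [hχ, Category.assoc, Category.assoc]
      _ = χ ≫ tensorMap (jP ≫ ψ ≫ cokernel.π jP) (𝟙 L) := by rw [hcomp, hcomp, Category.assoc]
  obtain ⟨hK, hI⟩ := kernel_image_invariant hL χ φ' f hf
  have hz : f = 0 := by
    by_contra hne
    have hrr : r₁ ≤ r := rank_le_of_mono hX hE hP jP
    have key := slope_le_of_bounds hX f hne hP hQ ((r₁ : ℤ) * r) (Curv2.deg ℂ X P r₁ * r - 1)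
      (fun n hn hKn => by
        have h' := hmax _ n (kernel.ι f ≫ jP) (mono_comp _ _) hn hKn (inv_comp hχ hK)
        rwa [← hdE] at h')
      (fun n hn hIn => by
        obtain ⟨h1, h2⟩ := preimage_data hX hE hP jP hIn (Abelian.image.ι f)
        have hinv := inv_preimage hL (φ' := φ') (cokernel.π jP) hφ' hI
        have hlt : Curv2.deg ℂ X (Abelian.image f) n * (r₁ : ℤ) < Curv2.deg ℂ X P r₁ * (n : ℤ) := by
          rcases (hmax _ (r₁ + n) _ inferInstance (by omega) h1 hinv).lt_or_eq with h' | h'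
          · rw [h2, ← hdE] at h'
            push_cast at h'
            linarith
          · exact absurd (hrank _ (r₁ + n) _ inferInstance (by omega) h1 hinv h') (by omega)
        have hnr : n ≤ r := le_of_add_le_right (rank_le_of_mono hX hE h1 (pullback.fst (cokernel.π jP) (Abelian.image.ι f)))
        have h3 : Curv2.deg ℂ X (Abelian.image f) n * (r₁ : ℤ) + 1 ≤ Curv2.deg ℂ X P r₁ * (n : ℤ) := hlt
        have h4 : (n : ℤ) ≤ r := by exact_mod_cast hnr
        have h5 := mul_le_mul_of_nonneg_right h3 (show (0 : ℤ) ≤ r by positivity)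
        linarith)
      (by positivity)
    have hr1' : (0 : ℤ) < r₁ := by exact_mod_cast hr₁
    linarith
  let S : ShortComplex X.Modules := ShortComplex.mk jP (cokernel.π jP) (cokernel.condition jP)
  have hex : S.Exact := ShortComplex.exact_of_g_is_cokernel S (cokernelIsCokernel jP)
  have hzero : (jP ≫ ψ) ≫ cokernel.π jP = 0 := by rw [Category.assoc]; exact hz
  have key := h P r₁ jP χ (hex.lift _ hzero) hjP hr₁ hP hχ (hex.lift_f _ hzero)
  rw [hdE] at key
  intro G n j χG hj hn hG hχG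
  refine le_of_mul_le_mul_right ?_ (show (0 : ℤ) < r₁ by exact_mod_cast hr₁)
  have h1 := mul_le_mul_of_nonneg_right (hmax G n j hj hn hG ⟨χG, hχG⟩) (show (0 : ℤ) ≤ r by positivity)
  have h2 := mul_le_mul_of_nonneg_right key (show (0 : ℤ) ≤ n by positivity)
  linarith

end Groth.Agent.S16005
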