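import Groth.Statements.S16006
-- import your own Groth.Agent.* helpers here
import Groth.Agent.Lib.VB17.GenusOne
import Groth.Agent.Lib.VB17.Pair
import Groth.Agent.Lib.VB17.SmoothDuality

set_option autoImplicit false
open CategoryTheory AlgebraicGeometry CategoryTheory.Limits
open VBCurve

namespace Groth.Agent.S16006

/-- Let X be a smooth proper integral curve of genus 1 over the complex numbers (genus = dim H¹(O_X))
and L an invertible O_X-module of degree 0 such that L ⊗ L is not isomorphic to O_X; an L-valued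
pair is a finite locally free O_X-module E of rank r ≥ 1 with a map φ : E → E ⊗ L; a submodule j : G
→ E (a monomorphism) is φ-invariant when some χ : G → G ⊗ L followed by j ⊗ L equals j followed by
φ; the pair is semistable when deg G · r ≤ deg E · n for every φ-invariant finite locally free
submodule G of rank n ≥ 1, degrees being χ − rank · χ(O_X), and it is stable when deg G · r < deg E
· n for every φ-invariant finite locally free submodule G of rank n with 1 ≤ n < r. If (E, φ) is a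
stable pair of rank 2, then E is slope-stable as a module of rank 2: deg G · 2 < deg E · n for every
finite locally free submodule G of rank n with 1 ≤ n < 2, φ-invariant or not. (The published
statement assumes only that L is not isomorphic to O_X. For L of order two and E = O_X ⊕ L, the
isomorphism φ : E → E ⊗ L = (O_X ⊗ L) ⊕ (L ⊗ L) that maps the summand O_X of E onto the summand L ⊗
L ≅ O_X and the summand L onto O_X ⊗ L ≅ L leaves no rank-one submodule of degree 0 invariant, so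
(E, φ) is a stable pair while E is not stable; the published argument derives L ⊗ L ≅ O_X in the
split case, so the row assumes L ⊗ L ≄ O_X.) -/
theorem result
    (X : Scheme.{0}) [X.Over (Spec (CommRingCat.of ℂ))] [IsIntegral X]
    [IsProper (X ↘ Spec (CommRingCat.of ℂ))] [Smooth (X ↘ Spec (CommRingCat.of ℂ))]
    (hdim : topologicalKrullDim X = 1)
    (hg : Curv2.genus ℂ X = 1)
    (L : X.Modules) (hL : PicF.IsInvertible L) (hL0 : Curv2.deg ℂ X L 1 = 0)
    (hL2 : ¬ Nonempty (CohB1.tensorMod L L ≅ Coh.structureModule X))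
    (E : X.Modules) (hE : FlatMod.IsFinLocFreeOfRank 2 E)
    (φ : E ⟶ CohB1.tensorMod E L)
    (hst : (∀ (G : X.Modules) (n : ℕ) (j : G ⟶ E) (χ : G ⟶ CohB1.tensorMod G L), Mono j → 0 < n → n < 2 →
      FlatMod.IsFinLocFreeOfRank n G →
      χ ≫ (CohB1.sheafifyMod X).map (MonoidalCategoryStruct.whiskerRight (C := CohB1.PMod X) j.val (CohB1.toPMod L)) = j ≫ φ →
      Curv2.deg ℂ X G n * (2 : ℤ) < Curv2.deg ℂ X E 2 * (n : ℤ))) :
    ∀ (G : X.Modules) (n : ℕ) (j : G ⟶ E), Mono j → 0 < n → n < 2 → FlatMod.IsFinLocFreeOfRank n G →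
      Curv2.deg ℂ X G n * (2 : ℤ) < Curv2.deg ℂ X E 2 * (n : ℤ) := by
  obtain ⟨hX, h0, hbig⟩ := Groth.Agent.VB17.setup (k := ℂ) (X := X) hdim
  haveI := hX.like.noetherian
  have hC := hX.like
  have hL1 := (Groth.Agent.M2.isInvertible_iff_isFinLocFreeOfRank_one L).1 hL
  have step : ∀ (S : ShortComplex X.Modules), S.ShortExact → ∀ (f : S.X₁ ⟶ E) (g : E ⟶ S.X₃),
      S.X₂ = E → (Mono f) → (f ≫ g = 0) →
      (∀ {A : X.Modules} (a : A ⟶ CohB1.tensorMod E L),
        a ≫ Groth.Agent.M2.tensorMap g (𝟙 L) = 0 → ∃ b, b ≫ Groth.Agent.M2.tensorMap f (𝟙 L) = a) →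
      PicF.IsInvertible S.X₁ → PicF.IsInvertible S.X₃ →
      Curv2.deg ℂ X E 2 = Curv2.deg ℂ X S.X₁ 1 + Curv2.deg ℂ X S.X₃ 1 →
      Curv2.deg ℂ X E 2 ≤ 2 * Curv2.deg ℂ X S.X₁ 1 →
      Curv2.deg ℂ X S.X₁ 1 = Curv2.deg ℂ X S.X₃ 1 ∧ Nonempty (S.X₁ ≅ CohB1.tensorMod S.X₃ L) := by
    intro S _ f g _ hf _ hex h1 h3 hd hle
    have h11 := (Groth.Agent.M2.isInvertible_iff_isFinLocFreeOfRank_one _).1 h1
    have hT := Groth.Agent.M2.isInvertible_tensor h3 hL
    have hT1 := (Groth.Agent.M2.isInvertible_iff_isFinLocFreeOfRank_one _).1 hT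
    by_cases hz : f ≫ φ ≫ Groth.Agent.M2.tensorMap g (𝟙 L) = 0
    · exfalso
      obtain ⟨χ, hχ⟩ := hex (f ≫ φ) (by rw [Category.assoc]; exact hz)
      have := hst S.X₁ 1 f χ hf one_pos (by norm_num) h11 (by
        exact (congrArg (χ ≫ ·) (Groth.Agent.VB17.whisker_eq_tensorMap f L)).trans hχ)
      push_cast at this
      omega
    · have hdT : Curv2.deg ℂ X (CohB1.tensorMod S.X₃ L) 1 = Curv2.deg ℂ X S.X₃ 1 := by
        rw [hC.deg_tensor_invertible h3 hL, hL0, add_zero]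
      haveI := Groth.Agent.VB17.mono_of_ne_zero (k := ℂ) hX h1 hT _ hz
      have hle' := Groth.Agent.VB17.deg_le_of_mono hC h11 hT1 (f ≫ φ ≫ Groth.Agent.M2.tensorMap g (𝟙 L))
      rw [hdT] at hle'
      have heq : Curv2.deg ℂ X S.X₁ 1 = Curv2.deg ℂ X S.X₃ 1 := by have := hle'.1; omega
      haveI := hle'.2 heq
      exact ⟨heq, ⟨asIso (f ≫ φ ≫ Groth.Agent.M2.tensorMap g (𝟙 L))⟩⟩
  intro G n j hj hn hn2 hG
  obtain rfl : n = 1 := by omega
  by_contra hlt
  push Not at hlt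
  push_cast at hlt
  haveI := hj
  obtain ⟨M, i, hi, hM, hQ, hle, hd⟩ := Groth.Agent.VB17.exists_max_line hX hE
    ((Groth.Agent.M2.isInvertible_iff_isFinLocFreeOfRank_one G).2 hG) j
  haveI := hi
  let S : ShortComplex X.Modules := ShortComplex.mk i (cokernel.π i) (cokernel.condition i)
  have hS : S.ShortExact := { exact := S.exact_of_g_is_cokernel (cokernelIsCokernel i) }
  have hSL := Groth.Agent.CurveCoh17.shortExact_tensorR hS L (Groth.Agent.VB17.flat_stalk hL)
  obtain ⟨heq, ⟨e₁⟩⟩ := step S hS i (cokernel.π i) rfl hi S.zero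
    (fun a ha => haveI := hSL.mono_f; ⟨hSL.exact.lift a ha, hSL.exact.lift_f a ha⟩)
    hM hQ hd (by show _ ≤ 2 * Curv2.deg ℂ X M 1; omega)
  change Curv2.deg ℂ X M 1 = Curv2.deg ℂ X (cokernel i) 1 at heq
  haveI hsp : IsSplitEpi S.g := by
    by_contra hns
    have h := (Groth.Agent.VB17.nonsplit_bound hC h0 hS hM hQ hns).2 fun ψ => by
      by_contra hψ
      haveI := Groth.Agent.VB17.mono_of_ne_zero (k := ℂ) hX hQ hM ψ hψ
      haveI := (Groth.Agent.VB17.deg_le_of_mono hC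
        ((Groth.Agent.M2.isInvertible_iff_isFinLocFreeOfRank_one _).1 hQ)
        ((Groth.Agent.M2.isInvertible_iff_isFinLocFreeOfRank_one _).1 hM) ψ).2 heq.symm
      obtain ⟨Q', hQ', ⟨eQ⟩⟩ := Groth.Agent.M2.exists_inverse hQ
      let e : CohB1.tensorMod (cokernel i) L ≅ cokernel i := e₁.symm ≪≫ (asIso ψ).symm
      let eL : L ≅ Coh.structureModule X :=
        (Groth.Agent.M2.tensorLUnit L).symm ≪≫
          Groth.Agent.M2.tensorIso (eQ.symm ≪≫ Groth.Agent.M2.tensorComm _ _) (Iso.refl L) ≪≫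
          Groth.Agent.M2.tensorAssoc Q' (cokernel i) L ≪≫
          Groth.Agent.M2.tensorIso (Iso.refl Q') e ≪≫ Groth.Agent.M2.tensorComm _ _ ≪≫ eQ
      exact hL2 ⟨Groth.Agent.M2.tensorIso eL eL ≪≫ Groth.Agent.M2.tensorLUnit _⟩
    change Curv2.deg ℂ X M 1 - Curv2.deg ℂ X (cokernel i) 1 ≤ _ at h
    rw [hg] at h
    omega
  let sp := ShortComplex.Splitting.ofExactOfSection S hS.exact (section_ S.g) (IsSplitEpi.id S.g) hi
  let sp' : (ShortComplex.mk sp.s sp.r sp.s_r).Splitting :=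
    { r := S.g
      s := S.f
      f_r := sp.s_g
      s_g := sp.f_r
      id := by rw [add_comm]; exact sp.id }
  have hSL' := Groth.Agent.CurveCoh17.shortExact_tensorR sp'.shortExact L (Groth.Agent.VB17.flat_stalk hL)
  haveI hms : Mono sp.s := sp'.shortExact.mono_f
  obtain ⟨-, ⟨e₂⟩⟩ := step (ShortComplex.mk sp.s sp.r sp.s_r) sp'.shortExact sp.s sp.r rfl hms sp.s_r
    (fun a ha => haveI := hSL'.mono_f; ⟨hSL'.exact.lift a ha, hSL'.exact.lift_f a ha⟩)
    hQ hM (by show _ = Curv2.deg ℂ X (cokernel i) 1 + Curv2.deg ℂ X M 1; omega)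
    (by show _ ≤ 2 * Curv2.deg ℂ X (cokernel i) 1; omega)
  let e₃ : cokernel i ≅ CohB1.tensorMod (cokernel i) (CohB1.tensorMod L L) :=
    e₂ ≪≫ Groth.Agent.M2.tensorIso e₁ (Iso.refl L) ≪≫ Groth.Agent.M2.tensorAssoc (cokernel i) L L
  obtain ⟨Q', -, ⟨eQ⟩⟩ := Groth.Agent.M2.exists_inverse hQ
  exact hL2 ⟨(Groth.Agent.M2.tensorLUnit _).symm ≪≫
    Groth.Agent.M2.tensorIso (eQ.symm ≪≫ Groth.Agent.M2.tensorComm _ _) (Iso.refl _) ≪≫
    Groth.Agent.M2.tensorAssoc Q' (cokernel i) _ ≪≫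
    Groth.Agent.M2.tensorIso (Iso.refl Q') e₃.symm ≪≫ Groth.Agent.M2.tensorComm _ _ ≪≫ eQ⟩

end Groth.Agent.S16006
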