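import Groth.Statements.S16009
import Groth.Agent.Lib.TrivEnd11.Basic
import Groth.Agent.Lib.TrivEnd11.P1
import Groth.Agent.Lib.LMEuler8.HomSheaf

set_option autoImplicit false
open CategoryTheory AlgebraicGeometry CategoryTheory.Limits
open VBPn

namespace Groth.Agent.S16009

/-- Let X be a proper integral scheme over the complex numbers such that, for every n, a finite locally
free O_X-module of rank n whose pull-back along every morphism of complex schemes from the
projective line to X is free of rank n is itself free of rank n. Let E be finite locally free of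
rank r ≥ 1 such that its pull-back along every such morphism from the projective line is
slope-semistable of rank r (degrees on the line being χ − rank · χ(O)). Then E is isomorphic to the
direct sum of r copies of one invertible module L. (The published statement assumes X rationally
connected and takes the triviality criterion for bundles trivial on all rational curves from the
literature; the row carries that criterion as the hypothesis on X instead, and asks X to be proper
rather than projective, since the argument uses only that the global functions of X are the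
constants.) -/
theorem result
    (X : Scheme.{0}) [X.Over (Spec (CommRingCat.of ℂ))] [IsIntegral X]
    [IsProper (X ↘ Spec (CommRingCat.of ℂ))]
    (htriv : ∀ (n : ℕ) (F : X.Modules), FlatMod.IsFinLocFreeOfRank n F →
      (∀ (f : CohB1.ProjSpace 1 ℂ ⟶ X), f ≫ (X ↘ Spec (CommRingCat.of ℂ)) = CohB1.ProjSpace.toSpec 1 ℂ →
        Nonempty ((Scheme.Modules.pullback f).obj F ≅ FlatMod.freeMod (CohB1.ProjSpace 1 ℂ) n)) →
      Nonempty (F ≅ FlatMod.freeMod X n))
    (r : ℕ) (hr : 0 < r) (E : X.Modules) (hE : FlatMod.IsFinLocFreeOfRank r E)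
    (hss : ∀ (f : CohB1.ProjSpace 1 ℂ ⟶ X), f ≫ (X ↘ Spec (CommRingCat.of ℂ)) = CohB1.ProjSpace.toSpec 1 ℂ →
      ModFun.IsSlopeSemistable ℂ (CohB1.ProjSpace 1 ℂ) ((Scheme.Modules.pullback f).obj E) r) :
    ∃ L : X.Modules, PicF.IsInvertible L ∧ Nonempty (E ≅ ∐ fun _ : Fin r => L) := by
  classical
  haveI : IsNoetherian X := CohFound.isNoetherian_of_isProper (X ↘ Spec (CommRingCat.of ℂ))
  obtain ⟨x, -, hx⟩ := IsClosed.exists_closed_singleton (X := X) isClosed_univ Set.univ_nonempty
  let p := X ↘ Spec (CommRingCat.of ℂ)
  let σ := pointOfClosedPoint p x hx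
  have hσ : σ (IsLocalRing.closedPoint ℂ) = x := pointOfClosedPoint_apply p x hx _
  have hΓ : Function.Bijective (TrivEnd11.ev₀ x) := by
    refine ⟨?_, ?_⟩
    · letI := (isField_of_universallyClosed ℂ p).toField
      exact RingHom.injective _
    · intro v
      have h := GrpField.bijective_residue_of_section p σ (pointOfClosedPoint_comp p x hx)
      rw [hσ] at h
      obtain ⟨c, hc⟩ := h.2 v
      exact ⟨p.appTop ((Scheme.ΓSpecIso (CommRingCat.of ℂ)).inv c), hc⟩
  have hEf := M2.isFinLocFree_of_ofRank hE
  obtain ⟨eh⟩ := LMEuler8.nonempty_homSh_iso hEf E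
  let F := CohB1.tensorMod E (CohMop.dual E)
  have hF : FlatMod.IsFinLocFreeOfRank (r * r) F :=
    M2.isFinLocFreeOfRank_tensor hE (TrivEnd11.rank_dual hE)
  obtain ⟨θ⟩ := htriv (r * r) F hF fun f hf => by
    haveI : IsNoetherian (CohB1.ProjSpace 1 ℂ) := by
      haveI := ProjSpace.isProper_toSpec 1 ℂ
      exact CohFound.isNoetherian_of_isProper (CohB1.ProjSpace.toSpec 1 ℂ)
    obtain ⟨a, ⟨g⟩⟩ := TrivEnd11.exists_const_of_semistable
      (M2.isFinLocFreeOfRank_pullback f hE) hr (hss f hf)
    obtain ⟨d⟩ := TrivEnd11.nonempty_pullback_dual f hEf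
    obtain ⟨T⟩ := TrivEnd11.nonempty_end_free g
    exact ⟨M2.pullTensorIso f E (CohMop.dual E) ≪≫ M2.tensorIso (Iso.refl _) d ≪≫ T⟩
  exact TrivEnd11.exists_power (n := r * r) p hΓ hE hr (eh ≪≫ θ)

end Groth.Agent.S16009
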