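import Groth.Statements.S1601
import Mathlib

set_option autoImplicit false
universe u
open Resolve

namespace Groth.Agent.S1601


section Aux
open Polynomial

variable {κ : Type u} [Field κ]

/-- The affine key lemma -/
theorem keyA (M : Ideal κ[X][X]) [M.IsMaximal] (hnr : ∀ r : κ, C (X - C r) ∉ M) (a b c d e f : κ)
    (hq : C (C a + C b * X + C d * X ^ 2) + C (C c + C e * X) * X + C (C f) * X ^ 2 ∈ M ^ 2) :
    ∃ g h : κ, C (C a + C b * X + C d * X ^ 2) + C (C c + C e * X) * X + C (C f) * X ^ 2 =
      C (C f) * ((X : κ[X][X]) - C (C g + C h * X)) ^ 2 := by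
  classical
  set Q : κ[X][X] := C (C a + C b * X + C d * X ^ 2) + C (C c + C e * X) * X + C (C f) * X ^ 2 with hQ
  let G : Ideal κ[X] := M.comap (C : κ[X] →+* κ[X][X])
  haveI hG : G.IsMaximal := Polynomial.isMaximal_comap_C_of_isJacobsonRing M
  obtain ⟨g₀, hg₀⟩ := (IsPrincipalIdealRing.principal G).principal
  have hg₀' : G = Ideal.span {g₀} := hg₀
  have hg₀0 : g₀ ≠ 0 := by
    rintro rfl
    rw [Ideal.span_singleton_eq_bot.2 rfl] at hg₀'
    exact Polynomial.not_isField κ (Ideal.Quotient.maximal_ideal_iff_isField_quotient _ |>.1 hG |> fun hf => by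
      rw [hg₀'] at hf
      exact (RingEquiv.quotientBot κ[X]).symm.toMulEquiv.isField hf)
  let g : κ[X] := g₀ * C g₀.leadingCoeff⁻¹
  have hgm : g.Monic := Polynomial.monic_mul_leadingCoeff_inv hg₀0
  have hgG : G = Ideal.span {g} := by
    rw [hg₀', Ideal.span_singleton_mul_right_unit]
    exact Polynomial.isUnit_C.2 (Ne.isUnit (inv_ne_zero (leadingCoeff_ne_zero.2 hg₀0)))
  have hgM : C g ∈ M := (hgG ▸ Ideal.mem_span_singleton_self g : g ∈ G)
  have hs2 : 2 ≤ g.natDegree := by
    by_contra hlt
    push Not at hlt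
    by_cases h0 : g.natDegree = 0
    · apply hG.ne_top
      rw [hgG, hgm.natDegree_eq_zero.1 h0, Ideal.span_singleton_one]
    · obtain ⟨r, hr⟩ : ∃ r, g = X - C r := ⟨-g.coeff 0, by
        rw [map_neg, sub_neg_eq_add]
        exact hgm.eq_X_add_C (by omega)⟩
      exact hnr r (hr ▸ hgM)
  haveI : (Ideal.span {g}).IsMaximal := hgG ▸ hG
  letI : Field (κ[X] ⧸ Ideal.span {g}) := Ideal.Quotient.field _
  let π : κ[X][X] →+* (κ[X] ⧸ Ideal.span {g})[X] := mapRingHom (Ideal.Quotient.mk _)
  have hπ : Function.Surjective π := Polynomial.map_surjective _ Ideal.Quotient.mk_surjective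
  have hker : ∀ x, π x = 0 ↔ C g ∣ x := by
    intro x
    rw [Polynomial.C_dvd_iff_dvd_coeff, Polynomial.ext_iff]
    refine forall_congr' fun i => ?_
    rw [coe_mapRingHom, coeff_map, coeff_zero, Ideal.Quotient.eq_zero_iff_mem, Ideal.mem_span_singleton]
  have hkM : RingHom.ker π ≤ M := fun x hx => by
    obtain ⟨y, rfl⟩ := (hker x).1 hx
    exact M.mul_mem_right _ hgM
  obtain ⟨hb, hhb⟩ := (IsPrincipalIdealRing.principal (M.map π)).principal
  have hhb' : M.map π = Ideal.span {hb} := hhb
  have hcm : (M.map π).comap π = M := by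
    rw [Ideal.comap_map_of_surjective π hπ, sup_eq_left]
    exact hkM
  have hhb0 : hb ≠ 0 := by
    rintro rfl
    rw [Ideal.span_singleton_eq_bot.2 rfl] at hhb'
    rw [hhb', ← RingHom.ker] at hcm
    haveI : (RingHom.ker π).IsMaximal := hcm ▸ inferInstance
    exact Polynomial.not_isField (κ[X] ⧸ Ideal.span {g}) ((RingHom.quotientKerEquivOfSurjective hπ).symm.toMulEquiv.isField
      ((Ideal.Quotient.maximal_ideal_iff_isField_quotient _).1 this))
  let hb' := hb * C hb.leadingCoeff⁻¹
  have hhbm : hb'.Monic := Polynomial.monic_mul_leadingCoeff_inv hhb0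
  have hspan : M.map π = Ideal.span {hb'} := by
    refine hhb'.trans (Ideal.span_singleton_mul_right_unit ?_ hb).symm
    exact Polynomial.isUnit_C.2 (Ne.isUnit (inv_ne_zero (leadingCoeff_ne_zero.2 hhb0)))
  obtain ⟨h, hh, hhdeg, hhm⟩ := Polynomial.lifts_and_degree_eq_and_monic
    (f := Ideal.Quotient.mk (Ideal.span {g})) (p := hb')
    ((Polynomial.mem_lifts _).2 (Polynomial.map_surjective _ Ideal.Quotient.mk_surjective _)) hhbm
  have hgen : ∀ k : κ[X][X], Monic k → π k = hb' → M ≤ Ideal.span {C g, k} := by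
    intro k _ hk x hx
    obtain ⟨y, hy⟩ := Ideal.mem_span_singleton.1 (hspan ▸ Ideal.mem_map_of_mem π hx)
    obtain ⟨y', rfl⟩ := hπ y
    obtain ⟨z, hz⟩ := (hker (x - k * y')).1 (by rw [map_sub, map_mul, hk, hy, sub_self])
    exact Ideal.mem_span_pair.2 ⟨z, y', by rw [sub_eq_iff_eq_add.1 hz]; ring⟩
  have hmemM : ∀ k : κ[X][X], π k = hb' → k ∈ M := fun k hk => by
    rw [← hcm, Ideal.mem_comap, hk, hspan]
    exact Ideal.mem_span_singleton_self _
  have hexp : ∀ k : κ[X][X], Monic k → π k = hb' → ∀ x ∈ M ^ 2,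
      ∃ A0 A1 A2, x = A0 * C g ^ 2 + A1 * (C g * k) + A2 * k ^ 2 := by
    intro k hkm hk x hx
    have h2 : x ∈ Ideal.span {C g, k} * Ideal.span {C g, k} := by
      exact pow_two (Ideal.span {C g, k} : Ideal κ[X][X]) ▸ Ideal.pow_right_mono (hgen k hkm hk) 2 hx
    refine Submodule.mul_induction_on h2 (fun u hu v hv => ?_) ?_
    · obtain ⟨u0, u1, rfl⟩ := Ideal.mem_span_pair.1 hu
      obtain ⟨v0, v1, rfl⟩ := Ideal.mem_span_pair.1 hv
      exact ⟨u0 * v0, u0 * v1 + u1 * v0, u1 * v1, by ring⟩
    · rintro u v ⟨A0, A1, A2, rfl⟩ ⟨B0, B1, B2, rfl⟩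
      exact ⟨A0 + B0, A1 + B1, A2 + B2, by ring⟩
  have hdvd0 : ∀ p : κ[X], g ∣ p → p.natDegree < g.natDegree → p = 0 := fun p hp hlt => by
    by_contra hne
    exact absurd (natDegree_le_of_dvd hp hne) (not_le.2 hlt)
  have hc1deg : (C c + C e * X : κ[X]).natDegree ≤ 1 := by compute_degree
  by_cases hr : 2 ≤ h.natDegree
  · have hπh : π h = hb' := by rw [coe_mapRingHom]; exact hh
    obtain ⟨A0, A1, A2, hA⟩ := hexp h hhm hπh Q hq
    have hπg : π (C g) = 0 := (hker _).2 dvd_rfl
    have hQd : Q.natDegree ≤ 2 := by rw [hQ]; compute_degree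
    have hπQ : π Q = 0 := by
      by_contra hne
      have hd : hb' ^ 2 ∣ π Q := ⟨π A2, by rw [hA]; simp only [map_add, map_mul, map_pow, hπg, hπh]; ring⟩
      have h1 := natDegree_le_of_dvd hd hne
      rw [natDegree_pow] at h1
      have h2 : (π Q).natDegree ≤ 2 := natDegree_map_le.trans hQd
      have h3 : hb'.natDegree = h.natDegree := by
        rw [natDegree, natDegree, hhdeg]
      omega
    have hco : ∀ i, g ∣ Q.coeff i := Polynomial.C_dvd_iff_dvd_coeff _ _ |>.1 ((hker _).1 hπQ)
    have hf0 : f = 0 := by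
      have h1 := hco 2
      simp only [hQ, coeff_add, coeff_C, coeff_C_mul_X_pow, coeff_C_mul_X] at h1
      norm_num at h1
      exact C_eq_zero.1 (hdvd0 _ h1 (by rw [natDegree_C]; omega))
    have hc1 : C c + C e * X = (0 : κ[X]) := by
      have h1 := hco 1
      simp only [hQ, coeff_add, coeff_C, coeff_C_mul_X_pow, coeff_C_mul_X] at h1
      norm_num at h1
      exact hdvd0 _ h1 (by omega)
    have hQc : Q = C (C a + C b * X + C d * X ^ 2) := by
      rw [hQ, hc1, hf0]; simp
    obtain ⟨t, ht⟩ : g ∣ C a + C b * X + C d * X ^ 2 := by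
      have h1 := hco 0
      rwa [hQc, coeff_C_zero] at h1
    have ht0 : t = 0 := by
      by_contra htne
      have hdeg : (C a + C b * X + C d * X ^ 2 : κ[X]).natDegree ≤ 2 := by compute_degree
      rw [ht, natDegree_mul hgm.ne_zero htne] at hdeg
      have htu : IsUnit (C t : κ[X][X]) := by
        rw [Polynomial.isUnit_C, Polynomial.isUnit_iff_degree_eq_zero, degree_eq_natDegree htne]
        norm_cast; omega
      obtain ⟨A2', hA2⟩ : C g ∣ A2 := by
        apply (hker A2).1
        have h1 : π Q = π A2 * hb' ^ 2 := by rw [hA]; simp only [map_add, map_mul, map_pow, hπg, hπh]; ring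
        rw [hπQ] at h1
        exact (mul_eq_zero.1 h1.symm).resolve_right (pow_ne_zero 2 hhbm.ne_zero)
      have h2 : C t = A0 * C g + A1 * h + A2' * h ^ 2 :=
        mul_left_cancel₀ (C_ne_zero.2 hgm.ne_zero) (by rw [← map_mul, ← ht, ← hQc, hA, hA2]; ring)
      apply Ideal.IsMaximal.ne_top (I := M) inferInstance
      refine Ideal.eq_top_of_isUnit_mem _ ?_ htu
      rw [h2]
      exact add_mem (add_mem (M.mul_mem_left _ hgM) (M.mul_mem_left _ (hmemM h hπh)))
        (M.mul_mem_left _ (Ideal.pow_mem_of_mem _ (hmemM h hπh) 2 two_pos))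
    refine ⟨0, 0, ?_⟩
    rw [hQc, ht, ht0, hf0]
    simp
  · have hne1 : h.natDegree ≠ 0 := by
      intro h0
      have : h = 1 := hhm.natDegree_eq_zero.1 h0
      exact Ideal.IsMaximal.ne_top (I := M) inferInstance
        ((Ideal.eq_top_iff_one _).2 (this ▸ hmemM h (by rw [coe_mapRingHom]; exact hh)))
    have hh1 : h = X + C (h.coeff 0) := hhm.eq_X_add_C (by omega)
    let u : κ[X] := (-h.coeff 0) %ₘ g
    let k : κ[X][X] := X - C u
    have hkm : k.Monic := monic_X_sub_C u
    have hπk : π k = hb' := by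
      rw [← hh, hh1, ← coe_mapRingHom]
      show π (X - C u) = π (X + C (h.coeff 0))
      rw [map_sub, map_add, sub_eq_add_neg, add_right_inj, ← map_neg π, ← sub_eq_zero, ← map_sub, hker,
        ← map_neg, ← map_sub, Polynomial.C_dvd_iff_dvd_coeff]
      intro i
      rw [coeff_C]
      split_ifs
      · refine ⟨-h.coeff 0 /ₘ g, ?_⟩
        have := Polynomial.modByMonic_add_div (-h.coeff 0) g
        show -((-h.coeff 0) %ₘ g) - h.coeff 0 = _
        linear_combination -this
      · exact dvd_zero _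
    have hudeg : u.natDegree < g.natDegree :=
      natDegree_modByMonic_lt _ hgm (fun h1 => by simp [h1] at hs2)
    let c1 : κ[X] := C c + C e * X + 2 * C f * u
    let c0 : κ[X] := C a + C b * X + C d * X ^ 2 + (C c + C e * X) * u + C f * u ^ 2
    have hQk : Q = C (C f) * k ^ 2 + C c1 * k + C c0 := by
      simp only [hQ, k, c1, c0, map_add, map_mul, map_pow, map_ofNat]
      ring
    obtain ⟨A0, A1, A2, hA⟩ := hexp k hkm hπk Q hq
    have hev : ∀ p : κ[X], (C p).eval u = p := fun p => eval_C
    have hku : k.eval u = 0 := by simp [k]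
    have hc0 : g ^ 2 ∣ c0 := ⟨A0.eval u, by
      have h1 := congrArg (Polynomial.eval u) (hQk.symm.trans hA)
      simp only [eval_add, eval_mul, eval_pow, hku, hev] at h1
      linear_combination h1⟩
    have hc1 : g ∣ c1 := by
      obtain ⟨w, hw⟩ := hc0
      obtain ⟨A0', hA0⟩ : k ∣ A0 - C w := by
        rw [Polynomial.dvd_iff_isRoot, IsRoot.def, eval_sub, eval_C, sub_eq_zero]
        have h1 := congrArg (Polynomial.eval u) (hQk.symm.trans hA)
        simp only [eval_add, eval_mul, eval_pow, hku, hev] at h1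
        refine mul_left_cancel₀ (pow_ne_zero 2 hgm.ne_zero) ?_
        linear_combination -h1 + hw
      have h2 : C c1 + C (C f) * k = A0' * C g ^ 2 + A1 * C g + A2 * k := by
        refine mul_left_cancel₀ hkm.ne_zero ?_
        have := hQk.symm.trans hA
        rw [hw, map_mul, map_pow, sub_eq_iff_eq_add.1 hA0] at this
        linear_combination this
      refine ⟨A0'.eval u * g + A1.eval u, ?_⟩
      have h3 := congrArg (Polynomial.eval u) h2
      simp only [eval_add, eval_mul, eval_pow, hku, hev] at h3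
      linear_combination h3
    have hc1' : c1 = 0 := hdvd0 _ hc1 (by
      refine lt_of_le_of_lt (natDegree_add_le_of_degree_le (n := max 1 u.natDegree) (le_trans hc1deg (le_max_left _ _)) ?_) (max_lt (by omega) hudeg)
      refine le_trans ?_ (le_max_right _ _)
      refine le_trans natDegree_mul_le ?_
      have h2f : (2 * C f : κ[X]).natDegree = 0 := by rw [← map_ofNat C 2, ← map_mul, natDegree_C]
      omega)
    have hc0eq : c0 = C a + C b * X + C d * X ^ 2 - C f * u ^ 2 := by
      have : (C c + C e * X + 2 * C f * u) * u = 0 := by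
        show c1 * u = 0
        rw [hc1', zero_mul]
      simp only [c0]
      linear_combination this
    have hc0' : c0 = 0 := by
      by_contra hne
      have h1 := natDegree_le_of_dvd hc0 hne
      rw [natDegree_pow] at h1
      have h2 : c0.natDegree ≤ max 2 (2 * u.natDegree) := by
        rw [hc0eq]
        refine (natDegree_sub_le _ _).trans (max_le_max ?_ ?_)
        · compute_degree
        · refine (natDegree_C_mul_le _ _).trans ?_
          rw [natDegree_pow]
      omega
    have hQf : Q = C (C f) * k ^ 2 := by rw [hQk, hc1', hc0', map_zero, zero_mul, add_zero, add_zero]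
    by_cases hf : f = 0
    · exact ⟨0, 0, by rw [hQf, hf]; simp⟩
    have hu1 : u.natDegree ≤ 1 := by
      have h3 : C f * u ^ 2 = C a + C b * X + C d * X ^ 2 := by
        rw [hc0'] at hc0eq
        linear_combination hc0eq
      have h4 : (C f * u ^ 2).natDegree ≤ 2 := by rw [h3]; compute_degree
      rw [natDegree_C_mul hf, natDegree_pow] at h4
      omega
    refine ⟨u.coeff 0, u.coeff 1, ?_⟩
    rw [hQf, show C (u.coeff 0) + C (u.coeff 1) * X = u by rw [add_comm]; exact (eq_X_add_C_of_natDegree_le_one hu1).symm]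

local notation "R2" => MvPolynomial (Fin 2) κ

/-- quadric -/
noncomputable abbrev quad (a b c d e f : κ) : MvPolynomial (Fin 2) κ :=
  MvPolynomial.C a + MvPolynomial.C b * MvPolynomial.X 0 + MvPolynomial.C c * MvPolynomial.X 1 +
    MvPolynomial.C d * MvPolynomial.X 0 ^ 2 + MvPolynomial.C e * MvPolynomial.X 0 * MvPolynomial.X 1 +
    MvPolynomial.C f * MvPolynomial.X 1 ^ 2

/-- scalar times the square of an affine form -/
def IsSq (q : MvPolynomial (Fin 2) κ) : Prop :=
  ∃ j g h i : κ, q = MvPolynomial.C j *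
    (MvPolynomial.C g + MvPolynomial.C h * MvPolynomial.X 0 + MvPolynomial.C i * MvPolynomial.X 1) ^ 2

/-- the iso to iterated polynomials -/
noncomputable def toB : MvPolynomial (Fin 2) κ →ₐ[κ] κ[X][X] :=
  MvPolynomial.aeval ![C X, X]

/-- the inverse -/
noncomputable def fromB : κ[X][X] →+* MvPolynomial (Fin 2) κ :=
  eval₂RingHom (Polynomial.aeval (MvPolynomial.X 0 : MvPolynomial (Fin 2) κ)).toRingHom (MvPolynomial.X 1)

theorem from_to (q : MvPolynomial (Fin 2) κ) : fromB (toB q) = q := by
  induction q using MvPolynomial.induction_on with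
  | C r => simp [toB, fromB]
  | add p q hp hq => simp [map_add, hp, hq]
  | mul_X p i hp =>
    rw [map_mul, map_mul, hp]
    congr 1
    fin_cases i <;> simp [toB, fromB]

theorem nonrat0 (m : Ideal R2) [m.IsMaximal] (hnr : ∀ r : κ, MvPolynomial.X 0 - MvPolynomial.C r ∉ m)
    (a b c d e f : κ) (hq : quad a b c d e f ∈ m ^ 2) : IsSq (quad a b c d e f) := by
  have hsurj : Function.Surjective (fromB (κ := κ)) := fun q => ⟨toB q, from_to q⟩
  haveI : (m.comap (fromB (κ := κ))).IsMaximal := Ideal.comap_isMaximal_of_surjective _ hsurj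
  have hto : ∀ x ∈ m, toB x ∈ m.comap (fromB (κ := κ)) := fun x hx => by
    rw [Ideal.mem_comap, from_to]; exact hx
  have hq' : toB (quad a b c d e f) ∈ (m.comap (fromB (κ := κ))) ^ 2 := by
    refine Ideal.pow_right_mono (Ideal.map_le_iff_le_comap.2 hto) 2 ?_
    rw [← Ideal.map_pow]
    exact Ideal.mem_map_of_mem _ hq
  have hQ : toB (quad a b c d e f) =
      C (C a + C b * X + C d * X ^ 2) + C (C c + C e * X) * X + C (C f) * X ^ 2 := by
    simp [toB]
    ring
  rw [hQ] at hq'
  obtain ⟨g, h, hgh⟩ := keyA (m.comap (fromB (κ := κ)))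
    (fun r hr => hnr r (by simpa [fromB] using hr)) a b c d e f hq'
  refine ⟨f, -g, -h, 1, ?_⟩
  rw [← from_to (quad a b c d e f), hQ, hgh]
  simp only [fromB, map_mul, map_pow, map_sub, map_add, map_neg, map_one, coe_eval₂RingHom, eval₂_C, eval₂_X,
    AlgHom.toRingHom_eq_coe, RingHom.coe_coe, Polynomial.aeval_C, Polynomial.aeval_X, MvPolynomial.algebraMap_eq]
  ring

/-- exchanging the variables -/
noncomputable def swap : MvPolynomial (Fin 2) κ →ₐ[κ] MvPolynomial (Fin 2) κ :=
  MvPolynomial.rename (Equiv.swap (0 : Fin 2) 1)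

theorem swap_swap (q : R2) : swap (swap q) = q := by
  rw [swap, MvPolynomial.rename_rename, show (⇑(Equiv.swap (0 : Fin 2) 1) ∘ ⇑(Equiv.swap (0 : Fin 2) 1)) = id by
    funext x; simp, MvPolynomial.rename_id]
  rfl

theorem nonrat (m : Ideal R2) [m.IsMaximal] (i : Fin 2)
    (hnr : ∀ r : κ, MvPolynomial.X i - MvPolynomial.C r ∉ m) (a b c d e f : κ)
    (hq : quad a b c d e f ∈ m ^ 2) : IsSq (quad a b c d e f) := by
  fin_cases i
  · exact nonrat0 m hnr a b c d e f hq
  · have hsurj : Function.Surjective (swap (κ := κ)) := fun q => ⟨swap q, swap_swap q⟩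
    haveI : (m.comap (swap (κ := κ))).IsMaximal := Ideal.comap_isMaximal_of_surjective _ hsurj
    have hs : swap (quad a b c d e f) = quad a c b f e d := by
      simp [swap, quad]
      ring
    have h2 : quad a c b f e d ∈ (m.comap (swap (κ := κ))) ^ 2 := by
      rw [← hs]
      refine Ideal.pow_right_mono (Ideal.map_le_iff_le_comap.2 fun x hx => ?_) 2
        (Ideal.map_pow (swap (κ := κ)) m 2 ▸ Ideal.mem_map_of_mem _ hq)
      rw [Ideal.mem_comap, Ideal.mem_comap, swap_swap]; exact hx
    obtain ⟨j, g, h, i', e'⟩ := nonrat0 (m.comap (swap (κ := κ)))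
      (fun r hr => hnr r (by simpa [swap] using hr)) a c b f e d h2
    refine ⟨j, g, i', h, ?_⟩
    rw [← swap_swap (quad a b c d e f), hs, e']
    simp only [swap, map_mul, map_pow, map_add, MvPolynomial.rename_C, MvPolynomial.rename_X,
      Equiv.swap_apply_left, Equiv.swap_apply_right]
    ring

/-- translation -/
noncomputable def tr (v : Fin 2 → κ) : MvPolynomial (Fin 2) κ →ₐ[κ] MvPolynomial (Fin 2) κ :=
  MvPolynomial.aeval fun i => MvPolynomial.X i + MvPolynomial.C (v i)

theorem tr_neg (v : Fin 2 → κ) (q : R2) : tr (-v) (tr v q) = q := by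
  have : (tr (-v)).comp (tr v) = AlgHom.id κ _ := MvPolynomial.algHom_ext fun i => by simp [tr]
  exact DFunLike.congr_fun this q

theorem isSq_of_tr (v : Fin 2 → κ) (q : R2) (h : IsSq (tr v q)) : IsSq q := by
  obtain ⟨j, g, h', i, e⟩ := h
  refine ⟨j, g - h' * v 0 - i * v 1, h', i, ?_⟩
  rw [← tr_neg v q, e]
  simp only [tr, map_mul, map_pow, map_add, map_sub, MvPolynomial.aeval_C, MvPolynomial.aeval_X,
    MvPolynomial.algebraMap_eq, Pi.neg_apply, map_neg]
  ring

/-- value and gradient -/
theorem sq_data (q : R2) (m : Ideal R2) (v : Fin 2 → κ) (hm : ∀ x ∈ m, MvPolynomial.eval v x = 0)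
    (hq : q ∈ m ^ 2) :
    MvPolynomial.eval v q = 0 ∧ ∀ i, MvPolynomial.eval v (MvPolynomial.pderiv i q) = 0 := by
  rw [pow_two] at hq
  refine Submodule.mul_induction_on hq (fun x hx y hy => ⟨?_, fun i => ?_⟩)
    (fun x y hx hy => ⟨?_, fun i => ?_⟩)
  · rw [map_mul, hm x hx, zero_mul]
  · rw [MvPolynomial.pderiv_mul, map_add, map_mul, map_mul, hm x hx, hm y hy]; ring
  · rw [map_add, hx.1, hy.1, add_zero]
  · rw [map_add, map_add, hx.2 i, hy.2 i, add_zero]

theorem homog_sq (d e f α β : κ) (hne : α ≠ 0 ∨ β ≠ 0) (h0 : d * α ^ 2 + e * α * β + f * β ^ 2 = 0)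
    (h1 : 2 * d * α + e * β = 0) (h2 : e * α + 2 * f * β = 0) : IsSq (quad 0 0 0 d e f) := by
  by_cases hα : α = 0
  · subst hα
    have hβ : β ≠ 0 := hne.resolve_left (by simp)
    have hf : f = 0 := by
      have : f * β ^ 2 = 0 := by linear_combination h0
      exact (mul_eq_zero.1 this).resolve_right (pow_ne_zero 2 hβ)
    have he : e = 0 := by
      have : e * β = 0 := by linear_combination h1
      exact (mul_eq_zero.1 this).resolve_right hβ
    refine ⟨d, 0, 1, 0, ?_⟩
    subst hf he
    simp [quad]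
  · let t := β / α
    have ht : β = t * α := (div_mul_cancel₀ β hα).symm
    have he : e = -(2 * f * t) := by
      have : (e + 2 * f * t) * α = 0 := by rw [ht] at h2; linear_combination h2
      linear_combination (mul_eq_zero.1 this).resolve_right hα
    have hd : d = f * t ^ 2 := by
      have : (d - f * t ^ 2) * α ^ 2 = 0 := by rw [ht, he] at h0; linear_combination h0
      linear_combination (mul_eq_zero.1 this).resolve_right (pow_ne_zero 2 hα)
    refine ⟨f, 0, -t, 1, ?_⟩
    subst he hd
    simp [quad, map_ofNat]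
    ring

theorem exists_linear_common_zero {n : Type} [Fintype n] [DecidableEq n] (S : Submodule κ (n → κ)) (hS : S ≠ ⊤) :
    ∃ v : n → κ, v ≠ 0 ∧ ∀ w ∈ S, ∑ i, w i * v i = 0 := by
  obtain ⟨φ, hφ, hS'⟩ := Submodule.exists_le_ker_of_lt_top S (lt_top_iff_ne_top.2 hS)
  refine ⟨fun i => φ (Pi.single i 1), fun h0 => hφ ?_, fun w hw => ?_⟩
  · refine LinearMap.pi_ext' fun i => LinearMap.ext_ring ?_
    exact congrFun h0 i
  · have : φ w = 0 := hS' hw
    rw [LinearMap.pi_apply_eq_sum_univ] at this
    rw [← this]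
    refine Finset.sum_congr rfl fun i _ => ?_
    rw [smul_eq_mul]
    congr 1
    show φ (Pi.single i 1) = _
    congr 1
    funext j
    simp [Pi.single_apply, eq_comm]

/-- the linear part -/
noncomputable def lin : MvPolynomial (Fin 2) κ →ₗ[κ] (Fin 2 → κ) :=
  LinearMap.pi fun i => (MvPolynomial.lcoeff κ (Finsupp.single i 1))

theorem lin_apply (q : R2) (i : Fin 2) :
    lin q i = MvPolynomial.constantCoeff (MvPolynomial.pderiv i q) := by
  rw [lin, LinearMap.pi_apply, MvPolynomial.lcoeff_apply, MvPolynomial.constantCoeff_eq,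
    MvPolynomial.coeff_pderiv]
  simp

theorem mem_span_X (x : R2) (hx : MvPolynomial.constantCoeff x = 0) :
    ∃ A : Fin 2 → R2, x = ∑ i, A i * MvPolynomial.X i := by
  suffices h : ∀ y : R2, ∃ A : Fin 2 → R2,
      y = MvPolynomial.C (MvPolynomial.constantCoeff y) + ∑ i, A i * MvPolynomial.X i by
    obtain ⟨A, hA⟩ := h x
    exact ⟨A, by rwa [hx, map_zero, zero_add] at hA⟩
  intro y
  induction y using MvPolynomial.induction_on with
  | C r => exact ⟨0, by simp⟩
  | add p q hp hq =>
    obtain ⟨A, hA⟩ := hp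
    obtain ⟨B, hB⟩ := hq
    refine ⟨A + B, ?_⟩
    conv_lhs => rw [hA, hB]
    rw [map_add, map_add]
    simp only [Pi.add_apply, add_mul, Finset.sum_add_distrib]
    ring
  | mul_X p i hp =>
    refine ⟨Pi.single i p, ?_⟩
    simp [Pi.single_apply]

theorem eval_of_max (m : Ideal R2) [m.IsMaximal] (r : Fin 2 → κ)
    (hr : ∀ i, MvPolynomial.X i - MvPolynomial.C (r i) ∈ m) :
    (∀ x ∈ m, MvPolynomial.eval r x = 0) ∧ ∀ x, MvPolynomial.eval r x = 0 → x ∈ m := by
  have h : ∀ x : R2, x - MvPolynomial.C (MvPolynomial.eval r x) ∈ m := by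
    intro x
    induction x using MvPolynomial.induction_on with
    | C s => simp
    | add p q hp hq => rw [map_add, map_add, add_sub_add_comm]; exact m.add_mem hp hq
    | mul_X p i hp =>
      have : p * MvPolynomial.X i - MvPolynomial.C (MvPolynomial.eval r (p * MvPolynomial.X i)) =
          (p - MvPolynomial.C (MvPolynomial.eval r p)) * MvPolynomial.X i +
            MvPolynomial.C (MvPolynomial.eval r p) * (MvPolynomial.X i - MvPolynomial.C (r i)) := by
        rw [map_mul, MvPolynomial.eval_X, map_mul]; ring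
      rw [this]
      exact m.add_mem (m.mul_mem_right _ hp) (m.mul_mem_left _ (hr i))
  refine ⟨fun x hx => ?_, fun x hx => by simpa [hx] using h x⟩
  by_contra hne
  refine Ideal.IsMaximal.ne_top (I := m) inferInstance (Ideal.eq_top_of_isUnit_mem _ ?_
    ((Ne.isUnit hne).map (MvPolynomial.C (σ := Fin 2))))
  simpa using m.sub_mem hx (h x)

theorem rat (I : Ideal R2) (hI0 : ∀ x ∈ I, MvPolynomial.constantCoeff x = 0)
    (hI : I ≠ RingHom.ker (MvPolynomial.constantCoeff (R := κ) (σ := Fin 2)))
    (a b c d e f : κ) (hq : quad a b c d e f ∈ I ^ 2) : IsSq (quad a b c d e f) := by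
  classical
  have hev : ∀ x : R2, MvPolynomial.eval 0 x = MvPolynomial.constantCoeff x := fun x => by
    rw [MvPolynomial.eval_zero]
  obtain ⟨hq0, hq1⟩ := sq_data _ I 0 (fun x hx => (hev x).trans (hI0 x hx)) hq
  have ha : a = 0 := by simpa [quad] using hq0
  have hb : b = 0 := by simpa [quad, MvPolynomial.pderiv_X_of_ne] using hq1 0
  have hc : c = 0 := by simpa [quad, MvPolynomial.pderiv_X_of_ne] using hq1 1
  subst ha hb hc
  by_cases hS : Submodule.map lin (I.restrictScalars κ) = ⊤
  · have hx : ∀ i : Fin 2, ∃ x ∈ I, lin x = Pi.single i 1 := fun i => by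
      obtain ⟨x, hx, hxe⟩ := (hS ▸ Submodule.mem_top : (Pi.single i (1 : κ) : Fin 2 → κ) ∈
        Submodule.map lin (I.restrictScalars κ))
      exact ⟨x, hx, hxe⟩
    choose x hxI hxl using hx
    choose A hA using fun i => mem_span_X (x i) (hI0 _ (hxI i))
    let M : Matrix (Fin 2) (Fin 2) R2 := Matrix.of A
    have hM0 : M.map MvPolynomial.constantCoeff = 1 := by
      ext i j
      have := congrFun (hxl i) j
      rw [lin_apply, hA i, map_sum, map_sum] at this
      simp only [MvPolynomial.pderiv_mul, map_add, map_mul, MvPolynomial.constantCoeff_X, mul_zero, zero_add] at this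
      rw [Matrix.map_apply, Matrix.one_apply]
      rw [Finset.sum_eq_single j (fun k _ hk => by simp [MvPolynomial.pderiv_X_of_ne hk]) (by simp)] at this
      simp only [MvPolynomial.pderiv_X_self, map_one, mul_one, Pi.single_apply] at this
      simp only [M, Matrix.of_apply, this, eq_comm]
    have hD : MvPolynomial.constantCoeff M.det = 1 := by
      rw [RingHom.map_det, RingHom.mapMatrix_apply, hM0, Matrix.det_one]
    have hDX : ∀ j, M.det * MvPolynomial.X j ∈ I := by
      intro j
      have : M.det * MvPolynomial.X j = ∑ i, M.adjugate j i * x i := by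
        simp only [hA, Finset.mul_sum, ← mul_assoc]
        rw [Finset.sum_comm]
        have h2 : ∀ k, (∑ i, M.adjugate j i * A i k * MvPolynomial.X k) =
            (M.adjugate * M) j k * MvPolynomial.X k := fun k => by
          rw [Matrix.mul_apply, Finset.sum_mul]; rfl
        simp only [h2, Matrix.adjugate_mul, Matrix.smul_apply, Matrix.one_apply, smul_eq_mul]
        simp
      rw [this]
      exact I.sum_mem fun i _ => I.mul_mem_left _ (hxI i)
    have hnt : I ⊔ Ideal.span {M.det} ≠ ⊤ := by
      intro htop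
      apply hI
      refine le_antisymm (fun y hy => hI0 y hy) fun y hy => ?_
      obtain ⟨A', hA'⟩ := mem_span_X y hy
      rw [Ideal.eq_top_iff_one, Submodule.mem_sup] at htop
      obtain ⟨u, hu, w, hw, huw⟩ := htop
      obtain ⟨z, rfl⟩ := Ideal.mem_span_singleton'.1 hw
      rw [← one_mul y, ← huw, add_mul]
      refine I.add_mem (I.mul_mem_right _ hu) ?_
      rw [hA', Finset.mul_sum]
      refine I.sum_mem fun i _ => ?_
      have : z * M.det * (A' i * MvPolynomial.X i) = z * A' i * (M.det * MvPolynomial.X i) := by ring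
      rw [this]
      exact I.mul_mem_left _ (hDX i)
    obtain ⟨m, hm, hIm⟩ := Ideal.exists_le_maximal _ hnt
    by_cases hr : ∀ i, ∃ r : κ, MvPolynomial.X i - MvPolynomial.C r ∈ m
    · choose r hr using hr
      have hv := (eval_of_max m r hr).1
      obtain ⟨h0, h1⟩ := sq_data _ m r hv
        (Ideal.pow_right_mono (le_sup_left.trans hIm) 2 hq)
      have hrne : r 0 ≠ 0 ∨ r 1 ≠ 0 := by
        by_contra hno
        push Not at hno
        have := hv M.det (hIm (Submodule.mem_sup_right (Ideal.mem_span_singleton_self _)))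
        rw [show r = 0 by funext i; fin_cases i <;> simp [hno.1, hno.2], hev, hD] at this
        exact one_ne_zero this
      refine homog_sq d e f (r 0) (r 1) hrne ?_ ?_ ?_
      · have := h0; simp [quad] at this; linear_combination this
      · have := h1 0; simp [quad, MvPolynomial.pderiv_X_of_ne] at this; linear_combination this
      · have := h1 1; simp [quad, MvPolynomial.pderiv_X_of_ne] at this; linear_combination this
    · push Not at hr
      obtain ⟨i, hi⟩ := hr
      exact nonrat m i hi _ _ _ _ _ _ (Ideal.pow_right_mono (le_sup_left.trans hIm) 2 hq)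
  · obtain ⟨v, hv0, hv⟩ := exists_linear_common_zero _ hS
    let L : R2 →ₐ[κ] κ[X] := MvPolynomial.aeval fun i => C (v i) * X
    have hL0 : ∀ x : R2, (L x).coeff 0 = MvPolynomial.constantCoeff x := by
      intro x
      induction x using MvPolynomial.induction_on with
      | C r => simp [L]
      | add p q hp hq => simp [map_add, hp, hq]
      | mul_X p i hp => simp [L, mul_coeff_zero]
    have hL1 : ∀ x : R2, (L x).coeff 1 = ∑ i, lin x i * v i := by
      intro x
      simp only [lin_apply]
      induction x using MvPolynomial.induction_on with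
      | C r => simp [L, coeff_C]
      | add p q hp hq => simp [map_add, hp, hq, add_mul, Finset.sum_add_distrib]
      | mul_X p j hp =>
        have hl : L (MvPolynomial.X j) = C (v j) * X := by simp [L]
        rw [map_mul, hl, ← mul_assoc, coeff_mul_X, mul_coeff_zero, hL0, coeff_C_zero]
        simp only [MvPolynomial.pderiv_mul, map_add, map_mul, MvPolynomial.constantCoeff_X, mul_zero, zero_add]
        rw [Finset.sum_eq_single j (fun k _ hk => by simp [MvPolynomial.pderiv_X_of_ne (Ne.symm hk)]) (by simp)]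
        simp
    have hd : ∀ x ∈ I, X ^ 2 ∣ L x := by
      intro x hx
      rw [Polynomial.X_pow_dvd_iff]
      intro n hn
      interval_cases n
      · rw [hL0, hI0 x hx]
      · rw [hL1, hv _ ⟨x, hx, rfl⟩]
    have hI2 : ∀ x ∈ I ^ 2, (L x).coeff 2 = 0 ∧ ∀ i, (L (MvPolynomial.pderiv i x)).coeff 1 = 0 := by
      intro x hx
      rw [pow_two] at hx
      refine Submodule.mul_induction_on hx (fun y hy z hz => ⟨?_, fun i => ?_⟩)
        (fun y z hy hz => ⟨?_, fun i => ?_⟩)
      · rw [map_mul]
        exact (Polynomial.X_pow_dvd_iff (n := 4)).1 (by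
          rw [show (X : κ[X]) ^ 4 = X ^ 2 * X ^ 2 by rw [← pow_add]]
          exact mul_dvd_mul (hd y hy) (hd z hz)) 2 (by norm_num)
      · rw [MvPolynomial.pderiv_mul, map_add, map_mul, map_mul]
        exact (Polynomial.X_pow_dvd_iff (n := 2)).1
          (dvd_add (dvd_mul_of_dvd_right (hd z hz) _) (dvd_mul_of_dvd_left (hd y hy) _)) 1 (by norm_num)
      · rw [map_add, coeff_add, hy.1, hz.1, add_zero]
      · rw [map_add, map_add, coeff_add, hy.2 i, hz.2 i, add_zero]
    obtain ⟨e0, e1⟩ := hI2 _ hq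
    have hvne : v 0 ≠ 0 ∨ v 1 ≠ 0 := by
      by_contra hno
      push Not at hno
      exact hv0 (by funext i; fin_cases i <;> simp [hno.1, hno.2])
    refine homog_sq d e f (v 0) (v 1) hvne ?_ ?_ ?_
    · have hLq : L (quad 0 0 0 d e f) = C (d * v 0 ^ 2 + e * v 0 * v 1 + f * v 1 ^ 2) * X ^ 2 := by
        simp [L, quad]; ring
      rw [hLq, coeff_C_mul_X_pow, if_pos rfl] at e0
      exact e0
    · have hLq : L (MvPolynomial.pderiv 0 (quad 0 0 0 d e f)) = C (2 * d * v 0 + e * v 1) * X := by
        simp [L, quad, MvPolynomial.pderiv_X_of_ne, map_ofNat]; ring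
      have := e1 0
      rw [hLq, coeff_C_mul_X, if_pos rfl] at this
      exact this
    · have hLq : L (MvPolynomial.pderiv 1 (quad 0 0 0 d e f)) = C (e * v 0 + 2 * f * v 1) * X := by
        simp [L, quad, MvPolynomial.pderiv_X_of_ne, map_ofNat]; ring
      have := e1 1
      rw [hLq, coeff_C_mul_X, if_pos rfl] at this
      exact this

theorem main (I : Ideal R2)
    (hI : ¬ (Module.Finite κ (R2 ⧸ I) ∧ Module.finrank κ (R2 ⧸ I) ≤ 1))
    (a b c d e f : κ) (hq : quad a b c d e f ∈ I ^ 2) : IsSq (quad a b c d e f) := by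
  have hne : I ≠ ⊤ := by
    rintro rfl
    haveI : Subsingleton (R2 ⧸ (⊤ : Ideal R2)) := Ideal.Quotient.subsingleton_iff.2 rfl
    exact hI ⟨inferInstance, by rw [Module.finrank_zero_of_subsingleton]; exact zero_le_one⟩
  obtain ⟨m, hm, hIm⟩ := Ideal.exists_le_maximal I hne
  by_cases hr : ∀ i, ∃ r : κ, MvPolynomial.X i - MvPolynomial.C r ∈ m
  · choose r hr using hr
    obtain ⟨hv, hv'⟩ := eval_of_max m r hr
    have hcc : ∀ x, MvPolynomial.eval r (tr (-r) x) = MvPolynomial.constantCoeff x := by
      intro x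
      induction x using MvPolynomial.induction_on with
      | C s => simp [tr]
      | add p q hp hq => simp [map_add, hp, hq]
      | mul_X p i hp => rw [map_mul, map_mul, hp, map_mul]; simp [tr]
    let J : Ideal R2 := I.comap (tr (-r))
    have hJne : J ≠ RingHom.ker (MvPolynomial.constantCoeff (R := κ) (σ := Fin 2)) := by
      intro hJ
      apply hI
      have hIe : I = RingHom.ker (MvPolynomial.aeval r : R2 →ₐ[κ] κ) := by
        refine le_antisymm (fun x hx => by
          rw [RingHom.mem_ker, MvPolynomial.aeval_def, Algebra.algebraMap_self]; exact hv x (hIm hx)) fun x hx => ?_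
        have h1 : tr r x ∈ J := by
          rw [hJ, RingHom.mem_ker, ← hcc, tr_neg]
          exact hx
        rw [Ideal.mem_comap, tr_neg] at h1
        exact h1
      let e := Ideal.quotientKerAlgEquivOfSurjective (f := (MvPolynomial.aeval r : R2 →ₐ[κ] κ))
        (fun s => ⟨MvPolynomial.C s, by simp⟩)
      let e' := (Ideal.quotientEquivAlgOfEq κ hIe).trans e
      exact ⟨Module.Finite.equiv e'.toLinearEquiv.symm, by rw [e'.toLinearEquiv.finrank_eq, Module.finrank_self]⟩
    have hq' : tr r (quad a b c d e f) ∈ J ^ 2 := by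
      refine Ideal.pow_right_mono (Ideal.map_le_iff_le_comap.2 fun x hx => ?_) 2
        (Ideal.map_pow (tr r) I 2 ▸ Ideal.mem_map_of_mem _ hq)
      rw [Ideal.mem_comap, Ideal.mem_comap, tr_neg]; exact hx
    have hquad : tr r (quad a b c d e f) = quad (a + b * r 0 + c * r 1 + d * r 0 ^ 2 + e * r 0 * r 1 + f * r 1 ^ 2)
        (b + 2 * d * r 0 + e * r 1) (c + e * r 0 + 2 * f * r 1) d e f := by
      simp [tr, quad, map_ofNat]
      ring
    apply isSq_of_tr r
    rw [hquad]
    rw [hquad] at hq'
    exact rat J (fun x hx => (hcc x).symm.trans (hv _ (hIm hx))) hJne _ _ _ _ _ _ hq'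
  · push Not at hr
    obtain ⟨i, hi⟩ := hr
    exact nonrat m i hi _ _ _ _ _ _ (Ideal.pow_right_mono hIm 2 hq)

end Aux


/-- Let κ be a field and I an ideal of κ[x, y] whose colength is greater than one (the quotient is not
of dimension at most one over κ). If a nonzero polynomial a + bx + cy + dx^2 + exy + fy^2 lies in
I^2, then it equals j (g + hx + iy)^2 for some scalars j, g, h, i. -/
theorem result (κ : Type u) [Field κ] (I : Ideal (MvPolynomial (Fin 2) κ))
    (hI : ¬ (Module.Finite κ (MvPolynomial (Fin 2) κ ⧸ I) ∧ Module.finrank κ (MvPolynomial (Fin 2) κ ⧸ I) ≤ 1))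
    (a b c d e f : κ) (hne : (a, b, c, d, e, f) ≠ (0, 0, 0, 0, 0, 0))
    (hmem : (MvPolynomial.C a + MvPolynomial.C b * MvPolynomial.X 0 + MvPolynomial.C c * MvPolynomial.X 1 +
      MvPolynomial.C d * MvPolynomial.X 0 ^ 2 + MvPolynomial.C e * MvPolynomial.X 0 * MvPolynomial.X 1 +
      MvPolynomial.C f * MvPolynomial.X 1 ^ 2 : MvPolynomial (Fin 2) κ) ∈ I ^ 2) :
    ∃ j g h i : κ, (MvPolynomial.C a + MvPolynomial.C b * MvPolynomial.X 0 + MvPolynomial.C c * MvPolynomial.X 1 +
      MvPolynomial.C d * MvPolynomial.X 0 ^ 2 + MvPolynomial.C e * MvPolynomial.X 0 * MvPolynomial.X 1 +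
      MvPolynomial.C f * MvPolynomial.X 1 ^ 2 : MvPolynomial (Fin 2) κ) =
      MvPolynomial.C j * (MvPolynomial.C g + MvPolynomial.C h * MvPolynomial.X 0 + MvPolynomial.C i * MvPolynomial.X 1) ^ 2 := by
  exact main I hI a b c d e f hmem

end Groth.Agent.S1601
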