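import Groth.Statements.S16010
import Groth.Agent.Lib.GHConst3.Weight

set_option autoImplicit false
universe u v w x
open W4c3ghconstell

namespace Groth.Agent.S16010

/-- Let k be an algebraically closed field of characteristic zero, A a commutative Hopf algebra over k
which is a finitely generated domain and linearly reductive (the coordinate ring of a connected
reductive group G; irreducible representations of G are indexed by the simple subcoalgebras D of A),
R a Noetherian commutative k-algebra with a multiplicative A-coaction (an affine G-scheme X = Spec
R), and M an R-module with a compatible A-coaction (a G-equivariant quasi-coherent module on X)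
which is finite over R, is the sum of its isotypic components M_D, and has dim_k M_D = h(D) < ∞ for
every simple subcoalgebra D. Fix a weight θ from simple subcoalgebras to ℚ, negative at only
finitely many D, with Σ_D θ(D) h(D) = 0 (a convergent real series) and with θ(D) ≠ 0, h(D) ≠ 0 for
some D; the weight of a k-subspace N of M is the real series Σ_D θ(D) · dim_k (N ∩ M_D). If M is
θ-stable, i.e. M has weight 0 and every non-zero proper R-submodule of M stable under the coaction
has weight > 0, then M is generated as an R-module by its isotypic components M_D with θ(D) < 0.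
(The published statement is over the complex numbers and records the multiplicity of each
irreducible representation rather than the dimension of the isotypic component; rescaling θ
translates between the two, and the printed argument uses only the bookkeeping stated here.) -/
theorem result (k : Type u) [Field k] [IsAlgClosed k] [CharZero k]
    (A : Type v) [CommRing A] [IsDomain A] [HopfAlgebra k A] [Algebra.FiniteType k A]
    (hred : HopfRep.IsLinearlyReductive k A)
    (R : Type w) [CommRing R] [Algebra k R] [IsNoetherianRing R] [HopfRep.Comod k A R] [GLin.IsCoactAlg k A R]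
    (M : Type x) [AddCommGroup M] [Module k M] [Module R M] [IsScalarTower k R M]
    [HopfRep.Comod k A M] [TameAct.IsHopfMod k A R M]
    (h : W4c3ghconstell.SimpSub k A → ℕ) (θ : W4c3ghconstell.SimpSub k A → ℚ)
    (hfin : {D | θ D < 0}.Finite) (hsum : HasSum (fun D => (θ D : ℝ) * (h D : ℝ)) 0)
    (hne : ∃ D, θ D ≠ 0 ∧ h D ≠ 0)
    (hM : W4c3ghconstell.IsConstellation k A R M h)
    (hst : W4c3ghconstell.IsThetaStable k A R M θ) :
    W4c3ghconstell.genIn k A R M {D | θ D < 0} ⊤ = ⊤ := by
  classical
  by_contra hne'
  have hsub : HopfRep.IsSubcomod (k := k) (A := A) ((⊤ : Submodule R M).restrictScalars k) :=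
    fun m _ => ⟨(LinearMap.id.codRestrict ((⊤ : Submodule R M).restrictScalars k) fun _ => trivial).rTensor A
      (HopfRep.Comod.coact (k := k) (A := A) m), by
        rw [← LinearMap.comp_apply, ← LinearMap.rTensor_comp, LinearMap.subtype_comp_codRestrict, LinearMap.rTensor_id, LinearMap.id_apply]⟩
  by_cases hb : W4c3ghconstell.genIn k A R M {D | θ D < 0} ⊤ = ⊥
  · obtain ⟨D, hD, hD'⟩ := hne
    have h1 := GHConst3.theta_pos_of_neg_eq_zero h hM hsum ((⊤ : Submodule R M).restrictScalars k)
      (fun E hE => GHConst3.genIn_eq_bot_iff_hilb h hM _ ⊤ hb E hE) D hD
      (by rwa [Submodule.restrictScalars_top, GHConst3.hilbAt_top h hM])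
    rw [Submodule.restrictScalars_top, GHConst3.theta_top h hM hsum] at h1
    exact lt_irrefl _ h1
  · have h1 := hst.2 _ (GHConst3.isSubcomod_genIn _ hsub) hb hne'
    have h2 := GHConst3.theta_le h hM hsum (θ := θ)
      (N := (W4c3ghconstell.genIn k A R M {D | θ D < 0} ⊤).restrictScalars k) (N' := ⊤) le_top fun D hD => by
        rw [W4c3ghconstell.hilbAt, GHConst3.genIn_inf _ _ (show D ∈ {D | θ D < 0} from hD), Submodule.restrictScalars_top]
        rfl
    rw [GHConst3.theta_top h hM hsum] at h2
    exact absurd h2 (not_le.2 h1)

end Groth.Agent.S16010
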