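import Groth.Statements.S16015
import Mathlib.RingTheory.Finiteness.Cardinality
import Mathlib.LinearAlgebra.Pi
import Mathlib.RingTheory.Ideal.Quotient.Operations

set_option autoImplicit false
universe u v w
open W4c3ghconstell

namespace Groth.Agent.S16015

/-- Let B be a commutative ring, E a B-module, F a finitely generated projective B-module and β : E → F
a B-linear map. Then there is a unique ideal I of B such that for every commutative B-algebra C the
base change β_C : C ⊗ E → C ⊗ F is zero if and only if the structure map B → C kills I. (The
published statement is for a homomorphism of modules on a scheme T into a locally free module and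
produces a closed subscheme T₀ through which a morphism factors exactly when the pulled-back
homomorphism vanishes; this row is the case of an affine T with affine test schemes and F of finite
rank, to which it reduces.) -/
theorem result {B : Type u} [CommRing B]
    {E : Type v} [AddCommGroup E] [Module B E]
    {F : Type w} [AddCommGroup F] [Module B F] [Module.Finite B F] [Module.Projective B F]
    (β : E →ₗ[B] F) :
    ∃! I : Ideal B, ∀ (C : Type u) [CommRing C] [Algebra B C],
      LinearMap.baseChange C β = 0 ↔ I ≤ RingHom.ker (algebraMap B C) := by
  obtain ⟨n, π, hπ⟩ := Module.Finite.exists_fin' B F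
  obtain ⟨s, hs⟩ := Module.projective_lifting_property π LinearMap.id hπ
  let I : Ideal B := Ideal.span (Set.range fun p : E × Fin n => s (β p.1) p.2)
  have key : ∀ (C : Type u) [CommRing C] [Algebra B C],
      LinearMap.baseChange C β = 0 ↔ I ≤ RingHom.ker (algebraMap B C) := by
    intro C _ _
    rw [Ideal.span_le]
    constructor
    · rintro h _ ⟨⟨e, i⟩, rfl⟩
      have h1 : (1 : C) ⊗ₜ[B] (β e) = 0 := LinearMap.congr_fun h ((1 : C) ⊗ₜ[B] e)
      have h2 := congr(TensorProduct.rid B C (((LinearMap.proj i).comp s).lTensor C $h1))
      simp only [LinearMap.lTensor_tmul, TensorProduct.rid_tmul, map_zero] at h2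
      simpa [Algebra.smul_def] using h2
    · intro h
      refine LinearMap.ext fun x => ?_
      induction x using TensorProduct.induction_on with
      | zero => rw [map_zero, map_zero]
      | add a b ha hb => rw [map_add, map_add, ha, hb]
      | tmul c e =>
        have h1 : β e = ∑ i, s (β e) i • π (Pi.single i 1) := by
          conv_lhs => rw [← LinearMap.id_apply (R := B) (β e), ← hs, LinearMap.comp_apply, pi_eq_sum_univ' (s (β e))]
          rw [map_sum]
          exact Finset.sum_congr rfl fun i _ => by rw [map_smul]
        rw [LinearMap.baseChange_tmul, h1, TensorProduct.tmul_sum, LinearMap.zero_apply]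
        refine Finset.sum_eq_zero fun i _ => ?_
        rw [TensorProduct.tmul_smul, TensorProduct.smul_tmul', Algebra.smul_def,
          RingHom.mem_ker.1 (h ⟨(e, i), rfl⟩), zero_mul, TensorProduct.zero_tmul]
  refine ⟨I, key, fun J hJ => le_antisymm ?_ ?_⟩
  · have h1 := (hJ (B ⧸ I)).1 ((key _).2 (by rw [Ideal.Quotient.algebraMap_eq, Ideal.mk_ker]))
    rwa [Ideal.Quotient.algebraMap_eq, Ideal.mk_ker] at h1
  · have h1 := (key (B ⧸ J)).1 ((hJ _).2 (by rw [Ideal.Quotient.algebraMap_eq, Ideal.mk_ker]))
    rwa [Ideal.Quotient.algebraMap_eq, Ideal.mk_ker] at h1

end Groth.Agent.S16015
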