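import Groth.Statements.S16016
-- import your own Groth.Agent.* helpers here

set_option autoImplicit false
universe u
open W4c3ghconstell

namespace Groth.Agent.S16016

/-- Let k be a field with 2 ≠ 0, index k⁶ by two copies of {0,1,2} (basis vectors p₁, p₂, p₃ in the
first copy and p₄, p₅, p₆ in the second), let Q be the symmetric matrix with blocks ((0, 1), (1,
0)), so that the form it defines pairs pᵢ with pᵢ₊₃, and let W₀ be the span of p₁ and p₂. Then a 6 ×
6 matrix A satisfies AᵀQ + QA = 0 (A lies in the orthogonal Lie algebra of Q) and has the image of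
Aᵀ contained in W₀ if and only if A = a · (E₄₂ − E₅₁) for some scalar a, where Eᵢⱼ is the matrix
unit. (The lemma in the source concludes that the set of such A inside a certain nilpotent orbit
closure of this Lie algebra is one-dimensional; this row is the computation its proof performs,
which determines all such A in the Lie algebra. Characteristic 2 is excluded: there E₁₄ᵀ also
qualifies.) -/
theorem result (k : Type u) [Field k] (h2 : (2 : k) ≠ 0)
    (A : Matrix (Fin 3 ⊕ Fin 3) (Fin 3 ⊕ Fin 3) k) :
    (A.transpose * Matrix.fromBlocks (0 : Matrix (Fin 3) (Fin 3) k) 1 1 0 +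
        Matrix.fromBlocks (0 : Matrix (Fin 3) (Fin 3) k) 1 1 0 * A = 0 ∧
      LinearMap.range (Matrix.mulVecLin A.transpose) ≤
        Submodule.span k {Pi.single (Sum.inl 0 : Fin 3 ⊕ Fin 3) (1 : k), Pi.single (Sum.inl 1 : Fin 3 ⊕ Fin 3) (1 : k)}) ↔
    ∃ a : k, A = a • (Matrix.single (Sum.inr 0) (Sum.inl 1) (1 : k) - Matrix.single (Sum.inr 1) (Sum.inl 0) (1 : k)) := by
  classical
  set J : Matrix (Fin 3 ⊕ Fin 3) (Fin 3 ⊕ Fin 3) k := Matrix.fromBlocks (0 : Matrix (Fin 3) (Fin 3) k) 1 1 0 with hJ
  have h1 : ∀ r c, (A.transpose * J) r c = A (Sum.elim Sum.inr Sum.inl c) r := by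
    intro r c
    rw [Matrix.mul_apply, Fintype.sum_sum_type]
    rcases c with c | c <;> simp [hJ, Matrix.one_apply]
  have h1' : ∀ r c, (J * A) r c = A (Sum.elim Sum.inr Sum.inl r) c := by
    intro r c
    rw [Matrix.mul_apply, Fintype.sum_sum_type]
    rcases r with r | r <;> simp [hJ, Matrix.one_apply]
  have h3 : LinearMap.range (Matrix.mulVecLin A.transpose) ≤
        Submodule.span k {Pi.single (Sum.inl 0 : Fin 3 ⊕ Fin 3) (1 : k), Pi.single (Sum.inl 1 : Fin 3 ⊕ Fin 3) (1 : k)} ↔
      ∀ j c, c ≠ Sum.inl 0 → c ≠ Sum.inl 1 → A j c = 0 := by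
    constructor
    · intro hr j c hc0 hc1
      have := hr ⟨Pi.single j 1, rfl⟩
      rw [Matrix.mulVecLin_apply, Matrix.mulVec_single_one, Submodule.mem_span_pair] at this
      obtain ⟨a, b, hab⟩ := this
      have := congrFun hab c
      simpa [hc0, hc1, eq_comm] using this
    · rintro hr _ ⟨v, rfl⟩
      rw [Matrix.mulVecLin_apply, Submodule.mem_span_pair]
      refine ⟨A.transpose.mulVec v (Sum.inl 0), A.transpose.mulVec v (Sum.inl 1), funext fun c => ?_⟩
      by_cases hc0 : c = Sum.inl 0
      · subst hc0; simp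
      by_cases hc1 : c = Sum.inl 1
      · subst hc1; simp
      simp [hc0, hc1, Matrix.mulVec, dotProduct, fun x => hr x c hc0 hc1]
  rw [h3]
  have h4 : A.transpose * J + J * A = 0 ↔
      ∀ r c, A (Sum.elim Sum.inr Sum.inl c) r + A (Sum.elim Sum.inr Sum.inl r) c = 0 := by
    rw [← Matrix.ext_iff]
    simp only [Matrix.add_apply, h1, h1', Matrix.zero_apply]
  rw [h4]
  constructor
  · rintro ⟨hs, hz⟩
    refine ⟨A (Sum.inr 0) (Sum.inl 1), Matrix.ext fun r c => ?_⟩
    have e1 := hs (Sum.inl 0) (Sum.inl 1)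
    simp only [Sum.elim_inl] at e1
    have hd : ∀ c', A (Sum.elim Sum.inr Sum.inl c') c' = 0 := fun c' => by
      have := hs c' c'
      rw [← two_mul] at this
      exact (mul_eq_zero.1 this).resolve_left h2
    by_cases hc : c = Sum.inl 0
    · subst hc
      by_cases hr : r = Sum.inr 1
      · subst hr; simp; exact eq_neg_of_add_eq_zero_left e1
      by_cases hr0 : r = Sum.inr 0
      · subst hr0; simpa using hd (Sum.inl 0)
      have := hs (Sum.elim Sum.inr Sum.inl r) (Sum.inl 0)
      rw [show Sum.elim Sum.inr Sum.inl (Sum.elim Sum.inr Sum.inl r) = r by cases r <;> rfl] at this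
      rw [hz _ (Sum.elim Sum.inr Sum.inl r) (by rintro h; cases r <;> simp_all) (by rintro h; cases r <;> simp_all),
        zero_add] at this
      simp [this, Matrix.single_apply, Ne.symm hr, Ne.symm hr0]
    by_cases hc1 : c = Sum.inl 1
    · subst hc1
      by_cases hr : r = Sum.inr 0
      · subst hr; simp
      by_cases hr0 : r = Sum.inr 1
      · subst hr0; simpa using hd (Sum.inl 1)
      have := hs (Sum.elim Sum.inr Sum.inl r) (Sum.inl 1)
      rw [show Sum.elim Sum.inr Sum.inl (Sum.elim Sum.inr Sum.inl r) = r by cases r <;> rfl] at this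
      rw [hz _ (Sum.elim Sum.inr Sum.inl r) (by rintro h; cases r <;> simp_all) (by rintro h; cases r <;> simp_all),
        zero_add] at this
      simp [this, Matrix.single_apply, Ne.symm hr, Ne.symm hr0]
    simp [hz r c hc hc1, Matrix.single_apply, Ne.symm hc, Ne.symm hc1]
  · rintro ⟨a, rfl⟩
    refine ⟨fun r c => ?_, fun j c hc0 hc1 => by simp [Matrix.single_apply, Ne.symm hc0, Ne.symm hc1]⟩
    rcases r with r | r <;> rcases c with c | c <;> fin_cases r <;> fin_cases c <;>
      simp [Matrix.single_apply]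

end Groth.Agent.S16016
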