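import Groth.Statements.S16017
import Mathlib.Analysis.Normed.Group.InfiniteSum
import Mathlib.Analysis.Real.Sqrt

set_option autoImplicit false
universe u
open W4c3ghconstell

namespace Groth.Agent.S16017

/-- Let ι index the irreducible representations, θ : ι → ℚ a weight negative at only finitely many
indices (the finite set D₋), h h' : ι → ℕ with h' ≤ h pointwise (the isotypic dimensions of an
object and of a sub-object) and Σ_i θ_i h_i summable. For a finite set D of indices put S_D = Σ_{i ∉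
D} θ_i h_i, d = #(D ∖ D₋), and θ̃_D = Σ_{i ∈ D} θ_i h'_i + (S_D / d) · Σ_{i ∈ D ∖ D₋} h'_i / h_i,
the modified weight attached to the parameters chosen for D (for D ⊇ D₋ the first sum is the
negative part plus the part over D ∖ D₋). Then θ̃_D tends to Σ_i θ_i h'_i as D grows through the
finite subsets of ι. (Here D runs over all finite sets of indices and a quotient by zero is zero;
the source lets D run over the finite subsets of the locus θ ≠ 0 containing D₋, and the same tail
estimate gives both.) -/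
theorem result {ι : Type u} [DecidableEq ι] (θ : ι → ℚ) (h h' : ι → ℕ)
    (hle : ∀ i, h' i ≤ h i) (hfin : {i | θ i < 0}.Finite)
    (hsum : Summable (fun i => (θ i : ℝ) * (h i : ℝ))) :
    Filter.Tendsto
      (fun D : Finset ι =>
        (∑ i ∈ D, (θ i : ℝ) * (h' i : ℝ)) +
          ((∑' i, if i ∈ D then (0 : ℝ) else (θ i : ℝ) * (h i : ℝ)) / ((D \ hfin.toFinset).card : ℝ)) *
            ∑ i ∈ D \ hfin.toFinset, ((h' i : ℝ) / (h i : ℝ)))
      Filter.atTop (nhds (∑' i, (θ i : ℝ) * (h' i : ℝ))) := by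
  classical
  have hg : Summable fun i => (θ i : ℝ) * (h' i : ℝ) := by
    refine Summable.of_norm_bounded (g := fun i => |(θ i : ℝ) * (h i : ℝ)|) hsum.abs fun i => ?_
    rw [Real.norm_eq_abs, abs_mul, abs_mul, Nat.abs_cast, Nat.abs_cast]
    exact mul_le_mul_of_nonneg_left (Nat.cast_le.2 (hle i)) (abs_nonneg _)
  have hT : Filter.Tendsto (fun D : Finset ι => ∑' i, if i ∈ D then (0 : ℝ) else (θ i : ℝ) * (h i : ℝ)) Filter.atTop (nhds 0) := by
    have h1 : ∀ D : Finset ι, (∑' i, if i ∈ D then (0 : ℝ) else (θ i : ℝ) * (h i : ℝ)) =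
        (∑' i, (θ i : ℝ) * (h i : ℝ)) - ∑ i ∈ D, (θ i : ℝ) * (h i : ℝ) := fun D => by
      have h2 : HasSum (fun i => if i ∈ D then (θ i : ℝ) * (h i : ℝ) else 0) (∑ i ∈ D, (θ i : ℝ) * (h i : ℝ)) := by
        convert hasSum_sum_of_ne_finset_zero (L := SummationFilter.unconditional ι) (s := D) (f := fun i => if i ∈ D then (θ i : ℝ) * (h i : ℝ) else 0)
          (fun i hi => if_neg hi) using 1
        exact Finset.sum_congr rfl fun i hi => (if_pos hi).symm
      rw [← (hsum.hasSum.sub h2).tsum_eq]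
      exact tsum_congr fun i => by split_ifs <;> simp
    simp only [h1]
    simpa using (tendsto_const_nhds (x := ∑' i, (θ i : ℝ) * (h i : ℝ))).sub hsum.hasSum
  have h2 : Filter.Tendsto (fun D : Finset ι =>
      ((∑' i, if i ∈ D then (0 : ℝ) else (θ i : ℝ) * (h i : ℝ)) / ((D \ hfin.toFinset).card : ℝ)) *
        ∑ i ∈ D \ hfin.toFinset, ((h' i : ℝ) / (h i : ℝ))) Filter.atTop (nhds 0) := by
    refine squeeze_zero_norm (fun D => ?_) (by simpa using hT.abs)
    rw [Real.norm_eq_abs, abs_mul, abs_div, Nat.abs_cast, div_mul_eq_mul_div]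
    rcases Nat.eq_zero_or_pos (D \ hfin.toFinset).card with hc | hc
    · rw [hc, Nat.cast_zero, div_zero]; exact abs_nonneg _
    rw [div_le_iff₀ (Nat.cast_pos.2 hc)]
    refine mul_le_mul_of_nonneg_left ?_ (abs_nonneg _)
    refine (Finset.abs_sum_le_sum_abs _ _).trans ?_
    calc ∑ i ∈ D \ hfin.toFinset, |(h' i : ℝ) / (h i : ℝ)| ≤ ∑ i ∈ D \ hfin.toFinset, (1 : ℝ) :=
          Finset.sum_le_sum fun i _ => by
            rw [abs_div, Nat.abs_cast, Nat.abs_cast]
            exact div_le_one_of_le₀ (Nat.cast_le.2 (hle i)) (Nat.cast_nonneg _)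
      _ = ((D \ hfin.toFinset).card : ℝ) := by simp
  have h5 : Filter.Tendsto (fun D : Finset ι => ∑ i ∈ D, (θ i : ℝ) * (h' i : ℝ)) Filter.atTop
      (nhds (∑' i, (θ i : ℝ) * (h' i : ℝ))) := hg.hasSum
  simpa using h5.add h2

end Groth.Agent.S16017
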