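import Groth.Statements.S16018
import Groth.Agent.Lib.GHConst3.Weight

set_option autoImplicit false
universe u v w x
open W4c3ghconstell

namespace Groth.Agent.S16018

/-- Let k be an algebraically closed field of characteristic zero, A a commutative Hopf algebra over k
which is a finitely generated domain and linearly reductive (the coordinate ring of a connected
reductive group G; irreducible representations of G are indexed by the simple subcoalgebras D of A),
R a Noetherian commutative k-algebra with a multiplicative A-coaction (an affine G-scheme X = Spec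
R), and M an R-module with a compatible A-coaction (a G-equivariant quasi-coherent module on X)
which is finite over R, is the sum of its isotypic components M_D, and has dim_k M_D = h(D) < ∞ for
every simple subcoalgebra D. Fix a weight θ from simple subcoalgebras to ℚ, negative at only
finitely many D, with Σ_D θ(D) h(D) = 0 (a convergent real series) and with θ(D) ≠ 0, h(D) ≠ 0 for
some D; the weight of a k-subspace N of M is the real series Σ_D θ(D) · dim_k (N ∩ M_D). Assume
moreover that θ(D) ≠ 0 for every simple subcoalgebra D. If M is θ-semistable, i.e. M has weight 0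
and every R-submodule of M stable under the coaction has weight ≥ 0, then M is generated as an
R-module by its isotypic components M_D with θ(D) < 0 (the generation property of θ-stable objects
thus extends to θ-semistable ones when θ vanishes nowhere). (Multiplicities are recorded as
dimensions of isotypic components, a rescaling of θ.) -/
theorem result (k : Type u) [Field k] [IsAlgClosed k] [CharZero k]
    (A : Type v) [CommRing A] [IsDomain A] [HopfAlgebra k A] [Algebra.FiniteType k A]
    (hred : HopfRep.IsLinearlyReductive k A)
    (R : Type w) [CommRing R] [Algebra k R] [IsNoetherianRing R] [HopfRep.Comod k A R] [GLin.IsCoactAlg k A R]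
    (M : Type x) [AddCommGroup M] [Module k M] [Module R M] [IsScalarTower k R M]
    [HopfRep.Comod k A M] [TameAct.IsHopfMod k A R M]
    (h : W4c3ghconstell.SimpSub k A → ℕ) (θ : W4c3ghconstell.SimpSub k A → ℚ)
    (hfin : {D | θ D < 0}.Finite) (hsum : HasSum (fun D => (θ D : ℝ) * (h D : ℝ)) 0)
    (hne : ∃ D, θ D ≠ 0 ∧ h D ≠ 0)
    (hM : W4c3ghconstell.IsConstellation k A R M h)
    (hθ : ∀ D, θ D ≠ 0)
    (hss : W4c3ghconstell.IsThetaSemistable k A R M θ) :
    W4c3ghconstell.genIn k A R M {D | θ D < 0} ⊤ = ⊤ := by
  classical
  have hsub : HopfRep.IsSubcomod (k := k) (A := A) ((⊤ : Submodule R M).restrictScalars k) :=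
    fun m _ => ⟨(LinearMap.id.codRestrict ((⊤ : Submodule R M).restrictScalars k) fun _ => trivial).rTensor A
      (HopfRep.Comod.coact (k := k) (A := A) m), by
        rw [← LinearMap.comp_apply, ← LinearMap.rTensor_comp, LinearMap.subtype_comp_codRestrict, LinearMap.rTensor_id, LinearMap.id_apply]⟩
  set N := W4c3ghconstell.genIn k A R M {D | θ D < 0} ⊤ with hN
  have heq : ∀ D, θ D < 0 → W4c3ghconstell.hilbAt M (N.restrictScalars k) D = W4c3ghconstell.hilbAt M ⊤ D := fun D hD => by
    rw [W4c3ghconstell.hilbAt, hN, GHConst3.genIn_inf _ _ (show D ∈ {D | θ D < 0} from hD), Submodule.restrictScalars_top]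
    rfl
  have hge := hss.2 N (GHConst3.isSubcomod_genIn _ hsub)
  have hall : ∀ D : W4c3ghconstell.SimpSub k A, W4c3ghconstell.isoComp M D.1 ≤ N.restrictScalars k := by
    intro D
    have hh : W4c3ghconstell.hilbAt M (N.restrictScalars k) D = W4c3ghconstell.hilbAt M ⊤ D := by
      rcases lt_or_gt_of_ne (hθ D) with hD | hD
      · exact heq D hD
      · exact GHConst3.theta_eq_imp h hM hsum le_top heq (by rw [GHConst3.theta_top h hM hsum]; exact hge) D hD
    rw [GHConst3.hilbAt_top h hM, ← (hM.2.2 D).2] at hh
    haveI := (hM.2.2 D).1
    exact inf_eq_right.1 (Submodule.eq_of_le_of_finrank_eq inf_le_right hh)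
  refine Submodule.eq_top_iff'.2 fun m => ?_
  exact (iSup_le hall : (⨆ D : W4c3ghconstell.SimpSub k A, W4c3ghconstell.isoComp M D.1) ≤ _) (hM.2.1 ▸ trivial)

end Groth.Agent.S16018
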