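import Groth.Statements.S16029
import Groth.Agent.Lib.AntiAff20.Hull
-- import your own Groth.Agent.* helpers here

set_option autoImplicit false
universe u
open CategoryTheory CategoryTheory.Limits AlgebraicGeometry MonoidalCategory MonObj
open GrpSch

namespace Groth.Agent.S16029

set_option linter.style.haveILetI false
set_option backward.isDefEq.respectTransparency.types false


/-- Over a field k, let G be a group scheme of finite type, G' an affine group scheme and u : G ⟶ G' a
homomorphism which is schematically dominant (its kernel ideal sheaf vanishes). Then u is faithfully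
flat and G' is of finite type over k. -/
theorem result
    (k : Type u) [Field k] (G G' : Over (Spec (CommRingCat.of k))) [GrpObj G] [GrpObj G']
    [LocallyOfFiniteType G.hom] [QuasiCompact G.hom] [IsAffine G'.left]
    (u : G ⟶ G') [IsMonHom u] (hdom : u.left.ker = ⊥) :
    Flat u.left ∧ Surjective u.left ∧ LocallyOfFiniteType G'.hom := by
  obtain ⟨A, cA, hA, ⟨e⟩⟩ := HopfPts19.exists_model G'
  let e' : AntiAff20.HX (k := k) A ≅ G' := (Grp.forget _).mapIso e
  haveI : IsMonHom e'.inv := e.inv.hom.isMonHom_hom
  let m : G ⟶ AntiAff20.HX A := u ≫ e'.inv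
  haveI : IsIso e'.inv.left := ((Over.forget _).mapIso e').isIso_inv
  haveI : QuasiCompact (u.left ≫ G'.hom) := by rw [Over.w]; infer_instance
  haveI : QuasiCompact u.left := QuasiCompact.of_comp u.left G'.hom
  have hinj : Function.Injective u.left.appTop := by
    rw [injective_iff_map_eq_zero]
    intro a ha
    have h := congrArg (fun I : G'.left.IdealSheafData => I.ideal ⟨⊤, isAffineOpen_top _⟩) hdom
    simp only [Scheme.Hom.ker_apply, Scheme.IdealSheafData.ideal_bot, Pi.bot_apply] at h
    exact h.le ha
  have hm : Function.Injective m.left.appTop := by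
    rw [Over.comp_left, Scheme.Hom.comp_appTop]
    haveI : IsIso e'.inv.left.appTop := inferInstanceAs (IsIso (e'.inv.left.app ⊤))
    exact hinj.comp (ConcreteCategory.bijective_of_isIso e'.inv.left.appTop).1
  have hft := AntiAff20.finiteType_of_injective m hm
  have hX : LocallyOfFiniteType (AntiAff20.HX (k := k) A).hom := by
    show LocallyOfFiniteType (Spec.map (CommRingCat.ofHom (algebraMap k A)))
    rw [HasRingHomProperty.Spec_iff (P := @LocallyOfFiniteType), CommRingCat.hom_ofHom, RingHom.finiteType_algebraMap]
    exact hft
  haveI hG' : LocallyOfFiniteType G'.hom := by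
    rw [← Over.w e'.inv]; infer_instance
  obtain ⟨h1, h2⟩ := AntiAff20.surjective_flat_of_injective_appTop u hinj
  exact ⟨h2, h1, hG'⟩

end Groth.Agent.S16029
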