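import Groth.Statements.S1603
import Groth.Agent.Lib.VB17.Proper
import Groth.Agent.Lib.CurveCoh17.AffPush
import Groth.Agent.Lib.CurveCoh17.Birational
import Groth.Agent.Lib.PushFin12.Basic
-- import your own Groth.Agent.* helpers here

set_option autoImplicit false
universe u
open CategoryTheory CategoryTheory.Limits AlgebraicGeometry
open Curves TopologicalSpace Groth.Agent.M1 Groth.Agent.M2 Groth.Agent.CurveCoh17

namespace Groth.Agent.S1603

/-- In the situation of the first part assume moreover that X is reduced, that H^0(X, O_X) → H^0(X',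
O_{X'}) is surjective and that the two H^1 have the same dimension. Then f is an isomorphism. -/
theorem result (k : Type u) [Field k] (X X' : Scheme.{u}) [X.Over (Spec (CommRingCat.of k))] [X'.Over (Spec (CommRingCat.of k))]
    [IsProper (X ↘ (Spec (CommRingCat.of k)))] [IsReduced X] (hdim : topologicalKrullDim X ≤ 1) (f : X' ⟶ X) [IsProper f] (hf : f ≫ (X ↘ (Spec (CommRingCat.of k))) = X' ↘ (Spec (CommRingCat.of k)))
    (U : X.Opens) (hU : Dense (U : Set X)) (hU' : Dense ((f ⁻¹ᵁ U : X'.Opens) : Set X')) (hfU : IsIso (f ∣_ U))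
    (h0 : Function.Surjective (f.app ⊤).hom) (h1 : Curv2.genus k X' = Curv2.genus k X) : IsIso f := by
  haveI := (isFinite_of_birational (X ↘ (Spec (CommRingCat.of k))) f hdim U hU').1
  haveI := VB17.isNoetherian_of_over (k := k) (X := X)
  haveI := VB17.isSeparated_of_over (k := k) (X := X)
  let P := (Scheme.Modules.pushforward f).obj (Coh.structureModule X')
  let φ : Coh.structureModule X ⟶ P := ClSub.unitToPush f
  obtain ⟨S, hS, hScl⟩ := exists_finset_closedPoints hdim (C := (U : Set X)ᶜ) U.isOpen.isClosed_compl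
    fun g hg hgC => hgC (mem_of_dense_of_maximal hU hg)
  haveI : Mono φ := Preadditive.mono_of_cancel_zero φ fun {A} g hg => by
    refine Scheme.Modules.hom_ext _ _ fun W => ?_
    ext a
    refine (injective_app_of_dense f U hU W (?_ : f.app W (g.app W a) = f.app W 0)).trans rfl
    rw [map_zero]
    have h1 : (g ≫ φ).app W a = (0 : A ⟶ P).app W a := by rw [hg]
    exact h1
  have hC : SuppIn (cokernel φ) S := ⟨hScl, fun x hx => eq_zero_stalk_cokernel φ x
    (surjective_stalkLin_unitToPush f U (by
      by_contra hxU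
      exact hx (Finset.mem_coe.1 (hS ▸ hxU : x ∈ (S : Set X)))))⟩
  let T : ShortComplex X.Modules := ShortComplex.mk φ (cokernel.π φ) (cokernel.condition φ)
  have hT : T.ShortExact := { exact := ShortComplex.exact_of_g_is_cokernel _ (cokernelIsCokernel φ) }
  have hs0 : Function.Surjective (hmap k φ 0) := fun y => by
    obtain ⟨c, hc⟩ := h0 (hh0 P y)
    refine ⟨(hh0 _).symm c, (hh0 P).injective ?_⟩
    rw [hh0_hmap, AddEquiv.apply_symm_apply]
    exact hc
  have hs1 : Function.Surjective (hmap k φ 1) := fun y => by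
    haveI := hC.subsingleton_HH 0
    exact (exact_hmap_hmap k hT 1 y).1 (Subsingleton.elim (α := Coh.HH X (cokernel φ) 1) _ _)
  haveI : (Coh.structureModule X').IsQuasicoherent := isQCoh_structureModule X'
  obtain ⟨e⟩ := nonempty_hequiv_push k f hf (Coh.structureModule X') 1
  haveI := VB17.fin_of_proper (k := k) (Coh.structureModule X) (CurveCoh17.isCoh_structureModule (X := X)) 1
  haveI := Module.Finite.of_surjective (hmap k φ 1) hs1
  have hi1 : Function.Injective (hmap k φ 1) :=
    (LinearMap.injective_iff_surjective_of_finrank_eq_finrank (show Module.finrank k (Coh.HH X (Coh.structureModule X) 1) =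
      Module.finrank k (Coh.HH X P 1) from h1.symm.trans e.finrank_eq.symm)).2 hs1
  have hC0 : ∀ z : Coh.HH X (cokernel φ) 0, z = 0 := fun z => by
    obtain ⟨y, hy⟩ := (exact_hmap_hdelta k hT 0 z).1 (hi1 (((exact_hdelta_hmap k hT 0 _).2 ⟨z, rfl⟩).trans
      (map_zero (hmap k φ 1)).symm))
    obtain ⟨c, rfl⟩ := hs0 y
    rw [← hy]
    exact (exact_hmap_hmap k hT 0 _).2 ⟨c, rfl⟩
  have hC00 : ∀ x, ∀ a : (cokernel φ).presheaf.stalk x, a = 0 := fun x a => by
    by_cases hx : x ∈ S
    · classical
      obtain ⟨s, hs⟩ := hC.exists_section ⊤ fun y => if h : y = x then h ▸ a else 0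
      have h2 := hs x hx trivial
      rw [dif_pos rfl] at h2
      have h3 : s = 0 := (hh0 (cokernel φ)).symm.injective ((hC0 _).trans (map_zero _).symm)
      rw [h3, map_zero] at h2
      exact h2.symm
    · exact hC.zero x hx a
  haveI : Epi φ := Preadditive.epi_of_isZero_cokernel φ ((IsZero.iff_id_eq_zero _).2 (by
    refine Scheme.Modules.hom_ext _ _ fun W => ?_
    ext a
    exact M1.section_ext _ _ fun x hx => (hC00 x _).trans (hC00 x _).symm))
  haveI : IsIso φ := isIso_of_mono_of_epi φ
  refine (IsZariskiLocalAtTarget.iff_of_iSup_eq_top (P := MorphismProperty.isomorphisms Scheme)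
    (fun W : X.affineOpens => (W : X.Opens)) (iSup_affineOpens_eq_top X)).2 fun W => ?_
  refine (isIso_morphismRestrict_iff_isIso_app (f := f) W.2).2
    ((ConcreteCategory.isIso_iff_bijective _).2 ?_)
  exact ConcreteCategory.bijective_of_isIso (φ.app W)


end Groth.Agent.S1603
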