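import Groth.Statements.S16030
import Mathlib
import Groth.Agent.Lib.H2Alg.WeakAss

set_option autoImplicit false
universe u
open CAlg

namespace Groth.Agent.S16030
open TensorProduct

/-- For a finite set F of points of the spectrum of a commutative ring A and an open subset U containing
F, some basic open D(a) contains F and is contained in U. -/
theorem result
    (A : Type u) [CommRing A] (F : Set (PrimeSpectrum A)) (hF : F.Finite)
    (U : TopologicalSpace.Opens (PrimeSpectrum A)) (hFU : F ⊆ (U : Set (PrimeSpectrum A))) :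
    ∃ a : A, F ⊆ (PrimeSpectrum.basicOpen a : Set (PrimeSpectrum A)) ∧ PrimeSpectrum.basicOpen a ≤ U := by
  classical
  obtain ⟨J, hJ⟩ := (PrimeSpectrum.isClosed_iff_zeroLocus_ideal _).1 U.isOpen.isClosed_compl
  have hmem : ∀ p, p ∈ (U : Set (PrimeSpectrum A)) ↔ ¬ J ≤ p.asIdeal := fun p => by
    have : p ∈ (U : Set (PrimeSpectrum A))ᶜ ↔ J ≤ p.asIdeal := by rw [hJ, PrimeSpectrum.mem_zeroLocus]; exact SetLike.coe_subset_coe
    rw [← this, Set.mem_compl_iff, not_not]
  have h : ¬ ((J : Set A) ⊆ ⋃ p ∈ (↑hF.toFinset : Set (PrimeSpectrum A)), (p.asIdeal : Set A)) := fun h => by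
    rcases F.eq_empty_or_nonempty with rfl | ⟨p₀, hp₀⟩
    · simpa using h J.zero_mem
    · obtain ⟨p, hp, hle⟩ := (Ideal.subset_union_prime p₀ p₀ fun p _ _ _ => p.isPrime).1 h
      exact (hmem p).1 (hFU (hF.mem_toFinset.1 hp)) hle
  obtain ⟨a, ha, han⟩ := Set.not_subset.1 h
  refine ⟨a, fun p hp => ?_, fun p hp => ?_⟩
  · exact fun h => han (Set.mem_biUnion (by simpa using hp) h)
  · exact (hmem p).2 fun h => hp (h ha)

end Groth.Agent.S16030
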