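import Mathlib.AlgebraicGeometry.Morphisms.Affine
import Mathlib.AlgebraicGeometry.Morphisms.FiniteType
import Mathlib.AlgebraicGeometry.Pullbacks
import Mathlib.CategoryTheory.Monoidal.Grp
import Groth.Agent.Lib.NPowAff3
-- import your own Groth.Agent.* helpers here

namespace GrpSch
end GrpSch

set_option autoImplicit false
universe u
open CategoryTheory CategoryTheory.Limits AlgebraicGeometry MonoidalCategory MonObj
open GrpSch

namespace Groth.Agent.S16033

/-- For a commutative group scheme G of finite type over a field and an integer n > 0, the n-th power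
homomorphism n_G : G ⟶ G is an affine morphism. -/
theorem result
    (k : Type u) [Field k] (G : Over (Spec (CommRingCat.of k))) [GrpObj G] [IsCommMonObj G]
    [LocallyOfFiniteType G.hom] [QuasiCompact G.hom] (n : ℕ) (hn : 0 < n) :
    IsAffineHom ((𝟙 G ^ n : G ⟶ G).left) := by
  exact Groth.Agent.NPowAff3.isAffineHom_pow G hn

end Groth.Agent.S16033
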