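import Groth.Statements.S1604
import Groth.Agent.Lib.CurveAmple18.Cartier

set_option autoImplicit false
universe u
open CategoryTheory CategoryTheory.Limits AlgebraicGeometry
open Variety

namespace Groth.Agent.S1604

/-- Let X be proper of dimension at most one over k and D an effective Cartier divisor with ideal sheaf
I. Then D is finite over k, and for E finite locally free of rank n and any invertible module L
inverse to I (so L plays the role of O_X(D)) one has deg(E ⊗ L) = n · dim_k H^0(X, O_D) + deg E. -/
theorem result (k : Type u) [Field k] (X : Scheme.{u}) [X.Over (Spec (CommRingCat.of k))] [IsProper (X ↘ (Spec (CommRingCat.of k)))] (hdim : topologicalKrullDim X ≤ 1)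
    (D : X.IdealSheafData) (hD : BlowUp.IsEffCartierIdeal D)
    (L : X.Modules) (hL : PicF.IsInvertible L) (hLD : ClSub.IsInverseOf L (ClSub.idealMod D))
    (n : ℕ) (E : X.Modules) (hE : FlatMod.IsFinLocFreeOfRank n E) :
    IsFinite (D.subschemeι ≫ (X ↘ (Spec (CommRingCat.of k)))) ∧
      Curv2.deg k X (CohB1.tensorMod E L) n = n * Module.finrank k (Coh.HH X (ClSub.quotMod D) 0) + Curv2.deg k X E n := by
  refine ⟨CurveAmple18.isFinite_divisor hdim hD, ?_⟩
  have hX := CurveAmple18.curveLike k X hdim
  obtain ⟨e⟩ := hLD
  have h1 := hX.deg_of_tensor_iso hL (M2.isInvertible_idealMod D hD) e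
  rw [CurveAmple18.deg_idealMod hdim hD] at h1
  have h2 := hX.deg_tensor hE ((M2.isInvertible_iff_isFinLocFreeOfRank_one L).1 hL)
  rw [Nat.mul_one, Nat.cast_one, one_mul] at h2
  rw [h2, neg_inj.1 h1.symm]
  ring

end Groth.Agent.S1604
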