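import Groth.Statements.S16044
import Groth.Agent.Lib.FibGamma15.Basic
-- import your own Groth.Agent.* helpers here

set_option autoImplicit false
universe u
open CategoryTheory CategoryTheory.Limits AlgebraicGeometry
open GrpSch

namespace Groth.Agent.S16044

/-- Let S be the spectrum of a discrete valuation ring and X a quasi-compact quasi-separated flat
S-scheme, with canonical morphism c : X ⟶ Spec Γ(X, O_X) over S. Then on each fibre over a point of
S the base change of c is schematically dominant (its kernel ideal sheaf vanishes). -/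
theorem result
    (A : Type u) [CommRing A] [IsDomain A] [IsDiscreteValuationRing A]
    (X : Scheme.{u}) (f : X ⟶ Spec (CommRingCat.of A)) [Flat f] [QuasiCompact f] [QuasiSeparated f]
    (g : Spec Γ(X, ⊤) ⟶ Spec (CommRingCat.of A)) (hg : X.toSpecΓ ≫ g = f) (s : ↥(Spec (CommRingCat.of A))) :
    (pullback.map f ((Spec (CommRingCat.of A)).fromSpecResidueField s) g ((Spec (CommRingCat.of A)).fromSpecResidueField s)
        X.toSpecΓ (𝟙 _) (𝟙 _) ((Category.comp_id f).trans hg.symm)
        ((Category.comp_id _).trans (Category.id_comp _).symm)).ker = ⊥ := by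
  obtain ⟨γ, rfl⟩ := Spec.map_surjective g
  subst hg
  generalize (Spec (CommRingCat.of A)).fromSpecResidueField s = c
  obtain ⟨ρ, rfl⟩ := Spec.map_surjective c
  haveI : CompactSpace X := (quasiCompact_iff_compactSpace (f := X.toSpecΓ ≫ Spec.map γ)).1 inferInstance
  haveI : QuasiCompact (pullback.map (X.toSpecΓ ≫ Spec.map γ) (Spec.map ρ) (Spec.map γ) (Spec.map ρ) X.toSpecΓ (𝟙 _) (𝟙 _)
      (by simp) (by simp)) := by
    haveI : CompactSpace ↥(pullback (X.toSpecΓ ≫ Spec.map γ) (Spec.map ρ)) :=
      (quasiCompact_iff_compactSpace (f := pullback.snd (X.toSpecΓ ≫ Spec.map γ) (Spec.map ρ))).1 inferInstance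
    exact (quasiCompact_iff_compactSpace _).2 inferInstance
  exact Groth.Agent.FibGamma15.ker_pullback_map_eq_bot X γ ρ

end Groth.Agent.S16044
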