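import Groth.Statements.S16045
import Groth.Agent.Lib.Pinch4.BaseChange

set_option autoImplicit false
universe u
open CategoryTheory CategoryTheory.Limits AlgebraicGeometry
open FlatMor

set_option backward.isDefEq.respectTransparency.types false

namespace Groth.Agent.S16045

/-- Let θ₁ : Y ⟶ X₁ and θ₂ : Y ⟶ X₂ be closed immersions of schemes over S and X their pushout in
schemes over S. For a flat morphism g : S' ⟶ S, the square obtained by base change along g is a
pushout in schemes over S': pinching along a closed subscheme commutes with flat base change. -/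
theorem result
    {S S' : Scheme.{u}} (g : S' ⟶ S) [Flat g]
    {Y X₁ X₂ X : Over S} (θ₁ : Y ⟶ X₁) (θ₂ : Y ⟶ X₂) [IsClosedImmersion θ₁.left] [IsClosedImmersion θ₂.left]
    (φ₁ : X₁ ⟶ X) (φ₂ : X₂ ⟶ X) (hX : IsPushout θ₁ θ₂ φ₁ φ₂) :
    IsPushout ((Over.pullback g).map θ₁) ((Over.pullback g).map θ₂)
      ((Over.pullback g).map φ₁) ((Over.pullback g).map φ₂) := by
  have hw : θ₁.left ≫ φ₁.left = θ₂.left ≫ φ₂.left := congrArg CommaMorphism.left hX.w
  have H := Pinch4.isPinch_of_cond (Pinch4.cond_of_closed (i := θ₁.left) (j := θ₂.left)) (hX.map (Over.forget S))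
  refine IsPushout.of_map (Over.forget S') ?_ (H.baseChange (hP := IsPullback.of_hasPullback X.hom g)
    (hX := Pinch4.isPullback_map φ₁.left X.hom g X₁.hom (Over.w φ₁) _ ?_ ?_)
    (hY := Pinch4.isPullback_map φ₂.left X.hom g X₂.hom (Over.w φ₂) _ ?_ ?_)
    (hZ := Pinch4.isPullback_map θ₁.left X₁.hom g Y.hom (Over.w θ₁) _ ?_ ?_)
    ?_ ?_ (Or.inl inferInstance)).isPushout
  · rw [← Functor.map_comp, hX.w, Functor.map_comp]
  all_goals first | exact pullback.lift_fst _ _ _ | exact pullback.lift_snd _ _ _ | apply pullback.hom_ext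
  · simp only [Category.assoc]
    erw [pullback.lift_fst, pullback.lift_fst]
    erw [pullback.lift_fst_assoc, pullback.lift_fst_assoc]
    exact congrArg (_ ≫ ·) hw
  · simp only [Category.assoc]
    erw [pullback.lift_snd, pullback.lift_snd, pullback.lift_snd, pullback.lift_snd]

end Groth.Agent.S16045
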