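import Groth.Statements.S16046
import Mathlib

set_option autoImplicit false
universe u
open TensorProduct
open ValRing

namespace Groth.Agent.S16046

section Aux
open Polynomial TensorProduct

lemma minpoly_map_dvd {K L K' : Type u} [Field K] [Field L] [Algebra K L] [FiniteDimensional K L]
    [Field K'] [Algebra K K'] (l : L) (q : K'[X]) (hq : aeval ((1 : K') ⊗ₜ[K] l) q = 0) :
    (minpoly K l).map (algebraMap K K') ∣ q := by
  set m := (minpoly K l).map (algebraMap K K') with hm
  have hmon : m.Monic := (minpoly.monic (IsIntegral.of_finite K l)).map _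
  have hm0 : aeval ((1 : K') ⊗ₜ[K] l) m = 0 := by
    rw [hm, aeval_map_algebraMap,
      show ((1 : K') ⊗ₜ[K] l) = (Algebra.TensorProduct.includeRight : L →ₐ[K] K' ⊗[K] L) l from rfl,
      aeval_algHom_apply, minpoly.aeval, map_zero]
  have hr : aeval ((1 : K') ⊗ₜ[K] l) (q %ₘ m) = 0 := by
    have := congrArg (aeval ((1 : K') ⊗ₜ[K] l)) (modByMonic_add_div q m)
    rw [map_add, map_mul, hm0, zero_mul, add_zero, hq] at this
    exact this
  rw [← modByMonic_eq_zero_iff_dvd hmon]
  have hdeg : (q %ₘ m).natDegree < (minpoly K l).natDegree := by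
    have h1 : m ≠ 1 := fun h => (minpoly.natDegree_pos (IsIntegral.of_finite K l)).ne' (by
      have := congrArg natDegree h
      simpa [hm, natDegree_map] using this)
    simpa [hm, natDegree_map] using natDegree_modByMonic_lt q hmon h1
  rw [aeval_eq_sum_range' hdeg] at hr
  have hli := Module.Flat.linearIndependent_one_tmul (S := K') (linearIndependent_pow (K := K) l)
  ext i
  rw [coeff_zero]
  rcases lt_or_ge i (minpoly K l).natDegree with hi | hi
  · refine Fintype.linearIndependent_iff.1 hli (fun j => (q %ₘ m).coeff j) ?_ ⟨i, hi⟩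
    rw [Finset.sum_range (fun j => (q %ₘ m).coeff j • ((1 : K') ⊗ₜ[K] l) ^ j)] at hr
    simpa [Algebra.TensorProduct.tmul_pow] using hr
  · exact coeff_eq_zero_of_natDegree_lt (hdeg.trans_le hi)

end Aux


/-- Surjectivity assertion: let A ⊆ A' be valuation rings with fraction fields K ⊆ K', A' dominating A
and A dense in A' for the valuation topology, and L a finite extension of K; put L' = K' ⊗_K L. Then
every element of L' modulo its nilradical which is integral over A' is a finite sum Σ a'ᵢ·lᵢ with
a'ᵢ ∈ A' and lᵢ ∈ L integral over A. (The published statement also identifies the kernel of the map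
from the tensor product with the nilradical; that part is not stated here.) -/
theorem result
    (A K L A' K' : Type u) [CommRing A] [IsDomain A] [ValuationRing A] [Field K] [Algebra A K] [IsFractionRing A K]
    [Field L] [Algebra K L] [FiniteDimensional K L] [Algebra A L] [IsScalarTower A K L]
    [CommRing A'] [IsDomain A'] [ValuationRing A'] [Field K'] [Algebra A' K'] [IsFractionRing A' K']
    [Algebra A A'] [IsLocalHom (algebraMap A A')] (hinj : Function.Injective (algebraMap A A'))
    [Algebra K K'] [Algebra A K'] [IsScalarTower A A' K'] [IsScalarTower A K K']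
    (hdense : ∀ a' b' : A', b' ≠ 0 → ∃ a : A, b' ∣ a' - algebraMap A A' a)
    (x : (K' ⊗[K] L) ⧸ nilradical (K' ⊗[K] L))
    (hx : ((Ideal.Quotient.mk (nilradical (K' ⊗[K] L))).comp
            ((Algebra.TensorProduct.includeLeft : K' →ₐ[K] K' ⊗[K] L).toRingHom.comp (algebraMap A' K'))).IsIntegralElem x) :
    ∃ (n : ℕ) (a : Fin n → A') (l : Fin n → L), (∀ i, IsIntegral A (l i)) ∧
      x = Ideal.Quotient.mk (nilradical (K' ⊗[K] L)) (∑ i, algebraMap A' K' (a i) ⊗ₜ[K] l i) := by
  classical
  let ι : A' →+* K' ⊗[K] L :=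
    ((Algebra.TensorProduct.includeLeft : K' →ₐ[K] K' ⊗[K] L).toRingHom.comp (algebraMap A' K'))
  let π := Ideal.Quotient.mk (nilradical (K' ⊗[K] L))
  obtain ⟨s, b, hb⟩ := FiniteDimensional.exists_is_basis_integral A K L
  let e := s.equivFin
  obtain ⟨y, rfl⟩ := Ideal.Quotient.mk_surjective x
  -- coordinates and their approximations
  let c := (b.baseChange K').repr y
  have happ : ∀ z : K', ∃ (k : K) (a : A'), z = algebraMap K K' k + algebraMap A' K' a := by
    intro z
    obtain ⟨a', b', hb'0, rfl⟩ := IsFractionRing.div_surjective A' z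
    have hb' : b' ≠ 0 := nonZeroDivisors.ne_zero hb'0
    by_cases hu : IsUnit b'
    · obtain ⟨v, hv⟩ := hu
      refine ⟨0, a' * ↑v⁻¹, ?_⟩
      rw [map_zero, zero_add, map_mul, map_units_inv, hv, div_eq_mul_inv]
    · obtain ⟨b0, hb0⟩ := hdense b' (b' * b') (mul_ne_zero hb' hb')
      obtain ⟨t, ht⟩ := hb0
      have hv : IsUnit (1 - b' * t) :=
        IsLocalRing.isUnit_one_sub_self_of_mem_nonunits _ (fun h => hu (isUnit_of_mul_isUnit_left h))
      obtain ⟨v, hv⟩ := hv
      have e0 : algebraMap A A' b0 = b' * v := by rw [hv]; linear_combination -ht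
      obtain ⟨a, ha⟩ := hdense (a' * v) (algebraMap A A' b0) (by rw [e0]; exact mul_ne_zero hb' v.ne_zero)
      obtain ⟨w, hw⟩ := ha
      have hK : ∀ r : A, algebraMap K K' (algebraMap A K r) = algebraMap A' K' (algebraMap A A' r) := fun r => by
        rw [← IsScalarTower.algebraMap_apply A K K', ← IsScalarTower.algebraMap_apply A A' K']
      refine ⟨algebraMap A K a / algebraMap A K b0, w, ?_⟩
      have hb'K : algebraMap A' K' b' ≠ 0 := (map_ne_zero_iff _ (IsFractionRing.injective A' K')).2 hb'
      have hvK : algebraMap A' K' (v : A') ≠ 0 := (map_ne_zero_iff _ (IsFractionRing.injective A' K')).2 v.ne_zero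
      have hw' := congrArg (algebraMap A' K') hw
      rw [e0, map_sub, map_mul, map_mul, map_mul] at hw'
      rw [map_div₀, hK, hK, e0, map_mul]
      field_simp
      linear_combination hw'
  choose k a hka using happ
  let l : L := ∑ i, k (c i) • b i
  have hy : y = (∑ i, algebraMap A' K' (a (c i)) ⊗ₜ[K] b i) + (1 : K') ⊗ₜ[K] l := by
    conv_lhs => rw [← (b.baseChange K').sum_repr y]
    simp only [l, TensorProduct.tmul_sum, TensorProduct.tmul_smul, ← Finset.sum_add_distrib]
    refine Finset.sum_congr rfl fun i _ => ?_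
    rw [Module.Basis.baseChange_apply, TensorProduct.smul_tmul', smul_eq_mul, mul_one,
      show ((b.baseChange K').repr y) i = c i from rfl]
    conv_lhs => rw [hka (c i), TensorProduct.add_tmul, add_comm]
    rw [Algebra.algebraMap_eq_smul_one (A := K') (k (c i)), ← TensorProduct.smul_tmul']
  -- the remainder is integral
  let ρ := π.comp ι
  letI : Algebra A' ((K' ⊗[K] L) ⧸ nilradical (K' ⊗[K] L)) := ρ.toAlgebra
  let incR : L →+* (K' ⊗[K] L) := (Algebra.TensorProduct.includeRight : L →ₐ[K] K' ⊗[K] L).toRingHom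
  have hcompat : (π.comp incR).comp (algebraMap A L) = ρ.comp (algebraMap A A') := by
    ext r
    simp only [RingHom.comp_apply, incR, ρ, ι]
    refine congrArg π ?_
    rw [IsScalarTower.algebraMap_apply A K L, ← IsScalarTower.algebraMap_apply A A' K',
      IsScalarTower.algebraMap_apply A K K']
    exact ((Algebra.TensorProduct.includeRight : L →ₐ[K] K' ⊗[K] L).commutes _).trans
      ((Algebra.TensorProduct.includeLeft : K' →ₐ[K] K' ⊗[K] L).commutes _).symm
  have hbint : ∀ i, ρ.IsIntegralElem (π (incR (b i))) := by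
    intro i
    obtain ⟨p, hp, hp0⟩ := hb i
    refine ⟨p.map (algebraMap A A'), hp.map _, ?_⟩
    rw [Polynomial.eval₂_map, ← hcompat]
    exact (Polynomial.hom_eval₂ p (algebraMap A L) (π.comp incR) (b i)).symm.trans (by rw [hp0, map_zero])
  have hlint : IsIntegral A' (π ((1 : K') ⊗ₜ[K] l)) := by
    have h1 : IsIntegral A' (π y) := hx
    have h2 : IsIntegral A' (π (∑ i, algebraMap A' K' (a (c i)) ⊗ₜ[K] b i)) := by
      rw [map_sum]
      refine IsIntegral.sum _ fun i _ => ?_
      have : algebraMap A' K' (a (c i)) ⊗ₜ[K] b i = ι (a (c i)) * incR (b i) := by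
        simp [ι, incR]
      rw [this, map_mul]
      exact isIntegral_algebraMap.mul (hbint i)
    have h3 := h1.sub h2
    rwa [← map_sub, hy, add_sub_cancel_left] at h3
  obtain ⟨p, hpm, hp⟩ := hlint
  have hnil : IsNilpotent (Polynomial.eval₂ ι ((1 : K') ⊗ₜ[K] l) p) := by
    rw [← mem_nilradical, ← Ideal.Quotient.eq_zero_iff_mem]
    exact (Polynomial.hom_eval₂ p ι π _).trans hp
  obtain ⟨N, hN⟩ := hnil
  have hdvd : (minpoly K l).map (algebraMap K K') ∣ (p ^ N).map (algebraMap A' K') := by
    refine minpoly_map_dvd l _ ?_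
    rw [Polynomial.aeval_def, Polynomial.eval₂_map, Polynomial.eval₂_pow]
    exact hN
  obtain ⟨g, hg⟩ := IsIntegrallyClosed.eq_map_mul_C_of_dvd K' (hpm.pow N) hdvd
  have hm := minpoly.monic (IsIntegral.of_finite K l)
  rw [(hm.map _).leadingCoeff, Polynomial.C_1, mul_one] at hg
  have hcoef : ∀ i, (minpoly K l).coeff i ∈ Set.range (algebraMap A K) := by
    intro i
    rcases ValuationRing.isInteger_or_isInteger A ((minpoly K l).coeff i) with h | h
    · exact h
    · obtain ⟨r, hr⟩ := h
      rcases eq_or_ne ((minpoly K l).coeff i) 0 with h0 | h0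
      · exact ⟨0, by rw [h0, map_zero]⟩
      have e : algebraMap A' K' (g.coeff i) = algebraMap K K' ((minpoly K l).coeff i) := by
        simpa using congrArg (fun p => p.coeff i) hg
      have hru : IsUnit (algebraMap A A' r) := by
        refine IsUnit.of_mul_eq_one (g.coeff i) (IsFractionRing.injective A' K' ?_)
        rw [map_mul, e, ← IsScalarTower.algebraMap_apply A A' K', IsScalarTower.algebraMap_apply A K K', hr,
          ← map_mul, inv_mul_cancel₀ h0, map_one, map_one]
      obtain ⟨v, hv⟩ := isUnit_of_map_unit (algebraMap A A') r hru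
      exact ⟨↑v⁻¹, by rw [map_units_inv, hv, hr, inv_inv]⟩
  have hlA : IsIntegral A l := by
    obtain ⟨q, hq, -, hqm⟩ := Polynomial.lifts_and_degree_eq_and_monic
      ((Polynomial.lifts_iff_coeff_lifts _).2 hcoef) hm
    exact ⟨q, hqm, by rw [IsScalarTower.algebraMap_eq A K L, ← Polynomial.eval₂_map, hq]; exact minpoly.aeval K l⟩
  refine ⟨s.card + 1, Fin.snoc (fun j => a (c (e.symm j))) 1, Fin.snoc (fun j => b (e.symm j)) l, ?_, ?_⟩
  · intro i
    induction i using Fin.lastCases with
    | last => simpa using hlA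
    | cast j => simpa using hb _
  · rw [Fin.sum_univ_castSucc]
    simp only [Fin.snoc_castSucc, Fin.snoc_last, map_one]
    rw [hy, e.symm.sum_comp fun i => algebraMap A' K' (a (c i)) ⊗ₜ[K] b i]

end Groth.Agent.S16046
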