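import Groth.Statements.S16048
import Groth.Agent.Lib.ArtFun.PS

set_option autoImplicit false
universe u v
open CategoryTheory
open ArtFun

namespace Groth.Agent.S16048

/-- Let Λ be a complete local Noetherian ring with residue field k and F a functor on Artinian local
Λ-algebras with residue field k which admits a hull. A family ξ of F over a complete local
Noetherian Λ-algebra R with residue field k such that R is isomorphic over Λ to a power series ring
Λ[[t_1, …, t_n]] and the induced map on tangent spaces h_R(k[ε]) → F(k[ε]) is bijective is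
miniversal. (The source states this for the deformation functor of a rational double point over the
Witt vectors of an algebraically closed field, with the Kodaira–Spencer map as the tangent map and
the existence of a hull taken from Schlessinger's criteria; the argument uses only the existence of
a hull, so the hull is carried as a hypothesis and Λ is any complete local Noetherian ring with
residue field k.) -/
theorem result {Λ : Type u} {k : Type u}
    [CommRing Λ] [Field k] [Algebra Λ k] [IsNoetherianRing Λ] [Module.Finite Λ k]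
    [IsLocalRing Λ] [IsAdicComplete (IsLocalRing.maximalIdeal Λ) Λ]
    (hk : Function.Surjective (algebraMap Λ k))
    {F : ArtFun.Art Λ k ⥤ Type v} (hF : ArtFun.HasHull F)
    (R : ArtFun.CRing Λ k) (n : ℕ) (e : R.carrier ≃ₐ[Λ] MvPowerSeries (Fin n) Λ)
    (ξ : ArtFun.Family R.carrier R.res F)
    (hξ : Function.Bijective (ArtFun.TangentSpace.ofFamily ξ)) :
    ArtFun.IsMiniversal ξ := by
  obtain ⟨⟨R₀, ξ₀, h₀⟩⟩ := hF
  have h0 : ArtFun.H0 F := Groth.Agent.ArtFunLib.h0_of_surjective fun y => by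
    obtain ⟨φ, hφ⟩ := h₀.2.2 (F.map ArtFun.Art.baseToDual y)
    refine ⟨ArtFun.HomSet.map (ArtFun.Art.toBase _) φ, ?_⟩
    rw [ξ₀.natural, hφ, ← Groth.Agent.ArtFunLib.map_comp',
      show ArtFun.Art.baseToDual ≫ ArtFun.Art.toBase (ArtFun.Art.dual Λ k) = 𝟙 _ from
        Groth.Agent.ArtFunLib.hom_ext' fun _ => rfl,
      Groth.Agent.ArtFunLib.map_id']
  obtain ⟨h, hh, hhu⟩ := Groth.Agent.ArtFunLib.exists_along h₀.1 h0 ξ.toFormalElt
  have e' := Groth.Agent.ArtFunLib.family_ext hhu
  have happ : ∀ (A : ArtFun.Art Λ k) (φ : ArtFun.HomSet R.carrier R.res A),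
      ξ.app A φ = ξ₀.app A ⟨φ.1.comp h, by rw [← AlgHom.comp_assoc, φ.2, hh]⟩ := fun A φ =>
    (congrArg (fun ζ : ArtFun.Family R.carrier R.res F => ζ.app A φ) e').symm
  have hhs : Function.Surjective h := by
    refine Groth.Agent.ArtFunLib.surjective_of_dual_injective h hh fun a b hab => hξ.1 ?_
    change ξ.app _ a = ξ.app _ b
    rw [happ, happ]
    exact congrArg _ (Groth.Agent.ArtFunLib.homSet_ext hab)
  let L : ArtFun.CRing Λ k :=
    { carrier := Λ, res := Algebra.ofId Λ k, res_surjective := hk, isAdicComplete := inferInstance }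
  have hL : ∀ (A : ArtFun.Art Λ k) (φ ψ : ArtFun.HomSet L.carrier L.res A), φ = ψ := fun A φ ψ =>
    Groth.Agent.ArtFunLib.homSet_ext fun (r : Λ) => (φ.1.commutes r).trans (ψ.1.commutes r).symm
  have hsm : ArtFun.IsSmoothFunctor (ArtFun.hR R.carrier R.res) := fun B A μ hμ φ => by
    obtain ⟨ψ, hψ, -⟩ := Groth.Agent.ArtFunLib.versal_of_ps_equiv (R := L) (S := R)
      (Algebra.ofId Λ R.carrier) (AlgHom.ext fun r => R.res.commutes r) e (fun r => e.commutes r) μ hμ φ
      (⟨Algebra.ofId Λ B, AlgHom.ext fun r => B.res.commutes r⟩ : ArtFun.HomSet L.carrier L.res B)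
      (hL _ _ _)
    exact ⟨ψ, hψ⟩
  obtain ⟨s, hs, hhs'⟩ := Groth.Agent.ArtFunLib.exists_lift_of_smooth hsm h hh hhs (AlgHom.id Λ _)
    (AlgHom.comp_id _)
  have hss : Function.Surjective s := by
    refine Groth.Agent.ArtFunLib.surjective_of_dual_injective s hs fun a b hab => ?_
    obtain ⟨a', ha'⟩ := hξ.2 (ξ₀.app _ a)
    obtain ⟨b', hb'⟩ := hξ.2 (ξ₀.app _ b)
    have ea := h₀.2.1 ((happ _ a').symm.trans ha')
    have eb := h₀.2.1 ((happ _ b').symm.trans hb')
    have hab' : a' = b' := Groth.Agent.ArtFunLib.homSet_ext fun r => by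
      obtain ⟨w, rfl⟩ := hhs r
      have hw : a'.1 (h (s (h w))) = b'.1 (h (s (h w))) := by
        have h1 := congrArg (fun χ : ArtFun.HomSet R₀.carrier R₀.res (ArtFun.Art.dual Λ k) => χ.1 (s (h w))) ea
        have h2 := congrArg (fun χ : ArtFun.HomSet R₀.carrier R₀.res (ArtFun.Art.dual Λ k) => χ.1 (s (h w))) eb
        exact h1.trans ((hab _).trans h2.symm)
      rwa [show h (s (h w)) = h w from AlgHom.congr_fun hhs' _] at hw
    exact ea.symm.trans ((congrArg (fun χ : ArtFun.HomSet R.carrier R.res (ArtFun.Art.dual Λ k) =>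
      (⟨χ.1.comp h, by rw [← AlgHom.comp_assoc, χ.2, hh]⟩ :
        ArtFun.HomSet R₀.carrier R₀.res (ArtFun.Art.dual Λ k))) hab').trans eb)
  have hsh : ∀ w, s (h w) = w := fun w => by
    obtain ⟨r, rfl⟩ := hss w
    exact congrArg s (AlgHom.congr_fun hhs' r)
  refine ⟨fun B A μ hμ φ y hy => ?_, hξ⟩
  rw [happ] at hy
  obtain ⟨ψ, hψ1, hψ2⟩ := h₀.1 μ hμ _ y hy
  refine ⟨⟨ψ.1.comp s, by rw [← AlgHom.comp_assoc, ψ.2, hs]⟩, Groth.Agent.ArtFunLib.homSet_ext fun r =>
    (congrArg (fun χ : ArtFun.HomSet R₀.carrier R₀.res A => χ.1 (s r)) hψ1).trans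
      (congrArg φ.1 (AlgHom.congr_fun hhs' r)), ?_⟩
  rw [happ, ← hψ2]
  exact congrArg _ (Groth.Agent.ArtFunLib.homSet_ext fun w => congrArg ψ.1 (hsh w))

end Groth.Agent.S16048
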