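import Groth.Statements.S1605
import Groth.Agent.Lib.CurveH1Min27.Bound
-- import your own Groth.Agent.* helpers here

set_option autoImplicit false
universe u
open CategoryTheory CategoryTheory.Limits AlgebraicGeometry
open Curves

namespace Groth.Agent.S1605

/-- Let X be proper over k, reduced, connected, of dimension one; L an invertible module; Z a closed
subscheme of dimension zero with ideal sheaf I. If H^1(X, I ⊗ L) ≠ 0, then there is a reduced
connected closed subscheme Y of X of dimension one with deg(L|_Y) ≤ -2 χ(Y, O_Y) + deg(Z ∩ Y), the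
scheme-theoretic intersection having degree dim_k H^0 of its structure sheaf. -/
theorem result (k : Type u) [Field k] (X : Scheme.{u}) [X.Over (Spec (CommRingCat.of k))] [IsProper (X ↘ (Spec (CommRingCat.of k)))] [IsReduced X] [ConnectedSpace X]
    (hdim : topologicalKrullDim X = 1) (L : X.Modules) (hL : PicF.IsInvertible L)
    (Z : X.IdealSheafData) (hZ : topologicalKrullDim (Z.support : Set X) ≤ 0)
    (h1 : Nontrivial (Coh.HH X (CohB1.tensorMod (ClSub.idealMod Z) L) 1)) :
    ∃ (J : X.IdealSheafData), IsReduced J.subscheme ∧ ConnectedSpace J.subscheme ∧ topologicalKrullDim J.subscheme = 1 ∧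
      @Curv2.deg k _ J.subscheme ⟨J.subschemeι ≫ (X ↘ (Spec (CommRingCat.of k)))⟩ ((Scheme.Modules.pullback J.subschemeι).obj L) 1 ≤
        -2 * @Curv2.euler k _ J.subscheme ⟨J.subschemeι ≫ (X ↘ (Spec (CommRingCat.of k)))⟩ (Coh.structureModule J.subscheme) +
          Module.finrank k (Coh.HH X (ClSub.quotMod (Z ⊔ J)) 0) := by
  obtain ⟨T, hT, -, hconn, hdimT, hle⟩ := CurveH1Min27.exists_degree_bound (k := k) hdim hL Z hZ h1
  refine ⟨Scheme.IdealSheafData.vanishingIdeal ⟨T, hT⟩, TFOne27.isReduced_sub T hT, hconn, hdimT, ?_⟩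
  rw [TFOne27.delta_OT k T hT ((M2.isInvertible_iff_isFinLocFreeOfRank_one L).1 hL),
    TFOne27.euler_push T hT _ (M1.isQCoh_structureModule _)] at hle
  exact hle


end Groth.Agent.S1605
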