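import Groth.Statements.S16050
import Groth.Agent.Lib.CKaehlerFree3.Frob
import Mathlib

set_option autoImplicit false
universe u
open CategoryTheory
open LCI

namespace Groth.Agent.S16050
open CategoryTheory Abelian IsLocalRing

open Groth.Agent

theorem ext_of_resolution {R : Type u} [CommRing R] (Ω : Type u) [AddCommGroup Ω] [Module R Ω] {n : ℕ} (v : Fin n → R)
    (g : (Fin n → R) →ₗ[R] Ω) (hg : Function.Surjective g) (hker : LinearMap.ker g = Submodule.span R {v})
    (hinj : ∀ r : R, r • v = 0 → r = 0) :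
    Subsingleton (Ext (ModuleCat.of R Ω) (ModuleCat.of R R) 2) ∧
      Nonempty (Ext (ModuleCat.of R Ω) (ModuleCat.of R R) 1 ≃ₗ[R] (R ⧸ Ideal.span (Set.range v))) := by
  classical
  let f1 : R →ₗ[R] (Fin n → R) := LinearMap.toSpanSingleton R _ v
  have hfg : g.comp f1 = 0 := LinearMap.ext fun r => by
    show g (r • v) = 0
    rw [← LinearMap.mem_ker, hker]
    exact Submodule.smul_mem _ _ (Submodule.mem_span_singleton_self v)
  let S : ShortComplex (ModuleCat.{u} R) := ShortComplex.mk (ModuleCat.ofHom f1) (ModuleCat.ofHom g)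
    (by rw [← ModuleCat.ofHom_comp, hfg]; rfl)
  haveI : Mono S.f := (ModuleCat.mono_iff_injective _).2 (LinearMap.ker_eq_bot.1 (LinearMap.ker_eq_bot'.2 hinj))
  haveI : Epi S.g := (ModuleCat.epi_iff_surjective _).2 hg
  have hS : S.ShortExact :=
    { exact := (ShortComplex.moduleCat_exact_iff _).2 fun x hx => by
        have hx' : x ∈ LinearMap.ker g := hx
        rw [hker, Submodule.mem_span_singleton] at hx'
        exact hx' }
  have hz : ∀ (X : ModuleCat.{u} R) [Projective X] (m : ℕ) (x : Ext X (ModuleCat.of R R) (m + 1)), x = 0 :=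
    fun X _ m x => Ext.eq_zero_of_projective x
  haveI : Projective S.X₁ := inferInstanceAs (Projective (ModuleCat.of R R))
  haveI : Projective S.X₂ := inferInstanceAs (Projective (ModuleCat.of R (Fin n → R)))
  refine ⟨⟨fun a b => ?_⟩, ?_⟩
  · have h : ∀ x : Ext S.X₃ (ModuleCat.of R R) 2, x = 0 := fun x => by
      obtain ⟨y, hy⟩ := Ext.contravariant_sequence_exact₃ hS (ModuleCat.of R R) x (hz _ 1 _) (n₀ := 1) rfl
      rw [← hy, hz _ 0 y, Ext.comp_zero]
    exact (h a).trans (h b).symm
  let δ : R →ₗ[R] Ext S.X₃ (ModuleCat.of R R) 1 :=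
    { toFun := fun r => hS.extClass.comp (Ext.mk₀ (r • 𝟙 (ModuleCat.of R R))) (add_zero 1)
      map_add' := fun a b => by rw [add_smul, Ext.mk₀_add, Ext.comp_add]
      map_smul' := fun a b => by rw [smul_eq_mul, mul_smul, Ext.mk₀_smul, Ext.comp_smul, RingHom.id_apply] }
  have hδ : Function.Surjective δ := fun x => by
    obtain ⟨y, hy⟩ := Ext.contravariant_sequence_exact₃ hS (ModuleCat.of R R) x (hz _ 0 _) (n₀ := 0) rfl
    obtain ⟨φ, rfl⟩ := Ext.homEquiv₀.symm.surjective y
    refine ⟨φ.hom (1 : R), ?_⟩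
    rw [← hy, Ext.homEquiv₀_symm_apply]
    show hS.extClass.comp (Ext.mk₀ ((φ.hom (1 : R)) • 𝟙 (ModuleCat.of R R))) (add_zero 1) = hS.extClass.comp (Ext.mk₀ φ) (add_zero 1)
    congr 2
    refine ModuleCat.hom_ext (LinearMap.ext_ring ?_)
    show (φ.hom (1 : R)) * 1 = φ.hom (1 : R)
    rw [mul_one]
  have hk : LinearMap.ker δ = Ideal.span (Set.range v) := by
    ext r
    rw [LinearMap.mem_ker]
    constructor
    · intro hr
      obtain ⟨y, hy⟩ := Ext.contravariant_sequence_exact₁ hS (ModuleCat.of R R)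
        (Ext.mk₀ (r • 𝟙 (ModuleCat.of R R))) (n₁ := 1) (add_zero 1) hr
      obtain ⟨φ, rfl⟩ := Ext.homEquiv₀.symm.surjective y
      rw [Ext.homEquiv₀_symm_apply, Ext.mk₀_comp_mk₀] at hy
      have h := Ext.homEquiv₀.symm.injective hy
      have h1 : φ.hom ((1 : R) • v) = r * 1 := congr($(h).hom (1 : R))
      rw [one_smul, mul_one, pi_eq_sum_univ v, map_sum] at h1
      rw [← h1]
      refine sum_mem fun i _ => ?_
      rw [map_smul]
      exact Ideal.mul_mem_right _ _ (Ideal.subset_span ⟨i, rfl⟩)
    · intro hr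
      induction hr using Submodule.span_induction with
      | mem r hr =>
        obtain ⟨i, rfl⟩ := hr
        show hS.extClass.comp (Ext.mk₀ (v i • 𝟙 (ModuleCat.of R R))) (add_zero 1) = 0
        have h : v i • 𝟙 (ModuleCat.of R R) = S.f ≫ ModuleCat.ofHom (LinearMap.proj i) := by
          refine ModuleCat.hom_ext (LinearMap.ext_ring ?_)
          show v i * 1 = ((1 : R) • v) i
          rw [one_smul, mul_one]
        rw [h, ← Ext.mk₀_comp_mk₀, hS.extClass_comp_assoc]
      | zero => exact map_zero δ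
      | add a b _ _ ha hb => rw [map_add, ha, hb, add_zero]
      | smul c a _ ha => rw [map_smul, ha, smul_zero]
  exact ⟨((Submodule.quotEquivOfEq _ _ hk.symm).trans (δ.quotKerEquivOfSurjective hδ)).symm⟩

theorem presentation {k S : Type u} [CommRing k] [CommRing S] [Algebra k S] {n : ℕ} (D' : Fin n → Derivation k S S)
    (x : Fin n → S) (hx : ∀ i, D' i (x i) = 1) (hx' : ∀ i j, i ≠ j → D' i (x j) = 0)
    (hD : ∀ s : S, KaehlerDifferential.D k S s = ∑ i, D' i s • KaehlerDifferential.D k S (x i)) (f : S) :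
    ∃ g : (Fin n → S ⧸ Ideal.span {f}) →ₗ[S ⧸ Ideal.span {f}] (Ω[(S ⧸ Ideal.span {f})⁄k]), Function.Surjective g ∧
      LinearMap.ker g = Submodule.span (S ⧸ Ideal.span {f}) {fun i => Ideal.Quotient.mk (Ideal.span {f}) (D' i f)} := by
  classical
  set q := Ideal.Quotient.mk (Ideal.span {f}) with hq
  have hf0 : q f = 0 := Ideal.Quotient.eq_zero_iff_mem.2 (Ideal.mem_span_singleton_self f)
  let g : (Fin n → S ⧸ Ideal.span {f}) →ₗ[S ⧸ Ideal.span {f}] (Ω[(S ⧸ Ideal.span {f})⁄k]) :=
    Fintype.linearCombination (S ⧸ Ideal.span {f}) fun i => KaehlerDifferential.D k _ (q (x i))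
  have hgval : ∀ s : S, g (fun i => q (D' i s)) = KaehlerDifferential.D k _ (q s) := fun s => by
    have h := congrArg (KaehlerDifferential.map k k S (S ⧸ Ideal.span {f})) (hD s)
    rw [KaehlerDifferential.map_D, map_sum] at h
    rw [show q s = algebraMap S (S ⧸ Ideal.span {f}) s from rfl, h, Fintype.linearCombination_apply]
    refine Finset.sum_congr rfl fun i _ => ?_
    rw [map_smul, KaehlerDifferential.map_D]
    exact (IsScalarTower.algebraMap_smul (S ⧸ Ideal.span {f}) (D' i s) _)
  refine ⟨g, ?_, le_antisymm (fun c hc => ?_) ?_⟩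
  · rw [← LinearMap.range_eq_top, eq_top_iff, ← KaehlerDifferential.span_range_derivation k, Submodule.span_le]
    rintro _ ⟨y, rfl⟩
    obtain ⟨s, rfl⟩ := Ideal.Quotient.mk_surjective y
    exact ⟨_, hgval s⟩
  · set N := Submodule.span (S ⧸ Ideal.span {f}) {fun i => q (D' i f)} with hN
    let L : S →ₗ[k] (Fin n → S ⧸ Ideal.span {f}) := LinearMap.pi fun i =>
      (Algebra.linearMap S (S ⧸ Ideal.span {f})).restrictScalars k ∘ₗ (D' i).toLinearMap
    have hL : ∀ s i, L s i = q (D' i s) := fun _ _ => rfl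
    let δ : Derivation k (S ⧸ Ideal.span {f}) ((Fin n → S ⧸ Ideal.span {f}) ⧸ N) := by
      refine Derivation.mk' ((Submodule.restrictScalars k (Ideal.span {f})).liftQ
        ((N.mkQ.restrictScalars k).comp L) ?_) ?_
      · intro y hy
        obtain ⟨a, rfl⟩ := Ideal.mem_span_singleton'.1 hy
        rw [LinearMap.mem_ker, LinearMap.comp_apply, LinearMap.restrictScalars_apply, Submodule.mkQ_apply,
          Submodule.Quotient.mk_eq_zero, hN, Submodule.mem_span_singleton]
        refine ⟨q a, funext fun i => ?_⟩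
        rw [hL, Derivation.leibniz, map_add, smul_eq_mul, smul_eq_mul, map_mul, map_mul, hf0, zero_mul, add_zero]
        rfl
      · intro a b
        obtain ⟨a, rfl⟩ := Ideal.Quotient.mk_surjective a
        obtain ⟨b, rfl⟩ := Ideal.Quotient.mk_surjective b
        show N.mkQ (L (a * b)) = q a • N.mkQ (L b) + q b • N.mkQ (L a)
        rw [← map_smul N.mkQ, ← map_smul N.mkQ, ← map_add N.mkQ]
        congr 1
        funext i
        rw [hL, Pi.add_apply, Pi.smul_apply, Pi.smul_apply, hL, hL, Derivation.leibniz, map_add, smul_eq_mul,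
          smul_eq_mul, smul_eq_mul, smul_eq_mul, map_mul, map_mul]
    have hback : (δ.liftKaehlerDifferential).comp g = N.mkQ := by
      refine (Pi.basisFun _ (Fin n)).ext fun j => ?_
      rw [LinearMap.comp_apply, Pi.basisFun_apply, Fintype.linearCombination_apply_single, one_smul,
        Derivation.liftKaehlerDifferential_comp_D]
      show N.mkQ (L (x j)) = N.mkQ _
      congr 1
      funext i
      rw [hL]
      rcases eq_or_ne i j with rfl | hij
      · rw [hx, Pi.single_eq_same, map_one]
      · rw [hx' i j hij, Pi.single_eq_of_ne hij, map_zero]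
    have h := LinearMap.congr_fun hback c
    rw [LinearMap.comp_apply, LinearMap.mem_ker.1 hc, map_zero, Submodule.mkQ_apply, eq_comm,
      Submodule.Quotient.mk_eq_zero] at h
    exact h
  · rw [Submodule.span_le, Set.singleton_subset_iff, SetLike.mem_coe, LinearMap.mem_ker, hgval, hf0, map_zero]

/-- Let k be an algebraically closed field of characteristic p > 0, P = k[[x, y, z]] the power series
ring in three variables, f a non-unit of P defining an isolated singularity — some power of the
maximal ideal of P is contained in (f) + J, where J is the ideal generated by the values D(f) of all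
k-derivations D of P (the Jacobian ideal (f_x, f_y, f_z)) — and R₀ = P/(f). Then Ext²_{R₀}(Ω_{R₀/k},
R₀) = 0 and Ext¹_{R₀}(Ω_{R₀/k}, R₀) is isomorphic as an R₀-module to R₀/J R₀, the Tjurina algebra
(existence of an R₀-linear isomorphism only; the source obtains it from the boundary map of the
dualized conormal sequence). The source states this for the normal form of a rational double point;
the hypotheses used are those given here. Here Ω is the module of Kähler differentials of the
k-algebra R₀. (The lemma also identifies first-order deformations of R₀ with this Ext¹ group; that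
identification is quoted there from another work and is not part of this row.) -/
theorem result (k : Type u) [Field k] [IsAlgClosed k]
    (p : ℕ) [Fact p.Prime] [CharP k p]
    (f : MvPowerSeries (Fin 3) k) (hf : f ∈ IsLocalRing.maximalIdeal (MvPowerSeries (Fin 3) k))
    (hiso : ∃ N : ℕ, IsLocalRing.maximalIdeal (MvPowerSeries (Fin 3) k) ^ N ≤
      Ideal.span {f} ⊔ Ideal.span {g | ∃ D : Derivation k (MvPowerSeries (Fin 3) k) (MvPowerSeries (Fin 3) k), g = D f}) :
    Subsingleton (Abelian.Ext
        (ModuleCat.of (MvPowerSeries (Fin 3) k ⧸ Ideal.span {f})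
          (KaehlerDifferential k (MvPowerSeries (Fin 3) k ⧸ Ideal.span {f})))
        (ModuleCat.of (MvPowerSeries (Fin 3) k ⧸ Ideal.span {f}) (MvPowerSeries (Fin 3) k ⧸ Ideal.span {f})) 2) ∧
      Nonempty (Abelian.Ext
        (ModuleCat.of (MvPowerSeries (Fin 3) k ⧸ Ideal.span {f})
          (KaehlerDifferential k (MvPowerSeries (Fin 3) k ⧸ Ideal.span {f})))
        (ModuleCat.of (MvPowerSeries (Fin 3) k ⧸ Ideal.span {f}) (MvPowerSeries (Fin 3) k ⧸ Ideal.span {f})) 1 ≃ₗ[MvPowerSeries (Fin 3) k ⧸ Ideal.span {f}]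
        ((MvPowerSeries (Fin 3) k ⧸ Ideal.span {f}) ⧸ Ideal.map (Ideal.Quotient.mk (Ideal.span {f}))
          (Ideal.span {g | ∃ D : Derivation k (MvPowerSeries (Fin 3) k) (MvPowerSeries (Fin 3) k), g = D f}))) := by
  classical
  haveI : PerfectRing k p := PerfectField.toPerfectRing p
  have hk : (frobenius k p).Finite := RingHom.Finite.of_surjective _ (surjective_frobenius k p)
  have hspan := CKaehlerFree3.span_D_X_eq_top p hk 3
  -- the coordinates of a differential
  let d : Derivation k (MvPowerSeries (Fin 3) k) (Fin 3 → (MvPowerSeries (Fin 3) k)) := Derivation.mk' (LinearMap.pi fun i => (MvPowerSeries.pderiv k i).toLinearMap)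
    fun a b => funext fun i => Derivation.leibniz (MvPowerSeries.pderiv k i) a b
  let φ : Ω[(MvPowerSeries (Fin 3) k)⁄k] →ₗ[(MvPowerSeries (Fin 3) k)] (Fin 3 → (MvPowerSeries (Fin 3) k)) := d.liftKaehlerDifferential
  have hφ : ∀ s, φ (KaehlerDifferential.D k (MvPowerSeries (Fin 3) k) s) = fun i => MvPowerSeries.pderiv k i s :=
    fun s => d.liftKaehlerDifferential_comp_D s
  have hD : ∀ s : (MvPowerSeries (Fin 3) k), KaehlerDifferential.D k (MvPowerSeries (Fin 3) k) s =
      ∑ i, MvPowerSeries.pderiv k i s • KaehlerDifferential.D k (MvPowerSeries (Fin 3) k) (MvPowerSeries.X i) := by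
    intro s
    obtain ⟨c, hc⟩ := (Submodule.mem_span_range_iff_exists_fun (MvPowerSeries (Fin 3) k)).1
      (hspan.ge (Submodule.mem_top (x := KaehlerDifferential.D k (MvPowerSeries (Fin 3) k) s)))
    have h := congrArg φ hc
    rw [hφ, map_sum] at h
    rw [← hc]
    refine Finset.sum_congr rfl fun i _ => ?_
    congr 1
    have hi := congrFun h i
    simp only [Finset.sum_apply, map_smul, hφ, Pi.smul_apply, smul_eq_mul] at hi
    rw [← hi, Finset.sum_eq_single i (fun j _ hj => by rw [MvPowerSeries.pderiv_X_of_ne hj, mul_zero])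
      (fun h => absurd (Finset.mem_univ i) h), MvPowerSeries.pderiv_X_self, mul_one]
  set J := Ideal.span {g | ∃ D : Derivation k (MvPowerSeries (Fin 3) k) (MvPowerSeries (Fin 3) k), g = D f} with hJdef
  have hJ : J = Ideal.span (Set.range fun i => MvPowerSeries.pderiv k i f) := by
    refine le_antisymm (Ideal.span_le.2 ?_) (Ideal.span_le.2 ?_)
    · rintro _ ⟨D, rfl⟩
      rw [SetLike.mem_coe, ← D.liftKaehlerDifferential_comp_D f, hD f, map_sum]
      refine sum_mem fun i _ => ?_
      rw [map_smul]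
      exact Ideal.mul_mem_right _ _ (Ideal.subset_span ⟨i, rfl⟩)
    · rintro _ ⟨i, rfl⟩
      exact Ideal.subset_span ⟨_, rfl⟩
  let q := Ideal.Quotient.mk (Ideal.span {f})
  let v : Fin 3 → (MvPowerSeries (Fin 3) k ⧸ Ideal.span {f}) := fun i => q (MvPowerSeries.pderiv k i f)
  have hq0 : ∀ x, q x = 0 ↔ f ∣ x := fun x => by rw [Ideal.Quotient.eq_zero_iff_mem, Ideal.mem_span_singleton]
  obtain ⟨g, hgs, hker⟩ := presentation (fun i => MvPowerSeries.pderiv k i) MvPowerSeries.X
    (fun _ => MvPowerSeries.pderiv_X_self) (fun i j h => MvPowerSeries.pderiv_X_of_ne (Ne.symm h)) hD f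
  have hinj : ∀ r : (MvPowerSeries (Fin 3) k ⧸ Ideal.span {f}), r • v = 0 → r = 0 := by
    intro r hr
    obtain ⟨r, rfl⟩ := Ideal.Quotient.mk_surjective r
    obtain ⟨N, hN⟩ := hiso
    have hmul : ∀ x ∈ Ideal.span {f} ⊔ J, f ∣ r * x := by
      intro x hx
      rw [hJ, ← Ideal.span_union] at hx
      induction hx using Submodule.span_induction with
      | mem x hx =>
        rcases hx with rfl | ⟨i, rfl⟩
        · exact dvd_mul_left _ _
        · rw [← hq0, map_mul]
          exact congrFun hr i
      | zero => simp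
      | add a b _ _ ha hb => rw [mul_add]; exact dvd_add ha hb
      | smul c a _ ha => rw [smul_eq_mul, mul_left_comm]; exact dvd_mul_of_dvd_right ha c
    have hX : ∀ i : Fin 3, f ∣ r * MvPowerSeries.X i ^ N := fun i =>
      hmul _ (hN (Ideal.pow_mem_pow (by
        rw [mem_maximalIdeal, mem_nonunits_iff, MvPowerSeries.isUnit_iff_constantCoeff]
        simp) N))
    have hXN : ∀ i : Fin 3, (MvPowerSeries.X i : MvPowerSeries (Fin 3) k) ^ N ≠ 0 := fun i h => by
      have := congrArg (MvPowerSeries.coeff (Finsupp.single i N)) h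
      rw [MvPowerSeries.X_pow_eq, MvPowerSeries.coeff_monomial_same, map_zero] at this
      exact one_ne_zero this
    obtain ⟨a, ha⟩ := hX 0
    obtain ⟨b, hb⟩ := hX 1
    have hf0 : f ≠ 0 := fun h0 => by
      obtain ⟨w, hw⟩ := hmul 0 (zero_mem _)
      have hbot : Ideal.span {f} ⊔ J = ⊥ := by
        rw [hJ, h0, ← Ideal.span_union, Ideal.span_eq_bot]
        rintro x (rfl | ⟨i, rfl⟩)
        · rfl
        · exact map_zero _
      have := hN (Ideal.pow_mem_pow (show (MvPowerSeries.X (0 : Fin 3) : (MvPowerSeries (Fin 3) k)) ∈ maximalIdeal (MvPowerSeries (Fin 3) k) by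
        rw [mem_maximalIdeal, mem_nonunits_iff, MvPowerSeries.isUnit_iff_constantCoeff]; simp) N)
      rw [hbot, Ideal.mem_bot] at this
      exact (hXN 0) this
    have hab : a * MvPowerSeries.X 1 ^ N = b * MvPowerSeries.X 0 ^ N := by
      refine mul_left_cancel₀ hf0 ?_
      rw [← mul_assoc, ← ha, ← mul_assoc, ← hb]
      ring
    have hdvd : (MvPowerSeries.X (0 : Fin 3) : MvPowerSeries (Fin 3) k) ^ N ∣ a := by
      rw [MvPowerSeries.X_pow_dvd_iff]
      intro m hm
      have h := congrArg (MvPowerSeries.coeff (m + Finsupp.single 1 N)) hab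
      rw [MvPowerSeries.X_pow_eq, MvPowerSeries.X_pow_eq, MvPowerSeries.coeff_add_mul_monomial, mul_one,
        MvPowerSeries.coeff_mul_monomial, if_neg] at h
      · exact h
      · intro hle
        have := hle 0
        simp at this
        omega
    obtain ⟨c, hc⟩ := hdvd
    refine (hq0 r).2 ⟨c, mul_right_cancel₀ (hXN 0) ?_⟩
    rw [ha, hc]
    ring
  have hrange : J.map q = Ideal.span (Set.range v) := by
    rw [hJ, Ideal.map_span]
    congr 1
    rw [← Set.range_comp]
    rfl
  obtain ⟨h2, ⟨e⟩⟩ := ext_of_resolution (Ω[(MvPowerSeries (Fin 3) k ⧸ Ideal.span {f})⁄k]) v g hgs hker hinj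
  exact ⟨h2, ⟨e.trans (Submodule.quotEquivOfEq _ _ hrange.symm)⟩⟩

end Groth.Agent.S16050
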