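import Groth.Statements.S16051
import Mathlib

set_option autoImplicit false
universe u
open LieAlg

namespace Groth.Agent.S16051

section
variable {O : Type u} [CommRing O] {n : ℕ}

/-- entries indexed by natural numbers, zero outside -/
def get (M : Matrix (Fin (n + 1)) (Fin (n + 1)) O) (i j : ℕ) : O :=
  if h : i < n + 1 ∧ j < n + 1 then M ⟨i, h.1⟩ ⟨j, h.2⟩ else 0

theorem get_apply (M : Matrix (Fin (n + 1)) (Fin (n + 1)) O) (i j : Fin (n + 1)) :
    get M i j = M i j := dif_pos ⟨i.2, j.2⟩

theorem get_of (M : Matrix (Fin (n + 1)) (Fin (n + 1)) O) {i j : ℕ} (hi : i < n + 1) (hj : j < n + 1) :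
    get M i j = M ⟨i, hi⟩ ⟨j, hj⟩ := dif_pos ⟨hi, hj⟩

def diagSum (d : ℕ) (M : Matrix (Fin (n + 1)) (Fin (n + 1)) O) : O :=
  ∑ j ∈ Finset.range (n - d), get M (j + d) j

def Z (M : Matrix (Fin (n + 1)) (Fin (n + 1)) O) (i j : ℕ) : O :=
  ∑ k ∈ Finset.range (min i (j + 1)), get M (i - 1 - k) (j - k)

theorem Z_succ (M : Matrix (Fin (n + 1)) (Fin (n + 1)) O) (i j : ℕ) :
    Z M (i + 1) j = get M i j + if 1 ≤ j then Z M i (j - 1) else 0 := by
  unfold Z
  rw [show min (i + 1) (j + 1) = min i j + 1 by omega, Finset.sum_range_succ']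
  simp only [Nat.sub_zero, Nat.add_sub_cancel]
  rw [add_comm]
  congr 1
  split_ifs with h
  · rw [show j - 1 + 1 = j by omega]
    refine Finset.sum_congr rfl fun k _ => ?_
    congr 1 <;> omega
  · rw [show min i j = 0 by omega, Finset.range_zero, Finset.sum_empty]

theorem Z_last (M : Matrix (Fin (n + 1)) (Fin (n + 1)) O) (j : ℕ) (hj : j < n) :
    Z M n j = diagSum (n - 1 - j) M := by
  unfold Z diagSum
  rw [show min n (j + 1) = j + 1 by omega, show n - (n - 1 - j) = j + 1 by omega,
    ← Finset.sum_range_reflect]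
  refine Finset.sum_congr rfl fun k hk => ?_
  rw [Finset.mem_range] at hk
  congr 1 <;> omega


theorem comm_entry (x Y : Matrix (Fin (n + 1)) (Fin (n + 1)) O)
    (hx : ∀ i j : Fin (n + 1), x i j = if j.val = i.val + 1 ∧ j.val < n then 1 else 0)
    (i j : ℕ) (hi : i < n + 1) (hj : j < n + 1) :
    get (x * Y - Y * x) i j =
      (if i + 1 < n then get Y (i + 1) j else 0) -
      (if 1 ≤ j ∧ j < n then get Y i (j - 1) else 0) := by
  have e : get (x * Y - Y * x) i j = (x * Y - Y * x) ⟨i, hi⟩ ⟨j, hj⟩ := by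
    simp [get, hi, hj]
  rw [e, Matrix.sub_apply, Matrix.mul_apply, Matrix.mul_apply]
  congr 1
  · split_ifs with h
    · rw [Finset.sum_eq_single ⟨i + 1, by omega⟩]
      · rw [hx, if_pos ⟨rfl, h⟩, one_mul]; rw [get_of Y (by omega) hj]
      · intro b _ hb
        rw [hx, if_neg (fun hh => hb (Fin.ext hh.1)), zero_mul]
      · exact fun h' => absurd (Finset.mem_univ _) h'
    · refine Finset.sum_eq_zero fun b _ => ?_
      rw [hx, if_neg (fun (hh : (b : ℕ) = i + 1 ∧ (b : ℕ) < n) => h (hh.1 ▸ hh.2)), zero_mul]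
  · split_ifs with h
    · rw [Finset.sum_eq_single ⟨j - 1, by omega⟩]
      · rw [hx, if_pos ⟨by simp only; omega, h.2⟩, mul_one]; rw [get_of Y hi (by omega)]
      · intro b _ hb
        rw [hx, if_neg (fun hh => hb (Fin.ext (by simp only; have := hh.1; simp only at this; omega))), mul_zero]
      · exact fun h' => absurd (Finset.mem_univ _) h'
    · refine Finset.sum_eq_zero fun b _ => ?_
      rw [hx, if_neg (fun hh => h ⟨by have := hh.1; simp only at this; omega, hh.2⟩), mul_zero]

theorem diagSum_comm (x Y : Matrix (Fin (n + 1)) (Fin (n + 1)) O)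
    (hx : ∀ i j : Fin (n + 1), x i j = if j.val = i.val + 1 ∧ j.val < n then 1 else 0)
    (d : ℕ) (hd : d < n) : diagSum d (x * Y - Y * x) = 0 := by
  unfold diagSum
  let u : ℕ → O := fun j => if 1 ≤ j ∧ j < n - d then get Y (j + d) (j - 1) else 0
  rw [Finset.sum_congr rfl (g := fun j => u (j + 1) - u j)]
  · rw [Finset.sum_range_sub]; simp [u]
  intro j hj
  rw [Finset.mem_range] at hj
  rw [comm_entry x Y hx _ _ (by omega) (by omega)]
  simp only [u]
  congr 1
  · split_ifs <;> first | rfl | (exfalso; omega) | (congr 1 <;> omega)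
  · split_ifs <;> first | rfl | (exfalso; omega) | (congr 1 <;> omega)

theorem trace_eq (hn : 1 ≤ n) (M : Matrix (Fin (n + 1)) (Fin (n + 1)) O) :
    M.trace = diagSum 0 M + get M n n := by
  have : diagSum 0 M + get M n n = ∑ j ∈ Finset.range (n + 1), get M j j := by
    rw [Finset.sum_range_succ]; simp [diagSum]
  rw [this, ← Fin.sum_univ_eq_sum_range (fun j => get M j j)]
  simp only [get_apply]
  rfl

theorem exists_preimage (hn : 1 ≤ n) (x M : Matrix (Fin (n + 1)) (Fin (n + 1)) O)
    (hx : ∀ i j : Fin (n + 1), x i j = if j.val = i.val + 1 ∧ j.val < n then 1 else 0)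
    (hS : ∀ d < n, diagSum d M = 0) (ha : get M (n - 1) n = 0) (hb : get M n 0 = 0)
    (htr : M.trace = 0) : ∃ Y, x * Y - Y * x = M := by
  have hnn : get M n n = 0 := by
    have := trace_eq hn M; rw [htr, hS 0 (by omega), zero_add] at this; exact this.symm
  refine ⟨Matrix.of fun i j =>
    if (i : ℕ) < n then (if (j : ℕ) < n then Z M i j else if (i : ℕ) = 0 then 0 else get M (i - 1) n)
    else (if (j : ℕ) < n then -get M n (j + 1) else 0), ?_⟩
  set Y : Matrix (Fin (n + 1)) (Fin (n + 1)) O := Matrix.of _ with hY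
  ext a b
  obtain ⟨i, hi⟩ := a
  obtain ⟨j, hj⟩ := b
  have h1 := comm_entry x Y hx i j hi hj
  have h2 : get M i j = M ⟨i, hi⟩ ⟨j, hj⟩ := by simp [get, hi, hj]
  have h3 : get (x * Y - Y * x) i j = (x * Y - Y * x) ⟨i, hi⟩ ⟨j, hj⟩ := by simp [get, hi, hj]
  rw [← h2, ← h3, h1]
  have gY : ∀ p q : ℕ, p < n + 1 → q < n + 1 → get Y p q =
      if p < n then (if q < n then Z M p q else if p = 0 then 0 else get M (p - 1) n)
      else (if q < n then -get M n (q + 1) else 0) := by
    intro p q hp hq; rw [get_of Y hp hq]; rfl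
  by_cases hin : i < n
  · by_cases hjn : j < n
    · by_cases hi1 : i + 1 < n
      · rw [if_pos hi1, gY _ _ (by omega) hj, if_pos hi1, if_pos hjn, Z_succ]
        by_cases hj1 : 1 ≤ j
        · rw [if_pos hj1, if_pos ⟨hj1, hjn⟩, gY _ _ hi (by omega), if_pos hin,
            if_pos (by omega : j - 1 < n), add_sub_cancel_right]
        · rw [if_neg hj1, if_neg (fun h => hj1 h.1)]; simp
      · have hz := (Z_succ M i j).symm.trans
          ((congrArg (fun t => Z M t j) (show i + 1 = n by omega)).trans
            ((Z_last M j hjn).trans (hS _ (by omega))))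
        rw [if_neg hi1]
        by_cases hj1 : 1 ≤ j
        · rw [if_pos ⟨hj1, hjn⟩, gY _ _ hi (by omega), if_pos hin, if_pos (by omega : j - 1 < n)]
          rw [if_pos hj1] at hz
          linear_combination -hz
        · rw [if_neg (fun h => hj1 h.1)]
          rw [if_neg hj1] at hz
          linear_combination -hz
    · have hje : j = n := by omega
      rw [if_neg (fun h : 1 ≤ j ∧ j < n => hjn h.2)]
      by_cases hi1 : i + 1 < n
      · rw [if_pos hi1, gY _ _ (by omega) hj, if_pos hi1, if_neg hjn, if_neg (by omega)]; simp [hje]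
      · rw [if_neg hi1, show i = n - 1 by omega, hje, ha]; simp
  · have hie : i = n := by omega
    rw [if_neg (by omega)]
    by_cases hj1 : 1 ≤ j ∧ j < n
    · rw [if_pos hj1, gY _ _ hi (by omega), if_neg hin, if_pos (by omega),
        show j - 1 + 1 = j by omega, hie]; simp
    · rw [if_neg hj1, hie]
      rcases Nat.eq_zero_or_pos j with rfl | hp
      · rw [hb]; simp
      · rw [show j = n by omega, hnn]; simp


end

/-- Let O be a discrete valuation ring of characteristic zero with residue field of characteristic p,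
let 1 ≤ n with n + 1 < p (type A_n with p above the Coxeter number), and let x ∈ sl_{n+1}(O) be the
standard subregular nilpotent element, the matrix with entries x_{i,i+1} = 1 for i + 1 < n and 0
elsewhere (one Jordan block of size n and one of size 1; in the source this is the sum of the root
vectors of the first n − 1 simple roots, completed there to an sl₂-triple). Then the quotient of
sl_{n+1}(O) by the image of ad_x is a free O-module of rank n + 2. (The source works over a complete
such ring with algebraically closed residue field; completeness and algebraic closedness are not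
used for this statement.) -/
theorem result (O : Type u) [CommRing O] [IsDomain O] [IsDiscreteValuationRing O]
    [CharZero O] (p : ℕ) [Fact p.Prime] [CharP (IsLocalRing.ResidueField O) p]
    (n : ℕ) (hn : 1 ≤ n) (hp : n + 1 < p)
    (x : LieAlgebra.SpecialLinear.sl (Fin (n + 1)) O)
    (hx : ∀ i j : Fin (n + 1), (x : Matrix (Fin (n + 1)) (Fin (n + 1)) O) i j =
      if j.val = i.val + 1 ∧ j.val < n then 1 else 0) :
    Module.Free O (LieAlgebra.SpecialLinear.sl (Fin (n + 1)) O ⧸
        LinearMap.range (LieAlgebra.ad O (LieAlgebra.SpecialLinear.sl (Fin (n + 1)) O) x)) ∧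
      Module.finrank O (LieAlgebra.SpecialLinear.sl (Fin (n + 1)) O ⧸
        LinearMap.range (LieAlgebra.ad O (LieAlgebra.SpecialLinear.sl (Fin (n + 1)) O) x)) = n + 2 := by
  classical
  have hxm : ∀ i j, (x : Matrix (Fin (n + 1)) (Fin (n + 1)) O) i j =
      if j.val = i.val + 1 ∧ j.val < n then 1 else 0 := hx
  have hu : IsUnit ((n + 1 : ℕ) : O) := by
    by_contra h
    have h1 : ((n + 1 : ℕ) : IsLocalRing.ResidueField O) = 0 := by
      rw [← map_natCast (IsLocalRing.residue O), IsLocalRing.residue_eq_zero_iff]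
      exact h
    have := Nat.le_of_dvd (Nat.succ_pos n) ((CharP.cast_eq_zero_iff _ p _).mp h1)
    omega
  obtain ⟨c, hc⟩ := hu
  let φ : LieAlgebra.SpecialLinear.sl (Fin (n + 1)) O →ₗ[O] (Fin n → O) × O × O :=
    { toFun := fun M => (fun d => diagSum (d : ℕ) (M : Matrix (Fin (n + 1)) (Fin (n + 1)) O),
        get (M : Matrix (Fin (n + 1)) (Fin (n + 1)) O) (n - 1) n,
        get (M : Matrix (Fin (n + 1)) (Fin (n + 1)) O) n 0)
      map_add' := fun A B => by
        have hg : ∀ i j, get ((A : Matrix (Fin (n + 1)) (Fin (n + 1)) O) + (B : Matrix (Fin (n + 1)) (Fin (n + 1)) O)) i j =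
            get (A : Matrix (Fin (n + 1)) (Fin (n + 1)) O) i j + get (B : Matrix (Fin (n + 1)) (Fin (n + 1)) O) i j := by
          intro i j; unfold get; split_ifs <;> simp
        simp [diagSum, hg, Finset.sum_add_distrib, funext_iff, Prod.ext_iff]
      map_smul' := fun r A => by
        have hg : ∀ i j, get (r • (A : Matrix (Fin (n + 1)) (Fin (n + 1)) O)) i j =
            r * get (A : Matrix (Fin (n + 1)) (Fin (n + 1)) O) i j := by
          intro i j; unfold get; split_ifs <;> simp
        simp [diagSum, hg, Finset.mul_sum, funext_iff, Prod.ext_iff] }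
  have hker : LinearMap.ker φ = LinearMap.range (LieAlgebra.ad O (LieAlgebra.SpecialLinear.sl (Fin (n + 1)) O) x) := by
    apply le_antisymm
    · intro M hM
      rw [LinearMap.mem_ker] at hM
      simp only [φ, LinearMap.coe_mk, AddHom.coe_mk, Prod.ext_iff, funext_iff, Prod.fst_zero,
        Prod.snd_zero, Pi.zero_apply] at hM
      have htr : Matrix.trace (M : Matrix (Fin (n + 1)) (Fin (n + 1)) O) = 0 := M.2
      obtain ⟨Y, hY⟩ := exists_preimage hn (x : Matrix (Fin (n + 1)) (Fin (n + 1)) O) M hxm
        (fun d hd => hM.1 ⟨d, hd⟩) hM.2.1 hM.2.2 htr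
      set Y' : Matrix (Fin (n + 1)) (Fin (n + 1)) O := Y - (Y.trace * ↑c⁻¹) • 1 with hY'
      have ht : Y'.trace = 0 := by
        rw [hY', Matrix.trace_sub, Matrix.trace_smul, Matrix.trace_one, Fintype.card_fin, smul_eq_mul,
          ← hc, mul_assoc, Units.inv_mul, mul_one, sub_self]
      refine ⟨⟨Y', ht⟩, Subtype.ext ?_⟩
      rw [LieAlgebra.ad_apply, LieAlgebra.SpecialLinear.sl_bracket]
      change (x : Matrix (Fin (n + 1)) (Fin (n + 1)) O) * Y' - Y' * x = M
      rw [hY', mul_sub, sub_mul, Matrix.mul_smul, Matrix.smul_mul, mul_one, one_mul, sub_sub_sub_cancel_right, hY]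
    · rintro _ ⟨Y, rfl⟩
      rw [LinearMap.mem_ker]
      simp only [φ, LinearMap.coe_mk, AddHom.coe_mk, LieAlgebra.ad_apply, LieAlgebra.SpecialLinear.sl_bracket]
      refine Prod.ext (funext fun d => diagSum_comm _ _ hxm _ d.2) (Prod.ext ?_ ?_)
      · simp only [Prod.snd_zero, Prod.fst_zero]
        change get (_ - _) (n - 1) n = 0
        rw [comm_entry _ _ hxm _ _ (by omega) (by omega), if_neg (by omega), if_neg (by omega), sub_zero]
      · simp only [Prod.snd_zero]
        change get (_ - _) n 0 = 0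
        rw [comm_entry _ _ hxm _ _ (by omega) (by omega), if_neg (by omega), if_neg (by omega), sub_zero]
  have hsurj : Function.Surjective φ := by
    rintro ⟨s, a, b⟩
    let W : Matrix (Fin (n + 1)) (Fin (n + 1)) O := Matrix.of fun i j =>
      if h : (i : ℕ) < n ∧ (j : ℕ) = 0 then s ⟨i, h.1⟩
      else if (i : ℕ) = n ∧ (j : ℕ) = n then -s ⟨0, hn⟩
      else if (i : ℕ) + 1 = n ∧ (j : ℕ) = n then a
      else if (i : ℕ) = n ∧ (j : ℕ) = 0 then b else 0
    have gW : ∀ p q : ℕ, ∀ (hp : p < n + 1) (hq : q < n + 1), get W p q = W ⟨p, hp⟩ ⟨q, hq⟩ := by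
      intro p q hp hq; exact get_of W hp hq
    have hS : ∀ d : Fin n, diagSum (d : ℕ) W = s d := by
      intro d
      have hd := d.2
      unfold diagSum
      rw [Finset.sum_eq_single 0]
      · rw [gW _ _ (by omega) (by omega)]; simp [W]
      · intro j hj hj0
        rw [Finset.mem_range] at hj
        rw [gW _ _ (by omega) (by omega)]
        simp only [W, Matrix.of_apply]
        rw [dif_neg (by omega), if_neg (by omega), if_neg (by omega), if_neg (by omega)]
      · intro h; exact absurd (Finset.mem_range.mpr (by omega)) h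
    have hWn : get W n n = -s ⟨0, hn⟩ := by
      rw [gW _ _ (by omega) (by omega)]; simp [W]
    have htW : W.trace = 0 := by
      rw [trace_eq hn, hWn]
      have := hS ⟨0, hn⟩
      simp only at this
      rw [this, add_neg_cancel]
    refine ⟨⟨W, htW⟩, ?_⟩
    refine Prod.ext (funext hS) (Prod.ext ?_ ?_)
    · change get W (n - 1) n = a
      rw [gW _ _ (by omega) (by omega)]
      simp only [W, Matrix.of_apply]
      rw [dif_neg (by omega), if_neg (by omega), if_pos ⟨by omega, trivial⟩]
    · change get W n 0 = b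
      rw [gW _ _ (by omega) (by omega)]
      simp only [W, Matrix.of_apply]
      rw [dif_neg (by omega), if_neg (by omega), if_neg (by omega), if_pos ⟨trivial, trivial⟩]
  have e := (Submodule.quotEquivOfEq _ _ hker.symm).trans (φ.quotKerEquivOfSurjective hsurj)
  refine ⟨Module.Free.of_equiv e.symm, ?_⟩
  rw [e.finrank_eq, Module.finrank_prod, Module.finrank_prod, Module.finrank_fin_fun, Module.finrank_self]

end Groth.Agent.S16051
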