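import Groth.Statements.S16052
import Mathlib

set_option autoImplicit false
universe u
open Polynomial
open CAlg

namespace Groth.Agent.S16052
open Polynomial IsLocalRing

theorem exists_pow_unit {O : Type u} [CommRing O] [HenselianLocalRing O] [IsAlgClosed (ResidueField O)]
    {n : ℕ} (hn : (n : ResidueField O) ≠ 0) (v : Oˣ) : ∃ c : O, IsUnit c ∧ c ^ n = v := by
  have hn0 : n ≠ 0 := fun h => hn (by rw [h, Nat.cast_zero])
  obtain ⟨z, hz⟩ := IsAlgClosed.exists_pow_nat_eq (residue O (v : O)) (Nat.pos_of_ne_zero hn0)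
  obtain ⟨a, ha⟩ := residue_surjective z
  have hv : residue O (v : O) ≠ 0 := residue_ne_zero_iff_isUnit _ |>.2 v.isUnit
  have hz0 : z ≠ 0 := fun h => hv (by rw [← hz, h, zero_pow hn0])
  obtain ⟨c, hc, -⟩ := HenselianLocalRing.is_henselian (X ^ n - C (v : O)) (monic_X_pow_sub_C _ hn0) a
    (by rw [← residue_eq_zero_iff]; simp [ha, hz])
    (by
      rw [← residue_ne_zero_iff_isUnit, derivative_sub, derivative_X_pow, derivative_C, sub_zero, eval_mul,
        eval_C, eval_pow, eval_X, map_mul, map_natCast, map_pow, ha]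
      exact mul_ne_zero hn (pow_ne_zero _ hz0))
  have : c ^ n = v := by simpa [sub_eq_zero] using hc.eq_zero
  exact ⟨c, (isUnit_pow_iff hn0).1 (this ▸ v.isUnit), this⟩

theorem exists_zeta {O : Type u} [CommRing O] [HenselianLocalRing O] [IsAlgClosed (ResidueField O)]
    {n : ℕ} (hn : (n : ResidueField O) ≠ 0) : ∃ z : O, IsPrimitiveRoot z n := by
  have hn0 : n ≠ 0 := fun h => hn (by rw [h, Nat.cast_zero])
  haveI : NeZero n := ⟨hn0⟩
  haveI : NeZero (n : ResidueField O) := ⟨hn⟩
  obtain ⟨z₀, hz₀⟩ := HasEnoughRootsOfUnity.exists_primitiveRoot (ResidueField O) n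
  obtain ⟨a, ha⟩ := residue_surjective z₀
  obtain ⟨z, hz, hza⟩ := HenselianLocalRing.is_henselian (X ^ n - C (1 : O)) (monic_X_pow_sub_C 1 hn0) a
    (by rw [← residue_eq_zero_iff]; simp [ha, hz₀.pow_eq_one])
    (by
      rw [← residue_ne_zero_iff_isUnit, derivative_sub, derivative_X_pow, derivative_C, sub_zero, eval_mul,
        eval_C, eval_pow, eval_X, map_mul, map_natCast, map_pow, ha]
      exact mul_ne_zero hn (pow_ne_zero _ (hz₀.ne_zero hn0)))
  refine ⟨z, IsPrimitiveRoot.mk_of_lt _ (Nat.pos_of_ne_zero hn0) ?_ fun l hl hl' h => ?_⟩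
  · simpa [sub_eq_zero] using hz.eq_zero
  · have h1 : residue O z = z₀ := by
      rw [← ha, ← sub_eq_zero, ← map_sub, residue_eq_zero_iff]; exact hza
    exact hz₀.pow_ne_one_of_pos_of_lt (by omega) hl' (by rw [← h1, ← map_pow, h, map_one])

theorem irred {O : Type u} [CommRing O] [IsDomain O] [IsDiscreteValuationRing O] {ϖ : O} (hϖ : Irreducible ϖ)
    {n : ℕ} (hn : 0 < n) : Irreducible (X ^ n - C (algebraMap O (FractionRing O) ϖ) : (FractionRing O)[X]) := by
  have hm : (X ^ n - C ϖ : O[X]).Monic := monic_X_pow_sub_C ϖ hn.ne'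
  have he : (X ^ n - C ϖ : O[X]).IsEisensteinAt (maximalIdeal O) := by
    rw [hϖ.maximalIdeal_eq]
    refine ⟨?_, fun {i} hi => ?_, ?_⟩
    · rw [hm.leadingCoeff, Ideal.mem_span_singleton]
      exact fun h => hϖ.not_isUnit (isUnit_of_dvd_one h)
    · rw [natDegree_X_pow_sub_C] at hi
      rw [coeff_sub, coeff_X_pow, if_neg hi.ne, zero_sub, neg_mem_iff, coeff_C]
      split_ifs
      · exact Ideal.mem_span_singleton_self _
      · exact zero_mem _
    · rw [coeff_sub, coeff_X_pow, if_neg hn.ne, zero_sub, coeff_C_zero, neg_mem_iff,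
        Ideal.span_singleton_pow, Ideal.mem_span_singleton]
      rintro ⟨c, hc⟩
      refine hϖ.not_isUnit (IsUnit.of_mul_eq_one (b := c) ?_)
      exact mul_left_cancel₀ hϖ.ne_zero (by rw [← mul_assoc, ← sq, ← hc, mul_one])
  have := (hm.irreducible_iff_irreducible_map_fraction_map (K := FractionRing O)).mp
    (he.irreducible (maximalIdeal.isMaximal O).isPrime hm.isPrimitive (by rw [natDegree_X_pow_sub_C]; exact hn))
  simpa using this

/-- Let O be a henselian discrete valuation ring of characteristic zero with algebraically closed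
residue field of characteristic p, ϖ a uniformizer and K the fraction field. Let r_1, …, r_m ≥ 1 and
b_1, …, b_m ≥ 1 be integers with gcd(r_i, b_i) = 1 for each i and r_1 + ⋯ + r_m < p, and let v_1, …,
v_m be units of O. Then the splitting field over K of the polynomial ∏_i (y^{r_i} − v_i ϖ^{b_i}) has
degree lcm(r_1, …, r_m) over K. (In the source O is complete and this polynomial is the y-part of a
deformation y ↦ x² + z² + f(y) of an A_n-singularity with n + 1 = Σ r_i; the proposition goes on to
identify the monodromy element, which is not stated here.) -/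
theorem result (O : Type u) [CommRing O] [IsDomain O]
    [IsDiscreteValuationRing O] [HenselianLocalRing O] [CharZero O] [IsAlgClosed (IsLocalRing.ResidueField O)]
    (p : ℕ) [Fact p.Prime] [CharP (IsLocalRing.ResidueField O) p]
    (ϖ : O) (hϖ : Irreducible ϖ) (m : ℕ) (r b : Fin m → ℕ) (v : Fin m → Oˣ)
    (hr : ∀ i, 1 ≤ r i) (hb : ∀ i, 1 ≤ b i) (hrb : ∀ i, Nat.Coprime (r i) (b i)) (hp : ∑ i, r i < p) :
    Module.finrank (FractionRing O)
        (∏ i, (X ^ (r i) - C (algebraMap O (FractionRing O) ((v i : O) * ϖ ^ (b i))))).SplittingField =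
      Finset.univ.lcm r := by
  set K := FractionRing O
  set g : Fin m → K[X] := fun i => X ^ (r i) - C (algebraMap O K ((v i : O) * ϖ ^ (b i)))
  set F := ∏ i, g i with hF
  set L := F.SplittingField
  set R := Finset.univ.lcm r with hR
  have hpr := (Fact.out : p.Prime)
  have hru : ∀ i, (r i : ResidueField O) ≠ 0 := fun i h => by
    have h1 := Nat.le_of_dvd (by have := hr i; omega) ((CharP.cast_eq_zero_iff (ResidueField O) p (r i)).1 h)
    have h2 : r i ≤ ∑ i, r i := Finset.single_le_sum (fun _ _ => Nat.zero_le _) (Finset.mem_univ i)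
    omega
  have hRpos : 0 < R := Nat.pos_of_ne_zero fun h => by
    rw [hR, Finset.lcm_eq_zero_iff] at h
    obtain ⟨i, -, hi⟩ := h
    have := hr i; omega
  have hRu : (R : ResidueField O) ≠ 0 := fun h => by
    have h1 : p ∣ ∏ i, r i := ((CharP.cast_eq_zero_iff (ResidueField O) p R).1 h).trans
      (Finset.lcm_dvd fun i _ => Finset.dvd_prod_of_mem r (Finset.mem_univ i))
    obtain ⟨i, -, hi⟩ := hpr.prime.exists_mem_finset_dvd h1
    exact hru i ((CharP.cast_eq_zero_iff (ResidueField O) p (r i)).2 hi)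
  have hg0 : ∀ i, g i ≠ 0 := fun i => (monic_X_pow_sub_C _ (by have := hr i; omega)).ne_zero
  -- the upper bound
  let ϖK := algebraMap O K ϖ
  haveI := Fact.mk (irred hϖ hRpos)
  let E := AdjoinRoot (X ^ R - C ϖK)
  let π : E := AdjoinRoot.root _
  have hπ : π ^ R = algebraMap K E ϖK := by
    have := AdjoinRoot.eval₂_root (X ^ R - C ϖK)
    rwa [eval₂_sub, eval₂_X_pow, eval₂_C, sub_eq_zero] at this
  have hsplit : (F.map (algebraMap K E)).Splits := by
    rw [hF, Polynomial.map_prod]
    refine Splits.prod fun i _ => ?_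
    obtain ⟨z, hz⟩ := exists_zeta (hru i)
    obtain ⟨c, -, hc⟩ := exists_pow_unit (hru i) (v i)
    obtain ⟨q, hq⟩ : r i ∣ R := Finset.dvd_lcm (Finset.mem_univ i)
    have hz' : IsPrimitiveRoot (algebraMap K E (algebraMap O K z)) (r i) :=
      (hz.map_of_injective (IsFractionRing.injective O K)).map_of_injective (algebraMap K E).injective
    simp only [g, Polynomial.map_sub, Polynomial.map_pow, map_X, map_C]
    refine X_pow_sub_C_splits_of_isPrimitiveRoot hz' (α := algebraMap K E (algebraMap O K c) * π ^ (q * b i)) ?_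
    rw [mul_pow, ← map_pow, ← map_pow, hc, ← pow_mul, show q * b i * r i = R * b i by rw [hq]; ring, pow_mul, hπ]
    simp [ϖK]
  have hfrE : Module.finrank K E = R := by
    rw [(AdjoinRoot.powerBasis (irred hϖ hRpos).ne_zero).finrank, AdjoinRoot.powerBasis_dim, natDegree_X_pow_sub_C]
  haveI : FiniteDimensional K E := (AdjoinRoot.powerBasis (irred hϖ hRpos).ne_zero).finite
  let emb : L →ₐ[K] E := SplittingField.lift F hsplit
  have hle : Module.finrank K L ≤ R :=
    hfrE ▸ LinearMap.finrank_le_finrank_of_injective (f := emb.toLinearMap) emb.toRingHom.injective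
  -- the lower bound
  have hdvd : ∀ i, r i ∣ Module.finrank K L := by
    intro i
    have hs : ((g i).map (algebraMap K L)).Splits :=
      (SplittingField.splits F).of_dvd (map_ne_zero (Finset.prod_ne_zero_iff.2 fun j _ => hg0 j))
        (Polynomial.map_dvd _ (Finset.dvd_prod_of_mem g (Finset.mem_univ i)))
    obtain ⟨γ, hγ⟩ := hs.exists_eval_eq_zero (by
      rw [degree_map, show g i = X ^ (r i) - C (algebraMap O K ((v i : O) * ϖ ^ (b i))) from rfl,
        degree_X_pow_sub_C (by have := hr i; omega)]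
      exact_mod_cast (show r i ≠ 0 by have := hr i; omega))
    simp only [g, Polynomial.map_sub, Polynomial.map_pow, map_X, map_C, eval_sub, eval_pow, eval_X, eval_C, sub_eq_zero] at hγ
    obtain ⟨c, hcu, hc⟩ := exists_pow_unit (hru i) (v i)
    let cL := algebraMap K L (algebraMap O K c)
    let ϖL := algebraMap K L ϖK
    have hcL : cL ≠ 0 := ((hcu.map (algebraMap O K)).map (algebraMap K L)).ne_zero
    have hϖL : ϖL ≠ 0 := (map_ne_zero (algebraMap K L)).2
      (fun h => hϖ.ne_zero (IsFractionRing.injective O K (h.trans (map_zero _).symm)))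
    have hδ : (γ / cL) ^ (r i) = ϖL ^ (b i) := by
      rw [div_pow, div_eq_iff (pow_ne_zero _ hcL), hγ, ← hc]
      simp [cL, ϖL, ϖK]
      ring
    have hbez : (r i : ℤ) * Nat.gcdA (r i) (b i) + (b i : ℤ) * Nat.gcdB (r i) (b i) = 1 := by
      rw [← Nat.gcd_eq_gcd_ab, (hrb i).gcd_eq_one, Nat.cast_one]
    let πi : L := (γ / cL) ^ (Nat.gcdB (r i) (b i)) * ϖL ^ (Nat.gcdA (r i) (b i))
    have hπi : πi ^ (r i) = ϖL := by
      rw [mul_pow, ← zpow_natCast, ← zpow_natCast, ← zpow_mul, ← zpow_mul, mul_comm (Nat.gcdB _ _) (r i : ℤ),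
        zpow_mul, zpow_natCast, hδ, ← zpow_natCast, ← zpow_mul, ← zpow_add₀ hϖL,
        show (b i : ℤ) * Nat.gcdB (r i) (b i) + Nat.gcdA (r i) (b i) * (r i : ℤ) = 1 by
          rw [mul_comm (Nat.gcdA _ _) _, add_comm]; exact hbez, zpow_one]
    have hfr : Module.finrank K (IntermediateField.adjoin K {πi}) = r i := by
      rw [IntermediateField.adjoin.finrank (IsIntegral.of_finite K _),
        ← minpoly.eq_of_irreducible_of_monic (irred hϖ (n := r i) (by have := hr i; omega))
          (by rw [map_sub, aeval_X_pow, aeval_C, hπi]; exact sub_self _) (monic_X_pow_sub_C _ (by have := hr i; omega)), natDegree_X_pow_sub_C]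
    exact hfr ▸ Dvd.intro _ (Module.finrank_mul_finrank K (IntermediateField.adjoin K {πi}) L)
  refine le_antisymm hle (Nat.le_of_dvd Module.finrank_pos (Finset.lcm_dvd fun i _ => hdvd i))

end Groth.Agent.S16052
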