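import Groth.Statements.S16053
import Groth.Agent.Lib.Hens.Local
import Mathlib

set_option autoImplicit false
universe u
open Polynomial
open CAlg

namespace Groth.Agent.S16053
open Polynomial IsLocalRing

/-- An `e`-th root of a unit congruent to one, in `O[α]`. -/
theorem exists_root {O : Type u} [CommRing O] [IsDomain O] [IsDiscreteValuationRing O] [HenselianLocalRing O]
    (f : O[X]) (hmon : f.Monic) (e : ℕ) (hdeg : f.natDegree = e) (he : 1 ≤ e)
    (heu : (e : ResidueField O) ≠ 0)
    (hf : f.IsEisensteinAt (maximalIdeal O)) :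
    ∃ u : AdjoinRoot f, IsUnit u ∧ (AdjoinRoot.root f) ^ e = - (algebraMap O (AdjoinRoot f) (f.coeff 0)) * u ^ e := by
  haveI : Nontrivial (AdjoinRoot f) := AdjoinRoot.nontrivial f fun h => by
    have h1 : f.natDegree = 0 := natDegree_eq_of_degree_eq_some h
    omega
  haveI : Module.Finite O (AdjoinRoot f) := hmon.finite_adjoinRoot
  set α := AdjoinRoot.root f
  have ha0 : f.coeff 0 ∈ maximalIdeal O := hf.mem (by omega)
  have hgen : maximalIdeal O = Ideal.span {f.coeff 0} := by
    obtain ⟨ϖ, hϖ⟩ := IsDiscreteValuationRing.exists_irreducible O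
    rw [hϖ.maximalIdeal_eq] at ha0 ⊢
    obtain ⟨c, hc⟩ := Ideal.mem_span_singleton.1 ha0
    have hcu : IsUnit c := by
      by_contra hcu
      refine hf.notMem ?_
      rw [hc, pow_two, hϖ.maximalIdeal_eq]
      exact Ideal.mul_mem_mul (Ideal.mem_span_singleton_self _) (by rw [← hϖ.maximalIdeal_eq]; exact hcu)
    rw [hc, Ideal.span_singleton_mul_right_unit hcu]
  have hc : ∀ i, ∃ c : O, i < e → f.coeff i = f.coeff 0 * c := by
    intro i
    by_cases hi : i < e
    · have h1 := hf.mem (n := i) (by omega)
      rw [hgen] at h1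
      obtain ⟨c, hc⟩ := Ideal.mem_span_singleton.1 h1
      exact ⟨c, fun _ => hc⟩
    · exact ⟨0, fun h => absurd h hi⟩
  choose c hc using hc
  let g : O[X] := ∑ i ∈ Finset.range (e - 1), C (c (i + 1)) * X ^ i
  let w : AdjoinRoot f := 1 + α * AdjoinRoot.mk f g
  have hw : α ^ e = - (algebraMap O (AdjoinRoot f) (f.coeff 0)) * w := by
    have h0 : f = X ^ e + C (f.coeff 0) * (1 + X * g) := by
      conv_lhs => rw [hmon.as_sum, hdeg]
      congr 1
      rw [mul_add, mul_one, show Finset.range e = Finset.range (e - 1 + 1) by rw [Nat.sub_add_cancel he],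
        Finset.sum_range_succ' _ (e - 1), pow_zero, mul_one, add_comm]
      congr 1
      simp only [g, Finset.mul_sum]
      refine Finset.sum_congr rfl fun i hi => ?_
      rw [hc (i + 1) (by have := Finset.mem_range.1 hi; omega), map_mul]
      ring
    have h1 := AdjoinRoot.mk_self (f := f)
    rw [h0] at h1
    simp only [map_add, map_mul, map_pow, AdjoinRoot.mk_X, AdjoinRoot.mk_C, map_one] at h1
    rw [← h0] at h1
    simp only [w, AdjoinRoot.algebraMap_eq]
    linear_combination h1
  let ρ : AdjoinRoot f →+* ResidueField O := AdjoinRoot.lift (residue O) 0 (by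
    rw [eval₂_at_zero, residue_eq_zero_iff]; exact ha0)
  have hρ : Function.Surjective ρ := fun z => by
    obtain ⟨a, rfl⟩ := residue_surjective z
    exact ⟨AdjoinRoot.of f a, AdjoinRoot.lift_of _⟩
  haveI hmax : (RingHom.ker ρ).IsMaximal := RingHom.ker_isMaximal_of_surjective ρ hρ
  haveI hloc : IsLocalRing (AdjoinRoot f) := IsLocalRing.of_unique_max_ideal ⟨RingHom.ker ρ, hmax, fun P hP => by
    refine (hmax.eq_of_le hP.ne_top ?_).symm
    have hm : ∀ a ∈ maximalIdeal O, algebraMap O (AdjoinRoot f) a ∈ P := by
      intro a ha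
      have := Ideal.isMaximal_comap_of_isIntegral_of_isMaximal (R := O) P
      rw [← IsLocalRing.eq_maximalIdeal this] at ha
      exact ha
    have hα : α ∈ P := hP.isPrime.mem_of_pow_mem e (by
      rw [hw]; exact P.mul_mem_right _ (P.neg_mem (hm _ ha0)))
    intro z hz
    obtain ⟨q, rfl⟩ := AdjoinRoot.mk_surjective (g := f) z
    rw [← X_mul_divX_add q] at hz ⊢
    rw [map_add, map_mul, AdjoinRoot.mk_X, AdjoinRoot.mk_C]
    refine P.add_mem (P.mul_mem_right _ hα) (hm _ ?_)
    rw [RingHom.mem_ker, map_add, map_mul, AdjoinRoot.mk_C] at hz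
    simp only [ρ, AdjoinRoot.mk_X, map_add, map_mul, AdjoinRoot.lift_root, zero_mul, zero_add, AdjoinRoot.lift_of, residue_eq_zero_iff] at hz
    exact hz⟩
  haveI := Groth.Agent.Hens.henselianLocalRing_of_isIntegral O (AdjoinRoot f)
  have hk : RingHom.ker ρ = maximalIdeal (AdjoinRoot f) := IsLocalRing.eq_maximalIdeal hmax
  have hρw : ρ w = 1 := by simp [ρ, w, α]
  have hunit : ∀ z, ρ z ≠ 0 → IsUnit z := fun z hz => by
    by_contra h
    have h1 : z ∈ maximalIdeal (AdjoinRoot f) := h
    rw [← hk] at h1
    exact hz h1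
  obtain ⟨u, hu, -⟩ := HenselianLocalRing.is_henselian (X ^ e - C w : (AdjoinRoot f)[X])
    (monic_X_pow_sub_C w (by omega)) 1 (by
      rw [← hk, RingHom.mem_ker]; simp [hρw])
    (hunit _ (by
      rw [derivative_sub, derivative_X_pow, derivative_C, sub_zero, eval_mul, eval_C, eval_pow, eval_X, one_pow, mul_one,
        map_natCast]
      exact heu))
  have hu' : u ^ e = w := by
    have := hu.eq_zero
    simpa [sub_eq_zero] using this
  refine ⟨u, ?_, by rw [hu']; exact hw⟩
  rw [← isUnit_pow_iff (show e ≠ 0 by omega), hu']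
  exact hunit _ (by rw [hρw]; exact one_ne_zero)

/-- Let O be a henselian discrete valuation ring of characteristic zero with algebraically closed
residue field of characteristic p and fraction field K, and let f ∈ O[y] be a monic polynomial of
degree e with 1 ≤ e < p which is Eisenstein at the maximal ideal of O. Then the splitting field of f
over K has degree e over K and the Galois group of f over K is cyclic. (In the source O is complete,
e = n + 1 and f is the y-part y^{n+1} + u_n ϖ^{a_n} y^{n−1} + ⋯ + u_1 ϖ of an A_n-degeneration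
meeting the discriminant transversally; the corollary's conclusion that monodromy acts through a
Coxeter element is not stated here.) -/
theorem result (O : Type u) [CommRing O] [IsDomain O]
    [IsDiscreteValuationRing O] [HenselianLocalRing O] [CharZero O] [IsAlgClosed (IsLocalRing.ResidueField O)]
    (p : ℕ) [Fact p.Prime] [CharP (IsLocalRing.ResidueField O) p]
    (f : O[X]) (hmon : f.Monic) (e : ℕ) (hdeg : f.natDegree = e) (he : 1 ≤ e) (hep : e < p)
    (hf : f.IsEisensteinAt (IsLocalRing.maximalIdeal O)) :
    Module.finrank (FractionRing O) (f.map (algebraMap O (FractionRing O))).SplittingField = e ∧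
      IsCyclic (f.map (algebraMap O (FractionRing O))).Gal := by
  set K := FractionRing O
  set fK := f.map (algebraMap O K) with hfK
  set L := fK.SplittingField
  haveI : NeZero e := ⟨by omega⟩
  have heu : (e : ResidueField O) ≠ 0 := fun h => by
    have := Nat.le_of_dvd (by omega) ((CharP.cast_eq_zero_iff (ResidueField O) p e).1 h)
    omega
  -- roots of unity
  haveI : NeZero (e : ResidueField O) := ⟨heu⟩
  obtain ⟨z₀, hz₀⟩ := HasEnoughRootsOfUnity.exists_primitiveRoot (ResidueField O) e
  obtain ⟨a, ha⟩ := residue_surjective z₀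
  obtain ⟨z, hz, hza⟩ := HenselianLocalRing.is_henselian (X ^ e - C (1 : O)) (monic_X_pow_sub_C 1 (by omega)) a
    (by rw [← residue_eq_zero_iff]; simp [ha, hz₀.pow_eq_one])
    (by
      rw [← residue_ne_zero_iff_isUnit, derivative_sub, derivative_X_pow, derivative_C, sub_zero, eval_mul,
        eval_C, eval_pow, eval_X, map_mul, map_natCast, map_pow, ha]
      exact mul_ne_zero heu (pow_ne_zero _ (hz₀.ne_zero (by omega))))
  have hzK : IsPrimitiveRoot (algebraMap O K z) e := by
    refine IsPrimitiveRoot.map_of_injective ?_ (IsFractionRing.injective O K)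
    refine IsPrimitiveRoot.mk_of_lt _ (by omega) ?_ fun l hl hl' h => ?_
    · simpa [sub_eq_zero] using hz.eq_zero
    · have h1 : residue O z = z₀ := by
        rw [← ha, ← sub_eq_zero, ← map_sub, residue_eq_zero_iff]; exact hza
      exact hz₀.pow_ne_one_of_pos_of_lt (by omega) hl' (by rw [← h1, ← map_pow, h, map_one])
  have hζ : (primitiveRoots e K).Nonempty := ⟨_, (mem_primitiveRoots (by omega)).2 hzK⟩
  -- the Kummer polynomial
  let a0 : K := - algebraMap O K (f.coeff 0)
  have hga : (X ^ e + C (f.coeff 0) : O[X]).IsEisensteinAt (maximalIdeal O) := by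
    refine ⟨?_, fun {i} hi => ?_, ?_⟩
    · rw [(monic_X_pow_add_C (f.coeff 0) (by omega)).leadingCoeff]
      exact fun h => (maximalIdeal.isMaximal O).ne_top ((Ideal.eq_top_iff_one _).2 h)
    · rw [natDegree_X_pow_add_C] at hi
      rw [coeff_add, coeff_X_pow, if_neg hi.ne, zero_add, coeff_C]
      split_ifs
      · exact hf.mem (by omega)
      · exact zero_mem _
    · rw [coeff_add, coeff_X_pow, if_neg (by omega), zero_add, coeff_C_zero]
      exact hf.notMem
  have hgm := monic_X_pow_add_C (R := O) (f.coeff 0) (show e ≠ 0 by omega)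
  have H : Irreducible (X ^ e - C a0 : K[X]) := by
    have := (hgm.irreducible_iff_irreducible_map_fraction_map (K := K)).mp
      (hga.irreducible (maximalIdeal.isMaximal O).isPrime hgm.isPrimitive (by rw [natDegree_X_pow_add_C]; omega))
    rw [Polynomial.map_add, Polynomial.map_pow, map_X, map_C] at this
    rw [show C a0 = - C (algebraMap O K (f.coeff 0)) from map_neg C _, sub_neg_eq_add]
    exact this
  have hfirr : Irreducible fK := (hmon.irreducible_iff_irreducible_map_fraction_map (K := K)).mp
      (hf.irreducible (maximalIdeal.isMaximal O).isPrime hmon.isPrimitive (by omega))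
  have hfKd : fK.natDegree = e := by rw [hfK, hmon.natDegree_map, hdeg]
  obtain ⟨u, hu, hue⟩ := exists_root f hmon e hdeg he heu hf
  have key : ∀ α : L, aeval α fK = 0 → ∃ β : L, β ^ e = algebraMap K L a0 ∧
      IntermediateField.adjoin K {α} = IntermediateField.adjoin K {β} := by
    intro α hα
    have hα' : aeval α f = 0 := (aeval_map_algebraMap K α f).symm.trans hα
    let ψ : AdjoinRoot f →ₐ[O] L := AdjoinRoot.liftAlgHom f (Algebra.ofId O L) α hα'
    have hψ : ψ (AdjoinRoot.root f) = α := AdjoinRoot.liftAlgHom_root _ _ _ _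
    have hψu : ψ u ≠ 0 := (hu.map ψ).ne_zero
    have hψmem : ψ u ∈ IntermediateField.adjoin K {α} := by
      obtain ⟨q, rfl⟩ := AdjoinRoot.mk_surjective (g := f) u
      have h1 : ψ (AdjoinRoot.mk f q) = aeval α (q.map (algebraMap O K)) := by
        rw [← AdjoinRoot.aeval_eq, ← aeval_algHom_apply, hψ, aeval_map_algebraMap]
      rw [h1]
      exact IntermediateField.algebra_adjoin_le_adjoin K _ (aeval_mem_adjoin_singleton K α)
    have hβe : (α / ψ u) ^ e = algebraMap K L a0 := by
      have h1 := congrArg ψ hue
      simp only [map_pow, map_mul, map_neg, hψ, AlgHom.commutes] at h1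
      rw [div_pow, div_eq_iff (pow_ne_zero _ hψu), h1, map_neg, ← IsScalarTower.algebraMap_apply]
    have hle : IntermediateField.adjoin K {α / ψ u} ≤ IntermediateField.adjoin K {α} :=
      IntermediateField.adjoin_simple_le_iff.2 (div_mem (IntermediateField.mem_adjoin_simple_self K α) hψmem)
    refine ⟨α / ψ u, hβe, (IntermediateField.eq_of_le_of_finrank_le hle ?_).symm⟩
    rw [IntermediateField.adjoin.finrank (IsIntegral.of_finite K _),
      IntermediateField.adjoin.finrank (IsIntegral.of_finite K _),
      ← minpoly.eq_of_irreducible_of_monic hfirr hα (hmon.map _),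
      ← minpoly.eq_of_irreducible_of_monic H (by simp [hβe]) (monic_X_pow_sub_C a0 (by omega)),
      natDegree_X_pow_sub_C, hfKd]
  have hspl : (fK.map (algebraMap K L)).Splits := SplittingField.splits fK
  obtain ⟨α, hα⟩ : ∃ α : L, aeval α fK = 0 := by
    obtain ⟨α, hα⟩ := hspl.exists_eval_eq_zero (by
      rw [degree_map, degree_eq_natDegree hfirr.ne_zero, hfKd]; exact_mod_cast (show e ≠ 0 by omega))
    exact ⟨α, by rw [aeval_def, ← eval_map]; exact hα⟩
  obtain ⟨β, hβ, hαβ⟩ := key α hα
  have htop : IntermediateField.adjoin K {β} = ⊤ := by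
    rw [eq_top_iff, ← SplittingField.adjoin_rootSet fK |> fun h => (IntermediateField.adjoin_eq_top_of_algebra (F := K) _ h)]
    rw [IntermediateField.adjoin_le_iff]
    intro α' hα'
    obtain ⟨β', hβ', hαβ'⟩ := key α' ((mem_rootSet_of_ne hfirr.ne_zero).1 hα')
    have hβmem : β' ∈ IntermediateField.adjoin K {β} := by
      have hβ0 : β ≠ 0 := fun h0 => by
        rw [h0, zero_pow (by omega)] at hβ
        have h2 := (map_eq_zero (algebraMap K L)).1 hβ.symm
        exact hga.notMem (by
          have h3 : f.coeff 0 = 0 := IsFractionRing.injective O K (by rw [map_zero]; exact neg_eq_zero.1 h2)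
          rw [coeff_add, coeff_X_pow, if_neg (by omega), zero_add, coeff_C_zero, h3]; exact zero_mem _)
      obtain ⟨i, -, hi⟩ := (hzK.map_of_injective (algebraMap K L).injective).eq_pow_of_pow_eq_one
        (ξ := β' / β) (by rw [div_pow, hβ', hβ]; exact div_self (fun h => hβ0 (eq_zero_of_pow_eq_zero (hβ.trans h))))
      rw [show β' = (algebraMap K L (algebraMap O K z)) ^ i * β by rw [hi, div_mul_cancel₀ _ hβ0]]
      exact mul_mem (pow_mem (IntermediateField.algebraMap_mem _ _) _) (IntermediateField.mem_adjoin_simple_self K β)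
    exact IntermediateField.adjoin_simple_le_iff.2 hβmem (hαβ' ▸ IntermediateField.mem_adjoin_simple_self K α')
  have hfr : Module.finrank K L = e := by
    rw [← IntermediateField.finrank_top', ← htop, IntermediateField.adjoin.finrank (IsIntegral.of_finite K _),
      ← minpoly.eq_of_irreducible_of_monic H (by simp [hβ]) (monic_X_pow_sub_C a0 (by omega)),
      natDegree_X_pow_sub_C]
  refine ⟨hfr, ?_⟩
  haveI : IsSplittingField K L (X ^ e - C a0) := by
    have := isSplittingField_X_pow_sub_C_of_root_adjoin_eq_top (K := K) (L := L) (a := a0) (α := β)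
      (by rw [hfr]; exact hζ) (by rw [hfr]; exact hβ) htop
    rwa [hfr] at this
  exact isCyclic_of_isSplittingField_X_pow_sub_C hζ H L

end Groth.Agent.S16053
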