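import Groth.Statements.S1606
import Groth.Agent.Lib.CurveH1Min27.Generated
-- import your own Groth.Agent.* helpers here

set_option autoImplicit false
universe u
open CategoryTheory CategoryTheory.Limits AlgebraicGeometry
open Curves

namespace Groth.Agent.S1606

/-- Let X be proper over k, reduced, connected, of dimension one, and L an invertible module whose
restriction to each reduced connected one-dimensional closed subscheme Y of X has degree at least
twice the k-dimension of H^1(Y, O_Y). Then L is globally generated. -/
theorem result (k : Type u) [Field k] (X : Scheme.{u}) [X.Over (Spec (CommRingCat.of k))] [IsProper (X ↘ (Spec (CommRingCat.of k)))] [IsReduced X] [ConnectedSpace X]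
    (hdim : topologicalKrullDim X = 1) (L : X.Modules) (hL : PicF.IsInvertible L)
    (h : ∀ J : X.IdealSheafData, IsReduced J.subscheme → ConnectedSpace J.subscheme → topologicalKrullDim J.subscheme = 1 →
      2 * (@Curv2.genus k _ J.subscheme ⟨J.subschemeι ≫ (X ↘ (Spec (CommRingCat.of k)))⟩ : ℤ) ≤
        @Curv2.deg k _ J.subscheme ⟨J.subschemeι ≫ (X ↘ (Spec (CommRingCat.of k)))⟩ ((Scheme.Modules.pullback J.subschemeι).obj L) 1) :
    Curv2.IsGloballyGenerated L := by
  haveI := CohFound.isNoetherian_of_isProper (X ↘ Spec (CommRingCat.of k))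
  have hdeg : CurveH1Min27.DegBig k L := fun T hT _ hconn hdimT => by
    letI : (VecSt.subsch X T hT).Over (Spec (CommRingCat.of k)) := ⟨VecSt.subschι X T hT ≫ (X ↘ Spec (CommRingCat.of k))⟩
    rw [TFOne27.delta_OT k T hT ((M2.isInvertible_iff_isFinLocFreeOfRank_one L).1 hL)]
    exact h (Scheme.IdealSheafData.vanishingIdeal ⟨T, hT⟩) (TFOne27.isReduced_sub T hT) hconn hdimT
  refine RA.isGloballyGenerated_of_gen hL fun y => ?_
  obtain ⟨z, hz, hzc⟩ := IsClosed.exists_closed_singleton (isClosed_closure (s := ({y} : Set X))) ((Set.singleton_nonempty y).closure)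
  obtain ⟨t, ht⟩ := CurveH1Min27.exists_gen_closed hdim hL hdeg hzc
  exact ⟨t, (specializes_iff_mem_closure.mpr hz).mem_open (CohB1.genLocus L t).2 ht⟩

end Groth.Agent.S1606
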