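import Groth.Statements.S16071
import Groth.Agent.Lib.CartDual23.Basic
import Mathlib.Data.Nat.Choose.Dvd
import Mathlib.Data.Nat.Prime.Factorial

set_option autoImplicit false
universe u
open CartDual

namespace Groth.Agent.S16071

open scoped TensorProduct

/-- Let p be a prime, R a commutative ring of characteristic p and A = R[X]/(X^p) the Hopf algebra of
α_p over Spec R, with X primitive. Then the Cartier dual of α_p is again α_p: there is a bialgebra
isomorphism e from the dual Hopf algebra Hom_R(A, R), with the transposed structure maps, to A,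
whose inverse sends X to the linear form dual to X with respect to the basis 1, X, …, X^{p-1} of A
(so e⁻¹(X) takes the value 1 on X and 0 on the other powers X^i, i < p). (Any commutative base ring
of characteristic p is allowed.) -/
theorem result (p : ℕ) [Fact p.Prime] (R : Type u) [CommRing R] [CharP R p] :
    ∃ e : CartDual.D R (AlphaP.A p R) ≃ₐc[R] AlphaP.A p R,
      ∀ i : ℕ, i < p → (e.symm (AlphaP.x p R)) (AlphaP.x p R ^ i) = if i = 1 then 1 else 0 := by

  have hpp : Nat.Prime p := Fact.out
  haveI : Nontrivial R := CharP.nontrivial_of_char_ne_one hpp.ne_one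
  let i1 : Fin p := ⟨1, hpp.one_lt⟩
  let φ : CartDual.D R (AlphaP.A p R) := WithConv.toConv (Groth.Agent.CartDual23.cf p R i1)
  have hφ1 : ∀ n : ℕ, φ (AlphaP.x p R ^ n) = if n = 1 then 1 else 0 := fun n =>
    Groth.Agent.CartDual23.cf_pow p R i1 n
  have hφpow : ∀ (n m : ℕ), (φ ^ n) (AlphaP.x p R ^ m) =
      if m = n ∧ n < p then (n.factorial : R) else 0 := by
    intro n
    induction n with
    | zero =>
      intro m
      rw [pow_zero, CartDual.coe_apply, LinearMap.convOne_def]
      have hp0 := hpp.pos
      by_cases hm : m = 0 <;> simp [hm, Bialgebra.counit_pow, hp0]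
    | succ n ih =>
      intro m
      rw [pow_succ, CartDual.coe_apply, LinearMap.convMul_def, WithConv.ofConv_toConv,
        LinearMap.comp_apply, LinearMap.comp_apply, Groth.Agent.CartDual23.comul_x_pow, map_sum, map_sum]
      simp only [map_smul, TensorProduct.map_tmul, LinearMap.mul'_apply, ← CartDual.coe_apply, ih, hφ1,
        smul_eq_mul, mul_ite, mul_one, mul_zero, ite_mul, zero_mul]
      by_cases h : m = n + 1 ∧ n + 1 < p
      · obtain ⟨rfl, hn⟩ := h
        rw [if_pos ⟨rfl, hn⟩, Finset.sum_eq_single n]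
        · rw [if_pos (by omega), if_pos ⟨rfl, by omega⟩, Nat.choose_succ_self_right,
            Nat.factorial_succ, Nat.cast_mul]
        · intro j _ hj
          split_ifs with a b
          · exact absurd b.1 hj
          · rfl
          · rfl
        · intro hh; simp at hh
      · rw [if_neg h]
        refine Finset.sum_eq_zero fun j hj => ?_
        simp only [Finset.mem_range] at hj
        split_ifs with h1 h2
        · have hp2 := hpp.two_le
          have hm : m = p := by omega
          subst hm
          obtain ⟨rfl, hn⟩ := h2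
          rw [(CharP.cast_eq_zero_iff R _ _).mpr
            (Nat.Prime.dvd_choose_self hpp (by omega) (by omega))]
          simp
        · rfl
        · rfl
  have hext : ∀ {y y' : CartDual.D R (AlphaP.A p R)},
      (∀ i : Fin p, y (AlphaP.x p R ^ (i : ℕ)) = y' (AlphaP.x p R ^ (i : ℕ))) → y = y' := by
    intro y y' h
    apply WithConv.ext
    refine (AlphaP.basis p R).ext fun i => ?_
    rw [AlphaP.basis_apply]
    exact h i
  have hp : φ ^ p = 0 := hext fun i => by
    rw [hφpow, if_neg (by omega)]
    rfl
  have hε : φ 1 = 0 := by simpa using hφ1 0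
  have hcomul : Coalgebra.comul (R := R) φ = φ ⊗ₜ[R] 1 + 1 ⊗ₜ[R] φ := by
    apply (CartDual.ev₂ R (AlphaP.A p R)).injective
    refine ((AlphaP.basis p R).tensorProduct (AlphaP.basis p R)).ext fun ij => ?_
    obtain ⟨i, j⟩ := ij
    rw [Module.Basis.tensorProduct_apply, CartDual.ev₂_coalgebra_comul_tmul, map_add,
      LinearMap.add_apply, CartDual.ev₂_tmul, CartDual.ev₂_tmul, AlphaP.basis_apply,
      AlphaP.basis_apply, ← pow_add, hφ1, hφ1, hφ1]
    simp only [CartDual.coe_apply, LinearMap.convOne_def, WithConv.ofConv_toConv,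
      Algebra.linearMap_apply, LinearMap.comp_apply, Bialgebra.counit_pow, AlphaP.counit_x,
      Algebra.algebraMap_self, RingHom.id_apply]
    rcases Nat.eq_zero_or_pos (i : ℕ) with hi | hi <;>
      rcases Nat.eq_zero_or_pos (j : ℕ) with hj | hj
    · simp [hi, hj]
    · simp [hi, zero_pow hj.ne']
    · simp [hj, zero_pow hi.ne']
    · rw [zero_pow hi.ne', zero_pow hj.ne', if_neg (by omega)]
      simp
  let ψ : AlphaP.A p R →ₐc[R] CartDual.D R (AlphaP.A p R) :=
    BialgHom.ofAlgHom (AlphaP.lift p R φ hp)
      (by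
        refine AlphaP.algHom_ext ?_
        simp [Bialgebra.counitAlgHom_apply, hε])
      (by
        refine AlphaP.algHom_ext ?_
        simp [Bialgebra.comulAlgHom_apply, hcomul])
  have hψx : ψ (AlphaP.x p R) = φ := AlphaP.lift_x φ hp
  have hu : ∀ i : Fin p, IsUnit ((i : ℕ).factorial : R) := by
    intro i
    have : ((i : ℕ).factorial : R) =
        ZMod.castHom (dvd_refl p) R ((i : ℕ).factorial : ZMod p) := (map_natCast _ _).symm
    rw [this]
    refine IsUnit.map _ (isUnit_iff_ne_zero.mpr fun e => ?_)
    rw [ZMod.natCast_eq_zero_iff, Nat.Prime.dvd_factorial Fact.out] at e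
    omega
  have hval : ∀ (z : AlphaP.A p R) (j : Fin p),
      ψ z (AlphaP.x p R ^ (j : ℕ)) = Groth.Agent.CartDual23.cf p R j z * (j : ℕ).factorial := by
    intro z j
    conv_lhs => rw [Groth.Agent.CartDual23.eq_sum_cf p R z]
    rw [map_sum, CartDual.coe_apply, WithConv.ofConv_sum, LinearMap.sum_apply,
      Finset.sum_eq_single j]
    · rw [map_smul, map_pow ψ, hψx, WithConv.ofConv_smul, LinearMap.smul_apply, smul_eq_mul,
        ← CartDual.coe_apply, hφpow, if_pos ⟨rfl, j.2⟩]
    · intro i _ hi
      rw [map_smul, map_pow ψ, hψx, WithConv.ofConv_smul, LinearMap.smul_apply, smul_eq_mul,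
        ← CartDual.coe_apply, hφpow, if_neg, mul_zero]
      exact fun h => hi (Fin.ext h.1.symm)
    · intro h; exact absurd (Finset.mem_univ j) h
  have hinj : Function.Injective ψ := by
    intro z z' h
    rw [Groth.Agent.CartDual23.eq_sum_cf p R z, Groth.Agent.CartDual23.eq_sum_cf p R z']
    refine Finset.sum_congr rfl fun i _ => ?_
    congr 1
    refine (hu i).mul_right_cancel ?_
    rw [← hval, ← hval, h]
  have hsurj : Function.Surjective ψ := by
    intro y
    refine ⟨∑ i : Fin p, (y (AlphaP.x p R ^ (i : ℕ)) * ((hu i).unit⁻¹ : Rˣ)) • AlphaP.x p R ^ (i : ℕ),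
      hext fun j => ?_⟩
    rw [hval, map_sum, Finset.sum_eq_single j]
    · rw [map_smul, Groth.Agent.CartDual23.cf_pow, if_pos rfl, smul_eq_mul, mul_one, mul_assoc,
        IsUnit.val_inv_mul, mul_one]
    · intro i _ hi
      rw [map_smul, Groth.Agent.CartDual23.cf_pow, if_neg, smul_zero]
      exact fun h => hi (Fin.ext h)
    · intro h; exact absurd (Finset.mem_univ j) h
  let e : AlphaP.A p R ≃ₐc[R] CartDual.D R (AlphaP.A p R) :=
    BialgEquiv.ofBijective ψ ⟨hinj, hsurj⟩
  refine ⟨e.symm, fun i hi => ?_⟩
  show ψ (AlphaP.x p R) (AlphaP.x p R ^ i) = _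
  rw [hψx]
  exact hφ1 i


end Groth.Agent.S16071
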