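import Groth.Statements.S16075
import Groth.Agent.Lib.CartDual23.Basic

set_option autoImplicit false
universe u
open Hopf

namespace Groth.Agent.S16075

open scoped TensorProduct

/-- Let p be a prime, T a commutative ring of characteristic p (p = 0 in T, T nonzero) and A =
T[X]/(X^p) the Hopf algebra of α_p over Spec T, with X primitive. Then the endomorphisms of the
T-group α_{p,T} are exactly the scalings: every T-bialgebra endomorphism f of A has f(X) = λ·X for a
unique λ ∈ T, and for every λ ∈ T there is a T-bialgebra endomorphism f of A with f(X) = λ·X. So the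
endomorphisms of α_{p,T} correspond bijectively to the elements of T. (Only this bijection is
stated; that it turns addition and composition of endomorphisms into addition and multiplication in
T, and its naturality in T, are not stated here. The zero ring, allowed as T in the published
statement, is excluded by the characteristic hypothesis here.) -/
theorem result (p : ℕ) [Fact p.Prime] (T : Type u) [CommRing T] [CharP T p] :
    (∀ f : AlphaP.A p T →ₐc[T] AlphaP.A p T, ∃! c : T, f (AlphaP.x p T) = c • AlphaP.x p T) ∧
      (∀ c : T, ∃ f : AlphaP.A p T →ₐc[T] AlphaP.A p T, f (AlphaP.x p T) = c • AlphaP.x p T) := by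

  refine ⟨fun f => ?_, fun c => ?_⟩
  · have hz : Coalgebra.comul (R := T) (f (AlphaP.x p T)) =
        f (AlphaP.x p T) ⊗ₜ[T] 1 + 1 ⊗ₜ[T] f (AlphaP.x p T) := by
      rw [← CoalgHomClass.map_comp_comul_apply f, AlphaP.comul_x, map_add, TensorProduct.map_tmul,
        TensorProduct.map_tmul]
      simp
    obtain ⟨c, hc⟩ := Groth.Agent.CartDual23.primitive_eq_smul p T hz
    refine ⟨c, hc, fun c' hc' => ?_⟩
    have h := congrArg (Groth.Agent.CartDual23.cf p T ⟨1, (Fact.out : p.Prime).one_lt⟩) (hc.symm.trans hc')
    have h1 := Groth.Agent.CartDual23.cf_pow p T ⟨1, (Fact.out : p.Prime).one_lt⟩ 1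
    rw [pow_one] at h1
    simpa [h1] using h.symm
  · have hpow : (c • AlphaP.x p T) ^ p = 0 := by rw [smul_pow, AlphaP.x_pow, smul_zero]
    refine ⟨BialgHom.ofAlgHom (AlphaP.lift p T (c • AlphaP.x p T) hpow) ?_ ?_, ?_⟩
    · refine AlphaP.algHom_ext ?_
      simp [Bialgebra.counitAlgHom_apply]
    · refine AlphaP.algHom_ext ?_
      simp [Bialgebra.comulAlgHom_apply, TensorProduct.smul_tmul', TensorProduct.tmul_smul]
    · exact AlphaP.lift_x (c • AlphaP.x p T) hpow


end Groth.Agent.S16075
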