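import Groth.Statements.S16077
import Mathlib

set_option autoImplicit false
universe u
open CAlg

namespace Groth.Agent.S16077
open MvPolynomial

variable (p : ℕ) [Fact p.Prime] (k : Type u) [Field k] [CharP k p] {r : ℕ} (e : Fin r → ℕ)

noncomputable def rel : Ideal (MvPolynomial (Fin r) k) :=
  Ideal.span (Set.range fun i : Fin r => (MvPolynomial.X i : MvPolynomial (Fin r) k) ^ p ^ e i)

noncomputable def powSpan (n : ℕ) : Submodule k (MvPolynomial (Fin r) k ⧸ rel p k e) :=
  Submodule.span k (Set.range fun x => x ^ p ^ n)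

omit [Fact p.Prime] [CharP k p] in
theorem mem_rel_iff (P : MvPolynomial (Fin r) k) :
    P ∈ rel p k e ↔ ∀ m ∈ P.support, ∃ i, p ^ e i ≤ m i := by
  have : (Set.range fun i : Fin r => (MvPolynomial.X i : MvPolynomial (Fin r) k) ^ p ^ e i) =
      (fun m => monomial m (1 : k)) '' (Set.range fun i => Finsupp.single i (p ^ e i)) := by
    rw [← Set.range_comp]
    ext x
    simp [X_pow_eq_monomial]
  rw [rel, this, mem_ideal_span_monomial_image]
  simp only [Set.exists_range_iff, Finsupp.single_le_iff]

theorem finrank_powSpan (n : ℕ) :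
    Module.finrank k (powSpan p k e n) = p ^ ∑ i, (e i - n) := by
  have hp : p.Prime := Fact.out
  let w : (Π i, Fin (p ^ (e i - n))) → MvPolynomial (Fin r) k ⧸ rel p k e := fun m =>
    Ideal.Quotient.mkₐ k _ (monomial (p ^ n • (Finsupp.equivFunOnFinite.symm (fun i => (m i : ℕ)) : Fin r →₀ ℕ)) 1)
  have hbox : ∀ (i : Fin r) (a : ℕ), p ^ n * a < p ^ e i ↔ a < p ^ (e i - n) := by
    intro i a
    rcases le_total n (e i) with h | h
    · conv_lhs => rw [← Nat.sub_add_cancel h, pow_add, mul_comm (p ^ (e i - n))]
      exact Nat.mul_lt_mul_left (pow_pos hp.pos n)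
    · rw [Nat.sub_eq_zero_of_le h, pow_zero, Nat.lt_one_iff]
      refine ⟨fun h' => ?_, fun h' => by simp [h', pow_pos hp.pos]⟩
      by_contra ha
      have := (Nat.pow_le_pow_right hp.pos h).trans (Nat.le_mul_of_pos_right _ (Nat.pos_of_ne_zero ha))
      omega
  have hindep : LinearIndependent k w := by
    rw [Fintype.linearIndependent_iff]
    intro g hg m0
    have h0 : Ideal.Quotient.mkₐ k (rel p k e)
        (∑ m, monomial (p ^ n • (Finsupp.equivFunOnFinite.symm (fun i => (m i : ℕ)) : Fin r →₀ ℕ)) (g m)) = 0 := by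
      rw [map_sum, ← hg]
      refine Finset.sum_congr rfl fun m _ => ?_
      simp only [w]
      rw [← map_smul (Ideal.Quotient.mkₐ k (rel p k e)) (g m), smul_monomial, smul_eq_mul, mul_one]
    rw [Ideal.Quotient.mkₐ_eq_mk, Ideal.Quotient.eq_zero_iff_mem, mem_rel_iff] at h0
    by_contra hne
    obtain ⟨i, hi⟩ := h0 (p ^ n • (Finsupp.equivFunOnFinite.symm (fun i => (m0 i : ℕ)) : Fin r →₀ ℕ)) (by
      rw [mem_support_iff, coeff_sum, Finset.sum_eq_single m0]
      · simpa using hne
      · intro m _ hm
        rw [coeff_monomial, if_neg]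
        intro h
        refine hm (funext fun i => Fin.ext ?_)
        have := DFunLike.congr_fun h i
        simpa [hp.ne_zero] using this
      · simp)
    exact absurd hi (not_le.2 (by simpa using (hbox i _).2 (m0 i).2))
  have hspan : Submodule.span k (Set.range w) = powSpan p k e n := by
    apply le_antisymm
    · rw [Submodule.span_le]
      rintro _ ⟨m, rfl⟩
      refine Submodule.subset_span ⟨Ideal.Quotient.mkₐ k _ (monomial (Finsupp.equivFunOnFinite.symm fun i => (m i : ℕ)) 1), ?_⟩
      simp only [w]
      rw [← map_pow, monomial_pow, one_pow]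
    · rw [powSpan, Submodule.span_le]
      rintro _ ⟨x, rfl⟩
      obtain ⟨P, rfl⟩ := Ideal.Quotient.mkₐ_surjective k _ x
      simp only
      rw [← map_pow, MvPolynomial.as_sum P, sum_pow_char_pow p n, map_sum]
      refine Submodule.sum_mem _ fun d _ => ?_
      rw [monomial_pow]
      by_cases hd : ∀ i, d i < p ^ (e i - n)
      · have : Ideal.Quotient.mkₐ k (rel p k e) (monomial (p ^ n • d) (coeff d P ^ p ^ n)) =
            (coeff d P ^ p ^ n) • w (fun i => ⟨d i, hd i⟩) := by
          simp only [w]
          rw [← map_smul (Ideal.Quotient.mkₐ k (rel p k e)) (coeff d P ^ p ^ n), smul_monomial, smul_eq_mul, mul_one]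
          congr 4
          ext i
          rfl
        rw [this]
        exact Submodule.smul_mem _ _ (Submodule.subset_span ⟨_, rfl⟩)
      · push Not at hd
        obtain ⟨i, hi⟩ := hd
        have : Ideal.Quotient.mkₐ k (rel p k e) (monomial (p ^ n • d) (coeff d P ^ p ^ n)) = 0 := by
          rw [Ideal.Quotient.mkₐ_eq_mk, Ideal.Quotient.eq_zero_iff_mem, mem_rel_iff]
          intro m hm
          rw [Finset.mem_singleton.1 (support_monomial_subset hm)]
          refine ⟨i, not_lt.1 fun h => ?_⟩
          exact absurd ((hbox i _).1 (by simpa using h)) (not_lt.2 hi)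
        rw [this]
        exact Submodule.zero_mem _
  rw [← hspan, finrank_span_eq_card hindep, Fintype.card_pi]
  simp [Finset.prod_pow_eq_pow_sum]

omit [Fact p.Prime] [CharP k p] in
theorem map_powSpan {s : ℕ} (f : Fin s → ℕ)
    (φ : (MvPolynomial (Fin r) k ⧸ rel p k e) ≃ₐ[k] (MvPolynomial (Fin s) k ⧸ rel p k f)) (n : ℕ) :
    (powSpan p k e n).map φ.toLinearEquiv.toLinearMap = powSpan p k f n := by
  rw [powSpan, Submodule.map_span, powSpan, ← Set.range_comp]
  congr 1
  ext y
  constructor
  · rintro ⟨x, rfl⟩; exact ⟨φ x, by simp⟩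
  · rintro ⟨x, rfl⟩; exact ⟨φ.symm x, by simp⟩

/-- Let k be a perfect field of characteristic p > 0 and let e_1, …, e_r ≥ 1 and f_1, …, f_s ≥ 1 be
natural numbers. If the k-algebras k[X_1, …, X_r]/(X_i^{p^{e_i}} : 1 ≤ i ≤ r) and k[X_1, …,
X_s]/(X_j^{p^{f_j}} : 1 ≤ j ≤ s) are isomorphic, then r = s and (f_j) is a permutation of (e_i):
there is a bijection σ between the index sets with f_{σ(i)} = e_i. Such truncated polynomial
algebras are the coordinate rings of the connected finite k-group schemes, and the row says that the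
number of variables and the exponents are invariants of the group, indeed of its algebra. (Only this
invariance is stated here; the existence of such a presentation for every connected finite k-group
is a separate statement.) -/
theorem result (p : ℕ) [Fact p.Prime] (k : Type u) [Field k]
    [CharP k p] [PerfectField k] (r s : ℕ) (e : Fin r → ℕ) (f : Fin s → ℕ) (he : ∀ i, 1 ≤ e i) (hf : ∀ j, 1 ≤ f j)
    (φ : (MvPolynomial (Fin r) k ⧸ Ideal.span (Set.range fun i : Fin r => (MvPolynomial.X i : MvPolynomial (Fin r) k) ^ p ^ e i)) ≃ₐ[k]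
      (MvPolynomial (Fin s) k ⧸ Ideal.span (Set.range fun j : Fin s => (MvPolynomial.X j : MvPolynomial (Fin s) k) ^ p ^ f j))) :
    ∃ σ : Fin r ≃ Fin s, ∀ i : Fin r, f (σ i) = e i := by
  have hp : p.Prime := Fact.out
  have hg : ∀ n, ∑ i, (e i - n) = ∑ j, (f j - n) := by
    intro n
    apply Nat.pow_right_injective hp.two_le
    change p ^ _ = p ^ _
    rw [← finrank_powSpan p k e n, ← finrank_powSpan p k f n, ← map_powSpan p k e f φ n]
    exact (LinearEquiv.finrank_map_eq φ.toLinearEquiv _).symm
  have hgt : ∀ n, (Finset.univ.filter fun i => n < e i).card = (Finset.univ.filter fun j => n < f j).card := by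
    intro n
    have h1 : ∀ {t : ℕ} (g : Fin t → ℕ), ∑ i, (g i - n) =
        (Finset.univ.filter fun i => n < g i).card + ∑ i, (g i - (n + 1)) := by
      intro t g
      rw [Finset.card_filter, ← Finset.sum_add_distrib]
      exact Finset.sum_congr rfl fun i _ => by split_ifs <;> omega
    have := hg n
    rw [h1, h1, hg (n + 1)] at this
    omega
  have heq : ∀ m, Fintype.card {i // e i = m} = Fintype.card {j // f j = m} := by
    intro m
    rw [Fintype.card_subtype, Fintype.card_subtype]
    rcases Nat.eq_zero_or_pos m with rfl | hm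
    · rw [Finset.filter_false_of_mem fun i _ => by have := he i; omega,
        Finset.filter_false_of_mem fun j _ => by have := hf j; omega]
      rfl
    · have h2 : ∀ {t : ℕ} (g : Fin t → ℕ), (Finset.univ.filter fun i => g i = m).card +
          (Finset.univ.filter fun i => m < g i).card = (Finset.univ.filter fun i => m - 1 < g i).card := by
        intro t g
        rw [← Finset.card_union_of_disjoint]
        · congr 1; ext i; simp; omega
        · rw [Finset.disjoint_filter]; intro i _ h; omega
      have := h2 e; have := h2 f; have := hgt m; have := hgt (m - 1)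
      omega
  exact ⟨Equiv.ofFiberEquiv fun m => Fintype.equivOfCardEq (heq m),
    fun i => Equiv.ofFiberEquiv_map _ i⟩

end Groth.Agent.S16077
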