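import Groth.Statements.S16078
import Groth.Agent.Lib.ConnExt23.Basic

set_option autoImplicit false
universe u
open scoped TensorProduct
open Hopf

namespace Groth.Agent.S16078

/-- Let R be a henselian Noetherian local ring, A and A'' commutative Hopf algebras over R which are
finite and flat as R-modules, and A'' → A an R-algebra homomorphism compatible with
comultiplications and counits making A faithfully flat over A'' (a faithfully flat homomorphism π :
G → G'' of finite flat R-groups); let J ⊆ A be the ideal generated by the image of the augmentation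
ideal of A'' (G' = Spec A/J = ker π, so that 1 → G' → G → G'' → 1 is exact). Let e ∈ A and e'' ∈ A''
be idempotents with ε(e) = 1, ε(e'') = 1 and A/(1 − e), A''/(1 − e'') local rings (the unit
components G⁰ and G''⁰), and let e' ∈ A be an element whose image in A/J is an idempotent, with
ε(e') = 1 and A/(J + (1 − e')) local (so G'⁰ = Spec (A/J)/(1 − e') is the unit component of G').
Suppose g : A''/(1 − e'') → A/(1 − e) is the ring homomorphism induced by A'' → A (the restriction
π⁰ : G⁰ → G''⁰ of π, which exists because G⁰ is connected). Then g is faithfully flat, and e ≡ e'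
modulo J, i.e. J + (1 − e) = J + (1 − e') and the kernel of π⁰, which is cut out in G⁰ by J, is
exactly G'⁰: the sequence 1 → G'⁰ → G⁰ → G''⁰ → 1 is exact. (The published statement also asserts
exactness of the maximal étale quotient G ↦ G^ét, not stated here.) -/
theorem result (R : Type u) [CommRing R] [HenselianLocalRing R]
    [IsNoetherianRing R] (A A'' : Type u) [CommRing A] [HopfAlgebra R A] [Module.Finite R A] [Module.Flat R A]
    [CommRing A''] [HopfAlgebra R A''] [Module.Finite R A''] [Module.Flat R A'']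
    [Algebra A'' A] [IsScalarTower R A'' A] [Module.FaithfullyFlat A'' A]
    (hΔ : (Bialgebra.comulAlgHom R A).comp (IsScalarTower.toAlgHom R A'' A) =
      (Algebra.TensorProduct.map (IsScalarTower.toAlgHom R A'' A) (IsScalarTower.toAlgHom R A'' A)).comp
        (Bialgebra.comulAlgHom R A''))
    (hε : (Bialgebra.counitAlgHom R A).comp (IsScalarTower.toAlgHom R A'' A) = Bialgebra.counitAlgHom R A'')
    (e : A) (he : IsIdempotentElem e) (heε : Bialgebra.counitAlgHom R A e = 1)
    [IsLocalRing (A ⧸ Ideal.span ({1 - e} : Set A))]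
    (e'' : A'') (he'' : IsIdempotentElem e'') (he''ε : Bialgebra.counitAlgHom R A'' e'' = 1)
    [IsLocalRing (A'' ⧸ Ideal.span ({1 - e''} : Set A''))]
    (e' : A) (he' : IsIdempotentElem (Ideal.Quotient.mk ((RingHom.ker (Bialgebra.counitAlgHom R A'')).map (algebraMap A'' A)) e'))
    (he'ε : Bialgebra.counitAlgHom R A e' = 1)
    [IsLocalRing (A ⧸ (((RingHom.ker (Bialgebra.counitAlgHom R A'')).map (algebraMap A'' A)) ⊔ Ideal.span ({1 - e'} : Set A)))]
    (g : (A'' ⧸ Ideal.span ({1 - e''} : Set A'')) →+* (A ⧸ Ideal.span ({1 - e} : Set A)))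
    (hg : g.comp (Ideal.Quotient.mk (Ideal.span ({1 - e''} : Set A''))) =
      (Ideal.Quotient.mk (Ideal.span ({1 - e} : Set A))).comp (algebraMap A'' A)) :
    g.FaithfullyFlat ∧
      Ideal.Quotient.mk ((RingHom.ker (Bialgebra.counitAlgHom R A'')).map (algebraMap A'' A)) e = Ideal.Quotient.mk ((RingHom.ker (Bialgebra.counitAlgHom R A'')).map (algebraMap A'' A)) e' := by
  classical
  set J := (RingHom.ker (Bialgebra.counitAlgHom R A'')).map (algebraMap A'' A) with hJdef
  let I : Ideal A := Ideal.span {1 - e}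
  let I'' : Ideal A'' := Ideal.span {1 - e''}
  have hI : I ≤ RingHom.ker (Bialgebra.counitAlgHom R A) := by
    rw [Ideal.span_le]
    rintro x rfl
    simp only [SetLike.mem_coe, RingHom.mem_ker, map_sub, map_one, heε, sub_self]
  have hJ : J ≤ RingHom.ker (Bialgebra.counitAlgHom R A) := Ideal.map_le_iff_le_comap.2 fun x hx => by
    have := DFunLike.congr_fun hε x
    simp only [AlgHom.comp_apply, IsScalarTower.coe_toAlgHom'] at this
    show Bialgebra.counitAlgHom R A (algebraMap A'' A x) = 0
    rw [this]
    exact hx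
  constructor
  · letI : Algebra (A'' ⧸ I'') (A ⧸ I) := g.toAlgebra
    haveI : IsScalarTower A'' (A'' ⧸ I'') (A ⧸ I) := IsScalarTower.of_algebraMap_eq fun x =>
      (DFunLike.congr_fun hg x).symm
    haveI : IsScalarTower R A'' (A ⧸ I) := inferInstance
    haveI : Module.Flat A'' (A ⧸ I) := by
      let i : (A ⧸ I) →ₗ[A''] A := (Submodule.liftQ (I.restrictScalars A'') (LinearMap.mulLeft A'' e) (by
        intro x hx
        obtain ⟨y, rfl⟩ := Ideal.mem_span_singleton'.1 hx
        rw [LinearMap.mem_ker, LinearMap.mulLeft_apply]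
        linear_combination (-y) * he.eq) : (A ⧸ I.restrictScalars A'') →ₗ[A''] A)
      refine Module.Flat.of_retract i (Ideal.Quotient.mkₐ A'' I).toLinearMap (LinearMap.ext fun x => ?_)
      obtain ⟨a, rfl⟩ := Ideal.Quotient.mk_surjective x
      show Ideal.Quotient.mk I (e * a) = Ideal.Quotient.mk I a
      rw [Ideal.Quotient.eq]
      exact Ideal.mem_span_singleton'.2 ⟨-a, by ring⟩
    haveI : IsLocalization.Away e'' (A'' ⧸ I'') :=
      IsLocalization.away_of_isIdempotentElem he''
        (show RingHom.ker (algebraMap A'' (A'' ⧸ I'')) = Ideal.span {1 - e''} from Ideal.mk_ker)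
        Ideal.Quotient.mk_surjective
    haveI : Module.Flat (A'' ⧸ I'') (A ⧸ I) :=
      (Module.flat_iff_of_isLocalization (A'' ⧸ I'') (Submonoid.powers e'') _).2 inferInstance
    haveI : IsScalarTower R (A'' ⧸ I'') (A ⧸ I) := IsScalarTower.of_algebraMap_eq fun r => by
      rw [IsScalarTower.algebraMap_apply R A'' (A'' ⧸ I''), ← IsScalarTower.algebraMap_apply A'' (A'' ⧸ I'') (A ⧸ I),
        ← IsScalarTower.algebraMap_apply R A'' (A ⧸ I)]
    haveI : Module.Finite (A'' ⧸ I'') (A ⧸ I) := Module.Finite.of_restrictScalars_finite R (A'' ⧸ I'') (A ⧸ I)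
    haveI : Module.Free (A'' ⧸ I'') (A ⧸ I) := Module.free_of_flat_of_isLocalRing
    haveI : Nontrivial (A ⧸ I) := IsLocalRing.toNontrivial
    exact (inferInstanceAs (Module.FaithfullyFlat (A'' ⧸ I'') (A ⧸ I)))
  · -- both idempotents are one in each other's local quotient
    have hle : J ⊔ Ideal.span {1 - e'} ≤ RingHom.ker (Bialgebra.counitAlgHom R A) := by
      refine sup_le hJ ?_
      rw [Ideal.span_le]
      rintro x rfl
      simp only [SetLike.mem_coe, RingHom.mem_ker, map_sub, map_one, he'ε, sub_self]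
    have h1 := ConnExt23.mk_eq_one (Bialgebra.counitAlgHom R A) hle (e := e) (he.map _) heε
    haveI : Nontrivial (A ⧸ (J ⊔ I)) := Ideal.Quotient.nontrivial_iff.2
      (ne_top_of_le_ne_top (RingHom.ker_ne_top _) (sup_le hJ hI))
    haveI : IsLocalRing (A ⧸ (J ⊔ I)) :=
      IsLocalRing.of_surjective' (Ideal.Quotient.factor (le_sup_right : I ≤ J ⊔ I))
        (Ideal.Quotient.factor_surjective _)
    have h2 := ConnExt23.mk_eq_one (Bialgebra.counitAlgHom R A) (sup_le hJ hI) (e := e')
      (by simpa [IsIdempotentElem, Ideal.Quotient.factor_mk] using he'.map (Ideal.Quotient.factor (le_sup_left : J ≤ J ⊔ I))) he'ε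
    rw [← map_one (Ideal.Quotient.mk _), Ideal.Quotient.eq] at h1 h2
    obtain ⟨a, ha, b, hb, hab⟩ := Submodule.mem_sup.1 h1
    obtain ⟨a', ha', b', hb', hab'⟩ := Submodule.mem_sup.1 h2
    obtain ⟨c, rfl⟩ := Ideal.mem_span_singleton'.1 hb
    obtain ⟨c', rfl⟩ := Ideal.mem_span_singleton'.1 hb'
    have q1 := congrArg (Ideal.Quotient.mk J) hab
    have q2 := congrArg (Ideal.Quotient.mk J) hab'
    simp only [map_add, map_sub, map_mul, map_one, Ideal.Quotient.eq_zero_iff_mem.2 ha,
      Ideal.Quotient.eq_zero_iff_mem.2 ha', zero_add] at q1 q2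
    linear_combination (-(Ideal.Quotient.mk J e')) * q1 + (Ideal.Quotient.mk J e) * q2 +
      (-(Ideal.Quotient.mk J c)) * he'.eq + (Ideal.Quotient.mk J c') * ((he.map (Ideal.Quotient.mk J)).eq)

end Groth.Agent.S16078
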