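import Groth.Statements.S16079
import Groth.Agent.Lib.UnitComp23.Basic
-- import your own Groth.Agent.* helpers here

set_option autoImplicit false
universe u
open scoped TensorProduct
open Hopf

namespace Groth.Agent.S16079

open scoped TensorProduct

theorem mulLeft_eq_of_mk {R : Type u} [CommRing R] {D : Type u} [CommRing D] [Algebra R D] {f : D} (hf : IsIdempotentElem f)
    (z : D ⊗[R] D) (x : D)
    (h : Algebra.TensorProduct.map (AlgHom.id R D) (Ideal.Quotient.mkₐ R (Ideal.span ({1 - f} : Set D))) z = x ⊗ₜ[R] 1) :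
    LinearMap.lTensor D (LinearMap.mulLeft R f) z = x ⊗ₜ[R] f := by
  let s : D ⧸ Ideal.span ({1 - f} : Set D) →ₗ[R] D :=
    Submodule.liftQ ((Ideal.span ({1 - f} : Set D)).restrictScalars R) (LinearMap.mulLeft R f) (fun x hx => by
      obtain ⟨c, rfl⟩ := Ideal.mem_span_singleton'.1 hx
      show f * (c * (1 - f)) = 0
      rw [mul_left_comm, mul_sub, mul_one, hf.eq, sub_self, mul_zero]) ∘ₗ
      (Submodule.Quotient.restrictScalarsEquiv R (Ideal.span ({1 - f} : Set D))).symm.toLinearMap
  have hs : ∀ a, s (Ideal.Quotient.mk _ a) = f * a := fun a => rfl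
  have h1 : ∀ w : D ⊗[R] D, LinearMap.lTensor D s
      (Algebra.TensorProduct.map (AlgHom.id R D) (Ideal.Quotient.mkₐ R (Ideal.span ({1 - f} : Set D))) w) =
      LinearMap.lTensor D (LinearMap.mulLeft R f) w := fun w => by
    induction w using TensorProduct.induction_on with
    | zero => simp
    | add a b ha hb => simp only [map_add, ha, hb]
    | tmul a b => simp [hs]
  have h2 := (h1 z).symm.trans (congrArg (LinearMap.lTensor D s) h)
  rw [LinearMap.lTensor_tmul, ← map_one (Ideal.Quotient.mk (Ideal.span ({1 - f} : Set D))), hs, mul_one] at h2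
  exact h2


theorem mk_of_mulLeft_eq {R : Type u} [CommRing R] {D : Type u} [CommRing D] [Algebra R D] {f : D} (z : D ⊗[R] D) (x : D)
    (h : LinearMap.lTensor D (LinearMap.mulLeft R f) z = x ⊗ₜ[R] f) :
    Algebra.TensorProduct.map (AlgHom.id R D) (Ideal.Quotient.mkₐ R (Ideal.span ({1 - f} : Set D))) z = x ⊗ₜ[R] 1 := by
  set π := Ideal.Quotient.mkₐ R (Ideal.span ({1 - f} : Set D))
  have hf1 : π f = 1 := UnitComp23.mk_self f
  have h1 : ∀ w : D ⊗[R] D, Algebra.TensorProduct.map (AlgHom.id R D) π (LinearMap.lTensor D (LinearMap.mulLeft R f) w) =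
      Algebra.TensorProduct.map (AlgHom.id R D) π w := fun w => by
    induction w using TensorProduct.induction_on with
    | zero => simp
    | add a b ha hb => simp only [map_add, ha, hb]
    | tmul a b => simp [hf1, map_mul]
  rw [← h1, h]
  simp [hf1]

/-- A bialgebra map carries the unit component idempotent to that of the target. -/
theorem eq_one_of_local {R : Type u} [CommRing R] {D E : Type u} [CommRing D] [HopfAlgebra R D] [CommRing E] [HopfAlgebra R E]
    (φ : D →ₐc[R] E) {f : D} (hf : IsIdempotentElem f) (hfε : Bialgebra.counitAlgHom R D f = 1) {f' : E}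
    (hfε' : Bialgebra.counitAlgHom R E f' = 1) [IsLocalRing (E ⧸ Ideal.span ({1 - f'} : Set E))] :
    Ideal.Quotient.mkₐ R (Ideal.span ({1 - f'} : Set E)) (φ f) = 1 := by
  set π := Ideal.Quotient.mkₐ R (Ideal.span ({1 - f'} : Set E))
  have hid : IsIdempotentElem (π (φ f)) := ((hf.map (φ : D →ₐ[R] E)).map π)
  rcases IsLocalRing.isUnit_or_isUnit_one_sub_self (π (φ f)) with h | h
  · exact h.mul_left_cancel (hid.eq.trans (mul_one _).symm)
  · have h0 : π (φ f) = 0 := h.mul_left_cancel (by rw [sub_mul, one_mul, hid.eq, sub_self, mul_zero])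
    have h1 : UnitComp23.eps0 f' hfε' (π (φ f)) = Bialgebra.counitAlgHom R D f := CoalgHomClass.counit_comp_apply φ f
    rw [h0, map_zero, hfε] at h1
    haveI : Nontrivial R := (algebraMap R (E ⧸ Ideal.span ({1 - f'} : Set E))).domain_nontrivial
    exact absurd h1 zero_ne_one

/-- A bialgebra map sends invariants of the unit component to invariants. -/
theorem map_invariant {R : Type u} [CommRing R] {D E : Type u} [CommRing D] [HopfAlgebra R D] [CommRing E] [HopfAlgebra R E]
    (φ : D →ₐc[R] E) {f : D} (hf : IsIdempotentElem f) (hfε : Bialgebra.counitAlgHom R D f = 1) {f' : E}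
    (hf' : IsIdempotentElem f') (hfε' : Bialgebra.counitAlgHom R E f' = 1) [IsLocalRing (E ⧸ Ideal.span ({1 - f'} : Set E))]
    (x : D) (hx : LinearMap.lTensor D (LinearMap.mulLeft R f) (Coalgebra.comul (R := R) x) = x ⊗ₜ[R] f) :
    LinearMap.lTensor E (LinearMap.mulLeft R f') (Coalgebra.comul (R := R) (φ x)) = φ x ⊗ₜ[R] f' := by
  refine mulLeft_eq_of_mk hf' _ _ ?_
  have hx' := mk_of_mulLeft_eq _ _ hx
  set π' := Ideal.Quotient.mkₐ R (Ideal.span ({1 - f'} : Set E))
  let φ₀ : D ⧸ Ideal.span ({1 - f} : Set D) →ₐ[R] E ⧸ Ideal.span ({1 - f'} : Set E) :=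
    Ideal.Quotient.liftₐ _ (π'.comp (φ : D →ₐ[R] E)) fun a ha => by
      obtain ⟨c, rfl⟩ := Ideal.mem_span_singleton'.1 ha
      rw [AlgHom.comp_apply, map_mul, map_mul, map_sub, map_sub, map_one, map_one,
        show π' ((φ : D →ₐ[R] E) f) = 1 from eq_one_of_local φ hf hfε hfε', sub_self, mul_zero]
  have h2 := congrArg (Algebra.TensorProduct.map (φ : D →ₐ[R] E) φ₀) hx'
  rw [Algebra.TensorProduct.map_tmul, map_one] at h2
  refine Eq.trans ?_ h2
  have h3 := AlgHom.congr_fun (BialgHom.map_comp_comulAlgHom φ) x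
  simp only [AlgHom.comp_apply, Bialgebra.comulAlgHom_apply] at h3
  rw [← show (φ : D →ₐ[R] E) x = φ x from rfl, ← h3]
  generalize Coalgebra.comul (R := R) x = w
  induction w using TensorProduct.induction_on with
  | zero => simp
  | add a b ha hb => simp only [map_add, ha, hb]
  | tmul a b => rfl

/-- Let R be a henselian Noetherian local ring, A and B commutative and cocommutative Hopf algebras over
R which are finitely generated and projective as R-modules (finite flat commutative R-groups G =
Spec A and H = Spec B), and ψ : B → A an R-bialgebra homomorphism (a homomorphism φ : G → H). Let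
e_A ∈ A be an idempotent with ε(e_A) = 1 such that (1 − e_A) is a Hopf ideal and A⁰ = A/(1 − e_A) is
local, R-projective and cocommutative (the unit component G⁰), and let e'_A be an idempotent of the
dual Hopf algebra Hom_R(A⁰, R) with ε(e'_A) = 1 and local quotient by (1 − e'_A) (the unit component
of the Cartier dual (G⁰)^D); similarly e_B, B⁰ = B/(1 − e_B) and e'_B for H. Call a linear form x on
A⁰ invariant when (id ⊗ multiplication by e'_A)(Δx) = x ⊗ e'_A, i.e. x is invariant under
translation by the unit component of (G⁰)^D and so lies in the Hopf algebra of its étale quotient;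
the elements of A⁰ annihilated by all invariant x form the ideal of G_μ ⊆ G⁰ ⊆ G, the largest
connected multiplicative closed subgroup of G; likewise for B and H_μ. Then the filtration G_μ ⊆ G⁰
⊆ G is respected by φ at the G_μ step: φ maps G_μ into H_μ, i.e. for every b ∈ B whose image in B⁰
is annihilated by all invariant linear forms on B⁰ (b in the ideal of H_μ), the image of ψ(b) in A⁰
is annihilated by all invariant linear forms on A⁰ (ψ(b) in the ideal of G_μ). (That φ maps G⁰ into
H⁰ is the universal property of the unit component and is not restated.) -/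
theorem result (R : Type u) [CommRing R]
    [HenselianLocalRing R] [IsNoetherianRing R] (A B : Type u) [CommRing A] [HopfAlgebra R A] [Coalgebra.IsCocomm R A]
    [Module.Finite R A] [Module.Projective R A] [CommRing B] [HopfAlgebra R B] [Coalgebra.IsCocomm R B]
    [Module.Finite R B] [Module.Projective R B] (ψ : B →ₐc[R] A)
    (eA : A) (heA : IsIdempotentElem eA) (heAε : Bialgebra.counitAlgHom R A eA = 1)
    [(Ideal.span ({1 - eA} : Set A)).IsHopfIdeal R] [IsLocalRing (A ⧸ Ideal.span ({1 - eA} : Set A))] [Module.Projective R (A ⧸ Ideal.span ({1 - eA} : Set A))] [Coalgebra.IsCocomm R (A ⧸ Ideal.span ({1 - eA} : Set A))]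
    (fA : CartDual.D R (A ⧸ Ideal.span ({1 - eA} : Set A))) (hfA : IsIdempotentElem fA)
    (hfAε : Bialgebra.counitAlgHom R (CartDual.D R (A ⧸ Ideal.span ({1 - eA} : Set A))) fA = 1)
    [IsLocalRing (CartDual.D R (A ⧸ Ideal.span ({1 - eA} : Set A)) ⧸ Ideal.span ({1 - fA} : Set (CartDual.D R (A ⧸ Ideal.span ({1 - eA} : Set A)))))]
    (eB : B) (heB : IsIdempotentElem eB) (heBε : Bialgebra.counitAlgHom R B eB = 1)
    [(Ideal.span ({1 - eB} : Set B)).IsHopfIdeal R] [IsLocalRing (B ⧸ Ideal.span ({1 - eB} : Set B))] [Module.Projective R (B ⧸ Ideal.span ({1 - eB} : Set B))] [Coalgebra.IsCocomm R (B ⧸ Ideal.span ({1 - eB} : Set B))]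
    (fB : CartDual.D R (B ⧸ Ideal.span ({1 - eB} : Set B))) (hfB : IsIdempotentElem fB)
    (hfBε : Bialgebra.counitAlgHom R (CartDual.D R (B ⧸ Ideal.span ({1 - eB} : Set B))) fB = 1)
    [IsLocalRing (CartDual.D R (B ⧸ Ideal.span ({1 - eB} : Set B)) ⧸ Ideal.span ({1 - fB} : Set (CartDual.D R (B ⧸ Ideal.span ({1 - eB} : Set B)))))]
    (b : B) (hb : ∀ y : CartDual.D R (B ⧸ Ideal.span ({1 - eB} : Set B)), LinearMap.lTensor (CartDual.D R (B ⧸ Ideal.span ({1 - eB} : Set B))) (LinearMap.mulLeft R fB) (Coalgebra.comul (R := R) y) = y ⊗ₜ[R] fB → y (Ideal.Quotient.mk (Ideal.span ({1 - eB} : Set B)) b) = 0)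
    (x : CartDual.D R (A ⧸ Ideal.span ({1 - eA} : Set A))) (hx : LinearMap.lTensor (CartDual.D R (A ⧸ Ideal.span ({1 - eA} : Set A))) (LinearMap.mulLeft R fA) (Coalgebra.comul (R := R) x) = x ⊗ₜ[R] fA) :
    x (Ideal.Quotient.mk (Ideal.span ({1 - eA} : Set A)) (ψ b)) = 0 := by
  set A₀ := A ⧸ Ideal.span ({1 - eA} : Set A)
  set B₀ := B ⧸ Ideal.span ({1 - eB} : Set B)
  have hψe : Ideal.Quotient.mkₐ R (Ideal.span ({1 - eA} : Set A)) (ψ eB) = 1 := eq_one_of_local ψ heB heBε heAε
  let g' : B₀ →ₐ[R] A₀ := Ideal.Quotient.liftₐ _ ((Ideal.Quotient.mkₐ R _).comp (ψ : B →ₐ[R] A)) fun a ha => by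
    obtain ⟨c, rfl⟩ := Ideal.mem_span_singleton'.1 ha
    rw [AlgHom.comp_apply, map_mul, map_mul, map_sub, map_sub, map_one, map_one]
    exact (congrArg (fun t => _ * (1 - t)) hψe).trans (by rw [sub_self, mul_zero])
  let g : B₀ →ₐc[R] A₀ := BialgHom.ofAlgHom g'
    (Ideal.Quotient.algHom_ext R (AlgHom.ext fun x => CoalgHomClass.counit_comp_apply ψ x))
    (Ideal.Quotient.algHom_ext R (AlgHom.ext fun x => by
      show Algebra.TensorProduct.map g' g' (Algebra.TensorProduct.map (Ideal.Quotient.mkₐ R _) (Ideal.Quotient.mkₐ R _)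
        (Bialgebra.comulAlgHom R B x)) = Algebra.TensorProduct.map (Ideal.Quotient.mkₐ R _) (Ideal.Quotient.mkₐ R _)
        (Bialgebra.comulAlgHom R A (ψ x))
      have h3 := AlgHom.congr_fun (BialgHom.map_comp_comulAlgHom ψ) x
      simp only [AlgHom.comp_apply] at h3
      rw [← show (ψ : B →ₐ[R] A) x = ψ x from rfl, ← h3]
      generalize Bialgebra.comulAlgHom R B x = w
      induction w using TensorProduct.induction_on with
      | zero => simp
      | add a b ha hb => simp only [map_add, ha, hb]
      | tmul a b => rfl))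
  haveI : Module.Finite R A₀ := Module.Finite.of_surjective (Ideal.Quotient.mkₐ R _).toLinearMap Ideal.Quotient.mk_surjective
  haveI : Module.Finite R B₀ := Module.Finite.of_surjective (Ideal.Quotient.mkₐ R _).toLinearMap Ideal.Quotient.mk_surjective
  exact hb (CartDual.transpose R g x) (map_invariant (CartDual.transpose R g) hfA hfAε hfB hfBε x hx)

end Groth.Agent.S16079
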