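import Groth.Agent.Lib.EGA43Top.Goldman

set_option autoImplicit false
universe u
namespace EGA4
end EGA4
open EGA4

namespace Groth.Agent.S4713

open AlgebraicGeometry in
/-- In a locally Noetherian scheme X, every nonempty closed subset contains a closed point of X. -/
theorem result (X : Scheme.{u}) [IsLocallyNoetherian X]
    (Z : Set X) (hZ : IsClosed Z) (hne : Z.Nonempty) : ∃ x ∈ Z, IsClosed ({x} : Set X) := by
  obtain ⟨z, hzZ, hz⟩ := EGA43Top.exists_mem_isLocallyClosed_singleton hZ.isLocallyClosed hne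
  by_cases hc : IsClosed ({z} : Set X)
  · exact ⟨z, hzZ, hc⟩
  · have hne' : ∃ y, z ⤳ y ∧ y ≠ z := by
      by_contra h
      exact hc (EGA43Top.isClosed_singleton_of_no_proper fun y hy => by_contra fun hne => h ⟨y, hy, hne⟩)
    obtain ⟨y, hy, hyz⟩ := hne'
    exact ⟨y, hy.mem_closed hZ hzZ, EGA43Top.isClosed_singleton_of_no_proper fun w hw =>
      (EGA43Top.scheme_specializes_eq_or_eq hz hy hw).resolve_left hyz⟩

end Groth.Agent.S4713
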