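import Groth.Statements.S16080
import Groth.Agent.Lib.RefHull26.Local
import Groth.Agent.S4713
-- import your own Groth.Agent.* helpers here

set_option autoImplicit false
universe u
open CategoryTheory CategoryTheory.Limits AlgebraicGeometry TopologicalSpace
open SDiv

namespace Groth.Agent.S16080

/-- Let X be an integral locally Noetherian scheme, and suppose F is an O_X-module that is coherent.
Then these three conditions on F are mutually equivalent: (1) F has the reflexive property, i.e. the
canonical map F ⟶ F^** into the reflexive hull is an isomorphism; (2) for every point x the stalk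
F_x is a reflexive O_{X,x}-module; (3) for every closed point x the stalk F_x is a reflexive
O_{X,x}-module. -/
theorem result (X : Scheme.{u}) [IsIntegral X] [IsLocallyNoetherian X] (F : X.Modules)
    (hF : Coh.IsCoh F) :
    [RefHull.IsReflexive F, ∀ x : ↥X, RefHull.IsReflexiveAt F x,
      ∀ x : ↥X, IsClosed ({x} : Set ↥X) → RefHull.IsReflexiveAt F x].TFAE := by
  tfae_have 1 ↔ 2 := Groth.Agent.RH26.isReflexive_iff_stalks hF
  tfae_have 2 → 3 := fun h x _ => h x
  tfae_have 3 → 2 := by
    intro h x
    obtain ⟨c, hc, hcl⟩ := Groth.Agent.S4713.result X (closure {x}) isClosed_closure ⟨x, subset_closure rfl⟩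
    have hs : x ⤳ c := specializes_iff_mem_closure.2 hc
    have hb := (Groth.Agent.RH26.bijective_bidual_stalk_iff hF c).2 (h c hcl)
    have hη := (Groth.Agent.RH26.bijective_bidual_stalk_iff hF _).2 (Groth.Agent.RH26.isReflexiveAt_generic hF)
    have hinj := Groth.Agent.RH26.injective_sp_of_isReflexiveAt hF (h c hcl)
    refine (Groth.Agent.RH26.bijective_bidual_stalk_iff hF x).1 ⟨?_, fun w => ?_⟩
    · rw [injective_iff_map_eq_zero]
      intro w hw
      obtain ⟨r, v, hr, he⟩ := Groth.Agent.RH26.exists_smul_eq_sp hF.1 hs w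
      have h0 : F.presheaf.stalkSpecializes hs v = 0 := by
        have h1 : F.presheaf.stalkSpecializes (Groth.Agent.RH26.gsp c) v = 0 := by
          refine hη.1 ?_
          rw [map_zero, ← Groth.Agent.RH26.topSp_trans F hs, ← Groth.Agent.RH26.stalkMapₗ_stalkSpecializes, ← he, map_smul, hw, smul_zero, map_zero]
        rw [← map_zero (F.presheaf.stalkSpecializes (Groth.Agent.RH26.gsp c)).hom] at h1
        rw [hinj h1, map_zero]
      exact hr.smul_eq_zero.1 (he.trans h0)
    · obtain ⟨r, v, hr, he⟩ := Groth.Agent.RH26.exists_smul_eq_sp (Groth.Agent.RH26.isCoh_dual (Groth.Agent.RH26.isCoh_dual hF)).1 hs w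
      obtain ⟨u, hu⟩ := hr
      obtain ⟨v₀, rfl⟩ := hb.2 v
      refine ⟨(u⁻¹ : (X.presheaf.stalk x)ˣ).1 • F.presheaf.stalkSpecializes hs v₀, ?_⟩
      rw [map_smul, ← Groth.Agent.RH26.stalkMapₗ_stalkSpecializes, ← he, ← hu, ← mul_smul, Units.inv_mul, one_smul]
  tfae_finish

end Groth.Agent.S16080
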