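import Groth.Statements.S16081
import Groth.Agent.Lib.RefHull26.Local
import Groth.Agent.Lib.RefHull26.Algebra
-- import your own Groth.Agent.* helpers here

set_option autoImplicit false
universe u
open CategoryTheory CategoryTheory.Limits AlgebraicGeometry TopologicalSpace
open SDiv

namespace Groth.Agent.S16081

/-- Let X be an integral locally Noetherian scheme and F, G coherent O_X-modules with G reflexive. Then
the sheaf Hom 𝓗om_{O_X}(F, G) is reflexive: its canonical map into its reflexive hull is an
isomorphism. -/
theorem result (X : Scheme.{u}) [IsIntegral X] [IsLocallyNoetherian X] (F G : X.Modules)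
    (hF : Coh.IsCoh F) (hG : Coh.IsCoh G) (hGr : RefHull.IsReflexive G) :
    RefHull.IsReflexive (RefHull.homSh F G) := by
  refine (Groth.Agent.RH26.isReflexive_iff_stalks (Groth.Agent.RH26.isCoh_homSh hF hG)).2 fun x => ?_
  haveI := Groth.Agent.M1.finite_stalk hF.1 (Groth.Agent.M1.isFP_isFT (Groth.Agent.M1.isFP_of_isCoh hF)) x
  haveI := Groth.Agent.M1.finite_stalk hG.1 (Groth.Agent.M1.isFP_isFT (Groth.Agent.M1.isFP_of_isCoh hG)) x
  haveI : Module.IsReflexive (X.presheaf.stalk x) (G.presheaf.stalk x) := (Groth.Agent.RH26.isReflexive_iff_stalks hG).1 hGr x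
  haveI := Groth.Agent.RH26.isReflexive_linearMap (R := X.presheaf.stalk x) (M := F.presheaf.stalk x) (N := G.presheaf.stalk x)
  let e := LinearEquiv.ofBijective (RefHull.evalStalk F G x) (Groth.Agent.RH26.evalStalk_bijective (Groth.Agent.M1.isFP_of_isCoh hF) G x)
  exact Module.IsReflexive.of_split e.toLinearMap e.symm.toLinearMap (LinearMap.ext fun v => e.symm_apply_apply v)

end Groth.Agent.S16081
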