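import Groth.Statements.S16083
import Groth.Agent.Lib.RefHull26.Misc
-- import your own Groth.Agent.* helpers here

set_option autoImplicit false
universe u
open CategoryTheory CategoryTheory.Limits AlgebraicGeometry TopologicalSpace
open SDiv

namespace Groth.Agent.S16083

/-- Suppose X is a normal scheme that is integral and locally Noetherian, write η for its generic point,
let F and G be coherent O_X-modules, and let T : G_η → F_η be an O_{X,η}-linear map of generic
stalks. Then T extends to a morphism G ⟶ F^** — there is a morphism ψ whose stalk map at η is T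
followed by the stalk map at η of the canonical map F ⟶ F^** — if and only if for every point x with
dim O_{X,x} = 1 the map T sends the image of G_x in G_η into the image of F_x in F_η. -/
theorem result (X : Scheme.{u}) [IsIntegral X] [IsLocallyNoetherian X]
    (hX : Pi1.IsNormalScheme X) (F G : X.Modules) (hF : Coh.IsCoh F) (hG : Coh.IsCoh G)
    (T : ↑(G.presheaf.stalk (genericPoint ↥X)) →ₗ[↑(X.presheaf.stalk (genericPoint ↥X))]
      ↑(F.presheaf.stalk (genericPoint ↥X))) :
    (∃ ψ : G ⟶ RefHull.ddual F, RefHull.stalkMapₗ ψ (genericPoint ↥X) =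
        (RefHull.stalkMapₗ (RefHull.bidualMap F) (genericPoint ↥X)).comp T) ↔
      ∀ x : ↥X, ringKrullDim ↑(X.presheaf.stalk x) = 1 →
        Set.MapsTo ⇑T
          (Set.range ⇑(G.presheaf.stalkSpecializes ((genericPoint_spec ↥X).specializes (Set.mem_univ x))).hom)
          (Set.range ⇑(F.presheaf.stalkSpecializes ((genericPoint_spec ↥X).specializes (Set.mem_univ x))).hom) := by
  have hdd : Groth.Agent.RH26.Closed1 (RefHull.ddual F) := Groth.Agent.RH26.closed1_dual hX (Groth.Agent.RH26.isCoh_dual hF)
  have hη := (Groth.Agent.RH26.bijective_bidual_stalk_iff hF _).2 (Groth.Agent.RH26.isReflexiveAt_generic hF)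
  constructor
  · rintro ⟨ψ, hψ⟩ x hx _ ⟨v, rfl⟩
    haveI := Groth.Agent.RH26.isPrincipalIdealRing_stalk hX hx.le
    obtain ⟨w, hw⟩ := Groth.Agent.RH26.surjective_bidual_of_pid hF x (RefHull.stalkMapₗ ψ x v)
    refine ⟨w, hη.1 ?_⟩
    refine (Groth.Agent.RH26.stalkMapₗ_stalkSpecializes (RefHull.bidualMap F) (Groth.Agent.RH26.gsp x) w).symm.trans ?_
    rw [hw, Groth.Agent.RH26.stalkMapₗ_stalkSpecializes, hψ]
    rfl
  · intro h
    obtain ⟨ψ, hψ⟩ := Groth.Agent.RH26.exists_hom_of_generic (F := G) hdd
      ((RefHull.stalkMapₗ (RefHull.bidualMap F) (genericPoint X)).comp T) fun x hx a ha => by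
        obtain ⟨v, rfl⟩ := ha
        obtain ⟨w, hw⟩ := h x hx ⟨v, rfl⟩
        refine ⟨RefHull.stalkMapₗ (RefHull.bidualMap F) x w, ?_⟩
        rw [Groth.Agent.RH26.stalkMapₗ_stalkSpecializes, LinearMap.comp_apply]
        exact congrArg _ hw
    exact ⟨ψ, LinearMap.ext hψ⟩

end Groth.Agent.S16083
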