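import Groth.Statements.S16084
import Groth.Agent.Lib.RefHull26.Ops
-- import your own Groth.Agent.* helpers here

set_option autoImplicit false
universe u
open CategoryTheory CategoryTheory.Limits AlgebraicGeometry TopologicalSpace
open SDiv

namespace Groth.Agent.S16084

/-- Let X be an integral locally Noetherian normal scheme, F a rank one coherent reflexive O_X-module
and s a nonzero global section of F. Let Z be the set of points x at which multiplication by the
germ of s, O_{X,x} → F_x, fails to be bijective (the complement of the open where s generates F).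
Then every irreducible component of Z has codimension 1 in X: at each point z of Z to which no other
point of Z specializes, the local ring O_{X,z} has dimension 1. -/
theorem result (X : Scheme.{u}) [IsIntegral X] [IsLocallyNoetherian X]
    (hX : Pi1.IsNormalScheme X) (F : X.Modules) (hF : RefHull.IsRef1 F) (s : Γ(F, ⊤)) (hs : s ≠ 0) (z : ↥X)
    (hz : ¬ Function.Bijective fun a : ↑(X.presheaf.stalk z) => a • F.presheaf.germ ⊤ z trivial s)
    (hmax : ∀ y : ↥X, ¬ Function.Bijective (fun a : ↑(X.presheaf.stalk y) => a • F.presheaf.germ ⊤ y trivial s) →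
      y ⤳ z → y = z) :
    ringKrullDim ↑(X.presheaf.stalk z) = 1 := by
  have hF' := Groth.Agent.RH26.R1.of_ref1 hX hF
  by_contra hdim
  refine hz ?_
  set sη := F.presheaf.germ ⊤ (genericPoint X) trivial s with hsη
  have hs0 : sη ≠ 0 := fun h0 => hs (Groth.Agent.RH26.section_ext' F fun y hy => by
    refine hF'.closed.1 y ?_
    rw [TopCat.Presheaf.germ_stalkSpecializes_apply, map_zero, map_zero]
    exact h0)
  obtain ⟨g, hg⟩ := hF'.gen
  obtain ⟨k, hk⟩ := hg.2 sη
  have hgen : Function.Bijective fun a : X.presheaf.stalk (genericPoint X) => a • sη := by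
    have hk0 : k ≠ 0 := fun h0 => hs0 (by rw [← hk, h0]; exact zero_smul _ g)
    obtain ⟨c, hc⟩ := (Groth.Agent.RH26.isField_η (X := X)).mul_inv_cancel hk0
    rw [← hk]
    exact (hg.ne_zero_smul k).2 (IsUnit.of_mul_eq_one _ hc)
  have hsp : ∀ (y : X) (a : X.presheaf.stalk y), F.presheaf.stalkSpecializes (Groth.Agent.RH26.gsp y) (a • F.presheaf.germ ⊤ y trivial s) = X.presheaf.stalkSpecializes (Groth.Agent.RH26.gsp y) a • sη := fun y a => by
    rw [Groth.Agent.Cyc26.stalkSpecializes_smul, TopCat.Presheaf.germ_stalkSpecializes_apply]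
  refine ⟨fun a b e => Groth.Agent.RH26.sp_injective z (hgen.1 ?_), fun v => ?_⟩
  · show _ • sη = _ • sη
    rw [← hsp, ← hsp]
    exact congrArg _ e
  · obtain ⟨l, hl⟩ := hgen.2 (F.presheaf.stalkSpecializes (Groth.Agent.RH26.gsp z) v)
    obtain ⟨b, hb⟩ := Groth.Agent.RH26.mem_range_sp hX z l fun ξ hξ h1 => by
      have hgood : Function.Bijective fun a : X.presheaf.stalk ξ => a • F.presheaf.germ ⊤ ξ trivial s := by
        by_contra hbad
        exact hdim (by rw [← hmax ξ hbad hξ]; exact h1)
      obtain ⟨b, hb⟩ := hgood.2 (F.presheaf.stalkSpecializes hξ v)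
      refine ⟨b, hgen.1 ?_⟩
      show _ • sη = _
      rw [← hsp, hl]
      refine (congrArg _ hb).trans ?_
      rw [Groth.Agent.RH26.sp_trans]
    refine ⟨b, hF'.closed.1 z ?_⟩
    rw [hsp, hb]
    exact hl

end Groth.Agent.S16084
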