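import Groth.Statements.S16085
import Groth.Agent.Lib.RefHull26.ClassLaw
-- import your own Groth.Agent.* helpers here

set_option autoImplicit false
universe u
open CategoryTheory CategoryTheory.Limits AlgebraicGeometry TopologicalSpace
open SDiv

namespace Groth.Agent.S16085

/-- Let X be an integral locally Noetherian normal scheme. Sending (F, G) to the reflexive hull (F
⊗_{O_X} G)^** makes the isomorphism classes of rank one coherent reflexive O_X-modules into an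
abelian group: on that set there are a commutative and associative composition law, a neutral
element and inverses, such that the product of the classes of F and G is the class of the reflexive
hull of F ⊗_{O_X} G, the neutral element is the class of O_X, and the inverse of the class of F is
the class of its dual 𝓗om_{O_X}(F, O_X). -/
theorem result (X : Scheme.{u}) [IsIntegral X] [IsLocallyNoetherian X] (hX : Pi1.IsNormalScheme X) :
    ∃ (mul : {c : PicF.Cl X // ∃ F : X.Modules, PicF.cl F = c ∧ RefHull.IsRef1 F} →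
          {c : PicF.Cl X // ∃ F : X.Modules, PicF.cl F = c ∧ RefHull.IsRef1 F} →
            {c : PicF.Cl X // ∃ F : X.Modules, PicF.cl F = c ∧ RefHull.IsRef1 F})
      (one : {c : PicF.Cl X // ∃ F : X.Modules, PicF.cl F = c ∧ RefHull.IsRef1 F})
      (inv : {c : PicF.Cl X // ∃ F : X.Modules, PicF.cl F = c ∧ RefHull.IsRef1 F} →
          {c : PicF.Cl X // ∃ F : X.Modules, PicF.cl F = c ∧ RefHull.IsRef1 F}),
      (∀ a b, mul a b = mul b a) ∧ (∀ a b c, mul (mul a b) c = mul a (mul b c)) ∧ (∀ a, mul one a = a) ∧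
        (∀ a, mul (inv a) a = one) ∧
        (∀ (F G : X.Modules) (hF : RefHull.IsRef1 F) (hG : RefHull.IsRef1 G),
          (mul ⟨PicF.cl F, F, rfl, hF⟩ ⟨PicF.cl G, G, rfl, hG⟩).1 = PicF.cl (RefHull.ddual (CohB1.tensorMod F G))) ∧
        one.1 = PicF.cl (Coh.structureModule X) ∧
        (∀ (F : X.Modules) (hF : RefHull.IsRef1 F), (inv ⟨PicF.cl F, F, rfl, hF⟩).1 = PicF.cl (RefHull.dual F)) := by
  have rep : ∀ a : {c : PicF.Cl X // ∃ F : X.Modules, PicF.cl F = c ∧ RefHull.IsRef1 F}, ∃ F : X.Modules, PicF.cl F = a.1 ∧ Groth.Agent.RH26.R1 F := fun a => by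
    obtain ⟨F, h1, h2⟩ := a.2
    exact ⟨F, h1, Groth.Agent.RH26.R1.of_ref1 hX h2⟩
  choose rp hrp hR using rep
  have key : ∀ {F : X.Modules} (a : {c : PicF.Cl X // ∃ F : X.Modules, PicF.cl F = c ∧ RefHull.IsRef1 F}), PicF.cl F = a.1 → Nonempty (rp a ≅ F) :=
    fun a h => Groth.Agent.RH26.nonempty_iso_of_cl ((hrp a).trans h.symm)
  refine ⟨fun a b => ⟨PicF.cl (RefHull.ddual (CohB1.tensorMod (rp a) (rp b))), _, rfl, ((hR a).tensorHull (hR b)).isRef1⟩, ⟨PicF.cl (Coh.structureModule X), _, rfl, (Groth.Agent.RH26.R1.structureModule hX).isRef1⟩, fun a => ⟨PicF.cl (RefHull.dual (rp a)), _, rfl, (hR a).dual.isRef1⟩, ?_, ?_, ?_, ?_, ?_, rfl, ?_⟩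
  · exact fun a b => Subtype.ext (Quot.sound ((hR a).tensorHull_comm (hR b)))
  · intro a b c
    refine Subtype.ext (Quot.sound ?_)
    obtain ⟨e1⟩ := key (F := RefHull.ddual (CohB1.tensorMod (rp a) (rp b))) ⟨_, _, rfl, ((hR a).tensorHull (hR b)).isRef1⟩ rfl
    obtain ⟨e2⟩ := key (F := RefHull.ddual (CohB1.tensorMod (rp b) (rp c))) ⟨_, _, rfl, ((hR b).tensorHull (hR c)).isRef1⟩ rfl
    obtain ⟨i1⟩ := Groth.Agent.RH26.R1.tensorHull_congr (hR _) ((hR a).tensorHull (hR b)) (hR c) (hR c) e1 (Iso.refl _)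
    obtain ⟨i2⟩ := (hR a).tensorHull_assoc (hR b) (hR c)
    obtain ⟨i3⟩ := Groth.Agent.RH26.R1.tensorHull_congr (hR a) (hR a) (hR _) ((hR b).tensorHull (hR c)) (Iso.refl _) e2
    exact ⟨i1 ≪≫ i2 ≪≫ i3.symm⟩
  · intro a
    refine Subtype.ext ?_
    refine (Quot.sound ?_ : PicF.cl _ = PicF.cl (rp a)).trans (hrp a)
    obtain ⟨e⟩ := key (F := Coh.structureModule X) ⟨_, _, rfl, (Groth.Agent.RH26.R1.structureModule hX).isRef1⟩ rfl
    obtain ⟨i1⟩ := Groth.Agent.RH26.R1.tensorHull_congr (hR _) (Groth.Agent.RH26.R1.structureModule hX) (hR a) (hR a) e (Iso.refl _)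
    obtain ⟨i2⟩ := (hR a).one_tensorHull
    exact ⟨i1 ≪≫ i2⟩
  · intro a
    refine Subtype.ext (Quot.sound ?_)
    obtain ⟨e⟩ := key (F := RefHull.dual (rp a)) ⟨_, _, rfl, (hR a).dual.isRef1⟩ rfl
    obtain ⟨i1⟩ := Groth.Agent.RH26.R1.tensorHull_congr (hR _) (hR a).dual (hR a) (hR a) e (Iso.refl _)
    obtain ⟨i2⟩ := (hR a).dual_tensorHull
    exact ⟨i1 ≪≫ i2⟩
  · intro F G hF hG
    obtain ⟨e⟩ := key (F := F) ⟨_, F, rfl, hF⟩ rfl
    obtain ⟨e'⟩ := key (F := G) ⟨_, G, rfl, hG⟩ rfl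
    exact Quot.sound (Groth.Agent.RH26.R1.tensorHull_congr (hR _) (Groth.Agent.RH26.R1.of_ref1 hX hF) (hR _) (Groth.Agent.RH26.R1.of_ref1 hX hG) e e')
  · intro F hF
    obtain ⟨e⟩ := key (F := F) ⟨_, F, rfl, hF⟩ rfl
    exact Quot.sound ((hR _).dual_congr (Groth.Agent.RH26.R1.of_ref1 hX hF) e)

end Groth.Agent.S16085
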