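import Groth.Statements.S16086
import Groth.Agent.Lib.RefHull26.Ref1
-- import your own Groth.Agent.* helpers here

set_option autoImplicit false
universe u
open CategoryTheory CategoryTheory.Limits AlgebraicGeometry TopologicalSpace
open SDiv

namespace Groth.Agent.S16086

/-- The class map is well defined and injective: fix a scheme X that is integral, normal and locally
Noetherian, and write η for its generic point; suppose F and G are rank one coherent reflexive
O_X-modules and let s ∈ F_η and t ∈ G_η be nonzero rational sections. At a point x of codimension 1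
the stalks F_x, G_x are free of rank one over the discrete valuation ring O_{X,x}, so s and t have
orders ord_{x,F}(s), ord_{x,G}(t). Then F ≅ G if and only if the Weil divisors of s and t are
linearly equivalent: for some nonzero rational function f one has ord_{x,F}(s) = ord_{x,G}(t) +
ord_x(f) at every point x of codimension 1. -/
theorem result (X : Scheme.{u}) [IsIntegral X] [IsLocallyNoetherian X]
    (hX : Pi1.IsNormalScheme X) (F G : X.Modules) (hF : RefHull.IsRef1 F) (hG : RefHull.IsRef1 G)
    (s : Cyc.secFibre F (genericPoint ↥X)) (hs : s ≠ 0) (t : Cyc.secFibre G (genericPoint ↥X)) (ht : t ≠ 0) :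
    Nonempty (F ≅ G) ↔
      ∃ f : ↑X.functionField, f ≠ 0 ∧
        ∀ (x : ↥X), Order.coheight x = 1 →
          Cyc.secOrdAt F (genericPoint ↥X) x ((genericPoint_spec ↥X).specializes (Set.mem_univ x)) s =
            Cyc.secOrdAt G (genericPoint ↥X) x ((genericPoint_spec ↥X).specializes (Set.mem_univ x)) t +
              Scheme.ord f x := by
  have hF' := Groth.Agent.RH26.R1.of_ref1 hX hF
  have hG' := Groth.Agent.RH26.R1.of_ref1 hX hG
  obtain ⟨a, rfl⟩ := Groth.Agent.RH26.exists_fmk s
  obtain ⟨b, rfl⟩ := Groth.Agent.RH26.exists_fmk t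
  have ha : a ≠ 0 := fun h => hs (by rw [h]; rfl)
  have hb : b ≠ 0 := fun h => ht (by rw [h]; rfl)
  constructor
  · rintro ⟨e⟩
    obtain ⟨g, hg⟩ := hG'.gen
    have hne : RefHull.stalkMapₗ e.hom (genericPoint X) a ≠ 0 := fun h0 =>
      ha (((Groth.Agent.RH26.isIso_iff_stalkMapₗ e.hom).1 inferInstance _).1 (h0.trans (map_zero _).symm))
    obtain ⟨k, hk⟩ := hg.2 (RefHull.stalkMapₗ e.hom (genericPoint X) a)
    obtain ⟨l, hl⟩ := hg.2 b
    simp only at hk hl
    have hl0 : l ≠ 0 := fun h0 => hb (by rw [← hl, h0, zero_smul])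
    have hk0 : k ≠ 0 := fun h0 => hne (by rw [← hk, h0, zero_smul])
    obtain ⟨c, hc⟩ := (Groth.Agent.RH26.isField_η (X := X)).mul_inv_cancel hl0
    have hc0 : c ≠ 0 := fun h0 => by rw [h0, mul_zero] at hc; exact zero_ne_one hc
    have hf : (k * c : X.functionField) ≠ 0 := mul_ne_zero (M₀ := X.functionField) hk0 hc0
    refine ⟨k * c, hf, fun x hx => ?_⟩
    have heq : RefHull.stalkMapₗ e.hom (genericPoint X) a = (k * c : X.functionField) • b := by
      rw [← hk, ← hl]
      show k • g = (k * c) • (l • g)
      rw [← mul_smul, mul_assoc, mul_comm c, hc, mul_one]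
    show Groth.Agent.RH26.ordv F x a = Groth.Agent.RH26.ordv G x b + Scheme.ord (k * c : X.functionField) x
    rw [← hF'.ordv_map e hx ha, heq, hG'.ordv_smul hx hf hb, add_comm]
  · rintro ⟨f, hf, h⟩
    refine hF'.nonempty_iso hG' ha (hG'.smul_ne_zero hf hb) fun x hx => ?_
    rw [hG'.ordv_smul hx hf hb, add_comm]
    exact h x hx

end Groth.Agent.S16086
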