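import Groth.Statements.S16087
import Groth.Agent.Lib.RefHull26.ODRef
-- import your own Groth.Agent.* helpers here

set_option autoImplicit false
universe u
open CategoryTheory CategoryTheory.Limits AlgebraicGeometry TopologicalSpace
open SDiv

namespace Groth.Agent.S16087

/-- The class map takes values in Weil divisor classes and is surjective: suppose X is a normal scheme
that is integral and locally Noetherian, and denote its generic point by η. For a rank one coherent
reflexive O_X-module F and a nonzero rational section s ∈ F_η write ord_{x,F}(s) for the order of s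
with respect to a generator of the free rank one O_{X,x}-module F_x at a point x of codimension 1.
Then (1) the function sending a codimension-1 point x to ord_{x,F}(s) and every other point to 0 has
locally finite support, so it is a Weil divisor; and (2) every Weil divisor D on X (an
integer-valued function with locally finite support vanishing outside the codimension-1 points)
arises this way: D(x) = ord_{x,F}(s) at all codimension-1 points x for some rank one coherent
reflexive F and nonzero s ∈ F_η. -/
theorem result (X : Scheme.{u}) [IsIntegral X] [IsLocallyNoetherian X]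
    (hX : Pi1.IsNormalScheme X) :
    (∀ (F : X.Modules) (hF : RefHull.IsRef1 F) (s : Cyc.secFibre F (genericPoint ↥X)), s ≠ 0 →
        ∃ D : AlgebraicCycle X ℤ, (∀ x : ↥X, Order.coheight x ≠ 1 → D x = 0) ∧
          ∀ (x : ↥X), Order.coheight x = 1 →
            D x = Cyc.secOrdAt F (genericPoint ↥X) x ((genericPoint_spec ↥X).specializes (Set.mem_univ x)) s) ∧
      ∀ D : AlgebraicCycle X ℤ, (∀ x : ↥X, Order.coheight x ≠ 1 → D x = 0) →
        ∃ (F : X.Modules) (_ : RefHull.IsRef1 F) (s : Cyc.secFibre F (genericPoint ↥X)), s ≠ 0 ∧
          ∀ (x : ↥X), Order.coheight x = 1 →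
            D x = Cyc.secOrdAt F (genericPoint ↥X) x ((genericPoint_spec ↥X).specializes (Set.mem_univ x)) s := by
  refine ⟨fun F hF s hs => ?_, fun D hD => ?_⟩
  · obtain ⟨a, rfl⟩ := Groth.Agent.RH26.exists_fmk s
    exact (Groth.Agent.RH26.R1.of_ref1 hX hF).exists_cycle (a := a) (fun h => hs (by rw [h]; rfl))
  · refine ⟨Groth.Agent.RH26.od hX D, Groth.Agent.RH26.r1_od.isRef1, Groth.Agent.Cyc26.fmk _ _ (Groth.Agent.RH26.oneη hX D), fun h => Groth.Agent.RH26.oneη_ne_zero (Groth.Agent.RH26.fmk_injective h), fun x hx => ?_⟩
    exact (Groth.Agent.RH26.ordv_oneη hx).symm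

end Groth.Agent.S16087
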