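import Groth.Statements.S1609
import Mathlib.AlgebraicGeometry.Geometrically.Irreducible
import Mathlib.AlgebraicGeometry.Morphisms.UniversallyOpen

set_option autoImplicit false
universe u
open CategoryTheory CategoryTheory.Limits AlgebraicGeometry
open Variety

namespace Groth.Agent.S1609

/-- Geometric irreducibility of a k-scheme can be checked after an arbitrary extension of the base
field. -/
theorem result (k : Type u) [Field k] (X : Scheme.{u}) [X.Over (Spec (CommRingCat.of k))] (k' : Type u) [Field k'] [Algebra k k']
    [GeometricallyIrreducible (Curv2.bcSnd k X k')] : GeometricallyIrreducible (X ↘ (Spec (CommRingCat.of k))) := by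
  refine ⟨geometrically_iff_of_isClosedUnderIsomorphisms.mpr fun K _ y => ?_⟩
  let f := X ↘ (Spec (CommRingCat.of k))
  let g : Spec (CommRingCat.of k') ⟶ Spec (CommRingCat.of k) := Spec.map (CommRingCat.ofHom (algebraMap k k'))
  haveI : Subsingleton ↥(Spec (CommRingCat.of k)) := inferInstanceAs (Subsingleton (PrimeSpectrum k))
  haveI : Surjective g := ⟨fun x => ⟨Classical.arbitrary _, Subsingleton.elim _ _⟩⟩
  obtain ⟨w, -⟩ := (Limits.pullback.fst y g).surjective (Classical.arbitrary _)
  let ι := (Limits.pullback y g).fromSpecResidueField w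
  let a := ι ≫ Limits.pullback.fst y g
  let b := ι ≫ Limits.pullback.snd y g
  have hab : a ≫ y = b ≫ g := by simp only [a, b, Category.assoc, pullback.condition]
  let P := Limits.pullback (Limits.pullback.snd f y) a
  have h1 : IsPullback (Limits.pullback.fst (Limits.pullback.snd f y) a ≫ Limits.pullback.fst f y)
      (Limits.pullback.snd (Limits.pullback.snd f y) a) f (a ≫ y) :=
    IsPullback.paste_horiz (IsPullback.of_hasPullback _ _) (IsPullback.of_hasPullback _ _)
  rw [hab] at h1
  let q : P ⟶ Curv2.bc k X k' := Limits.pullback.lift (Limits.pullback.fst (Limits.pullback.snd f y) a ≫ Limits.pullback.fst f y)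
    (Limits.pullback.snd (Limits.pullback.snd f y) a ≫ b) (by rw [Category.assoc]; exact h1.w.trans (Category.assoc _ _ _).symm)
  have h2 : IsPullback q (Limits.pullback.snd (Limits.pullback.snd f y) a) (Curv2.bcSnd k X k') b := by
    refine IsPullback.of_right ?_ (Limits.pullback.lift_snd _ _ _) (IsPullback.of_hasPullback f g)
    rwa [Limits.pullback.lift_fst]
  haveI : IrreducibleSpace P := GeometricallyIrreducible.geometrically_irreducibleSpace (f := Curv2.bcSnd k X k') b q _ h2
  haveI : Surjective a := by
    haveI : Subsingleton ↥(Spec (CommRingCat.of K)) := inferInstanceAs (Subsingleton (PrimeSpectrum K))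
    exact ⟨fun x => ⟨Classical.arbitrary _, Subsingleton.elim _ _⟩⟩
  let p := Limits.pullback.fst (Limits.pullback.snd f y) a
  refine (irreducibleSpace_def _).mpr ?_
  change IsIrreducible (Set.univ : Set ↥(Limits.pullback f y))
  rw [← p.surjective.range_eq, ← Set.image_univ]
  exact (IrreducibleSpace.isIrreducible_univ _).image p p.continuous.continuousOn

end Groth.Agent.S1609
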