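import Groth.Statements.S16095
import Groth.Agent.Lib.BMCoh.Unique
import Groth.Agent.Lib.NormFin18.Birational

set_option autoImplicit false
universe u
open CategoryTheory AlgebraicGeometry Opposite
open BMCoh

namespace Groth.Agent.S16095

open BMLib CategoryTheory.Limits TopologicalSpace Set

theorem isIso_restrict_of_le {X Y : Scheme.{u}} (f : X ⟶ Y) {U V : Y.Opens} (e : U ≤ V)
    [IsIso (f ∣_ V)] : IsIso (f ∣_ U) := by
  have sq : IsPullback (X.homOfLE (f.preimage_mono e)) (f ∣_ U) (f ∣_ V) (Y.homOfLE e) := by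
    refine (IsOpenImmersion.isPullback (f ∣_ U) (X.homOfLE (f.preimage_mono e)) (Y.homOfLE e)
      (f ∣_ V) (morphismRestrict_homOfLE f U V e).symm ?_).flip
    rw [Scheme.opensRange_homOfLE, Scheme.opensRange_homOfLE, ← Scheme.Hom.comp_preimage,
      morphismRestrict_ι]
    rfl
  exact MorphismProperty.of_isPullback (P := MorphismProperty.isomorphisms Scheme.{u}) sq
    (inferInstanceAs (IsIso (f ∣_ V)))


/-- Let T be a pre-theory (the groups, proper push-forwards and residue maps of a twisted Borel–Moore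
cohomology theory, with their conditions) with coefficients in A on a constructible class V of
Noetherian schemes, X an object, w a point of X, Y an integral object identified by e with the
normalisation of the reduced closure of w, and φ : Y → X the normalisation map followed by the
inclusion of that closure, assumed proper (so that the normalisation map is finite). Let L be a
push-forward datum of groups of points along φ from the generic point of Y to w: maps H^i(η_Y, M(n))
→ H^i(w, M(n)) that, read through nonempty opens of the two reduced closures, are proper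
push-forward along the restrictions of φ. Then each map L is bijective. (Only the push-forward
structure of T is used, so the result is stated for a pre-theory; properness of φ is a hypothesis,
automatic when the closure of w has finite normalisation.) -/
theorem result
    (V : ObjectProperty Scheme.{u}) [BMCoh.IsConstructible V] (R : Type u) [CommRing R]
    (A : BMCoh.Coefs R) (T : BMCoh.PreTheory V R A) (X : BMCoh.Obj V) (w : X.scheme)
    [IsIntegral (X.ptSub w).scheme]
    [QuasiCompact ((X.ptSub w).scheme.fromSpecStalk (genericPoint (X.ptSub w).scheme))]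
    [QuasiSeparated ((X.ptSub w).scheme.fromSpecStalk (genericPoint (X.ptSub w).scheme))]
    (Y : BMCoh.Obj V) [IsIntegral Y.scheme] (e : Y.scheme ≅ Curv2.normalization (X.ptSub w).scheme)
    (φ : Y.scheme ⟶ X.scheme) [IsProper φ]
    (hφ : φ = e.hom ≫ Curv2.normalizationι (X.ptSub w).scheme ≫ X.ptSubι w)
    (L : T.PtPush φ (genericPoint Y.scheme) w) (M : A.Cat) (i n : ℤ) :
    Function.Bijective (L.cpt M i n).hom := by
  let Z := (X.ptSub w).scheme
  let ν : Curv2.normalization Z ⟶ Z := Curv2.normalizationι Z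
  have hφ' : φ = (e.hom ≫ ν) ≫ subι X (pt X w) := hφ.trans (Category.assoc _ _ _).symm
  haveI : IsProper ((e.hom ≫ ν) ≫ subι X (pt X w)) := hφ' ▸ inferInstance
  haveI : IsProper (e.hom ≫ ν) := IsProper.of_comp (e.hom ≫ ν) (subι X (pt X w))
  haveI : IsProper ν := by
    have h : ν = e.inv ≫ e.hom ≫ ν := (e.inv_hom_id_assoc ν).symm
    rw [h]; infer_instance
  let g : Spec (CommRingCat.of Z.functionField) ⟶ Z := Z.fromSpecStalk (genericPoint Z)
  haveI : QuasiCompact g := ‹QuasiCompact ((X.ptSub w).scheme.fromSpecStalk _)›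
  haveI : QuasiSeparated g := ‹QuasiSeparated ((X.ptSub w).scheme.fromSpecStalk _)›
  haveI : IsProper g.fromNormalization := ‹IsProper ν›
  haveI : IsFinite g.fromNormalization :=
    IsFinite.iff_isProper_and_isAffineHom.2 ⟨inferInstance, inferInstance⟩
  have hg : g = Spec.map (CommRingCat.ofHom (RingHom.id Z.functionField)) ≫
      Z.fromSpecStalk (genericPoint Z) := by
    rw [CommRingCat.ofHom_id, Spec.map_id]; exact (Category.id_comp _).symm
  obtain ⟨V₁, hV₁, hiso⟩ := Groth.Agent.NormFin18.exists_isIso_restrict (g := g) hg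
  haveI : IsIso (ν ∣_ V₁) := hiso
  let x : X.cdPt (WeilCoh.codim X.scheme w) := ⟨w, rfl⟩
  have := irreducibleSpace_sub_pt X w
  obtain ⟨U₀, hU₀, hV⟩ := exists_open_of_ptIdx x
    ⟨V₁, hV₁, IsConstructible.dim_open (X.ptSub w).mem this V₁ hV₁⟩
  have hV' : V₁ = subι X (pt X w) ⁻¹ᵁ U₀ := congrArg Subtype.val hV
  have hwη : φ (genericPoint Y.scheme) = w := L.maps_pt
  have hpd : WeilCoh.pdim X.scheme w = WeilCoh.pdim Y.scheme (genericPoint Y.scheme) := by
    have h1 := L.codim_eq
    rw [relCodim, dim_ptSub, dim_ptSub] at h1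
    omega
  let η : Y.cdPt (WeilCoh.codim Y.scheme (genericPoint Y.scheme)) := ⟨genericPoint Y.scheme, rfl⟩
  have hdY : ∀ O : Y.scheme.Opens, η.1 ∈ O → IsPc Y _ (pt Y η.1) O := fun O hO =>
    ⟨IsConstructible.dim_open Y.mem inferInstance O ⟨_, hO⟩, by
      rw [dim_pc_pt Y hO]
      have h := pdim_le_dim (finDim Y) η.1
      change _ + (WeilCoh.dim Y.scheme - WeilCoh.pdim Y.scheme η.1) = _
      omega⟩
  have hdX : ∀ U : X.scheme.Opens, ContainsFj X (WeilCoh.codim X.scheme w) U →
      IsPc X _ (pt X w) U := fun U hU =>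
    ⟨dim_open_of_containsFj X hU, by
      rw [dim_pc_pt X (hU w le_rfl)]
      have h := pdim_le_dim (finDim X) w
      change _ + (WeilCoh.dim X.scheme - WeilCoh.pdim X.scheme w) = _
      omega⟩
  have hmem : ∀ U : X.scheme.Opens, ContainsFj X (WeilCoh.codim X.scheme w) U →
      η.1 ∈ φ ⁻¹ᵁ U := fun U hU => by
    change φ (genericPoint Y.scheme) ∈ U
    rw [hwη]; exact hU w le_rfl
  have key : ∀ U : X.scheme.Opens, U ≤ U₀ →
      ∃ f : (pc Y (pt Y η.1) (φ ⁻¹ᵁ U)).scheme ⟶ (pc X (pt X w) U).scheme,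
        IsIso f ∧ f ≫ pcX X (pt X w) U = pcX Y (pt Y η.1) (φ ⁻¹ᵁ U) ≫ φ := by
    intro U hU
    haveI : IsIso (ν ∣_ (subι X (pt X w) ⁻¹ᵁ U)) :=
      isIso_restrict_of_le ν (V := V₁) (hV'.symm ▸ (subι X (pt X w)).preimage_mono hU)
    haveI : IsIso (pcι Y (pt Y η.1) (φ ⁻¹ᵁ U)) := by
      haveI : IsReduced (Y.res (φ ⁻¹ᵁ U)).scheme := isReduced_of_isOpenImmersion (φ ⁻¹ᵁ U).ι
      haveI : Surjective (pcι Y (pt Y η.1) (φ ⁻¹ᵁ U)) := ⟨fun z => by
        obtain ⟨z', hz'⟩ := (range_pcX Y (pt Y η.1) (φ ⁻¹ᵁ U)).symm.subset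
          (show (φ ⁻¹ᵁ U).ι z ∈ _ from ⟨specializes_iff_mem_closure.1 (genericPoint_specializes _),
            (φ ⁻¹ᵁ U).range_ι.subset ⟨z, rfl⟩⟩)
        refine ⟨z', (φ ⁻¹ᵁ U).ι.isEmbedding.injective ?_⟩
        rw [← Scheme.Hom.comp_apply, pcι_ι]
        exact hz'⟩
      exact isIso_of_isClosedImmersion_of_surjective _
    haveI : IsIso ((e.hom ≫ ν) ∣_ (subι X (pt X w) ⁻¹ᵁ U)) := by
      haveI : IsIso (e.hom ∣_ (ν ⁻¹ᵁ (subι X (pt X w) ⁻¹ᵁ U))) :=
        MorphismProperty.of_isPullback (P := MorphismProperty.isomorphisms Scheme.{u})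
          (isPullback_morphismRestrict e.hom _).flip (inferInstanceAs (IsIso e.hom))
      rw [morphismRestrict_comp]; exact @IsIso.comp_isIso _ _ _ _ _ _ _ this inferInstance
    have hO : φ ⁻¹ᵁ U = (e.hom ≫ ν) ⁻¹ᵁ (subι X (pt X w) ⁻¹ᵁ U) := by
      rw [hφ']; rfl
    refine ⟨pcι Y (pt Y η.1) (φ ⁻¹ᵁ U) ≫ (Y.scheme.isoOfEq hO).hom ≫
      ((e.hom ≫ ν) ∣_ (subι X (pt X w) ⁻¹ᵁ U)), inferInstance, ?_⟩
    simp only [Category.assoc]
    rw [morphismRestrict_ι_assoc, Scheme.isoOfEq_hom_ι_assoc, pcι_ι_assoc, hφ']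
    try simp only [Category.assoc]
  have hpush : ∀ (P P' : Obj V) (f : P.scheme ⟶ P'.scheme) [IsIso f]
      (hi : i = i + 2 * relCodim P.scheme P'.scheme) (hn : n = n + relCodim P.scheme P'.scheme),
      Function.Bijective (T.push f M i n i n hi hn).hom := by
    intro P P' f _ hi hn
    have hd : WeilCoh.dim P.scheme = WeilCoh.dim P'.scheme := dim_eq_of_iso (asIso f)
    have e₁ := T.push_comp f (inv f) M i n i n i n hi hn (by simp [relCodim, hd])
      (by simp [relCodim, hd]) (by simp [relCodim]) (by simp [relCodim])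
    have e₂ := T.push_comp (inv f) f M i n i n i n (by simp [relCodim, hd]) (by simp [relCodim, hd])
      hi hn (by simp [relCodim]) (by simp [relCodim])
    simp only [IsIso.hom_inv_id, T.push_id] at e₁
    simp only [IsIso.inv_hom_id, T.push_id] at e₂
    refine ⟨fun a b hab => ?_, fun c => ⟨_, congrArg (fun k => k.hom c) e₂⟩⟩
    have h1 := congrArg (fun k => k.hom a) e₁
    have h2 := congrArg (fun k => k.hom b) e₁
    simp only [ModuleCat.hom_comp, LinearMap.comp_apply, ModuleCat.hom_id, LinearMap.id_apply] at h1 h2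
    rw [← h1, ← h2, hab]
  have hL : ∀ (U : X.scheme.Opens) (hU : ContainsFj X (WeilCoh.codim X.scheme w) U)
      (f : (pc Y (pt Y η.1) (φ ⁻¹ᵁ U)).scheme ⟶ (pc X (pt X w) U).scheme) [IsIso f],
      f ≫ pcX X (pt X w) U = pcX Y (pt Y η.1) (φ ⁻¹ᵁ U) ≫ φ →
      ∃ (hi : i = i + 2 * relCodim (pc Y (pt Y η.1) (φ ⁻¹ᵁ U)).scheme (pc X (pt X w) U).scheme)
        (hn : n = n + relCodim (pc Y (pt Y η.1) (φ ⁻¹ᵁ U)).scheme (pc X (pt X w) U).scheme),
      ∀ b, (L.cpt M i n).hom ((ptCls T M (hmem U hU) i n).hom b) =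
        (ptCls T M (hU w le_rfl) i n).hom ((T.push f M i n i n hi hn).hom b) := by
    intro U hU f _ hf
    have hd := dim_eq_of_iso (asIso f)
    exact ⟨by simp [relCodim, hd], by simp [relCodim, hd], fun b => congrArg (fun k => k.hom b)
      (L.cpt_spec M i n (pcIdx Y (hmem U hU)) (pcIdx X (hU w le_rfl)) f
        (hf.trans (Category.assoc _ _ _)) _ _)⟩
  constructor
  · rw [injective_iff_map_eq_zero]
    intro a ha
    obtain ⟨O₁, hO₁, b, rfl⟩ := exists_ptCls T M η i n a
    let U : X.scheme.Opens := U₀ ⊓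
      ⟨(φ '' (O₁ : Set Y.scheme)ᶜ)ᶜ, (φ.isClosedMap _ O₁.isOpen.isClosed_compl).isOpen_compl⟩
    have hU : ContainsFj X (WeilCoh.codim X.scheme w) U := by
      refine fun y hy => ⟨hU₀ y hy, ?_⟩
      rintro ⟨z, hz, rfl⟩
      have h1 := pdim_map_le φ z
      have h2 := pdim_lt_of_specializes (finDim Y) (genericPoint_specializes z)
        (fun h => hz (h ▸ hO₁ η.1 le_rfl))
      have h3 := pdim_le_dim (finDim X) w
      unfold WeilCoh.codim at hy
      omega
    have hUO : φ ⁻¹ᵁ U ≤ O₁ := fun z hz => by_contra fun hz' => hz.2 ⟨z, hz', rfl⟩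
    obtain ⟨f, hfi, hf⟩ := key U inf_le_left
    rw [← ptCls_pull T M (hdY O₁ (hO₁ η.1 le_rfl)) (hdY _ (hmem U hU)) _ (hmem U hU) hUO] at ha ⊢
    generalize (T.pull (pcHom (hdY _ (hmem U hU)) (hdY O₁ (hO₁ η.1 le_rfl)) hUO) M i n).hom b
      = b' at ha ⊢
    obtain ⟨hi, hn, hLb⟩ := hL U hU f hf
    rw [hLb] at ha
    obtain ⟨U', hle, hU', hpc', hz⟩ :=
      exists_pull_ptCls_eq_zero T M x (hdX U hU) hU i n _ ha
    obtain ⟨f', hfi', hf'⟩ := key U' (hle.trans inf_le_left)
    rw [← ptCls_pull T M (hdY _ (hmem U hU)) (hdY _ (hmem U' hU')) (hmem U hU) (hmem U' hU')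
      (φ.preimage_mono hle)]
    have hd := dim_eq_of_iso (asIso f')
    have sq : IsPullback (pcHom (hdY _ (hmem U' hU')) (hdY _ (hmem U hU)) (φ.preimage_mono hle)).hom
        f' f (pcHom hpc' (hdX U hU) hle).hom := by
      refine IsPullback.of_vert_isIso ⟨pcX_inj X ?_⟩
      simp only [pcHom, Category.assoc]
      rw [hf, Scheme.homOfLE_ι_assoc]
      refine Eq.trans ?_ hf'.symm
      exact (Category.assoc _ _ _).symm.trans (congrArg (· ≫ φ)
        ((Category.assoc _ _ _).symm.trans (congrArg (· ≫ subι Y (pt Y η.1))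
          (Scheme.homOfLE_ι _ _))))
    have hpp := T.push_pull f f' (pcHom hpc' (hdX U hU) hle)
      (pcHom (hdY _ (hmem U' hU')) (hdY _ (hmem U hU)) (φ.preimage_mono hle)) sq M i n i n hi hn
      (by simp [relCodim, hd]) (by simp [relCodim, hd])
    have hz' := (congrArg (fun k => k.hom b') hpp).symm.trans hz
    exact (congrArg _ ((map_eq_zero_iff _ (hpush _ _ f' _ _).1).1 hz')).trans (map_zero _)
  · intro c
    obtain ⟨U₁, hU₁, b, rfl⟩ := exists_ptCls T M x i n c
    let U : X.scheme.Opens := U₀ ⊓ U₁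
    have hU : ContainsFj X (WeilCoh.codim X.scheme w) U := fun y hy => ⟨hU₀ y hy, hU₁ y hy⟩
    obtain ⟨f, hfi, hf⟩ := key U inf_le_left
    obtain ⟨hi, hn, hLb⟩ := hL U hU f hf
    obtain ⟨b', hb'⟩ := (hpush _ _ f hi hn).2
      ((T.pull (pcHom (hdX U hU) (hdX U₁ hU₁) inf_le_right) M i n).hom b)
    refine ⟨(ptCls T M (hmem U hU) i n).hom b', ?_⟩
    rw [hLb, hb', ptCls_pull]

end Groth.Agent.S16095
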