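import Groth.Statements.S16097
import Groth.Agent.Lib.BMCoh.ResiduePush
import Groth.Agent.Lib.BMCoh.Unique

set_option autoImplicit false
universe u
open CategoryTheory AlgebraicGeometry Opposite
open BMCoh

namespace Groth.Agent.S16097

open BMLib CategoryTheory.Limits TopologicalSpace Set

section

variable {V : ObjectProperty Scheme.{u}} [IsConstructible V] {R : Type u} [CommRing R] {A : Coefs R}
  (T : PreTheory V R A) (M : A.Cat)

theorem incl_pcX {X : Obj V} {c : ℕ} {S : Finset (X.cdPt c)} {Y : X.scheme.Opens} (h : Good S Y)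
    {s : X.cdPt c} (hs : s ∈ S) :
    (incl h hs).hom ≫ pcX X (cl S) Y = pcX X (pt X s.1) Y :=
  pcMap_pcX X (pt_sub hs Y)

theorem lof_apply_ne {R : Type*} [Semiring R] {ι : Type*} [DecidableEq ι] {N : ι → Type*}
    [∀ i, AddCommMonoid (N i)] [∀ i, Module R (N i)] {i j : ι} (h : j ≠ i) (b : N i) :
    DirectSum.lof R ι N i b j = 0 :=
  DFinsupp.single_eq_of_ne h

/-- Push-forward between objects of the same dimension. -/
noncomputable def push₀ {W Z : Obj V} (f : W.scheme ⟶ Z.scheme) [IsProper f]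
    (hd : WeilCoh.dim W.scheme = WeilCoh.dim Z.scheme) (i n : ℤ) : T.gp W M i n ⟶ T.gp Z M i n :=
  T.push f M i n i n (by simp [relCodim, hd]) (by simp [relCodim, hd])

theorem push₀_comp {W W' Z : Obj V} (f : W.scheme ⟶ W'.scheme) (g : W'.scheme ⟶ Z.scheme)
    [IsProper f] [IsProper g] (hf : WeilCoh.dim W.scheme = WeilCoh.dim W'.scheme)
    (hg : WeilCoh.dim W'.scheme = WeilCoh.dim Z.scheme) (i n : ℤ) (a : T.gp W M i n) :
    (push₀ T M g hg i n).hom ((push₀ T M f hf i n).hom a) =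
      (push₀ T M (f ≫ g) (hf.trans hg) i n).hom a :=
  congrArg (fun k => k.hom a) (T.push_comp f g M i n i n i n _ _ _ _ _ _)

theorem exists_pushLift {X Y : Obj V} (φ : Y.scheme ⟶ X.scheme) [IsProper φ]
    (K' : Closeds Y.scheme) (K : Closeds X.scheme) (Y₀ : X.scheme.Opens)
    (h : (K' : Set Y.scheme) ∩ (φ ⁻¹ᵁ Y₀ : Set Y.scheme) ⊆ φ ⁻¹' (K : Set X.scheme)) :
    ∃ g : (pc Y K' (φ ⁻¹ᵁ Y₀)).scheme ⟶ (pc X K Y₀).scheme,
      IsProper g ∧ g ≫ pcX X K Y₀ = pcX Y K' (φ ⁻¹ᵁ Y₀) ≫ φ ∧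
        g ≫ pcι X K Y₀ = pcι Y K' (φ ⁻¹ᵁ Y₀) ≫ (φ ∣_ Y₀) := by
  obtain ⟨g, hg⟩ := exists_pcLift X (pcX Y K' (φ ⁻¹ᵁ Y₀) ≫ φ) K Y₀ (by
    rw [Scheme.Hom.comp_base, TopCat.coe_comp, Set.range_comp, range_pcX]
    rintro _ ⟨z, hz, rfl⟩
    exact ⟨h hz, hz.2⟩)
  haveI : IsProper (φ ∣_ Y₀) :=
    MorphismProperty.of_isPullback (isPullback_morphismRestrict φ Y₀).flip inferInstance
  haveI := isProper_pcι K' (φ ⁻¹ᵁ Y₀)
  have hι : g ≫ pcι X K Y₀ = pcι Y K' (φ ⁻¹ᵁ Y₀) ≫ (φ ∣_ Y₀) := by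
    rw [← cancel_mono Y₀.ι, Category.assoc, pcι_ι, hg]
    refine Eq.trans ?_ (Category.assoc _ _ _).symm
    rw [morphismRestrict_ι, pcι_ι_assoc, Category.assoc]
  haveI : IsProper (g ≫ pcι X K Y₀) := hι ▸ inferInstance
  exact ⟨g, IsProper.of_comp g (pcι X K Y₀), hg, hι⟩

end

set_option maxHeartbeats 1000000 in
/-- Let T be a pre-theory (the groups, proper push-forwards and residue maps of a twisted Borel–Moore
cohomology theory, with their conditions) with coefficients in A on a constructible class V of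
Noetherian schemes. Assume moreover that the residue maps of T are compatible with replacing the
closed part of a decomposition by a closed subscheme with the same support: whenever D and D'' are
decompositions of one object whose open parts are identified over it (gU) and k is a surjective
closed immersion from the closed part of D'' to that of D over it, the residue map of D'' followed
by push-forward along k is the residue map of D (hypothesis hred. The published lemma states neither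
this hypothesis nor the properness of φ below, that is the finiteness of the normalisation map,
which it uses through the push-forward along that map; it reads the functoriality of the Gysin
sequences under a proper morphism f, asked of such a theory with closed part Z' = f⁻¹(Z), as
including this case, while the conditions of a pre-theory here ask that functoriality only when the
closed parts form a cartesian square). Let X be an object, w a point of X of codimension q, Y an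
integral object identified by e with the normalisation of the reduced closure of w, φ : Y → X the
normalisation map followed by the inclusion of that closure, assumed proper, and η the generic point
of Y, of codimension 0. Let P be push-forward data for X at level q (maps ι_x : H^i(x, M(n)) →
H^{i+2q}(F_qX, M(n+q)) for the points x of codimension q, agreeing with proper push-forward), Q
residue data for X at level q (maps ∂_x : H^{i₁}(F_qX, M(n₁)) → H^{i₂}(x, M(n₂)) for the points x of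
codimension q + 1, agreeing with the residue maps of decompositions, finitely supported values), L a
push-forward datum of groups of points along φ from η to w, P' and Q' the corresponding data for Y
at level 0, t a map from the points of codimension 1 of Y to the points of codimension q + 1 of X,
and F y, for each point y of codimension 1 of Y, a push-forward datum of groups of points along φ
from y to t y (in particular t y = φ(y)). The bidegrees (i₁, n₁) = (i + 2q, n + q), (i₂, n₂) = (i₁ +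
1 − 2(q+1), n₁ − (q+1)) = (i₃ + 1 − 2, n₃ − 1) and (i₃, n₃) = (i, n) are integer variables carried
with these equations. Then for every a ∈ H^i(η, M(n)), applying L, then ι_w, then the total residue
map ∂ of X at level q gives the same element of ⊕_x H^{i₂}(x, M(n₂)) (x of codimension q + 1 in X)
as applying ι'_η, then the total residue map ∂' of Y at level 0, then the sum map ⊕_y H^{i₂}(y,
M(n₂)) → ⊕_x H^{i₂}(x, M(n₂)) that sends the summand of y into the summand of t y by F y. (Stated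
for a pre-theory: only push-forwards and residue maps with their conditions enter.) -/
theorem result
    (V : ObjectProperty Scheme.{u}) [BMCoh.IsConstructible V] (R : Type u) [CommRing R]
    (A : BMCoh.Coefs R) (T : BMCoh.PreTheory V R A)
    (hred : ∀ (S : BMCoh.Obj V) (D D'' : BMCoh.Decomp S) (gU : D''.U ⟶ D.U)
      (k : D''.Z.scheme ⟶ D.Z.scheme) [IsClosedImmersion k] [AlgebraicGeometry.Surjective k],
      gU ≫ D.j = D''.j → k ≫ D.i = D''.i →
      ∀ (M : A.Cat) (i n i' n' : ℤ) (hi : i' = i + 1 - 2 * D.codim) (hn : n' = n - D.codim)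
        (hi'' : i' = i + 1 - 2 * D''.codim) (hn'' : n' = n - D''.codim)
        (hk : i' = i' + 2 * BMCoh.relCodim D''.Z.scheme D.Z.scheme)
        (hk' : n' = n' + BMCoh.relCodim D''.Z.scheme D.Z.scheme),
      T.pull gU M i n ≫ T.res D'' M i n i' n' hi'' hn'' ≫ T.push k M i' n' i' n' hk hk' =
        T.res D M i n i' n' hi hn)
    (X : BMCoh.Obj V) (q : ℕ) (w : X.cdPt q)
    [IsIntegral (X.ptSub w.1).scheme]
    [QuasiCompact ((X.ptSub w.1).scheme.fromSpecStalk (genericPoint (X.ptSub w.1).scheme))]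
    [QuasiSeparated ((X.ptSub w.1).scheme.fromSpecStalk (genericPoint (X.ptSub w.1).scheme))]
    (Y : BMCoh.Obj V) [IsIntegral Y.scheme] (e : Y.scheme ≅ Curv2.normalization (X.ptSub w.1).scheme)
    (φ : Y.scheme ⟶ X.scheme) [IsProper φ]
    (hφ : φ = e.hom ≫ Curv2.normalizationι (X.ptSub w.1).scheme ≫ X.ptSubι w.1)
    (hη : WeilCoh.codim Y.scheme (genericPoint Y.scheme) = 0)
    (P : T.PushData X q) (Q : T.ResData X q) (L : T.PtPush φ (genericPoint Y.scheme) w.1)
    (P' : T.PushData Y 0) (Q' : T.ResData Y 0) (t : Y.cdPt 1 → X.cdPt (q + 1))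
    (F : ∀ y : Y.cdPt 1, T.PtPush φ y.1 (t y).1)
    (M : A.Cat) (i n i₁ n₁ i₂ n₂ i₃ n₃ : ℤ)
    (h1 : i₁ = i + 2 * (q : ℤ)) (h1' : n₁ = n + (q : ℤ))
    (h2 : i₂ = i₁ + 1 - 2 * ((q : ℤ) + 1)) (h2' : n₂ = n₁ - ((q : ℤ) + 1))
    (h3 : i₃ = i + 2 * ((0 : ℕ) : ℤ)) (h3' : n₃ = n + ((0 : ℕ) : ℤ))
    (h4 : i₂ = i₃ + 1 - 2 * (((0 : ℕ) : ℤ) + 1)) (h4' : n₂ = n₃ - (((0 : ℕ) : ℤ) + 1))
    (a : T.ptGp Y (genericPoint Y.scheme) M i n) :
    (Q.tot M i₁ n₁ i₂ n₂ h2 h2').hom ((P.cpt w M i n i₁ n₁ h1 h1').hom ((L.cpt M i n).hom a)) =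
      (BMCoh.PreTheory.PtPush.famTot t F M i₂ n₂).hom
        ((Q'.tot M i₃ n₃ i₂ n₂ h4 h4').hom
          ((P'.cpt ⟨genericPoint Y.scheme, hη⟩ M i n i₃ n₃ h3 h3').hom a)) := by
  classical
  -- dimensions
  have hwη : φ (genericPoint Y.scheme) = w.1 := L.maps_pt
  have hdY : WeilCoh.dim Y.scheme = WeilCoh.pdim Y.scheme (genericPoint Y.scheme) := by
    have h1 := pdim_le_dim (finDim Y) (genericPoint Y.scheme)
    unfold WeilCoh.codim at hη
    omega
  have hdw : WeilCoh.pdim X.scheme w.1 = WeilCoh.dim Y.scheme := by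
    have h1 := L.codim_eq
    rw [relCodim, dim_ptSub, dim_ptSub] at h1
    omega
  have hdX : WeilCoh.dim Y.scheme + q = WeilCoh.dim X.scheme := by
    have h1 := pdim_le_dim (finDim X) w.1
    have h2 : WeilCoh.dim X.scheme - WeilCoh.pdim X.scheme w.1 = q := w.2
    omega
  have hle : ∀ z : Y.scheme, q + WeilCoh.codim Y.scheme z ≤ WeilCoh.codim X.scheme (φ z) := by
    intro z
    have h1 := pdim_map_le φ z
    have h2 := pdim_le_dim (finDim Y) z
    unfold WeilCoh.codim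
    omega
  have hη' : ∀ z : Y.scheme, WeilCoh.codim Y.scheme z ≤ 0 → z = genericPoint Y.scheme := fun z hz =>
    specializes_eq_of_codim_le (finDim Y) (genericPoint_specializes z) (by omega)
  have hF1 : ∀ z : Y.scheme, WeilCoh.codim Y.scheme z ≤ 1 →
      WeilCoh.codim X.scheme (φ z) ≤ q + 1 := by
    intro z hz
    rcases Nat.le_one_iff_eq_zero_or_eq_one.1 hz with h0 | h1'
    · rw [hη' z h0.le, hwη, w.2]; omega
    · have h := (F ⟨z, h1'⟩).maps_pt
      exact (le_of_eq ((congrArg (WeilCoh.codim X.scheme) h).trans (t ⟨z, h1'⟩).2))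
  -- a representative of the class
  obtain ⟨O₁, hO₁, b, hb⟩ := exists_ptCls T M (⟨genericPoint Y.scheme, hη⟩ : Y.cdPt 0) i n a
  subst hb
  -- the opens
  let U₁ : X.scheme.Opens :=
    ⟨(φ '' (O₁ : Set Y.scheme)ᶜ)ᶜ, (φ.isClosedMap _ O₁.isOpen.isClosed_compl).isOpen_compl⟩
  have hU₁ : ContainsFj X q U₁ := by
    rintro _ hz ⟨z, hz₁, rfl⟩
    have := hle z
    exact hz₁ (hO₁ z (by omega))
  obtain ⟨S, Ya, -, hYa, hga, hUa⟩ :=
    exists_cover (X := X) hU₁ (Y₀ := ⊤) (fun _ _ => trivial)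
  let U₂ : Y.scheme.Opens :=
    ⟨(φ ⁻¹' (cl S : Set X.scheme))ᶜ,
      ((cl S).isClosed.preimage φ.continuous).isOpen_compl⟩
  have hU₂ : ContainsFj Y 0 U₂ := by
    intro z hz hz'
    rw [hη' z hz] at hz'
    have := le_codim_of_mem_cl (show φ (genericPoint Y.scheme) ∈ (cl S : Set X.scheme) from hz')
    rw [hwη, w.2] at this
    omega
  obtain ⟨SY, Yb, -, hYb, hgb, hUb⟩ :=
    exists_cover (X := Y) hU₂ (Y₀ := ⊤) (fun _ _ => trivial)
  let Y₀ : X.scheme.Opens :=
    Ya ⊓ ⟨(φ '' (Yb : Set Y.scheme)ᶜ)ᶜ, (φ.isClosedMap _ Yb.isOpen.isClosed_compl).isOpen_compl⟩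
  have hY₀ : ContainsFj X (q + 1) Y₀ := by
    refine fun z hz => ⟨hYa z hz, ?_⟩
    rintro ⟨z', hz', rfl⟩
    have := hle z'
    exact hz' (hYb z' (by omega))
  have hV₀ : ContainsFj Y 1 (φ ⁻¹ᵁ Y₀) := fun z hz => hY₀ _ (hF1 z hz)
  have hVb : φ ⁻¹ᵁ Y₀ ≤ Yb := fun z hz => by_contra fun hz' => hz.2 ⟨z, hz', rfl⟩
  have hgX : Good S Y₀ := hga.of_le inf_le_left hY₀
  have hgY : Good SY (φ ⁻¹ᵁ Y₀) := hgb.of_le hVb hV₀
  let U : X.scheme.Opens := Y₀ ⊓ ⟨(cl S : Set X.scheme)ᶜ, (cl S).isClosed.isOpen_compl⟩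
  have hU : (U : Set X.scheme) = (Y₀ : Set X.scheme) \ cl S := rfl
  have hUq : ContainsFj X q U :=
    containsFj_diff (fun z hz => hY₀ z (hz.trans (Nat.le_succ q))) hU
  have hUO : φ ⁻¹ᵁ U ≤ O₁ := fun z hz => by_contra fun hz' =>
    (hUa.symm.subset ⟨hz.1.1, hz.2⟩).1 ⟨z, hz', rfl⟩
  have hmem : ∀ z ∈ φ ⁻¹ᵁ Y₀, (φ z ∈ (cl S : Set X.scheme) ↔ z ∈ (cl SY : Set Y.scheme)) := by
    intro z hz
    constructor
    · intro h
      by_contra hz'
      exact (hUb.symm.subset ⟨hVb hz, hz'⟩).1 h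
    · intro h
      by_contra hz'
      exact (hUb.subset ⟨hz', hVb hz⟩).2 h
  have hK : (cl SY : Set Y.scheme) ∩ (φ ⁻¹ᵁ Y₀ : Set Y.scheme) =
      φ ⁻¹' (cl S : Set X.scheme) ∩ (φ ⁻¹ᵁ Y₀ : Set Y.scheme) :=
    Set.ext fun z => ⟨fun h => ⟨(hmem z h.2).2 h.1, h.2⟩, fun h => ⟨(hmem z h.2).1 h.1, h.2⟩⟩
  have hU' : ((φ ⁻¹ᵁ U : Y.scheme.Opens) : Set Y.scheme) =
      (φ ⁻¹ᵁ Y₀ : Set Y.scheme) \ cl SY :=
    Set.ext fun z => ⟨fun h => ⟨h.1, fun h' => h.2 ((hmem z h.1).2 h')⟩,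
      fun h => ⟨h.1, fun h' => h.2 ((hmem z h.1).1 h')⟩⟩
  have hO : ContainsFj Y 0 (φ ⁻¹ᵁ U) :=
    containsFj_diff (fun z hz => hV₀ z (hz.trans (Nat.le_succ 0))) hU'
  have ht : ∀ y : Y.cdPt 1, φ y.1 = (t y).1 := fun y => (F y).maps_pt
  have hSY : ∀ y : Y.cdPt 1, t y ∈ S ↔ y ∈ SY := by
    intro y
    have hy : y.1 ∈ φ ⁻¹ᵁ Y₀ := hV₀ y.1 y.2.le
    constructor
    · intro h
      exact mem_of_mem_cl ((hmem y.1 hy).1 (mem_cl.2 ⟨t y, h, (ht y).symm ▸ specializes_rfl⟩))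
    · intro h
      have h' := (hmem y.1 hy).2 (mem_cl.2 ⟨y, h, specializes_rfl⟩)
      rw [ht y] at h'
      exact mem_of_mem_cl h'
  have hne : S.Nonempty → SY.Nonempty := by
    rintro ⟨s, hs⟩
    have hs₁ : s.1 ∈ φ '' (O₁ : Set Y.scheme)ᶜ := by
      by_contra h
      exact (hUa.subset ⟨h, hga.mem s hs⟩).2 (mem_cl.2 ⟨s, hs, specializes_rfl⟩)
    obtain ⟨z, hz, hzs⟩ := hs₁
    have h1z : ¬ WeilCoh.codim Y.scheme z ≤ 0 := fun h => hz (hO₁ z h)
    have h2z := hle z
    rw [hzs, s.2] at h2z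
    let y : Y.cdPt 1 := ⟨z, by omega⟩
    exact ⟨y, (hSY y).1 ((Subtype.ext ((ht y).symm.trans hzs) : t y = s).symm ▸ hs)⟩
  -- the class on the smaller open
  have hηO₁ : genericPoint Y.scheme ∈ O₁ := hO₁ _ hη.le
  have hηO : genericPoint Y.scheme ∈ φ ⁻¹ᵁ U := hO _ hη.le
  have hwU : w.1 ∈ U := hUq _ w.2.le
  have hpc : ∀ {O : Y.scheme.Opens}, ContainsFj Y 0 O →
      IsPc Y 0 (pt Y (genericPoint Y.scheme)) O := fun {O} h =>
    ⟨dim_open_of_containsFj Y h, by rw [dim_pc_pt Y (h _ hη.le)]; omega⟩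
  have hpcw : IsPc X q (pt X w.1) U :=
    ⟨dim_open_of_containsFj X hUq, by rw [dim_pc_pt X hwU]; omega⟩
  rw [← ptCls_pull T M (hpc hO₁) (hpc hO) hηO₁ hηO hUO i n b]
  generalize (T.pull (pcHom (hpc hO) (hpc hO₁) hUO) M i n).hom b = b'
  obtain ⟨f, hfp, hf, hfι⟩ := exists_pushLift φ (pt Y (genericPoint Y.scheme)) (pt X w.1) U (by
    rintro z -
    exact specializes_iff_mem_closure.1 (hwη ▸ (genericPoint_specializes z).map φ.continuous))
  haveI := hfp
  have hdf : WeilCoh.dim (pc Y (pt Y (genericPoint Y.scheme)) (φ ⁻¹ᵁ U)).scheme =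
      WeilCoh.dim (pc X (pt X w.1) U).scheme := by
    rw [dim_pc_pt Y hηO, dim_pc_pt X hwU]; omega
  have hLb : (L.cpt M i n).hom ((ptCls T M hηO i n).hom b') =
      (ptCls T M hwU i n).hom ((push₀ T M f hdf i n).hom b') :=
    congrArg (fun g => g.hom b') (L.cpt_spec M i n (pcIdx Y hηO) (pcIdx X hwU) f
      (hf.trans (Category.assoc _ _ _)) _ _)
  rw [pushData_ptCls M P' ⟨genericPoint Y.scheme, hη⟩ (hpc hO) hO]
  erw [hLb]
  rw [pushData_ptCls M P w hpcw hUq]
  generalize hβ : (push T M (hpc hO) i n i₃ n₃ h3 h3').hom b' = β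
  haveI : IsProper (φ ∣_ U) :=
    MorphismProperty.of_isPullback (isPullback_morphismRestrict φ U).flip inferInstance
  have hcU : relCodim (Y.res (φ ⁻¹ᵁ U)).scheme (X.res U).scheme = q := by
    have e1 := dim_open_of_containsFj Y hO
    have e2 := dim_open_of_containsFj X hUq
    change (WeilCoh.dim (U : Scheme.{u}) : ℤ) -
      WeilCoh.dim ((φ ⁻¹ᵁ U : Y.scheme.Opens) : Scheme.{u}) = q
    omega
  have hγ : (push T M hpcw i n i₁ n₁ h1 h1').hom ((push₀ T M f hdf i n).hom b') =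
      (T.push (X := Y.res (φ ⁻¹ᵁ U)) (Y := X.res U) (φ ∣_ U) M i₃ n₃ i₁ n₁
        (by rw [hcU]; omega) (by rw [hcU]; omega)).hom β := by
    rw [← hβ]
    haveI := isProper_pcι (pt X w.1) U
    haveI := isProper_pcι (pt Y (genericPoint Y.scheme)) (φ ⁻¹ᵁ U)
    have e0 := (hpc hO).relCodim_eq
    have ew := hpcw.relCodim_eq
    unfold relCodim at e0 ew hcU
    have e₁ := T.push_comp (Y := pc X (pt X w.1) U) (Z := X.res U) f (pcι X (pt X w.1) U) M i n i n i₁ n₁
      (by unfold relCodim; omega) (by unfold relCodim; omega) (by unfold relCodim; omega)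
      (by unfold relCodim; omega) (by unfold relCodim; omega) (by unfold relCodim; omega)
    have e₂ := T.push_comp (Y := Y.res (φ ⁻¹ᵁ U)) (Z := X.res U) (pcι Y (pt Y (genericPoint Y.scheme)) (φ ⁻¹ᵁ U)) (φ ∣_ U) M
      i n i₃ n₃ i₁ n₁
      (by unfold relCodim; omega) (by unfold relCodim; omega) (by unfold relCodim; omega)
      (by unfold relCodim; omega) (by unfold relCodim; omega) (by unfold relCodim; omega)
    simp only [hfι] at e₁
    exact congrArg (fun g => g.hom b') (e₁.trans e₂.symm)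
  rw [hγ]
  clear hγ hLb hβ
  -- the residues on Y
  have hres : ∀ y : Y.cdPt 1, y ∉ SY →
      (Q'.cpt y M i₃ n₃ i₂ n₂ h4 h4').hom ((cls T M hO i₃ n₃).hom β) = 0 := fun y hy =>
    resData_eq_zero M Q' hO y (hU'.symm.subset ⟨hV₀ y.1 y.2.le, fun h => hy (mem_of_mem_cl h)⟩)
      _ _ _ _ _ _ β
  have hR : (Q'.tot M i₃ n₃ i₂ n₂ h4 h4').hom ((cls T M hO i₃ n₃).hom β) =
      ∑ y : SY, DirectSum.lof R (Y.cdPt 1) (fun z : Y.cdPt 1 => T.ptGp Y z.1 M i₂ n₂) y.1
        ((Q'.cpt y.1 M i₃ n₃ i₂ n₂ h4 h4').hom ((cls T M hO i₃ n₃).hom β)) := by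
    refine DFinsupp.ext fun y => ?_
    rw [PreTheory.ResData.tot_apply, DFinsupp.finset_sum_apply]
    by_cases hy : y ∈ SY
    · rw [Finset.sum_eq_single (⟨y, hy⟩ : SY)]
      · exact (DirectSum.lof_apply R (M := fun z : Y.cdPt 1 => T.ptGp Y z.1 M i₂ n₂) y _).symm
      · exact fun y' _ hne' => DFinsupp.single_eq_of_ne fun e => hne' (Subtype.ext e.symm)
      · exact fun h => absurd (Finset.mem_univ _) h
    · rw [hres y hy]
      exact (Finset.sum_eq_zero fun (y' : SY) _ => DFinsupp.single_eq_of_ne fun e =>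
        hy (by rw [e]; exact y'.2)).symm
  rw [hR, map_sum]
  rw [Finset.sum_congr rfl fun (y : SY) _ =>
    BMCoh.PreTheory.PtPush.famTot_lof t F M i₂ n₂ y.1 _]
  refine DFinsupp.ext fun x => ?_
  rw [PreTheory.ResData.tot_apply, DFinsupp.finset_sum_apply]
  by_cases hx : x ∈ S
  swap
  · refine (resData_eq_zero M Q hUq x
      (hU.symm.subset ⟨hY₀ x.1 x.2.le, fun h => hx (mem_of_mem_cl h)⟩) _ _ _ _ _ _ _).trans ?_
    exact (Finset.sum_eq_zero fun (y : SY) _ => DFinsupp.single_eq_of_ne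
      (fun e : x = t y.1 => hx (e.symm ▸ (hSY y.1).2 y.2))).symm
  have hS : S.Nonempty := ⟨x, hx⟩
  have hSY0 : SY.Nonempty := hne hS
  have hdimpc : WeilCoh.dim (pc Y (cl SY) (φ ⁻¹ᵁ Y₀)).scheme =
      WeilCoh.dim (pc X (cl S) Y₀).scheme := by
    have e1 := (hgY.isPc hSY0).dimPc
    have e2 := (hgX.isPc hS).dimPc
    omega
  obtain ⟨h, hhp, hh, -⟩ := exists_pushLift φ (cl SY) (cl S) Y₀ (hK.trans_subset inter_subset_left)
  haveI := hhp
  rw [resData_cls M Q hgX hx hU hUq]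
  rw [residue_push_eq T hred φ M (hgX.isPc hS) (hgY.isPc hSY0) hK hU hU'
    (dim_open_of_containsFj X hUq) (dim_open_of_containsFj Y hO) hdimpc h hh
    i₃ n₃ i₁ n₁ i₂ n₂ _ _ _ _ (by push_cast at h4 ⊢; omega) (by push_cast at h4' ⊢; omega)
    (by simp [relCodim, hdimpc]) (by simp [relCodim, hdimpc]) β]
  have hsum := eq_sum_push T M (fun y : SY => pc Y (pt Y y.1.1) (φ ⁻¹ᵁ Y₀))
    (fun y => incl hgY y.2) (incl_pairwise hgY) (incl_cover hgY) i₂ n₂
    ((residue T M (hgY.isPc hSY0) hU' (dim_open_of_containsFj Y hO) i₃ n₃ i₂ n₂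
      (by push_cast at h4 ⊢; omega) (by push_cast at h4' ⊢; omega)).hom β)
  refine (congrArg (fun r => (ptCls T M (hgX.mem x hx) i₂ n₂).hom
    ((T.pull (incl hgX hx) M i₂ n₂).hom ((push₀ T M h hdimpc i₂ n₂).hom r))) hsum).trans ?_
  simp only [map_sum]
  refine Finset.sum_congr rfl fun y _ => ?_
  have hty : t y.1 ∈ S := (hSY y.1).2 y.2
  obtain ⟨g, hgp, hg, -⟩ := exists_pushLift φ (pt Y y.1.1) (pt X (t y.1).1) Y₀ (by
    rintro z ⟨hz, -⟩
    exact specializes_iff_mem_closure.1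
      (ht y.1 ▸ (specializes_iff_mem_closure.2 hz).map φ.continuous))
  haveI := hgp
  have hdg : WeilCoh.dim (pc Y (pt Y y.1.1) (φ ⁻¹ᵁ Y₀)).scheme =
      WeilCoh.dim (pc X (pt X (t y.1).1) Y₀).scheme := by
    have e1 := (hgY.isPc_pt y.2).dimPc
    have e2 := (hgX.isPc_pt hty).dimPc
    omega
  have hcomm : (incl hgY y.2).hom ≫ h = g ≫ (incl hgX hty).hom := pcX_inj X (by
    refine (Category.assoc _ _ _).trans ?_
    refine Eq.trans ?_ (Category.assoc _ _ _).symm
    refine (congrArg ((incl hgY y.2).hom ≫ ·) hh).trans ?_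
    refine ((Category.assoc _ _ _).symm.trans (congrArg (· ≫ φ) (incl_pcX hgY y.2))).trans ?_
    exact hg.symm.trans (congrArg (g ≫ ·) (incl_pcX hgX hty).symm))
  have hsw : ∀ r : T.gp (pc Y (pt Y y.1.1) (φ ⁻¹ᵁ Y₀)) M i₂ n₂,
      (push₀ T M h hdimpc i₂ n₂).hom ((push₀ T M (incl hgY y.2).hom (incl hgY y.2).dim_eq i₂ n₂).hom r) =
      (push₀ T M (incl hgX hty).hom (incl hgX hty).dim_eq i₂ n₂).hom
        ((push₀ T M g hdg i₂ n₂).hom r) := fun r => by
    rw [push₀_comp, push₀_comp]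
    simp only [hcomm]
  erw [hsw]
  by_cases hxy : t y.1 = x
  · subst hxy
    rw [resData_cls M Q' hgY y.2 hU' hO]
    refine Eq.trans ?_ (DirectSum.lof_apply R (M := fun z : X.cdPt (q + 1) => T.ptGp X z.1 M i₂ n₂)
      (t y.1) _).symm
    refine (congrArg (fun r => (ptCls T M _ i₂ n₂).hom r)
      (pull_push_self T M (incl hgX hty) i₂ n₂ _ _ _)).trans ?_
    have hFy : ∀ r : T.gp (pc Y (pt Y y.1.1) (φ ⁻¹ᵁ Y₀)) M i₂ n₂,
        ((F y.1).cpt M i₂ n₂).hom ((ptCls T M (hgY.mem y.1 y.2) i₂ n₂).hom r) =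
          (ptCls T M (hgX.mem _ hty) i₂ n₂).hom ((push₀ T M g hdg i₂ n₂).hom r) := fun r =>
      congrArg (fun k => k.hom r)
        ((F y.1).cpt_spec M i₂ n₂ (pcIdx Y (hgY.mem y.1 y.2)) (pcIdx X (hgX.mem _ hty)) g
          (hg.trans (Category.assoc _ _ _)) _ _)
    exact (hFy _).symm
  · refine Eq.trans ?_ (lof_apply_ne (R := R) (N := fun z : X.cdPt (q + 1) => T.ptGp X z.1 M i₂ n₂)
      (Ne.symm hxy) _).symm
    refine (congrArg (fun r => (ptCls T M _ i₂ n₂).hom r) ?_).trans (map_zero _)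
    exact pull_push_other T M (fun s : S => pc X (pt X s.1.1) Y₀) (fun s => incl hgX s.2)
      (incl_pairwise hgX) (s := ⟨t y.1, hty⟩) (t := ⟨x, hx⟩)
      (fun e => hxy (congrArg Subtype.val e).symm) i₂ n₂ _ _ _

end Groth.Agent.S16097
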