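import Groth.Statements.S16098
import Groth.Agent.Lib.FunField.Riemann

set_option autoImplicit false
universe u
open AdFn

namespace Groth.Agent.S16098

/-- Let `K/k` be a function field of one variable (every element having finitely many poles, so that the
diagonal `K → A_K` exists), `A_K = ∏'_v (K_v, O_v)` its adele ring over all places, and `S` a
nonempty set of places. (1) For every adele `a` some `f ∈ K` has `a_v - f ∈ O_v` at every place `v ∉
S`: `A_K` is the sum of the principal adeles and the adeles integral outside `S`. (2) An adele `b`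
with `b_v = 0` for `v ∉ S` is a principal adele plus an everywhere-integral adele exactly when some
`S`-integer `f ∈ K` has `b_v - f ∈ O_v` for every `v ∈ S`. (The published statement is for a curve
over an algebraically closed field, possibly singular; here it is stated for the places of a
function field `K/k` of one variable over any field `k` algebraically closed in `K`.) -/
theorem result (k K : Type u) [Field k] [Field K]
    [Algebra k K] (hK : FunFld.IsFunctionField k K) [AdFn.HasFinitePoles k K]
    (S : Set (FunFld.Place k K)) (hS : S.Nonempty) :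
    (∀ a : AdFn.AdeleRing k K, ∃ f : K, ∀ v : FunFld.Place k K, v ∉ S →
        AdFn.AdeleRing.proj v (a - AdFn.AdeleRing.diag f) ∈ AdFn.Ov v) ∧
    (∀ b : AdFn.AdeleRing k K, (∀ v : FunFld.Place k K, v ∉ S → AdFn.AdeleRing.proj v b = 0) →
        ((∃ f : K, ∀ v : FunFld.Place k K, AdFn.AdeleRing.proj v (b - AdFn.AdeleRing.diag f) ∈ AdFn.Ov v) ↔
          ∃ f ∈ AdFn.SInt S, ∀ v ∈ S, AdFn.AdeleRing.proj v b - AdFn.toKv v f ∈ AdFn.Ov v)) := by
  classical
  refine ⟨fun a => ?_, fun b hb => ⟨?_, ?_⟩⟩
  · have happ : ∀ v : FunFld.Place k K, ∃ x : K, AdeleRing.proj v a - toKv v x ∈ Ov v ∧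
        (AdeleRing.proj v a ∈ Ov v → x = 0) := fun v => by
      by_cases h : AdeleRing.proj v a ∈ Ov v
      · exact ⟨0, by simpa using h, fun _ => rfl⟩
      · have hopen : IsOpen {y : Kv v | AdeleRing.proj v a - y ∈ Ov v} :=
          (isOpen_Ov v).preimage (continuous_const.sub continuous_id)
        have hd : DenseRange (toKv v) :=
          (UniformSpace.Completion.denseRange_coe (α := WithVal v.1)).comp
            (WithVal.equiv v.1).symm.surjective.denseRange (UniformSpace.Completion.continuous_coe _)
        obtain ⟨x, hx⟩ := hd.exists_mem_open hopen ⟨AdeleRing.proj v a, by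
          show AdeleRing.proj v a - AdeleRing.proj v a ∈ Ov v
          rw [sub_self]; exact zero_mem _⟩
        exact ⟨x, hx, fun h' => absurd h' h⟩
    choose r hr hr0 using happ
    have hrad : r ∈ FunFld.adele k K := by
      show ∀ᶠ Q : FunFld.Place k K in Filter.cofinite, Q.1 (r Q) ≤ 1
      refine a.2.mono fun Q hQ => ?_
      rw [hr0 Q hQ, map_zero]; exact zero_le_one
    obtain ⟨P, hP⟩ := hS
    obtain ⟨N, hN⟩ := FunField.exists_deg_delta hK
    have h1 : (1 : ℤ) ≤ P.deg := by exact_mod_cast FunField.deg_pos (FunField.ff hK) P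
    let E : FunFld.Divisor k K := Finsupp.single P (max N 0)
    have hE : FunField.delta E = FunFld.genus k K := hN E (by
      rw [FunField.deg_single]
      nlinarith [le_max_left N 0, le_max_right N 0])
    obtain ⟨hfin, hrk⟩ := FunField.finrank_adele_quotient hK E
    rw [hE, sub_self] at hrk
    haveI := hfin
    have := (Module.finrank_zero_iff.1 (by exact_mod_cast hrk) : Subsingleton _)
    have hrE := (Submodule.Quotient.mk_eq_zero _).1
      (this.elim (Submodule.Quotient.mk (⟨r, hrad⟩ : ↥(FunFld.adele k K))) 0)
    obtain ⟨w, hw, z, ⟨y, rfl⟩, hwz⟩ := Submodule.mem_sup.1 (show r ∈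
      FunFld.AD E ⊔ LinearMap.range (FunFld.diag k K) from hrE)
    refine ⟨y, fun v hv => ?_⟩
    have hwv := hw v
    have hne : P ≠ v := fun e => hv (e ▸ hP)
    simp only [E, Finsupp.single_apply, if_neg hne, WithZero.exp_zero] at hwv
    have hwr : w v = r v - y := by simp [← hwz, FunFld.diag]
    rw [map_sub, AdeleRing.proj_diag,
      show AdeleRing.proj v a - toKv v y = (AdeleRing.proj v a - toKv v (r v)) + toKv v (w v) by
        rw [hwr, map_sub]; ring]
    exact add_mem (hr v) ((toKv_mem_Ov v _).2 hwv)
  · rintro ⟨f, hf⟩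
    refine ⟨f, fun v hv => ?_, fun v hv => ?_⟩
    · have h := hf v
      rw [map_sub, hb v hv, AdeleRing.proj_diag, zero_sub, neg_mem_iff, toKv_mem_Ov] at h
      exact h
    · have h := hf v
      rwa [map_sub, AdeleRing.proj_diag] at h
  · rintro ⟨f, hfS, hf⟩
    refine ⟨f, fun v => ?_⟩
    rw [map_sub, AdeleRing.proj_diag]
    by_cases hv : v ∈ S
    · exact hf v hv
    · rw [hb v hv, zero_sub, neg_mem_iff, toKv_mem_Ov]
      exact hfS v hv

end Groth.Agent.S16098
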