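import Groth.Statements.S16099
import Groth.Agent.Lib.FunField.Riemann
-- import your own Groth.Agent.* helpers here

set_option autoImplicit false
universe u
open FunFld

namespace Groth.Agent.S16099

/-- For a function field `K/k` of one variable of genus `g` and any place `P`, the `k`-space `K /
(O_{\{P\}} + O_P)` is finite-dimensional of dimension `g` (the number of Weierstrass gaps when `P`
is rational), where `O_{\{P\}}` is the ring of elements of `K` integral at every place other than
`P` and `O_P` is the valuation ring of `P` (written as the elements integral at every place outside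
the complement of `\{P\}`). (The published example is for a curve over an algebraically closed field
and is stated with completions at `P`; this is the equivalent form inside `K`, over any field `k`
algebraically closed in `K`.) -/
theorem result (k K : Type u) [Field k] [Field K]
    [Algebra k K] (hK : FunFld.IsFunctionField k K) (P : FunFld.Place k K) :
    FiniteDimensional k (K ⧸ (Subalgebra.toSubmodule (AdFn.SInt ({P} : Set (FunFld.Place k K))) ⊔
        Subalgebra.toSubmodule (AdFn.SInt (({P} : Set (FunFld.Place k K))ᶜ)))) ∧
    Module.finrank k (K ⧸ (Subalgebra.toSubmodule (AdFn.SInt ({P} : Set (FunFld.Place k K))) ⊔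
        Subalgebra.toSubmodule (AdFn.SInt (({P} : Set (FunFld.Place k K))ᶜ)))) = FunFld.genus k K := by
  classical
  let single : K →ₗ[k] ↥(FunFld.adele k K) :=
    { toFun := fun x => ⟨Pi.single P x, (Set.finite_singleton P).subset fun Q hQ => by
        by_contra hne
        exact hQ (by simp [Pi.single_eq_of_ne hne])⟩
      map_add' := fun x y => Subtype.ext (Pi.single_add (f := fun _ : FunFld.Place k K => K) P x y)
      map_smul' := fun c x => Subtype.ext (Pi.single_smul (f := fun _ : FunFld.Place k K => K) P c x) }
  let f := (FunFld.ADK (0 : FunFld.Divisor k K)).mkQ ∘ₗ single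
  have hmem : ∀ a : ↥(FunFld.adele k K), a ∈ FunFld.ADK (0 : FunFld.Divisor k K) ↔
      ∃ y : K, ∀ Q : FunFld.Place k K, Q.1 ((a : FunFld.Place k K → K) Q - y) ≤ 1 := fun a => by
    constructor
    · intro ha
      obtain ⟨u, hu, v, ⟨y, rfl⟩, huv⟩ := Submodule.mem_sup.1 (show (a : FunFld.Place k K → K) ∈
        FunFld.AD 0 ⊔ LinearMap.range (FunFld.diag k K) from ha)
      exact ⟨y, fun Q => by simpa [← huv, FunFld.diag] using hu Q⟩
    · rintro ⟨y, hy⟩
      show (a : FunFld.Place k K → K) ∈ FunFld.AD 0 ⊔ LinearMap.range (FunFld.diag k K)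
      refine Submodule.mem_sup.2 ⟨(a : FunFld.Place k K → K) - FunFld.diag k K y, fun Q => ?_, _, ⟨y, rfl⟩,
        sub_add_cancel _ _⟩
      simpa [FunFld.diag] using hy Q
  have hker : LinearMap.ker f = Subalgebra.toSubmodule (AdFn.SInt ({P} : Set (FunFld.Place k K))) ⊔
      Subalgebra.toSubmodule (AdFn.SInt (({P} : Set (FunFld.Place k K))ᶜ)) := by
    ext x
    simp only [f, LinearMap.mem_ker, LinearMap.comp_apply, Submodule.mkQ_apply,
      Submodule.Quotient.mk_eq_zero, hmem, Submodule.mem_sup, Subalgebra.mem_toSubmodule,
      AdFn.mem_SInt, Set.mem_singleton_iff, Set.mem_compl_iff, not_not, forall_eq]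
    constructor
    · rintro ⟨y, hy⟩
      refine ⟨y, fun Q hQ => ?_, x - y, by simpa [single] using hy P, add_sub_cancel _ _⟩
      simpa [single, Pi.single_eq_of_ne hQ] using hy Q
    · rintro ⟨y, hy, z, hz, rfl⟩
      refine ⟨y, fun Q => ?_⟩
      rcases eq_or_ne Q P with rfl | hQ
      · simpa [single] using hz
      · simpa [single, Pi.single_eq_of_ne hQ] using hy Q hQ
  have hsurj : Function.Surjective f := fun q => by
    obtain ⟨a, rfl⟩ := Submodule.mkQ_surjective _ q
    obtain ⟨N, hN⟩ := FunField.exists_deg_delta hK
    have h1 : (1 : ℤ) ≤ P.deg := by exact_mod_cast FunField.deg_pos (FunField.ff hK) P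
    let E : FunFld.Divisor k K := Finsupp.single P (max N 0)
    have hE : FunField.delta E = FunFld.genus k K := hN E (by
      rw [FunField.deg_single]
      nlinarith [le_max_left N 0, le_max_right N 0])
    obtain ⟨hfin, hrk⟩ := FunField.finrank_adele_quotient hK E
    rw [hE, sub_self] at hrk
    haveI := hfin
    have := (Module.finrank_zero_iff.1 (by exact_mod_cast hrk) : Subsingleton _)
    have haE := (Submodule.Quotient.mk_eq_zero _).1 (this.elim (Submodule.Quotient.mk a) 0)
    obtain ⟨u, hu, v, ⟨y, rfl⟩, huv⟩ := Submodule.mem_sup.1 (show (a : FunFld.Place k K → K) ∈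
      FunFld.AD E ⊔ LinearMap.range (FunFld.diag k K) from haE)
    refine ⟨(a : FunFld.Place k K → K) P - y, (Submodule.Quotient.eq _).2 ((hmem _).2 ⟨-y, fun Q => ?_⟩)⟩
    have hQ := hu Q
    have hua : u Q = (a : FunFld.Place k K → K) Q - y := by simp [← huv, FunFld.diag]
    rcases eq_or_ne Q P with rfl | hne
    · simp [single]
    · rw [hua] at hQ
      simp only [E, Finsupp.single_apply, if_neg hne.symm, WithZero.exp_zero] at hQ
      have e : Q.1 (-((a : FunFld.Place k K → K) Q - y)) ≤ 1 := by rwa [Valuation.map_neg]
      have e' : ((single ((a : FunFld.Place k K → K) P - y) - a : ↥(FunFld.adele k K)) : FunFld.Place k K → K) Q - -y =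
          -((a : FunFld.Place k K → K) Q - y) := by
        simp [single, Pi.single_eq_of_ne hne]; ring
      rw [e']; exact e
  rw [← hker]
  haveI := (FunField.finrank_adele_quotient hK (0 : FunFld.Divisor k K)).1
  have h2 := (FunField.finrank_adele_quotient hK (0 : FunFld.Divisor k K)).2
  rw [FunField.delta_zero hK, sub_zero] at h2
  exact ⟨Module.Finite.equiv (f.quotKerEquivOfSurjective hsurj).symm,
    (f.quotKerEquivOfSurjective hsurj).finrank_eq.trans (by exact_mod_cast h2)⟩

end Groth.Agent.S16099
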