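import Groth.Statements.S16100
import Groth.Agent.S16099

set_option autoImplicit false
universe u
open AdFn

namespace Groth.Agent.S16100

/-- For a function field `K/k` of one variable of genus `g` and any place `P` with completion `K_P` and
valuation ring `O_P ⊆ K_P`, the `k`-space `K_P / (O_{\{P\}} + O_P)`, where `O_{\{P\}} ⊆ K ⊆ K_P` is
the ring of elements of `K` integral at every place other than `P`, is finite-dimensional of
dimension `g` (the number of Weierstrass gaps when `P` is rational). (The published example is for a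
curve over an algebraically closed field; here any field `k` algebraically closed in `K` and any
place `P` are allowed.) -/
theorem result (k K : Type u) [Field k] [Field K]
    [Algebra k K] (hK : FunFld.IsFunctionField k K) (P : FunFld.Place k K) :
    FiniteDimensional k (AdFn.Kv P ⧸
        (Subalgebra.toSubmodule ((AdFn.SInt ({P} : Set (FunFld.Place k K))).map
            (IsScalarTower.toAlgHom k K (AdFn.Kv P))) ⊔
          Submodule.span k (AdFn.Ov P : Set (AdFn.Kv P)))) ∧
    Module.finrank k (AdFn.Kv P ⧸
        (Subalgebra.toSubmodule ((AdFn.SInt ({P} : Set (FunFld.Place k K))).map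
            (IsScalarTower.toAlgHom k K (AdFn.Kv P))) ⊔
          Submodule.span k (AdFn.Ov P : Set (AdFn.Kv P)))) = FunFld.genus k K := by
  classical
  obtain ⟨hfd, hfr⟩ := S16099.result k K hK P
  let T : Submodule k (AdFn.Kv P) := Subalgebra.toSubmodule ((AdFn.SInt ({P} : Set (FunFld.Place k K))).map
            (IsScalarTower.toAlgHom k K (AdFn.Kv P))) ⊔ Submodule.span k (AdFn.Ov P : Set (AdFn.Kv P))
  let f : K →ₗ[k] AdFn.Kv P ⧸ T := T.mkQ ∘ₗ (IsScalarTower.toAlgHom k K (AdFn.Kv P)).toLinearMap
  have hd : DenseRange (AdFn.toKv P) :=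
    (UniformSpace.Completion.denseRange_coe (α := WithVal P.1)).comp
      (WithVal.equiv P.1).symm.surjective.denseRange (UniformSpace.Completion.continuous_coe _)
  have hsurj : Function.Surjective f := fun q => by
    obtain ⟨a, rfl⟩ := Submodule.mkQ_surjective _ q
    obtain ⟨x, hx⟩ := hd.exists_mem_open ((AdFn.isOpen_Ov P).preimage (continuous_const.sub continuous_id : Continuous fun y => a - y)) ⟨a, by
      show a - a ∈ AdFn.Ov P
      rw [sub_self]; exact zero_mem _⟩
    refine ⟨x, ((Submodule.Quotient.eq T).2 (Submodule.mem_sup_right (Submodule.subset_span ?_))).symm⟩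
    exact hx
  have hspan : ∀ a ∈ Submodule.span k (AdFn.Ov P : Set (AdFn.Kv P)), a ∈ AdFn.Ov P := fun a ha => by
    induction ha using Submodule.span_induction with
    | mem a ha => exact ha
    | zero => exact zero_mem _
    | add a b _ _ ha hb => exact add_mem ha hb
    | smul c a _ ha =>
      rw [Algebra.smul_def, IsScalarTower.algebraMap_apply k K (AdFn.Kv P)]
      refine mul_mem ((AdFn.toKv_mem_Ov P _).2 ?_) ha
      exact P.2.1 c
  have hker : LinearMap.ker f = Subalgebra.toSubmodule (AdFn.SInt ({P} : Set (FunFld.Place k K))) ⊔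
      Subalgebra.toSubmodule (AdFn.SInt (({P} : Set (FunFld.Place k K))ᶜ)) := by
    have hc : ∀ x : K, x ∈ AdFn.SInt (({P} : Set (FunFld.Place k K))ᶜ) ↔ P.1 x ≤ 1 := fun x => by
      simp [AdFn.mem_SInt]
    ext x
    rw [LinearMap.mem_ker, LinearMap.comp_apply, Submodule.mkQ_apply, Submodule.Quotient.mk_eq_zero]
    constructor
    · intro hx
      obtain ⟨_, hy, z, hz, hyz⟩ := Submodule.mem_sup.1 hx
      obtain ⟨y, hy, rfl⟩ := hy
      refine Submodule.mem_sup.2 ⟨y, hy, x - y, (hc _).2 ((AdFn.toKv_mem_Ov P _).1 ?_), add_sub_cancel _ _⟩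
      have e : AdFn.toKv P (x - y) = z := by
        rw [map_sub, sub_eq_iff_eq_add']; exact hyz.symm
      rw [e]; exact hspan z hz
    · intro hx
      obtain ⟨y, hy, z, hz, rfl⟩ := Submodule.mem_sup.1 hx
      rw [map_add]
      exact Submodule.add_mem_sup ⟨y, hy, rfl⟩ (Submodule.subset_span ((AdFn.toKv_mem_Ov P _).2 ((hc z).1 hz)))
  rw [← hker] at hfd hfr
  exact ⟨Module.Finite.equiv (f.quotKerEquivOfSurjective hsurj),
    (f.quotKerEquivOfSurjective hsurj).finrank_eq.symm.trans hfr⟩

end Groth.Agent.S16100
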