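import Groth.Statements.S16103
import Groth.Agent.Lib.CBC10.Rows0

set_option autoImplicit false
universe u
open Coherent

namespace Groth.Agent.S16103

open Groth.Agent

open AlgebraicGeometry CategoryTheory Scheme.Modules in
/-- Let π : X → Y be proper of finite presentation, F a quasi-coherent O_X-module of finite
presentation, flat over Y, and q a natural number such that H^q(X_y, F|_{X_y}) = 0 and H^{q+2}(X_y,
F|_{X_y}) = 0 for every point y of Y (cohomology of the restriction of F to the scheme-theoretic
fibre). Then R^{q+1} π_* F, the (q+1)-st right derived functor of π_* on O_X-modules applied to F,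
is a finite locally free O_Y-module. (The source's statement, with p = q + 2, asks instead of the
vanishing in degree q only that the degree-q base change map to the fibre be surjective at every
point; the vanishing assumed here is the special case in which that map has zero target.) -/
theorem result
    {X Y : Scheme.{u}} (π : X ⟶ Y) [IsProper π] [LocallyOfFinitePresentation π]
    [HasInjectiveResolutions X.Modules]
    (F : X.Modules) [Coh.IsQCoh F] (hfp : CohB1.IsFP F) (hfl : FlatMod.IsFlatOver π F) (q : ℕ)
    (hq : ∀ y : Y, Subsingleton (CohIII.fiberH π F y q))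
    (hq2 : ∀ y : Y, Subsingleton (CohIII.fiberH π F y (q + 2))) :
    FlatMod.IsFinLocFree ((Coh.Rpush π (q + 1)).obj F) := by
  refine CBC10.isFinLocFree_of_models (q + 1) fun y => ?_
  obtain ⟨V, -, M, hyV⟩ := CBC10.exists_model_at π F hfp hfl (U := ⊤) (s := y) trivial
  have e1 := (M.freeAt_of_subsingleton inferInstance hyV q (hq y)).2
  have e2 := (M.freeAt_of_subsingleton inferInstance hyV (q + 2) (hq2 y)).1
  rw [show -(q : ℤ) - 1 = -((q + 1 : ℕ) : ℤ) by omega] at e1
  rw [show -((q + 2 : ℕ) : ℤ) = -((q + 1 : ℕ) : ℤ) - 1 by omega] at e2
  obtain ⟨V', -, M', hyV', hflat⟩ := CBC10.exists_flat_model M hyV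
    [-((q + 1 : ℕ) : ℤ), -((q + 1 : ℕ) : ℤ) - 1] (by
      intro n hn
      simp only [List.mem_cons, List.not_mem_nil, or_false] at hn
      rcases hn with rfl | rfl
      exacts [e1, e2])
  exact ⟨V', M', hyV', hflat _ (by simp), hflat _ (by simp)⟩

end Groth.Agent.S16103
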