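import Groth.Statements.S16104
import Mathlib.RingTheory.Ideal.KrullsHeightTheorem
import Mathlib.RingTheory.Length
import Mathlib.RingTheory.Artinian.Ring
import Mathlib.Tactic

set_option autoImplicit false
universe u v
open LunaSt

namespace Groth.Agent.S16104

/-- Case of local rings. Let φ : A → B be a local homomorphism of Noetherian local rings whose composite
A → B/m_B² is surjective (the first infinitesimal neighbourhoods give a closed immersion), and
assume that A/m_A^(n+1) and B/m_B^(n+1) have the same length for every n (the associated graded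
modules of the two maximal ideals have pieces of the same dimension over the common residue field).
Then for every n the composite A → B/m_B^(n+1) is surjective with kernel m_A^(n+1): φ identifies all
infinitesimal neighbourhoods. (The published statement is for a pointed morphism of Noetherian local
algebraic stacks; its proof reduces to this case of local rings.) -/
theorem result
    (A : Type u) (B : Type v) [CommRing A] [CommRing B] [IsLocalRing A] [IsLocalRing B]
    [IsNoetherianRing A] [IsNoetherianRing B] (φ : A →+* B) [IsLocalHom φ]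
    (h1 : Function.Surjective ((Ideal.Quotient.mk (IsLocalRing.maximalIdeal B ^ 2)).comp φ))
    (hlen : ∀ n : ℕ, Module.length A (A ⧸ IsLocalRing.maximalIdeal A ^ (n + 1)) =
      Module.length B (B ⧸ IsLocalRing.maximalIdeal B ^ (n + 1))) (n : ℕ) :
    Function.Surjective ((Ideal.Quotient.mk (IsLocalRing.maximalIdeal B ^ (n + 1))).comp φ) ∧
      RingHom.ker ((Ideal.Quotient.mk (IsLocalRing.maximalIdeal B ^ (n + 1))).comp φ) =
        IsLocalRing.maximalIdeal A ^ (n + 1) := by
  letI := φ.toAlgebra
  set mA := IsLocalRing.maximalIdeal A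
  set mB := IsLocalRing.maximalIdeal B
  have hφm : ∀ a ∈ mA, φ a ∈ mB := fun a ha hu => ha ((isUnit_map_iff φ a).mp hu)
  have hpow : ∀ k, (mA ^ k).map φ ≤ mB ^ k := fun k => by
    rw [Ideal.map_pow]
    exact Ideal.pow_right_mono (Ideal.map_le_iff_le_comap.mpr hφm) k
  have h2 : ∀ b : B, ∃ a, b - φ a ∈ mB ^ 2 := fun b => by
    obtain ⟨a, ha⟩ := h1 (Ideal.Quotient.mk _ b)
    exact ⟨a, Ideal.Quotient.eq.mp ha.symm⟩
  have h21 : mB ^ 2 ≤ mB := Ideal.pow_le_self two_ne_zero
  -- every power is reached up to the next one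
  have hk : ∀ (k : ℕ), ∀ b ∈ mB ^ k, ∃ a ∈ mA ^ k, b - φ a ∈ mB ^ (k + 1) := by
    intro k
    induction k with
    | zero =>
      intro b _
      obtain ⟨a, ha⟩ := h2 b
      exact ⟨a, by simp, by simpa using h21 ha⟩
    | succ k ih =>
      intro b hb
      rw [pow_succ] at hb
      induction hb using Submodule.mul_induction_on' with
      | mem_mul_mem r hr s hs =>
        obtain ⟨a, ha, hra⟩ := ih r hr
        obtain ⟨a', ha'⟩ := h2 s
        have ha'm : a' ∈ mA := fun hu => by
          have := sub_mem hs (h21 ha')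
          rw [sub_sub_cancel] at this
          exact this (hu.map φ)
        refine ⟨a * a', pow_succ mA k ▸ Ideal.mul_mem_mul ha ha'm, ?_⟩
        rw [map_mul, show r * s - φ a * φ a' = (r - φ a) * s + φ a * (s - φ a') by ring]
        refine add_mem (pow_succ mB (k + 1) ▸ Ideal.mul_mem_mul hra hs) ?_
        rw [show k + 1 + 1 = k + 2 by ring, pow_add]
        exact Ideal.mul_mem_mul (hpow k (Ideal.mem_map_of_mem _ ha)) ha'
      | add x _ y _ hx hy =>
        obtain ⟨a, ha, hxa⟩ := hx
        obtain ⟨a', ha', hya⟩ := hy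
        exact ⟨a + a', add_mem ha ha', by rw [map_add, add_sub_add_comm]; exact add_mem hxa hya⟩
  have hsurj : ∀ (m : ℕ) (b : B), ∃ a, b - φ a ∈ mB ^ (m + 1) := by
    intro m
    induction m with
    | zero => intro b; obtain ⟨a, ha⟩ := h2 b; exact ⟨a, by simpa using h21 ha⟩
    | succ m ih =>
      intro b
      obtain ⟨a, ha⟩ := ih b
      obtain ⟨a', -, ha'⟩ := hk _ _ ha
      exact ⟨a + a', by rw [map_add, ← sub_sub]; exact ha'⟩
  have hS : Function.Surjective ((Ideal.Quotient.mk (mB ^ (n + 1))).comp φ) := by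
    intro q
    obtain ⟨b, rfl⟩ := Ideal.Quotient.mk_surjective q
    obtain ⟨a, ha⟩ := hsurj n b
    exact ⟨a, (Ideal.Quotient.eq.mpr ha).symm⟩
  refine ⟨hS, ?_⟩
  -- compare lengths
  have hle : mA ^ (n + 1) ≤ (mB ^ (n + 1)).comap φ := Ideal.map_le_iff_le_comap.mp (hpow _)
  let π : (A ⧸ mA ^ (n + 1)) →ₗ[A] (B ⧸ mB ^ (n + 1)) :=
    (Ideal.quotientMapₐ (mB ^ (n + 1)) (Algebra.ofId A B) hle).toLinearMap
  have hπ : Function.Surjective π := by
    intro q
    obtain ⟨a, ha⟩ := hS q
    exact ⟨Ideal.Quotient.mk _ a, ha⟩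
  have hlB : Module.length A (B ⧸ mB ^ (n + 1)) = Module.length B (B ⧸ mB ^ (n + 1)) := by
    rw [Module.length_eq_of_surjective (R := B ⧸ mB ^ (n + 1)) (S := B) Ideal.Quotient.mk_surjective]
    exact Module.length_eq_of_surjective (R := B ⧸ mB ^ (n + 1)) (S := A) hS
  have hfin : Module.length A (A ⧸ mA ^ (n + 1)) ≠ ⊤ := by
    haveI : IsArtinianRing (A ⧸ mA ^ (n + 1)) :=
      IsLocalRing.quotient_artinian_of_mem_minimalPrimes_of_isLocalRing _
        ⟨⟨inferInstance, Ideal.pow_le_self n.succ_ne_zero⟩, fun J hJ _ => hJ.1.le_of_pow_le hJ.2⟩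
    rw [Module.length_eq_of_surjective (R := A ⧸ mA ^ (n + 1)) (S := A) (M := A ⧸ mA ^ (n + 1)) Ideal.Quotient.mk_surjective]
    exact Module.length_ne_top
  have hker : Module.length A (LinearMap.ker π) = 0 := by
    have h := Module.length_eq_add_of_exact (LinearMap.ker π).subtype π Subtype.val_injective hπ
      (LinearMap.exact_subtype_ker_map π)
    rw [hlB, ← hlen n] at h
    exact (ENat.add_left_injective_of_ne_top hfin) ((h.symm).trans (zero_add _).symm)
  refine le_antisymm (fun a ha => ?_) (fun a ha => ?_)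
  · rw [Module.length_eq_zero_iff] at hker
    have hmem : Ideal.Quotient.mk (mA ^ (n + 1)) a ∈ LinearMap.ker π := ha
    exact Ideal.Quotient.eq_zero_iff_mem.mp (congrArg Subtype.val (Subsingleton.elim (⟨_, hmem⟩ : LinearMap.ker π) 0))
  · exact Ideal.Quotient.eq_zero_iff_mem.mpr (hle ha)

end Groth.Agent.S16104
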