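import Groth.Statements.S6825
import Groth.Agent.Lib.ArtinApproxH7.Local

set_option autoImplicit false
universe u
open Smoothing

namespace Groth.Agent.S6825

/-- Let R be a Noetherian local ring with maximal ideal m which is a G-ring, R^ its m-adic completion,
and F₁, …, F_m polynomials in n variables over R having a solution a = (a₁, …, a_n) in R^. Then for
every N there are an étale R-algebra R', an R-algebra map ψ : R' → R^, a maximal ideal m' of R'
lying over m with κ(m) = κ(m') and ψ(m') ⊆ mR^, and a solution b = (b₁, …, b_n) of the system in R'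
with a_i − ψ(b_i) ∈ m^N R^ for all i. (The source compares a and b inside R^ through the
identification of R^ with the completion of R' at m'; here that comparison map is the R-algebra map
ψ.) -/
theorem result {R : Type u} [CommRing R] [IsLocalRing R] (hG : CAlg.IsGRing R)
    {n m : ℕ} (F : Fin m → MvPolynomial (Fin n) R)
    (a : Fin n → AdicCompletion (IsLocalRing.maximalIdeal R) R) (ha : ∀ j, MvPolynomial.aeval a (F j) = 0)
    (N : ℕ) :
    ∃ (R' : Type u) (_ : CommRing R') (_ : Algebra R R'), Algebra.Etale R R' ∧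
      ∃ (ψ : R' →ₐ[R] AdicCompletion (IsLocalRing.maximalIdeal R) R) (m' : Ideal R'), m'.IsMaximal ∧
        m'.comap (algebraMap R R') = IsLocalRing.maximalIdeal R ∧
        (∀ x : R', ∃ r : R, x - algebraMap R R' r ∈ m') ∧
        (∀ x ∈ m', ψ x ∈ (IsLocalRing.maximalIdeal R).map
          (algebraMap R (AdicCompletion (IsLocalRing.maximalIdeal R) R))) ∧
        ∃ b : Fin n → R', (∀ j, MvPolynomial.aeval b (F j) = 0) ∧
          ∀ i, a i - ψ (b i) ∈ (IsLocalRing.maximalIdeal R ^ N).map
            (algebraMap R (AdicCompletion (IsLocalRing.maximalIdeal R) R)) := by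
  haveI := hG.1
  have hreg := Groth.Agent.GRing6.isRegularHom_adicCompletion R hG (IsLocalRing.maximalIdeal R)
  obtain ⟨R', _, _, het, ψ, p', hp, -, hcomap, hres, hmem, b, hb, hcong⟩ :=
    Groth.Agent.ArtinApproxH7.exists_etale_solution_completion (R := R) (S := R) hreg
      (fun x => ⟨1, x, by rw [map_one]; exact isUnit_one, by rw [map_one, one_mul]; rfl⟩) F a ha N
  have hcomap' : p'.comap (algebraMap R R') = IsLocalRing.maximalIdeal R := hcomap.trans (Ideal.comap_id _)
  haveI := hp
  have hres' : ∀ x : R', ∃ r : R, x - algebraMap R R' r ∈ p' := fun x => by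
    obtain ⟨r, s, hs, h⟩ := hres x
    obtain ⟨u, rfl⟩ := hs
    refine ⟨↑u⁻¹ * r, ?_⟩
    have h1 := p'.mul_mem_left (algebraMap R R' ↑u⁻¹) h
    rwa [mul_sub, ← mul_assoc, ← map_mul, ← map_mul, Units.inv_mul,
      map_one, one_mul] at h1
  refine ⟨R', inferInstance, inferInstance, het, ψ, p', ?_, hcomap', hres', hmem, b, hb, hcong⟩
  refine Ideal.Quotient.maximal_of_isField _ ⟨exists_pair_ne _, mul_comm, fun {z} hz => ?_⟩
  obtain ⟨x, rfl⟩ := Ideal.Quotient.mk_surjective z
  obtain ⟨r, hr⟩ := hres' x
  have hx : Ideal.Quotient.mk p' x = Ideal.Quotient.mk p' (algebraMap R R' r) := Ideal.Quotient.eq.2 hr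
  have hru : IsUnit r := by
    by_contra h
    exact hz (hx.trans (Ideal.Quotient.eq_zero_iff_mem.2 (show r ∈ p'.comap (algebraMap R R') from hcomap'.symm ▸ h)))
  obtain ⟨u, hu⟩ := hru
  exact ⟨Ideal.Quotient.mk p' (algebraMap R R' ↑u⁻¹), by rw [hx, ← hu, ← map_mul, ← map_mul, Units.mul_inv, map_one, map_one]⟩

end Groth.Agent.S6825
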