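import Groth.Statements.S16106
import Groth.Agent.Lib.ArtinApproxH7.Functor
import Groth.Agent.S6825

set_option autoImplicit false
universe u
open CategoryTheory CategoryTheory.Limits
open LunaSt

namespace Groth.Agent.S16106

/-- Local form. Let A be a local G-ring, that is a Noetherian local ring all of whose local rings have
regular completion maps (for instance an excellent local ring), with maximal ideal m and m-adic
completion Â. Let F be a functor from A-algebras (commutative rings under A) to sets preserving
filtered colimits, let ξ ∈ F(Â) and N ≥ 0. Then there exist an étale A-algebra A′, a map of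
A-algebras φ : A′ → A/m^(N+1) (an étale neighbourhood of the closed point with trivial residue field
extension) and ξ′ ∈ F(A′) such that ξ′ and ξ have the same image in F(A/m^(N+1)); here π is the
A-algebra map Â → A/m^(N+1), pinned by its underlying ring map. (The published statement is for any
point of the spectrum of a G-ring, with a functor locally of finite presentation on all schemes over
it; its proof first localizes at the point, and only the values of the functor on affine schemes
enter, so the row states this local form for a functor on A-algebras preserving filtered colimits.) -/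
theorem result (A : Type u) [CommRing A] [IsLocalRing A]
    (hG : CAlg.IsGRing A)
    (F : Under (CommRingCat.of A) ⥤ Type u)
    (hF : ∀ (J : Type u) [SmallCategory J] [IsFiltered J], PreservesColimitsOfShape J F)
    (N : ℕ)
    (π : Under.mk (CommRingCat.ofHom (algebraMap A
        (AdicCompletion (IsLocalRing.maximalIdeal A) A))) ⟶
      Under.mk (CommRingCat.ofHom (algebraMap A (A ⧸ IsLocalRing.maximalIdeal A ^ (N + 1)))))
    (hπ : π.right = CommRingCat.ofHom
      (AdicCompletion.evalₐ (IsLocalRing.maximalIdeal A) (N + 1) :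
        AdicCompletion (IsLocalRing.maximalIdeal A) A →ₐ[A]
          A ⧸ IsLocalRing.maximalIdeal A ^ (N + 1)).toRingHom)
    (ξ : F.obj (Under.mk (CommRingCat.ofHom (algebraMap A
        (AdicCompletion (IsLocalRing.maximalIdeal A) A))))) :
    ∃ (A' : Type u) (_ : CommRing A') (_ : Algebra A A') (_ : Algebra.Etale A A')
      (φ : Under.mk (CommRingCat.ofHom (algebraMap A A')) ⟶
        Under.mk (CommRingCat.ofHom (algebraMap A (A ⧸ IsLocalRing.maximalIdeal A ^ (N + 1)))))
      (ξ' : F.obj (Under.mk (CommRingCat.ofHom (algebraMap A A')))),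
      F.map φ ξ' = F.map π ξ := by
  haveI := hG.1
  let m := IsLocalRing.maximalIdeal A
  let p : AdicCompletion m A →ₐ[A] A ⧸ m ^ (N + 1) := AdicCompletion.evalₐ m (N + 1)
  obtain ⟨n, s, f, ξ₀, hξ₀⟩ := Groth.Agent.ArtinApproxH7.exists_fp_factor (R := CommRingCat.of A) F hF _ ξ
  let P := MvPolynomial (Fin n) A
  let mk : P →ₐ[A] P ⧸ Ideal.span (s : Set P) := Ideal.Quotient.mkₐ A _
  let x : Fin n → AdicCompletion m A := fun i => f (mk (MvPolynomial.X i))
  have hf : f.comp mk = MvPolynomial.aeval x := MvPolynomial.aeval_unique _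
  have hx : ∀ q ∈ s, MvPolynomial.aeval x q = 0 := fun q hq => by
    rw [← hf, AlgHom.comp_apply, show mk q = 0 from Ideal.Quotient.eq_zero_iff_mem.2 (Ideal.subset_span hq), map_zero]
  obtain ⟨A', _, _, het, ψ, m', -, -, -, -, b, hb, hcong⟩ := Groth.Agent.S6825.result hG
    (fun i : Fin s.card => (s.equivFin.symm i).1) x (fun i => hx _ (s.equivFin.symm i).2) (N + 1)
  let g : (P ⧸ Ideal.span (s : Set P)) →ₐ[A] A' := Ideal.Quotient.liftₐ _ (MvPolynomial.aeval b) fun q hq =>
    (Ideal.span_le (I := RingHom.ker (MvPolynomial.aeval b : P →ₐ[A] A'))).2 (fun q' hq' => by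
      have h1 := hb (s.equivFin ⟨q', hq'⟩)
      rw [Equiv.symm_apply_apply] at h1
      exact h1) hq
  let φ' : A' →ₐ[A] A ⧸ m ^ (N + 1) := p.comp ψ
  refine ⟨A', inferInstance, inferInstance, het, AlgHom.toUnder (R := CommRingCat.of A) φ',
    F.map (AlgHom.toUnder (R := CommRingCat.of A) g) ξ₀, ?_⟩
  have e1 : π = AlgHom.toUnder (R := CommRingCat.of A) p := Under.UnderMorphism.ext hπ
  rw [e1, ← hξ₀]
  refine (FunctorToTypes.map_comp_apply F _ _ _).symm.trans (Eq.trans ?_ (FunctorToTypes.map_comp_apply F _ _ _))
  have hcomp : φ'.comp g = p.comp f := Ideal.Quotient.algHom_ext _ (MvPolynomial.algHom_ext fun i => by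
    show p (ψ (MvPolynomial.aeval b (MvPolynomial.X i))) = p (x i)
    rw [MvPolynomial.aeval_X, eq_comm, ← sub_eq_zero, ← map_sub]
    exact (Groth.Agent.ArtinApproxH7.mem_map_pow_iff m (IsNoetherian.noetherian _) (N + 1) _).1 (hcong i))
  have key : AlgHom.toUnder (R := CommRingCat.of A) g ≫ AlgHom.toUnder (R := CommRingCat.of A) φ' =
      AlgHom.toUnder (R := CommRingCat.of A) f ≫ AlgHom.toUnder (R := CommRingCat.of A) p := by
    ext x
    exact AlgHom.congr_fun hcomp x
  exact congrArg (fun h => F.map h ξ₀) key

end Groth.Agent.S16106
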