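import Groth.Statements.S16107
import Groth.Agent.Lib.GoodFinType28.Main

set_option autoImplicit false
universe u v w
open LunaSt

namespace Groth.Agent.S16107

/-- Let k be a field and H a commutative Hopf algebra of finite type over k all of whose
finite-dimensional comodules are semisimple (a linearly reductive affine group G = Spec H of finite
type). Let A be a Noetherian commutative k-algebra with a coaction of H that is an algebra map (an
action of G on Spec A). Then A is of finite type as an algebra over its subring of invariants A^G.
(The published statement is that a good moduli space with affine diagonal of a Noetherian algebraic
stack is of finite type; this row is its case [Spec A/G] → Spec A^G.) -/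
theorem result
    (k : Type u) [Field k] (H : Type v) [CommRing H] [HopfAlgebra k H] [Algebra.FiniteType k H]
    (hG : HopfRep.IsLinearlyReductive k H)
    (A : Type w) [CommRing A] [Algebra k A] [IsNoetherianRing A]
    [HopfRep.Comod k H A] [GLin.IsCoactAlg k H A] :
    Algebra.FiniteType ↥(GLin.invariants k H A) A := by
  exact Groth.Agent.GoodFinType28.finiteType_invariants hG

end Groth.Agent.S16107
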