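import Groth.Statements.S16111
import Groth.Agent.Lib.Sumihiro14.Main
import Groth.Agent.Lib.RelAmple18.Basic

set_option autoImplicit false
universe u
open CategoryTheory MonoidalCategory CartesianMonoidalCategory MonObj GrpObj AlgebraicGeometry CategoryTheory.Limits
open AlgGrp

namespace Groth.Agent.S16111

set_option backward.isDefEq.respectTransparency false
set_option backward.isDefEq.respectTransparency.types false
set_option linter.style.haveILetI false
open Groth.Agent.Sumihiro14 in

/-- Over an algebraically closed field k, let G be a connected linear algebraic group (an affine,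
smooth, connected k-group scheme) acting on a normal irreducible variety X (an integral normal
separated k-scheme of finite type). Then X is covered by G-stable quasi-projective open subschemes:
every point x of X lies in an open U with σ⁻¹U = p₂⁻¹U in G × X (σ the action, p₂ the projection)
such that U is quasi-projective over k. (The published conclusion is a cover by G-quasi-projective
opens, i.e. opens admitting an equivariant immersion into the projective space of a
finite-dimensional G-module; such opens are in particular G-stable and quasi-projective, which is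
what is stated here.) -/
theorem result (k : Type u) [Field k] [IsAlgClosed k]
    (G X : Over (Spec (CommRingCat.of k))) [GrpObj G] [IsAffine G.left] [Smooth G.hom] [ConnectedSpace ↥G.left]
    [IsIntegral X.left] [IsSeparated X.hom] [LocallyOfFiniteType X.hom] [QuasiCompact X.hom]
    (hX : Pi1.IsNormalScheme X.left) (a : AlgGrp.Action G X) (x : ↥X.left) :
    ∃ U : X.left.Opens, x ∈ U ∧ a.act.left ⁻¹ᵁ U = (snd G X).left ⁻¹ᵁ U ∧
      RelProj.IsQuasiProjective (U.ι ≫ X.hom) := by
  haveI : IsLocallyNoetherian X.left := LocallyOfFiniteType.isLocallyNoetherian X.hom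
  haveI : CompactSpace X.left := QuasiCompact.compactSpace_of_compactSpace X.hom
  haveI : AlgebraicGeometry.IsNoetherian X.left := {}
  obtain ⟨U₀, hU₀, hxU₀, -⟩ := exists_isAffineOpen_mem_and_subset (U := (⊤ : X.left.Opens)) (x := x) trivial
  let U := saturation a U₀
  have hxU : x ∈ U := le_saturation a U₀ hxU₀
  have hst := stable_saturation a U₀
  obtain ⟨aU, haU⟩ := GITSS15.exists_restrict a U hst
  let Xo : Over (Spec (CommRingCat.of k)) := Over.mk (U.ι ≫ X.hom)
  haveI : Nonempty (U : Scheme.{u}) := ⟨⟨x, hxU⟩⟩
  haveI : Nonempty ↥Xo.left := ⟨⟨x, hxU⟩⟩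
  haveI : IsIntegral Xo.left := isIntegral_of_isOpenImmersion U.ι
  haveI : IsSeparated Xo.hom := inferInstanceAs (IsSeparated (U.ι ≫ X.hom))
  haveI : LocallyOfFiniteType Xo.hom := inferInstanceAs (LocallyOfFiniteType (U.ι ≫ X.hom))
  haveI : QuasiCompact Xo.hom := inferInstanceAs (QuasiCompact (U.ι ≫ X.hom))
  have hcov : saturation aU (U.ι ⁻¹ᵁ U₀) = ⊤ := top_le_iff.1 fun y _ => by
    obtain ⟨g, hg⟩ := (mem_saturation a).1 y.2
    refine (mem_saturation aU).2 ⟨g, ?_⟩
    have he := tr_left_comp (X := X) (Y := Xo) aU a (Over.homMk U.ι rfl) haU g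
    show ((OrbitTop19.tr aU g).left ≫ (Over.homMk U.ι rfl : Xo ⟶ X).left) y ∈ U₀
    rw [he]
    exact hg
  obtain ⟨L, hL⟩ := exists_isAmple (X := Xo) (isNormalScheme_open U hX) aU (U.ι ⁻¹ᵁ U₀)
    (hU₀.preimage_of_isOpenImmersion U.ι (by
      rw [Scheme.Opens.opensRange_ι]; exact le_saturation a U₀)) ⟨⟨x, hxU⟩, hxU₀⟩ hcov
  haveI : QuasiCompact (U.ι ≫ X.hom) := inferInstanceAs (QuasiCompact Xo.hom)
  exact ⟨U, hxU, hst, inferInstanceAs (LocallyOfFiniteType Xo.hom), inferInstance, L,
    (RA.isRelAmple_iff_isAmple (U.ι ≫ X.hom)).2 hL⟩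

end Groth.Agent.S16111
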