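import Groth.Statements.S16112
import Groth.Agent.S16111
import Groth.Agent.Lib.Sumihiro14.Weights
import Groth.Agent.Lib.RelAmple18.Basic

set_option autoImplicit false
universe u
open CategoryTheory MonoidalCategory CartesianMonoidalCategory MonObj GrpObj AlgebraicGeometry CategoryTheory.Limits
open AlgGrp

namespace Groth.Agent.S16112

set_option backward.isDefEq.respectTransparency false
set_option backward.isDefEq.respectTransparency.types false
set_option linter.style.haveILetI false
open Groth.Agent.Sumihiro14 in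

/-- Over an algebraically closed field k, let T be a torus (a k-group scheme isomorphic to the
diagonalizable group of ℤ^r for some r) acting on a normal irreducible variety X (an integral normal
separated k-scheme of finite type). Then X is covered by T-stable affine open subschemes: every
point x of X lies in an affine open U with σ⁻¹U = p₂⁻¹U in T × X (σ the action, p₂ the projection).
(The published statement takes X normal and possibly reducible; it is stated here for irreducible X,
the case its argument reduces to.) -/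
theorem result (k : Type u) [Field k] [IsAlgClosed k]
    (T X : Over (Spec (CommRingCat.of k))) [GrpObj T] (r : ℕ) (hT : Red.IsSplitTorusWith (Fin r → ℤ) T)
    [IsIntegral X.left] [IsSeparated X.hom] [LocallyOfFiniteType X.hom] [QuasiCompact X.hom]
    (hX : Pi1.IsNormalScheme X.left) (a : AlgGrp.Action T X) (x : ↥X.left) :
    ∃ U : X.left.Opens, x ∈ U ∧ IsAffineOpen U ∧ a.act.left ⁻¹ᵁ U = (snd T X).left ⁻¹ᵁ U := by
  obtain ⟨C⟩ := DiagGL.nonempty_chars hT
  haveI : IsAffine T.left := TorPts21.isAffine_of_chars C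
  haveI : Smooth T.hom := TorPts21.smooth_of_chars C
  haveI := TorPts21.irreducibleSpace_of_chars C
  haveI : ConnectedSpace ↥T.left := inferInstance
  haveI : IsReduced T.left := AbRigid.isReduced_of_smooth_over_field T.hom
  haveI : IsLocallyNoetherian X.left := LocallyOfFiniteType.isLocallyNoetherian X.hom
  haveI : CompactSpace X.left := QuasiCompact.compactSpace_of_compactSpace X.hom
  haveI : AlgebraicGeometry.IsNoetherian X.left := {}
  obtain ⟨U, hxU, hst, hlft, hqc, L, hL⟩ := Groth.Agent.S16111.result k T X hX a x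
  obtain ⟨aU, haU⟩ := GITSS15.exists_restrict a U hst
  let Xo : Over (Spec (CommRingCat.of k)) := Over.mk (U.ι ≫ X.hom)
  haveI : Nonempty ↥Xo.left := ⟨⟨x, hxU⟩⟩
  haveI : IsIntegral Xo.left := isIntegral_of_isOpenImmersion U.ι
  haveI : IsSeparated Xo.hom := inferInstanceAs (IsSeparated (U.ι ≫ X.hom))
  haveI : LocallyOfFiniteType Xo.hom := hlft
  haveI : QuasiCompact Xo.hom := hqc
  obtain ⟨V, hxV, hVA, hV⟩ := exists_stable_affine (X := Xo) C aU (isNormalScheme_open U hX)
    ((RA.isRelAmple_iff_isAmple (U.ι ≫ X.hom)).1 hL) (⟨x, hxU⟩ : Xo.left)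
  refine ⟨U.ι ''ᵁ V, ⟨⟨x, hxU⟩, hxV, rfl⟩, hVA.image_of_isOpenImmersion U.ι,
    stable_of_tr a _ fun g => ?_⟩
  have he := tr_left_comp (X := X) (Y := Xo) aU a (Over.homMk U.ι rfl) haU g
  have he' : ∀ y : Xo.left, U.ι ((OrbitTop19.tr aU g).left y) = (OrbitTop19.tr a g).left (U.ι y) := fun y =>
    congrArg (fun f : Xo.left ⟶ X.left => f y) he
  refine TopologicalSpace.Opens.ext (Set.ext fun z => ?_)
  constructor
  · rintro ⟨v, hv, hvz⟩
    have hzU : z ∈ U := by
      obtain ⟨q, hq⟩ : ∃ q, (OrbitTop19.tr aU g).left q = v :=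
        ⟨(OrbitTop19.tr aU g⁻¹).left v,
          OrbitTop19.apply_comp_left (OrbitTop19.tr aU g⁻¹) (OrbitTop19.tr aU g) _ (OrbitTop19.inv_tr aU g) v⟩
      have h1 : (OrbitTop19.tr a g).left (U.ι q) = (OrbitTop19.tr a g).left z := by rw [← he' q, hq]; exact hvz
      haveI : IsIso (OrbitTop19.tr a g).left :=
        inferInstanceAs (IsIso ((Over.forget _).mapIso (OrbitTop19.trIso a g)).hom)
      exact (OrbitTop19.tr a g).left.homeomorph.injective h1 ▸ q.2
    refine ⟨⟨z, hzU⟩, ?_, rfl⟩
    rw [← hV g]
    have h2 := (he' ⟨z, hzU⟩).trans hvz.symm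
    show (OrbitTop19.tr aU g).left ⟨z, hzU⟩ ∈ V
    rw [U.ι.isOpenEmbedding.injective h2]
    exact hv
  · rintro ⟨v, hv, rfl⟩
    refine ⟨(OrbitTop19.tr aU g).left v, ?_, he' v⟩
    rw [← hV g] at hv
    exact hv

end Groth.Agent.S16112
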