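import Groth.Statements.S16116
import Groth.Agent.Lib.UnitsRos.Char

set_option autoImplicit false
universe u
open CategoryTheory MonoidalCategory CartesianMonoidalCategory MonObj GrpObj AlgebraicGeometry CategoryTheory.Limits
open AlgGrp

namespace Groth.Agent.S16116

/-- Over an algebraically closed field k, let G be a connected algebraic group (a smooth connected
k-group scheme of finite type) acting by σ on an irreducible variety X (an integral separated
k-scheme of finite type), and let f be a unit of Γ(X, O_X). Then f is a semi-invariant: there is a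
unique character χ of G (a unit of Γ(G, O_G) with e^*(χ) = 1 and m^*(χ) = p₁^*(χ) · p₂^*(χ)) such
that σ^*(f) = p₁^*(χ) · p₂^*(f) in Γ(G × X, O). -/
theorem result (k : Type u) [Field k] [IsAlgClosed k]
    (G X : Over (Spec (CommRingCat.of k))) [GrpObj G] [Smooth G.hom] [QuasiCompact G.hom] [ConnectedSpace ↥G.left]
    [IsIntegral X.left] [IsSeparated X.hom] [LocallyOfFiniteType X.hom] [QuasiCompact X.hom] (a : AlgGrp.Action G X)
    (f : Γ(X.left, ⊤)) (hf : IsUnit f) :
    ∃! χ : Γ(G.left, ⊤), IsUnit χ ∧ η[G].left.appTop χ = 1 ∧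
      μ[G].left.appTop χ = (fst G G).left.appTop χ * (snd G G).left.appTop χ ∧
      a.act.left.appTop f = (fst G X).left.appTop χ * (snd G X).left.appTop f := by
  obtain ⟨χ, u, hχ, heχ, hm, hu, hf'⟩ :=
    Groth.Agent.UnitsRos.exists_char_mul G X (f := a.act.left.appTop f) (hf.map a.act.left.appTop.hom)
  have hone : lift (toUnit X ≫ η[G]) (𝟙 X) ≫ a.act = 𝟙 X := by
    have := lift (toUnit X) (𝟙 X) ≫= a.one_act
    rwa [lift_whiskerRight_assoc, lift_leftUnitor_hom] at this
  have huf : u = f := by
    have h := congrArg (lift (toUnit X ≫ η[G]) (𝟙 X)).left.appTop hf'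
    rw [← Groth.Agent.UnitsRos.appTop_comp, hone, map_mul, ← Groth.Agent.UnitsRos.appTop_comp,
      ← Groth.Agent.UnitsRos.appTop_comp, lift_fst, lift_snd, Groth.Agent.UnitsRos.appTop_id,
      Groth.Agent.UnitsRos.appTop_id, Groth.Agent.UnitsRos.appTop_comp, heχ, map_one, _root_.one_mul] at h
    exact h.symm
  subst huf
  refine ⟨χ, ⟨hχ, heχ, hm, hf'⟩, ?_⟩
  rintro ψ ⟨-, -, -, hψ⟩
  rw [hf'] at hψ
  have h1 := (hu.map (snd G X).left.appTop.hom).mul_right_cancel hψ
  obtain ⟨x, -⟩ := Groth.Agent.UnitsRos.exists_point (X := X) isOpen_univ Set.univ_nonempty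
  have h2 := congrArg (lift (𝟙 G) (toUnit G ≫ x)).left.appTop h1
  rw [← Groth.Agent.UnitsRos.appTop_comp, ← Groth.Agent.UnitsRos.appTop_comp, lift_fst,
    Groth.Agent.UnitsRos.appTop_id, Groth.Agent.UnitsRos.appTop_id] at h2
  exact h2.symm

end Groth.Agent.S16116
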