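import Groth.Statements.S16118
import Groth.Agent.Lib.RatGrp14.Scheme

set_option autoImplicit false
universe u
open CategoryTheory MonoidalCategory CartesianMonoidalCategory MonObj GrpObj AlgebraicGeometry CategoryTheory.Limits
open AlgGrp

namespace Groth.Agent.S16118

/-- Over an algebraically closed field k, let G be a connected linear algebraic group (an affine,
smooth, connected k-group scheme) acting by σ on a normal irreducible variety X (an integral normal
separated k-scheme of finite type), and let L be an invertible O_X-module. Then L is G-invariant: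
for every k-point g of G, with translation t_g : X → X, x ↦ g · x, the inverse image t_g^*(L) is
isomorphic to L. -/
theorem result (k : Type u) [Field k] [IsAlgClosed k]
    (G X : Over (Spec (CommRingCat.of k))) [GrpObj G] [IsAffine G.left] [Smooth G.hom] [ConnectedSpace ↥G.left]
    [IsIntegral X.left] [IsSeparated X.hom] [LocallyOfFiniteType X.hom] [QuasiCompact X.hom]
    (hX : Pi1.IsNormalScheme X.left) (a : AlgGrp.Action G X)
    (g : 𝟙_ (Over (Spec (CommRingCat.of k))) ⟶ G) (L : X.left.Modules) (hL : PicF.IsInvertible L) :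
    Nonempty ((Scheme.Modules.pullback (lift (toUnit X ≫ g) (𝟙 X) ≫ a.act).left).obj L ≅ L) := by
  letI : PicGrp.Law G.left := M2.law _
  letI : PicGrp.Law X.left := M2.law _
  letI : PicGrp.Law (G ⊗ X).left := M2.law _
  letI : PicGrp.Law (𝟙_ (Over (Spec (CommRingCat.of k)))).left := M2.law _
  obtain ⟨A, hA⟩ := Groth.Agent.RatGrp14.exists_pullHom_act_eq hX a (M2.pullMul _) (M2.pullMul _) (M2.pullMul _)
    (PicGrp.cls L hL)
  let s : X ⟶ G ⊗ X := lift (toUnit X ≫ g) (𝟙 X)
  have h := congrArg (PicGrp.pullHom s.left (M2.pullMul _)) hA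
  rw [map_mul, RatGrp14.pullHom_comp, RatGrp14.pullHom_comp, RatGrp14.pullHom_comp,
    show s ≫ fst G X = toUnit X ≫ g by simp [s], RatGrp14.pullHom_const, _root_.one_mul,
    RatGrp14.pullHom_id (s ≫ snd G X) (by simp [s]), PicGrp.pullHom_cls] at h
  exact (PicGrp.cls_eq_cls_iff _ _).1 h

end Groth.Agent.S16118
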