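import Groth.Statements.S16121
import Groth.Agent.Lib.RatGrp14.Scheme

set_option autoImplicit false
universe u
open CategoryTheory MonoidalCategory CartesianMonoidalCategory MonObj GrpObj AlgebraicGeometry CategoryTheory.Limits
open AlgGrp

namespace Groth.Agent.S16121

/-- Over an algebraically closed field k, a connected linear algebraic group G (an affine, smooth,
connected k-group scheme) is a rational variety: there are a nonempty open subscheme U of G, an n,
an open subscheme V of the affine space 𝔸ⁿ_k and an isomorphism U ≅ V compatible with the structure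
morphisms to Spec k. -/
theorem result (k : Type u) [Field k] [IsAlgClosed k]
    (G : Over (Spec (CommRingCat.of k))) [GrpObj G] [IsAffine G.left] [Smooth G.hom] [ConnectedSpace ↥G.left] :
    ∃ (U : G.left.Opens) (n : ℕ) (V : (𝔸(ULift.{u} (Fin n); Spec (CommRingCat.of k))).Opens)
      (e : (U : Scheme.{u}) ≅ (V : Scheme.{u})), (U : Set ↥G.left).Nonempty ∧
        e.hom ≫ V.ι ≫ (𝔸(ULift.{u} (Fin n); Spec (CommRingCat.of k)) ↘ Spec (CommRingCat.of k)) = U.ι ≫ G.hom := by
  exact Groth.Agent.RatGrp14.exists_open_iso G

end Groth.Agent.S16121
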