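import Groth.Statements.S16124
import Groth.Agent.S12484
import Groth.Agent.Lib.FinProj19.Basic

set_option autoImplicit false
universe u
open CategoryTheory MonoidalCategory CartesianMonoidalCategory MonObj GrpObj AlgebraicGeometry CategoryTheory.Limits
open AlgGrp

namespace Groth.Agent.S16124

/-- Over an algebraically closed field k, let X be a quasi-projective variety (a reduced separated
k-scheme, quasi-projective over k) with an action of a finite group Γ by k-automorphisms. Then X is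
covered by Γ-stable affine open subschemes: every point x of X lies in an affine open U with σ⁻¹(U)
= U for every σ in Γ. -/
theorem result (k : Type u) [Field k] [IsAlgClosed k]
    (X : Over (Spec (CommRingCat.of k))) [IsReduced X.left] [IsSeparated X.hom] (hX : RelProj.IsQuasiProjective X.hom)
    (Γgrp : Type u) [Group Γgrp] [Finite Γgrp] (ρ : Γgrp →* Aut X.left)
    (hρ : ∀ σ : Γgrp, (ρ σ).hom ≫ X.hom = X.hom) (x : ↥X.left) :
    ∃ U : X.left.Opens, x ∈ U ∧ IsAffineOpen U ∧ ∀ σ : Γgrp, (ρ σ).hom ⁻¹ᵁ U = U := by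
  classical
  obtain ⟨Em, 𝒯, j, P, p, chart, i, -, -, -, -, hi, hip⟩ :=
    Groth.Agent.S12484.result (Or.inl ⟨inferInstance, inferInstance⟩) X.hom hX
  haveI := hi
  let e := chart ⊤ (isAffineOpen_top _)
  have hran : Set.range i ⊆ Set.range (p ⁻¹ᵁ ⊤).ι := by
    rw [Scheme.Opens.range_ι]
    exact fun z _ => trivial
  let emb := IsOpenImmersion.lift (p ⁻¹ᵁ ⊤).ι i hran ≫ e.hom
  haveI : IsImmersion (IsOpenImmersion.lift (p ⁻¹ᵁ ⊤).ι i hran) := by
    haveI : IsImmersion (IsOpenImmersion.lift (p ⁻¹ᵁ ⊤).ι i hran ≫ (p ⁻¹ᵁ ⊤).ι) := by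
      rw [IsOpenImmersion.lift_fac]
      exact hi
    exact IsImmersion.of_comp _ (p ⁻¹ᵁ ⊤).ι
  haveI : IsImmersion emb := inferInstanceAs (IsImmersion (_ ≫ _))
  letI := 𝒯.graded ⊤ (isAffineOpen_top _)
  obtain ⟨V, hV, hE⟩ := Groth.Agent.FinProj19.exists_affineOpen_of_finite_proj (𝒯.deg ⊤ (isAffineOpen_top _)) emb
    (Set.range fun σ : Γgrp => (ρ σ).hom x) (Set.finite_range _)
  haveI : X.left.IsSeparated := ⟨by
    rw [show Limits.terminal.from X.left = X.hom ≫ Limits.terminal.from _ from Subsingleton.elim _ _]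
    infer_instance⟩
  haveI : IsAffineHom (pullback.diagonal (Limits.terminal.from X.left)) := inferInstance
  haveI : Nonempty Γgrp := ⟨1⟩
  have hmem : ∀ (y : X.left), y ∈ (⨅ σ : Γgrp, (ρ σ).hom ⁻¹ᵁ V) ↔ ∀ σ : Γgrp, (ρ σ).hom y ∈ V := fun y => by
    rw [← SetLike.mem_coe, TopologicalSpace.Opens.coe_iInf, Set.mem_iInter]
    rfl
  refine ⟨⨅ σ : Γgrp, (ρ σ).hom ⁻¹ᵁ V, (hmem x).2 fun σ => hE ⟨σ, rfl⟩,
    IsAffineOpen.iInf fun σ => hV.preimage_of_isIso _, fun τ => TopologicalSpace.Opens.ext (Set.ext fun y => ?_)⟩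
  show (ρ τ).hom y ∈ (⨅ σ : Γgrp, (ρ σ).hom ⁻¹ᵁ V) ↔ y ∈ (⨅ σ : Γgrp, (ρ σ).hom ⁻¹ᵁ V)
  rw [hmem, hmem]
  have hcomp : ∀ σ : Γgrp, (ρ σ).hom ((ρ τ).hom y) = (ρ (σ * τ)).hom y := fun σ => by
    rw [map_mul, CategoryTheory.Aut.Aut_mul_def, Iso.trans_hom, Scheme.Hom.comp_apply]
  refine ⟨fun h σ => ?_, fun h σ => (hcomp σ).symm ▸ h _⟩
  have h1 := h (σ * τ⁻¹)
  rwa [hcomp, inv_mul_cancel_right] at h1

end Groth.Agent.S16124
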