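import Groth.Statements.S16126
import Groth.Agent.Lib.DiagGL.Main
import Groth.Agent.Lib.Comodule.Basic
import Mathlib.LinearAlgebra.TensorProduct.Finiteness

set_option autoImplicit false
universe u
open CategoryTheory MonoidalCategory CartesianMonoidalCategory MonObj GrpObj AlgebraicGeometry CategoryTheory.Limits
open AlgGrp

namespace Groth.Agent.S16126

set_option backward.isDefEq.respectTransparency.types false

open Groth.Agent.DiagGL
open scoped TensorProduct

section Weights

variable {k : Type u} [Field k] {A : Type u} [CommRing A] [Bialgebra k A]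

/-- Contracting the left factor of the comultiplication with a linear form. -/
def contrL (φ : A →ₗ[k] k) : A →ₗ[k] A :=
  (TensorProduct.lid k A).toLinearMap ∘ₗ φ.rTensor A ∘ₗ Coalgebra.comul

/-- Contracting the right factor of the comultiplication with a linear form. -/
def contrR (φ : A →ₗ[k] k) : A →ₗ[k] A :=
  (TensorProduct.rid k A).toLinearMap ∘ₗ φ.lTensor A ∘ₗ Coalgebra.comul

theorem comul_contrL (φ : A →ₗ[k] k) (a : A) :
    Coalgebra.comul (R := k) (contrL φ a) = (contrL φ).rTensor A (Coalgebra.comul a) := by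
  have h : (Coalgebra.comul (R := k) (A := A)) ∘ₗ contrL φ = (contrL φ).rTensor A ∘ₗ Coalgebra.comul := by
    have e1 : (Coalgebra.comul (R := k) (A := A)) ∘ₗ (TensorProduct.lid k A).toLinearMap ∘ₗ φ.rTensor A =
        (TensorProduct.lid k (A ⊗[k] A)).toLinearMap ∘ₗ φ.rTensor (A ⊗[k] A) ∘ₗ Coalgebra.comul.lTensor A := by
      ext x y
      simp
    have e2 : ((TensorProduct.lid k A).toLinearMap ∘ₗ φ.rTensor A).rTensor A =
        (TensorProduct.lid k (A ⊗[k] A)).toLinearMap ∘ₗ φ.rTensor (A ⊗[k] A) ∘ₗ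
          (TensorProduct.assoc k A A A).toLinearMap := by
      ext x y z
      simp [TensorProduct.smul_tmul']
    calc (Coalgebra.comul (R := k) (A := A)) ∘ₗ contrL φ
        = ((TensorProduct.lid k (A ⊗[k] A)).toLinearMap ∘ₗ φ.rTensor (A ⊗[k] A)) ∘ₗ
            (Coalgebra.comul.lTensor A ∘ₗ Coalgebra.comul) := by
          rw [contrL, ← LinearMap.comp_assoc, ← LinearMap.comp_assoc, LinearMap.comp_assoc _ _ Coalgebra.comul, e1]
          simp only [LinearMap.comp_assoc]
      _ = _ := by
          rw [← Coalgebra.coassoc, show contrL φ =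
              ((TensorProduct.lid k A).toLinearMap ∘ₗ φ.rTensor A) ∘ₗ Coalgebra.comul from rfl,
            LinearMap.rTensor_comp _ ((TensorProduct.lid k A).toLinearMap ∘ₗ φ.rTensor A), e2]
          simp only [LinearMap.comp_assoc]
  exact LinearMap.congr_fun h a

end Weights

theorem mdAlg_single {k : Type u} [Field k] {M N : Type} [Monoid M] [Monoid N] (f : M →* N) (m : M) (r : k) :
    MonoidAlgebra.mapDomainAlgHom k k f (MonoidAlgebra.single m r) = MonoidAlgebra.single (f m) r := by
  show MonoidAlgebra.mapDomain f (MonoidAlgebra.single m r) = _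
  exact MonoidAlgebra.mapDomain_single

theorem core (k : Type u) [Field k] (A : Type u) [CommRing A] [HopfAlgebra k A]
    {σ : Over (Spec (CommRingCat.of k))} [GrpObj σ] (C : Chars ℤ σ)
    (j : σ ⟶ CoactBr.sp k A) [IsMonHom j] [IsClosedImmersion j.left]
    (hcent : ∀ (T : Over (Spec (CommRingCat.of k))) (t : T ⟶ σ) (g : T ⟶ CoactBr.sp k A),
      (t ≫ j) * g = g * (t ≫ j)) :
    ∃ (χ : CoactBr.sp k A ⟶ σ) (n : ℕ), IsMonHom χ ∧ 1 ≤ n ∧
      ∀ (T : Over (Spec (CommRingCat.of k))) (t : T ⟶ σ), (t ≫ j) ≫ χ = t ^ n := by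
  classical
  let B := MonoidAlgebra k (Multiplicative ℤ)
  obtain ⟨w, hw⟩ := exists_uni C
  let π : A →ₐ[k] B :=
    { toRingHom := (emb k ℤ).symm.toRingHom.comp (ev (w ≫ j))
      commutes' := fun r => by
        show (emb k ℤ).symm (ev (w ≫ j) (algebraMap k A r)) = _
        rw [ev_algebraMap, alg_D, RingEquiv.symm_apply_apply]
        rfl }
  have hπ : ∀ a, ev (w ≫ j) a = emb k ℤ (π a) := fun a => ((emb k ℤ).apply_symm_apply _).symm
  -- evaluation of points of `σ` composed with `j`
  have hev : ∀ (T : Over (Spec (CommRingCat.of k))) (t : T ⟶ σ) (a : A),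
      ev (t ≫ j) a = MonoidAlgebra.liftNCRingHom (alg T) (C.ch t) (fun _ _ => Commute.all _ _) (π a) := by
    intro T t a
    obtain ⟨s, rfl, hs⟩ := exists_factor C hw t
    rw [Category.assoc, ev_comp, hπ]
    have e : ((s.left.appTop).hom.comp (emb k ℤ).toRingHom) =
        MonoidAlgebra.liftNCRingHom (alg T) (C.ch (s ≫ w)) (fun _ _ => Commute.all _ _) := by
      apply MonoidAlgebra.ringHom_ext
      · intro r
        show s.left.appTop (emb k ℤ (MonoidAlgebra.single 1 r)) = _
        rw [← alg_D, alg_comp]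
        simp
      · intro m
        show s.left.appTop (univChar k ℤ m) = _
        rw [← hs]
        simp
    exact DFunLike.congr_fun e (π a)
  -- the linear forms
  let co : ℤ → B →ₗ[k] k := fun p =>
    { toFun := fun x => x.coeff (Multiplicative.ofAdd p)
      map_add' := fun x y => rfl
      map_smul' := fun r x => rfl }
  let φ : ℤ → A →ₗ[k] k := fun p => co p ∘ₗ π.toLinearMap
  have hinj : Function.Injective fun x : B ⊗[k] A => (Scheme.ΓSpecIso (CommRingCat.of (B ⊗[k] A))).inv x :=
    (Scheme.ΓSpecIso (CommRingCat.of (B ⊗[k] A))).commRingCatIsoToRingEquiv.symm.injective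
  -- centrality
  have hLR : ∀ p a, contrL (φ p) a = contrR (φ p) a := by
    intro p a
    let q₁ := CoactBr.pt ((Algebra.TensorProduct.includeLeft : B →ₐ[k] B ⊗[k] A))
    let q₂ := CoactBr.pt ((Algebra.TensorProduct.includeRight : A →ₐ[k] B ⊗[k] A))
    have hwj : w ≫ j = CoactBr.pt π := ev_injective fun a => by rw [ev_pt, hπ]; rfl
    have h := hcent _ (q₁ ≫ w) q₂
    rw [Category.assoc, hwj, ← CoactBr.pt_comp, CoactBr.pt_mul_pt, CoactBr.pt_mul_pt] at h
    have h2 := DFunLike.congr_fun (CoactBr.pt_injective h) a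
    simp only [AlgHom.comp_apply] at h2
    let Λ : B ⊗[k] A →ₗ[k] A := (TensorProduct.lid k A).toLinearMap ∘ₗ (co p).rTensor A
    have e1 : ∀ z : A ⊗[k] A, Λ (Algebra.TensorProduct.lift
        ((Algebra.TensorProduct.includeLeft : B →ₐ[k] B ⊗[k] A).comp π) Algebra.TensorProduct.includeRight
        (fun _ _ => .all _ _) z) = (TensorProduct.lid k A) ((φ p).rTensor A z) := by
      intro z
      induction z with
      | zero => simp
      | tmul x y => simp [Λ, φ]
      | add x y hx hy => simp only [map_add, hx, hy]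
    have e2 : ∀ z : A ⊗[k] A, Λ (Algebra.TensorProduct.lift
        Algebra.TensorProduct.includeRight ((Algebra.TensorProduct.includeLeft : B →ₐ[k] B ⊗[k] A).comp π)
        (fun _ _ => .all _ _) z) = (TensorProduct.rid k A) ((φ p).lTensor A z) := by
      intro z
      induction z with
      | zero => simp
      | tmul x y => simp [Λ, φ]
      | add x y hx hy => simp only [map_add, hx, hy]
    have := congrArg Λ h2
    rw [e1, e2] at this
    exact this
  -- orthogonality
  have hφφ : ∀ p q a, φ p (contrL (φ q) a) = if p = q then φ p a else 0 := by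
    intro p q a
    have h := congrArg (fun f => ev f a) (MonObj.mul_comp (CoactBr.pt
      (R := k) (MonoidAlgebra.mapDomainAlgHom k k (AddMonoidHom.toMultiplicative (AddMonoidHom.inl ℤ ℤ))) ≫ w)
      (CoactBr.pt (R := k) (MonoidAlgebra.mapDomainAlgHom k k (AddMonoidHom.toMultiplicative (AddMonoidHom.inr ℤ ℤ))) ≫ w) j)
    have hwj : w ≫ j = CoactBr.pt π := ev_injective fun a => by rw [ev_pt, hπ]; rfl
    simp only [Category.assoc, hwj, ← CoactBr.pt_comp, CoactBr.pt_mul_pt] at h
    rw [ev_pt] at h
    let il : B →ₐ[k] MonoidAlgebra k (Multiplicative (ℤ × ℤ)) :=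
      MonoidAlgebra.mapDomainAlgHom k k (AddMonoidHom.toMultiplicative (AddMonoidHom.inl ℤ ℤ))
    let ir : B →ₐ[k] MonoidAlgebra k (Multiplicative (ℤ × ℤ)) :=
      MonoidAlgebra.mapDomainAlgHom k k (AddMonoidHom.toMultiplicative (AddMonoidHom.inr ℤ ℤ))
    let dg : B →ₐ[k] MonoidAlgebra k (Multiplicative (ℤ × ℤ)) :=
      MonoidAlgebra.mapDomainAlgHom k k (AddMonoidHom.toMultiplicative ((AddMonoidHom.id ℤ).prod (AddMonoidHom.id ℤ)))
    have hpt : CoactBr.pt il ≫ w * (CoactBr.pt ir ≫ w) = CoactBr.pt dg ≫ w := by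
      apply C.inj
      intro m
      rw [C.mul, C.nat, C.nat, C.nat, hw]
      show ev (A := B) (CoactBr.pt il) _ * ev (A := B) (CoactBr.pt ir) _ = ev (A := B) (CoactBr.pt dg) _
      rw [ev_pt, ev_pt, ev_pt]
      refine (map_mul (Scheme.ΓSpecIso (CommRingCat.of (MonoidAlgebra k (Multiplicative (ℤ × ℤ))))).inv.hom _ _).symm.trans
        (congrArg _ ?_)
      simp only [il, ir, dg, MonoidAlgebra.of_apply]
      erw [mdAlg_single, mdAlg_single, mdAlg_single]
      erw [MonoidAlgebra.single_mul_single]
      rw [_root_.mul_one]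
      refine congrArg (MonoidAlgebra.single · 1) ?_
      simp [← Multiplicative.toAdd.injective.eq_iff]
    rw [show (CoactBr.pt il ≫ w) * (CoactBr.pt ir ≫ w) = CoactBr.pt dg ≫ w from hpt, Category.assoc, hwj,
      ← CoactBr.pt_comp, ev_pt] at h
    have h2 := (Scheme.ΓSpecIso (CommRingCat.of (MonoidAlgebra k (Multiplicative (ℤ × ℤ))))).commRingCatIsoToRingEquiv.symm.injective h
    have h3 := congrArg (fun x : MonoidAlgebra k (Multiplicative (ℤ × ℤ)) => x.coeff (Multiplicative.ofAdd (q, p))) h2
    have e1 : ∀ b : B, (dg b).coeff (Multiplicative.ofAdd (q, p)) = if p = q then co p b else 0 := by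
      intro b
      induction b using MonoidAlgebra.induction_linear with
      | zero => simp
      | add x y hx hy => rw [map_add, map_add, MonoidAlgebra.coeff_add, Finsupp.add_apply, hx, hy]; split_ifs <;> simp
      | single m r =>
        obtain ⟨m, rfl⟩ := Multiplicative.ofAdd.surjective m
        simp only [dg]
        erw [mdAlg_single]
        simp [co, Finsupp.single_apply]
        grind
    have e2 : ∀ x y : B, (il x * ir y).coeff (Multiplicative.ofAdd (q, p)) = co q x * co p y := by
      intro x y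
      induction x using MonoidAlgebra.induction_linear with
      | zero => simp
      | add x x' hx hx' => simp only [map_add, add_mul, MonoidAlgebra.coeff_add, Finsupp.add_apply, hx, hx']
      | single m r =>
        induction y using MonoidAlgebra.induction_linear with
        | zero => simp
        | add x x' hx hx' => simp only [map_add, mul_add, MonoidAlgebra.coeff_add, Finsupp.add_apply, hx, hx']
        | single m' r' =>
          obtain ⟨m, rfl⟩ := Multiplicative.ofAdd.surjective m
          obtain ⟨m', rfl⟩ := Multiplicative.ofAdd.surjective m'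
          simp only [il, ir]
          erw [mdAlg_single, mdAlg_single]
          simp [co, MonoidAlgebra.single_mul_single, Finsupp.single_apply, ← ofAdd_add]
          grind
    have e3 : ∀ z : A ⊗[k] A, (Algebra.TensorProduct.lift (il.comp π) (ir.comp π) (fun _ _ => .all _ _) z).coeff
        (Multiplicative.ofAdd (q, p)) = φ p ((TensorProduct.lid k A) ((φ q).rTensor A z)) := by
      intro z
      induction z with
      | zero => simp
      | tmul x y => simpa [φ] using e2 (π x) (π y)
      | add x y hx hy => simp only [map_add, MonoidAlgebra.coeff_add, Finsupp.add_apply, hx, hy]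
    simp only [AlgHom.comp_apply] at h3
    rw [e1] at h3
    exact ((h3.trans (e3 _)).symm)
  have hLL : ∀ n a, contrL (φ n) (contrL (φ n) a) = contrL (φ n) a := by
    intro n a
    show (TensorProduct.lid k A) ((φ n).rTensor A (Coalgebra.comul (contrL (φ n) a))) = _
    rw [comul_contrL, ← LinearMap.rTensor_comp_apply, show φ n ∘ₗ contrL (φ n) = φ n from
      LinearMap.ext fun x => (hφφ n n x).trans (if_pos rfl)]
    rfl
  -- a nonzero weight
  obtain ⟨n, a₀, hn, ha₀⟩ : ∃ (n : ℤ) (a : A), n ≠ 0 ∧ contrL (φ n) a ≠ 0 := by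
    by_contra hne
    push Not at hne
    haveI : IsClosedImmersion (Spec.map (CommRingCat.ofHom π.toRingHom)) := by
      obtain ⟨t, ht, -⟩ := exists_factor C hw (𝟙 σ)
      have hwt : w ≫ t = 𝟙 _ := by
        apply (charsDiag k ℤ).inj
        intro m
        rw [(charsDiag k ℤ).nat]
        obtain ⟨t', ht', he⟩ := exists_factor C hw (𝟙 σ)
        have : t = t' := (charsDiag k ℤ).inj fun m => by
          have h1 : ∀ s : σ ⟶ D k ℤ, (charsDiag k ℤ).ch s m = C.ch (s ≫ w) m := fun s => by
            rw [C.nat, hw]; rfl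
          rw [h1, h1, ht, ht']
        have h2 : (charsDiag k ℤ).ch t m = C.ch (𝟙 σ) m := by
          rw [← ht, C.nat, hw]; rfl
        rw [h2, ← C.nat, Category.comp_id, hw]
        show _ = ((Scheme.ΓSpecIso _).inv ≫ Scheme.Hom.appTop
          (𝟙 (Spec (CommRingCat.of (MonoidAlgebra k (Multiplicative ℤ)))))).hom _
        rw [Scheme.Hom.id_appTop, Category.comp_id]
        rfl
      haveI : IsIso w := ⟨t, hwt, ht⟩
      haveI : IsIso w.left := inferInstanceAs (IsIso ((Over.forget _).map w))
      have : IsClosedImmersion (w ≫ j).left := by rw [Over.comp_left]; infer_instance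
      rwa [show w ≫ j = CoactBr.pt π from ev_injective fun a => by rw [ev_pt, hπ]; rfl] at this
    have hsurj : Function.Surjective π := by
      have := (IsClosedImmersion.isAffine_surjective_of_isAffine (Spec.map (CommRingCat.ofHom π.toRingHom))).2
      intro b
      obtain ⟨x, hx⟩ := this ((Scheme.ΓSpecIso (CommRingCat.of B)).inv b)
      refine ⟨(Scheme.ΓSpecIso (CommRingCat.of A)).hom x, ?_⟩
      have e := ConcreteCategory.congr_hom (Scheme.ΓSpecIso_naturality (CommRingCat.ofHom π.toRingHom)) x
      refine e.symm.trans ?_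
      rw [ConcreteCategory.comp_apply, hx]
      exact (Scheme.ΓSpecIso (CommRingCat.of B)).commRingCatIsoToRingEquiv.apply_symm_apply b
    obtain ⟨a, ha⟩ := hsurj (MonoidAlgebra.single (Multiplicative.ofAdd (1 : ℤ)) 1)
    have h1 := hφφ 1 1 a
    rw [hne 1 a one_ne_zero, map_zero, if_pos rfl] at h1
    simp [φ, co, ha] at h1
  -- a finite dimensional subcomodule of weight n
  let U := LinearMap.range (contrL (φ n))
  have hU : HopfRep.IsSubcomod (k := k) (A := A) U := by
    rintro _ ⟨b, rfl⟩
    show Coalgebra.comul (R := k) (contrL (φ n) b) ∈ _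
    rw [comul_contrL]
    refine ⟨(contrL (φ n)).rangeRestrict.rTensor A (Coalgebra.comul b), ?_⟩
    rw [← LinearMap.rTensor_comp_apply]
    rfl
  obtain ⟨N₀, hN₀, hN₀f, hvN₀⟩ := Groth.Agent.Comodule.exists_finite_subcomod (k := k) (A := A) (contrL (φ n) a₀)
  let N := N₀ ⊓ U
  have hN : HopfRep.IsSubcomod (k := k) (A := A) N := Groth.Agent.Comodule.isSubcomod_inf hN₀ hU
  haveI : FiniteDimensional k N := Submodule.finiteDimensional_of_le (inf_le_left : N ≤ N₀)
  haveI : Nontrivial N := ⟨⟨⟨_, hvN₀, a₀, rfl⟩, 0, fun e => ha₀ (congrArg Subtype.val e)⟩⟩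
  set d := Module.finrank k N with hd
  have hdpos : 0 < d := Module.finrank_pos
  let b := Module.finBasis k N
  have hco : ∀ i, ∃ z : N ⊗[k] A, N.subtype.rTensor A z = Coalgebra.comul (R := k) (b i : A) := fun i => hN _ (b i).2
  choose z hz using hco
  let Cm : Matrix (Fin d) (Fin d) A := Matrix.of fun i l =>
    TensorProduct.lid k A ((b.coord i).rTensor A (z l))
  have hzsum : ∀ l, z l = ∑ i, b i ⊗ₜ[k] Cm i l := by
    intro l
    have : ∀ y : N ⊗[k] A, y = ∑ i, b i ⊗ₜ[k] TensorProduct.lid k A ((b.coord i).rTensor A y) := by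
      intro y
      induction y with
      | zero => simp
      | tmul x a =>
        simp only [LinearMap.rTensor_tmul, TensorProduct.lid_tmul, Module.Basis.coord_apply, ← TensorProduct.smul_tmul]
        rw [← TensorProduct.sum_tmul, b.sum_repr]
      | add x y hx hy => simp only [map_add, TensorProduct.tmul_add, Finset.sum_add_distrib, ← hx, ← hy]
    exact this _
  have hΔ : ∀ l, Coalgebra.comul (R := k) (b l : A) = ∑ i, (b i : A) ⊗ₜ[k] Cm i l := by
    intro l
    rw [← hz, hzsum, map_sum]
    rfl
  have hmul : ∀ i l, Coalgebra.comul (R := k) (Cm i l) = ∑ r, Cm i r ⊗ₜ[k] Cm r l := by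
    intro i l
    have h1 : (Coalgebra.comul (R := k) (A := A)).lTensor A (Coalgebra.comul (b l : A)) =
        TensorProduct.assoc k A A A ((Coalgebra.comul (R := k) (A := A)).rTensor A (Coalgebra.comul (b l : A))) :=
      (Coalgebra.coassoc_apply _).symm
    simp only [hΔ, map_sum, LinearMap.lTensor_tmul, LinearMap.rTensor_tmul, TensorProduct.sum_tmul,
      TensorProduct.assoc_tmul] at h1
    obtain ⟨f, hf⟩ := (b.coord i).exists_extend
    have hfb : ∀ r, f (b r : A) = if r = i then 1 else 0 := fun r => by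
      have := LinearMap.congr_fun hf (b r)
      simp only [LinearMap.comp_apply, Submodule.subtype_apply, Module.Basis.coord_apply, Module.Basis.repr_self] at this
      rw [this, Finsupp.single_apply]
    have h2 := congrArg (fun y => TensorProduct.lid k (A ⊗[k] A) (f.rTensor (A ⊗[k] A) y)) h1
    simp only [map_sum, LinearMap.rTensor_tmul, TensorProduct.lid_tmul, hfb, ite_smul, one_smul, zero_smul,
      Finset.sum_ite_eq', Finset.mem_univ, if_true] at h2
    refine h2.trans ?_
    refine Finset.sum_congr rfl fun r _ => ?_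
    simp
  have hπC : ∀ i l, π (Cm i l) = if i = l then MonoidAlgebra.single (Multiplicative.ofAdd n) 1 else 0 := by
    intro i l
    apply MonoidAlgebra.coeff_injective
    refine Finsupp.ext fun p => ?_
    obtain ⟨p, rfl⟩ := Multiplicative.ofAdd.surjective p
    obtain ⟨c, hc⟩ : (b l : A) ∈ U := (b l).2.2
    have hfix : contrL (φ n) (b l : A) = b l := by rw [← hc, hLL]
    have hR : contrL (φ p) (b l : A) = if p = n then (b l : A) else 0 := by
      have e : contrL (φ p) (b l : A) = contrL (φ p) (contrL (φ n) (b l : A)) := by rw [hfix]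
      rw [e]
      show (TensorProduct.lid k A) ((φ p).rTensor A (Coalgebra.comul (contrL (φ n) _))) = _
      rw [comul_contrL, ← LinearMap.rTensor_comp_apply]
      rcases eq_or_ne p n with rfl | hp
      · rw [if_pos rfl, show φ p ∘ₗ contrL (φ p) = φ p from LinearMap.ext fun x => (hφφ p p x).trans (if_pos rfl)]
        exact hfix
      · rw [if_neg hp, show φ p ∘ₗ contrL (φ n) = 0 from LinearMap.ext fun x => (hφφ p n x).trans (if_neg hp)]
        simp
    have h1 : ∑ r, φ p (Cm r l) • (b r : A) = if p = n then (b l : A) else 0 := by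
      rw [← hR, hLR]
      simp [contrR, hΔ]
      rfl
    have h2 : ∑ r, φ p (Cm r l) • b r = if p = n then b l else 0 := by
      apply Subtype.ext
      rw [Submodule.coe_sum]
      refine h1.trans ?_
      split_ifs <;> rfl
    have h3 := congrArg (fun x => b.repr x i) h2
    simp only [map_sum, map_smul, Module.Basis.repr_self, Finsupp.smul_single, smul_eq_mul, _root_.mul_one,
      Finsupp.finsetSum_apply, Finsupp.single_apply, Finset.sum_ite_eq', Finset.mem_univ, if_true] at h3
    show φ p (Cm i l) = _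
    rw [h3]
    rcases eq_or_ne p n with rfl | hp
    · rcases eq_or_ne i l with rfl | hil
      · simp [co]
      · simp [hil, Ne.symm hil]
    · rcases eq_or_ne i l with rfl | hil
      · simp [hp, Ne.symm hp]
      · simp [hp, hil]
  -- the determinant character
  let M : ∀ {T : Over (Spec (CommRingCat.of k))}, (T ⟶ CoactBr.sp k A) → Matrix (Fin d) (Fin d) Γ(T.left, ⊤) :=
    fun g => Cm.map (ev g)
  have hMmul : ∀ {T : Over (Spec (CommRingCat.of k))} (g h : T ⟶ CoactBr.sp k A), M (g * h) = M g * M h := by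
    intro T g h
    letI := (alg T).toAlgebra
    refine Matrix.ext fun i l => ?_
    show ev (g * h) (Cm i l) = _
    rw [ev_mul]
    show (Algebra.TensorProduct.lift _ _ _) (Coalgebra.comul (R := k) (Cm i l)) = _
    rw [hmul, map_sum, Matrix.mul_apply]
    exact Finset.sum_congr rfl fun r _ => Algebra.TensorProduct.lift_tmul _ _ _ _ _
  have hMj : ∀ (T : Over (Spec (CommRingCat.of k))) (t : T ⟶ σ),
      (M (t ≫ j)).det = C.ch t (Multiplicative.ofAdd n) ^ d := by
    intro T t
    have : M (t ≫ j) = Matrix.diagonal fun _ => C.ch t (Multiplicative.ofAdd n) := by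
      refine Matrix.ext fun i l => ?_
      show ev (t ≫ j) (Cm i l) = _
      rw [hev, hπC]
      rcases eq_or_ne i l with rfl | hil
      · simp
      · simp [hil]
    rw [this, Matrix.det_diagonal]
    simp
  have hMone : ∀ T : Over (Spec (CommRingCat.of k)), (M (1 : T ⟶ CoactBr.sp k A)).det = 1 := by
    intro T
    rw [← MonObj.one_comp (f := j), hMj, C.one, one_pow]
  let E := CoactBr.sp k A
  have hu : IsUnit (M (𝟙 E)).det := by
    refine IsUnit.of_mul_eq_one (M (𝟙 E)⁻¹).det ?_
    rw [← Matrix.det_mul, ← hMmul, mul_inv_cancel, hMone]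
  have hnat : ∀ {T : Over (Spec (CommRingCat.of k))} (g : T ⟶ E),
      (M g).det = g.left.appTop (M (𝟙 E)).det := by
    intro T g
    rw [show g.left.appTop (M (𝟙 E)).det = ((M (𝟙 E)).map g.left.appTop).det from RingHom.map_det _ _]
    congr 1
  obtain ⟨ε, N', hN', hεN⟩ : ∃ (ε : ℤ) (N' : ℕ), 1 ≤ N' ∧ ε * (n * d) = N' := by
    have hnd : n * d ≠ 0 := mul_ne_zero hn (by exact_mod_cast hdpos.ne')
    rcases le_or_gt 0 (n * d) with h | h
    · exact ⟨1, (n * d).toNat, by omega, by omega⟩
    · exact ⟨-1, (-(n * d)).toNat, by omega, by omega⟩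
  let c : Multiplicative ℤ →* Γ(E.left, ⊤) := (Units.coeHom _).comp (zpowersHom _ (hu.unit ^ ε))
  obtain ⟨χ, hχ⟩ := C.surj c
  have hch : ∀ {T : Over (Spec (CommRingCat.of k))} (g : T ⟶ E) (v : Γ(T.left, ⊤)ˣ), (M g).det = v →
      C.ch (g ≫ χ) (Multiplicative.ofAdd 1) = ((v ^ ε : _ˣ) : Γ(T.left, ⊤)) := by
    intro T g v hv
    rw [C.nat, hχ]
    have : Units.map (g.left.appTop.hom : Γ(E.left, ⊤) →* Γ(T.left, ⊤)) hu.unit = v := Units.ext ((hnat g).symm.trans hv)
    rw [← this, ← map_zpow]
    refine Eq.trans ?_ (Units.coe_map _ _).symm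
    show g.left.appTop ((zpowersHom _ (hu.unit ^ ε)) (Multiplicative.ofAdd 1) : _ˣ).1 = _
    simp
  have hMu : ∀ {T : Over (Spec (CommRingCat.of k))} (g : T ⟶ E), IsUnit (M g).det := fun g => by
    rw [hnat]; exact hu.map _
  have hext : ∀ {T : Over (Spec (CommRingCat.of k))} {x y : T ⟶ σ},
      C.ch x (Multiplicative.ofAdd 1) = C.ch y (Multiplicative.ofAdd 1) → x = y := fun h =>
    C.inj fun a => DFunLike.congr_fun (MonoidHom.ext_mint h) a
  have hmulχ : ∀ {T : Over (Spec (CommRingCat.of k))} (g h : T ⟶ E), (g * h) ≫ χ = (g ≫ χ) * (h ≫ χ) := by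
    intro T g h
    apply hext
    rw [C.mul, hch g (hMu g).unit rfl, hch h (hMu h).unit rfl,
      hch (g * h) ((hMu g).unit * (hMu h).unit) (by rw [hMmul, Matrix.det_mul]; rfl), mul_zpow, Units.val_mul]
  refine ⟨χ, N', ?_, hN', fun T t => hext ?_⟩
  · constructor
    · have h := hmulχ (1 : 𝟙_ _ ⟶ E) 1
      rw [_root_.one_mul (1 : 𝟙_ _ ⟶ E), left_eq_mul, Hom.one_def, Hom.one_def, toUnit_unique (toUnit _) (𝟙 _)] at h
      rw [Category.id_comp, Category.id_comp] at h
      exact h
    · have h := hmulχ (fst E E) (snd E E)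
      rw [Hom.mul_def, Hom.mul_def, lift_fst_snd, Category.id_comp] at h
      rw [h, ← lift_fst_comp_snd_comp]
  · have hpow : ∀ m : ℕ, C.ch (t ^ m) (Multiplicative.ofAdd 1) = C.ch t (Multiplicative.ofAdd 1) ^ m := by
      intro m
      induction m with
      | zero => rw [pow_zero, C.one, pow_zero]
      | succ m ih => rw [pow_succ, C.mul, ih, pow_succ]
    let v : Γ(T.left, ⊤)ˣ := ((Group.isUnit (Multiplicative.ofAdd (1 : ℤ))).map (C.ch t)).unit
    have hv : ∀ e : ℤ, C.ch t (Multiplicative.ofAdd e) = ((v ^ e : _ˣ) : Γ(T.left, ⊤)) := fun e => by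
      have : (Units.coeHom _).comp (zpowersHom _ v) = C.ch t := MonoidHom.ext_mint (by simp [v])
      rw [← this]
      simp
    rw [hpow, hch (t ≫ j) ((v ^ n) ^ d) (by rw [hMj, hv, Units.val_pow_eq_pow_val]), ← zpow_natCast (v ^ n),
      ← zpow_mul, ← zpow_mul, show n * ((d : ℤ) * ε) = N' by rw [← hεN]; ring, hv 1, zpow_one, zpow_natCast,
      Units.val_pow_eq_pow_val]

/-- Over an algebraically closed field k, let E and G be linear algebraic groups (affine smooth k-group
schemes) with G connected, i : 𝔾_m → E a homomorphism which is a closed immersion with central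
image, and f : E → G a flat surjective homomorphism with kernel i (a central extension 1 → 𝔾_m → E →
G → 1). Then there exist a character χ : E → 𝔾_m and an integer n ≥ 1 such that χ ∘ i is the n-th
power map of 𝔾_m: for every point t of 𝔾_m with values in a k-scheme T, χ(i(t)) = tⁿ in the group of
T-points of 𝔾_m. (The published lemma is stated in a setting where all groups are linear; for a
connected G that is not linear the conclusion can fail.) -/
theorem result (k : Type u) [Field k] [IsAlgClosed k]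
    (E G : Over (Spec (CommRingCat.of k))) [GrpObj E] [IsAffine E.left] [Smooth E.hom]
    [GrpObj G] [IsAffine G.left] [Smooth G.hom] [ConnectedSpace ↥G.left]
    (i : Red.Gm (Spec (CommRingCat.of k)) ⟶ E) [IsMonHom i] [IsClosedImmersion i.left]
    (hcent : ∀ (T : Over (Spec (CommRingCat.of k))) (t : T ⟶ Red.Gm (Spec (CommRingCat.of k))) (g : T ⟶ E),
      (t ≫ i) * g = g * (t ≫ i))
    (f : E ⟶ G) [IsMonHom f] [Flat f.left] [Surjective f.left] (hker : AlgGrp.IsKernel i f) :
    ∃ (χ : E ⟶ Red.Gm (Spec (CommRingCat.of k))) (n : ℕ), IsMonHom χ ∧ 1 ≤ n ∧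
      ∀ (T : Over (Spec (CommRingCat.of k))) (t : T ⟶ Red.Gm (Spec (CommRingCat.of k))), (t ≫ i) ≫ χ = t ^ n := by
  obtain ⟨A, ⟨e⟩⟩ : (hopfSpec (CommRingCat.of k)).essImage (Grp.mk E) := essImage_hopfSpec.2 (by assumption)
  obtain ⟨C⟩ : Nonempty (Chars ℤ (Red.Gm (Spec (CommRingCat.of k)))) := ⟨charsDS _ ℤ⟩
  let φ : CoactBr.sp k A.unop ⟶ E := e.hom.hom.hom
  let ψ : E ⟶ CoactBr.sp k A.unop := e.inv.hom.hom
  haveI : IsMonHom φ := e.hom.hom.isMonHom_hom
  haveI : IsMonHom ψ := e.inv.hom.isMonHom_hom
  have h1 : φ ≫ ψ = 𝟙 _ := congrArg (fun m => m.hom.hom) e.hom_inv_id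
  have h2 : ψ ≫ φ = 𝟙 _ := congrArg (fun m => m.hom.hom) e.inv_hom_id
  haveI : IsIso ψ := ⟨φ, h2, h1⟩
  haveI : IsIso ψ.left := inferInstanceAs (IsIso ((Over.forget _).map ψ))
  haveI : IsClosedImmersion (i ≫ ψ).left := by rw [Over.comp_left]; infer_instance
  obtain ⟨χ, n, hχ, hn, h⟩ := core k A.unop C (i ≫ ψ) (fun T t g => by
    have := congrArg (· ≫ ψ) (hcent T t (g ≫ φ))
    simpa [MonObj.mul_comp, Category.assoc, h1] using this)
  haveI := hχ
  refine ⟨ψ ≫ χ, n, inferInstance, hn, fun T t => ?_⟩
  rw [← h T t]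
  simp only [Category.assoc]

end Groth.Agent.S16126
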