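import Groth.Statements.S16128
import Groth.Agent.Lib.OrbPic14.Desc

set_option autoImplicit false
universe u
open CategoryTheory MonoidalCategory CartesianMonoidalCategory MonObj GrpObj AlgebraicGeometry CategoryTheory.Limits
open AlgGrp

namespace Groth.Agent.S16128

/-- Over an algebraically closed field k, let G be a connected linear algebraic group (an affine,
smooth, connected k-group scheme), and f : X → Y a principal G-bundle between normal irreducible
varieties (X, Y integral normal separated k-schemes of finite type; σ the action on X; f flat and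
surjective with the square σ, p₂, f, f cartesian). Let x be a k-point of X with orbit map α_x : G →
X, g ↦ g · x, and assume the Picard group laws on G, X and Y with pullback along f and along α_x
multiplicative. Then the sequence Pic(Y) → Pic(X) → Pic(G) is exact at Pic(X): a class c satisfies
α_x^*(c) = 1 if and only if c lies in the image of f^*. -/
theorem result (k : Type u) [Field k] [IsAlgClosed k]
    (G X Y : Over (Spec (CommRingCat.of k))) [GrpObj G] [IsAffine G.left] [Smooth G.hom] [ConnectedSpace ↥G.left]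
    [IsIntegral X.left] [IsSeparated X.hom] [LocallyOfFiniteType X.hom] [QuasiCompact X.hom] (hX : Pi1.IsNormalScheme X.left)
    [IsIntegral Y.left] [IsSeparated Y.hom] [LocallyOfFiniteType Y.hom] [QuasiCompact Y.hom] (hY : Pi1.IsNormalScheme Y.left)
    (a : AlgGrp.Action G X) (f : X ⟶ Y) [Flat f.left] [Surjective f.left]
    (hsq : IsPullback a.act.left (snd G X).left f.left f.left)
    (x : 𝟙_ (Over (Spec (CommRingCat.of k))) ⟶ X)
    [PicGrp.Law G.left] [PicGrp.Law X.left] [PicGrp.Law Y.left]
    (hf : PicGrp.PullMul f.left) (hα : PicGrp.PullMul (a.orbitMap x).left) (c : PicLoc.PicSet X.left) :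
    PicGrp.pullHom (a.orbitMap x).left hα c = 1 ↔ c ∈ (PicGrp.pullHom f.left hf).range := by
  letI : PicGrp.Law (G ⊗ X).left := M2.law _
  have hG1 : ∀ d : PicLoc.PicSet Y.left, PicGrp.pullHom (a.orbitMap x).left hα (PicGrp.pullHom f.left hf d) = 1 := by
    intro d
    have e : a.orbitMap x ≫ f = toUnit G ≫ x ≫ f := by
      rw [AlgGrp.Action.orbitMap, Category.assoc, OrbPic14.act_comp a f hsq, lift_snd_assoc, Category.assoc]
    refine (RatGrp14.pullHom_comp (a.orbitMap x) f hf d).trans ?_
    rw [e]
    exact RatGrp14.pullHom_const (x ≫ f) d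
  refine ⟨fun hc => ?_, ?_⟩
  · obtain ⟨A, hA⟩ := RatGrp14.exists_pullHom_act_eq hX a (M2.pullMul _) (M2.pullMul _) (M2.pullMul _) c
    have h := congrArg (PicGrp.pullHom (lift (𝟙 G) (toUnit G ≫ x)).left (M2.pullMul _)) hA
    rw [map_mul, RatGrp14.pullHom_comp, RatGrp14.pullHom_comp, RatGrp14.pullHom_comp,
      show lift (𝟙 G) (toUnit G ≫ x) ≫ a.act = a.orbitMap x from rfl, lift_snd, lift_fst,
      RatGrp14.pullHom_const, _root_.mul_one, RatGrp14.pullHom_id _ rfl] at h
    have hA1 : A = 1 := h.symm.trans hc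
    rw [hA1, map_one, _root_.one_mul] at hA
    obtain ⟨L, hL, rfl⟩ := PicGrp.exists_eq_cls c
    rw [PicGrp.pullHom_cls, PicGrp.pullHom_cls, PicGrp.cls_eq_cls_iff] at hA
    obtain ⟨θ⟩ := hA
    obtain ⟨M, hM, ⟨e⟩⟩ := OrbPic14.exists_descent a f hsq x hL θ
    exact ⟨PicGrp.cls M hM, by rw [PicGrp.pullHom_cls, PicGrp.cls_eq_cls_iff]; exact ⟨e⟩⟩
  · rintro ⟨d, rfl⟩
    exact hG1 d

end Groth.Agent.S16128
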