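import Groth.Statements.S1613
-- import your own Groth.Agent.* helpers here
import Groth.Agent.Lib.CurveOm17.Apps

set_option autoImplicit false
universe u
open CategoryTheory CategoryTheory.Limits AlgebraicGeometry
open Curves

namespace Groth.Agent.S1613

/-- Let X be a smooth proper connected curve over an algebraically closed field k, of genus g ≥ 2. Then
every O_X-linear map from the sheaf of differentials Ω_{X/k} to O_X is zero (X has no nonzero
k-derivations of its structure sheaf). -/
theorem result (k : Type u) [Field k] [IsAlgClosed k] (X : Scheme.{u}) [X.Over (Spec (CommRingCat.of k))]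
    (hX : Curve.IsSmoothProperCurve k X (X ↘ (Spec (CommRingCat.of k)))) (hg : 2 ≤ Curv2.genus k X)
    (θ : Omega.sheaf (X ↘ (Spec (CommRingCat.of k))) ⟶ Coh.structureModule X) : θ = 0 := by
  obtain ⟨hp, hs, hi, hd⟩ := hX
  haveI := hp; haveI := hs; haveI := hi
  obtain ⟨-, h0, -⟩ := Groth.Agent.VB17.setup (k := k) (X := X) hd
  obtain ⟨hX, hbig, hinv, hdO, -⟩ := Groth.Agent.CurveOm17.exists_isDualizing_omega' hd h0
    (Groth.Agent.Omega12.isUniversal_dOmega (f := X ↘ Spec (CommRingCat.of k)))
  by_contra hne
  have hO := PicLoc.isInvertible_structureModule X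
  haveI := Groth.Agent.VB17.mono_of_ne_zero hX hinv hO θ hne
  have h := (Groth.Agent.VB17.deg_le_of_mono hX.like
    ((Groth.Agent.M2.isInvertible_iff_isFinLocFreeOfRank_one _).1 hinv)
    ((Groth.Agent.M2.isInvertible_iff_isFinLocFreeOfRank_one _).1 hO) θ).1
  rw [hdO, Groth.Agent.CurveCoh17.deg_structureModule] at h
  omega

end Groth.Agent.S1613
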