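import Groth.Statements.S16132
import Groth.Agent.Lib.CharTorus15.Main
-- import your own Groth.Agent.* helpers here

set_option autoImplicit false
universe u
open CategoryTheory MonoidalCategory CartesianMonoidalCategory MonObj GrpObj AlgebraicGeometry CategoryTheory.Limits
open AlgGrp

namespace Groth.Agent.S16132

/-- Over an algebraically closed field k, let G be a connected algebraic group (a smooth connected
k-group scheme of finite type, not necessarily affine). Then G has a largest torus quotient through
which all characters factor: there are a torus T (isomorphic to the diagonalizable group of ℤ^r for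
some r), a flat surjective homomorphism q : G → T such that every character χ : G → 𝔾_m is χ' ∘ q
for some character χ' of T, and a kernel h : H → G of q (a homomorphism from a k-group scheme H
making the square against the unit section of T cartesian) with H connected and every character of H
trivial. (So H is the smallest closed normal subgroup scheme of G with G/H a torus, and restriction
identifies the characters of G/H with those of G.) -/
theorem result (k : Type u) [Field k] [IsAlgClosed k]
    (G : Over (Spec (CommRingCat.of k))) [GrpObj G] [Smooth G.hom] [QuasiCompact G.hom] [ConnectedSpace ↥G.left] :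
    ∃ (r : ℕ) (T : Over (Spec (CommRingCat.of k))) (_ : GrpObj T) (_ : Red.IsSplitTorusWith (Fin r → ℤ) T)
      (q : G ⟶ T) (_ : IsMonHom q) (H : Over (Spec (CommRingCat.of k))) (_ : GrpObj H) (h : H ⟶ G) (_ : IsMonHom h),
      Flat q.left ∧ Surjective q.left ∧ AlgGrp.IsKernel h q ∧ ConnectedSpace ↥H.left ∧
      (∀ χ : G ⟶ Red.Gm (Spec (CommRingCat.of k)), IsMonHom χ → ∃ χ' : T ⟶ Red.Gm (Spec (CommRingCat.of k)), IsMonHom χ' ∧ q ≫ χ' = χ) ∧
      (∀ ψ : H ⟶ Red.Gm (Spec (CommRingCat.of k)), IsMonHom ψ → ψ = 1) := by
  let CG := DiagGL.charsDS (Spec (CommRingCat.of k)) ℤ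
  obtain ⟨r, CT, q, hq, huniv, hinj⟩ := CharTorus15.exists_hom_torus (G := G) CG
  haveI := hq
  obtain ⟨hqf, hqs, -⟩ := CharTorus15.flat_surjective hinj
  obtain ⟨K, _, n, hnm, hnc, hn⟩ := CharTorus15.exists_kernel q
  haveI := hnm
  haveI := hnc
  obtain ⟨hKs, hKc⟩ := CharTorus15.smooth_connected_kernel hn huniv hinj
  haveI := hKs
  haveI := hKc
  refine ⟨r, _, inferInstance, ⟨Iso.refl _⟩, q, hq, K, inferInstance, n, hnm, hqf, hqs, hn, hKc, fun χ hχ => ?_,
    fun ψ hψ => ?_⟩
  · obtain ⟨a, ha⟩ := huniv χ hχ
    exact ⟨_, inferInstance, ha⟩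
  · haveI := hψ
    exact CharTorus15.char_kernel_eq_one hn huniv hinj ψ

end Groth.Agent.S16132
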