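import Groth.Statements.S16136
import Groth.Agent.Lib.CBC10.Rows0
import Groth.Agent.Lib.CMReg18.BcTwist
import Groth.Agent.Lib.CMReg18.GG
import Groth.Agent.Lib.CurveR1_10.Basic
import Groth.Agent.Lib.TensorMod.PullSupport
import Groth.Agent.Lib.TensorMod.Invertible
import Groth.Agent.Lib.LimFun.Basic
import Groth.Agent.Lib.VB17.Proper
import Groth.Agent.Lib.Ruled10.LineH1

set_option autoImplicit false
set_option maxHeartbeats 1000000
set_option linter.style.haveILetI false
set_option backward.isDefEq.respectTransparency false
set_option backward.isDefEq.respectTransparency.types false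
universe u
open CategoryTheory CategoryTheory.Limits AlgebraicGeometry
open Coh

namespace Groth.Agent.S16136

open TopologicalSpace Groth.Agent

/-- Let k be a field, Y a scheme proper over k and f : X → Y a proper flat morphism, X and Y each
carrying an ample invertible module (so both are projective over k), such that every
scheme-theoretic fibre of f is reduced. Let L be an invertible O_X-module with H^1(X, L) = 0 and
with H^i(X_y, L|_{X_y}) = 0 for every closed point y of Y and every i > 0, where X_y is the
scheme-theoretic fibre and L|_{X_y} the module pull-back of L to it. If L|_{X_y} is globally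
generated (a quotient of a free module) for every closed point y and the direct image f_*L is
globally generated on Y, then L is globally generated. (The published statement is over the complex
numbers and imposes the fibre conditions at every point; here k is any field and they are imposed at
closed points, which is what the argument uses.) -/
theorem result (k : Type u) [Field k]
    (X Y : Scheme.{u}) [Y.Over (Spec (CommRingCat.of k))] [IsProper (Y ↘ Spec (CommRingCat.of k))]
    (hY : ∃ B : Y.Modules, CohB1.IsAmple B)
    (f : X ⟶ Y) [IsProper f] [Flat f] (hX : ∃ A : X.Modules, CohB1.IsAmple A)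
    (hred : ∀ y : Y, IsReduced (f.fiber y))
    (L : X.Modules) (hL : PicF.IsInvertible L) (h1 : Subsingleton (Coh.HH X L 1))
    (h2 : ∀ y : Y, IsClosed ({y} : Set Y) → ∀ i : ℕ, 0 < i →
      Subsingleton (Coh.HH (f.fiber y) ((Scheme.Modules.pullback (f.fiberι y)).obj L) i))
    (hfib : ∀ y : Y, IsClosed ({y} : Set Y) →
      Curv2.IsGloballyGenerated ((Scheme.Modules.pullback (f.fiberι y)).obj L))
    (hE : Curv2.IsGloballyGenerated ((Scheme.Modules.pushforward f).obj L)) :
    Curv2.IsGloballyGenerated L := by
  haveI : IsNoetherian Y := CohFound.isNoetherian_of_isProper (Y ↘ Spec (CommRingCat.of k))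
  letI : X.Over (Spec (CommRingCat.of k)) := ⟨f ≫ (Y ↘ Spec (CommRingCat.of k))⟩
  haveI : IsProper (X ↘ Spec (CommRingCat.of k)) :=
    inferInstanceAs (IsProper (f ≫ (Y ↘ Spec (CommRingCat.of k))))
  haveI : IsNoetherian X := CohFound.isNoetherian_of_isProper (X ↘ Spec (CommRingCat.of k))
  haveI : LocallyOfFinitePresentation f := inferInstance
  haveI : HasInjectiveResolutions X.Modules := CohFound.hasInjectiveResolutions_modules X
  have hLF := M2.isFinLocFree_of_isInvertible hL
  have hfl : FlatMod.IsFlatOver f L := DPerf.isFlatOver_of_isFlat f (KFlat.Sch.isFlat_of_isFinLocFree hLF)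
  have hfp : CohB1.IsFP L := M1.isFP_of_isFinLocFree hLF
  have hLc : Coh.IsCoh L := CohFound.isCoh_of_isFinLocFree hLF
  haveI := hLc.1
  let ev := M1.freeHom (fun t : Γ(L, (⊤ : X.Opens)) => t)
  let c : L ⟶ cokernel ev := cokernel.π ev
  have hc : CMReg18.Kills c := fun t => by
    have h1 := congrArg (fun φ => M1.freeSec φ t) (cokernel.condition ev)
    rw [M1.freeHom_comp] at h1
    simp only [M1.freeSec, M1.ιF_freeHom, M1.secHom_app_one] at h1
    refine h1.trans ?_
    rw [comp_zero]
    rfl
  haveI : Epi c := inferInstanceAs (Epi (cokernel.π ev))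
  -- the direct image of `c` vanishes
  have hpc : (Scheme.Modules.pushforward f).map c = 0 :=
    CMReg18.eq_zero_of_kills hE fun t => hc t
  have hfree : Coh.IsQCoh (SheafOfModules.free Γ(L, (⊤ : X.Opens)) : X.Modules) :=
    SerreCl8.isQCoh_sigma _ fun _ => M1.isQCoh_structureModule X
  have hCq : Coh.IsQCoh (cokernel ev) := M1.isQCoh_cokernel hfree hLc.1 ev
  have hCt : CohB1.IsFT (cokernel ev) := M1.isFT_of_epi c hLc.2
  refine ⟨Γ(L, (⊤ : X.Opens)), ev, Preadditive.epi_of_cokernel_zero (IsZero.eq_of_tgt ?_ _ _)⟩
  refine LimFun.isZero_of_support_eq_empty (Set.not_nonempty_iff_eq_empty.1 fun hne => ?_)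
  obtain ⟨x, hx, hxc⟩ := (M1.isClosed_support hCt).exists_closed_singleton hne
  have hy : IsClosed ({f x} : Set Y) := by
    have h := f.isClosedMap _ hxc
    rwa [Set.image_singleton] at h
  -- base change to the fibre
  obtain ⟨V, M, hV, hM, -⟩ := CBC10.exists_nhd_H1 (f := f) (F := L) hfp hfl (f x) (h2 (f x) hy 1 Nat.one_pos)
  have sq : IsPullback (f.fiberι (f x)) (f.fiberToSpecResidueField (f x)) f (Y.fromSpecResidueField (f x)) :=
    IsPullback.of_hasPullback _ _
  haveI := CBC10.isIso_bc0 sq L (fun z => ⟨V, M, by
    have hz : Y.fromSpecResidueField (f x) z = f x := by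
      have h : Y.fromSpecResidueField (f x) z ∈ Set.range (Y.fromSpecResidueField (f x)) := ⟨z, rfl⟩
      rwa [Scheme.range_fromSpecResidueField, Set.mem_singleton_iff] at h
    rw [hz]; exact hV, hM⟩)
  have hnat := CMReg18.bc0_nat f (Y.fromSpecResidueField (f x)) (f.fiberToSpecResidueField (f x))
    (f.fiberι (f x)) sq.w c
  rw [hpc, Functor.map_zero, zero_comp] at hnat
  have hq0 : (Scheme.Modules.pushforward (f.fiberToSpecResidueField (f x))).map
      ((Scheme.Modules.pullback (f.fiberι (f x))).map c) = 0 := by
    rw [← cancel_epi (CohBC.bc0 f (Y.fromSpecResidueField (f x)) (f.fiberToSpecResidueField (f x))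
      (f.fiberι (f x)) sq.w L), comp_zero]
    exact hnat.symm
  have hq : (Scheme.Modules.pullback (f.fiberι (f x))).map c = 0 := by
    refine CMReg18.eq_zero_of_kills (hfib (f x) hy) fun t => ?_
    have h := congrArg (fun φ => φ.app ⊤ t) hq0
    exact h
  haveI : (Scheme.Modules.pullback (f.fiberι (f x))).IsLeftAdjoint :=
    (Scheme.Modules.pullbackPushforwardAdjunction _).isLeftAdjoint
  have hz : IsZero ((Scheme.Modules.pullback (f.fiberι (f x))).obj (cokernel ev)) :=
    IsZero.of_epi_eq_zero _ hq
  obtain ⟨z, hz'⟩ : x ∈ Set.range (f.fiberι (f x)) := by rw [f.range_fiberι]; rfl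
  have := LimFun.support_eq_empty_of_isZero hz
  rw [M2.support_pullback _ hCq hCt] at this
  exact (Set.eq_empty_iff_forall_notMem.1 this) z (show f.fiberι (f x) z ∈ _ by rw [hz']; exact hx)

end Groth.Agent.S16136
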