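import Groth.Statements.S16137
import Groth.Agent.Lib.VB17.Proper

set_option autoImplicit false
universe u
open CategoryTheory CategoryTheory.Limits AlgebraicGeometry
open VBCurve

namespace Groth.Agent.S16137

open CategoryTheory CategoryTheory.Limits AlgebraicGeometry Groth.Agent.VB17

/-- Let k be an algebraically closed field of characteristic zero and X a smooth proper geometrically
connected curve over k (topological dimension one) of genus at least 2 (the text's standing setting:
a smooth projective complex curve of genus at least 2). Let 0 → F → E → G → 0 be a short exact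
sequence of O_X-modules in which E is finite locally free of rank r ≥ 1 and slope-stable (deg F' · r
< deg E · r' for every finite locally free submodule F' of E of rank r' with 0 < r' < r). Then
Hom(G, F) = 0: every morphism from the quotient G to the submodule F is zero. (The published
statement writes the conclusion as h^0(G^* ⊗ F) = 0.) -/
theorem result (k : Type u) [Field k] [IsAlgClosed k] [CharZero k]
    (X : Scheme.{u}) [X.Over (Spec (CommRingCat.of k))]
    [IsProper (X ↘ Spec (CommRingCat.of k))] [Smooth (X ↘ Spec (CommRingCat.of k))]
    [GeometricallyConnected (X ↘ Spec (CommRingCat.of k))] (hdim : topologicalKrullDim ↥X = 1)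
    (hg : 2 ≤ Curv2.genus k X)
    (T : ShortComplex X.Modules) (hT : T.ShortExact)
    (r : ℕ) (hr : 0 < r) (hE : FlatMod.IsFinLocFreeOfRank r T.X₂)
    (hst : ModFun.IsSlopeStable k X T.X₂ r)
    (φ : T.X₃ ⟶ T.X₁) : φ = 0 := by
  have hX := regCurve (k := k) hdim
  haveI := hX.integral
  haveI := hT.mono_f
  haveI := hT.epi_g
  by_contra hφ
  have h2 : T.g ≫ φ ≫ T.f ≠ 0 := fun h => hφ (by
    rw [← cancel_mono T.f, ← cancel_epi T.g, h, zero_comp, comp_zero])
  haveI := isIso_endo_of_st hX hr hE hst _ h2
  haveI : Epi ((T.g ≫ φ) ≫ T.f) := by rw [Category.assoc]; infer_instance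
  haveI : Epi T.f := epi_of_epi (T.g ≫ φ) T.f
  refine hφ ((cancel_epi T.g).1 ?_)
  rw [comp_zero, show T.g = 0 from by rw [← cancel_epi T.f, T.zero, comp_zero], zero_comp]

end Groth.Agent.S16137
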