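import Groth.Statements.S16141
import Groth.Agent.Lib.Raynaud11.Step
import Groth.Agent.Lib.DetDeg13.Main
import Groth.Agent.Lib.PoleOne18.Ample
import Groth.Agent.Lib.SmoothReg17.Basic

set_option autoImplicit false
universe u
open CategoryTheory CategoryTheory.Limits AlgebraicGeometry
open VBCurve

namespace Groth.Agent.S16141

/-- Let k be an algebraically closed field of characteristic zero and X a smooth proper geometrically
connected curve over k (topological dimension one) of genus g ≥ 2 (the text's standing setting: a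
smooth projective complex curve of genus at least 2). Let E be a slope-semistable finite locally
free O_X-module of rank 2 with trivial determinant: some second exterior power of E is isomorphic to
O_X. Then there is an invertible O_X-module L of degree g − 1 (degree χ(L) − χ(O_X)) with H^0(X, E ⊗
L) = 0. (The published statement says that the determinant linear series on the moduli space of
rank-2 bundles with trivial determinant has no base points; this row states the equivalent vanishing
for every semistable bundle that its proof establishes.) -/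
theorem result
    (k : Type u) [Field k] [IsAlgClosed k] [CharZero k]
    (X : Scheme.{u}) [X.Over (Spec (CommRingCat.of k))]
    [IsProper (X ↘ Spec (CommRingCat.of k))] [Smooth (X ↘ Spec (CommRingCat.of k))]
    [GeometricallyConnected (X ↘ Spec (CommRingCat.of k))] (hdim : topologicalKrullDim ↥X = 1)
    (g : ℕ) (hg : Curv2.genus k X = g) (hg2 : 2 ≤ g)
    (E : X.Modules) (hE : FlatMod.IsFinLocFreeOfRank 2 E) (hEss : ModFun.IsSlopeSemistable k X E 2)
    (hdet : ∃ D : X.Modules, ExtPow.IsExtPow 2 E D ∧ Nonempty (D ≅ Coh.structureModule X)) :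
    ∃ L : X.Modules, PicF.IsInvertible L ∧ Curv2.deg k X L 1 = (g : ℤ) - 1 ∧
      Subsingleton (Coh.HH X (CohB1.tensorMod E L) 0) := by
  haveI : IsIntegral X := VB17.isIntegral_of_smooth (k := k)
  obtain ⟨hX, h0, hbig⟩ := VB17.setup (k := k) (X := X) hdim
  obtain ⟨W, lam, hW⟩ := VB17.exists_dual (k := k) (X := X) hdim
  haveI := hX.like.noetherian
  haveI := hX.like.separated
  haveI : JacobsonSpace X := LocallyOfFiniteType.jacobsonSpace (X ↘ Spec (CommRingCat.of k))
  obtain ⟨D, hD, ⟨eD⟩⟩ := hdet
  have hdE : Curv2.deg k X E 2 = 0 := by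
    obtain ⟨H, hH⟩ := PoleOne18.exists_isAmple (X := X) fun y =>
      (VB17.ringKrullDim_stalk_le_topologicalKrullDim y).trans hdim.le
    rw [DetDeg13.deg_eq_deg_det_pos hX.like hH two_pos hE hD
      (M2.isInvertible_of_iso eD.symm (PicLoc.isInvertible_structureModule X)), CurveCoh17.deg_iso eD,
      CurveCoh17.deg_structureModule]
  have hχO : Curv2.euler k X (Coh.structureModule X) = 1 - (g : ℤ) := by
    rw [hX.like.euler_structureModule, h0, hg]; rfl
  have hex : ∃ n, ∃ L : X.Modules, PicF.IsInvertible L ∧ Curv2.deg k X L 1 = (g : ℤ) - 1 ∧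
      Module.finrank k (Coh.HH X (CohB1.tensorMod E L) 0) = n := by
    obtain ⟨L, hL, hd⟩ := VB17.exists_invertible_deg hX.like hdim
      (fun x => SmoothReg17.isRegularLocalRing_stalk (X ↘ Spec (CommRingCat.of k)) x) ((g : ℤ) - 1)
    exact ⟨_, L, hL, hd, rfl⟩
  classical
  obtain ⟨L, hL, hdL, hn⟩ := Nat.find_spec hex
  have hF : FlatMod.IsFinLocFreeOfRank 2 (CohB1.tensorMod E L) :=
    M2.isFinLocFreeOfRank_tensor hE ((M2.isInvertible_iff_isFinLocFreeOfRank_one _).1 hL)
  haveI := hX.like.fin _ (CurveCoh17.isCoh_of_ofRank hF) 0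
  refine ⟨L, hL, hdL, ?_⟩
  by_contra hne
  have hpos : 0 < Module.finrank k (Coh.HH X (CohB1.tensorMod E L) 0) :=
    Nat.pos_of_ne_zero fun h => hne (Module.finrank_zero_iff.1 h)
  have hχ : Curv2.euler k X (CohB1.tensorMod E L) = 0 := by
    rw [Raynaud11.euler_twist hX hE hL, hdL]
    rw [Curv2.deg, hχO] at hdE
    push_cast at hdE ⊢
    linarith
  obtain ⟨M, hM, hdM, hlt⟩ := Raynaud11.exists_twist_lt hX hdim h0 hbig hW
    (fun p hp => VB17.pointIdeal_data k hdim hp) hF hχ (by
      intro N π hπ hN
      haveI := hπ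
      have hN1 := (M2.isInvertible_iff_isFinLocFreeOfRank_one N).1 hN
      have hS : (ShortComplex.mk (kernel.ι π) π (kernel.condition π)).ShortExact :=
        { exact := ShortComplex.exact_of_f_is_kernel _ (kernelIsKernel _) }
      obtain ⟨n, -, hK⟩ := VB17.exists_rank_of_mono hX.pid hF
        (CurveCoh17.isCoh_kernel (CurveCoh17.isCoh_of_ofRank hF) (CurveCoh17.isCoh_of_ofRank hN1).1 π) (kernel.ι π)
      obtain rfl : n = 1 := by
        have := VB17.rank_add hS hK hF hN1
        omega
      obtain ⟨L', hL', ⟨eL⟩⟩ := M2.exists_inverse hL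
      have hdL' := hX.like.deg_of_tensor_iso hL hL' eL
      haveI : Mono (M2.tensorMap (kernel.ι π) (𝟙 L')) := VB17.mono_tensorMap _ hL'
      have hKd := hEss (CohB1.tensorMod (kernel π) L') 1
        (M2.tensorMap (kernel.ι π) (𝟙 L') ≫ (M2.untwist eL E).hom) inferInstance Nat.one_pos
        (M2.isFinLocFreeOfRank_tensor hK ((M2.isInvertible_iff_isFinLocFreeOfRank_one _).1 hL'))
      rw [hdE, hX.like.deg_tensor_invertible ((M2.isInvertible_iff_isFinLocFreeOfRank_one _).2 hK) hL', hdL', hdL] at hKd
      have hadd := hX.like.deg_shortExact hS hK hN1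
      rw [Curv2.deg, Curv2.deg, Curv2.deg] at hadd
      rw [Curv2.deg, hχO] at hKd
      dsimp only at hadd
      rw [hχ, hχO] at hadd
      push_cast at hadd hKd
      linarith) hpos
  have hLM := M2.isInvertible_tensor hL hM
  have hdLM : Curv2.deg k X (CohB1.tensorMod L M) 1 = (g : ℤ) - 1 := by
    rw [hX.like.deg_tensor_invertible hL hM, hdM, hdL, add_zero]
  have := Nat.find_min' hex ⟨_, hLM, hdLM, rfl⟩
  rw [← hn, ← (CurveCoh17.hequiv k (M2.tensorAssoc E L M) 0).finrank_eq] at this
  omega

end Groth.Agent.S16141
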