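import Groth.Statements.S16145
import Groth.Agent.Lib.BiReg11.Basic
import Groth.Agent.Lib.ExtRet11.Basic
import Groth.Agent.Lib.Wedge2.Exists
import Groth.Agent.Lib.DefAmp1.Tensor
import Groth.Agent.Lib.TensorMod.Summand

set_option autoImplicit false
universe u
open CategoryTheory CategoryTheory.Limits AlgebraicGeometry
open Variety

namespace Groth.Agent.S16145

namespace Aux

open Groth.Agent Groth.Agent.LMSimple8.Quad Groth.Agent.BiReg11

/-- Vanishing passes to retracts. -/
theorem subsingleton_of_retract (k : Type u) [Field k] {M N : (XX k).Modules} (i : M ⟶ N) (r : N ⟶ M)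
    (h : i ≫ r = 𝟙 M) (n : ℕ) (hN : Subsingleton (Coh.HH (XX k) N n)) : Subsingleton (Coh.HH (XX k) M n) := by
  refine subsingleton_of_forall_eq 0 fun x => ?_
  rw [← CurveCoh17.hmap_id k M n x, ← h, CurveCoh17.hmap_comp]
  exact (congrArg _ (hN.elim _ 0)).trans (map_zero _)

theorem gg_unit (X : Scheme.{u}) : Curv2.IsGloballyGenerated (Coh.structureModule X) := by
  refine ⟨PUnit.{u + 1}, Sigma.desc fun _ => 𝟙 _, ?_⟩
  exact epi_of_epi_fac (Sigma.ι_desc (fun _ : PUnit.{u + 1} => 𝟙 (Coh.structureModule X)) PUnit.unit)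

theorem strong (k : Type u) [Field k] [IsAlgClosed k] [CharZero k]
    (G : (XX k).Modules) (hG : FlatMod.IsFinLocFree G) (p q : ℤ)
    (hreg : W4c3multigrregular.IsBiReg 1 1 k G p q)
    (hgg : Curv2.IsGloballyGenerated (W4c3multigrregular.twistBi 1 1 k G p q)) :
    ∀ (j : ℕ) (L : (XX k).Modules), ExtPow.IsExtPow j G L →
      W4c3multigrregular.IsBiReg 1 1 k L (j * p) (j * q) ∧
        Curv2.IsGloballyGenerated (W4c3multigrregular.twistBi 1 1 k L (j * p) (j * q)) ∧
        FlatMod.IsFinLocFree L := by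
  haveI := proper_XX k
  haveI : AlgebraicGeometry.IsNoetherian (XX k) :=
    CohFound.isNoetherian_of_isProper ((XX k) ↘ Spec (CommRingCat.of k))
  intro j
  induction j with
  | zero =>
    intro L hL
    obtain ⟨e⟩ := ExtFil4.isoExtPow hL (ExtFil4.isExtPow_zero G)
    obtain ⟨e₀⟩ := nonempty_Ob_zero k
    have et : ∀ a b : ℤ, CohB1.tensorMod L (Ob k a b) ≅ Ob k a b := fun a b =>
      M2.tensorIso e (Iso.refl _) ≪≫ M2.tensorLUnit _
    refine ⟨fun u₁ u₂ hu => ?_, ?_, ?_⟩
    · refine (CurveCoh17.hequiv k (et _ _) (u₁ + u₂)).toEquiv.subsingleton_congr.2 ?_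
      exact subsingleton_Ob k _ _ _ fun a ha => by
        rw [Nat.cast_zero, zero_mul, zero_mul]
        omega
    · rw [Nat.cast_zero, zero_mul, zero_mul]
      have h0 : Curv2.IsGloballyGenerated (CohB1.tensorMod L (Ob k 0 0)) := by
        haveI : Epi (et 0 0 ≪≫ e₀).symm.hom := IsIso.epi_of_iso _
        exact DefAmp1.gg_of_epi (et 0 0 ≪≫ e₀).symm.hom (gg_unit _)
      exact h0
    · exact M2.isFinLocFree_of_isInvertible (M2.isInvertible_of_iso e.symm (M2.isInvertible_of_iso e₀ (isInvertible_Ob k 0 0)))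
  | succ j ih =>
    intro L hL
    haveI hqG : Coh.IsQCoh G := M1.isFP_isQCoh (M1.isFP_of_isFinLocFree hG)
    obtain ⟨hreg', hgg', hflf'⟩ := ih _ (Wedge2.isExtPow_extMod j G)
    let L' := Wedge2.extMod j G
    obtain ⟨i, r, hir⟩ := ExtRet11.exists_retract (k := k) ((XX k) ↘ Spec (CommRingCat.of k)) hqG
      (M1.isFP_isQCoh (M1.isFP_of_isFinLocFree hflf')) hL (Wedge2.isExtPow_extMod j G)
    have hreg'' := isBiReg_tensor k hG hflf' p q _ _ hreg hreg' hgg hgg'
    have hcp : ((j + 1 : ℕ) : ℤ) * p = p + (j : ℤ) * p := by push_cast; ring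
    have hcq : ((j + 1 : ℕ) : ℤ) * q = q + (j : ℤ) * q := by push_cast; ring
    rw [hcp, hcq]
    have hir' : ∀ M : (XX k).Modules, M2.tensorMap i (𝟙 M) ≫ M2.tensorMap r (𝟙 M) = 𝟙 _ := fun M => by
      rw [← M2.tensorMap_comp, hir, Category.comp_id, M2.tensorMap_id]
    refine ⟨fun u₁ u₂ hu => subsingleton_of_retract k _ _ (hir' _) _ (hreg'' u₁ u₂ hu), ?_, ?_⟩
    · show Curv2.IsGloballyGenerated (CohB1.tensorMod L (Ob k (p + (j : ℤ) * p) (q + (j : ℤ) * q)))
      haveI : Epi (M2.tensorMap r (𝟙 (Ob k (p + (j : ℤ) * p) (q + (j : ℤ) * q)))) :=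
        epi_of_epi_fac (hir' _)
      refine DefAmp1.gg_of_epi (M2.tensorMap r (𝟙 (Ob k (p + (j : ℤ) * p) (q + (j : ℤ) * q)))) ?_
      obtain ⟨t⟩ := nonempty_Ob_tensor k p q ((j : ℤ) * p) ((j : ℤ) * q)
      let e := M2.tensorInterchange G (Ob k p q) L' (Ob k ((j : ℤ) * p) ((j : ℤ) * q)) ≪≫ M2.tensorIso (Iso.refl _) t
      refine DefAmp1.gg_of_epi e.hom (DefAmp1.gg_tensor (CohFound.isCoh_of_isFinLocFree ?_) hgg hgg')
      exact M2.isFinLocFree_tensor hG (M2.isFinLocFree_of_isInvertible (isInvertible_Ob k p q))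
    · exact M2.isFinLocFree_of_retract (M2.isFinLocFree_tensor hG hflf') i r hir

theorem main (k : Type u) [Field k] [IsAlgClosed k] [CharZero k]
    (G : (XX k).Modules) (hG : FlatMod.IsFinLocFree G) (p q : ℤ)
    (hreg : W4c3multigrregular.IsBiReg 1 1 k G p q)
    (hgg : Curv2.IsGloballyGenerated (W4c3multigrregular.twistBi 1 1 k G p q))
    (j : ℕ) (L : (XX k).Modules) (hL : ExtPow.IsExtPow j G L) :
    W4c3multigrregular.IsBiReg 1 1 k L (j * p) (j * q) :=
  (strong k G hG p q hreg hgg j L hL).1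

end Aux


/-- Let k be an algebraically closed field of characteristic zero and G a finite locally free O-module
on P¹ ×_k P¹ which is (p, q)-regular in the bigraded sense (H^{u₁+u₂}(P¹ × P¹, G(p - u₁, q - u₂)) =
0 whenever u₁ + u₂ > 0) and whose twist G(p, q) is globally generated. Then for every natural number
j, every j-th exterior power L of G (an O-module with L(U) ≅ ⋀^j G(U) over the affine opens U,
compatibly with restriction) is (j·p, j·q)-regular. (As for the first assertion, the published lemma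
has no global-generation hypothesis and takes it from the bigraded form of Mumford's regularity
criterion, quoted without proof in the source; it is carried here. The source states this assertion
over the complex numbers.) -/
theorem result (k : Type u) [Field k] [IsAlgClosed k] [CharZero k]
    (G : (W4c3multigrregular.biProj 1 1 k).Modules) (hG : FlatMod.IsFinLocFree G) (p q : ℤ)
    (hreg : W4c3multigrregular.IsBiReg 1 1 k G p q)
    (hgg : Curv2.IsGloballyGenerated (W4c3multigrregular.twistBi 1 1 k G p q))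
    (j : ℕ) (L : (W4c3multigrregular.biProj 1 1 k).Modules) (hL : ExtPow.IsExtPow j G L) :
    W4c3multigrregular.IsBiReg 1 1 k L (j * p) (j * q) := by
  exact Aux.main k G hG p q hreg hgg j L hL


end Groth.Agent.S16145
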