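import Groth.Statements.S16148
import Groth.Agent.Lib.ProjDual12.ExtVanStalk
import Groth.Agent.Lib.ProjDual12.GenDim
import Groth.Agent.Lib.Cyc26.Stalk
import Groth.Agent.Lib.LocCoh.Nonvanish
import Groth.Agent.S2935
-- import your own Groth.Agent.* helpers here

set_option autoImplicit false
set_option backward.isDefEq.respectTransparency false
set_option maxHeartbeats 1000000
universe u
open CategoryTheory CategoryTheory.Limits AlgebraicGeometry
open Variety

namespace Groth.Agent.S16148

open Groth.Agent

/-- A module of finite length has support of dimension zero. -/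
theorem ringKrullDim_quotient_annihilator_eq_zero (R : Type u) [CommRing R] (M : Type u) [AddCommGroup M]
    [Module R M] [Module.Finite R M] [IsArtinian R M] [Nontrivial M] :
    ringKrullDim (R ⧸ Module.annihilator R M) = 0 := by
  classical
  obtain ⟨s, hs⟩ := (inferInstance : Module.Finite R M).1
  let f : R →ₗ[R] (s → M) := LinearMap.pi fun i => LinearMap.toSpanSingleton R M i.1
  have hker : LinearMap.ker f = Module.annihilator R M := by
    refine le_antisymm (fun r hr => Module.mem_annihilator.2 fun m => ?_) (fun r hr => funext fun i => Module.mem_annihilator.1 hr i.1)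
    induction (hs ▸ Submodule.mem_top : m ∈ Submodule.span R (s : Set M)) using Submodule.span_induction with
    | mem x hx => exact congrFun hr ⟨x, hx⟩
    | zero => exact smul_zero r
    | add x y _ _ hx hy => rw [smul_add, hx, hy, add_zero]
    | smul a x _ hx => rw [smul_comm, hx, smul_zero]
  haveI : IsArtinian R (LinearMap.range f) := isArtinian_submodule' _
  haveI : IsArtinian R (R ⧸ Module.annihilator R M) :=
    isArtinian_of_linearEquiv ((Submodule.quotEquivOfEq _ _ hker.symm).trans f.quotKerEquivRange).symm
  haveI : IsArtinianRing (R ⧸ Module.annihilator R M) := isArtinian_of_tower R ‹_›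
  haveI : Nontrivial (R ⧸ Module.annihilator R M) := Ideal.Quotient.nontrivial_iff.2 fun h => by
    obtain ⟨m, hm⟩ := exists_ne (0 : M)
    exact hm ((one_smul R m).symm.trans (Module.mem_annihilator.1 (h ▸ Submodule.mem_top) m))
  exact ringKrullDimZero_iff_ringKrullDim_eq_zero.1 inferInstance

/-- Let k be a characteristic-zero algebraically closed field and G a coherent O-module (quasi-coherent
of finite type) on projective n-space P^n_k whose support, as a subspace of P^n_k, has Krull
dimension a with a ≥ 1. Then there is an integer m such that H^a(P^n_k, G(m)) ≠ 0, where G(m) = G ⊗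
O(m). (The source works over the complex numbers.) -/
theorem result (k : Type u) [Field k] [IsAlgClosed k] [CharZero k]
    (n : ℕ) (G : (CohB1.ProjSpace n k).Modules) (hG : Coh.IsCoh G) (a : ℕ) (ha : 1 ≤ a)
    (hdim : topologicalKrullDim ↥(CohB1.support G) = a) :
    ∃ m : ℤ, Nontrivial (Coh.HH (CohB1.ProjSpace n k) (CohB1.tensorMod G (Twist.twistProjSpace n k m)) a) := by
  by_contra hcon
  push_neg at hcon
  have hneg : ES11.NegVan G a := ⟨0, fun m _ => hcon (-m)⟩
  haveI : IsLocallyNoetherian (CohB1.ProjSpace n k) := CohFound.ProjNum.isLocallyNoetherian_projSpace n k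
  haveI := CMReg18.isProper_projSpace k (n := n)
  let J := Scheme.IdealSheafData.vanishingIdeal
    (⟨CohB1.support G, M1.isClosed_support hG.2⟩ : TopologicalSpace.Closeds (CohB1.ProjSpace n k))
  let p := CohB1.ProjSpace.toSpec n k
  haveI : IsProper p := ProjSpace.isProper_toSpec n k
  have hr : Set.range J.subschemeι = CohB1.support G := by
    rw [Scheme.IdealSheafData.range_subschemeι]; rw [Scheme.IdealSheafData.coe_support_vanishingIdeal]; rfl
  have hdimJ : topologicalKrullDim J.subscheme = a := by
    rw [← hdim]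
    exact ((J.subschemeι.isClosedEmbedding.toIsEmbedding.toHomeomorph).trans
      (Homeomorph.setCongr hr)).isHomeomorph.topologicalKrullDim_eq
  haveI : Nonempty J.subscheme := by
    by_contra h
    rw [not_nonempty_iff] at h
    haveI : IsEmpty (TopologicalSpace.IrreducibleCloseds J.subscheme) := ⟨fun s => h.false s.isIrreducible.nonempty.some⟩
    rw [topologicalKrullDim, Order.krullDim_eq_bot] at hdimJ
    simp at hdimJ
  obtain ⟨x, hx, hmax⟩ := VarDim.exists_dim_eq (J.subschemeι ≫ p)
  rw [hdimJ] at hx
  have hxa : VarDim.sdim p (J.subschemeι x) = a := by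
    rw [← VarDim.sdim_comp_of_surjective p J.subschemeι x]; exact_mod_cast hx.symm
  set ξ := J.subschemeι x
  have hξ : ξ ∈ CohB1.support G := hr ▸ ⟨x, rfl⟩
  have hd := ProjDual12.ringKrullDim_stalk_add_sdim (k := k) ξ
  change _ + ((VarDim.sdim p ξ : ℕ) : WithBot ℕ∞) = _ at hd
  rw [hxa] at hd
  haveI := ES11.regular_stalk k n ξ
  haveI := S0342.result ((CohB1.ProjSpace n k).presheaf.stalk ξ)
  obtain ⟨c, hc⟩ : ∃ c : ℕ, ringKrullDim ((CohB1.ProjSpace n k).presheaf.stalk ξ) = (c : WithBot ℕ∞) :=
    ⟨_, (IsRegularLocalRing.spanFinrank_maximalIdeal (R := (CohB1.ProjSpace n k).presheaf.stalk ξ)).symm⟩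
  rw [hc] at hd
  have hca : a + c = n := by rw [Nat.add_comm]; exact_mod_cast hd
  haveI := M1.finite_stalk hG.1 hG.2 ξ
  have h1 := (GorenLib.subsingleton_ext_iff_H hc (G.presheaf.stalk ξ) c).1
    ((ProjDual12.negVan_iff_ext hG hca).1 hneg ξ) 0 (zero_add c)
  haveI : Nontrivial (G.presheaf.stalk ξ) := not_subsingleton_iff_nontrivial.1 fun h => by
    exact (M1.notMem_support_iff G ξ).2 (fun b => Subsingleton.elim b 0) hξ
  have hlen : Module.length _ (G.presheaf.stalk ξ) ≠ ⊤ := Cyc26.length_stalk_ne_top hG fun y hy hyξ => by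
    have hys : y ∈ CohB1.support G := by
      by_contra hn
      exact not_subsingleton _ (subsingleton_of_forall_eq 0 ((M1.notMem_support_iff G y).1 hn))
    obtain ⟨z, rfl⟩ := hr.ge hys
    have hzx : z ⤳ x := J.subschemeι.isClosedEmbedding.toIsEmbedding.toIsInducing.specializes_iff.1 hyξ
    by_contra hne
    exact absurd (hmax z) (not_le.2 (VarDim.sdim_lt_of_specializes _ hzx fun e => hne (e ▸ rfl)))
  have h0 : Module.supportDim ((CohB1.ProjSpace n k).presheaf.stalk ξ) (G.presheaf.stalk ξ) = (0 : ℕ) := by
    haveI : IsArtinian _ (G.presheaf.stalk ξ) :=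
      (isFiniteLength_iff_isNoetherian_isArtinian.1 (Module.length_ne_top_iff.1 hlen)).2
    rw [Module.supportDim_eq_ringKrullDim_quotient_annihilator, Nat.cast_zero]
    exact ringKrullDim_quotient_annihilator_eq_zero _ _
  haveI := S2935.result _ (G.presheaf.stalk ξ) 0 h0
  haveI := h1
  exact false_of_nontrivial_of_subsingleton (LocCoh.H (IsLocalRing.maximalIdeal ((CohB1.ProjSpace n k).presheaf.stalk ξ)) 0 (G.presheaf.stalk ξ))

end Groth.Agent.S16148
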