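import Groth.Statements.S16149
import Groth.Agent.Lib.ModM1.Coh
import Groth.Agent.Lib.ModM1.Exact

set_option autoImplicit false
universe u
open CategoryTheory CategoryTheory.Limits AlgebraicGeometry TopologicalSpace
open SDiv

namespace Groth.Agent.S16149

/-- Let X be a locally Noetherian scheme, F a coherent O_X-module (quasi-coherent of finite type) and s
: O_X → F a global section of F. Then the set of points x of X at which the stalk map (O_X)_x → F_x
of s is bijective is open. (The published statement assumes moreover X integral and normal and F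
reflexive of rank one; the openness assertion uses only that F is coherent on a locally Noetherian
scheme, and it can fail for F quasi-coherent of finite type on a scheme that is not locally
Noetherian.) -/
theorem result (X : Scheme.{u}) [IsLocallyNoetherian X] (F : X.Modules) (hF : Coh.IsCoh F)
    (s : Coh.structureModule X ⟶ F) : IsOpen (RefPow.isoLocus s) := by
  have hO := Groth.Agent.M1.isCoh_structureModule X
  have hK : Coh.IsCoh (kernel s) := Groth.Agent.M1.isCoh_kernel hO hF.1 s
  have hC : Coh.IsCoh (cokernel s) := Groth.Agent.M1.isCoh_cokernel hO.1 hF s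
  have key : RefPow.isoLocus s =
      (CohB1.support (kernel s))ᶜ ∩ (CohB1.support (cokernel s))ᶜ := by
    ext x
    let G := Groth.Agent.M1.stalkAb (X := X) x
    have hb : Function.Bijective (RefHull.stalkMapₗ s x) ↔ IsIso (G.map s) :=
      (ConcreteCategory.isIso_iff_bijective (G.map s)).symm
    have h1 : IsZero (kernel (G.map s)) ↔ Subsingleton ((kernel s).presheaf.stalk x) :=
      ⟨fun h => AddCommGrpCat.subsingleton_of_isZero (h.of_iso (PreservesKernel.iso G s)),
        fun h => IsZero.of_iso (@AddCommGrpCat.isZero_of_subsingleton (G.obj (kernel s)) h) (PreservesKernel.iso G s).symm⟩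
    have h2 : IsZero (cokernel (G.map s)) ↔ Subsingleton ((cokernel s).presheaf.stalk x) :=
      ⟨fun h => AddCommGrpCat.subsingleton_of_isZero (h.of_iso (PreservesCokernel.iso G s)),
        fun h => IsZero.of_iso (@AddCommGrpCat.isZero_of_subsingleton (G.obj (cokernel s)) h) (PreservesCokernel.iso G s).symm⟩
    rw [RefPow.mem_isoLocus, hb, Set.mem_inter_iff, Set.mem_compl_iff, Set.mem_compl_iff]
    simp only [CohB1.support, Set.mem_setOf_eq, not_not, ← h1, ← h2]
    refine ⟨fun _ => ⟨isZero_kernel_of_mono _, isZero_cokernel_of_epi _⟩, fun h => ?_⟩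
    haveI := Preadditive.mono_of_isZero_kernel _ h.1
    haveI := Preadditive.epi_of_isZero_cokernel _ h.2
    exact isIso_of_mono_of_epi _
  rw [key]
  exact (Groth.Agent.M1.isClosed_support hK.2).isOpen_compl.inter (Groth.Agent.M1.isClosed_support hC.2).isOpen_compl

end Groth.Agent.S16149
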