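import Groth.Statements.S1615
import Mathlib
import Groth.Agent.Lib.EGA2.ProjSpectrum

set_option autoImplicit false
universe u
open CategoryTheory CategoryTheory.Limits AlgebraicGeometry
open Constr

namespace Groth.Agent.S1615

/-- For a graded ring A, quasi-compactness of Proj A is equivalent to the existence of finitely many
homogeneous elements of positive degree generating an ideal whose radical contains the irrelevant
ideal A_+. -/
theorem result {R A : Type u} [CommRing R] [CommRing A] [Algebra R A] (𝒜 : ℕ → Submodule R A) [GradedAlgebra 𝒜] :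
    CompactSpace ↥(Proj 𝒜) ↔ ∃ s : Finset A, (∀ f ∈ s, ∃ d : ℕ, 0 < d ∧ f ∈ 𝒜 d) ∧
      (HomogeneousIdeal.irrelevant 𝒜).toIdeal ≤ (Ideal.span (s : Set A)).radical := by
  constructor
  · intro hc
    let I := { f : A // ∃ d : ℕ, 0 < d ∧ f ∈ 𝒜 d }
    have hcov : (Set.univ : Set (Proj 𝒜)) ⊆ ⋃ i : I, (Proj.basicOpen 𝒜 i.1 : Set (Proj 𝒜)) := by
      intro x _
      let p : ProjectiveSpectrum 𝒜 := x
      obtain ⟨a, ha, hap⟩ := Set.not_subset.mp p.not_irrelevant_le
      classical
      have : ∃ i, ¬ (DirectSum.decompose 𝒜 a i : A) ∈ p.asHomogeneousIdeal.toIdeal := by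
        by_contra hcon
        push Not at hcon
        exact hap (by rw [← DirectSum.sum_support_decompose 𝒜 a]; exact sum_mem fun i _ => hcon i)
      obtain ⟨i, hi⟩ := this
      have hpos : 0 < i := by
        rcases Nat.eq_zero_or_pos i with rfl | h
        · exfalso
          apply hi
          have h0 : (DirectSum.decompose 𝒜 a 0 : A) = 0 := by
            have := (HomogeneousIdeal.mem_irrelevant_iff 𝒜 a).mp ha
            simpa [GradedRing.proj_apply] using this
          rw [h0]; exact zero_mem _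
        · exact h
      exact Set.mem_iUnion.mpr ⟨⟨_, i, hpos, SetLike.coe_mem _⟩, hi⟩
    obtain ⟨t, ht⟩ := isCompact_univ.elim_finite_subcover _ (fun i : I => (Proj.basicOpen 𝒜 i.1).2) hcov
    classical
    refine ⟨t.image (·.1), fun f hf => ?_, fun x hx => ?_⟩
    · obtain ⟨i, -, rfl⟩ := Finset.mem_image.mp hf
      exact i.2
    · refine Groth.Agent.EGA2.mem_radical_of_forall_mem 𝒜 (Ideal.homogeneous_span 𝒜 _ ?_) hx fun p hp => ?_
      · intro f hf
        obtain ⟨i, -, rfl⟩ := Finset.mem_image.mp hf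
        obtain ⟨d, -, hd⟩ := i.2
        exact ⟨d, hd⟩
      · obtain ⟨i, hit, hip⟩ := Set.mem_iUnion₂.mp (ht (Set.mem_univ (show Proj 𝒜 from p)))
        exact absurd (hp (Ideal.subset_span (Finset.mem_image.mpr ⟨i, hit, rfl⟩))) hip
  · rintro ⟨s, hs, hle⟩
    refine ⟨?_⟩
    have huniv : (Set.univ : Set (Proj 𝒜)) = ⋃ f ∈ s, (Proj.basicOpen 𝒜 f : Set (Proj 𝒜)) := by
      refine (Set.eq_univ_of_forall fun x => ?_).symm
      let p : ProjectiveSpectrum 𝒜 := x
      by_contra hx
      apply p.not_irrelevant_le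
      intro a ha
      refine p.isPrime.radical.le (Ideal.radical_mono (Ideal.span_le.mpr fun f hf => ?_) (hle ha))
      by_contra hfp
      exact hx (Set.mem_biUnion hf hfp)
    rw [huniv]
    exact s.isCompact_biUnion fun f hf => by
      obtain ⟨d, hd, hfd⟩ := hs f hf
      exact (Proj.isAffineOpen_basicOpen 𝒜 f hfd hd).isCompact

end Groth.Agent.S1615
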