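import Groth.Statements.S16152
import Mathlib.Tactic.FieldSimp
import Mathlib.Tactic.Ring
import Mathlib.RingTheory.MvPolynomial.EulerIdentity


set_option autoImplicit false
universe u
open WGauss

set_option backward.isDefEq.respectTransparency false
set_option backward.isDefEq.respectTransparency.types false

namespace Groth.Agent.S16152

open MvPolynomial in
/-- Over a field k of characteristic zero, for e, a, b positive integers with a < b, the weighted
Gaussian map of the line bundle O(e) on projective n-space is surjective. Concretely, identifying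
global sections of O(m) with homogeneous polynomials of degree m in X_0, ..., X_n and global
sections of the twisted cotangent sheaf Omega^1(t) with the (n+1)-tuples of homogeneous polynomials
of degree t - 1 killed by the Euler map (f_i) to sum_i X_i f_i, every such tuple with t = (a+b)e is
a k-linear combination of the tuples (b tau (d sigma / d X_i) - a sigma (d tau / d X_i))_i with
sigma homogeneous of degree ae and tau homogeneous of degree be. (The source works over the complex
numbers; the statement is one of linear algebra and is given here over any field of characteristic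
zero.) -/
theorem result
    (k : Type u) [Field k] [CharZero k] (n e a b : ℕ) (he : 0 < e) (ha : 0 < a) (hab : a < b)
    (f : Fin (n + 1) → MvPolynomial (Fin (n + 1)) k)
    (hf : ∀ i, (f i).IsHomogeneous ((a + b) * e - 1))
    (hEuler : ∑ i, X i * f i = 0) :
    f ∈ Submodule.span k
      {g : Fin (n + 1) → MvPolynomial (Fin (n + 1)) k |
        ∃ σ τ : MvPolynomial (Fin (n + 1)) k, σ.IsHomogeneous (a * e) ∧ τ.IsHomogeneous (b * e) ∧
          g = fun i => (b : k) • (τ * pderiv i σ) - (a : k) • (σ * pderiv i τ)} := by
  classical
  let N := (a + b) * e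
  let S : Set (Fin (n + 1) → MvPolynomial (Fin (n + 1)) k) :=
    {g | ∃ σ τ : MvPolynomial (Fin (n + 1)) k, σ.IsHomogeneous (a * e) ∧ τ.IsHomogeneous (b * e) ∧
      g = fun i => (b : k) • (τ * pderiv i σ) - (a : k) • (σ * pderiv i τ)}
  change f ∈ Submodule.span k S
  let K : Fin (n + 1) → Fin (n + 1) → MvPolynomial (Fin (n + 1)) k →ₗ[k]
      (Fin (n + 1) → MvPolynomial (Fin (n + 1)) k) := fun i j =>
    LinearMap.pi fun l => LinearMap.mulRight k
      ((if l = i then X j else 0) - (if l = j then X i else 0))
  have hab0 : (a : k) + (b : k) ≠ 0 := by exact_mod_cast (show a + b ≠ 0 by omega)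
  have hN : a * e + b * e = N := (add_mul a b e).symm
  have hae : 1 ≤ a * e := Nat.one_le_iff_ne_zero.2 (Nat.mul_ne_zero (by omega) (by omega))
  have hbe : 1 ≤ b * e := Nat.one_le_iff_ne_zero.2 (Nat.mul_ne_zero (by omega) (by omega))
  have hsub : ∀ (d : ℕ) (m : Fin (n + 1) →₀ ℕ), d ≤ m.degree → ∃ α, α ≤ m ∧ α.degree = d := by
    intro d
    induction d with
    | zero => exact fun m _ => ⟨0, fun _ => Nat.zero_le _, by simp⟩
    | succ d ih =>
      intro m hm
      obtain ⟨α, hle, hα⟩ := ih m (by omega)
      have hne : α ≠ m := fun h => by rw [h] at hα; omega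
      obtain ⟨l, hl⟩ : ∃ l, α l < m l := by
        by_contra hcon
        push Not at hcon
        exact hne (Finsupp.ext fun l => le_antisymm (hle l) (hcon l))
      refine ⟨α + Finsupp.single l 1, fun x => ?_, by rw [map_add, hα, Finsupp.degree_single]⟩
      rcases eq_or_ne x l with rfl | hx
      · simpa using hl
      · simpa [hx] using hle x
  -- the Gaussian image of a pair of monomials
  let v : (Fin (n + 1) →₀ ℕ) → (Fin (n + 1) →₀ ℕ) → Fin (n + 1) → MvPolynomial (Fin (n + 1)) k := fun α β l =>
    monomial (α + β - Finsupp.single l 1) ((b : k) * (α l : k) - (a : k) * (β l : k))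
  have hv : ∀ α β : Fin (n + 1) →₀ ℕ, α.degree = a * e → β.degree = b * e → v α β ∈ Submodule.span k S := by
    intro α β hα hβ
    refine Submodule.subset_span ⟨monomial α 1, monomial β 1, isHomogeneous_monomial _ hα,
      isHomogeneous_monomial _ hβ, funext fun l => ?_⟩
    have shift : ∀ (p q : Fin (n + 1) →₀ ℕ),
        monomial q (1 : k) * pderiv l (monomial p 1) = monomial (p + q - Finsupp.single l 1) (p l : k) := by
      intro p q
      rw [pderiv_monomial, one_mul, monomial_mul, one_mul]
      rcases Nat.eq_zero_or_pos (p l) with h | h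
      · simp [h]
      · congr 2
        ext x
        rcases eq_or_ne x l with rfl | hx
        · simp only [Finsupp.add_apply, Finsupp.tsub_apply, Finsupp.single_eq_same]
          omega
        · simp [hx, add_comm]
    rw [shift α β, shift β α, add_comm β α]
    simp only [v, smul_monomial, smul_eq_mul]
    rw [map_sub]
  have hK : ∀ i j (m : Fin (n + 1) →₀ ℕ), i ≠ j → m.degree + 2 = N →
      K i j (monomial m 1) ∈ Submodule.span k S := by
    intro i j m hij hm
    obtain ⟨α₀, hle, hα₀⟩ := hsub (a * e - 1) m (by omega)
    obtain ⟨r, rfl⟩ := exists_add_of_le hle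
    rw [map_add] at hm
    have h1 := hv (Finsupp.single i 1 + α₀) (r + Finsupp.single j 1)
      (by rw [map_add, Finsupp.degree_single]; omega) (by rw [map_add, Finsupp.degree_single]; omega)
    have h2 := hv (Finsupp.single j 1 + α₀) (r + Finsupp.single i 1)
      (by rw [map_add, Finsupp.degree_single]; omega) (by rw [map_add, Finsupp.degree_single]; omega)
    convert Submodule.smul_mem _ ((a : k) + b)⁻¹ (Submodule.sub_mem _ h1 h2) using 1
    funext l
    have hexp : Finsupp.single j 1 + α₀ + (r + Finsupp.single i 1) =
        Finsupp.single i 1 + α₀ + (r + Finsupp.single j 1) := by abel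
    simp only [K, LinearMap.pi_apply, LinearMap.mulRight_apply, Pi.smul_apply, Pi.sub_apply, v, hexp,
      ← map_sub, smul_monomial, smul_eq_mul, Finsupp.add_apply, Nat.cast_add]
    rcases eq_or_ne l i with rfl | hli
    · rw [if_pos rfl, if_neg hij, sub_zero, Finsupp.single_eq_same, Finsupp.single_eq_of_ne hij, X, monomial_mul]
      have hx : Finsupp.single l 1 + α₀ + (r + Finsupp.single j 1) - Finsupp.single l 1 =
          α₀ + r + Finsupp.single j 1 := by
        ext x; simp only [Finsupp.add_apply, Finsupp.tsub_apply]; omega
      rw [hx, one_mul]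
      congr 1
      push_cast
      field_simp
      ring
    · rcases eq_or_ne l j with rfl | hlj
      · rw [if_neg hli, if_pos rfl, zero_sub, Finsupp.single_eq_same, Finsupp.single_eq_of_ne hli, X, mul_neg,
          monomial_mul, ← map_neg]
        have hx : Finsupp.single i 1 + α₀ + (r + Finsupp.single l 1) - Finsupp.single l 1 =
            α₀ + r + Finsupp.single i 1 := by
          ext x; simp only [Finsupp.add_apply, Finsupp.tsub_apply]; omega
        rw [hx, one_mul]
        congr 1
        push_cast
        field_simp
        ring
      · rw [if_neg hli, if_neg hlj, sub_zero, mul_zero, Finsupp.single_eq_of_ne hli, Finsupp.single_eq_of_ne hlj]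
        simp
  let g : Fin (n + 1) → Fin (n + 1) → MvPolynomial (Fin (n + 1)) k := fun i j => pderiv j (f i) - pderiv i (f j)
  have hKg : ∀ i j, K i j (g i j) ∈ Submodule.span k S := by
    intro i j
    rcases eq_or_ne i j with rfl | hij
    · simp [g]
    by_cases hN2 : N < 2
    · omega
    have hg : (g i j).IsHomogeneous (N - 2) := by
      have := ((hf i).pderiv (i := j)).sub ((hf j).pderiv (i := i))
      rwa [show (a + b) * e - 1 - 1 = N - 2 from by omega] at this
    rw [as_sum (g i j), map_sum]
    refine Submodule.sum_mem _ fun m hm => ?_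
    rw [show monomial m ((g i j).coeff m) = (g i j).coeff m • monomial m (1 : k) by
      rw [smul_monomial, smul_eq_mul, mul_one], map_smul]
    refine Submodule.smul_mem _ _ (hK i j m hij ?_)
    have : m.degree = N - 2 := by
      by_contra hne
      exact (mem_support_iff.1 hm) (hg.coeff_eq_zero hne)
    omega
  have heuler : ∀ i, ∑ j, X j * g i j = (N : MvPolynomial (Fin (n + 1)) k) * f i := by
    intro i
    have h1 : ∑ j, X j * pderiv i (f j) = - f i := by
      have := congrArg (pderiv i) hEuler
      rw [map_zero, map_sum] at this
      simp only [pderiv_mul, pderiv_X, Pi.single_apply, ite_mul, one_mul, zero_mul, Finset.sum_add_distrib] at this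
      rw [Finset.sum_ite_eq' Finset.univ i, if_pos (Finset.mem_univ _)] at this
      exact eq_neg_of_add_eq_zero_right this
    simp only [g, mul_sub, Finset.sum_sub_distrib, h1, (hf i).sum_X_mul_pderiv, nsmul_eq_mul]
    rw [sub_neg_eq_add]
    have : N = ((a + b) * e - 1) + 1 := by omega
    rw [this]
    push_cast
    ring
  have h2 : ((2 * N : ℕ) : k) • f = ∑ i, ∑ j, K i j (g i j) := by
    funext l
    simp only [Finset.sum_apply, K, LinearMap.pi_apply, LinearMap.mulRight_apply, mul_sub, mul_ite, mul_zero,
      Finset.sum_sub_distrib]
    rw [Finset.sum_comm]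
    simp only [Finset.sum_ite_eq, Finset.mem_univ, if_true]
    rw [← Finset.sum_sub_distrib, Pi.smul_apply, smul_eq_C_mul]
    have hanti : ∀ j, g l j * X j - g j l * X j = 2 * (X j * g l j) := fun j => by simp only [g]; ring
    rw [Finset.sum_congr rfl fun j _ => hanti j, ← Finset.mul_sum, heuler l]
    simp only [map_natCast]
    push_cast
    ring
  have hne : ((2 * N : ℕ) : k) ≠ 0 := by exact_mod_cast (show 2 * N ≠ 0 by omega)
  rw [← inv_smul_smul₀ hne f, h2]
  exact Submodule.smul_mem _ _ (Submodule.sum_mem _ fun i _ => Submodule.sum_mem _ fun j _ => hKg i j)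

end Groth.Agent.S16152
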