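import Groth.Statements.S16153
import Mathlib.Tactic.LinearCombination
import Mathlib.Algebra.MvPolynomial.PDeriv
import Mathlib.Algebra.MvPolynomial.Funext
import Mathlib.RingTheory.MvPolynomial.WeightedHomogeneous
import Mathlib.LinearAlgebra.LinearIndependent.Basic

set_option autoImplicit false
universe u
open SpinRat

namespace Groth.Agent.S16153

open MvPolynomial

variable {k : Type u} [Field k]

/-- The exponents of bidegree `(3, 3)`. -/
noncomputable def dd (i j : Fin 4) : Fin 4 →₀ ℕ :=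
  Finsupp.equivFunOnFinite.symm ![i.val, 3 - i.val, j.val, 3 - j.val]

theorem dd_apply (i j : Fin 4) (t : Fin 4) : dd i j t = (![i.val, 3 - i.val, j.val, 3 - j.val] : Fin 4 → ℕ) t := rfl

theorem _root_.MvPolynomial.IsWeightedHomogeneous.sub' {σ R : Type*} [CommRing R] {w : σ → ℕ} {n : ℕ}
    {p q : MvPolynomial σ R} (hp : p.IsWeightedHomogeneous w n) (hq : q.IsWeightedHomogeneous w n) :
    (p - q).IsWeightedHomogeneous w n :=
  (mem_weightedHomogeneousSubmodule R w n _).1 (Submodule.sub_mem _ hp hq)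

theorem expand (f : MvPolynomial (Fin 4) k) (h1 : f.IsWeightedHomogeneous (![1, 1, 0, 0] : Fin 4 → ℕ) 3)
    (h2 : f.IsWeightedHomogeneous (![0, 0, 1, 1] : Fin 4 → ℕ) 3) :
    f = ∑ i : Fin 4, ∑ j : Fin 4, monomial (dd i j) (coeff (dd i j) f) := by
  classical
  ext m
  simp only [coeff_sum, coeff_monomial]
  by_cases hm : coeff m f = 0
  · rw [hm]
    refine (Finset.sum_eq_zero fun i _ => Finset.sum_eq_zero fun j _ => ?_).symm
    split_ifs with he
    · rw [he, hm]
    · rfl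
  · have e1 : Finsupp.weight (![1, 1, 0, 0] : Fin 4 → ℕ) m = 3 := h1 hm
    have e2 : Finsupp.weight (![0, 0, 1, 1] : Fin 4 → ℕ) m = 3 := h2 hm
    rw [Finsupp.weight_apply, Finsupp.sum_fintype _ _ (fun i => by simp)] at e1 e2
    simp [Fin.sum_univ_four] at e1 e2
    have hd : ∀ i j, dd i j = m ↔ i = (⟨m 0, by omega⟩ : Fin 4) ∧ j = (⟨m 2, by omega⟩ : Fin 4) := by
      intro i j
      constructor
      · rintro rfl; exact ⟨Fin.ext (by simp [dd_apply]), Fin.ext (by simp [dd_apply])⟩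
      · rintro ⟨rfl, rfl⟩
        ext t; fin_cases t <;> simp [dd_apply] <;> omega
    simp only [hd, ite_and]
    simp [show dd (⟨m 0, by omega⟩ : Fin 4) ⟨m 2, by omega⟩ = m from (hd _ _).2 ⟨rfl, rfl⟩]

theorem coeff_swap (f : MvPolynomial (Fin 4) k) (i j : Fin 4) :
    coeff (dd j i) (rename (![2, 3, 0, 1] : Fin 4 → Fin 4) f) = coeff (dd i j) f := by
  have hinj : Function.Injective (![2, 3, 0, 1] : Fin 4 → Fin 4) := by decide
  have hinv : ∀ t : Fin 4, (![2, 3, 0, 1] : Fin 4 → Fin 4) ((![2, 3, 0, 1] : Fin 4 → Fin 4) t) = t := by decide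
  have : dd j i = Finsupp.mapDomain (![2, 3, 0, 1] : Fin 4 → Fin 4) (dd i j) := by
    ext t
    conv_rhs => rw [← hinv t, Finsupp.mapDomain_apply hinj]
    fin_cases t <;> simp [dd_apply]
  rw [this, coeff_rename_mapDomain _ hinj]

theorem sum_expand (a : Fin 4 → Fin 4 → k) :
    (∑ i : Fin 4, ∑ j : Fin 4, monomial (dd i j) (a i j)) =
      ∑ i : Fin 4, ∑ j : Fin 4, C (a i j) * (X 0 ^ i.val * X 1 ^ (3 - i.val) * X 2 ^ j.val * X 3 ^ (3 - j.val)) := by
  refine Finset.sum_congr rfl fun i _ => Finset.sum_congr rfl fun j _ => ?_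
  rw [monomial_eq, Finsupp.prod_fintype _ _ (fun i => pow_zero _)]
  simp [Fin.prod_univ_four, dd_apply]

theorem smul_eval {σ : Type*} (x : σ → k) (r : k) (p : MvPolynomial σ k) : eval x (r • p) = r * eval x p :=
  MvPolynomial.smul_eval x p r

theorem relations (f : MvPolynomial (Fin 4) k) (a : Fin 4 → Fin 4 → k)
    (hf : f = ∑ i : Fin 4, ∑ j : Fin 4, monomial (dd i j) (a i j))
    (hd : (X 0 * X 1 * (X 0 - X 1)) ^ 2 ∣ rename (![0, 1, 0, 1] : Fin 4 → Fin 2) f) :
    a 0 0 = 0 ∧ a 0 1 + a 1 0 = 0 ∧ a 2 3 + a 3 2 = 0 ∧ a 3 3 = 0 ∧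
      (a 0 2 + a 1 1 + a 2 0) + (a 0 3 + a 1 2 + a 2 1 + a 3 0) + (a 1 3 + a 2 2 + a 3 1) = 0 ∧
      2 * (a 0 2 + a 1 1 + a 2 0) + 3 * (a 0 3 + a 1 2 + a 2 1 + a 3 0) + 4 * (a 1 3 + a 2 2 + a 3 1) = 0 := by
  obtain ⟨Q, hQ⟩ := hd
  rw [hf, sum_expand] at hQ
  have r0 := congrArg (eval (![0, 1] : Fin 2 → k)) hQ
  have r1 := congrArg (fun p => eval (![0, 1] : Fin 2 → k) (pderiv 0 p)) hQ
  have r6 := congrArg (eval (![1, 0] : Fin 2 → k)) hQ
  have r5 := congrArg (fun p => eval (![1, 0] : Fin 2 → k) (pderiv 1 p)) hQ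
  have r7 := congrArg (eval (![1, 1] : Fin 2 → k)) hQ
  have r8 := congrArg (fun p => eval (![1, 1] : Fin 2 → k) (pderiv 0 p)) hQ
  simp [Fin.sum_univ_four, pderiv_X, pderiv_pow, mul_pow] at r0 r1 r5 r6 r7 r8
  refine ⟨r0, ?_, ?_, r6, ?_, ?_⟩
  · linear_combination r1
  · linear_combination r5
  · linear_combination r7 - r0 - r1 - r5 - r6
  · linear_combination r8 - r1 - 5 * r5 - 6 * r6

set_option maxHeartbeats 4000000 in
open MvPolynomial in
/-- In the bigraded polynomial ring k[x0, x1, y0, y1] of the quadric surface (variables X 0, X 1, X 2, X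
3 in this order), over a field k of characteristic zero, let iota exchange x_i with y_i, let l = x0
y1 - x1 y0 be the diagonal, h1 = x0 (y1 - y0) + y0 (x1 - x0), h2 = x1 (y0 - y1) + y1 (x0 - x1), h3 =
x0 y1 + x1 y0, h = h1 + h2 + h3, h13 = h1 - h3, h23 = h2 - h3, and let c = x0 x1 (x0 - x1) y0 y1 (y0
- y1) be the product of the six rulings through the three diagonal points (1:0)x(1:0), (0:1)x(0:1),
(1:1)x(1:1). Let I be the space of forms of bidegree (3,3) whose restriction to the diagonal is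
divisible by (x0 x1 (x0 - x1))^2, that is, the bidegree-(3,3) forms through the length-six subscheme
of the diagonal doubled at those three points. Then the iota-invariant forms in I are exactly the
span of c, l^2 h, l^2 h13, l^2 h23; the iota-anti-invariant forms in I are exactly the span of l
h^2, l h h13, l h h23, l h13^2, l h23^2, l h13 h23; and these ten forms are linearly independent.
(The source works over the complex numbers and writes the two eigenspaces as direct sums of the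
displayed pieces; the six-line form c is read as the product of the two cubic factors.) -/
theorem result
    (k : Type u) [Field k] [CharZero k]
    (l h1 h2 h3 h h13 h23 c : MvPolynomial (Fin 4) k)
    (hl : l = X 0 * X 3 - X 1 * X 2)
    (hh1 : h1 = X 0 * (X 3 - X 2) + X 2 * (X 1 - X 0))
    (hh2 : h2 = X 1 * (X 2 - X 3) + X 3 * (X 0 - X 1))
    (hh3 : h3 = X 0 * X 3 + X 1 * X 2)
    (hh : h = h1 + h2 + h3) (hh13 : h13 = h1 - h3) (hh23 : h23 = h2 - h3)
    (hc : c = X 0 * X 1 * (X 0 - X 1) * (X 2 * X 3 * (X 2 - X 3)))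
    (I : Submodule k (MvPolynomial (Fin 4) k))
    (hI : ∀ f, f ∈ I ↔
      (f.IsWeightedHomogeneous (![1, 1, 0, 0] : Fin 4 → ℕ) 3 ∧
       f.IsWeightedHomogeneous (![0, 0, 1, 1] : Fin 4 → ℕ) 3 ∧
       (X 0 * X 1 * (X 0 - X 1)) ^ 2 ∣ rename (![0, 1, 0, 1] : Fin 4 → Fin 2) f)) :
    (∀ f, (f ∈ I ∧ rename (![2, 3, 0, 1] : Fin 4 → Fin 4) f = f) ↔
        f ∈ Submodule.span k ({c, l ^ 2 * h, l ^ 2 * h13, l ^ 2 * h23} : Set (MvPolynomial (Fin 4) k))) ∧
    (∀ f, (f ∈ I ∧ rename (![2, 3, 0, 1] : Fin 4 → Fin 4) f = -f) ↔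
        f ∈ Submodule.span k ({l * h ^ 2, l * h * h13, l * h * h23, l * h13 ^ 2, l * h23 ^ 2, l * h13 * h23} :
          Set (MvPolynomial (Fin 4) k))) ∧
    LinearIndependent k
      ![c, l ^ 2 * h, l ^ 2 * h13, l ^ 2 * h23, l * h ^ 2, l * h * h13, l * h * h23, l * h13 ^ 2, l * h23 ^ 2,
        l * h13 * h23] := by
  classical
  haveI : Infinite k := Infinite.of_injective (Nat.cast : ℕ → k) Nat.cast_injective
  have hsum : ∀ f : MvPolynomial (Fin 4) k, f.IsWeightedHomogeneous (![1, 1, 0, 0] : Fin 4 → ℕ) 3 →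
      f.IsWeightedHomogeneous (![0, 0, 1, 1] : Fin 4 → ℕ) 3 →
      f = ∑ i : Fin 4, ∑ j : Fin 4, monomial (dd i j) (coeff (dd i j) f) := expand
  have hgen : ∀ g ∈ ({c, l ^ 2 * h, l ^ 2 * h13, l ^ 2 * h23, l * h ^ 2, l * h * h13, l * h * h23, l * h13 ^ 2,
      l * h23 ^ 2, l * h13 * h23} : Set (MvPolynomial (Fin 4) k)), g ∈ I := by
    have a0 : ∀ i : Fin 4, (X i : MvPolynomial (Fin 4) k).IsWeightedHomogeneous (![1, 1, 0, 0] : Fin 4 → ℕ)
        ((![1, 1, 0, 0] : Fin 4 → ℕ) i) := fun i => isWeightedHomogeneous_X k _ i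
    have b0 : ∀ i : Fin 4, (X i : MvPolynomial (Fin 4) k).IsWeightedHomogeneous (![0, 0, 1, 1] : Fin 4 → ℕ)
        ((![0, 0, 1, 1] : Fin 4 → ℕ) i) := fun i => isWeightedHomogeneous_X k _ i
    have hw : ∀ (w : Fin 4 → ℕ), ((w = ![1, 1, 0, 0]) ∨ (w = ![0, 0, 1, 1])) →
        l.IsWeightedHomogeneous w 1 ∧ h.IsWeightedHomogeneous w 1 ∧ h13.IsWeightedHomogeneous w 1 ∧
          h23.IsWeightedHomogeneous w 1 ∧ c.IsWeightedHomogeneous w 3 := by
      rintro w hw
      have hx := fun i => isWeightedHomogeneous_X k w i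
      have hl' : l.IsWeightedHomogeneous w 1 := by
        rcases hw with rfl | rfl <;> rw [hl] <;> exact ((hx 0).mul (hx 3)).sub' ((hx 1).mul (hx 2))
      have h1' : h1.IsWeightedHomogeneous w 1 := by
        rcases hw with rfl | rfl <;> rw [hh1] <;>
          exact ((hx 0).mul ((hx 3).sub' (hx 2))).add ((hx 2).mul ((hx 1).sub' (hx 0)))
      have h2' : h2.IsWeightedHomogeneous w 1 := by
        rcases hw with rfl | rfl <;> rw [hh2] <;>
          exact ((hx 1).mul ((hx 2).sub' (hx 3))).add ((hx 3).mul ((hx 0).sub' (hx 1)))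
      have h3' : h3.IsWeightedHomogeneous w 1 := by
        rcases hw with rfl | rfl <;> rw [hh3] <;> exact ((hx 0).mul (hx 3)).add ((hx 1).mul (hx 2))
      refine ⟨hl', hh ▸ (h1'.add h2').add h3', hh13 ▸ h1'.sub' h3', hh23 ▸ h2'.sub' h3', ?_⟩
      rcases hw with rfl | rfl <;> rw [hc] <;>
        exact (((hx 0).mul (hx 1)).mul ((hx 0).sub' (hx 1))).mul (((hx 2).mul (hx 3)).mul ((hx 2).sub' (hx 3)))
    have hl0 : rename (![0, 1, 0, 1] : Fin 4 → Fin 2) l = 0 := by simp [hl]; ring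
    have hc0 : (X 0 * X 1 * (X 0 - X 1)) ^ 2 ∣ rename (![0, 1, 0, 1] : Fin 4 → Fin 2) c := by
      refine dvd_of_eq ?_
      simp [hc]; ring
    intro g hg
    rw [hI]
    obtain ⟨la, ha, h13a, h23a, ca⟩ := hw _ (Or.inl rfl)
    obtain ⟨lb, hb, h13b, h23b, cb⟩ := hw _ (Or.inr rfl)
    simp only [Set.mem_insert_iff, Set.mem_singleton_iff] at hg
    rcases hg with rfl | rfl | rfl | rfl | rfl | rfl | rfl | rfl | rfl | rfl
    · exact ⟨ca, cb, hc0⟩
    · exact ⟨(la.pow 2).mul ha, (lb.pow 2).mul hb, by simp [hl0]⟩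
    · exact ⟨(la.pow 2).mul h13a, (lb.pow 2).mul h13b, by simp [hl0]⟩
    · exact ⟨(la.pow 2).mul h23a, (lb.pow 2).mul h23b, by simp [hl0]⟩
    · exact ⟨la.mul (ha.pow 2), lb.mul (hb.pow 2), by simp [hl0]⟩
    · exact ⟨(la.mul ha).mul h13a, (lb.mul hb).mul h13b, by simp [hl0]⟩
    · exact ⟨(la.mul ha).mul h23a, (lb.mul hb).mul h23b, by simp [hl0]⟩
    · exact ⟨la.mul (h13a.pow 2), lb.mul (h13b.pow 2), by simp [hl0]⟩
    · exact ⟨la.mul (h23a.pow 2), lb.mul (h23b.pow 2), by simp [hl0]⟩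
    · exact ⟨(la.mul h13a).mul h23a, (lb.mul h13b).mul h23b, by simp [hl0]⟩
  let ι' : MvPolynomial (Fin 4) k →ₐ[k] MvPolynomial (Fin 4) k := rename (![2, 3, 0, 1] : Fin 4 → Fin 4)
  have il : ι' l = -l := by simp [ι', hl]; ring
  have ih : ι' h = h := by simp [ι', hh, hh1, hh2, hh3]; ring
  have ih13 : ι' h13 = h13 := by simp [ι', hh13, hh1, hh3]; ring
  have ih23 : ι' h23 = h23 := by simp [ι', hh23, hh2, hh3]; ring
  have ic : ι' c = c := by simp [ι', hc]; ring
  refine ⟨fun f => ⟨fun hf => ?_, fun hf => ?_⟩, fun f => ⟨fun hf => ?_, fun hf => ?_⟩, ?_⟩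
  · obtain ⟨hfI, hi⟩ := hf
    obtain ⟨w1, w2, hdvd⟩ := (hI f).1 hfI
    have hf' := hsum f w1 w2
    have hs : ∀ i j, coeff (dd j i) f = coeff (dd i j) f := fun i j => by
      conv_lhs => rw [← hi]
      exact coeff_swap f i j
    set a : Fin 4 → Fin 4 → k := fun i j => coeff (dd i j) f
    obtain ⟨r0, r1, r5, r6, r23, r234⟩ := relations f a hf' hdvd
    have : f = (2 * a 0 2 + a 1 1) • c + (a 0 3 / 3) • (l ^ 2 * h) + (-(a 1 3) / 2 - a 0 3 / 3) • (l ^ 2 * h13) +
        (-(a 0 2) / 2 - a 0 3 / 3) • (l ^ 2 * h23) := by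
      refine MvPolynomial.funext fun x => ?_
      conv_lhs => rw [show f = ∑ i : Fin 4, ∑ j : Fin 4, monomial (dd i j) (a i j) from hf']
      rw [sum_expand]
      have s10 : a 1 0 = a 0 1 := hs 0 1
      have s20 : a 2 0 = a 0 2 := hs 0 2
      have s30 : a 3 0 = a 0 3 := hs 0 3
      have s21 : a 2 1 = a 1 2 := hs 1 2
      have s31 : a 3 1 = a 1 3 := hs 1 3
      have s32 : a 3 2 = a 2 3 := hs 2 3
      rw [s10] at r1
      rw [s32] at r5
      rw [s20, s30, s21, s31] at r23 r234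
      have e01 : a 0 1 = 0 := by linear_combination r1 / 2
      have e23 : a 2 3 = 0 := by linear_combination r5 / 2
      have e22 : a 2 2 = a 1 1 + 2 * a 0 2 - 2 * a 1 3 := by linear_combination r234 - 3 * r23
      have e12 : a 1 2 = -(a 0 3) - 2 * a 0 2 - a 1 1 := by linear_combination (4 * r23 - r234) / 2
      simp [sum_expand, Fin.sum_univ_four, s10, s20, s30, s21, s31, s32, r0, r6, e01, e23, e22, e12, hl, hh, hh13, hh23, hh1, hh2, hh3,
        hc, smul_eval]
      ring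
    rw [this]
    refine add_mem (add_mem (add_mem ?_ ?_) ?_) ?_ <;> exact Submodule.smul_mem _ _ (Submodule.subset_span (by simp))
  · refine ⟨?_, ?_⟩
    · exact (Submodule.span_le.2 fun g hg => hgen g (by
        simp only [Set.mem_insert_iff, Set.mem_singleton_iff] at hg ⊢; tauto)) hf
    · have : Submodule.span k ({c, l ^ 2 * h, l ^ 2 * h13, l ^ 2 * h23} : Set (MvPolynomial (Fin 4) k)) ≤
          LinearMap.eqLocus ι'.toLinearMap LinearMap.id := Submodule.span_le.2 fun g hg => by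
        simp only [Set.mem_insert_iff, Set.mem_singleton_iff] at hg
        rcases hg with rfl | rfl | rfl | rfl <;> simp [ic, il, ih, ih13, ih23]
      exact this hf
  · obtain ⟨hfI, hi⟩ := hf
    obtain ⟨w1, w2, -⟩ := (hI f).1 hfI
    have hf' := hsum f w1 w2
    have hs : ∀ i j, coeff (dd j i) f = -coeff (dd i j) f := fun i j => by
      have h0 := coeff_swap f i j
      rw [hi, coeff_neg] at h0
      rw [← h0, neg_neg]
    set a : Fin 4 → Fin 4 → k := fun i j => coeff (dd i j) f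
    have : f = (-(a 0 3) / 9) • (l * h ^ 2) + (2 * a 0 3 / 9 + a 1 3 / 6) • (l * h * h13) +
        (a 0 2 / 6 + 2 * a 0 3 / 9) • (l * h * h23) + (-(a 0 3) / 9 - a 1 3 / 6 - a 2 3 / 4) • (l * h13 ^ 2) +
        (-(a 0 1) / 4 - a 0 2 / 6 - a 0 3 / 9) • (l * h23 ^ 2) +
        (-(a 0 2) / 6 + a 0 3 / 36 - a 1 2 / 4 - a 1 3 / 6) • (l * h13 * h23) := by
      refine MvPolynomial.funext fun x => ?_
      conv_lhs => rw [show f = ∑ i : Fin 4, ∑ j : Fin 4, monomial (dd i j) (a i j) from hf']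
      rw [sum_expand]
      have hz : ∀ i, a i i = 0 := fun i => by linear_combination (hs i i) / 2
      simp [sum_expand, Fin.sum_univ_four, hz, (show a 1 0 = -a 0 1 from hs 0 1), (show a 2 0 = -a 0 2 from hs 0 2), (show a 3 0 = -a 0 3 from hs 0 3),
        (show a 2 1 = -a 1 2 from hs 1 2), (show a 3 1 = -a 1 3 from hs 1 3), (show a 3 2 = -a 2 3 from hs 2 3), hl, hh, hh13, hh23,
        hh1, hh2, hh3, smul_eval]
      ring
    rw [this]
    refine add_mem (add_mem (add_mem (add_mem (add_mem ?_ ?_) ?_) ?_) ?_) ?_ <;>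
      exact Submodule.smul_mem _ _ (Submodule.subset_span (by simp))
  · refine ⟨?_, ?_⟩
    · exact (Submodule.span_le.2 fun g hg => hgen g (by
        simp only [Set.mem_insert_iff, Set.mem_singleton_iff] at hg ⊢; tauto)) hf
    · have : Submodule.span k ({l * h ^ 2, l * h * h13, l * h * h23, l * h13 ^ 2, l * h23 ^ 2, l * h13 * h23} :
          Set (MvPolynomial (Fin 4) k)) ≤ LinearMap.eqLocus ι'.toLinearMap (-LinearMap.id) :=
        Submodule.span_le.2 fun g hg => by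
          simp only [Set.mem_insert_iff, Set.mem_singleton_iff] at hg
          rcases hg with rfl | rfl | rfl | rfl | rfl | rfl <;> simp [il, ih, ih13, ih23]
      exact this hf
  rw [Fintype.linearIndependent_iff]
  intro r hg i
  have e0 := congrArg (eval (![(1 : k), (2 : k), (0 : k), (1 : k)] : Fin 4 → k)) hg
  have e1 := congrArg (eval (![(2 : k), (0 : k), (1 : k), (-1 : k)] : Fin 4 → k)) hg
  have e2 := congrArg (eval (![(0 : k), (2 : k), (1 : k), (0 : k)] : Fin 4 → k)) hg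
  have e3 := congrArg (eval (![(-1 : k), (1 : k), (2 : k), (0 : k)] : Fin 4 → k)) hg
  have e4 := congrArg (eval (![(-1 : k), (-1 : k), (1 : k), (-1 : k)] : Fin 4 → k)) hg
  have e5 := congrArg (eval (![(2 : k), (2 : k), (-1 : k), (2 : k)] : Fin 4 → k)) hg
  have e6 := congrArg (eval (![(-1 : k), (0 : k), (0 : k), (2 : k)] : Fin 4 → k)) hg
  have e7 := congrArg (eval (![(0 : k), (1 : k), (1 : k), (1 : k)] : Fin 4 → k)) hg
  have e8 := congrArg (eval (![(2 : k), (1 : k), (2 : k), (1 : k)] : Fin 4 → k)) hg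
  have e9 := congrArg (eval (![(1 : k), (0 : k), (2 : k), (2 : k)] : Fin 4 → k)) hg
  simp [Fin.sum_univ_succ, hl, hh, hh13, hh23, hc, hh1, hh2, hh3] at e0 e1 e2 e3 e4 e5 e6 e7 e8 e9
  fin_cases i <;> simp only [Fin.zero_eta, Fin.mk_one, Fin.reduceFinMk, Fin.isValue]
  · exact e8.elim id (fun h => by norm_num at h)
  · linear_combination (1/48 : k) * e2 + (-1/48 : k) * e6
  · linear_combination (-1/32 : k) * e1 + (-5/96 : k) * e2 + (1/32 : k) * e3 + (5/96 : k) * e6
  · linear_combination (1/64 : k) * e1 + (1/24 : k) * e2 + (-1/64 : k) * e3 + (1/8 : k) * e4 + (-1/192 : k) * e5 + (-1/24 : k) * e6 + (-1/4 : k) * e7 + (-1/64 : k) * e9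
  · linear_combination (-1/144 : k) * e2 + (-1/144 : k) * e6
  · linear_combination (7/288 : k) * e2 + (-1/96 : k) * e3 + (1/288 : k) * e6 + (-1/96 : k) * e9
  · linear_combination (1/12 : k) * e0 + (1/64 : k) * e1 + (5/144 : k) * e2 + (-1/64 : k) * e3 + (1/8 : k) * e4 + (-1/192 : k) * e5 + (-11/288 : k) * e6 + (1/12 : k) * e7 + (-1/64 : k) * e9
  · linear_combination (-1/64 : k) * e1 + (-5/288 : k) * e2 + (1/96 : k) * e3 + (5/144 : k) * e6 + (5/192 : k) * e9
  · linear_combination (1/24 : k) * e0 + (1/288 : k) * e2 + (-1/576 : k) * e6 + (-1/12 : k) * e7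
  · linear_combination (1/24 : k) * e0 + (-1/16 : k) * e1 + (-31/288 : k) * e2 + (11/192 : k) * e3 + (-1/4 : k) * e4 + (1/192 : k) * e5 + (73/576 : k) * e6 + (1/6 : k) * e7 + (1/24 : k) * e9

end Groth.Agent.S16153
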