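import Groth.Statements.S16154
import Groth.Agent.Lib.CIProj14.Top
import Groth.Agent.Lib.Kleiman14.Dim

set_option autoImplicit false
set_option backward.isDefEq.respectTransparency.types false
set_option backward.isDefEq.respectTransparency false
set_option synthInstance.maxHeartbeats 400000
universe u
open CategoryTheory CategoryTheory.Limits AlgebraicGeometry
open WGauss

namespace Groth.Agent.S16154

/-- Let k be a field and X in projective n-space over k the common zero scheme of m forms G_j of degrees
d_1 >= d_2 >= ... >= d_m >= 2 (m >= 1), smooth over k of relative dimension kk >= 1 with kk + m = n,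
so that X is a smooth complete intersection of dimension kk whose twisted conormal bundle N_X^*(t)
is the direct sum of the O_X(t - d_j). Then, for an integer t, H^1(X, O_X(t - d_j)) = 0 for every j
(that is, H^1(X, N_X^*(t)) = 0) if and only if either kk >= 2, or kk = 1 and t > 2 d_1 + d_2 + ... +
d_m - n - 1. Here O_X(c) is the pullback of O(c) from projective space along the inclusion of X.
(The source works over the complex numbers with X smooth projective; the statement is given over any
field.) -/
theorem result
    (k : Type u) [Field k] (n kk m : ℕ) (hkk : 1 ≤ kk) (hm : 1 ≤ m) (hn : kk + m = n)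
    (d : Fin m → ℕ) (hd2 : ∀ j, 2 ≤ d j) (hanti : Antitone d)
    (G : ∀ j : Fin m, LefPen.Form n k (d j))
    [SmoothOfRelativeDimension kk ((LefPen.ciIdeal G).subschemeι ≫ CohB1.ProjSpace.toSpec n k)]
    (t : ℤ) :
    (∀ j : Fin m, Subsingleton (Coh.HH (LefPen.ciIdeal G).subscheme
        ((Scheme.Modules.pullback (LefPen.ciIdeal G).subschemeι).obj
          (Twist.twistProjSpace n k (t - (d j : ℤ)))) 1)) ↔
      (2 ≤ kk ∨ (kk = 1 ∧ ((d ⟨0, hm⟩ : ℤ) + ∑ j : Fin m, (d j : ℤ)) - (n : ℤ) - 1 < t)) := by
  have hdim : topologicalKrullDim ↥(LefPen.ciIdeal G).subscheme ≤ ((n - m : ℕ) : WithBot ℕ∞) := by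
    rw [show n - m = kk by omega]
    rcases isEmpty_or_nonempty ↥(LefPen.ciIdeal G).subscheme with h | h
    · haveI : IsEmpty (TopologicalSpace.IrreducibleCloseds ↥(LefPen.ciIdeal G).subscheme) :=
        ⟨fun Z => by obtain ⟨z, -⟩ := Z.isIrreducible'.nonempty; exact isEmptyElim z⟩
      rw [topologicalKrullDim, Order.krullDim_eq_bot]
      exact bot_le
    · exact (Groth.Agent.Kleiman14.dim_eq ((LefPen.ciIdeal G).subschemeι ≫ CohB1.ProjSpace.toSpec n k) kk).le
  have hd1 : ∀ j, 1 ≤ d j := fun j => le_trans one_le_two (hd2 j)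
  have hG := Groth.Agent.CIProj14.good_ciIdeal m d G hd1 (by omega) hdim
  have hT := Groth.Agent.CIProj14.top_ciIdeal m d G hd1 (by omega) hdim
  constructor
  · intro h
    by_contra hc
    simp only [not_or, not_le, not_and] at hc
    have hk1 : kk = 1 := by omega
    have hnm : n - m = 1 := by omega
    have h0 := h ⟨0, hm⟩
    have := Groth.Agent.CIProj14.not_subsingleton_top_of_le (LefPen.ciIdeal G).subschemeι hdim hT
      (l := t - (d ⟨0, hm⟩ : ℤ)) (by have := hc.2 hk1; omega)
    rw [hnm] at this
    exact this h0
  · rintro (h2 | ⟨h1, ht⟩) j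
    · exact hG.van _ 1 one_pos (by omega)
    · have := hT.van (t - (d j : ℤ)) (by
        have := hanti (show (⟨0, hm⟩ : Fin m) ≤ j from Nat.zero_le _)
        omega)
      rwa [show n - m = 1 by omega] at this

end Groth.Agent.S16154
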