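import Groth.Statements.S16156
import Mathlib

set_option autoImplicit false
universe u
open MukaiVec

namespace Groth.Agent.S16156

/-- Let N be an abelian group with a symmetric integer-valued bilinear form and H an element with H·H =
2n for some n > 0 such that every x with x·H = 0 satisfies x·x ≤ 0 (the Hodge index inequality). Fix
integers r ≥ 2, d > 0 and χ < 0 (a Mukai vector v = (r, dH, χ)) and an isotropic Mukai vector u =
(p, η, q), p ≥ 0, η ∈ N, η·η = 2pq, whose pairing ⟨v, u⟩ = d(H·η) − rq − χp has absolute value 1 or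
2. Exclude the case d = 1, χ = −1, H·η = 1, η·η = 0, and when r = 2 also the case p = 0, H·η = 0.
Then the pairings of u∨ = (p, −η, q) with w₀ = (0, rH, −2nd) and with w₁ = (2nd, −χH, 0) are both
non-negative or both negative: 2ndp − r(H·η) ≥ 0 holds if and only if χ(H·η) − 2ndq ≥ 0 holds. -/
theorem result
    (N : Type u) [AddCommGroup N] (B : LinearMap.BilinForm ℤ N) (hB : ∀ x y : N, B x y = B y x)
    (H : N) (n : ℤ) (hn : 0 < n) (hH : B H H = 2 * n) (hodge : ∀ x : N, B x H = 0 → B x x ≤ 0)
    (r d χ p q : ℤ) (η : N) (hr : 2 ≤ r) (hd : 0 < d) (hχ : χ < 0) (hp : 0 ≤ p)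
    (hiso : B η η = 2 * p * q)
    (hvu : 1 ≤ |d * B H η - r * q - χ * p| ∧ |d * B H η - r * q - χ * p| ≤ 2)
    (hexc : ¬ (d = 1 ∧ χ = -1 ∧ B H η = 1 ∧ B η η = 0))
    (hr2 : r = 2 → ¬ (p = 0 ∧ B H η = 0)) :
    (0 ≤ 2 * n * d * p - r * B H η ↔ 0 ≤ χ * B H η - 2 * n * d * q) := by
  set e := B H η with he
  have hη : B η H = e := by rw [hB]
  have hD : 4 * n * p * q ≤ e ^ 2 := by
    have hz := hodge ((2 * n) • η - e • H) (by simp [hη, hH]; ring)
    simp only [map_sub, map_smul, LinearMap.sub_apply, LinearMap.smul_apply, smul_eq_mul, hη, hiso, hH, ← he] at hz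
    by_contra hc
    push Not at hc
    nlinarith
  obtain ⟨hw1, hw2⟩ := hvu
  have hw2' := abs_le.1 hw2
  have hw0 : d * e - r * q - χ * p ≠ 0 := fun h => by rw [h] at hw1; norm_num at hw1
  rcases hp.eq_or_lt with rfl | hp0
  · simp only [mul_zero, sub_zero, zero_sub, zero_mul] at *
    rcases lt_trichotomy e 0 with he' | he' | he'
    · have hq : q ≤ 0 := by nlinarith
      exact iff_of_true (by nlinarith) (by nlinarith [mul_pos hn hd])
    · exfalso
      rw [he'] at hw0 hw2'
      simp only [mul_zero, zero_sub] at hw0 hw2'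
      have hq : q ≠ 0 := by rintro rfl; simp at hw0
      have : r = 2 := by
        rcases lt_or_gt_of_ne hq with hq | hq <;> nlinarith
      exact hr2 this ⟨trivial, he'⟩
    · have hq : 0 ≤ q := by nlinarith
      exact iff_of_false (by nlinarith) (by nlinarith [mul_pos hn hd])
  · rcases lt_trichotomy q 0 with hq | rfl | hq
    · rcases le_or_gt e 0 with he' | he'
      · exact iff_of_true (by nlinarith [mul_pos (mul_pos hn hd) hp0]) (by nlinarith [mul_pos hn hd])
      · exfalso; nlinarith
    · rcases le_or_gt e 0 with he' | he'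
      · exact iff_of_true (by nlinarith [mul_pos (mul_pos hn hd) hp0]) (by nlinarith)
      · exfalso
        have h1 : d * e + -χ * p ≤ 2 := by linarith
        have hde : 1 ≤ d * e := by nlinarith
        have hcp : 1 ≤ -χ * p := by nlinarith
        have h2 : d * e = 1 := by omega
        have h3 : -χ * p = 1 := by omega
        obtain ⟨hd1, he1⟩ := (Int.mul_eq_one_iff_eq_one_or_neg_one.1 h2).resolve_right (by omega)
        obtain ⟨hc1, -⟩ := (Int.mul_eq_one_iff_eq_one_or_neg_one.1 h3).resolve_right (by omega)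
        exact hexc ⟨hd1, by omega, he1, by rw [hiso]; ring⟩
    · have hpq : 0 < n * p * q := by positivity
      rcases lt_trichotomy e 0 with he' | he' | he'
      · refine iff_of_true (by nlinarith [mul_pos (mul_pos hn hd) hp0]) ?_
        by_contra hc
        push Not at hc
        have h1 : 0 ≤ r * q + (d * e - r * q - χ * p) := by nlinarith
        have h2 : (χ * e - 2 * n * d * q) * p < 0 := mul_neg_of_neg_of_pos hc hp0
        nlinarith [mul_le_mul_of_nonneg_left hD hd.le, mul_nonneg h1 (neg_nonneg.2 he'.le), mul_pos hd (mul_pos_of_neg_of_neg he' he')]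
      · rw [he'] at hD; nlinarith
      · refine iff_of_false ?_ (by nlinarith [mul_pos (mul_pos hn hd) hq])
        intro hA
        have h1 : 2 * (r * q) ≤ d * e := by
          by_contra hc
          push Not at hc
          nlinarith [mul_le_mul_of_nonneg_left hA hq.le, mul_le_mul_of_nonneg_left hD hd.le, mul_lt_mul_of_pos_right hc he']
        have : χ * p < 0 := mul_neg_of_neg_of_pos hχ hp0
        nlinarith

end Groth.Agent.S16156
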