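import Groth.Statements.S16158
import Mathlib.LinearAlgebra.FreeModule.StrongRankCondition
import Mathlib.LinearAlgebra.Dimension.StrongRankCondition
import Mathlib.Algebra.Module.Torsion.Basic
import Mathlib.RingTheory.Ideal.AssociatedPrime.Finiteness
-- import your own Groth.Agent.* helpers here

set_option autoImplicit false
universe u v w
open MadRed

namespace Groth.Agent.S16158

/-- Let R be a commutative Noetherian ring and M a finitely generated R-module. Then there is a natural
number n such that in every decomposition of M as an internal direct sum of a family of submodules,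
at most n of the summands are nonzero (the nonzero summands are indexed by a finite set of size at
most n). -/
theorem result (R : Type u) [CommRing R] [IsNoetherianRing R]
    (M : Type v) [AddCommGroup M] [Module R M] [Module.Finite R M] :
    ∃ n : ℕ, ∀ (ι : Type w) [DecidableEq ι] (N : ι → Submodule R M), DirectSum.IsInternal N →
      ∃ s : Finset ι, s.card ≤ n ∧ ∀ i, N i ≠ ⊥ → i ∈ s := by
  classical
  have hfin : (associatedPrimes R M).Finite := associatedPrimes.finite R M
  have hgen : ∀ p : Ideal R, ∃ s : Finset ↥(Submodule.torsionBySet R M (p : Set R)),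
      Submodule.span R (s : Set ↥(Submodule.torsionBySet R M (p : Set R))) = ⊤ :=
    fun p => Module.Finite.fg_top
  choose g hg using hgen
  refine ⟨∑ p ∈ hfin.toFinset, (g p).card, fun ι _ N hN => ?_⟩
  have hind : iSupIndep N := hN.submodule_iSupIndep
  have hchoice : ∀ i : {i // N i ≠ ⊥}, ∃ p : Ideal R, ∃ x : M, p ∈ associatedPrimes R M ∧
      p.IsPrime ∧ x ∈ N i.1 ∧ ∀ r : R, r ∈ p ↔ r • x = 0 := by
    rintro ⟨i, hi⟩
    have : Nontrivial (N i) := Submodule.nontrivial_iff_ne_bot.mpr hi
    obtain ⟨p, hp⟩ := associatedPrimes.nonempty R (N i)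
    obtain ⟨hpp, x, hx⟩ := isAssociatedPrime_iff.mp hp
    refine ⟨p, x, associatedPrimes.subset_of_injective (f := (N i).subtype)
      Subtype.val_injective hp, hpp, x.2, fun r => ?_⟩
    rw [hx, Submodule.mem_colon_singleton, Submodule.mem_bot]
    exact Subtype.ext_iff
  choose p x hp hpp hx hann using hchoice
  have bound : ∀ t : Finset {i // N i ≠ ⊥}, t.card ≤ ∑ q ∈ hfin.toFinset, (g q).card := by
    intro t
    rw [Finset.card_eq_sum_card_fiberwise (f := p) (t := hfin.toFinset)
      (fun i _ => hfin.mem_toFinset.mpr (hp i))]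
    refine Finset.sum_le_sum fun q hq => ?_
    set s := t.filter fun i => p i = q
    rcases s.eq_empty_or_nonempty with hs | ⟨i₀, hi₀⟩
    · simp [hs]
    have hqp : q.IsPrime := (Finset.mem_filter.mp hi₀).2 ▸ hpp i₀
    let T := Submodule.torsionBySet R M (q : Set R)
    have hxT : ∀ i : s, x i.1 ∈ T := fun i => by
      rw [Submodule.mem_torsionBySet_iff]
      rintro ⟨a, ha⟩
      exact (hann i.1 a).mp ((Finset.mem_filter.mp i.2).2.symm ▸ ha)
    let v : s → T := fun i => ⟨x i.1, hxT i⟩
    have hli : LinearIndependent (R ⧸ q) v := by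
      rw [Fintype.linearIndependent_iff]
      intro c hc i
      obtain ⟨r, hr⟩ : ∃ r : s → R, ∀ i, Ideal.Quotient.mk q (r i) = c i :=
        ⟨fun i => (Ideal.Quotient.mk_surjective (c i)).choose,
          fun i => (Ideal.Quotient.mk_surjective (c i)).choose_spec⟩
      have hsum : ∑ j : s, r j • x j.1 = 0 := by
        have := congrArg Subtype.val hc
        simpa [v, ← hr, Submodule.torsionBySet.mk_smul] using this
      have hz : r i • x i.1 = 0 := by
        have hd := hind i.1.1
        rw [← Finset.add_sum_erase _ _ (Finset.mem_univ i)] at hsum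
        refine Submodule.disjoint_def.mp hd _ ((N i.1.1).smul_mem _ (hx i.1)) ?_
        rw [eq_neg_of_add_eq_zero_left hsum]
        refine Submodule.neg_mem _ (Submodule.sum_mem _ fun j hj => ?_)
        exact Submodule.mem_iSup_of_mem j.1.1 (Submodule.mem_iSup_of_mem
          (fun h => (Finset.mem_erase.mp hj).1 (Subtype.ext (Subtype.ext h)))
          (Submodule.smul_mem _ _ (hx j.1)))
      rw [← hr, Ideal.Quotient.eq_zero_iff_mem]
      exact (Finset.mem_filter.mp i.2).2 ▸ (hann i.1 (r i)).mpr hz
    have hsp : Submodule.span (R ⧸ q) ((g q : Set T)) = ⊤ := by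
      rw [eq_top_iff]
      intro y _
      have hy : y ∈ Submodule.span R (g q : Set T) := hg q ▸ Submodule.mem_top
      exact Submodule.span_le_restrictScalars R (R ⧸ q) _ hy
    have : Nontrivial (R ⧸ q) := Ideal.Quotient.nontrivial_iff.mpr hqp.ne_top
    have := linearIndependent_le_span v hli (g q : Set T) hsp
    simpa using this
  have : Finite {i // N i ≠ ⊥} := by
    by_contra h
    rw [not_finite_iff_infinite] at h
    obtain ⟨t, ht⟩ := Infinite.exists_subset_card_eq {i // N i ≠ ⊥}
      (∑ q ∈ hfin.toFinset, (g q).card + 1)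
    have := bound t
    omega
  have := Fintype.ofFinite {i // N i ≠ ⊥}
  refine ⟨(Finset.univ : Finset {i // N i ≠ ⊥}).map ⟨Subtype.val, Subtype.val_injective⟩, ?_, fun i hi => ?_⟩
  · rw [Finset.card_map]
    exact bound _
  · simp [hi]

end Groth.Agent.S16158
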