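import Groth.Statements.S1616
import Groth.Agent.Lib.Segre.Basic

set_option autoImplicit false
universe u
open CategoryTheory CategoryTheory.Limits AlgebraicGeometry
open Constr

namespace Groth.Agent.S1616

/-- For any scheme S and n, m ≥ 0 there is a closed immersion from P^n_S ×_S P^m_S into P^{nm+n+m}_S
compatible with the projections to S. -/
theorem result (S : Scheme.{u}) (n m : ℕ) :
    ∃ φ : pullback (CohB1.ProjSpaceOver.toBase n S) (CohB1.ProjSpaceOver.toBase m S) ⟶ CohB1.ProjSpaceOver (n * m + n + m) S,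
      IsClosedImmersion φ ∧ φ ≫ CohB1.ProjSpaceOver.toBase (n * m + n + m) S =
        pullback.fst (CohB1.ProjSpaceOver.toBase n S) (CohB1.ProjSpaceOver.toBase m S) ≫ CohB1.ProjSpaceOver.toBase n S := by
  obtain ⟨φ0, hφ0, hb⟩ := Groth.Agent.Segre.exists_segre (ULift.{u} ℤ) (n := n) (m := m)
    ((finCongr (by ring : n * m + n + m + 1 = (n + 1) * (m + 1))).trans finProdFinEquiv.symm)
  let pn := CohB1.ProjSpace.toSpec n (ULift.{u} ℤ)
  let pm := CohB1.ProjSpace.toSpec m (ULift.{u} ℤ)
  let t := specULiftZIsTerminal.from S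
  let A := CohB1.ProjSpaceOver.toBase n S
  let B := CohB1.ProjSpaceOver.toBase m S
  let f : pullback A B ⟶ pullback pn pm :=
    pullback.lift (pullback.fst A B ≫ pullback.fst pn t) (pullback.snd A B ≫ pullback.fst pm t)
      (specULiftZIsTerminal.hom_ext _ _)
  let φ : pullback A B ⟶ CohB1.ProjSpaceOver (n * m + n + m) S :=
    pullback.lift (f ≫ φ0) (pullback.fst A B ≫ A) (specULiftZIsTerminal.hom_ext _ _)
  have hφ : φ ≫ CohB1.ProjSpaceOver.toBase (n * m + n + m) S = pullback.fst A B ≫ A := pullback.lift_snd _ _ _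
  refine ⟨φ, ?_, hφ⟩
  have : IsProper A := MorphismProperty.pullback_snd _ _ inferInstance
  have : IsProper B := MorphismProperty.pullback_snd _ _ inferInstance
  have : IsProper (CohB1.ProjSpaceOver.toBase (n * m + n + m) S) := MorphismProperty.pullback_snd _ _ inferInstance
  have : IsProper (φ ≫ CohB1.ProjSpaceOver.toBase (n * m + n + m) S) := by rw [hφ]; infer_instance
  have : IsProper φ := IsProper.of_comp φ (CohB1.ProjSpaceOver.toBase (n * m + n + m) S)
  have : Mono φ := ⟨fun {T} a b hab => by
    have e0 : φ ≫ pullback.fst (CohB1.ProjSpace.toSpec (n * m + n + m) (ULift.{u} ℤ)) t = f ≫ φ0 :=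
      pullback.lift_fst _ _ _
    have e1 : f ≫ pullback.fst pn pm = pullback.fst A B ≫ pullback.fst pn t := pullback.lift_fst _ _ _
    have e2 : f ≫ pullback.snd pn pm = pullback.snd A B ≫ pullback.fst pm t := pullback.lift_snd _ _ _
    have h1 : a ≫ f = b ≫ f := (cancel_mono φ0).mp (by
      rw [Category.assoc, Category.assoc, ← e0]
      exact (Category.assoc _ _ _).symm.trans ((congrArg (· ≫ _) hab).trans (Category.assoc _ _ _)))
    have hA : a ≫ pullback.fst A B ≫ A = b ≫ pullback.fst A B ≫ A := by
      rw [← hφ]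
      exact (Category.assoc _ _ _).symm.trans ((congrArg (· ≫ _) hab).trans (Category.assoc _ _ _))
    refine pullback.hom_ext ?_ ?_
    · refine pullback.hom_ext ?_ ?_
      · show (a ≫ pullback.fst A B) ≫ pullback.fst pn t = (b ≫ pullback.fst A B) ≫ pullback.fst pn t
        rw [Category.assoc, Category.assoc, ← e1, reassoc_of% h1]
      · exact (Category.assoc _ _ _).trans (hA.trans (Category.assoc _ _ _).symm)
    · refine pullback.hom_ext ?_ ?_
      · show (a ≫ pullback.snd A B) ≫ pullback.fst pm t = (b ≫ pullback.snd A B) ≫ pullback.fst pm t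
        rw [Category.assoc, Category.assoc, ← e2, reassoc_of% h1]
      · show (a ≫ pullback.snd A B) ≫ B = (b ≫ pullback.snd A B) ≫ B
        rw [Category.assoc, Category.assoc, ← pullback.condition]
        exact hA⟩
  exact (IsClosedImmersion.iff_isProper_and_mono φ).mpr ⟨inferInstance, inferInstance⟩

end Groth.Agent.S1616
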