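import Groth.Statements.S16160
import Mathlib.RingTheory.Finiteness.Basic
import Groth.Agent.Lib.SimDiag.Basic
-- import your own Groth.Agent.* helpers here

set_option autoImplicit false
universe u v w
open scoped TensorProduct
open MadRed

namespace Groth.Agent.S16160

/-- Let k be a field, G = Spec A an affine k-group with A a commutative Hopf algebra over k, and R a
commutative Noetherian k-algebra, so that R ⊗ A is the coordinate ring of the base change G_R and
the k-algebra maps A → R are its R-valued points. Let H be a set of R-valued points which pairwise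
commute for the convolution product of G(R) (the case of an abelian subgroup of G(R)). If every g in
H is diagonalizable over k on R ⊗ A, meaning that the eigenspaces of right translation by g, for
eigenvalues in k, span R ⊗ A, then H is simultaneously diagonalizable over k on R ⊗ A: the common
eigenspaces of the right translations by all g in H span R ⊗ A. The standing assumptions of the
source at this point (k algebraically closed of characteristic zero, G reductive) are not used. -/
theorem result (k : Type u) [Field k]
    (A : Type v) [CommRing A] [HopfAlgebra k A] (R : Type w) [CommRing R] [Algebra k R]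
    [IsNoetherianRing R] (H : Set (A →ₐ[k] R))
    (hcomm : ∀ g ∈ H, ∀ h ∈ H,
      WithConv.toConv g * WithConv.toConv h = WithConv.toConv h * WithConv.toConv g)
    (hdiag : ∀ g ∈ H, ⨆ μ : k,
      Module.End.eigenspace (((MadRed.ptAct k A R g).toLinearMap).restrictScalars k) μ = ⊤) :
    ⨆ χ : H → k, ⨅ g : H,
      Module.End.eigenspace (((MadRed.ptAct k A R g.1).toLinearMap).restrictScalars k) (χ g) = ⊤ := by
  classical
  -- right translation by the unit is the identity, and composition is convolution
  have hinl : ∀ r : R, ∀ a : A, r ⊗ₜ[k] a = r • ((1 : R) ⊗ₜ[k] a) := fun r a => by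
    rw [TensorProduct.smul_tmul', smul_eq_mul, mul_one]
  have hone : ∀ (g : A →ₐ[k] R) (a : A), MadRed.ptAct k A R g ((1 : R) ⊗ₜ a) =
      ∑ i ∈ (Coalgebra.Repr.arbitrary k a).index,
        g ((Coalgebra.Repr.arbitrary k a).right i) ⊗ₜ[k] (Coalgebra.Repr.arbitrary k a).left i := by
    intro g a
    simp [MadRed.ptAct, MadRed.translAux, ← (Coalgebra.Repr.arbitrary k a).eq, map_sum,
      Algebra.TensorProduct.lift_tmul, ← Algebra.TensorProduct.one_def]
  have hunit : ∀ a : A,
      MadRed.ptAct k A R (1 : WithConv (A →ₐ[k] R)).ofConv ((1 : R) ⊗ₜ a) = (1 : R) ⊗ₜ a := by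
    intro a
    rw [hone]
    have h := congrArg ((TensorProduct.comm k A R).toLinearMap ∘ₗ TensorProduct.map LinearMap.id (Algebra.linearMap k R))
      (Coalgebra.sum_tmul_counit_eq (Coalgebra.Repr.arbitrary k a))
    simp only [map_sum, LinearMap.comp_apply, TensorProduct.map_tmul, LinearMap.id_apply,
      LinearEquiv.coe_coe, TensorProduct.comm_tmul, Algebra.linearMap_apply, map_one] at h
    exact h
  have hmul : ∀ g h : A →ₐ[k] R, ∀ z : R ⊗[k] A,
      MadRed.ptAct k A R g (MadRed.ptAct k A R h z) =
        MadRed.ptAct k A R (WithConv.toConv g * WithConv.toConv h).ofConv z := by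
    intro g h z
    induction z with
    | zero => simp
    | add x y hx hy => simp [hx, hy]
    | tmul r a =>
      rw [hinl r a, map_smul, map_smul, map_smul]
      congr 1
      set repr := Coalgebra.Repr.arbitrary k a
      rw [hone h a, hone _ a, map_sum]
      rw [Finset.sum_congr rfl fun i _ =>
        show MadRed.ptAct k A R g (h (repr.right i) ⊗ₜ[k] repr.left i) =
          h (repr.right i) • MadRed.ptAct k A R g ((1 : R) ⊗ₜ[k] repr.left i) by
            rw [← map_smul, ← hinl]]
      simp only [hone g, Finset.smul_sum, TensorProduct.smul_tmul', smul_eq_mul]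
      let a₁ := fun i => Coalgebra.Repr.arbitrary k (repr.left i)
      let a₂ := fun i => Coalgebra.Repr.arbitrary k (repr.right i)
      let Φ : A ⊗[k] (A ⊗[k] A) →ₗ[k] R ⊗[k] A :=
        TensorProduct.comm k A R ∘ₗ TensorProduct.map LinearMap.id
          (LinearMap.mul' k R ∘ₗ TensorProduct.map g.toLinearMap h.toLinearMap)
      have key := congrArg Φ (Coalgebra.sum_tmul_tmul_eq repr a₁ a₂)
      simp only [Φ, map_sum, LinearMap.comp_apply, TensorProduct.map_tmul, LinearMap.id_apply,
        LinearMap.mul'_apply, LinearEquiv.coe_coe, TensorProduct.comm_tmul,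
        AlgHom.toLinearMap_apply] at key
      refine Eq.trans ?_ (key.trans ?_)
      · exact Finset.sum_congr rfl fun i _ => Finset.sum_congr rfl fun j _ => by rw [mul_comm]
      · refine Finset.sum_congr rfl fun i _ => ?_
        rw [← TensorProduct.sum_tmul]
        congr 1
        rw [AlgHom.convMul_apply, ← (a₂ i).eq]
        simp [map_sum]
  refine Groth.Agent.SimDiag.iSup_iInf_eigenspace_eq_top
    (fun g : H => (MadRed.ptAct k A R g.1).toLinearMap) ?_ (fun g => hdiag g.1 g.2) ?_
  · rintro ⟨g, hg⟩ ⟨h, hh⟩
    refine LinearMap.ext fun z => ?_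
    show MadRed.ptAct k A R g (MadRed.ptAct k A R h z) = MadRed.ptAct k A R h (MadRed.ptAct k A R g z)
    rw [hmul, hmul, hcomm g hg h hh]
  · intro v
    induction v with
    | zero => exact ⟨⊥, zero_mem _, Submodule.fg_bot, fun i w hw => by
        rw [(Submodule.mem_bot R).mp hw, map_zero]; exact zero_mem _⟩
    | add x y hx hy =>
      obtain ⟨W, h1, h2, h3⟩ := hx
      obtain ⟨W', h1', h2', h3'⟩ := hy
      refine ⟨W ⊔ W', Submodule.add_mem_sup h1 h1', h2.sup h2', fun i w hw => ?_⟩
      obtain ⟨a, ha, b, hb, rfl⟩ := Submodule.mem_sup.mp hw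
      rw [map_add]
      exact Submodule.add_mem_sup (h3 i a ha) (h3' i b hb)
    | tmul r a =>
      let T : Set (R ⊗[k] A) := Set.range fun g : A →ₐ[k] R => MadRed.ptAct k A R g ((1 : R) ⊗ₜ a)
      refine ⟨Submodule.span R T, ?_, ?_, ?_⟩
      · rw [hinl]
        exact Submodule.smul_mem _ _ (Submodule.subset_span ⟨_, hunit a⟩)
      · let B : Finset (R ⊗[k] A) := (Coalgebra.Repr.arbitrary k a).index.image
          fun i => (1 : R) ⊗ₜ[k] (Coalgebra.Repr.arbitrary k a).left i
        have hle : Submodule.span R T ≤ Submodule.span R (B : Set (R ⊗[k] A)) := by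
          rw [Submodule.span_le]
          rintro _ ⟨g, rfl⟩
          simp only [hone]
          refine Submodule.sum_mem _ fun i hi => ?_
          rw [hinl]
          exact Submodule.smul_mem _ _ (Submodule.subset_span
            (Finset.mem_coe.mpr (Finset.mem_image_of_mem _ hi)))
        exact Submodule.FG.of_le ⟨B, rfl⟩ hle
      · intro i w hw
        induction hw using Submodule.span_induction with
        | mem x hx =>
          obtain ⟨g, rfl⟩ := hx
          refine Submodule.subset_span ⟨_, (hmul i.1 g _).symm⟩
        | zero => simp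
        | add x y _ _ hx hy => rw [map_add]; exact add_mem hx hy
        | smul c x _ hx => rw [map_smul]; exact Submodule.smul_mem _ c hx

end Groth.Agent.S16160
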