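import Groth.Statements.S16161
import Mathlib.RingTheory.Polynomial.Basic
import Mathlib.LinearAlgebra.Eigenspace.Basic
import Mathlib.FieldTheory.IsAlgClosed.Basic
import Mathlib.FieldTheory.Separable
-- import your own Groth.Agent.* helpers here

set_option autoImplicit false
universe u v
open MadRed

namespace Groth.Agent.S16161

/-- Let k be an algebraically closed field of characteristic zero and R a reduced finitely generated
commutative k-algebra whose spectrum is connected (R has no idempotents besides 0 and 1); let W =
R^n be a free R-module of finite rank and g an R-linear endomorphism of W of finite order, g^m = 1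
with m > 0 (an element of finite order of GL(W)(R)). Then the action of g on W is diagonalizable
over k: viewing g as a k-linear map, its eigenspaces for eigenvalues in k span W. The source also
assumes that g is diagonalizable over k on every fibre W ⊗ k(x), x a point of Spec R; for g of
finite order this holds automatically (k is algebraically closed of characteristic zero), as the
source itself notes, so that hypothesis is omitted. -/
theorem result
    (k : Type u) [Field k] [IsAlgClosed k] [CharZero k]
    (R : Type v) [CommRing R] [Algebra k R] [IsReduced R] [Algebra.FiniteType k R]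
    (hconn : ∀ e : R, IsIdempotentElem e → e = 0 ∨ e = 1)
    (n : ℕ) (g : Module.End R (Fin n → R)) (m : ℕ) (hm : 0 < m) (hg : g ^ m = 1) :
    ⨆ μ : k, Module.End.eigenspace (g.restrictScalars k) μ = ⊤ := by
  classical
  let p : Polynomial k := Polynomial.X ^ m - Polynomial.C 1
  have hm' : (m : k) ≠ 0 := Nat.cast_ne_zero.mpr hm.ne'
  have hp : p.Separable := Polynomial.separable_X_pow_sub_C 1 hm' one_ne_zero
  have hsplit : ((p.roots.toFinset).prod fun μ => Polynomial.X - Polynomial.C μ) = p := by
    rw [Finset.prod, Multiset.toFinset_val, (Multiset.dedup_eq_self.mpr (Polynomial.nodup_roots hp))]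
    exact ((IsAlgClosed.splits p).eq_prod_roots_of_monic (Polynomial.monic_X_pow_sub_C 1 hm.ne')).symm
  let g' : Module.End k (Fin n → R) := g.restrictScalars k
  have hker : LinearMap.ker (Polynomial.aeval g' p) = ⊤ := by
    rw [LinearMap.ker_eq_top]
    have hpow : g' ^ m = 1 := by
      refine LinearMap.ext fun x => ?_
      have := LinearMap.congr_fun hg x
      simpa [Module.End.pow_apply, g'] using this
    simp [p, hpow]
  have key : ∀ s : Finset k, LinearMap.ker (Polynomial.aeval g' (s.prod fun μ => Polynomial.X - Polynomial.C μ)) ≤
      ⨆ μ : k, Module.End.eigenspace g' μ := by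
    intro s
    induction s using Finset.induction_on with
    | empty => simp [Module.End.one_eq_id]
    | @insert a s ha ih =>
      rw [Finset.prod_insert ha, ← Polynomial.sup_ker_aeval_eq_ker_aeval_mul_of_coprime g'
        (IsCoprime.prod_right fun i hi => Polynomial.isCoprime_X_sub_C_of_isUnit_sub
          (sub_ne_zero.mpr fun h => ha (by rw [h]; exact hi)).isUnit)]
      refine sup_le (le_iSup_of_le a ?_) ih
      rw [Module.End.eigenspace_def]
      simp [Algebra.algebraMap_eq_smul_one]
  rw [eq_top_iff, ← hker, ← hsplit]
  exact key _

end Groth.Agent.S16161
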