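import Groth.Statements.S16170
import Mathlib.LinearAlgebra.Matrix.DotProduct
import Mathlib.LinearAlgebra.Matrix.ToLin
import Mathlib.Tactic.Ring

set_option autoImplicit false
open Neron

namespace Groth.Agent.S16170

theorem dot_symm {ι : Type} [Fintype ι] (M : Matrix ι ι ℤ) (hM : M.IsSymm) (v w : ι → ℤ) :
    v ⬝ᵥ M.mulVec w = w ⬝ᵥ M.mulVec v := by
  rw [Matrix.dotProduct_mulVec, ← Matrix.mulVec_transpose, hM.eq, dotProduct_comm]


/-- Let M and N be symmetric positive-semidefinite integer matrices on the same finite index set whose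
sum M + N is positive definite, and let χ₁, χ₂ be integer matrices with χ₁ + χ₂ = 1 and M χ₂ = N χ₁.
Then χ₁ and χ₂ are idempotent. (In the intended application M = Pᵀ Ψ₁ P and N = Qᵀ Ψ₂ Q for
surjective integer matrices P, Q and positive-definite Ψ₁, Ψ₂.) -/
theorem result
    {ι : Type} [Fintype ι] [DecidableEq ι]
    (M N χ₁ χ₂ : Matrix ι ι ℤ) (hM : M.IsSymm) (hN : N.IsSymm)
    (hMpos : ∀ v : ι → ℤ, 0 ≤ v ⬝ᵥ M.mulVec v) (hNpos : ∀ v : ι → ℤ, 0 ≤ v ⬝ᵥ N.mulVec v)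
    (hpos : ∀ v : ι → ℤ, v ≠ 0 → 0 < v ⬝ᵥ (M + N).mulVec v)
    (hsum : χ₁ + χ₂ = 1) (hrel : M * χ₂ = N * χ₁) :
    χ₁ * χ₁ = χ₁ ∧ χ₂ * χ₂ = χ₂ := by
  have hPT : ∀ v, (M + N).mulVec (χ₁.mulVec v) = M.mulVec v := by
    intro v
    rw [Matrix.mulVec_mulVec, show (M + N) * χ₁ = M by rw [add_mul, ← hrel, ← mul_add, hsum, mul_one]]
  have hS : χ₂ = 1 - χ₁ := eq_sub_of_add_eq' hsum
  have hPS : ∀ v, (M + N).mulVec (χ₂.mulVec v) = N.mulVec v := by
    intro v
    rw [Matrix.mulVec_mulVec, show (M + N) * χ₂ = N by rw [add_mul, hrel, ← mul_add, hsum, mul_one]]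
  set B : (ι → ℤ) → (ι → ℤ) → ℤ := fun v w => v ⬝ᵥ (M + N).mulVec w with hB
  have Bsymm : ∀ v w, B v w = B w v := fun v w => dot_symm (M + N) (hM.add hN) v w
  have adjT : ∀ v w, B (χ₁.mulVec v) w = B v (χ₁.mulVec w) := by
    intro v w
    rw [Bsymm]
    show w ⬝ᵥ (M + N).mulVec _ = v ⬝ᵥ (M + N).mulVec _
    rw [hPT, hPT]
    exact dot_symm M hM w v
  have adjS : ∀ v w, B (χ₂.mulVec v) w = B v (χ₂.mulVec w) := by
    intro v w
    rw [Bsymm]
    show w ⬝ᵥ (M + N).mulVec _ = v ⬝ᵥ (M + N).mulVec _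
    rw [hPS, hPS]
    exact dot_symm N hN w v
  have sum' : ∀ v, χ₁.mulVec v + χ₂.mulVec v = v := fun v => by
    rw [← Matrix.add_mulVec, hsum, Matrix.one_mulVec]
  have comm : ∀ v, χ₁.mulVec (χ₂.mulVec v) = χ₂.mulVec (χ₁.mulVec v) := by
    intro v
    rw [Matrix.mulVec_mulVec, Matrix.mulVec_mulVec, hS, mul_sub, sub_mul, mul_one, one_mul]
  have addr : ∀ u v w, B u (v + w) = B u v + B u w := fun u v w => by
    simp only [hB, Matrix.mulVec_add, dotProduct_add]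
  have addl : ∀ u v w, B (u + v) w = B u w + B v w := fun u v w => add_dotProduct _ _ _
  -- the mixed form is non-negative
  have mixed : ∀ v, 0 ≤ B (χ₁.mulVec v) (χ₂.mulVec v) := by
    intro v
    have e : B (χ₁.mulVec v) (χ₂.mulVec v) = χ₁.mulVec v ⬝ᵥ N.mulVec (χ₁.mulVec v) +
        χ₂.mulVec v ⬝ᵥ M.mulVec (χ₂.mulVec v) := by
      rw [← hPS, ← hPT]
      show _ = B (χ₁.mulVec v) (χ₂.mulVec (χ₁.mulVec v)) + B (χ₂.mulVec v) (χ₁.mulVec (χ₂.mulVec v))
      rw [adjT v, adjT v, adjS v, ← comm (χ₂.mulVec v), ← addr, ← Matrix.mulVec_add, ← Matrix.mulVec_add, sum']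
    rw [e]
    exact add_nonneg (hNpos _) (hMpos _)
  have qnn : ∀ w, 0 ≤ B w w := fun w => by
    by_cases hw : w = 0
    · simp [hB, hw]
    · exact (hpos w hw).le
  have qdef : ∀ w, B w w ≤ 0 → w = 0 := fun w h => by
    by_contra hw; exact absurd (hpos w hw) (not_lt.2 h)
  have split : ∀ w, B w w = B (χ₁.mulVec w) (χ₁.mulVec w) + 2 * B (χ₁.mulVec w) (χ₂.mulVec w) +
      B (χ₂.mulVec w) (χ₂.mulVec w) := by
    intro w
    conv_lhs => rw [← sum' w, addl, addr, addr, Bsymm (χ₂.mulVec w) (χ₁.mulVec w)]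
    ring
  have desc : ∀ v, χ₁.mulVec (χ₂.mulVec v) ≠ 0 →
      B (χ₁.mulVec (χ₂.mulVec v)) (χ₁.mulVec (χ₂.mulVec v)) < B v v ∧
        χ₁.mulVec (χ₂.mulVec (χ₁.mulVec (χ₂.mulVec v))) ≠ 0 := by
    intro v hv
    constructor
    · have a1 := split v
      have a2 := split (χ₂.mulVec v)
      have a3 := mixed v
      have a4 := mixed (χ₂.mulVec v)
      have a5 := qnn (χ₁.mulVec v)
      by_contra hc
      have h6 : χ₂.mulVec (χ₂.mulVec v) = 0 := qdef _ (by omega)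
      have h7 : χ₂.mulVec v = 0 := qdef _ (by rw [adjS, h6]; simp [hB])
      exact hv (by rw [h7, Matrix.mulVec_zero])
    · intro h0
      refine hv (qdef _ ?_)
      rw [adjT, adjS, ← comm, h0]
      simp [hB]
  have zero : ∀ (n : ℕ) (v : ι → ℤ), B v v ≤ n → χ₁.mulVec (χ₂.mulVec v) = 0 := by
    intro n
    induction n with
    | zero =>
      intro v hv
      rw [qdef v (by exact_mod_cast hv), Matrix.mulVec_zero, Matrix.mulVec_zero]
    | succ n ih =>
      intro v hv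
      by_contra hne
      obtain ⟨h1, h2⟩ := desc v hne
      exact h2 (ih _ (by push_cast at hv; omega))
  have hK : χ₁ * χ₂ = 0 := by
    refine Matrix.ext_iff_mulVec.2 fun v => ?_
    rw [← Matrix.mulVec_mulVec, zero (B v v).toNat v (Int.self_le_toNat _), Matrix.zero_mulVec]
  have h1 : χ₁ * χ₁ = χ₁ := by
    rw [hS, mul_sub, mul_one, sub_eq_zero] at hK
    exact hK.symm
  refine ⟨h1, ?_⟩
  rw [hS, sub_mul, mul_sub, mul_sub, h1]
  simp

end Groth.Agent.S16170
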