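import Groth.Statements.S16164
import Groth.Agent.S16170
import Mathlib.Data.Matrix.ColumnRowPartitioned
import Mathlib.Tactic.Linarith

set_option autoImplicit false
open Neron

namespace Groth.Agent.S16164

/-- Let X, Y₁, Y₂ be finitely generated free abelian groups with chosen bases, so that homomorphisms are
integer matrices acting on column vectors and each group is identified with its dual; let P : X → Y₁
and Q : X → Y₂ be surjective with A = (P over Q) : X → Y₁ ⊕ Y₂ injective, and let Ψ₁, Ψ₂ be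
symmetric positive-definite integer matrices on Y₁ and Y₂, Ψ their block-diagonal sum. If the image
of Aᵀ Ψ : Y₁ ⊕ Y₂ → X coincides with the image of Aᵀ Ψ A : X → X (the reverse inclusion always
holds), then A is bijective. (In the source X, Y₁, Y₂ are character groups of maximal tori, P and Q
specialization maps, Ψ₁ and Ψ₂ monodromy pairings, and the hypothesis expresses that two groups of
components coincide.) -/
theorem result
    {ι κ₁ κ₂ : Type} [Fintype ι] [Fintype κ₁] [Fintype κ₂]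
    (P : Matrix κ₁ ι ℤ) (Q : Matrix κ₂ ι ℤ)
    (hP : Function.Surjective P.mulVec) (hQ : Function.Surjective Q.mulVec)
    (hA : Function.Injective (Matrix.fromRows P Q).mulVec)
    (Ψ₁ : Matrix κ₁ κ₁ ℤ) (Ψ₂ : Matrix κ₂ κ₂ ℤ) (hΨ₁ : Ψ₁.IsSymm) (hΨ₂ : Ψ₂.IsSymm)
    (hΨ₁pos : ∀ y : κ₁ → ℤ, y ≠ 0 → 0 < y ⬝ᵥ Ψ₁.mulVec y)
    (hΨ₂pos : ∀ y : κ₂ → ℤ, y ≠ 0 → 0 < y ⬝ᵥ Ψ₂.mulVec y)
    (himage : LinearMap.range ((Matrix.fromRows P Q).transpose * Matrix.fromBlocks Ψ₁ 0 0 Ψ₂).mulVecLin =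
      LinearMap.range ((Matrix.fromRows P Q).transpose * Matrix.fromBlocks Ψ₁ 0 0 Ψ₂ * Matrix.fromRows P Q).mulVecLin) :
    Function.Bijective (Matrix.fromRows P Q).mulVec := by
  classical
  set A := Matrix.fromRows P Q with hAdef
  set M : Matrix ι ι ℤ := P.transpose * Ψ₁ * P with hM
  set N : Matrix ι ι ℤ := Q.transpose * Ψ₂ * Q with hN
  have hAA : A.transpose * Matrix.fromBlocks Ψ₁ 0 0 Ψ₂ * A = M + N := by
    rw [hAdef, Matrix.transpose_fromRows, Matrix.fromCols_mul_fromBlocks, Matrix.fromCols_mul_fromRows]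
    simp [hM, hN]
  have hdot : ∀ {κ : Type} [Fintype κ] (R : Matrix κ ι ℤ) (Ψ : Matrix κ κ ℤ) (v : ι → ℤ),
      v ⬝ᵥ (R.transpose * Ψ * R).mulVec v = R.mulVec v ⬝ᵥ Ψ.mulVec (R.mulVec v) := by
    intro κ _ R Ψ v
    rw [← Matrix.mulVec_mulVec, ← Matrix.mulVec_mulVec, Matrix.dotProduct_mulVec, Matrix.vecMul_transpose]
  have hMpos : ∀ v, 0 ≤ v ⬝ᵥ M.mulVec v := fun v => by
    rw [hM, hdot]; by_cases h : P.mulVec v = 0
    · simp [h]
    · exact (hΨ₁pos _ h).le
  have hNpos : ∀ v, 0 ≤ v ⬝ᵥ N.mulVec v := fun v => by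
    rw [hN, hdot]; by_cases h : Q.mulVec v = 0
    · simp [h]
    · exact (hΨ₂pos _ h).le
  have hpos : ∀ v : ι → ℤ, v ≠ 0 → 0 < v ⬝ᵥ (M + N).mulVec v := by
    intro v hv
    rw [Matrix.add_mulVec, dotProduct_add]
    have hAv : A.mulVec v ≠ 0 := fun h => hv (hA (by rw [h, Matrix.mulVec_zero]))
    rw [hAdef, Matrix.fromRows_mulVec] at hAv
    by_cases h : P.mulVec v = 0
    · have hQv : Q.mulVec v ≠ 0 := fun h' => hAv (by rw [h, h']; exact funext (Sum.rec (fun _ => rfl) (fun _ => rfl)))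
      have := hΨ₂pos _ hQv
      rw [← hdot, ← hN] at this
      linarith [hMpos v]
    · have := hΨ₁pos _ h
      rw [← hdot, ← hM] at this
      linarith [hNpos v]
  have hMsym : M.IsSymm := by
    rw [hM, Matrix.IsSymm, Matrix.transpose_mul, Matrix.transpose_mul, Matrix.transpose_transpose, hΨ₁.eq, Matrix.mul_assoc]
  have hNsym : N.IsSymm := by
    rw [hN, Matrix.IsSymm, Matrix.transpose_mul, Matrix.transpose_mul, Matrix.transpose_transpose, hΨ₂.eq, Matrix.mul_assoc]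
  have hsol : ∀ b : ι, ∃ v : ι → ℤ, (M + N).mulVec v = M.mulVec (Pi.single b 1) := by
    intro b
    have hmem : M.mulVec (Pi.single b 1) ∈ LinearMap.range (A.transpose * Matrix.fromBlocks Ψ₁ 0 0 Ψ₂).mulVecLin := by
      refine ⟨Sum.elim (P.mulVec (Pi.single b 1)) 0, ?_⟩
      rw [Matrix.mulVecLin_apply, hAdef, Matrix.transpose_fromRows, Matrix.fromCols_mul_fromBlocks,
        Matrix.fromCols_mulVec_sumElim]
      rw [hM]
      simp only [Matrix.mul_zero, add_zero, Matrix.mulVec_zero, Matrix.mulVec_mulVec]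
    rw [himage, hAA] at hmem
    exact hmem
  choose χ hχ using hsol
  set χ₁ : Matrix ι ι ℤ := (Matrix.of χ).transpose with hχ₁
  have hM1 : (M + N) * χ₁ = M := by
    refine Matrix.ext_iff_mulVec.2 fun v => ?_
    have hcol : ∀ b, χ₁.mulVec (Pi.single b 1) = χ b := fun b => by
      rw [Matrix.mulVec_single_one]; rfl
    rw [← Finset.univ_sum_single v]
    simp only [Matrix.mulVec_sum]
    refine Finset.sum_congr rfl fun b _ => ?_
    rw [show (Pi.single b (v b) : ι → ℤ) = v b • Pi.single b 1 by rw [← Pi.single_smul]; simp,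
      Matrix.mulVec_smul, Matrix.mulVec_smul, ← Matrix.mulVec_mulVec, hcol, hχ]
  obtain ⟨h1, -⟩ := Groth.Agent.S16170.result M N χ₁ (1 - χ₁) hMsym hNsym hMpos hNpos hpos (by simp)
    (by rw [mul_sub, mul_one, sub_eq_iff_eq_add', ← add_mul, hM1])
  have hMχ : M * χ₁ = M := by
    conv_lhs => rw [← hM1]
    rw [mul_assoc, h1, hM1]
  have hNχ : N * χ₁ = 0 := by
    rw [add_mul, hMχ] at hM1
    exact add_left_cancel (hM1.trans (add_zero M).symm)
  have hPχ : ∀ v, P.mulVec (χ₁.mulVec v) = P.mulVec v := by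
    intro v
    by_contra hne
    have h3 := hΨ₁pos (P.mulVec (χ₁.mulVec v - v)) (by rw [Matrix.mulVec_sub]; exact sub_ne_zero.2 hne)
    rw [← hdot, ← hM, Matrix.mulVec_sub, Matrix.mulVec_mulVec, hMχ, sub_self, dotProduct_zero] at h3
    exact lt_irrefl _ h3
  have hQχ : ∀ v, Q.mulVec (χ₁.mulVec v) = 0 := by
    intro v
    by_contra hne
    have h3 := hΨ₂pos _ hne
    rw [← hdot, ← hN, Matrix.mulVec_mulVec, hNχ, Matrix.zero_mulVec, dotProduct_zero] at h3
    exact lt_irrefl _ h3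
  refine ⟨hA, fun y => ?_⟩
  obtain ⟨a, ha⟩ := hP (y ∘ Sum.inl)
  obtain ⟨b, hb⟩ := hQ (y ∘ Sum.inr)
  refine ⟨χ₁.mulVec a + (b - χ₁.mulVec b), ?_⟩
  rw [hAdef, Matrix.fromRows_mulVec]
  simp only [Matrix.mulVec_add, Matrix.mulVec_sub, hPχ, hQχ, sub_self, add_zero, zero_add, sub_zero, ha, hb]
  exact Sum.elim_comp_inl_inr y

end Groth.Agent.S16164
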