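import Groth.Statements.S1617
import Groth.Agent.Lib.DimF18.Basic

set_option autoImplicit false
universe u
open CategoryTheory CategoryTheory.Limits AlgebraicGeometry
open Variety

namespace Groth.Agent.S1617

/-- Let X be locally of finite type over a field k and x a closed point. Then the local dimension of X
at x (infimum of the dimensions of open neighbourhoods) equals the Krull dimension of the local ring
at x. -/
theorem result (k : Type u) [Field k] (X : Scheme.{u}) [X.Over (Spec (CommRingCat.of k))] [LocallyOfFiniteType (X ↘ (Spec (CommRingCat.of k)))] (x : X) (hx : IsClosed ({x} : Set X)) :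
    FlatMor.localDim X x = ringKrullDim (X.presheaf.stalk x) := by
  set f := X ↘ Spec (CommRingCat.of k)
  haveI : IsLocallyNoetherian X := LocallyOfFiniteType.isLocallyNoetherian f
  rw [ringKrullDim_stalk_eq_coheight]
  have hfin : Order.coheight x ≠ ⊤ := by
    intro htop
    have := ringKrullDim_stalk_eq_coheight x
    rw [htop] at this
    exact ringKrullDim_ne_top (R := X.presheaf.stalk x) this
  obtain ⟨b, hb⟩ := ENat.ne_top_iff_exists.1 hfin
  rw [DimF18.localDim_eq f hb.symm, (VarDim.sdim_eq_zero_iff_isClosed f x).2 hx, zero_add, ← hb]
  rfl

end Groth.Agent.S1617
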