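import Groth.Statements.S16173
import Groth.Agent.Lib.MTRigid29.IsotrivialNormal

set_option autoImplicit false
universe u
open TensorProduct
open SGA3b

namespace Groth.Agent.S16173

/-- Let R be an integrally closed domain, with no Noetherian hypothesis, and H = Spec A an R-group of
multiplicative type and of finite type (affine groups over an affine base in Hopf-algebra form, base
change by tensor product). Then H is isotrivial: diagonalisable after some finite etale faithfully
flat base change of R. (The published statement has no finite-type hypothesis, and without one it
fails: an infinite product of pairwise non-isomorphic one-dimensional anisotropic tori over the
rationals is of multiplicative type and split by no finite etale algebra. The finite-type case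
stated here is the one the limit argument of the proof establishes.) -/
theorem result (R : Type u) [CommRing R] [IsDomain R]
    [IsIntegrallyClosed R] (A : Type u) [CommRing A] [HopfAlgebra R A]
    (hft : Algebra.FiniteType R A) (h : SGA3b.IsMultType R A) : SGA3b.IsIsotrivial R A := by
  haveI := hft
  exact MTRigid29.IsotrivialNormal.isIsotrivial R A h

end Groth.Agent.S16173
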