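import Mathlib.RingTheory.Valuation.ValuationRing
import Mathlib.RingTheory.Henselian
import Mathlib.RingTheory.Localization.AtPrime.Basic
import Mathlib.RingTheory.Ideal.Quotient.Basic
import Groth.Agent.Lib.Hens.System
import Groth.Agent.Lib.Hens.PairOps
import Groth.Agent.Lib.Hens.Local

set_option autoImplicit false
universe u
namespace Hensel
end Hensel
open Hensel

namespace Groth.Agent.S16174

/-- Let V be a Henselian valuation ring and p a prime ideal of V. Then the local rings V_p (localisation
at p) and V/p are Henselian. (Both are again valuation rings, which is elementary and not restated.) -/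
theorem result (V : Type u) [CommRing V]
    [IsDomain V] [ValuationRing V] [HenselianLocalRing V] (p : Ideal V) [p.IsPrime] :
    HenselianLocalRing (Localization.AtPrime p) ∧ HenselianLocalRing (V ⧸ p) := by
  let L := Localization.AtPrime p
  have hp : HenselianRing V p := Hens.henselianRing_of_le (Hens.henselianRing_maximalIdeal V)
    (IsLocalRing.le_maximalIdeal Ideal.IsPrime.ne_top')
  refine ⟨?_, ?_⟩
  · have hpL : ∀ y ∈ IsLocalRing.maximalIdeal L, ∃ c ∈ p, algebraMap V L c = y := by
      intro y hy
      obtain ⟨a, ⟨s, hs⟩, rfl⟩ := IsLocalization.exists_mk'_eq p.primeCompl y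
      have ha : a ∈ p := (IsLocalization.AtPrime.mk'_mem_maximal_iff L p a ⟨s, hs⟩).mp hy
      rcases ValuationRing.dvd_total s a with ⟨c, hc⟩ | ⟨c, hc⟩
      · subst hc
        refine ⟨c, (Ideal.IsPrime.mem_or_mem inferInstance ha).resolve_left hs, ?_⟩
        rw [IsLocalization.eq_mk'_iff_mul_eq, ← map_mul, mul_comm]
      · exact absurd (hc ▸ p.mul_mem_right c ha) hs
    refine ⟨fun f hf a₀ h₀ h₁ => ?_⟩
    let g := f.comp (Polynomial.X + Polynomial.C a₀)
    have hg0 : g.coeff 0 = f.eval a₀ := by simp [g, Polynomial.coeff_zero_eq_eval_zero]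
    have hg1 : g.coeff 1 = f.derivative.eval a₀ := by
      have : g.derivative.coeff 0 = g.coeff 1 := by rw [Polynomial.coeff_derivative]; simp
      rw [← this, Polynomial.coeff_zero_eq_eval_zero]
      simp [g, Polynomial.derivative_comp]
    obtain ⟨u, hu⟩ := h₁
    let t : L := (↑u⁻¹ : L) * f.eval a₀
    have ht : t ∈ IsLocalRing.maximalIdeal L := Ideal.mul_mem_left _ _ h₀
    choose c hcp hc using fun i : ℕ => hpL (g.coeff (i + 2) * ↑u⁻¹ * t ^ (i + 1))
      (Ideal.mul_mem_left _ _ (Ideal.pow_mem_of_mem _ ht _ (Nat.succ_pos i)))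
    let h : Polynomial V := 1 + Polynomial.X +
      ∑ i ∈ Finset.range g.natDegree, Polynomial.C (c i) * Polynomial.X ^ (i + 2)
    obtain ⟨a, ha, -⟩ := Hens.exists_root_of_simple hp h (-1) (by
      simp only [h, Polynomial.eval_add, Polynomial.eval_one, Polynomial.eval_X, add_neg_cancel,
        zero_add, Polynomial.eval_finset_sum, Polynomial.eval_mul, Polynomial.eval_C]
      exact Ideal.sum_mem _ fun i _ => Ideal.mul_mem_right _ _ (hcp i)) (by
      simp only [h, Polynomial.derivative_add, Polynomial.derivative_one, Polynomial.derivative_X,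
        zero_add, Polynomial.derivative_sum, Polynomial.eval_add, Polynomial.eval_one,
        Polynomial.eval_finset_sum, Polynomial.derivative_mul, Polynomial.derivative_C, zero_mul,
        Polynomial.eval_mul, Polynomial.eval_C, map_add, map_one, map_sum, map_mul]
      rw [Finset.sum_eq_zero fun i _ => by
        rw [Ideal.Quotient.eq_zero_iff_mem.mpr (hcp i), zero_mul]]
      simp)
    let x : L := t * algebraMap V L a
    refine ⟨x + a₀, ?_, by rw [add_sub_cancel_right]; exact Ideal.mul_mem_right _ _ ht⟩
    show f.eval (x + a₀) = 0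
    have h2 : f.eval (x + a₀) = g.eval x := by simp [g]
    rw [h2, Polynomial.eval_eq_sum_range' (n := g.natDegree + 2) (by omega),
      Finset.sum_range_succ' _ _, Finset.sum_range_succ' _ _]
    have h3 := congrArg (algebraMap V L) (show h.eval a = 0 from ha)
    simp only [h, Polynomial.eval_add, Polynomial.eval_one, Polynomial.eval_X,
      Polynomial.eval_finset_sum, Polynomial.eval_mul, Polynomial.eval_C, Polynomial.eval_pow,
      map_add, map_one, map_sum, map_mul, map_pow, map_zero, hc] at h3
    have h4 := congrArg (fun z => f.eval a₀ * z) h3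
    simp only [mul_zero, mul_add, Finset.mul_sum] at h4
    rw [hg0, zero_add 1, hg1, ← hu]
    have h5 : ∀ i, f.eval a₀ * (g.coeff (i + 2) * ↑u⁻¹ * t ^ (i + 1) * algebraMap V L a ^ (i + 2)) =
        g.coeff (i + 2) * x ^ (i + 2) := fun i => by
      show f.eval a₀ * _ = _
      simp only [x, t]
      ring
    simp only [h5, mul_one] at h4
    rw [← h4]
    simp only [x, t, pow_zero, pow_one, mul_one]
    have hu' : (↑u : L) * ↑u⁻¹ = 1 := u.mul_inv
    linear_combination (f.eval a₀ * algebraMap V L a) * hu'
  · have : Nontrivial (V ⧸ p) := Ideal.Quotient.nontrivial_iff.mpr Ideal.IsPrime.ne_top'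
    have : IsLocalRing (V ⧸ p) := .of_surjective' (Ideal.Quotient.mk p) Ideal.Quotient.mk_surjective
    exact Hens.henselianLocalRing_of_isIntegral V (V ⧸ p)

end Groth.Agent.S16174
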