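import Groth.Statements.S16184
import Groth.Agent.Lib.TorPts21.SemisimpleField
import Groth.Agent.Lib.TorPts21.MaximalTorusClosed
import Groth.Agent.Lib.RankOne.Braid
-- import your own Groth.Agent.* helpers here

set_option autoImplicit false
universe u
open CategoryTheory MonoidalCategory CartesianMonoidalCategory MonObj GrpObj AlgebraicGeometry
open AGF

namespace Groth.Agent.S16184

/-- Let G be a semisimple group over an algebraically closed field k and T ⊆ G a maximal torus. A
character χ : T → 𝔾_m which is Weyl-invariant — χ ∘ φ = χ whenever φ : T → T is induced by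
conjugation by a k-point of G carrying T into itself — is the trivial character. (In the source this
is the vanishing of the Weyl-invariants of the character lattice of the maximal torus of the derived
subgroup.) -/
theorem result (k : Type u) [Field k] [IsAlgClosed k]
    (G : Over (Spec (CommRingCat.of k))) [GrpObj G] (hG : Red.IsSemisimple G)
    (T : Over (Spec (CommRingCat.of k))) [GrpObj T] (iT : T ⟶ G) (hT : Red.IsMaximalTorus iT)
    (χ : T ⟶ Red.Gm (Spec (CommRingCat.of k))) [IsMonHom χ]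
    (hχ : ∀ (n : 𝟙_ (Over (Spec (CommRingCat.of k))) ⟶ G) (φ : T ⟶ T), φ ≫ iT = AGF.conjBy n iT → φ ≫ χ = χ) :
    χ = 1 := by
  obtain ⟨hGa, hGs, hGc⟩ := TorPts21.props_of_isReductive (TorPts21.isReductive_of_isSemisimple hG)
  haveI := hGa
  haveI := hGs
  haveI := hGc
  let s₀ : Spec (CommRingCat.of k) := IsLocalRing.closedPoint k
  haveI : IsAffine (Red.geomFibre s₀ G).left := BorelFix21.isAffine_bc _ G
  have hK := hG.2.2 s₀
  have hT' := TorPts21.isMaxTorus_of_isMaximalTorus hT
  haveI := hT'.1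
  haveI := hT'.2.1
  obtain ⟨hTa, hTs, hTc, -⟩ := TorPts21.props_of_isTorus hT'.2.2.1
  haveI := hTa
  haveI := hTs
  haveI : IsReduced T.left := OrbitTop19.isReduced_of_smooth T.hom
  haveI := TorPts21.isClosedImmersion_of_torus hT'.2.2.1 iT
  have hss : Red.IsSemisimpleOver k G := TorPts21.isSemisimpleOver_of_isSemisimple_closed hG
  obtain ⟨S, _, iS, N, hm, hc, hS, hN, hcen, hnorm⟩ := TorPts21.exists_central_torus_norm hss.1 hT'
  haveI := hm
  have htriv := hss.2 S iS hc (fun X g x => ⟨x, by rw [hcen X g x, mul_inv_cancel_right]⟩) hS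
  letI : CommGroup (VecGrp.pt k k ⟶ Red.Gm (Spec (CommRingCat.of k))) :=
    { (inferInstance : Group (VecGrp.pt k k ⟶ Red.Gm (Spec (CommRingCat.of k)))) with
      mul_comm := fun a b => RankOne.gm_mul_comm a b }
  refine TorPts21.eq_one_of_forall_pts χ fun τ => ?_
  obtain ⟨τ', rfl⟩ := TorPts21.exists_pow_eq hT'.2.2.1 hN τ
  obtain ⟨σ, τ₁, hστ, hτ₁⟩ := hnorm τ'
  let ψ : (VecGrp.pt k k ⟶ T) →* (VecGrp.pt k k ⟶ Red.Gm (Spec (CommRingCat.of k))) :=
    MonoidHom.mk' (fun f => f ≫ χ) fun f g => MonObj.mul_comp f g χ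
  have h1 : τ₁ = 1 := (cancel_mono iT).1 (by
    rw [← hστ, TorPts21.eq_one_of_isTrivialGrp htriv σ, MonObj.one_comp, MonObj.one_comp])
  have h2 := hτ₁ _ ψ (fun n hn a a' h => by
    obtain ⟨n₀, hn₀⟩ := TorPts21.exists_gpt n
    replace hn₀ : toUnit (VecGrp.pt k k) ≫ n₀ = n := hn₀
    obtain ⟨φ, hφ⟩ := TorPts21.exists_lift_of_pts iT (AGF.conjBy n₀ iT) fun x => by
      obtain ⟨x', hx'⟩ := hn x
      exact ⟨x', by rw [TorPts21.comp_conjBy, hn₀, hx']⟩
    have ha : a ≫ φ = a' := (cancel_mono iT).1 (by rw [Category.assoc, hφ, TorPts21.comp_conjBy, hn₀, h])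
    show a' ≫ χ = a ≫ χ
    rw [← ha, Category.assoc, hχ n₀ φ hφ])
  rw [← map_pow, h1, map_one] at h2
  exact h2.symm

end Groth.Agent.S16184
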