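import Groth.Statements.S16186
import Groth.Agent.Lib.GeomSmoothing3.Model
import Groth.Agent.Lib.GeomSmoothing3.Curve
import Groth.Agent.Lib.ProjSpace.Basic
import Groth.Agent.Lib.LimH13.ArrowModel
import Groth.Agent.S5934
import Mathlib

set_option autoImplicit false
universe u
open CategoryTheory CategoryTheory.Limits AlgebraicGeometry
open Deform

namespace Groth.Agent.S16186

open AlgebraicGeometry CategoryTheory in
theorem smooth_of_residueField_extension {κ K : Type u} [Field κ] [Field K] (e : κ →+* K)
    {P X : Scheme.{u}} {fst : P ⟶ Spec (CommRingCat.of K)} {snd : P ⟶ X} {f : X ⟶ Spec (CommRingCat.of κ)}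
    (h : IsPullback fst snd (Spec.map (CommRingCat.ofHom e)) f) (hs : Smooth fst) : Smooth f := by
  haveI : Flat (Spec.map (CommRingCat.ofHom e)) := (HasRingHomProperty.Spec_iff (P := @Flat)).2 (by
    letI := e.toAlgebra
    exact (RingHom.flat_algebraMap_iff (R := κ) (S := K)).2 inferInstance)
  haveI : Surjective (Spec.map (CommRingCat.ofHom e)) :=
    ⟨fun x => ⟨(IsLocalRing.closedPoint K : PrimeSpectrum K), Subsingleton.elim (α := PrimeSpectrum κ) _ _⟩⟩
  exact MorphismProperty.of_isPullback_of_descendsAlong (P := @Smooth)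
    (Q := (@Surjective ⊓ @Flat ⊓ @QuasiCompact : MorphismProperty Scheme.{u}))
    h ⟨⟨inferInstance, inferInstance⟩, inferInstance⟩ hs

/-- Let k be an algebraically closed field and let p : P → Spec k[[t]] be flat and projective, i.e. P is
a closed subscheme of a projective space over k[[t]] compatibly with p; let X be its closed fibre
over k and suppose the generic fibre P ⊗ Frac k[[t]] is smooth. Then X is geometrically smoothable:
there exist an affine integral curve C, smooth of dimension one over k, a k-rational point c of C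
and a flat proper morphism Y → C whose fibre over c is isomorphic to X over k and whose fibre over
the generic point of C is smooth. (The source's statement is the equivalence, for X reduced
projective and equidimensional over an algebraically closed field of characteristic zero with H^2(X,
O_X) = 0 or with X Gorenstein and its dualizing sheaf or the dual of it ample, between the existence
of a formal smoothing and of a geometric smoothing; its proof first turns a formal smoothing into a
smoothing over Spec k[[t]] and then runs the argument stated here, which uses neither characteristic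
zero nor the hypotheses on X.) -/
theorem result
    (k : Type u) [Field k] [IsAlgClosed k]
    (X : Scheme.{u}) (pX : X ⟶ Spec (CommRingCat.of k))
    (P : Scheme.{u}) (p : P ⟶ Spec (CommRingCat.of (PowerSeries k))) [Flat p]
    (hproj : ∃ (d : ℕ) (ι : P ⟶ CohB1.ProjSpace d (PowerSeries k)), IsClosedImmersion ι ∧
      ι ≫ CohB1.ProjSpace.toSpec d (PowerSeries k) = p)
    (i : X ⟶ P)
    (hX : IsPullback i pX p (Spec.map (CommRingCat.ofHom (PowerSeries.constantCoeff (R := k)))))
    (hgen : Smooth (pullback.snd p
      (Spec.map (CommRingCat.ofHom (algebraMap (PowerSeries k) (FractionRing (PowerSeries k)))))))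
    : ∃ (C : Scheme.{u}) (qC : C ⟶ Spec (CommRingCat.of k)) (c : Spec (CommRingCat.of k) ⟶ C)
      (_ : c ≫ qC = 𝟙 (Spec (CommRingCat.of k))) (_ : IsIntegral C) (_ : IsAffine C) (_ : Smooth qC)
      (_ : topologicalKrullDim C = 1)
      (Y : Scheme.{u}) (π : Y ⟶ C) (_ : Flat π) (_ : IsProper π) (j : X ⟶ Y)
      (η : C) (_ : closure ({η} : Set C) = Set.univ),
      IsPullback j pX π c ∧ Smooth (π.fiberToSpecResidueField η) := by
  classical
  obtain ⟨d, ι, hι, hιp⟩ := hproj
  haveI := hι
  haveI : IsProper p := by rw [← hιp]; infer_instance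
  haveI : LocallyOfFinitePresentation p := LimH13.locallyOfFinitePresentation_of_noetherian p
  obtain ⟨A₀, hA₀, X₀, f₀, g₀, hfl, hpr, hfp, hg₀⟩ := GeomSmoothing3.exists_proper_flat_model p
  haveI := hfl; haveI := hpr; haveI := hfp
  obtain ⟨s, hs⟩ := hA₀
  let A₁ : Subalgebra k (PowerSeries k) := Algebra.adjoin k (insert (PowerSeries.X : PowerSeries k) (s : Set (PowerSeries k)))
  haveI : Algebra.FiniteType k A₁ := by
    refine (Subalgebra.fg_iff_finiteType A₁).1 ?_
    exact Subalgebra.fg_def.2 ⟨_, s.finite_toSet.insert _, rfl⟩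
  have hle : ∀ a ∈ A₀, a ∈ A₁ := by
    intro a ha
    rw [← hs] at ha
    induction ha using Algebra.adjoin_induction with
    | mem z hz => exact Algebra.subset_adjoin (Set.mem_insert_of_mem _ hz)
    | algebraMap n =>
      convert intCast_mem A₁ n using 1
      exact eq_intCast _ n
    | add _ _ _ _ hx hy => exact add_mem hx hy
    | mul _ _ _ _ hx hy => exact mul_mem hx hy
  let ι01 : A₀ →+* A₁ :=
    { toFun := fun a => ⟨a.1, hle a.1 a.2⟩
      map_one' := rfl
      map_mul' := fun _ _ => rfl
      map_zero' := rfl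
      map_add' := fun _ _ => rfl }
  let v : A₁ →+* PowerSeries k := A₁.val.toRingHom
  have hv : v.comp ι01 = algebraMap A₀ (PowerSeries k) := RingHom.ext fun _ => rfl
  let X₁ := pullback f₀ (Spec.map (CommRingCat.ofHom ι01))
  let f₁ : X₁ ⟶ Spec (CommRingCat.of A₁) := pullback.snd f₀ (Spec.map (CommRingCat.ofHom ι01))
  haveI : Flat f₁ := MorphismProperty.pullback_snd _ _ hfl
  haveI : IsProper f₁ := MorphismProperty.pullback_snd _ _ hpr
  haveI : LocallyOfFinitePresentation f₁ := MorphismProperty.pullback_snd _ _ hfp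
  have hspec : Spec.map (CommRingCat.ofHom v) ≫ Spec.map (CommRingCat.ofHom ι01) =
      Spec.map (CommRingCat.ofHom (algebraMap A₀ (PowerSeries k))) := by
    rw [← Spec.map_comp, ← CommRingCat.ofHom_comp, hv]
  let g₁ : P ⟶ X₁ := pullback.lift g₀ (p ≫ Spec.map (CommRingCat.ofHom v)) (by rw [hg₀.w, Category.assoc, hspec])
  have hg₁ : IsPullback g₁ p f₁ (Spec.map (CommRingCat.ofHom v)) := by
    refine IsPullback.of_right ?_ (pullback.lift_snd _ _ _) (IsPullback.of_hasPullback f₀ _)
    rw [pullback.lift_fst, hspec]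
    exact hg₀
  -- the generic fibre
  let K := FractionRing (PowerSeries k)
  let v' : A₁ →+* K := (algebraMap (PowerSeries k) K).comp v
  have hv' : Function.Injective v' :=
    (IsFractionRing.injective (PowerSeries k) K).comp Subtype.val_injective
  let a : Spec (CommRingCat.of K) ⟶ Spec (CommRingCat.of A₁) := Spec.map (CommRingCat.ofHom v')
  let ξ : Spec (CommRingCat.of A₁) := (⟨⊥, Ideal.isPrime_bot⟩ : PrimeSpectrum A₁)
  let o : Spec (CommRingCat.of K) := IsLocalRing.closedPoint K
  have hao : a o = ξ := by
    refine PrimeSpectrum.ext ?_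
    show (IsLocalRing.maximalIdeal K).comap v' = ⊥
    rw [IsLocalRing.maximalIdeal_eq_bot]
    exact RingHom.ker_eq_bot_iff_eq_zero v' |>.2 fun z hz => hv' (by rw [hz, map_zero])
  have hsq : IsPullback (pullback.fst p (Spec.map (CommRingCat.ofHom (algebraMap (PowerSeries k) K))) ≫ g₁)
      (pullback.snd p (Spec.map (CommRingCat.ofHom (algebraMap (PowerSeries k) K)))) f₁ a := by
    have h := (IsPullback.of_hasPullback p (Spec.map (CommRingCat.ofHom (algebraMap (PowerSeries k) K)))).paste_horiz hg₁
    rw [← Spec.map_comp, ← CommRingCat.ofHom_comp] at h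
    exact h
  have hξ : Smooth (f₁.fiberToSpecResidueField ξ) := by
    haveI := hgen
    have h := isPullback_fiberToSpecResidueField_of_isPullback hsq o
    rw [← hao]
    refine smooth_of_residueField_extension (a.residueFieldMap o).hom h.flip ?_
    exact MorphismProperty.pullback_snd _ _ hgen
  obtain ⟨_, ⟨g, rfl⟩, hgξ, hgU⟩ := PrimeSpectrum.isTopologicalBasis_basic_opens.exists_subset_of_mem_open
    (show ξ ∈ {y | Smooth (f₁.fiberToSpecResidueField y)} from hξ) (S5934.result f₁)
  have hg0 : g ≠ 0 := fun h => hgξ (by rw [h]; exact zero_mem _)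
  let t : A₁ := ⟨PowerSeries.X, Algebra.subset_adjoin (Set.mem_insert _ _)⟩
  have ht0 : t ≠ 0 := fun h => PowerSeries.X_ne_zero (congrArg Subtype.val h)
  let χ : A₁ →ₐ[k] k := { PowerSeries.constantCoeff.comp v with commutes' := fun c => PowerSeries.constantCoeff_C c }
  have hgχ : χ (g * t) = 0 := by
    rw [map_mul]
    show _ * PowerSeries.constantCoeff (PowerSeries.X : PowerSeries k) = 0
    rw [PowerSeries.constantCoeff_X, mul_zero]
  obtain ⟨B, _, _, _, φ, ψ, hψφ, hφg, hdim, hsm⟩ :=
    GeomSmoothing3.exists_curve k A₁ χ (g * t) (mul_ne_zero hg0 ht0) hgχ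
  let C := Spec (CommRingCat.of B)
  let qC : C ⟶ Spec (CommRingCat.of k) := Spec.map (CommRingCat.ofHom (algebraMap k B))
  let c : Spec (CommRingCat.of k) ⟶ C := Spec.map (CommRingCat.ofHom ψ.toRingHom)
  have hc : c ≫ qC = 𝟙 _ := by
    rw [← Spec.map_comp, ← CommRingCat.ofHom_comp, show ψ.toRingHom.comp (algebraMap k B) = RingHom.id k from RingHom.ext fun z => ψ.commutes z]
    exact Spec.map_id _
  let u : C ⟶ Spec (CommRingCat.of A₁) := Spec.map (CommRingCat.ofHom φ.toRingHom)
  have hcu : c ≫ u = Spec.map (CommRingCat.ofHom PowerSeries.constantCoeff) ≫ Spec.map (CommRingCat.ofHom v) := by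
    rw [← Spec.map_comp, ← Spec.map_comp, ← CommRingCat.ofHom_comp, ← CommRingCat.ofHom_comp]
    congr 2
    exact congrArg AlgHom.toRingHom hψφ
  let π : pullback f₁ u ⟶ C := pullback.snd f₁ u
  let j : X ⟶ pullback f₁ u := pullback.lift (i ≫ g₁) (pX ≫ c)
    (by rw [Category.assoc, hg₁.w, ← Category.assoc, hX.w, Category.assoc, Category.assoc, hcu])
  have hj : IsPullback j pX π c := by
    refine IsPullback.of_right ?_ (pullback.lift_snd _ _ _) (IsPullback.of_hasPullback f₁ u)
    rw [pullback.lift_fst, hcu]
    exact hX.paste_horiz hg₁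
  let η : C := (⟨⊥, Ideal.isPrime_bot⟩ : PrimeSpectrum B)
  refine ⟨C, qC, c, hc, inferInstance, inferInstance, hsm, ?_, pullback f₁ u, π,
    MorphismProperty.pullback_snd _ _ inferInstance, MorphismProperty.pullback_snd _ _ inferInstance, j, η, ?_, hj, ?_⟩
  · exact (PrimeSpectrum.topologicalKrullDim_eq_ringKrullDim (R := B)).trans hdim
  · refine (PrimeSpectrum.closure_singleton (⟨⊥, Ideal.isPrime_bot⟩ : PrimeSpectrum B)).trans ?_
    exact PrimeSpectrum.zeroLocus_bot
  · have hu : u η ∈ (PrimeSpectrum.basicOpen g : Set (PrimeSpectrum A₁)) := by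
      show φ g ∉ (⊥ : Ideal B)
      rw [Submodule.mem_bot]
      exact fun h => hφg (by rw [map_mul, h, zero_mul])
    have hs' : Smooth (f₁.fiberToSpecResidueField (u η)) := hgU hu
    exact MorphismProperty.of_isPullback
      (isPullback_fiberToSpecResidueField_of_isPullback (IsPullback.of_hasPullback f₁ u) η) hs'

end Groth.Agent.S16186
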