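import Groth.Statements.S16188
import Mathlib.AlgebraicGeometry.Morphisms.ClosedImmersion

set_option autoImplicit false
universe u
open CategoryTheory AlgebraicGeometry TopologicalSpace
open SchMor

namespace Groth.Agent.S16188

/-- Let f : X → Y be a morphism of schemes with X reduced and irreducible. Then f factors through an
irreducible component of Y carrying its reduced closed-subscheme structure: there are an irreducible
component Z of Y and a morphism g from X to the closed subscheme of Y cut out by the vanishing ideal
sheaf of Z with g followed by the inclusion equal to f; that closed subscheme is integral. -/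
theorem result
    {X Y : Scheme.{u}} (f : X ⟶ Y) [IsReduced X] [IrreducibleSpace X] :
    ∃ (Z : Closeds Y) (_ : (Z : Set Y) ∈ irreducibleComponents Y)
      (_ : IsIntegral (Scheme.IdealSheafData.vanishingIdeal Z).subscheme)
      (g : X ⟶ (Scheme.IdealSheafData.vanishingIdeal Z).subscheme),
      g ≫ (Scheme.IdealSheafData.vanishingIdeal Z).subschemeι = f := by
  have hirr : IsIrreducible (Set.range f) := by
    rw [← Set.image_univ]
    exact (IrreducibleSpace.isIrreducible_univ _).image _ f.continuous.continuousOn
  obtain ⟨W, hW, hsub⟩ := exists_mem_irreducibleComponents_subset_of_isIrreducible _ hirr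
  let Z : Closeds Y := ⟨W, isClosed_of_mem_irreducibleComponents W hW⟩
  haveI : IrreducibleSpace (Scheme.IdealSheafData.vanishingIdeal Z).subscheme := by
    haveI := Subtype.irreducibleSpace hW.1
    exact (Homeomorph.setCongr (show ((Scheme.IdealSheafData.vanishingIdeal Z).support : Set Y) = W
      by simp [Z])).symm.surjective.irreducibleSpace (Homeomorph.continuous _)
  haveI : IsReduced (Scheme.IdealSheafData.vanishingIdeal Z).subscheme := by
    refine @IsReduced.of_openCover _
      (Scheme.IdealSheafData.vanishingIdeal Z).subschemeCover.openCover fun (U : Y.affineOpens) ↦ ?_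
    refine @instIsReducedSpecOfIsReducedCarrier _ ?_
    change _root_.IsReduced (Γ(Y, U) ⧸ (Scheme.IdealSheafData.vanishingIdeal Z).ideal U)
    rw [← Ideal.isRadical_iff_quotient_reduced, Scheme.IdealSheafData.vanishingIdeal_ideal]
    exact PrimeSpectrum.isRadical_vanishingIdeal _
  refine ⟨Z, hW, isIntegral_of_irreducibleSpace_of_isReduced _, ?_⟩
  have hle : Scheme.IdealSheafData.vanishingIdeal Z ≤ f.ker := by
    refine Scheme.IdealSheafData.le_ofIdeals_iff.2 fun U s hs ↦ ?_
    rw [RingHom.mem_ker]
    refine eq_zero_of_basicOpen_eq_bot _ ?_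
    rw [← Scheme.preimage_basicOpen]
    refine eq_bot_iff.2 fun x hx ↦ ?_
    rw [Scheme.IdealSheafData.vanishingIdeal_ideal, PrimeSpectrum.mem_vanishingIdeal] at hs
    have hxU : f x ∈ (U : Y.Opens) := Y.basicOpen_le s hx
    have h1 := hs (U.2.primeIdealOf ⟨f x, hxU⟩) (by
      change U.2.fromSpec (U.2.primeIdealOf ⟨f x, hxU⟩) ∈ (Z : Set Y)
      rw [U.2.fromSpec_primeIdealOf]
      exact hsub ⟨x, rfl⟩)
    have h2 : U.2.primeIdealOf ⟨f x, hxU⟩ ∈ U.2.fromSpec ⁻¹ᵁ Y.basicOpen s := by
      change U.2.fromSpec (U.2.primeIdealOf ⟨f x, hxU⟩) ∈ Y.basicOpen s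
      rw [U.2.fromSpec_primeIdealOf]
      exact hx
    rw [U.2.fromSpec_preimage_basicOpen] at h2
    exact absurd h1 h2
  exact ⟨IsClosedImmersion.lift _ f (by rw [Scheme.IdealSheafData.ker_subschemeι]; exact hle),
    IsClosedImmersion.lift_fac _ _ _⟩

end Groth.Agent.S16188
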