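import Groth.Statements.S16189
import Groth.Agent.Lib.BC8.GorExtendSpf

set_option linter.style.haveILetI false
set_option backward.isDefEq.respectTransparency false
set_option backward.isDefEq.respectTransparency.types false
set_option maxHeartbeats 1000000

set_option autoImplicit false
universe u
open CategoryTheory CategoryTheory.Limits AlgebraicGeometry
attribute [local instance] HasDerivedCategory.standard
open Deform

namespace Groth.Agent.S16189

/-- Let k be a field and X a projective Gorenstein k-scheme, equidimensional of dimension n, and let ω_X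
be its dualizing module, the cohomology sheaf in degree -n of f^! O for f : X → Spec k (computed
through an assumed right adjoint of Rf_* on D_QCoh, as the shared prelude presents f^!). Let 𝔛 → Spf
k[[t]] be a formal deformation of X: an adic morphism of systems of thickenings to the system (Spec
k[[t]]/(t^{m+1}))_m whose levels X_m → Spec k[[t]]/(t^{m+1}) are all flat and proper, together with
an isomorphism of X with the level-0 scheme compatible with the structure maps to Spec k. Then ω_X
extends to an invertible formal sheaf on 𝔛: there is a system (L_m)_m of invertible O_{X_m}-modules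
with transition isomorphisms L_{m+1}|_{X_m} ≅ L_m whose level-0 term pulls back to a module
isomorphic to ω_X (existence of an isomorphism only). (The published statement adds that this
invertible formal sheaf is unique; the proof gives existence only, and uniqueness fails already for
the constant deformation of an elliptic curve, whose trivial dualizing module extends both
constantly and along a non-constant formal family of degree-zero invertible sheaves. The published
setting is an algebraically closed field of characteristic zero and a Gorenstein X with locally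
constant dimension; the proof uses neither property of k, and a single dimension n is fixed here.) -/
theorem result
    (k : Type u) [Field k] (X : Scheme.{u}) [X.Over (Spec (CommRingCat.of k))]
    (hproj : ∃ (d : ℕ) (ι : X ⟶ CohB1.ProjSpace d k), IsClosedImmersion ι ∧
      ι ≫ CohB1.ProjSpace.toSpec d k = X ↘ Spec (CommRingCat.of k))
    (hG : Dual3.IsGorenstein X) (n : ℕ)
    (hequi : ∀ Z ∈ irreducibleComponents (X : Type u), topologicalKrullDim Z = n)
    [DCoh.HasRpush (X ↘ Spec (CommRingCat.of k))] (h : DCoh.RpushPreservesQCoh (X ↘ Spec (CommRingCat.of k)))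
    [DCoh.HasShriek (X ↘ Spec (CommRingCat.of k)) h]
    (OY : DCoh.DQCoh (Spec (CommRingCat.of k)))
    (hOY : Nonempty (OY.obj ≅ DCoh.inD (Spec (CommRingCat.of k)) (Coh.structureModule (Spec (CommRingCat.of k)))))
    (𝔛 : FSch.Sys.{u}) (𝔣 : 𝔛 ⟶ FSch.spf (PowerSeries k) (Ideal.span {PowerSeries.X (R := k)}))
    (hadic : FSch.IsAdicHom 𝔣)
    (hflat : ∀ m : ℕ, Flat (FSch.Hom.app 𝔣 m)) (hprop : ∀ m : ℕ, IsProper (FSch.Hom.app 𝔣 m))
    (e : X ≅ 𝔛.X 0)
    (he : e.hom ≫ FSch.Hom.app 𝔣 0 ≫ Spec.map (CommRingCat.ofHom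
      ((Ideal.Quotient.mk (Ideal.span {PowerSeries.X (R := k)} ^ (0 + 1))).comp (algebraMap k (PowerSeries k)))) =
      X ↘ Spec (CommRingCat.of k)) :
    ∃ 𝔏 : FSch.ModSys 𝔛, (∀ m : ℕ, PicF.IsInvertible (𝔏.F m)) ∧
      Nonempty ((Scheme.Modules.pullback e.hom).obj (𝔏.F 0) ≅
        DCoh.dualizingMod (X ↘ Spec (CommRingCat.of k)) h OY n) := by
  classical
  haveI : ∀ (U V : Scheme.{u}) (j : U ⟶ V) [IsOpenImmersion j],
      PreservesFiniteLimits (Scheme.Modules.restrictFunctor j) := fun U V j _ => inferInstance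
  haveI : ∀ (R : CommRingCat.{u}), PreservesFiniteLimits (tilde.functor R) := fun R =>
    M1.tilde_preservesFiniteLimits
  let str := X ↘ Spec (CommRingCat.of k)
  haveI : IsProper str := by
    obtain ⟨d, i, hi, hi2⟩ := hproj
    haveI := CMReg18.isProper_projSpace k (n := d)
    change IsProper (X ↘ Spec (CommRingCat.of k))
    rw [← hi2]
    infer_instance
  haveI : IsLocallyNoetherian X := hG.1
  haveI : CompactSpace X := QuasiCompact.compactSpace_of_compactSpace str
  haveI : IsNoetherian X := { }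
  let S := FSch.spf (PowerSeries k) (Ideal.span {PowerSeries.X (R := k)})
  haveI : ∀ m, IsNoetherian (S.X m) := fun m =>
    inferInstanceAs (IsNoetherian (Spec (CommRingCat.of (BC8.GorExt.Lvl k m))))
  let f : ∀ m, 𝔛.X m ⟶ S.X m := FSch.Hom.app 𝔣
  haveI : ∀ m, IsProper (f m) := hprop
  haveI : ∀ m, Flat (f m) := hflat
  haveI : ∀ m, IsLocallyNoetherian (𝔛.X m) := fun m => LocallyOfFiniteType.isLocallyNoetherian (f m)
  haveI : ∀ m, CompactSpace (𝔛.X m) := fun m => QuasiCompact.compactSpace_of_compactSpace (f m)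
  haveI : ∀ m, IsNoetherian (𝔛.X m) := fun m => { }
  haveI : ∀ m, DCoh.HasRpush (f m) := fun m => DBC9.hasRpush (f m)
  haveI : ∀ m, (DCoh.RpushQ (f m) (BC8.rpushPreserves (f m))).IsLeftAdjoint := fun m =>
    BC8.isLeftAdjoint_rpushQ (f m) (BC8.rpushPreserves (f m))
  let adj := fun m => Adjunction.ofIsLeftAdjoint (DCoh.RpushQ (f m) (BC8.rpushPreserves (f m)))
  let K : ∀ m, DCoh.D (𝔛.X m) := fun m =>
    ((DCoh.RpushQ (f m) (BC8.rpushPreserves (f m))).rightAdjoint.obj (BC8.oQ (S.X m))).obj
  let adjX := DCoh.shriekAdj (X ↘ Spec (CommRingCat.of k)) h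
  let KX : DCoh.D X := DCoh.dualizingCx (X ↘ Spec (CommRingCat.of k)) h OY
  let σ0 : S.X 0 ⟶ Spec (CommRingCat.of k) := Spec.map (CommRingCat.ofHom
      ((Ideal.Quotient.mk (Ideal.span {PowerSeries.X (R := k)} ^ (0 + 1))).comp (algebraMap k (PowerSeries k))))
  haveI : IsIso σ0 := by
    haveI : IsIso (CommRingCat.ofHom
        ((Ideal.Quotient.mk (Ideal.span {PowerSeries.X (R := k)} ^ (0 + 1))).comp (algebraMap k (PowerSeries k)))) :=
      (RingEquiv.ofBijective _ (BC8.GorExt.bijective_lvl_zero k)).toCommRingCatIso.isIso_hom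
    infer_instance
  have hsq0 : IsPullback e.hom str (f 0) (inv σ0) :=
    IsPullback.of_horiz_isIso ⟨by rw [← cancel_mono σ0]; simpa [σ0, f, str, S] using he⟩
  obtain ⟨eO⟩ := hOY
  let eOY : BC8.oQ (Spec (CommRingCat.of k)) ≅ OY := ObjectProperty.isoMk _ eO.symm
  obtain ⟨b0⟩ := BC8.nonempty_relDualizing_bc hsq0 (adj 0) adjX
  let eX : (DMon9.lP e.hom).obj (K 0) ≅ KX :=
    b0 ≪≫ (ObjectProperty.ι _).mapIso ((DCoh.shriek (X ↘ Spec (CommRingCat.of k)) h).mapIso eOY)
  have hbc : ∀ m, Nonempty ((DMon9.lP (𝔛.ι m)).obj (K (m + 1)) ≅ K m) := fun m =>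
    BC8.nonempty_relDualizing_bc (hadic m) (adj (m + 1)) (adj m)
  have hto : ∀ m, Nonempty ((DMon9.lP (e.hom ≫ 𝔛.toX m)).obj (K m) ≅ KX) := fun m => by
    induction m with
    | zero => exact ⟨(eqToIso (by simp [FSch.Sys.toX])) ≪≫ eX⟩
    | succ m ih =>
      obtain ⟨i⟩ := ih
      obtain ⟨b⟩ := hbc m
      exact ⟨((DMon9.lPComp (e.hom ≫ 𝔛.toX m) (𝔛.ι m) (by simp [FSch.Sys.toX])).app (K (m + 1))).symm ≪≫
        (DMon9.lP (e.hom ≫ 𝔛.toX m)).mapIso b ≪≫ i⟩
  let c : ℤ := -(n : ℤ)
  have hz : ∀ t : ℤ, t ≠ c → IsZero (DCoh.HD KX t) := by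
    intro t ht
    rcases isEmpty_or_nonempty X with hX | hX
    · exact DPerf.isZero_of_stalks fun x => isEmptyElim x
    obtain ⟨o⟩ := BC8.nonempty_tilde_shift (CommRingCat.of k) 0
    let eW : (BC8.W₀ k).obj ≅ (DPerf.tildeDD (CommRingCat.of k)).obj (Dual.inD k k) := Iso.refl _
    let eW' : (BC8.W₀ k).obj ≅ OY.obj := eW ≪≫
      (DPerf.tildeDD (CommRingCat.of k)).mapIso ((shiftFunctorZero (Dual.D k) ℤ).app _).symm ≪≫ o ≪≫
      eqToIso (by rw [neg_zero]) ≪≫ eO.symm
    have hK := BC8.isDualizingSch_proper (A := CommRingCat.of k) (BC8.isDualizing_self_field k) str adjX eW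
    have hcl := BC8.dlt_eq_zero_of_isClosed (A := CommRingCat.of k) (BC8.isDualizing_self_field k)
      (BC8.isNormalized_self_field k) str adjX eW
    have hdim : topologicalKrullDim X = (n : WithBot ℕ∞) := by
      rw [TopDimLib.dim_eq_iSup_components (X := (X : Type u))]
      refine le_antisymm (iSup₂_le fun Z hZ => (hequi Z hZ).le) ?_
      obtain ⟨Z, hZ⟩ : (irreducibleComponents (X : Type u)).Nonempty :=
        ⟨_, irreducibleComponent_mem_irreducibleComponents (Classical.arbitrary X)⟩
      exact (hequi Z hZ).ge.trans (le_iSup₂ (f := fun Y (_ : Y ∈ irreducibleComponents (X : Type u)) =>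
        topologicalKrullDim ↥Y) Z hZ)
    have hCM : ∀ x : X, LocCoh.IsCohenMacaulayLocalRing (X.presheaf.stalk x) := fun x =>
      haveI := hG.2 x
      GorenLib.isCohenMacaulayLocalRing_of_gorenstein
    have heq : ∀ x : X, IsClosed ({x} : Set X) → ringKrullDim (X.presheaf.stalk x) = n := fun x hx => by
      obtain ⟨b, hb⟩ := ProjDual12.exists_dim_stalk_eq (X.presheaf.stalk x)
      have hp := ProjDual12.ringKrullDim_stalk_add_sdim_of_pure str hequi hb
      rw [(VarDim.sdim_eq_zero_iff_isClosed str x).2 hx, add_zero] at hp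
      rw [hb, hp]
    exact (BC8.isZero_HD_of_CM hK hcl n hdim hCM heq t ht).of_iso
      ((DerivedCategory.homologyFunctor _ t).mapIso
        ((ObjectProperty.ι _).mapIso ((DCoh.shriek (X ↘ Spec (CommRingCat.of k)) h).mapIso
          (ObjectProperty.isoMk _ eW'.symm : OY ≅ BC8.W₀ k))))
  have hLS : ∀ m, BC8.LocShift (K m) := fun m =>
    BC8.locShift_of_gorenstein (f m) (BC8.GorExt.isGorensteinMor_app 𝔣 hadic m hG e) (adj m)
  have hsing : ∀ m, ∃ L : (𝔛.X m).Modules, PicF.IsInvertible L ∧
      Nonempty (K m ≅ (DerivedCategory.singleFunctor (𝔛.X m).Modules c).obj L) := fun m => by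
    obtain ⟨i⟩ := hto m
    exact BC8.exists_single_of_locShift (e.hom ≫ 𝔛.toX m)
      ((BC8.GorExt.surjective_toX 𝔣 hadic m).comp e.hom.surjective) (hLS m) c fun t ht =>
        (hz t ht).of_iso ((DerivedCategory.homologyFunctor _ t).mapIso i)
  choose L hL eL using hsing
  haveI : ∀ m, DCoh.HasRpush (𝔛.ι m) := fun m => by
    haveI := BC8.qc_of_qcqs (𝔛.ι m)
    haveI := BC8.qs_of_qcqs (𝔛.ι m)
    exact DBC9.hasRpush (𝔛.ι m)
  haveI : DCoh.HasRpush e.hom := DBC9.hasRpush e.hom
  have hstep : ∀ m, Nonempty ((Scheme.Modules.pullback (𝔛.ι m)).obj (L (m + 1)) ≅ L m) := fun m => by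
    obtain ⟨p⟩ := BC8.nonempty_hd_lP_single (𝔛.ι m) c (L (m + 1))
    obtain ⟨b⟩ := hbc m
    exact ⟨p.symm ≪≫ (DerivedCategory.homologyFunctor _ c).mapIso
        ((DMon9.lP (𝔛.ι m)).mapIso (eL (m + 1)).some.symm ≪≫ b ≪≫ (eL m).some) ≪≫
      (DerivedCategory.singleFunctorCompHomologyFunctorIso _ c).app (L m)⟩
  refine ⟨⟨L, fun m => (hstep m).some⟩, hL, ?_⟩
  obtain ⟨p⟩ := BC8.nonempty_hd_lP_single e.hom c (L 0)
  exact ⟨p.symm ≪≫ (DerivedCategory.homologyFunctor _ c).mapIso
    ((DMon9.lP e.hom).mapIso (eL 0).some.symm ≪≫ eX)⟩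

end Groth.Agent.S16189
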