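import Groth.Statements.S16190
import Groth.Agent.Lib.PSExp3.Basic
import Groth.Agent.Lib.LocSymB.Place
import Mathlib.AlgebraicGeometry.Fiber
import Mathlib.AlgebraicGeometry.Morphisms.Immersion
import Mathlib.AlgebraicGeometry.ResidueField

set_option autoImplicit false
universe u
open CategoryTheory CategoryTheory.Limits AlgebraicGeometry
open Deform

namespace Groth.Agent.S16190

/-- Let k be an algebraically closed field and let X have a geometric smoothing, i.e. there are an
integral k-scheme C smooth of dimension one over k, a k-rational point c of C and a flat proper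
morphism π : Y → C whose fibre over c is X (as a k-scheme) and whose fibre over the generic point of
C is smooth. Then X has a smoothing over Spec k[[t]]: a flat proper morphism P → Spec k[[t]] with
closed fibre X over k and smooth generic fibre P ⊗ Frac k[[t]]. (The published lemma concludes that
X, assumed projective and equidimensional, is formally smoothable; its proof builds exactly this
family over the completed local ring of C at c, identified with k[[t]], and then appeals to a
criterion equating smoothings over a discrete valuation ring with formal smoothings, which is not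
restated; the hypotheses on X are not used in the step stated.) -/
theorem result
    (k : Type u) [Field k] [IsAlgClosed k]
    (X : Scheme.{u}) (pX : X ⟶ Spec (CommRingCat.of k))
    (C : Scheme.{u}) (qC : C ⟶ Spec (CommRingCat.of k)) (c : Spec (CommRingCat.of k) ⟶ C)
    (hc : c ≫ qC = 𝟙 (Spec (CommRingCat.of k))) [IsIntegral C] [Smooth qC]
    (hC : topologicalKrullDim C = 1)
    (Y : Scheme.{u}) (π : Y ⟶ C) [Flat π] [IsProper π] (j : X ⟶ Y) (hsq : IsPullback j pX π c)
    (hgen : Smooth (π.fiberToSpecResidueField (genericPoint C))) :
    ∃ (P : Scheme.{u}) (p : P ⟶ Spec (CommRingCat.of (PowerSeries k))) (_ : Flat p) (_ : IsProper p)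
      (i : X ⟶ P),
      IsPullback i pX p (Spec.map (CommRingCat.ofHom (PowerSeries.constantCoeff (R := k)))) ∧
      Smooth (pullback.snd p
        (Spec.map (CommRingCat.ofHom (algebraMap (PowerSeries k) (FractionRing (PowerSeries k)))))) := by
  let o := IsLocalRing.closedPoint k
  let q : C := c o
  haveI : IsImmersion (c ≫ qC) := by rw [hc]; infer_instance
  haveI : IsImmersion c := IsImmersion.of_comp c qC
  haveI : JacobsonSpace C := LocallyOfFiniteType.jacobsonSpace qC
  have hrange : Set.range c = {q} := by
    ext y
    refine ⟨?_, fun h => ⟨o, h.symm⟩⟩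
    rintro ⟨z, rfl⟩
    rw [Subsingleton.elim z o]; rfl
  have hqcl : IsClosed ({q} : Set C) :=
    isClosed_singleton_of_isLocallyClosed_singleton (hrange ▸ c.isLocallyClosed_range)
  haveI := SmoothReg17.isRegularLocalRing_stalk qC q
  haveI := SmoothReg17.isIntegrallyClosed_stalk qC q
  haveI : IsDiscreteValuationRing (C.presheaf.stalk q) := by
    have hd : ringKrullDim (C.presheaf.stalk q) ≤ 1 := by
      rw [← PrimeSpectrum.topologicalKrullDim_eq_ringKrullDim, ← hC]
      exact (C.fromSpecStalk q).isEmbedding.isInducing.topologicalKrullDim_le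
    have hnf : ¬ IsField (C.presheaf.stalk q) := by
      intro hf
      letI := hf.toField
      haveI : Unique (PrimeSpectrum (C.presheaf.stalk q)) := inferInstance
      obtain ⟨z, hz⟩ : genericPoint C ∈ Set.range (C.fromSpecStalk q) := by
        rw [Scheme.range_fromSpecStalk]
        exact genericPoint_specializes q
      have hx : genericPoint C = q :=
        hz.symm.trans ((congrArg _ (Subsingleton.elim (α := PrimeSpectrum (C.presheaf.stalk q)) z
          (IsLocalRing.closedPoint _))).trans Scheme.fromSpecStalk_closedPoint)
      have huniv : ({q} : Set C) = Set.univ := by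
        rw [← hqcl.closure_eq, ← hx]
        exact genericPoint_spec C
      haveI : Subsingleton C := Set.subsingleton_univ_iff.mp (huniv ▸ Set.subsingleton_singleton)
      have h0 : topologicalKrullDim C ≤ 0 := by
        haveI : Subsingleton (TopologicalSpace.IrreducibleCloseds C) := ⟨fun a b => TopologicalSpace.IrreducibleCloseds.ext (by
          rw [Subsingleton.eq_univ_of_nonempty a.isIrreducible.nonempty, Subsingleton.eq_univ_of_nonempty b.isIrreducible.nonempty])⟩
        exact Order.krullDim_nonpos_of_subsingleton
      rw [hC] at h0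
      exact absurd h0 (by decide)
    haveI : Ring.KrullDimLE 1 (C.presheaf.stalk q) := Ring.krullDimLE_iff.2 hd
    haveI : Ring.DimensionLEOne (C.presheaf.stalk q) := ⟨fun h hp => (Ring.krullDimLE_one_iff_of_noZeroDivisors.mp ‹_›) _ h hp⟩
    refine ((IsDiscreteValuationRing.TFAE _ hnf).out 0 2).mpr ?_
    exact { }
  let u := Scheme.stalkClosedPointTo c
  let v := (Spec.preimage (C.fromSpecStalk q ≫ qC))
  have hv : v ≫ u = 𝟙 _ := by
    refine Spec.map_injective ?_
    rw [Spec.map_comp, Spec.map_preimage, ← Category.assoc, Spec.map_id]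
    exact (congrArg (· ≫ qC) (Scheme.Spec_stalkClosedPointTo_fromSpecStalk c)).trans hc
  obtain ⟨ψ, hψinj, hψev, hψC⟩ := PSExp3.exists_expansion (R := C.presheaf.stalk q) v.hom u.hom
    (congrArg CommRingCat.Hom.hom hv)
  let h : Spec (CommRingCat.of (PowerSeries k)) ⟶ C :=
    Spec.map (CommRingCat.ofHom ψ) ≫ C.fromSpecStalk q
  have hcc : Spec.map (CommRingCat.ofHom (PowerSeries.constantCoeff (R := k))) ≫ h = c := by
    rw [← Category.assoc, ← Spec.map_comp,
      show CommRingCat.ofHom ψ ≫ CommRingCat.ofHom (PowerSeries.constantCoeff (R := k)) = u from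
        CommRingCat.hom_ext hψev]
    exact Scheme.Spec_stalkClosedPointTo_fromSpecStalk c
  have hl : (j ≫ π) = (pX ≫ Spec.map (CommRingCat.ofHom (PowerSeries.constantCoeff (R := k)))) ≫ h := by
    rw [Category.assoc, hcc]; exact hsq.w
  refine ⟨pullback π h, pullback.snd π h, inferInstance, inferInstance,
    pullback.lift j (pX ≫ Spec.map (CommRingCat.ofHom (PowerSeries.constantCoeff (R := k)))) hl, ?_, ?_⟩
  · refine IsPullback.of_right ?_ (pullback.lift_snd _ _ _) (IsPullback.of_hasPullback π h)
    rw [pullback.lift_fst, hcc]
    exact hsq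
  · let K := FractionRing (PowerSeries k)
    let g : Spec (CommRingCat.of K) ⟶ C :=
      Spec.map (CommRingCat.ofHom (algebraMap (PowerSeries k) K)) ≫ h
    have hη : g (IsLocalRing.closedPoint K) = genericPoint C := by
      have h0 : (Spec.map (CommRingCat.ofHom ψ))
          ((Spec.map (CommRingCat.ofHom (algebraMap (PowerSeries k) K))) (IsLocalRing.closedPoint K)) =
          (⟨⊥, Ideal.isPrime_bot⟩ : PrimeSpectrum (C.presheaf.stalk q)) := by
        refine PrimeSpectrum.ext (Ideal.ext fun r => ?_)
        show algebraMap (PowerSeries k) K (ψ r) ∈ IsLocalRing.maximalIdeal K ↔ r ∈ (⊥ : Ideal _)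
        rw [IsLocalRing.maximalIdeal_eq_bot, Ideal.mem_bot, Ideal.mem_bot,
          map_eq_zero_iff _ (IsFractionRing.injective (PowerSeries k) K), map_eq_zero_iff _ hψinj]
      show C.fromSpecStalk q ((Spec.map (CommRingCat.ofHom ψ))
        ((Spec.map (CommRingCat.ofHom (algebraMap (PowerSeries k) K))) (IsLocalRing.closedPoint K))) = _
      rw [h0]
      obtain ⟨z, hz⟩ : genericPoint C ∈ Set.range (C.fromSpecStalk q) := by
        rw [Scheme.range_fromSpecStalk]
        exact genericPoint_specializes q
      have hs : (⟨⊥, Ideal.isPrime_bot⟩ : PrimeSpectrum (C.presheaf.stalk q)) ⤳ z :=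
        (PrimeSpectrum.le_iff_specializes _ _).1 (bot_le : (⊥ : Ideal _) ≤ z.asIdeal)
      refine Inseparable.eq (inseparable_iff_specializes_and.2 ⟨?_, genericPoint_specializes _⟩)
      rw [← hz]
      exact hs.map (C.fromSpecStalk q).continuous
    obtain ⟨φ, hφ⟩ : ∃ φ : C.residueField (genericPoint C) ⟶ CommRingCat.of K,
        g = Spec.map φ ≫ C.fromSpecResidueField (genericPoint C) := by
      obtain ⟨⟨y, φ⟩, hg⟩ := (Scheme.SpecToEquivOfField K C).symm.surjective g
      have hy : y = genericPoint C := by
        refine Eq.trans ?_ hη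
        rw [← hg]
        show y = (Spec.map φ ≫ C.fromSpecResidueField y) (IsLocalRing.closedPoint K)
        rw [Scheme.Hom.comp_apply, Scheme.fromSpecResidueField_apply]
      subst hy
      exact ⟨φ, hg.symm⟩
    let t := Spec.map (CommRingCat.ofHom (algebraMap (PowerSeries k) K))
    have hbig : IsPullback (pullback.fst (pullback.snd π h) t ≫ pullback.fst π h)
        (pullback.snd (pullback.snd π h) t) π g :=
      (IsPullback.of_hasPullback (pullback.snd π h) t).paste_horiz (IsPullback.of_hasPullback π h)
    have hfib : IsPullback (π.fiberι (genericPoint C)) (π.fiberToSpecResidueField (genericPoint C)) π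
        (C.fromSpecResidueField (genericPoint C)) := IsPullback.of_hasPullback _ _
    let l := hfib.lift (pullback.fst (pullback.snd π h) t ≫ pullback.fst π h)
      (pullback.snd (pullback.snd π h) t ≫ Spec.map φ) (by
        rw [Category.assoc _ (Spec.map φ), ← hφ]; exact hbig.w)
    have hbase : IsPullback l (pullback.snd (pullback.snd π h) t) (π.fiberToSpecResidueField (genericPoint C))
        (Spec.map φ) := by
      refine IsPullback.of_right ?_ (hfib.lift_snd _ _ _) hfib
      rw [hfib.lift_fst, ← hφ]
      exact hbig
    exact MorphismProperty.of_isPullback hbase hgen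

end Groth.Agent.S16190
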