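import Groth.Statements.S16195

set_option autoImplicit false
universe u v w
open DivAlg

namespace Groth.Agent.S16195

/-- Let R be a ring (associative, unital, not necessarily commutative) and M, N left R-modules. For an
R-module P write BiEnd_R(P) for the ring of endomorphisms of P that are linear over the ring
End_R(P), which acts on P through evaluation. Then every T in BiEnd_R(M × N) preserves the two
summands and is induced by a pair (T₁, T₂) with T₁ in BiEnd_R(M) and T₂ in BiEnd_R(N). -/
theorem result {R : Type u} [Ring R] (M : Type v) (N : Type w)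
    [AddCommGroup M] [Module R M] [AddCommGroup N] [Module R N]
    (T : Module.End (Module.End R (M × N)) (M × N)) :
    ∃ (T₁ : Module.End (Module.End R M) M) (T₂ : Module.End (Module.End R N) N),
      ∀ (m : M) (n : N), T (m, n) = (T₁ m, T₂ n) := by
  let inl' := LinearMap.inl R M N
  let inr' := LinearMap.inr R M N
  let fst' := LinearMap.fst R M N
  let snd' := LinearMap.snd R M N
  have hT : ∀ (φ : Module.End R (M × N)) (z : M × N), T (φ z) = φ (T z) := fun φ z => T.map_smul φ z
  have hM : ∀ (φ : Module.End R M) (m : M), (T (φ m, 0)).1 = φ (T (m, 0)).1 := by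
    intro φ m
    have := hT (inl'.comp (φ.comp fst')) (m, 0)
    simpa [inl', fst'] using congrArg Prod.fst this
  have hN : ∀ (φ : Module.End R N) (n : N), (T (0, φ n)).2 = φ (T (0, n)).2 := by
    intro φ n
    have := hT (inr'.comp (φ.comp snd')) (0, n)
    simpa [inr', snd'] using congrArg Prod.snd this
  refine ⟨{ toFun := fun m => (T (m, 0)).1, map_add' := fun a b => by rw [← Prod.fst_add, ← map_add]; simp, map_smul' := fun φ m => hM φ m },
    { toFun := fun n => (T (0, n)).2, map_add' := fun a b => by rw [← Prod.snd_add, ← map_add]; simp, map_smul' := fun φ n => hN φ n }, fun m n => ?_⟩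
  have h1 := hT (inl'.comp fst') (m, n)
  have h2 := hT (inr'.comp snd') (m, n)
  simp [inl', inr', fst', snd'] at h1 h2
  refine Prod.ext ?_ ?_
  · show (T (m, n)).1 = (T (m, 0)).1
    rw [h1]
  · show (T (m, n)).2 = (T (0, n)).2
    rw [h2]

end Groth.Agent.S16195
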