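import Groth.Statements.S16196
import Mathlib.Algebra.BigOperators.Pi
import Mathlib.LinearAlgebra.Finsupp.LinearCombination
import Mathlib.Algebra.Module.BigOperators

set_option autoImplicit false
universe u v
open DivAlg

namespace Groth.Agent.S16196

/-- Let R be a ring (associative, unital, not necessarily commutative) and M a left R-module which is a
generator, in the form: for some n there is an R-linear surjection from M^n onto R. Then the natural
ring homomorphism from R to the double endomorphism ring BiEnd_R(M) = End_{End_R(M)}(M)
(endomorphisms of M commuting with every R-linear endomorphism), r ↦ multiplication by r, is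
bijective. (The printed form takes R an algebra over a commutative ring k, embeds R in E = End_k(M)
and asserts R = C_E(C_E(R)); the double centralizer there is BiEnd_R(M).) -/
theorem result {R : Type u} [Ring R] (M : Type v)
    [AddCommGroup M] [Module R M]
    (hgen : ∃ (n : ℕ) (f : (Fin n → M) →ₗ[R] R), Function.Surjective f) :
    Function.Bijective (Module.toModuleEnd (Module.End R M) (S := R) M) := by
  classical
  obtain ⟨n, f, hf⟩ := hgen
  obtain ⟨x, hx⟩ := hf 1
  constructor
  · intro r s hrs
    have h : ∀ m : M, r • m = s • m := fun m => LinearMap.congr_fun hrs m
    have : r • f x = s • f x := by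
      rw [← map_smul, ← map_smul]; congr 1; ext i; exact h (x i)
    simpa [hx] using this
  · intro T
    refine ⟨f fun i => T (x i), LinearMap.ext fun m => ?_⟩
    show (f fun i => T (x i)) • m = T m
    let ψ : Fin n → Module.End R M := fun i => LinearMap.toSpanSingleton R M m ∘ₗ f ∘ₗ LinearMap.single R (fun _ => M) i
    have h1 : ∀ y : Fin n → M, f y • m = ∑ i, ψ i (y i) := by
      intro y
      conv_lhs => rw [← Finset.univ_sum_single y]
      simp [ψ, map_sum, Finset.sum_smul]
    rw [h1]
    have h2 : ∑ i, ψ i (x i) = m := by rw [← h1, hx, one_smul]
    conv_rhs => rw [← h2]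
    rw [map_sum]
    exact Finset.sum_congr rfl fun i _ => (T.map_smul (ψ i) (x i)).symm

end Groth.Agent.S16196
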