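import Groth.Statements.S16197
import Mathlib.LinearAlgebra.Projection

set_option autoImplicit false
universe u v w
open DivAlg

namespace Groth.Agent.S16197

/-- Let R be a ring (associative, unital, not necessarily commutative) and M a left R-module which is a
generator, used here only through the existence of an R-linear surjection from a direct sum of
copies of M, indexed by an arbitrary type, onto R. Then some finite power M^n decomposes as R × Q
for a submodule Q of M^n. (The published statement is an equivalence; this row states only the
implication from the existence of such a surjection to the splitting.) -/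
theorem result {R : Type u} [Ring R] (M : Type v)
    [AddCommGroup M] [Module R M]
    (hgen : ∃ (ι : Type w) (f : (ι →₀ M) →ₗ[R] R), Function.Surjective f) :
    ∃ (n : ℕ) (Q : Submodule R (Fin n → M)), Nonempty ((Fin n → M) ≃ₗ[R] (R × Q)) := by
  classical
  obtain ⟨ι, f, hf⟩ := hgen
  obtain ⟨z, hz⟩ := hf 1
  let e := z.support.equivFin.symm
  let g : (Fin z.support.card → M) →ₗ[R] R := ∑ j, f ∘ₗ Finsupp.lsingle ((e j : z.support) : ι) ∘ₗ LinearMap.proj j
  let y : Fin z.support.card → M := fun j => z (e j : z.support)
  have hg : g y = 1 := by
    simp only [g, y, LinearMap.sum_apply, LinearMap.comp_apply, LinearMap.proj_apply, Finsupp.lsingle_apply]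
    rw [Equiv.sum_comp e (fun i : z.support => f (Finsupp.single (i : ι) (z i))), Finset.sum_coe_sort z.support (fun i => f (Finsupp.single i (z i))), ← map_sum]
    rw [← hz]; congr 1
    exact Finsupp.sum_single z
  let s : R →ₗ[R] (Fin z.support.card → M) := LinearMap.toSpanSingleton R _ y
  refine ⟨z.support.card, LinearMap.ker g, ⟨LinearEquiv.ofLinear
    (g.prod ((LinearMap.id - s ∘ₗ g).codRestrict (LinearMap.ker g) fun v => ?_))
    (s.coprod (LinearMap.ker g).subtype) ?_ ?_⟩⟩
  · refine LinearMap.ext fun v => Prod.ext ?_ (Subtype.ext ?_) <;> simp [s, hg]
  · refine LinearMap.ext fun v => ?_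
    simp [s]
  · simp [s, hg]

end Groth.Agent.S16197
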