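import Groth.Statements.S16198
import Mathlib

set_option autoImplicit false
universe u v
open DivAlg

namespace Groth.Agent.S16198

open TensorProduct in
theorem scalar_comm {R : Type u} [CommRing R] {N : Type v} [AddCommGroup N] [Module R N] [Module.Invertible R N]
    (φ : N →ₗ[R] R) (z x : N) : φ z • x = φ x • z := by
  have := congrArg (fun t => TensorProduct.lid R N (φ.rTensor N t)) (Module.Invertible.tmul_comm (R := R) (m₁ := z) (m₂ := x))
  simpa using this

open TensorProduct in
theorem exists_invertible_power {R : Type u} [CommRing R] (N : Type v) [AddCommGroup N] [Module R N] [Module.Invertible R N] (n : ℕ) :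
    ∃ _ : Module.Invertible R (⨂[R] _ : Fin n, N), CommRing.Pic.mk R (⨂[R] _ : Fin n, N) = CommRing.Pic.mk R N ^ n := by
  induction n with
  | zero =>
    let e : (⨂[R] _ : Fin 0, N) ≃ₗ[R] R := PiTensorProduct.isEmptyEquiv (Fin 0)
    have := Module.Invertible.congr e.symm
    exact ⟨this, by rw [pow_zero, CommRing.Pic.mk_eq_one_iff]; exact ⟨e⟩⟩
  | succ n ih =>
    obtain ⟨_, hn⟩ := ih
    let e : (⨂[R] _ : Fin n, N) ⊗[R] N ≃ₗ[R] ⨂[R] _ : Fin (n + 1), N :=
      (TensorProduct.congr (LinearEquiv.refl R _) (PiTensorProduct.subsingletonEquiv (R := R) (s := fun _ : Fin 1 => N) 0).symm) ≪≫ₗ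
        PiTensorProduct.tmulEquiv R N ≪≫ₗ PiTensorProduct.reindex R (fun _ : Fin n ⊕ Fin 1 => N) finSumFinEquiv
    have := Module.Invertible.congr e
    exact ⟨this, by rw [pow_succ, ← hn, ← CommRing.Pic.mk_tensor, CommRing.Pic.mk_eq_mk_iff]; exact ⟨e.symm⟩⟩

/-- In the case of a commutative ring R, let N be an invertible R-module such that the direct sum N^n is
isomorphic to R^n for some natural number n. Then the class of N in Pic(R) satisfies [N]^n = 1. (The
published statement is for invertible modules on an arbitrary ringed site; this row states the case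
of a commutative ring.) -/
theorem result {R : Type u} [CommRing R] (N : Type v)
    [AddCommGroup N] [Module R N] [Module.Invertible R N] (n : ℕ)
    (e : (Fin n → N) ≃ₗ[R] (Fin n → R)) :
    CommRing.Pic.mk R N ^ n = 1 := by
  classical
  obtain ⟨_, hT⟩ := exists_invertible_power (R := R) N n
  rw [← hT, CommRing.Pic.mk_eq_one_iff]
  let φ : Fin n → (N →ₗ[R] (Fin n → R)) := fun i => e.toLinearMap ∘ₗ LinearMap.single R (fun _ => N) i
  let D : MultilinearMap R (fun _ : Fin n => (Fin n → R)) R := (Matrix.detRowAlternating : (Fin n → R) [⋀^Fin n]→ₗ[R] R).toMultilinearMap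
  let L : PiTensorProduct R (fun _ : Fin n => N) →ₗ[R] R := PiTensorProduct.lift (D.compLinearMap φ)
  suffices h1 : (1 : R) ∈ LinearMap.range L by
    refine ⟨LinearEquiv.ofBijective L (Module.Invertible.bijective_of_surjective fun r => ?_)⟩
    obtain ⟨t, ht⟩ := h1
    exact ⟨r • t, by rw [map_smul, ht, smul_eq_mul, mul_one]⟩
  let y : Fin n → Fin n → N := fun k => e.symm (Pi.single k 1)
  have hrow : ∀ k, (Pi.single k 1 : Fin n → R) = ∑ i, φ i (y k i) := by
    intro k
    show _ = ∑ i, e (Pi.single i (y k i))
    rw [← map_sum, Finset.univ_sum_single, LinearEquiv.apply_symm_apply]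
  have hone : (1 : R) = D fun k => (Pi.single k 1 : Fin n → R) := by
    show (1 : R) = Matrix.det (Matrix.of fun k => (Pi.single k 1 : Fin n → R))
    rw [show (Matrix.of fun k => (Pi.single k 1 : Fin n → R)) = 1 from ?_, Matrix.det_one]
    ext i j
    simp [Matrix.one_apply, Pi.single_apply, eq_comm]
  rw [hone, funext hrow, D.map_sum]
  refine Submodule.sum_mem _ fun f _ => ?_
  by_cases hf : Function.Injective f
  · have hb := Finite.injective_iff_bijective.1 hf
    let σ : Equiv.Perm (Fin n) := Equiv.ofBijective f hb
    have hperm : D (fun k => φ (f k) (y k (f k))) = Equiv.Perm.sign σ • L (PiTensorProduct.tprod R fun i => y (σ.symm i) i) := by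
      rw [PiTensorProduct.lift.tprod, MultilinearMap.compLinearMap_apply]
      have h2 := (Matrix.detRowAlternating : (Fin n → R) [⋀^Fin n]→ₗ[R] R).map_perm (fun i => φ i (y (σ.symm i) i)) σ
      refine Eq.trans ?_ h2
      show D _ = D _
      congr 1
      funext k
      show φ (σ k) (y k (σ k)) = φ (σ k) (y (σ.symm (σ k)) (σ k))
      rw [σ.symm_apply_apply]
    rw [hperm, Units.smul_def]
    exact zsmul_mem (LinearMap.mem_range_self L _) _
  · obtain ⟨k, l, hkl, hne⟩ := Function.not_injective_iff.1 hf
    suffices hz : D (fun k => φ (f k) (y k (f k))) = 0 by rw [hz]; exact Submodule.zero_mem _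
    set M := fun k => φ (f k) (y k (f k)) with hM
    let G : N → N → R := fun a b => D (Function.update (Function.update M k (φ (f k) a)) l (φ (f k) b))
    have hGM : D M = G (y k (f k)) (y l (f k)) := by
      show D M = D _
      congr 1
      rw [show φ (f k) (y k (f k)) = M k from rfl, Function.update_eq_self,
        show φ (f k) (y l (f k)) = M l by rw [hM]; simp only; rw [hkl], Function.update_eq_self]
    have hsmul : ∀ (c d : R) (a b : N), G (c • a) (d • b) = c * d * G a b := by
      intro c d a b
      show D _ = c * d * D _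
      rw [map_smul, map_smul, MultilinearMap.map_update_smul, Function.update_comm hne, MultilinearMap.map_update_smul,
        Function.update_comm hne.symm, smul_eq_mul, smul_eq_mul]
      ring
    have hdiag : ∀ a, G a a = 0 := by
      intro a
      refine (Matrix.detRowAlternating : (Fin n → R) [⋀^Fin n]→ₗ[R] R).map_eq_zero_of_eq _ ?_ hne
      rw [Function.update_self, Function.update_of_ne hne, Function.update_self]
    rw [hGM]
    set a := y k (f k)
    set b := y l (f k)
    have hsq : ∀ (ψ : N →ₗ[R] R) (z : N), ψ z ^ 2 * G a b = 0 := by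
      intro ψ z
      have := hsmul (ψ z) (ψ z) a b
      rw [scalar_comm ψ z a, scalar_comm ψ z b, hsmul, hdiag, mul_zero] at this
      rw [pow_two]
      exact this.symm
    let J : Ideal R := Ideal.span (Set.range fun q : (N →ₗ[R] R) × N => q.1 q.2)
    have hJ : J = ⊤ := by
      rw [Ideal.eq_top_iff_one]
      obtain ⟨t, ht⟩ := (Module.Invertible.linearEquiv R N).surjective 1
      rw [← ht]
      clear ht
      induction t using TensorProduct.induction_on with
      | zero => simp
      | tmul ψ z => exact Ideal.subset_span ⟨(ψ, z), rfl⟩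
      | add u v hu hv => rw [map_add]; exact add_mem hu hv
    have h2 := Ideal.span_pow_eq_top _ hJ 2
    have hann : (⊤ : Ideal R) ≤ LinearMap.ker (LinearMap.toSpanSingleton R R (G a b)) := by
      rw [← h2, Ideal.span_le]
      rintro _ ⟨_, ⟨q, rfl⟩, rfl⟩
      exact hsq q.1 q.2
    simpa using hann (Submodule.mem_top (x := (1 : R)))

end Groth.Agent.S16198
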