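import Groth.Statements.S16199
import Mathlib.RingTheory.PicardGroup
import Mathlib.LinearAlgebra.Matrix.ToLin
import Mathlib.LinearAlgebra.Matrix.GeneralLinearGroup.Defs
import Mathlib.Data.Matrix.Basis

set_option autoImplicit false
universe u
open DivAlg

namespace Groth.Agent.S16199

section

open Matrix TensorProduct

variable {R : Type u} [CommRing R] {n : ℕ}

theorem inner_of_free
    (H : ∀ (N : Type u) [AddCommGroup N] [Module R N] [Module.Invertible R N],
      Nonempty ((Fin n → N) ≃ₗ[R] (Fin n → R)) → Module.Free R N)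
    (i₀ : Fin n) (φ : Matrix (Fin n) (Fin n) R ≃ₐ[R] Matrix (Fin n) (Fin n) R) :
    ∃ P : GL (Fin n) R, ∀ A : Matrix (Fin n) (Fin n) R, φ A = P.1 * A * (P⁻¹).1 := by
  classical
  let E : Fin n → Fin n → Matrix (Fin n) (Fin n) R := fun i j => φ (Matrix.single i j 1)
  have hEE : ∀ i j k l, E i j * E k l = if j = k then E i l else 0 := by
    intro i j k l
    simp only [E, ← map_mul]
    split_ifs with h
    · subst h; rw [single_mul_single_same, mul_one]
    · rw [single_mul_single_of_ne (h := h), map_zero]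
  have hEv : ∀ i j k l v, E i j *ᵥ (E k l *ᵥ v) = (if j = k then E i l else 0) *ᵥ v := fun i j k l v => by
    rw [mulVec_mulVec, hEE]
  have hsum : ∀ v, ∑ i, E i i *ᵥ v = v := by
    intro v
    rw [← Matrix.sum_mulVec]
    have : ∑ i, E i i = 1 := by
      simp only [E, ← map_sum]
      rw [Matrix.sum_single_eq_diagonal (fun _ => (1 : R)), Matrix.diagonal_one, map_one]
    rw [this, one_mulVec]
  let N : Submodule R (Fin n → R) := LinearMap.range (E i₀ i₀).mulVecLin
  have hmem : ∀ i v, E i₀ i *ᵥ v ∈ N := fun i v => ⟨E i₀ i *ᵥ v, by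
    rw [mulVecLin_apply, hEv, if_pos rfl]⟩
  have hfix : ∀ x ∈ N, E i₀ i₀ *ᵥ x = x := by
    rintro x ⟨v, rfl⟩
    rw [mulVecLin_apply, hEv, if_pos rfl]
  let toN : Fin n → ((Fin n → R) →ₗ[R] N) := fun i => (E i₀ i).mulVecLin.codRestrict N (hmem i)
  -- endomorphisms of `N` are scalars
  have hend : ∀ h : N →ₗ[R] N, ∃ c : R, ∀ z : N, h z = c • z := by
    intro h
    let T : (Fin n → R) →ₗ[R] (Fin n → R) :=
      ∑ i, (E i i₀).mulVecLin ∘ₗ N.subtype ∘ₗ h ∘ₗ toN i
    have hT : ∀ v, T v = ∑ i, E i i₀ *ᵥ ((h (toN i v) : N) : Fin n → R) := fun v => by simp [T]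
    have hto : ∀ i k l v, toN i (E k l *ᵥ v) = if i = k then toN l v else 0 := by
      intro i k l v
      apply Subtype.ext
      show E i₀ i *ᵥ (E k l *ᵥ v) = _
      rw [hEv]
      split_ifs <;> simp [toN]
    have hcomm : ∀ k l, Commute (LinearMap.toMatrix' T) (E k l) := by
      intro k l
      apply Matrix.toLin'.injective
      rw [Matrix.toLin'_mul, Matrix.toLin'_mul, Matrix.toLin'_toMatrix']
      refine LinearMap.ext fun v => ?_
      simp only [LinearMap.comp_apply, Matrix.toLin'_apply, hT]
      rw [Finset.sum_eq_single k, Matrix.mulVec_sum, Finset.sum_eq_single l]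
      · rw [hto, if_pos rfl, hEv, if_pos rfl]
      · intro b _ hb; rw [hEv, if_neg hb.symm, zero_mulVec]
      · simp
      · intro b _ hb; rw [hto, if_neg hb]; simp
      · simp
    obtain ⟨c, hc⟩ := Matrix.mem_range_scalar_of_commute_single (M := φ.symm (LinearMap.toMatrix' T))
      fun i j _ => by
        have h2 := (hcomm i j).map φ.symm
        simp only [E, AlgEquiv.symm_apply_apply] at h2
        exact h2.symm
    have hTc : LinearMap.toMatrix' T = c • (1 : Matrix (Fin n) (Fin n) R) := by
      rw [← φ.apply_symm_apply (LinearMap.toMatrix' T), ← hc, Matrix.scalar_apply,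
        ← Matrix.smul_one_eq_diagonal, map_smul, map_one]
    refine ⟨c, fun z => Subtype.ext ?_⟩
    have h1 : T z = c • (z : Fin n → R) := by
      rw [← Matrix.toLin'_toMatrix' T, hTc, Matrix.toLin'_apply, Matrix.smul_mulVec, one_mulVec]
    rw [hT, Finset.sum_eq_single i₀] at h1
    · rw [show toN i₀ (z : Fin n → R) = z from Subtype.ext (hfix z z.2), hfix _ (h z).2] at h1
      exact h1
    · intro b _ hb
      rw [show (z : Fin n → R) = E i₀ i₀ *ᵥ (z : Fin n → R) from (hfix z z.2).symm, hto, if_neg hb]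
      simp
    · simp
  -- `N` is invertible
  let ψ : Fin n → (N →ₗ[R] R) := fun i => LinearMap.proj i₀ ∘ₗ (E i i₀).mulVecLin ∘ₗ N.subtype
  let xs : Fin n → N := fun i => toN i (Pi.single i₀ 1)
  have hone : ∑ i, ψ i (xs i) = 1 := by
    have h1 := congrFun (hsum (Pi.single i₀ 1)) i₀
    rw [Finset.sum_apply, Pi.single_eq_same] at h1
    refine Eq.trans (Finset.sum_congr rfl fun i _ => ?_) h1
    show (E i i₀ *ᵥ (E i₀ i *ᵥ Pi.single i₀ 1)) i₀ = _
    rw [hEv, if_pos rfl]
  haveI : Module.Invertible R N := by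
    refine ⟨⟨?_, fun r => ⟨r • ∑ i, ψ i ⊗ₜ[R] xs i, ?_⟩⟩⟩
    · refine Function.LeftInverse.injective
        (g := fun r => r • ∑ i, ψ i ⊗ₜ[R] xs i) fun t => ?_
      induction t using TensorProduct.induction_on with
      | zero => simp
      | add a b ha hb => simp only [map_add, add_smul, ha, hb]
      | tmul f y =>
        have hc : ∀ i, ∃ c : R, ∀ z : N, f z • xs i = c • z := fun i =>
          hend (f.smulRight (xs i))
        choose c hc using hc
        show (contractLeft R N (f ⊗ₜ[R] y)) • (∑ i, ψ i ⊗ₜ[R] xs i) = f ⊗ₜ[R] y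
        rw [contractLeft_apply, Finset.smul_sum]
        simp_rw [← TensorProduct.tmul_smul, hc _ y, TensorProduct.tmul_smul, TensorProduct.smul_tmul',
          ← TensorProduct.sum_tmul]
        congr 1
        refine LinearMap.ext fun z => ?_
        rw [LinearMap.sum_apply]
        have : ∀ i, (c i • ψ i) z = f z * ψ i (xs i) := fun i => by
          rw [LinearMap.smul_apply, ← map_smul, ← hc i z, map_smul, smul_eq_mul]
        rw [Finset.sum_congr rfl fun i _ => this i, ← Finset.mul_sum, hone, mul_one]
    · simp [map_sum, hone]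
  -- `N ^ n` is free
  let G : (Fin n → R) →ₗ[R] (Fin n → N) := LinearMap.pi toN
  let F : (Fin n → N) →ₗ[R] (Fin n → R) :=
    ∑ i, (E i i₀).mulVecLin ∘ₗ N.subtype ∘ₗ LinearMap.proj i
  have hF : ∀ x, F x = ∑ i, E i i₀ *ᵥ (x i : Fin n → R) := fun x => by simp [F]
  let e : (Fin n → N) ≃ₗ[R] (Fin n → R) := LinearEquiv.ofLinearMap F G
    (by
      refine LinearMap.ext fun v => ?_
      rw [LinearMap.comp_apply, hF, LinearMap.id_apply]
      refine Eq.trans (Finset.sum_congr rfl fun i _ => ?_) (hsum v)
      show E i i₀ *ᵥ (E i₀ i *ᵥ v) = _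
      rw [hEv, if_pos rfl])
    (by
      refine LinearMap.ext fun x => funext fun j => Subtype.ext ?_
      show E i₀ j *ᵥ F x = x j
      rw [hF, Matrix.mulVec_sum, Finset.sum_eq_single j]
      · rw [hEv, if_pos rfl, hfix _ (x j).2]
      · intro b _ hb; rw [hEv, if_neg hb.symm, zero_mulVec]
      · simp)
  haveI := H N ⟨e⟩
  obtain ⟨e₁⟩ := Module.Invertible.free_iff_linearEquiv.1 ‹Module.Free R N›
  let Q : (Fin n → R) ≃ₗ[R] (Fin n → R) := (LinearEquiv.piCongrRight fun _ => e₁.symm) ≪≫ₗ e
  let P : GL (Fin n) R := ⟨LinearMap.toMatrix' Q.toLinearMap, LinearMap.toMatrix' Q.symm.toLinearMap,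
    by rw [← LinearMap.toMatrix'_comp]; simp,
    by rw [← LinearMap.toMatrix'_comp]; simp⟩
  refine ⟨P, fun A => ?_⟩
  have hcomm : ∀ A, φ A * P.1 = P.1 * A := by
    intro A
    induction A using Matrix.induction_on' with
    | h_zero => simp
    | h_add a b ha hb => rw [map_add, add_mul, mul_add, ha, hb]
    | h_std_basis k l r =>
      have hrw : Matrix.single k l r = r • Matrix.single k l (1 : R) := by simp
      rw [hrw, map_smul, smul_mul_assoc, mul_smul_comm]
      congr 1
      apply Matrix.toLin'.injective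
      rw [Matrix.toLin'_mul, Matrix.toLin'_mul]
      refine LinearMap.ext fun v => ?_
      simp only [LinearMap.comp_apply, P, Matrix.toLin'_toMatrix']
      show E k l *ᵥ F (fun i => e₁.symm (v i)) =
        F (fun i => e₁.symm ((Matrix.single k l (1 : R) *ᵥ v) i))
      rw [hF, hF, Matrix.mulVec_sum, Finset.sum_eq_single l, Finset.sum_eq_single k]
      · rw [hEv, if_pos rfl]
        simp [Matrix.single_mulVec]
      · intro b _ hb
        have : (Matrix.single k l (1 : R) *ᵥ v) b = 0 := by
          simp [Matrix.single_mulVec, Pi.single_eq_of_ne hb, Function.update_of_ne hb]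
        simp [this]
      · simp
      · intro b _ hb; rw [hEv, if_neg hb.symm, zero_mulVec]
      · simp
  rw [← hcomm, mul_assoc]
  simp

theorem free_of_inner (i₀ : Fin n)
    (H : ∀ φ : Matrix (Fin n) (Fin n) R ≃ₐ[R] Matrix (Fin n) (Fin n) R,
      ∃ P : GL (Fin n) R, ∀ A : Matrix (Fin n) (Fin n) R, φ A = P.1 * A * (P⁻¹).1)
    (N : Type u) [AddCommGroup N] [Module R N] [Module.Invertible R N]
    (e : (Fin n → N) ≃ₗ[R] (Fin n → R)) : Module.Free R N := by
  classical
  let act : Matrix (Fin n) (Fin n) R →ₐ[R] Module.End R (Fin n → N) := AlgHom.ofLinearMap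
    { toFun := fun A => LinearMap.pi fun i => ∑ j, A i j • LinearMap.proj j
      map_add' := fun A B => by ext; simp [add_smul, Finset.sum_add_distrib]
      map_smul' := fun r A => by ext; simp [smul_smul, Finset.smul_sum] }
    (by
      refine LinearMap.ext fun x => funext fun i => ?_
      simp [Matrix.one_apply, ite_smul])
    (fun A B => by
      refine LinearMap.ext fun x => funext fun i => ?_
      simp [Matrix.mul_apply, Finset.sum_smul, Finset.smul_sum, smul_smul]
      rw [Finset.sum_comm])
  have hact : ∀ A x i, act A x i = ∑ j, A i j • x j := fun A x i => by simp [act]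
  have hbij : Function.Bijective act := by
    constructor
    · intro A B h
      ext i j
      refine (Module.Invertible.toModuleEnd_bijective R N).injective (LinearMap.ext fun y => ?_)
      have := congrFun (LinearMap.congr_fun h (Pi.single j y)) i
      simpa [hact, Pi.single_apply, smul_ite] using this
    · intro f
      have hc : ∀ i j, ∃ c : R, ∀ y : N, f (Pi.single j y) i = c • y := fun i j => by
        obtain ⟨c, hc⟩ := (Module.Invertible.toModuleEnd_bijective R N).surjective
          (LinearMap.proj i ∘ₗ f ∘ₗ LinearMap.single R (fun _ => N) j)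
        exact ⟨c, fun y => (LinearMap.congr_fun hc y).symm⟩
      choose c hc using hc
      refine ⟨Matrix.of c, LinearMap.pi_ext fun j y => funext fun i => ?_⟩
      rw [hact, hc]
      simp [Pi.single_apply, smul_ite]
  let Φ : Matrix (Fin n) (Fin n) R ≃ₐ[R] Matrix (Fin n) (Fin n) R :=
    ((AlgEquiv.ofBijective act hbij).trans (e.conjAlgEquiv R)).trans LinearMap.toMatrixAlgEquiv'
  obtain ⟨P, hP⟩ := H Φ
  let Q : (Fin n → N) →ₗ[R] (Fin n → R) := (Matrix.toLin' (P⁻¹).1) ∘ₗ e.toLinearMap
  have hQ : ∀ A x, Q (act A x) = A *ᵥ Q x := by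
    intro A x
    have h1 := congrArg (fun M => (P⁻¹).1 * M) (hP A)
    simp only [← mul_assoc] at h1
    rw [← Units.val_mul, inv_mul_cancel, Units.val_one, one_mul] at h1
    have h2 := congrArg (fun M => M *ᵥ e x) h1
    simp only [← mulVec_mulVec] at h2
    show (P⁻¹).1 *ᵥ e (act A x) = A *ᵥ ((P⁻¹).1 *ᵥ e x)
    rw [← h2]
    congr 1
    show e (act A x) = LinearMap.toMatrix' (e.conjAlgEquiv R (act A)) *ᵥ e x
    rw [← Matrix.toLin'_apply, Matrix.toLin'_toMatrix']
    simp [LinearEquiv.conjAlgEquiv_apply]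
  have hQbij : Function.Bijective Q := by
    show Function.Bijective ((fun w => (P⁻¹).1 *ᵥ w) ∘ e)
    refine Function.Bijective.comp ?_ e.bijective
    refine Function.bijective_iff_has_inverse.2 ⟨fun v => P.1 *ᵥ v, fun v => ?_, fun v => ?_⟩
    · show P.1 *ᵥ ((P⁻¹).1 *ᵥ v) = v
      rw [mulVec_mulVec, ← Units.val_mul, mul_inv_cancel, Units.val_one, one_mulVec]
    · show (P⁻¹).1 *ᵥ (P.1 *ᵥ v) = v
      rw [mulVec_mulVec, ← Units.val_mul, inv_mul_cancel, Units.val_one, one_mulVec]
  let l : N →ₗ[R] R := LinearMap.proj i₀ ∘ₗ Q ∘ₗ LinearMap.single R (fun _ => N) i₀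
  have hs : ∀ y : N, Q (Pi.single i₀ y) = Pi.single i₀ (l y) := by
    intro y
    have h1 : act (Matrix.single i₀ i₀ 1) (Pi.single i₀ y) = Pi.single i₀ y := by
      funext i
      rw [hact]
      simp [Matrix.single_apply, Pi.single_apply, ite_and, ite_smul, eq_comm]
    conv_lhs => rw [← h1, hQ]
    rw [Matrix.single_mulVec, one_mul]
    simp [l]
    rfl
  have hl : Function.Bijective l := by
    constructor
    · intro a b h
      have h3 := hQbij.injective ((hs a).trans ((congrArg _ h).trans (hs b).symm))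
      exact Pi.single_injective i₀ h3
    · intro r
      obtain ⟨x, hx⟩ := hQbij.surjective (Pi.single i₀ r)
      refine ⟨x i₀, ?_⟩
      have h1 : act (Matrix.single i₀ i₀ 1) x = x := by
        apply hQbij.injective
        rw [hQ, hx, Matrix.single_mulVec, one_mul]
        simp
        rfl
      have h2 : x = Pi.single i₀ (x i₀) := by
        conv_lhs => rw [← h1]
        funext i
        rw [hact]
        simp [Matrix.single_apply, Pi.single_apply, ite_and, ite_smul, eq_comm]
      rw [h2, hs] at hx
      exact Pi.single_injective i₀ hx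
  exact Module.Free.of_equiv (LinearEquiv.ofBijective l hl).symm

end

/-- Let R be a commutative ring and n ≥ 1. The natural map from GL_n(R) to the R-algebra automorphisms
of M_n(R) is surjective (every automorphism is inner) if and only if Pic_(n)(R) = 0, i.e. every
invertible R-module N with N^n ≅ R^n is free. (For n = 0 the left side holds trivially while the
right side fails whenever Pic(R) ≠ 0, so this row assumes n ≥ 1, which the published statement
leaves implicit; invertible modules are quantified in the universe of R, which loses nothing since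
every invertible module is finitely generated.) -/
theorem result {R : Type u} [CommRing R] (n : ℕ)
    (hn : 1 ≤ n) :
    (∀ φ : Matrix (Fin n) (Fin n) R ≃ₐ[R] Matrix (Fin n) (Fin n) R,
        ∃ P : GL (Fin n) R, ∀ A : Matrix (Fin n) (Fin n) R, φ A = P.1 * A * (P⁻¹).1) ↔
      (∀ (N : Type u) [AddCommGroup N] [Module R N] [Module.Invertible R N],
        Nonempty ((Fin n → N) ≃ₗ[R] (Fin n → R)) → Module.Free R N) := by
  exact ⟨fun H N _ _ _ ⟨e⟩ => free_of_inner ⟨0, hn⟩ H N e, fun H φ => inner_of_free H ⟨0, hn⟩ φ⟩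

end Groth.Agent.S16199
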