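import Groth.Statements.S16200
import Mathlib.RingTheory.PicardGroup
import Mathlib.RingTheory.DedekindDomain.Factorization
import Mathlib.LinearAlgebra.Pi

set_option autoImplicit false
universe u v
open DivAlg

namespace Groth.Agent.S16200

section

open TensorProduct

variable {R : Type u} [CommRing R]

theorem dual_smul_comm {M : Type*} [AddCommGroup M] [Module R M] [Module.Invertible R M]
    (f : M →ₗ[R] R) (m n : M) : f m • n = f n • m := by
  have h := congrArg (TensorProduct.lift (LinearMap.lsmul R M ∘ₗ f))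
    (Module.Invertible.tmul_comm (R := R) (m₁ := m) (m₂ := n))
  simpa using h

theorem exists_not_mem {M : Type*} [AddCommGroup M] [Module R M] [Module.Invertible R M]
    (P : Ideal R) (hP : P ≠ ⊤) : ∃ (φ : M →ₗ[R] R) (n : M), φ n ∉ P := by
  by_contra h
  push Not at h
  apply hP
  rw [Ideal.eq_top_iff_one]
  obtain ⟨t, ht⟩ := (Module.Invertible.linearEquiv R M).surjective 1
  rw [← ht]
  clear ht
  induction t using TensorProduct.induction_on with
  | zero => simp
  | tmul φ n => exact h φ n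
  | add a b ha hb => rw [map_add]; exact P.add_mem ha hb

theorem exists_split [IsDedekindDomain R] (M N : Type*) [AddCommGroup M] [Module R M]
    [Module.Invertible R M] [AddCommGroup N] [Module R N] [Module.Invertible R N] :
    ∃ (f : M →ₗ[R] R) (g : N →ₗ[R] R) (m : M) (n : N), f m + g n = 1 := by
  classical
  obtain ⟨f, m₁, hm₁⟩ := exists_not_mem (M := M) (⊥ : Ideal R) bot_ne_top
  set I : Ideal R := LinearMap.range f with hI
  have hI0 : I ≠ 0 := fun h => hm₁ (by
    rw [Ideal.zero_eq_bot] at h; rw [← h]; exact LinearMap.mem_range_self f m₁)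
  let S := (Ideal.finite_factors hI0).toFinset
  have hex : ∀ v : IsDedekindDomain.HeightOneSpectrum R, ∃ p : (N →ₗ[R] R) × N,
      p.1 p.2 ∉ v.asIdeal := fun v => by
    obtain ⟨φ, n, h⟩ := exists_not_mem (M := N) v.asIdeal v.isPrime.ne_top
    exact ⟨(φ, n), h⟩
  choose pg hpg using hex
  have hc : ∀ v : IsDedekindDomain.HeightOneSpectrum R, ∃ c ∈ ∏ w ∈ S.erase v, w.asIdeal,
      c ∉ v.asIdeal := by
    intro v
    refine SetLike.not_le_iff_exists.1 fun hle => ?_
    obtain ⟨w, hw, hwle⟩ := (Ideal.IsPrime.prod_le v.isPrime).1 hle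
    rw [Finset.mem_erase] at hw
    exact hw.1 (IsDedekindDomain.HeightOneSpectrum.ext
      (Ring.DimensionLEOne.maximalOfPrime w.ne_bot w.isPrime |>.eq_of_le v.isPrime.ne_top hwle))
  choose c hc1 hc2 using hc
  set g : N →ₗ[R] R := ∑ v ∈ S, c v • (pg v).1 with hg
  have hsup : LinearMap.range f ⊔ LinearMap.range g = ⊤ := by
    by_contra hne
    obtain ⟨P, hP, hle⟩ := Ideal.exists_le_maximal _ hne
    have hIP : I ≤ P := le_sup_left.trans hle
    have hP0 : P ≠ ⊥ := fun h => hI0 (by rw [Ideal.zero_eq_bot]; exact eq_bot_iff.2 (h ▸ hIP))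
    let v : IsDedekindDomain.HeightOneSpectrum R := ⟨P, hP.isPrime, hP0⟩
    have hvS : v ∈ S := by simp [S, Ideal.dvd_iff_le, v, hIP]
    have hmem : g (pg v).2 ∈ P := hle (Submodule.mem_sup_right (LinearMap.mem_range_self g _))
    rw [hg, LinearMap.sum_apply, ← Finset.add_sum_erase _ _ hvS] at hmem
    have hrest : ∑ w ∈ S.erase v, (c w • (pg w).1) (pg v).2 ∈ P := by
      refine Ideal.sum_mem _ fun w hw => ?_
      rw [LinearMap.smul_apply, smul_eq_mul]
      refine P.mul_mem_right _ ?_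
      have hv' : v ∈ S.erase w := by
        rw [Finset.mem_erase] at hw ⊢
        exact ⟨Ne.symm hw.1, hvS⟩
      exact Ideal.le_of_dvd (Finset.dvd_prod_of_mem (fun u => u.asIdeal) hv') (hc1 w)
    rw [Ideal.add_mem_iff_left _ hrest, LinearMap.smul_apply, smul_eq_mul] at hmem
    rcases hP.isPrime.mem_or_mem hmem with h | h
    · exact hc2 v h
    · exact hpg v h
  obtain ⟨_, ⟨m, rfl⟩, _, ⟨n, rfl⟩, h⟩ := Submodule.mem_sup.1
    (hsup.symm ▸ (Submodule.mem_top : (1 : R) ∈ ⊤))
  exact ⟨f, g, m, n, h⟩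

/-- `M × N ≅ R × (M ⊗ N)` for invertible modules over a Dedekind domain. -/
theorem nonempty_prod_equiv [IsDedekindDomain R] (M N : Type*) [AddCommGroup M] [Module R M]
    [Module.Invertible R M] [AddCommGroup N] [Module R N] [Module.Invertible R N] :
    Nonempty ((M × N) ≃ₗ[R] R × (M ⊗[R] N)) := by
  obtain ⟨f, g, m₀, n₀, h⟩ := exists_split (R := R) M N
  let fwd : (M × N) →ₗ[R] R × (M ⊗[R] N) :=
    LinearMap.prod (f.coprod g)
      (((TensorProduct.mk R M N).flip n₀).coprod (-(TensorProduct.mk R M N m₀)))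
  let φ : M ⊗[R] N →ₗ[R] M × N := TensorProduct.lift
    (LinearMap.mk₂ R (fun m n => (g n • m, -(f m • n)))
      (fun a b n => by simp [add_smul]; abel) (fun r a n => by simp [smul_smul, mul_comm])
      (fun m a b => by simp [add_smul]; abel) (fun r m a => by simp [smul_smul, mul_comm]))
  let bwd : R × (M ⊗[R] N) →ₗ[R] M × N := (LinearMap.toSpanSingleton R _ (m₀, n₀)).coprod φ
  refine ⟨LinearEquiv.ofLinearMap fwd bwd ?_ ?_⟩
  · refine LinearMap.prod_ext (LinearMap.ext_ring ?_) (TensorProduct.ext' fun m n => ?_)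
    · simp [fwd, bwd, h]
    · simp only [fwd, bwd, φ, LinearMap.coe_comp, LinearMap.coe_inr, Function.comp_apply,
        LinearMap.coprod_apply, map_zero, zero_add, lift.tmul, LinearMap.mk₂_apply,
        LinearMap.prod_apply, Function.prod, LinearMap.flip_apply, TensorProduct.mk_apply, map_neg,
        map_smul, LinearMap.neg_apply, neg_neg, LinearMap.id_coe, id_eq, smul_eq_mul]
      ext
      · simp [mul_comm]
      · show g n • (m ⊗ₜ[R] n₀) + -(f m • -(m₀ ⊗ₜ[R] n)) = m ⊗ₜ[R] n
        rw [← TensorProduct.tmul_smul, smul_neg, neg_neg, smul_tmul', dual_smul_comm f m m₀,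
          dual_smul_comm g n n₀, TensorProduct.tmul_smul, ← smul_tmul', ← add_smul, add_comm, h,
          one_smul]
  · refine LinearMap.ext fun ⟨m, n⟩ => ?_
    simp only [fwd, bwd, φ, LinearMap.coe_comp, Function.comp_apply, LinearMap.coprod_apply,
      LinearMap.prod_apply, Function.prod, LinearMap.flip_apply, TensorProduct.mk_apply, map_add,
      map_neg, LinearMap.neg_apply, lift.tmul, LinearMap.mk₂_apply, LinearMap.id_coe, id_eq,
      LinearMap.toSpanSingleton_apply, Prod.smul_mk, Prod.neg_mk, neg_neg, Prod.mk_add_mk]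
    refine Prod.ext ?_ ?_
    · show f m • m₀ + g n • m₀ + (g n₀ • m + -(g n • m₀)) = m
      rw [dual_smul_comm f m m₀]
      have : f m₀ • m + g n₀ • m = m := by rw [← add_smul, h, one_smul]
      conv_rhs => rw [← this]
      abel
    · show f m • n₀ + g n • n₀ + (-(f m • n₀) + f m₀ • n) = n
      rw [dual_smul_comm g n n₀]
      have : f m₀ • n + g n₀ • n = n := by rw [← add_smul, h, one_smul]
      conv_rhs => rw [← this]
      abel

theorem nonempty_fin_succ [IsDedekindDomain R] (N : Type v) [AddCommGroup N] [Module R N]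
    [Module.Invertible R N] (n : ℕ) : ∀ (L : Type u) [AddCommGroup L] [Module R L]
      [Module.Invertible R L], CommRing.Pic.mk R L = CommRing.Pic.mk R N ^ (n + 1) →
      Nonempty ((Fin (n + 1) → N) ≃ₗ[R] (Fin n → R) × L) := by
  induction n with
  | zero =>
    intro L _ _ _ hL
    rw [zero_add, pow_one] at hL
    obtain ⟨e⟩ := CommRing.Pic.mk_eq_iff.1 hL
    let e' : L ≃ₗ[R] N := e ≪≫ₗ CommRing.Pic.mk.linearEquiv R N
    exact ⟨(LinearEquiv.funUnique (Fin 1) R N) ≪≫ₗ e'.symm ≪≫ₗ
      (LinearEquiv.ofLinearMap (LinearMap.inr R (Fin 0 → R) L) (LinearMap.snd R (Fin 0 → R) L)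
        (LinearMap.ext fun x => Prod.ext (Subsingleton.elim _ _) rfl) (LinearMap.ext fun x => rfl))⟩
  | succ n ih =>
    intro L _ _ _ hL
    let L' : CommRing.Pic R := CommRing.Pic.mk R N ^ (n + 1)
    obtain ⟨e⟩ := ih L' CommRing.Pic.mk_eq_self
    obtain ⟨e₂⟩ := nonempty_prod_equiv (R := R) N L'
    have hh : CommRing.Pic.mk R (N ⊗[R] L') = CommRing.Pic.mk R L := by
      rw [CommRing.Pic.mk_tensor, CommRing.Pic.mk_eq_self, hL, pow_succ' _ (n + 1)]
    obtain ⟨e₃⟩ := CommRing.Pic.mk_eq_mk_iff.1 hh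
    exact ⟨(Fin.consLinearEquiv R (fun _ : Fin (n + 1 + 1) => N)).symm ≪≫ₗ
      LinearEquiv.prodCongr (.refl R N) e ≪≫ₗ
      (LinearEquiv.prodAssoc R N (Fin n → R) L').symm ≪≫ₗ
      LinearEquiv.prodCongr (LinearEquiv.prodComm R N (Fin n → R)) (.refl R L') ≪≫ₗ
      LinearEquiv.prodAssoc R (Fin n → R) N L' ≪≫ₗ
      LinearEquiv.prodCongr (.refl R (Fin n → R)) e₂ ≪≫ₗ
      (LinearEquiv.prodAssoc R (Fin n → R) R (N ⊗[R] L')).symm ≪≫ₗ
      LinearEquiv.prodCongr (LinearEquiv.prodComm R (Fin n → R) R ≪≫ₗ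
        Fin.consLinearEquiv R (fun _ : Fin (n + 1) => R)) e₃⟩

end

/-- Let R be a Dedekind domain, N an invertible R-module and n a natural number with [N]^n = 1 in
Pic(R). Then the direct sum N^n is isomorphic to R^n; thus over a Dedekind domain the invertible
modules N with N^n ≅ R^n are exactly the n-torsion classes of Pic(R), the other inclusion holding
over any commutative ring. -/
theorem result {R : Type u} [CommRing R]
    [IsDedekindDomain R] (N : Type v) [AddCommGroup N] [Module R N] [Module.Invertible R N]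
    (n : ℕ) (h : CommRing.Pic.mk R N ^ n = 1) :
    Nonempty ((Fin n → N) ≃ₗ[R] (Fin n → R)) := by
  rcases n with _ | n
  · exact ⟨{ toFun := fun _ => 0, invFun := fun _ => 0, map_add' := by simp, map_smul' := by simp,
             left_inv := fun x => Subsingleton.elim _ _, right_inv := fun x => Subsingleton.elim _ _ }⟩
  · obtain ⟨e⟩ := nonempty_fin_succ N n R (CommRing.Pic.mk_self.trans h.symm)
    exact ⟨e ≪≫ₗ LinearEquiv.prodComm R (Fin n → R) R ≪≫ₗ
      Fin.consLinearEquiv R (fun _ : Fin (n + 1) => R)⟩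

end Groth.Agent.S16200
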