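import Groth.Statements.S16201
import Groth.Agent.Lib.VarDim.Irred

set_option autoImplicit false
open CategoryTheory AlgebraicGeometry
open Variety

namespace Groth.Agent.S16201

/-- Let f : Y → Z be a morphism of schemes of finite type over ℂ, with Z irreducible. Suppose that the
general fibre of f is irreducible, in the sense that there is a nonempty open subset V of Z such
that the fibre of f over every closed point of V is an irreducible topological space, and that each
irreducible component of Y has dense image in Z. Then Y is irreducible. (The published statement is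
for a morphism of projective varieties; only finiteness of type over the field is used, and the row
is stated in that generality.) -/
theorem result
    (Y Z : Scheme.{0}) (g : Z ⟶ Spec (CommRingCat.of ℂ)) (f : Y ⟶ Z)
    [LocallyOfFiniteType g] [QuasiCompact g] [LocallyOfFiniteType f] [QuasiCompact f]
    [IrreducibleSpace Z]
    (hgen : ∃ V : Z.Opens, (V : Set Z).Nonempty ∧
      ∀ z ∈ V, IsClosed ({z} : Set Z) → IsIrreducible (f.base ⁻¹' {z}))
    (hdom : ∀ W ∈ irreducibleComponents Y, Dense (f.base '' W)) :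
    IrreducibleSpace Y := by
  classical
  haveI := Groth.Agent.VarDim.noetherianSpace_of_finiteType (f ≫ g)
  haveI : JacobsonSpace Y := LocallyOfFiniteType.jacobsonSpace (f ≫ g)
  obtain ⟨G, hG⟩ := Groth.Agent.VarDim.exists_finite_generic (X := Y) isClosed_univ
  obtain ⟨V, hVne, hV⟩ := hgen
  have hVη : genericPoint Z ∈ V := by
    obtain ⟨v, hv⟩ := hVne
    exact (genericPoint_specializes v).mem_open V.2 hv
  have hdomg : ∀ a : Y, (∀ x, x ⤳ a → x = a) → f a = genericPoint Z := fun a ha => by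
    have h1 : f.base '' closure {a} ⊆ closure {f a} := by
      rintro _ ⟨x, hx, rfl⟩
      exact specializes_iff_mem_closure.mp ((specializes_iff_mem_closure.mpr hx).map f.continuous)
    have h2 : genericPoint Z ∈ closure ({f a} : Set Z) := closure_minimal h1 isClosed_closure
      (hdom _ ((Groth.Agent.VarDim.maximal_iff_mem_irreducibleComponents a).mp ha) _)
    exact ((specializes_iff_mem_closure.mpr h2).antisymm (genericPoint_specializes _)).eq
  obtain ⟨z₀, hz₀V, -, hz₀⟩ := Groth.Agent.VarDim.exists_closedPoint g (𝟙 Z) V.2 hVη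
  obtain ⟨y₀, -⟩ := (hV z₀ hz₀V hz₀).nonempty
  obtain ⟨a, -, ha⟩ := Groth.Agent.VarDim.exists_maximal_specializes (f ≫ g) y₀
  refine irreducibleSpace_def _ |>.mpr (?_ : IsIrreducible (Set.univ : Set Y))
  suffices h : closure ({a} : Set Y) = Set.univ by rw [← h]; exact isIrreducible_singleton.closure
  refine Set.eq_univ_of_forall fun x => ?_
  obtain ⟨b, hbx, hb⟩ := Groth.Agent.VarDim.exists_maximal_specializes (f ≫ g) x
  suffices hab : a = b by rw [hab]; exact specializes_iff_mem_closure.mp hbx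
  let G' := G.filter fun c => ∀ x, x ⤳ c → x = c
  have only : ∀ c : Y, ∃ W : Y.Opens, ((∀ x, x ⤳ c → x = c) → c ∈ W) ∧
      ∀ d ∈ G', d ≠ c → ∀ x ∈ W, ¬ d ⤳ x := fun c => by
    refine ⟨⟨⋂ d ∈ G'.erase c, (closure {d})ᶜ, isOpen_biInter_finset fun _ _ => isClosed_closure.isOpen_compl⟩,
      fun hc => Set.mem_iInter₂.mpr fun d hd hmem => (Finset.mem_erase.mp hd).1 (hc d (specializes_iff_mem_closure.mpr hmem)),
      fun d hd hne x hx hdx => Set.mem_iInter₂.mp hx d (Finset.mem_erase.mpr ⟨hne, hd⟩) (specializes_iff_mem_closure.mp hdx)⟩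
  obtain ⟨Wa, haW, hWa⟩ := only a
  obtain ⟨Wb, hbW, hWb⟩ := only b
  haveI : TopologicalSpace.NoetherianSpace ↥(Wb : Scheme.{0}) := TopologicalSpace.NoetherianSpace.set (Wb : Set Y)
  haveI : QuasiCompact (Wb.ι ≫ f) := inferInstance
  obtain ⟨Vb, hVb, hsurj⟩ := Groth.Agent.VarDim.exists_closed_over g (Wb.ι ≫ f) ⟨b, hbW hb⟩
  have hfb : f b ∈ Vb := hVb
  have hopen : IsOpen ((Wa : Set Y) ∩ f ⁻¹' ((V : Set Z) ∩ Vb)) := Wa.2.inter ((V.2.inter Vb.2).preimage f.continuous)
  obtain ⟨x₁, hx₁, -, hx₁c⟩ := Groth.Agent.VarDim.exists_closedPoint g f hopen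
    (g := a) ⟨haW ha, show f a ∈ (V : Set Z) ∩ Vb by rw [hdomg a ha]; exact ⟨hVη, hdomg b hb ▸ hfb⟩⟩
  have hz := Groth.Agent.VarDim.isClosed_singleton_image g f hx₁c
  obtain ⟨x₂, -, hx₂⟩ := hsurj (f x₁) hx₁.2.2 (show f b ⤳ f x₁ by rw [hdomg b hb]; exact genericPoint_specializes _)
  have hirr := hV (f x₁) hx₁.2.1 hz
  have hcl : IsClosed (f.base ⁻¹' ({f x₁} : Set Z)) := hz.preimage f.continuous
  obtain ⟨c, hcξ, hc⟩ := Groth.Agent.VarDim.exists_maximal_specializes (f ≫ g) hirr.genericPoint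
  have hcG : c ∈ G' := by
    obtain ⟨c', hc', hc'c⟩ := (hG c).mp trivial
    exact Finset.mem_filter.mpr ⟨hc c' hc'c ▸ hc', hc⟩
  have hspec : ∀ x ∈ f.base ⁻¹' ({f x₁} : Set Z), hirr.genericPoint ⤳ x := fun x hx => by
    rw [specializes_iff_mem_closure, hirr.closure_genericPoint hcl]; exact hx
  have h1 : c = a := by
    by_contra hne
    exact hWa c hcG hne x₁ hx₁.1 (hcξ.trans (hspec x₁ rfl))
  have h2 : c = b := by
    by_contra hne
    exact hWb c hcG hne (Wb.ι x₂) x₂.2 (hcξ.trans (hspec (Wb.ι x₂) hx₂))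
  exact h1.symm.trans h2

end Groth.Agent.S16201
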