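import Groth.Statements.S16202
import Groth.Agent.Lib.AffCompl.Ample

set_option autoImplicit false
open CategoryTheory CategoryTheory.Limits AlgebraicGeometry
open Variety

namespace Groth.Agent.S16202

/-- Let X be an integral projective scheme over ℂ of dimension at least 2 and D an effective ample
divisor on X. Then the support of D is connected. Here D is given by an ample invertible module L
together with a nonzero global section s (a monomorphism O_X → L), and its support is the zero
scheme Z(s), which is asserted to be a connected (in particular nonempty) topological space. -/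
theorem result
    (X : Scheme.{0}) (f : X ⟶ Spec (CommRingCat.of ℂ)) [IsIntegral X]
    (hproj : (∃ (n : ℕ) (ι : X ⟶ CohB1.ProjSpace n ℂ), IsClosedImmersion ι ∧ ι ≫ CohB1.ProjSpace.toSpec n ℂ = f))
    (hdim : (2 : WithBot ℕ∞) ≤ topologicalKrullDim X)
    (L : X.Modules) (hL : CohB1.IsAmple L) (s : Coh.structureModule X ⟶ L) (hs : Mono s) :
    ConnectedSpace ↥(PicF2.zeroScheme L s).subscheme := by
  obtain ⟨n, ι, hι, hιf⟩ := hproj
  haveI : IsProper f := hιf ▸ inferInstance
  exact Groth.Agent.AffCompl.connectedSpace_zeroScheme f hdim hL s
    (Groth.Agent.AffCompl.genLocus_nonempty hL.1 s hs)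

end Groth.Agent.S16202
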