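import Groth.Statements.S16206
import Mathlib.Tactic

set_option autoImplicit false
open RatCurv

namespace Groth.Agent.S16206

open W4c3cyccovratcurv SimpleGraph

/-- Move the neighbours of `w` to `c`. -/
def slideG {n : ℕ} (G : SimpleGraph (Fin n)) (c w : Fin n) : SimpleGraph (Fin n) :=
  SimpleGraph.fromRel fun a b => (a = c ∧ (b = w ∨ G.Adj w b)) ∨ (G.Adj a b ∧ a ≠ w ∧ b ≠ w)

theorem isTree_slideG {n : ℕ} {G : SimpleGraph (Fin n)} (hG : G.IsTree) {c w : Fin n} (h : G.Adj c w) :
    (slideG G c w).IsTree := by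
  classical
  have hcw : (slideG G c w).Adj c w := ⟨h.ne, Or.inl (Or.inl ⟨rfl, Or.inl rfl⟩)⟩
  have hconn : (slideG G c w).Connected := by
    haveI : Nonempty (Fin n) := ⟨c⟩
    have hstep : ∀ a b, G.Adj a b → (slideG G c w).Reachable a b := by
      intro a b hab
      by_cases ha : a = w
      · subst ha
        by_cases hb : b = c
        · subst hb; exact hcw.symm.reachable
        · exact hcw.symm.reachable.trans (Adj.reachable ⟨Ne.symm hb, Or.inl (Or.inl ⟨rfl, Or.inr hab⟩)⟩)
      by_cases hb : b = w
      · subst hb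
        by_cases ha' : a = c
        · subst ha'; exact hcw.reachable
        · exact Reachable.trans (Adj.reachable ⟨ha', Or.inr (Or.inl ⟨rfl, Or.inr hab.symm⟩)⟩) hcw.reachable
      exact Adj.reachable ⟨hab.ne, Or.inl (Or.inr ⟨hab, ha, hb⟩)⟩
    refine ⟨fun a b => ?_⟩
    obtain ⟨p⟩ := hG.isConnected.preconnected a b
    induction p with
    | nil => rfl
    | cons hab _ ih => exact (hstep _ _ hab).trans ih
  refine isTree_iff_connected_and_card.mpr ⟨hconn, le_antisymm ?_ hconn.card_vert_le_card_edgeSet_add_one⟩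
  rw [← (isTree_iff_connected_and_card.mp hG).2]
  refine Nat.add_le_add_right ?_ 1
  let f : Sym2 (Fin n) → Sym2 (Fin n) := fun e =>
    if e = s(c, w) then s(c, w) else e.map fun x => if x = w then c else x
  have hsub : (slideG G c w).edgeSet ⊆ f '' G.edgeSet := by
    intro e
    induction e using Sym2.ind with
    | h a b =>
      intro hab
      have key : ∀ a b, a ≠ b → ((a = c ∧ (b = w ∨ G.Adj w b)) ∨ (G.Adj a b ∧ a ≠ w ∧ b ≠ w)) →
          s(a, b) ∈ f '' G.edgeSet := by
        intro a b hne hr
        rcases hr with ⟨rfl, rfl | hb⟩ | ⟨hab, ha, hb⟩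
        · exact ⟨s(a, b), h, by simp [f]⟩
        · refine ⟨s(w, b), hb, ?_⟩
          have h1 : s(w, b) ≠ s(a, w) := by
            simp only [ne_eq, Sym2.eq_iff]; rintro (⟨h1, h2⟩ | ⟨-, h2⟩)
            · exact hb.ne h2.symm
            · exact hne h2.symm
          simp [f, if_neg h1, hb.ne.symm]
        · refine ⟨s(a, b), hab, ?_⟩
          have h1 : s(a, b) ≠ s(c, w) := by
            simp only [ne_eq, Sym2.eq_iff]; rintro (⟨-, h2⟩ | ⟨h1, -⟩)
            · exact hb h2
            · exact ha h1
          simp [f, if_neg h1, ha, hb]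
      obtain ⟨hne, hr | hr⟩ := hab
      · exact key a b hne hr
      · rw [Sym2.eq_swap]; exact key b a hne.symm hr
  rw [Nat.card_coe_set_eq, Nat.card_coe_set_eq]
  exact (Set.ncard_le_ncard hsub (Set.toFinite _)).trans (Set.ncard_image_le (Set.toFinite _))

/-- The marked tree after sliding `w` into `c`. -/
def slideT {k : ℕ} (T : MarkedTree k) {c w : Fin T.n} (h : T.graph.Adj c w) : MarkedTree k where
  n := T.n
  graph := slideG T.graph c w
  isTree := isTree_slideG T.isTree h
  mark i := if T.mark i = w then c else T.mark i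

theorem conicAdj_slideT {k : ℕ} (T : MarkedTree k) {c w : Fin T.n} (h : T.graph.Adj c w) :
    ConicAdj T (slideT T h) := by
  have h2 : (slideT T h).graph.Adj c w := ⟨h.ne, Or.inl (Or.inl ⟨rfl, Or.inl rfl⟩)⟩
  have hG : contract T.graph c w = contract (slideG T.graph c w) c w := by
    ext ⟨a, ha⟩ ⟨b, hb⟩
    simp only [contract, slideG, fromRel_adj, ne_eq, Subtype.mk.injEq]
    have := T.graph.adj_comm a b
    have := h.ne
    grind
  refine ⟨c, w, c, w, h, h2, ⟨Equiv.refl _, ?_⟩, rfl, fun i => ?_⟩
  · intro a b; exact iff_of_eq (congrArg (fun G => G.Adj a b) hG.symm)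
  · change contractMark T.mark c w h.ne i = contractMark (slideT T h).mark c w _ i
    by_cases hi : T.mark i = w <;> simp [contractMark, slideT, hi, h.ne]

theorem conicAdj_symm {k : ℕ} {T₁ T₂ : MarkedTree k} (h : ConicAdj T₁ T₂) : ConicAdj T₂ T₁ := by
  obtain ⟨u₁, w₁, u₂, w₂, h₁, h₂, φ, hu, hm⟩ := h
  exact ⟨u₂, w₂, u₁, w₁, h₂, h₁, φ.symm, by rw [← hu]; exact φ.symm_apply_apply _,
    fun i => by rw [← hm i]; exact φ.symm_apply_apply _⟩

theorem reach_normal {k : ℕ} (n : ℕ) (hn : 0 < n) (G : SimpleGraph (Fin n)) (hG : G.IsTree)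
    (m : Fin k → Fin n) :
    ∃ hS : (SimpleGraph.fromRel fun a _ : Fin n => a = ⟨0, hn⟩).IsTree,
      Relation.ReflTransGen ConicAdj (⟨n, G, hG, m⟩ : MarkedTree k) ⟨n, _, hS, fun _ => ⟨0, hn⟩⟩ := by
  classical
  set c : Fin n := ⟨0, hn⟩ with hc
  induction hN : (Finset.univ.filter fun v => v ≠ c ∧ ¬ G.Adj c v).card +
      (Finset.univ.filter fun i => m i ≠ c).card using Nat.strong_induction_on generalizing G m with
  | _ N ih =>
    have step : ∀ w, (hw : G.Adj c w) →
        ((∃ x, x ≠ c ∧ ¬ G.Adj c x ∧ G.Adj w x) ∨ ∃ i, m i = w) →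
        ∃ hS : (SimpleGraph.fromRel fun a _ : Fin n => a = c).IsTree,
          Relation.ReflTransGen ConicAdj (⟨n, G, hG, m⟩ : MarkedTree k) ⟨n, _, hS, fun _ => c⟩ := by
      intro w hw hgain
      suffices hlt : (Finset.univ.filter fun v => v ≠ c ∧ ¬ (slideG G c w).Adj c v).card +
          (Finset.univ.filter fun i => (if m i = w then c else m i) ≠ c).card < N by
        obtain ⟨hS, hrel⟩ := ih _ hlt (slideG G c w) (isTree_slideG hG hw) (fun i => if m i = w then c else m i) rfl
        exact ⟨hS, Relation.ReflTransGen.head (conicAdj_slideT (⟨n, G, hG, m⟩ : MarkedTree k) hw) hrel⟩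
      subst hN
      have hA : ∀ v, v ≠ c → G.Adj c v → (slideG G c w).Adj c v := fun v hv hcv => by
        by_cases hvw : v = w
        · exact ⟨hv.symm, Or.inl (Or.inl ⟨rfl, Or.inl hvw⟩)⟩
        · exact ⟨hv.symm, Or.inl (Or.inr ⟨hcv, hw.ne, hvw⟩)⟩
      have h1 : (Finset.univ.filter fun v => v ≠ c ∧ ¬ (slideG G c w).Adj c v) ⊆
          (Finset.univ.filter fun v => v ≠ c ∧ ¬ G.Adj c v) := fun v hv => by
        simp only [Finset.mem_filter, Finset.mem_univ, true_and] at hv ⊢
        exact ⟨hv.1, fun h => hv.2 (hA v hv.1 h)⟩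
      have h2 : (Finset.univ.filter fun i => (if m i = w then c else m i) ≠ c) ⊆
          (Finset.univ.filter fun i => m i ≠ c) := fun i hi => by
        simp only [Finset.mem_filter, Finset.mem_univ, true_and] at hi ⊢
        split_ifs at hi with h
        · exact absurd rfl hi
        · exact hi
      rcases hgain with ⟨x, hxc, hxA, hwx⟩ | ⟨i, hi⟩
      · refine Nat.add_lt_add_of_lt_of_le (Finset.card_lt_card ⟨h1, fun hle => ?_⟩) (Finset.card_le_card h2)
        have := hle (show x ∈ _ by simp [hxc, hxA])
        simp only [Finset.mem_filter] at this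
        exact this.2.2 ⟨hxc.symm, Or.inl (Or.inl ⟨rfl, Or.inr hwx⟩)⟩
      · refine Nat.add_lt_add_of_le_of_lt (Finset.card_le_card h1) (Finset.card_lt_card ⟨h2, fun hle => ?_⟩)
        have := hle (show i ∈ _ by simp [hi, hw.ne.symm])
        simp [hi] at this
    by_cases hstar : ∀ v, v ≠ c → G.Adj c v
    · by_cases hmk : ∀ i, m i = c
      · have hGS : G = SimpleGraph.fromRel (fun a _ : Fin n => a = c) := by
          ext a b
          simp only [fromRel_adj]
          refine ⟨fun hab => ⟨hab.ne, ?_⟩, ?_⟩
          · by_contra hne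
            push Not at hne
            refine isAcyclic_iff_forall_adj_isBridge.mp hG.IsAcyclic hab ?_
            refine (Adj.reachable ?_).trans (Adj.reachable (u := c) ?_)
            · rw [deleteEdges_adj, Set.mem_singleton_iff, Sym2.eq_iff]
              exact ⟨(hstar a hne.1).symm, by grind⟩
            · rw [deleteEdges_adj, Set.mem_singleton_iff, Sym2.eq_iff]
              exact ⟨hstar b hne.2, by grind⟩
          · rintro ⟨hne, rfl | rfl⟩
            · exact hstar b hne.symm
            · exact (hstar a hne).symm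
        obtain rfl : m = fun _ => c := funext hmk
        subst hGS
        exact ⟨hG, Relation.ReflTransGen.refl⟩
      · push Not at hmk
        obtain ⟨i, hi⟩ := hmk
        exact step (m i) (hstar _ hi) (Or.inr ⟨i, rfl⟩)
    · push Not at hstar
      obtain ⟨v, hv, hv'⟩ := hstar
      obtain ⟨p⟩ := hG.isConnected.preconnected c v
      obtain ⟨d, -, hd1, hd2⟩ := p.exists_boundary_dart {x | x = c ∨ G.Adj c x} (Or.inl rfl)
        (fun h => h.elim hv hv')
      simp only [Set.mem_ofPred_eq, not_or] at hd1 hd2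
      rcases hd1 with hd1 | hd1
      · exact absurd (hd1 ▸ d.adj) hd2.2
      · exact step d.fst hd1 (Or.inl ⟨d.snd, hd2.1, hd2.2, d.adj⟩)


/-- Let G₁ and G₂ be dual graphs of linear trees of the same total degree e and with k marked points
each, that is finite trees with e vertices, every vertex of degree one, together with a list of k
marked vertices (repetitions allowed). Then a finite chain of conic deformations leads from G₁ to
G₂. Here a conic deformation of such a graph is the marked graph obtained by contracting one edge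
(the contracted vertex being the unique vertex of degree two), two marked trees are one step apart
when they have isomorphic conic deformations, the isomorphism matching the contracted vertices and
the i-th marked vertices, and the conclusion is that G₁ and G₂ are related by the
reflexive-transitive closure of this one-step relation. -/
theorem result (k : ℕ) (T₁ T₂ : W4c3cyccovratcurv.MarkedTree k)
    (h : T₁.n = T₂.n) :
    Relation.ReflTransGen W4c3cyccovratcurv.ConicAdj T₁ T₂ := by
  obtain ⟨n, G₁, hG₁, m₁⟩ := T₁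
  obtain ⟨n', G₂, hG₂, m₂⟩ := T₂
  change n = n' at h
  subst h
  have hn : 0 < n := Fin.pos_iff_nonempty.mpr hG₁.isConnected.nonempty
  obtain ⟨hS, h1⟩ := reach_normal n hn G₁ hG₁ m₁
  obtain ⟨_, h2⟩ := reach_normal n hn G₂ hG₂ m₂
  exact h1.trans (@Relation.ReflTransGen.symmetric _ _ ⟨fun _ _ => conicAdj_symm⟩ |>.symm _ _ h2)

end Groth.Agent.S16206
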