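import Groth.Statements.S16209
import Groth.Agent.Lib.DlzCurve17.Duality
import Groth.Agent.Lib.CurveH1Min27.NodalOmega
import Groth.Agent.Lib.CurveH1Min27.TreeH0
-- import your own Groth.Agent.* helpers here

set_option autoImplicit false
universe u
open CategoryTheory CategoryTheory.Limits AlgebraicGeometry
attribute [local instance] HasDerivedCategory.standard
open Curves

namespace Groth.Agent.S16209

/-- Let k be an algebraically closed field and X a proper reduced connected scheme of dimension 1 over k
with at-worst-nodal singularities and H^1(X, O_X) = 0 (so X is a tree of smooth rational curves).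
For an irreducible component E of X write k_E for the number of points of E lying on the other
components and deg_E for the degree of the restriction to E with its reduced structure. Let L be an
invertible module and E_0 an irreducible component with deg_{E_0}(L) ≤ k_{E_0} − 1 and deg_E(L) ≤
k_E − 2 for every other irreducible component E. Then H^0(X, L) = 0. -/
theorem result (k : Type u) [Field k] [IsAlgClosed k] (X : Scheme.{u}) [X.Over (Spec (CommRingCat.of k))]
    [IsProper (X ↘ (Spec (CommRingCat.of k)))] [IsReduced X] [ConnectedSpace X]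
    (hdim : topologicalKrullDim X = 1) (hX : Curv2.AtWorstNodal k X)
    (hg : Subsingleton (Coh.HH X (Coh.structureModule X) 1)) (L : X.Modules) (hL : PicF.IsInvertible L)
    (E₀ : Set X) (hE₀ : E₀ ∈ irreducibleComponents (X : Type u))
    (h₀ : @Curv2.deg k _ (Scheme.IdealSheafData.vanishingIdeal ⟨E₀, isClosed_of_mem_irreducibleComponents E₀ hE₀⟩).subscheme ⟨(Scheme.IdealSheafData.vanishingIdeal ⟨E₀, isClosed_of_mem_irreducibleComponents E₀ hE₀⟩).subschemeι ≫ (X ↘ (Spec (CommRingCat.of k)))⟩ ((Scheme.Modules.pullback (Scheme.IdealSheafData.vanishingIdeal ⟨E₀, isClosed_of_mem_irreducibleComponents E₀ hE₀⟩).subschemeι).obj L) 1 ≤ ((E₀ ∩ closure E₀ᶜ).ncard : ℤ) - 1)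
    (hE : ∀ (E : Set X) (hE : E ∈ irreducibleComponents (X : Type u)), E ≠ E₀ →
      @Curv2.deg k _ (Scheme.IdealSheafData.vanishingIdeal ⟨E, isClosed_of_mem_irreducibleComponents E hE⟩).subscheme ⟨(Scheme.IdealSheafData.vanishingIdeal ⟨E, isClosed_of_mem_irreducibleComponents E hE⟩).subschemeι ≫ (X ↘ (Spec (CommRingCat.of k)))⟩ ((Scheme.Modules.pullback (Scheme.IdealSheafData.vanishingIdeal ⟨E, isClosed_of_mem_irreducibleComponents E hE⟩).subschemeι).obj L) 1 ≤ ((E ∩ closure Eᶜ).ncard : ℤ) - 2) :
    Subsingleton (Coh.HH X L 0) := by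
  haveI := CohFound.isNoetherian_of_isProper (X ↘ (Spec (CommRingCat.of k)))
  letI := DBC9.hasRpush (X ↘ (Spec (CommRingCat.of k)))
  let h := BC8.rpushPreserves (X ↘ (Spec (CommRingCat.of k)))
  haveI := BC8.isLeftAdjoint_rpushQ (X ↘ (Spec (CommRingCat.of k))) h
  let OY := BC8.oQ (Spec (CommRingCat.of k))
  have hGor := CurveH1Min27.isInvertible_dualizing_nodal k X hdim hX h OY ⟨Iso.refl _⟩
  obtain ⟨t, ht⟩ := DlzCurve17.exists_trace k X hdim h OY ⟨Iso.refl _⟩
  have ht' : CurveH1Min27.IsTrace k (DCoh.dualizingMod (X ↘ (Spec (CommRingCat.of k))) h OY 1) t := ht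
  exact CurveH1Min27.subsingleton_h0_tree hGor ht' hdim (Module.finrank_zero_of_subsingleton (R := k)) hL E₀ hE₀ h₀ hE


end Groth.Agent.S16209
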