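import Groth.Statements.S16210
import Groth.Agent.Lib.DlzCurve17.Duality
import Groth.Agent.Lib.CurveH1Min27.NodalOmega
import Groth.Agent.Lib.CurveH1Min27.Pointed0
-- import your own Groth.Agent.* helpers here

set_option autoImplicit false
universe u
open CategoryTheory CategoryTheory.Limits AlgebraicGeometry
attribute [local instance] HasDerivedCategory.standard
open Curves

namespace Groth.Agent.S16210

/-- Let k be an algebraically closed field and X a proper reduced connected scheme of dimension 1 over k
with at-worst-nodal singularities and H^1(X, O_X) = 0, and let p_1, …, p_n (n ≥ 3) be distinct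
closed points at which X is smooth over k. Let ω_X be the dualizing module of X (degree −1
cohomology sheaf of f^! O for the structure morphism f, for any choice of the data Rf_* on D_QCoh
with its right adjoint), N an inverse for the tensor product of the ideal sheaf of the reduced
closed subscheme {p_1, …, p_n}, and M any module isomorphic to ω_X ⊗ N (the dualizing module twisted
by the marked points). Then the n-pointed curve is semistable, i.e. every irreducible component E of
X has at least 2 special points (points of E on other components plus marked points on E), if and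
only if M is globally generated. -/
theorem result (k : Type u) [Field k] [IsAlgClosed k] (X : Scheme.{u}) [X.Over (Spec (CommRingCat.of k))]
    [IsProper (X ↘ (Spec (CommRingCat.of k)))] [IsReduced X] [ConnectedSpace X]
    (hdim : topologicalKrullDim X = 1) (hX : Curv2.AtWorstNodal k X)
    (hg : Subsingleton (Coh.HH X (Coh.structureModule X) 1))
    (n : ℕ) (p : Fin n → X) (hpinj : Function.Injective p) (hpcl : ∀ i, IsClosed ({p i} : Set X))
    (hpsm : ∀ i, ∃ U : X.Opens, p i ∈ U ∧ Smooth (U.ι ≫ (X ↘ (Spec (CommRingCat.of k))))) (hn : 3 ≤ n)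
    (N : X.Modules) (hN : ClSub.IsInverseOf N (ClSub.idealMod
      (Scheme.IdealSheafData.vanishingIdeal ⟨⋃ i, ({p i} : Set X), isClosed_iUnion_of_finite hpcl⟩)))
    [DCoh.HasRpush (X ↘ (Spec (CommRingCat.of k)))] (h : DCoh.RpushPreservesQCoh (X ↘ (Spec (CommRingCat.of k)))) [DCoh.HasShriek (X ↘ (Spec (CommRingCat.of k))) h]
    (OY : DCoh.DQCoh (Spec (CommRingCat.of k)))
    (hOY : Nonempty (OY.obj ≅ DCoh.inD (Spec (CommRingCat.of k)) (Coh.structureModule (Spec (CommRingCat.of k)))))
    (M : X.Modules) (hM : Nonempty (M ≅ CohB1.tensorMod (DCoh.dualizingMod (X ↘ (Spec (CommRingCat.of k))) h OY 1) N)) :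
    (∀ (E : Set X), E ∈ irreducibleComponents (X : Type u) → 2 ≤ (E ∩ closure Eᶜ).ncard + (p ⁻¹' E).ncard) ↔
      Curv2.IsGloballyGenerated M := by
  have hGor := CurveH1Min27.isInvertible_dualizing_nodal k X hdim hX h OY hOY
  obtain ⟨t, ht⟩ := DlzCurve17.exists_trace k X hdim h OY hOY
  have ht' : CurveH1Min27.IsTrace k (DCoh.dualizingMod (X ↘ (Spec (CommRingCat.of k))) h OY 1) t := ht
  have hg0 : Curv2.genus k X = 0 := by
    haveI := hg
    exact Module.finrank_zero_of_subsingleton
  exact CurveH1Min27.pointed_gg_iff_zero hGor ht' hdim hg0 hn p hpinj hpcl hN M hM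


end Groth.Agent.S16210
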