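import Groth.Statements.S16211
import Mathlib.RingTheory.Smooth.Basic
import Mathlib.Tactic

set_option autoImplicit false
universe u v
open InvTh

namespace Groth.Agent.S16211

/-- Let R be a commutative ring, O a formally smooth R-algebra and G a finite group whose order is
invertible in R, acting on O by R-algebra automorphisms. Then the largest quotient algebra of O on
which G acts trivially, namely the quotient of O by the ideal generated by all g • f - f (the
coordinate ring of the subscheme of G-fixed points of Spec O), is again formally smooth over R: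
invariant homomorphisms lift along square-zero extensions. The published statement is about a scheme
X smooth and of finite presentation over the base and concludes that its fixed-point scheme is
smooth; this row, the affine step of its proof, assumes only that O is formally smooth over R and
concludes only formal smoothness. -/
theorem result (R : Type u) [CommRing R]
    (O : Type u) [CommRing O] [Algebra R O] [Algebra.FormallySmooth R O]
    (G : Type v) [Group G] [Finite G] [MulSemiringAction G O] [SMulCommClass G R O]
    (hG : IsUnit (Nat.card G : R)) :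
    Algebra.FormallySmooth R (O ⧸ Ideal.span {x : O | ∃ (g : G) (f : O), x = g • f - f}) := by
  classical
  haveI := Fintype.ofFinite G
  set J := Ideal.span {x : O | ∃ (g : G) (f : O), x = g • f - f}
  refine Algebra.FormallySmooth.of_comp_surjective fun B _ _ N hN f => ?_
  obtain ⟨h, hh⟩ := Algebra.FormallySmooth.comp_surjective R O N hN (f.comp (Ideal.Quotient.mkₐ R J))
  have hinv : ∀ (g : G) (x : O), h (g • x) - h x ∈ N := by
    intro g x
    rw [← Ideal.Quotient.eq]
    have h1 := AlgHom.congr_fun hh (g • x)
    have h2 := AlgHom.congr_fun hh x
    simp only [AlgHom.coe_comp, Function.comp_apply, Ideal.Quotient.mkₐ_eq_mk] at h1 h2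
    rw [h1, h2]
    exact congrArg f (Ideal.Quotient.eq.mpr (Ideal.subset_span ⟨g, x, rfl⟩))
  obtain ⟨c, hc⟩ := (hG.map (algebraMap R B)).exists_left_inv
  rw [map_natCast, Nat.card_eq_fintype_card] at hc
  let T : G → O →ₐ[R] B := fun g => h.comp (MulSemiringAction.toAlgHom R O g)
  have hT : ∀ g x, T g x = h (g • x) := fun g x => rfl
  let avg : O → B := fun x => c * ∑ g, T g x
  have havg : ∀ x, avg x = h x + c * ∑ g, (T g x - h x) := fun x => by
    simp only [avg, Finset.sum_sub_distrib, Finset.sum_const, Finset.card_univ, nsmul_eq_mul]
    linear_combination (h x) * hc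
  have hNN : ∀ a ∈ N, ∀ b ∈ N, a * b = 0 := fun a ha b hb => by
    have := Ideal.mul_mem_mul ha hb
    rwa [← pow_two, hN, Submodule.mem_bot] at this
  have hD : ∀ x, c * ∑ g, (T g x - h x) ∈ N := fun x =>
    N.mul_mem_left _ (Submodule.sum_mem _ fun g _ => hinv g x)
  let ha : O →ₐ[R] B :=
    { toFun := avg
      map_one' := by simp only [avg, map_one, Finset.sum_const, Finset.card_univ, nsmul_eq_mul, mul_one, hc]
      map_mul' := fun x y => by
        have hxy : ∑ g, (T g (x * y) - h (x * y)) = h x * ∑ g, (T g y - h y) + h y * ∑ g, (T g x - h x) := by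
          rw [Finset.mul_sum, Finset.mul_sum, ← Finset.sum_add_distrib]
          refine Finset.sum_congr rfl fun g _ => ?_
          have h0 := hNN _ (hinv g x) _ (hinv g y)
          simp only [map_mul, hT, smul_mul'] at h0 ⊢
          linear_combination h0
        rw [havg, havg, havg, hxy, map_mul]
        have h0 := hNN _ (hD x) _ (hD y)
        linear_combination -h0
      map_zero' := by simp [avg]
      map_add' := fun x y => by simp only [avg, map_add, Finset.sum_add_distrib, mul_add]
      commutes' := fun r => by
        simp only [avg, AlgHom.commutes, Finset.sum_const, Finset.card_univ, nsmul_eq_mul]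
        linear_combination (algebraMap R B r) * hc }
  have hJ : ∀ x ∈ J, ha x = 0 := by
    show J ≤ RingHom.ker ha
    rw [Ideal.span_le]
    rintro _ ⟨g, x, rfl⟩
    rw [SetLike.mem_coe, RingHom.mem_ker, map_sub, sub_eq_zero]
    show c * ∑ g', T g' (g • x) = c * ∑ g', T g' x
    congr 1
    simp only [hT, smul_smul]
    exact Fintype.sum_equiv (Equiv.mulRight g) _ _ fun _ => rfl
  refine ⟨Ideal.Quotient.liftₐ J ha hJ, AlgHom.ext fun q => ?_⟩
  obtain ⟨x, rfl⟩ := Ideal.Quotient.mk_surjective q
  show Ideal.Quotient.mk N (avg x) = f (Ideal.Quotient.mk J x)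
  rw [havg, map_add, Ideal.Quotient.eq_zero_iff_mem.mpr (hD x), add_zero]
  exact AlgHom.congr_fun hh x

end Groth.Agent.S16211
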