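import Groth.Statements.S16212
import Mathlib.AlgebraicGeometry.Morphisms.Smooth
import Mathlib.AlgebraicGeometry.Morphisms.Separated
import Mathlib.AlgebraicGeometry.Morphisms.Affine

set_option autoImplicit false
universe u v
open CategoryTheory AlgebraicGeometry
open AlgGrp

namespace Groth.Agent.S16212

theorem smooth_quotient {R A B : Type u} [CommRing R] [CommRing A] [CommRing B] [Algebra R A]
    [Algebra R B] [Algebra.Smooth R A] {G : Type v} [Group G] [Finite G] (σ : G → (A →ₐ[R] A))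
    (hσ : ∀ g h a, σ g (σ h a) = σ (h * g) a) (π : A →ₐ[R] B) (hπ : Function.Surjective π)
    (hπσ : ∀ g a, π (σ g a) = π a) (hn : IsUnit (Nat.card G : R))
    (hfact : ∀ (C : Type u) [CommRing C] [Algebra R C] (χ : A →ₐ[R] C),
      (∀ g a, χ (σ g a) = χ a) → ∃ χ' : B →+* C, ∀ a, χ' (π a) = χ a) :
    Algebra.Smooth R B := by
  classical
  cases nonempty_fintype G
  have lift : ∀ (C : Type u) [CommRing C] [Algebra R C] (χ : A →ₐ[R] C),
      (∀ g a, χ (σ g a) = χ a) → ∃ χ' : B →ₐ[R] C, χ'.comp π = χ := by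
    intro C _ _ χ hχ
    obtain ⟨χ', h'⟩ := hfact C χ hχ
    refine ⟨⟨χ', fun r => ?_⟩, AlgHom.ext h'⟩
    exact (congrArg χ' (π.commutes r).symm).trans ((h' _).trans (χ.commutes r))
  constructor
  · refine Algebra.FormallySmooth.of_comp_surjective fun C _ _ I hI φ => ?_
    obtain ⟨ψ, hψ⟩ := Algebra.FormallySmooth.comp_surjective R A I hI (φ.comp π)
    have hψ' : ∀ a, Ideal.Quotient.mk I (ψ a) = φ (π a) := fun a => DFunLike.congr_fun hψ a
    obtain ⟨c, hc⟩ := hn.map (algebraMap R C)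
    rw [map_natCast, Nat.card_eq_fintype_card] at hc
    let f : A →ₗ[R] C := algebraMap R C (Ring.inverse (Nat.card G : R)) •
      ∑ g : G, (ψ.comp (σ g)).toLinearMap
    have hf : ∀ a, f a = (↑c⁻¹ : C) * ∑ g : G, ψ (σ g a) := fun a => by
      have he : algebraMap R C (Ring.inverse (Nat.card G : R)) = (↑c⁻¹ : C) := by
        refine eq_comm.1 (Units.inv_eq_of_mul_eq_one_right ?_)
        rw [hc, ← Nat.card_eq_fintype_card, ← map_natCast (algebraMap R C), ← map_mul,
          Ring.mul_inverse_cancel _ hn, map_one]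
      simp [f, Algebra.smul_def, ← he]
    have hfm : ∀ a, Ideal.Quotient.mk I (f a) = φ (π a) := fun a => by
      rw [hf, map_mul, map_sum, Finset.sum_congr rfl fun g _ => (hψ' (σ g a)).trans (by rw [hπσ])]
      rw [Finset.sum_const, Finset.card_univ, nsmul_eq_mul, ← mul_assoc,
        ← map_natCast (Ideal.Quotient.mk I), ← map_mul, ← hc, Units.inv_mul, map_one, one_mul]
    have hmul0 : ∀ x ∈ I, ∀ y ∈ I, x * y = 0 := fun x hx y hy => by
      have h := Ideal.mul_mem_mul hx hy
      rwa [← sq, hI, Ideal.mem_bot] at h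
    have hmem : ∀ g a, ψ (σ g a) - f a ∈ I := fun g a => by
      rw [← Ideal.Quotient.eq, hfm, hψ', hπσ]
    have hsum : ∀ a, ∑ g : G, (ψ (σ g a) - f a) = 0 := fun a => by
      rw [Finset.sum_sub_distrib, Finset.sum_const, Finset.card_univ, nsmul_eq_mul, ← hc, hf,
        ← mul_assoc, Units.mul_inv, one_mul, sub_self]
    have hone : f 1 = 1 := by
      rw [hf, Finset.sum_congr rfl fun g _ => show ψ (σ g 1) = 1 by rw [map_one, map_one],
        Finset.sum_const, Finset.card_univ, nsmul_eq_mul, mul_one, ← hc, Units.inv_mul]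
    have hmul : ∀ a b, f (a * b) = f a * f b := fun a b => by
      have h1 : ∀ g : G, ψ (σ g (a * b)) = f a * f b + (ψ (σ g a) - f a) * f b +
          f a * (ψ (σ g b) - f b) := fun g => by
        rw [map_mul, map_mul]
        linear_combination hmul0 _ (hmem g a) _ (hmem g b)
      rw [hf, Finset.sum_congr rfl fun g _ => h1 g, Finset.sum_add_distrib, Finset.sum_add_distrib,
        Finset.sum_const, Finset.card_univ, nsmul_eq_mul, ← Finset.sum_mul, ← Finset.mul_sum,
        hsum, hsum, zero_mul, mul_zero, add_zero, add_zero, ← hc, ← mul_assoc, Units.inv_mul, one_mul]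
    let F : A →ₐ[R] C := AlgHom.ofLinearMap f hone hmul
    obtain ⟨χ, hχ⟩ := lift C F fun h a => by
      show f (σ h a) = f a
      rw [hf, hf]
      congr 1
      calc ∑ g : G, ψ (σ g (σ h a)) = ∑ g : G, ψ (σ (h * g) a) := by simp only [hσ]
        _ = _ := Equiv.sum_comp (Equiv.mulLeft h) fun g => ψ (σ g a)
    refine ⟨χ, AlgHom.ext fun b => ?_⟩
    obtain ⟨a, rfl⟩ := hπ b
    exact (congrArg (Ideal.Quotient.mk I) (DFunLike.congr_fun hχ a)).trans (hfm a)
  · obtain ⟨s, hs⟩ := (inferInstance : Algebra.FiniteType R A).out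
    let J : Ideal A := Ideal.span ((fun p : G × A => σ p.1 p.2 - p.2) '' (Set.univ ×ˢ (s : Set A)))
    have hker : RingHom.ker π = J := by
      refine le_antisymm ?_ (Ideal.span_le.2 ?_)
      · obtain ⟨χ, hχ⟩ := lift (A ⧸ J) (Ideal.Quotient.mkₐ R J) fun g a => by
          have : (Ideal.Quotient.mkₐ R J).comp (σ g) = Ideal.Quotient.mkₐ R J :=
            AlgHom.ext_of_adjoin_eq_top hs fun x hx =>
              Ideal.Quotient.eq.2 (Ideal.subset_span ⟨(g, x), ⟨trivial, hx⟩, rfl⟩)
          exact DFunLike.congr_fun this a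
        intro a ha
        rw [← Ideal.Quotient.eq_zero_iff_mem]
        exact (DFunLike.congr_fun hχ a).symm.trans ((congrArg χ ha).trans (map_zero χ))
      · rintro _ ⟨⟨g, a⟩, -, rfl⟩
        exact (RingHom.sub_mem_ker_iff _).2 (hπσ g a)
    refine Algebra.FinitePresentation.of_surjective hπ ?_
    show Submodule.FG (RingHom.ker π)
    rw [hker]
    exact Submodule.fg_span (((Set.finite_univ).prod s.finite_toSet).image _)

theorem exists_fixed_subscheme {S : Scheme.{u}} {X : Over S} [IsSeparated X.hom] {G : Type v}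
    (r : G → (X ⟶ X)) (F : Finset G) :
    ∃ (E : Over S) (e : E ⟶ X), IsClosedImmersion e.left ∧
      ∀ (T : Over S) (t : T ⟶ X), (∀ g ∈ F, t ≫ r g = t) ↔ ∃ t' : T ⟶ E, t' ≫ e = t := by
  classical
  induction F using Finset.induction with
  | empty => exact ⟨X, 𝟙 X, by rw [Over.id_left]; infer_instance, fun T t => by simp⟩
  | insert g F _ ih =>
    obtain ⟨E, e, he, h⟩ := ih
    refine ⟨_, Limits.equalizer.ι (e ≫ r g) e ≫ e, by rw [Over.comp_left]; infer_instance, fun T t => ⟨fun ht => ?_, ?_⟩⟩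
    · obtain ⟨t', rfl⟩ := (h T t).1 fun k hk => ht k (Finset.mem_insert_of_mem hk)
      refine ⟨Limits.equalizer.lift t' ?_, by rw [Limits.equalizer.lift_ι_assoc]⟩
      rw [← Category.assoc]
      exact ht g (Finset.mem_insert_self _ _)
    · rintro ⟨t', rfl⟩ k hk
      rcases Finset.mem_insert.1 hk with rfl | hk
      · simp only [Category.assoc]
        rw [Limits.equalizer.condition]
      · exact (h T _).2 ⟨t' ≫ Limits.equalizer.ι (e ≫ r g) e, Category.assoc _ _ _⟩ k hk


/-- Let S be a scheme, X an S-scheme that is smooth, separated and of finite presentation over S, and G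
a finite group whose order is invertible on S (a unit among the global functions of S) acting on X
by S-automorphisms. Then the scheme of G-fixed points of X, namely any S-scheme Z with an S-morphism
ι to X that is itself fixed by every element of G (ι followed by the automorphism of each g equals
ι) and such that an S-morphism T → X is fixed by every element of G exactly when it factors through
ι, and then uniquely, is a closed subscheme of X (ι is a closed immersion) which is smooth and of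
finite presentation over S (smooth, quasi-compact and quasi-separated). The published statement
assumes X only smooth and of finite presentation over S; this row also assumes X separated over S. -/
theorem result (S : Scheme.{u})
    (X : Over S) [Smooth X.hom] [QuasiCompact X.hom] [IsSeparated X.hom]
    (G : Type v) [Group G] [Finite G] (ρ : G →* Aut X)
    (hG : IsUnit (Nat.card G : Γ(S, ⊤)))
    (Z : Over S) (ι : Z ⟶ X) (hι : ∀ g : G, ι ≫ (ρ g).hom = ι)
    (hZ : ∀ (T : Over S) (t : T ⟶ X), (∀ g : G, t ≫ (ρ g).hom = t) ↔ ∃! t' : T ⟶ Z, t' ≫ ι = t) :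
    IsClosedImmersion ι.left ∧ Smooth Z.hom ∧ QuasiCompact Z.hom ∧ QuasiSeparated Z.hom := by
  classical
  cases nonempty_fintype G
  have hcomp : ∀ g h : G, (ρ h).hom.left ≫ (ρ g).hom.left = (ρ (g * h)).hom.left := fun g h => by
    rw [map_mul]; rfl
  have hfix : ∀ (T : Over S) (t' : T ⟶ Z) (g : G), (t' ≫ ι) ≫ (ρ g).hom = t' ≫ ι := fun T t' g => by
    rw [Category.assoc, hι]
  obtain ⟨E, e, he, hE⟩ := exists_fixed_subscheme (fun g : G => (ρ g).hom) Finset.univ
  obtain ⟨i, hi⟩ := (hE Z ι).1 fun g _ => hι g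
  obtain ⟨j, hj, -⟩ := (hZ E e).1 fun g => (hE E e).2 ⟨𝟙 E, Category.id_comp e⟩ g (Finset.mem_univ g)
  have hij : i ≫ j = 𝟙 Z := ((hZ Z ι).1 hι).unique (by rw [Category.assoc, hj, hi]) (Category.id_comp ι)
  have : Mono e := by
    have : Mono ((Over.forget S).map e) := inferInstanceAs (Mono e.left)
    exact (Over.forget S).mono_of_mono_map this
  have hji : j ≫ i = 𝟙 E := by rw [← cancel_mono e, Category.assoc, hi, hj, Category.id_comp]
  haveI : IsIso i := ⟨j, hij, hji⟩
  haveI : IsIso i.left := inferInstanceAs (IsIso ((Over.forget S).map i))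
  haveI hcl : IsClosedImmersion ι.left := by
    rw [← hi, Over.comp_left]; infer_instance
  have hw : ι.left ≫ X.hom = Z.hom := Over.w ι
  refine ⟨hcl, ?_, by rw [← hw]; infer_instance, by rw [← hw]; infer_instance⟩
  rw [HasRingHomProperty.iff_exists_appLE (P := @Smooth)
    (RingHom.Smooth.stableUnderComposition.stableUnderCompositionWithLocalizationAway
      RingHom.Smooth.holdsForLocalizationAway).1]
  intro z
  obtain ⟨_, ⟨V, hV, rfl⟩, hzV, -⟩ :=
    S.isBasis_affineOpens.exists_subset_of_mem_open (Set.mem_univ (Z.hom z)) isOpen_univ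
  obtain ⟨_, ⟨W, hW, rfl⟩, hzW, hWV⟩ :=
    X.left.isBasis_affineOpens.exists_subset_of_mem_open
      (show ι.left z ∈ (X.hom ⁻¹ᵁ V : Set X.left) by
        show X.hom (ι.left z) ∈ V
        rw [← Scheme.Hom.comp_apply, hw]; exact hzV) (X.hom ⁻¹ᵁ V).isOpen
  let U : X.left.Opens := Finset.univ.inf' Finset.univ_nonempty fun g : G => (ρ g).hom.left ⁻¹ᵁ W
  have hle : ∀ g : G, (ρ g).hom.left ⁻¹ᵁ W ≤ X.hom ⁻¹ᵁ V := fun g => by
    refine ((ρ g).hom.left.preimage_mono hWV).trans (le_of_eq ?_)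
    rw [← Scheme.Hom.comp_preimage, Over.w (ρ g).hom]
  have hUV : U ≤ X.hom ⁻¹ᵁ V := (Finset.inf'_le _ (Finset.mem_univ 1)).trans (hle 1)
  have hU : IsAffineOpen U := by
    have key : ∀ g : G, IsAffineOpen ((ρ g).hom.left ⁻¹ᵁ W) ∧ (ρ g).hom.left ⁻¹ᵁ W ≤ X.hom ⁻¹ᵁ V := fun g =>
      ⟨hW.preimage_of_isIso _, hle g⟩
    exact (Finset.inf'_induction (p := fun P => IsAffineOpen P ∧ P ≤ X.hom ⁻¹ᵁ V)
      Finset.univ_nonempty _ (fun P hP Q hQ => ⟨isAffineHom_diagonal_iff.1 inferInstance V hV P hP.2 Q hQ.2 hP.1 hQ.1,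
        inf_le_left.trans hP.2⟩) fun g _ => key g).1
  have hinv : ∀ h : G, U ≤ (ρ h).hom.left ⁻¹ᵁ U := fun h x hx => by
    show (ρ h).hom.left x ∈ U
    have hx' : ∀ g : G, x ∈ (ρ g).hom.left ⁻¹ᵁ W := fun g =>
      (Finset.inf'_le (fun g : G => (ρ g).hom.left ⁻¹ᵁ W) (Finset.mem_univ g) : U ≤ _) hx
    exact (Finset.inf'_induction (p := fun P : X.left.Opens => (ρ h).hom.left x ∈ P)
      Finset.univ_nonempty _ (fun P hP Q hQ => ⟨hP, hQ⟩) fun g _ => by
        show (ρ g).hom.left ((ρ h).hom.left x) ∈ W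
        rw [← Scheme.Hom.comp_apply, hcomp]
        exact hx' (g * h))
  have hzU : z ∈ ι.left ⁻¹ᵁ U := Finset.inf'_induction (p := fun P : X.left.Opens => ι.left z ∈ P)
    Finset.univ_nonempty _ (fun P hP Q hQ => ⟨hP, hQ⟩) fun g _ => by
      show (ρ g).hom.left (ι.left z) ∈ W
      rw [← Scheme.Hom.comp_apply, ← Over.comp_left, hι]
      exact hzW
  have hU' : IsAffineOpen (ι.left ⁻¹ᵁ U) := hU.preimage ι.left
  have hUV' : ι.left ⁻¹ᵁ U ≤ Z.hom ⁻¹ᵁ V := by
    rw [← hw, Scheme.Hom.comp_preimage]; exact ι.left.preimage_mono hUV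
  refine ⟨⟨V, hV⟩, ⟨_, hU'⟩, hzU, hUV', ?_⟩
  let fA := (X.hom.appLE V U hUV).hom
  let fB := (Z.hom.appLE V (ι.left ⁻¹ᵁ U) hUV').hom
  letI : Algebra Γ(S, V) Γ(X.left, U) := fA.toAlgebra
  letI : Algebra Γ(S, V) Γ(Z.left, ι.left ⁻¹ᵁ U) := fB.toAlgebra
  haveI : Algebra.Smooth Γ(S, V) Γ(X.left, U) := X.hom.smooth_appLE hV hU hUV
  let σ : G → (Γ(X.left, U) →ₐ[Γ(S, V)] Γ(X.left, U)) := fun g =>
    ⟨((ρ g).hom.left.appLE U U (hinv g)).hom, fun r => by
      show (X.hom.appLE V U hUV ≫ (ρ g).hom.left.appLE U U (hinv g)) r = _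
      rw [Scheme.Hom.appLE_comp_appLE]
      simp only [Over.w]
      rfl⟩
  let π : Γ(X.left, U) →ₐ[Γ(S, V)] Γ(Z.left, ι.left ⁻¹ᵁ U) :=
    ⟨(ι.left.appLE U _ le_rfl).hom, fun r => by
      show (X.hom.appLE V U hUV ≫ ι.left.appLE U _ le_rfl) r = _
      rw [Scheme.Hom.appLE_comp_appLE]
      simp only [hw]
      rfl⟩
  have hsm : Algebra.Smooth Γ(S, V) Γ(Z.left, ι.left ⁻¹ᵁ U) := by
    refine smooth_quotient σ (fun g h a => ?_) π ?_ (fun g a => ?_) ?_ ?_
    · show ((ρ h).hom.left.appLE U U (hinv h) ≫ (ρ g).hom.left.appLE U U (hinv g)) a = _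
      rw [Scheme.Hom.appLE_comp_appLE]
      simp only [hcomp]
      rfl
    · show Function.Surjective (ι.left.appLE U (ι.left ⁻¹ᵁ U) le_rfl)
      rw [← Scheme.Hom.app_eq_appLE]
      exact ι.left.app_surjective U hU
    · show ((ρ g).hom.left.appLE U U (hinv g) ≫ ι.left.appLE U _ le_rfl) a = _
      rw [Scheme.Hom.appLE_comp_appLE]
      simp only [← Over.comp_left, hι]
      rfl
    · simpa using hG.map (S.presheaf.map (homOfLE (le_top : V ≤ ⊤)).op).hom
    · intro C _ _ χ hχ
      let χc : Γ(X.left, U) ⟶ CommRingCat.of C := CommRingCat.ofHom χ.toRingHom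
      let q : Spec (CommRingCat.of C) ⟶ X.left := Spec.map χc ≫ hU.fromSpec
      let t : Over.mk (q ≫ X.hom) ⟶ X := Over.homMk q
      have ht : ∀ g, t ≫ (ρ g).hom = t := fun g => by
        ext1
        show (Spec.map χc ≫ hU.fromSpec) ≫ (ρ g).hom.left = Spec.map χc ≫ hU.fromSpec
        rw [Category.assoc, ← IsAffineOpen.SpecMap_appLE_fromSpec (ρ g).hom.left hU hU (hinv g),
          ← Category.assoc, ← Spec.map_comp]
        congr 2
        exact CommRingCat.hom_ext (RingHom.ext (hχ g))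
      obtain ⟨t', ht', -⟩ := (hZ _ t).1 ht
      have hq : t'.left ≫ ι.left = q := congrArg CommaMorphism.left ht'
      have hrange : Set.range t'.left ⊆ Set.range hU'.fromSpec := by
        rw [hU'.range_fromSpec]
        rintro _ ⟨p, rfl⟩
        show ι.left (t'.left p) ∈ (U : Set X.left)
        rw [← Scheme.Hom.comp_apply, hq, ← hU.range_fromSpec]
        exact ⟨Spec.map χc p, rfl⟩
      refine ⟨(Spec.preimage (IsOpenImmersion.lift hU'.fromSpec t'.left hrange)).hom, fun a => ?_⟩
      have : ι.left.appLE U _ le_rfl ≫ Spec.preimage (IsOpenImmersion.lift hU'.fromSpec t'.left hrange) = χc := by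
        apply Spec.map_injective
        rw [← cancel_mono hU.fromSpec, Spec.map_comp, Spec.map_preimage, Category.assoc,
          IsAffineOpen.SpecMap_appLE_fromSpec ι.left hU hU' le_rfl, IsOpenImmersion.lift_fac_assoc, hq]
      exact congrArg (fun f => f.hom a) this
  exact hsm

end Groth.Agent.S16212
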