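import Groth.Statements.S16213
import Groth.Agent.Lib.StAlg16.AtlasEt

set_option autoImplicit false
open CategoryTheory AlgebraicGeometry
universe u
open AlgSt

namespace Groth.Agent.S16213
set_option linter.style.haveILetI false
set_option backward.isDefEq.respectTransparency false
set_option backward.isDefEq.respectTransparency.types false


/-- Let S be a scheme, let 𝒳 and 𝒴 be stacks in groupoids over (Sch/S) for the fppf topology with 𝒴 an
algebraic stack, and let f : 𝒳 ⟶ 𝒴 be a functor over (Sch/S). Suppose there are an algebraic space Z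
over S and a functor z : Z ⟶ 𝒴 over (Sch/S) which is representable by algebraic spaces, smooth and
surjective, such that the 2-fibre product Z ×_𝒴 𝒳 is an algebraic stack. Then 𝒳 is an algebraic
stack over S. -/
theorem result {S : Scheme.{u}} {𝒳 𝒴 : AlgSt.Cat S}
    (h𝒳 : Stk.IsStack (QuotSh.J Scheme.fppfPrecoverage S) 𝒳)
    (h𝒴 : AlgSt.IsAlgStack Scheme.fppfPrecoverage 𝒴) (f : 𝒳 ⥤ᵇ 𝒴)
    (Z : AlgSp.Space S) (z : AlgSt.ofSp Z.obj ⥤ᵇ 𝒴)
    (hsm : AlgSt.RepByAlgSpWith (AlgSp.LocP @Smooth) z)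
    (hsurj : AlgSt.RepByAlgSpWith AlgSp.IsSurjectiveMor z)
    (hfp : AlgSt.IsAlgStack Scheme.fppfPrecoverage (FibCat.fp z f)) :
    AlgSt.IsAlgStack Scheme.fppfPrecoverage 𝒳 := by
  obtain ⟨W, w, hw, hws⟩ := hfp.atlas
  exact Groth.Agent.StAlg16.isAlgStack_of_cover (Groth.Agent.FC16.overCat_isFibGrpd W) h𝒳 (Groth.Agent.StAlg.rep_overCat W)
    (Groth.Agent.StAlg.with_comp Groth.Agent.StAlg.goodP_locP (Groth.Agent.FC16.overCat_isFibGrpd W) hfp.isStack.1 hw (Groth.Agent.StAlg.with_fpSnd f hsm))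
    (Groth.Agent.StAlg.with_comp Groth.Agent.StAlg.goodP_surjective (Groth.Agent.FC16.overCat_isFibGrpd W) hfp.isStack.1 hws (Groth.Agent.StAlg.with_fpSnd f hsurj))

end Groth.Agent.S16213
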