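import Groth.Statements.S16216
import Groth.Agent.Lib.PtTrans32.Main
-- import your own Groth.Agent.* helpers here

set_option autoImplicit false
universe u
open CategoryTheory CategoryTheory.Limits AlgebraicGeometry
open PtDefo

namespace Groth.Agent.S16216

/-- Let k be an algebraically closed field of characteristic neither 2 nor 3, C a smooth proper integral
curve of genus one over k and P a rational point of C. For every local Artinian k-algebra A with
residue field k the forgetful map, from isomorphism classes of deformations of the pointed curve (C,
P) over A (deformations of C over A with a section through P) to isomorphism classes of deformations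
of C over A, is injective: two sections through P of one deformation of C over A are exchanged by an
automorphism of that deformation inducing the identity on C. Genus one is essential here; for genus
at least two it fails. (The characteristic assumption is the standing one of the source's section
and plays no role.) -/
theorem result
    {k : Type u} [Field k] [IsAlgClosed k] (h2 : (2 : k) ≠ 0) (h3 : (3 : k) ≠ 0)
    (X : Scheme.{u}) [X.Over (Spec (CommRingCat.of k))]
    (hX : Curve.IsSmoothProperCurve k X (X ↘ Spec (CommRingCat.of k))) (hg : Curv2.genus k X = 1)
    (P : Spec (CommRingCat.of k) ⟶ X) (hP : P ≫ (X ↘ Spec (CommRingCat.of k)) = 𝟙 _)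
    (A : ArtFun.Art k k) :
    Function.Injective ((PtDefo.forgetPts (Λ := k) X (X ↘ Spec (CommRingCat.of k)) (fun _ : PUnit.{u + 1} => P)).app A) := by
  intro a b hab
  induction a using Quotient.inductionOn with
  | h ξ =>
    induction b using Quotient.inductionOn with
    | h ξ' =>
      obtain ⟨e⟩ := Quotient.exact hab
      obtain ⟨t, ht⟩ := Groth.Agent.PtTrans32.exists_translation hX hg ξ'.toDefSch
        (ξ.sect PUnit.unit ≫ e.iso.hom) (ξ'.sect PUnit.unit)
        (by rw [Category.assoc, e.hom_f, ξ.sect_f]) (ξ'.sect_f _)
        (by rw [← Category.assoc, ← ξ.pt_sect, Category.assoc, e.i_hom, ← ξ'.pt_sect])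
      refine Quotient.sound ⟨⟨e.trans t, fun j => ?_⟩⟩
      rw [show j = PUnit.unit from rfl, ← ht, Category.assoc]
      rfl

end Groth.Agent.S16216
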