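import Groth.Statements.S16218
import Groth.Agent.Lib.P1Bun1.Genus0
import Groth.Agent.Lib.ProjSpace.BaseChange
-- import your own Groth.Agent.* helpers here

set_option autoImplicit false
universe u
open CategoryTheory CategoryTheory.Limits AlgebraicGeometry
open Curves

open CategoryTheory CategoryTheory.Limits AlgebraicGeometry
set_option backward.isDefEq.respectTransparency false
set_option backward.isDefEq.respectTransparency.types false
set_option linter.style.haveILetI false

namespace Groth.Agent.S16218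

open Groth.Agent

theorem isCurveOfGenus_P1 (K : Type u) [Field K] : ModFun.IsCurveOfGenus 0 (CohB1.ProjSpace.toSpec 1 K) := by
  refine ⟨(ProjSpace.smoothOfRelativeDimension_toSpec 1 K).smooth, inferInstance, ⟨?_⟩, ?_⟩
  · intro F _ y Z fst snd h
    obtain ⟨f, rfl⟩ := Spec.map_surjective y
    haveI : IsIntegral (CohB1.ProjSpace 1 F) := RegExt.isIntegral_projSpace 1 F
    let e : Z ≅ CohB1.ProjSpace 1 F := h.isoIsPullback _ _ (ProjSpace.isPullback_map 1 f.hom)
    haveI : IrreducibleSpace (CohB1.ProjSpace 1 F) := inferInstance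
    have hirr := (IrreducibleSpace.isIrreducible_univ (CohB1.ProjSpace 1 F)).image _ e.inv.continuous.continuousOn
    have hs : Set.range ⇑e.inv = Set.univ := e.inv.homeomorph.surjective.range_eq
    rw [Set.image_univ, hs] at hirr
    exact irreducibleSpace_def _ |>.2 hirr
  · intro Ω _ _ t X i q h
    obtain ⟨f, rfl⟩ := Spec.map_surjective t
    let e : X ≅ CohB1.ProjSpace 1 Ω := h.isoIsPullback _ _ (ProjSpace.isPullback_map 1 f.hom)
    have he : e.hom ≫ CohB1.ProjSpace.toSpec 1 Ω = q := h.isoIsPullback_hom_snd _ _ _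
    refine ⟨?_, ?_⟩
    · rw [IsHomeomorph.topologicalKrullDim_eq _ e.hom.homeomorph.isHomeomorph, S10829.result Ω 1]
      rfl
    · letI : X.Over (Spec (CommRingCat.of Ω)) := ⟨q⟩
      letI : (CohB1.ProjSpace 1 Ω).Over (Spec (CommRingCat.of Ω)) := ⟨CohB1.ProjSpace.toSpec 1 Ω⟩
      exact (CurveCoh17.genus_eq_of_iso e.hom he).trans (CurveCoh17.genus_P1 Ω)

theorem isCurveOfGenus_of_isPullback {g : ℕ} {C T C' T' : Scheme.{u}} {p : C ⟶ T} {p' : C' ⟶ T'} {h : T' ⟶ T}
    {i : C' ⟶ C} (sq : IsPullback i p' p h) (hp : ModFun.IsCurveOfGenus g p) : ModFun.IsCurveOfGenus g p' := by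
  obtain ⟨h1, h2, h3, h4⟩ := hp
  haveI := h1; haveI := h2; haveI := h3
  exact ⟨MorphismProperty.of_isPullback (P := @Smooth) sq inferInstance,
    MorphismProperty.of_isPullback (P := @IsProper) sq inferInstance,
    MorphismProperty.of_isPullback (P := @GeometricallyIrreducible) sq inferInstance,
    fun Ω _ _ t X j q sqX => h4 Ω (t ≫ h) X (j ≫ i) q (sqX.paste_horiz sq)⟩

theorem isIntegral_geomFibre {C T : Scheme.{u}} {p : C ⟶ T} (hp : ModFun.IsCurveOfGenus 0 p)
    (Ω : Type u) [Field Ω] [IsAlgClosed Ω] (t : Spec (CommRingCat.of Ω) ⟶ T) :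
    IsIntegral (pullback p t) := by
  obtain ⟨h1, h2, h3, -⟩ := hp
  haveI := h1; haveI := h2; haveI := h3
  letI : (pullback p t).Over (Spec (CommRingCat.of Ω)) := ⟨pullback.snd p t⟩
  haveI : IsProper ((pullback p t) ↘ Spec (CommRingCat.of Ω)) :=
    MorphismProperty.of_isPullback (P := @IsProper) (IsPullback.of_hasPullback p t) inferInstance
  haveI : Smooth ((pullback p t) ↘ Spec (CommRingCat.of Ω)) :=
    MorphismProperty.of_isPullback (P := @Smooth) (IsPullback.of_hasPullback p t) inferInstance
  haveI : GeometricallyIrreducible ((pullback p t) ↘ Spec (CommRingCat.of Ω)) :=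
    MorphismProperty.of_isPullback (P := @GeometricallyIrreducible) (IsPullback.of_hasPullback p t) inferInstance
  haveI : GeometricallyConnected ((pullback p t) ↘ Spec (CommRingCat.of Ω)) := ⟨fun F _ y Z fst snd h => by
    haveI := GeometricallyIrreducible.geometrically_irreducibleSpace (f := (pullback p t) ↘ Spec (CommRingCat.of Ω)) y fst snd h
    infer_instance⟩
  exact VB17.isIntegral_of_smooth (k := Ω) (X := pullback p t)

theorem isP1Fam {C T : Scheme.{u}} {p : C ⟶ T} (hp : ModFun.IsCurveOfGenus 0 p) [IsProper p] :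
    P1Bun1.IsP1Fam p :=
  P1Bun1.isP1Fam_of_genus_zero fun Ω _ _ t =>
    ⟨isIntegral_geomFibre hp Ω t, (hp.2.2.2 Ω t _ _ _ (IsPullback.of_hasPullback p t)).1,
      (hp.2.2.2 Ω t _ _ _ (IsPullback.of_hasPullback p t)).2⟩

end Groth.Agent.S16218

namespace Groth.Agent.S16218

/-- Let k be an algebraically closed field. For the moduli problem of curves of genus 0 over k-schemes
(smooth proper geometrically irreducible morphisms whose geometric fibres are one-dimensional of
genus 0, up to isomorphism over the base), the point M = Spec k with the morphism φ sending each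
family over T to the structure morphism of T satisfies: (b) every morphism ψ from the problem to a
functor of points h_N, both taken on test schemes of finite type over k, factors as φ followed by a
unique k-morphism Spec k → N; and (a) φ is bijective on geometric points: over every algebraically
closed field Ω over k there is a family of genus-0 curves over Spec Ω and any two are isomorphic. In
particular Spec k is a coarse moduli scheme for curves of genus 0 in this sense (universal property
for test schemes of finite type over k), and the family over Spec k in (a) is a tautological family.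
(The published statement asserts the universal property (b) for all k-schemes as test schemes and
for families projective over the base; its proof treats test schemes of finite type over k,
indicating the general case only in outline, so (b) is stated for finite-type test schemes here, and
properness replaces projectivity, which changes nothing in the argument. Since Spec k is terminal
among k-schemes, φ is unique and is quantified existentially.) -/
theorem result
    {k : Type u} [Field k] [IsAlgClosed k] :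
    ∃ φ : (ModFun.Mg (Spec (CommRingCat.of k)) 0).Hom ⊤ (Over.mk (𝟙 (Spec (CommRingCat.of k)))),
      ModFun.IsBestApprox
          (fun T : Over (Spec (CommRingCat.of k)) => LocallyOfFiniteType T.hom ∧ QuasiCompact T.hom)
          (ModFun.Mg (Spec (CommRingCat.of k)) 0) (Over.mk (𝟙 (Spec (CommRingCat.of k)))) (φ.ofLE le_top) ∧
        ModFun.GeomBij (ModFun.Mg (Spec (CommRingCat.of k)) 0) (Over.mk (𝟙 (Spec (CommRingCat.of k)))) φ := by
  let S := Spec (CommRingCat.of k)
  let pt : Over S := Over.mk (𝟙 S)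
  let φ : (ModFun.Mg S 0).Hom ⊤ pt :=
    { app := fun T x _ _ => Over.homMk T.hom (Category.comp_id _)
      natural := fun g x _ _ _ _ => Over.OverMorphism.ext (Over.w g).symm
      resp := fun x y _ _ _ _ => rfl }
  let L₀ : Over pt.left := Over.mk (CohB1.ProjSpace.toSpec 1 k)
  have hL₀ : (ModFun.Mg S 0).ok pt L₀ := ⟨trivial, isCurveOfGenus_P1 k⟩
  have hpt : LocallyOfFiniteType pt.hom ∧ QuasiCompact pt.hom :=
    ⟨(inferInstance : LocallyOfFiniteType (𝟙 S)), (inferInstance : QuasiCompact (𝟙 S))⟩
  refine ⟨φ, fun N ψ => ⟨ψ.app pt L₀ hpt hL₀, fun T x hT hx => ?_, fun f hf => ?_⟩, fun Ω _ _ t _ => ⟨fun g => ?_, ?_⟩⟩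
  · have hx' : ModFun.IsCurveOfGenus 0 x.hom := hx.2
    haveI := hT.1; haveI := hT.2
    haveI : Smooth x.hom := hx'.1
    haveI : IsProper x.hom := hx'.2.1
    haveI : GeometricallyIrreducible x.hom := hx'.2.2.1
    -- the family acquires a section after the base change to itself
    let C : Scheme.{u} := x.left
    let f := pullback.snd x.hom x.hom
    let σ : C ⟶ pullback x.hom x.hom := pullback.lift (𝟙 C) (𝟙 C) rfl
    have hσ : σ ≫ f = 𝟙 C := pullback.lift_snd _ _ _
    have sqf : IsPullback (pullback.fst x.hom x.hom) f x.hom x.hom := IsPullback.of_hasPullback _ _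
    have hf' : ModFun.IsCurveOfGenus 0 f := isCurveOfGenus_of_isPullback sqf hx'
    haveI : IsProper f := hf'.2.1
    haveI : Smooth f := hf'.1
    have hfam := isP1Fam hf'
    haveI := Groth.Agent.P1Bun1.smoothOfRelDim_of_fam hfam
    haveI : LocallyOfFiniteType (x.hom ≫ T.hom) := inferInstance
    haveI : IsLocallyNoetherian C := LocallyOfFiniteType.isLocallyNoetherian (x.hom ≫ T.hom)
    refine Over.OverMorphism.ext ?_
    haveI : Surjective x.hom := inferInstance
    haveI : Flat x.hom := inferInstance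
    haveI : Epi x.hom := Flat.epi_of_flat_of_surjective x.hom
    rw [← cancel_epi x.hom]
    choose V hV hcV w hw using fun c : C => Groth.Agent.P1Bun1.exists_local_iso hσ hfam c
    refine (Scheme.openCoverOfIsOpenCover C (fun c : C => V c)
      (eq_top_iff.2 fun c _ => TopologicalSpace.Opens.mem_iSup.2 ⟨c, hcV c⟩)).hom_ext _ _ fun c => ?_
    show (V c).ι ≫ _ = (V c).ι ≫ _
    let R := Γ(C, V c)
    let u : Spec R ⟶ T.left := (hV c).fromSpec ≫ x.hom
    let T' : Over S := Over.mk (u ≫ T.hom)
    let g₁ : T' ⟶ T := Over.homMk u rfl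
    let g₂ : T' ⟶ pt := Over.homMk (u ≫ T.hom) (Category.comp_id _)
    have hT' : LocallyOfFiniteType T'.hom ∧ QuasiCompact T'.hom := by
      haveI : IsAffine (Spec R) := inferInstance
      exact ⟨(inferInstance : LocallyOfFiniteType (u ≫ T.hom)), (HasAffineProperty.iff_of_isAffine (P := @QuasiCompact)).2
        (inferInstance : CompactSpace ↥(Spec R))⟩
    -- both pullbacks are the projective line over R
    let e : Spec R ⟶ Spec (CommRingCat.of k) := u ≫ T.hom
    obtain ⟨ρ, hρ⟩ : ∃ ρ : CommRingCat.of k ⟶ R, Spec.map ρ = e := ⟨Spec.preimage e, Spec.map_preimage e⟩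
    have sq₂ : IsPullback (Groth.Agent.ProjSpace.map 1 ρ.hom) (CohB1.ProjSpace.toSpec 1 R)
        (CohB1.ProjSpace.toSpec 1 k) (u ≫ T.hom) := by
      have := Groth.Agent.ProjSpace.isPullback_map 1 ρ.hom
      rwa [show Spec.map (CommRingCat.ofHom ρ.hom) = u ≫ T.hom from hρ] at this
    have sq₁ : IsPullback (w c ≫ pullback.fst x.hom x.hom) (CohB1.ProjSpace.toSpec 1 R) x.hom u := (hw c).paste_horiz sqf
    have ok₁ : (ModFun.Mg S 0).ok T' ((ModFun.Mg S 0).pull g₁ x) :=
      ⟨trivial, isCurveOfGenus_of_isPullback (IsPullback.of_hasPullback x.hom u) hx'⟩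
    have ok₂ : (ModFun.Mg S 0).ok T' ((ModFun.Mg S 0).pull g₂ L₀) :=
      ⟨trivial, isCurveOfGenus_of_isPullback (IsPullback.of_hasPullback (CohB1.ProjSpace.toSpec 1 k) (u ≫ T.hom))
        (isCurveOfGenus_P1 k)⟩
    have hr : (ModFun.Mg S 0).r T' ((ModFun.Mg S 0).pull g₁ x) ((ModFun.Mg S 0).pull g₂ L₀) :=
      ⟨Over.isoMk (sq₁.isoPullback.symm ≪≫ sq₂.isoPullback) (by
        show (sq₁.isoPullback.inv ≫ sq₂.isoPullback.hom) ≫ pullback.snd (CohB1.ProjSpace.toSpec 1 k) (u ≫ T.hom) =
          pullback.snd x.hom u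
        rw [Category.assoc, sq₂.isoPullback_hom_snd, sq₁.isoPullback_inv_snd])⟩
    have key := congrArg CommaMorphism.left (((ψ.natural g₁ x hT hT' hx ok₁).symm.trans
      (ψ.resp _ _ hT' ok₁ ok₂ hr)).trans (ψ.natural g₂ L₀ hpt hT' hL₀ ok₂))
    change u ≫ (ψ.app T x hT hx).left = (u ≫ T.hom) ≫ (ψ.app pt L₀ hpt hL₀).left at key
    have hι : (V c).ι = (hV c).isoSpec.hom ≫ (hV c).fromSpec := by
      rw [← IsAffineOpen.isoSpec_inv_ι, Iso.hom_inv_id_assoc]
    rw [hι]
    show ((hV c).isoSpec.hom ≫ (hV c).fromSpec) ≫ x.hom ≫ (ψ.app T x hT hx).left =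
      ((hV c).isoSpec.hom ≫ (hV c).fromSpec) ≫ x.hom ≫ T.hom ≫ (ψ.app pt L₀ hpt hL₀).left
    simp only [Category.assoc, u] at key ⊢
    rw [key]
  · have h := hf pt L₀ hpt hL₀
    rw [h]
    refine Over.OverMorphism.ext ?_
    show f.left = (𝟙 S) ≫ f.left
    rw [Category.id_comp]
  · exact ⟨Over.mk (CohB1.ProjSpace.toSpec 1 Ω), ⟨trivial, isCurveOfGenus_P1 Ω⟩,
      Over.OverMorphism.ext ((Category.comp_id g.left).symm.trans (Over.w g)).symm⟩
  · intro x y hx hy _
    have key : ∀ z : Over (Spec (CommRingCat.of Ω)), ModFun.IsCurveOfGenus 0 z.hom →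
        ∃ e : z.left ≅ CohB1.ProjSpace 1 Ω, e.hom ≫ CohB1.ProjSpace.toSpec 1 Ω = z.hom := by
      intro z hz
      haveI : IsProper z.hom := hz.2.1
      obtain ⟨e, he⟩ := isP1Fam hz Ω (𝟙 _)
      haveI : IsIso (pullback.fst z.hom (𝟙 (Spec (CommRingCat.of Ω)))) := inferInstance
      refine ⟨(asIso (pullback.fst z.hom (𝟙 _))).symm ≪≫ e, ?_⟩
      rw [Iso.trans_hom, Category.assoc, he, Iso.symm_hom, asIso_inv, IsIso.inv_comp_eq, pullback.condition,
        Category.comp_id]
    obtain ⟨ex, hex⟩ := key x hx.2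
    obtain ⟨ey, hey⟩ := key y hy.2
    refine ⟨Over.isoMk (ex ≪≫ ey.symm) ?_⟩
    show (ex.hom ≫ ey.inv) ≫ y.hom = x.hom
    rw [Category.assoc, ← hey, ey.inv_hom_id_assoc, hex]

end Groth.Agent.S16218
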