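import Groth.Statements.S1622
import Groth.Agent.Lib.BlowUpReg6.Main
import Groth.Agent.Lib.RegLoc.GlobalDim

set_option autoImplicit false
universe u
open CategoryTheory CategoryTheory.Limits AlgebraicGeometry
open Resolve

namespace Groth.Agent.S1622

/-- Let A be a regular local ring of dimension two and b : X → Spec A a blowing up of Spec A in the
maximal ideal (characterised by its universal property). Then X is irreducible and all of its local
rings are regular. -/
theorem result (A : Type u) [CommRing A] [IsRegularLocalRing A] (hA : ringKrullDim A = 2)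
    (X : Scheme.{u}) (b : X ⟶ Spec (CommRingCat.of A)) (hb : BlowUp.IsBlowUp b (Curv2.idealSheaf A (IsLocalRing.maximalIdeal A))) :
    IrreducibleSpace X ∧ ∀ x : X, IsRegularLocalRing (X.presheaf.stalk x) := by
  classical
  let S : Scheme.{u} := Spec (CommRingCat.of A)
  let m := IsLocalRing.maximalIdeal A
  let C := Curv2.idealSheaf A m
  haveI : IsLocallyNoetherian S := inferInstance
  have hX : ∀ x : S, IsRegularLocalRing (S.presheaf.stalk x) := fun x => by
    obtain ⟨p, hp⟩ : PrimeSpectrum A := x
    haveI := hp
    haveI := Groth.Agent.RegLoc.isRegularLocalRing_localization A p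
    exact IsRegularLocalRing.of_ringEquiv (AlgebraicGeometry.Spec.stalkIso (CommRingCat.of A) (⟨p, hp⟩ : PrimeSpectrum A)).symm.commRingCatIsoToRingEquiv
  let e : A ≃+* Γ(S, ⊤) := (Scheme.ΓSpecIso (CommRingCat.of A)).symm.commRingCatIsoToRingEquiv
  have hC : C.ideal ⟨⊤, isAffineOpen_top S⟩ = m.map e.toRingHom :=
    by simp [C, S, Curv2.idealSheaf, Scheme.IdealSheafData.ofIdealTop_ideal]; rfl
  have hsupp : ∀ x : PrimeSpectrum A, (show S from x) ∈ C.support → x.asIdeal = m := fun x hx => by
    have hx' : (show S from x) ∈ S.zeroLocus (U := ⊤) (m.map e.toRingHom : Set Γ(S, ⊤)) := by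
      have := hx
      rw [← SetLike.mem_coe] at this
      simp only [C, Curv2.idealSheaf, Scheme.IdealSheafData.coe_support_ofIdealTop] at this
      exact this
    rw [Scheme.mem_zeroLocus_iff] at hx'
    refine ((IsLocalRing.maximalIdeal.isMaximal A).eq_of_le x.isPrime.ne_top fun a ha => ?_).symm
    by_contra hn
    refine hx' (e a) (Ideal.mem_map_of_mem _ ha) ?_
    show (show S from x) ∈ S.basicOpen ((Scheme.ΓSpecIso (CommRingCat.of A)).inv a)
    rw [basicOpen_eq_of_affine]
    exact hn
  have hY : ∀ y : C.subscheme, IsRegularLocalRing (C.subscheme.presheaf.stalk y) := by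
    intro y
    obtain ⟨x, hxy⟩ : ∃ x : PrimeSpectrum A, x = C.subschemeι y := ⟨_, rfl⟩
    have hy : x.asIdeal = m := hsupp x (by
      subst hxy
      rw [← SetLike.mem_coe, ← Scheme.IdealSheafData.range_subschemeι]; exact ⟨y, rfl⟩)
    have hk : RingHom.ker (C.subschemeι.stalkMap y).hom =
        IsLocalRing.maximalIdeal (S.presheaf.stalk (C.subschemeι y)) := by
      subst hxy
      rw [Groth.Agent.FormalH7.ker_stalkMap_subscheme C ⟨⊤, isAffineOpen_top S⟩ y trivial, hC,
        Ideal.map_map]
      letI : Algebra A (S.presheaf.stalk (C.subschemeι y)) :=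
        ((S.presheaf.germ ⊤ (C.subschemeι y) trivial).hom.comp e.toRingHom).toAlgebra
      haveI : IsLocalization.AtPrime (S.presheaf.stalk (C.subschemeι y)) (show PrimeSpectrum A from C.subschemeι y).asIdeal :=
        AlgebraicGeometry.StructureSheaf.IsLocalization.to_stalk A _
      rw [← IsLocalization.AtPrime.map_eq_maximalIdeal (show PrimeSpectrum A from C.subschemeι y).asIdeal (S.presheaf.stalk (C.subschemeι y)), hy]
      rfl
    let eq := RingHom.quotientKerEquivOfSurjective (C.subschemeι.stalkMap_surjective y)
    haveI : IsRegularLocalRing (S.presheaf.stalk (C.subschemeι y) ⧸ RingHom.ker (C.subschemeι.stalkMap y).hom) := by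
      rw [hk]
      exact inferInstanceAs (IsRegularLocalRing (IsLocalRing.ResidueField (S.presheaf.stalk (C.subschemeι y))))
    exact IsRegularLocalRing.of_ringEquiv eq
  have hb' : BlowUp.IsBlowUp b C.subschemeι.ker := by rw [Scheme.IdealSheafData.ker_subschemeι]; exact hb
  refine ⟨?_, Groth.Agent.BlowUpReg6.isRegularLocalRing_stalk C.subschemeι hX hY b hb'⟩
  haveI : IsDomain A := Groth.Agent.RegLoc.isDomain A
  let U : S.Opens := C.support.compl
  haveI : IsIso (b ∣_ U) := Groth.Agent.EffCartier.isIso_blowUp_restrict hb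
  have hne : (U : Set S).Nonempty := by
    refine ⟨(⊥ : PrimeSpectrum A), fun hmem => ?_⟩
    have h := hsupp _ hmem
    have hf : IsField A := IsLocalRing.isField_iff_maximalIdeal_eq.2 h.symm
    rw [ringKrullDim_eq_zero_of_isField hf] at hA
    exact absurd hA (by norm_num)
  haveI : Nonempty U.toScheme := ⟨⟨_, hne.choose_spec⟩⟩
  haveI : IrreducibleSpace U.toScheme := inferInstance
  let j : U.toScheme ⟶ X := inv (b ∣_ U) ≫ (b ⁻¹ᵁ U).ι
  have hd := Groth.Agent.EffCartier.dominant_cmpl hb.1
  have hden : DenseRange j := by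
    have hr : Set.range j = (b ⁻¹ᵁ U : Set X) := by
      rw [show (j : U.toScheme → X) = (b ⁻¹ᵁ U).ι ∘ inv (b ∣_ U) from rfl, Set.range_comp,
        Set.range_eq_univ.2 (inv (b ∣_ U)).surjective, Set.image_univ, Scheme.Opens.range_ι]
    haveI := hd
    haveI := Groth.Agent.EffCartier.quasiCompact_interior hb.1
    have h2 : DenseRange (Groth.Agent.EffCartier.cmpl (BlowUp.exceptional b C)).ι :=
      (inferInstance : IsDominant (Groth.Agent.EffCartier.cmpl (BlowUp.exceptional b C)).ι).denseRange
    rw [DenseRange, Scheme.Opens.range_ι] at h2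
    rw [DenseRange, hr]
    refine h2.mono fun x hx => ?_
    intro hh
    apply hx
    rw [SetLike.mem_coe, BlowUp.exceptional, Scheme.IdealSheafData.support_comap]
    exact hh
  exact { isPreirreducible_univ := by
            rw [← hden.closure_range]
            rw [← Set.image_univ]
            exact ((IrreducibleSpace.isIrreducible_univ U.toScheme).image j j.continuous.continuousOn).2.closure
          toNonempty := ⟨j (Nonempty.some inferInstance)⟩ }

end Groth.Agent.S1622
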