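import Groth.Statements.S16223
import Groth.Statements.S16224
import Groth.Agent.Lib.WittDesc2.Thm

set_option autoImplicit false
open CategoryTheory Opposite
universe u
open CAlg

namespace Groth.Agent.S16223
open CategoryTheory Opposite
open CAlg

open Groth.Agent.WittDesc2

theorem truncMap_inj (p : ℕ) [Fact p.Prime] (n : ℕ) {A B : Type u} [CommRing A] [CommRing B] (f : A →+* B)
    (hf : Function.Injective f) : Function.Injective (WittGrp.truncMap p n f) := fun x y h =>
  TruncatedWittVector.ext fun i => hf (by
    rw [← WittGrp.coeff_truncMap p n f x i, ← WittGrp.coeff_truncMap p n f y i, h])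

theorem truncMap_eq (p : ℕ) [Fact p.Prime] (n : ℕ) {R S : Type u} [CommRing R] [CommRing S] [Algebra R S]
    [Module.FaithfullyFlat R S] (x : TruncatedWittVector p n S)
    (h : WittGrp.truncMap p n (Groth.Agent.TorsTriv25.q0 (A := R) (B := S)).toRingHom x =
      WittGrp.truncMap p n (Groth.Agent.TorsTriv25.q1 (A := R) (B := S)).toRingHom x) :
    ∃ y, WittGrp.truncMap p n (algebraMap R S) y = x := by
  have hj : ∀ j, ∃ a, algebraMap R S a = x.coeff j := fun j => by
    refine exists_of_q0_eq_q1 ?_
    have := congrArg (TruncatedWittVector.coeff j) h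
    rwa [WittGrp.coeff_truncMap, WittGrp.coeff_truncMap] at this
  choose a ha using hj
  exact ⟨TruncatedWittVector.mk p a, TruncatedWittVector.ext fun j => by
    rw [WittGrp.coeff_truncMap, TruncatedWittVector.coeff_mk, ha]⟩

theorem bij_transport {C : Type (u + 1)} [Category.{u} C] {F F' : Pseudofunctor (LocallyDiscrete Cᵒᵖ) Cat.{u, u + 1}}
    (hF : F = F') {S : C} {X : PUnit.{u + 1} → C} (f f' : ∀ i, X i ⟶ S) (hf : f = f') (M N : F.obj (.mk (op S))) (M' N' : F'.obj (.mk (op S)))
    (hM : HEq M M') (hN : HEq N N') (h : Function.Bijective (fun φ : M ⟶ N => (F.toDescentData f).map φ)) :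
    Function.Bijective (fun φ : M' ⟶ N' => (F'.toDescentData f').map φ) := by
  subst hF hf
  cases hM
  cases hN
  exact h

theorem T15 (p : ℕ) [Fact p.Prime] (n : ℕ) (R R' : Type u) [CommRing R] [CommRing R'] [Algebra R R']
    (M N : ModuleCat.{u} (TruncatedWittVector p n R))
    (h : Function.Bijective (fun φ : M ⟶ N => ((funModPF (W4c3truncdispsmooth.wittTrunc.{u} p n)).toDescentData (Groth.Agent.ModDesc12.cov R R')).map φ)) :
    Function.Bijective (fun φ : M ⟶ N => ((W4c3truncdispsmooth.wittModPF.{u} p n).toDescentData (fun _ : PUnit.{u + 1} => (CommRingCat.ofHom (algebraMap R R')).op)).map φ) :=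
  bij_transport (funModPF_wittTrunc p n) (Groth.Agent.ModDesc12.cov R R') (fun _ : PUnit.{u + 1} => (CommRingCat.ofHom (algebraMap R R')).op) rfl M N M N HEq.rfl HEq.rfl h

theorem T9 (p : ℕ) [Fact p.Prime] (n : ℕ) (R R' : Type u) [CommRing R] [CommRing R'] [Algebra R R'] [Module.FaithfullyFlat R R']
    (M N : ModuleCat.{u} (WT (W4c3truncdispsmooth.wittTrunc.{u} p n) (CommRingCat.of R))) [Module.Finite (WT (W4c3truncdispsmooth.wittTrunc.{u} p n) (CommRingCat.of R)) N]
    [Module.Projective (WT (W4c3truncdispsmooth.wittTrunc.{u} p n) (CommRingCat.of R)) N] :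
    Function.Bijective (fun φ : M ⟶ N => ((funModPF (W4c3truncdispsmooth.wittTrunc.{u} p n)).toDescentData (Groth.Agent.ModDesc12.cov R R')).map φ) :=
  map_bijective (truncMap_inj p n _ (FaithfulSMul.algebraMap_injective R R')) (fun x h => truncMap_eq p n x h) M N

theorem T16 (p : ℕ) [Fact p.Prime] (n : ℕ) (R R' : Type u) [CommRing R] [CommRing R'] [Algebra R R'] [Module.FaithfullyFlat R R']
    (M N : ModuleCat.{u} (TruncatedWittVector p n R))
    [Module.Finite (TruncatedWittVector p n R) N] [Module.Projective (TruncatedWittVector p n R) N] :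
    Function.Bijective (fun φ : M ⟶ N => ((funModPF (W4c3truncdispsmooth.wittTrunc.{u} p n)).toDescentData (Groth.Agent.ModDesc12.cov R R')).map φ) :=
  @T9 p _ n R R' _ _ _ _ M N ‹Module.Finite (TruncatedWittVector p n R) N› ‹Module.Projective (TruncatedWittVector p n R) N›

/-- Let p be a prime, n a natural number, and R → R' a faithfully flat homomorphism of commutative rings
in which p is nilpotent; write W_n for truncated Witt vectors of length n. A descent datum of
W_n(R')-modules relative to R → R' is a W_n(R')-module M' with, for every ring T and every pair of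
maps R' ⇉ T agreeing on R, an isomorphism between the two base changes of M' to W_n(T), natural in T
and satisfying the cocycle condition (equivalently an isomorphism over W_n(R' ⊗_R R') with the
cocycle condition over W_n(R' ⊗_R R' ⊗_R R')); base change W_n(R') ⊗_{W_n(R)} M of a W_n(R)-module M
carries the canonical such datum. Then for finitely generated projective W_n(R)-modules M and N, the
map sending a W_n(R)-linear map M → N to the induced morphism of canonical descent data is bijective
(the functor to descent data is fully faithful on such modules). -/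
theorem result (p : ℕ) [Fact p.Prime] (n : ℕ)
    (R R' : Type u) [CommRing R] [CommRing R'] [Algebra R R'] [Module.FaithfullyFlat R R']
    (hp : IsNilpotent (p : R))
    (M N : ModuleCat.{u} (TruncatedWittVector p n R))
    [Module.Finite (TruncatedWittVector p n R) M] [Module.Projective (TruncatedWittVector p n R) M]
    [Module.Finite (TruncatedWittVector p n R) N] [Module.Projective (TruncatedWittVector p n R) N] :
    Function.Bijective (fun φ : M ⟶ N =>
      ((W4c3truncdispsmooth.wittModPF.{u} p n).toDescentData (fun _ : PUnit.{u + 1} => (CommRingCat.ofHom (algebraMap R R')).op)).map φ) := by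
  exact T15 p n R R' M N (T16 p n R R' M N)

end Groth.Agent.S16223
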