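import Groth.Statements.S16224
import Groth.Statements.S16223
import Groth.Agent.Lib.WittDesc2.Thm

set_option autoImplicit false
open CategoryTheory Opposite
universe u
open CAlg

namespace Groth.Agent.S16224
open CategoryTheory Opposite
open CAlg

open Groth.Agent.WittDesc2

/-- Let p be a prime, n a natural number, and R → R' a faithfully flat homomorphism of commutative rings
in which p is nilpotent; write W_n for truncated Witt vectors of length n. A descent datum of
W_n(R')-modules relative to R → R' is a W_n(R')-module M' with, for every ring T and every pair of
maps R' ⇉ T agreeing on R, an isomorphism between the two base changes of M' to W_n(T), natural in T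
and satisfying the cocycle condition (equivalently an isomorphism over W_n(R' ⊗_R R') with the
cocycle condition over W_n(R' ⊗_R R' ⊗_R R')); base change W_n(R') ⊗_{W_n(R)} M of a W_n(R)-module M
carries the canonical such datum. Then every descent datum whose underlying W_n(R')-module is
finitely generated and projective is isomorphic to the canonical datum of W_n(R') ⊗ M for some
finitely generated projective W_n(R)-module M. (Here W_n(R) → W_n(R') is in general not flat, so
this is not a case of faithfully flat descent.) -/
theorem result (p : ℕ) [Fact p.Prime] (n : ℕ)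
    (R R' : Type u) [CommRing R] [CommRing R'] [Algebra R R'] [Module.FaithfullyFlat R R']
    (hp : IsNilpotent (p : R))
    (D : (W4c3truncdispsmooth.wittModPF.{u} p n).DescentData (fun _ : PUnit.{u + 1} => (CommRingCat.ofHom (algebraMap R R')).op))
    [Module.Finite (TruncatedWittVector p n R') (W4c3truncdispsmooth.descObj D)]
    [Module.Projective (TruncatedWittVector p n R') (W4c3truncdispsmooth.descObj D)] :
    ∃ M : ModuleCat.{u} (TruncatedWittVector p n R),
      Module.Finite (TruncatedWittVector p n R) M ∧ Module.Projective (TruncatedWittVector p n R) M ∧
        Nonempty (((W4c3truncdispsmooth.wittModPF.{u} p n).toDescentData (fun _ : PUnit.{u + 1} => (CommRingCat.ofHom (algebraMap R R')).op)).obj M ≅ D) := by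
  classical
  let W := W4c3truncdispsmooth.wittTrunc.{u} p n
  let D' : (funModPF W).DescentData (Groth.Agent.ModDesc12.cov R R') := D
  haveI : Module.Finite (WT W (CommRingCat.of R')) (Nd D') :=
    inferInstanceAs (Module.Finite (TruncatedWittVector p n R') (W4c3truncdispsmooth.descObj D))
  haveI : Module.Projective (WT W (CommRingCat.of R')) (Nd D') :=
    inferInstanceAs (Module.Projective (TruncatedWittVector p n R') (W4c3truncdispsmooth.descObj D))
  obtain ⟨r, π, hπ⟩ := Module.Finite.exists_fin' (WT W (CommRingCat.of R')) (Nd D')
  obtain ⟨σ, hσ⟩ := Module.projective_lifting_property π LinearMap.id hπ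
  have hπσ : ∀ x, π (σ x) = x := fun x => LinearMap.congr_fun hσ x
  obtain ⟨hf, hG0, hG1, h1, h2⟩ := GU_spec D' π σ hπσ
  obtain ⟨k, e, u, v, he, huv, hvu, hG⟩ := wittDescent' (p := p) (n := n) (A := R) (B := R') hp
    (fM D' π σ) (GU D' π σ) hf hG0 hG1 h1 h2
  exact effective_of_matrices D' π σ hπσ e u v he huv hvu hG

end Groth.Agent.S16224
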