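import Groth.Statements.S16225
import Groth.Statements.S16541
import Groth.Agent.Lib.WittDesc2.Witt

set_option autoImplicit false
open scoped TensorProduct
universe u v
open CAlg

namespace Groth.Agent.S16225
open TensorProduct

/-- Let p be a prime, n a natural number and R → R' a faithfully flat homomorphism of commutative rings
in which p is nilpotent. Regard W_n(R') and W_n(R' ⊗_R R') as W_n(R)-algebras through the
componentwise maps induced by R → R' and R → R' ⊗_R R', and let ψ₁, ψ₂ : W_n(R') → W_n(R' ⊗_R R') be
the componentwise maps induced by the two inclusions of R' (these are W_n(R)-algebra maps). Then for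
every flat W_n(R)-module M the sequence 0 → M → M ⊗_{W_n(R)} W_n(R') ⇉ M ⊗_{W_n(R)} W_n(R' ⊗_R R')
is exact: m ↦ m ⊗ 1 is injective and its image is the equalizer of id ⊗ ψ₁ and id ⊗ ψ₂. (This is the
beginning, in degrees 0 and 1, of a complex continued by the higher tensor powers of R', which the
published proof asserts to be exact throughout; W_n(R) → W_n(R') is not flat in general, so this is
not faithfully flat descent.) -/
theorem result (p : ℕ) [Fact p.Prime] (n : ℕ)
    (R R' : Type u) [CommRing R] [CommRing R'] [Algebra R R'] [Module.FaithfullyFlat R R']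
    (hp : IsNilpotent (p : R))
    [Algebra (TruncatedWittVector p n R) (TruncatedWittVector p n R')]
    (h₁ : algebraMap (TruncatedWittVector p n R) (TruncatedWittVector p n R') = WittGrp.truncMap p n (algebraMap R R'))
    [Algebra (TruncatedWittVector p n R) (TruncatedWittVector p n (TensorProduct R R' R'))]
    (h₂ : algebraMap (TruncatedWittVector p n R) (TruncatedWittVector p n (TensorProduct R R' R')) =
      WittGrp.truncMap p n (algebraMap R (TensorProduct R R' R')))
    (ψ₁ ψ₂ : TruncatedWittVector p n R' →ₐ[TruncatedWittVector p n R] TruncatedWittVector p n (TensorProduct R R' R'))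
    (hψ₁ : (ψ₁ : TruncatedWittVector p n R' →+* TruncatedWittVector p n (TensorProduct R R' R')) =
      WittGrp.truncMap p n (Algebra.TensorProduct.includeLeftRingHom : R' →+* TensorProduct R R' R'))
    (hψ₂ : (ψ₂ : TruncatedWittVector p n R' →+* TruncatedWittVector p n (TensorProduct R R' R')) =
      WittGrp.truncMap p n ((Algebra.TensorProduct.includeRight : R' →ₐ[R] TensorProduct R R' R') : R' →+* TensorProduct R R' R'))
    (M : Type v) [AddCommGroup M] [Module (TruncatedWittVector p n R) M] [Module.Flat (TruncatedWittVector p n R) M] :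
    Function.Injective (fun m : M => m ⊗ₜ[TruncatedWittVector p n R] (1 : TruncatedWittVector p n R')) ∧
      ∀ x : M ⊗[TruncatedWittVector p n R] TruncatedWittVector p n R',
        LinearMap.lTensor M ψ₁.toLinearMap x = LinearMap.lTensor M ψ₂.toLinearMap x →
          x ∈ Set.range (fun m : M => m ⊗ₜ[TruncatedWittVector p n R] (1 : TruncatedWittVector p n R')) := by
  let W := TruncatedWittVector p n R
  let W' := TruncatedWittVector p n R'
  let i : W →ₗ[W] W' := Algebra.linearMap W W'
  have hi : Function.Injective i := fun a b h => TruncatedWittVector.ext fun j => by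
    have hh : algebraMap W W' a = algebraMap W W' b := h
    rw [h₁] at hh
    have := congrArg (TruncatedWittVector.coeff j) hh
    rw [WittGrp.coeff_truncMap, WittGrp.coeff_truncMap] at this
    exact FaithfulSMul.algebraMap_injective R R' this
  have hval : ∀ m : M, i.lTensor M ((TensorProduct.rid W M).symm m) = m ⊗ₜ (1 : W') := fun m => by
    rw [TensorProduct.rid_symm_apply, LinearMap.lTensor_tmul]
    show m ⊗ₜ algebraMap W W' 1 = _
    rw [map_one]
  have hex : Function.Exact i (ψ₁.toLinearMap - ψ₂.toLinearMap) := fun y => by
    refine ⟨fun h => ?_, ?_⟩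
    · rw [LinearMap.sub_apply, sub_eq_zero] at h
      have h' : (ψ₁ : W' →+* TruncatedWittVector p n (TensorProduct R R' R')) y =
          (ψ₂ : W' →+* TruncatedWittVector p n (TensorProduct R R' R')) y := h
      rw [hψ₁, hψ₂] at h'
      have hj : ∀ j, ∃ a, algebraMap R R' a = TruncatedWittVector.coeff j y := fun j => by
        have := congrArg (TruncatedWittVector.coeff j) h'
        rw [WittGrp.coeff_truncMap, WittGrp.coeff_truncMap] at this
        exact Groth.Agent.WittDesc2.exists_of_q0_eq_q1 this
      choose a ha using hj
      refine ⟨TruncatedWittVector.mk p a, TruncatedWittVector.ext fun j => ?_⟩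
      show TruncatedWittVector.coeff j (algebraMap W W' (TruncatedWittVector.mk p a)) = _
      rw [h₁, WittGrp.coeff_truncMap, TruncatedWittVector.coeff_mk, ha]
    · rintro ⟨a, rfl⟩
      show ψ₁ (algebraMap W W' a) - ψ₂ (algebraMap W W' a) = 0
      rw [AlgHom.commutes, AlgHom.commutes, sub_self]
  refine ⟨fun a b h => (TensorProduct.rid W M).symm.injective
    (Module.Flat.lTensor_preserves_injective_linearMap i hi (by rw [hval, hval]; exact h)), fun x hx => ?_⟩
  obtain ⟨z, hz⟩ := ((Module.Flat.lTensor_exact M hex) x).1 (by
    rw [LinearMap.lTensor_sub, LinearMap.sub_apply, hx, sub_self])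
  refine ⟨TensorProduct.rid W M z, ?_⟩
  show _ ⊗ₜ (1 : W') = x
  rw [← hval, LinearEquiv.symm_apply_apply, hz]

end Groth.Agent.S16225
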