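import Groth.Statements.S16226
import Groth.Agent.Lib.TorsorSch25.Basic
import Mathlib.AlgebraicGeometry.Sites.Proetale

set_option autoImplicit false
universe u
open CategoryTheory MonoidalCategory CartesianMonoidalCategory MonObj AlgebraicGeometry
open PrincBund

namespace Groth.Agent.S16226

set_option backward.isDefEq.respectTransparency.types false
open Groth.Agent.TorsorSch25 CategoryTheory.Limits


/-- Let i : G → H be a homomorphism of group schemes over a base scheme S which is a closed immersion, F
an H-torsor over S for the etale topology with action aF, and π : F → Q a morphism of S-schemes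
exhibiting Q as the quotient F/G, in the sense that the square formed by the restricted action G ×_S
F → F, the projection G ×_S F → F and π twice is cartesian and π acquires sections etale-locally on
Q. Then for every section σ of Q over S there are a G-torsor E over S for the etale topology and an
i-equivariant morphism φ : E → F over S such that the square (φ, E → S; π, σ) is cartesian; that is,
σ comes from a reduction of the structure group of F to G. (Stated over an arbitrary base scheme and
for arbitrary group schemes; the quotient F/G is taken as data through its torsor property rather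
than constructed.) -/
theorem result
    {S : Scheme.{u}} {G H F Q : Over S} [GrpObj G] [GrpObj H]
    (i : G ⟶ H) [IsMonHom i] [IsClosedImmersion i.left]
    (aF : AlgGrp.Action H F) (hF : NonAbH1.IsTorsorFor Scheme.etalePrecoverage aF)
    (π : F ⟶ Q)
    (hsq : IsPullback (aF.restrict i).act (snd G F) π π)
    (hloc : NonAbH1.IsLocallyTrivialFor Scheme.etalePrecoverage (Over.mk π.left : Over Q.left))
    (σ : 𝟙_ (Over S) ⟶ Q) :
    ∃ (E : Over S) (aE : AlgGrp.Action G E) (φ : E ⟶ F),
      NonAbH1.IsTorsorFor Scheme.etalePrecoverage aE ∧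
      AlgGrp.Action.IsEquivariant aE (aF.restrict i) φ ∧
      IsPullback φ (toUnit E) π σ := by
  let E : Over S := pullback π σ
  let φ : E ⟶ F := pullback.fst π σ
  have hE : IsPullback φ (toUnit E) π σ := by
    rw [toUnit_unique (toUnit E) (pullback.snd π σ)]
    exact IsPullback.of_hasPullback π σ
  let act : G ⊗ E ⟶ E := hE.lift (lift (fst G E) (snd G E ≫ φ) ≫ (aF.restrict i).act) (toUnit _) (by
    rw [Category.assoc, hsq.w, lift_snd_assoc, Category.assoc, hE.w, ← Category.assoc,
      toUnit_unique (snd G E ≫ toUnit E) (toUnit _)])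
  have hact : act ≫ φ = lift (fst G E) (snd G E ≫ φ) ≫ (aF.restrict i).act := hE.lift_fst _ _ _
  have hpt : ∀ {T : Over S} (g : T ⟶ G) (x : T ⟶ E),
      (lift g x ≫ act) ≫ φ = lift g (x ≫ φ) ≫ (aF.restrict i).act := by
    intro T g x
    rw [Category.assoc, hact, comp_lift_assoc, lift_fst, lift_snd_assoc]
  have hext : ∀ {T : Over S} (x y : T ⟶ E), x ≫ φ = y ≫ φ → x = y := fun x y h =>
    hE.hom_ext h (toUnit_unique _ _)
  let aE : AlgGrp.Action G E :=
    { act := act
      one_act := by
        apply hext
        rw [show (η[G] ▷ E) = lift (toUnit (𝟙_ _ ⊗ E) ≫ η[G]) (snd _ E) from by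
          ext <;> simp [toUnit_unique (fst (𝟙_ (Over S)) E) (toUnit _)]]
        rw [hpt, ← Hom.one_def, AlgGrp.Action.lift_one_act, leftUnitor_hom]
      mul_act := by
        apply hext
        rw [show (μ[G] ▷ E) = lift (fst (G ⊗ G) E ≫ μ[G]) (snd _ E) from by ext <;> simp,
          ← Category.assoc (α_ G G E).hom,
          show (α_ G G E).hom ≫ (G ◁ act) = lift ((fst (G ⊗ G) E) ≫ fst G G)
            (lift ((fst (G ⊗ G) E) ≫ snd G G) (snd _ E) ≫ act) from by
              ext1
              · simp
              · rw [Category.assoc, whiskerLeft_snd, lift_snd, ← Category.assoc]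
                congr 1
                ext1 <;> simp,
          hpt, hpt, hpt, ← AlgGrp.Action.lift_mul_act, Hom.mul_def, ← comp_lift_assoc, lift_fst_snd,
          Category.id_comp] }
  refine ⟨E, aE, φ, ⟨?_, ?_⟩, ?_, hE⟩
  · refine isPseudoTorsorSch_of_existsUnique fun T x y => ?_
    have hxy : (y ≫ φ) ≫ π = (x ≫ φ) ≫ π := by
      rw [Category.assoc, Category.assoc, hE.w, ← Category.assoc, ← Category.assoc,
        toUnit_unique (y ≫ toUnit E) (x ≫ toUnit E)]
    let g := hsq.lift (y ≫ φ) (x ≫ φ) hxy
    have hg2 : g = lift (g ≫ fst G F) (x ≫ φ) := by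
      rw [← hsq.lift_snd (y ≫ φ) (x ≫ φ) hxy, ← comp_lift, lift_fst_snd, Category.comp_id]
    refine ⟨g ≫ fst G F, hext _ _ ?_, fun g' hg' => ?_⟩
    · show (lift _ x ≫ act) ≫ φ = _
      rw [hpt, ← hg2, hsq.lift_fst]
    · have : lift g' (x ≫ φ) = g := hsq.hom_ext (by rw [hsq.lift_fst, ← hpt, ← hg']) (by rw [hsq.lift_snd, lift_snd])
      rw [← this, lift_fst]
  · obtain ⟨R, hR, hsec⟩ := hloc
    refine ⟨R.pullbackArrows σ.left, Precoverage.pullbackArrows_mem σ.left hR, fun S' f hf => ?_⟩
    obtain ⟨W, w, hw, q, hq⟩ := exists_of_pullbackArrows hf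
    obtain ⟨s, hs⟩ := hsec w hw
    let T : Over S := Over.mk f
    have hs' : s ≫ π.left = w := hs
    have hsq' : (q ≫ s) ≫ π.left = f ≫ σ.left := by rw [Category.assoc, hs', hq]
    let t : T ⟶ F := Over.homMk (q ≫ s) (by
      show (q ≫ s) ≫ F.hom = f
      rw [← Over.w π, ← Category.assoc, hsq', Category.assoc, Over.w σ]
      exact Category.comp_id f)
    have ht : t ≫ π = toUnit T ≫ σ := Over.OverMorphism.ext (by
      show (q ≫ s) ≫ π.left = _
      rw [hsq', Over.comp_left]
      rfl)
    exact ⟨(hE.lift t (toUnit T) ht).left, Over.w (hE.lift t (toUnit T) ht)⟩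
  · show act ≫ φ = (G ◁ φ) ≫ (aF.restrict i).act
    rw [hact]
    congr 1

end Groth.Agent.S16226
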