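import Groth.Statements.S16227
import Groth.Agent.Lib.TorsorSch25.Basic
import Mathlib.AlgebraicGeometry.Sites.Proetale

set_option autoImplicit false
universe u
open CategoryTheory MonoidalCategory CartesianMonoidalCategory MonObj AlgebraicGeometry
open PrincBund

namespace Groth.Agent.S16227

set_option backward.isDefEq.respectTransparency.types false
open Groth.Agent.TorsorSch25 CategoryTheory.Limits


/-- Let i : G → H be a homomorphism of group schemes over a base scheme S which is a closed immersion, F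
an H-torsor over S for the etale topology with action aF, and π : F → Q a morphism of S-schemes
exhibiting Q as the quotient F/G, in the sense that the square formed by the restricted action G ×_S
F → F, the projection G ×_S F → F and π twice is cartesian and π acquires sections etale-locally on
Q. Then a reduction of the structure group of F to G, namely a G-torsor E over S for the etale
topology together with an i-equivariant morphism φ : E → F over S, determines a unique section σ of
Q over S such that the composite E → S → Q equals φ followed by π, and for this σ the square (φ, E →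
S; π, σ) is cartesian, so that E is recovered as the pullback of F along σ. (Stated over an
arbitrary base scheme and for arbitrary group schemes; the quotient F/G is taken as data through its
torsor property rather than constructed.) -/
theorem result
    {S : Scheme.{u}} {G H F Q : Over S} [GrpObj G] [GrpObj H]
    (i : G ⟶ H) [IsMonHom i] [IsClosedImmersion i.left]
    (aF : AlgGrp.Action H F) (hF : NonAbH1.IsTorsorFor Scheme.etalePrecoverage aF)
    (π : F ⟶ Q)
    (hsq : IsPullback (aF.restrict i).act (snd G F) π π)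
    (hloc : NonAbH1.IsLocallyTrivialFor Scheme.etalePrecoverage (Over.mk π.left : Over Q.left))
    {E : Over S} (aE : AlgGrp.Action G E) (hE : NonAbH1.IsTorsorFor Scheme.etalePrecoverage aE)
    (φ : E ⟶ F) (hφ : AlgGrp.Action.IsEquivariant aE (aF.restrict i) φ) :
    (∃! σ : 𝟙_ (Over S) ⟶ Q, toUnit E ≫ σ = φ ≫ π) ∧
      ∀ σ : 𝟙_ (Over S) ⟶ Q, toUnit E ≫ σ = φ ≫ π → IsPullback φ (toUnit E) π σ := by
  obtain ⟨R, hR0, hsec⟩ := hE.2
  have hR : R ∈ Scheme.fpqcPrecoverage S :=
    Scheme.proetalePrecoverage_le_fpqcPrecoverage _ (Scheme.etalePrecoverage_le_proetalePrecoverage _ hR0)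
  have hφ' : ∀ {T : Over S} (g : T ⟶ G) (e : T ⟶ E),
      (lift g e ≫ aE.act) ≫ φ = lift g (e ≫ φ) ≫ (aF.restrict i).act := by
    intro T g e
    rw [Category.assoc, hφ, lift_whiskerLeft_assoc]
  have hinv : ∀ {T : Over S} (e e' : T ⟶ E), e ≫ φ ≫ π = e' ≫ φ ≫ π := by
    intro T e e'
    obtain ⟨g, hg, -⟩ := existsUnique_smul hE.1 e e'
    rw [← hg, ← Category.assoc (lift g e ≫ aE.act) φ π, hφ', Category.assoc, hsq.w, lift_snd_assoc, Category.assoc]
  let Pr : ∀ ⦃T' : Over S⦄, (T' ⟶ 𝟙_ (Over S)) → (T' ⟶ Q) → Prop := fun T' _ z =>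
    ∀ ⦃T'' : Over S⦄ (c : T'' ⟶ T') (e : T'' ⟶ E), c ≫ z = e ≫ φ ≫ π
  obtain ⟨R', hR', hR''⟩ := exists_cover_over hR (𝟙_ (Over S))
  obtain ⟨σ, hσ⟩ := exists_glue (T := 𝟙_ (Over S)) (Z := Q) Pr
    (fun T' T'' b f z h W c e => by rw [← Category.assoc]; exact h (c ≫ b) e)
    (fun T' f z z' h h' => by
      obtain ⟨R₂, hR₂, hR₂'⟩ := exists_cover_over hR T'
      refine hom_ext_of_cover hR₂ fun W c hc => ?_
      obtain ⟨x⟩ := hR₂' hsec c hc
      exact (h c x).trans (h' c x).symm)
    hR' (fun T' f hf => by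
      obtain ⟨x⟩ := hR'' hsec f hf
      exact ⟨x ≫ φ ≫ π, fun W c e => by rw [← Category.assoc c x]; exact hinv _ _⟩)
  have hglob : ∀ {T : Over S} (e : T ⟶ E), toUnit T ≫ σ = e ≫ φ ≫ π := by
    intro T e
    refine hom_ext_of_cover (Precoverage.pullbackArrows_mem (toUnit T).left hR') fun W d hd => ?_
    obtain ⟨V, w, hw, q, hq⟩ := exists_of_pullbackArrows hd
    let f : Over.mk (w ≫ (𝟙_ (Over S)).hom) ⟶ 𝟙_ (Over S) := Over.homMk w rfl
    let e' : W ⟶ Over.mk (w ≫ (𝟙_ (Over S)).hom) := Over.homMk q (by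
      show q ≫ w ≫ (𝟙_ (Over S)).hom = W.hom
      rw [← Category.assoc, hq, Category.assoc, Over.w (toUnit T), Over.w d])
    have h := hσ f hw e' (d ≫ e)
    rw [← Category.assoc e' f σ, toUnit_unique (e' ≫ f) (d ≫ toUnit T), Category.assoc, Category.assoc] at h
    exact h
  refine ⟨⟨σ, ?_, fun σ' hσ' => ?_⟩, fun σ' hσ' => ?_⟩
  · have h := hglob (𝟙 E); rwa [Category.id_comp] at h
  · refine hom_ext_of_cover hR' fun W c hc => ?_
    obtain ⟨x⟩ := hR'' hsec c hc
    rw [toUnit_unique c (x ≫ toUnit E), Category.assoc, hσ', ← hglob x, Category.assoc,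
      show toUnit E ≫ σ = φ ≫ π by simpa using hglob (𝟙 E)]
    exact (hglob x)
  · have hinj : ∀ {T : Over S} (e e' : T ⟶ E), e ≫ φ = e' ≫ φ → e = e' := by
      intro T e e' h
      obtain ⟨g, hg, -⟩ := existsUnique_smul hE.1 e e'
      have h1 : lift g (e ≫ φ) = lift (1 : T ⟶ G) (e ≫ φ) := hsq.hom_ext
        (by rw [← hφ', hg, AlgGrp.Action.lift_one_act, h]) (by rw [lift_snd, lift_snd])
      have h2 : g = 1 := by simpa using congrArg (· ≫ fst G F) h1
      rw [← hg, h2, AlgGrp.Action.lift_one_act]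
    have hlift : ∀ {T : Over S} (t : T ⟶ F), t ≫ π = toUnit T ≫ σ' → ∃ e : T ⟶ E, e ≫ φ = t := by
      intro T t ht
      obtain ⟨R₂, hR₂, hR₂'⟩ := exists_cover_over hR T
      obtain ⟨e, he⟩ := exists_glue (T := T) (Z := E) (fun T' f z => z ≫ φ = f ≫ t)
        (fun T' T'' b f z h => by rw [Category.assoc, h, Category.assoc])
        (fun T' f z z' h h' => hinj z z' (h.trans h'.symm))
        hR₂ (fun T' f hf => by
          obtain ⟨x⟩ := hR₂' hsec f hf
          have h1 : (f ≫ t) ≫ π = (x ≫ φ) ≫ π := by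
            rw [Category.assoc, ht, Category.assoc, ← hσ', ← Category.assoc, ← Category.assoc,
              toUnit_unique (f ≫ toUnit T) (x ≫ toUnit E)]
          let g := hsq.lift (f ≫ t) (x ≫ φ) h1
          refine ⟨lift (g ≫ fst G F) x ≫ aE.act, ?_⟩
          rw [hφ']
          have hg : lift (g ≫ fst G F) (x ≫ φ) = g := by
            rw [← hsq.lift_snd (f ≫ t) (x ≫ φ) h1, ← comp_lift, lift_fst_snd, Category.comp_id]
          rw [hg]
          exact hsq.lift_fst _ _ _)
      exact ⟨e, hom_ext_of_cover hR₂ fun T' f hf => by rw [← Category.assoc]; exact he f hf⟩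
    have hc : ∀ s : PullbackCone π σ', s.fst ≫ π = toUnit s.pt ≫ σ' := fun s => by
      rw [s.condition, toUnit_unique s.snd (toUnit _)]
    exact ⟨⟨hσ'.symm⟩, ⟨PullbackCone.IsLimit.mk _ (fun s => (hlift s.fst (hc s)).choose)
      (fun s => (hlift s.fst (hc s)).choose_spec) (fun s => toUnit_unique _ _)
      (fun s m h1 _ => hinj _ _ (h1.trans (hlift s.fst (hc s)).choose_spec.symm))⟩⟩

end Groth.Agent.S16227
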