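import Groth.Statements.S1623
import Groth.Agent.Lib.BlowCover5.Main
import Groth.Agent.Lib.CohFound.HHBridge

set_option autoImplicit false
set_option linter.style.haveILetI false
universe u
open CategoryTheory CategoryTheory.Limits AlgebraicGeometry
open Resolve

namespace Groth.Agent.S1623

/-- Let A be a regular local ring of dimension two and b : X → Spec A a blowing up in the maximal ideal.
For every quasi-coherent O_X-module F and every p ≥ 2, H^p(X, F) = 0. -/
theorem result (A : Type u) [CommRing A] [IsRegularLocalRing A] (hA : ringKrullDim A = 2)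
    (X : Scheme.{u}) (b : X ⟶ Spec (CommRingCat.of A)) (hb : BlowUp.IsBlowUp b (Curv2.idealSheaf A (IsLocalRing.maximalIdeal A)))
    (F : X.Modules) (hF : Coh.IsQCoh F) (p : ℕ) (hp : 2 ≤ p) : Subsingleton (Coh.HH X F p) := by
  classical
  let S : Scheme.{u} := Spec (CommRingCat.of A)
  let m := IsLocalRing.maximalIdeal A
  let C := Curv2.idealSheaf A m
  let e : A ≃+* Γ(S, ⊤) := (Scheme.ΓSpecIso (CommRingCat.of A)).symm.commRingCatIsoToRingEquiv
  have hC : C.ideal ⟨⊤, isAffineOpen_top S⟩ = m.map e.toRingHom :=
    by simp [C, S, Curv2.idealSheaf, Scheme.IdealSheafData.ofIdealTop_ideal]; rfl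
  have hfg : m.FG := IsNoetherian.noetherian m
  obtain ⟨t, ht, hspan⟩ := Submodule.FG.exists_span_finset_card_eq_spanFinrank hfg
  have h2 : m.spanFinrank = 2 := by
    have := IsRegularLocalRing.spanFinrank_maximalIdeal (R := A)
    rw [hA] at this
    exact_mod_cast this
  let s : Finset Γ(S, ⊤) := t.image e
  have hs : Ideal.span (s : Set Γ(S, ⊤)) = C.ideal ⟨⊤, isAffineOpen_top S⟩ := by
    rw [hC, Finset.coe_image]
    change _ = (IsLocalRing.maximalIdeal A).map e.toRingHom
    rw [show IsLocalRing.maximalIdeal A = Ideal.span (t : Set A) from hspan.symm, Ideal.map_span]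
    rfl
  obtain ⟨W, hW, hcov⟩ := BlowCover5.exists_affine_cover (b := b) s hs hb
  haveI : IsProper b := BlowUpExist.isProper_of_affine ⟨s, hs⟩ hb
  haveI : X.IsSeparated := ⟨by rw [← terminal.comp_from b]; infer_instance⟩
  haveI : F.IsQuasicoherent := hF
  have hcard : Fintype.card s ≤ p := by
    rw [Fintype.card_coe]
    exact (Finset.card_image_le.trans (ht.trans h2).le).trans hp
  rw [CohFound.subsingleton_HH_iff]
  have key := CohFound.subsingleton_hc_iSup_affine F (fun V W hV hW => hV.inf hW) (Fintype.card s)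
    (W ∘ (Fintype.equivFin s).symm) (fun i => hW _) p hcard
  rwa [show (⨆ i, (W ∘ (Fintype.equivFin s).symm) i) = ⊤ from ((Fintype.equivFin s).symm.surjective.iSup_comp W).trans hcov] at key

end Groth.Agent.S1623
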