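import Groth.Statements.S16232
import Groth.Agent.Lib.TameHom15.Basic
-- import your own Groth.Agent.* helpers here

set_option autoImplicit false
universe u v
open VanCyc

namespace Groth.Agent.S16232

/-- Let R be a strictly Henselian discrete valuation ring (Henselian, with separably closed residue
field), K its fraction field, Ω a separable closure of K and G the group of K-algebra automorphisms
of Ω; let r ≥ 1 be an integer invertible in the residue field of R, ϖ a uniformizer of R and ρ an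
r-th root of ϖ in Ω, so that the fundamental character χ : G → μ_r(Ω) is σ ↦ σ(ρ)/ρ. Then every
homomorphism φ of the abstract group G into an abelian group M with rM = 0 factors uniquely through
χ: there is exactly one homomorphism u : μ_r(Ω) → M with φ(σ) = u(χ(σ)) for every σ in G.
(Homomorphisms are written as maps respecting the group laws; χ(σ) is the root of unity ζ with ζρ =
σ(ρ).) -/
theorem result
    (R : Type u) [CommRing R] [IsDomain R] [IsDiscreteValuationRing R] [HenselianLocalRing R]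
    [IsSepClosed (IsLocalRing.ResidueField R)]
    (K : Type u) [Field K] [Algebra R K] [IsFractionRing R K]
    (Ω : Type u) [Field Ω] [Algebra K Ω] [IsSepClosure K Ω]
    (r : ℕ) [NeZero r] (hr : IsUnit (r : IsLocalRing.ResidueField R))
    (ϖ : R) (hϖ : Irreducible ϖ) (ρ : Ω) (hρ : ρ ^ r = algebraMap K Ω (algebraMap R K ϖ))
    (M : Type v) [AddCommGroup M] (hM : ∀ x : M, r • x = 0)
    (φ : (Ω ≃ₐ[K] Ω) → M) (hφ : ∀ σ τ : Ω ≃ₐ[K] Ω, φ (σ * τ) = φ σ + φ τ) :
    ∃! u : ↥(rootsOfUnity r Ω) → M, (∀ ζ ξ : ↥(rootsOfUnity r Ω), u (ζ * ξ) = u ζ + u ξ) ∧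
      ∀ (σ : Ω ≃ₐ[K] Ω) (ζ : ↥(rootsOfUnity r Ω)), ((ζ : Ωˣ) : Ω) * ρ = σ ρ → φ σ = u ζ := by
  classical
  haveI : IsGalois K Ω := IsSepClosure.isGalois
  let k := IsLocalRing.ResidueField R
  haveI : NeZero (r : k) := ⟨hr.ne_zero⟩
  obtain ⟨η₀, hη₀⟩ := HasEnoughRootsOfUnity.exists_primitiveRoot k r
  obtain ⟨a₀, ha₀⟩ := IsLocalRing.residue_surjective η₀
  obtain ⟨η, hη, hηa⟩ := HenselianLocalRing.is_henselian (Polynomial.X ^ r - Polynomial.C (1 : R))
    (Polynomial.monic_X_pow_sub_C 1 (NeZero.ne r)) a₀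
    (by
      rw [← IsLocalRing.residue_eq_zero_iff]
      simp [ha₀, hη₀.pow_eq_one])
    (by
      rw [Polynomial.derivative_sub, Polynomial.derivative_C, sub_zero, Polynomial.derivative_X_pow,
        Polynomial.eval_mul, Polynomial.eval_C, Polynomial.eval_pow, Polynomial.eval_X,
        ← IsLocalRing.residue_ne_zero_iff_isUnit, map_mul, map_pow, map_natCast, ha₀]
      exact mul_ne_zero hr.ne_zero (pow_ne_zero _ (hη₀.ne_zero (NeZero.ne r))))
  have hη1 : η ^ r = 1 := by
    simpa [Polynomial.IsRoot.def, sub_eq_zero] using hη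
  rw [← IsLocalRing.residue_eq_zero_iff, map_sub, sub_eq_zero, ha₀] at hηa
  have hηp : IsPrimitiveRoot (IsLocalRing.residue R η) r := hηa ▸ hη₀
  letI algΩ : Algebra R Ω := ((algebraMap K Ω).comp (algebraMap R K)).toAlgebra
  haveI : IsScalarTower R K Ω := IsScalarTower.of_algebraMap_eq' rfl
  have hinj : Function.Injective (algebraMap R Ω) :=
    (algebraMap K Ω).injective.comp (IsFractionRing.injective R K)
  have hηΩ : IsPrimitiveRoot (algebraMap R Ω η) r := by
    refine (IsPrimitiveRoot.mk_of_lt η (NeZero.pos r) hη1 fun l hl0 hlr h => ?_).map_of_injective hinj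
    exact hηp.pow_ne_one_of_pos_of_lt hl0.ne' hlr (by rw [← map_pow, h, map_one])
  have hroot : ∀ ζ : ↥(rootsOfUnity r Ω), ∃ y : R, ((ζ : Ωˣ) : Ω) = algebraMap R Ω y ∧ y ^ r = 1 := by
    intro ζ
    have h : ((ζ : Ωˣ) : Ω) ^ r = 1 := by
      rw [← Units.val_pow_eq_pow_val, (mem_rootsOfUnity r _).1 ζ.2, Units.val_one]
    obtain ⟨i, -, hi⟩ := hηΩ.eq_pow_of_pow_eq_one h
    exact ⟨η ^ i, by rw [map_pow, hi], by rw [← pow_mul, mul_comm, pow_mul, hη1, one_pow]⟩
  have hfix : ∀ (σ : Ω ≃ₐ[K] Ω) (y : R), σ (algebraMap R Ω y) = algebraMap R Ω y :=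
    fun σ y => σ.commutes (algebraMap R K y)
  have hρ0 : ρ ≠ 0 := fun h => by
    rw [h, zero_pow (NeZero.ne r)] at hρ
    exact hϖ.ne_zero (hinj (hρ.symm.trans (map_zero _).symm))
  -- irreducibility
  have hirr : Irreducible (Polynomial.X ^ r - Polynomial.C (algebraMap R K ϖ)) := by
    have hmonic : (Polynomial.X ^ r - Polynomial.C ϖ).Monic := Polynomial.monic_X_pow_sub_C ϖ (NeZero.ne r)
    have he : (Polynomial.X ^ r - Polynomial.C ϖ).IsEisensteinAt (Ideal.span {ϖ}) := by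
      refine ⟨?_, fun {n} hn => ?_, ?_⟩
      · rw [hmonic.leadingCoeff, Ideal.mem_span_singleton]
        exact fun h => hϖ.not_isUnit (isUnit_of_dvd_one h)
      · rw [Polynomial.natDegree_X_pow_sub_C] at hn
        rw [Polynomial.coeff_sub, Polynomial.coeff_X_pow, if_neg hn.ne, zero_sub, neg_mem_iff,
          Polynomial.coeff_C]
        split_ifs
        · exact Ideal.mem_span_singleton_self ϖ
        · exact zero_mem _
      · rw [Polynomial.coeff_sub, Polynomial.coeff_X_pow, if_neg (NeZero.ne r).symm, zero_sub,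
          neg_mem_iff, Polynomial.coeff_C_zero, Ideal.span_singleton_pow, Ideal.mem_span_singleton]
        rintro ⟨w, hw⟩
        exact hϖ.not_isUnit (IsUnit.of_mul_eq_one w (mul_left_cancel₀ hϖ.ne_zero
          (by linear_combination -hw)))
    have h1 : Irreducible (Polynomial.X ^ r - Polynomial.C ϖ) :=
      he.irreducible ((Ideal.span_singleton_prime hϖ.ne_zero).2 hϖ.prime) hmonic.isPrimitive
        (by rw [Polynomial.natDegree_X_pow_sub_C]; exact NeZero.pos r)
    rw [hmonic.irreducible_iff_irreducible_map_fraction_map (K := K)] at h1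
    simpa using h1
  have hmin : minpoly K ρ = Polynomial.X ^ r - Polynomial.C (algebraMap R K ϖ) :=
    (minpoly.eq_of_irreducible_of_monic hirr (by simp [hρ])
      (Polynomial.monic_X_pow_sub_C _ (NeZero.ne r))).symm
  have htrans : ∀ y : R, y ^ r = 1 → ∃ σ : Ω ≃ₐ[K] Ω, σ ρ = algebraMap R Ω y * ρ := by
    intro y hy
    have hc : IsConjRoot K ρ (algebraMap R Ω y * ρ) := by
      rw [isConjRoot_iff_aeval_eq_zero (Algebra.IsIntegral.isIntegral ρ), hmin]
      rw [map_sub, map_pow, Polynomial.aeval_X, Polynomial.aeval_C, mul_pow, ← map_pow, hy, map_one,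
        one_mul, hρ, sub_self]
    exact isConjRoot_iff_exists_algEquiv.1 hc.symm
  obtain ⟨σ₀, hσ₀⟩ := htrans η hη1
  have hφ1 : φ 1 = 0 := by
    have h := hφ 1 1
    rw [one_mul] at h
    exact left_eq_add.1 h
  have hφpow : ∀ (τ : Ω ≃ₐ[K] Ω) (n : ℕ), φ (τ ^ n) = n • φ τ := by
    intro τ n
    induction n with
    | zero => rw [pow_zero, hφ1, zero_smul]
    | succ n ih => rw [pow_succ, hφ, ih, succ_nsmul]
  -- automorphisms fixing ρ are killed
  have hker : ∀ σ : Ω ≃ₐ[K] Ω, σ ρ = ρ → φ σ = 0 := by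
    intro σ hσ
    let f : (Ω ≃ₐ[K] Ω) × (Ω ≃ₐ[K] Ω) → (Ω ≃ₐ[K] Ω) := fun p => p.1 ^ r * p.2 ^ r
    have hcl : IsClosed (Set.range f) :=
      (isCompact_range ((continuous_fst.pow r).mul (continuous_snd.pow r))).isClosed
    have hmem : σ ∈ Set.range f := by
      rw [← hcl.closure_eq, mem_closure_iff_nhds]
      intro U hU
      have hU1 : (fun x => σ * x) ⁻¹' U ∈ nhds (1 : Ω ≃ₐ[K] Ω) :=
        (continuous_const_mul σ).continuousAt.preimage_mem_nhds (by rwa [mul_one])
      rw [krullTopology_mem_nhds_one_iff_of_normal] at hU1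
      obtain ⟨E, hEfin, -, hE⟩ := hU1
      haveI := hEfin
      haveI : FiniteDimensional K (IntermediateField.adjoin K {ρ}) :=
        IntermediateField.adjoin.finiteDimensional (Algebra.IsIntegral.isIntegral ρ)
      let L := IntermediateField.normalClosure K (E ⊔ IntermediateField.adjoin K {ρ} : IntermediateField K Ω) Ω
      haveI : Algebra.IsSeparable K L := Algebra.isSeparable_tower_bot_of_isSeparable K L Ω
      haveI : IsGalois K L := ⟨⟩
      have hle : E ⊔ IntermediateField.adjoin K {ρ} ≤ L := IntermediateField.le_normalClosure _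
      have hρL : ρ ∈ L := hle (le_sup_right (a := E) (IntermediateField.mem_adjoin_simple_self K ρ))
      letI : Algebra R L := ((algebraMap K L).comp (algebraMap R K)).toAlgebra
      haveI : IsScalarTower R K L := IsScalarTower.of_algebraMap_eq' rfl
      obtain ⟨τ₁, τ₂, h12⟩ := Groth.Agent.TameHom15.exists_eq_pow_mul_pow R K L r hr ϖ hϖ ⟨ρ, hρL⟩
        (Subtype.ext hρ) η hηp (AlgEquiv.restrictNormalHom L σ₀)
        (Subtype.ext ((AlgEquiv.restrictNormalHom_apply L σ₀ _).trans hσ₀))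
        (AlgEquiv.restrictNormalHom L σ) (Subtype.ext ((AlgEquiv.restrictNormalHom_apply L σ _).trans hσ))
      obtain ⟨T₁, hT₁⟩ := AlgEquiv.restrictNormalHom_surjective (F := K) (K₁ := L) Ω τ₁
      obtain ⟨T₂, hT₂⟩ := AlgEquiv.restrictNormalHom_surjective (F := K) (K₁ := L) Ω τ₂
      refine ⟨T₁ ^ r * T₂ ^ r, ?_, (T₁, T₂), rfl⟩
      have hfx : σ⁻¹ * (T₁ ^ r * T₂ ^ r) ∈ E.fixingSubgroup := by
        rw [IntermediateField.mem_fixingSubgroup_iff]
        intro x hx
        have h1 : AlgEquiv.restrictNormalHom L (σ⁻¹ * (T₁ ^ r * T₂ ^ r)) = 1 := by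
          rw [map_mul, map_inv, map_mul, map_pow, map_pow, hT₁, hT₂, ← h12, inv_mul_cancel]
        have h2 := AlgEquiv.restrictNormalHom_apply L (σ⁻¹ * (T₁ ^ r * T₂ ^ r))
          ⟨x, hle (le_sup_left (b := IntermediateField.adjoin K {ρ}) hx)⟩
        rw [h1] at h2
        exact h2.symm
      simpa using hE hfx
    obtain ⟨⟨T₁, T₂⟩, rfl⟩ := hmem
    show φ (T₁ ^ r * T₂ ^ r) = 0
    rw [hφ, hφpow, hφpow, hM, hM, add_zero]
  -- conclusion
  have hex : ∀ ζ : ↥(rootsOfUnity r Ω), ∃ σ : Ω ≃ₐ[K] Ω, σ ρ = ((ζ : Ωˣ) : Ω) * ρ := by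
    intro ζ
    obtain ⟨y, hy, hy1⟩ := hroot ζ
    rw [hy]
    exact htrans y hy1
  choose s hs using hex
  have hchar : ∀ (σ : Ω ≃ₐ[K] Ω) (ζ : ↥(rootsOfUnity r Ω)),
      ((ζ : Ωˣ) : Ω) * ρ = σ ρ → φ σ = φ (s ζ) := by
    intro σ ζ h
    have h1 : ((s ζ)⁻¹ * σ) ρ = ρ := by
      rw [AlgEquiv.mul_apply, ← h, ← hs ζ]
      exact (s ζ).symm_apply_apply ρ
    have := hφ (s ζ) ((s ζ)⁻¹ * σ)
    rw [mul_inv_cancel_left, hker _ h1, add_zero] at this
    exact this
  refine ⟨fun ζ => φ (s ζ), ⟨fun ζ ξ => ?_, hchar⟩, fun u hu => ?_⟩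
  · show φ (s (ζ * ξ)) = φ (s ζ) + φ (s ξ)
    rw [← hφ]
    refine (hchar _ _ ?_).symm
    obtain ⟨y, hy, -⟩ := hroot ξ
    rw [AlgEquiv.mul_apply, hs ξ, map_mul, hs ζ, hy, hfix, ← hy]
    push_cast
    ring
  · funext ζ
    exact (hu.2 (s ζ) ζ (hs ζ).symm).symm

end Groth.Agent.S16232
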