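import Groth.Statements.S16234
import Mathlib
import Groth.Agent.Lib.H2Alg.WeakAss

set_option autoImplicit false
universe u v
open CAlg

namespace Groth.Agent.S16234
open TensorProduct

/-- For a finitely generated module M over a Noetherian commutative ring A, every prime ideal in the
support of M is a maximal ideal if and only if M has finite length. -/
theorem result (A : Type u) [CommRing A] [IsNoetherianRing A]
    (M : Type v) [AddCommGroup M] [Module A M] [Module.Finite A M] :
    (∀ p ∈ Module.support A M, p.asIdeal.IsMaximal) ↔ IsFiniteLength A M := by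
  constructor
  · intro h
    set J := Module.annihilator A M
    have : Ring.KrullDimLE 0 (A ⧸ J) := Ring.KrullDimLE.mk₀ fun q hq => by
      have := h ⟨q.comap (Ideal.Quotient.mk J), hq.comap _⟩ (by
        rw [Module.mem_support_iff_of_finite]
        intro x hx
        show Ideal.Quotient.mk J x ∈ q
        rw [Ideal.Quotient.eq_zero_iff_mem.2 hx]; exact q.zero_mem)
      refine Ideal.isMaximal_def.2 ⟨hq.ne_top, fun K hK => ?_⟩
      refine Ideal.comap_injective_of_surjective _ Ideal.Quotient.mk_surjective ?_
      rw [Ideal.comap_top]
      exact this.1.2 _ (lt_of_le_of_ne (Ideal.comap_mono hK.le) fun e => hK.ne (Ideal.comap_injective_of_surjective _ Ideal.Quotient.mk_surjective e))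
    have : IsArtinianRing (A ⧸ J) := isArtinianRing_iff_isNoetherianRing_krullDimLE_zero.2 ⟨inferInstance, this⟩
    letI : Module (A ⧸ J) M := Module.quotientAnnihilator
    have : IsScalarTower A (A ⧸ J) M := ⟨fun a x m => by obtain ⟨x, rfl⟩ := Ideal.Quotient.mk_surjective x; exact mul_smul a x m⟩
    have : Module.Finite (A ⧸ J) M := Module.Finite.of_restrictScalars_finite A _ M
    have : IsArtinian A M := isArtinian_of_surjective_algebraMap (S := A) (R := A ⧸ J) Ideal.Quotient.mk_surjective
    exact isFiniteLength_iff_isNoetherian_isArtinian.2 ⟨inferInstance, this⟩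
  · intro h p hp
    have hA : IsArtinianRing (A ⧸ Module.annihilator A M) := by
      have := (isFiniteLength_iff_isNoetherian_isArtinian.1 h).2
      classical
      obtain ⟨G, hG⟩ := (Module.Finite.fg_top : (⊤ : Submodule A M).FG)
      let f : A →ₗ[A] (G → M) := LinearMap.pi fun g => LinearMap.toSpanSingleton A M g
      have hk : LinearMap.ker f = Module.annihilator A M := by
        ext a
        rw [LinearMap.mem_ker, Module.mem_annihilator]
        refine ⟨fun ha m => ?_, fun ha => funext fun g => ha g⟩
        have hm : m ∈ Submodule.span A (G : Set M) := hG ▸ Submodule.mem_top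
        induction hm using Submodule.span_induction with
        | mem y hy => exact congrFun ha ⟨y, hy⟩
        | zero => simp
        | add u v _ _ hu hv => rw [smul_add, hu, hv, add_zero]
        | smul c u _ hu => rw [smul_comm, hu, smul_zero]
      have : IsArtinian A (A ⧸ Module.annihilator A M) := hk ▸ isArtinian_of_injective ((LinearMap.ker f).liftQ f le_rfl)
        (by rw [← LinearMap.ker_eq_bot, Submodule.ker_liftQ, Submodule.mkQ_map_self])
      exact isArtinian_of_tower A this
    rw [Module.mem_support_iff_of_finite] at hp
    have : (p.asIdeal.map (Ideal.Quotient.mk (Module.annihilator A M))).IsPrime :=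
      Ideal.map_isPrime_of_surjective Ideal.Quotient.mk_surjective (by rwa [Ideal.mk_ker])
    have hm := IsArtinianRing.isMaximal_of_isPrime (p.asIdeal.map (Ideal.Quotient.mk (Module.annihilator A M)))
    have := Ideal.comap_isMaximal_of_surjective (Ideal.Quotient.mk (Module.annihilator A M)) Ideal.Quotient.mk_surjective (K := p.asIdeal.map (Ideal.Quotient.mk (Module.annihilator A M)))
    rwa [Ideal.comap_map_of_surjective _ Ideal.Quotient.mk_surjective, ← RingHom.ker_eq_comap_bot, Ideal.mk_ker, sup_eq_left.2 hp] at this

end Groth.Agent.S16234
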