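import Groth.Statements.S16235
import Groth.Statements.S14414
import Groth.Agent.Lib.FlatSyz.ProjDim
import Groth.Agent.Lib.FlatSyz.TorDim
import Groth.Agent.Lib.TorSymm3.Basic
import Mathlib.RingTheory.Ideal.KrullsHeightTheorem

set_option autoImplicit false
universe u
open CAlg

namespace Groth.Agent.S16235
open CategoryTheory CategoryTheory.Limits

theorem le_height {A : Type u} [CommRing A] (l : List A) (h : RingTheory.Sequence.IsWeaklyRegular A l) :
    ∀ i, i ≤ l.length → ∀ P : Ideal A, P.IsPrime → Ideal.ofList (l.take i) ≤ P → (i : ℕ∞) ≤ P.height := by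
  intro i
  induction i with
  | zero => intro _ P _ _; simp
  | succ i ih =>
    intro hi P hP hle
    haveI := hP
    have hstep : Ideal.ofList (l.take (i + 1)) = Ideal.ofList (l.take i) ⊔ Ideal.span {l[i]} := by
      rw [List.take_succ_eq_append_getElem hi, Ideal.ofList_append, Ideal.ofList_singleton]
    rw [hstep, sup_le_iff, Ideal.span_singleton_le_iff_mem] at hle
    obtain ⟨Q, hQ, hQP⟩ := Ideal.exists_minimalPrimes_le hle.1
    haveI := hQ.1.1
    have hreg := h.regular_mod_prev i hi
    have hx : l[i] ∉ Q := by
      refine hreg.notMem_of_mem_minimalPrimes ?_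
      rw [smul_eq_mul, Ideal.mul_top]
      have hann : Module.annihilator A (A ⧸ Ideal.ofList (l.take i)) = Ideal.ofList (l.take i) :=
        Ideal.annihilator_quotient
      rw [hann]
      exact hQ
    have hlt : Q < P := lt_of_le_of_ne hQP fun e => hx (e ▸ hle.2)
    refine le_trans ?_ (Ideal.height_add_one_le_of_lt_of_isPrime hlt)
    rw [Nat.cast_succ]
    exact add_le_add (ih (Nat.le_of_succ_le hi) Q hQ.1.1 hQ.1.2) le_rfl

/-- Let A be a Noetherian commutative ring and x_1, …, x_r a regular sequence on A (each x_i a
non-zero-divisor on A/(x_1, …, x_{i-1})) generating an ideal I ≠ A. Then the height of I, the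
infimum of the heights of the minimal primes over I, equals r. -/
theorem result (A : Type u) [CommRing A] [IsNoetherianRing A]
    (r : ℕ) (x : Fin r → A) (hx : RingTheory.Sequence.IsWeaklyRegular A (List.ofFn x))
    (hI : Ideal.span (Set.range x) ≠ ⊤) :
    (Ideal.span (Set.range x)).height = r := by
  refine le_antisymm ((Ideal.height_le_spanFinrank _ hI).trans ?_) ?_
  · refine Nat.cast_le.2 ((Submodule.spanFinrank_span_le_ncard_of_finite (Set.finite_range x)).trans ?_)
    calc (Set.range x).ncard ≤ (Set.univ : Set (Fin r)).ncard := by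
          rw [← Set.image_univ]; exact Set.ncard_image_le
      _ = r := by simp
  · have hl : Ideal.ofList (List.ofFn x) = Ideal.span (Set.range x) := by
      rw [Ideal.ofList]
      congr 1
      ext a
      simp [List.mem_ofFn']
    rw [Ideal.height_eq_inf_minimalPrimes]
    refine le_iInf₂ fun P hP => ?_
    have := le_height _ hx r (by rw [List.length_ofFn]) P hP.1.1
      (by rw [List.take_of_length_le (by rw [List.length_ofFn]), hl]; exact hP.1.2)
    exact this

end Groth.Agent.S16235
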