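import Groth.Statements.S16238
import Groth.Agent.Lib.CI2.TorKoszul

set_option autoImplicit false
universe u
open CategoryTheory
open CAlg

namespace Groth.Agent.S16238
open CategoryTheory
open CAlg

/-- Let A be a Noetherian local ring, x_1, …, x_n a regular sequence on A (each x_i a non-zero-divisor
on A/(x_1, …, x_{i-1})) generating the ideal I, and J an ideal with I + J ≠ A. Then the images of
x_1, …, x_n form a regular sequence on A/J if and only if Tor_i^A(A/I, A/J) = 0 for all i ≥ 1 (in
degree 0 the Tor is A/(I + J) in any case). (The published statement does not ask the x_i to form a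
regular sequence on A itself; without this the equivalence fails, for instance for A = k[e]/(e²), n
= 1, x_1 = e and J = 0, where every higher Tor of A/(e) against the free module A vanishes although
e is a zero-divisor.) -/
theorem result (A : Type u) [CommRing A] [IsNoetherianRing A] [IsLocalRing A]
    (n : ℕ) (x : Fin n → A) (hx : RingTheory.Sequence.IsWeaklyRegular A (List.ofFn x))
    (J : Ideal A) (hIJ : Ideal.span (Set.range x) ⊔ J ≠ ⊤) :
    RingTheory.Sequence.IsWeaklyRegular (A ⧸ J) (List.ofFn (fun i : Fin n => Ideal.Quotient.mk J (x i))) ↔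
      ∀ i : ℕ, 1 ≤ i → Limits.IsZero (((Tor (ModuleCat.{u} A) i).obj
        (ModuleCat.of A (A ⧸ Ideal.span (Set.range x)))).obj (ModuleCat.of A (A ⧸ J))) := by
  have hI : Ideal.span (Set.range x) = Ideal.ofList (List.ofFn x) := by
    rw [Ideal.ofList]
    congr 1
    ext a
    simp [List.mem_ofFn']
  have hm : ∀ a ∈ List.ofFn x, a ∈ IsLocalRing.maximalIdeal A := by
    intro a ha
    refine IsLocalRing.le_maximalIdeal hIJ (Ideal.mem_sup_left ?_)
    rw [hI]
    exact Ideal.subset_span ha
  have hmap : RingTheory.Sequence.IsWeaklyRegular (A ⧸ J) (List.ofFn (fun i : Fin n => Ideal.Quotient.mk J (x i))) ↔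
      RingTheory.Sequence.IsWeaklyRegular (A ⧸ J) (List.ofFn x) := by
    rw [show (List.ofFn fun i : Fin n => Ideal.Quotient.mk J (x i)) = (List.ofFn x).map (algebraMap A (A ⧸ J)) from
      (List.map_ofFn).symm]
    exact RingTheory.Sequence.isWeaklyRegular_map_algebraMap_iff (A ⧸ J) (A ⧸ J) _
  rw [hmap, hI]
  refine Iff.trans ?_ (Groth.Agent.CI2.forall_isZero_tor_iff_ex (Groth.Agent.CI2.ex_of_isWeaklyRegular _ A hx) (A ⧸ J)).symm
  refine ⟨fun h => Groth.Agent.CI2.ex_of_isWeaklyRegular _ _ h, fun h => ?_⟩
  exact IsLocalRing.isWeaklyRegular_of_perm_of_subset_maximalIdeal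
    (Groth.Agent.CI2.isWeaklyRegular_reverse_of_exact_module (A ⧸ J) (List.ofFn x) hm (h 0))
    (List.reverse_perm _) fun r hr => hm r (List.mem_reverse.1 hr)

end Groth.Agent.S16238
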