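import Groth.Statements.S16239
import Groth.Agent.Lib.PBK5.DimFil
import Groth.Agent.Lib.CurveCoh17.PairDeg
import Groth.Agent.Lib.VB17.PairSat
import Groth.Agent.Lib.DetSES2.Main
import Groth.Agent.Lib.PoleOne18.Ample
import Groth.Agent.Lib.TensorMod.PicLaw

set_option autoImplicit false
set_option linter.style.haveILetI false
universe u
open CategoryTheory CategoryTheory.Limits AlgebraicGeometry
attribute [local instance] HasDerivedCategory.standard
open SGA6

namespace Groth.Agent.S16239

open Groth.Agent.ExtFil4 (cl)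

attribute [local instance] ExtFil4.kvbRing

variable {X : Scheme.{u}}

theorem vb_line {L : X.Modules} (hL : PicF.IsInvertible L) : FlatMod.IsFinLocFree L :=
  M2.isFinLocFree_of_isInvertible hL

theorem cl_mul {E F : X.Modules} (hE : FlatMod.IsFinLocFree E) (hF : FlatMod.IsFinLocFree F) :
    cl E * cl F = cl (CohB1.tensorMod E F) := ExtFil4.mul_cl hE hF

/-- `(n - 1)·[O] + [L]`. -/
noncomputable def form (X : Scheme.{u}) (n : ℤ) (L : X.Modules) : SGA6.Kvb X :=
  (n - 1) • cl (Coh.structureModule X) + cl L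

theorem form_add (h0 : ∀ L M : X.Modules, PicF.IsInvertible L → PicF.IsInvertible M → (cl L - 1) * (cl M - 1) = 0)
    {L M : X.Modules} (hL : PicF.IsInvertible L) (hM : PicF.IsInvertible M) (n m : ℤ) :
    form X n L + form X m M = form X (n + m) (CohB1.tensorMod L M) := by
  have h := h0 L M hL hM
  rw [form, form, form, ← cl_mul (vb_line hL) (vb_line hM), show cl (Coh.structureModule X) = 1 from rfl]
  simp only [zsmul_eq_mul, mul_one]
  push_cast
  linear_combination -h

/-- Every class has the standard form, if line classes generate and their products vanish. -/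
theorem exists_form (h0 : ∀ L M : X.Modules, PicF.IsInvertible L → PicF.IsInvertible M → (cl L - 1) * (cl M - 1) = 0)
    (hgen : ∀ E : X.Modules, FlatMod.IsFinLocFree E → ∃ n L, PicF.IsInvertible L ∧ cl E = form X n L)
    (a : SGA6.Kvb X) : ∃ n L, PicF.IsInvertible L ∧ a = form X n L := by
  induction a using K0Cat.clSub_induction with
  | h0 =>
    refine ⟨0, _, PicLoc.isInvertible_structureModule X, ?_⟩
    simp [form]
  | hcl E hE => exact hgen E hE
  | hneg a ha =>
    obtain ⟨n, L, hL, rfl⟩ := ha
    refine ⟨-n, _, M2.isInvertible_dualMod hL, ?_⟩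
    refine (eq_neg_of_add_eq_zero_left ?_).symm
    rw [form_add h0 (M2.isInvertible_dualMod hL) hL]
    simp [form, cl, ExtFil4.cl_iso (M2.dualTensorIso hL) (M2.isFinLocFree_tensor (vb_line (M2.isInvertible_dualMod hL)) (vb_line hL))]
  | hadd a b ha hb =>
    obtain ⟨n, L, hL, rfl⟩ := ha
    obtain ⟨m, M, hM, rfl⟩ := hb
    exact ⟨_, _, M2.isInvertible_tensor hL hM, form_add h0 hL hM n m⟩

section Inv

variable [ConnectedSpace X]

theorem exists_det {E : X.Modules} (hE : FlatMod.IsFinLocFree E) :
    ∃ (n : ℕ) (D : X.Modules), FlatMod.IsFinLocFreeOfRank n E ∧ PicF.IsInvertible D ∧ ExtPow.IsExtPow n E D := by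
  obtain ⟨x₀⟩ := (inferInstance : Nonempty X)
  have h := KModel5.exists_rank x₀ hE
  obtain ⟨D, -, hD⟩ := KModel5.hasExt X (KModel5.rk x₀ E) E hE
  exact ⟨_, D, h, Wedge2.isInvertible_top h hD, hD⟩

/-- The class of the determinant. -/
noncomputable def detCls {E : X.Modules} (hE : FlatMod.IsFinLocFree E) : PicLoc.PicSet X :=
  PicGrp.cls (exists_det hE).choose_spec.choose (exists_det hE).choose_spec.choose_spec.2.1

theorem detCls_eq {E D : X.Modules} (hE : FlatMod.IsFinLocFree E) {n : ℕ} (hn : FlatMod.IsFinLocFreeOfRank n E)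
    (hD : PicF.IsInvertible D) (hext : ExtPow.IsExtPow n E D) : detCls hE = PicGrp.cls D hD := by
  have key : ∀ (p : ℕ) (D' : X.Modules) (hD' : PicF.IsInvertible D'), FlatMod.IsFinLocFreeOfRank p E →
      ExtPow.IsExtPow p E D' → PicGrp.cls D' hD' = PicGrp.cls D hD := by
    intro p D' hD' hp h3
    obtain ⟨x₀⟩ := (inferInstance : Nonempty X)
    obtain rfl : p = n := by rw [← KModel5.rk_of_rank hp x₀, KModel5.rk_of_rank hn x₀]
    exact (PicGrp.cls_eq_cls_iff _ _).2 (ExtFil4.isoExtPow h3 hext)
  exact key _ _ _ (exists_det hE).choose_spec.choose_spec.1 (exists_det hE).choose_spec.choose_spec.2.2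

theorem unique_form {n m : ℤ} {L L' : X.Modules} (hL : PicF.IsInvertible L) (hL' : PicF.IsInvertible L')
    (h : form X n L = form X m L') : n = m ∧ Nonempty (L ≅ L') := by
  obtain ⟨x₀⟩ := (inferInstance : Nonempty X)
  letI := M2.law X
  let rkH : SGA6.Kvb X →+ ℤ := K0Cat.liftSub (P := ExtFil4.VB X) (fun E => (KModel5.rk x₀ E.1 : ℤ))
    fun S h₁ h₂ h₃ hS => by exact_mod_cast KModel5.rk_ses x₀ hS h₁ h₃
  let dH : SGA6.Kvb X →+ Additive (PicLoc.PicSet X) :=
    K0Cat.liftSub (P := ExtFil4.VB X) (fun E => Additive.ofMul (detCls E.2)) fun S h₁ h₂ h₃ hS => by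
      obtain ⟨p, D', hp, hD', hp'⟩ := exists_det h₁
      obtain ⟨q, D'', hq, hD'', hq'⟩ := exists_det h₃
      obtain ⟨r, D, hr, hD, hr'⟩ := exists_det h₂
      have hn : p + q = r := by
        have := KModel5.rk_ses x₀ hS h₁ h₃
        rw [KModel5.rk_of_rank hp, KModel5.rk_of_rank hq, KModel5.rk_of_rank hr] at this
        exact this.symm
      obtain ⟨e⟩ := DetSES2.nonempty_det_iso S hS hn hp h₂ hq hp' hr' hq' (vb_line hD') (vb_line hD'')
      show Additive.ofMul (detCls h₂) = Additive.ofMul (detCls h₁ * detCls h₃)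
      rw [detCls_eq h₁ hp hD' hp', detCls_eq h₂ hr hD hr', detCls_eq h₃ hq hD'' hq']
      refine congrArg _ (Subtype.ext ?_)
      rw [PicGrp.cls_mul_cls_val]
      exact M2.cl_eq_of_iso e
  have hd : ∀ (n : ℤ) {L : X.Modules} (hL : PicF.IsInvertible L),
      rkH (form X n L) = n ∧ dH (form X n L) = Additive.ofMul (PicGrp.cls L hL) := by
    intro n L hL
    have hO := PicLoc.isInvertible_structureModule X
    have hr : ∀ {M : X.Modules}, PicF.IsInvertible M → rkH (cl M) = 1 ∧
        ∀ hM, dH (cl M) = Additive.ofMul (PicGrp.cls M hM) := by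
      intro M hM
      have h1 := (M2.isInvertible_iff_isFinLocFreeOfRank_one M).1 hM
      refine ⟨?_, fun hM => ?_⟩
      · rw [K0Cat.liftSub_clSub _ _ (vb_line hM)]
        exact_mod_cast KModel5.rk_of_rank h1 x₀
      · rw [K0Cat.liftSub_clSub _ _ (vb_line hM)]
        exact congrArg _ (detCls_eq _ h1 hM (ExtFil4.isExtPow_one M))
    constructor
    · rw [form, map_add, map_zsmul, (hr hO).1, (hr hL).1]; simp
    · rw [form, map_add, map_zsmul, (hr hO).2 hO, (hr hL).2 hL, PicGrp.cls_structureModule_eq_one]; simp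
  obtain ⟨a, b⟩ := hd n hL
  obtain ⟨a', b'⟩ := hd m hL'
  rw [h] at a b
  exact ⟨a.symm.trans a', (PicGrp.cls_eq_cls_iff hL hL').1 (Additive.ofMul.injective (b.symm.trans b'))⟩

end Inv

section Curve

variable {k : Type u} [Field k] [X.Over (Spec (CommRingCat.of k))] [IsIntegral X]

theorem exists_form_bundle (hX : VB17.RegCurve k X) (hdim : topologicalKrullDim X = 1)
    (h0 : ∀ L M : X.Modules, PicF.IsInvertible L → PicF.IsInvertible M → (cl L - 1) * (cl M - 1) = 0) :
    ∀ (r : ℕ) {E : X.Modules}, FlatMod.IsFinLocFreeOfRank r E → ∃ n L, PicF.IsInvertible L ∧ cl E = form X n L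
  | 0, E, hE => by
    refine ⟨0, _, PicLoc.isInvertible_structureModule X, ?_⟩
    simp [form, cl, K0Cat.clSub_of_isZero (P := ExtFil4.VB X) (AmpleElt5.isZero_of_rank_zero hE) (M2.isFinLocFree_of_ofRank hE)]
  | r + 1, E, hE => by
    obtain ⟨L, i, hL, hi⟩ := CurveCoh17.exists_line_sub hX hdim (Nat.succ_pos r) hE
    haveI := hi
    obtain ⟨P, j, -, hj, hP, -, hco, -, -⟩ :=
      VB17.exists_saturation hX hE ((M2.isInvertible_iff_isFinLocFreeOfRank_one L).1 hL) i
    haveI := hj
    obtain ⟨s, hs⟩ := VB17.exists_rank_of_isFinLocFree hco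
    let S : ShortComplex X.Modules := ShortComplex.mk j (cokernel.π j) (cokernel.condition j)
    have hS : S.ShortExact := { exact := ShortComplex.exact_of_g_is_cokernel _ (cokernelIsCokernel j) }
    obtain rfl : r = s := by
      have := VB17.rank_add hS hP hE hs
      omega
    obtain ⟨n, M, hM, hc⟩ := exists_form_bundle hX hdim h0 r hs
    have hP' : PicF.IsInvertible P := (M2.isInvertible_iff_isFinLocFreeOfRank_one P).2 hP
    refine ⟨1 + n, CohB1.tensorMod P M, M2.isInvertible_tensor hP' hM, ?_⟩
    rw [← form_add h0 hP' hM 1 n, ← hc]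
    refine (K0Cat.clSub_ses (P := ExtFil4.VB X) S hS (vb_line hP') (M2.isFinLocFree_of_ofRank hE) hco).trans ?_
    simp [form, S]

end Curve

/-- Let X be a smooth proper integral curve (dimension one) over an algebraically closed field k, and
write K for the Grothendieck group of finite locally free O_X-modules. Then every element of K can
be written as (n − 1)·[O_X] + [L] with n an integer and L an invertible O_X-module, and in such an
expression n and the isomorphism class of L are unique. (This is the bijection ℤ × Pic(X) → K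
underlying the ring isomorphism K ≅ ℤ ⊕ Pic(X), α ↦ (rank α, det α), of the source, which identifies
K with K₀ of coherent modules via the Cartan isomorphism. The published statement takes X
projective; a proper curve over a field is projective, so this row takes X proper.) -/
theorem result (k : Type u) [Field k] [IsAlgClosed k]
    (X : Scheme.{u}) [X.Over (Spec (CommRingCat.of k))] [IsIntegral X]
    [IsProper (X ↘ Spec (CommRingCat.of k))] [Smooth (X ↘ Spec (CommRingCat.of k))]
    (hdim : topologicalKrullDim ↥X = 1) :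
    (∀ a : SGA6.Kvb X, ∃ (n : ℤ) (L : X.Modules), PicF.IsInvertible L ∧
        a = (n - 1) • KZero.clSub (fun M : X.Modules => FlatMod.IsFinLocFree M) (Coh.structureModule X) +
          KZero.clSub (fun M : X.Modules => FlatMod.IsFinLocFree M) L) ∧
      (∀ (n m : ℤ) (L L' : X.Modules), PicF.IsInvertible L → PicF.IsInvertible L' →
        (n - 1) • KZero.clSub (fun M : X.Modules => FlatMod.IsFinLocFree M) (Coh.structureModule X) +
            KZero.clSub (fun M : X.Modules => FlatMod.IsFinLocFree M) L =
          (m - 1) • KZero.clSub (fun M : X.Modules => FlatMod.IsFinLocFree M) (Coh.structureModule X) +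
            KZero.clSub (fun M : X.Modules => FlatMod.IsFinLocFree M) L' →
        n = m ∧ Nonempty (L ≅ L')) := by
  have hX : VB17.RegCurve k X := VB17.regCurve' hdim
  haveI := hX.like.noetherian
  haveI : X.IsSeparated := ⟨by rw [← terminal.comp_from (X ↘ Spec (CommRingCat.of k))]; infer_instance⟩
  obtain ⟨A, hA⟩ := PoleOne18.exists_isAmple (X := X) fun y =>
    (VB17.ringKrullDim_stalk_le_topologicalKrullDim y).trans hdim.le
  have hbot := PBK5.lineIdeal_pow_eq_bot hA (d := 1) hdim.le (k := 2) one_lt_two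
  have h0 : ∀ L M : X.Modules, PicF.IsInvertible L → PicF.IsInvertible M → (cl L - 1) * (cl M - 1) = 0 := by
    intro L M hL hM
    have h := Ideal.mul_mem_mul (PBK5.cl_sub_one_mem hL) (PBK5.cl_sub_one_mem hM)
    rwa [← pow_two, hbot, Ideal.mem_bot] at h
  refine ⟨exists_form h0 fun E hE => ?_, fun n m L L' hL hL' h => unique_form hL hL' h⟩
  obtain ⟨r, hr⟩ := VB17.exists_rank_of_isFinLocFree hE
  exact exists_form_bundle hX hdim h0 r hr

end Groth.Agent.S16239
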