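import Groth.Statements.S1624
import Groth.Agent.Lib.BlowH1_32.Basic

set_option autoImplicit false
universe u
open CategoryTheory CategoryTheory.Limits AlgebraicGeometry
open Resolve

namespace Groth.Agent.S1624

/-- Let A be a regular local ring of dimension two and b : X → Spec A the blowing up in the maximal
ideal. If F is a quasi-coherent O_X-module which is globally generated, then H¹(X, F) = 0. -/
theorem result (A : Type u) [CommRing A] [IsRegularLocalRing A] (hA : ringKrullDim A = 2)
    (X : Scheme.{u}) (b : X ⟶ Spec (CommRingCat.of A)) (hb : BlowUp.IsBlowUp b (Curv2.idealSheaf A (IsLocalRing.maximalIdeal A)))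
    (F : X.Modules) (hF : Coh.IsQCoh F) (hgg : Curv2.IsGloballyGenerated F) : Subsingleton (Coh.HH X F 1) := by
  classical
  let m := IsLocalRing.maximalIdeal A
  let C := Curv2.idealSheaf A m
  have h2 : m.spanFinrank = 2 := by
    have := IsRegularLocalRing.spanFinrank_maximalIdeal (R := A)
    rw [hA] at this
    exact_mod_cast this
  obtain ⟨t, ht, hspan⟩ := Submodule.FG.exists_span_finset_card_eq_spanFinrank (IsNoetherian.noetherian m)
  obtain ⟨p, q, -, rfl⟩ := Finset.card_eq_two.1 (ht.trans h2)
  have hm : m = Ideal.span {p, q} := by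
    rw [show m = Ideal.span (({p, q} : Finset A) : Set A) from hspan.symm]
    simp
  have hC : C.ideal ⟨⊤, isAffineOpen_top _⟩ = Ideal.span (Set.range (Groth.Agent.PointBlowUp.gsec ![p, q])) := by
    have e1 : C.ideal ⟨⊤, isAffineOpen_top _⟩ = m.map (Scheme.ΓSpecIso (CommRingCat.of A)).inv.hom := by
      simp [C, Curv2.idealSheaf]
    rw [e1, hm, Ideal.map_span]
    congr 1
    ext z
    simp [Set.image_pair, Fin.exists_fin_two, Groth.Agent.PointBlowUp.gsec, eq_comm]
  haveI : IsProper b := Groth.Agent.BlowUpExist.isProper_of_affine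
    ⟨Finset.univ.image (Groth.Agent.PointBlowUp.gsec ![p, q]), by
      rw [hC, Finset.coe_image, Finset.coe_univ, Set.image_univ]⟩ hb
  haveI : X.IsSeparated := ⟨by rw [← terminal.comp_from b]; infer_instance⟩
  exact Groth.Agent.BlowH1.subsingleton_HH_one ![p, q] hC hb hF hgg

end Groth.Agent.S1624
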