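import Groth.Statements.S16240
import Groth.Prelude.Def_RefHull
import Groth.Agent.S12491
import Groth.Agent.Lib.ModM1.LocFree
import Groth.Agent.Lib.ModM1.Exact
import Groth.Agent.Lib.VB17.Setup
-- import your own Groth.Agent.* helpers here

set_option autoImplicit false
universe u
open CategoryTheory CategoryTheory.Limits AlgebraicGeometry
open Coh

namespace Groth.Agent.S16240

/-- Let X be a Noetherian scheme all of whose local rings are regular, of (topological Krull) dimension
at most m, and let S be an exact sequence of O_X-modules G ⟶ E_m ⟶ ⋯ ⟶ E_1 ⟶ F with m + 2 terms (G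
in position 0, F in position m + 1), injective at the first map and surjective at the last, in which
F is coherent and E_1, …, E_m are finite locally free. Then G is finite locally free. (The source
asks for p + 1 vector bundles with p ≥ dim X − 1, i.e. at least dim X of them, and finite dimension;
here m bounds the dimension.) -/
theorem result (X : Scheme.{u}) [IsNoetherian X]
    (hreg : ∀ x : X, IsRegularLocalRing (X.presheaf.stalk x)) (m : ℕ)
    (hdim : topologicalKrullDim ↥X ≤ (m : WithBot ℕ∞))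
    (S : ComposableArrows X.Modules (m + 1)) (hS : S.Exact)
    (hmono : Mono (S.map' 0 1 (Nat.zero_le 1) (Nat.le_add_left 1 m)))
    (hepi : Epi (S.map' m (m + 1) (Nat.le_succ m) (le_refl (m + 1))))
    (hE : ∀ i : Fin m, FlatMod.IsFinLocFree (S.obj ⟨i.1 + 1, Nat.succ_lt_succ (Nat.lt_succ_of_lt i.2)⟩))
    (hF : Coh.IsCoh (S.obj (Fin.last (m + 1)))) :
    FlatMod.IsFinLocFree (S.obj 0) := by
  classical
  let o : ℕ → Fin (m + 1 + 1) := fun i => ⟨min i (m + 1), Nat.lt_succ_of_le (min_le_right _ _)⟩
  have hle : ∀ i, o i ≤ o (i + 1) := fun i => by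
    show min i (m + 1) ≤ min (i + 1) (m + 1)
    omega
  let F : ℕ → X.Modules := fun i => S.obj (o i)
  let D : ∀ i, F i ⟶ F (i + 1) := fun i => S.map (homOfLE (hle i))
  have ho : ∀ (i : ℕ) (h : i < m + 1 + 1), o i = ⟨i, h⟩ := fun i h => Fin.ext (min_eq_left (by omega))
  have hFP : ∀ i, 1 ≤ i → i ≤ m + 1 → CohB1.IsFP (F i) := by
    intro i h1 h2
    show CohB1.IsFP (S.obj (o i))
    rw [ho i (by omega)]
    rcases Nat.lt_or_ge i (m + 1) with h | h
    · have := Groth.Agent.M1.isFP_of_isFinLocFree (hE ⟨i - 1, by omega⟩)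
      simp only [Nat.sub_add_cancel h1] at this
      exact this
    · have e : (⟨i, by omega⟩ : Fin (m + 1 + 1)) = Fin.last (m + 1) := Fin.ext (by simp; omega)
      rw [e]
      exact (Groth.Agent.M1.isCoh_iff_isFP _).1 hF
  have h0 : o 0 = 0 := ho 0 (Nat.succ_pos _)
  have hmonoD : Mono (D 0) := by
    have key : ∀ (a b : Fin (m + 1 + 1)) (h : a ≤ b), a.val = 0 → b.val = 1 → Mono (S.map (homOfLE h)) := by
      rintro ⟨a, ha⟩ ⟨b, hb⟩ h h1 h2
      obtain rfl : a = 0 := h1
      obtain rfl : b = 1 := h2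
      exact hmono
    exact key _ _ _ (min_eq_left (Nat.zero_le _)) (min_eq_left (by omega))
  haveI := hmonoD
  have hexD : ∀ i, i + 1 < m + 1 → ∃ w : D i ≫ D (i + 1) = 0, (ShortComplex.mk (D i) (D (i + 1)) w).Exact := by
    intro i hi
    have key : ∀ (a b c : Fin (m + 1 + 1)) (h1 : a ≤ b) (h2 : b ≤ c), a.val = i → b.val = i + 1 → c.val = i + 2 →
        ∃ w : S.map (homOfLE h1) ≫ S.map (homOfLE h2) = 0,
          (ShortComplex.mk (S.map (homOfLE h1)) (S.map (homOfLE h2)) w).Exact := by
      rintro ⟨a, ha⟩ ⟨b, hb⟩ ⟨c, hc⟩ h1 h2 e1 e2 e3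
      obtain rfl : a = i := e1
      obtain rfl : b = a + 1 := e2
      obtain rfl : c = a + 2 := e3
      exact ⟨hS.toIsComplex.zero a (by omega), hS.exact a (by omega)⟩
    exact key _ _ _ (hle i) (hle (i + 1)) (min_eq_left (by omega)) (min_eq_left (by omega)) (min_eq_left (by omega))
  have hcoh0 : Coh.IsCoh (F 0) := by
    rcases Nat.eq_zero_or_pos m with rfl | hm
    · haveI : Mono (D 0) := hmonoD
      haveI : Epi (D 0) := by
        have key : ∀ (a b : Fin (0 + 1 + 1)) (h : a ≤ b), a.val = 0 → b.val = 1 → Epi (S.map (homOfLE h)) := by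
          rintro ⟨a, ha⟩ ⟨b, hb⟩ h h1 h2
          obtain rfl : a = 0 := h1
          obtain rfl : b = 1 := h2
          exact hepi
        exact key _ _ _ (min_eq_left (Nat.zero_le _)) (min_eq_left le_rfl)
      haveI : IsIso (D 0) := isIso_of_mono_of_epi _
      exact (Groth.Agent.M1.isCoh_iff_isFP _).2
        (Groth.Agent.M1.isFP_of_isIso (asIso (D 0)).symm (hFP 1 le_rfl (by omega)))
    · obtain ⟨w, hex⟩ := hexD 0 (by omega)
      have h1 := (Groth.Agent.M1.isCoh_iff_isFP _).2 (hFP 1 le_rfl (by omega))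
      have h2 := (Groth.Agent.M1.isCoh_iff_isFP _).2 (hFP 2 (by omega) (by omega))
      have hk := Groth.Agent.M1.isCoh_kernel h1 h2.1 (D 1)
      exact (Groth.Agent.M1.isCoh_iff_isFP _).2 (Groth.Agent.M1.isFP_of_isIso
        ((hex.fIsKernel).conePointUniqueUpToIso (kernelIsKernel _)).symm
        ((Groth.Agent.M1.isCoh_iff_isFP _).1 hk))
  rw [← h0]
  change FlatMod.IsFinLocFree (F 0)
  refine (Groth.Agent.M1.isFinLocFree_iff (F 0)).2 ⟨(Groth.Agent.M1.isCoh_iff_isFP _).1 hcoh0, fun x => ?_⟩
  haveI := hreg x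
  let A := X.presheaf.stalk x
  haveI : Module.Finite A ((F 0).presheaf.stalk x) :=
    Groth.Agent.M1.finite_stalk hcoh0.1 hcoh0.2 x
  let d : ∀ i, ((F i).presheaf.stalk x : Type u) →ₗ[A] ((F (i + 1)).presheaf.stalk x : Type u) :=
    fun i => RefHull.stalkMapₗ (D i) x
  have hfree := Groth.Agent.S12491.result A m (fun i => ((F i).presheaf.stalk x : Type u))
    (fun i h1 h2 => by
      have hfl : FlatMod.IsFinLocFree (F i) := by
        show FlatMod.IsFinLocFree (S.obj (o i))
        rw [ho i (by omega)]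
        have := hE ⟨i - 1, by omega⟩
        simp only [Nat.sub_add_cancel h1] at this
        exact this
      have hfp := Groth.Agent.M1.isFP_of_isFinLocFree hfl
      exact ⟨((Groth.Agent.M1.isFinLocFree_iff _).1 hfl).2 x,
        Groth.Agent.M1.finite_stalk (Groth.Agent.M1.isFP_isQCoh hfp) (Groth.Agent.M1.isFP_isFT hfp) x⟩)
    d ((Groth.Agent.M1.mono_iff_stalk (D 0)).1 inferInstance x)
    (fun i hi => by
      obtain ⟨w, hex⟩ := hexD i (by omega)
      ext b
      refine ⟨?_, fun hb => (Groth.Agent.M1.exact_iff_stalk_eq_zero _).1 hex x b hb⟩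
      rintro ⟨a, rfl⟩
      have h := ConcreteCategory.congr_hom (congrArg (Groth.Agent.M1.stalkAb x).map w) a
      rw [Functor.map_comp, Functor.map_zero] at h
      exact h)
    (IsLocalRing.maximalIdeal A) (by
      have h := (IsLocalRing.maximalIdeal_height_eq_ringKrullDim (R := A)).le.trans
        ((Groth.Agent.VB17.ringKrullDim_stalk_le_topologicalKrullDim x).trans hdim)
      exact_mod_cast h)
  haveI := hfree
  have hu : ∀ s : (IsLocalRing.maximalIdeal A).primeCompl, IsUnit (s : A) := fun s =>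
    IsLocalRing.notMem_maximalIdeal.1 s.2
  let e : ((F 0).presheaf.stalk x : Type u) ≃ₗ[A] LocalizedModule (IsLocalRing.maximalIdeal A).primeCompl ((F 0).presheaf.stalk x) :=
    haveI : IsLocalization (IsLocalRing.maximalIdeal A).primeCompl A :=
      IsLocalization.self (fun s hs => hu ⟨s, hs⟩)
    haveI := isLocalizedModule_id (IsLocalRing.maximalIdeal A).primeCompl ((F 0).presheaf.stalk x : Type u) A
    IsLocalizedModule.linearEquiv (IsLocalRing.maximalIdeal A).primeCompl LinearMap.id
      (LocalizedModule.mkLinearMap _ _)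
  haveI : Module.Flat A (Localization.AtPrime (IsLocalRing.maximalIdeal A)) :=
    IsLocalization.flat _ (IsLocalRing.maximalIdeal A).primeCompl
  haveI : Module.Flat A (LocalizedModule (IsLocalRing.maximalIdeal A).primeCompl ((F 0).presheaf.stalk x)) :=
    Module.Flat.trans A (Localization.AtPrime (IsLocalRing.maximalIdeal A)) _
  haveI : Module.Flat A ((F 0).presheaf.stalk x) := Module.Flat.of_linearEquiv e
  exact Module.free_of_flat_of_isLocalRing


end Groth.Agent.S16240
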