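import Groth.Statements.S16242
import Groth.Agent.Lib.K0Cat.FiniteModules
import Mathlib.RingTheory.Polynomial.Basic
import Mathlib.RingTheory.PrincipalIdealDomain
import Mathlib.Algebra.Polynomial.FieldDivision
-- import your own Groth.Agent.* helpers here

set_option autoImplicit false
universe u
open CategoryTheory
open KZero

namespace Groth.Agent.S16242

variable (k : Type u) [Field k]

/-- The coordinate ring of the node. -/
abbrev A := MvPolynomial (Fin 2) k ⧸
  Ideal.span {(MvPolynomial.X 0 * MvPolynomial.X 1 : MvPolynomial (Fin 2) k)}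

/-- The coordinates. -/
noncomputable def co (i : Fin 2) : A k := Ideal.Quotient.mk _ (MvPolynomial.X i)

theorem co_mul (i j : Fin 2) (h : i ≠ j) : co k i * co k j = 0 := by
  have h01 : co k 0 * co k 1 = 0 := by
    rw [co, co, ← map_mul, Ideal.Quotient.eq_zero_iff_mem]
    exact Ideal.mem_span_singleton_self _
  fin_cases i <;> fin_cases j <;> first | exact absurd rfl h | exact h01 | (rw [mul_comm]; exact h01)

/-- Restriction of polynomial functions to an axis. -/
noncomputable def toAxis (i : Fin 2) : A k →+* Polynomial k :=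
  Ideal.Quotient.lift _
    ((MvPolynomial.aeval (fun j => if j = i then (0 : Polynomial k) else Polynomial.X) :
      MvPolynomial (Fin 2) k →ₐ[k] Polynomial k) : MvPolynomial (Fin 2) k →+* Polynomial k) (by
    intro f hf
    obtain ⟨g, rfl⟩ := Ideal.mem_span_singleton.1 hf
    fin_cases i <;> simp)

theorem toAxis_co (i j : Fin 2) : toAxis k i (co k j) = if j = i then 0 else Polynomial.X := by
  change MvPolynomial.aeval _ (MvPolynomial.X j) = _
  rw [MvPolynomial.aeval_X]

theorem sub_mem_span (i : Fin 2) (a : A k) :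
    ∃ q : Polynomial k, toAxis k i a = q ∧
      a - Polynomial.eval₂ ((Ideal.Quotient.mk _).comp MvPolynomial.C) (co k (i + 1)) q ∈
        Ideal.span {co k i} := by
  refine ⟨_, rfl, ?_⟩
  obtain ⟨f, rfl⟩ := Ideal.Quotient.mk_surjective a
  induction f using MvPolynomial.induction_on with
  | C r =>
    have : toAxis k i (Ideal.Quotient.mk _ (MvPolynomial.C r)) = Polynomial.C r := by
      change MvPolynomial.aeval _ (MvPolynomial.C r) = _
      simp
    rw [this, Polynomial.eval₂_C, RingHom.comp_apply, sub_self]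
    exact zero_mem _
  | add f g hf hg =>
    rw [map_add, map_add, Polynomial.eval₂_add, add_sub_add_comm]
    exact add_mem hf hg
  | mul_X f j hf =>
    rw [map_mul, map_mul, show toAxis k i (Ideal.Quotient.mk _ (MvPolynomial.X j)) = _ from
      toAxis_co k i j]
    split_ifs with h
    · subst h
      rw [mul_zero, Polynomial.eval₂_zero, sub_zero]
      exact Ideal.mul_mem_left _ _ (Ideal.mem_span_singleton_self _)
    · obtain rfl : j = i + 1 := by fin_cases i <;> fin_cases j <;> simp_all
      rw [Polynomial.eval₂_mul, Polynomial.eval₂_X, ← co, ← sub_mul]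
      exact Ideal.mul_mem_right _ _ hf

theorem toAxis_surjective (i : Fin 2) : Function.Surjective (toAxis k i) := by
  intro q
  induction q using Polynomial.induction_on' with
  | add p q hp hq =>
    obtain ⟨a, rfl⟩ := hp; obtain ⟨b, rfl⟩ := hq
    exact ⟨a + b, map_add _ _ _⟩
  | monomial n r =>
    refine ⟨Ideal.Quotient.mk _ (MvPolynomial.C r) * co k (i + 1) ^ n, ?_⟩
    rw [map_mul, map_pow, toAxis_co, if_neg (by fin_cases i <;> decide),
      show toAxis k i (Ideal.Quotient.mk _ (MvPolynomial.C r)) = Polynomial.C r by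
        change MvPolynomial.aeval _ (MvPolynomial.C r) = _
        simp, Polynomial.C_mul_X_pow_eq_monomial]

theorem ker_toAxis (i : Fin 2) : RingHom.ker (toAxis k i) = Ideal.span {co k i} := by
  refine le_antisymm (fun a ha => ?_) ?_
  · obtain ⟨q, hq, h⟩ := sub_mem_span k i a
    rw [RingHom.mem_ker.1 ha] at hq
    subst hq
    simpa using h
  · rw [Ideal.span_le, Set.singleton_subset_iff, SetLike.mem_coe, RingHom.mem_ker, toAxis_co,
      if_pos rfl]

theorem isPrime_axis (i : Fin 2) : (Ideal.span {co k i}).IsPrime := by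
  rw [← ker_toAxis]
  exact RingHom.ker_isPrime _

/-- The minimal prime of an axis. -/
noncomputable def axis (i : Fin 2) : PrimeSpectrum (A k) := ⟨_, isPrime_axis k i⟩

theorem co_notMem (i j : Fin 2) (h : j ≠ i) : co k j ∉ Ideal.span {co k i} := by
  rw [← ker_toAxis, RingHom.mem_ker, toAxis_co, if_neg h]
  exact Polynomial.X_ne_zero

theorem axis_cond (i : Fin 2) :
    ∀ a ∈ (axis k i).asIdeal, ∃ s ∉ (axis k i).asIdeal, s * a = 0 := by
  intro a ha
  obtain ⟨c, rfl⟩ := Ideal.mem_span_singleton.1 ha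
  have hne : i + 1 ≠ i := by fin_cases i <;> decide
  refine ⟨co k (i + 1), co_notMem k i _ hne, ?_⟩
  rw [← mul_assoc, co_mul k _ _ hne, zero_mul]


theorem bijective_of_dual {M : Type*} [AddCommGroup M] (e : Fin 2 → M) (r : Fin 2 → M →+ ℤ)
    (hre : ∀ i j, r i (e j) = if i = j then 1 else 0)
    (hgen : ∀ x, x ∈ AddSubgroup.closure (Set.range e)) :
    Function.Bijective (fun p : ℤ × ℤ => p.1 • e 0 + p.2 • e 1) := by
  constructor
  · intro p q h
    have h0 := congrArg (r 0) h
    have h1 := congrArg (r 1) h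
    simp [hre] at h0 h1
    exact Prod.ext h0 h1
  · intro x
    induction hgen x using AddSubgroup.closure_induction with
    | mem y hy =>
      obtain ⟨i, rfl⟩ := hy
      fin_cases i
      · exact ⟨(1, 0), by simp⟩
      · exact ⟨(0, 1), by simp⟩
    | zero => exact ⟨0, by simp⟩
    | add a b _ _ ha hb =>
      obtain ⟨p, rfl⟩ := ha; obtain ⟨q, rfl⟩ := hb
      exact ⟨p + q, by simp [add_smul]; abel⟩
    | neg a _ ha =>
      obtain ⟨p, rfl⟩ := ha
      exact ⟨-p, by simp [add_comm]⟩

/-- Let k be a field and A = k[x, y]/(xy) (polynomial ring in two variables x = X_0, y = X_1 modulo xy).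
In the Grothendieck group of finitely generated A-modules (free abelian group on them modulo short
exact sequences), the classes of A/(x) ≅ k[y] and A/(y) ≅ k[x] form a basis: the homomorphism ℤ × ℤ
⟶ K₀ sending (a, b) to a·[A/(x)] + b·[A/(y)] is bijective. -/
theorem result (k : Type u) [Field k] :
    Function.Bijective (fun p : ℤ × ℤ =>
      p.1 • KZero.clSub (fun M : ModuleCat.{u} (MvPolynomial (Fin 2) k ⧸ Ideal.span {(MvPolynomial.X 0 * MvPolynomial.X 1 : MvPolynomial (Fin 2) k)}) => Module.Finite (MvPolynomial (Fin 2) k ⧸ Ideal.span {(MvPolynomial.X 0 * MvPolynomial.X 1 : MvPolynomial (Fin 2) k)}) M)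
          (ModuleCat.of (MvPolynomial (Fin 2) k ⧸ Ideal.span {(MvPolynomial.X 0 * MvPolynomial.X 1 : MvPolynomial (Fin 2) k)}) ((MvPolynomial (Fin 2) k ⧸ Ideal.span {(MvPolynomial.X 0 * MvPolynomial.X 1 : MvPolynomial (Fin 2) k)}) ⧸ Ideal.span {Ideal.Quotient.mk (Ideal.span {(MvPolynomial.X 0 * MvPolynomial.X 1 : MvPolynomial (Fin 2) k)}) (MvPolynomial.X 0)})) +
        p.2 • KZero.clSub (fun M : ModuleCat.{u} (MvPolynomial (Fin 2) k ⧸ Ideal.span {(MvPolynomial.X 0 * MvPolynomial.X 1 : MvPolynomial (Fin 2) k)}) => Module.Finite (MvPolynomial (Fin 2) k ⧸ Ideal.span {(MvPolynomial.X 0 * MvPolynomial.X 1 : MvPolynomial (Fin 2) k)}) M)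
          (ModuleCat.of (MvPolynomial (Fin 2) k ⧸ Ideal.span {(MvPolynomial.X 0 * MvPolynomial.X 1 : MvPolynomial (Fin 2) k)}) ((MvPolynomial (Fin 2) k ⧸ Ideal.span {(MvPolynomial.X 0 * MvPolynomial.X 1 : MvPolynomial (Fin 2) k)}) ⧸ Ideal.span {Ideal.Quotient.mk (Ideal.span {(MvPolynomial.X 0 * MvPolynomial.X 1 : MvPolynomial (Fin 2) k)}) (MvPolynomial.X 1)}))) := by
  let e : Fin 2 → KZero.K0sub (K0Cat.finMods (A k)) := fun i =>
    KZero.clSub (K0Cat.finMods (A k)) (ModuleCat.of (A k) (A k ⧸ (axis k i).asIdeal))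
  suffices h : Function.Bijective (fun p : ℤ × ℤ => p.1 • e 0 + p.2 • e 1) from h
  let r : Fin 2 → KZero.K0sub (K0Cat.finMods (A k)) →+ ℤ := fun i => K0Cat.rankHom (axis_cond k i)
  have hre : ∀ i j, r i (e j) = if i = j then 1 else 0 := by
    intro i j
    have hf : K0Cat.finMods (A k) (ModuleCat.of (A k) (A k ⧸ (axis k j).asIdeal)) :=
      inferInstanceAs (Module.Finite (A k) (A k ⧸ (axis k j).asIdeal))
    refine (K0Cat.liftSub_clSub _ _ hf).trans ?_
    split_ifs with h
    · subst h; exact_mod_cast K0Cat.rankAtStalk_quotient_self (axis_cond k i)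
    · exact_mod_cast K0Cat.rankAtStalk_quotient_of_not_le (Ideal.mem_span_singleton_self (co k j))
        (co_notMem k i j (Ne.symm h))
  have : IsNoetherianRing (A k) := isNoetherianRing_of_surjective _ _
    (Ideal.Quotient.mk _) Ideal.Quotient.mk_surjective
  refine bijective_of_dual e r hre fun x => ?_
  refine K0Cat.mem_of_quotient_prime _ (fun p => ?_) x
  obtain ⟨i, hi⟩ : ∃ i, co k i ∈ p.asIdeal := by
    have h0 : co k 0 * co k 1 ∈ p.asIdeal := by rw [co_mul k 0 1 (by decide)]; exact zero_mem _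
    rcases p.isPrime.mem_or_mem h0 with h | h
    · exact ⟨0, h⟩
    · exact ⟨1, h⟩
  have hle : Ideal.span {co k i} ≤ p.asIdeal := (Ideal.span_singleton_le_iff_mem _).2 hi
  by_cases heq : p.asIdeal = Ideal.span {co k i}
  · exact AddSubgroup.subset_closure ⟨i, (K0Cat.clSub_equiv (Submodule.quotEquivOfEq _ _ heq)).symm⟩
  · obtain ⟨g, hg⟩ := (IsPrincipalIdealRing.principal (p.asIdeal.map (toAxis k i))).principal
    have hg' : g ∈ p.asIdeal.map (toAxis k i) := by rw [hg]; exact Submodule.mem_span_singleton_self g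
    obtain ⟨g', hg'p, rfl⟩ := (Ideal.mem_map_iff_of_surjective _ (toAxis_surjective k i)).1 hg'
    rw [K0Cat.clSub_quotient_sup_span (I := Ideal.span {co k i}) (J := p.asIdeal) (g := g') ?_ ?_]
    · exact zero_mem _
    · intro a ha
      rw [← ker_toAxis, RingHom.mem_ker, map_mul, mul_eq_zero] at ha
      rw [← ker_toAxis, RingHom.mem_ker]
      refine ha.resolve_left fun h0 => heq (le_antisymm (fun b hb => ?_) hle)
      have hb' := Ideal.mem_map_of_mem (toAxis k i) hb
      rw [hg, h0] at hb'
      rw [← ker_toAxis, RingHom.mem_ker]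
      simpa using hb'
    · refine le_antisymm (fun b hb => ?_)
        (sup_le hle ((Ideal.span_singleton_le_iff_mem _).2 hg'p))
      have hb' := Ideal.mem_map_of_mem (toAxis k i) hb
      rw [hg] at hb'
      obtain ⟨c, hc⟩ := Submodule.mem_span_singleton.1 hb'
      obtain ⟨c', rfl⟩ := toAxis_surjective k i c
      refine Submodule.mem_sup.2 ⟨b - c' * g', ?_, c' * g', ?_, sub_add_cancel _ _⟩
      · rw [← ker_toAxis, RingHom.mem_ker, map_sub, map_mul, ← hc, smul_eq_mul, sub_self]
      · exact Ideal.mul_mem_left _ _ (Ideal.mem_span_singleton_self g')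

end Groth.Agent.S16242
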