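import Groth.Statements.S16243
import Groth.Agent.Lib.CI2.NodeRes
import Mathlib

set_option autoImplicit false
universe u
open CategoryTheory
open CAlg

namespace Groth.Agent.S16243
open CategoryTheory

theorem main {k R : Type u} [Field k] [CommRing R] [Algebra k R] [Algebra.FinitePresentation k R] (a b : R)
    (hab : a * b = 0) (hanna : ∀ r, r * a = 0 → r ∈ Ideal.span {b}) (hannb : ∀ r, r * b = 0 → r ∈ Ideal.span {a})
    (hdis : ∀ r, r ∈ Ideal.span {a} → r ∈ Ideal.span {b} → r = 0)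
    (hmax : (Ideal.span ({a, b} : Set R)).IsMaximal) :
    (∀ i : ℕ, 1 ≤ i → Module.length R ((((Tor (ModuleCat.{u} R) i).obj (ModuleCat.of R (R ⧸ Ideal.span ({a, b} : Set R)))).obj
        (ModuleCat.of R (R ⧸ Ideal.span ({a, b} : Set R)))) : Type u) = 2) ∧
      ∀ n : ℕ, ¬ HasProjectiveDimensionLT (ModuleCat.of R (R ⧸ Ideal.span ({a, b} : Set R))) n := by
  have h := Groth.Agent.CI2.NodeRes.exact_diff hab hanna hannb hdis
  have hlen : ∀ i, 1 ≤ i → Module.length R ((((Tor (ModuleCat.{u} R) i).obj (ModuleCat.of R (R ⧸ Ideal.span ({a, b} : Set R)))).obj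
        (ModuleCat.of R (R ⧸ Ideal.span ({a, b} : Set R)))) : Type u) = 2 := by
    intro i hi
    obtain ⟨j, rfl⟩ := Nat.exists_eq_add_of_le' hi
    obtain ⟨e⟩ := Groth.Agent.CI2.NodeRes.tor_iso h j
    rw [e.length_eq]
    exact Groth.Agent.CI2.NodeRes.length_tensor hmax
  refine ⟨hlen, fun n hn => ?_⟩
  haveI : Module.Flat k (R ⧸ Ideal.span ({a, b} : Set R)) := inferInstance
  haveI : Module.FinitePresentation R (R ⧸ Ideal.span ({a, b} : Set R)) :=
    Module.finitePresentation_of_surjective (Ideal.span ({a, b} : Set R)).mkQ (Submodule.mkQ_surjective _)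
      (by rw [Submodule.ker_mkQ]; exact Submodule.fg_span (Set.toFinite _))
  haveI := hasProjectiveDimensionLT_of_ge (ModuleCat.of R (R ⧸ Ideal.span ({a, b} : Set R))) n (n + 1) (by omega)
  have hz := (Groth.Agent.FlatSyz.hasProjectiveDimensionLE_iff_forall_tor (A := k) n
    (R ⧸ Ideal.span ({a, b} : Set R))).1 this (n + 1) (by omega) (ModuleCat.of R (R ⧸ Ideal.span ({a, b} : Set R)))
  haveI := ModuleCat.subsingleton_of_isZero hz
  have := hlen (n + 1) (by omega)
  rw [Module.length_eq_zero] at this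
  exact absurd this (by norm_num)

/-- Let k be a field, A = k[x, y]/(xy) (x = X_0, y = X_1) and κ = A/(x, y) the residue field at the
origin, viewed as an A-module. Then for every i ≥ 1 the A-module Tor_i^A(κ, κ) has length 2 (it is a
two-dimensional κ-vector space; Tor_0 is κ), and κ admits no finite projective resolution over A:
for no n is its projective dimension less than n. -/
theorem result (k : Type u) [Field k] :
    (∀ i : ℕ, 1 ≤ i →
      Module.length (MvPolynomial (Fin 2) k ⧸ Ideal.span {(MvPolynomial.X 0 * MvPolynomial.X 1 : MvPolynomial (Fin 2) k)}) ((((Tor (ModuleCat.{u} (MvPolynomial (Fin 2) k ⧸ Ideal.span {(MvPolynomial.X 0 * MvPolynomial.X 1 : MvPolynomial (Fin 2) k)})) i).obj (ModuleCat.of (MvPolynomial (Fin 2) k ⧸ Ideal.span {(MvPolynomial.X 0 * MvPolynomial.X 1 : MvPolynomial (Fin 2) k)}) ((MvPolynomial (Fin 2) k ⧸ Ideal.span {(MvPolynomial.X 0 * MvPolynomial.X 1 : MvPolynomial (Fin 2) k)}) ⧸ Ideal.span {Ideal.Quotient.mk (Ideal.span {(MvPolynomial.X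 0 * MvPolynomial.X 1 : MvPolynomial (Fin 2) k)}) (MvPolynomial.X 0), Ideal.Quotient.mk (Ideal.span {(MvPolynomial.X 0 * MvPolynomial.X 1 : MvPolynomial (Fin 2) k)}) (MvPolynomial.X 1)}))).obj (ModuleCat.of (MvPolynomial (Fin 2) k ⧸ Ideal.span {(MvPolynomial.X 0 * MvPolynomial.X 1 : MvPolynomial (Fin 2) k)}) ((MvPolynomial (Fin 2) k ⧸ Ideal.span {(MvPolynomial.X 0 * MvPolynomial.X 1 : MvPolynomial (Fin 2) k)}) ⧸ Ideal.span {Ideal.Quotient.mk (Ideal.span {(MvPolynomial.X 0 * MvPolynomial.X 1 : MvPolynomial (Fin 2) k)}) (MvPolynomial.X 0), Ideal.Quotient.mk (Ideal.span {(MvPolynomial.X 0 * MvPolynomial.X 1 : MvPolynomial (Fin 2) k)}) (MvPolynomial.X 1)}))) : Type u) = 2) ∧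
    ∀ n : ℕ, ¬ HasProjectiveDimensionLT (ModuleCat.of (MvPolynomial (Fin 2) k ⧸ Ideal.span {(MvPolynomial.X 0 * MvPolynomial.X 1 : MvPolynomial (Fin 2) k)}) ((MvPolynomial (Fin 2) k ⧸ Ideal.span {(MvPolynomial.X 0 * MvPolynomial.X 1 : MvPolynomial (Fin 2) k)}) ⧸ Ideal.span {Ideal.Quotient.mk (Ideal.span {(MvPolynomial.X 0 * MvPolynomial.X 1 : MvPolynomial (Fin 2) k)}) (MvPolynomial.X 0), Ideal.Quotient.mk (Ideal.span {(MvPolynomial.X 0 * MvPolynomial.X 1 : MvPolynomial (Fin 2) k)}) (MvPolynomial.X 1)})) n := by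
  set P := MvPolynomial (Fin 2) k
  set J := Ideal.span {(MvPolynomial.X 0 * MvPolynomial.X 1 : P)} with hJ
  haveI : Algebra.FinitePresentation k (P ⧸ J) :=
    Algebra.FinitePresentation.quotient (Submodule.fg_span_singleton _)
  have hne : ∀ i : Fin 2, (MvPolynomial.X i : P) ≠ 0 := fun i => MvPolynomial.X_ne_zero i
  refine main (k := k) (Ideal.Quotient.mk J (MvPolynomial.X 0)) (Ideal.Quotient.mk J (MvPolynomial.X 1))
    (by rw [← map_mul, Ideal.Quotient.eq_zero_iff_mem]; exact Ideal.mem_span_singleton_self _)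
    (fun r hr => ?_) (fun r hr => ?_) (fun r h0 h1 => ?_) ?_
  · obtain ⟨f, rfl⟩ := Ideal.Quotient.mk_surjective r
    rw [← map_mul, Ideal.Quotient.eq_zero_iff_mem, hJ, Ideal.mem_span_singleton'] at hr
    obtain ⟨g, hg⟩ := hr
    have : f = g * MvPolynomial.X 1 := mul_right_cancel₀ (hne 0) (by rw [← hg]; ring)
    exact Ideal.mem_span_singleton'.2 ⟨Ideal.Quotient.mk _ g, by rw [← map_mul, this]⟩
  · obtain ⟨f, rfl⟩ := Ideal.Quotient.mk_surjective r
    rw [← map_mul, Ideal.Quotient.eq_zero_iff_mem, hJ, Ideal.mem_span_singleton'] at hr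
    obtain ⟨g, hg⟩ := hr
    have : f = g * MvPolynomial.X 0 := mul_right_cancel₀ (hne 1) (by rw [← hg]; ring)
    exact Ideal.mem_span_singleton'.2 ⟨Ideal.Quotient.mk _ g, by rw [← map_mul, this]⟩
  · obtain ⟨s, rfl⟩ := Ideal.mem_span_singleton'.1 h0
    obtain ⟨t, ht⟩ := Ideal.mem_span_singleton'.1 h1
    obtain ⟨s, rfl⟩ := Ideal.Quotient.mk_surjective s
    obtain ⟨t, rfl⟩ := Ideal.Quotient.mk_surjective t
    rw [← map_mul, ← map_mul, Ideal.Quotient.eq, hJ, Ideal.mem_span_singleton'] at ht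
    obtain ⟨g, hg⟩ := ht
    have h2 : (MvPolynomial.X 1 : P) ∣ s * MvPolynomial.X 0 :=
      ⟨t - g * MvPolynomial.X 0, by linear_combination hg⟩
    have hp : Prime (MvPolynomial.X 1 : P) := MvPolynomial.X_prime
    rcases hp.dvd_or_dvd h2 with ⟨w, rfl⟩ | h3
    · rw [← map_mul, Ideal.Quotient.eq_zero_iff_mem, hJ]
      exact Ideal.mem_span_singleton'.2 ⟨w, by ring⟩
    · rw [MvPolynomial.X_dvd_X] at h3
      exact absurd h3 (by decide)
  · have hker : Ideal.span ({MvPolynomial.X 0, MvPolynomial.X 1} : Set P) = RingHom.ker (MvPolynomial.constantCoeff (R := k) (σ := Fin 2)) := by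
      refine le_antisymm (Ideal.span_le.2 ?_) fun f hf => ?_
      · rintro x (rfl | rfl) <;> exact MvPolynomial.constantCoeff_X _ _
      · have : f ∈ Ideal.span (MvPolynomial.X '' (Set.univ : Set (Fin 2))) := by
          rw [MvPolynomial.mem_ideal_span_X_image]
          intro m hm
          by_contra hall
          push Not at hall
          have hm0 : m = 0 := Finsupp.ext fun j => by simpa using hall j (Set.mem_univ j)
          rw [hm0, MvPolynomial.mem_support_iff] at hm
          exact hm hf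
        refine Ideal.span_mono ?_ this
        rintro _ ⟨j, -, rfl⟩
        fin_cases j <;> simp
    haveI : (Ideal.span ({MvPolynomial.X 0, MvPolynomial.X 1} : Set P)).IsMaximal := by
      rw [hker]
      exact RingHom.ker_isMaximal_of_surjective _ fun c => ⟨MvPolynomial.C c, MvPolynomial.constantCoeff_C _ c⟩
    have hm := Ideal.IsMaximal.map_of_surjective_of_ker_le (f := Ideal.Quotient.mk J)
      (m := Ideal.span ({MvPolynomial.X 0, MvPolynomial.X 1} : Set P)) Ideal.Quotient.mk_surjective (by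
        rw [Ideal.mk_ker, hJ]
        exact (Ideal.span_singleton_le_iff_mem _).2 (Ideal.mul_mem_right _ _ (Ideal.subset_span (by simp))))
    rwa [Ideal.map_span, Set.image_insert_eq, Set.image_singleton] at hm

end Groth.Agent.S16243
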