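import Groth.Statements.S16244
import Mathlib.RingTheory.RootsOfUnity.AlgebraicallyClosed
import Mathlib.RingTheory.RootsOfUnity.EnoughRootsOfUnity
-- import your own Groth.Agent.* helpers here

set_option autoImplicit false
universe u
open Curves

namespace Groth.Agent.S16244

open WeierstrassCurve

section Aux

variable {k : Type u} [Field k] (W : WeierstrassCurve k) [W.IsShortNF]

/-- The scaling part of a variable change in the stabilizer. -/
def uHom : ↥(MulAction.stabilizer (VariableChange k) W) →* kˣ where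
  toFun C := C.1.u
  map_one' := rfl
  map_mul' _ _ := rfl

theorem mem_stab_iff (h2 : (2 : k) ≠ 0) (h3 : (3 : k) ≠ 0) (C : VariableChange k) :
    C ∈ MulAction.stabilizer (VariableChange k) W ↔
      (C.r = 0 ∧ C.s = 0 ∧ C.t = 0 ∧ (C.u : k) ^ 4 * W.a₄ = W.a₄ ∧ (C.u : k) ^ 6 * W.a₆ = W.a₆) := by
  have hu : (C.u : k) ≠ 0 := C.u.ne_zero
  have hi : ((C.u⁻¹ : kˣ) : k) ≠ 0 := (C.u⁻¹).ne_zero
  have hsc : ∀ (n : ℕ) (x : k), ((C.u⁻¹ : kˣ) : k) ^ n * x = x ↔ (C.u : k) ^ n * x = x := by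
    intro n x
    rw [Units.val_inv_eq_inv_val, inv_pow, inv_mul_eq_iff_eq_mul₀ (pow_ne_zero _ hu)]
    exact eq_comm
  rw [MulAction.mem_stabilizer_iff]
  constructor
  · intro h
    have e1 : (C • W).a₁ = W.a₁ := by rw [h]
    have e2 : (C • W).a₂ = W.a₂ := by rw [h]
    have e3 : (C • W).a₃ = W.a₃ := by rw [h]
    have e4 : (C • W).a₄ = W.a₄ := by rw [h]
    have e6 : (C • W).a₆ = W.a₆ := by rw [h]
    rw [variableChange_a₁, a₁_of_isShortNF, zero_add] at e1
    have hs : C.s = 0 := by simpa [hi, h2] using e1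
    rw [variableChange_a₂, a₁_of_isShortNF, a₂_of_isShortNF, hs] at e2
    have hr : C.r = 0 := by simpa [hi, h3] using e2
    rw [variableChange_a₃, a₁_of_isShortNF, a₃_of_isShortNF, hr] at e3
    have ht : C.t = 0 := by simpa [hi, h2] using e3
    refine ⟨hr, hs, ht, (hsc 4 _).mp ?_, (hsc 6 _).mp ?_⟩
    · rw [variableChange_a₄, hs, hr, ht] at e4
      simpa using e4
    · rw [variableChange_a₆, hr, ht] at e6
      simpa using e6
  · rintro ⟨hr, hs, ht, h4, h6⟩
    ext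
    · simp [variableChange_a₁, hs, a₁_of_isShortNF]
    · simp [variableChange_a₂, hs, hr, a₁_of_isShortNF]
    · simp [variableChange_a₃, hr, ht, a₁_of_isShortNF, a₃_of_isShortNF]
    · simpa [variableChange_a₄, hs, hr, ht] using (hsc 4 _).mpr h4
    · simpa [variableChange_a₆, hr, ht] using (hsc 6 _).mpr h6

theorem uHom_injective (h2 : (2 : k) ≠ 0) (h3 : (3 : k) ≠ 0) : Function.Injective (uHom W) := by
  intro C D h
  obtain ⟨a1, a2, a3, -, -⟩ := (mem_stab_iff W h2 h3 C.1).mp C.2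
  obtain ⟨b1, b2, b3, -, -⟩ := (mem_stab_iff W h2 h3 D.1).mp D.2
  exact Subtype.ext (VariableChange.ext h (a1.trans b1.symm) (a2.trans b2.symm) (a3.trans b3.symm))

theorem range_uHom (h2 : (2 : k) ≠ 0) (h3 : (3 : k) ≠ 0) (n : ℕ)
    (hn : ∀ u : k, u ≠ 0 → ((u ^ 4 * W.a₄ = W.a₄ ∧ u ^ 6 * W.a₆ = W.a₆) ↔ u ^ n = 1)) :
    (uHom W).range = rootsOfUnity n k := by
  ext u
  rw [MonoidHom.mem_range, mem_rootsOfUnity']
  constructor
  · rintro ⟨C, rfl⟩
    obtain ⟨-, -, -, h4, h6⟩ := (mem_stab_iff W h2 h3 C.1).mp C.2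
    exact (hn _ (C.1.u.ne_zero)).mp ⟨h4, h6⟩
  · intro hu
    obtain ⟨h4, h6⟩ := (hn _ u.ne_zero).mpr hu
    exact ⟨⟨⟨u, 0, 0, 0⟩, (mem_stab_iff W h2 h3 _).mpr ⟨rfl, rfl, rfl, h4, h6⟩⟩, rfl⟩

theorem stab_cyclic_card [IsAlgClosed k] (h2 : (2 : k) ≠ 0) (h3 : (3 : k) ≠ 0) (n : ℕ) [NeZero n]
    (hnk : (n : k) ≠ 0)
    (hn : ∀ u : k, u ≠ 0 → ((u ^ 4 * W.a₄ = W.a₄ ∧ u ^ 6 * W.a₆ = W.a₆) ↔ u ^ n = 1)) :
    IsCyclic ↥(MulAction.stabilizer (VariableChange k) W) ∧
      Nat.card ↥(MulAction.stabilizer (VariableChange k) W) = n := by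
  haveI : NeZero (n : k) := ⟨hnk⟩
  let e : ↥(MulAction.stabilizer (VariableChange k) W) ≃* ↥(rootsOfUnity n k) :=
    (MonoidHom.ofInjective (uHom_injective W h2 h3)).trans
      (MulEquiv.subgroupCongr (range_uHom W h2 h3 n hn))
  refine ⟨isCyclic_of_injective e.toMonoidHom e.injective, ?_⟩
  rw [Nat.card_congr e.toEquiv]
  exact HasEnoughRootsOfUnity.natCard_rootsOfUnity k n

end Aux

/-- Let k be an algebraically closed field in which 2 and 3 are nonzero, and W a short Weierstrass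
equation y² = x³ + a₄x + a₆ over k with nonzero discriminant. The admissible changes of variables
(u, r, s, t) that fix W form a cyclic group, of order 6 when a₄ = 0, of order 4 when a₆ = 0, and of
order 2 when a₄ and a₆ are both nonzero. (The published statement says the automorphism group of the
elliptic curve is cyclic of order 2, 4 or 6; the automorphisms are rendered here as the changes of
variables preserving the equation, and the case distinction is the one the computation gives.) -/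
theorem result
    (k : Type u) [Field k] [IsAlgClosed k] (h2 : (2 : k) ≠ 0) (h3 : (3 : k) ≠ 0)
    (W : WeierstrassCurve k) [W.IsShortNF] (hΔ : W.Δ ≠ 0) :
    IsCyclic ↥(MulAction.stabilizer (WeierstrassCurve.VariableChange k) W) ∧
      (W.a₄ = 0 → Nat.card ↥(MulAction.stabilizer (WeierstrassCurve.VariableChange k) W) = 6) ∧
      (W.a₆ = 0 → Nat.card ↥(MulAction.stabilizer (WeierstrassCurve.VariableChange k) W) = 4) ∧
      (W.a₄ ≠ 0 → W.a₆ ≠ 0 → Nat.card ↥(MulAction.stabilizer (WeierstrassCurve.VariableChange k) W) = 2) := by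
  have hΔ' : W.a₄ ≠ 0 ∨ W.a₆ ≠ 0 := by
    by_contra h
    push Not at h
    exact hΔ (by rw [W.Δ_of_isShortNF, h.1, h.2]; ring)
  have h4k : ((4 : ℕ) : k) ≠ 0 := by
    rw [show ((4 : ℕ) : k) = 2 * 2 by norm_num]; exact mul_ne_zero h2 h2
  have h6k : ((6 : ℕ) : k) ≠ 0 := by
    rw [show ((6 : ℕ) : k) = 2 * 3 by norm_num]; exact mul_ne_zero h2 h3
  by_cases h4 : W.a₄ = 0
  · have h6 : W.a₆ ≠ 0 := hΔ'.resolve_left (not_not_intro h4)
    obtain ⟨hc, hcard⟩ := stab_cyclic_card W h2 h3 6 h6k (fun u _ => by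
      simp [h4, mul_eq_right₀ h6])
    exact ⟨hc, fun _ => hcard, fun h => absurd h h6, fun h _ => absurd h4 h⟩
  by_cases h6 : W.a₆ = 0
  · obtain ⟨hc, hcard⟩ := stab_cyclic_card W h2 h3 4 h4k (fun u _ => by
      simp [h6, mul_eq_right₀ h4])
    exact ⟨hc, fun h => absurd h h4, fun _ => hcard, fun _ h => absurd h6 h⟩
  obtain ⟨hc, hcard⟩ := stab_cyclic_card W h2 h3 2 (by simpa using h2) (fun u _ => by
    rw [mul_eq_right₀ h4, mul_eq_right₀ h6]
    constructor
    · rintro ⟨e4, e6⟩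
      linear_combination e6 - u ^ 2 * e4
    · intro e
      exact ⟨by linear_combination (u ^ 2 + 1) * e, by linear_combination (u ^ 4 + u ^ 2 + 1) * e⟩)
  exact ⟨hc, fun h => absurd h h4, fun h => absurd h h6, fun _ _ => hcard⟩

end Groth.Agent.S16244
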