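import Groth.Statements.S16245
import Groth.Agent.Lib.MTRigid29.TransporterRep

set_option autoImplicit false
universe u
open CategoryTheory CategoryTheory.Limits AlgebraicGeometry
open SDiv

namespace Groth.Agent.S16245

theorem lfp_of_cartier {X : Scheme.{u}} {𝓘 : X.IdealSheafData} (hD : BlowUp.IsEffCartierIdeal 𝓘) :
    LocallyOfFinitePresentation 𝓘.subschemeι := by
  choose U hxU a _ ha using hD
  let 𝒰 : 𝓘.subscheme.OpenCover := Scheme.Cover.mkOfCovers X (fun x => (𝓘.glueDataObj (U x)))
    (fun x => 𝓘.subschemeCover.f (U x)) (fun z => ⟨𝓘.subschemeι z, by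
      have h : z ∈ (𝓘.subschemeCover.f (U (𝓘.subschemeι z))).opensRange := by
        rw [𝓘.opensRange_subschemeCover_map]; exact hxU _
      exact h⟩) (fun x => 𝓘.subschemeCover.map_prop (U x))
  refine IsZariskiLocalAtSource.of_openCover 𝒰 fun x => ?_
  change LocallyOfFinitePresentation (𝓘.subschemeCover.f (U x) ≫ 𝓘.subschemeι)
  rw [Scheme.IdealSheafData.subschemeCover_map_subschemeι]
  haveI : LocallyOfFinitePresentation (Spec.map (CommRingCat.ofHom (Ideal.Quotient.mk (𝓘.ideal (U x))))) := by
    rw [LocallyOfFinitePresentation.SpecMap_iff]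
    refine RingHom.FinitePresentation.of_surjective _ Ideal.Quotient.mk_surjective ?_
    rw [CommRingCat.hom_ofHom, Ideal.mk_ker, ha x]
    exact Submodule.fg_span_singleton (a x)
  delta Scheme.IdealSheafData.glueDataObjι
  exact MorphismProperty.comp_mem _ _ _ (MorphismProperty.comp_mem _ _ _ (inferInstance : LocallyOfFinitePresentation (Spec.map (CommRingCat.ofHom (Ideal.Quotient.mk (𝓘.ideal (U x)))))) inferInstance) inferInstance

/-- Let f : X → S be a morphism of schemes, D ⊆ X an effective Cartier divisor with ideal sheaf 𝓘, and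
D' ⊆ X a closed subscheme with ideal sheaf 𝓘' such that D' → S is finite, flat and locally of finite
presentation (finite locally free). Then there is a closed subscheme Z ⊆ S such that a morphism g :
T → S factors through Z exactly when, on X ×_S T, the inverse image ideal of 𝓘 is contained in the
inverse image ideal of 𝓘', that is, the pull-back of D' is a closed subscheme of the pull-back of D.
This universal property determines Z, and compatibility of Z with base change follows from it. (In
the source X is a family of elliptic curves and D, D' are relative effective Cartier divisors, D'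
then being finite locally free over S; the argument uses only the hypotheses stated here.) -/
theorem result
    {X S : Scheme.{u}} (f : X ⟶ S) (𝓘 𝓘' : X.IdealSheafData) (hD : BlowUp.IsEffCartierIdeal 𝓘)
    [IsFinite (𝓘'.subschemeι ≫ f)] [Flat (𝓘'.subschemeι ≫ f)]
    [LocallyOfFinitePresentation (𝓘'.subschemeι ≫ f)] :
    ∃ 𝓩 : S.IdealSheafData, ∀ (T : Scheme.{u}) (g : T ⟶ S),
      (∃ t : T ⟶ 𝓩.subscheme, t ≫ 𝓩.subschemeι = g) ↔
        𝓘.comap (pullback.fst f g) ≤ 𝓘'.comap (pullback.fst f g) := by
  haveI := lfp_of_cartier hD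
  let j := 𝓘'.subschemeι
  let p := j ≫ f
  let i := pullback.fst j 𝓘.subschemeι
  haveI : IsClosedImmersion i := MorphismProperty.pullback_fst _ _ inferInstance
  haveI : LocallyOfFinitePresentation i := MorphismProperty.pullback_fst _ _ inferInstance
  obtain ⟨C, c, hc, -, hC⟩ := MTRigid29.exists_contains_locus p i (MTRigid29.hasContentLoc_of_finite_flat p)
  haveI := hc
  refine ⟨c.ker, fun T g => Iff.trans ?_ ((hC g).trans ?_)⟩
  · constructor
    · rintro ⟨t, rfl⟩
      exact ⟨t ≫ inv c.toImage, by
        rw [Category.assoc]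
        congr 1
        exact (IsIso.inv_comp_eq _).2 c.toImage_imageι.symm⟩
    · rintro ⟨z, rfl⟩
      exact ⟨z ≫ c.toImage, by rw [Category.assoc]; exact congrArg (z ≫ ·) c.toImage_imageι⟩
  let q := pullback.fst f g
  let a := pullback.fst q j
  let b := pullback.snd q j
  have key : 𝓘.comap q ≤ 𝓘'.comap q ↔ 𝓘 ≤ (a ≫ q).ker := by
    show 𝓘.comap q ≤ a.ker ↔ _
    rw [← Scheme.IdealSheafData.map_bot, Scheme.IdealSheafData.le_map_iff_comap_le,
      ← Scheme.IdealSheafData.comap_comp, ← Scheme.IdealSheafData.le_map_iff_comap_le,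
      Scheme.IdealSheafData.map_bot]
  rw [key]
  constructor
  · intro h
    obtain ⟨l, hl⟩ := h _ b (a ≫ pullback.snd f g) (by
      show b ≫ j ≫ f = _
      rw [← Category.assoc, ← pullback.condition, Category.assoc, pullback.condition, Category.assoc])
    have e : a ≫ q = (l ≫ pullback.snd j 𝓘.subschemeι) ≫ 𝓘.subschemeι := by
      rw [Category.assoc, ← pullback.condition, ← Category.assoc, hl]
      exact pullback.condition
    rw [e]
    exact le_of_eq_of_le 𝓘.ker_subschemeι.symm (Scheme.Hom.le_ker_comp _ _)
  · intro h Y y t hy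
    let l := IsClosedImmersion.lift 𝓘.subschemeι (a ≫ q) (by rwa [Scheme.IdealSheafData.ker_subschemeι])
    let m : Y ⟶ pullback f g := pullback.lift (y ≫ j) t ((Category.assoc _ _ _).trans hy)
    let n : Y ⟶ pullback q j := pullback.lift m y (pullback.lift_fst _ _ _)
    refine ⟨pullback.lift y (n ≫ l) ?_, pullback.lift_fst _ _ _⟩
    rw [Category.assoc, IsClosedImmersion.lift_fac, pullback.condition, ← Category.assoc, pullback.lift_snd]
end Groth.Agent.S16245
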