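import Groth.Statements.S16247
import Groth.Agent.Lib.PreWZeroH7.Factor
import Groth.Agent.Lib.CurveCartier25.RelDim
import Groth.Agent.Lib.CurveCartier25.Scheme
import Groth.Agent.Lib.CurvOpen16.Loci
import Groth.Agent.Lib.SchBasic.Basic
import Groth.Agent.Lib.VB17.Setup
import Groth.Agent.Lib.SmoothReg17.Basic
import Mathlib.AlgebraicGeometry.ZariskisMainTheorem
import Mathlib.RingTheory.Flat.EquationalCriterion

set_option autoImplicit false
universe u
open CategoryTheory CategoryTheory.Limits AlgebraicGeometry MonObj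
open AgPol

namespace Groth.Agent.S16247

open Limits MonoidalCategory CartesianMonoidalCategory MonObj Groth.Agent

/-- The family of curves is smooth of relative dimension one. -/
theorem smoothOne {X S : Scheme.{u}} (f : X ⟶ S) [Smooth f] [IsProper f] [GeometricallyConnected f]
    (hd : ∀ s : S, topologicalKrullDim ↥(f.fiber s) = 1) : SmoothOfRelativeDimension 1 f := by
  rw [CurvOpen16.smoothOfRelativeDimension_one_iff]
  intro a
  refine ⟨(CurvOpen16.smooth_iff_smoothPt f).mp inferInstance a, ?_⟩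
  let s := f a
  let q : f.fiber s ⟶ Spec (CommRingCat.of (S.residueField s : Type u)) := f.fiberToSpecResidueField s
  haveI : Smooth q := by
    show Smooth (pullback.snd f (S.fromSpecResidueField s))
    infer_instance
  haveI : IsProper q := by
    show IsProper (pullback.snd f (S.fromSpecResidueField s))
    infer_instance
  haveI : IsIntegral (f.fiber s) := by
    letI : (f.fiber s).Over (Spec (CommRingCat.of (S.residueField s : Type u))) := ⟨q⟩
    haveI : LocallyOfFiniteType ((f.fiber s) ↘ Spec (CommRingCat.of (S.residueField s : Type u))) :=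
      inferInstanceAs (LocallyOfFiniteType q)
    haveI : QuasiCompact ((f.fiber s) ↘ Spec (CommRingCat.of (S.residueField s : Type u))) :=
      inferInstanceAs (QuasiCompact q)
    haveI := VB17.isNoetherian_of_over (k := (S.residueField s : Type u)) (X := f.fiber s)
    exact VB17.isIntegral_of_connected fun x => SmoothReg17.isDomain_stalk q x
  haveI := CurveCartier25.smoothOfRelativeDimension_one q (hd s)
  have h1 := S2768.result 1 q (f.asFiber a)
  have h2 := FibDim14.fibreDimAt_baseChange (IsPullback.of_hasPullback f (S.fromSpecResidueField s)) (f.asFiber a)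
  have h3 : pullback.fst f (S.fromSpecResidueField s) (f.asFiber a) = a := f.fiberι_asFiber a
  rw [h3] at h2
  exact h2.symm.trans h1

/-- A finite flat morphism of finite presentation is affine and projective over affines. -/
theorem exists_proj {F S : Scheme.{u}} (q : F ⟶ S) [IsFinite q] [Flat q] [LocallyOfFinitePresentation q]
    (A : CommRingCat.{u}) (w : Spec A ⟶ S) :
    ∃ (E : CommRingCat.{u}) (e : A ⟶ E) (p : Spec E ⟶ F),
      (@Module.Projective A _ E _ e.hom.toAlgebra.toModule) ∧ IsPullback p (Spec.map e) q w := by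
  let P := pullback q w
  haveI : IsAffine P := isAffine_of_isAffineHom (pullback.snd q w)
  let g : Spec Γ(P, ⊤) ⟶ Spec A := P.isoSpec.inv ≫ pullback.snd q w
  let e : A ⟶ Γ(P, ⊤) := Spec.preimage g
  have he : Spec.map e = g := Spec.map_preimage g
  refine ⟨Γ(P, ⊤), e, P.isoSpec.inv ≫ pullback.fst q w, ?_, ?_⟩
  · have h1 : IsFinite (Spec.map e) := by rw [he]; infer_instance
    have h2 : Flat (Spec.map e) := by rw [he]; infer_instance
    have h3 : LocallyOfFinitePresentation (Spec.map e) := by rw [he]; infer_instance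
    rw [IsFinite.SpecMap_iff] at h1
    rw [Flat.SpecMap_iff] at h2
    rw [HasRingHomProperty.Spec_iff (P := @LocallyOfFinitePresentation)] at h3
    letI := e.hom.toAlgebra
    haveI : Module.Finite A Γ(P, ⊤) := h1
    haveI : Module.Flat A Γ(P, ⊤) := h2
    haveI : Algebra.FinitePresentation A Γ(P, ⊤) := h3
    haveI : Module.FinitePresentation A Γ(P, ⊤) := Module.FinitePresentation.of_finite_of_finitePresentation A _
    exact Module.Flat.projective_of_finitePresentation
  · rw [he]
    exact IsPullback.of_iso_pullback ⟨by simp [g, pullback.condition]⟩ P.isoSpec.symm rfl rfl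

/-- The locus over which every point of a finite flat scheme is mapped into a closed subscheme. -/
theorem exists_locus {F H G S : Scheme.{u}} (q : F ⟶ S) [IsFinite q] [Flat q] [LocallyOfFinitePresentation q]
    (m : F ⟶ G) (i : H ⟶ G) [IsClosedImmersion i] [LocallyOfFinitePresentation i] :
    ∃ (Z : Scheme.{u}) (j : Z ⟶ S), IsClosedImmersion j ∧ ∀ (T : Scheme.{u}) (g : T ⟶ S),
      (∃ a : T ⟶ Z, a ≫ j = g) ↔
        ∀ (W : Scheme.{u}) (p : W ⟶ F) (w : W ⟶ T), p ≫ q = w ≫ g → ∃ z : W ⟶ H, z ≫ i = p ≫ m := by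
  obtain ⟨Z, j, hj, -, hiff⟩ := PreWZeroH7.exists_factor_closed (x := 𝟙 S) (f := q)
    (m := pullback.fst q (𝟙 S) ≫ m) (i := i) fun A v => by
      obtain ⟨E, e, p, hE, sq⟩ := exists_proj q A (v ≫ 𝟙 S)
      exact ⟨E, e, p, hE, sq⟩
  refine ⟨Z, j, hj, fun T g => ((hiff T g).symm.trans PreWZeroH7.factors_iff_forall).trans ?_⟩
  refine forall_congr' fun W => forall_congr' fun p => forall_congr' fun w => ?_
  constructor
  · intro h hw
    obtain ⟨z, hz⟩ := h (by rw [Category.comp_id]; exact hw)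
    exact ⟨z, by rw [hz, pullback.lift_fst_assoc]⟩
  · intro h hw
    obtain ⟨z, hz⟩ := h (by simpa using hw)
    exact ⟨z, by rw [hz, pullback.lift_fst_assoc]⟩


/-- Let E be an S-group scheme which is smooth and proper over S with geometrically connected fibres of
dimension one (a family of elliptic curves over S with its group law), and let D ⊆ E be an effective
Cartier divisor with ideal sheaf 𝓓 such that D is flat over S (a relative effective Cartier divisor
on E/S). Then there is a closed subscheme Z ⊆ S such that a morphism g : T → S factors through Z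
exactly when the pulled-back closed subscheme D_T ⊆ E_T is a subgroup scheme of E_T over T, that is,
when for every scheme T' over T the T'-valued points of E (over S) that factor through D form a
subgroup of the group of all T'-valued points. This universal property determines Z, and
compatibility of Z with base change follows from it. -/
theorem result
    {S : Scheme.{u}} (E : Over S) [GrpObj E] (hE : AgPol.IsAbSch E 1)
    (𝓓 : E.left.IdealSheafData) (hD : BlowUp.IsEffCartierIdeal 𝓓) [Flat (𝓓.subschemeι ≫ E.hom)] :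
    ∃ 𝓩 : S.IdealSheafData, ∀ (T : Scheme.{u}) (g : T ⟶ S),
      (∃ t : T ⟶ 𝓩.subscheme, t ≫ 𝓩.subschemeι = g) ↔
        ∀ (T' : Scheme.{u}) (a : T' ⟶ T), ∃ H : Subgroup (Over.mk (a ≫ g) ⟶ E),
          (H : Set (Over.mk (a ≫ g) ⟶ E)) =
            {x | ∃ d : T' ⟶ 𝓓.subscheme, d ≫ 𝓓.subschemeι = x.left} := by
  haveI : Smooth E.hom := hE.smooth
  haveI : IsProper E.hom := hE.proper
  haveI : GeometricallyConnected E.hom := hE.geomConnected
  haveI : SmoothOfRelativeDimension 1 E.hom := smoothOne E.hom (fun s => by simpa using hE.fibreDim s)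
  let iD := 𝓓.subschemeι
  let q := iD ≫ E.hom
  haveI hflat : Flat q := ‹Flat (𝓓.subschemeι ≫ E.hom)›
  obtain ⟨hqf, hlfp⟩ := CurveCartier25.locallyQuasiFinite_and_lfp E.hom 𝓓 hD hflat
  haveI : LocallyQuasiFinite q := hqf
  haveI : LocallyOfFinitePresentation q := hlfp
  haveI : IsFinite q := IsFinite.of_isProper_of_locallyQuasiFinite q
  haveI : LocallyOfFinitePresentation (iD ≫ E.hom) := hlfp
  haveI : LocallyOfFinitePresentation iD := SchBasic.locallyOfFinitePresentation_of_comp iD E.hom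
  let Do : Over S := Over.mk q
  let jd : Do ⟶ E := Over.homMk iD
  haveI : IsFinite Do.hom := ‹IsFinite q›
  haveI : Flat Do.hom := hflat
  haveI : LocallyOfFinitePresentation Do.hom := hlfp
  let mm : Do ⊗ Do ⟶ E := (fst Do Do ≫ jd) * (snd Do Do ≫ jd)
  have hsnd : (Do ⊗ Do).hom = pullback.snd Do.hom Do.hom ≫ Do.hom := (Over.w (snd Do Do)).symm
  haveI : IsFinite (Do ⊗ Do).hom := by rw [hsnd]; infer_instance
  haveI : Flat (Do ⊗ Do).hom := by rw [hsnd]; infer_instance
  haveI : LocallyOfFinitePresentation (Do ⊗ Do).hom := by rw [hsnd]; infer_instance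
  obtain ⟨Z₁, j₁, hj₁, h₁⟩ := exists_locus (𝟙 S) ((1 : 𝟙_ (Over S) ⟶ E).left) iD
  obtain ⟨Z₂, j₂, hj₂, h₂⟩ := exists_locus (Do ⊗ Do).hom mm.left iD
  obtain ⟨Z₃, j₃, hj₃, h₃⟩ := exists_locus Do.hom (jd⁻¹).left iD
  let c₁₂ := pullback.fst j₁ j₂ ≫ j₁
  let c := pullback.fst c₁₂ j₃ ≫ c₁₂
  refine ⟨c.ker, fun T g => ?_⟩
  have hfac : (∃ t : T ⟶ c.ker.subscheme, t ≫ c.ker.subschemeι = g) ↔ ∃ t, t ≫ c = g := by
    haveI : IsIso c.toImage := inferInstance
    constructor
    · rintro ⟨t, ht⟩
      exact ⟨t ≫ inv c.toImage, by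
        rw [← ht, Category.assoc]
        congr 1
        rw [IsIso.inv_comp_eq]
        exact (Scheme.Hom.toImage_imageι c).symm⟩
    · rintro ⟨t, ht⟩
      exact ⟨t ≫ c.toImage, by
        rw [← ht, Category.assoc]
        congr 1
        exact Scheme.Hom.toImage_imageι c⟩
  have hsplit : (∃ t, t ≫ c = g) ↔ (∃ t, t ≫ j₁ = g) ∧ (∃ t, t ≫ j₂ = g) ∧ (∃ t, t ≫ j₃ = g) := by
    constructor
    · rintro ⟨t, rfl⟩
      refine ⟨⟨t ≫ pullback.fst c₁₂ j₃ ≫ pullback.fst j₁ j₂, ?_⟩,
        ⟨t ≫ pullback.fst c₁₂ j₃ ≫ pullback.snd j₁ j₂, ?_⟩, ⟨t ≫ pullback.snd c₁₂ j₃, ?_⟩⟩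
      · simp only [c, c₁₂, Category.assoc]
      · show _ = t ≫ pullback.fst c₁₂ j₃ ≫ pullback.fst j₁ j₂ ≫ j₁
        rw [Category.assoc, Category.assoc, ← pullback.condition (f := j₁) (g := j₂)]
      · show _ = t ≫ pullback.fst c₁₂ j₃ ≫ c₁₂
        rw [Category.assoc, ← pullback.condition (f := c₁₂) (g := j₃)]
    · rintro ⟨⟨a, ha⟩, ⟨b, hb⟩, ⟨d, hd⟩⟩
      refine ⟨pullback.lift (pullback.lift a b (ha.trans hb.symm)) d ?_, ?_⟩
      · show _ ≫ pullback.fst j₁ j₂ ≫ j₁ = _
        rw [pullback.lift_fst_assoc, ha, hd]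
      · show _ ≫ pullback.fst c₁₂ j₃ ≫ pullback.fst j₁ j₂ ≫ j₁ = g
        rw [pullback.lift_fst_assoc, pullback.lift_fst_assoc, ha]
  rw [hfac, hsplit, h₁, h₂, h₃]
  constructor
  · rintro ⟨H₁, H₂, H₃⟩ T' a
    let To := Over.mk (a ≫ g)
    have one_mem : ∃ d : T' ⟶ 𝓓.subscheme, d ≫ iD = (1 : To ⟶ E).left := by
      obtain ⟨z, hz⟩ := H₁ T' (toUnit To).left a (by simp [To])
      exact ⟨z, hz.trans ((Over.comp_left _ _ _ (toUnit To) 1).symm.trans
        (congrArg CommaMorphism.left (MonObj.comp_one (toUnit To))))⟩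
    have mul_mem : ∀ x y : To ⟶ E, (∃ d : T' ⟶ 𝓓.subscheme, d ≫ iD = x.left) →
        (∃ d : T' ⟶ 𝓓.subscheme, d ≫ iD = y.left) → ∃ d : T' ⟶ 𝓓.subscheme, d ≫ iD = (x * y).left := by
      rintro x y ⟨dx, hx⟩ ⟨dy, hy⟩
      let X' : To ⟶ Do := Over.homMk dx (by
        show dx ≫ iD ≫ E.hom = _
        rw [reassoc_of% hx, Over.w x])
      let Y' : To ⟶ Do := Over.homMk dy (by
        show dy ≫ iD ≫ E.hom = _
        rw [reassoc_of% hy, Over.w y])
      have hX : X' ≫ jd = x := Over.OverMorphism.ext hx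
      have hY : Y' ≫ jd = y := Over.OverMorphism.ext hy
      obtain ⟨z, hz⟩ := H₂ T' (lift X' Y').left a (Over.w (lift X' Y'))
      refine ⟨z, hz.trans ((Over.comp_left _ _ _ (lift X' Y') mm).symm.trans (congrArg CommaMorphism.left ?_))⟩
      simp [mm, MonObj.comp_mul, hX, hY] <;> rfl
    have inv_mem : ∀ x : To ⟶ E, (∃ d : T' ⟶ 𝓓.subscheme, d ≫ iD = x.left) →
        ∃ d : T' ⟶ 𝓓.subscheme, d ≫ iD = (x⁻¹).left := by
      rintro x ⟨dx, hx⟩
      let X' : To ⟶ Do := Over.homMk dx (by
        show dx ≫ iD ≫ E.hom = _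
        rw [reassoc_of% hx, Over.w x])
      have hX : X' ≫ jd = x := Over.OverMorphism.ext hx
      obtain ⟨z, hz⟩ := H₃ T' X'.left a (Over.w X')
      refine ⟨z, hz.trans ((Over.comp_left _ _ _ X' jd⁻¹).symm.trans (congrArg CommaMorphism.left ?_))⟩
      simp [GrpObj.comp_inv, hX] <;> rfl
    exact ⟨{ carrier := {x | ∃ d : T' ⟶ 𝓓.subscheme, d ≫ iD = x.left}
             mul_mem' := fun {x y} hx hy => mul_mem x y hx hy
             one_mem' := one_mem
             inv_mem' := fun {x} hx => inv_mem x hx }, rfl⟩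
  · intro hall
    refine ⟨fun W p w hw => ?_, fun W p w hw => ?_, fun W p w hw => ?_⟩
    all_goals obtain ⟨K, hK⟩ := hall W w
    · have h := K.one_mem
      rw [← SetLike.mem_coe, hK] at h
      obtain ⟨d, hd⟩ := h
      let P : Over.mk (w ≫ g) ⟶ 𝟙_ (Over S) := Over.homMk p hw
      refine ⟨d, hd.trans ?_⟩
      exact (congrArg CommaMorphism.left (MonObj.comp_one P)).symm
    · let P : Over.mk (w ≫ g) ⟶ Do ⊗ Do := Over.homMk p hw
      have hx : P ≫ fst Do Do ≫ jd ∈ K := by
        rw [← SetLike.mem_coe, hK]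
        exact ⟨(P ≫ fst Do Do).left, (Category.assoc _ _ _)⟩
      have hy : P ≫ snd Do Do ≫ jd ∈ K := by
        rw [← SetLike.mem_coe, hK]
        exact ⟨(P ≫ snd Do Do).left, (Category.assoc _ _ _)⟩
      have h := K.mul_mem hx hy
      rw [← MonObj.comp_mul, ← SetLike.mem_coe, hK] at h
      obtain ⟨d, hd⟩ := h
      exact ⟨d, hd⟩
    · let P : Over.mk (w ≫ g) ⟶ Do := Over.homMk p hw
      have hx : P ≫ jd ∈ K := by
        rw [← SetLike.mem_coe, hK]
        exact ⟨p, rfl⟩
      have h := K.inv_mem hx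
      rw [← GrpObj.comp_inv, ← SetLike.mem_coe, hK] at h
      obtain ⟨d, hd⟩ := h
      exact ⟨d, hd⟩

end Groth.Agent.S16247
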