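import Groth.Statements.S16248
import Groth.Agent.S7789
import Groth.Agent.Lib.AbRigid.SmoothGI

set_option autoImplicit false
universe u
open CategoryTheory CategoryTheory.Limits AlgebraicGeometry MonObj
open AgPol

namespace Groth.Agent.S16248

open CartesianMonoidalCategory MonoidalCategory

noncomputable section

variable {S : Scheme.{u}} (E : Over S) [GrpObj E] (N : ℕ)

/-- The unit section, as a morphism of schemes. -/
abbrev unitSec : S ⟶ E.left := (η : 𝟙_ (Over S) ⟶ E).left

theorem one_left (T : Over S) : (1 : T ⟶ E).left = T.hom ≫ unitSec E := by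
  show ((toUnit T) ≫ (η : 𝟙_ (Over S) ⟶ E)).left = _
  simp [Over.comp_left]

theorem unitSec_hom : unitSec E ≫ E.hom = 𝟙 S := Over.w (η : 𝟙_ (Over S) ⟶ E)

instance : Mono (unitSec E) := mono_of_mono_fac (unitSec_hom E)

theorem ker_w : pullback.fst (𝟙 E ^ N : E ⟶ E).left (unitSec E) ≫ E.hom = pullback.snd _ _ := by
  conv_lhs => rw [← Over.w (𝟙 E ^ N : E ⟶ E)]
  rw [pullback.condition_assoc, unitSec_hom, Category.comp_id]

/-- The kernel of multiplication by `N`. -/
def K : Over S := Over.mk (pullback.snd (𝟙 E ^ N : E ⟶ E).left (unitSec E))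

/-- Its inclusion. -/
def P0 : K E N ⟶ E := Over.homMk (pullback.fst (𝟙 E ^ N : E ⟶ E).left (unitSec E)) (ker_w E N)

theorem P0_pow : P0 E N ^ N = 1 := by
  rw [← Category.comp_id (P0 E N), ← MonObj.comp_pow]
  apply Over.OverMorphism.ext
  rw [one_left]
  exact pullback.condition

instance : Mono (P0 E N) := by
  haveI : Mono (P0 E N).left := by
    show Mono (pullback.fst (𝟙 E ^ N : E ⟶ E).left (unitSec E))
    infer_instance
  exact (Over.forget S).mono_of_mono_map ‹Mono (P0 E N).left›

theorem pow_left {T : Over S} (Q : T ⟶ E) (hQ : Q ^ N = 1) :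
    Q.left ≫ (𝟙 E ^ N : E ⟶ E).left = T.hom ≫ unitSec E := by
  rw [← Over.comp_left, MonObj.comp_pow, Category.comp_id, hQ, one_left]

/-- Lift of an `N`-torsion point. -/
def lft {T : Over S} (Q : T ⟶ E) (hQ : Q ^ N = 1) : T ⟶ K E N :=
  Over.homMk (pullback.lift Q.left T.hom (pow_left E N Q hQ)) (pullback.lift_snd _ _ _)

@[simp] theorem lft_P0 {T : Over S} (Q : T ⟶ E) (hQ : Q ^ N = 1) : lft E N Q hQ ≫ P0 E N = Q :=
  Over.OverMorphism.ext (pullback.lift_fst _ _ _)

/-- The zero section of the kernel. -/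
def e1 : 𝟙_ (Over S) ⟶ K E N := lft E N (1 : 𝟙_ (Over S) ⟶ E) (one_pow N)

/-- Multiples of the tautological point. -/
def fm (m : ℕ) : K E N ⟶ K E N := lft E N (P0 E N ^ m) (by rw [← pow_mul, mul_comm, pow_mul, P0_pow, one_pow])

/-- The points of exact order `N`, as a subset of the kernel. -/
def exactSet : Set (K E N).left :=
  ⋂ m ∈ Finset.Ioo 0 N, ((fm E N m).left ⁻¹' Set.range (e1 E N).left)ᶜ

theorem pow_eq_one_iff [IsOpenImmersion (e1 E N).left] {T : Over S} (t : T ⟶ K E N) (m : ℕ) :
    (t ≫ P0 E N) ^ m = 1 ↔ ∀ x : T.left, (fm E N m).left (t.left x) ∈ Set.range (e1 E N).left := by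
  have h1 : (t ≫ fm E N m) ≫ P0 E N = (t ≫ P0 E N) ^ m := by
    rw [Category.assoc, fm, lft_P0, MonObj.comp_pow]
  have h2 : (toUnit T ≫ e1 E N) ≫ P0 E N = 1 := by
    rw [Category.assoc, e1, lft_P0, MonObj.comp_one]
  constructor
  · intro h x
    have h3 : t ≫ fm E N m = toUnit T ≫ e1 E N := by
      rw [← cancel_mono (P0 E N), h1, h2, h]
    refine ⟨(toUnit T).left x, ?_⟩
    rw [← Scheme.Hom.comp_apply, ← Scheme.Hom.comp_apply, ← Over.comp_left, ← Over.comp_left, h3]
  · intro h
    have hr : Set.range (t ≫ fm E N m).left ⊆ Set.range (e1 E N).left := by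
      rintro _ ⟨x, rfl⟩
      exact h x
    have ha := IsOpenImmersion.lift_fac (e1 E N).left (t ≫ fm E N m).left hr
    generalize IsOpenImmersion.lift (e1 E N).left (t ≫ fm E N m).left hr = a at ha
    have hw : (e1 E N).left ≫ (K E N).hom = 𝟙 S := Over.w (e1 E N)
    have ha' : a = T.hom := by
      have := congrArg (fun f => f ≫ (K E N).hom) ha
      simp only [Category.assoc, hw, Over.w] at this
      erw [Category.comp_id] at this
      exact this
    have h3 : t ≫ fm E N m = toUnit T ≫ e1 E N := by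
      apply Over.OverMorphism.ext
      rw [← ha, ha', Over.comp_left, Over.toUnit_left]
    rw [← h1, h3, h2]

theorem orderOf_eq_iff_mem [IsOpenImmersion (e1 E N).left] (hN : 1 ≤ N) {T : Over S} [Subsingleton T.left] [Nonempty T.left] (t : T ⟶ K E N) :
    orderOf (t ≫ P0 E N) = N ↔ ∀ x, t.left x ∈ exactSet E N := by
  have hpow : (t ≫ P0 E N) ^ N = 1 := by rw [← MonObj.comp_pow, P0_pow, MonObj.comp_one]
  rw [orderOf_eq_iff (by omega)]
  simp only [hpow, true_and, exactSet, Set.mem_iInter, Finset.mem_Ioo, Set.mem_compl_iff, Set.mem_preimage]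
  constructor
  · intro h x m hm hx
    exact h m hm.2 hm.1 ((pow_eq_one_iff E N t m).mpr fun y => by rw [Subsingleton.elim y x]; exact hx)
  · intro h m h1 h2 h3
    obtain ⟨x⟩ := ‹Nonempty T.left›
    exact h x m ⟨h2, h1⟩ ((pow_eq_one_iff E N t m).mp h3 x)

end

theorem geomPoint_aux {X : Scheme.{u}} (x : X) (k : CommRingCat.{u}) (hk : IsField k)
    (j : Spec k ⟶ X) (hj : ∀ y, j y = x) :
    ∃ (Ω : Type u) (_ : Field Ω) (_ : IsAlgClosed Ω) (t : Spec (CommRingCat.of Ω) ⟶ X), ∀ y, t y = x := by
  letI := hk.toField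
  refine ⟨AlgebraicClosure k, inferInstance, inferInstance,
    Spec.map (CommRingCat.ofHom (algebraMap k (AlgebraicClosure k))) ≫ j, fun y => ?_⟩
  rw [Scheme.Hom.comp_apply]
  exact hj _

theorem exists_geomPoint {X : Scheme.{u}} (x : X) :
    ∃ (Ω : Type u) (_ : Field Ω) (_ : IsAlgClosed Ω) (t : Spec (CommRingCat.of Ω) ⟶ X), ∀ y, t y = x :=
  geomPoint_aux x (X.residueField x) (Field.toIsField _) (X.fromSpecResidueField x)
    (Scheme.fromSpecResidueField_apply x)

/-- Let E be an S-group scheme which is smooth and proper over S with geometrically connected fibres of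
dimension one (a family of elliptic curves over S with its group law), and let N ≥ 1 be an integer
invertible on S. Consider, for an S-scheme T, the T-valued points Q of E with N·Q = 0 whose value at
every geometric point of T has order exactly N (for N invertible these are exactly the level
structures of type ℤ/N sending 1 to Q). This functor is represented by an S-scheme Z which is finite
and étale over S: there are such a Z and a point P of E with values in Z having this property, such
that every Q with the property over any T is the pull-back of P along a unique S-morphism T → Z. -/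
theorem result
    {S : Scheme.{u}} (E : Over S) [GrpObj E] (hE : AgPol.IsAbSch E 1)
    (N : ℕ) (hN : 1 ≤ N) (hNu : IsUnit (N : Γ(S, ⊤))) :
    ∃ (Z : Over S) (P : Z ⟶ E), IsFinite Z.hom ∧ Etale Z.hom ∧
      (P ^ N = 1 ∧ ∀ (Ω : Type u) [Field Ω] [IsAlgClosed Ω] (t : Spec (CommRingCat.of Ω) ⟶ Z.left),
        orderOf ((Over.homMk t rfl : Over.mk (t ≫ Z.hom) ⟶ Z) ≫ P) = N) ∧
      ∀ (T : Over S) (Q : T ⟶ E), Q ^ N = 1 →
        (∀ (Ω : Type u) [Field Ω] [IsAlgClosed Ω] (t : Spec (CommRingCat.of Ω) ⟶ T.left),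
          orderOf ((Over.homMk t rfl : Over.mk (t ≫ T.hom) ⟶ T) ≫ Q) = N) →
        ∃! v : T ⟶ Z, v ≫ P = Q := by
  haveI : Smooth E.hom := hE.smooth
  haveI : IsProper E.hom := hE.proper
  haveI : GeometricallyConnected E.hom := hE.geomConnected
  haveI : GeometricallyReduced E.hom := AbRigid.geometricallyReduced_of_smooth E.hom
  obtain ⟨hf, he⟩ := Groth.Agent.S7789.result E (N : ℤ) (by simpa using hNu)
  simp only [zpow_natCast] at hf he
  haveI : IsFinite (𝟙 E ^ N : E ⟶ E).left := hf
  haveI : Etale (𝟙 E ^ N : E ⟶ E).left := he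
  haveI : IsFinite (K E N).hom := by unfold K; dsimp; infer_instance
  haveI : Etale (K E N).hom := by unfold K; dsimp; infer_instance
  have hsec : (e1 E N).left ≫ (K E N).hom = 𝟙 S := Over.w (e1 E N)
  haveI hiso : IsIso ((e1 E N).left ≫ (K E N).hom) := by rw [hsec]; exact inferInstanceAs (IsIso (𝟙 S))
  haveI : IsClosedImmersion (e1 E N).left := IsClosedImmersion.of_comp (e1 E N).left (K E N).hom
  haveI : Etale (e1 E N).left := Etale.of_comp (e1 E N).left (K E N).hom
  haveI : IsOpenImmersion (e1 E N).left := IsOpenImmersion.of_flat_of_mono _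
  have hopenR : IsOpen (Set.range (e1 E N).left) := (e1 E N).left.isOpenEmbedding.isOpen_range
  have hclosR : IsClosed (Set.range (e1 E N).left) := (e1 E N).left.isClosedEmbedding.isClosed_range
  have hUo : IsOpen (exactSet E N) :=
    isOpen_biInter_finset fun m _ => (hclosR.preimage (fm E N m).left.continuous).isOpen_compl
  have hUc : IsClosed (exactSet E N) :=
    isClosed_biInter fun m _ => (hopenR.preimage (fm E N m).left.continuous).isClosed_compl
  let U : (K E N).left.Opens := ⟨exactSet E N, hUo⟩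
  haveI : IsClosedImmersion U.ι := IsClosedImmersion.of_isPreimmersion _ (by
    rw [Scheme.Opens.range_ι]; exact hUc)
  let Z : Over S := Over.mk (U.ι ≫ (K E N).hom)
  let i : Z ⟶ K E N := Over.homMk U.ι rfl
  haveI : Mono i.left := inferInstanceAs (Mono U.ι)
  haveI : Mono i := (Over.forget S).mono_of_mono_map ‹Mono i.left›
  refine ⟨Z, i ≫ P0 E N, inferInstanceAs (IsFinite (U.ι ≫ (K E N).hom)),
    inferInstanceAs (Etale (U.ι ≫ (K E N).hom)), ⟨?_, ?_⟩, ?_⟩
  · rw [← MonObj.comp_pow, P0_pow, MonObj.comp_one]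
  · intro Ω _ _ t
    rw [← Category.assoc]
    haveI : Subsingleton (Over.mk (t ≫ Z.hom)).left :=
      inferInstanceAs (Subsingleton (Spec (CommRingCat.of Ω)))
    haveI : Nonempty (Over.mk (t ≫ Z.hom)).left := inferInstanceAs (Nonempty (Spec (CommRingCat.of Ω)))
    refine (orderOf_eq_iff_mem E N hN _).mpr fun x => ?_
    have : U.ι (t x) ∈ Set.range U.ι := ⟨_, rfl⟩
    rw [Scheme.Opens.range_ι] at this
    exact this
  · intro T Q hQ hord
    have hmem : ∀ x : T.left, (lft E N Q hQ).left x ∈ exactSet E N := by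
      intro x
      obtain ⟨Ω, _, _, t, ht⟩ := exists_geomPoint x
      have h := hord Ω t
      rw [← lft_P0 E N Q hQ, ← Category.assoc] at h
      haveI : Subsingleton (Over.mk (t ≫ T.hom)).left :=
        inferInstanceAs (Subsingleton (Spec (CommRingCat.of Ω)))
      haveI : Nonempty (Over.mk (t ≫ T.hom)).left :=
        inferInstanceAs (Nonempty (Spec (CommRingCat.of Ω)))
      obtain ⟨y⟩ := ‹Nonempty (Over.mk (t ≫ T.hom)).left›
      have h2 := (orderOf_eq_iff_mem E N hN
        ((Over.homMk t rfl : Over.mk (t ≫ T.hom) ⟶ T) ≫ lft E N Q hQ)).mp h y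
      rw [← ht y]
      exact h2
    have hr : Set.range (lft E N Q hQ).left ⊆ Set.range U.ι := by
      rw [Scheme.Opens.range_ι]; rintro _ ⟨x, rfl⟩; exact hmem x
    let v : T ⟶ Z := Over.homMk (IsOpenImmersion.lift U.ι (lft E N Q hQ).left hr) (by
      show _ ≫ U.ι ≫ (K E N).hom = _
      rw [IsOpenImmersion.lift_fac_assoc]
      exact Over.w (lft E N Q hQ))
    have hv : v ≫ i = lft E N Q hQ := Over.OverMorphism.ext (IsOpenImmersion.lift_fac _ _ _)
    refine ⟨v, ?_, fun v' hv' => ?_⟩
    · show v ≫ i ≫ P0 E N = Q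
      rw [← Category.assoc, hv, lft_P0]
    · rw [← cancel_mono (i ≫ P0 E N), hv', ← Category.assoc, hv, lft_P0]

end Groth.Agent.S16248
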