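import Groth.Statements.S16249
import Groth.Agent.Lib.Abel10.Elliptic
import Groth.Agent.S15990
import Groth.Agent.S2768
import Groth.Agent.Lib.FibGenApp4
import Groth.Agent.Lib.PicPn.TrivialFibres
import Groth.Agent.Lib.CurveR1_10.Basic
import Groth.Agent.Lib.ParaF27.UFDCrit
-- import your own Groth.Agent.* helpers here

set_option autoImplicit false
universe u
open CategoryTheory CategoryTheory.Limits AlgebraicGeometry
open PicF TopologicalSpace

namespace Groth.Agent.S16249

set_option backward.isDefEq.respectTransparency false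
set_option backward.isDefEq.respectTransparency.types false
set_option linter.style.haveILetI false
set_option linter.unusedSectionVars false
set_option maxHeartbeats 1000000

section Aux

open Groth.Agent

noncomputable local instance instLaw16249 (Y : Scheme.{u}) : PicGrp.Law Y := M2.law Y

variable {E S : Scheme.{u}} (f : E ⟶ S)

theorem hdim_of_smooth [SmoothOfRelativeDimension 1 f] [GeometricallyConnected f] (s : S) :
    topologicalKrullDim ↥(f.fiber s) = 1 := by
  refine le_antisymm ((FibGen4.dim_fiber_le_iff f s 1).2 fun x _ => (S2768.result 1 f x).le) ?_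
  obtain ⟨x, rfl⟩ := f.surjective s
  have h := (FibGen4.dim_fiber_le_iff f (f x) _).1 le_rfl x rfl
  rwa [S2768.result 1 f x] at h

theorem fibre_facts [IsProper f] [Smooth f] [GeometricallyConnected f]
    (hdim : ∀ s : S, topologicalKrullDim ↥(f.fiber s) = 1)
    (hg : ∀ s : S, @FGA.eulerCharLE (S.residueField s) _ (f.fiber s) (f.fiberOverSpecResidueField s)
      (Coh.structureModule (f.fiber s)) 1 = 0) (s : S) :
    CohIII.fiberRank f (Coh.structureModule E) 1 s = 1 ∧
      ∀ L : E.Modules, PicF.IsInvertible L →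
        @FGA.eulerCharLE (S.residueField s) _ (f.fiber s) (f.fiberOverSpecResidueField s)
          ((Scheme.Modules.pullback (f.fiberι s)).obj L) 1 = 0 →
        letI : (f.fiber s).Over (Spec (CommRingCat.of (S.residueField s))) := ⟨f.fiberToSpecResidueField s⟩
        Curv2.deg (S.residueField s) (f.fiber s) ((Scheme.Modules.pullback (f.fiberι s)).obj L) 1 = 0 := by
  letI : (f.fiber s).Over (Spec (CommRingCat.of (S.residueField s))) := ⟨f.fiberToSpecResidueField s⟩
  have sq : IsPullback (f.fiberι s) (f.fiber s ↘ Spec (CommRingCat.of (S.residueField s))) f (S.fromSpecResidueField s) :=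
    IsPullback.of_hasPullback _ _
  haveI := Abel10.isProper_fieldPt sq
  haveI := Abel10.smooth_fieldPt sq
  haveI := Abel10.geometricallyConnected_fieldPt sq
  haveI := GeomRed.geometricallyReduced_of_smooth (k := S.residueField s) (X := f.fiber s)
  have hd := hdim s
  have hX := CurveAmple18.curveLike (S.residueField s) (f.fiber s) hd.le
  have h0 := S1536.result (S.residueField s) (f.fiber s)
  have hO := (Snapper.eulerCharLE_eq_euler (k := S.residueField s) (X := f.fiber s) 1 hd.le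
    (M1.isCoh_structureModule (f.fiber s))).symm.trans (hg s)
  have hgen : Curv2.genus (S.residueField s) (f.fiber s) = 1 := by
    have h := hX.euler_structureModule
    rw [h0] at h
    omega
  refine ⟨?_, fun L hL h => ?_⟩
  · refine Eq.trans ?_ ((Abel10.genus_fieldPt sq).symm.trans hgen)
    exact congrArg (CohIII.fiberRank f _ 1) (S.fromSpecResidueField_apply s _).symm
  · have hA := (Snapper.eulerCharLE_eq_euler (k := S.residueField s) (X := f.fiber s) 1 hd.le
      (Snapper.isCoh_of_isInvertible (PicLoc.isInvertible_pullback (f.fiberι s) hL))).symm.trans h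
    rw [Curv2.deg, hA, hO]
    norm_num

/-- A class trivial locally on the base comes from the base. -/
theorem exists_base (hf : ∀ V : S.Opens, Function.Bijective (f.app V)) (c : PicLoc.PicSet E)
    (h : ∀ s : S, ∃ U : S.Opens, s ∈ U ∧ Abel10.pc (pullback.fst f U.ι) c = 1) :
    ∃ m : PicLoc.PicSet S, c = Abel10.pc f m := by
  obtain ⟨N, hN, rfl⟩ := PicGrp.exists_eq_cls c
  have hgen : ∀ s : S, ∃ (U : S.Opens) (σ : Γ(N, f ⁻¹ᵁ U)), s ∈ U ∧ Twist.IsGen N (f ⁻¹ᵁ U) σ := fun s => by
    obtain ⟨U, hsU, hU⟩ := h s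
    let w := (pullbackRestrictIsoRestrict f U).inv
    have h1 := congrArg (Abel10.pc w) hU
    rw [map_one, Abel10.pc_comp w (pullback.fst f U.ι) (pullbackRestrictIsoRestrict_inv_fst f U), Abel10.pc,
      PicGrp.pullHom_cls, PicGrp.cls_eq_one_iff] at h1
    obtain ⟨i⟩ := h1
    obtain ⟨g, hg⟩ := ParaF27.exists_isGen_of_iso
      ((Scheme.Modules.restrictFunctorIsoPullback (f ⁻¹ᵁ U).ι).app N ≪≫ i)
    exact ⟨U, g, hsU, hg⟩
  obtain ⟨⟨M, hM, ⟨e⟩⟩, -⟩ := PicPn.exists_of_gens f hf hgen
  refine ⟨PicGrp.cls M hM, ?_⟩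
  rw [Abel10.pc, PicGrp.pullHom_cls, PicGrp.cls_eq_cls_iff]
  exact ⟨e.symm⟩

/-- An invertible class is trivial near every point. -/
theorem exists_triv_nhd (m : PicLoc.PicSet S) (s : S) : ∃ U : S.Opens, s ∈ U ∧ Abel10.pc U.ι m = 1 := by
  obtain ⟨M, hM, rfl⟩ := PicGrp.exists_eq_cls m
  obtain ⟨U, hsU, ⟨i⟩⟩ := hM s
  exact ⟨U, hsU, by
    rw [Abel10.pc, PicGrp.pullHom_cls, PicGrp.cls_eq_one_iff]
    exact ⟨((Scheme.Modules.restrictFunctorIsoPullback U.ι).app M).symm ≪≫ i⟩⟩

variable {LΔ : (pullback f f).Modules} (hLΔ : PicF.IsInvertible LΔ) (c : PicLoc.PicSet E)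

/-- The class `c` is `O(x)` over `U`. -/
def Good (U : S.Opens) (x : (U : Scheme.{u}) ⟶ E) (hx : x ≫ f = U.ι) : Prop :=
  Abel10.pc (pullback.fst f U.ι) c = Abel10.pc (Abel10.toSq f U.ι x hx) (PicGrp.cls LΔ hLΔ)

theorem Good.res {U : S.Opens} {x : (U : Scheme.{u}) ⟶ E} {hx : x ≫ f = U.ι} (h : Good f hLΔ c U x hx)
    {W : S.Opens} (e : W ≤ U) (hx' : (S.homOfLE e ≫ x) ≫ f = W.ι) :
    Good f hLΔ c W (S.homOfLE e ≫ x) hx' := by
  let g : pullback f W.ι ⟶ pullback f U.ι :=
    pullback.lift (pullback.fst f W.ι) (pullback.snd f W.ι ≫ S.homOfLE e) (by simp [pullback.condition])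
  have h1 := congrArg (Abel10.pc g) h
  rwa [Abel10.pc_comp g _ (show g ≫ pullback.fst f U.ι = pullback.fst f W.ι from pullback.lift_fst _ _ _),
    Abel10.pc_comp g _ (show g ≫ Abel10.toSq f U.ι x hx = Abel10.toSq f W.ι (S.homOfLE e ≫ x) hx' from ?_)] at h1
  apply pullback.hom_ext <;> simp [g, Abel10.toSq]

variable [IsProper f] [Smooth f] [GeometricallyConnected f]
  (hdim : ∀ s : S, topologicalKrullDim ↥(f.fiber s) = 1)
  (hgen : ∀ s : S, CohIII.fiberRank f (Coh.structureModule E) 1 s = 1)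
  {σΔ : Γ(LΔ, (⊤ : (pullback f f).Opens))} (hσΔ : Abel10.LocEq LΔ (pullback.diagonal f).ker σΔ)

include hdim hgen hσΔ

theorem good_unique {U : S.Opens} {x y : (U : Scheme.{u}) ⟶ E} {hx : x ≫ f = U.ι} {hy : y ≫ f = U.ι}
    (h : Good f hLΔ c U x hx) (h' : Good f hLΔ c U y hy) : x = y := by
  have h1 := h.symm.trans h'
  rw [Abel10.pc, Abel10.pc, PicGrp.pullHom_cls, PicGrp.pullHom_cls, PicGrp.cls_eq_cls_iff] at h1
  exact Abel10.eq_of_iso f U.ι hdim (fun s => (hgen s).ge) hLΔ hσΔ x y hx hy h1.some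

/-- Sections with the same class up to the base are equal. -/
theorem section_unique (P Q : S ⟶ E) (hP : P ≫ f = 𝟙 S) (hQ : Q ≫ f = 𝟙 S) (m m' : PicLoc.PicSet S)
    (h : c = Abel10.pc (Abel10.secSq f P hP) (PicGrp.cls LΔ hLΔ) * Abel10.pc f m)
    (h' : c = Abel10.pc (Abel10.secSq f Q hQ) (PicGrp.cls LΔ hLΔ) * Abel10.pc f m') : P = Q := by
  choose U hU hm using exists_triv_nhd m
  choose U' hU' hm' using exists_triv_nhd m'
  let V : S → S.Opens := fun s => U s ⊓ U' s
  refine (S.openCoverOfIsOpenCover V (IsOpenCover.mk (top_le_iff.1 fun s _ =>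
    Opens.mem_iSup.2 ⟨s, hU s, hU' s⟩))).hom_ext P Q fun s => ?_
  show (V s).ι ≫ P = (V s).ι ≫ Q
  have key : ∀ (R : S ⟶ E) (hR : R ≫ f = 𝟙 S) (n : PicLoc.PicSet S) (U : S.Opens) (hle : V s ≤ U)
      (_ : Abel10.pc U.ι n = 1) (_ : c = Abel10.pc (Abel10.secSq f R hR) (PicGrp.cls LΔ hLΔ) * Abel10.pc f n),
      Good f hLΔ c (V s) ((V s).ι ≫ R) (by rw [Category.assoc, hR, Category.comp_id]) := by
    intro R hR n U hle hn hc
    rw [Good, hc, map_mul, Abel10.pc_comp _ _ (show pullback.fst f (V s).ι ≫ Abel10.secSq f R hR =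
      Abel10.toSq f (V s).ι ((V s).ι ≫ R) (by rw [Category.assoc, hR, Category.comp_id]) from ?_),
      Abel10.pc_comp _ f (pullback.condition),
      ← Abel10.pc_comp (pullback.snd f (V s).ι) (V s).ι rfl,
      ← Abel10.pc_comp (S.homOfLE hle) U.ι (S.homOfLE_ι hle), hn, map_one, map_one, mul_one]
    apply pullback.hom_ext <;> simp [Abel10.secSq, Abel10.toSq, pullback.condition_assoc]
  exact good_unique f hLΔ c hdim hgen hσΔ (key P hP m (U s) inf_le_left (hm s) h)
    (key Q hQ m' (U' s) inf_le_right (hm' s) h')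

/-- A class of degree one on the fibres is `O(P)` up to the base. -/
theorem exists_section (M : E.Modules) (hM : PicF.IsInvertible M) (hc : c = PicGrp.cls M hM)
    (hdeg : ∀ s : S, letI : (f.fiber s).Over (Spec (CommRingCat.of (S.residueField s))) := ⟨f.fiberToSpecResidueField s⟩
      Curv2.deg (S.residueField s) (f.fiber s) ((Scheme.Modules.pullback (f.fiberι s)).obj M) 1 = 1) :
    ∃ (P : S ⟶ E) (hP : P ≫ f = 𝟙 S) (m : PicLoc.PicSet S),
      c = Abel10.pc (Abel10.secSq f P hP) (PicGrp.cls LΔ hLΔ) * Abel10.pc f m := by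
  have loc : ∀ s : S, ∃ (U : S.Opens) (x : (U : Scheme.{u}) ⟶ E) (hx : x ≫ f = U.ι),
      s ∈ U ∧ Good f hLΔ c U x hx := fun s => by
    obtain ⟨U, hsU, γ, hγ, hci, hE, σ, hs⟩ := Abel10.exists_point_nhd f hdim hgen hM hdeg s
    haveI := hci
    let x : (U : Scheme.{u}) ⟶ E := γ ≫ pullback.fst f U.ι
    have hx : x ≫ f = U.ι := by
      simp only [x, Category.assoc, pullback.condition]
      rw [reassoc_of% hγ]
    have hγx : γ = Abel10.graph f U.ι x hx := by
      apply pullback.hom_ext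
      · simp [x, Abel10.graph]
      · simp [x, Abel10.graph, hγ]
    refine ⟨U, x, hx, hsU, ?_⟩
    rw [Good, hc, Abel10.pc, Abel10.pc, PicGrp.pullHom_cls, PicGrp.pullHom_cls, PicGrp.cls_eq_cls_iff]
    haveI : IsClosedImmersion (Abel10.graph f U.ι x hx) := hγx ▸ hci
    have hs' := hσΔ.pullback (Abel10.isPullback_graph f U.ι x hx)
    have hL := PicLoc.isInvertible_pullback (pullback.fst f U.ι) hM
    have hL' := PicLoc.isInvertible_pullback (Abel10.toSq f U.ι x hx) hLΔ
    have hI := M2.isInvertible_idealMod γ.ker hE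
    have e1 := (PicGrp.cls_mul_cls_eq_one_iff hL hI).2 (Abel10.nonempty_iso_of_locEq hE hL hs)
    have e2 := (PicGrp.cls_mul_cls_eq_one_iff hL' hI).2
      (Abel10.nonempty_iso_of_locEq hE hL' (by rwa [hγx]))
    exact (PicGrp.cls_eq_cls_iff hL hL').1 (mul_right_cancel (e1.trans e2.symm))
  choose U x hx hsU hgood using loc
  have hU : IsOpenCover U := IsOpenCover.mk (top_le_iff.1 fun s _ => Opens.mem_iSup.2 ⟨s, hsU s⟩)
  let 𝒰 := S.openCoverOfIsOpenCover U hU
  have hcompat : ∀ a b : S, S.homOfLE (inf_le_left : U a ⊓ U b ≤ U a) ≫ x a =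
      S.homOfLE (inf_le_right : U a ⊓ U b ≤ U b) ≫ x b := fun a b =>
    good_unique f hLΔ c hdim hgen hσΔ
      ((hgood a).res f hLΔ c inf_le_left (by rw [Category.assoc, hx, Scheme.homOfLE_ι]))
      ((hgood b).res f hLΔ c inf_le_right (by rw [Category.assoc, hx, Scheme.homOfLE_ι]))
  let P : S ⟶ E := 𝒰.glueMorphisms x fun a b => by
    show pullback.fst (U a).ι (U b).ι ≫ x a = pullback.snd (U a).ι (U b).ι ≫ x b
    have hP : IsPullback (S.homOfLE (inf_le_left : U a ⊓ U b ≤ U a)) (S.homOfLE (inf_le_right : U a ⊓ U b ≤ U b))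
        (U a).ι (U b).ι := isPullback_opens_inf (U a) (U b)
    rw [← cancel_epi hP.isoPullback.hom, hP.isoPullback_hom_fst_assoc, hP.isoPullback_hom_snd_assoc]
    exact hcompat a b
  have hPι : ∀ s, (U s).ι ≫ P = x s := fun s => 𝒰.ι_glueMorphisms x _ s
  have hP : P ≫ f = 𝟙 S := 𝒰.hom_ext _ _ fun s => by
    show (U s).ι ≫ P ≫ f = (U s).ι ≫ 𝟙 S
    rw [reassoc_of% (hPι s), hx, Category.comp_id]
  have hf : ∀ V : S.Opens, Function.Bijective (f.app V) := by
    haveI := AbRigid.geometricallyReduced_of_smooth f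
    exact CurveR1_10.bijective_app f fun s => CurveR1_10.bijective_appTop_fiber f s
  obtain ⟨m, hm⟩ := exists_base f hf (c * (Abel10.pc (Abel10.secSq f P hP) (PicGrp.cls LΔ hLΔ))⁻¹)
    fun s => ⟨U s, hsU s, by
      rw [map_mul, map_inv, mul_inv_eq_one, Abel10.pc_comp _ _ (show pullback.fst f (U s).ι ≫ Abel10.secSq f P hP =
        Abel10.toSq f (U s).ι (x s) (hx s) from ?_)]
      · exact hgood s
      · apply pullback.hom_ext <;> simp [Abel10.secSq, Abel10.toSq, pullback.condition_assoc, hPι]⟩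
  exact ⟨P, hP, m, by rw [← hm, mul_comm c, ← mul_assoc, mul_inv_cancel, one_mul]⟩

end Aux

/-- Let f : E → S be a family of elliptic curves: f is proper and smooth of relative dimension one with
geometrically connected fibres whose structure sheaf has Euler characteristic 0 (genus one), and σ
is a section of f. Then for every invertible O_E-module L whose restriction to every fibre of f has
degree zero (Euler characteristic equal to that of the structure sheaf of the fibre) there is
exactly one section P of f such that L ⊗ I_P ≅ I_σ ⊗ f^*M for some invertible O_S-module M, where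
I_P and I_σ are the ideal sheaves of the closed subschemes P(S) and σ(S) of E. In other words P ↦
O(P − σ) is a bijection from E(S) onto the classes of fibrewise-degree-zero invertible modules
modulo modules pulled back from S. (The published statement goes on to say that E is thereby an
S-group scheme, with P + Q = R exactly when O(P) ⊗ O(Q) ⊗ O(−σ) ≅ O(R) ⊗ f^*M for some invertible M
on the base — its printed formula has O(−R), a misprint — ; that transport of the group structure is
not part of this statement.) -/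
theorem result
    {E S : Scheme.{u}} (f : E ⟶ S) [IsProper f] [SmoothOfRelativeDimension 1 f]
    (hc : GeometricallyConnected f)
    (hg : ∀ s : S, @FGA.eulerCharLE (S.residueField s) _ (f.fiber s) (f.fiberOverSpecResidueField s)
      (Coh.structureModule (f.fiber s)) 1 = 0)
    (σ : S ⟶ E) (hσ : σ ≫ f = 𝟙 S)
    (L : E.Modules) (hL : PicF.IsInvertible L)
    (hL0 : ∀ s : S, @FGA.eulerCharLE (S.residueField s) _ (f.fiber s) (f.fiberOverSpecResidueField s)
      ((Scheme.Modules.pullback (f.fiberι s)).obj L) 1 = 0) :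
    ∃! P : S ⟶ E, P ≫ f = 𝟙 S ∧ ∃ M : S.Modules, PicF.IsInvertible M ∧
      Nonempty (CohB1.tensorMod L (ClSub.idealMod P.ker) ≅
        CohB1.tensorMod (ClSub.idealMod σ.ker) ((Scheme.Modules.pullback f).obj M)) := by
  letI : ∀ Y : Scheme.{u}, PicGrp.Law Y := fun Y => Groth.Agent.M2.law Y
  haveI : Smooth f := SmoothOfRelativeDimension.smooth (n := 1) f
  haveI := hc
  have hdim := hdim_of_smooth f
  have hfib := fibre_facts f hdim hg
  have hgen := fun s => (hfib s).1
  haveI : SmoothOfRelativeDimension 1 (pullback.snd f f) :=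
    (smoothOfRelativeDimension_isStableUnderBaseChange 1).of_isPullback (IsPullback.of_hasPullback f f) ‹_›
  have hE := (Groth.Agent.S15990.result (pullback.snd f f) (pullback.diagonal f) (pullback.diagonal_snd f)).1
  have hJ := Groth.Agent.M2.isInvertible_idealMod _ hE
  obtain ⟨LΔ, hLΔ, hinv⟩ := PicGrp.exists_eq_cls (PicGrp.cls _ hJ)⁻¹
  have hone : PicGrp.cls LΔ hLΔ * PicGrp.cls _ hJ = 1 := by rw [← hinv, inv_mul_cancel]
  obtain ⟨eΔ⟩ := (PicGrp.cls_mul_cls_eq_one_iff hLΔ hJ).1 hone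
  obtain ⟨σΔ, hσΔ⟩ := Groth.Agent.Abel10.exists_locEq hE hLΔ eΔ
  obtain ⟨-, hIσ, hσone⟩ := Groth.Agent.Abel10.secIdeal f hdim hLΔ hσΔ σ hσ
  let Le := (Scheme.Modules.pullback (Groth.Agent.Abel10.secSq f σ hσ)).obj LΔ
  have hLe : PicF.IsInvertible Le := PicLoc.isInvertible_pullback _ hLΔ
  let M := CohB1.tensorMod L Le
  have hM : PicF.IsInvertible M := Groth.Agent.M2.isInvertible_tensor hL hLe
  have hcM : PicGrp.cls M hM = PicGrp.cls L hL * PicGrp.cls Le hLe := (Groth.Agent.AlgEquiv22.cls_tensor hL hLe).symm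
  have iff : ∀ (P : S ⟶ E) (hP : P ≫ f = 𝟙 S) (N : S.Modules) (hN : PicF.IsInvertible N),
      Nonempty (CohB1.tensorMod L (ClSub.idealMod P.ker) ≅
        CohB1.tensorMod (ClSub.idealMod σ.ker) ((Scheme.Modules.pullback f).obj N)) ↔
      PicGrp.cls M hM = Groth.Agent.Abel10.pc (Groth.Agent.Abel10.secSq f P hP) (PicGrp.cls LΔ hLΔ) *
        Groth.Agent.Abel10.pc f (PicGrp.cls N hN) := by
    intro P hP N hN
    obtain ⟨-, hI, hPone⟩ := Groth.Agent.Abel10.secIdeal f hdim hLΔ hσΔ P hP
    have hN' : PicF.IsInvertible ((Scheme.Modules.pullback f).obj N) := PicLoc.isInvertible_pullback _ hN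
    rw [← PicGrp.cls_eq_cls_iff (Groth.Agent.M2.isInvertible_tensor hL hI) (Groth.Agent.M2.isInvertible_tensor hIσ hN'),
      ← Groth.Agent.AlgEquiv22.cls_tensor hL hI, ← Groth.Agent.AlgEquiv22.cls_tensor hIσ hN', hcM,
      Groth.Agent.Abel10.pc, Groth.Agent.Abel10.pc, PicGrp.pullHom_cls, PicGrp.pullHom_cls,
      eq_inv_of_mul_eq_one_right hPone, eq_inv_of_mul_eq_one_right hσone]
    simp only [Le]
    rw [mul_inv_eq_iff_eq_mul, mul_assoc, eq_inv_mul_iff_mul_eq, mul_comm _ (PicGrp.cls L hL),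
      mul_comm (PicGrp.cls ((Scheme.Modules.pullback f).obj N) hN')]
  have hdeg : ∀ s : S,
      letI : (f.fiber s).Over (Spec (CommRingCat.of (S.residueField s))) := ⟨f.fiberToSpecResidueField s⟩
      Curv2.deg (S.residueField s) (f.fiber s) ((Scheme.Modules.pullback (f.fiberι s)).obj M) 1 = 1 := fun s => by
    letI : (f.fiber s).Over (Spec (CommRingCat.of (S.residueField s))) := ⟨f.fiberToSpecResidueField s⟩
    have sq : IsPullback (f.fiberι s) (f.fiber s ↘ Spec (CommRingCat.of (S.residueField s))) f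
        (S.fromSpecResidueField s) := IsPullback.of_hasPullback _ _
    haveI := Groth.Agent.Abel10.isProper_fieldPt sq
    haveI := Groth.Agent.Abel10.isIntegral_fieldPt sq
    have hX := Groth.Agent.CurveAmple18.curveLike (S.residueField s) (f.fiber s) (hdim s).le
    haveI := hX.noetherian
    let j : (Scheme.Modules.pullback (f.fiberι s)).obj Le ≅
        (Scheme.Modules.pullback (f.fiberι s ≫ Groth.Agent.Abel10.secSq f σ hσ)).obj LΔ :=
      (Scheme.Modules.pullbackComp _ _).app _
    rw [Groth.Agent.CurveCoh17.deg_iso (Groth.Agent.M2.pullTensorIso (f.fiberι s) L Le),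
      hX.deg_tensor_invertible (PicLoc.isInvertible_pullback _ hL) (PicLoc.isInvertible_pullback _ hLe),
      (hfib s).2 L hL (hL0 s), Groth.Agent.CurveCoh17.deg_iso j,
      Groth.Agent.Abel10.deg_diag f hdim hLΔ hσΔ (Groth.Agent.Abel10.isPullback_secSq_comp f σ hσ sq)]
    norm_num
  obtain ⟨P, hP, m, hm⟩ := exists_section f hLΔ _ hdim hgen hσΔ M hM rfl hdeg
  obtain ⟨N, hN, rfl⟩ := PicGrp.exists_eq_cls m
  refine ⟨P, ⟨hP, N, hN, (iff P hP N hN).2 hm⟩, ?_⟩
  rintro Q ⟨hQ, N', hN', hQ'⟩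
  exact section_unique f hLΔ _ hdim hgen hσΔ Q P hQ hP _ _ ((iff Q hQ N' hN').1 hQ') hm

end Groth.Agent.S16249
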