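import Groth.Statements.S16250
import Groth.Agent.S16249
import Groth.Agent.S12408
import Mathlib.Algebra.Group.TransferInstance
-- import your own Groth.Agent.* helpers here

set_option autoImplicit false
universe u
open CategoryTheory CategoryTheory.Limits AlgebraicGeometry MonObj
open AgPol

namespace Groth.Agent.S16250

set_option backward.isDefEq.respectTransparency false
set_option backward.isDefEq.respectTransparency.types false
set_option linter.style.haveILetI false
set_option linter.unusedSectionVars false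
set_option maxHeartbeats 1000000

section Aux

open Groth.Agent MonoidalCategory CartesianMonoidalCategory MonObj

noncomputable local instance instLaw16250 (Y : Scheme.{u}) : PicGrp.Law Y := M2.law Y

theorem law_alg {G : Type*} [CommGroup G] (a b c d m : G) :
    a⁻¹ * b⁻¹ = c⁻¹ * d⁻¹ * m ↔ a * d⁻¹ * (b * d⁻¹) = c * d⁻¹ * m⁻¹ := by
  have : (a⁻¹ * b⁻¹) / (c⁻¹ * d⁻¹ * m) = ((a * d⁻¹ * (b * d⁻¹)) / (c * d⁻¹ * m⁻¹))⁻¹ := by
    apply Additive.ofMul.injective
    simp only [ofMul_mul, ofMul_inv, ofMul_div]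
    abel
  rw [← div_eq_one, this, inv_eq_one, div_eq_one]

variable {E S : Scheme.{u}} (f : E ⟶ S)
  {LΔ : (pullback f f).Modules} (hLΔ : PicF.IsInvertible LΔ)
  (σ : S ⟶ E) (hσ : σ ≫ f = 𝟙 S)

/-- The class `O(P)` on `E ×_S T`. -/
noncomputable def o {T : Over S} (P : T ⟶ Over.mk f) : PicLoc.PicSet (PicF.XT f T) :=
  Abel10.pc (Abel10.toSq f T.hom P.left (Over.w P)) (PicGrp.cls LΔ hLΔ)

/-- The point given by the section. -/
def eT (T : Over S) : T ⟶ Over.mk f :=
  Over.homMk (T.hom ≫ σ) (show (T.hom ≫ σ) ≫ f = T.hom by rw [Category.assoc, hσ, Category.comp_id])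

theorem eT_comp {T T' : Over S} (g : T' ⟶ T) : g ≫ eT f σ hσ T = eT f σ hσ T' :=
  Over.OverMorphism.ext (show g.left ≫ T.hom ≫ σ = T'.hom ≫ σ by rw [Over.w_assoc g])

theorem o_comp {T T' : Over S} (g : T' ⟶ T) (P : T ⟶ Over.mk f) :
    Abel10.pc (PicF.XTmap f g) (o f hLΔ P) = o f hLΔ (g ≫ P) := by
  refine Abel10.pc_comp _ _ ?_ _
  apply pullback.hom_ext
  · simp [Abel10.toSq, PicF.XTmap]
  · simp [Abel10.toSq, PicF.XTmap]

/-- Classes modulo the base. -/
abbrev Rel (T : Over S) := PicLoc.PicSet (PicF.XT f T) ⧸ (Abel10.pc (PicF.XTproj f T)).range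

/-- The class `O(P - σ)` modulo the base. -/
noncomputable def Φ {T : Over S} (P : T ⟶ Over.mk f) : Rel f T :=
  QuotientGroup.mk (o f hLΔ P * (o f hLΔ (eT f σ hσ T))⁻¹)

theorem mk_eq_mk_iff {T : Over S} (a b : PicLoc.PicSet (PicF.XT f T)) :
    (QuotientGroup.mk a : Rel f T) = QuotientGroup.mk b ↔
      ∃ m, b = a * Abel10.pc (PicF.XTproj f T) m := by
  rw [QuotientGroup.eq]
  exact ⟨fun ⟨m, hm⟩ => ⟨m, by rw [hm, mul_inv_cancel_left]⟩,
    fun ⟨m, hm⟩ => ⟨m, by rw [hm, inv_mul_cancel_left]⟩⟩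

variable [IsProper f] [Smooth f] [GeometricallyConnected f] [SmoothOfRelativeDimension 1 f]
  (hg : ∀ s : S, @FGA.eulerCharLE (S.residueField s) _ (f.fiber s) (f.fiberOverSpecResidueField s)
    (Coh.structureModule (f.fiber s)) 1 = 0)
  {σΔ : Γ(LΔ, (⊤ : (pullback f f).Opens))} (hσΔ : Abel10.LocEq LΔ (pullback.diagonal f).ker σΔ)

include hσΔ in
/-- `O(P)` is inverse to the ideal of the graph of `P`. -/
theorem o_ideal {T : Over S} (P : T ⟶ Over.mk f) :
    ∃ hI : PicF.IsInvertible (ClSub.idealMod (Abel10.graph f T.hom P.left (Over.w P)).ker),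
      PicGrp.cls _ hI = (o f hLΔ P)⁻¹ := by
  haveI : SmoothOfRelativeDimension 1 (pullback.snd f T.hom) :=
    (smoothOfRelativeDimension_isStableUnderBaseChange 1).of_isPullback (IsPullback.of_hasPullback f T.hom) ‹_›
  have hE := (S15990.result (pullback.snd f T.hom) (Abel10.graph f T.hom P.left (Over.w P))
    (Abel10.graph_snd f T.hom P.left (Over.w P))).1
  have hI := M2.isInvertible_idealMod _ hE
  haveI : IsClosedImmersion (Abel10.graph f T.hom P.left (Over.w P)) :=
    MorphismProperty.of_isPullback (P := @IsClosedImmersion) (Abel10.isPullback_graph f T.hom P.left (Over.w P))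
      inferInstance
  have hL := PicLoc.isInvertible_pullback (Abel10.toSq f T.hom P.left (Over.w P)) hLΔ
  refine ⟨hI, eq_inv_of_mul_eq_one_right ?_⟩
  rw [o, Abel10.pc, PicGrp.pullHom_cls]
  exact (PicGrp.cls_mul_cls_eq_one_iff hL hI).2
    (Abel10.nonempty_iso_of_locEq hE hL (hσΔ.pullback (Abel10.isPullback_graph f T.hom P.left (Over.w P))))

include hg hσΔ in
/-- Differences of points are classes of points, uniquely. -/
theorem existsUnique_point {T : Over S} (A B : T ⟶ Over.mk f) :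
    ∃! R : T ⟶ Over.mk f, Φ f hLΔ σ hσ R = QuotientGroup.mk (o f hLΔ A * (o f hLΔ B)⁻¹) := by
  let p : PicF.XT f T ⟶ T.left := pullback.snd f T.hom
  haveI : IsProper p := inferInstanceAs (IsProper (pullback.snd f T.hom))
  haveI : Smooth p := inferInstanceAs (Smooth (pullback.snd f T.hom))
  haveI : GeometricallyConnected p := inferInstanceAs (GeometricallyConnected (pullback.snd f T.hom))
  haveI : SmoothOfRelativeDimension 1 p :=
    (smoothOfRelativeDimension_isStableUnderBaseChange 1).of_isPullback (IsPullback.of_hasPullback f T.hom) ‹_›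
  have hdim := S16249.hdim_of_smooth f
  obtain ⟨hJ, hJB⟩ := o_ideal f hLΔ hσΔ B
  obtain ⟨hIσ, hIσe⟩ := o_ideal f hLΔ hσΔ (eT f σ hσ T)
  let LA := (Scheme.Modules.pullback (Abel10.toSq f T.hom A.left (Over.w A))).obj LΔ
  let LB := (Scheme.Modules.pullback (Abel10.toSq f T.hom B.left (Over.w B))).obj LΔ
  let JB := ClSub.idealMod (Abel10.graph f T.hom B.left (Over.w B)).ker
  have hLA : PicF.IsInvertible LA := PicLoc.isInvertible_pullback _ hLΔ
  have hLB : PicF.IsInvertible LB := PicLoc.isInvertible_pullback _ hLΔ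
  let L := CohB1.tensorMod LA JB
  have hL : PicF.IsInvertible L := M2.isInvertible_tensor hLA hJ
  have hcL : PicGrp.cls L hL = o f hLΔ A * (o f hLΔ B)⁻¹ := by
    rw [← hJB, o, Abel10.pc, PicGrp.pullHom_cls]
    exact (AlgEquiv22.cls_tensor hLA hJ).symm
  have hBJ : PicGrp.cls LB hLB * PicGrp.cls JB hJ = 1 := by
    rw [show PicGrp.cls JB hJ = _ from hJB, o, Abel10.pc, PicGrp.pullHom_cls, mul_inv_cancel]
  have hfib : ∀ y : T.left,
      @FGA.eulerCharLE (T.left.residueField y) _ (p.fiber y) (p.fiberOverSpecResidueField y)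
        (Coh.structureModule (p.fiber y)) 1 = 0 ∧
      @FGA.eulerCharLE (T.left.residueField y) _ (p.fiber y) (p.fiberOverSpecResidueField y)
        ((Scheme.Modules.pullback (p.fiberι y)).obj L) 1 = 0 := fun y => by
    letI : (p.fiber y).Over (Spec (CommRingCat.of (T.left.residueField y))) := ⟨p.fiberToSpecResidueField y⟩
    have sq : IsPullback (p.fiberι y) (p.fiber y ↘ Spec (CommRingCat.of (T.left.residueField y))) p
        (T.left.fromSpecResidueField y) := IsPullback.of_hasPullback _ _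
    have h : IsPullback (p.fiberι y ≫ pullback.fst f T.hom) (p.fiber y ↘ Spec (CommRingCat.of (T.left.residueField y))) f
        (T.left.fromSpecResidueField y ≫ T.hom) := sq.paste_horiz (IsPullback.of_hasPullback f T.hom)
    haveI := Abel10.isProper_fieldPt h
    haveI := Abel10.isIntegral_fieldPt h
    have hd := Abel10.topologicalKrullDim_fieldPt h hdim
    have hX := CurveAmple18.curveLike (T.left.residueField y) (p.fiber y) hd.le
    haveI := hX.noetherian
    have hO : Curv2.euler (T.left.residueField y) (p.fiber y) (Coh.structureModule (p.fiber y)) = 0 := by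
      let s : S := (T.left.fromSpecResidueField y ≫ T.hom) (IsLocalRing.closedPoint (T.left.residueField y))
      letI : (f.fiber s).Over (Spec (CommRingCat.of (S.residueField s))) := ⟨f.fiberToSpecResidueField s⟩
      have hs : IsPullback (f.fiberι s) (f.fiber s ↘ Spec (CommRingCat.of (S.residueField s))) f
          (S.fromSpecResidueField s) := IsPullback.of_hasPullback _ _
      haveI := Abel10.isProper_fieldPt hs
      have h1 := Abel10.euler_fieldPt h (L := Coh.structureModule E) (PicLoc.isInvertible_structureModule E)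
      rw [CurveCoh17.euler_iso (PicLoc.pullbackStructureIso _), CurveCoh17.euler_iso (PicLoc.pullbackStructureIso _)] at h1
      exact h1.trans ((Snapper.eulerCharLE_eq_euler (k := S.residueField s) (X := f.fiber s) 1 (hdim s).le
        (M1.isCoh_structureModule (f.fiber s))).symm.trans (hg s))
    have hdeg : ∀ (x : T ⟶ Over.mk f),
        Curv2.deg (T.left.residueField y) (p.fiber y) ((Scheme.Modules.pullback (p.fiberι y)).obj
          ((Scheme.Modules.pullback (Abel10.toSq f T.hom x.left (Over.w x))).obj LΔ)) 1 = 1 := fun x => by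
      let j : (Scheme.Modules.pullback (p.fiberι y)).obj
          ((Scheme.Modules.pullback (Abel10.toSq f T.hom x.left (Over.w x))).obj LΔ) ≅
          (Scheme.Modules.pullback (p.fiberι y ≫ Abel10.toSq f T.hom x.left (Over.w x))).obj LΔ :=
        (Scheme.Modules.pullbackComp _ _).app LΔ
      rw [CurveCoh17.deg_iso j]
      exact Abel10.deg_diag f hdim hLΔ hσΔ (sq.paste_horiz (Abel10.isPullback_toSq f T.hom x.left (Over.w x)))
    have hLA' := PicLoc.isInvertible_pullback (p.fiberι y) hLA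
    have hJ' := PicLoc.isInvertible_pullback (p.fiberι y) hJ
    have hLB' := PicLoc.isInvertible_pullback (p.fiberι y) hLB
    have h1 := congrArg (Abel10.pc (p.fiberι y)) hBJ
    rw [map_mul, map_one, Abel10.pc, PicGrp.pullHom_cls, PicGrp.pullHom_cls, PicGrp.cls_mul_cls_eq_one_iff] at h1
    have hJd := hX.deg_of_tensor_iso hLB' hJ' h1.some
    have hd0 : Curv2.deg (T.left.residueField y) (p.fiber y) ((Scheme.Modules.pullback (p.fiberι y)).obj L) 1 = 0 := by
      rw [CurveCoh17.deg_iso (M2.pullTensorIso (p.fiberι y) LA JB), hX.deg_tensor_invertible hLA' hJ', hdeg A]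
      have hb : Curv2.deg (T.left.residueField y) (p.fiber y) ((Scheme.Modules.pullback (p.fiberι y)).obj LB) 1 = 1 :=
        hdeg B
      omega
    refine ⟨(Snapper.eulerCharLE_eq_euler (k := T.left.residueField y) (X := p.fiber y) 1 hd.le
      (M1.isCoh_structureModule (p.fiber y))).trans hO, (Snapper.eulerCharLE_eq_euler (k := T.left.residueField y)
      (X := p.fiber y) 1 hd.le (Snapper.isCoh_of_isInvertible (PicLoc.isInvertible_pullback _ hL))).trans ?_⟩
    rw [Curv2.deg, hO] at hd0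
    omega
  have main := S16249.result p inferInstance (fun y => (hfib y).1)
    (Abel10.graph f T.hom (eT f σ hσ T).left (Over.w (eT f σ hσ T))) (Abel10.graph_snd f T.hom _ _) L hL
    (fun y => (hfib y).2)
  have iff : ∀ R : T ⟶ Over.mk f, Φ f hLΔ σ hσ R = QuotientGroup.mk (o f hLΔ A * (o f hLΔ B)⁻¹) ↔
      ∃ M : T.left.Modules, PicF.IsInvertible M ∧
        Nonempty (CohB1.tensorMod L (ClSub.idealMod (Abel10.graph f T.hom R.left (Over.w R)).ker) ≅
          CohB1.tensorMod (ClSub.idealMod (Abel10.graph f T.hom (eT f σ hσ T).left (Over.w (eT f σ hσ T))).ker)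
            ((Scheme.Modules.pullback p).obj M)) := by
    intro R
    obtain ⟨hIR, hIRe⟩ := o_ideal f hLΔ hσΔ R
    have key : ∀ (M : T.left.Modules) (hM : PicF.IsInvertible M),
        Nonempty (CohB1.tensorMod L (ClSub.idealMod (Abel10.graph f T.hom R.left (Over.w R)).ker) ≅
          CohB1.tensorMod (ClSub.idealMod (Abel10.graph f T.hom (eT f σ hσ T).left (Over.w (eT f σ hσ T))).ker)
            ((Scheme.Modules.pullback p).obj M)) ↔
        o f hLΔ A * (o f hLΔ B)⁻¹ = o f hLΔ R * (o f hLΔ (eT f σ hσ T))⁻¹ *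
          Abel10.pc (PicF.XTproj f T) (PicGrp.cls M hM) := fun M hM => by
      have hM' : PicF.IsInvertible ((Scheme.Modules.pullback p).obj M) := PicLoc.isInvertible_pullback _ hM
      rw [← PicGrp.cls_eq_cls_iff (M2.isInvertible_tensor hL hIR) (M2.isInvertible_tensor hIσ hM'),
        ← AlgEquiv22.cls_tensor hL hIR, ← AlgEquiv22.cls_tensor hIσ hM', hIRe, hIσe, hcL, Abel10.pc,
        PicGrp.pullHom_cls, mul_inv_eq_iff_eq_mul (b := o f hLΔ R)]
      exact ⟨fun h => h.trans (by ac_rfl), fun h => h.trans (by ac_rfl)⟩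
    rw [Φ, mk_eq_mk_iff]
    constructor
    · rintro ⟨m, hm⟩
      obtain ⟨M, hM, rfl⟩ := PicGrp.exists_eq_cls m
      exact ⟨M, hM, (key M hM).2 hm⟩
    · rintro ⟨M, hM, h⟩
      exact ⟨_, (key M hM).1 h⟩
  obtain ⟨P', ⟨hP', hP''⟩, huniq⟩ := main
  let R : T ⟶ Over.mk f := Over.homMk (P' ≫ pullback.fst f T.hom)
    (show (P' ≫ pullback.fst f T.hom) ≫ f = T.hom by
      rw [Category.assoc, pullback.condition, reassoc_of% hP'])
  have hR : Abel10.graph f T.hom R.left (Over.w R) = P' := by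
    apply pullback.hom_ext
    · exact pullback.lift_fst _ _ _
    · exact (pullback.lift_snd _ _ _).trans hP'.symm
  refine ⟨R, (iff R).2 (by rw [hR]; exact hP''), fun R' h => ?_⟩
  have := huniq (Abel10.graph f T.hom R'.left (Over.w R')) ⟨Abel10.graph_snd f T.hom _ _, (iff R').1 h⟩
  refine Over.OverMorphism.ext ?_
  rw [show R.left = P' ≫ pullback.fst f T.hom from rfl, ← this]
  exact (pullback.lift_fst _ _ _).symm

include hg hσΔ

theorem Φ_injective (T : Over S) : Function.Injective (Φ f hLΔ σ hσ (T := T)) := fun A B h =>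
  (existsUnique_point f hLΔ σ hσ hg hσΔ A (eT f σ hσ T)).unique rfl h.symm

/-- The classes of points form a subgroup. -/
noncomputable def pts (T : Over S) : Subgroup (Rel f T) :=
  Subgroup.ofDiv (Set.range (Φ f hLΔ σ hσ (T := T))) (Set.range_nonempty_iff_nonempty.2 ⟨eT f σ hσ T⟩) <| by
    rintro _ ⟨A, rfl⟩ _ ⟨B, rfl⟩
    obtain ⟨R, hR, -⟩ := existsUnique_point f hLΔ σ hσ hg hσΔ A B
    refine ⟨R, hR.trans ?_⟩
    rw [Φ, Φ, ← QuotientGroup.mk_inv, ← QuotientGroup.mk_mul]
    congr 1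
    simp [mul_assoc, mul_comm, mul_left_comm]

/-- The points as classes. -/
noncomputable def ptsEquiv (T : Over S) : (T ⟶ Over.mk f) ≃ pts f hLΔ σ hσ hg hσΔ T :=
  Equiv.ofBijective (fun P => ⟨Φ f hLΔ σ hσ P, P, rfl⟩)
    ⟨fun A B h => Φ_injective f hLΔ σ hσ hg hσΔ T (congrArg Subtype.val h), fun ⟨_, P, h⟩ => ⟨P, Subtype.ext h⟩⟩

/-- The group law on the points. -/
@[reducible] noncomputable def ptsGroup (T : Over S) : Group (T ⟶ Over.mk f) :=
  (ptsEquiv f hLΔ σ hσ hg hσΔ T).group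

theorem Φ_mul {T : Over S} (A B : T ⟶ Over.mk f) :
    letI := ptsGroup f hLΔ σ hσ hg hσΔ T
    Φ f hLΔ σ hσ (A * B) = Φ f hLΔ σ hσ A * Φ f hLΔ σ hσ B := by
  letI := ptsGroup f hLΔ σ hσ hg hσΔ T
  exact congrArg Subtype.val ((ptsEquiv f hLΔ σ hσ hg hσΔ T).apply_symm_apply
    (ptsEquiv f hLΔ σ hσ hg hσΔ T A * ptsEquiv f hLΔ σ hσ hg hσΔ T B))

omit hg hσΔ in
theorem Φ_comp {T T' : Over S} (g : T' ⟶ T) (A B C : T ⟶ Over.mk f)
    (h : Φ f hLΔ σ hσ A = Φ f hLΔ σ hσ B * Φ f hLΔ σ hσ C) :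
    Φ f hLΔ σ hσ (g ≫ A) = Φ f hLΔ σ hσ (g ≫ B) * Φ f hLΔ σ hσ (g ≫ C) := by
  rw [Φ, Φ, Φ, ← QuotientGroup.mk_mul, mk_eq_mk_iff] at h ⊢
  obtain ⟨m, hm⟩ := h
  refine ⟨Abel10.pc g.left m, ?_⟩
  have := congrArg (Abel10.pc (PicF.XTmap f g)) hm
  simp only [map_mul, map_inv, o_comp, eT_comp] at this
  rw [this, Abel10.pc_comp (PicF.XTmap f g) (PicF.XTproj f T) (show PicF.XTmap f g ≫ PicF.XTproj f T = PicF.XTproj f T' ≫ g.left from pullback.lift_snd _ _ _),
    Abel10.pc_comp (PicF.XTproj f T') g.left rfl]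

/-- The functor of points with the group law. -/
noncomputable def ptsFun : (Over S)ᵒᵖ ⥤ GrpCat.{u} where
  obj T := @GrpCat.of (T.unop ⟶ Over.mk f) (ptsGroup f hLΔ σ hσ hg hσΔ T.unop)
  map {T T'} g :=
    letI := ptsGroup f hLΔ σ hσ hg hσΔ T.unop
    letI := ptsGroup f hLΔ σ hσ hg hσΔ T'.unop
    GrpCat.ofHom (MonoidHom.mk' (fun P => g.unop ≫ P) fun A B => Φ_injective f hLΔ σ hσ hg hσΔ T'.unop (by
      rw [Φ_mul f hLΔ σ hσ hg hσΔ]
      exact Φ_comp f hLΔ σ hσ g.unop _ A B (Φ_mul f hLΔ σ hσ hg hσΔ A B)))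
  map_id T := by
    refine ConcreteCategory.hom_ext _ _ fun P => ?_
    exact Category.id_comp (show T.unop ⟶ Over.mk f from P)
  map_comp {X Y Z} g h := by
    refine ConcreteCategory.hom_ext _ _ fun P => ?_
    exact Category.assoc h.unop g.unop (show X.unop ⟶ Over.mk f from P)

/-- `E` represents it. -/
noncomputable def ptsRep : (ptsFun f hLΔ σ hσ hg hσΔ ⋙ forget _).RepresentableBy (Over.mk f) where
  homEquiv := Equiv.refl _
  homEquiv_comp _ _ := rfl

/-- The group scheme. -/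
@[reducible] noncomputable def law : GrpObj (Over.mk f) :=
  GrpObj.ofRepresentableBy (Over.mk f) (ptsFun f hLΔ σ hσ hg hσΔ) (ptsRep f hLΔ σ hσ hg hσΔ)

theorem law_mul {T : Over S} (A B : T ⟶ Over.mk f) :
    letI := law f hLΔ σ hσ hg hσΔ
    Φ f hLΔ σ hσ (A * B) = Φ f hLΔ σ hσ A * Φ f hLΔ σ hσ B := by
  have h : (letI := law f hLΔ σ hσ hg hσΔ; A * B) = (letI := ptsGroup f hLΔ σ hσ hg hσΔ T; A * B) :=
    (CategoryTheory.yonedaGrpObjIsoOfRepresentableBy (Over.mk f) (ptsFun f hLΔ σ hσ hg hσΔ)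
      (ptsRep f hLΔ σ hσ hg hσΔ)).hom.app (Opposite.op T) |>.hom.map_mul A B
  show Φ f hLΔ σ hσ (letI := law f hLΔ σ hσ hg hσΔ; A * B) = _
  rw [h]
  exact Φ_mul f hLΔ σ hσ hg hσΔ A B

/-- The characterisation of the law by ideals. -/
theorem Φ_mul_iff {T : Over S} (P Q R : T ⟶ Over.mk f) :
    Φ f hLΔ σ hσ R = Φ f hLΔ σ hσ P * Φ f hLΔ σ hσ Q ↔ ∃ M : T.left.Modules, PicF.IsInvertible M ∧
      Nonempty (CohB1.tensorMod
          (ClSub.idealMod (Abel10.graph f T.hom P.left (Over.w P)).ker)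
          (ClSub.idealMod (Abel10.graph f T.hom Q.left (Over.w Q)).ker) ≅
        CohB1.tensorMod (CohB1.tensorMod
          (ClSub.idealMod (Abel10.graph f T.hom R.left (Over.w R)).ker)
          (ClSub.idealMod (Abel10.graph f T.hom (eT f σ hσ T).left (Over.w (eT f σ hσ T))).ker))
          ((Scheme.Modules.pullback (PicF.XTproj f T)).obj M)) := by
  obtain ⟨hP, hPe⟩ := o_ideal f hLΔ hσΔ P
  obtain ⟨hQ, hQe⟩ := o_ideal f hLΔ hσΔ Q
  obtain ⟨hR, hRe⟩ := o_ideal f hLΔ hσΔ R
  obtain ⟨hσ', hσe⟩ := o_ideal f hLΔ hσΔ (eT f σ hσ T)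
  rw [Φ, Φ, Φ, ← QuotientGroup.mk_mul, mk_eq_mk_iff]
  have key : ∀ (M : T.left.Modules) (hM : PicF.IsInvertible M),
      Nonempty (CohB1.tensorMod
          (ClSub.idealMod (Abel10.graph f T.hom P.left (Over.w P)).ker)
          (ClSub.idealMod (Abel10.graph f T.hom Q.left (Over.w Q)).ker) ≅
        CohB1.tensorMod (CohB1.tensorMod
          (ClSub.idealMod (Abel10.graph f T.hom R.left (Over.w R)).ker)
          (ClSub.idealMod (Abel10.graph f T.hom (eT f σ hσ T).left (Over.w (eT f σ hσ T))).ker))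
          ((Scheme.Modules.pullback (PicF.XTproj f T)).obj M)) ↔
      o f hLΔ P * (o f hLΔ (eT f σ hσ T))⁻¹ * (o f hLΔ Q * (o f hLΔ (eT f σ hσ T))⁻¹) =
        o f hLΔ R * (o f hLΔ (eT f σ hσ T))⁻¹ * Abel10.pc (PicF.XTproj f T) (PicGrp.cls M hM)⁻¹ := fun M hM => by
    have hM' : PicF.IsInvertible ((Scheme.Modules.pullback (PicF.XTproj f T)).obj M) := PicLoc.isInvertible_pullback _ hM
    rw [← PicGrp.cls_eq_cls_iff (M2.isInvertible_tensor hP hQ)
        (M2.isInvertible_tensor (M2.isInvertible_tensor hR hσ') hM'),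
      ← AlgEquiv22.cls_tensor hP hQ, ← AlgEquiv22.cls_tensor (M2.isInvertible_tensor hR hσ') hM',
      ← AlgEquiv22.cls_tensor hR hσ', hPe, hQe, hRe, hσe, map_inv, Abel10.pc, PicGrp.pullHom_cls]
    generalize o f hLΔ P = a, o f hLΔ Q = b, o f hLΔ R = c, o f hLΔ (eT f σ hσ T) = d,
      PicGrp.cls ((Scheme.Modules.pullback (PicF.XTproj f T)).obj M) _ = m
    exact law_alg a b c d m
  constructor
  · rintro ⟨m, hm⟩
    obtain ⟨M, hM, hMe⟩ := PicGrp.exists_eq_cls m⁻¹
    refine ⟨M, hM, (key M hM).2 ?_⟩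
    rw [hm, ← hMe, inv_inv]
  · rintro ⟨M, hM, h⟩
    exact ⟨_, (key M hM).1 h⟩

end Aux

/-- Let f : E → S be a family of elliptic curves: proper, smooth of relative dimension one, with
geometrically connected fibres whose structure sheaf has Euler characteristic 0 (genus one),
together with a section σ. Then E, regarded over S, carries one and only one structure of S-group
scheme whose multiplication on T-valued points (T any S-scheme) is characterised by: P·Q = R if and
only if I_P ⊗ I_Q ≅ I_R ⊗ I_{σ_T} ⊗ q^*M on E_T = E ×_S T for some invertible O_T-module M, where q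
: E_T → T is the projection, I_P denotes the ideal sheaf of the section of q induced by P, and σ_T
is the section induced by σ; in divisor notation O(P) ⊗ O(Q) ⊗ O(−σ) ≅ O(R) up to a module pulled
back from T. (The published display of this relation carries O(−R) instead of O(R), a misprint: the
fibre degrees would be 1 and −1.) -/
theorem result
    {E S : Scheme.{u}} (f : E ⟶ S) [IsProper f] [SmoothOfRelativeDimension 1 f]
    (hc : GeometricallyConnected f)
    (hg : ∀ s : S, @FGA.eulerCharLE (S.residueField s) _ (f.fiber s) (f.fiberOverSpecResidueField s)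
      (Coh.structureModule (f.fiber s)) 1 = 0)
    (σ : S ⟶ E) (hσ : σ ≫ f = 𝟙 S) :
    ∃! g : GrpObj (Over.mk f), ∀ (T : Over S) (P Q R : T ⟶ Over.mk f),
      P * Q = R ↔ ∃ M : T.left.Modules, PicF.IsInvertible M ∧
        Nonempty (CohB1.tensorMod
            (ClSub.idealMod (pullback.lift P.left (𝟙 T.left)
              ((Over.w P).trans (Category.id_comp T.hom).symm) : T.left ⟶ PicF.XT f T).ker)
            (ClSub.idealMod (pullback.lift Q.left (𝟙 T.left)
              ((Over.w Q).trans (Category.id_comp T.hom).symm) : T.left ⟶ PicF.XT f T).ker) ≅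
          CohB1.tensorMod (CohB1.tensorMod
            (ClSub.idealMod (pullback.lift R.left (𝟙 T.left)
              ((Over.w R).trans (Category.id_comp T.hom).symm) : T.left ⟶ PicF.XT f T).ker)
            (ClSub.idealMod (PicF.secT f σ hσ T).ker))
            ((Scheme.Modules.pullback (PicF.XTproj f T)).obj M)) := by
  letI : ∀ Y : Scheme.{u}, PicGrp.Law Y := fun Y => Groth.Agent.M2.law Y
  haveI : Smooth f := SmoothOfRelativeDimension.smooth (n := 1) f
  haveI := hc
  haveI : SmoothOfRelativeDimension 1 (pullback.snd f f) :=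
    (smoothOfRelativeDimension_isStableUnderBaseChange 1).of_isPullback (IsPullback.of_hasPullback f f) ‹_›
  have hE := (Groth.Agent.S15990.result (pullback.snd f f) (pullback.diagonal f) (pullback.diagonal_snd f)).1
  have hJ := Groth.Agent.M2.isInvertible_idealMod _ hE
  obtain ⟨LΔ, hLΔ, hinv⟩ := PicGrp.exists_eq_cls (PicGrp.cls _ hJ)⁻¹
  obtain ⟨eΔ⟩ := (PicGrp.cls_mul_cls_eq_one_iff hLΔ hJ).1 (by rw [← hinv, inv_mul_cancel])
  obtain ⟨σΔ, hσΔ⟩ := Groth.Agent.Abel10.exists_locEq hE hLΔ eΔ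
  let g₀ := law f hLΔ σ hσ hg hσΔ
  have hg₀ : ∀ (T : Over S) (P Q R : T ⟶ Over.mk f), (letI := g₀; P * Q) = R ↔
      Φ f hLΔ σ hσ R = Φ f hLΔ σ hσ P * Φ f hLΔ σ hσ Q := fun T P Q R => by
    rw [← law_mul f hLΔ σ hσ hg hσΔ P Q]
    exact ⟨fun h => h ▸ rfl, fun h => (Φ_injective f hLΔ σ hσ hg hσΔ T h).symm⟩
  refine ⟨g₀, fun T P Q R => (hg₀ T P Q R).trans (Φ_mul_iff f hLΔ σ hσ hg hσΔ P Q R), fun g hgg => ?_⟩
  have h := (hgg _ (CartesianMonoidalCategory.fst (Over.mk f) (Over.mk f))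
    (CartesianMonoidalCategory.snd (Over.mk f) (Over.mk f)) _).2
    (((hg₀ _ _ _ _).trans (Φ_mul_iff f hLΔ σ hσ hg hσΔ _ _ _)).1 rfl)
  have h' : CartesianMonoidalCategory.lift (CartesianMonoidalCategory.fst (Over.mk f) (Over.mk f))
      (CartesianMonoidalCategory.snd (Over.mk f) (Over.mk f)) ≫ g.mul =
    CartesianMonoidalCategory.lift (CartesianMonoidalCategory.fst (Over.mk f) (Over.mk f))
      (CartesianMonoidalCategory.snd (Over.mk f) (Over.mk f)) ≫ g₀.mul := h
  rw [CartesianMonoidalCategory.lift_fst_snd, Category.id_comp, Category.id_comp] at h'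
  ext
  exact congrArg CommaMorphism.left h'

end Groth.Agent.S16250
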