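import Groth.Statements.S16251
import Groth.Agent.Lib.Constr24.Sub

set_option autoImplicit false
open CategoryTheory CategoryTheory.Limits AlgebraicGeometry Opposite
universe u
open EtPBC

namespace Groth.Agent.S16251

/-- Let ℓ be a prime, X a locally Noetherian scheme and F = (F_n) an ℓ-adic projective system of abelian
sheaves on the small étale site of X, indexed from 0 (so ℓ^(n+1) F_n = 0 and, for n ≤ m, the
transition map F_m ⟶ F_n is a quotient map modulo ℓ^(n+1)). If the first member F_0 is
constructible, then every member F_n is constructible. (The converse is trivial. The published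
statement indexes the system from 1, with ℓ^n killing the n-th member; the statement here indexes it
from 0.) -/
theorem result (ℓ : ℕ) [Fact ℓ.Prime]
    (X : Scheme.{u}) [IsLocallyNoetherian X]
    (F : ARSys.PS (EtCoh.Ab X)) (hF : ARSys.IsAdic (Ideal.span {(ℓ : ℤ)}) F)
    (h0 : EtPBC.IsConstructible (F.obj (op 0))) (n : ℕ) :
    EtPBC.IsConstructible (F.obj (op n)) := by
  induction n with
  | zero => exact h0
  | succ n ih =>
    set J : Ideal ℤ := Ideal.span {(ℓ : ℤ)} with hJ
    have hmem : ∀ {k : ℕ} {a : ℤ}, a ∈ J ^ k → ∃ b : ℤ, b * (ℓ : ℤ) ^ k = a := by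
      intro k a ha
      rw [hJ, Ideal.span_singleton_pow] at ha
      exact Ideal.mem_span_singleton'.1 ha
    have hpow : ∀ k : ℕ, ((ℓ : ℤ) ^ k) ∈ J ^ k := fun k => by
      rw [hJ, Ideal.span_singleton_pow]; exact Ideal.mem_span_singleton_self _
    obtain ⟨hkill, hquot⟩ := hF
    set A := F.obj (op (n + 1)) with hA
    set B := F.obj (op n) with hB
    set m : A ⟶ A := ((ℓ : ℤ) ^ (n + 1)) • 𝟙 A with hm
    let t₀ : A ⟶ F.obj (op 0) := ARSys.tr F (Nat.zero_le (n + 1))
    let t : A ⟶ B := ARSys.tr F (Nat.le_succ n)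
    have hm0 : ARSys.HomKilledBy (J ^ (0 + 1)) m := by
      intro a ha
      obtain ⟨b, rfl⟩ := hmem ha
      rw [hm, smul_smul, mul_assoc, ← pow_add, mul_smul,
        hkill (n + 1) _ (by rw [show (0 + 1 + (n + 1) : ℕ) = n + 1 + 1 by omega]; exact hpow _)]
      exact smul_zero _
    obtain ⟨ψ, hψ, -⟩ := (hquot 0 (n + 1) (Nat.zero_le _)).2 A m hm0
    have hmt : m ≫ t = 0 := by
      rw [hm, Linear.smul_comp, Category.id_comp, ← Category.comp_id t, ← Linear.comp_smul,
        hkill n _ (hpow _), comp_zero]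
    haveI : Epi t₀ := ⟨fun {Z} g g' h => by
      have hk : ARSys.HomKilledBy (J ^ (0 + 1)) (t₀ ≫ g) := fun a ha => by
        rw [← Linear.smul_comp, ← Category.comp_id t₀, ← Linear.comp_smul,
          (hquot 0 (n + 1) (Nat.zero_le _)).1 a ha, comp_zero, zero_comp]
      exact ((hquot 0 (n + 1) (Nat.zero_le _)).2 Z _ hk).unique rfl h.symm⟩
    haveI : Epi t := ⟨fun {Z} g g' h => by
      have hk : ARSys.HomKilledBy (J ^ (n + 1)) (t ≫ g) := fun a ha => by
        rw [← Linear.smul_comp, ← Category.comp_id t, ← Linear.comp_smul,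
          (hquot n (n + 1) (Nat.le_succ _)).1 a ha, comp_zero, zero_comp]
      exact ((hquot n (n + 1) (Nat.le_succ _)).2 Z _ hk).unique rfl h.symm⟩
    have hw : ψ ≫ t = 0 := by
      rw [← cancel_epi t₀, comp_zero, ← Category.assoc, hψ, hmt]
    have hk : ARSys.HomKilledBy (J ^ (n + 1)) (cokernel.π ψ) := fun a ha => by
      obtain ⟨b, rfl⟩ := hmem ha
      rw [mul_smul, ← Category.id_comp (cokernel.π ψ), ← Linear.smul_comp, ← hm, ← hψ,
        Category.assoc, cokernel.condition, comp_zero, smul_zero]
    obtain ⟨χ, hχ, -⟩ := (hquot n (n + 1) (Nat.le_succ _)).2 _ _ hk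
    let e : cokernel ψ ≅ B :=
      ⟨cokernel.desc ψ t hw, χ, by
        apply coequalizer.hom_ext
        show cokernel.π ψ ≫ _ = cokernel.π ψ ≫ _
        rw [← Category.assoc, cokernel.π_desc, hχ, Category.comp_id], by
        rw [← cancel_epi t, Category.comp_id, ← Category.assoc, hχ, cokernel.π_desc]⟩
    let S : ShortComplex (EtCoh.Ab X) :=
      ShortComplex.mk (kernel.ι (cokernel.π ψ)) (cokernel.π ψ) (kernel.condition _)
    have hS : S.ShortExact := ShortComplex.ShortExact.mk'
      (S.exact_of_f_is_kernel (kernelIsKernel _)) inferInstance inferInstance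
    refine Constr24.constructible_extension hS ?_ ?_
    · exact Constr24.isConstructible_quotient (Abelian.factorThruImage ψ) h0
    · exact Constr24.isConstructible_iso e.symm ih

end Groth.Agent.S16251
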