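import Groth.Statements.S16254
import Mathlib

set_option autoImplicit false
universe u
open scoped BigOperators
open LefPen

namespace Groth.Agent.S16254

/-- Let A be a commutative ring and m_1, …, m_s ∈ A^(N+1) linearly independent vectors whose span M has
projective (that is, locally free) quotient A^(N+1)/M. Write a_0, …, a_N for the coordinate
functions, so that restricting linear forms to M and expressing them in the basis dual to the m_i
gives the A-algebra map A[a_0, …, a_N] ⟶ A[y_1, …, y_s], a_j ↦ Σ_i (m_i)_j y_i (the map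
Sym((A^(N+1))^∨) ⟶ Sym(M^∨)). Its kernel is the ideal generated by the (s+1) × (s+1) minors of the
(s+1) × (N+1) matrix whose first s rows are the coordinate rows of m_1, …, m_s and whose last row is
(a_0, …, a_N). The minors are indexed here by all maps c from Fin (s+1) to Fin (N+1) choosing the
columns (non-injective choices give zero). -/
theorem result
    (A : Type u) [CommRing A] (N s : ℕ) (m : Fin s → (Fin (N + 1) → A))
    (hli : LinearIndependent A m)
    (hproj : Module.Projective A ((Fin (N + 1) → A) ⧸ Submodule.span A (Set.range m))) :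
    RingHom.ker (MvPolynomial.aeval (R := A) (S₁ := MvPolynomial (Fin s) A)
        (fun j : Fin (N + 1) => ∑ i : Fin s, MvPolynomial.C (m i j) * MvPolynomial.X i)) =
      Ideal.span (Set.range fun c : Fin (s + 1) → Fin (N + 1) =>
        (Matrix.of fun (i : Fin (s + 1)) (j : Fin (s + 1)) =>
          (Fin.snoc (α := fun _ => MvPolynomial (Fin (N + 1)) A)
            (fun i' : Fin s => MvPolynomial.C (m i' (c j))) (MvPolynomial.X (c j)) i)).det) := by
  classical
  set φ := MvPolynomial.aeval (R := A) (S₁ := MvPolynomial (Fin s) A)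
        (fun j : Fin (N + 1) => ∑ i : Fin s, MvPolynomial.C (m i j) * MvPolynomial.X i) with hφ
  let col : Fin (N + 1) → Fin (s + 1) → (MvPolynomial (Fin (N + 1)) A) := fun k =>
    Fin.snoc (α := fun _ => (MvPolynomial (Fin (N + 1)) A)) (fun i => MvPolynomial.C (m i k)) (MvPolynomial.X k)
  have hminor : ∀ c : Fin (s + 1) → Fin (N + 1),
      (Matrix.of fun (i : Fin (s + 1)) (j : Fin (s + 1)) =>
        (Fin.snoc (α := fun _ => MvPolynomial (Fin (N + 1)) A)
            (fun i' : Fin s => MvPolynomial.C (m i' (c j))) (MvPolynomial.X (c j)) i)).det =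
        Matrix.detRowAlternating (R := (MvPolynomial (Fin (N + 1)) A)) (fun j => col (c j)) := fun c => by
    rw [← Matrix.det_transpose]
    rfl
  set I : Ideal (MvPolynomial (Fin (N + 1)) A) := Ideal.span (Set.range fun c : Fin (s + 1) → Fin (N + 1) =>
        (Matrix.of fun (i : Fin (s + 1)) (j : Fin (s + 1)) =>
          (Fin.snoc (α := fun _ => MvPolynomial (Fin (N + 1)) A)
            (fun i' : Fin s => MvPolynomial.C (m i' (c j))) (MvPolynomial.X (c j)) i)).det) with hI
  -- a left inverse of the inclusion of the span
  obtain ⟨σ, hσ⟩ := Module.projective_lifting_property (Submodule.span A (Set.range m)).mkQ LinearMap.id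
    (Submodule.mkQ_surjective _)
  let pr : (Fin (N + 1) → A) →ₗ[A] Submodule.span A (Set.range m) :=
    (LinearMap.id - σ ∘ₗ (Submodule.span A (Set.range m)).mkQ).codRestrict _ fun v => by
      rw [← Submodule.Quotient.mk_eq_zero, ← Submodule.mkQ_apply]
      have h := DFunLike.congr_fun hσ ((Submodule.span A (Set.range m)).mkQ v)
      simp only [LinearMap.comp_apply, LinearMap.id_apply] at h
      simp only [LinearMap.sub_apply, LinearMap.id_apply, LinearMap.comp_apply, map_sub, h, sub_self]
  let p : (Fin (N + 1) → A) →ₗ[A] (Fin s → A) :=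
    (Module.Basis.span hli).equivFun.toLinearMap ∘ₗ pr
  have hp : ∀ i, p (m i) = Pi.single i 1 := fun i => by
    have h1 : pr (m i) = Module.Basis.span hli i := by
      refine Subtype.ext ?_
      rw [Module.Basis.span_apply]
      have h0 : (Submodule.span A (Set.range m)).mkQ (m i) = 0 := by
        rw [Submodule.mkQ_apply, Submodule.Quotient.mk_eq_zero]
        exact Submodule.subset_span ⟨i, rfl⟩
      simp [pr, h0]
    funext k
    simp only [p, LinearMap.comp_apply, h1, LinearEquiv.coe_coe, Module.Basis.equivFun_apply,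
      Module.Basis.repr_self, Finsupp.single_apply, Pi.single_apply]
    simp [eq_comm]
  let P : Fin (N + 1) → Fin s → A := fun k => p (Pi.single k 1)
  have hP : ∀ i i', ∑ k, m i k * P k i' = if i' = i then 1 else 0 := fun i i' => by
    have h := congrFun (hp i) i'
    rw [pi_eq_sum_univ' (m i), map_sum] at h
    simp only [map_smul, Finset.sum_apply, Pi.smul_apply, smul_eq_mul, Pi.single_apply] at h
    exact h
  let ψ : MvPolynomial (Fin s) A →ₐ[A] (MvPolynomial (Fin (N + 1)) A) :=
    MvPolynomial.aeval fun i => ∑ k, MvPolynomial.C (P k i) * MvPolynomial.X k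
  refine le_antisymm (fun f hf => ?_) (Ideal.span_le.2 ?_)
  · have hgen : ∀ j, MvPolynomial.X j - ψ (φ (MvPolynomial.X j)) ∈ I := by
      intro j
      let Q : Fin (s + 1) → Fin (N + 1) → (MvPolynomial (Fin (N + 1)) A) :=
        Fin.snoc (α := fun _ => Fin (N + 1) → (MvPolynomial (Fin (N + 1)) A)) (fun i k => MvPolynomial.C (P k i)) (Pi.single j 1)
      have hmem : Matrix.detRowAlternating (R := (MvPolynomial (Fin (N + 1)) A)) (fun i => ∑ k, Q i k • col k) ∈ I := by
        rw [← AlternatingMap.coe_multilinearMap, MultilinearMap.map_sum]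
        refine Submodule.sum_mem _ fun c _ => ?_
        rw [MultilinearMap.map_smul_univ, smul_eq_mul, AlternatingMap.coe_multilinearMap, ← hminor c]
        exact Ideal.mul_mem_left _ _ (Ideal.subset_span ⟨c, rfl⟩)
      let T : Matrix (Fin s ⊕ Fin 1) (Fin s ⊕ Fin 1) (MvPolynomial (Fin (N + 1)) A) := Matrix.fromBlocks 1
        (Matrix.of fun i _ => ∑ k, MvPolynomial.C (P k i) * MvPolynomial.X k)
        (Matrix.of fun _ i => MvPolynomial.C (m i j)) (Matrix.of fun _ _ => MvPolynomial.X j)
      have hT : Matrix.detRowAlternating (R := (MvPolynomial (Fin (N + 1)) A)) (fun i => ∑ k, Q i k • col k) =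
          (Matrix.reindex finSumFinEquiv finSumFinEquiv T).det := by
        refine congrArg Matrix.det (Matrix.ext fun r c => ?_)
        obtain ⟨r, rfl⟩ := finSumFinEquiv.surjective r
        obtain ⟨c, rfl⟩ := finSumFinEquiv.surjective c
        rw [Matrix.reindex_apply, Matrix.submatrix_apply, Equiv.symm_apply_apply, Equiv.symm_apply_apply]
        rw [Finset.sum_apply]
        rcases r with r | r <;> rcases c with c | c
        · simp only [Q, col, finSumFinEquiv_apply_left, Pi.smul_apply, smul_eq_mul, T, Matrix.fromBlocks_apply₁₁,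
            show (Fin.castAdd 1 r) = r.castSucc from rfl, show (Fin.castAdd 1 c) = c.castSucc from rfl, Fin.snoc_castSucc]
          simp only [← MvPolynomial.C_mul, ← map_sum, mul_comm (P _ r)]
          rw [hP c r, Matrix.one_apply]
          split_ifs <;> simp
        · simp [Q, col, T, show (Fin.castAdd 1 r) = r.castSucc from rfl, show Fin.natAdd s c = Fin.last s from
            Fin.ext (by simp), Fin.snoc_castSucc, Fin.snoc_last]
        · simp [Q, col, T, show (Fin.castAdd 1 c) = c.castSucc from rfl, show Fin.natAdd s r = Fin.last s from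
            Fin.ext (by simp), Fin.snoc_castSucc, Fin.snoc_last, Pi.single_apply]
        · simp [Q, col, T, show Fin.natAdd s r = Fin.last s from Fin.ext (by simp),
            show Fin.natAdd s c = Fin.last s from Fin.ext (by simp), Fin.snoc_last, Pi.single_apply]
      rw [hT, Matrix.det_reindex_self, Matrix.det_fromBlocks_one₁₁, Matrix.det_fin_one] at hmem
      refine Eq.mp (congrArg (· ∈ I) ?_) hmem
      simp [φ, ψ, Matrix.mul_apply, MvPolynomial.algebraMap_eq]
    have hall : ∀ g : (MvPolynomial (Fin (N + 1)) A), g - ψ (φ g) ∈ I := by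
      intro g
      induction g using MvPolynomial.induction_on with
      | C a => simp [MvPolynomial.algebraMap_eq]
      | add g h hg hh =>
        rw [map_add, map_add, add_sub_add_comm]
        exact add_mem hg hh
      | mul_X g j hg =>
        rw [map_mul, map_mul]
        rw [show g * MvPolynomial.X j - ψ (φ g) * ψ (φ (MvPolynomial.X j)) =
          (g - ψ (φ g)) * MvPolynomial.X j + ψ (φ g) * (MvPolynomial.X j - ψ (φ (MvPolynomial.X j))) by ring]
        exact add_mem (Ideal.mul_mem_right _ _ hg) (Ideal.mul_mem_left _ _ (hgen j))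
    have h := hall f
    rwa [RingHom.mem_ker.1 hf, map_zero, sub_zero] at h
  · rintro _ ⟨c, rfl⟩
    rw [SetLike.mem_coe, RingHom.mem_ker, AlgHom.map_det]
    set M := φ.mapMatrix (Matrix.of fun (i : Fin (s + 1)) (j : Fin (s + 1)) =>
        (Fin.snoc (α := fun _ => MvPolynomial (Fin (N + 1)) A)
            (fun i' : Fin s => MvPolynomial.C (m i' (c j))) (MvPolynomial.X (c j)) i)) with hM
    let v : Fin (s + 1) → MvPolynomial (Fin s) A :=
      Fin.snoc (α := fun _ => MvPolynomial (Fin s) A) (fun i => MvPolynomial.X i) (-1)
    have hv : Matrix.vecMul v M = 0 := by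
      funext j
      simp [Matrix.vecMul, dotProduct, Fin.sum_univ_castSucc, hM, v, φ, Fin.snoc_castSucc, Fin.snoc_last,
        mul_comm]
    have h2 := congrArg (fun w => Matrix.vecMul w M.adjugate (Fin.last s)) hv
    simpa [Matrix.vecMul_vecMul, Matrix.mul_adjugate, Matrix.vecMul_smul, v, Fin.snoc_last] using h2

end Groth.Agent.S16254
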