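import Groth.Statements.S8719
import Groth.Agent.Lib.PSIdeal.Basic
import Mathlib.LinearAlgebra.Matrix.NonsingularInverse

set_option autoImplicit false
universe u
open VanCyc

namespace Groth.Agent.S8719

/-- The formal computation carried out in its proof: let k be a field and f a power series in k[[x_0,
..., x_n]] with vanishing constant and linear terms whose degree-two part is a non-degenerate
quadratic form (the Gram determinant of its polar bilinear form is a unit). Then the partial
derivatives of f generate the maximal ideal of k[[x_0, ..., x_n]] (so f together with its partial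
derivatives cut out the origin with multiplicity one). -/
theorem result (k : Type u) [Field k] (n : ℕ)
    (f : MvPowerSeries (Fin (n + 1)) k) (hf : VanCyc.NondegQuadSeries f) :
    Ideal.span (Set.range fun i : Fin (n + 1) => MvPowerSeries.pderiv k i f) =
      IsLocalRing.maximalIdeal (MvPowerSeries (Fin (n + 1)) k) := by
  classical
  rw [← PSIdeal.varIdeal_eq_maximalIdeal]
  obtain ⟨⟨hc, hl⟩, hq⟩ := hf
  let M := VanCyc.polarMatrix (VanCyc.quadPart f)
  have hlin : ∀ i j, MvPowerSeries.coeff (Finsupp.single j 1) (MvPowerSeries.pderiv k i f) = M i j := by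
    intro i j
    rw [MvPowerSeries.coeff_pderiv]
    simp only [M, VanCyc.polarMatrix, VanCyc.quadPart]
    rcases lt_trichotomy i j with h | h | h
    · rw [if_neg h.ne, if_pos h, add_comm (Finsupp.single j 1)]
      simp [h.ne', h.ne, h]
    · subst h
      rw [if_pos rfl, ← Finsupp.single_add]; simp [mul_comm]; norm_num
    · rw [if_neg h.ne', if_neg (not_lt.mpr h.le), if_neg h.ne, if_pos h]
      simp [h.ne]
  let L : Fin (n + 1) → MvPowerSeries (Fin (n + 1)) k := fun i => ∑ j, MvPowerSeries.C (M i j) * MvPowerSeries.X j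
  have hc' : ∀ i, MvPowerSeries.constantCoeff (MvPowerSeries.pderiv k i f) = 0 := fun i => by
    rw [← MvPowerSeries.coeff_zero_eq_constantCoeff_apply, MvPowerSeries.coeff_pderiv, zero_add, hl i, zero_mul]
  have hdiff : ∀ i, MvPowerSeries.pderiv k i f - L i ∈ PSIdeal.varIdeal (Fin (n + 1)) k ^ 2 := fun i => by
    refine PSIdeal.mem_varIdeal_sq ?_ fun j => ?_
    · simp [L, hc']
    · simp [L, hlin, MvPowerSeries.coeff_C_mul, MvPowerSeries.coeff_X, Finsupp.single_eq_single_iff]
  refine le_antisymm (Ideal.span_le.mpr fun x ⟨i, hi⟩ => hi ▸ PSIdeal.mem_varIdeal (hc' i)) ?_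
  refine PSIdeal.le_of_le_sup_varIdeal_mul (Submodule.fg_span (Set.finite_range _)) ?_
  refine Ideal.span_le.mpr ?_
  rintro _ ⟨l, rfl⟩
  set J := Ideal.span (Set.range fun i => MvPowerSeries.pderiv k i f)
  set S := J ⊔ PSIdeal.varIdeal (Fin (n + 1)) k * PSIdeal.varIdeal (Fin (n + 1)) k
  have hL : ∀ i, L i ∈ S := fun i => by
    have h1 : MvPowerSeries.pderiv k i f ∈ S := Ideal.mem_sup_left (Ideal.subset_span ⟨i, rfl⟩)
    have h2 : MvPowerSeries.pderiv k i f - L i ∈ S := Ideal.mem_sup_right (by rw [← pow_two]; exact hdiff i)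
    simpa using sub_mem h1 h2
  have hu : M⁻¹ * M = 1 := Matrix.nonsing_inv_mul M hq
  have : (MvPowerSeries.X l : MvPowerSeries (Fin (n + 1)) k) = ∑ i, MvPowerSeries.C (M⁻¹ l i) * L i := by
    simp only [L, Finset.mul_sum]
    rw [Finset.sum_comm]
    simp_rw [← mul_assoc, ← map_mul, ← Finset.sum_mul, ← map_sum]
    have : ∀ j, ∑ i, M⁻¹ l i * M i j = (1 : Matrix (Fin (n + 1)) (Fin (n + 1)) k) l j := fun j => by
      rw [← hu, Matrix.mul_apply]
    simp_rw [this]
    simp [Matrix.one_apply]
  show MvPowerSeries.X l ∈ S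
  rw [this]
  exact sum_mem fun i _ => Ideal.mul_mem_left _ _ (hL i)

end Groth.Agent.S8719
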