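import Groth.Statements.S16255
import Groth.Agent.Lib.QuadSing19.Point
import Groth.Agent.S8719
import Mathlib.RingTheory.Nullstellensatz

set_option autoImplicit false
universe u
open VanCyc

namespace Groth.Agent.S16255

/-- (b) ⇔ (c): let k be an algebraically closed field, m ≥ 0, f ∈ k[x_0, …, x_m], B = k[x_0, …, x_m]/(f)
and P a maximal ideal of B (a closed point y of the hypersurface Y = V(f)) containing the classes of
all partial derivatives ∂f/∂x_j, so that y lies in the m-th Jacobian locus of Y (cut out in Y by the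
m-th Fitting ideal of Ω_{Y/k}, which is generated by these classes). Then the following are
equivalent: (b) the classes of the ∂f/∂x_j generate the maximal ideal of the local ring B_P, i.e.
near y the Jacobian locus is the reduced point y; (c) y is a non-degenerate quadratic singularity of
Y of dimension m: the completion of B_P is k-isomorphic to k[[x_0, …, x_m]]/(g) for a power series g
without constant or linear terms whose quadratic part has unit polar discriminant. (The published
statement is for Y a local complete intersection of virtual dimension m over k and a point of the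
m-th but not the (m+1)-st Jacobian locus; the statement here is its affine hypersurface case, to
which its proof reduces by an étale chart. A third equivalent condition there, on the differentials
of the Jacobian scheme at y, is not stated here.) -/
theorem result
    (k : Type u) [Field k] [IsAlgClosed k] (m : ℕ) (f : MvPolynomial (Fin (m + 1)) k)
    (P : Ideal (MvPolynomial (Fin (m + 1)) k ⧸ Ideal.span {f})) [P.IsMaximal]
    (hP : ∀ j : Fin (m + 1), Ideal.Quotient.mk (Ideal.span {f}) (MvPolynomial.pderiv j f) ∈ P) :
    Ideal.map (algebraMap (MvPolynomial (Fin (m + 1)) k ⧸ Ideal.span {f}) (Localization.AtPrime P))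
        (Ideal.span (Set.range fun j : Fin (m + 1) =>
          Ideal.Quotient.mk (Ideal.span {f}) (MvPolynomial.pderiv j f))) =
      IsLocalRing.maximalIdeal (Localization.AtPrime P) ↔
    VanCyc.IsNondegQuadSing k (Localization.AtPrime P) m := by
  classical
  haveI : (P.comap (Ideal.Quotient.mk (Ideal.span {f}))).IsMaximal :=
    Ideal.comap_isMaximal_of_surjective _ Ideal.Quotient.mk_surjective
  obtain ⟨a, ha⟩ := MvPolynomial.isMaximal_iff_eq_vanishingIdeal_singleton.1 this
  have hpt : QuadSing19.IsPoint f P a := ⟨by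
    rw [ha]; ext p; rw [RingHom.mem_ker, MvPolynomial.mem_vanishingIdeal_singleton_iff, MvPolynomial.aeval_def, MvPolynomial.eval₂_eq_eval_map]; simp⟩
  let g := QuadSing19.taylor a f
  let S := MvPowerSeries (Fin (m + 1)) k
  let O := Localization.AtPrime P
  let df : Fin (m + 1) → O := fun j => algebraMap _ O (Ideal.Quotient.mk (Ideal.span {f}) (MvPolynomial.pderiv j f))
  have hg0 : MvPowerSeries.constantCoeff g = 0 := (QuadSing19.constantCoeff_taylor a f).trans hpt.eval_eq_zero
  have hg1 : ∀ i, QuadSing19.lin g i = 0 := fun i => by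
    rw [← QuadSing19.constantCoeff_pderiv, QuadSing19.pderiv_taylor, QuadSing19.constantCoeff_taylor]
    exact (hpt.mem_iff _).1 (hP i)
  obtain ⟨χ, hχ, hinj, hcpl⟩ := QuadSing19.exists_expansion hpt
  have hdf : ∀ j, χ (df j) = Ideal.Quotient.mk _ (MvPowerSeries.pderiv k j g) := fun j => by
    rw [hχ, QuadSing19.pderiv_taylor]
  have hJle : Ideal.span (Set.range df) ≤ IsLocalRing.maximalIdeal O := Ideal.span_le.2 (by
    rintro _ ⟨j, rfl⟩
    rw [← IsLocalization.AtPrime.map_eq_maximalIdeal P O]
    exact Ideal.mem_map_of_mem _ (hP j))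
  rw [Ideal.map_span, ← Set.range_comp]
  show Ideal.span (Set.range df) = IsLocalRing.maximalIdeal O ↔ _
  suffices hkey : Ideal.span (Set.range df) = IsLocalRing.maximalIdeal O ↔ IsUnit (QuadSing19.hess g).det by
    rw [hkey]
    constructor
    · intro hu
      exact ⟨g, ⟨⟨hg0, hg1⟩, by rwa [QuadSing19.hess_eq_polarMatrix] at hu⟩, hcpl⟩
    · rintro ⟨h, ⟨⟨hh0, hh1⟩, hh⟩, ⟨e⟩⟩
      obtain ⟨e'⟩ := hcpl
      refine QuadSing19.isUnit_det_hess_of_algEquiv g h hg0 hg1 hh0 hh1 (e.symm.trans e') ?_
      rw [QuadSing19.hess_eq_polarMatrix]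
      exact hh
  have hVfg : (IsLocalRing.maximalIdeal O).FG := by
    haveI : IsNoetherianRing O := IsLocalization.isNoetherianRing P.primeCompl _ inferInstance
    exact IsNoetherian.noetherian _
  constructor
  · intro hJ
    -- the coordinates are combinations of the derivatives, so the Hessian is invertible
    have hx : ∀ i, ∃ c : Fin (m + 1) → O, ∑ j, c j * df j = algebraMap _ O (Ideal.Quotient.mk (Ideal.span {f}) (MvPolynomial.X i - MvPolynomial.C (a i))) := fun i => by
      refine (Ideal.mem_span_range_iff_exists_fun).1 ?_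
      rw [hJ, ← IsLocalization.AtPrime.map_eq_maximalIdeal P O]
      exact Ideal.mem_map_of_mem _ ((hpt.mem_iff _).2 (by simp))
    choose c hc using hx
    choose d hd using fun i j => Ideal.Quotient.mk_surjective (χ (c i j))
    refine Matrix.isUnit_det_of_left_inverse (B := Matrix.of fun i j => MvPowerSeries.constantCoeff (d i j)) ?_
    ext i l
    have h := congrArg χ (hc i)
    rw [map_sum, hχ] at h
    simp only [map_mul, hdf, ← hd] at h
    simp only [← map_mul, ← map_sum] at h
    obtain ⟨e, he⟩ := Ideal.mem_span_singleton'.1 (Ideal.Quotient.eq.1 h)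
    have h2 := congrArg (MvPowerSeries.coeff (Finsupp.single l 1)) he
    rw [QuadSing19.coeff_single_mul, hg1, hg0, mul_zero, mul_zero, add_zero, map_sub, map_sum] at h2
    have h3 := sub_eq_zero.1 h2.symm
    rw [Matrix.mul_apply]
    refine Eq.trans ?_ (h3.trans ?_)
    · refine Finset.sum_congr rfl fun j _ => ?_
      rw [QuadSing19.coeff_single_mul, QuadSing19.constantCoeff_pderiv, hg1, mul_zero, add_zero]
      rfl
    · show QuadSing19.lin (QuadSing19.taylor a (MvPolynomial.X i - MvPolynomial.C (a i))) l = _
      rw [show QuadSing19.taylor a (MvPolynomial.X i - MvPolynomial.C (a i)) = (MvPowerSeries.X i : S) by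
        simp [QuadSing19.taylor, MvPowerSeries.c_eq_algebraMap, S], QuadSing19.lin_X]
      simp [Matrix.one_apply, Pi.single_apply, eq_comm]
  · intro hu
    refine le_antisymm hJle ?_
    refine Submodule.le_of_le_smul_of_le_jacobson_bot (R := O) (M := O) (I := IsLocalRing.maximalIdeal O) hVfg (IsLocalRing.maximalIdeal_le_jacobson (R := O) ⊥) ?_
    intro z hz
    have hspan := Groth.Agent.S8719.result k m g ⟨⟨hg0, hg1⟩, by rwa [QuadSing19.hess_eq_polarMatrix] at hu⟩
    obtain ⟨w, hw⟩ := Ideal.Quotient.mk_surjective (χ z)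
    have hw0 : w ∈ IsLocalRing.maximalIdeal S := by
      rw [← PSIdeal.varIdeal_eq_maximalIdeal]
      refine PSIdeal.mem_varIdeal ?_
      by_contra hne
      have hwu : IsUnit (χ z) := hw ▸ (MvPowerSeries.isUnit_iff_constantCoeff.2 (isUnit_iff_ne_zero.2 hne)).map _
      obtain ⟨r, hr⟩ : ∃ p : MvPolynomial (Fin (m + 1)) k, w - QuadSing19.taylor a p ∈ PSIdeal.varIdeal (Fin (m + 1)) k ^ 1 :=
        QuadSing19.exists_taylor_sub_mem a 1 w
      have h1 : z - algebraMap _ O (Ideal.Quotient.mk (Ideal.span {f}) r) ∈ IsLocalRing.maximalIdeal O ^ 1 := hinj 1 _ (by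
        rw [map_sub, hχ, ← hw, ← map_sub]; exact Ideal.mem_map_of_mem _ hr)
      rw [pow_one] at h1 hr
      have h2 : algebraMap _ O (Ideal.Quotient.mk (Ideal.span {f}) r) ∈ IsLocalRing.maximalIdeal O := by
        have h' := sub_mem hz h1
        convert h' using 1
        exact (sub_sub_cancel z (algebraMap _ O (Ideal.Quotient.mk (Ideal.span {f}) r))).symm
      rw [IsLocalization.AtPrime.to_map_mem_maximal_iff O P, hpt.mem_iff] at h2
      have h3 := PSIdeal.constantCoeff_of_mem hr
      rw [map_sub, QuadSing19.constantCoeff_taylor, h2, sub_zero] at h3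
      exact hne h3
    rw [← hspan, Ideal.mem_span_range_iff_exists_fun] at hw0
    obtain ⟨c, hc⟩ := hw0
    choose p hp using fun j => QuadSing19.exists_taylor_sub_mem a 1 (c j)
    let z' : O := ∑ j, algebraMap _ O (Ideal.Quotient.mk (Ideal.span {f}) (p j)) * df j
    have hmap : χ z' = Ideal.Quotient.mk _ (∑ j, QuadSing19.taylor a (p j) * MvPowerSeries.pderiv k j g) := by
      simp only [map_sum, z']
      refine Finset.sum_congr rfl fun j _ => (map_mul χ _ _).trans ?_
      rw [hdf, map_mul]
      exact congrArg (· * _) (hχ (p j))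
    have hz' : z - z' ∈ IsLocalRing.maximalIdeal O ^ 2 := hinj 2 _ (by
      rw [map_sub, hmap, ← hw, ← hc, ← map_sub]
      refine Ideal.mem_map_of_mem _ ?_
      rw [← Finset.sum_sub_distrib]
      refine sum_mem fun j _ => ?_
      rw [← sub_mul, pow_two]
      exact Ideal.mul_mem_mul (by simpa using hp j) (PSIdeal.mem_varIdeal (by
        rw [QuadSing19.constantCoeff_pderiv]; exact hg1 j)))
    rw [← sub_add_cancel z z']
    refine add_mem (Ideal.mem_sup_right ?_) (Ideal.mem_sup_left (sum_mem fun j _ => Ideal.mul_mem_left _ _ (Ideal.subset_span ⟨j, rfl⟩)))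
    rw [pow_two] at hz'
    exact hz'

end Groth.Agent.S16255
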