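import Groth.Statements.S16256
import Groth.Agent.Lib.FitSmooth14.LciScheme

set_option autoImplicit false
universe u
open CategoryTheory CategoryTheory.Limits AlgebraicGeometry TopologicalSpace
open SDiv

namespace Groth.Agent.S16256

/-- Let f : Y ⟶ X be locally of finite presentation and quasi-separated, m ≥ 0, and y a point of Y near
which f is a local complete intersection of virtual dimension m, in the factorisation sense: some
open neighbourhood U of y admits a Koszul-regular immersion i of constant codimension c into a
scheme P smooth of relative dimension m + c over X, compatibly with f. Then f is smooth on some open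
neighbourhood of y if and only if y does not lie in the m-th Jacobian locus of Y over X, the closed
subset cut out by the m-th Fitting ideal of Ω_{Y/X}. (Quasi-separatedness of f is assumed because
the module Ω_{Y/X} used here is defined for such f.) -/
theorem result
    {Y X : Scheme.{u}} (f : Y ⟶ X) [LocallyOfFinitePresentation f] [QuasiSeparated f] (m : ℕ) (y : ↥Y)
    (hlci : ∃ (U : Y.Opens) (P : Scheme.{u}) (i : (U : Scheme.{u}) ⟶ P) (π : P ⟶ X) (c : ℕ),
      y ∈ U ∧ RegImm.IsRegularImmersionOfCodim RegImm.Kind.koszul c i ∧
        SmoothOfRelativeDimension (m + c) π ∧ i ≫ π = U.ι ≫ f) :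
    (∃ V : Y.Opens, y ∈ V ∧ Smooth (V.ι ≫ f)) ↔ y ∉ (Fitt.sheafIdeal (Omega.sheaf f) m).support := by
  obtain ⟨U, P, i, π, c, hy, hi, hπ, w⟩ := hlci
  rw [Groth.Agent.Descend.smooth_nhd_iff_mem_smoothLocus f y]
  exact Groth.Agent.FitSmooth14.mem_smoothLocus_iff_notMem_support_of_lci f m y U P i π c hy hi w

end Groth.Agent.S16256
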