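import Groth.Prelude.Def_FinFr
import Mathlib.AlgebraicGeometry.Morphisms.Separated
import Mathlib.AlgebraicGeometry.Morphisms.Smooth
import Mathlib.AlgebraicGeometry.Morphisms.Proper
import Mathlib.AlgebraicGeometry.Morphisms.OpenImmersion
import Mathlib.AlgebraicGeometry.Geometrically.Irreducible
import Mathlib.FieldTheory.IsAlgClosed.Basic
import Groth.Agent.Lib.FinFr3.PointSupp
-- import your own Groth.Agent.* helpers here

namespace FinFr
end FinFr

set_option autoImplicit false
universe u
open CategoryTheory CategoryTheory.Limits AlgebraicGeometry Opposite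
open FinFr

namespace Groth.Agent.S16257

/-- Let k be a field, K an algebraic closure of k, X₀ a smooth, separated, geometrically irreducible
k-curve of finite type, j : X₀ ⟶ P₀ an open immersion into a proper k-scheme (a compactification,
through which compactly supported cohomology is computed as H^*(P₀ ⊗_k K, j_!(-))), i : U₀ ⟶ X₀ the
inclusion of a non-empty open subscheme, and F an abelian étale sheaf on X₀ killed by an integer ν
invertible in k. Then the canonical map H^2_c(U₀ ⊗_k K, F|U) ⟶ H^2_c(X₀ ⊗_k K, F), namely the map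
induced on H^2(P₀ ⊗_k K, -) by j_! of the counit i_! i^{-1} F ⟶ F, is bijective. (The published
statement is for an arbitrary constructible ℓ-adic sheaf with Q̄_ℓ-coefficients; the statement here
is the finite-coefficient form of its excision argument, over any base field.) -/
theorem result
    (k K : Type u) [Field k] [Field K] [Algebra k K] [IsAlgClosed K] [Algebra.IsAlgebraic k K]
    {X₀ P₀ U₀ : Scheme.{u}} (a : X₀ ⟶ Spec (CommRingCat.of k))
    [SmoothOfRelativeDimension 1 a] [IsSeparated a] [QuasiCompact a] [GeometricallyIrreducible a]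
    (j : X₀ ⟶ P₀) [IsOpenImmersion j] [EtShriek.JCont j] (b : P₀ ⟶ Spec (CommRingCat.of k)) [IsProper b]
    (hj : j ≫ b = a) (i : U₀ ⟶ X₀) [IsOpenImmersion i] [EtShriek.JCont i] [Nonempty ↥U₀]
    (ν : ℕ) (hν : (ν : k) ≠ 0) (F : EtCoh.Ab X₀) (hF : EtCoh.KilledBy ν F) :
    Function.Bijective (Sheaf.H.map ((EtCoh.pull (FinFr.extπ K b)).map
      ((EtShriek.extZero j).map ((EtShriek.extZeroAdj i).counit.app F))) 2) := by
  classical
  let ι := FinFr.specι k K
  let π : FinFr.ext K b ⟶ P₀ := FinFr.extπ K b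
  haveI : Smooth a := SmoothOfRelativeDimension.smooth 1 a
  haveI : JacobsonSpace ↥X₀ := LocallyOfFiniteType.jacobsonSpace a
  haveI : JacobsonSpace ↥P₀ := LocallyOfFiniteType.jacobsonSpace b
  haveI : IsLocallyNoetherian X₀ := LocallyOfFiniteType.isLocallyNoetherian a
  haveI : CompactSpace ↥X₀ := QuasiCompact.compactSpace_of_compactSpace a
  haveI : IsNoetherian X₀ := ⟨⟩
  haveI : IrreducibleSpace ↥X₀ := GeometricallyIrreducible.irreducibleSpace_of_subsingleton a
  have hC : IsClosed ((Set.range i)ᶜ) := i.isOpenEmbedding.isOpen_range.isClosed_compl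
  have hCf : ((Set.range i)ᶜ).Finite := by
    refine Groth.Agent.LocSymB.finite_of_isClosed_ne_univ
      (Groth.Agent.PicWittH7.topologicalKrullDim_le_of_smooth a 1) hC ?_
    intro h
    obtain ⟨y⟩ := ‹Nonempty ↥U₀›
    exact (h.symm.subset (Set.mem_univ (i y))) ⟨y, rfl⟩
  let D : Set ↥P₀ := j '' (Set.range i)ᶜ
  have hD : IsClosed D := by
    refine (Set.Finite.image _ hCf).isClosed_biUnion (f := fun p => ({p} : Set ↥P₀)) (fun p hp => ?_) |> fun h => by
      rwa [Set.biUnion_of_singleton] at h
    obtain ⟨x, hx, rfl⟩ := hp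
    refine isClosed_singleton_of_isLocallyClosed_singleton ?_
    rw [show ({j x} : Set ↥P₀) = j '' {x} from Set.image_singleton.symm]
    exact (Groth.Agent.FinFr3.finite_closedPoints_of_isClosed_finite hC hCf x hx).isLocallyClosed.image
      j.isOpenEmbedding.isInducing j.isOpenEmbedding.isOpen_range.isLocallyClosed
  let Z₀ := (Scheme.IdealSheafData.vanishingIdeal ⟨D, hD⟩).subscheme
  let i₀ : Z₀ ⟶ P₀ := (Scheme.IdealSheafData.vanishingIdeal ⟨D, hD⟩).subschemeι
  have hr₀ : Set.range i₀ = D := by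
    rw [Scheme.IdealSheafData.range_subschemeι, Scheme.IdealSheafData.coe_support_vanishingIdeal]; rfl
  haveI : Finite ↥Z₀ := by
    have h1 : (Set.range i₀).Finite := hr₀ ▸ hCf.image _
    haveI := h1.to_subtype
    exact Finite.of_injective (fun z => (⟨i₀ z, z, rfl⟩ : Set.range i₀))
      (fun z w h => i₀.isClosedEmbedding.injective (congrArg Subtype.val h : _))
  haveI : LocallyQuasiFinite (i₀ ≫ b) :=
    LocallyQuasiFinite.of_finite_preimage_singleton (f := i₀ ≫ b) fun _ => Set.toFinite _
  haveI : IsFinite (i₀ ≫ b) := IsFinite.of_isProper_of_locallyQuasiFinite _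
  let Z := pullback i₀ π
  let iK : Z ⟶ FinFr.ext K b := pullback.snd i₀ π
  haveI : IsClosedImmersion iK := inferInstanceAs (IsClosedImmersion (pullback.snd i₀ π))
  let e : Z ≅ pullback (i₀ ≫ b) ι := pullbackRightPullbackFstIso b ι i₀
  haveI : IsFinite (e.hom ≫ pullback.snd (i₀ ≫ b) ι) := inferInstance
  let α := (EtShriek.extZeroAdj i).counit.app F
  haveI : Mono α := Groth.Agent.ExtShriek24.mono_counit_open i F
  let S₀ : ShortComplex (EtCoh.Ab X₀) := ShortComplex.mk α (cokernel.π α) (cokernel.condition α)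
  have hS₀ : S₀.ShortExact :=
    { exact := ShortComplex.exact_cokernel α
      mono_f := inferInstanceAs (Mono α)
      epi_g := inferInstanceAs (Epi (cokernel.π α)) }
  haveI := Groth.Agent.EtStalk.preservesFiniteLimits_pull π
  haveI : (EtCoh.pull π).IsLeftAdjoint := (EtCoh.pullPushAdj π).isLeftAdjoint
  haveI : (EtShriek.extZero j).IsLeftAdjoint := (EtShriek.extZeroAdj j).isLeftAdjoint
  let Φ := EtShriek.extZero j ⋙ EtCoh.pull π
  haveI : Φ.Additive := inferInstance
  haveI : PreservesFiniteLimits Φ := inferInstance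
  haveI : PreservesFiniteColimits Φ := inferInstance
  have hS := hS₀.map_of_exact Φ
  have hsupp : EtPBC.supp (Φ.obj (cokernel α)) ⊆ Set.range iK.base := by
    rintro y ⟨Ω, _, _, ξ, hξ, hne⟩
    by_contra hy
    refine hne (IsZero.of_iso ?_ (asIso (Groth.Agent.EtStalk.stalkPull π ξ _)).symm)
    have hξy : ξ default = y := by
      have : ξ default ∈ Set.range ξ := ⟨_, rfl⟩
      rwa [hξ] at this
    refine IsZero.of_iso ?_ (Groth.Agent.EtStalk.stalkExtZero j (ξ ≫ π) (cokernel α)).symm
    rw [IsZero.iff_id_eq_zero]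
    refine Sigma.hom_ext _ _ fun p => (IsZero.eq_of_src ?_ _ _)
    refine Groth.Agent.ExtShriek24.isZero_stalk_coker i F p.1 ?_
    by_contra hp
    apply hy
    have hr : Set.range (pullback.snd i₀ π) = π ⁻¹' Set.range i₀ := Scheme.Pullback.range_snd i₀ π
    show y ∈ Set.range (pullback.snd i₀ π)
    rw [hr, Set.mem_preimage, hr₀]
    refine ⟨p.1 default, hp, ?_⟩
    rw [← hξy, ← Scheme.Hom.comp_apply, p.2]
    rfl
  have hv : ∀ q : ℕ, 0 < q → Subsingleton (EtCoh.H (FinFr.ext K b) (Φ.obj (cokernel α)) q) :=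
    fun q hq => Groth.Agent.FinFr3.subsingleton_H_of_supp_finite iK (e.hom ≫ pullback.snd (i₀ ≫ b) ι) _ hsupp q hq
  exact Groth.Agent.FinFr3.bijective_H_map (S₀.map Φ) hS 1 (hv 1 one_pos) (hv 2 two_pos)

end Groth.Agent.S16257
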