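import Groth.Prelude.Def_FinFr
import Mathlib.AlgebraicGeometry.Morphisms.Separated
import Mathlib.AlgebraicGeometry.Morphisms.Smooth
import Mathlib.AlgebraicGeometry.Morphisms.Proper
import Mathlib.AlgebraicGeometry.Morphisms.OpenImmersion
import Mathlib.AlgebraicGeometry.Geometrically.Irreducible
import Mathlib.FieldTheory.IsAlgClosed.Basic
import Groth.Agent.Lib.FinFr3.Support
import Groth.Agent.S6642
import Groth.Agent.Lib.FpqcDesc.Basic
-- import your own Groth.Agent.* helpers here

namespace FinFr
end FinFr

set_option autoImplicit false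
universe u
open CategoryTheory CategoryTheory.Limits AlgebraicGeometry Opposite
open FinFr

namespace Groth.Agent.S16258

/-- Let k be a field, K an algebraic closure of k, X₀ a smooth, separated, geometrically irreducible
k-curve of finite type which is NOT proper over k, j : X₀ ⟶ P₀ an open immersion into a proper
k-scheme, and F a finite locally constant abelian étale sheaf on X₀. Then the compactly supported
cohomology in degree 0, H^0_c(X₀ ⊗_k K, F) = H^0(P₀ ⊗_k K, j_! F), is zero. (The published statement
is for a smooth ℓ-adic sheaf with Q̄_ℓ-coefficients, together with H^0_c = H^0 for proper curves;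
the statement here is the finite locally constant case of the non-proper half.) -/
theorem result
    (k K : Type u) [Field k] [Field K] [Algebra k K] [IsAlgClosed K] [Algebra.IsAlgebraic k K]
    {X₀ P₀ : Scheme.{u}} (a : X₀ ⟶ Spec (CommRingCat.of k))
    [SmoothOfRelativeDimension 1 a] [IsSeparated a] [QuasiCompact a] [GeometricallyIrreducible a]
    (ha : ¬ IsProper a)
    (j : X₀ ⟶ P₀) [IsOpenImmersion j] [EtShriek.JCont j] (b : P₀ ⟶ Spec (CommRingCat.of k)) [IsProper b]
    (hj : j ≫ b = a) (F : EtCoh.Ab X₀) (hF : EtCoh.IsFiniteLocallyConstant F) :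
    Subsingleton (EtCoh.H (FinFr.ext K b) ((EtCoh.pull (FinFr.extπ K b)).obj ((EtShriek.extZero j).obj F)) 0) := by
  let ι := FinFr.specι k K
  let π : FinFr.ext K b ⟶ P₀ := FinFr.extπ K b
  let W := pullback j π
  let jK : W ⟶ FinFr.ext K b := pullback.snd j π
  haveI : IsOpenImmersion jK := inferInstanceAs (IsOpenImmersion (pullback.snd j π))
  let e : W ≅ pullback a ι := pullbackRightPullbackFstIso b ι j ≪≫ pullback.congrHom hj rfl
  haveI : GeometricallyIrreducible (pullback.snd a ι) := inferInstanceAs (GeometricallyIrreducible (pullback.snd a (FinFr.specι k K)))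
  haveI : IrreducibleSpace ↥(pullback a ι) :=
    GeometricallyIrreducible.irreducibleSpace_of_subsingleton (pullback.snd a ι)
  haveI : PreconnectedSpace ↥W := ⟨by
    have h := isPreconnected_univ.image e.inv e.inv.continuous.continuousOn
    rwa [Set.image_univ, e.inv.surjective.range_eq] at h⟩
  have hW : ¬ IsClosed (Set.range jK) := by
    intro hc
    haveI : IsClosedImmersion jK := IsClosedImmersion.of_isPreimmersion jK hc
    apply ha
    have h1 : IsProper (pullback.snd a ι) := by
      have h2 : e.inv ≫ jK ≫ pullback.snd b ι = pullback.snd a ι := by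
        rw [Iso.inv_comp_eq]
        simp only [e, jK, π, ι, Iso.trans_hom, Category.assoc, pullback.congrHom_hom, pullback.map, pullback.lift_snd,
          Category.comp_id, FinFr.extπ]
        exact (pullbackRightPullbackFstIso_hom_snd _ _ _).symm
      rw [← h2]
      infer_instance
    haveI := Groth.Agent.FpqcDesc.descendsAlong_isProper
    have hι : (@Surjective ⊓ @Flat ⊓ @QuasiCompact : MorphismProperty Scheme.{u}) ι :=
      ⟨⟨⟨fun z => ⟨IsLocalRing.closedPoint K, (@Subsingleton.elim (PrimeSpectrum k) inferInstance _ _)⟩⟩,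
        by
          show Flat (Spec.map _)
          rw [HasRingHomProperty.Spec_iff (P := @Flat)]
          exact RingHom.flat_algebraMap_iff.2 inferInstance⟩, inferInstance⟩
    exact MorphismProperty.of_pullback_snd_of_descendsAlong
      (P := @IsProper) (Q := @Surjective ⊓ @Flat ⊓ @QuasiCompact) (f := a) (g := ι) hι h1
  let G := (EtCoh.pull π).obj ((EtShriek.extZero j).obj F)
  have hout : ∀ (Ω : Type u) [Field Ω] [IsSepClosed Ω] (ξ : Spec (CommRingCat.of Ω) ⟶ FinFr.ext K b),
      ξ (default : Spec (CommRingCat.of Ω)) ∉ Set.range jK → IsZero ((EtCoh.stalk ξ).obj G) := by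
    intro Ω _ _ ξ hξ
    refine (Groth.Agent.EtStalk.stalk_extZero_isZero j F (ξ ≫ π) ?_).of_iso
      (asIso (Groth.Agent.EtStalk.stalkPull π ξ ((EtShriek.extZero j).obj F))).symm
    intro h
    apply hξ
    have hr : Set.range (pullback.snd j π) = π ⁻¹' Set.range j := Scheme.Pullback.range_snd j π
    show ξ default ∈ Set.range (pullback.snd j π)
    rw [hr]
    exact h
  have hE : EtCoh.IsFiniteLocallyConstant ((EtCoh.pull jK).obj G) := by
    let i₁ : (EtCoh.pull jK).obj G ≅ (EtCoh.pull (pullback.fst j π)).obj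
        ((EtCoh.pull j).obj ((EtShriek.extZero j).obj F)) :=
      ((EtCore.pullComp jK π).symm ≪≫ EtCore.pullCongr pullback.condition.symm ≪≫
        EtCore.pullComp (pullback.fst j π) j).app ((EtShriek.extZero j).obj F)
    let i₂ : (EtCoh.pull j).obj ((EtShriek.extZero j).obj F) ≅ F :=
      ((Groth.Agent.EtStalk.restrPullIso j).app _).symm ≪≫
        (asIso ((EtShriek.extZeroAdj j).unit.app F)).symm
    obtain ⟨κ, U, hU, hloc⟩ := (Groth.Agent.S6642.result (pullback.fst j π)).2.1 F hF
    refine ⟨κ, U, hU, fun i => ?_⟩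
    obtain ⟨M, h₁, h₂, ⟨θ⟩⟩ := hloc i
    exact ⟨M, h₁, h₂, ⟨(W.smallEtaleTopology.overPullback AddCommGrpCat.{u + 1} (U i)).mapIso (i₁ ≪≫ (EtCoh.pull (pullback.fst j π)).mapIso i₂) ≪≫ θ⟩⟩
  refine ⟨fun x y => (Groth.Agent.PointLim24.H0Sec _ _).injective ?_⟩
  rw [Groth.Agent.FinFr3.eq_zero_of_support jK hW G hout hE (Groth.Agent.PointLim24.H0Sec _ G x),
    Groth.Agent.FinFr3.eq_zero_of_support jK hW G hout hE (Groth.Agent.PointLim24.H0Sec _ G y)]

end Groth.Agent.S16258
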