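import Groth.Statements.S9676
import Groth.Agent.Lib.NormFin18.Apps
import Groth.Agent.Lib.NormUP12.Basic
import Groth.Agent.Lib.Curve17.Basic
import Groth.Agent.Lib.H12.Specialization

set_option autoImplicit false
set_option linter.style.haveILetI false
set_option backward.isDefEq.respectTransparency false
universe u
open CategoryTheory CategoryTheory.Limits AlgebraicGeometry
open Mor

namespace Groth.Agent.S9676

/-- Being integrally closed in an algebra localises. -/
theorem intClosed_localization {R S Rf Sf : Type u} [CommRing R] [CommRing S] [CommRing Rf] [CommRing Sf]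
    [Algebra R S] [Algebra R Rf] [Algebra S Sf] [Algebra Rf Sf] [Algebra R Sf] [IsScalarTower R S Sf]
    [IsScalarTower R Rf Sf] (M : Submonoid R) [IsLocalization M Rf]
    [IsLocalization (Algebra.algebraMapSubmonoid S M) Sf]
    (h : ∀ x : S, IsIntegral R x → x ∈ (algebraMap R S).range) (z : Sf) (hz : IsIntegral Rf z) :
    z ∈ (algebraMap Rf Sf).range := by
  obtain ⟨⟨x, _, m₁, hm₁, rfl⟩, e⟩ := IsLocalization.surj (Algebra.algebraMapSubmonoid S M) z
  obtain ⟨⟨m₂, hm₂⟩, hm₂s⟩ := IsIntegral.exists_multiple_integral_of_isLocalization M _ hz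
  simp only [Submonoid.smul_def, Algebra.smul_def] at hm₂s
  simp only [← IsScalarTower.algebraMap_apply] at e
  obtain ⟨m₃, hm₃, hm₃s⟩ := IsLocalization.exists_isIntegral_smul_of_isIntegral_map (Sₘ := Sf)
    M (x := m₂ • x) (by
      simp only [Algebra.smul_def, map_mul, ← IsScalarTower.algebraMap_apply, ← e, ← mul_assoc]
      exact hm₂s.mul isIntegral_algebraMap)
  obtain ⟨r, hr⟩ := h _ hm₃s
  refine ⟨IsLocalization.mk' Rf r (⟨m₁ * m₂ * m₃, mul_mem (mul_mem hm₁ hm₂) hm₃⟩ : M), ?_⟩
  have hu := (IsLocalization.map_units Rf (⟨m₁ * m₂ * m₃, mul_mem (mul_mem hm₁ hm₂) hm₃⟩ : M)).map (algebraMap Rf Sf)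
  rw [← hu.mul_left_inj, ← map_mul, IsLocalization.mk'_spec, ← IsScalarTower.algebraMap_apply,
    ← IsScalarTower.algebraMap_apply, IsScalarTower.algebraMap_apply R S Sf r, hr]
  simp only [Algebra.smul_def, map_mul, ← IsScalarTower.algebraMap_apply]
  rw [← e]
  ring

/-- A reduced local ring of dimension one which is integrally closed in its ring of fractions is a domain. -/
theorem normal_of_dim_one {O Q : Type u} [CommRing O] [IsLocalRing O] [IsNoetherianRing O] [_root_.IsReduced O]
    [CommRing Q] [Algebra O Q] (hdim : ringKrullDim O ≤ 1) {t : O} (htm : t ∈ IsLocalRing.maximalIdeal O)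
    (ht : t ∈ nonZeroDivisors O) [IsLocalization.Away t Q]
    (h : ∀ z : Q, IsIntegral O z → z ∈ (algebraMap O Q).range) : IsDomain O ∧ IsIntegrallyClosed O := by
  have hinj : Function.Injective (algebraMap O Q) := IsLocalization.injective Q (Submonoid.powers_le.2 ht)
  haveI : Ring.KrullDimLE 1 O := Ring.krullDimLE_iff.2 hdim
  haveI : _root_.IsReduced Q := isReduced_localizationPreserves (Submonoid.powers t) Q inferInstance
  haveI : IsNoetherianRing Q := IsLocalization.isNoetherianRing (Submonoid.powers t) Q inferInstance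
  haveI : Nontrivial Q := hinj.nontrivial
  haveI : Ring.KrullDimLE 0 Q := by
    refine Ring.krullDimLE_zero_iff.2 fun p hp => ?_
    obtain ⟨M, hM, hpM⟩ := p.exists_le_maximal hp.ne_top
    have hnot : ∀ q : Ideal Q, q.IsPrime → t ∉ q.comap (algebraMap O Q) := fun q hq hmem =>
      hq.ne_top (Ideal.eq_top_of_isUnit_mem _ hmem (IsLocalization.Away.algebraMap_isUnit t))
    rcases eq_or_lt_of_le hpM with rfl | hlt
    · exact hM
    · exfalso
      have hlt' : p.comap (algebraMap O Q) < M.comap (algebraMap O Q) :=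
        (IsLocalization.orderEmbedding (Submonoid.powers t) Q).lt_iff_lt.2 hlt
      have hMm : M.comap (algebraMap O Q) < IsLocalRing.maximalIdeal O :=
        lt_of_le_of_ne (IsLocalRing.le_maximalIdeal (Ideal.IsPrime.comap _).ne_top) fun he =>
          hnot M hM.isPrime (he.symm ▸ htm)
      let a : PrimeSpectrum O := ⟨p.comap (algebraMap O Q), Ideal.IsPrime.comap _⟩
      let b : PrimeSpectrum O := ⟨M.comap (algebraMap O Q), hM.isPrime.comap _⟩
      let c : LTSeries (PrimeSpectrum O) := ((RelSeries.singleton _ a).snoc b (show a < b from hlt')).snoc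
        (IsLocalRing.closedPoint O) (by simpa using (show b < IsLocalRing.closedPoint O from hMm))
      have h3 := (Order.LTSeries.length_le_krullDim c).trans hdim
      rw [show c.length = 2 from rfl] at h3
      exact absurd h3 (by norm_num)
  have hidem : ∀ e : Q, IsIdempotentElem e → e = 0 ∨ e = 1 := fun e he => by
    obtain ⟨a, rfl⟩ := h e ⟨Polynomial.X ^ 2 - Polynomial.X,
      Polynomial.monic_X_pow_sub (Polynomial.degree_X_le.trans_lt (by norm_num)), by
        simp [pow_two, he.eq]⟩
    have ha : IsIdempotentElem a := hinj (by rw [map_mul, he.eq])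
    rcases IsLocalRing.isUnit_or_isUnit_one_sub_self a with hu | hu
    · exact Or.inr (by rw [(IsIdempotentElem.iff_eq_one_of_isUnit hu).1 ha, map_one]) 
    · exact Or.inl (by
        have := (IsIdempotentElem.iff_eq_one_of_isUnit hu).1 ha.one_sub
        rw [sub_eq_self] at this
        rw [this, map_zero])
  have hpre : PreconnectedSpace (PrimeSpectrum Q) := preconnectedSpace_iff_clopen.2 fun s hs => by
    obtain ⟨e, he, rfl⟩ := PrimeSpectrum.isClopen_iff.1 hs
    rcases hidem e he with rfl | rfl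
    · exact Or.inl (by simp)
    · exact Or.inr (by simp)
  haveI : Subsingleton (PrimeSpectrum Q) := by
    haveI : IsArtinianRing Q := isArtinianRing_iff_isNoetherianRing_krullDimLE_zero.2 ⟨inferInstance, inferInstance⟩
    exact Set.subsingleton_univ_iff.1 (preconnectedSpace_iff_univ.1 hpre).subsingleton
  have hQ : IsField Q := (PrimeSpectrum.subsingleton_iff_isField_of_isReduced).1 inferInstance
  letI := hQ.toField
  haveI : IsDomain O := hinj.isDomain (algebraMap O Q)
  refine ⟨inferInstance, ?_⟩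
  haveI : IsFractionRing O Q := by
    haveI : IsDomain Q := hQ.isDomain
    refine IsLocalization.of_le (S := Q) (Submonoid.powers t) (nonZeroDivisors O) (Submonoid.powers_le.2 ht)
      fun r hr => ?_
    exact isUnit_iff_ne_zero.2 fun h0 => nonZeroDivisors.ne_zero hr (hinj (h0.trans (map_zero _).symm))
  exact (isIntegrallyClosed_iff Q).2 fun {z} hz => by
    obtain ⟨a, ha⟩ := h z hz
    exact ⟨a, ha⟩

/-- Let f : Y ⟶ X be of finite type with Y reduced and every affine open of X having Nagata coordinate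
ring, and let X' be the normalization of X in Y. If x' is a point of X' whose local ring has
dimension 1 and over which the fibre of Y ⟶ X' is empty, then the local ring of X' at x' is a
discrete valuation ring. (Such an f is automatically quasi-separated; the binder is carried only to
form the relative normalization.) -/
theorem result {X Y : Scheme.{u}} (f : Y ⟶ X)
    [LocallyOfFiniteType f] [QuasiCompact f] [QuasiSeparated f] [IsReduced Y]
    (hX : ∀ U : X.affineOpens, CAlg.IsNagata Γ(X, U))
    (x' : ↥f.normalization) (hdim : ringKrullDim (f.normalization.presheaf.stalk x') = 1)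
    (hx' : x' ∉ Set.range f.toNormalization.base) :
    ∃ _ : IsDomain (f.normalization.presheaf.stalk x'),
      IsDiscreteValuationRing (f.normalization.presheaf.stalk x') := by
  let N := f.normalization
  let τ := f.toNormalization
  haveI : IsLocallyNoetherian X := isLocallyNoetherian_of_affine_cover (iSup_affineOpens_eq_top X) fun U => (hX U).1
  haveI := NormFin18.isFinite_of_nagata_of_finiteType f hX
  haveI : IsLocallyNoetherian N := LocallyOfFiniteType.isLocallyNoetherian f.fromNormalization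
  obtain ⟨U, hU, hxU, -⟩ := exists_isAffineOpen_mem_and_subset (x := f.fromNormalization x') (U := ⊤) trivial
  let NU := f.fromNormalization ⁻¹ᵁ U
  have hNU : IsAffineOpen NU := hU.preimage _
  -- integrally closed in the sections
  have hA : ∀ c : Γ(Y, τ ⁻¹ᵁ NU), (τ.app NU).hom.IsIntegralElem c → c ∈ (τ.app NU).hom.range := by
    intro c hc
    letI := (f.app U).hom.toAlgebra
    have hVV : τ ⁻¹ᵁ NU = f ⁻¹ᵁ U := by
      rw [← Scheme.Hom.comp_preimage, Scheme.Hom.toNormalization_fromNormalization]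
    have hcomp := f.normalizationObjIso_hom_val hU
    let j := (Y.presheaf.map (eqToHom hVV.symm).op)
    have hjbij := ConcreteCategory.bijective_of_isIso j
    have hj : (f.normalizationObjIso hU).hom ≫ CommRingCat.ofHom (integralClosure Γ(X, U) Γ(Y, f ⁻¹ᵁ U)).val.toRingHom
        = τ.app NU ≫ j := hcomp
    have h1 : (integralClosure Γ(X, U) Γ(Y, f ⁻¹ᵁ U)).val.toRingHom.IsIntegralElem (j c) := by
      obtain ⟨q, hq, hqc⟩ := hc
      refine ⟨q.map (f.normalizationObjIso hU).hom.hom, hq.map _, ?_⟩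
      rw [Polynomial.eval₂_map]
      have : ((integralClosure Γ(X, U) Γ(Y, f ⁻¹ᵁ U)).val.toRingHom).comp (f.normalizationObjIso hU).hom.hom =
          j.hom.comp (τ.app NU).hom := congrArg CommRingCat.Hom.hom hj
      rw [this, ← Polynomial.hom_eval₂, hqc, map_zero]
    haveI : Algebra.IsIntegral Γ(X, U) (integralClosure Γ(X, U) Γ(Y, f ⁻¹ᵁ U)) :=
      ⟨fun x => (isIntegral_algebraMap_iff Subtype.val_injective).1 x.2⟩
    obtain ⟨a, ha⟩ := (f.normalizationObjIso hU).commRingCatIsoToRingEquiv.surjective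
      ⟨j c, isIntegral_trans (A := integralClosure Γ(X, U) Γ(Y, f ⁻¹ᵁ U)) (j c) h1⟩
    refine ⟨a, hjbij.1 ?_⟩
    exact (ConcreteCategory.congr_hom hj.symm a).trans (congrArg Subtype.val ha)
  -- the parameter
  have hxNU : x' ∈ NU := hxU
  let O := N.presheaf.stalk x'
  letI algO : Algebra Γ(N, NU) O := (N.presheaf.germ NU x' hxNU).hom.toAlgebra
  haveI : IsLocalization.AtPrime O (hNU.primeIdealOf ⟨x', hxNU⟩).asIdeal := hNU.isLocalization_stalk ⟨x', hxNU⟩
  haveI : IsNoetherianRing O := inferInstance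
  haveI : _root_.IsReduced O := inferInstance
  obtain ⟨t, htm, ht⟩ : ∃ t : Γ(N, NU), algebraMap Γ(N, NU) O t ∈ IsLocalRing.maximalIdeal O ∧
      algebraMap Γ(N, NU) O t ∈ nonZeroDivisors O := by
    have hfin := minimalPrimes.finite_of_isNoetherianRing O
    have hnle : ¬ ((IsLocalRing.maximalIdeal O : Set O) ⊆ ⋃ p ∈ (hfin.toFinset : Set (Ideal O)), (p : Set O)) := by
      intro hle
      obtain ⟨p, hp, hmp⟩ := (Ideal.subset_union_prime (f := id) ⊥ ⊥
        (fun p hp _ _ => (hfin.mem_toFinset.1 hp).1.1)).1 hle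
      rw [Set.Finite.mem_toFinset] at hp
      have hpe : p = IsLocalRing.maximalIdeal O := le_antisymm (IsLocalRing.le_maximalIdeal hp.1.1.ne_top) hmp
      have h0 : (IsLocalRing.maximalIdeal O).height = 0 := by
        rw [hpe] at hp
        exact Ideal.height_eq_zero_iff.2 hp
      have h1 := IsLocalRing.maximalIdeal_height_eq_ringKrullDim (R := O)
      rw [h0, hdim] at h1
      exact zero_ne_one h1
    obtain ⟨z, hz, hz'⟩ := Set.not_subset.1 hnle
    obtain ⟨⟨a, s⟩, has⟩ := IsLocalization.surj (hNU.primeIdealOf ⟨x', hxNU⟩).asIdeal.primeCompl z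
    refine ⟨a, has ▸ Ideal.mul_mem_right _ _ hz, NormUP12.mem_nonZeroDivisors_of_forall_minimalPrimes fun p hp hmem => ?_⟩
    refine hz' (Set.mem_biUnion (hfin.mem_toFinset.2 hp) ?_)
    have hu := IsLocalization.map_units O s
    exact (hp.1.1.mem_or_mem (show z * algebraMap _ O (s : Γ(N, NU)) ∈ p from has.symm ▸ hmem)).resolve_right
      fun h => hp.1.1.ne_top (Ideal.eq_top_of_isUnit_mem _ h hu)
  -- the bad locus avoids x'
  let W : TopologicalSpace.Closeds Y := ⟨((τ ⁻¹ᵁ N.basicOpen t : Y.Opens) : Set Y)ᶜ, (τ ⁻¹ᵁ N.basicOpen t).2.isClosed_compl⟩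
  let ι := (Scheme.IdealSheafData.vanishingIdeal W).subschemeι
  have hr : Set.range ι.base = (W : Set Y) := by
    rw [Scheme.IdealSheafData.range_subschemeι, Scheme.IdealSheafData.coe_support_vanishingIdeal]
  have hxW : x' ∉ closure (Set.range (ι ≫ τ).base) := by
    intro hmem
    obtain ⟨w, hw⟩ := H12.exists_specializes_of_mem_closure_range (ι ≫ τ) x' hmem
    have hwt : τ (ι w) ∉ N.basicOpen t := (hr ▸ (⟨w, rfl⟩ : ι.base w ∈ Set.range ι.base) : ι.base w ∈ (W : Set Y))
    refine hx' ⟨ι w, ?_⟩
    obtain ⟨q, hq⟩ : τ (ι w) ∈ Set.range (N.fromSpecStalk x') := by rw [Scheme.range_fromSpecStalk]; exact hw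
    show τ (ι w) = x'
    rw [← hq]
    let q' : PrimeSpectrum O := q
    have hqt : algebraMap Γ(N, NU) O t ∈ q'.asIdeal := by
      by_contra hqt
      refine hwt (hq ▸ ?_)
      have hpre : N.fromSpecStalk x' ⁻¹ᵁ N.basicOpen t =
          (Spec O).basicOpen ((N.fromSpecStalk x').app NU t) := Scheme.preimage_basicOpen _ t
      show q ∈ N.fromSpecStalk x' ⁻¹ᵁ N.basicOpen t
      rw [hpre, Scheme.fromSpecStalk_app hxNU]
      simp only [CommRingCat.hom_comp, RingHom.comp_apply]
      rw [Scheme.basicOpen_res, basicOpen_eq_of_affine]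
      refine ⟨?_, hqt⟩
      have : N.fromSpecStalk x' q ⤳ x' := by rw [hq]; exact hw
      exact this.mem_open NU.2 hxNU
    have hmax : q'.asIdeal = IsLocalRing.maximalIdeal O := by
      haveI : Ring.KrullDimLE 1 O := Ring.krullDimLE_iff.2 hdim.le
      rcases Ring.krullDimLE_one_iff.1 this q'.asIdeal q'.isPrime with h | h
      · exact absurd hqt (Set.disjoint_left.1 (Ideal.disjoint_nonZeroDivisors_of_mem_minimalPrimes h) · ht)
      · exact IsLocalRing.eq_maximalIdeal h
    rw [show q = IsLocalRing.closedPoint O from PrimeSpectrum.ext hmax, Scheme.fromSpecStalk_closedPoint]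
  obtain ⟨g, hgle, hxg⟩ := hNU.exists_basicOpen_le
    (V := ⟨(closure (Set.range (ι ≫ τ).base))ᶜ, isClosed_closure.isOpen_compl⟩) ⟨x', hxW⟩ hxNU
  let D := N.basicOpen g
  let B := Γ(N, D)
  let CD := Γ(Y, τ ⁻¹ᵁ D)
  letI : Algebra Γ(N, NU) Γ(Y, τ ⁻¹ᵁ NU) := (τ.app NU).hom.toAlgebra
  letI : Algebra Γ(N, NU) B := (N.presheaf.map (homOfLE (N.basicOpen_le g)).op).hom.toAlgebra
  letI : Algebra Γ(Y, τ ⁻¹ᵁ NU) CD := (Y.presheaf.map (homOfLE (τ.preimage_mono (N.basicOpen_le g))).op).hom.toAlgebra
  letI : Algebra B CD := (τ.app D).hom.toAlgebra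
  letI : Algebra Γ(N, NU) CD := ((algebraMap Γ(Y, τ ⁻¹ᵁ NU) CD).comp (algebraMap Γ(N, NU) Γ(Y, τ ⁻¹ᵁ NU))).toAlgebra
  haveI : IsScalarTower Γ(N, NU) Γ(Y, τ ⁻¹ᵁ NU) CD := IsScalarTower.of_algebraMap_eq fun _ => rfl
  haveI : IsScalarTower Γ(N, NU) B CD := IsScalarTower.of_algebraMap_eq fun r =>
    (ConcreteCategory.congr_hom (τ.naturality (homOfLE (N.basicOpen_le g)).op) r).symm
  haveI : IsLocalization.Away g B := hNU.isLocalization_basicOpen g
  haveI : IsLocalization (Algebra.algebraMapSubmonoid Γ(Y, τ ⁻¹ᵁ NU) (Submonoid.powers g)) CD := by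
    rw [Algebra.algebraMapSubmonoid_powers]
    have key : ∀ (O : Y.Opens) (hO : O = Y.basicOpen (τ.app NU g)) (hle : O ≤ τ ⁻¹ᵁ NU),
        letI := (Y.presheaf.map (homOfLE hle).op).hom.toAlgebra
        IsLocalization.Away (τ.app NU g) Γ(Y, O) := by
      rintro _ rfl hle
      exact isLocalization_basicOpen_of_qcqs (τ.isCompact_preimage hNU.isCompact)
        (τ.isQuasiSeparated_preimage hNU.isQuasiSeparated) _
    exact key _ (Scheme.preimage_basicOpen τ g) _
  have hB : ∀ z : CD, IsIntegral B z → z ∈ (algebraMap B CD).range :=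
    intClosed_localization (Submonoid.powers g) hA
  let tD : B := algebraMap Γ(N, NU) B t
  have hτu : IsUnit (algebraMap B CD tD) := by
    have hle : τ ⁻¹ᵁ D ≤ Y.basicOpen (τ.app NU t) := by
      intro y hy
      rw [← Scheme.preimage_basicOpen]
      by_contra hyt
      obtain ⟨w, rfl⟩ : y ∈ Set.range ι.base := hr.symm ▸ hyt
      exact hgle hy (subset_closure ⟨w, rfl⟩)
    rw [show algebraMap B CD tD = algebraMap Γ(Y, τ ⁻¹ᵁ NU) CD (τ.app NU t) from
      (IsScalarTower.algebraMap_apply _ B CD t).symm.trans (IsScalarTower.algebraMap_apply _ _ CD t)]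
    have key : ∀ (r : Γ(Y, τ ⁻¹ᵁ NU)) (V : Y.Opens) (_ : V ≤ Y.basicOpen r) (hV' : V ≤ τ ⁻¹ᵁ NU),
        IsUnit (Y.presheaf.map (homOfLE hV').op r) := fun r V hV hV' => by
      rw [show (homOfLE hV').op = (homOfLE (Y.basicOpen_le r)).op ≫ (homOfLE hV).op from rfl,
        Functor.map_comp]
      exact (Y.toRingedSpace.isUnit_res_basicOpen r).map (Y.presheaf.map (homOfLE hV).op).hom
    exact key _ _ hle _
  let Bt := Localization.Away tD
  let hh : Bt →+* CD := IsLocalization.Away.lift tD hτu
  have hBinj : Function.Injective (algebraMap B CD) := by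
    have := f.ker_toNormalization
    have h' : RingHom.ker (τ.app D).hom = ⊥ := by
      rw [← Scheme.Hom.ker_apply _ (⟨D, hNU.basicOpen g⟩ : N.affineOpens), this]
      rfl
    exact (RingHom.injective_iff_ker_eq_bot _).2 h'
  have hhinj : Function.Injective hh := (injective_iff_map_eq_zero hh).2 fun z hz => by
    obtain ⟨b, s, rfl⟩ := IsLocalization.exists_mk'_eq (Submonoid.powers tD) z
    have h0 : algebraMap B CD b = 0 := by
      have := congrArg hh (IsLocalization.mk'_spec Bt b s)
      rw [map_mul, hz, zero_mul, IsLocalization.Away.lift_eq] at this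
      exact this.symm
    rw [hBinj (h0.trans (map_zero _).symm), IsLocalization.mk'_zero]
  have hBt : ∀ z : Bt, IsIntegral B z → z ∈ (algebraMap B Bt).range := fun z hz => by
    obtain ⟨p, hp, hpz⟩ := hz
    obtain ⟨b, hb⟩ := hB (hh z) ⟨p, hp, by
      rw [← IsLocalization.Away.lift_comp (S := Bt) tD hτu, ← Polynomial.hom_eval₂, hpz, map_zero]⟩
    exact ⟨b, hhinj ((IsLocalization.Away.lift_eq tD hτu b).trans hb)⟩
  have hxD : x' ∈ D := hxg
  letI : Algebra B O := (N.presheaf.germ D x' hxD).hom.toAlgebra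
  haveI : IsLocalization.AtPrime O ((hNU.basicOpen g).primeIdealOf ⟨x', hxD⟩).asIdeal :=
    (hNU.basicOpen g).isLocalization_stalk ⟨x', hxD⟩
  let M := ((hNU.basicOpen g).primeIdealOf ⟨x', hxD⟩).asIdeal.primeCompl
  let Q := Localization (Algebra.algebraMapSubmonoid Bt M)
  letI : Algebra O Q := (IsLocalization.lift (M := M) (g := algebraMap B Q) fun m => by
    rw [IsScalarTower.algebraMap_apply B Bt Q]
    exact IsLocalization.map_units Q (⟨_, m.1, m.2, rfl⟩ : Algebra.algebraMapSubmonoid Bt M)).toAlgebra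
  haveI : IsScalarTower B O Q := IsScalarTower.of_algebraMap_eq fun r => (IsLocalization.lift_eq _ r).symm
  have e : algebraMap B O tD = algebraMap Γ(N, NU) O t :=
    N.presheaf.germ_res_apply (homOfLE (N.basicOpen_le g)) x' hxD t
  haveI : IsLocalization.Away (algebraMap B O tD) Q := by
    have := IsLocalization.commutes O Bt Q M (Submonoid.powers tD)
    rwa [Algebra.algebraMapSubmonoid_powers] at this
  obtain ⟨hd, hic⟩ := normal_of_dim_one (O := O) (Q := Q) hdim.le (e ▸ htm) (e ▸ ht)
    (intClosed_localization M hBt)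
  exact ⟨hd, Curve17.isDiscreteValuationRing_of_dim_one O hdim⟩

end Groth.Agent.S9676
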