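import Groth.Statements.S1626
import Groth.Agent.Lib.AmpleImm18.Completion
import Groth.Agent.Lib.NormFin18.Apps
import Groth.Agent.S9676
import Mathlib.AlgebraicGeometry.ZariskisMainTheorem

set_option backward.isDefEq.respectTransparency false
set_option linter.style.haveILetI false
-- import your own Groth.Agent.* helpers here

set_option autoImplicit false
universe u
open CategoryTheory CategoryTheory.Limits AlgebraicGeometry
open Variety

namespace Groth.Agent.S1626

open TopologicalSpace Groth.Agent.AmpleImm18 in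
/-- Points outside a dense open subset have stalks of positive dimension. -/
theorem one_le_dim {Y : Scheme.{u}} [IsLocallyNoetherian Y] (O : Set Y) (hO : IsOpen O)
    (hd : Dense O) (z : Y) (hz : z ∉ O) : 1 ≤ ringKrullDim (Y.presheaf.stalk z) := by
  have hn : ¬ FlatH4.IsMaxPt z := fun h => hz (h.mem_of_dense hO hd)
  rw [FlatH4.IsMaxPt] at hn
  push Not at hn
  obtain ⟨y, hy, hne⟩ := hn
  rw [ringKrullDim_stalk_eq_coheight]
  have h1 : z < y := lt_iff_le_not_ge.2 ⟨hy, fun h => hne (hy.antisymm h).eq⟩
  exact_mod_cast Order.one_le_iff_pos.2 (Order.coheight_pos.2 (fun hmax => not_le_of_gt h1 (hmax hy)))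

open TopologicalSpace in
/-- A set of closed points, closed in a Noetherian scheme, is finite. -/
theorem finite_of_closed_points {Y : Scheme.{u}} [NoetherianSpace Y] (Z : Set Y) (hZ : IsClosed Z)
    (hcl : ∀ y ∈ Z, IsClosed ({y} : Set Y)) : Z.Finite := by
  haveI : T1Space ↥Z := ⟨fun z => by
    rw [Topology.IsEmbedding.subtypeVal.isInducing.isClosed_iff]
    exact ⟨{z.1}, hcl _ z.2, Set.ext fun w => by simp [Subtype.ext_iff]⟩⟩
  haveI : NoetherianSpace ↥Z := Topology.IsEmbedding.subtypeVal.isInducing.noetherianSpace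
  haveI : QuasiSober ↥Z := hZ.isClosedEmbedding_subtypeVal.quasiSober
  refine Set.finite_coe_iff.1 ?_
  have hfin := (NoetherianSpace.finite_irreducibleComponents (α := ↥Z)).to_subtype
  refine Finite.of_injective (fun z => (⟨irreducibleComponent z, irreducibleComponent_mem_irreducibleComponents z⟩ :
    irreducibleComponents ↥Z)) fun z w hzw => ?_
  obtain ⟨g, hg⟩ := QuasiSober.sober (isIrreducible_irreducibleComponent (x := z)) isClosed_irreducibleComponent
  have h1 : irreducibleComponent z = irreducibleComponent w := congrArg Subtype.val hzw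
  exact (hg.specializes mem_irreducibleComponent).eq.symm.trans (hg.specializes (h1 ▸ mem_irreducibleComponent)).eq

/-- Let X be reduced, separated and of finite type over k with dim X ≤ 1. Then there are a closed
subscheme Y of some P^d_k and a dense, scheme-theoretically dense open immersion j : X → Y over k
whose complement is a finite set of closed points at each of which the local ring of Y is a discrete
valuation ring. -/
theorem result (k : Type u) [Field k] (X : Scheme.{u}) [X.Over (Spec (CommRingCat.of k))] [IsReduced X] [IsSeparated (X ↘ (Spec (CommRingCat.of k)))] [LocallyOfFiniteType (X ↘ (Spec (CommRingCat.of k)))] [QuasiCompact (X ↘ (Spec (CommRingCat.of k)))] (hdim : topologicalKrullDim X ≤ 1) :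
    ∃ (d : ℕ) (Y : Scheme.{u}) (c : Y ⟶ CohB1.ProjSpace d k) (j : X ⟶ Y), IsClosedImmersion c ∧ IsOpenImmersion j ∧
      j ≫ c ≫ CohB1.ProjSpace.toSpec d k = X ↘ (Spec (CommRingCat.of k)) ∧ Dense (Set.range j.base) ∧ IsSchemeTheoreticallyDominant j ∧
      (Set.range j.base)ᶜ.Finite ∧ ∀ y ∈ (Set.range j.base)ᶜ, IsClosed ({y} : Set Y) ∧
        ∃ _ : IsDomain (Y.presheaf.stalk y), IsDiscreteValuationRing (Y.presheaf.stalk y) := by
  obtain ⟨d₀, Y₀, c₀, j₀, hc, hj, hjq, hd₀, -, hp₀, -, -, -⟩ :=
    AmpleImm18.exists_completion (X ↘ (Spec (CommRingCat.of k))) hdim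
  let p₀ := c₀ ≫ CohB1.ProjSpace.toSpec d₀ k
  haveI : IsProper p₀ := hp₀
  haveI : IsLocallyNoetherian Y₀ := LocallyOfFiniteType.isLocallyNoetherian p₀
  haveI : LocallyQuasiFinite j₀ := inferInstance
  haveI : QuasiCompact (j₀ ≫ p₀) := by rw [hjq]; infer_instance
  haveI : QuasiCompact j₀ := QuasiCompact.of_comp j₀ p₀
  haveI : IsFinite j₀.fromNormalization :=
    NormFin18.isFinite_of_nagata_of_finiteType j₀ (NormFin18.isNagata_sections p₀)
  haveI : IsOpenImmersion j₀.toNormalization := inferInstance
  let q := j₀.fromNormalization ≫ p₀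
  haveI : IsProper q := inferInstanceAs (IsProper (_ ≫ _))
  let j := j₀.toNormalization
  have hjq' : j ≫ q = X ↘ (Spec (CommRingCat.of k)) := by
    rw [← Category.assoc, Scheme.Hom.toNormalization_fromNormalization, hjq]
  have hd : Dense (Set.range j) := IsDominant.denseRange (f := j₀.toNormalization)
  obtain ⟨-, hdimY, hcl⟩ := AmpleImm18.dim_le_one_of_dense q j hd hdim
  obtain ⟨L, hL⟩ := AmpleImm18.exists_ample_of_finiteType q hdimY
  obtain ⟨m₀, hm₀⟩ := AmpleImm18.exists_immersion_pow_of_isAmple q hL
  obtain ⟨d, c, hci, hcq, -⟩ := hm₀ m₀ le_rfl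
  haveI : IsSeparated (CohB1.ProjSpace.toSpec d k) := by
    unfold CohB1.ProjSpace.toSpec
    infer_instance
  haveI : IsProper (c ≫ CohB1.ProjSpace.toSpec d k) := by rw [hcq]; infer_instance
  haveI : IsProper c := IsProper.of_comp c (CohB1.ProjSpace.toSpec d k)
  haveI hcc : IsClosedImmersion c := (IsClosedImmersion.iff_isProper_and_mono c).2 ⟨inferInstance, inferInstance⟩
  haveI : CompactSpace ↥j₀.normalization := QuasiCompact.compactSpace_of_compactSpace q
  haveI := LocallyOfFiniteType.isLocallyNoetherian q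
  haveI : IsNoetherian j₀.normalization := {}
  refine ⟨d, j₀.normalization, c, j, hcc, inferInstance, by rw [hcq, hjq'], hd, ⟨j₀.ker_toNormalization⟩,
    finite_of_closed_points _ j.opensRange.2.isClosed_compl fun y hy => hcl y hy, fun y hy => ⟨hcl y hy, ?_⟩⟩
  refine S9676.result j₀ (NormFin18.isNagata_sections p₀) y ?_ hy
  exact le_antisymm ((VB17.ringKrullDim_stalk_le_topologicalKrullDim y).trans hdimY)
    (one_le_dim _ j.opensRange.2 hd y hy)

end Groth.Agent.S1626
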