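import Groth.Statements.S16260
import Mathlib

set_option autoImplicit false
open W4c3wronskmg

namespace Groth.Agent.S16260


open Polynomial in
theorem primitive_lt {k : Type*} [Field k] [CharZero k] (n : ℕ) (r : k) (m : k[X])
    (hm : m.natDegree < n) :
    ∃ M : k[X], (X - C r) * derivative M - C (n : k) * M = m := by
  let L : k[X] →ₗ[k] k[X] :=
    (LinearMap.mulLeft k (X - C r)).comp derivative - (LinearMap.mulLeft k (C (n : k)))
  suffices m ∈ LinearMap.range L by
    obtain ⟨M, rfl⟩ := this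
    exact ⟨M, rfl⟩
  have hdeg : (taylor r m).natDegree < n := by rwa [natDegree_taylor]
  rw [← sum_taylor_eq m r]
  refine Submodule.sum_mem _ fun t ht => ?_
  have htn : t < n := lt_of_le_of_lt (le_natDegree_of_mem_supp t ht) hdeg
  have hne : ((t : k) - n) ≠ 0 := sub_ne_zero.2 (by exact_mod_cast htn.ne)
  refine ⟨C ((taylor r m).coeff t / ((t : k) - n)) * (X - C r) ^ t, ?_⟩
  simp only [L, LinearMap.sub_apply, LinearMap.comp_apply, LinearMap.mulLeft_apply,
    derivative_C_mul, derivative_X_sub_C_pow]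
  have key : (X - C r) * (C (t : k) * (X - C r) ^ (t - 1)) = C (t : k) * (X - C r) ^ t := by
    cases t with
    | zero => simp
    | succ t => rw [Nat.add_sub_cancel, pow_succ]; ring
  have h2 : C ((taylor r m).coeff t / ((t : k) - n)) * (C (t : k) - C (n : k)) =
      C ((taylor r m).coeff t) := by
    rw [← C_sub, ← C_mul, div_mul_cancel₀ _ hne]
  linear_combination (C ((taylor r m).coeff t / ((t : k) - n))) * key +
    (X - C r) ^ t * h2

open Polynomial in
/-- numerator of the derivative of `H / (X^a (X-1)^b)` -/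
noncomputable def dMap {k : Type*} [Field k] (a b : ℕ) : k[X] →ₗ[k] k[X] :=
  (LinearMap.mulLeft k (X * (X - 1))).comp derivative -
    LinearMap.mulLeft k (C (a : k) * (X - 1) + C (b : k) * X)

open Polynomial in
theorem dMap_apply {k : Type*} [Field k] (a b : ℕ) (H : k[X]) :
    dMap a b H = X * (X - 1) * derivative H - (C (a : k) * (X - 1) + C (b : k) * X) * H := rfl

open Polynomial in
theorem dMap_pow_mul {k : Type*} [Field k] (a b a' b' : ℕ) (M : k[X]) :
    dMap a b (X ^ a' * (X - 1) ^ b' * M) = X ^ a' * (X - 1) ^ b' *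
      (X * (X - 1) * derivative M + ((C (a' : k) - C (a : k)) * (X - 1) +
        (C (b' : k) - C (b : k)) * X) * M) := by
  have hx : ∀ (r : k) (t : ℕ), (X - C r) * derivative ((X - C r) ^ t) = C (t : k) * (X - C r) ^ t := by
    intro r t
    cases t with
    | zero => simp
    | succ t => rw [derivative_X_sub_C_pow, Nat.add_sub_cancel, pow_succ]; ring
  have h0 := hx 0 a'
  have h1 := hx 1 b'
  rw [map_zero, sub_zero] at h0
  rw [map_one] at h1
  rw [dMap_apply, derivative_mul, derivative_mul]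
  linear_combination ((X - 1) * (X - 1) ^ b' * M) * h0 + (X * X ^ a' * M) * h1

open Polynomial in
theorem dvd_of_dMap {k : Type*} [Field k] [CharZero k] (a b : ℕ) (H : k[X])
    (h : X ^ a * (X - 1) ^ b ∣ dMap a b H) : X ^ a * (X - 1) ^ b ∣ H := by
  have h0 : ∀ t, t ≤ a → X ^ t ∣ H := by
    intro t
    induction t with
    | zero => intro _; simp
    | succ t ih =>
      intro ht
      obtain ⟨M, hM⟩ := ih (by omega)
      have hd : X ^ (t + 1) ∣ dMap a b (X ^ t * (X - 1) ^ 0 * M) := by
        have : X ^ t * (X - 1) ^ 0 * M = H := by rw [hM]; ring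
        rw [this]
        exact dvd_trans (dvd_trans (pow_dvd_pow X ht) (dvd_mul_right _ _)) h
      rw [dMap_pow_mul, pow_zero, mul_one, pow_succ, mul_dvd_mul_iff_left (pow_ne_zero _ X_ne_zero),
        X_dvd_iff, coeff_zero_eq_eval_zero] at hd
      simp at hd
      have : M.eval 0 = 0 := by
        rcases hd with hd | hd
        · exact absurd (by exact_mod_cast sub_eq_zero.1 hd) (Nat.ne_of_lt ht).symm
        · exact hd
      rw [← coeff_zero_eq_eval_zero, ← X_dvd_iff] at this
      obtain ⟨N, rfl⟩ := this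
      exact ⟨N, by rw [hM]; ring⟩
  have h1 : ∀ t, t ≤ b → (X - 1) ^ t ∣ H := by
    intro t
    induction t with
    | zero => intro _; simp
    | succ t ih =>
      intro ht
      obtain ⟨M, hM⟩ := ih (by omega)
      have hd : (X - 1) ^ (t + 1) ∣ dMap a b (X ^ 0 * (X - 1) ^ t * M) := by
        have : X ^ 0 * (X - 1) ^ t * M = H := by rw [hM]; ring
        rw [this]
        exact dvd_trans (dvd_trans (pow_dvd_pow (X - 1) ht) (dvd_mul_left _ _)) h
      have hne : (X - 1 : k[X]) ≠ 0 := by simpa using X_sub_C_ne_zero (1 : k)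
      rw [dMap_pow_mul, pow_zero, one_mul, pow_succ, mul_dvd_mul_iff_left (pow_ne_zero _ hne),
        show (X - 1 : k[X]) = X - C 1 by simp, dvd_iff_isRoot, IsRoot] at hd
      simp at hd
      have : M.eval 1 = 0 := by
        rcases hd with hd | hd
        · exact absurd (by exact_mod_cast sub_eq_zero.1 hd) (Nat.ne_of_lt ht)
        · exact hd
      obtain ⟨N, rfl⟩ := (dvd_iff_isRoot (a := (1 : k))).2 this
      exact ⟨N, by rw [hM, map_one]; ring⟩
  have hc : IsCoprime (X ^ a : k[X]) ((X - 1) ^ b) := by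
    apply IsCoprime.pow
    exact ⟨1, -1, by ring⟩
  exact hc.mul_dvd (h0 a le_rfl) (h1 b le_rfl)


open Polynomial in
/-- Let `k` be a field of characteristic zero, `a, b, i` positive integers with `i ≤ a + b`, and `j = a
+ b + 2 - i`. On the projective line with three marked points `A = 0`, `B = 1`, `C = ∞`, the
`(a+b+1)`-dimensional linear system `V = H⁰(ω((1+a)A)) ⊕ H⁰(ω((1+b)B)) ⊕ H⁰(ω(2C)) ⊆ H⁰(ω((1+a)A +
(1+b)B + 2C)) ≅ H⁰(O(a+b+2))` becomes, in the affine coordinate, the span of the multiples of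
`X^(a+1)` of degree at most `a+b`, the multiples of `(X-1)^(b+1)` of degree at most `a+b`, and
`X^(a+1) (X-1)^(b+1)`; and `V(-iP-jQ)` is the subspace of members divisible by `(X-p)^i (X-q)^j`.
Then there are no points `P = p`, `Q = q` other than `A, B, C` (that is, `p, q ∉ {0, 1}`; `p = q`
allowed) with both `dim V(-iP-jQ) ≥ 1` and `dim V(-(i-1)P-(j-1)Q) ≥ 2`. (The published statement is
over the complex numbers.) -/
theorem result
    (k : Type*) [Field k] [CharZero k] (a b i j : ℕ) (ha : 0 < a) (hb : 0 < b) (hi : 0 < i) (hiab : i ≤ a + b)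
    (hj : i + j = a + b + 2)
    (V : Submodule k (Polynomial k))
    (hV : V = ((Ideal.span {(X : Polynomial k) ^ (a + 1)}).restrictScalars k ⊓ Polynomial.degreeLE k ↑(a + b)) ⊔
      ((Ideal.span {((X : Polynomial k) - 1) ^ (b + 1)}).restrictScalars k ⊓ Polynomial.degreeLE k ↑(a + b)) ⊔
      Submodule.span k {(X : Polynomial k) ^ (a + 1) * (X - 1) ^ (b + 1)})
    (p q : k) (hp0 : p ≠ 0) (hp1 : p ≠ 1) (hq0 : q ≠ 0) (hq1 : q ≠ 1) :
    ¬ (1 ≤ Module.finrank k ↥(V ⊓ (Ideal.span {(X - C p) ^ i * (X - C q) ^ j}).restrictScalars k) ∧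
       2 ≤ Module.finrank k ↥(V ⊓ (Ideal.span {(X - C p) ^ (i - 1) * (X - C q) ^ (j - 1)}).restrictScalars k)) := by
  rintro ⟨-, hU⟩
  obtain ⟨i', rfl⟩ : ∃ i', i = i' + 1 := ⟨i - 1, by omega⟩
  obtain ⟨j', rfl⟩ : ∃ j', j = j' + 1 := ⟨j - 1, by omega⟩
  replace hU : 2 ≤ Module.finrank k ↥(V ⊓ (Ideal.span {(X - C p) ^ i' * (X - C q) ^ j'}).restrictScalars k) := hU
  set S : Submodule k k[X] := LinearMap.range (dMap a b) with hS
  -- members of V are numerators of derivatives
  have hVS : V ≤ S := by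
    rw [hV, sup_le_iff, sup_le_iff, Submodule.span_le, Set.singleton_subset_iff]
    refine ⟨⟨?_, ?_⟩, ?_⟩
    · rintro f ⟨hf1, hf2⟩
      obtain ⟨m, rfl⟩ := Ideal.mem_span_singleton.1 hf1
      rcases eq_or_ne m 0 with rfl | hm0
      · simp
      have hd := natDegree_le_iff_degree_le.2 (mem_degreeLE.1 hf2)
      rw [natDegree_mul (pow_ne_zero _ X_ne_zero) hm0, natDegree_pow, natDegree_X, mul_one] at hd
      obtain ⟨M, hM⟩ := primitive_lt b (1 : k) m (by omega)
      refine ⟨X ^ a * (X - 1) ^ 0 * M, ?_⟩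
      rw [dMap_pow_mul, ← hM]
      simp only [Nat.cast_zero, map_zero, pow_zero, map_one]; ring
    · rintro f ⟨hf1, hf2⟩
      obtain ⟨m, rfl⟩ := Ideal.mem_span_singleton.1 hf1
      rcases eq_or_ne m 0 with rfl | hm0
      · simp
      have hne : (X - 1 : k[X]) ≠ 0 := by simpa using X_sub_C_ne_zero (1 : k)
      have hd := natDegree_le_iff_degree_le.2 (mem_degreeLE.1 hf2)
      rw [natDegree_mul (pow_ne_zero _ hne) hm0, natDegree_pow,
        show (X - 1 : k[X]) = X - C 1 by simp, natDegree_X_sub_C, mul_one] at hd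
      obtain ⟨M, hM⟩ := primitive_lt a (0 : k) m (by omega)
      refine ⟨X ^ 0 * (X - 1) ^ b * M, ?_⟩
      rw [dMap_pow_mul, ← hM]
      simp only [Nat.cast_zero, map_zero, pow_zero, sub_zero]; ring
    · refine ⟨X ^ a * (X - 1) ^ b * X, ?_⟩
      rw [dMap_pow_mul, derivative_X]; ring
  have hVdeg : V ≤ degreeLE k ↑(a + b + 2) := by
    rw [hV, sup_le_iff, sup_le_iff, Submodule.span_le, Set.singleton_subset_iff]
    refine ⟨⟨inf_le_right.trans (degreeLE_mono ?_), inf_le_right.trans (degreeLE_mono ?_)⟩, ?_⟩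
    · exact_mod_cast (by omega : a + b ≤ a + b + 2)
    · exact_mod_cast (by omega : a + b ≤ a + b + 2)
    · rw [SetLike.mem_coe, mem_degreeLE, ← natDegree_le_iff_degree_le]
      compute_degree
      omega
  set R : k[X] := (X - C p) ^ i' * (X - C q) ^ j' with hR
  have hRm : R.Monic := ((monic_X_sub_C p).pow i').mul ((monic_X_sub_C q).pow j')
  have hRd : R.natDegree = i' + j' := by
    rw [hR, ((monic_X_sub_C p).pow i').natDegree_mul ((monic_X_sub_C q).pow j'), natDegree_pow,
      natDegree_pow, natDegree_X_sub_C, natDegree_X_sub_C, mul_one, mul_one]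
  set G : Submodule k k[X] := S.comap (LinearMap.mulLeft k R) with hG
  set L3 : Submodule k k[X] := degreeLT k 3 with hL3
  haveI : FiniteDimensional k L3 := Module.Finite.equiv (degreeLTEquiv k 3).symm
  -- at least two independent small members
  have hsub : V ⊓ (Ideal.span {R}).restrictScalars k ≤ (G ⊓ L3).map (LinearMap.mulLeft k R) := by
    rintro f ⟨hf1, hf2⟩
    obtain ⟨g, rfl⟩ := Ideal.mem_span_singleton.1 hf2
    refine ⟨g, ⟨hVS hf1, ?_⟩, rfl⟩
    rw [SetLike.mem_coe, hL3, mem_degreeLT]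
    rcases eq_or_ne g 0 with rfl | hg0
    · rw [degree_zero]; exact WithBot.bot_lt_coe _
    have hd := natDegree_le_iff_degree_le.2 (mem_degreeLE.1 (hVdeg hf1))
    rw [natDegree_mul hRm.ne_zero hg0, hRd] at hd
    rw [degree_eq_natDegree hg0]
    exact_mod_cast (by omega : g.natDegree < 3)
  have hGL : 2 ≤ Module.finrank k ↥(G ⊓ L3) :=
    hU.trans ((Submodule.finrank_mono hsub).trans (Submodule.finrank_map_le _ _))
  -- everything is congruent to something small
  have htop : ∀ d : ℕ, (X ^ d : k[X]) ∈ G ⊔ L3 := by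
    intro d
    induction d using Nat.strong_induction_on with
    | _ d ih =>
      rcases lt_or_ge d 3 with hd | hd
      · apply Submodule.mem_sup_right
        rw [hL3, mem_degreeLT, degree_X_pow]
        exact_mod_cast hd
      obtain ⟨n, rfl⟩ : ∃ n, d = n + 3 := ⟨d - 3, by omega⟩
      let u : k := p + q
      let w : k := p * q
      let t : k := (i' + 1 : ℕ) * q + (j' + 1 : ℕ) * p
      let c2 : k := -(n * (1 + u)) - ((i' + 1 : ℕ) + (j' + 1 : ℕ) + t) + a + (a + b) * u
      let c1 : k := n * (u + w) + t - a * u - (a + b) * w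
      let c0 : k := -(n * w) + a * w
      let T : k[X] := C ((n : k) + 2) * X ^ (n + 3) + C c2 * X ^ (n + 2) + C c1 * X ^ (n + 1) +
        C c0 * X ^ n
      have hT : T ∈ G := by
        refine ⟨R * ((X - C p) * (X - C q)) * X ^ n, ?_⟩
        have hs : (C ((n : k) + 2) : k[X]) = C ((n : k)) + C ((i' + 1 : ℕ) : k) +
            C ((j' + 1 : ℕ) : k) - C (a : k) - C (b : k) := by
          have h3 : ((i' + 1 + (j' + 1) : ℕ) : k) = ((a + b + 2 : ℕ) : k) := by rw [hj]
          rw [← C_add, ← C_add, ← C_sub, ← C_sub]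
          congr 1
          push_cast at h3 ⊢
          linear_combination -h3
        have hQ : R * ((X - C p) * (X - C q)) = (X - C p) ^ (i' + 1) * (X - C q) ^ (j' + 1) := by
          rw [hR]; ring
        have hXn : X * derivative (X ^ n : k[X]) = C (n : k) * X ^ n := by
          cases n with
          | zero => simp
          | succ n => rw [derivative_X_pow, Nat.add_sub_cancel, pow_succ]; ring
        rw [LinearMap.mulLeft_apply, hQ, dMap_apply, derivative_mul, derivative_mul,
          derivative_X_sub_C_pow, derivative_X_sub_C_pow, Nat.add_sub_cancel, Nat.add_sub_cancel]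
        simp only [T, hs]
        simp only [c0, c1, c2, t, u, w, hR, map_add, map_sub, map_neg, map_mul, map_one]
        linear_combination ((X - C p) ^ (i' + 1) * (X - C q) ^ (j' + 1) * (X - 1)) * hXn
      have hlow : ∀ l, l < n + 3 → ∀ c : k, C c * X ^ l ∈ G ⊔ L3 := fun l hl c => by
        rw [← smul_eq_C_mul]; exact Submodule.smul_mem _ _ (ih l hl)
      have hne : ((n : k) + 2) ≠ 0 := by exact_mod_cast (by omega : n + 2 ≠ 0)
      have h1 : C ((n : k) + 2) * X ^ (n + 3) ∈ G ⊔ L3 := by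
        have h2 : C ((n : k) + 2) * X ^ (n + 3) = T - C c2 * X ^ (n + 2) - C c1 * X ^ (n + 1) -
            C c0 * X ^ n := by simp only [T]; ring
        rw [h2]
        exact sub_mem (sub_mem (sub_mem (Submodule.mem_sup_left hT) (hlow _ (by omega) _))
          (hlow _ (by omega) _)) (hlow _ (by omega) _)
      rw [← smul_eq_C_mul] at h1
      exact (Submodule.smul_mem_iff _ hne).1 h1
  have hall : ∀ g : k[X], g ∈ G ⊔ L3 := fun g => by
    rw [g.as_sum_support_C_mul_X_pow]
    exact Submodule.sum_mem _ fun l _ => by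
      rw [← smul_eq_C_mul]; exact Submodule.smul_mem _ _ (htop l)
  let ψ : L3 →ₗ[k] k[X] ⧸ G := G.mkQ.comp L3.subtype
  have hψ : Function.Surjective ψ := by
    intro y
    obtain ⟨g, rfl⟩ := G.mkQ_surjective y
    obtain ⟨g1, hg1, g2, hg2, rfl⟩ := Submodule.mem_sup.1 (hall g)
    refine ⟨⟨g2, hg2⟩, ?_⟩
    simp [ψ, (Submodule.Quotient.mk_eq_zero G).2 hg1]
  haveI : FiniteDimensional k (k[X] ⧸ G) := Module.Finite.of_surjective ψ hψ
  have hq1' : Module.finrank k (k[X] ⧸ G) ≤ 1 := by
    have h1 := LinearMap.finrank_range_add_finrank_ker ψ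
    rw [LinearMap.range_eq_top.2 hψ, finrank_top] at h1
    have h2 : Module.finrank k L3 = 3 := by
      rw [LinearEquiv.finrank_eq (degreeLTEquiv k 3), Module.finrank_fin_fun]
    have h3 : Module.finrank k ↥(G ⊓ L3) ≤ Module.finrank k ↥(LinearMap.ker ψ) := by
      have : G ⊓ L3 ≤ (LinearMap.ker ψ).map L3.subtype := fun g hg =>
        ⟨⟨g, hg.2⟩, (Submodule.Quotient.mk_eq_zero G).2 hg.1, rfl⟩
      exact (Submodule.finrank_mono this).trans (Submodule.finrank_map_le _ _)
    omega
  -- the two residues are independent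
  let g1 : k[X] := X ^ a * (X - 1) ^ (b + 1)
  let g2 : k[X] := X ^ (a + 1) * (X - 1) ^ b
  let Φ : k × k →ₗ[k] k[X] ⧸ G :=
    G.mkQ.comp ((LinearMap.toSpanSingleton k _ g1).coprod (LinearMap.toSpanSingleton k _ g2))
  have hΦ : ¬ Function.Injective Φ := fun h => by
    have := LinearMap.finrank_le_finrank_of_injective h
    rw [Module.finrank_prod, Module.finrank_self] at this
    omega
  apply hΦ
  rw [← LinearMap.ker_eq_bot, Submodule.eq_bot_iff]
  rintro ⟨α, β⟩ h
  rw [LinearMap.mem_ker] at h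
  have hmem : α • g1 + β • g2 ∈ G := (Submodule.Quotient.mk_eq_zero G).1 h
  obtain ⟨H, hH⟩ := hmem
  have hH' : dMap a b H = X ^ a * (X - 1) ^ b * (R * (C α * (X - 1) + C β * X)) := by
    rw [hH, LinearMap.mulLeft_apply, smul_eq_C_mul, smul_eq_C_mul]
    simp only [g1, g2]; ring
  obtain ⟨M, rfl⟩ := dvd_of_dMap a b H (hH' ▸ dvd_mul_right _ _)
  rw [dMap_pow_mul] at hH'
  have hne : (X ^ a * (X - 1) ^ b : k[X]) ≠ 0 :=
    mul_ne_zero (pow_ne_zero _ X_ne_zero) (pow_ne_zero _ (by simpa using X_sub_C_ne_zero (1 : k)))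
  have hkey := mul_left_cancel₀ hne hH'
  have e0 := congrArg (Polynomial.eval 0) hkey
  have e1 := congrArg (Polynomial.eval 1) hkey
  simp [hR] at e0 e1
  have hpne : (1 : k) - p ≠ 0 := sub_ne_zero.2 (Ne.symm hp1)
  have hqne : (1 : k) - q ≠ 0 := sub_ne_zero.2 (Ne.symm hq1)
  simp_all

end Groth.Agent.S16260
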