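import Groth.Statements.S16261
import Mathlib

set_option autoImplicit false
open W4c3wronskmg

namespace Groth.Agent.S16261

open Polynomial

variable {k : Type*} [Field k]

/-- Coefficient of `X^a` of `f / (1 - X)^(b+1)`. -/
noncomputable def c2 (a b : ℕ) : Polynomial k →ₗ[k] k where
  toFun f := PowerSeries.coeff a ((f : PowerSeries k) * PowerSeries.mk fun n => ((b + n).choose b : k))
  map_add' f g := by simp [add_mul]
  map_smul' r f := by simp [smul_eq_C_mul, mul_assoc, PowerSeries.coeff_C_mul]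

lemma one_sub_pow_mul (b : ℕ) :
    ((1 : PowerSeries k) - PowerSeries.X) ^ (b + 1) * PowerSeries.mk (fun n => ((b + n).choose b : k)) = 1 := by
  rw [← PowerSeries.invOneSubPow_val_succ_eq_mk_add_choose, ← PowerSeries.invOneSubPow_inv_eq_one_sub_pow]
  exact (PowerSeries.invOneSubPow k (b + 1)).inv_val

lemma choose_id (n m b t : ℕ) (hn : n = m + b) (ht : t ≤ m) :
    n.choose t * (n - t).choose b = n.choose b * m.choose t := by
  have h1 := Nat.choose_mul (n := n) (k := t + b) (s := t) (by omega)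
  have h2 := Nat.choose_mul (n := n) (k := t + b) (s := b) (by omega)
  rw [Nat.choose_symm_add] at h1
  rw [Nat.add_sub_cancel_left] at h1
  rw [Nat.add_sub_cancel, show n - b = m by omega] at h2
  rw [← h1, h2]

lemma c2_main (a b i n m : ℕ) (q : k) (hm : i + m = a) (hn : n = m + b) :
    c2 a b (X ^ i * (X - C q) ^ n) = (n.choose b : k) * (-q) ^ b * (1 - q) ^ m := by
  show PowerSeries.coeff (R := k) a (_ * _) = _
  rw [Polynomial.coe_mul, Polynomial.coe_pow, Polynomial.coe_X, mul_assoc, ← hm, add_comm i m,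
    PowerSeries.coeff_X_pow_mul, PowerSeries.coeff_mul, Finset.Nat.sum_antidiagonal_eq_sum_range_succ_mk,
    show (1 : k) - q = 1 + -q by ring, add_pow, Finset.mul_sum]
  refine Finset.sum_congr rfl fun t ht => ?_
  have ht' : t ≤ m := Nat.lt_succ_iff.1 (Finset.mem_range.1 ht)
  rw [Polynomial.coeff_coe, sub_eq_add_neg, ← C_neg, coeff_X_add_C_pow, PowerSeries.coeff_mk, one_pow, one_mul,
    show n - t = b + (m - t) by omega, pow_add]
  have := congrArg (Nat.cast : ℕ → k) (choose_id n m b t hn ht')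
  rw [show n - t = b + (m - t) by omega] at this
  push_cast at this
  linear_combination ((-q) ^ b * (-q) ^ (m - t)) * this

lemma kill (a b : ℕ) (ha : 0 < a) (f : Polynomial k)
    (hf : f ∈ ((Ideal.span {(X : Polynomial k) ^ (a + 1)}).restrictScalars k ⊓ Polynomial.degreeLE k ↑(a + b)) ⊔
      ((Ideal.span {((X : Polynomial k) - 1) ^ (b + 1)}).restrictScalars k ⊓ Polynomial.degreeLE k ↑(a + b)) ⊔
      Submodule.span k {(X : Polynomial k) ^ (a + 1) * (X - 1) ^ (b + 1)}) :
    f.natDegree ≤ a + b + 2 ∧ f.coeff (a + b + 1) + ((b : k) + 1) * f.coeff (a + b + 2) = 0 ∧ c2 a b f = 0 := by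
  obtain ⟨y, hy, z, hz, rfl⟩ := Submodule.mem_sup.1 hf
  obtain ⟨u, hu, w, hw, rfl⟩ := Submodule.mem_sup.1 hy
  obtain ⟨c, rfl⟩ := Submodule.mem_span_singleton.1 hz
  obtain ⟨g, rfl⟩ := Ideal.mem_span_singleton.1 hu.1
  obtain ⟨h, rfl⟩ := Ideal.mem_span_singleton.1 hw.1
  have hdu := natDegree_le_iff_degree_le.2 (mem_degreeLE.1 hu.2)
  have hdw := natDegree_le_iff_degree_le.2 (mem_degreeLE.1 hw.2)
  have hmX : ((X : Polynomial k) - 1).Monic := by simpa using monic_X_sub_C (1 : k)
  have hnX : ((X : Polynomial k) - 1).natDegree = 1 := by simpa using natDegree_X_sub_C (1 : k)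
  have hT : ((X : Polynomial k) ^ (a + 1) * (X - 1) ^ (b + 1)).Monic := (monic_X_pow _).mul (hmX.pow _)
  have hTd : ((X : Polynomial k) ^ (a + 1) * (X - 1) ^ (b + 1)).natDegree = a + b + 2 := by
    rw [(monic_X_pow _).natDegree_mul (hmX.pow _), natDegree_X_pow, natDegree_pow, hnX]; omega
  refine ⟨?_, ?_, ?_⟩
  · refine (natDegree_add_le _ _).trans (max_le ((natDegree_add_le _ _).trans (max_le (by omega) (by omega))) ?_)
    exact (natDegree_smul_le _ _).trans hTd.le
  · have z1 : ∀ p : Polynomial k, p.natDegree ≤ a + b → p.coeff (a + b + 1) = 0 ∧ p.coeff (a + b + 2) = 0 :=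
      fun p hp => ⟨coeff_eq_zero_of_natDegree_lt (by omega), coeff_eq_zero_of_natDegree_lt (by omega)⟩
    have htop : ((X : Polynomial k) ^ (a + 1) * (X - 1) ^ (b + 1)).coeff (a + b + 2) = 1 := hTd ▸ hT.coeff_natDegree
    have hnext : ((X : Polynomial k) ^ (a + 1) * (X - 1) ^ (b + 1)).coeff (a + b + 1) = -((b : k) + 1) := by
      have e : ((X : Polynomial k) ^ (a + 1) * (X - 1) ^ (b + 1)).nextCoeff = -((b : k) + 1) := by
        rw [(monic_X_pow _).nextCoeff_mul (hmX.pow _), (monic_X).nextCoeff_pow, hmX.nextCoeff_pow]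
        rw [show (X : Polynomial k) - 1 = X - C 1 by simp, nextCoeff_X_sub_C]
        have : nextCoeff (X : Polynomial k) = 0 := by simpa using nextCoeff_X_sub_C (0 : k)
        rw [this]; simp
      rwa [nextCoeff_of_natDegree_pos (by omega), hTd, show a + b + 2 - 1 = a + b + 1 by omega] at e
    simp only [coeff_add, coeff_smul, (z1 _ hdu).1, (z1 _ hdu).2, (z1 _ hdw).1, (z1 _ hdw).2, htop, hnext,
      smul_eq_mul]
    ring
  · have k1 : ∀ p : Polynomial k, c2 a b (X ^ (a + 1) * p) = 0 := fun p => by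
      show PowerSeries.coeff (R := k) a (_ * _) = 0
      rw [Polynomial.coe_mul, Polynomial.coe_pow, Polynomial.coe_X, mul_assoc, PowerSeries.coeff_X_pow_mul']
      simp
    have k2 : c2 a b ((X - 1) ^ (b + 1) * h) = 0 := by
      show PowerSeries.coeff (R := k) a (_ * _) = 0
      have e : (((X - 1) ^ (b + 1) * h : Polynomial k) : PowerSeries k) * PowerSeries.mk (fun n => ((b + n).choose b : k))
          = PowerSeries.C ((-1 : k) ^ (b + 1)) * (h : PowerSeries k) := by
        rw [Polynomial.coe_mul, Polynomial.coe_pow, Polynomial.coe_sub, Polynomial.coe_X, Polynomial.coe_one,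
          show (PowerSeries.X : PowerSeries k) - 1 = (-1) * (1 - PowerSeries.X) by ring, mul_pow, map_pow, map_neg, map_one]
        linear_combination ((-1 : PowerSeries k) ^ (b + 1) * (h : PowerSeries k)) * one_sub_pow_mul (k := k) b
      rw [e, PowerSeries.coeff_C_mul, Polynomial.coeff_coe]
      by_cases hh : h = 0
      · simp [hh]
      · rw [(hmX.pow _).natDegree_mul' hh, natDegree_pow, hnX] at hdw
        rw [coeff_eq_zero_of_natDegree_lt (by omega), mul_zero]
    rw [map_add, map_add, map_smul, k1, k2, k1, smul_zero, add_zero, add_zero]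


open Polynomial in
/-- With `k` of characteristic zero, `a, b, i` positive, `i ≤ a + b`, `j = a + b + 2 - i` and `V ⊆ k[X]`
the linear system of the first assertion (marked points `A = 0`, `B = 1`, `C = ∞`; `V` spanned by
the multiples of `X^(a+1)` of degree at most `a+b`, the multiples of `(X-1)^(b+1)` of degree at most
`a+b`, and `X^(a+1) (X-1)^(b+1)`): if the point `P` is put at `A` and `Q = q` is any point other
than `C`, and both `dim V(-iA-jQ) ≥ 1` and `dim V(-(i-1)A-(j-1)Q) ≥ 2` hold, then `i ≥ a + 1`. (The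
published statement is over the complex numbers.) -/
theorem result
    (k : Type*) [Field k] [CharZero k] (a b i j : ℕ) (ha : 0 < a) (hb : 0 < b) (hi : 0 < i) (hiab : i ≤ a + b)
    (hj : i + j = a + b + 2)
    (V : Submodule k (Polynomial k))
    (hV : V = ((Ideal.span {(X : Polynomial k) ^ (a + 1)}).restrictScalars k ⊓ Polynomial.degreeLE k ↑(a + b)) ⊔
      ((Ideal.span {((X : Polynomial k) - 1) ^ (b + 1)}).restrictScalars k ⊓ Polynomial.degreeLE k ↑(a + b)) ⊔
      Submodule.span k {(X : Polynomial k) ^ (a + 1) * (X - 1) ^ (b + 1)})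
    (q : k)
    (h1 : 1 ≤ Module.finrank k ↥(V ⊓ (Ideal.span {(X : Polynomial k) ^ i * (X - C q) ^ j}).restrictScalars k))
    (h2 : 2 ≤ Module.finrank k ↥(V ⊓ (Ideal.span {(X : Polynomial k) ^ (i - 1) * (X - C q) ^ (j - 1)}).restrictScalars k)) :
    a + 1 ≤ i := by
  subst hV
  by_contra hcon
  have hi' : i ≤ a := by omega
  set V := ((Ideal.span {(X : Polynomial k) ^ (a + 1)}).restrictScalars k ⊓ Polynomial.degreeLE k ↑(a + b)) ⊔
      ((Ideal.span {((X : Polynomial k) - 1) ^ (b + 1)}).restrictScalars k ⊓ Polynomial.degreeLE k ↑(a + b)) ⊔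
      Submodule.span k {(X : Polynomial k) ^ (a + 1) * (X - 1) ^ (b + 1)}
  have hnext : ∀ (s t : ℕ), 0 < s + t →
      ((X : Polynomial k) ^ s * (X - C q) ^ t).coeff (s + t - 1) = -((t : k) * q) := by
    intro s t hst
    have hd : ((X : Polynomial k) ^ s * (X - C q) ^ t).natDegree = s + t := by
      rw [(monic_X_pow _).natDegree_mul ((monic_X_sub_C q).pow _)]; simp [natDegree_pow]
    have e : ((X : Polynomial k) ^ s * (X - C q) ^ t).nextCoeff = -((t : k) * q) := by
      rw [(monic_X_pow _).nextCoeff_mul ((monic_X_sub_C q).pow _), (monic_X).nextCoeff_pow, (monic_X_sub_C q).nextCoeff_pow,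
        nextCoeff_X_sub_C]
      have : nextCoeff (X : Polynomial k) = 0 := by simpa using nextCoeff_X_sub_C (0 : k)
      rw [this]; simp
    rwa [nextCoeff_of_natDegree_pos (by omega), hd] at e
  have htop : ∀ (s t : ℕ), ((X : Polynomial k) ^ s * (X - C q) ^ t).coeff (s + t) = 1 ∧
      ((X : Polynomial k) ^ s * (X - C q) ^ t).natDegree = s + t := by
    intro s t
    have hd : ((X : Polynomial k) ^ s * (X - C q) ^ t).natDegree = s + t := by
      rw [(monic_X_pow _).natDegree_mul ((monic_X_sub_C q).pow _)]; simp [natDegree_pow]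
    refine ⟨?_, hd⟩
    have := ((monic_X_pow s).mul ((monic_X_sub_C q).pow t)).coeff_natDegree
    rwa [hd] at this
  -- first condition
  have hq : (j : k) * q = (b : k) + 1 := by
    obtain ⟨⟨f, hfm⟩, hf0⟩ := @exists_ne _ (Module.nontrivial_of_finrank_pos (R := k) (Nat.lt_of_lt_of_le Nat.zero_lt_one h1)) 0
    obtain ⟨hd, hc, -⟩ := kill a b ha f hfm.1
    obtain ⟨g, rfl⟩ := Ideal.mem_span_singleton.1 hfm.2
    have hg : g ≠ 0 := fun e => hf0 (Subtype.ext (by simp [e]))
    rw [((monic_X_pow i).mul ((monic_X_sub_C q).pow j)).natDegree_mul' hg, (htop i j).2] at hd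
    obtain ⟨c, rfl⟩ := natDegree_eq_zero.1 (show g.natDegree = 0 by omega)
    have hc0 : c ≠ 0 := fun e => hg (by simp [e])
    rw [coeff_mul_C, coeff_mul_C, show a + b + 1 = i + j - 1 by omega, hnext i j (by omega),
      show a + b + 2 = i + j by omega, (htop i j).1] at hc
    have := mul_left_cancel₀ hc0 (show c * ((b : k) + 1) = c * ((j : k) * q) by linear_combination hc)
    exact this.symm
  -- second condition
  set P : Polynomial k := X ^ (i - 1) * (X - C q) ^ (j - 1)
  have hPd : P.natDegree = a + b := by rw [(htop _ _).2]; omega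
  have hP1 : P.coeff (a + b) = 1 := by
    have := (htop (i - 1) (j - 1)).1
    rwa [show i - 1 + (j - 1) = a + b by omega] at this
  have hP0 : P.coeff (a + b - 1) = -(((j : k) - 1) * q) := by
    have := hnext (i - 1) (j - 1) (by omega)
    rwa [show i - 1 + (j - 1) - 1 = a + b - 1 by omega, Nat.cast_sub (by omega), Nat.cast_one] at this
  set U : Submodule k (Polynomial k) := V ⊓ (Ideal.span {P}).restrictScalars k
  set w : Polynomial k := X ^ 2 * P - q • (X * P)
  have hUle : U ≤ Submodule.span k {P, w} := by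
    intro f hf
    obtain ⟨hd, hc, -⟩ := kill a b ha f hf.1
    obtain ⟨g, rfl⟩ := Ideal.mem_span_singleton.1 hf.2
    by_cases hg : g = 0
    · simp [hg]
    rw [((monic_X_pow (i - 1)).mul ((monic_X_sub_C q).pow (j - 1))).natDegree_mul' hg, hPd] at hd
    obtain ⟨c₀, c₁, c₂, rfl⟩ : ∃ c₀ c₁ c₂ : k, g = C c₀ + C c₁ * X + C c₂ * X ^ 2 := by
      refine ⟨g.coeff 0, g.coeff 1, g.coeff 2, ?_⟩
      conv_lhs => rw [g.as_sum_range' 3 (by omega)]
      simp [Finset.sum_range_succ, ← C_mul_X_pow_eq_monomial]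
    have hz1 : P.coeff (a + b + 1) = 0 := coeff_eq_zero_of_natDegree_lt (by omega)
    have hz2 : P.coeff (a + b + 2) = 0 := coeff_eq_zero_of_natDegree_lt (by omega)
    have e : P * (C c₀ + C c₁ * X + C c₂ * X ^ 2) = C c₀ * P + C c₁ * (X * P) + C c₂ * (X * (X * P)) := by ring
    rw [e] at hc ⊢
    obtain ⟨d, hd'⟩ : ∃ d, a + b = d + 1 := ⟨a + b - 1, by omega⟩
    rw [hd'] at hc hz1 hz2 hP1
    rw [show a + b - 1 = d by omega] at hP0
    simp only [coeff_add, coeff_C_mul, coeff_X_mul, hz1, hz2, hP1, hP0] at hc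
    have hc1 : c₁ = -(c₂ * q) := by linear_combination hc + c₂ * hq
    rw [hc1]
    refine Submodule.mem_span_pair.2 ⟨c₀, c₂, ?_⟩
    simp only [w, smul_eq_C_mul, map_neg, map_mul]
    ring
  have hPU : P ∈ U := by
    haveI : Module.Finite k (Submodule.span k ({P, w} : Set (Polynomial k))) :=
      Module.Finite.iff_fg.2 (Submodule.fg_span (Set.toFinite _))
    have h2' : Module.finrank k (Submodule.span k ({P, w} : Set (Polynomial k))) ≤ Module.finrank k U := by
      classical
      refine le_trans ?_ h2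
      refine (finrank_span_le_card _).trans ?_
      simp only [Set.toFinset_insert, Set.toFinset_singleton]
      exact Finset.card_le_two
    rw [Submodule.eq_of_le_of_finrank_le hUle h2']
    exact Submodule.subset_span (by simp)
  obtain ⟨-, -, hc2⟩ := kill a b ha P hPU.1
  rw [c2_main a b (i - 1) (j - 1) (a - (i - 1)) q (by omega) (by omega)] at hc2
  rcases mul_eq_zero.1 hc2 with h | h
  · rcases mul_eq_zero.1 h with h' | h'
    · exact (Nat.choose_pos (show b ≤ j - 1 by omega)).ne' (Nat.cast_eq_zero.1 h')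
    · rw [pow_eq_zero_iff hb.ne', neg_eq_zero] at h'
      rw [h', mul_zero] at hq
      exact Nat.cast_add_one_ne_zero b hq.symm
  · have h' : q = 1 := by linear_combination -(eq_zero_of_pow_eq_zero h)
    rw [h', mul_one] at hq
    have : j = b + 1 := by exact_mod_cast hq
    omega

end Groth.Agent.S16261
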