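import Groth.Statements.S16262
import Mathlib

set_option autoImplicit false
open W4c3wronskmg

namespace Groth.Agent.S16262

open Polynomial

lemma finrank_le_one_of_functional {k : Type*} [Field k] (P : Polynomial k) (φ : Polynomial k →ₗ[k] k)
    (S : Submodule k (Polynomial k)) (h : φ P ≠ 0 ∨ φ (X * P) ≠ 0)
    (hS : ∀ f ∈ S, φ f = 0 ∧ ∃ c d : k, f = c • P + d • (X * P)) : Module.finrank k S ≤ 1 := by
  let v := φ (X * P) • P - φ P • (X * P)
  have hle : S ≤ Submodule.span k {v} := by
    intro f hf
    obtain ⟨h0, c, d, rfl⟩ := hS f hf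
    rw [map_add, map_smul, map_smul, smul_eq_mul, smul_eq_mul] at h0
    rw [Submodule.mem_span_singleton]
    by_cases hG : φ (X * P) = 0
    · have hF : φ P ≠ 0 := h.resolve_right (not_not.2 hG)
      have hc : c = 0 := by
        rw [hG, mul_zero, add_zero] at h0
        exact (mul_eq_zero.1 h0).resolve_right hF
      refine ⟨-d / φ P, ?_⟩
      simp only [v, hG, hc, zero_smul, zero_sub, zero_add, smul_neg, smul_smul, ← neg_smul]
      congr 1
      field_simp
    · refine ⟨c / φ (X * P), ?_⟩
      have hd : d = -(c * φ P) / φ (X * P) := by field_simp; linear_combination h0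
      simp only [v, hd, smul_eq_C_mul]
      simp only [mul_sub, ← mul_assoc, ← map_mul]
      rw [div_mul_cancel₀ _ hG, sub_eq_add_neg, ← neg_mul, ← neg_mul, ← map_neg]
      congr 4; ring
  refine (Submodule.finrank_mono hle).trans ?_
  by_cases hv : v = 0
  · rw [hv, Submodule.span_zero_singleton, finrank_bot]; exact Nat.zero_le _
  · rw [finrank_span_singleton hv]

lemma exists_two_coeff {k : Type*} [Field k] (P : Polynomial k) (hP : P.Monic) (f : Polynomial k)
    (hdvd : P ∣ f) (hdeg : f.natDegree ≤ P.natDegree + 1) : ∃ c d : k, f = c • P + d • (X * P) := by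
  obtain ⟨g, rfl⟩ := hdvd
  by_cases hg : g = 0
  · exact ⟨0, 0, by simp [hg]⟩
  rw [hP.natDegree_mul' hg] at hdeg
  refine ⟨g.coeff 0, g.coeff 1, ?_⟩
  have e := eq_X_add_C_of_natDegree_le_one (p := g) (by omega)
  conv_lhs => rw [e]
  simp only [smul_eq_C_mul]
  ring

lemma consecutive_coeff {k : Type*} [Field k] [CharZero k] (q : k) (hq : q ≠ 0) (i m : ℕ) (a : ℕ)
    (ha1 : a + 1 ≤ i + m) (h0 : (((X : Polynomial k) + 1) ^ i * (X - C q) ^ m).coeff a = 0)
    (h1 : (((X : Polynomial k) + 1) ^ i * (X - C q) ^ m).coeff (a + 1) = 0) : False := by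
  induction a with
  | zero =>
    rw [coeff_zero_eq_eval_zero] at h0
    simp [hq] at h0
  | succ a ih =>
    refine ih (by omega) ?_ h0
    set H : Polynomial k := ((X : Polynomial k) + 1) ^ i * (X - C q) ^ m
    have hode : (X + 1) * (X - C q) * derivative H =
        (C (i : k) * (X - C q) + C (m : k) * (X + 1)) * H := by
      simp only [H, derivative_mul, derivative_pow, derivative_add, derivative_sub, derivative_X, derivative_one,
        derivative_C, add_zero, sub_zero, mul_one]
      rcases i with _ | i <;> rcases m with _ | m <;> simp [pow_succ] <;> ring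
    have e : (X + 1) * (X - C q) * derivative H = X * (X * derivative H) + C (1 - q) * (X * derivative H) - C q * derivative H := by
      rw [map_sub, map_one]; ring
    have e2 : (C (i : k) * (X - C q) + C (m : k) * (X + 1)) * H =
        C ((i : k) + m) * (X * H) + C ((m : k) - i * q) * H := by
      rw [map_add, map_sub, map_mul]; ring
    rw [e, e2] at hode
    have hc := congrArg (fun p => Polynomial.coeff p (a + 1)) hode
    simp only [coeff_add, coeff_sub, coeff_C_mul, coeff_X_mul, coeff_derivative] at hc
    rw [show a + 1 + 1 = a + 2 from rfl] at hc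
    cases a with
    | zero =>
      simp only [coeff_X_mul_zero, h0, h1, mul_zero, zero_mul, add_zero, sub_zero, coeff_derivative] at hc
      have : ((i : k) + m) ≠ 0 := by
        have : i + m ≠ 0 := by omega
        exact_mod_cast this
      exact (mul_eq_zero.1 hc.symm).resolve_left this
    | succ a =>
      simp only [coeff_X_mul, coeff_derivative, h0, h1, mul_zero, zero_mul, add_zero, sub_zero] at hc
      have hne : ((a : k) + 1) - ((i : k) + m) ≠ 0 := by
        rw [sub_ne_zero]
        have : a + 1 ≠ i + m := by omega
        exact_mod_cast this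
      refine (mul_eq_zero.1 (show (((a : k) + 1) - ((i : k) + m)) * H.coeff (a + 1) = 0 by linear_combination hc)).resolve_left hne


open Polynomial in
/-- Let `k` be a field of characteristic zero and `a, b, i` positive integers with `i < a + b`. On the
projective line with `A = 0`, `B = ∞`, `P = -1`, the system `V_{a,b} = H⁰(ω((1+a)A)) ⊕ H⁰(ω((1+b)B))
⊆ H⁰(O(a+b))` is the space of polynomials of degree at most `a+b` with vanishing coefficient of
`X^a`, and `V = V_{a,b}(-iP)` (divided by `(X+1)^i`) is the space of `G` of degree at most `a+b-i`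
such that the coefficient of `X^a` in `(X+1)^i G` vanishes; it is a linear system of dimension and
degree `a+b-i`. Then no point of the projective line other than `A` and `B` is a special
ramification point of `V` (a point of weight at least two); for such a system a point `q` of the
affine line is special exactly when two independent members are divisible by `(X-q)^(a+b-i-1)`, so
the statement is that this fails for every `q ≠ 0`. (The published statement does not except `A` and
`B`, but `A` has weight `max(b-i, 0)` in `V`, which is `2` for `a = 1, b = 3, i = 1`: there `X^3`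
and `X^2` both lie in `V`. It is stated over the complex numbers.) -/
theorem result
    (k : Type*) [Field k] [CharZero k] (a b i : ℕ) (ha : 0 < a) (hb : 0 < b) (hi : 0 < i) (hiab : i < a + b)
    (V : Submodule k (Polynomial k))
    (hV : V = Polynomial.degreeLE k ↑(a + b - i) ⊓
      LinearMap.ker ((Polynomial.lcoeff k a).comp (LinearMap.mulLeft k (((X : Polynomial k) + 1) ^ i))))
    (q : k) (hq : q ≠ 0) :
    Module.finrank k ↥(V ⊓ (Ideal.span {(X - C q) ^ (a + b - i - 1)}).restrictScalars k) ≤ 1 := by
  refine finrank_le_one_of_functional ((X - C q) ^ (a + b - i - 1))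
    ((Polynomial.lcoeff k a).comp (LinearMap.mulLeft k (((X : Polynomial k) + 1) ^ i))) _ ?_ ?_
  · by_contra hcon
    push_neg at hcon
    obtain ⟨h1, h2⟩ := hcon
    simp only [LinearMap.comp_apply, LinearMap.mulLeft_apply, lcoeff_apply] at h1 h2
    rw [mul_left_comm] at h2
    obtain ⟨a', ha'⟩ : ∃ a', a = a' + 1 := ⟨a - 1, by omega⟩
    generalize hm : a + b - i - 1 = m at h1 h2
    rw [ha', coeff_X_mul] at h2
    rw [ha'] at h1
    exact consecutive_coeff q hq i m a' (by omega) h2 h1
  · rintro f ⟨hfV, hfI⟩
    subst hV
    refine ⟨hfV.2, exists_two_coeff _ ((monic_X_sub_C q).pow _) f ?_ ?_⟩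
    · exact Ideal.mem_span_singleton.1 hfI
    · rw [natDegree_pow, natDegree_X_sub_C]
      have := natDegree_le_iff_degree_le.2 (mem_degreeLE.1 hfV.1)
      omega

end Groth.Agent.S16262
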