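import Groth.Statements.S16263
import Mathlib

set_option autoImplicit false
open W4c3wronskmg

namespace Groth.Agent.S16263

open Polynomial

lemma finrank_le_one_of_functional {k : Type*} [Field k] (P : Polynomial k) (φ : Polynomial k →ₗ[k] k)
    (S : Submodule k (Polynomial k)) (h : φ P ≠ 0 ∨ φ (X * P) ≠ 0)
    (hS : ∀ f ∈ S, φ f = 0 ∧ ∃ c d : k, f = c • P + d • (X * P)) : Module.finrank k S ≤ 1 := by
  let v := φ (X * P) • P - φ P • (X * P)
  have hle : S ≤ Submodule.span k {v} := by
    intro f hf
    obtain ⟨h0, c, d, rfl⟩ := hS f hf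
    rw [map_add, map_smul, map_smul, smul_eq_mul, smul_eq_mul] at h0
    rw [Submodule.mem_span_singleton]
    by_cases hG : φ (X * P) = 0
    · have hF : φ P ≠ 0 := h.resolve_right (not_not.2 hG)
      have hc : c = 0 := by
        rw [hG, mul_zero, add_zero] at h0
        exact (mul_eq_zero.1 h0).resolve_right hF
      refine ⟨-d / φ P, ?_⟩
      simp only [v, hG, hc, zero_smul, zero_sub, zero_add, smul_neg, smul_smul, ← neg_smul]
      congr 1
      field_simp
    · refine ⟨c / φ (X * P), ?_⟩
      have hd : d = -(c * φ P) / φ (X * P) := by field_simp; linear_combination h0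
      simp only [v, hd, smul_eq_C_mul]
      simp only [mul_sub, ← mul_assoc, ← map_mul]
      rw [div_mul_cancel₀ _ hG, sub_eq_add_neg, ← neg_mul, ← neg_mul, ← map_neg]
      congr 4; ring
  refine (Submodule.finrank_mono hle).trans ?_
  by_cases hv : v = 0
  · rw [hv, Submodule.span_zero_singleton, finrank_bot]; exact Nat.zero_le _
  · rw [finrank_span_singleton hv]

lemma exists_two_coeff {k : Type*} [Field k] (P : Polynomial k) (hP : P.Monic) (f : Polynomial k)
    (hdvd : P ∣ f) (hdeg : f.natDegree ≤ P.natDegree + 1) : ∃ c d : k, f = c • P + d • (X * P) := by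
  obtain ⟨g, rfl⟩ := hdvd
  by_cases hg : g = 0
  · exact ⟨0, 0, by simp [hg]⟩
  rw [hP.natDegree_mul' hg] at hdeg
  refine ⟨g.coeff 0, g.coeff 1, ?_⟩
  have e := eq_X_add_C_of_natDegree_le_one (p := g) (by omega)
  conv_lhs => rw [e]
  simp only [smul_eq_C_mul]
  ring

lemma mem_V {k : Type*} [Field k] (a : ℕ) (f : Polynomial k)
    (hf : f ∈ Submodule.span k {(1 : Polynomial k)} ⊔
      ((Ideal.span {(X : Polynomial k) * (X + 1)}).restrictScalars k ⊓ Polynomial.degreeLE k ↑(a + 1))) :
    f.natDegree ≤ a + 1 ∧ f.eval 0 = f.eval (-1) := by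
  obtain ⟨u, hu, w, hw, rfl⟩ := Submodule.mem_sup.1 hf
  obtain ⟨c, rfl⟩ := Submodule.mem_span_singleton.1 hu
  obtain ⟨g, hg⟩ := Ideal.mem_span_singleton.1 hw.1
  refine ⟨(natDegree_add_le _ _).trans (max_le ?_ (natDegree_le_iff_degree_le.2 (mem_degreeLE.1 hw.2))), ?_⟩
  · rw [smul_eq_C_mul, mul_one, natDegree_C]; exact Nat.zero_le _
  · rw [hg]; simp



open Polynomial in
/-- Let `k` be a field of characteristic zero and `a` a positive integer. On the projective line with `A
= 0`, `B = -1`, `C = ∞`, the `(a+1)`-dimensional system `V = H⁰(ω((1+a)C)) ⊕ H⁰(ω(A+B)) ⊆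
H⁰(ω((1+a)C + A + B)) ≅ H⁰(O(a+1))` is, in the affine coordinate, the space of polynomials `c + X
(X+1) F` with `c` a constant and `deg F ≤ a - 1`. Then `V` has no special ramification point (no
point of weight at least two): since the members have degree at most `a + 1`, this says that for
every point `p` of the affine line at most a one-dimensional subspace of `V` is divisible by
`(X-p)^a`, and at `C` that at most a one-dimensional subspace has degree at most one (degree less
than two). (The published statement carries two further positive integers `i, j` with `i + j = a -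
1`, used only in its second assertion, and is over the complex numbers.) -/
theorem result
    (k : Type*) [Field k] [CharZero k] (a : ℕ) (ha : 0 < a)
    (V : Submodule k (Polynomial k))
    (hV : V = Submodule.span k {(1 : Polynomial k)} ⊔
      ((Ideal.span {(X : Polynomial k) * (X + 1)}).restrictScalars k ⊓ Polynomial.degreeLE k ↑(a + 1))) :
    (∀ p : k, Module.finrank k ↥(V ⊓ (Ideal.span {(X - C p) ^ a}).restrictScalars k) ≤ 1) ∧
      Module.finrank k ↥(V ⊓ Polynomial.degreeLT k 2) ≤ 1 := by
  subst hV
  refine ⟨fun p => ?_, ?_⟩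
  · refine finrank_le_one_of_functional ((X - C p) ^ a)
      (Polynomial.leval (0 : k) - Polynomial.leval (-1 : k)) _ ?_ ?_
    · by_contra hcon
      push_neg at hcon
      obtain ⟨h1, h2⟩ := hcon
      simp only [LinearMap.sub_apply, Polynomial.leval_apply, eval_mul, eval_X, eval_pow, eval_sub, eval_C] at h1 h2
      have hb : (-1 - p) ^ a = 0 := by linear_combination h2
      have ha0 : (0 - p) ^ a = 0 := by linear_combination h1 + hb
      have e1 : -1 - p = 0 := eq_zero_of_pow_eq_zero hb
      have e2 : 0 - p = 0 := eq_zero_of_pow_eq_zero ha0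
      exact neg_ne_zero.2 one_ne_zero (by linear_combination e1 - e2 : (-1 : k) = 0)
    · rintro f ⟨hfV, hfI⟩
      obtain ⟨hd, he⟩ := mem_V a f hfV
      refine ⟨by simp [Polynomial.leval_apply, he], exists_two_coeff _ ((monic_X_sub_C p).pow _) f
        (Ideal.mem_span_singleton.1 hfI) ?_⟩
      rwa [natDegree_pow, natDegree_X_sub_C, mul_one]
  · have hle : (Submodule.span k {(1 : Polynomial k)} ⊔
        ((Ideal.span {(X : Polynomial k) * (X + 1)}).restrictScalars k ⊓ Polynomial.degreeLE k ↑(a + 1))) ⊓
          Polynomial.degreeLT k 2 ≤ Submodule.span k {(1 : Polynomial k)} := by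
      rintro f ⟨hfV, hf2⟩
      obtain ⟨-, he⟩ := mem_V a f hfV
      have h1 : f.degree ≤ 1 := by
        by_cases h0 : f = 0
        · simp [h0]
        · have := mem_degreeLT.1 hf2
          rw [degree_eq_natDegree h0] at this ⊢
          exact_mod_cast Nat.lt_succ_iff.1 (by exact_mod_cast this)
      have e := eq_X_add_C_of_degree_le_one h1
      rw [e] at he
      simp at he
      refine Submodule.mem_span_singleton.2 ⟨f.coeff 0, ?_⟩
      rw [smul_eq_C_mul, mul_one]
      conv_rhs => rw [e, he]
      simp
    exact (Submodule.finrank_mono hle).trans (by rw [finrank_span_singleton one_ne_zero])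

end Groth.Agent.S16263
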