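import Groth.Statements.S16264
import Mathlib

set_option autoImplicit false
open W4c3wronskmg

namespace Groth.Agent.S16264

open Polynomial

lemma mem_V {k : Type*} [Field k] (a : ℕ) (f : Polynomial k)
    (hf : f ∈ Submodule.span k {(1 : Polynomial k)} ⊔
      ((Ideal.span {(X : Polynomial k) * (X + 1)}).restrictScalars k ⊓ Polynomial.degreeLE k ↑(a + 1))) :
    f.natDegree ≤ a + 1 ∧ f.eval 0 = f.eval (-1) := by
  obtain ⟨u, hu, w, hw, rfl⟩ := Submodule.mem_sup.1 hf
  obtain ⟨c, rfl⟩ := Submodule.mem_span_singleton.1 hu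
  obtain ⟨g, hg⟩ := Ideal.mem_span_singleton.1 hw.1
  refine ⟨(natDegree_add_le _ _).trans (max_le ?_ (natDegree_le_iff_degree_le.2 (mem_degreeLE.1 hw.2))), ?_⟩
  · rw [smul_eq_C_mul, mul_one, natDegree_C]; exact Nat.zero_le _
  · rw [hg]; simp

lemma mem_V_of {k : Type*} [Field k] (a : ℕ) (f : Polynomial k) (hd : f.natDegree ≤ a + 1)
    (he : f.eval 0 = f.eval (-1)) :
    f ∈ Submodule.span k {(1 : Polynomial k)} ⊔
      ((Ideal.span {(X : Polynomial k) * (X + 1)}).restrictScalars k ⊓ Polynomial.degreeLE k ↑(a + 1)) := by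
  rw [← add_sub_cancel (C (f.eval 0)) f]
  refine Submodule.add_mem_sup (Submodule.mem_span_singleton.2 ⟨f.eval 0, by rw [smul_eq_C_mul, mul_one]⟩) ⟨?_, ?_⟩
  · refine Ideal.mem_span_singleton.2 ((IsCoprime.mul_dvd ⟨-1, 1, by ring⟩ ?_ ?_))
    · rw [X_dvd_iff, coeff_zero_eq_eval_zero]; simp
    · rw [show (X : Polynomial k) + 1 = X - C (-1) by simp, dvd_iff_isRoot]
      simp [IsRoot, he]
  · refine mem_degreeLE.2 (natDegree_le_iff_degree_le.1 ?_)
    exact (natDegree_sub_le _ _).trans (max_le hd (by simp))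



open Polynomial in
/-- Let `k` be a field of characteristic zero and `a, i, j` positive integers with `i + j = a - 1`. With
`A = 0`, `B = -1`, `C = ∞` on the projective line and `V` the `(a+1)`-dimensional system of
polynomials `c + X (X+1) F`, `deg F ≤ a - 1` (that is, `H⁰(ω((1+a)C)) ⊕ H⁰(ω(A+B)) ⊆ H⁰(O(a+1))`),
the pairs of points `(P, Q) = (p, q)` of the affine line with `dim V(-iP-jQ) ≥ 3`, i.e. with at
least a three-dimensional subspace of `V` divisible by `(X-p)^i (X-q)^j`, are exactly `(A, B)` and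
`(B, A)`. (Here `P, Q` range over the points other than `C`; when one of them is `C` the dimension
is at most two for degree reasons. The published statement is over the complex numbers.) -/
theorem result
    (k : Type*) [Field k] [CharZero k] (a i j : ℕ) (hi : 0 < i) (hj : 0 < j) (hij : i + j + 1 = a)
    (V : Submodule k (Polynomial k))
    (hV : V = Submodule.span k {(1 : Polynomial k)} ⊔
      ((Ideal.span {(X : Polynomial k) * (X + 1)}).restrictScalars k ⊓ Polynomial.degreeLE k ↑(a + 1)))
    (p q : k) :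
    3 ≤ Module.finrank k ↥(V ⊓ (Ideal.span {(X - C p) ^ i * (X - C q) ^ j}).restrictScalars k) ↔
      (p = 0 ∧ q = -1) ∨ (p = -1 ∧ q = 0) := by
  classical
  subst hV
  set P : Polynomial k := (X - C p) ^ i * (X - C q) ^ j
  have hPm : P.Monic := ((monic_X_sub_C p).pow i).mul ((monic_X_sub_C q).pow j)
  have hPd : P.natDegree = i + j := by
    simp only [P]
    rw [((monic_X_sub_C p).pow i).natDegree_mul ((monic_X_sub_C q).pow j)]
    simp [natDegree_pow]
  set W : Submodule k (Polynomial k) := Submodule.span k (Set.range fun t : Fin 3 => X ^ (t : ℕ) * P)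
  have hW : ∀ t : Fin 3, X ^ (t : ℕ) * P ∈ W := fun t => Submodule.subset_span ⟨t, rfl⟩
  have hrk : Module.finrank k W = 3 := by
    rw [finrank_span_eq_card, Fintype.card_fin]
    have hli : LinearIndependent k fun t : Fin 3 => (X : Polynomial k) ^ (t : ℕ) := by
      have := (Polynomial.basisMonomials k).linearIndependent.comp (fun t : Fin 3 => (t : ℕ)) Fin.val_injective
      simpa [Function.comp_def, X_pow_eq_monomial] using this
    exact hli.map' (LinearMap.mulRight k P) (LinearMap.ker_eq_bot.2 (mul_left_injective₀ hPm.ne_zero))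
  haveI : Module.Finite k W := Module.Finite.iff_fg.2 (Submodule.fg_span (Set.finite_range _))
  constructor
  · intro h
    have hle : (Submodule.span k {(1 : Polynomial k)} ⊔
        ((Ideal.span {(X : Polynomial k) * (X + 1)}).restrictScalars k ⊓ Polynomial.degreeLE k ↑(a + 1))) ⊓
        (Ideal.span {P}).restrictScalars k ≤ W := by
      rintro f ⟨hfV, hfI⟩
      obtain ⟨hd, -⟩ := mem_V a f hfV
      obtain ⟨g, rfl⟩ := Ideal.mem_span_singleton.1 hfI
      by_cases hg : g = 0
      · simp [hg]
      rw [hPm.natDegree_mul' hg] at hd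
      rw [mul_comm, g.as_sum_range' 3 (by omega), Finset.sum_mul]
      refine Submodule.sum_mem _ fun t ht => ?_
      rw [← C_mul_X_pow_eq_monomial, mul_assoc, ← smul_eq_C_mul]
      exact Submodule.smul_mem _ _ (hW ⟨t, Finset.mem_range.1 ht⟩)
    have heq := Submodule.eq_of_le_of_finrank_le hle (hrk ▸ h)
    have m0 := hW 0
    have m1 := hW 1
    rw [← heq] at m0 m1
    have h0 := (mem_V a _ m0.1).2
    have h1 := (mem_V a _ m1.1).2
    simp [P] at h0 h1
    rcases h1 with ⟨h1, -⟩ | ⟨h1, -⟩
    all_goals rw [h1, zero_pow (by omega)] at h0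
    all_goals simp [hi.ne', hj.ne'] at h0
    · rcases h0 with h0 | h0
      · exact absurd (show (-1 : k) = 0 by linear_combination h1 + h0) (by simp)
      · exact Or.inr ⟨by linear_combination -h1, h0⟩
    · rcases h0 with h0 | h0
      · exact Or.inl ⟨h0, by linear_combination -h1⟩
      · exact absurd (show (-1 : k) = 0 by linear_combination h1 + h0) (by simp)
  · intro hpq
    have hev : P.eval 0 = 0 ∧ P.eval (-1) = 0 := by
      rcases hpq with ⟨rfl, rfl⟩ | ⟨rfl, rfl⟩ <;> simp [P, hi.ne', hj.ne']
    have hle : W ≤ (Submodule.span k {(1 : Polynomial k)} ⊔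
        ((Ideal.span {(X : Polynomial k) * (X + 1)}).restrictScalars k ⊓ Polynomial.degreeLE k ↑(a + 1))) ⊓
        (Ideal.span {P}).restrictScalars k := by
      refine Submodule.span_le.2 ?_
      rintro _ ⟨t, rfl⟩
      refine ⟨mem_V_of a _ ?_ (by simp [hev]), Ideal.mem_span_singleton.2 (dvd_mul_left P _)⟩
      refine natDegree_mul_le.trans ?_
      rw [natDegree_X_pow, hPd]
      have := t.isLt
      omega
    haveI : Module.Finite k ↥((Submodule.span k {(1 : Polynomial k)} ⊔
        ((Ideal.span {(X : Polynomial k) * (X + 1)}).restrictScalars k ⊓ Polynomial.degreeLE k ↑(a + 1))) ⊓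
        (Ideal.span {P}).restrictScalars k) := by
      haveI : Module.Finite k (Polynomial.degreeLE k ↑(a + 1)) := Module.Finite.iff_fg.2 (by
        rw [Polynomial.degreeLE_eq_span_X_pow]; exact Submodule.fg_span (Finset.finite_toSet _))
      refine Submodule.finiteDimensional_of_le (S₂ := Polynomial.degreeLE k ↑(a + 1)) fun f hf => ?_
      exact mem_degreeLE.2 (natDegree_le_iff_degree_le.1 (mem_V a f hf.1).1)
    exact hrk ▸ Submodule.finrank_mono hle

end Groth.Agent.S16264
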