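import Groth.Statements.S16265
import Groth.Agent.Lib.FunField.Degree
import Groth.Agent.Lib.FunField.NormValue

set_option autoImplicit false
open FunFld

namespace Groth.Agent.S16265

/-- Let `K/k` be a function field of one variable over an algebraically closed field `k` of
characteristic zero (the function field of a smooth projective curve), `D` a divisor and `V ⊆ L(D)`
a linear system of dimension `r + 1`; write `V(-mP-nQ) = V ∩ L(D - mP - nQ)` for the members
vanishing to the indicated orders. Assume `V` has no special ramification point, i.e. no place of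
weight at least two: for every place `R`, `dim V(-rR) ≤ 1` and `V(-(r+2)R) = 0`. Let `P ≠ Q` be
places and `a, b ≥ 1` with `a + b = r + 1` (so that `V(-aP)` and `V(-bQ)` have dimensions `b` and
`a`). Then the following are equivalent: (1) the system `V(-aP)` has weight at least two at `Q`,
that is `dim V(-aP-(b-1)Q) ≥ 2` or `dim V(-aP-(b+1)Q) ≥ 1`, and the system `V(-bQ)` has weight at
least two at `P`, that is `dim V(-(a-1)P-bQ) ≥ 2` or `dim V(-(a+1)P-bQ) ≥ 1`; (2) one of (a) `dim
V(-(a+1)P-(b+1)Q) ≥ 1`, (b) `dim V(-(a-1)P-(b-1)Q) ≥ 3`, (c) `dim V(-aP-(b+1)Q) ≥ 1` and `dim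
V(-(a-1)P-bQ) ≥ 2`, (d) `dim V(-(a+1)P-bQ) ≥ 1` and `dim V(-aP-(b-1)Q) ≥ 2`. (The published
statement is for a smooth curve over the complex numbers.) -/
theorem result
    (k K : Type*) [Field k] [IsAlgClosed k] [CharZero k] [Field K] [Algebra k K]
    (hK : FunFld.IsFunctionField k K) (D : FunFld.Divisor k K)
    (V : Submodule k K) (hVD : V ≤ FunFld.L D) (r : ℕ) (hr : Module.finrank k ↥V = r + 1)
    (hns : ∀ R : FunFld.Place k K,
      Module.finrank k ↥(V ⊓ FunFld.L (D - Finsupp.single R (r : ℤ))) ≤ 1 ∧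
        V ⊓ FunFld.L (D - Finsupp.single R ((r : ℤ) + 2)) = ⊥)
    (P Q : FunFld.Place k K) (hPQ : P ≠ Q) (a b : ℕ) (ha : 1 ≤ a) (hb : 1 ≤ b) (hab : a + b = r + 1) :
    ((2 ≤ Module.finrank k ↥(V ⊓ FunFld.L (D - Finsupp.single P (a : ℤ) - Finsupp.single Q ((b : ℤ) - 1 : ℤ))) ∨
        1 ≤ Module.finrank k ↥(V ⊓ FunFld.L (D - Finsupp.single P (a : ℤ) - Finsupp.single Q ((b : ℤ) + 1 : ℤ)))) ∧
      (2 ≤ Module.finrank k ↥(V ⊓ FunFld.L (D - Finsupp.single P ((a : ℤ) - 1 : ℤ) - Finsupp.single Q (b : ℤ))) ∨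
        1 ≤ Module.finrank k ↥(V ⊓ FunFld.L (D - Finsupp.single P ((a : ℤ) + 1 : ℤ) - Finsupp.single Q (b : ℤ))))) ↔
    (1 ≤ Module.finrank k ↥(V ⊓ FunFld.L (D - Finsupp.single P ((a : ℤ) + 1 : ℤ) - Finsupp.single Q ((b : ℤ) + 1 : ℤ))) ∨
      3 ≤ Module.finrank k ↥(V ⊓ FunFld.L (D - Finsupp.single P ((a : ℤ) - 1 : ℤ) - Finsupp.single Q ((b : ℤ) - 1 : ℤ))) ∨
      (1 ≤ Module.finrank k ↥(V ⊓ FunFld.L (D - Finsupp.single P (a : ℤ) - Finsupp.single Q ((b : ℤ) + 1 : ℤ))) ∧
        2 ≤ Module.finrank k ↥(V ⊓ FunFld.L (D - Finsupp.single P ((a : ℤ) - 1 : ℤ) - Finsupp.single Q (b : ℤ)))) ∨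
      (1 ≤ Module.finrank k ↥(V ⊓ FunFld.L (D - Finsupp.single P ((a : ℤ) + 1 : ℤ) - Finsupp.single Q (b : ℤ))) ∧
        2 ≤ Module.finrank k ↥(V ⊓ FunFld.L (D - Finsupp.single P (a : ℤ) - Finsupp.single Q ((b : ℤ) - 1 : ℤ))))) := by
  classical
  have h : FunField.FF k K := hK.1
  let S : ℤ → ℤ → Submodule k K := fun m n => V ⊓ FunFld.L (D - Finsupp.single P m - Finsupp.single Q n)
  let f : ℤ → ℤ → ℕ := fun m n => Module.finrank k (S m n)
  haveI : ∀ E : FunFld.Divisor k K, FiniteDimensional k (FunFld.L E) := FunField.finiteDimensional_L h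
  haveI : ∀ m n, FiniteDimensional k (S m n) := fun m n => Submodule.finiteDimensional_of_le inf_le_right
  have hdeg : ∀ R : FunFld.Place k K, R.deg = 1 := fun R => by
    have hb := FunField.bijective_algebraMap_residueField h R
    exact ((AlgEquiv.ofBijective (Algebra.ofId k (IsLocalRing.ResidueField R.O)) hb).toLinearEquiv.finrank_eq.symm.trans
      (Module.finrank_self k))
  have hdivmono : ∀ {m m' n n' : ℤ}, m ≤ m' → n ≤ n' →
      D - Finsupp.single P m' - Finsupp.single Q n' ≤ D - Finsupp.single P m - Finsupp.single Q n := by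
    intro m m' n n' hm hn R
    simp only [Finsupp.coe_sub, Pi.sub_apply, Finsupp.single_apply]
    split_ifs <;> omega
  have hmono : ∀ {m m' n n' : ℤ}, m ≤ m' → n ≤ n' → f m' n' ≤ f m n := fun hm hn =>
    Submodule.finrank_mono (inf_le_inf_left V (FunField.L_mono (hdivmono hm hn)))
  have hstep : ∀ {m m' n n' : ℤ}, m ≤ m' → n ≤ n' → (m' - m) + (n' - n) ≤ 1 → f m n ≤ f m' n' + 1 := by
    intro m m' n n' hm hn h1
    have hle := hdivmono hm hn
    have hell := FunField.ell_sub_ell_le h hle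
    have hd : (D - Finsupp.single P m - Finsupp.single Q n).deg - (D - Finsupp.single P m' - Finsupp.single Q n').deg ≤ 1 := by
      rw [← FunField.deg_sub]
      have e : D - Finsupp.single P m - Finsupp.single Q n - (D - Finsupp.single P m' - Finsupp.single Q n') =
          Finsupp.single P (m' - m) + Finsupp.single Q (n' - n) := by
        rw [Finsupp.single_sub, Finsupp.single_sub]; abel
      rw [e, FunField.deg_add, FunField.deg_single, FunField.deg_single, hdeg, hdeg]
      simpa using h1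
    have hsum := Submodule.finrank_sup_add_finrank_inf_eq (S m n) (FunFld.L (D - Finsupp.single P m' - Finsupp.single Q n'))
    have hsup : Module.finrank k ↥(S m n ⊔ FunFld.L (D - Finsupp.single P m' - Finsupp.single Q n')) ≤
        Module.finrank k (FunFld.L (D - Finsupp.single P m - Finsupp.single Q n)) :=
      Submodule.finrank_mono (sup_le inf_le_right (FunField.L_mono hle))
    have hinf : S m n ⊓ FunFld.L (D - Finsupp.single P m' - Finsupp.single Q n') = S m' n' := by
      simp only [S]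
      rw [inf_assoc, inf_eq_right.2 (FunField.L_mono hle)]
    rw [hinf] at hsum
    simp only [FunFld.ell] at hell
    simp only [f]
    omega
  have hinter : ∀ m n : ℤ, S (m + 1) n ⊓ S m (n + 1) = S (m + 1) (n + 1) := fun m n => by
    refine le_antisymm (fun x hx => ⟨hx.1.1, fun R => ?_⟩) (le_inf (inf_le_inf_left V (FunField.L_mono (hdivmono le_rfl (by omega))))
      (inf_le_inf_left V (FunField.L_mono (hdivmono (by omega) le_rfl))))
    have h1 := hx.1.2 R
    have h2 := hx.2.2 R
    simp only [Finsupp.coe_sub, Pi.sub_apply, Finsupp.single_apply] at h1 h2 ⊢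
    rcases eq_or_ne P R with rfl | hP
    · simpa [hPQ.symm] using h1
    · rcases eq_or_ne Q R with rfl | hQ
      · simpa [hP] using h2
      · simpa [hP, hQ] using h1
  have hsq : ∀ m n : ℤ, f m n ≤ f (m + 1) n → f m n ≤ f m (n + 1) → f m n ≤ f (m + 1) (n + 1) := fun m n h1 h2 => by
    have e1 : S (m + 1) n = S m n :=
      Submodule.eq_of_le_of_finrank_le (inf_le_inf_left V (FunField.L_mono (hdivmono (by omega) le_rfl))) h1
    have e2 : S m (n + 1) = S m n :=
      Submodule.eq_of_le_of_finrank_le (inf_le_inf_left V (FunField.L_mono (hdivmono le_rfl (by omega)))) h2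
    have := hinter m n
    rw [e1, e2, inf_idem] at this
    exact (congrArg (fun T : Submodule k K => Module.finrank k T) this).le
  change ((2 ≤ f a (b - 1) ∨ 1 ≤ f a (b + 1)) ∧ (2 ≤ f (a - 1) b ∨ 1 ≤ f (a + 1) b)) ↔
    (1 ≤ f (a + 1) (b + 1) ∨ 3 ≤ f (a - 1) (b - 1) ∨ (1 ≤ f a (b + 1) ∧ 2 ≤ f (a - 1) b) ∨
      (1 ≤ f (a + 1) b ∧ 2 ≤ f a (b - 1)))
  generalize (a : ℤ) = m
  generalize (b : ℤ) = n
  have s1 := hstep (m := m - 1) (m' := m) (n := n - 1) (n' := n - 1) (by omega) le_rfl (by omega)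
  have s2 := hstep (m := m - 1) (m' := m - 1) (n := n - 1) (n' := n) le_rfl (by omega) (by omega)
  have s3 := hmono (m := m) (m' := m + 1) (n := n + 1) (n' := n + 1) (by omega) le_rfl
  have s4 := hmono (m := m + 1) (m' := m + 1) (n := n) (n' := n + 1) le_rfl (by omega)
  have s5 := hmono (m := m - 1) (m' := m) (n := n) (n' := n) (by omega) le_rfl
  have s6 := hmono (m := m) (m' := m + 1) (n := n) (n' := n) (by omega) le_rfl
  have s7 := hmono (m := m) (m' := m) (n := n) (n' := n + 1) le_rfl (by omega)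
  have s8 := hmono (m := m) (m' := m) (n := n - 1) (n' := n) le_rfl (by omega)
  have s9 := hstep (m := m) (m' := m + 1) (n := n) (n' := n) (by omega) le_rfl (by omega)
  have s12 := hmono (m := m - 1) (m' := m) (n := n - 1) (n' := n - 1) (by omega) le_rfl
  have s13 := hmono (m := m - 1) (m' := m - 1) (n := n - 1) (n' := n) le_rfl (by omega)
  have s10 := hsq (m - 1) (n - 1)
  have s11 := hsq m n
  rw [sub_add_cancel, sub_add_cancel] at s10
  omega

end Groth.Agent.S16265
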