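import Groth.Statements.S16266
import Groth.Agent.Lib.FunField.LinEquiv
-- import your own Groth.Agent.* helpers here

set_option autoImplicit false
open FunFld

namespace Groth.Agent.S16266

/-- Let `K/k` be a function field of one variable over an algebraically closed field `k` of
characteristic zero, `D` a divisor, `V ⊆ L(D)` a linear system of dimension `r + 1` with `r ≥ 1`,
and `P` a place with `V' = V(-P) = V ∩ L(D - P) ≠ V`, an `r`-dimensional system in `L(D - P)`.
Assume that neither `V` nor `V'` has a special ramification point (a place of weight at least two):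
for every place `R`, `dim V ∩ L(D - rR) ≤ 1`, `V ∩ L(D - (r+2)R) = 0`, `dim V' ∩ L(D - P - (r-1)R) ≤
1` and `V' ∩ L(D - P - (r+1)R) = 0`. Then no place `Q ≠ P` is a ramification point of both `V` and
`V'`: for no such `Q` are both `V ∩ L(D - (r+1)Q)` and `V' ∩ L(D - P - rQ)` nonzero. (The published
statement is for a smooth curve over the complex numbers.) -/
theorem result
    (k K : Type*) [Field k] [IsAlgClosed k] [CharZero k] [Field K] [Algebra k K]
    (hK : FunFld.IsFunctionField k K) (D : FunFld.Divisor k K)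
    (V : Submodule k K) (hVD : V ≤ FunFld.L D) (r : ℕ) (hr : Module.finrank k ↥V = r + 1) (hr1 : 1 ≤ r)
    (P : FunFld.Place k K) (hP : V ⊓ FunFld.L (D - Finsupp.single P 1) ≠ V)
    (hns : ∀ R : FunFld.Place k K,
      Module.finrank k ↥(V ⊓ FunFld.L (D - Finsupp.single R (r : ℤ))) ≤ 1 ∧
        V ⊓ FunFld.L (D - Finsupp.single R ((r : ℤ) + 2)) = ⊥)
    (hns' : ∀ R : FunFld.Place k K,
      Module.finrank k ↥(V ⊓ FunFld.L (D - Finsupp.single P 1 - Finsupp.single R ((r : ℤ) - 1))) ≤ 1 ∧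
        V ⊓ FunFld.L (D - Finsupp.single P 1 - Finsupp.single R ((r : ℤ) + 1)) = ⊥)
    (Q : FunFld.Place k K) (hQP : Q ≠ P) :
    ¬ (V ⊓ FunFld.L (D - Finsupp.single Q ((r : ℤ) + 1)) ≠ ⊥ ∧
       V ⊓ FunFld.L (D - Finsupp.single P 1 - Finsupp.single Q (r : ℤ)) ≠ ⊥) := by
  rintro ⟨h1, h2⟩
  obtain ⟨f, hf, hf0⟩ := Submodule.exists_mem_ne_zero_of_ne_bot h1
  obtain ⟨g, hg, hg0⟩ := Submodule.exists_mem_ne_zero_of_ne_bot h2
  haveI := Groth.Agent.FunField.finiteDimensional_L hK.1 (D - Finsupp.single Q (r : ℤ))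
  haveI := Submodule.finiteDimensional_inf_right V (FunFld.L (D - Finsupp.single Q (r : ℤ)))
  have hfm : f ∈ V ⊓ FunFld.L (D - Finsupp.single Q (r : ℤ)) := by
    refine ⟨hf.1, Groth.Agent.FunField.L_mono (sub_le_sub_left ?_ D) hf.2⟩
    exact Finsupp.single_mono (by omega)
  have hgm : g ∈ V ⊓ FunFld.L (D - Finsupp.single Q (r : ℤ)) :=
    ⟨hg.1, Groth.Agent.FunField.L_mono (sub_le_sub_right (sub_le_self _ (Finsupp.single_nonneg.2 zero_le_one)) _) hg.2⟩
  have hone := (hns Q).1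
  obtain ⟨⟨v, hv⟩, hspan⟩ := finrank_le_one_iff.1 hone
  obtain ⟨c, hc⟩ := hspan ⟨f, hfm⟩
  obtain ⟨c', hc'⟩ := hspan ⟨g, hgm⟩
  have hc0 : c' ≠ 0 := by
    rintro rfl
    rw [zero_smul] at hc'
    exact hg0 (congrArg Subtype.val hc').symm
  have hfg : f = (c * c'⁻¹) • g := by
    have e1 : c • v = f := congrArg Subtype.val hc
    have e2 : c' • v = g := congrArg Subtype.val hc'
    rw [← e1, ← e2, smul_smul, mul_assoc, inv_mul_cancel₀ hc0, mul_one]
  have hbad := (hns' Q).2
  rw [Submodule.eq_bot_iff] at hbad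
  refine hf0 (hbad f ⟨hf.1, (Groth.Agent.FunField.mem_L_iff_ord hf0).2 fun R => ?_⟩)
  have hfP : f ∈ FunFld.L (D - Finsupp.single P 1 - Finsupp.single Q (r : ℤ)) := hfg ▸ Submodule.smul_mem _ _ hg.2
  have e1 := (Groth.Agent.FunField.mem_L_iff_ord hf0).1 hfP R
  have e2 := (Groth.Agent.FunField.mem_L_iff_ord hf0).1 hf.2 R
  rcases eq_or_ne R Q with rfl | hR
  · rw [Finsupp.sub_apply, Finsupp.single_eq_same] at e2
    rw [Finsupp.sub_apply, Finsupp.sub_apply, Finsupp.single_eq_of_ne hQP, Finsupp.single_eq_same]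
    omega
  · rw [Finsupp.sub_apply, Finsupp.single_eq_of_ne hR] at e1 ⊢
    exact e1

end Groth.Agent.S16266
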