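import Groth.Statements.S16272
import Groth.Agent.Lib.Torsor25.Basic

set_option autoImplicit false
universe w' w v u
open CategoryTheory
open NonAbH1

namespace Groth.Agent.S16272

/-- The class map is well defined: let C be a category with a Grothendieck topology J, G a sheaf of
groups and U a family of objects. A G-torsor P with a section over every U_i has exactly one Cech
class on U: choosing sections s_i of P over the U_i cuts out a 1-cocycle of G on U, and its class in
the Cech cohomology set H^1(U, G) does not depend on the choice. (The published statement is for an
etale covering of a scheme; this row is stated for any family of objects of any site.) -/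
theorem result {C : Type u} [Category.{v} C]
    {J : GrothendieckTopology C} {G : Sheaf J GrpCat.{w}} (P : NonAbH1.Torsor G)
    {I : Type w'} (U : I → C) (hP : P.TrivialisedBy U) :
    ∃! c : PresheafOfGroups.H1 G.obj U, P.HasCechClass U c := by
  let s := fun i => (hP i).some
  obtain ⟨γ, hγ⟩ := Torsor25.exists_cocycle P.isTorsor.1 s
  refine ⟨γ.class, ⟨s, γ, hγ, rfl⟩, ?_⟩
  rintro _ ⟨t, δ, hδ, rfl⟩
  exact (Torsor25.isCohomologous P.isTorsor.1 hδ hγ).class_eq

end Groth.Agent.S16272
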