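import Groth.Statements.S16274
import Mathlib.Logic.Small.Basic
import Mathlib.Data.Int.Cast.Lemmas

set_option autoImplicit false
universe w' w v u
open CategoryTheory
open NonAbH1

namespace Groth.Agent.S16274

open Opposite

variable {C : Type u} [Category.{v} C] {J : GrothendieckTopology C} (G : Sheaf J GrpCat.{w})

theorem map_id' {T : Cᵒᵖ} (g : G.obj.obj T) : G.obj.map (𝟙 T) g = g := by simp

theorem map_comp' {T T' T'' : C} (a : T' ⟶ T) (b : T'' ⟶ T') (g : G.obj.obj (op T)) :
    G.obj.map b.op (G.obj.map a.op g) = G.obj.map (b ≫ a).op g := by simp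

/-- The sheaf property of a sheaf of groups, on elements. -/
theorem existsUnique_glue {T : C} {S : Sieve T} (hS : S ∈ J T)
    (x : ∀ ⦃Y : C⦄ (f : Y ⟶ T), S f → G.obj.obj (op Y))
    (hx : ∀ ⦃Y Y' : C⦄ (c : Y' ⟶ Y) (f : Y ⟶ T) (hf : S f),
      G.obj.map c.op (x f hf) = x (c ≫ f) (S.downward_closed hf c)) :
    ∃! g : G.obj.obj (op T), ∀ ⦃Y : C⦄ (f : Y ⟶ T) (hf : S f), G.obj.map f.op g = x f hf := by
  let Z : GrpCat.{w} := GrpCat.of (ULift.{w} (Multiplicative ℤ))
  let one' : Z := ULift.up (Multiplicative.ofAdd 1)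
  let mk : ∀ {Y : Cᵒᵖ}, G.obj.obj Y → (Z ⟶ G.obj.obj Y) := fun {Y} g =>
    GrpCat.ofHom ((zpowersHom _ g).comp MulEquiv.ulift.toMonoidHom)
  have hmk : ∀ {Y : Cᵒᵖ} (g : G.obj.obj Y), (mk g) one' = g := fun g => by
    change g ^ (1 : ℤ) = g
    exact zpow_one g
  have hext : ∀ {Y : Cᵒᵖ} (φ ψ : Z ⟶ G.obj.obj Y), φ one' = ψ one' → φ = ψ := by
    intro Y φ ψ h
    ext z
    obtain ⟨z⟩ := z
    have e : (ULift.up z : ULift.{w} (Multiplicative ℤ)) = one' ^ (Multiplicative.toAdd z) := by
      apply ULift.ext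
      change z = (Multiplicative.ofAdd (1 : ℤ)) ^ (Multiplicative.toAdd z)
      simp [← ofAdd_zsmul]
    have : ∀ χ : Z ⟶ G.obj.obj Y, χ (ULift.up z) = (χ one') ^ (Multiplicative.toAdd z) := fun χ => by
      rw [← map_zpow]; exact congrArg _ e
    exact (this φ).trans ((congrArg (· ^ _) h).trans (this ψ).symm)
  let fam : Presieve.FamilyOfElements (G.obj ⋙ coyoneda.obj (op Z)) S.arrows := fun Y f hf => mk (x f hf)
  have hfam : fam.Compatible := by
    rw [Presieve.compatible_iff_sieveCompatible]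
    intro Y Y' f c hf
    apply hext
    change (mk (x (c ≫ f) _)) one' = G.obj.map c.op ((mk (x f hf)) one')
    rw [hmk, hmk, hx]
  obtain ⟨g, hg, hguniq⟩ := G.property Z S hS fam hfam
  change Z ⟶ G.obj.obj (op T) at g
  refine ⟨g one', fun Y f hf => ?_, fun g' hg' => ?_⟩
  · have h : (g ≫ G.obj.map f.op : Z ⟶ G.obj.obj (op Y)) = mk (x f hf) := hg f hf
    exact (congr($h one')).trans (hmk _)
  · have := hguniq (mk g') (fun Y f hf => hext _ _ ?_)
    · rw [← this, hmk]
    · change G.obj.map f.op ((mk g') one') = (mk (x f hf)) one'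
      rw [hmk, hmk, hg']

theorem ext_of_cover {T : C} {S : Sieve T} (hS : S ∈ J T) {g g' : G.obj.obj (op T)}
    (h : ∀ ⦃Y : C⦄ (f : Y ⟶ T), S f → G.obj.map f.op g = G.obj.map f.op g') : g = g' :=
  (existsUnique_glue G hS (fun Y f _ => G.obj.map f.op g) (fun Y Y' c f _ => map_comp' G f c g)).unique
    (fun _ _ _ => rfl) (fun _ f hf => (h f hf).symm)

variable {G} {I : Type w'} {U : I → C} (γ : PresheafOfGroups.OneCocycle G.obj U)

/-- The sections over `T` of the torsor of a cocycle. -/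
@[ext]
structure Sec (T : C) where
  q : ∀ (i : I) ⦃Y : C⦄, (Y ⟶ T) → (Y ⟶ U i) → G.obj.obj (op Y)
  natural : ∀ (i : I) ⦃Y Y' : C⦄ (c : Y' ⟶ Y) (a : Y ⟶ T) (b : Y ⟶ U i),
    G.obj.map c.op (q i a b) = q i (c ≫ a) (c ≫ b)
  rel : ∀ (i j : I) ⦃Y : C⦄ (a : Y ⟶ T) (b : Y ⟶ U i) (b' : Y ⟶ U j),
    q i a b * γ.ev i j b b' = q j a b'

variable {γ}

/-- Restriction of sections. -/
def Sec.res {T T' : C} (f : T' ⟶ T) (p : Sec γ T) : Sec γ T' where
  q i Y a b := p.q i (a ≫ f) b
  natural i Y Y' c a b := by simp [p.natural]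
  rel i j Y a b b' := p.rel i j _ b b'

/-- The action on sections. -/
def Sec.act {T : C} (g : G.obj.obj (op T)) (p : Sec γ T) : Sec γ T where
  q i Y a b := G.obj.map a.op g * p.q i a b
  natural i Y Y' c a b := by rw [map_mul, map_comp', p.natural]
  rel i j Y a b b' := by rw [mul_assoc, p.rel]

variable (γ) in
/-- The tautological section over a member of the family. -/
def Sec.base (k : I) : Sec γ (U k) where
  q i Y a b := γ.ev k i a b
  natural i Y Y' c a b := γ.ev_precomp k i c a b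
  rel i j Y a b b' := γ.ev_trans k i j a b b'

theorem Sec.existsUnique_act (hU : J.CoversTop U) {T : C} (p p' : Sec γ T) :
    ∃! g : G.obj.obj (op T), p.act g = p' := by
  classical
  let x : ∀ ⦃Y : C⦄ (f : Y ⟶ T), Sieve.ofObjects U T f → G.obj.obj (op Y) := fun Y f hf =>
    p'.q hf.choose f hf.choose_spec.some * (p.q hf.choose f hf.choose_spec.some)⁻¹
  have hindep : ∀ ⦃Y : C⦄ (f : Y ⟶ T) (i j : I) (b : Y ⟶ U i) (b' : Y ⟶ U j),
      p'.q i f b * (p.q i f b)⁻¹ = p'.q j f b' * (p.q j f b')⁻¹ := by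
    intro Y f i j b b'
    rw [← p.rel i j f b b', ← p'.rel i j f b b']
    rw [mul_inv_rev, mul_assoc, mul_inv_cancel_left]
  obtain ⟨g, hg, huniq⟩ := existsUnique_glue G (hU T) x (fun Y Y' c f hf => by
    simp only [x, map_mul, map_inv, p.natural, p'.natural]
    exact hindep _ _ _ _ _)
  refine ⟨g, ?_, ?_⟩
  · refine Sec.ext ?_
    funext i Y a b
    have ha : Sieve.ofObjects U T a := ⟨i, ⟨b⟩⟩
    change G.obj.map a.op g * p.q i a b = _
    rw [hg a ha]
    change p'.q _ a _ * (p.q _ a _)⁻¹ * _ = _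
    rw [hindep a _ i _ b, inv_mul_cancel_right]
  · intro g' hg'
    refine huniq g' fun Y f hf => ?_
    have := congr(Sec.q $hg' hf.choose f hf.choose_spec.some)
    change G.obj.map f.op g' * _ = _ at this
    change G.obj.map f.op g' = _ * _
    rw [← this, mul_inv_cancel_right]

theorem small_sec (hU : J.CoversTop U) (T : C) : Small.{w} (Sec γ T) := by
  rcases isEmpty_or_nonempty (Sec γ T) with h | ⟨⟨p⟩⟩
  · exact small_of_injective (β := PEmpty.{w + 1}) (f := fun q => isEmptyElim q)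
      (fun q => isEmptyElim q)
  · exact small_of_surjective (f := fun g : G.obj.obj (op T) => p.act g)
      (fun q => (Sec.existsUnique_act hU p q).exists)

theorem Sec.res_id {T : C} (p : Sec γ T) : p.res (𝟙 T) = p :=
  Sec.ext (by funext i Y a b; simp [Sec.res])

theorem Sec.res_comp {T T' T'' : C} (f : T' ⟶ T) (f' : T'' ⟶ T') (p : Sec γ T) :
    p.res (f' ≫ f) = (p.res f).res f' :=
  Sec.ext (by funext i Y a b; simp [Sec.res])

/-- Gluing of sections. -/
theorem Sec.existsUnique_amalg {T : C} {S : Sieve T} (hS : S ∈ J T)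
    (x : ∀ ⦃Y : C⦄ (f : Y ⟶ T), S f → Sec γ Y)
    (hx : ∀ ⦃Y Y' : C⦄ (c : Y' ⟶ Y) (f : Y ⟶ T) (hf : S f),
      (x f hf).res c = x (c ≫ f) (S.downward_closed hf c)) :
    ∃! p : Sec γ T, ∀ ⦃Y : C⦄ (f : Y ⟶ T) (hf : S f), p.res f = x f hf := by
  have hx' : ∀ ⦃Y Y' : C⦄ (c : Y' ⟶ Y) (f : Y ⟶ T) (hf : S f) (i : I) ⦃Z : C⦄ (d : Z ⟶ Y')
      (b : Z ⟶ U i), (x f hf).q i (d ≫ c) b = (x (c ≫ f) (S.downward_closed hf c)).q i d b :=
    fun Y Y' c f hf i Z d b => congr(Sec.q $(hx c f hf) i d b)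
  have hglue : ∀ (i : I) ⦃Y : C⦄ (a : Y ⟶ T) (b : Y ⟶ U i), ∃! g : G.obj.obj (op Y),
      ∀ ⦃Z : C⦄ (c : Z ⟶ Y) (hc : (S.pullback a) c),
        G.obj.map c.op g = (x (c ≫ a) hc).q i (𝟙 Z) (c ≫ b) := by
    intro i Y a b
    refine existsUnique_glue G (J.pullback_stable a hS)
      (fun Z c hc => (x (c ≫ a) hc).q i (𝟙 Z) (c ≫ b)) (fun Z Z' d c hc => ?_)
    rw [(x (c ≫ a) hc).natural]
    have := hx' d (c ≫ a) hc i (𝟙 Z') (d ≫ c ≫ b)
    simpa [Category.assoc] using this
  choose g hg huniq using fun i Y a b => hglue i (Y := Y) a b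
  let p : Sec γ T :=
  { q := fun i Y a b => g i Y a b
    natural := fun i Y Y' c a b => huniq i _ (c ≫ a) (c ≫ b) _ fun Z d hd => by
      rw [map_comp', hg i _ a b (d ≫ c) (by simpa using hd)]
      simp [Category.assoc]
    rel := fun i j Y a b b' => huniq j _ a b' _ fun Z c hc => by
      rw [map_mul, hg i _ a b c hc, γ.ev_precomp]
      exact (x (c ≫ a) hc).rel i j _ _ _ }
  refine ⟨p, fun Y f hf => Sec.ext ?_, fun p' hp' => Sec.ext ?_⟩
  · funext i Z a b
    have h1 : S (a ≫ f) := S.downward_closed hf a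
    refine (huniq i _ (a ≫ f) b _ fun W c hc => ?_).symm
    rw [(x f hf).natural]
    have := hx' (c ≫ a) f hf i (𝟙 W) (c ≫ b)
    simpa [Category.assoc] using this
  · funext i Y a b
    refine huniq i _ a b _ fun Z c hc => ?_
    rw [p'.natural]
    have := congr(Sec.q $(hp' (c ≫ a) hc) i (𝟙 Z) (c ≫ b))
    simpa [Sec.res] using this

/-- The presheaf of sections of the torsor of a cocycle. -/
noncomputable def secPresheaf [∀ T : C, Small.{w} (Sec γ T)] : Cᵒᵖ ⥤ Type w where
  obj T := Shrink.{w} (Sec γ T.unop)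
  map f := TypeCat.ofHom fun p => equivShrink _ (Sec.res f.unop ((equivShrink _).symm p))
  map_id T := by ext p; simp [Sec.res_id]
  map_comp f f' := by ext p; simp [Sec.res_comp]

theorem isSheaf_secPresheaf [∀ T : C, Small.{w} (Sec γ T)] :
    Presheaf.IsSheaf J (secPresheaf (γ := γ)) := by
  rw [isSheaf_iff_isSheaf_of_type]
  intro T S hS fam hfam
  rw [Presieve.compatible_iff_sieveCompatible] at hfam
  obtain ⟨p, hp, huniq⟩ := Sec.existsUnique_amalg hS (fun Y f hf => (equivShrink _).symm (fam f hf))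
    (fun Y Y' c f hf => by
      rw [hfam f c hf]
      exact ((equivShrink _).symm_apply_apply _).symm)
  refine ⟨equivShrink _ p, fun Y f hf => ?_, fun p' hp' => ?_⟩
  · change equivShrink _ (Sec.res f ((equivShrink _).symm (equivShrink _ p))) = fam f hf
    rw [Equiv.symm_apply_apply, hp f hf, Equiv.apply_symm_apply]
  · refine (Equiv.symm_apply_eq _).1 (huniq _ fun Y f hf => ?_)
    rw [← hp' f hf]
    exact ((equivShrink _).symm_apply_apply _).symm

/-- The `G`-sheaf of a cocycle. -/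
noncomputable def gSheaf [∀ T : C, Small.{w} (Sec γ T)] : GSheaf G where
  P := ⟨secPresheaf (γ := γ), isSheaf_secPresheaf⟩
  smul g p := equivShrink _ (Sec.act g ((equivShrink _).symm p))
  one_smul p := by
    refine (congrArg _ (Sec.ext ?_)).trans ((equivShrink _).apply_symm_apply p)
    funext i Y a b
    simp [Sec.act]
  mul_smul g h p := by
    refine congrArg _ (Eq.trans (Sec.ext ?_) (congrArg _ ((equivShrink _).symm_apply_apply _).symm))
    funext i Y a b
    simp [Sec.act, mul_assoc]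
  map_smul {T T'} f g p := by
    change equivShrink _ (Sec.res f.unop ((equivShrink _).symm (equivShrink _ (Sec.act g _)))) =
      equivShrink _ (Sec.act _ ((equivShrink _).symm (equivShrink _ (Sec.res f.unop _))))
    rw [Equiv.symm_apply_apply, Equiv.symm_apply_apply]
    refine congrArg _ (Sec.ext ?_)
    funext i Y a b
    simp [Sec.act, Sec.res]

/-- Let C be a category with a Grothendieck topology J, G a sheaf of groups and U a family of objects
which covers every object of the site. Every class in the Cech cohomology set H^1(U, G) is the Cech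
class of some G-torsor that has a section over every U_i. (The published statement is for an etale
covering of a scheme; this row is stated for any family of objects covering the site.) -/
theorem result {C : Type u} [Category.{v} C]
    {J : GrothendieckTopology C} (G : Sheaf J GrpCat.{w}) {I : Type w'} (U : I → C) (hU : J.CoversTop U)
    (c : PresheafOfGroups.H1 G.obj U) :
    ∃ P : NonAbH1.Torsor G, P.TrivialisedBy U ∧ P.HasCechClass U c := by
  obtain ⟨γ, rfl⟩ := Quot.exists_rep c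
  haveI : ∀ T : C, Small.{w} (Sec γ T) := small_sec hU
  have htors : (gSheaf (γ := γ)).IsTorsor := by
    refine ⟨fun T p q => ?_, fun T => ⟨_, hU T, ?_⟩⟩
    · obtain ⟨g, hg, huniq⟩ :=
        Sec.existsUnique_act hU ((equivShrink _).symm p) ((equivShrink _).symm q)
      refine ⟨g, ?_, fun g' hg' => huniq g' ?_⟩
      · exact (congrArg _ hg).trans ((equivShrink _).apply_symm_apply q)
      · exact ((equivShrink _).symm_apply_apply _).symm.trans (congrArg _ hg')
    · rintro V f ⟨i, ⟨b⟩⟩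
      exact ⟨equivShrink _ (Sec.res b (Sec.base γ i))⟩
  refine ⟨⟨gSheaf (γ := γ), htors⟩, fun i => ⟨equivShrink _ (Sec.base γ i)⟩,
    fun i => equivShrink _ (Sec.base γ i), γ, ?_, rfl⟩
  intro i j T a b
  change equivShrink _ (Sec.act _ ((equivShrink _).symm (equivShrink _ (Sec.res b
      ((equivShrink _).symm (equivShrink _ (Sec.base γ j))))))) =
    equivShrink _ (Sec.res a ((equivShrink _).symm (equivShrink _ (Sec.base γ i))))
  rw [Equiv.symm_apply_apply, Equiv.symm_apply_apply, Equiv.symm_apply_apply]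
  refine congrArg _ (Sec.ext ?_)
  funext k Y c d
  change G.obj.map c.op (γ.ev i j a b) * γ.ev j k (c ≫ b) d = γ.ev i k (c ≫ a) d
  rw [γ.ev_precomp, γ.ev_trans]

end Groth.Agent.S16274
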