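import Groth.Statements.S16277
import Groth.Agent.Lib.HdgLef1.Main
import Groth.Agent.Lib.HdgLef1.Geo
import Groth.Agent.S16275

set_option autoImplicit false
universe u
open CategoryTheory CategoryTheory.Limits AlgebraicGeometry
open HodgeNum

namespace Groth.Agent.S16277

/-- Let k be an algebraically closed field of characteristic p > 0, X a smooth projective k-variety of
dimension n + 1 (an integral k-scheme, smooth of relative dimension n + 1 over k, with a closed
immersion into some P^N_k over k) and L an ample invertible O_X-module. Then for d large enough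
every smooth divisor Y in the linear system of L^{⊗d} satisfies h^{p,q}(Y) = h^{p,q}(X) for p + q ≤
n - 1: there is d₀ such that for all d ≥ d₀, every M with M ⊗ L^{⊗d} ≅ O_X, every closed subscheme Y
of X which is smooth of relative dimension n over k and whose ideal sheaf is isomorphic to M, all p,
q with p + q ≤ n - 1, every p-th exterior power F of Ω_{Y/k} and every p-th exterior power E of
Ω_{X/k}, the k-vector spaces H^q(Y, F) and H^q(X, E) have the same dimension. (The published
statement assumes L very ample; its argument only uses that L is ample, which is what is assumed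
here.) -/
theorem result (k : Type u) [Field k] [IsAlgClosed k]
    (pc : ℕ) [Fact pc.Prime] [CharP k pc] (n N : ℕ)
    (X : Scheme.{u}) [X.Over (Spec (CommRingCat.of k))] [IsIntegral X]
    [SmoothOfRelativeDimension (n + 1) (X ↘ Spec (CommRingCat.of k))]
    (ι : X ⟶ CohB1.ProjSpace N k) [IsClosedImmersion ι] (hι : ι ≫ CohB1.ProjSpace.toSpec N k = X ↘ Spec (CommRingCat.of k))
    (L : X.Modules) (hL : CohB1.IsAmple L) :
    ∃ d₀ : ℕ, ∀ d : ℕ, d₀ ≤ d → ∀ M : X.Modules, ClSub.IsInverseOf M (CohB1.tensorPow L d) →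
      ∀ (I : X.IdealSheafData) [I.subscheme.Over (Spec (CommRingCat.of k))],
        I.subscheme ↘ Spec (CommRingCat.of k) = I.subschemeι ≫ X ↘ Spec (CommRingCat.of k) → Nonempty (ClSub.idealMod I ≅ M) →
        SmoothOfRelativeDimension n (I.subscheme ↘ Spec (CommRingCat.of k)) →
        ∀ p q : ℕ, p + q + 1 ≤ n →
          ∀ F : I.subscheme.Modules, ExtPow.IsExtPow p (Omega.sheaf (I.subscheme ↘ Spec (CommRingCat.of k))) F →
          ∀ E : X.Modules, ExtPow.IsExtPow p (Omega.sheaf (X ↘ Spec (CommRingCat.of k))) E →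
            Module.finrank k (Coh.HH I.subscheme F q) = Module.finrank k (Coh.HH X E q) := by
  open Groth.Agent in
  haveI : IsProper (CohB1.ProjSpace.toSpec N k) := ProjSpace.isProper_toSpec N k
  haveI : IsProper (X ↘ Spec (CommRingCat.of k)) := hι ▸ (inferInstanceAs (IsProper (ι ≫ CohB1.ProjSpace.toSpec N k)))
  haveI : Smooth (X ↘ Spec (CommRingCat.of k)) := SmoothOfRelativeDimension.smooth (n + 1) _
  have hdim := HdgLef1.dim_eq_of_smoothOfRelativeDimension k (X ↘ Spec (CommRingCat.of k)) (n + 1)
  have hLi : PicF.IsInvertible L := (Amp.isAmple_iff.1 hL).1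
  obtain ⟨L', hL', ⟨e'⟩⟩ := M2.exists_inverse hLi
  obtain ⟨m₀, hm₀⟩ := HdgLef1.exists_neg k hdim hL e'
  refine ⟨m₀ + 1, fun d hd M hM I _ hover hI _ p q hpq F hF E hE => ?_⟩
  refine Groth.Agent.S16275.result k pc n N X ι hι L hLi (m₀ + 1) (Nat.succ_pos _) (fun d' hd' M' hM' c i hci E' hE' => ?_)
    d hd M hM I hI hover p q hpq F hF E hE
  obtain ⟨t⟩ := ExtFil4.isoExtPow (HdgLef1.isExtPow_E (Omega12.isFinLocFree_receptacle_of_smooth _
    (Omega12.isUniversal_dOmega _)) c) hE'
  obtain ⟨eM'⟩ := hM'
  exact HdgLef1.van_congr k (M2.tensorIso t (M2.inverseUnique (M := CohB1.tensorPow L d') (ES11.powInvIso e' d')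
    (M2.tensorComm _ _ ≪≫ eM'))) (hm₀ d' (by omega) c i (by omega))

end Groth.Agent.S16277
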