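import Groth.Statements.S16282
import Groth.Agent.Lib.CohMop.TensorDerived
-- import your own Groth.Agent.* helpers here

set_option autoImplicit false
set_option linter.style.haveILetI false
set_option linter.unusedSectionVars false
set_option backward.isDefEq.respectTransparency false
set_option backward.isDefEq.respectTransparency.types false
universe u
open CategoryTheory CategoryTheory.Limits AlgebraicGeometry
open Coherent

namespace Groth.Agent.S16282

/-- Let f : X → Y be a morphism of schemes, F and G O_X-modules, L a finite locally free O_X-module with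
dual L^∨ = Hom_{O_X}(L, O_X), N a finite locally free O_Y-module and p ≥ 0. Write Ext^p_f(M, -) for
the p-th right derived functor of the left exact functor G ↦ f_* Hom_{O_X}(M, G) from O_X-modules to
O_Y-modules. Then Ext^p_f(F ⊗ L, G ⊗ f^*N) is isomorphic to Ext^p_f(F, G ⊗ L^∨) ⊗ N. (Stated for
schemes, the published statement being for ringed spaces and a chain of two functorial isomorphisms;
existence of an isomorphism of O_Y-modules only. The internal Hom functors, injective resolutions
and additivity of the composite functors are the stated instance hypotheses, all true.) -/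
theorem result (X Y : Scheme.{u}) (f : X ⟶ Y) (F G L : X.Modules) (N : Y.Modules)
    (hL : FlatMod.IsFinLocFree L) (hN : FlatMod.IsFinLocFree N) (p : ℕ)
    [ModSite.HasSheafHom (O := X.sheaf) F] [ModSite.HasSheafHom (O := X.sheaf) L]
    [ModSite.HasSheafHom (O := X.sheaf) (CohB1.tensorMod F L)] [HasInjectiveResolutions (ModSite.Mod X.sheaf)]
    [(ModSite.sheafHom (O := X.sheaf) F ⋙ Scheme.Modules.pushforward f).Additive]
    [(ModSite.sheafHom (O := X.sheaf) (CohB1.tensorMod F L) ⋙ Scheme.Modules.pushforward f).Additive] :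
    Nonempty (((ModSite.sheafHom (O := X.sheaf) (CohB1.tensorMod F L) ⋙ Scheme.Modules.pushforward f).rightDerived p).obj
        (CohB1.tensorMod G ((Scheme.Modules.pullback f).obj N)) ≅
      CohB1.tensorMod (((ModSite.sheafHom (O := X.sheaf) F ⋙ Scheme.Modules.pushforward f).rightDerived p).obj
        (CohB1.tensorMod G ((ModSite.sheafHom (O := X.sheaf) L).obj (Coh.structureModule X)))) N) := by
  haveI := fun Q : X.Modules => CohMop.additive_ihom Q
  haveI := fun Q : Y.Modules => CohMop.additive_ihom Q
  let M := (Scheme.Modules.pullback f).obj N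
  have hM : FlatMod.IsFinLocFree M := M2.isFinLocFree_pullback f hN
  haveI := CohMop.preservesHomology_ihom hL
  haveI := CohMop.preservesInjective_ihom hL
  let T := CohMop.phom f F
  let θ : CohMop.tenR M ⋙ T ≅ T ⋙ CohMop.tenR N :=
    (Functor.associator _ _ _).symm ≪≫ Functor.isoWhiskerRight (CohMop.tenRIhomCommIso M hM F) _ ≪≫
      Functor.associator _ _ _ ≪≫ Functor.isoWhiskerLeft _ (CohMop.pushTenIso f N hN).symm ≪≫
      (Functor.associator _ _ _).symm
  let η : CohMop.ihom (CohB1.tensorMod F L) ≅ CohMop.ihom L ⋙ CohMop.ihom F :=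
    (CohMop.ihomAdj (CohB1.tensorMod F L)).rightAdjointUniq
      (((CohMop.ihomAdj F).comp (CohMop.ihomAdj L)).ofNatIsoLeft (CohMop.tensorTenIso F L).symm)
  let D := CohMop.dual L
  haveI := CohMop.isIso_dualMap (CohB1.tensorMod G M) hL
  obtain ⟨e⟩ := CohMop.nonempty_rightDerived_tenR T hM hN θ p (CohB1.tensorMod G D)
  exact ⟨(CohMop.rdMapIso (Functor.isoWhiskerRight η (Scheme.Modules.pushforward f) ≪≫ Functor.associator _ _ _) p).app _ ≪≫
    (RDComp.rightDerivedCompIso (CohMop.ihom L) T p).app _ ≪≫
    (T.rightDerived p).mapIso ((asIso (CohMop.dualMap (CohB1.tensorMod G M) L)).symm ≪≫ M2.tensorAssoc G M D ≪≫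
      M2.tensorIso (Iso.refl G) (M2.tensorComm M D) ≪≫ (M2.tensorAssoc G D M).symm) ≪≫ e⟩

end Groth.Agent.S16282
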