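import Groth.Statements.S16283
import Groth.Agent.Lib.ExtSupp8.AcyclicClass
import Groth.Agent.Lib.SiteCoh.HomAcyclic
import Groth.Agent.Lib.SiteCoh.Rpush
import Groth.Agent.Lib.SpObj.Grothendieck
import Groth.Agent.Lib.ExtDerived.Natural
import Groth.Agent.Lib.CohFound.ModulesInst

set_option autoImplicit false
universe u
open CategoryTheory CategoryTheory.Limits AlgebraicGeometry ZeroObject
open Coherent

namespace Groth.Agent.S16283

set_option backward.isDefEq.respectTransparency false
set_option backward.isDefEq.respectTransparency.types false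
open Groth.Agent Opposite TopologicalSpace

theorem totallyAcyclic_push {X Y : Scheme.{u}} (f : X ⟶ Y) (M : X.Modules)
    (hM : CohCx.IsTotallyAcyclic (ModSite.toAb (O := X.sheaf) M)) :
    CohCx.IsTotallyAcyclic (ModSite.toAb (O := Y.sheaf) ((Scheme.Modules.pushforward f).obj M)) := by
  haveI := ModSite.RMor.exact_of_flat (J := Opens.grothendieckTopology X) (K := Opens.grothendieckTopology Y)
    (Opens.map f.base)
  exact SiteCoh.isTotallyAcyclic_push (J := Opens.grothendieckTopology X) (K := Opens.grothendieckTopology Y)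
    (Opens.map f.base) hM

theorem isAcyclicObj_push {Y Z : Scheme.{u}} (g : Y ⟶ Z) [HasInjectiveResolutions Y.Modules] (M : Y.Modules)
    (hM : CohCx.IsTotallyAcyclic (ModSite.toAb (O := Y.sheaf) M)) :
    RFPlus.IsAcyclicObj (Scheme.Modules.pushforward g) M := by
  haveI : PreservesFiniteLimits (Scheme.Modules.pushforward g) :=
    haveI : PreservesLimitsOfSize.{0, 0} (Scheme.Modules.pushforward g) :=
      (Scheme.Modules.pullbackPushforwardAdjunction g).rightAdjoint_preservesLimits
    PreservesLimitsOfSize.preservesFiniteLimits _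
  haveI : PreservesFiniteColimits (SheafOfModules.toSheaf.{u} (ModSite.ringSh Y.sheaf)) :=
    haveI : PreservesColimitsOfSize.{u, u} (SheafOfModules.toSheaf.{u} (ModSite.ringSh Y.sheaf)) := ⟨inferInstance⟩
    PreservesColimitsOfSize.preservesFiniteColimits _
  haveI : PreservesFiniteLimits (SheafOfModules.toSheaf.{u} (ModSite.ringSh Y.sheaf)) :=
    inferInstanceAs (PreservesFiniteLimits (SheafOfModules.toSheaf.{u} Y.ringCatSheaf))
  refine ExtSupp8.isAcyclicObj_of_class (Scheme.Modules.pushforward g)
    (fun M => CohCx.IsTotallyAcyclic (ModSite.toAb (O := Y.sheaf) M))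
    (fun I hI => haveI : Injective (C := ModSite.Mod Y.sheaf) I := hI
      SiteCoh.isTotallyAcyclic_injective (ModSite.ringSh Y.sheaf) I) (fun S hS h₁ h₂ => ?_) M hM
  let S' : ShortComplex (ModSite.Mod Y.sheaf) := S
  have hS' : (S'.map (SheafOfModules.toSheaf.{u} (ModSite.ringSh Y.sheaf))).ShortExact := hS.map_of_exact _
  refine ⟨ExtSupp8.isTotallyAcyclic_X₃ hS' h₁ h₂, ?_⟩
  refine (SheafOfModules.toSheaf.{u} (ModSite.ringSh Z.sheaf)).epi_of_epi_map ?_
  exact SiteCoh.epi_of_surjective_sections _ fun V => SiteCoh.surjective_sections _ hS'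
    (SiteCoh.subsingleton_HU_of_totallyAcyclic h₁ ((Opens.map g.base).obj V) 0)



/-- Let f : X → Y and g : Y → Z be morphisms of schemes, h = g ∘ f, and F, G O_X-modules. For a morphism
u out of X write Ext^b_u(F, -) for the b-th right derived functor of the left exact functor G ↦ u_*
Hom_{O_X}(F, G) from O_X-modules. Then there is an E₂ spectral sequence of O_Z-modules with E₂^{a,b}
≅ R^a g_*(Ext^b_f(F, G)) for a, b ≥ 0 (and 0 otherwise), bounded, abutting with finite filtrations
to Ext^n_h(F, G) (n ≥ 0; 0 for n < 0). (Stated for schemes, the published statement being for ringed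
spaces. Existence only: the E₂ identifications and the abutment are some isomorphisms. The internal
Hom functor of F, injective resolutions on X and Y and additivity of the composite functors are the
stated instance hypotheses, all true.) -/
theorem result (X Y Z : Scheme.{u}) (f : X ⟶ Y) (g : Y ⟶ Z)
    (F G : X.Modules)
    [ModSite.HasSheafHom (O := X.sheaf) F] [HasInjectiveResolutions (ModSite.Mod X.sheaf)] [HasInjectiveResolutions Y.Modules]
    [(ModSite.sheafHom (O := X.sheaf) F ⋙ Scheme.Modules.pushforward f).Additive]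
    [(ModSite.sheafHom (O := X.sheaf) F ⋙ Scheme.Modules.pushforward (f ≫ g)).Additive] :
    ∃ (E : E₂CohomologicalSpectralSequence Z.Modules)
      (a : SpSeq.Abutment E (fun n : ℤ =>
        if 0 ≤ n then ((ModSite.sheafHom (O := X.sheaf) F ⋙ Scheme.Modules.pushforward (f ≫ g)).rightDerived n.toNat).obj G else (0 : Z.Modules))),
      (∀ n : ℤ, a.IsFinite n) ∧ SpSeq.IsBounded E ∧
      ∀ p q : ℤ, Nonempty ((E.page 2 le_rfl).X (p, q) ≅
        (if 0 ≤ p ∧ 0 ≤ q then (Coh.Rpush g p.toNat).obj (((ModSite.sheafHom (O := X.sheaf) F ⋙ Scheme.Modules.pushforward f).rightDerived q.toNat).obj G)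
          else (0 : Z.Modules))) := by
  letI := HasDerivedCategory.standard Y.Modules
  letI := HasDerivedCategory.standard Z.Modules
  haveI : PreservesFiniteLimits (Scheme.Modules.pushforward g) :=
    haveI : PreservesLimitsOfSize.{0, 0} (Scheme.Modules.pushforward g) :=
      (Scheme.Modules.pullbackPushforwardAdjunction g).rightAdjoint_preservesLimits
    PreservesLimitsOfSize.preservesFiniteLimits _
  let T : X.Modules ⥤ Y.Modules := ModSite.sheafHom (O := X.sheaf) F ⋙ Scheme.Modules.pushforward f
  haveI : EnoughInjectives X.Modules := inferInstance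
  haveI : (T ⋙ Scheme.Modules.pushforward g).Additive := inferInstance
  obtain ⟨E, a, ha, hb, hE, hz⟩ := SpObj.grothendieck_spectralSequence' T (Scheme.Modules.pushforward g)
    (fun I hI => isAcyclicObj_push g _ (totallyAcyclic_push f _
      (haveI : Injective (C := ModSite.Mod X.sheaf) I := hI; SiteCoh.isTotallyAcyclic_sheafHom X.sheaf F I)))
    G (fun n : ℤ =>
      if 0 ≤ n then ((ModSite.sheafHom (O := X.sheaf) F ⋙ Scheme.Modules.pushforward (f ≫ g)).rightDerived n.toNat).obj G else (0 : Z.Modules))
    (fun n => ⟨(ExtDerived.nonempty_rightDerived_iso_of_iso n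
      ((Functor.associator _ _ _ ≪≫ Functor.isoWhiskerLeft (ModSite.sheafHom (O := X.sheaf) F)
        (Scheme.Modules.pushforwardComp f g)) :
          T ⋙ Scheme.Modules.pushforward g ≅ ModSite.sheafHom (O := X.sheaf) F ⋙ Scheme.Modules.pushforward (f ≫ g)) G).some ≪≫
      eqToIso (by simp)⟩)
    (fun n hn => by simp only [if_neg (not_le.2 hn)]; exact Limits.isZero_zero _)
  refine ⟨E, a, ha, hb, fun p q => ?_⟩
  by_cases hpq : 0 ≤ p ∧ 0 ≤ q
  · obtain ⟨m, rfl⟩ := Int.eq_ofNat_of_zero_le hpq.1
    obtain ⟨k, rfl⟩ := Int.eq_ofNat_of_zero_le hpq.2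
    exact ⟨(hE m k).some ≪≫ eqToIso (by simp [hpq]; rfl)⟩
  · exact ⟨(hz p q hpq).iso (by rw [if_neg hpq]; exact Limits.isZero_zero _)⟩


end Groth.Agent.S16283
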