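import Groth.Statements.S16287
import Groth.Agent.Lib.LocCohMV8.Basic

set_option autoImplicit false
universe u
open CategoryTheory CategoryTheory.Limits TopologicalSpace
open LocCohZ

namespace Groth.Agent.S16287

open CategoryTheory CategoryTheory.Limits TopologicalSpace Abelian Groth.Agent.LocCohMV8

attribute [local instance] HasBinaryBiproducts.of_hasBinaryProducts

variable {X : TopCat.{u}} {U V : Opens X} {F : CohTop.Ab X} {n : ℕ}

noncomputable def pair (y : LocCohZ.HZc F n U) (z : LocCohZ.HZc F n V) : Ext.{u} (zqMV U V).X₂ F n :=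
  (Ext.mk₀ biprod.fst).comp y (zero_add n) + (Ext.mk₀ biprod.snd).comp z (zero_add n)

theorem f_pair (y : LocCohZ.HZc F n U) (z : LocCohZ.HZc F n V) :
    (Ext.mk₀ (zqMV U V).f).comp (pair y z) (zero_add n) =
      LocCohZ.resZ F n (le_top : U ≤ ⊤) (le_top : U ⊓ V ≤ ⊤) inf_le_left le_rfl y -
        LocCohZ.resZ F n (le_top : V ≤ ⊤) (le_top : U ⊓ V ≤ ⊤) inf_le_right le_rfl z := by
  rw [pair, Ext.comp_add, Ext.mk₀_comp_mk₀_assoc, Ext.mk₀_comp_mk₀_assoc, biprod.lift_fst,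
    biprod.lift_snd, Ext.mk₀_neg, Ext.neg_comp, ← sub_eq_add_neg]
  rfl

theorem inl_g (x : LocCohZ.HZc F n (U ⊔ V)) :
    (Ext.mk₀ biprod.inl).comp ((Ext.mk₀ (zqMV U V).g).comp x (zero_add n)) (zero_add n) =
      LocCohZ.resZ F n (le_top : U ⊔ V ≤ ⊤) (le_top : U ≤ ⊤) le_sup_left le_rfl x := by
  rw [Ext.mk₀_comp_mk₀_assoc, biprod.inl_desc]
  rfl

theorem inr_g (x : LocCohZ.HZc F n (U ⊔ V)) :
    (Ext.mk₀ biprod.inr).comp ((Ext.mk₀ (zqMV U V).g).comp x (zero_add n)) (zero_add n) =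
      LocCohZ.resZ F n (le_top : U ⊔ V ≤ ⊤) (le_top : V ≤ ⊤) le_sup_right le_rfl x := by
  rw [Ext.mk₀_comp_mk₀_assoc, biprod.inr_desc]
  rfl

theorem pair_eta (x : Ext.{u} (zqMV U V).X₂ F n) :
    pair ((Ext.mk₀ biprod.inl).comp x (zero_add n)) ((Ext.mk₀ biprod.inr).comp x (zero_add n)) = x := by
  rw [pair, Ext.mk₀_comp_mk₀_assoc, Ext.mk₀_comp_mk₀_assoc, ← Ext.add_comp, ← Ext.mk₀_add,
    biprod.total, Ext.mk₀_id_comp]

theorem pair_inl (y : LocCohZ.HZc F n U) (z : LocCohZ.HZc F n V) :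
    (Ext.mk₀ biprod.inl).comp (pair y z) (zero_add n) = y := by
  rw [pair, Ext.comp_add, Ext.mk₀_comp_mk₀_assoc, Ext.mk₀_comp_mk₀_assoc, biprod.inl_fst,
    biprod.inl_snd, Ext.mk₀_id_comp, Ext.mk₀_zero, Ext.zero_comp, add_zero]

theorem pair_inr (y : LocCohZ.HZc F n U) (z : LocCohZ.HZc F n V) :
    (Ext.mk₀ biprod.inr).comp (pair y z) (zero_add n) = z := by
  rw [pair, Ext.comp_add, Ext.mk₀_comp_mk₀_assoc, Ext.mk₀_comp_mk₀_assoc, biprod.inr_fst,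
    biprod.inr_snd, Ext.mk₀_id_comp, Ext.mk₀_zero, Ext.zero_comp, zero_add]


/-- Let X be a topological space, F an abelian sheaf on X, and U, U' open subsets with closed
complements Z = X ∖ U and Z' = X ∖ U' (so Z ∩ Z' = X ∖ (U ∪ U') and Z ∪ Z' = X ∖ (U ∩ U')). With
H^i_{X∖W}(X, F) = Ext^i(Z_X/Z_W, F) and the enlargement-of-support maps r : H^i_{Z∩Z'} → H^i_Z, r' :
H^i_{Z∩Z'} → H^i_{Z'}, s : H^i_Z → H^i_{Z∪Z'}, s' : H^i_{Z'} → H^i_{Z∪Z'}: the map H^0_{Z∩Z'} →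
H^0_Z ⊕ H^0_{Z'}, x ↦ (r x, r' x), is injective, and there are connecting homomorphisms δ_i :
H^i_{Z∪Z'}(X, F) → H^{i+1}_{Z∩Z'}(X, F) such that for every i the sequence H^i_{Z∩Z'} → H^i_Z ⊕
H^i_{Z'} → H^i_{Z∪Z'} → H^{i+1}_{Z∩Z'} → H^{i+1}_Z ⊕ H^{i+1}_{Z'} is exact, the middle map being (y,
y') ↦ s y − s' y'. -/
theorem result {X : TopCat.{u}} (F : CohTop.Ab X) (U U' : Opens X) :
    Function.Injective (fun x : LocCohZ.HZc F 0 (U ⊔ U') =>
      (LocCohZ.resZ F 0 (le_top : U ⊔ U' ≤ ⊤) (le_top : U ≤ ⊤) le_sup_left le_rfl x,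
       LocCohZ.resZ F 0 (le_top : U ⊔ U' ≤ ⊤) (le_top : U' ≤ ⊤) le_sup_right le_rfl x)) ∧
    ∃ δ : ∀ i : ℕ, LocCohZ.HZc F i (U ⊓ U') →+ LocCohZ.HZc F (i + 1) (U ⊔ U'),
      ∀ i : ℕ,
        (∀ y : LocCohZ.HZc F i U × LocCohZ.HZc F i U',
          LocCohZ.resZ F i (le_top : U ≤ ⊤) (le_top : U ⊓ U' ≤ ⊤) inf_le_left le_rfl y.1 -
              LocCohZ.resZ F i (le_top : U' ≤ ⊤) (le_top : U ⊓ U' ≤ ⊤) inf_le_right le_rfl y.2 = 0 ↔
            ∃ x : LocCohZ.HZc F i (U ⊔ U'),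
              LocCohZ.resZ F i (le_top : U ⊔ U' ≤ ⊤) (le_top : U ≤ ⊤) le_sup_left le_rfl x = y.1 ∧
              LocCohZ.resZ F i (le_top : U ⊔ U' ≤ ⊤) (le_top : U' ≤ ⊤) le_sup_right le_rfl x = y.2) ∧
        (∀ w : LocCohZ.HZc F i (U ⊓ U'),
          δ i w = 0 ↔ ∃ y : LocCohZ.HZc F i U × LocCohZ.HZc F i U',
            LocCohZ.resZ F i (le_top : U ≤ ⊤) (le_top : U ⊓ U' ≤ ⊤) inf_le_left le_rfl y.1 -
              LocCohZ.resZ F i (le_top : U' ≤ ⊤) (le_top : U ⊓ U' ≤ ⊤) inf_le_right le_rfl y.2 = w) ∧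
        (∀ x : LocCohZ.HZc F (i + 1) (U ⊔ U'),
          (LocCohZ.resZ F (i + 1) (le_top : U ⊔ U' ≤ ⊤) (le_top : U ≤ ⊤) le_sup_left le_rfl x = 0 ∧
            LocCohZ.resZ F (i + 1) (le_top : U ⊔ U' ≤ ⊤) (le_top : U' ≤ ⊤) le_sup_right le_rfl x = 0) ↔
            ∃ w : LocCohZ.HZc F i (U ⊓ U'), δ i w = x) := by
  have hS := zqMV_shortExact U U'
  have hg : ∀ (n : ℕ) (x : LocCohZ.HZc F n (U ⊔ U')),
      (Ext.mk₀ (zqMV U U').g).comp x (zero_add n) =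
        pair (LocCohZ.resZ F n (le_top : U ⊔ U' ≤ ⊤) (le_top : U ≤ ⊤) le_sup_left le_rfl x)
          (LocCohZ.resZ F n (le_top : U ⊔ U' ≤ ⊤) (le_top : U' ≤ ⊤) le_sup_right le_rfl x) := fun n x => by
    rw [← inl_g, ← inr_g, pair_eta]
  refine ⟨?_, fun n => hS.extClass.precomp F (Nat.add_comm 1 n), fun n => ⟨?_, ?_, ?_⟩⟩
  · intro x y h
    have e : (Ext.mk₀ (zqMV U U').g).comp x (zero_add 0) = (Ext.mk₀ (zqMV U U').g).comp y (zero_add 0) := by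
      rw [hg, hg]
      exact congrArg₂ pair (congrArg Prod.fst h) (congrArg Prod.snd h)
    obtain ⟨a, rfl⟩ := (Ext.mk₀_bijective _ _).2 x
    obtain ⟨b, rfl⟩ := (Ext.mk₀_bijective _ _).2 y
    rw [Ext.mk₀_comp_mk₀, Ext.mk₀_comp_mk₀] at e
    haveI := hS.epi_g
    exact congrArg Ext.mk₀ ((cancel_epi (zqMV U U').g).1 ((Ext.mk₀_bijective _ _).1 e))
  · intro y
    constructor
    · intro h
      obtain ⟨x, hx⟩ := Ext.contravariant_sequence_exact₂ hS F (pair y.1 y.2) ((f_pair _ _).trans h)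
      exact ⟨x, by rw [← inl_g, hx, pair_inl], by rw [← inr_g, hx, pair_inr]⟩
    · rintro ⟨x, h1, h2⟩
      rw [← f_pair, ← h1, ← h2, ← hg, Ext.mk₀_comp_mk₀_assoc, (zqMV U U').zero, Ext.mk₀_zero, Ext.zero_comp]
  · intro w
    constructor
    · intro h
      obtain ⟨x, hx⟩ := Ext.contravariant_sequence_exact₁ hS F w (Nat.add_comm 1 n) h
      exact ⟨((Ext.mk₀ biprod.inl).comp x (zero_add n), (Ext.mk₀ biprod.inr).comp x (zero_add n)),
        by rw [← f_pair, pair_eta, hx]⟩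
    · rintro ⟨y, rfl⟩
      rw [← f_pair]
      exact hS.extClass_comp_assoc _ (h := Nat.add_comm 1 n)
  · intro x
    constructor
    · rintro ⟨h1, h2⟩
      have e : (Ext.mk₀ (zqMV U U').g).comp x (zero_add (n + 1)) = 0 := by
        rw [hg, h1, h2, pair, Ext.comp_zero, Ext.comp_zero, add_zero]
      obtain ⟨w, hw⟩ := Ext.contravariant_sequence_exact₃ hS F x e (Nat.add_comm 1 n)
      exact ⟨w, hw⟩
    · rintro ⟨w, rfl⟩
      have z : (Ext.mk₀ (zqMV U U').g).comp (hS.extClass.comp w (Nat.add_comm 1 n)) (zero_add (n + 1)) = 0 :=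
        hS.comp_extClass_assoc _ _
      constructor
      · refine (inl_g _).symm.trans ?_
        show (Ext.mk₀ biprod.inl).comp ((Ext.mk₀ (zqMV U U').g).comp (hS.extClass.comp w (Nat.add_comm 1 n)) _) _ = 0
        rw [z, Ext.comp_zero]
      · refine (inr_g _).symm.trans ?_
        show (Ext.mk₀ biprod.inr).comp ((Ext.mk₀ (zqMV U U').g).comp (hS.extClass.comp w (Nat.add_comm 1 n)) _) _ = 0
        rw [z, Ext.comp_zero]


end Groth.Agent.S16287
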