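import Groth.Prelude.Def_Curv2
import Mathlib.AlgebraicGeometry.Morphisms.FiniteType
import Mathlib.AlgebraicGeometry.Fiber
import Mathlib.RingTheory.AdicCompletion.LocalRing
import Mathlib.RingTheory.MvPowerSeries.Basic
import Mathlib.RingTheory.Flat.Basic
import Groth.Agent.Lib.QuadNode3
import Groth.Agent.Lib.EGA43Top.FibreStalk
-- import your own Groth.Agent.* helpers here

set_option autoImplicit false
set_option linter.style.haveILetI false
set_option backward.isDefEq.respectTransparency false
universe u
open CategoryTheory CategoryTheory.Limits AlgebraicGeometry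
namespace Curves
end Curves
open Curves

namespace Groth.Agent.S16290

/-- Let f : T → S be a morphism of schemes, locally of finite type, t ∈ T a point with image s such that
f is flat at t and O_{S,s} is Noetherian. Suppose t is a node of the fibre T_s with residue field
κ(s), taken in the form: t is a closed point of T_s and the completion of O_{T_s,t} is isomorphic,
compatibly with κ(s), to κ(s)[[u,v]]/(q) for a binary quadratic form q = a u^2 + b uv + c v^2 over
κ(s) with b^2 - 4ac ≠ 0 (q need not split). Then there are a binary quadratic form Q = a u^2 + b uv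
+ c v^2 over the completion Â of O_{S,s} whose discriminant b^2 - 4ac is a unit of Â, an element h
of the maximal ideal of Â, and an isomorphism of the completion of O_{T,t} with Â[[u,v]]/(Q - h)
compatible with the maps from O_{S,s}. (The published statement assumes f is a nodal relative curve,
i.e. flat, of finite presentation and of relative dimension one with nodal geometric fibres, over a
Noetherian base; here only f locally of finite type and flat at t with O_{S,s} Noetherian is
assumed, and the node is taken in completed form, which is what the argument uses.) -/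
theorem result {T S : Scheme.{u}} (f : T ⟶ S) [LocallyOfFiniteType f] (t : T)
    [IsNoetherianRing (S.presheaf.stalk (f t))] (hfl : (f.stalkMap t).hom.Flat)
    (ht : letI : (f.fiber (f t)).Over (Spec (CommRingCat.of (S.residueField (f t)))) := ⟨f.fiberToSpecResidueField (f t)⟩
      letI := Curv2.stalkAlgebra (S.residueField (f t)) (f.fiber (f t)) (f.asFiber t)
      IsClosed ({f.asFiber t} : Set (f.fiber (f t))) ∧
        ∃ a b c : S.residueField (f t), b ^ 2 - 4 * a * c ≠ 0 ∧
          ∃ e : Curv2.cpl ((f.fiber (f t)).presheaf.stalk (f.asFiber t)) ≃+*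
              (MvPowerSeries (Fin 2) (S.residueField (f t)) ⧸ Ideal.span
                {(MvPowerSeries.C a * MvPowerSeries.X 0 ^ 2 + MvPowerSeries.C b * MvPowerSeries.X 0 * MvPowerSeries.X 1 +
                  MvPowerSeries.C c * MvPowerSeries.X 1 ^ 2 : MvPowerSeries (Fin 2) (S.residueField (f t)))}),
            ∀ r : S.residueField (f t),
              e (algebraMap ((f.fiber (f t)).presheaf.stalk (f.asFiber t)) _
                  (algebraMap (S.residueField (f t)) ((f.fiber (f t)).presheaf.stalk (f.asFiber t)) r)) =
                Ideal.Quotient.mk _ (MvPowerSeries.C r)) :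
    ∃ a b c : Curv2.cpl (S.presheaf.stalk (f t)), IsUnit (b ^ 2 - 4 * a * c) ∧
      ∃ h ∈ IsLocalRing.maximalIdeal (Curv2.cpl (S.presheaf.stalk (f t))),
        ∃ e : Curv2.cpl (T.presheaf.stalk t) ≃+*
            (MvPowerSeries (Fin 2) (Curv2.cpl (S.presheaf.stalk (f t))) ⧸ Ideal.span
              {(MvPowerSeries.C a * MvPowerSeries.X 0 ^ 2 + MvPowerSeries.C b * MvPowerSeries.X 0 * MvPowerSeries.X 1 +
                MvPowerSeries.C c * MvPowerSeries.X 1 ^ 2 - MvPowerSeries.C h : MvPowerSeries (Fin 2) (Curv2.cpl (S.presheaf.stalk (f t))))}),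
          ∀ r : S.presheaf.stalk (f t),
            e (algebraMap (T.presheaf.stalk t) (Curv2.cpl (T.presheaf.stalk t)) ((f.stalkMap t).hom r)) =
              Ideal.Quotient.mk _ (MvPowerSeries.C (algebraMap (S.presheaf.stalk (f t)) (Curv2.cpl (S.presheaf.stalk (f t))) r)) := by
  letI : (f.fiber (f t)).Over (Spec (CommRingCat.of (S.residueField (f t)))) := ⟨f.fiberToSpecResidueField (f t)⟩
  letI := Curv2.stalkAlgebra (S.residueField (f t)) (f.fiber (f t)) (f.asFiber t)
  obtain ⟨-, a₀, b₀, c₀, hD, e, he⟩ := ht
  have hzt : f.fiberι (f t) (f.asFiber t) = t := f.fiberι_asFiber t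
  let β : T.presheaf.stalk t ⟶ (f.fiber (f t)).presheaf.stalk (f.asFiber t) :=
    T.presheaf.stalkSpecializes (specializes_of_eq hzt) ≫ (f.fiberι (f t)).stalkMap (f.asFiber t)
  let κ : S.residueField (f t) ⟶ (f.fiber (f t)).presheaf.stalk (f.asFiber t) :=
    CommRingCat.ofHom (Curv2.stalkMap (S.residueField (f t)) (f.fiber (f t)) (f.asFiber t))
  have hκ : Spec.map κ = (f.fiber (f t)).fromSpecStalk (f.asFiber t) ≫ f.fiberToSpecResidueField (f t) := by
    have h : κ = (Scheme.ΓSpecIso (S.residueField (f t))).inv ≫ (f.fiberToSpecResidueField (f t)).appTop ≫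
        (f.fiber (f t)).presheaf.germ ⊤ (f.asFiber t) trivial := rfl
    rw [h, Spec.map_comp, Spec.map_comp, ← Scheme.fromSpecStalk_toSpecΓ, Category.assoc, Category.assoc,
      ← Category.assoc (Scheme.toSpecΓ (f.fiber (f t))), ← Scheme.toSpecΓ_naturality, Category.assoc]
    congr 1
    rw [← SpecMap_ΓSpecIso_hom, ← Spec.map_comp, Iso.inv_hom_id, Spec.map_id, Category.comp_id]
  have hsq : f.stalkMap t ≫ β = S.residue (f t) ≫ κ := by
    apply Spec.map_injective
    rw [← cancel_mono (S.fromSpecStalk (f t)), Spec.map_comp, Spec.map_comp, Spec.map_comp, hκ,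
      Category.assoc, Category.assoc, Category.assoc, Category.assoc, Scheme.SpecMap_stalkMap_fromSpecStalk,
      Scheme.SpecMap_stalkSpecializes_fromSpecStalk_assoc, Scheme.SpecMap_stalkMap_fromSpecStalk_assoc,
      ← Scheme.fromSpecResidueField]
    congr 1
    exact pullback.condition
  letI : Algebra (S.presheaf.stalk (f t)) (T.presheaf.stalk t) := (f.stalkMap t).hom.toAlgebra
  haveI : IsLocalHom (algebraMap (S.presheaf.stalk (f t)) (T.presheaf.stalk t)) :=
    inferInstanceAs (IsLocalHom (f.stalkMap t).hom)
  haveI : Algebra.EssFiniteType (S.presheaf.stalk (f t)) (T.presheaf.stalk t) := LocallyOfFiniteType.stalkMap f t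
  haveI : IsNoetherianRing (T.presheaf.stalk t) := Algebra.EssFiniteType.isNoetherianRing (S.presheaf.stalk (f t)) _
  haveI : Module.Flat (S.presheaf.stalk (f t)) (T.presheaf.stalk t) := hfl
  have key : ∀ (w : T) (hw : f.fiberι (f t) (f.asFiber t) = w) (hle : f w = f t),
      Function.Surjective (T.presheaf.stalkSpecializes (specializes_of_eq hw) ≫ (f.fiberι (f t)).stalkMap (f.asFiber t)).hom ∧
      RingHom.ker (T.presheaf.stalkSpecializes (specializes_of_eq hw) ≫ (f.fiberι (f t)).stalkMap (f.asFiber t)).hom =
        (IsLocalRing.maximalIdeal (S.presheaf.stalk (f w))).map (f.stalkMap w).hom := by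
    rintro w rfl -
    obtain ⟨E, hE⟩ := EGA43Top.exists_ringEquiv_fiber_stalk f (f t) (f.asFiber t)
    rw [show T.presheaf.stalkSpecializes (specializes_of_eq (rfl : f.fiberι (f t) (f.asFiber t) = _)) = 𝟙 _ from
      TopCat.Presheaf.stalkSpecializes_refl _ _, Category.id_comp]
    refine ⟨(f.fiberι (f t)).stalkMap_surjective (f.asFiber t), ?_⟩
    ext b
    rw [RingHom.mem_ker, ← hE b, map_eq_zero_iff _ E.injective, Ideal.Quotient.eq_zero_iff_mem]
  obtain ⟨hs, hk⟩ := key t hzt rfl
  exact QuadNode3.exists_quad_iso β.hom hs hk κ.hom (fun a => congr($hsq a)) a₀ b₀ c₀ hD e he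

end Groth.Agent.S16290
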