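import Groth.Statements.S16292
import Groth.Agent.Lib.PointedVA1
import Groth.Agent.Lib.Ample18.Ample

set_option autoImplicit false
universe u
open CategoryTheory CategoryTheory.Limits AlgebraicGeometry
attribute [local instance] HasDerivedCategory.standard
open Curves

namespace Groth.Agent.S16292




/-- Let k be an algebraically closed field and (X, D) a stable n-pointed curve over k, taken in the
form: X is proper and connected over k, of dimension 1, with at-worst-nodal singularities; D ⊆ X is
a finite closed set of points each having an open neighbourhood smooth over k (the marked points);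
ω_X is the dualizing module of X (degree -1 cohomology sheaf of f^! O for the structure morphism f,
for any choice of the data Rf_* on D_QCoh with its right adjoint); L_D is an invertible module with
L_D ⊗ I_D ≅ O_X, where I_D is the ideal sheaf of D with its reduced structure (so L_D plays the role
of O_X(D)); and the invertible module ω_X(D) := ω_X ⊗ L_D is ample (stability). Then for every m ≥ 5
the module ω_X(D)^{⊗m} is very ample: some closed immersion i : X → P^N_k over k has i^* O(1) ≅
ω_X(D)^{⊗m}. (The published assertion is for all m ≥ 3; the published argument addresses only m ≥ 5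
and defers m = 3, 4 to the literature, so m ≥ 5 is what is stated here.) -/
theorem result (k : Type u) [Field k] [IsAlgClosed k] (X : Scheme.{u}) [X.Over (Spec (CommRingCat.of k))]
    [IsProper (X ↘ (Spec (CommRingCat.of k)))] [ConnectedSpace X] (hdim : topologicalKrullDim X = 1) (hX : Curv2.AtWorstNodal k X)
    [DCoh.HasRpush (X ↘ (Spec (CommRingCat.of k)))] (h : DCoh.RpushPreservesQCoh (X ↘ (Spec (CommRingCat.of k)))) [DCoh.HasShriek (X ↘ (Spec (CommRingCat.of k))) h]
    (OY : DCoh.DQCoh (Spec (CommRingCat.of k))) (hOY : Nonempty (OY.obj ≅ DCoh.inD (Spec (CommRingCat.of k)) (Coh.structureModule (Spec (CommRingCat.of k)))))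
    (D : Set X) (hDfin : D.Finite) (hDcl : IsClosed D) (hDsm : ∀ x ∈ D, ∃ U : X.Opens, x ∈ U ∧ Smooth (U.ι ≫ (X ↘ (Spec (CommRingCat.of k)))))
    (LD : X.Modules) (hLD : PicF.IsInvertible LD)
    (hinv : ClSub.IsInverseOf LD (ClSub.idealMod (Scheme.IdealSheafData.vanishingIdeal (⟨D, hDcl⟩ : TopologicalSpace.Closeds X))))
    (hst : CohB1.IsAmple (CohB1.tensorMod (DCoh.dualizingMod (X ↘ (Spec (CommRingCat.of k))) h OY 1) LD))
    (m : ℕ) (hm : 5 ≤ m) :
    ∃ (N : ℕ) (i : X ⟶ CohB1.ProjSpace N k), IsClosedImmersion i ∧ i ≫ CohB1.ProjSpace.toSpec N k = (X ↘ (Spec (CommRingCat.of k))) ∧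
      Nonempty ((Scheme.Modules.pullback i).obj (Twist.twistProjSpace N k 1) ≅ CohB1.tensorPow (CohB1.tensorMod (DCoh.dualizingMod (X ↘ (Spec (CommRingCat.of k))) h OY 1) LD) m) := by
  have hN : Groth.Agent.StabUniq18.IsNodalCurve k X :=
    ⟨inferInstance, Groth.Agent.CurveH1Min27.components_dim_one k X hdim, hX⟩
  haveI : AlgebraicGeometry.IsReduced X := hN.isReduced
  have hGor := Groth.Agent.CurveH1Min27.isInvertible_dualizing_nodal k X hdim hX h OY hOY
  obtain ⟨t, ht⟩ := Groth.Agent.DlzCurve17.exists_trace k X hdim h OY hOY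
  have ht' : Groth.Agent.CurveH1Min27.IsTrace k (DCoh.dualizingMod (X ↘ (Spec (CommRingCat.of k))) h OY 1) t := ht
  haveI := Groth.Agent.CohFound.isNoetherian_of_isProper (X ↘ (Spec (CommRingCat.of k)))
  have hcl : ∀ x ∈ D, IsClosed ({x} : Set X) := fun x hx => by
    haveI : JacobsonSpace X := LocallyOfFiniteType.jacobsonSpace (X ↘ Spec (CommRingCat.of k))
    haveI : Finite D := hDfin.to_subtype
    haveI : JacobsonSpace D := JacobsonSpace.of_isClosedEmbedding hDcl.isClosedEmbedding_subtypeVal
    have h := hDcl.isClosedEmbedding_subtypeVal.isClosedMap {(⟨x, hx⟩ : D)} (isClosed_discrete _)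
    rwa [Set.image_singleton] at h
  exact Groth.Agent.PointedVA1.veryAmple_pow hGor ht' hdim hDfin hDcl hcl hinv hst hm
    ((Groth.Agent.Amp.isAmple_tensorPow_iff hst.1 (by omega)).2 hst)

end Groth.Agent.S16292
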