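import Groth.Statements.S16297
import Groth.Agent.Lib.NefH1.Mult

set_option autoImplicit false
universe u
open CategoryTheory CategoryTheory.Limits AlgebraicGeometry
open Curves

namespace Groth.Agent.S16297

/-- Let k be a field and X a proper scheme over k of dimension one (not assumed reduced or irreducible)
with H^1(X, O_X) = 0, and let L be an ample invertible O_X-module. Then L is very ample: for some n
there is a closed immersion i : X → P^n_k over k with i^*O(1) isomorphic to L (existence of an
isomorphism only). -/
theorem result (k : Type u) [Field k] (X : Scheme.{u}) [X.Over (Spec (CommRingCat.of k))]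
    [IsProper (X ↘ (Spec (CommRingCat.of k)))] (hdim : topologicalKrullDim X = 1)
    (h1 : Subsingleton (Coh.HH X (Coh.structureModule X) 1))
    (L : X.Modules) (hA : CohB1.IsAmple L) :
    ∃ (n : ℕ) (i : X ⟶ CohB1.ProjSpace n k), IsClosedImmersion i ∧
      i ≫ CohB1.ProjSpace.toSpec n k = X ↘ (Spec (CommRingCat.of k)) ∧
      Nonempty ((Scheme.Modules.pullback i).obj (Twist.twistProjSpace n k 1) ≅ L) := by
  haveI : IsNoetherian X := CohFound.isNoetherian_of_isProper (X ↘ Spec (CommRingCat.of k))
  have hfib : ∀ y : ↥(Spec (CommRingCat.of k)),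
      topologicalKrullDim ↥((X ↘ Spec (CommRingCat.of k)).fiber y) ≤ 1 := fun y =>
    (VanFib13.dim_fiber _ y).trans_le (Topology.IsInducing.subtypeVal.topologicalKrullDim_le.trans hdim.le)
  have hv2 := NefH1.hv2_of_fibres (X := X) (A := k) hfib
  have h := NefH1.h1_and_globallyGenerated (A := k) hv2 h1 (Snapper.isCoh_of_isInvertible hA.1)
    fun Q π hπ hQ hQ0 m hm hkill => by
      haveI := hπ
      exact NefH1.exists_section_fibre hfib h1 hA.1 π hQ hQ0 k (RingHom.id k) Function.surjective_id
        (fun a ha => hkill a (by rw [show a = 0 from ha]; exact m.zero_mem)) (NefH1.nefOver_of_isAmple k hA _ _)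
  exact NefH1.exists_closedImmersion_of_pn k (X ↘ Spec (CommRingCat.of k))
    (AmpleFib.isRelVeryAmplePn_of_gen _ hA fun n hn => NefH1.closure_products_eq_top k hv2 h1 hA.1 h.2 n hn)

end Groth.Agent.S16297
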