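import Groth.Statements.S1630
import Groth.Agent.Lib.GeomIrr18.Top

set_option autoImplicit false
universe u
open CategoryTheory CategoryTheory.Limits AlgebraicGeometry
open Variety

namespace Groth.Agent.S1630

/-- Let X be a scheme over k. If X has a cover by a nonempty family of open subschemes, each
geometrically irreducible over k and any two of which meet, then X is geometrically irreducible over
k. -/
theorem result (k : Type u) [Field k] (X : Scheme.{u}) [X.Over (Spec (CommRingCat.of k))]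
    (ι : Type u) (U : ι → X.Opens) (hne : Nonempty ι) (hcov : (⨆ i, U i) = ⊤)
    (hmeet : ∀ i j, ((U i : Set X) ∩ (U j : Set X)).Nonempty)
    (hU : ∀ i, GeometricallyIrreducible ((U i).ι ≫ (X ↘ (Spec (CommRingCat.of k))))) : GeometricallyIrreducible (X ↘ (Spec (CommRingCat.of k))) := by
  let f := X ↘ Spec (CommRingCat.of k)
  refine ⟨geometrically_iff_of_commRing_of_isClosedUnderIsomorphisms.mpr fun K _ _ => ?_⟩
  let s := Spec.map (CommRingCat.ofHom (algebraMap k K))
  let π := pullback.fst f s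
  haveI : Surjective π := GeomIrr.surjective_fst f K
  have hW : ∀ i, IsIrreducible (π ⁻¹' (U i : Set X)) := by
    intro i
    haveI : IrreducibleSpace ↥(pullback ((U i).ι ≫ f) s) :=
      GeometricallyIrreducible.geometrically_irreducibleSpace (f := (U i).ι ≫ f) (self := hU i) _ _ _ (IsPullback.of_hasPullback _ _)
    obtain ⟨q, -, -, hq, -⟩ := GeomIrr.exists_bcMap f s (U i).ι
    rw [← show Set.range q = π ⁻¹' (U i : Set X) from by rw [hq, Scheme.Opens.range_ι], ← Set.image_univ]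
    exact (IrreducibleSpace.isIrreducible_univ _).image _ q.continuous.continuousOn
  have hc : ∀ z, ∃ i, z ∈ π ⁻¹' (U i : Set X) := fun z =>
    TopologicalSpace.Opens.mem_iSup.mp (hcov.ge (Set.mem_univ (π z)))
  haveI : PreirreducibleSpace ↥(pullback f s) := by
    refine ⟨fun u v hu hv ⟨a, _, ha⟩ ⟨b, _, hb⟩ => ?_⟩
    obtain ⟨i, hi⟩ := hc a
    obtain ⟨j, hj⟩ := hc b
    obtain ⟨x, hxi, hxj⟩ := hmeet i j
    obtain ⟨z, rfl⟩ := π.surjective x
    obtain ⟨w, -, hwu, hwj⟩ := (hW i).2 u (π ⁻¹' (U j : Set X)) hu ((U j).isOpen.preimage π.continuous) ⟨a, hi, ha⟩ ⟨z, hxi, hxj⟩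
    obtain ⟨w', -, hw'u, hw'v⟩ := (hW j).2 u v hu hv ⟨w, hwj, hwu⟩ ⟨b, hj, hb⟩
    exact ⟨w', trivial, hw'u, hw'v⟩
  obtain ⟨i⟩ := hne
  obtain ⟨a, -⟩ := (hW i).1
  exact { toNonempty := ⟨a⟩ }

end Groth.Agent.S1630
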