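import Groth.Statements.S16301
import Groth.Agent.Lib.Genus0Pic18.Basic

set_option autoImplicit false
universe u
open CategoryTheory CategoryTheory.Limits AlgebraicGeometry
open Curves

namespace Groth.Agent.S16301

/-- Let k be an infinite field and X a genus-zero curve over k, that is, an integral scheme proper over
k of dimension one with H^1(X, O_X) = 0. Let P be a closed point of X whose local ring is regular
and whose degree deg_k P = dim_k H^0(P, O_P) is least among all closed points of X with regular
local ring, and let I_P be the ideal sheaf of the reduced point P (an invertible module, P being a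
regular point of a curve; this is carried as a hypothesis). Then the Picard group of X is generated
by the class of I_P, equivalently by O_X(P): every class of an invertible O_X-module is an integer
power of the class of I_P (the group law on the Picard group is the tensor product, supplied by the
binder). (The published statement is for an arbitrary base field; this row assumes k infinite, the
case in which the published argument applies: it twice replaces an ample divisor by a member of its
base-point-free complete linear system whose support avoids the finitely many non-regular points of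
X, and over a finite field such a member need not exist.) -/
theorem result (k : Type u) [Field k] [Infinite k] (X : Scheme.{u}) [X.Over (Spec (CommRingCat.of k))]
    [IsIntegral X] [IsProper (X ↘ (Spec (CommRingCat.of k)))] (hdim : topologicalKrullDim X = 1)
    (h1 : Subsingleton (Coh.HH X (Coh.structureModule X) 1))
    (P : X) (hPc : IsClosed ({P} : Set X)) (hPreg : IsRegularLocalRing (X.presheaf.stalk P))
    (hmin : ∀ (Q : X) (hQc : IsClosed ({Q} : Set X)), IsRegularLocalRing (X.presheaf.stalk Q) →
      Module.finrank k (Coh.HH X (ClSub.quotMod (Scheme.IdealSheafData.vanishingIdeal ⟨{P}, hPc⟩)) 0) ≤ Module.finrank k (Coh.HH X (ClSub.quotMod (Scheme.IdealSheafData.vanishingIdeal ⟨{Q}, hQc⟩)) 0))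
    (hI : PicF.IsInvertible (ClSub.idealMod (Scheme.IdealSheafData.vanishingIdeal ⟨{P}, hPc⟩))) [PicGrp.Law X]
    (c : PicLoc.PicSet X) :
    c ∈ Subgroup.zpowers (PicGrp.cls (ClSub.idealMod (Scheme.IdealSheafData.vanishingIdeal ⟨{P}, hPc⟩)) hI) := by
  have hX : CurveCoh17.CurveLike k X := VB17.curveLike hdim
  have hg : Curv2.genus k X = 0 := by
    unfold Curv2.genus
    exact Module.finrank_zero_of_subsingleton
  obtain ⟨L, hL, rfl⟩ := PicGrp.exists_eq_cls c
  set Z := Scheme.IdealSheafData.vanishingIdeal ⟨{P}, hPc⟩
  set d : ℕ := Module.finrank k (Coh.HH X (ClSub.quotMod Z) 0) with hd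
  have hdpos : 0 < d := Genus0Pic18.h0_quotMod_pos hX hPc
  have hdeg : Curv2.deg k X (ClSub.idealMod Z) 1 = -(d : ℤ) := Genus0Pic18.deg_pointIdeal hX hPc
  obtain ⟨M, hM, hc, hm⟩ := Genus0Pic18.exists_twist hX hI (Curv2.deg k X L 1 / (d : ℤ)) hL
  have hr : Curv2.deg k X M 1 = Curv2.deg k X L 1 % (d : ℤ) := by
    rw [hm, hdeg, Int.emod_def]; ring
  have h1' := Int.emod_nonneg (Curv2.deg k X L 1) (show (d : ℤ) ≠ 0 by omega)
  have h2' := Int.emod_lt_of_pos (Curv2.deg k X L 1) (show (0 : ℤ) < d by omega)
  have ht := Genus0Pic18.trivial_of_deg_lt hdim hg d (fun Q hQ h => by exact_mod_cast hmin Q hQ h) hM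
    (by omega) (by omega)
  rw [(PicGrp.cls_eq_one_iff hM).2 ht] at hc
  exact Subgroup.mem_zpowers_iff.2 ⟨-(Curv2.deg k X L 1 / (d : ℤ)), by
    rw [zpow_neg]; exact inv_eq_of_mul_eq_one_left hc.symm⟩

end Groth.Agent.S16301
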