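import Groth.Statements.S16304
import Groth.Agent.Lib.GGen15.Counit
import Groth.Agent.Lib.FMHyp13.IdealMul
import Groth.Agent.Lib.Stein6.NormalBase
import Groth.Agent.Lib.BiratPt18.Main
-- import your own Groth.Agent.* helpers here

set_option autoImplicit false
universe u
open CategoryTheory CategoryTheory.Limits AlgebraicGeometry
open Resolve

open CategoryTheory CategoryTheory.Limits AlgebraicGeometry Groth.Agent

namespace Groth.Agent.S16304

/-- Let k be a field and X a normal surface over k (an integral normal scheme, separated and of finite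
type over k, of dimension two) whose only non-regular point is the closed point P, and f : Y → X a
resolution: a proper morphism from an integral scheme Y of dimension two with all local rings
regular, restricting to an isomorphism over the complement of P. Let V be an effective Cartier
divisor on Y, given by a quasi-coherent ideal sheaf O_Y(-V) that is an invertible module, such that
P lies in f(Supp V) and O_Y(-V) is f-free, that is, the counit f^* f_* O_Y(-V) → O_Y(-V) is an
epimorphism. Then O_Y(-V) is contained in m_P O_Y, the inverse image ideal sheaf of the ideal of the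
reduced point P. -/
theorem result (k : Type u) [Field k] (X : Scheme.{u}) [X.Over (Spec (CommRingCat.of k))]
    [IsIntegral X] [IsSeparated (X ↘ (Spec (CommRingCat.of k)))] [LocallyOfFiniteType (X ↘ (Spec (CommRingCat.of k)))]
    [CompactSpace X] (hdim : topologicalKrullDim X = 2) (hnorm : Pi1.IsNormalScheme X)
    (P : X) (hPc : IsClosed ({P} : Set X)) (hP : ¬ IsRegularLocalRing (X.presheaf.stalk P))
    (hreg : ∀ x : X, x ≠ P → IsRegularLocalRing (X.presheaf.stalk x))
    (Y : Scheme.{u}) (f : Y ⟶ X) [IsIntegral Y] (hdimY : topologicalKrullDim Y = 2)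
    (hregY : ∀ y : Y, IsRegularLocalRing (Y.presheaf.stalk y)) [IsProper f]
    (hiso : IsIso (f ∣_ ⟨({P} : Set X)ᶜ, hPc.isOpen_compl⟩))
    (V : Y.IdealSheafData) (hV : PicF.IsInvertible (ClSub.idealMod V)) (hPV : P ∈ f.base '' (V.support : Set Y))
    (hfree : Epi ((Scheme.Modules.pullbackPushforwardAdjunction f).counit.app (ClSub.idealMod V))) :
    V ≤ (Scheme.IdealSheafData.vanishingIdeal ⟨{P}, hPc⟩).comap f := by
  haveI : IsLocallyNoetherian X := LocallyOfFiniteType.isLocallyNoetherian (X ↘ (Spec (CommRingCat.of k)))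
  haveI : IsLocallyNoetherian Y := LocallyOfFiniteType.isLocallyNoetherian f
  let U₀ : X.Opens := ⟨({P} : Set X)ᶜ, hPc.isOpen_compl⟩
  let η := genericPoint X
  have hηP : η ≠ P := fun h => hP (h ▸ (show IsRegularLocalRing X.functionField from inferInstance))
  obtain ⟨hgenY, -⟩ := BiratPt18.birational_of_isIso_restrict f U₀ ⟨η, hηP⟩ hiso
  have h0 : Function.Bijective ((f.fiberToSpecResidueField η).appTop) := by
    haveI : IsIso (pullback.snd f U₀.ι) :=
      ((MorphismProperty.isomorphisms Scheme).arrow_mk_iso_iff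
        (Arrow.isoMk (pullbackRestrictIsoRestrict f U₀).symm (Iso.refl _)
          ((Iso.inv_comp_eq _).2 (pullbackRestrictIsoRestrict_hom_morphismRestrict f U₀).symm |>.trans (Category.comp_id _).symm))).1 hiso
    have hr : Set.range (X.fromSpecResidueField η) ⊆ Set.range U₀.ι := by
      rw [Scheme.range_fromSpecResidueField, Scheme.Opens.range_ι, Set.singleton_subset_iff]
      exact hηP
    let l := IsOpenImmersion.lift U₀.ι (X.fromSpecResidueField η) hr
    have hl : l ≫ U₀.ι = X.fromSpecResidueField η := IsOpenImmersion.lift_fac _ _ hr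
    have hbig : IsPullback (pullback.fst (pullback.snd f U₀.ι) l ≫ pullback.fst f U₀.ι)
        (pullback.snd (pullback.snd f U₀.ι) l) f (X.fromSpecResidueField η) := by
      rw [← hl]
      exact (IsPullback.of_hasPullback _ _).paste_horiz (IsPullback.of_hasPullback _ _)
    haveI : IsIso (pullback.snd f (X.fromSpecResidueField η)) := by
      rw [← hbig.isoPullback_inv_snd]
      infer_instance
    haveI : IsIso (f.fiberToSpecResidueField η) := ‹IsIso (pullback.snd f (X.fromSpecResidueField η))›
    haveI : IsIso ((f.fiberToSpecResidueField η).appTop) :=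
      inferInstanceAs (IsIso ((f.fiberToSpecResidueField η).app ⊤))
    exact ConcreteCategory.bijective_of_isIso _
  have hsur : ∀ W : X.Opens, IsAffineOpen W → Function.Surjective (f.app W) := fun W hW =>
    (Stein6.bijective_app_of_normal f hnorm (fun Z hZ x hx => by
      rw [irreducibleComponents_eq_singleton, Set.mem_singleton_iff] at hZ
      subst hZ
      rw [hx.eq (genericPoint_spec Y)]
      exact hgenY) h0 W hW).2
  let J : X.IdealSheafData := Scheme.IdealSheafData.vanishingIdeal ⟨{P}, hPc⟩
  let K := J.comap f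
  have hVJ : V.map f ≤ J := by
    rw [← Scheme.IdealSheafData.le_support_iff_le_vanishingIdeal, Scheme.IdealSheafData.support_map]
    intro z hz
    exact subset_closure (show z ∈ f '' (V.support : Set Y) by rw [show z = P from hz]; exact hPV)
  haveI := hfree
  have key : ∀ (y : Y) (U : Y.Opens) (hy : y ∈ U) (a : Γ(ClSub.idealMod V, U)),
      Y.presheaf.germ U y hy (M2.idealIncl V a) ∈ InterLen.idealSt K y := by
    intro y U hy a
    obtain ⟨W, hW, hyW, -⟩ := exists_isAffineOpen_mem_and_subset (X := X) (x := f y) (U := ⊤) trivial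
    let N : Submodule (Y.presheaf.stalk y) ((Coh.structureModule Y).presheaf.stalk y) :=
      InterLen.idealSt K y • ⊤
    have hι : ∀ (U : Y.Opens) (hy : y ∈ U) (a : Γ(ClSub.idealMod V, U)),
        CohFound.stL (ClSub.idealModι V) y ((ClSub.idealMod V).presheaf.germ U y hy a) =
          Y.presheaf.germ U y hy (M2.idealIncl V a) • Cyc26.oneStalk y := fun U hy a =>
      (M1.germ_naturality (ClSub.idealModι V) U y hy a).trans (FMHyp13.germ_structure hy _)
    have htop : ⊤ ≤ N.comap (CohFound.stL (ClSub.idealModι V) y) := by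
      rw [← GGen15.germ_span_of_epi_counit f (M2.isQCoh_idealMod V) hW y hyW, Submodule.span_le]
      rintro _ ⟨s, rfl⟩
      show CohFound.stL (ClSub.idealModι V) y ((ClSub.idealMod V).presheaf.germ (f ⁻¹ᵁ W) y hyW s) ∈ N
      refine (congrArg (· ∈ N) (hι (f ⁻¹ᵁ W) hyW s)).mpr (Submodule.smul_mem_smul ?_ trivial)
      obtain ⟨g, hg⟩ := hsur W hW (M2.idealIncl V s)
      have hgV : g ∈ (V.map f).ideal ⟨W, hW⟩ := by
        rw [Scheme.IdealSheafData.map, Scheme.Hom.ker_apply]
        show (V.subschemeι ≫ f).app W g = 0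
        rw [Scheme.Hom.comp_app]
        show V.subschemeι.app (f ⁻¹ᵁ W) (f.app W g) = 0
        rw [hg]
        exact M2.subschemeι_app_idealIncl V s
      have hgK := (J.le_map_comap f) ⟨W, hW⟩ (hVJ ⟨W, hW⟩ hgV)
      rw [Scheme.IdealSheafData.map, Scheme.Hom.ker_apply] at hgK
      replace hgK : K.subschemeι.app (f ⁻¹ᵁ W) (f.app W g) = 0 := by
        have h : (K.subschemeι ≫ f).app W g = 0 := hgK
        rw [Scheme.Hom.comp_app] at h
        exact h
      rw [hg] at hgK
      obtain ⟨a', ha'⟩ := M2.exists_idealIncl_eq K _ hgK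
      rw [← ha']
      exact Ideal.subset_span ⟨_, hyW, a', rfl⟩
    have hmem : CohFound.stL (ClSub.idealModι V) y ((ClSub.idealMod V).presheaf.germ U y hy a) ∈ N :=
      htop Submodule.mem_top
    rw [hι] at hmem
    have hN : ∀ m ∈ N, ∃ c ∈ InterLen.idealSt K y, c • Cyc26.oneStalk y = m := by
      intro m hm
      induction hm using Submodule.smul_induction_on' with
      | smul r hr n hn =>
        obtain ⟨d, rfl⟩ := (Cyc26.structureModule_stalk_bijective (Z := Y) y).2 n
        exact ⟨r * d, Ideal.mul_mem_right _ _ hr, mul_smul r d _⟩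
      | add p _ q _ hp hq =>
        obtain ⟨c, hc, rfl⟩ := hp
        obtain ⟨d, hd, rfl⟩ := hq
        exact ⟨c + d, add_mem hc hd, add_smul _ _ _⟩
    obtain ⟨c, hc, he⟩ := hN _ hmem
    rwa [(Cyc26.structureModule_stalk_bijective (Z := Y) y).1 he] at hc
  intro U s hs
  obtain ⟨a, rfl⟩ := (M2.range_idealIncl V U).ge hs
  show M2.idealIncl V a ∈ (J.comap f).ideal U
  rw [show J.comap f = K.subschemeι.ker from K.ker_subschemeι.symm, Scheme.Hom.ker_apply]
  show K.subschemeι.app U.1 (M2.idealIncl V a) = 0
  apply TopCat.Presheaf.section_ext K.subscheme.sheaf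
  intro z hz
  refine Eq.trans ?_ (map_zero _).symm
  show K.subscheme.presheaf.germ _ z hz (K.subschemeι.app U.1 (M2.idealIncl V a)) = 0
  refine (Scheme.Hom.germ_stalkMap_apply K.subschemeι U.1 z hz _).symm.trans ?_
  have hle : InterLen.idealSt K (K.subschemeι z) ≤ RingHom.ker (K.subschemeι.stalkMap z).hom := by
    rw [InterLen.idealSt, Ideal.span_le]
    rintro _ ⟨U', hU', b, rfl⟩
    rw [SetLike.mem_coe, RingHom.mem_ker]
    show K.subschemeι.stalkMap z (Y.presheaf.germ U' _ hU' (M2.idealIncl K b)) = 0
    rw [Scheme.Hom.germ_stalkMap_apply, M2.subschemeι_app_idealIncl, map_zero]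
  exact hle (key _ U.1 hz a)

end Groth.Agent.S16304
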