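import Groth.Statements.S16307
import Groth.Agent.Lib.GenusOneMul32.Main
import Groth.Agent.Lib.CurveCM.Span
import Groth.Agent.Lib.CurveH1Min27.Apps
import Groth.Agent.Lib.NefH1.Mult

set_option autoImplicit false
universe u
open CategoryTheory CategoryTheory.Limits AlgebraicGeometry
open Curves

namespace Groth.Agent.S16307

/-- In the case of a separably closed base field and a curve that is not geometrically integral (the
case proved in the text), let k be a separably closed field and X a Gorenstein genus-one curve over
k: an integral scheme, proper over k, of dimension one, all of whose local rings are Gorenstein,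
with dim_k H^1(X, O_X) = 1 (so H^0(X, O_X) = k). Assume that X is not geometrically integral over k.
Let L be an invertible O_X-module of degree at least 3 over k. Then the section ring ⊕_{m ≥ 0}
H^0(X, L^{⊗ m}) is generated in degree one: for every m, the global sections of L^{⊗ m} ⊗ L = L^{⊗
(m+1)} are spanned over H^0(X, O_X) by the sections a ⊗ b with a a global section of L^{⊗ m} and b a
global section of L; and L is very ample: for some n there is a closed immersion i : X → P^n_k over
k with i^*O(1) isomorphic to L (existence of an isomorphism only). (The published statement is for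
an arbitrary base field and any Gorenstein genus-one curve; the text reduces to a separably closed
field, cites the literature for the geometrically integral case, and proves the remaining case,
which is the one stated here.) -/
theorem result (k : Type u) [Field k] (X : Scheme.{u}) [X.Over (Spec (CommRingCat.of k))] [IsSepClosed k]
    [IsIntegral X] [IsProper (X ↘ (Spec (CommRingCat.of k)))] (hdim : topologicalKrullDim X = 1)
    (hgor : ∀ x : X, LocCoh.IsGorensteinLocalRing (X.presheaf.stalk x)) (hg : Curv2.genus k X = 1)
    (hngi : ¬ GeometricallyIntegral (X ↘ (Spec (CommRingCat.of k))))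
    (L : X.Modules) (hL : PicF.IsInvertible L) (hdeg : 3 ≤ Curv2.deg k X L 1) :
    (∀ m : ℕ, Submodule.span (X.ringCatSheaf.obj.obj (Opposite.op ⊤))
        (Set.range (fun p : (CohB1.tensorPow L m).val.obj (Opposite.op ⊤) × L.val.obj (Opposite.op ⊤) =>
          SecTwist.tmul (CohB1.tensorPow L m) L ⊤ p.1 p.2)) = ⊤) ∧
    ∃ (n : ℕ) (i : X ⟶ CohB1.ProjSpace n k), IsClosedImmersion i ∧
      i ≫ CohB1.ProjSpace.toSpec n k = X ↘ (Spec (CommRingCat.of k)) ∧
      Nonempty ((Scheme.Modules.pullback i).obj (Twist.twistProjSpace n k 1) ≅ L) := by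
  haveI := CohFound.isNoetherian_of_isProper (X ↘ Spec (CommRingCat.of k))
  haveI : Infinite k := by
    by_contra h
    haveI : Finite k := not_infinite_iff_finite.1 h
    haveI := IsSepClosed.isAlgClosed_of_perfectField k
    exact h inferInstance
  have hX := Groth.Agent.CurveAmple18.curveLike k X hdim.le
  have hA : CohB1.IsAmple L := Groth.Agent.CurveAmple18.isAmple_of_deg_pos (k := k) hdim.le hL (by omega)
  have hgg : Curv2.IsGloballyGenerated L := Groth.Agent.CurveH1Min27.globallyGenerated_of_degBig hdim hL
    (Groth.Agent.CurveH1Min27.degBig_of_integral (k := k) hdim (by rw [hg]; omega))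
  have h1 : Subsingleton (Coh.HH X L 1) := Groth.Agent.GenusOneMul32.subsingleton_h1_of_deg_pos hX hg
    (Groth.Agent.CurveCoh17.rkOne_of_invertible hdim.le hL) (by omega)
  have h1' : Subsingleton (Coh.HH X (CohB1.tensorPow L 1) 1) :=
    Groth.Agent.CMReg18.van_iso k (Groth.Agent.M2.tensorPowOne L).symm h1
  have hspan : ∀ m : ℕ, ∀ t, t ∈ AddSubgroup.closure (Set.range fun p :
      (CohB1.tensorPow L m).val.obj (Opposite.op ⊤) × L.val.obj (Opposite.op ⊤) =>
        SecTwist.tmul (CohB1.tensorPow L m) L ⊤ p.1 p.2) := by
    intro m t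
    rcases m with _ | _ | p
    · refine AddSubgroup.subset_closure ⟨(Groth.Agent.M1.one ⊤, (Groth.Agent.M2.tensorPowOne L).hom.app ⊤ t), ?_⟩
      show SecTwist.tmul (Coh.structureModule X) L ⊤ (Groth.Agent.M1.one ⊤)
        ((Groth.Agent.M2.tensorPowOne L).hom.app ⊤ t) = t
      rw [Groth.Agent.Amp.tmul_eq_tsec]
      refine (Groth.Agent.M1.app_injective (Groth.Agent.M2.tensorPowOne L).hom ⊤) ?_
      refine (Groth.Agent.CurveCoh17.tensorLUnit_tsec _ _).trans ?_
      exact one_smul _ _
    · let τ := Groth.Agent.M2.tensorMap (Groth.Agent.M2.tensorPowOne L).hom (𝟙 L)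
      haveI : IsIso τ := (Groth.Agent.M2.tensorIso (Groth.Agent.M2.tensorPowOne L) (Iso.refl L)).isIso_hom
      have hall := (Groth.Agent.GenusOneMul32.closure_tsec_eq_top hL hdim.le hg hgg hdeg).ge
        (AddSubgroup.mem_top (τ.app ⊤ t))
      have key : ∀ z, z ∈ AddSubgroup.closure (Set.range fun p : Γ(L, (⊤ : X.Opens)) × Γ(L, (⊤ : X.Opens)) =>
          Groth.Agent.M2.tsec L L p.1 p.2) → (CategoryTheory.inv τ).app ⊤ z ∈ AddSubgroup.closure (Set.range fun p :
          (CohB1.tensorPow L 1).val.obj (Opposite.op ⊤) × L.val.obj (Opposite.op ⊤) =>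
            SecTwist.tmul (CohB1.tensorPow L 1) L ⊤ p.1 p.2) := fun z hz => by
        induction hz using AddSubgroup.closure_induction with
        | mem y hy =>
          obtain ⟨⟨v, w⟩, rfl⟩ := hy
          refine AddSubgroup.subset_closure ⟨((Groth.Agent.M2.tensorPowOne L).inv.app ⊤ v, w), ?_⟩
          refine (Groth.Agent.M1.app_injective τ ⊤) ?_
          dsimp only
          rw [Groth.Agent.Amp.tmul_eq_tsec, Groth.Agent.M2.tensorMap_tsec, ← ConcreteCategory.comp_apply,
            ← Scheme.Modules.Hom.comp_app, Iso.inv_hom_id, ← ConcreteCategory.comp_apply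
              (CategoryTheory.inv τ |>.app ⊤) (τ.app ⊤), ← Scheme.Modules.Hom.comp_app, IsIso.inv_hom_id]
          rfl
        | zero => rw [map_zero]; exact zero_mem _
        | add y y' _ _ h h' => rw [map_add]; exact add_mem h h'
        | neg y _ h => rw [map_neg]; exact neg_mem h
      have := key _ hall
      rwa [← ConcreteCategory.comp_apply, ← Scheme.Modules.Hom.comp_app, IsIso.hom_inv_id] at this
    · obtain ⟨r, y, s, rfl⟩ := Groth.Agent.CurveCM.exists_eq_sum_pow k hdim.le hL hgg 1 h1' (p + 1) (by omega) t
      exact AddSubgroup.sum_mem _ fun i _ => AddSubgroup.subset_closure ⟨(y i, s i), rfl⟩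
  refine ⟨fun m => eq_top_iff.2 fun t _ => ?_, ?_⟩
  · have := hspan m t
    induction this using AddSubgroup.closure_induction with
    | mem y hy => exact Submodule.subset_span hy
    | zero => exact zero_mem _
    | add y y' _ _ h h' => exact add_mem (h trivial) (h' trivial)
    | neg y _ h => exact neg_mem (h trivial)
  · refine Groth.Agent.NefH1.exists_closedImmersion_of_pn k (X ↘ Spec (CommRingCat.of k))
      (Groth.Agent.AmpleFib.isRelVeryAmplePn_of_gen _ hA fun n _ => eq_top_iff.2 fun t _ => ?_)
    refine AddSubgroup.closure_mono ?_ (hspan n t)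
    rintro _ ⟨⟨m, s⟩, rfl⟩
    exact ⟨m, s, rfl⟩

end Groth.Agent.S16307
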