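import Groth.Statements.S16309
import Groth.Agent.Lib.NefH1.Mult
import Groth.Agent.Lib.CurveCoh17.IdealPow

set_option autoImplicit false
universe u
open CategoryTheory CategoryTheory.Limits AlgebraicGeometry
open Curves

namespace Groth.Agent.S16309

/-- Let k be a field and X a proper scheme over k of dimension one (not assumed reduced or irreducible)
with H^1(X, O_X) = 0 and H^0(X, O_X) = k, and let L be an ample invertible O_X-module. Then the
section ring ⊕_{n ≥ 0} H^0(X, L^{⊗ n}) is generated by H^0(X, L) as a k-algebra: for every n, the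
global sections of L^{⊗ n} ⊗ L = L^{⊗ (n+1)} are spanned over H^0(X, O_X) = k by the sections a ⊗ b
with a a global section of L^{⊗ n} and b a global section of L. -/
theorem result (k : Type u) [Field k] (X : Scheme.{u}) [X.Over (Spec (CommRingCat.of k))]
    [IsProper (X ↘ (Spec (CommRingCat.of k)))] (hdim : topologicalKrullDim X = 1)
    (h1 : Subsingleton (Coh.HH X (Coh.structureModule X) 1))
    (h0 : Module.finrank k (Coh.HH X (Coh.structureModule X) 0) = 1)
    (L : X.Modules) (hA : CohB1.IsAmple L) (n : ℕ) :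
    Submodule.span (X.ringCatSheaf.obj.obj (Opposite.op ⊤))
        (Set.range (fun p : (CohB1.tensorPow L n).val.obj (Opposite.op ⊤) × L.val.obj (Opposite.op ⊤) =>
          SecTwist.tmul (CohB1.tensorPow L n) L ⊤ p.1 p.2)) = ⊤ := by
  haveI : IsNoetherian X := CohFound.isNoetherian_of_isProper (X ↘ Spec (CommRingCat.of k))
  refine eq_top_iff.2 fun t _ => ?_
  rcases n with _ | p
  · refine Submodule.subset_span ⟨(M1.one ⊤, (M2.tensorPowOne L).hom.app ⊤ t), ?_⟩
    show SecTwist.tmul (Coh.structureModule X) L ⊤ (M1.one ⊤) ((M2.tensorPowOne L).hom.app ⊤ t) = t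
    rw [Amp.tmul_eq_tsec]
    refine (M1.app_injective (M2.tensorPowOne L).hom ⊤) ?_
    refine (CurveCoh17.tensorLUnit_tsec _ _).trans ?_
    exact one_smul _ _
  · have hfib : ∀ y : ↥(Spec (CommRingCat.of k)),
        topologicalKrullDim ↥((X ↘ Spec (CommRingCat.of k)).fiber y) ≤ 1 := fun y =>
      (VanFib13.dim_fiber _ y).trans_le (Topology.IsInducing.subtypeVal.topologicalKrullDim_le.trans hdim.le)
    have hv2 := NefH1.hv2_of_fibres (X := X) (A := k) hfib
    have h := NefH1.h1_and_globallyGenerated (A := k) hv2 h1 (Snapper.isCoh_of_isInvertible hA.1)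
      fun Q π hπ hQ hQ0 m hm hkill => by
        haveI := hπ
        exact NefH1.exists_section_fibre hfib h1 hA.1 π hQ hQ0 k (RingHom.id k) Function.surjective_id
          (fun a ha => hkill a (by rw [show a = 0 from ha]; exact m.zero_mem)) (NefH1.nefOver_of_isAmple k hA _ _)
    obtain ⟨r, y, s, rfl⟩ := NefH1.exists_eq_sum_pow k hv2 h1 hA.1 h.2 p t
    exact Submodule.sum_mem _ fun i _ => Submodule.subset_span ⟨(y i, s i), rfl⟩

end Groth.Agent.S16309
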