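import Groth.Statements.S16312
import Mathlib

set_option autoImplicit false
universe u
open W4c3irrattreebun

namespace Groth.Agent.S16312

/-- Let N be a closed cone in real n-space, f a function continuous on N, positive at the nonzero points
of N and homogeneous of degree one under scaling by nonnegative reals, and Λ a discrete additive
subgroup. Then for every real c the set of points H of Λ lying in N with f(H) ≤ c is finite. (The
published statement takes Λ to be a lattice; this row allows any discrete additive subgroup.) -/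
theorem result (n : ℕ)
    (N : Set (EuclideanSpace ℝ (Fin n))) (hN : IsClosed N)
    (hcone : ∀ x ∈ N, ∀ r : ℝ, 0 ≤ r → r • x ∈ N)
    (f : EuclideanSpace ℝ (Fin n) → ℝ) (hf : ContinuousOn f N)
    (hpos : ∀ x ∈ N, x ≠ 0 → 0 < f x)
    (hhom : ∀ x ∈ N, ∀ r : ℝ, 0 ≤ r → f (r • x) = r * f x)
    (Λ : Submodule ℤ (EuclideanSpace ℝ (Fin n))) [DiscreteTopology Λ] (c : ℝ) :
    ({x : EuclideanSpace ℝ (Fin n) | x ∈ N ∧ f x ≤ c} ∩ (Λ : Set (EuclideanSpace ℝ (Fin n)))).Finite := by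
  have : IsClosed ((Λ : Set (EuclideanSpace ℝ (Fin n)))) :=
    @AddSubgroup.isClosed_of_discrete _ _ _ _ _ Λ.toAddSubgroup ‹DiscreteTopology Λ›
  suffices ∃ r : ℝ, {x : EuclideanSpace ℝ (Fin n) | x ∈ N ∧ f x ≤ c} ⊆ Metric.closedBall 0 r by
    obtain ⟨r, hr⟩ := this
    have hfin : (Metric.closedBall (0 : EuclideanSpace ℝ (Fin n)) r ∩ (Λ : Set (EuclideanSpace ℝ (Fin n)))).Finite := by
      refine ((isCompact_closedBall 0 r).inter_right this).finite ?_
      exact IsDiscrete.mono ⟨‹DiscreteTopology Λ›⟩ Set.inter_subset_right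
    exact hfin.subset (Set.inter_subset_inter_left _ hr)
  by_cases hne : (N ∩ Metric.sphere 0 1).Nonempty
  · obtain ⟨x₀, hx₀, hmin⟩ := ((isCompact_sphere 0 1).inter_left hN).exists_isMinOn hne (hf.mono Set.inter_subset_left)
    have hμ : 0 < f x₀ := hpos x₀ hx₀.1 (fun h => by simp [h] at hx₀)
    refine ⟨max (c / f x₀) 0, fun x ⟨hxN, hxc⟩ => ?_⟩
    rw [mem_closedBall_zero_iff]
    by_cases hx : x = 0
    · simp [hx]
    refine le_trans ?_ (le_max_left _ _)
    rw [le_div_iff₀ hμ]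
    have hn : ‖x‖ ≠ 0 := norm_ne_zero_iff.2 hx
    have h1 : f x₀ ≤ f (‖x‖⁻¹ • x) := hmin (show ‖x‖⁻¹ • x ∈ N ∩ Metric.sphere 0 1 from
      ⟨hcone x hxN _ (by positivity), by simp [norm_smul, inv_mul_cancel₀ hn]⟩)
    rw [hhom x hxN _ (by positivity)] at h1
    calc ‖x‖ * f x₀ ≤ ‖x‖ * (‖x‖⁻¹ * f x) := mul_le_mul_of_nonneg_left h1 (norm_nonneg x)
      _ = f x := by field_simp
      _ ≤ c := hxc
  · refine ⟨0, fun x ⟨hxN, _⟩ => ?_⟩
    by_contra hx
    have hx0 : x ≠ 0 := fun h => hx (by simp [h])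
    exact hne ⟨‖x‖⁻¹ • x, hcone x hxN _ (by positivity), by simp [norm_smul, inv_mul_cancel₀ (norm_ne_zero_iff.2 hx0)]⟩

end Groth.Agent.S16312
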