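import Groth.Statements.S16316
-- import your own Groth.Agent.* helpers here
import Groth.Agent.Lib.Cliff17.Main
import Groth.Agent.Lib.CurveOm17.Hyp
import Groth.Agent.Lib.CurveOm17.AnyField
import Groth.Agent.Lib.Omega12.Universal

set_option autoImplicit false
open CategoryTheory CategoryTheory.Limits AlgebraicGeometry
universe u
open Curves

namespace Groth.Agent.S16316

/-- Let k be an algebraically closed field of characteristic zero and X a smooth proper integral curve
over k (integral, proper and smooth over k, of dimension one) of genus 9 whose Clifford index is 1: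
some invertible module M with h^0(M) ≥ 2 and h^1(M) ≥ 2 has deg M − 2(h^0(M) − 1) = 1, and every
invertible module M with h^0(M) ≥ 2 and h^1(M) ≥ 2 has deg M − 2(h^0(M) − 1) ≥ 1 (degrees are χ(M) −
χ(O_X); in particular X is not hyperelliptic). Then X is trigonal: it carries a g^1_3, an invertible
module of degree 3 together with two k-linearly independent global sections. -/
theorem result
    (k : Type u) [Field k] [IsAlgClosed k] [CharZero k]
    (X : Scheme.{u}) [X.Over (Spec (CommRingCat.of k))] [IsIntegral X]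
    [IsProper (X ↘ Spec (CommRingCat.of k))] [Smooth (X ↘ Spec (CommRingCat.of k))]
    (hdim : topologicalKrullDim X = 1) (hg : Curv2.genus k X = 9)
    (hex : ∃ M : X.Modules, PicF.IsInvertible M ∧ 2 ≤ Module.finrank k (Coh.HH X M 0) ∧
      2 ≤ Module.finrank k (Coh.HH X M 1) ∧ Curv2.deg k X M 1 = 2 * (Module.finrank k (Coh.HH X M 0) : ℤ) - 1)
    (hmin : ∀ M : X.Modules, PicF.IsInvertible M → 2 ≤ Module.finrank k (Coh.HH X M 0) →
      2 ≤ Module.finrank k (Coh.HH X M 1) → 2 * (Module.finrank k (Coh.HH X M 0) : ℤ) - 1 ≤ Curv2.deg k X M 1) :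
    ∃ (L : X.Modules) (s : Fin (1 + 1) → LinSer.Sect X L), LinSer.IsLinSer k X L 3 1 s := by
  obtain ⟨hX, h0O, hbig⟩ := Groth.Agent.VB17.setup (k := k) (X := X) hdim
  obtain ⟨-, -, -, -, lam, hW⟩ := Groth.Agent.CurveOm17.exists_isDualizing_omega' hdim h0O
    (Groth.Agent.Omega12.isUniversal_dOmega (f := X ↘ Spec (CommRingCat.of k)))
  haveI := hX.like.noetherian
  have nh : Groth.Agent.Cliff17.NH k X := fun N hN h1 h2 h3 h4 => by
    have hrr := Groth.Agent.Cliff17.rr_nat (k := k) hdim hN
    by_cases a : 2 ≤ Module.finrank k (Coh.HH X N 0)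
    · by_cases b : 2 ≤ Module.finrank k (Coh.HH X N 1)
      · linarith [hmin N hN a b]
      · omega
    · omega
  by_cases nt : Groth.Agent.Cliff17.NT k X
  · obtain ⟨M, hM, h2, h12, hd⟩ := hex
    have := (Groth.Agent.Cliff17.cliff_one hdim hW nh nt _ hM rfl h2 h12 (by omega)).1
    omega
  · simp only [Groth.Agent.Cliff17.NT, not_forall, not_le] at nt
    obtain ⟨N, hN, hd, h2⟩ := nt
    haveI := hX.like.fin N (Groth.Agent.CurveCoh17.isCoh_of_ofRank
      ((Groth.Agent.M2.isInvertible_iff_isFinLocFreeOfRank_one _).1 hN)) 0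
    obtain ⟨s, hs⟩ := Groth.Agent.CurveOm17.exists_isLinSer hN (d := 3) hd h2
    exact ⟨N, s, hs⟩

end Groth.Agent.S16316
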