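import Groth.Statements.S16317
import Groth.Agent.Lib.Cliff17.Main
import Groth.Agent.Lib.Cliff17.Pencils
import Groth.Agent.Lib.CurveOm17.Hyp
import Groth.Agent.Lib.CurveOm17.AnyField
import Groth.Agent.Lib.Omega12.Universal
-- import your own Groth.Agent.* helpers here

set_option autoImplicit false
open CategoryTheory CategoryTheory.Limits AlgebraicGeometry
universe u
open Curves

namespace Groth.Agent.S16317

/-- Let k be an algebraically closed field of characteristic zero and X a smooth proper integral curve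
over k (integral, proper and smooth over k, of dimension one) of genus 9 whose Clifford index is 2:
some invertible module M with h^0(M) ≥ 2 and h^1(M) ≥ 2 has deg M − 2(h^0(M) − 1) = 2, and every
invertible module M with h^0(M) ≥ 2 and h^1(M) ≥ 2 has deg M − 2(h^0(M) − 1) ≥ 2 (degrees are χ(M) −
χ(O_X); in particular X is not hyperelliptic). Then X is tetragonal: it carries a g^1_4, an
invertible module of degree 4 together with two k-linearly independent global sections. -/
theorem result
    (k : Type u) [Field k] [IsAlgClosed k] [CharZero k]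
    (X : Scheme.{u}) [X.Over (Spec (CommRingCat.of k))] [IsIntegral X]
    [IsProper (X ↘ Spec (CommRingCat.of k))] [Smooth (X ↘ Spec (CommRingCat.of k))]
    (hdim : topologicalKrullDim X = 1) (hg : Curv2.genus k X = 9)
    (hex : ∃ M : X.Modules, PicF.IsInvertible M ∧ 2 ≤ Module.finrank k (Coh.HH X M 0) ∧
      2 ≤ Module.finrank k (Coh.HH X M 1) ∧ Curv2.deg k X M 1 = 2 * (Module.finrank k (Coh.HH X M 0) : ℤ))
    (hmin : ∀ M : X.Modules, PicF.IsInvertible M → 2 ≤ Module.finrank k (Coh.HH X M 0) →
      2 ≤ Module.finrank k (Coh.HH X M 1) → 2 * (Module.finrank k (Coh.HH X M 0) : ℤ) ≤ Curv2.deg k X M 1) :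
    ∃ (L : X.Modules) (s : Fin (1 + 1) → LinSer.Sect X L), LinSer.IsLinSer k X L 4 1 s := by
  obtain ⟨hX, h0O, hbig⟩ := Groth.Agent.VB17.setup (k := k) (X := X) hdim
  obtain ⟨-, -, -, -, lam, hW⟩ := Groth.Agent.CurveOm17.exists_isDualizing_omega' hdim h0O
    (Groth.Agent.Omega12.isUniversal_dOmega (f := X ↘ Spec (CommRingCat.of k)))
  haveI := hX.like.noetherian
  have small : ∀ N : X.Modules, PicF.IsInvertible N → 2 ≤ Module.finrank k (Coh.HH X N 0) →
      Curv2.deg k X N 1 ≤ 8 → 2 * (Module.finrank k (Coh.HH X N 0) : ℤ) ≤ Curv2.deg k X N 1 := fun N hN h hd =>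
    hmin N hN h (by have := Groth.Agent.Cliff17.rr_nat (k := k) hdim hN; omega)
  have fin : ∀ N : X.Modules, PicF.IsInvertible N → 2 ≤ Module.finrank k (Coh.HH X N 0) → Curv2.deg k X N 1 = 4 →
      ∃ (L : X.Modules) (s : Fin (1 + 1) → LinSer.Sect X L), LinSer.IsLinSer k X L 4 1 s := fun N hN h hd => by
    haveI := hX.like.fin N (Groth.Agent.CurveCoh17.isCoh_of_ofRank
      ((Groth.Agent.M2.isInvertible_iff_isFinLocFreeOfRank_one _).1 hN)) 0
    obtain ⟨s, hs⟩ := Groth.Agent.CurveOm17.exists_isLinSer hN (d := 4) hd h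
    exact ⟨N, s, hs⟩
  obtain ⟨L, hL, hd, h2, h4⟩ : ∃ L : X.Modules, PicF.IsInvertible L ∧
      Curv2.deg k X L 1 = 2 * (Module.finrank k (Coh.HH X L 0) : ℤ) ∧ 2 ≤ Module.finrank k (Coh.HH X L 0) ∧
      Module.finrank k (Coh.HH X L 0) ≤ 4 := by
    obtain ⟨M, hM, h2, h12, hd⟩ := hex
    have hrr := Groth.Agent.Cliff17.rr_nat (k := k) hdim hM
    by_cases h : Module.finrank k (Coh.HH X M 0) ≤ 4
    · exact ⟨M, hM, hd, h2, h⟩
    · obtain ⟨M', hM', hd', h1', -⟩ := Groth.Agent.Cliff17.exists_residual hdim hW hM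
      exact ⟨M', hM', by omega, by omega, by omega⟩
  have hLL := Groth.Agent.M2.isInvertible_tensor hL hL
  have hdd := hX.like.deg_tensor_invertible hL hL
  have hrr := Groth.Agent.Cliff17.rr_nat (k := k) hdim hLL
  obtain ⟨N, hN, hdN, h1N, -⟩ := Groth.Agent.Cliff17.exists_residual hdim hW hLL
  by_cases e2 : Module.finrank k (Coh.HH X L 0) = 2
  · exact fin L hL h2 (by omega)
  by_cases e3 : Module.finrank k (Coh.HH X L 0) = 3
  · have h6 := Groth.Agent.Cliff17.six_le_h0_sq_of_not_pair hdim hL
      (fun A B hA hB hAB a b => by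
        by_cases hA8 : Curv2.deg k X A 1 ≤ 2
        · have := small A hA a (by omega)
          omega
        · by_cases hB8 : Curv2.deg k X B 1 ≤ 8
          · have := small B hB b hB8
            by_cases hA8' : Curv2.deg k X A 1 ≤ 8
            · have := small A hA a hA8'
              omega
            · omega
          · omega) e3
    exact fin N hN (by omega) (by omega)
  · have hN1 : Module.finrank k (Coh.HH X N 0) ≤ 1 := by
      by_contra h
      have := small N hN (by omega) (by omega)
      omega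
    have hd8 : Curv2.deg k X L 1 = 8 := by omega
    have h9 : Module.finrank k (Coh.HH X (CohB1.tensorMod L L) 0) ≤ 9 := by omega
    have h44 : Module.finrank k (Coh.HH X L 0) = 4 := by omega
    obtain ⟨A, B, hA, hB, hAB, a, b⟩ := Groth.Agent.Cliff17.pencils_of_h0_four hdim hL h44 h9
    by_cases hA8 : Curv2.deg k X A 1 ≤ 8
    · have := small A hA a hA8
      by_cases hB8 : Curv2.deg k X B 1 ≤ 8
      · have := small B hB b hB8
        exact fin A hA a (by omega)
      · omega
    · have := small B hB b (by omega)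
      omega

end Groth.Agent.S16317
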