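import Groth.Statements.S16318
import Groth.Agent.Lib.Cliff17.Main
import Groth.Agent.Lib.Cliff17.PlaneHyp
import Groth.Agent.Lib.CurveOm17.Hyp
import Groth.Agent.Lib.CurveOm17.AnyField
import Groth.Agent.Lib.Omega12.Universal
-- import your own Groth.Agent.* helpers here

set_option autoImplicit false
open CategoryTheory CategoryTheory.Limits AlgebraicGeometry
universe u
open Curves

namespace Groth.Agent.S16318

/-- Let k be an algebraically closed field of characteristic zero and X a smooth proper integral curve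
over k (integral, proper and smooth over k, of dimension one) of genus 9 whose Clifford index is 3:
some invertible module M with h^0(M) ≥ 2 and h^1(M) ≥ 2 has deg M − 2(h^0(M) − 1) = 3, and every
invertible module M with h^0(M) ≥ 2 and h^1(M) ≥ 2 has deg M − 2(h^0(M) − 1) ≥ 3 (degrees are χ(M) −
χ(O_X); in particular X is not hyperelliptic). Then X is pentagonal: it carries a g^1_5, an
invertible module of degree 5 together with two k-linearly independent global sections. -/
theorem result
    (k : Type u) [Field k] [IsAlgClosed k] [CharZero k]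
    (X : Scheme.{u}) [X.Over (Spec (CommRingCat.of k))] [IsIntegral X]
    [IsProper (X ↘ Spec (CommRingCat.of k))] [Smooth (X ↘ Spec (CommRingCat.of k))]
    (hdim : topologicalKrullDim X = 1) (hg : Curv2.genus k X = 9)
    (hex : ∃ M : X.Modules, PicF.IsInvertible M ∧ 2 ≤ Module.finrank k (Coh.HH X M 0) ∧
      2 ≤ Module.finrank k (Coh.HH X M 1) ∧ Curv2.deg k X M 1 = 2 * (Module.finrank k (Coh.HH X M 0) : ℤ) + 1)
    (hmin : ∀ M : X.Modules, PicF.IsInvertible M → 2 ≤ Module.finrank k (Coh.HH X M 0) →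
      2 ≤ Module.finrank k (Coh.HH X M 1) → 2 * (Module.finrank k (Coh.HH X M 0) : ℤ) + 1 ≤ Curv2.deg k X M 1) :
    ∃ (L : X.Modules) (s : Fin (1 + 1) → LinSer.Sect X L), LinSer.IsLinSer k X L 5 1 s := by
  obtain ⟨hX, h0O, hbig⟩ := Groth.Agent.VB17.setup (k := k) (X := X) hdim
  obtain ⟨-, -, -, -, lam, hW⟩ := Groth.Agent.CurveOm17.exists_isDualizing_omega' hdim h0O
    (Groth.Agent.Omega12.isUniversal_dOmega (f := X ↘ Spec (CommRingCat.of k)))
  haveI := hX.like.noetherian
  have fin : ∀ N : X.Modules, PicF.IsInvertible N → 2 ≤ Module.finrank k (Coh.HH X N 0) → Curv2.deg k X N 1 = 5 →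
      ∃ (L : X.Modules) (s : Fin (1 + 1) → LinSer.Sect X L), LinSer.IsLinSer k X L 5 1 s := fun N hN h hd => by
    haveI := hX.like.fin N (Groth.Agent.CurveCoh17.isCoh_of_ofRank
      ((Groth.Agent.M2.isInvertible_iff_isFinLocFreeOfRank_one _).1 hN)) 0
    obtain ⟨s, hs⟩ := Groth.Agent.CurveOm17.exists_isLinSer hN (d := 5) hd h
    exact ⟨N, s, hs⟩
  obtain ⟨L, hL, hd, h2, h3⟩ : ∃ L : X.Modules, PicF.IsInvertible L ∧
      Curv2.deg k X L 1 = 2 * (Module.finrank k (Coh.HH X L 0) : ℤ) + 1 ∧ 2 ≤ Module.finrank k (Coh.HH X L 0) ∧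
      Module.finrank k (Coh.HH X L 0) ≤ 3 := by
    obtain ⟨M, hM, h2, h12, hd⟩ := hex
    have hrr := Groth.Agent.Cliff17.rr_nat (k := k) hdim hM
    by_cases h : Module.finrank k (Coh.HH X M 0) ≤ 3
    · exact ⟨M, hM, hd, h2, h⟩
    · obtain ⟨M', hM', hd', h1', -⟩ := Groth.Agent.Cliff17.exists_residual hdim hW hM
      exact ⟨M', hM', by omega, by omega, by omega⟩
  by_cases e2 : Module.finrank k (Coh.HH X L 0) = 2
  · exact fin L hL h2 (by omega)
  have e3 : Module.finrank k (Coh.HH X L 0) = 3 := by omega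
  have hd7 : Curv2.deg k X L 1 = 7 := by omega
  have hreg := fun x => Groth.Agent.SmoothReg17.isRegularLocalRing_stalk (X ↘ Spec (CommRingCat.of k)) x
  by_contra hno
  obtain ⟨i, hi, hi', -⟩ := hX.like.exists_closedImmersion hdim hreg hL (n := 2) e3 fun P Q hP hQ => by
    have iP := Groth.Agent.CurveCoh17.isInvertible_pointIdeal hdim hreg hP
    have iQ := Groth.Agent.CurveCoh17.isInvertible_pointIdeal hdim hreg hQ
    have iLP := Groth.Agent.M2.isInvertible_tensor hL iP
    have dP := Groth.Agent.VB17.deg_pointIdeal (k := k) hX.like hP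
    have dQ := Groth.Agent.VB17.deg_pointIdeal (k := k) hX.like hQ
    rw [Groth.Agent.CurveCoh17.finrank_residueField hP] at dP
    rw [Groth.Agent.CurveCoh17.finrank_residueField hQ] at dQ
    have hLPQ := Groth.Agent.M2.isInvertible_tensor hL (Groth.Agent.M2.isInvertible_tensor iP iQ)
    have hle : Module.finrank k (Coh.HH X (CohB1.tensorMod L (CohB1.tensorMod
        (ClSub.idealMod (Scheme.IdealSheafData.vanishingIdeal (⟨{P}, hP⟩ : TopologicalSpace.Closeds X)))
        (ClSub.idealMod (Scheme.IdealSheafData.vanishingIdeal (⟨{Q}, hQ⟩ : TopologicalSpace.Closeds X))))) 0) ≤ 1 := by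
      by_contra h
      exact hno (fin _ hLPQ (by omega) (by
        rw [hX.like.deg_tensor_invertible hL (Groth.Agent.M2.isInvertible_tensor iP iQ),
          hX.like.deg_tensor_invertible iP iQ, dP, dQ, hd7]
        norm_num))
    have a := hX.like.h0_le_twist_add_one hL hP
    have b := hX.like.h0_le_twist_add_one iLP hQ
    have c := (Groth.Agent.CurveCoh17.hequiv k (Groth.Agent.M2.tensorAssoc L
      (ClSub.idealMod (Scheme.IdealSheafData.vanishingIdeal (⟨{P}, hP⟩ : TopologicalSpace.Closeds X)))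
      (ClSub.idealMod (Scheme.IdealSheafData.vanishingIdeal (⟨{Q}, hQ⟩ : TopologicalSpace.Closeds X)))) 0).finrank_eq
    omega
  exact Groth.Agent.Cliff17.genus_ne_nine hdim i hi' hg

end Groth.Agent.S16318
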