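import Groth.Statements.S16319
import Groth.Agent.Lib.VB17.Proper
import Groth.Agent.Lib.CurveCoh17.RegPoint
import Groth.Agent.Lib.CurveCoh17.Pairing
import Groth.Agent.Lib.CurveCoh17.Pencil
import Groth.Agent.Lib.CurveCoh17.HZero
-- import your own Groth.Agent.* helpers here

set_option autoImplicit false
open CategoryTheory CategoryTheory.Limits AlgebraicGeometry
universe u
open Curves

namespace Groth.Agent.S16319

/-- Let k be an algebraically closed field of characteristic zero and X a smooth proper integral curve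
over k (integral, proper and smooth over k, of dimension one) of genus 9 whose Clifford index is 3:
some invertible module M with h^0(M) ≥ 2 and h^1(M) ≥ 2 has deg M − 2(h^0(M) − 1) = 3, and every
invertible module M with h^0(M) ≥ 2 and h^1(M) ≥ 2 has deg M − 2(h^0(M) − 1) ≥ 3 (degrees are χ(M) −
χ(O_X); in particular X is not hyperelliptic); let H be an invertible module of degree 7 with h^0(H)
= 3 (a g^2_7) and D a globally generated invertible module of degree 5 with h^0(D) = 2 (a
base-point-free complete g^1_5). Then every module N with D ⊗ N ≅ H has h^0(N) = 1: the difference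
of the two series is the class of an effective divisor of degree 2 with a one-dimensional space of
sections, so the pencil is cut out by the lines through a double point of the plane model of degree
7. -/
theorem result
    (k : Type u) [Field k] [IsAlgClosed k] [CharZero k]
    (X : Scheme.{u}) [X.Over (Spec (CommRingCat.of k))] [IsIntegral X]
    [IsProper (X ↘ Spec (CommRingCat.of k))] [Smooth (X ↘ Spec (CommRingCat.of k))]
    (hdim : topologicalKrullDim X = 1) (hg : Curv2.genus k X = 9)
    (hex : ∃ M : X.Modules, PicF.IsInvertible M ∧ 2 ≤ Module.finrank k (Coh.HH X M 0) ∧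
      2 ≤ Module.finrank k (Coh.HH X M 1) ∧ Curv2.deg k X M 1 = 2 * (Module.finrank k (Coh.HH X M 0) : ℤ) + 1)
    (hmin : ∀ M : X.Modules, PicF.IsInvertible M → 2 ≤ Module.finrank k (Coh.HH X M 0) →
      2 ≤ Module.finrank k (Coh.HH X M 1) → 2 * (Module.finrank k (Coh.HH X M 0) : ℤ) + 1 ≤ Curv2.deg k X M 1)
    (H : X.Modules) (hH : PicF.IsInvertible H) (hdH : Curv2.deg k X H 1 = 7)
    (h0H : Module.finrank k (Coh.HH X H 0) = 3)
    (D : X.Modules) (hD : PicF.IsInvertible D) (hgD : Curv2.IsGloballyGenerated D)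
    (hdD : Curv2.deg k X D 1 = 5) (h0D : Module.finrank k (Coh.HH X D 0) = 2)
    (N : X.Modules) (e : CohB1.tensorMod D N ≅ H) :
    Module.finrank k (Coh.HH X N 0) = 1 := by
  have hX := VB17.curveLike (k := k) hdim
  haveI := hX.noetherian
  have h0 := hX.h0_eq_one
  have hreg : ∀ x : X, IsRegularLocalRing (X.presheaf.stalk x) := fun x =>
    Groth.Agent.SmoothReg17.isRegularLocalRing_stalk (X ↘ Spec (CommRingCat.of k)) x
  have hrk : ∀ {M : X.Modules}, PicF.IsInvertible M → CurveCoh17.RkOne M := fun h =>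
    CurveCoh17.rkOne_of_invertible hdim.le h
  have hrr : ∀ {M : X.Modules}, PicF.IsInvertible M →
      (Module.finrank k (Coh.HH X M 0) : ℤ) - Module.finrank k (Coh.HH X M 1) = Curv2.deg k X M 1 - 8 := fun h => by
    rw [hX.rr (hrk h).coh, h0, hg]; push_cast; ring
  have hCl : ∀ M : X.Modules, PicF.IsInvertible M → 2 ≤ Module.finrank k (Coh.HH X M 0) →
      2 ≤ Module.finrank k (Coh.HH X M 1) → 2 * (Module.finrank k (Coh.HH X M 0) : ℤ) + 1 ≤ Curv2.deg k X M 1 := hmin
  haveI hfin : ∀ {M : X.Modules}, PicF.IsInvertible M → Module.Finite k (Coh.HH X M 0) := fun h =>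
    hX.fin _ (hrk h).coh 0
  obtain ⟨D', hD', ⟨eD⟩⟩ := Groth.Agent.M2.exists_inverse hD
  have eN : N ≅ CohB1.tensorMod D' H :=
    (Groth.Agent.M2.tensorLUnit N).symm ≪≫
      Groth.Agent.M2.tensorIso ((Groth.Agent.M2.tensorComm D' D ≪≫ eD).symm) (Iso.refl N) ≪≫
      Groth.Agent.M2.tensorAssoc D' D N ≪≫ Groth.Agent.M2.tensorIso (Iso.refl D') e
  have hN : PicF.IsInvertible N :=
    Groth.Agent.M2.isInvertible_of_iso eN.symm (Groth.Agent.M2.isInvertible_tensor hD' hH)
  have hdN : Curv2.deg k X N 1 = 2 := by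
    have h := hX.deg_tensor_invertible hD hN
    rw [CurveCoh17.deg_iso e, hdH, hdD] at h
    omega
  have hDH := Groth.Agent.M2.isInvertible_tensor hD hH
  have hdDH : Curv2.deg k X (CohB1.tensorMod D H) 1 = 12 := by rw [hX.deg_tensor_invertible hD hH, hdD, hdH]; norm_num
  have hle : Module.finrank k (Coh.HH X (CohB1.tensorMod D H) 0) ≤ 5 := by
    have := hrr hDH
    have := hCl _ hDH
    omega
  haveI := hfin hH
  haveI := hfin hDH
  obtain ⟨f, hf⟩ := CurveCoh17.exists_hom_of_pencil (k := k) hD hH hgD h0D (by omega)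
  have hle1 : Module.finrank k (Coh.HH X N 0) ≤ 1 := by
    have := hrr hN
    have := hCl _ hN
    omega
  haveI := hfin hN
  have hpos : Nontrivial (Coh.HH X N 0) := by
    let g : Coh.structureModule X ⟶ N :=
      eD.inv ≫ Groth.Agent.M2.tensorMap f (𝟙 D') ≫ (Groth.Agent.M2.tensorComm H D').hom ≫ eN.inv
    refine ⟨⟨(CurveCoh17.hh0 N).symm (g.app ⊤ (Groth.Agent.M1.one ⊤)), 0, fun h => hf ?_⟩⟩
    have hg0 : g = 0 := by
      refine Groth.Agent.M1.unit_hom_ext ?_
      have h' := congrArg (CurveCoh17.hh0 N) h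
      rw [AddEquiv.apply_symm_apply, map_zero] at h'
      exact h'.trans rfl
    have hz : Groth.Agent.M2.tensorMap f (𝟙 D') = 0 := by
      have h' : eD.hom ≫ g ≫ eN.hom ≫ (Groth.Agent.M2.tensorComm H D').inv = Groth.Agent.M2.tensorMap f (𝟙 D') := by
        simp [g]
      rw [← h', hg0, zero_comp, comp_zero]
    haveI : Mono f := by
      obtain ⟨rK, rI, -, -, hsum, -, hI0, hK0⟩ := VB17.exists_image (VB17.regCurve' (k := k) hdim).pid
        ((Groth.Agent.M2.isInvertible_iff_isFinLocFreeOfRank_one D).1 hD)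
        ((Groth.Agent.M2.isInvertible_iff_isFinLocFreeOfRank_one H).1 hH) f
      have : rI ≠ 0 := fun h => hf (hI0.1 h)
      exact hK0.1 (by omega)
    exfalso
    have hS : (ShortComplex.mk f (Limits.cokernel.π f) (Limits.cokernel.condition _)).ShortExact :=
      { exact := ShortComplex.exact_of_g_is_cokernel _ (Limits.cokernelIsCokernel _) }
    have hT := CurveCoh17.shortExact_tensorR hS D' fun x => Module.Flat.of_linearEquiv
      (CurveCoh17.nonempty_stalk_equiv ((Groth.Agent.M2.isInvertible_iff_isFinLocFreeOfRank_one D').1 hD') x).some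
    haveI : Mono (Groth.Agent.M2.tensorMap f (𝟙 D')) := hT.mono_f
    have hid : 𝟙 (CohB1.tensorMod D D') = 0 := by
      rw [← cancel_mono (Groth.Agent.M2.tensorMap f (𝟙 D'))]
      simp [hz]
    have h1 : (Groth.Agent.M1.one (⊤ : X.Opens) : Γ(Coh.structureModule X, ⊤)) = 0 := by
      have : 𝟙 (Coh.structureModule X) = 0 := by
        rw [← eD.inv_hom_id, ← Category.id_comp eD.hom, hid, zero_comp, comp_zero]
      calc _ = (𝟙 (Coh.structureModule X) : Coh.structureModule X ⟶ _).app ⊤ (Groth.Agent.M1.one ⊤) := rfl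
        _ = 0 := by rw [this]; rfl
    haveI : Nonempty X := inferInstance
    obtain ⟨x⟩ := this
    haveI : Nontrivial Γ(X, ⊤) := (X.presheaf.germ ⊤ x trivial).hom.domain_nontrivial
    exact one_ne_zero (α := Γ(X, ⊤)) h1
  have := Module.finrank_pos (R := k) (M := Coh.HH X N 0)
  omega

end Groth.Agent.S16319
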