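import Groth.Statements.S1632
import Groth.Agent.Lib.NormCpl19.Cpl
import Groth.Agent.Lib.NormCpl19.Sections
import Groth.Agent.S1600
import Groth.Agent.S1597
import Mathlib.AlgebraicGeometry.Morphisms.SchemeTheoreticallyDominant
-- import your own Groth.Agent.* helpers here

set_option autoImplicit false
universe u
open CategoryTheory CategoryTheory.Limits AlgebraicGeometry
open Resolve

namespace Groth.Agent.S1632

set_option linter.style.haveILetI false
set_option backward.isDefEq.respectTransparency.types false

set_option linter.style.haveILetI false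
set_option backward.isDefEq.respectTransparency.types false


/-- Let (A, m) be a Noetherian local domain such that Spec A admits an alteration X → Spec A with X
regular, and let B be the integral closure of A in its fraction field. Then the m-adic completion of
B is a normal ring. -/
theorem result (A : Type u) [CommRing A] [IsDomain A] [IsLocalRing A] [IsNoetherianRing A]
    (X : Scheme.{u}) (f : X ⟶ Spec (CommRingCat.of A)) (hf : Curv2.IsAlteration f)
    (hreg : ∀ x : X, IsRegularLocalRing (X.presheaf.stalk x)) :
    EGA4.IsNormalRing (AdicCompletion ((IsLocalRing.maximalIdeal A).map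
      (algebraMap A (integralClosure A (FractionRing A)))) (integralClosure A (FractionRing A))) := by
  haveI hfinB : Module.Finite A (integralClosure A (FractionRing A)) := (S1600.result A X f hf hreg).1
  obtain ⟨hpr, hI, -, hdom, -⟩ := hf
  haveI := hpr
  haveI := hI
  haveI := hdom
  haveI : IsNoetherianRing (CommRingCat.of A) := ‹IsNoetherianRing A›
  haveI : IsDomain (CommRingCat.of A) := ‹IsDomain A›
  haveI : IsNoetherianRing Γ(Spec (CommRingCat.of A), ⊤) :=
    IsLocallyNoetherian.component_noetherian ⟨⊤, isAffineOpen_top _⟩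
  haveI : IsReduced (Spec (CommRingCat.of A)) := inferInstance
  haveI hsd : IsSchemeTheoreticallyDominant f := IsSchemeTheoreticallyDominant.of_isDominant f
  haveI : Nonempty ↥((⊤ : X.Opens) : Scheme) := ⟨⟨genericPoint X, trivial⟩⟩
  haveI : Nonempty ↥(⊤ : X.Opens) := ⟨⟨genericPoint X, trivial⟩⟩
  let g : A →+* Γ(X, ⊤) := f.appTop.hom.comp (Scheme.ΓSpecIso (CommRingCat.of A)).inv.hom
  have hg : g.Finite := RingHom.Finite.comp (Stein6.finite_appTop f)
    (RingHom.Finite.of_surjective _ (ConcreteCategory.bijective_of_isIso (Scheme.ΓSpecIso (CommRingCat.of A)).inv).surjective)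
  have hginj : Function.Injective g :=
    (Scheme.Hom.app_injective f ⊤).comp
      (ConcreteCategory.bijective_of_isIso (Scheme.ΓSpecIso (CommRingCat.of A)).inv).injective
  let ψ : Γ(X, ⊤) →+* X.functionField := (X.germToFunctionField ⊤).hom
  have hψ : Function.Injective ψ := X.germToFunctionField_injective ⊤
  let φ : FractionRing A →+* X.functionField := IsFractionRing.lift (g := ψ.comp g) (hψ.comp hginj)
  have hφ : ∀ a, φ (algebraMap A (FractionRing A) a) = ψ (g a) := fun a =>
    IsFractionRing.lift_algebraMap (g := ψ.comp g) (hψ.comp hginj) a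
  have hnor : ∀ (Y : Scheme.{u}), (∀ y : Y, IsRegularLocalRing (Y.presheaf.stalk y)) → ∀ y : Y,
      IsDomain (Y.presheaf.stalk y) ∧ IsIntegrallyClosed (Y.presheaf.stalk y) := fun Y hY y => by
    haveI := hY y
    haveI := RegLoc.isDomain (Y.presheaf.stalk y)
    haveI := RegLoc.ufd_of_isRegularLocalRing (Y.presheaf.stalk y)
    exact ⟨inferInstance, inferInstance⟩
  have hmem : ∀ z : integralClosure A (FractionRing A), ∃ c, ψ c = φ z.1 := fun z => by
    obtain ⟨p, hp, hp0⟩ := z.2
    exact VarDim.exists_section_of_integral (fun x => (hnor X hreg x).2) ⊤ (φ z.1)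
      ⟨p.map g, hp.map g, by
        rw [Polynomial.eval₂_map, show ψ.comp g = φ.comp (algebraMap A (FractionRing A)) from
          RingHom.ext fun a => (hφ a).symm, ← Polynomial.hom_eval₂, hp0, map_zero]⟩
  choose b hb using hmem
  let β : integralClosure A (FractionRing A) →+* Γ(X, ⊤) :=
    { toFun := b
      map_one' := hψ (by simp [hb])
      map_mul' := fun x y => hψ (by simp [hb])
      map_zero' := hψ (by simp [hb])
      map_add' := fun x y => hψ (by simp [hb]) }
  letI := g.toAlgebra
  letI := β.toAlgebra
  haveI : IsScalarTower A (integralClosure A (FractionRing A)) Γ(X, ⊤) := IsScalarTower.of_algebraMap_eq fun a =>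
    hψ ((hφ a).symm.trans (hb (algebraMap A (integralClosure A (FractionRing A)) a)).symm)
  haveI : Module.Finite A Γ(X, ⊤) := hg
  have hinj : Function.Injective β := fun x y h =>
    Subtype.ext (φ.injective ((hb x).symm.trans ((congrArg ψ h).trans (hb y))))
  haveI : IsIntegrallyClosed (integralClosure A (FractionRing A)) :=
    integralClosure.isIntegrallyClosedOfFiniteExtension (FractionRing A)
  refine NormCpl19.isNormalRing_tensor_cpl_sub A _ Γ(X, ⊤) hinj
    (NormCpl19.isNormalRing_of_isIntegrallyClosed _) ?_
  haveI : Module.Flat A (Curv2.cpl A) := (CplLocH7.faithfullyFlat_cpl A).toFlat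
  obtain ⟨e⟩ := NormCpl19.exists_ringEquiv_tensor_flat f rfl (Curv2.cpl A)
  haveI : IsNoetherianRing (Curv2.cpl A) := CplLocH7.isNoetherianRing_cpl A
  haveI : IsNoetherianRing (CommRingCat.of (Curv2.cpl A)) := ‹IsNoetherianRing (Curv2.cpl A)›
  haveI : IsProper (Curv2.bcCplSnd A f) := inferInstanceAs (IsProper (pullback.snd f _))
  haveI : IsLocallyNoetherian (Curv2.bcCpl A f) := LocallyOfFiniteType.isLocallyNoetherian (Curv2.bcCplSnd A f)
  haveI : CompactSpace (Curv2.bcCpl A f) := QuasiCompact.compactSpace_of_compactSpace (Curv2.bcCplSnd A f)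
  haveI : IsNoetherian (Curv2.bcCpl A f) := {}
  exact FlatDepth.isNormalRing_of_ringEquiv e.symm
    (NormCpl19.isNormalRing_globalSections (Curv2.bcCpl A f) (hnor _ ((S1597.result A X f).1 hreg)))

end Groth.Agent.S1632
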