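import Groth.Statements.S16320
import Groth.Agent.Lib.VB17.Proper
import Groth.Agent.Lib.CurveCoh17.RegPoint
import Groth.Agent.Lib.CurveCoh17.Pairing
import Groth.Agent.Lib.CurveCoh17.Pencil
import Groth.Agent.Lib.CurveCoh17.HZero
-- import your own Groth.Agent.* helpers here

set_option autoImplicit false
open CategoryTheory CategoryTheory.Limits AlgebraicGeometry
universe u
open Curves

namespace Groth.Agent.S16320

/-- Let k be an algebraically closed field of characteristic zero and X a smooth proper integral curve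
over k (integral, proper and smooth over k, of dimension one) of genus 9 whose Clifford index is 3:
some invertible module M with h^0(M) ≥ 2 and h^1(M) ≥ 2 has deg M − 2(h^0(M) − 1) = 3, and every
invertible module M with h^0(M) ≥ 2 and h^1(M) ≥ 2 has deg M − 2(h^0(M) − 1) ≥ 3 (degrees are χ(M) −
χ(O_X); in particular X is not hyperelliptic), and let D be a globally generated invertible module
of degree 5 with h^0(D) = 2 (a base-point-free complete g^1_5). Then h^0(D^{⊗2}) is 3 or 4,
h^0(D^{⊗3}) is 7 or 8, and h^0(D^{⊗3}) = 7 whenever h^0(D^{⊗2}) = 3. (The published statement says,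
equivalently by Riemann–Roch applied to the numbers h^0(K − iD) − h^0(K − (i+1)D) for a canonical
module K, that the rational normal fourfold scroll formed by the linear spans of the pencil's
divisors in the canonical embedding has type S(2,1,1,1), S(2,2,1,0) or S(3,1,1,0); the scroll itself
is not restated here.) -/
theorem result
    (k : Type u) [Field k] [IsAlgClosed k] [CharZero k]
    (X : Scheme.{u}) [X.Over (Spec (CommRingCat.of k))] [IsIntegral X]
    [IsProper (X ↘ Spec (CommRingCat.of k))] [Smooth (X ↘ Spec (CommRingCat.of k))]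
    (hdim : topologicalKrullDim X = 1) (hg : Curv2.genus k X = 9)
    (hex : ∃ M : X.Modules, PicF.IsInvertible M ∧ 2 ≤ Module.finrank k (Coh.HH X M 0) ∧
      2 ≤ Module.finrank k (Coh.HH X M 1) ∧ Curv2.deg k X M 1 = 2 * (Module.finrank k (Coh.HH X M 0) : ℤ) + 1)
    (hmin : ∀ M : X.Modules, PicF.IsInvertible M → 2 ≤ Module.finrank k (Coh.HH X M 0) →
      2 ≤ Module.finrank k (Coh.HH X M 1) → 2 * (Module.finrank k (Coh.HH X M 0) : ℤ) + 1 ≤ Curv2.deg k X M 1)
    (D : X.Modules) (hD : PicF.IsInvertible D) (hgD : Curv2.IsGloballyGenerated D)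
    (hdD : Curv2.deg k X D 1 = 5) (h0D : Module.finrank k (Coh.HH X D 0) = 2) :
    (Module.finrank k (Coh.HH X (CohB1.tensorPow D 2) 0) = 3 ∨
        Module.finrank k (Coh.HH X (CohB1.tensorPow D 2) 0) = 4) ∧
      (Module.finrank k (Coh.HH X (CohB1.tensorPow D 3) 0) = 7 ∨
        Module.finrank k (Coh.HH X (CohB1.tensorPow D 3) 0) = 8) ∧
      (Module.finrank k (Coh.HH X (CohB1.tensorPow D 2) 0) = 3 →
        Module.finrank k (Coh.HH X (CohB1.tensorPow D 3) 0) = 7) := by
  have hX := VB17.curveLike (k := k) hdim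
  haveI := hX.noetherian
  have h0 := hX.h0_eq_one
  have hreg : ∀ x : X, IsRegularLocalRing (X.presheaf.stalk x) := fun x =>
    Groth.Agent.SmoothReg17.isRegularLocalRing_stalk (X ↘ Spec (CommRingCat.of k)) x
  have hrk : ∀ {M : X.Modules}, PicF.IsInvertible M → CurveCoh17.RkOne M := fun h =>
    CurveCoh17.rkOne_of_invertible hdim.le h
  have hrr : ∀ {M : X.Modules}, PicF.IsInvertible M →
      (Module.finrank k (Coh.HH X M 0) : ℤ) - Module.finrank k (Coh.HH X M 1) = Curv2.deg k X M 1 - 8 := fun h => by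
    rw [hX.rr (hrk h).coh, h0, hg]; push_cast; ring
  have hCl : ∀ M : X.Modules, PicF.IsInvertible M → 2 ≤ Module.finrank k (Coh.HH X M 0) →
      2 ≤ Module.finrank k (Coh.HH X M 1) → 2 * (Module.finrank k (Coh.HH X M 0) : ℤ) + 1 ≤ Curv2.deg k X M 1 := hmin
  have h2 := Groth.Agent.M2.isInvertible_tensorPow hD 2
  have h3 := Groth.Agent.M2.isInvertible_tensorPow hD 3
  have hd2 : Curv2.deg k X (CohB1.tensorPow D 2) 1 = 10 := by rw [hX.deg_tensorPow hD, hdD]; norm_num
  have hd3 : Curv2.deg k X (CohB1.tensorPow D 3) 1 = 15 := by rw [hX.deg_tensorPow hD, hdD]; norm_num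
  have hsD : Nontrivial (Coh.HH X D 0) := Module.nontrivial_of_finrank_pos (R := k) (by omega)
  have e1 : CohB1.tensorPow D 1 ≅ D := Groth.Agent.M2.tensorLUnit D
  have e2 : CohB1.tensorPow D 2 ≅ CohB1.tensorMod D D := Groth.Agent.M2.tensorIso e1 (Iso.refl D)
  have hh2 : 3 ≤ Module.finrank k (Coh.HH X (CohB1.tensorPow D 2) 0) ∧
      Module.finrank k (Coh.HH X (CohB1.tensorPow D 2) 0) ≤ 4 := by
    have := hX.hopf hdim hreg hD hD hsD hsD
    rw [← (CurveCoh17.hequiv k e2 0).finrank_eq] at this
    have := hrr h2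
    have := hCl _ h2
    omega
  have hh3 : 7 ≤ Module.finrank k (Coh.HH X (CohB1.tensorPow D 3) 0) ∧
      Module.finrank k (Coh.HH X (CohB1.tensorPow D 3) 0) ≤ 8 := by
    have := hrr h3
    have := hCl _ h3
    omega
  refine ⟨by omega, by omega, fun he => ?_⟩
  by_contra hne
  have h13 : Module.finrank k (Coh.HH X (CohB1.tensorPow D 3) 1) = 1 := by have := hrr h3; omega
  have h12 : Module.finrank k (Coh.HH X (CohB1.tensorPow D 2) 1) = 1 := by have := hrr h2; omega
  have e3 : CohB1.tensorPow D 3 ≅ CohB1.tensorMod D (CohB1.tensorPow D 2) := Groth.Agent.M2.tensorComm _ _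
  have := hX.h0_add_h1_tensor_le hD h2 hsD
    (Module.nontrivial_of_finrank_pos (R := k) (by rw [← (CurveCoh17.hequiv k e3 1).finrank_eq, h13]; norm_num))
  rw [← (CurveCoh17.hequiv k e3 1).finrank_eq, h13, h12, h0D] at this
  omega

end Groth.Agent.S16320
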