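import Groth.Statements.S16322
import Groth.Agent.Lib.VB17.Proper
import Groth.Agent.Lib.CurveCoh17.RegPoint
import Groth.Agent.Lib.CurveCoh17.Pairing
import Groth.Agent.Lib.CurveCoh17.Pencil
import Groth.Agent.Lib.CurveCoh17.HZero
-- import your own Groth.Agent.* helpers here

set_option autoImplicit false
open CategoryTheory CategoryTheory.Limits AlgebraicGeometry
universe u
open Curves

namespace Groth.Agent.S16322

/-- Let k be a characteristic-zero algebraically closed field and X a smooth proper integral curve over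
k (integral, proper and smooth over k, of dimension one) of genus 9 whose Clifford index is 3: some
invertible module M with h^0(M) ≥ 2 and h^1(M) ≥ 2 has deg M − 2(h^0(M) − 1) = 3, and every
invertible module M with h^0(M) ≥ 2 and h^1(M) ≥ 2 has deg M − 2(h^0(M) − 1) ≥ 3 (degrees are χ(M) −
χ(O_X); in particular X is not hyperelliptic), and let D₁, D₂ be two non-isomorphic globally
generated invertible modules of degree 5 with h^0(D₁) = h^0(D₂) = 2 (two different base-point-free
complete pencils of degree 5). Then h^0(D₁ ⊗ D₂) = 4. (In the published statement the two pencils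
are the ones cut out by the two rulings on a model of the curve in a blow-up of P^1 × P^1; the
printed argument for this equality uses only that they are different base-point-free pencils of
degree 5 on a genus-9 curve of Clifford index 3, which is what is stated here; the further printed
assertion on a third pencil is not restated.) -/
theorem result
    (k : Type u) [Field k] [IsAlgClosed k] [CharZero k]
    (X : Scheme.{u}) [X.Over (Spec (CommRingCat.of k))] [IsIntegral X]
    [IsProper (X ↘ Spec (CommRingCat.of k))] [Smooth (X ↘ Spec (CommRingCat.of k))]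
    (hdim : topologicalKrullDim X = 1) (hg : Curv2.genus k X = 9)
    (hex : ∃ M : X.Modules, PicF.IsInvertible M ∧ 2 ≤ Module.finrank k (Coh.HH X M 0) ∧
      2 ≤ Module.finrank k (Coh.HH X M 1) ∧ Curv2.deg k X M 1 = 2 * (Module.finrank k (Coh.HH X M 0) : ℤ) + 1)
    (hmin : ∀ M : X.Modules, PicF.IsInvertible M → 2 ≤ Module.finrank k (Coh.HH X M 0) →
      2 ≤ Module.finrank k (Coh.HH X M 1) → 2 * (Module.finrank k (Coh.HH X M 0) : ℤ) + 1 ≤ Curv2.deg k X M 1)
    (D₁ D₂ : X.Modules) (h₁ : PicF.IsInvertible D₁) (h₂ : PicF.IsInvertible D₂)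
    (hg₁ : Curv2.IsGloballyGenerated D₁) (hg₂ : Curv2.IsGloballyGenerated D₂)
    (hd₁ : Curv2.deg k X D₁ 1 = 5) (hd₂ : Curv2.deg k X D₂ 1 = 5)
    (h0₁ : Module.finrank k (Coh.HH X D₁ 0) = 2) (h0₂ : Module.finrank k (Coh.HH X D₂ 0) = 2)
    (hne : IsEmpty (D₁ ≅ D₂)) :
    Module.finrank k (Coh.HH X (CohB1.tensorMod D₁ D₂) 0) = 4 := by
  have hX := VB17.curveLike (k := k) hdim
  haveI := hX.noetherian
  have h0 := hX.h0_eq_one
  have hreg : ∀ x : X, IsRegularLocalRing (X.presheaf.stalk x) := fun x =>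
    Groth.Agent.SmoothReg17.isRegularLocalRing_stalk (X ↘ Spec (CommRingCat.of k)) x
  have hrk : ∀ {M : X.Modules}, PicF.IsInvertible M → CurveCoh17.RkOne M := fun h =>
    CurveCoh17.rkOne_of_invertible hdim.le h
  have hrr : ∀ {M : X.Modules}, PicF.IsInvertible M →
      (Module.finrank k (Coh.HH X M 0) : ℤ) - Module.finrank k (Coh.HH X M 1) = Curv2.deg k X M 1 - 8 := fun h => by
    rw [hX.rr (hrk h).coh, h0, hg]; push_cast; ring
  have hCl : ∀ M : X.Modules, PicF.IsInvertible M → 2 ≤ Module.finrank k (Coh.HH X M 0) →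
      2 ≤ Module.finrank k (Coh.HH X M 1) → 2 * (Module.finrank k (Coh.HH X M 0) : ℤ) + 1 ≤ Curv2.deg k X M 1 := hmin
  have h12 := Groth.Agent.M2.isInvertible_tensor h₁ h₂
  have hd : Curv2.deg k X (CohB1.tensorMod D₁ D₂) 1 = 10 := by rw [hX.deg_tensor_invertible h₁ h₂, hd₁, hd₂]; norm_num
  haveI : Module.Finite k (Coh.HH X D₂ 0) := hX.fin _ (hrk h₂).coh 0
  haveI : Module.Finite k (Coh.HH X (CohB1.tensorMod D₁ D₂) 0) := hX.fin _ (hrk h12).coh 0
  have := hrr h12
  have := hCl _ h12
  by_contra hne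
  obtain ⟨f, hf⟩ := CurveCoh17.exists_hom_of_pencil (k := k) h₁ h₂ hg₁ h0₁ (by omega)
  obtain ⟨rK, rI, -, -, hsum, -, hI0, hK0⟩ := VB17.exists_image (VB17.regCurve' (k := k) hdim).pid
    ((Groth.Agent.M2.isInvertible_iff_isFinLocFreeOfRank_one D₁).1 h₁)
    ((Groth.Agent.M2.isInvertible_iff_isFinLocFreeOfRank_one D₂).1 h₂) f
  have : rI ≠ 0 := fun h => hf (hI0.1 h)
  haveI : Mono f := hK0.1 (by omega)
  haveI := (VB17.deg_le_of_mono hX ((Groth.Agent.M2.isInvertible_iff_isFinLocFreeOfRank_one D₁).1 h₁)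
    ((Groth.Agent.M2.isInvertible_iff_isFinLocFreeOfRank_one D₂).1 h₂) f).2 (hd₁.trans hd₂.symm)
  exact IsEmpty.false (α := D₁ ≅ D₂) (asIso f)

end Groth.Agent.S16322
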