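import Groth.Statements.S16324
import Groth.Agent.Lib.GrLC21.DepthPoly
import Groth.Agent.Lib.GrSyz.Hilbert
import Groth.Agent.Lib.LocCoh.Dim

set_option autoImplicit false
set_option backward.isDefEq.respectTransparency false
universe u
open GrSyz

namespace Groth.Agent.S16324

/-- Let k be an algebraically closed field of characteristic zero, S = k[x_0, …, x_n] graded by degree,
𝔪 = (x_0, …, x_n), and M a finitely generated ℤ-graded S-module which is Cohen–Macaulay: the Krull
dimension of its support equals its 𝔪-depth. Let F be a minimal graded free resolution of M of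
length exactly ℓ (F_ℓ ≠ 0, F_i = 0 for i > ℓ; so ℓ = pd M) and let ρ be its regularity: every basis
vector of F_i has degree at most ρ + i, with equality for some i and some basis vector (so ρ = reg
M). Let P be the Hilbert polynomial of M, i.e. a polynomial over ℚ with dim_k M_d = P(d) for all
sufficiently large d. Then dim_k M_d ≠ P(d) for d = ρ + ℓ − n − 1: the bound d ≥ reg M + pd M − n
beyond which the Hilbert function agrees with the Hilbert polynomial is sharp for Cohen–Macaulay
modules. (Part (1) of the published statement, the agreement for d ≥ reg M + pd M − n, follows from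
the agreement for d at least the largest generator degree minus n and is not restated.) -/
theorem result (k : Type u) [Field k] [IsAlgClosed k] [CharZero k] (n : ℕ)
    (M : Type u) [AddCommGroup M] [Module k M] [Module (MvPolynomial (Fin (n + 1)) k) M]
    [IsScalarTower k (MvPolynomial (Fin (n + 1)) k) M] [Module.Finite (MvPolynomial (Fin (n + 1)) k) M]
    (ℳ : ℤ → Submodule k M) [DirectSum.Decomposition ℳ] [SetLike.GradedSMul (GrSyz.stdGr k (Fin (n + 1))) ℳ]
    (hCM : Module.supportDim (MvPolynomial (Fin (n + 1)) k) M = ((LocCoh.idealDepth (GrSyz.irrel (GrSyz.stdGr k (Fin (n + 1)))).toIdeal M : ℕ∞) : WithBot ℕ∞))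
    (F : GrSyz.FreeRes (GrSyz.stdGr k (Fin (n + 1))) ℳ) (hF : F.IsMinimal (GrSyz.irrel (GrSyz.stdGr k (Fin (n + 1)))).toIdeal)
    (ℓ : ℕ) (hℓ : F.HasLengthLE ℓ) (hℓ' : F.rk ℓ ≠ 0)
    (ρ : ℤ) (hρ : F.IsGenLE ρ) (hρ' : ∃ (i : ℕ) (b : Fin (F.rk i)), F.deg i b = ρ + i)
    (P : Polynomial ℚ) (hP : ∃ d₁ : ℤ, ∀ d : ℤ, d₁ ≤ d → ((Module.finrank k ↥(ℳ d) : ℤ) : ℚ) = P.eval (d : ℚ)) :
    ((Module.finrank k ↥(ℳ (ρ + ℓ - n - 1)) : ℤ) : ℚ) ≠ P.eval ((ρ + ℓ - n - 1 : ℤ) : ℚ) := by
  classical
  have hnd := GrLC21.length_le F hF hℓ'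
  have hdepth : LocCoh.idealDepth (GrSyz.irrel (GrSyz.stdGr k (Fin (n + 1)))).toIdeal M = ((n + 1 - ℓ : ℕ) : ℕ∞) := by
    have h := GrLC21.length_add_idealDepth F hF hℓ hℓ'
    generalize LocCoh.idealDepth (GrSyz.irrel (GrSyz.stdGr k (Fin (n + 1)))).toIdeal M = D at h ⊢
    induction D using ENat.recTopCoe with
    | top =>
      rw [add_top] at h
      exact absurd h.symm (WithTop.natCast_ne_top (n + 1))
    | coe D =>
      norm_cast at h ⊢
      omega
  rw [hdepth] at hCM
  -- the last module attains the regularity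
  have htop : ∃ b : Fin (F.rk ℓ), F.deg ℓ b = ρ + ℓ := by
    by_contra! hne
    have hlt : ∀ b : Fin (F.rk ℓ), F.deg ℓ b < ρ + ℓ := fun b => lt_of_le_of_ne (hρ ℓ b) (hne b)
    have hgen : F.IsGenLE (ρ - 1) := by
      refine (GrLC21.isGenLE_iff_van F hF _).2 fun i g hg => ?_
      rcases lt_trichotomy i (n + 1 - ℓ) with hi | hi | hi
      · exact GrLC21.van_of_add_lt F hℓ (by omega) g
      · refine GrLC21.van_of_terms F hℓ fun j hj => ?_
        rcases eq_or_ne j ℓ with rfl | hjl
        · rw [show i + j = n + 1 by omega]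
          refine GrLC21.van_resTerm_of_lt F fun c => ?_
          have := hlt c
          omega
        · exact GrLC21.van_resTerm_of_ne F (by omega) g
      · exact (GrLC21.subsingleton_H_iff_van (a := GrSyz.irrel (GrSyz.stdGr k (Fin (n + 1)))) (ℳ := ℳ) i).1
          (LocCohLib.subsingleton_of_supportDim_lt _ M i (by rw [hCM]; exact_mod_cast hi)) g
    obtain ⟨i, b, hb⟩ := hρ'
    have := hgen i b
    omega
  obtain ⟨Q, hQ⟩ : ∃ Q : Polynomial ℚ, ∀ d : ℤ, Q.eval (d : ℚ) = ∑ i ∈ Finset.range (ℓ + 1), (-1 : ℚ) ^ i *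
      ∑ b, (descPochhammer ℚ n).eval (((d - F.deg i b : ℤ) : ℚ) + n) / n.factorial := by
    refine ⟨∑ i ∈ Finset.range (ℓ + 1), Polynomial.C ((-1 : ℚ) ^ i) * ∑ b : Fin (F.rk i),
      (descPochhammer ℚ n).comp (Polynomial.X - Polynomial.C ((F.deg i b : ℚ) - n)) * Polynomial.C (n.factorial : ℚ)⁻¹, fun d => ?_⟩
    simp only [Polynomial.eval_finsetSum, Polynomial.eval_mul, Polynomial.eval_C, Polynomial.eval_comp,
      Polynomial.eval_sub, Polynomial.eval_X]
    refine Finset.sum_congr rfl fun i _ => congrArg _ (Finset.sum_congr rfl fun b _ => ?_)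
    rw [div_eq_mul_inv]
    push_cast
    ring_nf
  have hfin : ∀ d : ℤ, ((Module.finrank k ↥(ℳ d) : ℤ) : ℚ) =
      ∑ i ∈ Finset.range (ℓ + 1), (-1 : ℚ) ^ i * ∑ b, ((GrSyzLib.H n (d - F.deg i b) : ℕ) : ℚ) := fun d => by
    rw [GrSyzLib.finrank_piece F ℓ hℓ d]
    push_cast
    rfl
  have hPQ : P = Q := by
    obtain ⟨d₁, hd₁⟩ := hP
    refine Polynomial.eq_of_infinite_eval_eq P Q (Set.Infinite.mono (s := (fun d : ℤ => (d : ℚ)) '' Set.Ici (max d₁ (ρ + ℓ))) ?_
      ((Set.Ici_infinite _).image Int.cast_injective.injOn))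
    rintro _ ⟨d, hd, rfl⟩
    have hd : max d₁ (ρ + ℓ) ≤ d := hd
    show P.eval (d : ℚ) = Q.eval (d : ℚ)
    rw [← hd₁ d (le_trans (le_max_left _ _) hd), hfin, hQ]
    refine Finset.sum_congr rfl fun i hi => congrArg _ (Finset.sum_congr rfl fun b _ => GrSyzLib.H_eq_eval ?_)
    have := hρ i b
    have := Finset.mem_range.1 hi
    omega
  rw [hPQ, hfin, hQ]
  intro heq
  rw [← sub_eq_zero, ← Finset.sum_sub_distrib, Finset.sum_eq_single ℓ ?_ (by simp)] at heq
  · rw [← mul_sub, ← Finset.sum_sub_distrib, mul_eq_zero] at heq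
    have heq := heq.resolve_left (pow_ne_zero _ (by norm_num))
    have hterm : ∀ b : Fin (F.rk ℓ), ((GrSyzLib.H n (ρ + ℓ - n - 1 - F.deg ℓ b) : ℕ) : ℚ) -
        (descPochhammer ℚ n).eval (((ρ + ℓ - n - 1 - F.deg ℓ b : ℤ) : ℚ) + n) / n.factorial =
          if F.deg ℓ b = ρ + ℓ then -(-1 : ℚ) ^ n else 0 := by
      intro b
      split_ifs with hb
      · rw [hb, GrSyzLib.H, if_neg (by omega),
          show ((ρ + ℓ - n - 1 - (ρ + ℓ) : ℤ) : ℚ) + n = -1 by push_cast; ring]
        have hval : ∀ m : ℕ, (descPochhammer ℚ m).eval (-1) = (-1) ^ m * m.factorial := by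
          intro m
          induction m with
          | zero => simp
          | succ m ih =>
            rw [descPochhammer_succ_eval, ih, Nat.factorial_succ]
            push_cast
            ring
        rw [hval, mul_div_cancel_right₀ _ (Nat.cast_ne_zero.2 n.factorial_ne_zero), Nat.cast_zero, zero_sub]
      · rw [sub_eq_zero]
        refine GrSyzLib.H_eq_eval ?_
        have := hρ ℓ b
        omega
    rw [Finset.sum_congr rfl fun b _ => hterm b, Finset.sum_ite, Finset.sum_const, Finset.sum_const_zero,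
      add_zero, nsmul_eq_mul, mul_eq_zero, Nat.cast_eq_zero, Finset.card_eq_zero] at heq
    obtain ⟨b, hb⟩ := htop
    rcases heq with heq | heq
    · exact Finset.notMem_empty b (heq ▸ Finset.mem_filter.2 ⟨Finset.mem_univ b, hb⟩)
    · exact neg_ne_zero.2 (pow_ne_zero _ (by norm_num)) heq
  · intro i hi hne
    rw [← mul_sub, ← Finset.sum_sub_distrib]
    refine mul_eq_zero_of_right _ (Finset.sum_eq_zero fun b _ => sub_eq_zero.2 (GrSyzLib.H_eq_eval ?_))
    have := hρ i b
    have := Finset.mem_range.1 hi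
    omega

end Groth.Agent.S16324
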