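import Groth.Statements.S1633
import Groth.Agent.Lib.NormRed14.AnUnr
import Groth.Agent.Lib.NormFin18.Generic

set_option autoImplicit false
set_option backward.isDefEq.respectTransparency false
universe u
open CategoryTheory CategoryTheory.Limits AlgebraicGeometry
open Resolve

namespace Groth.Agent.S1633

theorem etale_appLE_of_le {S : Scheme.{u}} {X : Scheme.{u}} (f : X ⟶ S) [IsAffine S] (U : X.Opens)
    [Etale (U.ι ≫ f)] {D : X.Opens} (hD : IsAffineOpen D) (hle : D ≤ U) :
    (f.appLE ⊤ D le_top).hom.Etale := by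
  have hD' : U.ι ''ᵁ (U.ι ⁻¹ᵁ D) = D := by
    rw [Scheme.Hom.image_preimage_eq_opensRange_inf, Scheme.Opens.opensRange_ι, inf_eq_right.2 hle]
  have hW : IsAffineOpen (U.ι ⁻¹ᵁ D) := hD.preimage_of_isOpenImmersion U.ι (by simpa using hle)
  have h := (U.ι ≫ f).etale_appLE (isAffineOpen_top S) hW le_top
  have heq : (U.ι ≫ f).appLE ⊤ (U.ι ⁻¹ᵁ D) le_top = f.appLE ⊤ (U.ι ''ᵁ (U.ι ⁻¹ᵁ D)) le_top := by
    rw [Scheme.Hom.comp_appLE, Scheme.Opens.ι_appLE, Scheme.Hom.app_eq_appLE, Scheme.Hom.appLE_map]
  rw [heq] at h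
  exact (Scheme.Hom.appLE_congr (U := ⊤) (V := U.ι ''ᵁ (U.ι ⁻¹ᵁ D)) f le_top rfl hD'
    (fun {R S} g => g.hom.Etale)).1 h

/-- Let (A, m) be a Noetherian local ring whose m-adic completion is reduced, and X an integral scheme
locally of finite type over Spec A such that some open neighbourhood of the generic point of X is
étale over Spec A. Then the normalization morphism of X is finite. -/
theorem result (A : Type u) [CommRing A] [IsLocalRing A] [IsNoetherianRing A]
    [IsReduced (AdicCompletion (IsLocalRing.maximalIdeal A) A)]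
    (X : Scheme.{u}) [IsIntegral X] (f : X ⟶ Spec (CommRingCat.of A)) [LocallyOfFiniteType f]
    (U : X.Opens) (hU : genericPoint X ∈ U) [Etale (U.ι ≫ f)]
    [QuasiCompact (X.fromSpecStalk (genericPoint X))] [QuasiSeparated (X.fromSpecStalk (genericPoint X))] :
    IsFinite (Curv2.normalizationι X) := by
  have hg : X.fromSpecStalk (genericPoint X) =
      Spec.map (CommRingCat.ofHom (RingHom.id X.functionField)) ≫ X.fromSpecStalk (genericPoint X) := by
    rw [CommRingCat.ofHom_id, Spec.map_id]; exact (Category.id_comp _).symm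
  let g : Spec (CommRingCat.of X.functionField) ⟶ X := X.fromSpecStalk (genericPoint X)
  haveI : QuasiCompact g := ‹QuasiCompact (X.fromSpecStalk (genericPoint X))›
  haveI : QuasiSeparated g := ‹QuasiSeparated (X.fromSpecStalk (genericPoint X))›
  refine Groth.Agent.NormFin18.isFinite_fromNormalization_of_finite (g := g) hg fun V hV hA => ?_
  have hgV : genericPoint X ∈ V := Groth.Agent.CurveNF.generic_mem hV
  haveI hne : Nonempty V := ⟨⟨_, hgV⟩⟩
  haveI := functionField_isFractionRing_of_isAffineOpen X V hA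
  obtain ⟨s, hs, hgs⟩ := hA.exists_basicOpen_le (V := U) ⟨genericPoint X, hU⟩ hgV
  let D : X.Opens := X.basicOpen s
  haveI : Nonempty D := ⟨⟨_, hgs⟩⟩
  have hDV : D ≤ V := X.basicOpen_le s
  let a : CommRingCat.of A ⟶ Γ(Spec (CommRingCat.of A), ⊤) := (Scheme.ΓSpecIso (CommRingCat.of A)).inv
  have ha : Function.Bijective a.hom :=
    ⟨(Scheme.ΓSpecIso (CommRingCat.of A)).commRingCatIsoToRingEquiv.symm.injective,
      (Scheme.ΓSpecIso (CommRingCat.of A)).commRingCatIsoToRingEquiv.symm.surjective⟩
  letI : Algebra A Γ(X, V) := ((f.appLE ⊤ V le_top).hom.comp a.hom).toAlgebra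
  letI : Algebra A Γ(X, D) := ((f.appLE ⊤ D le_top).hom.comp a.hom).toAlgebra
  haveI : Algebra.FiniteType A Γ(X, V) :=
    (f.finiteType_appLE (isAffineOpen_top _) hA le_top).comp
      (RingHom.FiniteType.of_surjective _ ha.2)
  haveI : Algebra.Etale A Γ(X, D) := by
    have h : RingHom.Etale ((f.appLE ⊤ D le_top).hom.comp a.hom) :=
      RingHom.Etale.stableUnderComposition _ _ (RingHom.Etale.of_bijective ha)
        (etale_appLE_of_le f U (hA.basicOpen s) hs)
    exact h.toAlgebra
  let φ : Γ(X, V) →ₐ[A] Γ(X, D) :=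
    { (X.presheaf.map (homOfLE hDV).op).hom with
      commutes' := fun x => by
        show (X.presheaf.map (homOfLE hDV).op).hom ((f.appLE ⊤ V le_top).hom (a.hom x)) = _
        rw [← CommRingCat.comp_apply, Scheme.Hom.appLE_map]
        rfl }
  have hφ : Function.Injective φ := AlgebraicGeometry.map_injective_of_isIntegral X (homOfLE hDV)
  exact Groth.Agent.NormRed14.finite_integralClosure_of_etale A Γ(X, V) Γ(X, D) φ hφ X.functionField

end Groth.Agent.S1633
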