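import Groth.Statements.S16330
import Groth.Agent.Lib.FreeCx.Basic

set_option autoImplicit false
universe v
open CategoryTheory
open W4c3biextchow

namespace Groth.Agent.S16330

/-- Let f : A' ⟶ A be a chain map of ℕ-indexed chain complexes of free abelian groups which is injective
in every degree, whose degreewise quotients A_q / f(A'_q) are free abelian groups, and which is a
quasi-isomorphism. Then any two chain maps g₁, g₂ : A ⟶ A' with f ≫ g₁ = f ≫ g₂ = 𝟙 differ by a
null-homotopic map: there is a chain homotopy between g₁ and g₂ all of whose components vanish on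
the image of f (so g₁ - g₂ factors through the quotient complex A / A', and the homotopy does too).
(The source allows complexes indexed by all integers; stated here for complexes in non-negative
degrees.) -/
theorem result
    (A' A : ChainComplex (ModuleCat.{v} ℤ) ℕ) (f : A' ⟶ A)
    [∀ q, Module.Free ℤ (A'.X q)] [∀ q, Module.Free ℤ (A.X q)]
    (hf : ∀ q, Function.Injective (f.f q).hom)
    (hq : ∀ q, Module.Free ℤ ((A.X q) ⧸ LinearMap.range (f.f q).hom)) [QuasiIso f]
    (g₁ g₂ : A ⟶ A') (h₁ : f ≫ g₁ = 𝟙 A') (h₂ : f ≫ g₂ = 𝟙 A') :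
    ∃ H : Homotopy g₁ g₂, ∀ i j : ℕ, f.f i ≫ H.hom i j = 0 := by
  classical
  have : ∀ q, Module.Projective ℤ ((FreeCx.coker f).X q) := fun q => by
    have := hq q
    have h : @Module.Projective ℤ _ ((A.X q) ⧸ LinearMap.range (f.f q).hom) _ (Submodule.Quotient.module _) := by
      convert (Module.Projective.of_free : Module.Projective ℤ ((A.X q) ⧸ LinearMap.range (f.f q).hom)) using 1 <;> first | rfl | exact Subsingleton.elim _ _
    exact h
  obtain ⟨s, hs0, hs⟩ := FreeCx.exists_contraction (FreeCx.coker f)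
    (FreeCx.acyclic_coker f _ hf (FreeCx.cokerπ_surjective f) (FreeCx.cokerπ_exact f))
  let φ : ∀ q, (FreeCx.coker f).X q →ₗ[ℤ] A'.X q := fun q =>
    Submodule.liftQ _ ((g₁.f q).hom - (g₂.f q).hom) (by
      intro y hy
      obtain ⟨x, rfl⟩ := LinearMap.mem_range.1 hy
      rw [LinearMap.mem_ker, LinearMap.sub_apply, sub_eq_zero]
      exact (ConcreteCategory.congr_hom (HomologicalComplex.congr_hom h₁ q) x).trans
        (ConcreteCategory.congr_hom (HomologicalComplex.congr_hom h₂ q) x).symm)
  have hd : ∀ i j z, (A'.d i j).hom (φ i z) = φ j (((FreeCx.coker f).d i j).hom z) := by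
    intro i j z
    induction z using Submodule.Quotient.induction_on with
    | H x =>
      show (A'.d i j).hom ((g₁.f i).hom x - (g₂.f i).hom x) = (g₁.f j).hom ((A.d i j).hom x) - (g₂.f j).hom ((A.d i j).hom x)
      rw [map_sub, FreeCx.comm_apply, FreeCx.comm_apply]
  let H : ∀ i j, A.X i ⟶ A'.X j := fun i j =>
    if h : i + 1 = j then ModuleCat.ofHom (φ (i + 1) ∘ₗ s i ∘ₗ (LinearMap.range (f.f i).hom).mkQ) ≫ eqToHom (by rw [h]) else 0
  have hHs : ∀ i, H i (i + 1) = ModuleCat.ofHom (φ (i + 1) ∘ₗ s i ∘ₗ (LinearMap.range (f.f i).hom).mkQ) := fun i => by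
    simp [H]
  refine ⟨⟨H, fun i j hij => dif_neg (fun h => hij h), fun i => ?_⟩, fun i j => ?_⟩
  · refine ModuleCat.hom_ext (LinearMap.ext fun x => ?_)
    cases i with
    | zero =>
      rw [Homotopy.prevD_chainComplex, Homotopy.dNext_zero_chainComplex, hHs]
      show (g₁.f 0).hom x = (0 + (A'.d 1 0).hom (φ 1 (s 0 (Submodule.Quotient.mk x)))) + (g₂.f 0).hom x
      rw [hd, zero_add, show ((FreeCx.coker f).d 1 0).hom (s 0 (Submodule.Quotient.mk x)) = Submodule.Quotient.mk x from LinearMap.congr_fun hs0 _]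
      exact (sub_add_cancel _ _).symm
    | succ n =>
      rw [Homotopy.prevD_chainComplex, Homotopy.dNext_succ_chainComplex, hHs, hHs]
      show (g₁.f (n + 1)).hom x = (φ (n + 1) (s n (Submodule.Quotient.mk ((A.d (n + 1) n).hom x))) +
        (A'.d (n + 2) (n + 1)).hom (φ (n + 2) (s (n + 1) (Submodule.Quotient.mk x)))) + (g₂.f (n + 1)).hom x
      have e := congrArg (φ (n + 1)) (LinearMap.congr_fun (hs n) (Submodule.Quotient.mk x))
      rw [LinearMap.add_apply, LinearMap.comp_apply, LinearMap.comp_apply, map_add, LinearMap.id_apply] at e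
      rw [hd, add_comm (φ (n + 1) _)]
      refine (sub_add_cancel _ _).symm.trans (congrArg (· + (g₂.f (n + 1)).hom x) ?_)
      exact e.symm
  · by_cases h : i + 1 = j
    · subst h
      show f.f i ≫ H i (i + 1) = 0
      rw [hHs]
      refine ModuleCat.hom_ext (LinearMap.ext fun x => ?_)
      show φ (i + 1) (s i (Submodule.Quotient.mk ((f.f i).hom x))) = 0
      rw [(Submodule.Quotient.mk_eq_zero _).2 (LinearMap.mem_range.2 ⟨x, rfl⟩)]
      exact (congrArg (φ (i + 1)) (map_zero (s i))).trans (map_zero (φ (i + 1)))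
    · show f.f i ≫ H i j = 0
      rw [show H i j = 0 from dif_neg h, Limits.comp_zero]

end Groth.Agent.S16330
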