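import Groth.Statements.S16331
import Groth.Agent.S16330

set_option autoImplicit false
universe v
open CategoryTheory
open W4c3biextchow

namespace Groth.Agent.S16331

/-- Let f : A' ⟶ A be a chain map of ℕ-indexed chain complexes of free abelian groups which is injective
in every degree, with free degreewise quotients A_q / f(A'_q), and a quasi-isomorphism; let h' : A'
⟶ B be a chain map to another complex of free abelian groups and g₁, g₂ : A ⟶ A' two chain maps with
f ≫ g₁ = f ≫ g₂ = 𝟙. Consider the functors induced by g₁ ≫ h' and g₂ ≫ h' between the groupoids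
attached to A and B (objects: degree-0 elements; morphisms a ⟶ b: degree-1 elements with boundary b
- a, modulo boundaries of degree-2 elements). Then there is a natural isomorphism between these two
functors whose component at every object of the form f(a'), a' a degree-0 element of A', is the zero
class, i.e. the identity morphism of h'(a'). -/
theorem result
    (A' A B : ChainComplex (ModuleCat.{v} ℤ) ℕ) (f : A' ⟶ A) (h' : A' ⟶ B)
    [∀ q, Module.Free ℤ (A'.X q)] [∀ q, Module.Free ℤ (A.X q)] [∀ q, Module.Free ℤ (B.X q)]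
    (hf : ∀ q, Function.Injective (f.f q).hom)
    (hq : ∀ q, Module.Free ℤ ((A.X q) ⧸ LinearMap.range (f.f q).hom)) [QuasiIso f]
    (g₁ g₂ : A ⟶ A') (h₁ : f ≫ g₁ = 𝟙 A') (h₂ : f ≫ g₂ = 𝟙 A') :
    ∃ N : W4c3biextchow.cxFunctor (g₁ ≫ h') ≅ W4c3biextchow.cxFunctor (g₂ ≫ h'),
      ∀ a : W4c3biextchow.Obj A',
        (N.hom.app ((W4c3biextchow.cxFunctor f).obj a) : W4c3biextchow.Hom B _ _).cl = 0 := by
  obtain ⟨H, hH⟩ := Groth.Agent.S16330.result A' A f hf hq g₁ g₂ h₁ h₂
  let η : ∀ a : W4c3biextchow.Obj A, W4c3biextchow.Q1 B := fun a =>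
    Submodule.Quotient.mk (-(h'.f 1).hom ((H.hom 0 1).hom a.pt))
  have h0 : ∀ x, (g₁.f 0).hom x = (A'.d 1 0).hom ((H.hom 0 1).hom x) + (g₂.f 0).hom x := fun x => by
    have h := H.comm 0
    rw [Homotopy.prevD_chainComplex, Homotopy.dNext_zero_chainComplex, zero_add] at h
    exact ConcreteCategory.congr_hom h x
  have h1 : ∀ x, (g₁.f 1).hom x = (H.hom 0 1).hom ((A.d 1 0).hom x) + (A'.d 2 1).hom ((H.hom 1 2).hom x) + (g₂.f 1).hom x := fun x => by
    have h := H.comm 1
    rw [Homotopy.prevD_chainComplex, Homotopy.dNext_succ_chainComplex] at h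
    exact ConcreteCategory.congr_hom h x
  have hh : ∀ i j x, (h'.f j).hom ((A'.d i j).hom x) = (B.d i j).hom ((h'.f i).hom x) := fun i j x =>
    (ConcreteCategory.congr_hom (h'.comm i j) x).symm
  have hd : ∀ a, W4c3biextchow.delta B (η a) =
      ((W4c3biextchow.cxFunctor (g₂ ≫ h')).obj a).pt - ((W4c3biextchow.cxFunctor (g₁ ≫ h')).obj a).pt := by
    intro a
    simp only [η, W4c3biextchow.delta_mk, map_neg, ← hh, W4c3biextchow.cxFunctor_obj_pt, HomologicalComplex.comp_f,
      ModuleCat.hom_comp, LinearMap.comp_apply]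
    rw [h0 a.pt, map_add]
    abel
  let app : ∀ a, (W4c3biextchow.cxFunctor (g₁ ≫ h')).obj a ≅ (W4c3biextchow.cxFunctor (g₂ ≫ h')).obj a := fun a =>
    { hom := ⟨η a, hd a⟩
      inv := ⟨-η a, by rw [map_neg, hd a, neg_sub]⟩
      hom_inv_id := W4c3biextchow.Hom.ext (add_neg_cancel _)
      inv_hom_id := W4c3biextchow.Hom.ext (neg_add_cancel _) }
  refine ⟨NatIso.ofComponents app (fun {a b} φ => W4c3biextchow.Hom.ext ?_), fun a => ?_⟩
  · show W4c3biextchow.q1Map (g₁ ≫ h') φ.cl + η b = η a + W4c3biextchow.q1Map (g₂ ≫ h') φ.cl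
    obtain ⟨z, hz⟩ := Submodule.Quotient.mk_surjective _ φ.cl
    have hba : (A.d 1 0).hom z = b.pt - a.pt := by rw [← φ.delta_cl, ← hz, W4c3biextchow.delta_mk]
    rw [← hz, W4c3biextchow.q1Map_mk, W4c3biextchow.q1Map_mk]
    simp only [η, ← Submodule.Quotient.mk_add]
    rw [Submodule.Quotient.eq, LinearMap.mem_range]
    refine ⟨(h'.f 2).hom ((H.hom 1 2).hom z), ?_⟩
    simp only [← hh, HomologicalComplex.comp_f, ModuleCat.hom_comp, LinearMap.comp_apply]
    rw [h1 z, map_add, map_add, hba, map_sub, map_sub]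
    abel
  · show η _ = 0
    have h := ConcreteCategory.congr_hom (hH 0 1) a.pt
    simp only [η, W4c3biextchow.cxFunctor_obj_pt]
    rw [show (H.hom 0 1).hom ((f.f 0).hom a.pt) = 0 from h, map_zero, neg_zero, Submodule.Quotient.mk_zero]

end Groth.Agent.S16331
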