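import Groth.Statements.S16332
import Groth.Agent.Lib.CxGrpd26.Basic
import Mathlib

set_option autoImplicit false
universe v
open CategoryTheory MonoidalCategory
open W4c3biextchow

namespace Groth.Agent.S16332


section Aux
open CategoryTheory MonoidalCategory HomologicalComplex

variable {R : Type v} [CommRing R]


/-- inclusion of a summand, on elements -/
noncomputable abbrev inc (K L : ChainComplex (ModuleCat.{v} R) ℕ) (p q n : ℕ) (h : p + q = n) :
    TensorProduct R (K.X p) (L.X q) →ₗ[R] (K ⊗ L).X n :=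
  (ιTensorObj K L p q n h).hom

theorem inc_span (K L : ChainComplex (ModuleCat.{v} R) ℕ) (n : ℕ) (x : (K ⊗ L).X n) :
    x ∈ ⨆ (p : ℕ) (q : ℕ) (h : p + q = n), LinearMap.range (inc K L p q n h) := by
  set S := ⨆ (p : ℕ) (q : ℕ) (h : p + q = n), LinearMap.range (inc K L p q n h)
  have h0 : (ModuleCat.ofHom S.mkQ : (K ⊗ L).X n ⟶ ModuleCat.of R ((K ⊗ L).X n ⧸ S)) = 0 := by
    refine mapBifunctor.hom_ext fun p q h => ?_
    refine Eq.trans ?_ Limits.comp_zero.symm
    refine ModuleCat.hom_ext (LinearMap.ext fun z => ?_)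
    exact (Submodule.Quotient.mk_eq_zero S).2
      (Submodule.mem_iSup_of_mem p (Submodule.mem_iSup_of_mem q (Submodule.mem_iSup_of_mem h ⟨z, rfl⟩)))
  exact (Submodule.Quotient.mk_eq_zero S).1 (LinearMap.congr_fun (congrArg ModuleCat.Hom.hom h0) x)

theorem inc_injective (K L : ChainComplex (ModuleCat.{v} R) ℕ) (p q n : ℕ) (h : p + q = n) : Function.Injective (inc K L p q n h) := by
  classical
  let r : (K ⊗ L).X n ⟶ K.X p ⊗ L.X q := mapBifunctorDesc fun p' q' _ =>
    if e : p' = p ∧ q' = q then eqToHom (by obtain ⟨rfl, rfl⟩ := e; rfl) else 0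
  have hr : ιTensorObj K L p q n h ≫ r = 𝟙 _ := by
    show ιMapBifunctor K L _ _ p q n h ≫ mapBifunctorDesc _ = _
    rw [ι_mapBifunctorDesc, dif_pos ⟨rfl, rfl⟩]
    rfl
  intro a b hab
  have ha := LinearMap.congr_fun (congrArg ModuleCat.Hom.hom hr) a
  have hb := LinearMap.congr_fun (congrArg ModuleCat.Hom.hom hr) b
  calc a = r.hom (inc K L p q n h a) := ha.symm
    _ = r.hom (inc K L p q n h b) := by rw [hab]
    _ = b := hb

theorem d_left (K L : ChainComplex (ModuleCat.{v} R) ℕ) (p : ℕ) (a : TensorProduct R (K.X (p + 1)) (L.X 0)) :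
    ((K ⊗ L).d (p + 1) p).hom (inc K L (p + 1) 0 (p + 1) rfl a) =
      inc K L p 0 p rfl ((K.d (p + 1) p).hom.rTensor _ a) := by
  have h : ιTensorObj K L (p + 1) 0 (p + 1) rfl ≫ (K ⊗ L).d (p + 1) p =
      (K.d (p + 1) p ▷ L.X 0) ≫ ιTensorObj K L p 0 p rfl := by
    show ιMapBifunctor K L _ _ (p + 1) 0 (p + 1) rfl ≫ (mapBifunctor K L (curriedTensor _) _).d (p + 1) p = _
    rw [mapBifunctor.d_eq, Preadditive.comp_add, mapBifunctor.ι_D₁, mapBifunctor.ι_D₂,
      mapBifunctor.d₂_eq_zero _ _ _ _ _ _ _ (by simp), add_zero,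
      mapBifunctor.d₁_eq _ _ _ _ (show (ComplexShape.down ℕ).Rel (p + 1) p from rfl) 0 p rfl]
    simp [ComplexShape.ε₁]
  exact LinearMap.congr_fun (congrArg ModuleCat.Hom.hom h) a

theorem d_right (K L : ChainComplex (ModuleCat.{v} R) ℕ) (q : ℕ) (a : TensorProduct R (K.X 0) (L.X (q + 1))) :
    ((K ⊗ L).d (q + 1) q).hom (inc K L 0 (q + 1) (q + 1) (zero_add _) a) =
      inc K L 0 q q (zero_add _) ((L.d (q + 1) q).hom.lTensor _ a) := by
  have h : ιTensorObj K L 0 (q + 1) (q + 1) (zero_add _) ≫ (K ⊗ L).d (q + 1) q =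
      (K.X 0 ◁ L.d (q + 1) q) ≫ ιTensorObj K L 0 q q (zero_add _) := by
    show ιMapBifunctor K L _ _ 0 (q + 1) (q + 1) (zero_add _) ≫
      (mapBifunctor K L (curriedTensor _) _).d (q + 1) q = _
    rw [mapBifunctor.d_eq, Preadditive.comp_add, mapBifunctor.ι_D₁, mapBifunctor.ι_D₂,
      mapBifunctor.d₁_eq_zero _ _ _ _ _ _ _ (by simp), zero_add,
      mapBifunctor.d₂_eq _ _ _ _ 0 (show (ComplexShape.down ℕ).Rel (q + 1) q from rfl) q (zero_add _)]
    simp [ComplexShape.ε₂]
  exact LinearMap.congr_fun (congrArg ModuleCat.Hom.hom h) a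

theorem d_mid (K L : ChainComplex (ModuleCat.{v} R) ℕ) (a : TensorProduct R (K.X 1) (L.X 1)) :
    ((K ⊗ L).d 2 1).hom (inc K L 1 1 2 rfl a) =
      inc K L 0 1 1 rfl ((K.d 1 0).hom.rTensor _ a) - inc K L 1 0 1 rfl ((L.d 1 0).hom.lTensor _ a) := by
  have h : ιTensorObj K L 1 1 2 rfl ≫ (K ⊗ L).d 2 1 =
      (K.d 1 0 ▷ L.X 1) ≫ ιTensorObj K L 0 1 1 rfl - (K.X 1 ◁ L.d 1 0) ≫ ιTensorObj K L 1 0 1 rfl := by
    show ιMapBifunctor K L _ _ 1 1 2 rfl ≫ (mapBifunctor K L (curriedTensor _) _).d 2 1 = _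
    rw [mapBifunctor.d_eq, Preadditive.comp_add, mapBifunctor.ι_D₁, mapBifunctor.ι_D₂,
      mapBifunctor.d₁_eq _ _ _ _ (show (ComplexShape.down ℕ).Rel 1 0 from rfl) 1 1 rfl,
      mapBifunctor.d₂_eq _ _ _ _ 1 (show (ComplexShape.down ℕ).Rel 1 0 from rfl) 1 rfl]
    simp [ComplexShape.ε₁, ComplexShape.ε₂, sub_eq_add_neg]
  exact LinearMap.congr_fun (congrArg ModuleCat.Hom.hom h) a

theorem map_inc {K L L' : ChainComplex (ModuleCat.{v} R) ℕ} (g : L ⟶ L') (p q n : ℕ) (h : p + q = n)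
    (a : TensorProduct R (K.X p) (L.X q)) :
    ((K ◁ g).f n).hom (inc K L p q n h a) = inc K L' p q n h ((g.f q).hom.lTensor _ a) := by
  have e : ιTensorObj K L p q n h ≫ (K ◁ g).f n = (K.X p ◁ g.f q) ≫ ιTensorObj K L' p q n h := by
    show ιMapBifunctor K L _ _ p q n h ≫ (mapBifunctorMap (𝟙 K) g (curriedTensor _) _).f n = _
    rw [ι_mapBifunctorMap]
    simp
  exact LinearMap.congr_fun (congrArg ModuleCat.Hom.hom e) a

theorem tensor_zero_of_subsingleton {M N : Type v} [AddCommGroup M] [Module R M] [AddCommGroup N] [Module R N]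
    [Subsingleton N] (x : TensorProduct R M N) : x = 0 := by
  induction x using TensorProduct.induction_on with
  | zero => rfl
  | tmul a b => rw [Subsingleton.elim b 0, TensorProduct.tmul_zero]
  | add a b ha hb => rw [ha, hb, add_zero]

theorem sub1 (G : ModuleCat.{v} R) (n : ℕ) (hn : n ≠ 0) :
    Subsingleton (((ChainComplex.single₀ (ModuleCat.{v} R)).obj G).X n) :=
  ModuleCat.subsingleton_of_isZero (HomologicalComplex.isZero_single_obj_X _ 0 G n hn)

theorem main (C P : ChainComplex (ModuleCat.{v} R) ℕ) (G : ModuleCat.{v} R) [Module.Free R (C.X 0)]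
    (π : P ⟶ (ChainComplex.single₀ (ModuleCat.{v} R)).obj G) [QuasiIso π] :
    IsIso (HomologicalComplex.homologyMap (C ◁ π) 1) := by
  have hp1 : (ComplexShape.down ℕ).prev 1 = 2 := ChainComplex.prev ℕ 1
  have hp0 : (ComplexShape.down ℕ).prev 0 = 1 := ChainComplex.prev ℕ 0
  have hn1 : (ComplexShape.down ℕ).next 1 = 0 := ChainComplex.next_nat_succ 0
  have hn0 : (ComplexShape.down ℕ).next 0 = 0 := ChainComplex.next_nat_zero
  have hiso : ∀ i, IsIso (homologyMap π i) := fun i => (quasiIsoAt_iff_isIso_homologyMap π i).1 (QuasiIso.quasiIsoAt i)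
  have hsurj : Function.Surjective (π.f 0).hom := by
    intro y
    haveI := hiso 0
    have hy : (((ChainComplex.single₀ (ModuleCat.{v} R)).obj G).d 0 0).hom y = 0 := by
      rw [((ChainComplex.single₀ (ModuleCat.{v} R)).obj G).shape 0 0 (by simp)]; rfl
    obtain ⟨x, -, w, hw⟩ := (CxGrpd26.epi_homologyMap_iff π hp0 hn0).1 inferInstance y hy
    haveI := sub1 G 1 one_ne_zero
    rw [Subsingleton.elim w 0, map_zero] at hw
    exact ⟨x, sub_eq_zero.1 hw.symm⟩
  have hex0 : Function.Exact (P.d 1 0).hom (π.f 0).hom := by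
    refine fun x => ⟨fun hx => ?_, ?_⟩
    · haveI := hiso 0
      exact (CxGrpd26.mono_homologyMap_iff π hp0 hn0).1 inferInstance x
        (by rw [P.shape 0 0 (by simp)]; rfl) ⟨0, by rw [map_zero, hx]⟩
    · rintro ⟨w, rfl⟩
      haveI := sub1 G 1 one_ne_zero
      have := LinearMap.congr_fun (congrArg ModuleCat.Hom.hom (π.comm 1 0)) w
      rw [ModuleCat.hom_comp, ModuleCat.hom_comp, LinearMap.comp_apply, LinearMap.comp_apply,
        Subsingleton.elim ((π.f 1).hom w) 0, map_zero] at this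
      exact this.symm
  have hex1 : Function.Exact (P.d 2 1).hom (P.d 1 0).hom := by
    refine fun x => ⟨fun hx => ?_, ?_⟩
    · haveI := hiso 1
      haveI := sub1 G 1 one_ne_zero
      exact (CxGrpd26.mono_homologyMap_iff π hp1 hn1).1 inferInstance x hx ⟨0, Subsingleton.elim _ _⟩
    · rintro ⟨w, rfl⟩
      rw [← LinearMap.comp_apply, ← ModuleCat.hom_comp, P.d_comp_d]; rfl
  have hTd : ∀ (a : TensorProduct R (C.X 1) (P.X 0)) (b : TensorProduct R (C.X 0) (P.X 1)),
      ((C ⊗ P).d 1 0).hom (inc C P 1 0 1 rfl a + inc C P 0 1 1 rfl b) =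
        inc C P 0 0 0 rfl ((C.d 1 0).hom.rTensor _ a + (P.d 1 0).hom.lTensor _ b) := by
    intro a b
    rw [map_add, map_add, d_left, d_right]
  have comm1 : ∀ (p : ℕ) (a : TensorProduct R (C.X (p + 1)) (P.X 0)),
      (π.f 0).hom.lTensor _ ((C.d (p + 1) p).hom.rTensor _ a) =
        (C.d (p + 1) p).hom.rTensor _ ((π.f 0).hom.lTensor _ a) := by
    intro p a
    rw [← LinearMap.comp_apply, ← LinearMap.comp_apply, LinearMap.lTensor_comp_rTensor,
      LinearMap.rTensor_comp_lTensor]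
  have hdec : ∀ x : (C ⊗ P).X 1, ∃ a b, x = inc C P 1 0 1 rfl a + inc C P 0 1 1 rfl b := by
    intro x
    have hle : (⨆ (p : ℕ) (q : ℕ) (h : p + q = 1), LinearMap.range (inc C P p q 1 h)) ≤
        LinearMap.range (inc C P 1 0 1 rfl) ⊔ LinearMap.range (inc C P 0 1 1 rfl) := by
      refine iSup_le fun p => iSup_le fun q => iSup_le fun h => ?_
      obtain ⟨rfl, rfl⟩ | ⟨rfl, rfl⟩ : (p = 1 ∧ q = 0) ∨ (p = 0 ∧ q = 1) := by omega
      · exact le_sup_left
      · exact le_sup_right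
    obtain ⟨_, ⟨a, rfl⟩, _, ⟨b, rfl⟩, hab⟩ := Submodule.mem_sup.1 (hle (inc_span C P 1 x))
    exact ⟨a, b, hab.symm⟩
  have hdec' : ∀ n, ∀ x : (C ⊗ ((ChainComplex.single₀ (ModuleCat.{v} R)).obj G)).X n, ∃ a, x = inc C ((ChainComplex.single₀ (ModuleCat.{v} R)).obj G) n 0 n rfl a := by
    intro n x
    have hle : (⨆ (p : ℕ) (q : ℕ) (h : p + q = n), LinearMap.range (inc C ((ChainComplex.single₀ (ModuleCat.{v} R)).obj G) p q n h)) ≤
        LinearMap.range (inc C ((ChainComplex.single₀ (ModuleCat.{v} R)).obj G) n 0 n rfl) := by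
      refine iSup_le fun p => iSup_le fun q => iSup_le fun h => ?_
      rintro _ ⟨z, rfl⟩
      by_cases hq : q = 0
      · subst hq
        obtain rfl : p = n := by omega
        exact ⟨z, rfl⟩
      · haveI := sub1 G q hq
        rw [tensor_zero_of_subsingleton z, map_zero]
        exact Submodule.zero_mem _
    obtain ⟨a, ha⟩ := hle (inc_span C ((ChainComplex.single₀ (ModuleCat.{v} R)).obj G) n x)
    exact ⟨a, ha.symm⟩
  have hf : ∀ (a : TensorProduct R (C.X 1) (P.X 0)) (b : TensorProduct R (C.X 0) (P.X 1)),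
      ((C ◁ π).f 1).hom (inc C P 1 0 1 rfl a + inc C P 0 1 1 rfl b) =
        inc C ((ChainComplex.single₀ (ModuleCat.{v} R)).obj G) 1 0 1 rfl ((π.f 0).hom.lTensor _ a) := by
    intro a b
    haveI := sub1 G 1 one_ne_zero
    rw [map_add, map_inc, map_inc, tensor_zero_of_subsingleton ((π.f 1).hom.lTensor _ b), map_zero, add_zero]
  rw [isIso_iff_mono_and_epi]
  constructor
  · rw [CxGrpd26.mono_homologyMap_iff (C ◁ π) hp1 hn1]
    intro x hx ⟨w, hw⟩
    obtain ⟨a, b, rfl⟩ := hdec x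
    obtain ⟨e', rfl⟩ := hdec' 2 w
    rw [d_left, hf] at hw
    have hw' := inc_injective C ((ChainComplex.single₀ (ModuleCat.{v} R)).obj G) 1 0 1 rfl hw
    obtain ⟨e, rfl⟩ := LinearMap.lTensor_surjective (C.X 2) hsurj e'
    rw [← comm1 1 e] at hw'
    obtain ⟨u, hu⟩ := (lTensor_exact (C.X 1) hex0 hsurj (a - (C.d 2 1).hom.rTensor _ e)).1
      (by rw [map_sub, hw', sub_self])
    let b' := b + (C.d 1 0).hom.rTensor _ u
    have hcyc : ((C ⊗ P).d 2 1).hom (inc C P 2 0 2 rfl e - inc C P 1 1 2 rfl u) =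
        inc C P 1 0 1 rfl a - inc C P 0 1 1 rfl ((C.d 1 0).hom.rTensor _ u) := by
      rw [map_sub, d_left, d_mid, hu, map_sub]
      abel
    have hx' : (P.d 1 0).hom.lTensor (C.X 0) b' = 0 := by
      have h2 : ((C ⊗ P).d 1 0).hom (((C ⊗ P).d 2 1).hom (inc C P 2 0 2 rfl e - inc C P 1 1 2 rfl u)) = 0 := by
        rw [← LinearMap.comp_apply, ← ModuleCat.hom_comp, HomologicalComplex.d_comp_d]; rfl
      rw [hcyc] at h2
      have h3 : ((C ⊗ P).d 1 0).hom (inc C P 0 1 1 rfl b') = 0 := by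
        have h4 := congrArg₂ (· - ·) hx h2
        simp only [sub_zero] at h4
        rw [← map_sub] at h4
        rw [← h4]
        congr 1
        simp only [b', map_add]
        abel
      rw [d_right] at h3
      exact inc_injective C P 0 0 0 rfl (h3.trans (map_zero _).symm)
    obtain ⟨v, hv⟩ := (Module.Flat.lTensor_exact (C.X 0) hex1 b').1 hx'
    refine ⟨inc C P 2 0 2 rfl e - inc C P 1 1 2 rfl u + inc C P 0 2 2 rfl v, ?_⟩
    rw [map_add, hcyc, d_right, hv]
    simp only [b', map_add]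
    abel
  · rw [CxGrpd26.epi_homologyMap_iff (C ◁ π) hp1 hn1]
    intro y hy
    obtain ⟨c, rfl⟩ := hdec' 1 y
    rw [d_left] at hy
    have hy' := inc_injective C ((ChainComplex.single₀ (ModuleCat.{v} R)).obj G) 0 0 0 rfl (hy.trans (map_zero _).symm)
    obtain ⟨a, rfl⟩ := LinearMap.lTensor_surjective (C.X 1) hsurj c
    rw [← comm1 0 a] at hy'
    obtain ⟨b, hb⟩ := (lTensor_exact (C.X 0) hex0 hsurj _).1 hy'
    refine ⟨inc C P 1 0 1 rfl a + inc C P 0 1 1 rfl (-b), ?_, 0, ?_⟩
    · rw [hTd, map_neg, hb, add_neg_cancel, map_zero]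
    · rw [map_zero, hf, sub_self]

end Aux


/-- Let R be a commutative ring, C an ℕ-indexed chain complex of R-modules whose degree-0 term C_0 is a
free R-module, G an R-module, and π : P ⟶ G[0] a quasi-isomorphism from an ℕ-indexed chain complex P
of free R-modules onto G placed in degree 0 (a free resolution of G), so that the tensor product of
complexes C ⊗ P represents the derived tensor product of C and G. Then the map induced by π on first
homology, H_1(C ⊗ P) → H_1(C ⊗ G[0]), is an isomorphism: in degree 1 the derived and the plain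
tensor product with G have the same homology. (The published statement is over the integers, for
complexes vanishing in negative degrees with C_0 free abelian; this row allows any commutative ring
R and R-modules in the same universe as R.) -/
theorem result
    (R : Type v) [CommRing R] (C P : ChainComplex (ModuleCat.{v} R) ℕ) (G : ModuleCat.{v} R)
    [Module.Free R (C.X 0)] [∀ q, Module.Free R (P.X q)]
    (π : P ⟶ (ChainComplex.single₀ (ModuleCat.{v} R)).obj G) [QuasiIso π] :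
    IsIso (HomologicalComplex.homologyMap (C ◁ π) 1) := by
  exact main C P G π

end Groth.Agent.S16332
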