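import Groth.Statements.S16335
import Mathlib.RingTheory.Invariant.Basic
import Mathlib.RingTheory.Flat.Basic
import Mathlib.LinearAlgebra.LinearIndependent.Basic
import Mathlib.LinearAlgebra.TensorProduct.Pi
import Mathlib.GroupTheory.Coset.Basic
import Mathlib.RingTheory.Ideal.GoingUp

set_option autoImplicit false
universe u v w w'
open TensorProduct
open InvTh

namespace Groth.Agent.S16335

/-- Let `R` be a commutative ring with an action of a finite group `Γ` by ring automorphisms such that
the order of `Γ` is invertible in `R`, and let `A → R` be injective with image exactly the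
invariants `R^Γ`, the action being `A`-linear. Then for every commutative `A`-algebra `S`, with `Γ`
acting on `S ⊗_A R` through the factor `R`, the map `S → S ⊗_A R`, `s ↦ s ⊗ 1`, is injective and its
image is exactly the set of `Γ`-fixed elements: `S ≅ (S ⊗_A R)^Γ`. No flatness of `S` over `A` is
assumed; the invertibility of the order of `Γ` replaces it. This is the affine statement that for a
tame quotient the coarse space commutes with arbitrary base change. (The published lemma is the
statement that the coarse moduli space of a tame Deligne–Mumford stack commutes with arbitrary base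
change, whose proof reduces to this ring statement. The published lemma also asserts the analogous
statement for the reduced fibre product when the base-change scheme is reduced; that clause is not
part of this row.) -/
theorem result
    (A : Type u) [CommRing A] (R : Type v) [CommRing R] [Algebra A R]
    (Γ : Type w) [Group Γ] [Finite Γ] [MulSemiringAction Γ R] [SMulCommClass Γ A R]
    [Algebra.IsInvariant A R Γ] (hinj : Function.Injective (algebraMap A R))
    (hΓ : IsUnit (Nat.card Γ : R))
    (S : Type w') [CommRing S] [Algebra A S] :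
    Function.Injective (fun s : S => s ⊗ₜ[A] (1 : R)) ∧
      ∀ x : S ⊗[A] R,
        (∀ γ : Γ, Algebra.TensorProduct.map (AlgHom.id A S) (MulSemiringAction.toAlgHom A R γ) x = x) →
          x ∈ Set.range (fun s : S => s ⊗ₜ[A] (1 : R)) := by
  classical
  haveI := Fintype.ofFinite Γ
  obtain ⟨u, hu⟩ := hΓ
  have hufix : ∀ γ : Γ, γ • (↑u⁻¹ : R) = ↑u⁻¹ := by
    intro γ
    have h1 : γ • ((↑u⁻¹ : R) * u) = γ • (1 : R) := by rw [Units.inv_mul]
    rw [smul_mul', smul_one, hu] at h1
    have h2 : γ • (Nat.card Γ : R) = Nat.card Γ := by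
      rw [← MulSemiringAction.toRingHom_apply, map_natCast]
    rw [h2, ← hu] at h1
    calc γ • (↑u⁻¹ : R) = γ • (↑u⁻¹ : R) * ↑u * ↑u⁻¹ := by rw [mul_assoc, Units.mul_inv, mul_one]
      _ = ↑u⁻¹ := by rw [h1, one_mul]
  obtain ⟨v, hv⟩ := Algebra.IsInvariant.isInvariant (A := A) (G := Γ) (↑u⁻¹ : R) hufix
  let T : R →ₗ[A] R := v • ∑ γ : Γ, DistribSMul.toLinearMap A R γ
  have hTv : ∀ r, T r = v • ∑ γ : Γ, γ • r := fun r => by simp [T]
  have hTfix : ∀ r, ∀ g : Γ, g • T r = T r := fun r g => by
    rw [hTv, smul_comm, Finset.smul_sum]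
    congr 1
    exact Fintype.sum_equiv (Equiv.mulLeft g) _ _ (fun x => (mul_smul g x r).symm)
  choose π hπ using fun r => Algebra.IsInvariant.isInvariant (A := A) (G := Γ) (T r) (hTfix r)
  let πl : R →ₗ[A] A :=
    { toFun := π
      map_add' := fun a b => hinj (by rw [map_add, hπ, hπ, hπ, map_add])
      map_smul' := fun a b => hinj (by
        rw [RingHom.id_apply, smul_eq_mul, map_mul, hπ, hπ, map_smul, Algebra.smul_def]) }
  have hπa : ∀ a, πl (algebraMap A R a) = a := fun a => hinj (by
    show algebraMap A R (π _) = _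
    rw [hπ, hTv]
    simp only [smul_algebraMap, Finset.sum_const, Finset.card_univ]
    rw [Algebra.smul_def, hv, nsmul_eq_mul, ← mul_assoc, ← Nat.card_eq_fintype_card, ← hu, Units.inv_mul, one_mul])
  let Pr : S ⊗[A] R →ₗ[A] S := (TensorProduct.rid A S).toLinearMap ∘ₗ πl.lTensor S
  have hPr : ∀ s : S, Pr (s ⊗ₜ[A] (1 : R)) = s := fun s => by
    show (TensorProduct.rid A S) (s ⊗ₜ[A] πl 1) = s
    rw [← map_one (algebraMap A R), hπa, TensorProduct.rid_tmul, one_smul]
  refine ⟨Function.LeftInverse.injective hPr, fun x hx => ⟨Pr x, ?_⟩⟩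
  have key : ∀ y : S ⊗[A] R, (Pr y) ⊗ₜ[A] (1 : R) =
      v • ∑ γ : Γ, Algebra.TensorProduct.map (AlgHom.id A S) (MulSemiringAction.toAlgHom A R γ) y := by
    intro y
    induction y with
    | zero => simp
    | add p q hp hq => simp only [map_add, TensorProduct.add_tmul, Finset.sum_add_distrib, smul_add, hp, hq]
    | tmul s r =>
      simp only [Algebra.TensorProduct.map_tmul, AlgHom.id_apply, MulSemiringAction.toAlgHom_apply,
        ← TensorProduct.tmul_sum, ← TensorProduct.tmul_smul, ← hTv]
      show (π r • s) ⊗ₜ[A] (1 : R) = _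
      rw [TensorProduct.smul_tmul, ← hπ r, Algebra.algebraMap_eq_smul_one]
  show (Pr x) ⊗ₜ[A] (1 : R) = x
  rw [key, Finset.sum_congr rfl fun γ _ => hx γ, Finset.sum_const, Finset.card_univ]
  rw [← Nat.cast_smul_eq_nsmul A, smul_smul, show v * (Fintype.card Γ : A) = 1 from hinj (by
    rw [map_mul, hv, map_natCast, map_one, ← Nat.card_eq_fintype_card, ← hu, Units.inv_mul]), one_smul]

end Groth.Agent.S16335
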