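import Groth.Statements.S16337
import Mathlib.RingTheory.Invariant.Basic
import Mathlib.RingTheory.Flat.Basic
import Mathlib.LinearAlgebra.LinearIndependent.Basic
import Mathlib.LinearAlgebra.TensorProduct.Pi
import Mathlib.GroupTheory.Coset.Basic
import Mathlib.RingTheory.Ideal.GoingUp

set_option autoImplicit false
universe u v w
open InvTh

namespace Groth.Agent.S16337

/-- Let `A` be a commutative ring, `Γ` a finite group whose order is invertible in `A`, `M` an
`A`-module with an `A`-linear action of `Γ`, and `I` an ideal of `A`. Then reduction modulo `I`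
induces a bijection `M^Γ / I·M^Γ ≅ (M / IM)^Γ`: (a) an element of `M` fixed by `Γ` modulo `IM` is
congruent modulo `IM` to a `Γ`-fixed element, and (b) a `Γ`-fixed element lying in `IM` lies in
`I·M^Γ`, where `M^Γ` is the submodule of `Γ`-fixed elements. (The published lemma says that
push-forward to the coarse space of a tame stack over a complete local base commutes with reduction
modulo powers of the maximal ideal; this row is the module statement its proof establishes, for an
arbitrary ideal.) -/
theorem result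
    (A : Type u) [CommRing A] (Γ : Type v) [Group Γ] [Finite Γ] (hΓ : IsUnit (Nat.card Γ : A))
    (M : Type w) [AddCommGroup M] [Module A M] [DistribMulAction Γ M] [SMulCommClass Γ A M]
    (I : Ideal A) :
    (∀ x : M, (∀ γ : Γ, γ • x - x ∈ I • (⊤ : Submodule A M)) →
        ∃ y : M, (∀ γ : Γ, γ • y = y) ∧ x - y ∈ I • (⊤ : Submodule A M)) ∧
      ∀ y : M, (∀ γ : Γ, γ • y = y) → y ∈ I • (⊤ : Submodule A M) →
        y ∈ I • Submodule.span A {m : M | ∀ γ : Γ, γ • m = m} := by
  classical
  haveI := Fintype.ofFinite Γ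
  obtain ⟨u, hu⟩ := hΓ
  let F : Submodule A M := Submodule.span A {m : M | ∀ γ : Γ, γ • m = m}
  let E : M →ₗ[A] M := (↑u⁻¹ : A) • ∑ γ : Γ, DistribSMul.toLinearMap A M γ
  have hEv : ∀ m, E m = (↑u⁻¹ : A) • ∑ γ : Γ, γ • m := fun m => by simp [E]
  have hEfix : ∀ m, ∀ g : Γ, g • E m = E m := fun m g => by
    rw [hEv, smul_comm, Finset.smul_sum]
    congr 1
    exact Fintype.sum_equiv (Equiv.mulLeft g) _ _ (fun x => (mul_smul g x m).symm)
  have hone : ∀ m : M, (↑u⁻¹ : A) • ∑ _γ : Γ, m = m := fun m => by
    rw [Finset.sum_const, Finset.card_univ, ← Nat.cast_smul_eq_nsmul A, smul_smul, ← Nat.card_eq_fintype_card,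
      ← hu, Units.inv_mul, one_smul]
  refine ⟨fun x hx => ⟨E x, hEfix x, ?_⟩, fun y hy hyI => ?_⟩
  · have : x - E x = (↑u⁻¹ : A) • ∑ γ : Γ, (x - γ • x) := by
      rw [Finset.sum_sub_distrib, smul_sub, hone, hEv]
    rw [this]
    refine Submodule.smul_mem _ _ (sum_mem fun γ _ => ?_)
    rw [← neg_sub]; exact neg_mem (hx γ)
  · have h1 : E y = y := by rw [hEv, Finset.sum_congr rfl fun γ _ => hy γ, hone]
    have h2 : E y ∈ (I • (⊤ : Submodule A M)).map E := ⟨y, hyI, rfl⟩
    rw [Submodule.map_smul'', h1] at h2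
    refine Submodule.smul_mono le_rfl ?_ h2
    rintro _ ⟨z, -, rfl⟩
    exact Submodule.subset_span (hEfix z)

end Groth.Agent.S16337
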