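import Groth.Statements.S16340
import Groth.Agent.Lib.ShStab28.Positive

set_option autoImplicit false
open CategoryTheory CategoryTheory.Limits AlgebraicGeometry Polynomial
universe u
open ShStab

namespace Groth.Agent.S16340

/-- Let X be a scheme proper over a field k carrying an ample invertible sheaf L, Hilbert polynomials
being taken with respect to L, and let ι : E → E' be a monomorphism of coherent O_X-modules with
Hilbert polynomials P_E and P_E'. Then P_E(m) ≤ P_E'(m) for all large m; and if the cokernel of ι
has support of topological Krull dimension less than d (for example, if the cokernel is zero), then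
the multiplicities in dimension d agree: α_d(P_E) = α_d(P_E'), where α_d(P) is d! times the
coefficient of degree d. (The published statement is the case where E' is the saturation of E inside
a coherent sheaf of dimension d, over an algebraically closed field; the argument is unchanged for
any field.) -/
theorem result (k : Type u) [Field k] (X : Scheme.{u})
    [X.Over (Spec (CommRingCat.of k))] [IsProper (X ↘ Spec (CommRingCat.of k))]
    (L : X.Modules) (hL : CohB1.IsAmple L) (d : ℕ) (E E' : X.Modules)
    (hE : Coh.IsCoh E) (hE' : Coh.IsCoh E') (ι : E ⟶ E') [Mono ι]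
    (pE pE' : ℚ[X]) (hpE : ShStab.IsHilbPoly k X L E pE) (hpE' : ShStab.IsHilbPoly k X L E' pE') :
    StabCat.PolyLE pE pE' ∧
      (topologicalKrullDim (CohB1.support (cokernel ι)) < (d : WithBot ℕ∞) →
        StabCat.alpha d pE = StabCat.alpha d pE') := by
  have hi := hL.1
  have hpos := Agent.ShStab28.positive k hL
  let S := Agent.ShStab28.sys k X L hi hpos
  have hQ : Coh.IsCoh (cokernel ι) := S.ok_coker ι hE hE'
  have hsum : pE' = pE + Agent.ShStab28.hilb k X L (cokernel ι) := by
    rw [(Agent.ShStab28.hp_iff hi hE).mp hpE, (Agent.ShStab28.hp_iff hi hE').mp hpE']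
    exact Agent.ShStab28.Sys.hp_mono S ι hE hE'
  refine ⟨hsum ▸ Agent.ShStab28.polyLE_add_right (Agent.ShStab28.Sys.lc_nonneg S hQ), fun hdim => ?_⟩
  have h0 : StabCat.alpha d (Agent.ShStab28.hilb k X L (cokernel ι)) = 0 := by
    by_cases hz : IsZero (cokernel ι)
    · rw [show Agent.ShStab28.hilb k X L (cokernel ι) = 0 from Agent.ShStab28.Sys.hp_zero S hz, Agent.ShStab28.alpha_zero]
    · obtain ⟨e, he⟩ := Agent.ShStab28.exists_dim_supp k hQ hz
      rw [he] at hdim
      have hed : e < d := by exact_mod_cast hdim
      exact Agent.ShStab28.alpha_eq_zero_of_lt ((Agent.ShStab28.natDegree_hilb_le k hi hQ he.le).trans_lt hed)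
  rw [hsum, Agent.ShStab28.alpha_add, h0, add_zero]

end Groth.Agent.S16340
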