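import Groth.Statements.S16341
import Groth.Agent.Lib.TFNorm27.Main
-- import your own Groth.Agent.* helpers here

set_option autoImplicit false
universe u
open CategoryTheory CategoryTheory.Limits AlgebraicGeometry
open Curves

namespace Groth.Agent.S16341

/-- Let C be a proper scheme over an algebraically closed field k, all of whose irreducible components
have dimension one and whose singularities are at worst nodal. Let π : C' → C be a finite morphism
from a normal scheme which is an isomorphism over a dense open subset of C whose preimage is dense
in C' (so C' is the normalisation of C). Then for every coherent O_C-module F which is pure of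
dimension one there are a coherent, finite locally free O_{C'}-module F' and a monomorphism f : F →
π_*F' whose cokernel has support inside the node set of C. (The published statement is for a stable
curve of genus at least two and phrases the middle term as a direct sum over the irreducible
components; the argument uses only that the curve is nodal and produces the push-forward from the
normalisation.) -/
theorem result (k : Type u) [Field k] [IsAlgClosed k]
    (C : Scheme.{u}) [C.Over (Spec (CommRingCat.of k))] [IsProper (C ↘ (Spec (CommRingCat.of k)))]
    (hdim : ∀ Z ∈ irreducibleComponents (C : Type u), topologicalKrullDim Z = 1) (hC : Curv2.AtWorstNodal k C)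
    (C' : Scheme.{u}) (π : C' ⟶ C) [IsFinite π] (hC' : Pi1.IsNormalScheme C')
    (U : C.Opens) (hU : Dense (U : Set C)) (hU' : Dense ((π ⁻¹ᵁ U : C'.Opens) : Set C')) (hπU : IsIso (π ∣_ U))
    (F : C.Modules) (hF : Coh.IsCoh F) (hpure : ShStab.IsPure C F 1) :
    ∃ (F' : C'.Modules) (f : F ⟶ (Scheme.Modules.pushforward π).obj F'),
      Coh.IsCoh F' ∧ FlatMod.IsFinLocFree F' ∧ Mono f ∧
        CohB1.support (cokernel f) ⊆ {x : C | Curv2.IsNode k C x} := by
  haveI := hπU
  exact TFNorm27.exists_mono k π hdim hC hC' U hU hU' hF hpure


end Groth.Agent.S16341
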