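import Groth.Statements.S16343
import Mathlib

set_option autoImplicit false
open KatoHom

namespace Groth.Agent.S16343

/-- Let P be a set of primes and π : A → T a surjection of abelian groups whose kernel is ℓ-divisible
for every ℓ ∈ P, with T a torsion group; let T(P) be the subgroup of elements of T killed by a
positive integer all of whose prime factors lie in P, and T' the subgroup of elements killed by a
positive integer none of whose prime factors lies in P. Then the preimage π⁻¹(T') is ℓ-divisible for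
every ℓ ∈ P, and π has a section s over T(P) for which (d, t) ↦ d + s(t) is a bijection from π⁻¹(T')
× T(P) onto A, so that A is the direct sum of π⁻¹(T') and a copy of T(P). (The decomposition is
expressed through a section of π over T(P).) -/
theorem result
    {A T : Type*} [AddCommGroup A] [AddCommGroup T] (P : Set ℕ) (hP : ∀ p ∈ P, p.Prime)
    (π : A →+ T) (hπ : Function.Surjective π) (hT : ∀ t : T, ∃ n : ℕ, 0 < n ∧ n • t = 0)
    (hD : ∀ ℓ ∈ P, ∀ x ∈ π.ker, ∃ y ∈ π.ker, ℓ • y = x)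
    (TP T' : AddSubgroup T)
    (hTP : ∀ t, t ∈ TP ↔ ∃ n : ℕ, 0 < n ∧ (∀ p : ℕ, p.Prime → p ∣ n → p ∈ P) ∧ n • t = 0)
    (hT' : ∀ t, t ∈ T' ↔ ∃ n : ℕ, 0 < n ∧ (∀ p : ℕ, p.Prime → p ∣ n → p ∉ P) ∧ n • t = 0) :
    (∀ ℓ ∈ P, ∀ x ∈ T'.comap π, ∃ y ∈ T'.comap π, ℓ • y = x) ∧
    ∃ s : TP →+ A, (∀ t : TP, π (s t) = (t : T)) ∧
      Function.Bijective (fun q : (T'.comap π) × TP => (q.1 : A) + s q.2) := by
  have hsum : ∀ t : T, ∃ a ∈ TP, ∃ b ∈ T', a + b = t := by
    intro t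
    obtain ⟨n, hn, hnt⟩ := hT t
    clear hπ
    induction n using Nat.recOnPrimeCoprime generalizing t with
    | zero => omega
    | prime_pow p k hp =>
      by_cases hpP : p ∈ P
      · exact ⟨t, (hTP t).2 ⟨p ^ k, hn, fun q hq hd => ((Nat.prime_dvd_prime_iff_eq hq hp).1 (hq.dvd_of_dvd_pow hd)) ▸ hpP, hnt⟩, 0, T'.zero_mem, add_zero t⟩
      · exact ⟨0, TP.zero_mem, t, (hT' t).2 ⟨p ^ k, hn, fun q hq hd => ((Nat.prime_dvd_prime_iff_eq hq hp).1 (hq.dvd_of_dvd_pow hd)) ▸ hpP, hnt⟩, zero_add t⟩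
    | coprime a b ha hb hab iha ihb =>
      obtain ⟨u, v, huv⟩ := Nat.isCoprime_iff_coprime.2 hab
      obtain ⟨x₁, hx₁, y₁, hy₁, e₁⟩ := iha ((v * (b : ℤ)) • t) (by omega) (by
        rw [← natCast_zsmul, ← mul_smul, show (a : ℤ) * (v * b) = v * ((a * b : ℕ) : ℤ) by push_cast; ring, mul_smul, natCast_zsmul, hnt, smul_zero])
      obtain ⟨x₂, hx₂, y₂, hy₂, e₂⟩ := ihb ((u * (a : ℤ)) • t) (by omega) (by
        rw [← natCast_zsmul, ← mul_smul, show (b : ℤ) * (u * a) = u * ((a * b : ℕ) : ℤ) by push_cast; ring, mul_smul, natCast_zsmul, hnt, smul_zero])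
      refine ⟨x₁ + x₂, TP.add_mem hx₁ hx₂, y₁ + y₂, T'.add_mem hy₁ hy₂, ?_⟩
      rw [add_add_add_comm, e₁, e₂, ← add_smul, add_comm, huv, one_smul]
  have hdisj : ∀ t, t ∈ TP → t ∈ T' → t = 0 := by
    intro t h1 h2
    obtain ⟨a, ha, hap, hat⟩ := (hTP t).1 h1
    obtain ⟨b, hb, hbp, hbt⟩ := (hT' t).1 h2
    have hab : Nat.Coprime a b := Nat.coprime_of_dvd fun q hq hqa hqb => hbp q hq hqb (hap q hq hqa)
    have h3 := AddMonoid.addOrderOf_eq_one_iff (x := t)
    exact h3.1 (Nat.eq_one_of_dvd_coprimes hab (addOrderOf_dvd_of_nsmul_eq_zero hat) (addOrderOf_dvd_of_nsmul_eq_zero hbt))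
  have hdiv : ∀ ℓ ∈ P, ∀ x ∈ T'.comap π, ∃ y ∈ T'.comap π, ℓ • y = x := by
    intro ℓ hℓ x hx
    obtain ⟨n, hn, hnp, hnt⟩ := (hT' _).1 hx
    have hcop : Nat.Coprime ℓ n := (hP ℓ hℓ).coprime_iff_not_dvd.2 fun hd => hnp ℓ (hP ℓ hℓ) hd hℓ
    obtain ⟨u, v, huv⟩ := Nat.isCoprime_iff_coprime.2 hcop
    obtain ⟨a, ha⟩ := hπ (u • π x)
    have hker : x - ℓ • a ∈ π.ker := by
      rw [AddMonoidHom.mem_ker, map_sub, map_nsmul, ha, sub_eq_zero, ← natCast_zsmul, ← mul_smul]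
      conv_lhs => rw [← one_smul ℤ (π x), ← huv, add_smul, mul_smul v, natCast_zsmul, hnt, smul_zero, add_zero, mul_comm]
    obtain ⟨y, hy, hyx⟩ := hD ℓ hℓ _ hker
    refine ⟨a + y, ?_, by rw [smul_add, hyx]; abel⟩
    show π (a + y) ∈ T'
    rw [map_add, AddMonoidHom.mem_ker.1 hy, add_zero, ha]
    exact T'.zsmul_mem hx u
  refine ⟨hdiv, ?_⟩
  let Cs : Set (AddSubgroup A) := {C | C ≤ TP.comap π ∧ ∀ x ∈ C, π x = 0 → x = 0}
  obtain ⟨C, hC⟩ := zorn_le_nonempty₀ Cs (fun c hc hchain C₀ hC₀ => by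
    refine ⟨sSup c, ⟨sSup_le fun D hD => (hc hD).1, fun x hx hx0 => ?_⟩, fun D hD => le_sSup hD⟩
    obtain ⟨D, hD', hxD⟩ := (AddSubgroup.mem_sSup_of_directedOn ⟨C₀, hC₀⟩ hchain.directedOn).1 hx
    exact (hc hD').2 x hxD hx0) ⊥ ⟨bot_le, fun x hx _ => hx⟩
  obtain ⟨⟨hC1, hC2⟩, hmax⟩ := hC.2
  have honto : ∀ n : ℕ, ∀ t : T, 0 < n → (∀ p : ℕ, p.Prime → p ∣ n → p ∈ P) → n • t = 0 → ∃ c ∈ C, π c = t := by
    intro n
    induction n using induction_on_primes with
    | zero => intro t h; omega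
    | one => intro t _ _ h; exact ⟨0, C.zero_mem, by rw [map_zero]; simpa using h.symm⟩
    | prime_mul p m hp ih =>
      intro t hpos hprimes ht
      have hm : 0 < m := Nat.pos_of_mul_pos_left hpos
      have hpP : p ∈ P := hprimes p hp (dvd_mul_right p m)
      obtain ⟨c, hc, hct⟩ := ih (p • t) hm (fun q hq hd => hprimes q hq (hd.mul_left p)) (by rw [← mul_smul, mul_comm]; exact ht)
      obtain ⟨a, rfl⟩ := hπ t
      have hk : p • a - c ∈ π.ker := by rw [AddMonoidHom.mem_ker, map_sub, map_nsmul, hct, sub_self]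
      obtain ⟨d, hd, hpd⟩ := hD p hpP _ hk
      set a' := a - d with ha'
      have hπa : π a' = π a := by rw [ha', map_sub, AddMonoidHom.mem_ker.1 hd, sub_zero]
      have hpa : p • a' = c := by rw [ha', smul_sub, hpd, sub_sub_cancel]
      by_contra hno
      push Not at hno
      have hnew : C ⊔ AddSubgroup.zmultiples a' ∈ Cs := by
        refine ⟨sup_le hC1 (AddSubgroup.zmultiples_le.2 ?_), ?_⟩
        · show π a' ∈ TP
          rw [hπa]
          exact (hTP _).2 ⟨p * m, hpos, hprimes, ht⟩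
        · intro x hx hx0
          obtain ⟨c', hc', z, hz, rfl⟩ := AddSubgroup.mem_sup.1 hx
          obtain ⟨j, rfl⟩ := AddSubgroup.mem_zmultiples_iff.1 hz
          rw [map_add, map_zsmul, hπa] at hx0
          by_cases hpj : (p : ℤ) ∣ j
          · obtain ⟨i, rfl⟩ := hpj
            have hmem : c' + ((p : ℤ) * i) • a' ∈ C := by
              rw [mul_comm, mul_smul, natCast_zsmul, hpa]
              exact C.add_mem hc' (C.zsmul_mem hc i)
            exact hC2 _ hmem (by rw [map_add, map_zsmul, hπa, hx0])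
          · exfalso
            obtain ⟨u, v, huv⟩ := (Prime.coprime_iff_not_dvd (Nat.prime_iff_prime_int.1 hp)).2 hpj
            refine hno (u • c + v • (-c')) (C.add_mem (C.zsmul_mem hc u) (C.zsmul_mem (C.neg_mem hc') v)) ?_
            rw [map_add, map_zsmul, map_zsmul, map_neg, ← eq_neg_of_add_eq_zero_right hx0, hct, ← natCast_zsmul, smul_smul, smul_smul, ← add_smul, huv, one_smul]
      have hle := hmax hnew le_sup_left
      exact hno a' (hle (AddSubgroup.mem_sup_right (AddSubgroup.mem_zmultiples a'))) hπa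
  let q : C →+ TP := (π.comp C.subtype).codRestrict TP (fun c => hC1 c.2)
  have hq : Function.Bijective q := by
    refine ⟨(injective_iff_map_eq_zero q).2 fun c hc => Subtype.ext (hC2 c c.2 (congrArg Subtype.val hc)), fun t => ?_⟩
    obtain ⟨n, hn, hnp, hnt⟩ := (hTP t).1 t.2
    obtain ⟨c, hc, hct⟩ := honto n t hn hnp hnt
    exact ⟨⟨c, hc⟩, Subtype.ext hct⟩
  let s : TP →+ A := C.subtype.comp (AddEquiv.ofBijective q hq).symm.toAddMonoidHom
  have hs : ∀ t : TP, π (s t) = (t : T) := fun t => congrArg Subtype.val ((AddEquiv.ofBijective q hq).apply_symm_apply t)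
  refine ⟨s, hs, ?_, ?_⟩
  · rintro ⟨x₁, t₁⟩ ⟨x₂, t₂⟩ h
    have h' := congrArg π h
    simp only [map_add, hs] at h'
    have ht : (t₁ : T) - t₂ = 0 := hdisj _ (TP.sub_mem t₁.2 t₂.2) (by
      rw [show (t₁ : T) - t₂ = π x₂ - π x₁ by rw [sub_eq_sub_iff_add_eq_add, add_comm, h', add_comm]]
      exact T'.sub_mem x₂.2 x₁.2)
    obtain rfl : t₁ = t₂ := Subtype.ext (sub_eq_zero.1 ht)
    simp only [add_left_inj] at h
    exact Prod.ext (Subtype.ext h) rfl
  · intro a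
    obtain ⟨x, hx, y, hy, hxy⟩ := hsum (π a)
    refine ⟨(⟨a - s ⟨x, hx⟩, ?_⟩, ⟨x, hx⟩), by simp⟩
    show π _ ∈ T'
    rw [map_sub, hs, ← hxy]
    simpa using hy

end Groth.Agent.S16343
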