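import Groth.Statements.S16344
import Mathlib

set_option autoImplicit false
universe u v
open IdeleMod

namespace Groth.Agent.S16344

theorem limit_exists {ι : Type u} [Preorder ι] [IsDirected ι (· ≤ ·)]
    (G : ι → Type v) [∀ i, AddCommGroup (G i)] [∀ i, TopologicalSpace (G i)]
    [∀ i, CompactSpace (G i)] [∀ i, T2Space (G i)]
    (f : ∀ ⦃i j : ι⦄, i ≤ j → (G j →+ G i)) (hf : ∀ i j (h : i ≤ j), Continuous (f h))
    (hcomp : ∀ i j k (hij : i ≤ j) (hjk : j ≤ k) (x : G k), f hij (f hjk x) = f (hij.trans hjk) x)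
    (hid : ∀ i (x : G i), f (le_refl i) x = x)
    (S : ∀ i, Set (G i)) (hS : ∀ i, IsClosed (S i)) (hne : ∀ i, (S i).Nonempty)
    (hmap : ∀ i j (h : i ≤ j), Set.MapsTo (f h) (S j) (S i)) :
    ∃ z : ∀ i, G i, (∀ i j (h : i ≤ j), f h (z j) = z i) ∧ ∀ i, z i ∈ S i := by
  classical
  rcases isEmpty_or_nonempty ι with hι | hι
  · exact ⟨isEmptyElim, isEmptyElim, isEmptyElim⟩
  let E : ι → Set (∀ i, G i) := fun k => {z | z k ∈ S k ∧ ∀ i (h : i ≤ k), f h (z k) = z i}
  have hclosed : ∀ k, IsClosed (E k) := fun k => by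
    have : E k = (fun z : ∀ i, G i => z k) ⁻¹' S k ∩ ⋂ (i : ι) (h : i ≤ k), {z : ∀ i, G i | f h (z k) = z i} := by
      ext z; simp [E]
    rw [this]
    exact ((hS k).preimage (continuous_apply k)).inter (isClosed_iInter fun i => isClosed_iInter fun h =>
      isClosed_eq ((hf i k h).comp (continuous_apply k)) (continuous_apply i))
  have hnE : ∀ k, (E k).Nonempty := by
    intro k
    obtain ⟨x, hx⟩ := hne k
    refine ⟨fun i => if h : i ≤ k then f h x else 0, ?_, fun i h => ?_⟩
    · show (if h : k ≤ k then f h x else 0) ∈ S k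
      rw [dif_pos le_rfl, hid]; exact hx
    · show f h (if h : k ≤ k then f h x else 0) = if h : i ≤ k then f h x else 0
      rw [dif_pos le_rfl, dif_pos h, hid]
  have hdir : Directed (· ⊇ ·) E := by
    intro a b
    obtain ⟨c, hac, hbc⟩ := exists_ge_ge a b
    have key : ∀ a, a ≤ c → E c ⊆ E a := by
      rintro a hac z ⟨hz, hz'⟩
      refine ⟨hz' a hac ▸ hmap a c hac hz, fun i hi => ?_⟩
      rw [← hz' a hac, hcomp, hz']
    exact ⟨c, key a hac, key b hbc⟩
  obtain ⟨z, hz⟩ := IsCompact.nonempty_iInter_of_directed_nonempty_isCompact_isClosed E hdir hnE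
    (fun k => (hclosed k).isCompact) hclosed
  rw [Set.mem_iInter] at hz
  exact ⟨z, fun i j h => (hz j).2 i h, fun i => (hz i).1⟩

/-- Let (G_i) be an inverse system, indexed by a directed preorder, of compact Hausdorff topological
abelian groups with continuous surjective transition maps, let G be its limit (the group of
compatible families) and let m be a natural number. Then the canonical map G/mG → lim G_i/mG_i is
bijective: a compatible family that lies in mG_i at every index is m times a compatible family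
(injectivity), and every family that is compatible modulo m agrees modulo m, index by index, with a
compatible family (surjectivity). -/
theorem result
    {ι : Type u} [Preorder ι] [IsDirected ι (· ≤ ·)]
    (G : ι → Type v) [∀ i, AddCommGroup (G i)] [∀ i, TopologicalSpace (G i)]
    [∀ i, IsTopologicalAddGroup (G i)] [∀ i, CompactSpace (G i)] [∀ i, T2Space (G i)]
    (f : ∀ ⦃i j : ι⦄, i ≤ j → (G j →+ G i)) (hf : ∀ i j (h : i ≤ j), Continuous (f h))
    (hid : ∀ i (x : G i), f (le_refl i) x = x)
    (hcomp : ∀ i j k (hij : i ≤ j) (hjk : j ≤ k) (x : G k), f hij (f hjk x) = f (hij.trans hjk) x)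
    (hsurj : ∀ i j (h : i ≤ j), Function.Surjective (f h)) (m : ℕ) :
    (∀ x : ∀ i, G i, (∀ i j (h : i ≤ j), f h (x j) = x i) → (∀ i, ∃ y : G i, m • y = x i) →
        ∃ z : ∀ i, G i, (∀ i j (h : i ≤ j), f h (z j) = z i) ∧ ∀ i, m • z i = x i) ∧
    (∀ y : ∀ i, G i, (∀ i j (h : i ≤ j), ∃ w : G i, f h (y j) - y i = m • w) →
        ∃ x : ∀ i, G i, (∀ i j (h : i ≤ j), f h (x j) = x i) ∧ ∀ i, ∃ w : G i, x i - y i = m • w) := by
  constructor
  · intro x hx hdiv
    exact limit_exists G f hf hcomp hid (fun i => {y | m • y = x i})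
      (fun i => isClosed_eq (continuous_nsmul m) continuous_const) hdiv
      (fun i j h y hy => by show m • f h y = x i; rw [← map_nsmul, show m • y = x j from hy, hx i j h])
  · intro y hy
    obtain ⟨z, hz1, hz2⟩ := limit_exists G f hf hcomp hid (fun i => {z | ∃ w : G i, z - y i = m • w})
      (fun i => by
        have : {z : G i | ∃ w : G i, z - y i = m • w} = (fun z => z - y i) ⁻¹' Set.range (fun w : G i => m • w) := by
          ext z; simp [eq_comm]
        rw [this]
        exact ((isCompact_range (continuous_nsmul m)).isClosed).preimage (by fun_prop))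
      (fun i => ⟨y i, 0, by simp⟩)
      (fun i j h z ⟨w, hw⟩ => by
        obtain ⟨w', hw'⟩ := hy i j h
        refine ⟨f h w + w', ?_⟩
        rw [smul_add, ← map_nsmul, ← hw, ← hw', map_sub]
        abel)
    exact ⟨z, hz1, hz2⟩

end Groth.Agent.S16344
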