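import Groth.Statements.S16345
import Groth.Agent.Lib.AffCompl.Compl
import Groth.Agent.Lib.VB17.Setup
import Groth.Agent.Lib.SmoothReg17.Basic
import Groth.Agent.S2768

set_option autoImplicit false
universe u
open KatoHom

namespace Groth.Agent.S16345

open AlgebraicGeometry CategoryTheory in
/-- Let X be a connected scheme, proper and smooth of relative dimension d ≥ 2 over a field L, and let D
⊆ X be a closed subscheme, smooth of relative dimension d − 1 over L (a smooth divisor), whose
complement in X is an affine open subset. Then D is connected (in particular non-empty). -/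
theorem result
    {L : Type u} [Field L] {X D : Scheme.{u}} (f : X ⟶ Spec (CommRingCat.of L)) (i : D ⟶ X)
    [IsProper f] (d : ℕ) (hd : 1 < d) [SmoothOfRelativeDimension d f]
    [IsClosedImmersion i] [SmoothOfRelativeDimension (d - 1) (i ≫ f)]
    [ConnectedSpace X] (U : X.Opens) (hU : IsAffineOpen U)
    (hDU : Set.range i.base = (U : Set X)ᶜ) : ConnectedSpace D := by
  haveI : Smooth f := SmoothOfRelativeDimension.smooth (n := d) (f := f)
  haveI : IsLocallyNoetherian X := LocallyOfFiniteType.isLocallyNoetherian f
  haveI : CompactSpace X := QuasiCompact.compactSpace_of_compactSpace f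
  haveI : IsNoetherian X := {}
  haveI : IsIntegral X :=
    Groth.Agent.VB17.isIntegral_of_connected fun x => Groth.Agent.SmoothReg17.isDomain_stalk f x
  have hdim : (2 : WithBot ℕ∞) ≤ topologicalKrullDim X := by
    obtain ⟨x⟩ : Nonempty X := inferInstance
    have h := Groth.Agent.S2768.result d f x
    have h1 : FlatMor.fibreDimAt f x ≤ topologicalKrullDim X :=
      (iInf_le _ ⟨⊤, trivial⟩).trans
        (((f.fiberι (f.base x)).isEmbedding.comp Topology.IsEmbedding.subtypeVal).isInducing.topologicalKrullDim_le)
    rw [h] at h1
    exact le_trans (by exact_mod_cast hd) h1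
  have hc : _root_.IsConnected (Set.range i.base) := by
    rw [hDU]
    rcases (U : Set X).eq_empty_or_nonempty with h | h
    · rw [h, Set.compl_empty]
      exact isConnected_univ
    · exact Groth.Agent.AffCompl.isConnected_compl_affineOpen f hdim hU h
  haveI : ConnectedSpace (Set.range i.base) := isConnected_iff_connectedSpace.1 hc
  have e := i.isEmbedding.toHomeomorph
  exact e.symm.surjective.connectedSpace e.symm.continuous

end Groth.Agent.S16345
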