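import Groth.Statements.S16346
import Mathlib

set_option autoImplicit false
universe u v
open KatoHom

namespace Groth.Agent.S16346

/-- Let P be a set of primes and I_P the set of positive integers all of whose prime factors lie in P.
Let A be an abelian group, (B_n)_{n ∈ I_P} an inverse system of abelian groups with transition maps
B_n → B_m for m ∣ n, and φ_n : A → B_n homomorphisms vanishing on nA and compatible with the
transition maps, so that they induce φ̂ : Â → B̂ on the limits Â = lim A/nA and B̂ = lim B_n (limits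
taken as compatible families). Suppose some N ∈ I_P kills the torsion subgroup of B̂ and kills the
kernel of φ̂ (the latter meaning: a compatible family of residues (a_n) with φ_n(a_n) = 0 for all n
has N a_n ∈ nA for all n). Then the subgroup ⋂_{n ∈ I_P} nA is ℓ-divisible for every ℓ ∈ P, and it
contains every subgroup of A that is ℓ-divisible for all ℓ ∈ P; that is, it is the largest
P-divisible subgroup of A. -/
theorem result
    {A : Type u} [AddCommGroup A] (P : Set ℕ) (hP : ∀ p ∈ P, p.Prime)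
    (IP : Set ℕ) (hIP : ∀ n, n ∈ IP ↔ 0 < n ∧ ∀ p : ℕ, p.Prime → p ∣ n → p ∈ P)
    (B : IP → Type v) [∀ n, AddCommGroup (B n)]
    (g : ∀ ⦃m n : IP⦄, (m : ℕ) ∣ (n : ℕ) → (B n →+ B m))
    (hgid : ∀ (n : IP) (b : B n), g (dvd_refl (n : ℕ)) b = b)
    (hgcomp : ∀ (k m n : IP) (hkm : (k : ℕ) ∣ (m : ℕ)) (hmn : (m : ℕ) ∣ (n : ℕ)) (b : B n),
      g hkm (g hmn b) = g (hkm.trans hmn) b)
    (φ : ∀ n : IP, A →+ B n) (hφ : ∀ (n : IP) (a : A), φ n ((n : ℕ) • a) = 0)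
    (hφg : ∀ (m n : IP) (h : (m : ℕ) ∣ (n : ℕ)) (a : A), g h (φ n a) = φ m a)
    (N : ℕ) (hN : N ∈ IP)
    (htor : ∀ b : ∀ n : IP, B n, (∀ (m n : IP) (h : (m : ℕ) ∣ (n : ℕ)), g h (b n) = b m) →
      (∃ k : ℕ, 0 < k ∧ ∀ n, k • b n = 0) → ∀ n, N • b n = 0)
    (hker : ∀ a : IP → A, (∀ m n : IP, (m : ℕ) ∣ (n : ℕ) → ∃ c : A, a n - a m = (m : ℕ) • c) →
      (∀ n, φ n (a n) = 0) → ∀ n : IP, ∃ c : A, N • a n = (n : ℕ) • c) :
    (∀ ℓ ∈ P, ∀ x : A, (∀ n ∈ IP, ∃ y : A, x = n • y) →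
        ∃ y : A, (∀ n ∈ IP, ∃ z : A, y = n • z) ∧ ℓ • y = x) ∧
    (∀ H : AddSubgroup A, (∀ ℓ ∈ P, ∀ x ∈ H, ∃ y ∈ H, ℓ • y = x) →
        ∀ x ∈ H, ∀ n ∈ IP, ∃ y : A, x = n • y) := by
  refine ⟨fun ℓ hℓ x hx => ?_, fun H hH x hx n hn => ?_⟩
  · have hmul : ∀ a b, a ∈ IP → b ∈ IP → a * b ∈ IP := by
      intro a b ha hb
      rw [hIP] at ha hb ⊢
      exact ⟨Nat.mul_pos ha.1 hb.1, fun p hp hd => (hp.dvd_mul.1 hd).elim (ha.2 p hp) (hb.2 p hp)⟩
    have hℓ' : ℓ ∈ IP := (hIP ℓ).2 ⟨(hP ℓ hℓ).pos, fun p hp hd => ((Nat.prime_dvd_prime_iff_eq hp (hP ℓ hℓ)).1 hd) ▸ hℓ⟩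
    obtain ⟨w, hw⟩ := hx (ℓ * (N * N)) (hmul _ _ hℓ' (hmul _ _ hN hN))
    refine ⟨(N * N) • w, fun n hn => ?_, by rw [← mul_smul, ← hw]⟩
    have hNpos := ((hIP N).1 hN).1
    have hb : ∀ i : IP, N • φ i w = 0 := htor (fun i => φ i w) (fun i j h => hφg i j h w)
      ⟨ℓ * (N * N), Nat.mul_pos (hP ℓ hℓ).pos (Nat.mul_pos hNpos hNpos), fun i => by
        obtain ⟨y, hy⟩ := hx i i.2
        rw [← map_nsmul, ← hw, hy, hφ]⟩
    obtain ⟨c, hc⟩ := hker (fun _ => N • w) (fun _ _ _ => ⟨0, by simp⟩) (fun i => by rw [map_nsmul, hb]) ⟨n, hn⟩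
    exact ⟨c, by rw [mul_smul]; exact hc⟩
  · obtain ⟨hn0, hnP⟩ := (hIP n).1 hn
    clear hn
    suffices ∃ y ∈ H, x = n • y from ⟨this.choose, this.choose_spec.2⟩
    induction n using induction_on_primes generalizing x with
    | zero => omega
    | one => exact ⟨x, hx, (one_smul ℕ x).symm⟩
    | prime_mul p m hp ih =>
      obtain ⟨y, hy, rfl⟩ := hH p (hnP p hp (dvd_mul_right p m)) x hx
      obtain ⟨z, hz, rfl⟩ := ih y hy (Nat.pos_of_mul_pos_left hn0) (fun q hq hd => hnP q hq (hd.mul_left p))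
      exact ⟨z, hz, by rw [mul_smul]⟩

end Groth.Agent.S16346
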