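import Groth.Statements.S16351
import Mathlib

set_option autoImplicit false
universe u
open Cubic

namespace Groth.Agent.S16351
open Finset

/-- Let K be a field of characteristic zero and S = V(F) ⊂ P^3_K a cone over a plane cubic curve C,
normalised so that the vertex is [1 : 0 : 0 : 0], i.e. F is a homogeneous cubic in K[x_0, …, x_3]
not involving x_0 and C = V(F) in the plane P^2 of the coordinates x_1, x_2, x_3. If C has five
K-rational points no three of which are collinear, then S has five K-rational points in general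
position (no four coplanar: any four representing vectors linearly independent). -/
theorem result (K : Type u) [Field K] [CharZero K]
    (G : MvPolynomial (Fin 3) K) (hG : G.IsHomogeneous 3) (F : MvPolynomial (Fin 4) K)
    (hF : F = MvPolynomial.rename Fin.succ G)
    (b : Fin 5 → (Fin 3 → K)) (hb : ∀ j : Fin 5, MvPolynomial.eval (b j) G = 0)
    (h3 : ∀ i j l : Fin 5, i ≠ j → j ≠ l → i ≠ l → LinearIndependent K ![b i, b j, b l]) :
    ∃ p : Fin 5 → (Fin 4 → K), (∀ j : Fin 5, MvPolynomial.eval (p j) F = 0) ∧
      ∀ j : Fin 5, LinearIndependent K (fun i : Fin 4 => p (j.succAbove i)) := by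
  have hdep : ∀ j : Fin 5, ∃ γ : Fin 4 → K, (∑ i, γ i • b (j.succAbove i) = 0) ∧ γ ≠ 0 := fun j => by
    have : ¬ LinearIndependent K (fun i : Fin 4 => b (j.succAbove i)) := fun h => by
      have := h.fintype_card_le_finrank
      simp at this
    obtain ⟨γ, h0, i, hi⟩ := Fintype.not_linearIndependent_iff.1 this
    exact ⟨γ, h0, fun hh => hi (congrFun hh i)⟩
  choose γ hγ hγ0 using hdep
  have hline : ∀ j : Fin 5, ∀ c : Fin 4 → K, ∑ i, c i • b (j.succAbove i) = 0 → c 0 = 0 → c = 0 := fun j c hc hc0 => by
    have h := Fintype.linearIndependent_iff.1 (h3 (j.succAbove 1) (j.succAbove 2) (j.succAbove 3)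
      (by simp [Fin.succAbove_right_inj]) (by simp [Fin.succAbove_right_inj]) (by simp [Fin.succAbove_right_inj]))
      ![c 1, c 2, c 3] (by
        rw [Fin.sum_univ_four, hc0, zero_smul, zero_add] at hc
        simpa [Fin.sum_univ_three] using hc)
    funext i
    fin_cases i
    · exact hc0
    · exact h 0
    · exact h 1
    · exact h 2
  let W : Fin 5 → Subspace K (Fin 5 → K) := fun j =>
    LinearMap.ker (∑ i, γ j i • (LinearMap.proj (j.succAbove i) : (Fin 5 → K) →ₗ[K] K))
  have hW : ∀ j, W j ≠ ⊤ := fun j hh => by
    obtain ⟨i, hi⟩ : ∃ i, γ j i ≠ 0 := by by_contra hc; push Not at hc; exact hγ0 j (funext hc)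
    have : (Pi.single (j.succAbove i) 1 : Fin 5 → K) ∈ W j := by rw [hh]; trivial
    simp only [W, LinearMap.mem_ker, LinearMap.sum_apply, LinearMap.smul_apply, LinearMap.proj_apply, smul_eq_mul] at this
    rw [Finset.sum_eq_single i (fun l _ hl => by rw [Pi.single_eq_of_ne (fun e => hl (Fin.succAbove_right_injective e)), mul_zero]) (by simp),
      Pi.single_eq_same, mul_one] at this
    exact hi this
  obtain ⟨t, ht⟩ : ∃ t, ∀ j, t ∉ W j := by
    by_contra hc; push Not at hc
    obtain ⟨j, hj⟩ := Subspace.exists_eq_top_of_iUnion_eq_univ (p := W) (Set.eq_univ_of_forall fun t => Set.mem_iUnion.2 (hc t))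
    exact hW j hj
  refine ⟨fun j => Fin.cons (t j) (b j), fun j => ?_, fun j => ?_⟩
  · rw [hF, MvPolynomial.eval_rename]; simpa using hb j
  · rw [Fintype.linearIndependent_iff]
    intro c hc
    have hcb : ∑ i, c i • b (j.succAbove i) = 0 := funext fun q => by
      simpa [Finset.sum_apply] using congrFun hc q.succ
    have hct : ∑ i, c i * t (j.succAbove i) = 0 := by
      simpa [Finset.sum_apply] using congrFun hc 0
    have hg0 : γ j 0 ≠ 0 := fun h => hγ0 j (hline j _ (hγ j) h)
    have hz : γ j 0 • c - c 0 • γ j = 0 := hline j _ (by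
      simp only [Pi.sub_apply, Pi.smul_apply, smul_eq_mul, sub_smul, mul_smul, sum_sub_distrib, ← smul_sum, hcb, hγ, smul_zero, sub_zero])
      (by simp [mul_comm])
    have h1 : c 0 * ∑ i, γ j i * t (j.succAbove i) = 0 := by
      calc _ = ∑ i, γ j 0 * (c i * t (j.succAbove i)) := by
            rw [mul_sum]
            refine sum_congr rfl fun i _ => ?_
            have := congrFun hz i
            simp only [Pi.sub_apply, Pi.smul_apply, smul_eq_mul, Pi.zero_apply] at this
            linear_combination -t (j.succAbove i) * this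
        _ = 0 := by rw [← mul_sum, hct, mul_zero]
    have hne : ∑ i, γ j i * t (j.succAbove i) ≠ 0 := fun h => ht j (by simpa [W] using h)
    have hc0 := (mul_eq_zero.1 h1).resolve_right hne
    exact fun i => congrFun (hline j c hcb hc0) i


end Groth.Agent.S16351
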