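import Groth.Statements.S16352
import Groth.Agent.Lib.PfaffH28.SingLines

set_option autoImplicit false
universe u
open Cubic

namespace Groth.Agent.S16352

/-- Let K be an algebraically closed field of characteristic zero and S = V(F) ⊂ P^3_K a cubic surface
which is irreducible and not a cone (no nonzero vector v has Σ_i v_i ∂F/∂x_i = 0). Let a be a smooth
point of S which is not a T-point: with ℓ = Σ_i ∂F/∂x_i(a) · x_i the (nonzero) linear form of the
tangent plane T_a S, F is not congruent modulo ℓ to a product of three linear forms (i.e. T_a S ∩ S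
is not set-theoretically a union of lines). Let P = Σ_i a_i ∂F/∂x_i be the first polar of a. Then
V(P) ∩ T_a S is a union of at most two lines through a, and every line through a lying on S lies in
V(P) ∩ T_a S; lines are 2-dimensional subspaces of K^4 and T_a S is the 3-dimensional subspace where
ℓ vanishes. -/
theorem result (K : Type u) [Field K] [IsAlgClosed K] [CharZero K]
    (F : MvPolynomial (Fin 4) K) (hF : F.IsHomogeneous 3) (hirr : Irreducible F)
    (hcone : ¬ ∃ v : Fin 4 → K, v ≠ 0 ∧ ∑ i : Fin 4, v i • MvPolynomial.pderiv i F = 0)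
    (a : Fin 4 → K) (ha : a ≠ 0) (hFa : MvPolynomial.eval a F = 0)
    (hsm : ∃ i : Fin 4, MvPolynomial.eval a (MvPolynomial.pderiv i F) ≠ 0)
    (ℓ : MvPolynomial (Fin 4) K)
    (hℓ : ℓ = ∑ i : Fin 4, MvPolynomial.C (MvPolynomial.eval a (MvPolynomial.pderiv i F)) * MvPolynomial.X i)
    (hT : ¬ ∃ L₁ L₂ L₃ : MvPolynomial (Fin 4) K, L₁.IsHomogeneous 1 ∧ L₂.IsHomogeneous 1 ∧ L₃.IsHomogeneous 1 ∧
      F - L₁ * L₂ * L₃ ∈ Ideal.span {ℓ})
    (P : MvPolynomial (Fin 4) K) (hP : P = ∑ i : Fin 4, a i • MvPolynomial.pderiv i F)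
    (H : Submodule K (Fin 4 → K)) (hH : ∀ x : Fin 4 → K, x ∈ H ↔ MvPolynomial.eval x ℓ = 0) :
    (∃ U₁ U₂ : Submodule K (Fin 4 → K), Module.finrank K ↥U₁ = 2 ∧ Module.finrank K ↥U₂ = 2 ∧ a ∈ U₁ ∧ a ∈ U₂ ∧
        U₁ ≤ H ∧ U₂ ≤ H ∧ {x : Fin 4 → K | x ∈ H ∧ MvPolynomial.eval x P = 0} = (U₁ : Set (Fin 4 → K)) ∪ (U₂ : Set (Fin 4 → K))) ∧
      ∀ U : Submodule K (Fin 4 → K), a ∈ U → Module.finrank K ↥U = 2 → (∀ u ∈ U, MvPolynomial.eval u F = 0) →
        U ≤ H ∧ ∀ u ∈ U, MvPolynomial.eval u P = 0 := by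
  have hlin : ∀ x, MvPolynomial.eval x ℓ = CubicH28.T F a a x / 2 := fun x => by
    rw [← CubicH28.pderiv_eq hF a x, hℓ]
    simp [mul_comm]
  obtain ⟨i, hi⟩ := hsm
  have hx₀ : CubicH28.T F a a (Pi.single i (MvPolynomial.eval a (MvPolynomial.pderiv i F))⁻¹) ≠ 0 := by
    have h := CubicH28.pderiv_eq hF a (Pi.single i (MvPolynomial.eval a (MvPolynomial.pderiv i F))⁻¹)
    intro h0
    rw [h0] at h
    simp [Pi.single_apply, hi] at h
  have hnp : ¬ PfaffH28.IsProd F a := by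
    rintro ⟨L₁, L₂, L₃, hL⟩
    refine hT ⟨∑ j, MvPolynomial.C (L₁ (Pi.single j 1)) * MvPolynomial.X j,
      ∑ j, MvPolynomial.C (L₂ (Pi.single j 1)) * MvPolynomial.X j,
      ∑ j, MvPolynomial.C (L₃ (Pi.single j 1)) * MvPolynomial.X j, ?_, ?_, ?_,
      PfaffH28.mem_span_of_vanish ℓ _ (fun j => MvPolynomial.eval a (MvPolynomial.pderiv j F)) hℓ
        (Pi.single i (MvPolynomial.eval a (MvPolynomial.pderiv i F))⁻¹) (by simp [Pi.single_apply, hi]) ?_⟩
    · exact MvPolynomial.IsHomogeneous.sum _ _ _ fun j _ => (MvPolynomial.isHomogeneous_X K j).C_mul _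
    · exact MvPolynomial.IsHomogeneous.sum _ _ _ fun j _ => (MvPolynomial.isHomogeneous_X K j).C_mul _
    · exact MvPolynomial.IsHomogeneous.sum _ _ _ fun j _ => (MvPolynomial.isHomogeneous_X K j).C_mul _
    · intro P hP
      rw [hlin] at hP
      have e : ∀ L : (Fin 4 → K) →ₗ[K] K, L P = ∑ j, L (Pi.single j 1) * P j := fun L => by
        conv_lhs => rw [pi_eq_sum_univ' P, map_sum]
        exact Finset.sum_congr rfl fun j _ => by rw [map_smul, smul_eq_mul, mul_comm]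
      have h := hL P (by simpa using hP)
      rw [e L₁, e L₂, e L₃] at h
      simp [h]
  obtain ⟨⟨U₁, U₂, d1, d2, a1, a2, s1, s2, hset⟩, hlines⟩ :=
    PfaffH28.polar_section F hF a ha hFa _ hx₀ hnp
  have hH' : ∀ x, x ∈ H ↔ CubicH28.T F a a x = 0 := fun x => by rw [hH, hlin]; simp
  have hPv : ∀ x, MvPolynomial.eval x P = 0 ↔ CubicH28.T F x x a = 0 := fun x => by
    rw [hP, show (∑ i, a i • MvPolynomial.pderiv i F) = PfaffH28.Qv F a from rfl, PfaffH28.eval_Qv F hF]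
    simp
  refine ⟨⟨U₁, U₂, d1, d2, a1, a2, fun x hx => (hH' x).2 (s1 x hx), fun x hx => (hH' x).2 (s2 x hx), ?_⟩,
    fun U hU hU2 hUF => ⟨fun u hu => (hH' u).2 (hlines U hU hU2 hUF u hu).1,
      fun u hu => (hPv u).2 (hlines U hU hU2 hUF u hu).2⟩⟩
  rw [← hset]
  ext x
  simp [hH', hPv]

end Groth.Agent.S16352
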