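import Groth.Statements.S16353
import Mathlib.RingTheory.MvPolynomial.Homogeneous
import Mathlib.Data.Nat.Factorial.Basic
import Mathlib.Tactic

set_option autoImplicit false
universe u
open DegLoci

namespace Groth.Agent.S16353

open MvPolynomial in
lemma coeff_contract {k : Type*} [CommSemiring k] {m : ℕ} (D G : MvPolynomial (Fin m) k) (δ : Fin m →₀ ℕ) :
    coeff δ (W4c3degenlocivb.contract D G) = ∑ α ∈ D.support,
      coeff α D * coeff (α + δ) G * ((∏ i, Nat.descFactorial (α i + δ i) (α i) : ℕ) : k) := by
  classical
  simp only [W4c3degenlocivb.contract, coeff_sum]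
  refine Finset.sum_congr rfl fun α _ => ?_
  have hterm : ∀ β : Fin m →₀ ℕ, coeff δ (if α ≤ β then monomial (β - α)
      (coeff α D * coeff β G * ((β.support.prod fun i => Nat.descFactorial (β i) (α i) : ℕ) : k)) else 0) =
      if β = α + δ then coeff α D * coeff β G * ((β.support.prod fun i => Nat.descFactorial (β i) (α i) : ℕ) : k) else 0 := by
    intro β
    by_cases h : α ≤ β
    · rw [if_pos h, coeff_monomial]
      exact if_congr ⟨fun e => by rw [← e, add_tsub_cancel_of_le h], fun e => by rw [e, add_tsub_cancel_left]⟩ rfl rfl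
    · rw [if_neg h, coeff_zero, if_neg]
      exact fun e => h (e ▸ le_self_add)
  simp only [hterm, Finset.sum_ite_eq']
  by_cases h : α + δ ∈ G.support
  · rw [if_pos h]
    congr 2
    rw [Finset.prod_subset (Finset.subset_univ _) fun i _ hi => by
      simp only [Finsupp.mem_support_iff, not_not, Finsupp.add_apply] at hi
      rw [show α i = 0 by omega, Nat.descFactorial_zero]]
    exact Finset.prod_congr rfl fun i _ => by rw [Finsupp.add_apply]
  · rw [if_neg h, notMem_support_iff.mp h, mul_zero, zero_mul]

lemma desc_mul (a b : ℕ) : Nat.descFactorial (b + a) b * a.factorial = Nat.descFactorial (a + b) a * b.factorial := by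
  have h1 := Nat.factorial_mul_descFactorial (n := b + a) (k := b) (by omega)
  have h2 := Nat.factorial_mul_descFactorial (n := a + b) (k := a) (by omega)
  rw [Nat.add_sub_cancel_left] at h1 h2
  rw [mul_comm, h1, mul_comm, h2, add_comm]

/-- Let k be a field of characteristic zero, R = k[y_0, …, y_{m−1}] acting on S = k[∂_0, …, ∂_{m−1}] by
apolarity (y_i acts as the derivative with respect to ∂_i), F ∈ S homogeneous of degree e and d ≤ e.
Then the degree-d part of the apolar ideal of F is the orthogonal complement of the partial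
derivatives of F of order e − d: a homogeneous D ∈ R_d satisfies D(F) = 0 if and only if D(y^α(F)) =
0 for every multi-index α with |α| = e − d (each D(y^α(F)) being a constant, the value of the
apolarity pairing of D with y^α(F)). -/
theorem result (k : Type u) [Field k] [CharZero k] (m : ℕ)
    (F : MvPolynomial (Fin m) k) (e : ℕ) (hF : F.IsHomogeneous e) (d : ℕ) (hd : d ≤ e)
    (D : MvPolynomial (Fin m) k) (hD : D.IsHomogeneous d) :
    W4c3degenlocivb.contract D F = 0 ↔
      ∀ α : Fin m →₀ ℕ, α.degree = e - d → W4c3degenlocivb.contract D (W4c3degenlocivb.contract (MvPolynomial.monomial α 1) F) = 0 := by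
  classical
  have key : ∀ (γ δ : Fin m →₀ ℕ), MvPolynomial.coeff δ (W4c3degenlocivb.contract D (W4c3degenlocivb.contract (MvPolynomial.monomial γ 1) F)) =
      ∑ α ∈ D.support, MvPolynomial.coeff α D * (MvPolynomial.coeff (γ + (α + δ)) F *
        ((∏ i, Nat.descFactorial (γ i + (α + δ) i) (γ i) : ℕ) : k)) * ((∏ i, Nat.descFactorial (α i + δ i) (α i) : ℕ) : k) := by
    intro γ δ
    rw [coeff_contract]
    refine Finset.sum_congr rfl fun α _ => ?_
    rw [coeff_contract, MvPolynomial.support_monomial, if_neg one_ne_zero, Finset.sum_singleton,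
      MvPolynomial.coeff_monomial, if_pos rfl, one_mul]
  have hdeg : ∀ α ∈ D.support, α.degree = d := fun α hα => by
    have := hD (MvPolynomial.mem_support_iff.mp hα); rwa [Finsupp.degree_eq_weight_one]
  have hF0 : ∀ β : Fin m →₀ ℕ, β.degree ≠ e → MvPolynomial.coeff β F = 0 := fun β hβ => hF.coeff_eq_zero hβ
  have h0 : ∀ γ : Fin m →₀ ℕ, MvPolynomial.coeff 0 (W4c3degenlocivb.contract D (W4c3degenlocivb.contract (MvPolynomial.monomial γ 1) F)) =
      ((∏ i, (γ i).factorial : ℕ) : k) * MvPolynomial.coeff γ (W4c3degenlocivb.contract D F) := by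
    intro γ
    rw [key, coeff_contract, Finset.mul_sum]
    refine Finset.sum_congr rfl fun α _ => ?_
    have h : (∏ i, Nat.descFactorial (γ i + α i) (γ i)) * (∏ i, Nat.descFactorial (α i) (α i)) =
        (∏ i, (γ i).factorial) * ∏ i, Nat.descFactorial (α i + γ i) (α i) := by
      rw [← Finset.prod_mul_distrib, ← Finset.prod_mul_distrib]
      exact Finset.prod_congr rfl fun i _ => by rw [Nat.descFactorial_self, desc_mul (α i) (γ i), mul_comm]
    have h' := congrArg (Nat.cast : ℕ → k) h
    push_cast at h'
    simp only [add_zero, Finsupp.coe_zero, Pi.zero_apply, add_comm α γ]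
    push_cast
    linear_combination MvPolynomial.coeff α D * MvPolynomial.coeff (γ + α) F * h'
  refine ⟨fun h γ hγ => MvPolynomial.ext _ _ fun δ => ?_, fun h => MvPolynomial.ext _ _ fun γ => ?_⟩
  · rw [MvPolynomial.coeff_zero]
    by_cases hδ : δ = 0
    · rw [hδ, h0, h, MvPolynomial.coeff_zero, mul_zero]
    · rw [key]
      refine Finset.sum_eq_zero fun α hα => ?_
      rw [hF0, zero_mul, mul_zero, zero_mul]
      rw [map_add, map_add, hdeg α hα, hγ]
      have : δ.degree ≠ 0 := fun h0' => hδ ((Finsupp.degree_eq_zero_iff δ).mp h0')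
      omega
  · rw [MvPolynomial.coeff_zero]
    by_cases hγ : γ.degree = e - d
    · have := h0 γ
      rw [h γ hγ, MvPolynomial.coeff_zero] at this
      refine (mul_eq_zero.mp this.symm).resolve_left (Nat.cast_ne_zero.mpr ?_)
      exact Finset.prod_ne_zero_iff.mpr fun i _ => (γ i).factorial_ne_zero
    · rw [coeff_contract]
      refine Finset.sum_eq_zero fun α hα => ?_
      rw [hF0, mul_zero, zero_mul]
      rw [map_add, hdeg α hα]
      omega

end Groth.Agent.S16353
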