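import Groth.Statements.S16354
import Groth.Agent.Lib.PfaffH28.Deg3

set_option autoImplicit false
universe u
open Cubic

namespace Groth.Agent.S16354

/-- Let k be a subfield of ℝ (a field equipped with an embedding into the reals) and S = V(F) ⊂ P^3 the
cubic surface of a homogeneous cubic F ∈ k[x_0, …, x_3] which is geometrically irreducible and not a
cone (no nonzero vector v has Σ_i v_i ∂F/∂x_i = 0). Then S admits a linear Pfaffian representation
over a real intermediate field k ⊆ E ⊆ ℝ of degree [E : k] ≤ 3. A linear Pfaffian representation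
over E is a 6 × 6 alternating matrix M of linear forms in E[x_0, …, x_3] whose Pfaffian is a nonzero
constant multiple of F; since the determinant of an alternating matrix is the square of its Pfaffian
and the polynomial ring is factorial with no nonconstant units, this is the same as det M = c · F^2
for a nonzero constant c, which is how it is written here. -/
theorem result (k : Type u) [Field k] [Algebra k ℝ]
    (F : MvPolynomial (Fin 4) k) (hF : F.IsHomogeneous 3)
    (hirr : Irreducible (MvPolynomial.map (algebraMap k (AlgebraicClosure k)) F))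
    (hcone : ¬ ∃ v : Fin 4 → k, v ≠ 0 ∧ ∑ i : Fin 4, v i • MvPolynomial.pderiv i F = 0) :
    ∃ E : IntermediateField k ℝ, FiniteDimensional k ↥E ∧ Module.finrank k ↥E ≤ 3 ∧
      ∃ M : Matrix (Fin 6) (Fin 6) (MvPolynomial (Fin 4) ↥E), (∀ i j, (M i j).IsHomogeneous 1) ∧ M.transpose = -M ∧ (∀ i, M i i = 0) ∧
        ∃ c : ↥E, c ≠ 0 ∧ M.det = MvPolynomial.C c * (MvPolynomial.map (algebraMap k ↥E) F) ^ 2 := by
  haveI : CharZero k := (algebraMap k ℝ).charZero_iff (algebraMap k ℝ).injective |>.2 inferInstance
  obtain ⟨i, j, l, m, hp, ν, b, x, hx, hΦ⟩ := PfaffH28.exists_chart F hF hirr hcone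
  obtain ⟨p, q, hq, hgood⟩ := PfaffH28.exists_good_line.{u, u, 0} F hF hirr (PfaffH28.Phi F i j l m ν b) x hx hΦ
  exact PfaffH28.exists_rep_deg3 PfaffH28.real_root_cubic F hF i j l m hp ν b p q hq (fun t => hgood ℝ t)

end Groth.Agent.S16354
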