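import Groth.Statements.S16356
import Mathlib.RingTheory.WittVector.Complete
import Mathlib.RingTheory.WittVector.Domain
import Mathlib.NumberTheory.Multiplicity
import Mathlib.GroupTheory.OrderOfElement

set_option autoImplicit false
universe u
open OrdAV

namespace Groth.Agent.S16356

theorem isUnit_p {R : Type*} [CommRing R] [IsDomain R] {p : ℕ} (hodd : Odd p) (hp : (p : R) ≠ 0) (y b : R)
    (hy : (1 : R) + p * b = y) (hgeom : ∑ i ∈ Finset.range p, y ^ i = 0) : ∃ e, (p : R) * e = 1 := by
  have h := odd_sq_dvd_geom_sum₂_sub (R := R) (p := p) (a := 1) (b := b) hodd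
  simp only [one_pow, mul_one, hy, hgeom, zero_sub, dvd_neg] at h
  obtain ⟨e, he⟩ := h
  exact ⟨e, mul_left_cancel₀ hp (by rw [mul_one, ← mul_assoc, ← pow_two, ← he])⟩


/-- For an odd prime p and a perfect field k of characteristic p, a root of unity in the ring of Witt
vectors W(k) whose residue in k is 1 is itself 1: if x ^ n = 1 with n ≥ 1 and the zeroth Witt
component of x is 1, then x = 1. (For p = 2 this fails: -1 in W(F_2).) -/
theorem result (p : ℕ) [Fact p.Prime] (hp : p ≠ 2)
    (k : Type u) [Field k] [CharP k p] [PerfectRing k p]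
    (x : WittVector p k) (n : ℕ) (hn : 0 < n) (hx : x ^ n = 1) (h0 : x.coeff 0 = 1) : x = 1 := by
  by_contra hne
  have hord : orderOf x ≠ 1 := fun h => hne (orderOf_eq_one_iff.1 h)
  have hfin : 0 < orderOf x := (isOfFinOrder_iff_pow_eq_one.2 ⟨n, hn, hx⟩).orderOf_pos
  let q := (orderOf x).minFac
  have hq : q.Prime := Nat.minFac_prime hord
  obtain ⟨c, hc⟩ : q ∣ orderOf x := Nat.minFac_dvd _
  set y := x ^ c
  have hyq : y ^ q = 1 := by rw [← pow_mul, mul_comm, ← hc, pow_orderOf_eq_one]
  have hy1 : y ≠ 1 := by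
    intro h
    have hc0 : c ≠ 0 := fun h0 => by rw [h0, mul_zero] at hc; omega
    have hd : orderOf x ∣ c := orderOf_dvd_of_pow_eq_one h
    have := Nat.le_of_dvd (Nat.pos_of_ne_zero hc0) hd
    rw [hc] at this
    have := hq.two_le
    nlinarith [Nat.pos_of_ne_zero hc0]
  have hres : (WittVector.constantCoeff y : k) = 1 := by
    rw [map_pow]; show x.coeff 0 ^ c = 1; rw [h0, one_pow]
  have hgeom : ∑ i ∈ Finset.range q, y ^ i = 0 := by
    have h := geom_sum_mul y q
    rw [hyq, sub_self] at h
    exact (mul_eq_zero.1 h).resolve_right (sub_ne_zero.2 hy1)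
  have hqp : q = p := by
    have h := congrArg (WittVector.constantCoeff (p := p) (R := k)) hgeom
    simp only [map_sum, map_pow, hres, one_pow, map_zero, Finset.sum_const, Finset.card_range, nsmul_eq_mul, mul_one] at h
    exact ((Nat.prime_dvd_prime_iff_eq Fact.out hq).1 ((CharP.cast_eq_zero_iff k p q).1 h)).symm
  have hmem : y - 1 ∈ Ideal.span {(p : WittVector p k)} := by
    rw [← WittVector.ker_constantCoeff, RingHom.mem_ker, map_sub, hres, map_one, sub_self]
  obtain ⟨b, hb⟩ := Ideal.mem_span_singleton'.1 hmem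
  have hgeom' : ∑ i ∈ Finset.range p, y ^ i = 0 :=
    (congrArg (fun t : ℕ => ∑ i ∈ Finset.range t, y ^ i) hqp).symm.trans hgeom
  obtain ⟨e, h1⟩ := isUnit_p ((Fact.out : p.Prime).odd_of_ne_two hp) (WittVector.p_nonzero p k) y b
    (by rw [mul_comm, hb, add_sub_cancel]) hgeom'
  have h2 := congrArg (WittVector.constantCoeff (p := p) (R := k)) h1
  rw [map_mul, map_natCast, CharP.cast_eq_zero, zero_mul, map_one] at h2
  exact zero_ne_one h2


end Groth.Agent.S16356
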