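import Groth.Statements.S16357
import Mathlib.Algebra.Polynomial.Monic
import Mathlib.Algebra.Polynomial.Lifts

set_option autoImplicit false
universe u
open OrdAV

namespace Groth.Agent.S16357

/-- Over a field L of characteristic zero, a monic polynomial h whose square has rational coefficients
has rational coefficients itself. -/
theorem result (L : Type u) [Field L] [CharZero L]
    (h : Polynomial L) (hm : h.Monic) (f : Polynomial ℚ)
    (hf : h ^ 2 = Polynomial.map (algebraMap ℚ L) f) :
    ∃ g : Polynomial ℚ, Polynomial.map (algebraMap ℚ L) g = h := by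
  have key : ∀ m, m ≤ h.natDegree → ∃ c : ℚ, algebraMap ℚ L c = h.coeff (h.natDegree - m) := by
    intro m
    induction m using Nat.strong_induction_on with
    | _ m ih =>
      intro hm'
      set d := h.natDegree
      rcases Nat.eq_zero_or_pos m with rfl | hpos
      · exact ⟨1, by rw [map_one, Nat.sub_zero]; exact hm.symm⟩
      have h2 : (h * h).coeff (d + (d - m)) = algebraMap ℚ L (f.coeff (d + (d - m))) := by
        rw [← pow_two, hf, Polynomial.coeff_map]
      rw [Polynomial.coeff_mul] at h2
      have hmem1 : (d, d - m) ∈ Finset.antidiagonal (d + (d - m)) := by simp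
      have hmem2 : (d - m, d) ∈ (Finset.antidiagonal (d + (d - m))).erase (d, d - m) := by
        simp only [Finset.mem_erase, Finset.mem_antidiagonal, ne_eq, Prod.mk.injEq]
        constructor <;> omega
      rw [← Finset.add_sum_erase _ _ hmem1, ← Finset.add_sum_erase _ _ hmem2] at h2
      have hrest : (∑ x ∈ ((Finset.antidiagonal (d + (d - m))).erase (d, d - m)).erase (d - m, d),
          h.coeff x.1 * h.coeff x.2) ∈ (algebraMap ℚ L).range := by
        refine Subring.sum_mem _ fun x hx => ?_
        simp only [Finset.mem_erase, Finset.mem_antidiagonal, ne_eq] at hx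
        obtain ⟨hx2, hx1, hsum⟩ := hx
        rcases lt_or_ge d x.1 with hgt | hle1
        · rw [Polynomial.coeff_eq_zero_of_natDegree_lt hgt, zero_mul]; exact zero_mem _
        rcases lt_or_ge d x.2 with hgt | hle2
        · rw [Polynomial.coeff_eq_zero_of_natDegree_lt hgt, mul_zero]; exact zero_mem _
        have hne1 : x.1 ≠ d - m := fun e => hx2 (Prod.ext e (by omega))
        have hne2 : x.2 ≠ d - m := fun e => hx1 (Prod.ext (by omega) e)
        refine Subring.mul_mem _ ?_ ?_
        · obtain ⟨c, hc⟩ := ih (d - x.1) (by omega) (by omega)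
          exact ⟨c, by rw [hc, show d - (d - x.1) = x.1 by omega]⟩
        · obtain ⟨c, hc⟩ := ih (d - x.2) (by omega) (by omega)
          exact ⟨c, by rw [hc, show d - (d - x.2) = x.2 by omega]⟩
      obtain ⟨c, hc⟩ := hrest
      refine ⟨(f.coeff (d + (d - m)) - c) / 2, ?_⟩
      rw [map_div₀, map_sub, hc, ← h2, show h.coeff d = 1 from hm, map_ofNat]
      ring
  obtain ⟨g, hg⟩ := (Polynomial.lifts_iff_coeff_lifts (f := algebraMap ℚ L) h).2 fun i => by
    rcases lt_or_ge h.natDegree i with hgt | hle
    · exact ⟨0, by rw [map_zero, Polynomial.coeff_eq_zero_of_natDegree_lt hgt]⟩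
    · obtain ⟨c, hc⟩ := key (h.natDegree - i) (by omega)
      exact ⟨c, by rw [hc, show h.natDegree - (h.natDegree - i) = i by omega]⟩
  exact ⟨g, hg⟩


end Groth.Agent.S16357
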