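import Groth.Statements.S16358
import Mathlib.RingTheory.WittVector.Domain
import Mathlib.LinearAlgebra.TensorProduct.Quotient
import Mathlib.RepresentationTheory.Invariants

set_option autoImplicit false
universe u v w
open OrdAV

namespace Groth.Agent.S16358

open scoped Pointwise TensorProduct

/-- Let k be a perfect field of characteristic p > 0 and W = W(k); let M be a finitely generated free
W-module on which a finite group G acts W-linearly, with invariant submodule M^G. Then the map
(W/pW) ⊗ M^G → (W/pW) ⊗ M induced by the inclusion is injective. Since M^G is free, this implies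
rank_W M^G ≤ dim_k (M/pM)^G; the published statement is that inequality, and this row states the
stronger injectivity. -/
theorem result (p : ℕ) [Fact p.Prime]
    (k : Type u) [Field k] [CharP k p] [PerfectRing k p]
    (M : Type v) [AddCommGroup M] [Module (WittVector p k) M]
    [Module.Free (WittVector p k) M] [Module.Finite (WittVector p k) M]
    (G : Type w) [Group G] [Finite G] (ρ : Representation (WittVector p k) G M) :
    Function.Injective
      (LinearMap.lTensor (WittVector p k ⧸ Ideal.span {(p : WittVector p k)}) ρ.invariants.subtype) := by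
  rw [← LinearMap.ker_eq_bot, LinearMap.ker_eq_bot']
  intro z hz
  obtain ⟨x, hx⟩ := Submodule.Quotient.mk_surjective _
    (TensorProduct.quotTensorEquivQuotSMul ρ.invariants (Ideal.span {(p : WittVector p k)}) z)
  have hz' : z = (Ideal.Quotient.mk (Ideal.span {(p : WittVector p k)}) 1) ⊗ₜ[WittVector p k] x := by
    refine (TensorProduct.quotTensorEquivQuotSMul ρ.invariants (Ideal.span {(p : WittVector p k)})).injective ?_
    rw [TensorProduct.quotTensorEquivQuotSMul_mk_tmul, one_smul, ← hx]
  have h1 := congrArg (TensorProduct.quotTensorEquivQuotSMul M (Ideal.span {(p : WittVector p k)})) hz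
  rw [hz', LinearMap.lTensor_tmul, map_zero, TensorProduct.quotTensorEquivQuotSMul_mk_tmul, one_smul,
    Submodule.Quotient.mk_eq_zero, Submodule.ideal_span_singleton_smul] at h1
  obtain ⟨m, -, hm⟩ := h1
  have hminv : m ∈ ρ.invariants := fun g => by
    refine smul_right_injective M (WittVector.p_nonzero p k) ?_
    show (p : WittVector p k) • ρ g m = (p : WittVector p k) • m
    rw [← map_smul]
    have hm' : (p : WittVector p k) • m = (x : M) := hm
    rw [hm']
    exact x.2 g
  rw [hz', show x = (p : WittVector p k) • (⟨m, hminv⟩ : ρ.invariants) from Subtype.ext hm.symm,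
    TensorProduct.tmul_smul, TensorProduct.smul_tmul']
  refine (congrArg (fun t => t ⊗ₜ[WittVector p k] _) ?_).trans (TensorProduct.zero_tmul _ _)
  rw [← Ideal.Quotient.mkₐ_eq_mk (WittVector p k), ← map_smul, Ideal.Quotient.mkₐ_eq_mk, Ideal.Quotient.eq_zero_iff_mem]
  exact Ideal.mem_span_singleton'.2 ⟨1, by simp⟩


end Groth.Agent.S16358
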