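import Groth.Statements.S1636
import Groth.Agent.Lib.CurveVA17.GG
import Groth.Agent.Lib.CurveVA17.ExactMap
import Groth.Agent.Lib.CurveAmple18.Main
import Groth.Agent.Lib.VB17.Proper
import Groth.Agent.S1635
-- import your own Groth.Agent.* helpers here

set_option autoImplicit false
universe u
open CategoryTheory CategoryTheory.Limits AlgebraicGeometry
open Curves

namespace Groth.Agent.S1636

open Groth.Agent Groth.Agent.VB17 Groth.Agent.CurveCoh17

/-- Let X be a proper curve over k with global functions k and genus 0, and L an invertible module of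
degree d > 0. Then there is a closed immersion i : X → P^d_k over k with i^* O(1) ≅ L. -/
theorem result (k : Type u) [Field k] (X : Scheme.{u}) [X.Over (Spec (CommRingCat.of k))]
    [IsIntegral X] [IsProper (X ↘ (Spec (CommRingCat.of k)))] (hdim : topologicalKrullDim X = 1)
    (h0 : Module.finrank k (Coh.HH X (Coh.structureModule X) 0) = 1) (hg : Curv2.genus k X = 0)
    (L : X.Modules) (hL : PicF.IsInvertible L) (d : ℕ) (hd : 0 < d) (hdeg : Curv2.deg k X L 1 = d) :
    ∃ i : X ⟶ CohB1.ProjSpace d k, IsClosedImmersion i ∧ i ≫ CohB1.ProjSpace.toSpec d k = X ↘ (Spec (CommRingCat.of k)) ∧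
      Nonempty ((Scheme.Modules.pullback i).obj (Twist.twistProjSpace d k 1) ≅ L) := by
  classical
  obtain ⟨hd1, hsub⟩ := S1635.result k X hdim h0 hg L hL d hd hdeg
  have hX := curveLike (k := k) hdim
  haveI := hX.noetherian
  haveI := VB17.isSeparated_of_over (k := k) (X := X)
  have hR := rkOne_of_invertible hX.dim hL
  haveI : Module.Finite k (Coh.HH X L 0) := (hX.adm hR.coh).fin 0
  haveI : Module.Finite k (Coh.HH X (Coh.structureModule X) 1) :=
    (hX.adm (CurveCoh17.isCoh_structureModule (X := X))).fin 1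
  have h1O : Subsingleton (Coh.HH X (Coh.structureModule X) 1) := Module.finrank_zero_iff.1 hg
  obtain ⟨z, hz⟩ : ∃ z : Coh.HH X L 0, z ≠ 0 := by
    haveI : Nontrivial (Coh.HH X L 0) := Module.nontrivial_of_finrank_pos (R := k) (by omega)
    exact exists_ne 0
  obtain ⟨hm, S, hS⟩ := hR.sec _ (hh0_ne_zero hz)
  haveI := hm
  have hgg := CurveVA17.isGloballyGenerated_of_h1 k hL (hh0 L z) hS h1O
  have hA := CurveAmple18.isAmple_of_deg_pos (k := k) hdim.le hL (by omega)
  have hng : ∀ n : ℕ, 1 ≤ n → AddSubgroup.closure {t | ∃ (m : (CohB1.tensorPow L n).val.obj (Opposite.op ⊤))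
      (s : L.val.obj (Opposite.op ⊤)), t = SecTwist.tmul (CohB1.tensorPow L n) L ⊤ m s} = ⊤ := by
    obtain ⟨L', hL', ⟨eL⟩⟩ := M2.exists_inverse hL
    obtain ⟨s, hs⟩ := CMReg18.exists_basis_gen k hL hgg
    let D := CMReg18.ofInv eL hL hL' s hs
    have hreg : D.IsReg (Coh.structureModule X) ((1 : ℕ) : ℤ) := by
      intro i hi
      rcases Nat.lt_or_ge i 2 with h | h
      · obtain rfl : i = 1 := by omega
        exact CMReg18.van_iso k (M2.tensorLUnit _ ≪≫
          eqToIso (congrArg D.O (show ((1 : ℕ) : ℤ) - ((1 : ℕ) : ℤ) = ((0 : ℕ) : ℤ) by simp)) ≪≫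
          CMReg18.intPowNat 0).symm h1O
      · obtain ⟨j, rfl⟩ : ∃ j, i = j + 2 := ⟨i - 2, by omega⟩
        refine CurveCoh17.subsingleton_HH_of_dim hdim.le _ ?_ j
        exact M1.isFP_isQCoh (M1.isFP_of_isFinLocFree (M2.isFinLocFree_of_ofRank
          ((M2.isInvertible_iff_isFinLocFreeOfRank_one _).1
            (M2.isInvertible_tensor (PicLoc.isInvertible_structureModule X) (D.inv _)))))
    exact fun n hn => CurveVA17.gen_of_isReg k D 1 hreg
      ((M2.tensorPowOne L).symm ≪≫ (CMReg18.intPowNat 1).symm) n hn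
  let B := Module.finBasisOfFinrankEq k (Coh.HH X L 0) hd1
  have hspan : ∀ t : Γ(L, (⊤ : X.Opens)), ∃ c : Fin (d + 1) → k,
      t = ∑ j, ProjUP.toGlobal (X ↘ Spec (CommRingCat.of k)) (c j) • hh0 L (B j) := fun t => by
    refine ⟨fun j => B.repr ((hh0 L).symm t) j, ?_⟩
    conv_lhs => rw [← (hh0 L).apply_symm_apply t, ← B.sum_repr ((hh0 L).symm t), map_sum]
    exact Finset.sum_congr rfl fun j _ =>
      hh0_smul (Coh.toGlobal (X ↘ Spec (CommRingCat.of k)) (B.repr ((hh0 L).symm t) j)) (B j)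
  have hid := fun x => CurveVA17.vaat_id_of_gen (X ↘ Spec (CommRingCat.of k)) hA hng x
  have hva := fun x => CurveVA17.vaat_of_span (fun j => hh0 L (B j)) hspan (hid x)
  exact CurveVA17.exists_closedImmersion_exact (X ↘ Spec (CommRingCat.of k)) hL (fun j => hh0 L (B j)) hva

end Groth.Agent.S1636
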