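import Groth.Statements.S16360
import Groth.Agent.Lib.Hens.Local

set_option autoImplicit false
universe u
open Hensel

namespace Groth.Agent.S16360

set_option linter.style.haveILetI false

open Polynomial

section
variable {R Ω : Type u} [CommRing R] [IsDomain R] [Field Ω] [Algebra R Ω] (ϖ : R) (p : ℕ)

/-- A finite subalgebra with uniformizer `ϖ`, rank a `p`-power and purely inseparable residue field. -/
structure IsStage (T : Subalgebra R Ω) : Prop where
  fin : Module.Finite R T
  unit_or_dvd : ∀ x : T, IsUnit x ∨ algebraMap R T ϖ ∣ x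
  rank : ∃ m : ℕ, Module.finrank R T = p ^ m
  res : ∀ y : T, ∃ (m : ℕ) (z : R), algebraMap R T ϖ ∣ algebraMap R T z - y ^ (p ^ m)

/-- A directed union of stages. -/
def IsGood (S : Subalgebra R Ω) : Prop :=
  ∀ s : Finset Ω, (s : Set Ω) ⊆ S → ∃ T, IsStage ϖ p T ∧ (s : Set Ω) ⊆ T ∧ T ≤ S

variable {ϖ p}

theorem isGood_bot [IsLocalRing R] (hm : IsLocalRing.maximalIdeal R = Ideal.span {ϖ})
    (hi : Function.Injective (algebraMap R Ω)) : IsGood ϖ p (⊥ : Subalgebra R Ω) := by
  let e := Algebra.botEquivOfInjective hi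
  intro s hs
  refine ⟨⊥, ⟨Module.Finite.equiv e.toLinearEquiv.symm, fun x => ?_, ⟨0, ?_⟩, fun y => ?_⟩, hs, le_rfl⟩
  · by_cases h : IsUnit (e x)
    · exact Or.inl (by simpa using h.map e.symm)
    · right
      have h' : e x ∈ IsLocalRing.maximalIdeal R := h
      rw [hm, Ideal.mem_span_singleton] at h'
      obtain ⟨c, hc⟩ := h'
      refine ⟨e.symm c, e.injective ?_⟩
      simp [hc]
  · rw [pow_zero, e.toLinearEquiv.finrank_eq, Module.finrank_self]
  · refine ⟨0, e y, 0, e.injective ?_⟩
    simp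

theorem not_isUnit (hnu : ¬ IsUnit ϖ) (hi : Function.Injective (algebraMap R Ω)) (S : Subalgebra R Ω)
    [Algebra.IsIntegral R S] : ¬ IsUnit (algebraMap R S ϖ) := by
  intro h
  have hinj : Function.Injective (algebraMap R S) := fun a b hab => hi (congrArg Subtype.val hab)
  haveI := (algebraMap_isIntegral_iff.mpr (inferInstance : Algebra.IsIntegral R S)).isLocalHom hinj
  exact hnu (IsUnit.of_map (algebraMap R S) ϖ h)

theorem isGood_sSup (c : Set (Subalgebra R Ω)) (hc : ∀ S ∈ c, IsGood ϖ p S) (hch : IsChain (· ≤ ·) c)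
    (hne : c.Nonempty) : IsGood ϖ p (sSup c) := by
  classical
  intro s hs
  haveI : Nonempty c := hne.to_subtype
  have hd : Directed (· ≤ ·) (fun S : c => (S : Subalgebra R Ω)) := hch.directedOn.directed_val
  rw [sSup_eq_iSup', Subalgebra.coe_iSup_of_directed hd] at hs
  obtain ⟨S, hS⟩ : ∃ S : c, (s : Set Ω) ⊆ (S : Subalgebra R Ω) := by
    clear hc
    induction s using Finset.induction_on with
    | empty => exact ⟨Classical.arbitrary _, by simp⟩
    | insert a t ha ih =>
      rw [Finset.coe_insert, Set.insert_subset_iff] at hs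
      obtain ⟨S, hS⟩ := ih hs.2
      obtain ⟨S', hS'⟩ := Set.mem_iUnion.1 hs.1
      obtain ⟨S'', h₁, h₂⟩ := hd S S'
      refine ⟨S'', ?_⟩
      rw [Finset.coe_insert, Set.insert_subset_iff]
      exact ⟨h₂ hS', hS.trans h₁⟩
  obtain ⟨T, hT, hsT, hTS⟩ := hc _ S.2 s hS
  exact ⟨T, hT, hsT, hTS.trans (le_sSup S.2)⟩

theorem step [IsPrincipalIdealRing R] (hϖ0 : ϖ ≠ 0) (hnu : ¬ IsUnit ϖ) (hi : Function.Injective (algebraMap R Ω))
    [hp : Fact p.Prime] (hpϖ : ϖ ∣ (p : R)) {T : Subalgebra R Ω} (hT : IsStage ϖ p T) (Y : T) (z : Ω)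
    (hz : z ^ p = (Y : Ω)) (hY : ∀ x : T, ¬ algebraMap R T ϖ ∣ x ^ p - Y) :
    ∃ T' : Subalgebra R Ω, IsStage ϖ p T' ∧ T ≤ T' ∧ z ∈ T' ∧
      ∀ S : Subalgebra R Ω, T ≤ S → z ∈ S → T' ≤ S := by
  haveI := hT.fin
  haveI : Algebra.IsIntegral R T := Algebra.IsIntegral.of_finite R T
  set π : T := algebraMap R T ϖ with hπdef
  have hπnu : ¬ IsUnit π := not_isUnit hnu hi T
  have hmax : (Ideal.span {π}).IsMaximal := by
    refine Ideal.isMaximal_iff.2 ⟨?_, fun J x hJ hx hxJ => ?_⟩
    · rw [Ideal.mem_span_singleton]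
      exact fun h => hπnu (isUnit_of_dvd_one h)
    · rcases hT.unit_or_dvd x with hu | hd
      · rw [Ideal.eq_top_of_isUnit_mem _ hxJ hu]; trivial
      · exact absurd (Ideal.mem_span_singleton.2 hd) hx
  set I : Ideal T := Ideal.span {π}
  haveI := hmax
  let f : T[X] := X ^ p - C Y
  have hfm : f.Monic := monic_X_pow_sub_C Y hp.out.ne_zero
  haveI : Module.Finite T (AdjoinRoot f) := hfm.finite_adjoinRoot
  haveI : Module.Free T (AdjoinRoot f) := hfm.free_adjoinRoot
  haveI : IsNoetherianRing T := IsNoetherianRing.of_finite R T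
  haveI : IsNoetherianRing (AdjoinRoot f) := IsNoetherianRing.of_finite T (AdjoinRoot f)
  let q : T →+* T ⧸ I := Ideal.Quotient.mk I
  letI : Field (T ⧸ I) := Ideal.Quotient.field I
  have hirr : Irreducible (f.map q) := by
    have hfq : f.map q = X ^ p - C (q Y) := by simp [f]
    rw [hfq]
    refine X_pow_sub_C_irreducible_of_prime hp.out fun b hb => ?_
    obtain ⟨x, rfl⟩ := Ideal.Quotient.mk_surjective b
    refine hY x (Ideal.mem_span_singleton.1 (Ideal.Quotient.eq.1 ?_))
    rw [map_pow]
    exact hb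
  let P : Ideal (AdjoinRoot f) := I.map (AdjoinRoot.of f)
  have hP : P.IsMaximal := by
    haveI : (Ideal.span {f.map q}).IsMaximal := PrincipalIdealRing.isMaximal_of_irreducible hirr
    exact Ideal.Quotient.maximal_of_isField _
      (MulEquiv.isField ((Ideal.Quotient.maximal_ideal_iff_isField_quotient _).1 ‹_›)
        (AdjoinRoot.quotAdjoinRootEquivQuotPolynomialQuot I f).toMulEquiv)
  let ϖU : AdjoinRoot f := AdjoinRoot.of f π
  have hPspan : P = Ideal.span {ϖU} := by
    simp only [P, I, Ideal.map_span, Set.image_singleton, ϖU]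
  have huniq : ∀ M : Ideal (AdjoinRoot f), M.IsMaximal → M = P := fun M hM => by
    haveI := hM
    haveI : (M.comap (algebraMap T (AdjoinRoot f))).IsMaximal :=
      Ideal.isMaximal_comap_of_isIntegral_of_isMaximal M
    have hcm : M.comap (algebraMap T (AdjoinRoot f)) = I := by
      refine (Ideal.IsMaximal.eq_of_le (hJ := hmax.ne_top) ‹_› ?_)
      intro x hx
      rcases hT.unit_or_dvd x with hu | hd
      · exact absurd (Ideal.eq_top_of_isUnit_mem _ hx hu) (Ideal.IsMaximal.ne_top ‹_›)
      · exact Ideal.mem_span_singleton.2 hd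
    exact (hP.eq_of_le hM.ne_top (Ideal.map_le_iff_le_comap.2 hcm.ge)).symm
  have hud : ∀ x : AdjoinRoot f, IsUnit x ∨ ϖU ∣ x := fun x => by
    by_cases hx : IsUnit x
    · exact Or.inl hx
    · obtain ⟨M, hM, hxM⟩ := exists_max_ideal_of_mem_nonunits hx
      rw [huniq M hM, hPspan, Ideal.mem_span_singleton] at hxM
      exact Or.inr hxM
  have hev : eval₂ (T.val : T →+* Ω) z f = 0 := by simp [f, hz]
  let φ : AdjoinRoot f →ₐ[R] Ω := AdjoinRoot.liftAlgHom f T.val z hev
  have hφπ : φ ϖU ≠ 0 := by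
    have : φ ϖU = algebraMap R Ω ϖ := by simp [φ, ϖU, π]
    rw [this, map_ne_zero_iff _ hi]
    exact hϖ0
  have hφinj : Function.Injective φ := by
    rw [injective_iff_map_eq_zero]
    intro x hx
    have hker : RingHom.ker φ.toRingHom ≤ P * RingHom.ker φ.toRingHom := by
      intro a ha
      rw [RingHom.mem_ker] at ha
      rcases hud a with hu | ⟨b, rfl⟩
      · exact absurd ha (hu.map φ.toRingHom).ne_zero
      · refine Ideal.mul_mem_mul (hPspan ▸ Ideal.mem_span_singleton_self _) ?_
        rw [RingHom.mem_ker]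
        exact (mul_eq_zero.1 ((map_mul φ _ _).symm.trans ha)).resolve_left hφπ
    have hjac : P ≤ Ideal.jacobson ⊥ := le_sInf fun M hM => (huniq M hM.2).ge
    have := Submodule.eq_bot_of_le_smul_of_le_jacobson_bot P _ (IsNoetherian.noetherian _) hker hjac
    have hx' : x ∈ RingHom.ker φ.toRingHom := hx
    rw [this] at hx'
    exact hx'
  let e : AdjoinRoot f ≃ₐ[R] φ.range := AlgEquiv.ofInjective φ hφinj
  have heπ : e ϖU = algebraMap R φ.range ϖ := Subtype.ext (by simp [e, φ, ϖU, π])
  haveI : Module.Finite R (AdjoinRoot f) := Module.Finite.trans T (AdjoinRoot f)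
  refine ⟨φ.range, ⟨Module.Finite.equiv e.toLinearEquiv, fun x => ?_, ?_, fun y => ?_⟩, ?_, ?_, ?_⟩
  · rcases hud (e.symm x) with hu | hd
    · exact Or.inl (by simpa using hu.map e)
    · exact Or.inr (by simpa [heπ] using map_dvd e hd)
  · obtain ⟨m, hm⟩ := hT.rank
    haveI : FaithfulSMul R Ω := (faithfulSMul_iff_algebraMap_injective R Ω).2 hi
    haveI : Module.IsTorsionFree R T :=
      Function.Injective.moduleIsTorsionFree T.val Subtype.val_injective (by simp)
    haveI : Module.Free R T := Module.free_of_finite_type_torsion_free'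
    refine ⟨m + 1, ?_⟩
    rw [← e.toLinearEquiv.finrank_eq, ← Module.finrank_mul_finrank R T (AdjoinRoot f), hm,
      (AdjoinRoot.powerBasis' hfm).finrank, AdjoinRoot.powerBasis'_dim, natDegree_X_pow_sub_C, pow_succ]
  · haveI : P.IsMaximal := hP
    letI : Field (AdjoinRoot f ⧸ P) := Ideal.Quotient.field P
    have hp0 : ((p : ℕ) : AdjoinRoot f ⧸ P) = 0 := by
      rw [← map_natCast (Ideal.Quotient.mk P), Ideal.Quotient.eq_zero_iff_mem, hPspan, Ideal.mem_span_singleton]
      simpa [ϖU, π] using map_dvd ((AdjoinRoot.of f).comp (algebraMap R T)) hpϖ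
    haveI : CharP (AdjoinRoot f ⧸ P) p := (CharP.charP_iff_prime_eq_zero hp.out).2 hp0
    have key : ∀ g : T[X], ∃ t : T,
        Ideal.Quotient.mk P (AdjoinRoot.mk f g ^ p) = Ideal.Quotient.mk P (AdjoinRoot.of f t) := by
      intro g
      induction g using Polynomial.induction_on' with
      | add g₁ g₂ h₁ h₂ =>
        obtain ⟨t₁, h₁⟩ := h₁
        obtain ⟨t₂, h₂⟩ := h₂
        refine ⟨t₁ + t₂, ?_⟩
        simp only [map_add, map_pow] at h₁ h₂ ⊢
        rw [add_pow_char, h₁, h₂]
      | monomial n a =>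
        refine ⟨a ^ p * Y ^ n, ?_⟩
        have hr : (AdjoinRoot.root f) ^ p = AdjoinRoot.of f Y := by
          have h0 := AdjoinRoot.eval₂_root f
          simpa [f, sub_eq_zero] using h0
        rw [← C_mul_X_pow_eq_monomial, map_mul, AdjoinRoot.mk_C, map_pow (AdjoinRoot.mk f), AdjoinRoot.mk_X, mul_pow, ← pow_mul,
          mul_comm n p, pow_mul, hr, map_mul (AdjoinRoot.of f), map_pow (AdjoinRoot.of f), map_pow (AdjoinRoot.of f)]
    obtain ⟨g, hg⟩ := AdjoinRoot.mk_surjective (e.symm y)
    obtain ⟨t, ht⟩ := key g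
    obtain ⟨m, w, hw⟩ := hT.res t
    refine ⟨m + 1, w, ?_⟩
    rw [hg, Ideal.Quotient.eq, hPspan, Ideal.mem_span_singleton] at ht
    have h1 : ϖU ∣ AdjoinRoot.of f t ^ (p ^ m) - (e.symm y ^ p) ^ (p ^ m) :=
      (dvd_sub_comm.1 ht).trans (sub_dvd_pow_sub_pow _ _ _)
    have h2 : ϖU ∣ AdjoinRoot.of f (algebraMap R T w) - AdjoinRoot.of f t ^ (p ^ m) := by
      simpa [ϖU, π] using map_dvd (AdjoinRoot.of f) hw
    have h3 := dvd_add h2 h1
    rw [sub_add_sub_cancel, ← pow_mul, ← pow_succ'] at h3
    have h4 := map_dvd e h3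
    rw [heπ, map_sub, map_pow, AlgEquiv.apply_symm_apply] at h4
    convert h4 using 2
    exact Subtype.ext (by simp [e, φ])
  · intro x hx
    exact ⟨AdjoinRoot.of f ⟨x, hx⟩, by simp [φ]⟩
  · exact ⟨AdjoinRoot.root f, by simp [φ]⟩
  · intro S hTS hzS x hx
    obtain ⟨a, rfl⟩ := hx
    obtain ⟨g, rfl⟩ := AdjoinRoot.mk_surjective a
    induction g using Polynomial.induction_on' with
    | add g₁ g₂ h₁ h₂ => simpa using S.add_mem h₁ h₂
    | monomial n c => simpa [φ] using S.mul_mem (hTS c.2) (S.pow_mem hzS n)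

end


/-- Let R be a discrete valuation ring that is Henselian and excellent, write k for its residue field
and p for the characteristic exponent of k. There is a Henselian discrete valuation ring R' and an
injective ring map R → R' such that the maximal ideal of R generates that of R' (so a uniformizer of
R is a uniformizer of R'), R' is the directed union of R-subalgebras that are finite free R-modules
of rank a power of p, and the residue field k' of R' is a perfect closure of k: every element of k'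
is a p-th power in k', and some p-power-th power of it lies in the image of k. (The published
statement also asserts that R' is excellent; that is not asserted here.) -/
theorem result (R : Type u) [CommRing R] [IsDomain R]
    [IsDiscreteValuationRing R] [HenselianLocalRing R] (hR : EGA4.IsExcellent R) :
    ∃ (R' : Type u) (_ : CommRing R') (_ : IsDomain R') (_ : IsDiscreteValuationRing R')
      (_ : HenselianLocalRing R') (_ : Algebra R R'),
      Function.Injective (algebraMap R R') ∧
      Ideal.map (algebraMap R R') (IsLocalRing.maximalIdeal R) = IsLocalRing.maximalIdeal R' ∧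
      (∀ s : Finset R', ∃ S : Subalgebra R R', (↑s : Set R') ⊆ ↑S ∧ Module.Finite R S ∧ Module.Free R S ∧
        ∃ m : ℕ, Module.finrank R S = ringExpChar (IsLocalRing.ResidueField R) ^ m) ∧
      (∀ y : R', ∃ z : R', z ^ ringExpChar (IsLocalRing.ResidueField R) - y ∈ IsLocalRing.maximalIdeal R') ∧
      (∀ y : R', ∃ (m : ℕ) (z : R),
        algebraMap R R' z - y ^ (ringExpChar (IsLocalRing.ResidueField R) ^ m) ∈ IsLocalRing.maximalIdeal R') := by
  classical
  obtain ⟨ϖ, hϖ⟩ := IsDiscreteValuationRing.exists_irreducible R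
  set p := ringExpChar (IsLocalRing.ResidueField R) with hpdef
  haveI : ExpChar (IsLocalRing.ResidueField R) p := inferInstance
  let Ω := AlgebraicClosure (FractionRing R)
  have hi : Function.Injective (algebraMap R Ω) := by
    rw [IsScalarTower.algebraMap_eq R (FractionRing R) Ω, RingHom.coe_comp]
    exact (algebraMap (FractionRing R) Ω).injective.comp (IsFractionRing.injective R (FractionRing R))
  obtain ⟨S, -, hmax⟩ := zorn_le_nonempty₀ {S : Subalgebra R Ω | IsGood ϖ p S}
    (fun c hc hch S₀ hS₀ => ⟨sSup c, isGood_sSup c hc hch ⟨S₀, hS₀⟩, fun z hz => le_sSup hz⟩)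
    ⊥ (isGood_bot hϖ.maximalIdeal_eq hi)
  have hS : IsGood ϖ p S := hmax.prop
  have hget : ∀ s : Finset S, ∃ T : Subalgebra R Ω, IsStage ϖ p T ∧ ∃ h : T ≤ S,
      (↑s : Set S) ⊆ Set.range (Subalgebra.inclusion h) := by
    intro s
    obtain ⟨T, hT, hsT, hTS⟩ := hS (s.image Subtype.val) (by intro x hx; obtain ⟨a, -, rfl⟩ := Finset.mem_image.1 hx; exact a.2)
    exact ⟨T, hT, hTS, fun a ha => ⟨⟨a.1, hsT (Finset.mem_image_of_mem _ ha)⟩, rfl⟩⟩
  have hget1 : ∀ x : S, ∃ T : Subalgebra R Ω, IsStage ϖ p T ∧ ∃ (h : T ≤ S) (x₀ : T),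
      Subalgebra.inclusion h x₀ = x := by
    intro x
    obtain ⟨T, hT, h, hs⟩ := hget {x}
    exact ⟨T, hT, h, hs (by simp)⟩
  haveI : Algebra.IsIntegral R S := ⟨fun x => by
    obtain ⟨T, hT, h, x₀, rfl⟩ := hget1 x
    haveI := hT.fin
    exact (Algebra.IsIntegral.isIntegral x₀).map (Subalgebra.inclusion h)⟩
  have hinj : Function.Injective (algebraMap R S) := fun a b hab => hi (congrArg Subtype.val hab)
  have hnu : ¬ IsUnit (algebraMap R S ϖ) := not_isUnit hϖ.not_isUnit hi S
  have hud : ∀ x : S, IsUnit x ∨ algebraMap R S ϖ ∣ x := fun x => by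
    obtain ⟨T, hT, h, x₀, rfl⟩ := hget1 x
    rcases hT.unit_or_dvd x₀ with hu | hd
    · exact Or.inl (hu.map (Subalgebra.inclusion h))
    · exact Or.inr (by simpa only [AlgHom.commutes] using map_dvd (Subalgebra.inclusion h) hd)
  haveI hloc : IsLocalRing S := IsLocalRing.of_nonunits_add fun a b ha hb => by
    have ha' := (hud a).resolve_left ha
    have hb' := (hud b).resolve_left hb
    exact fun hu => hnu (isUnit_of_dvd_unit (dvd_add ha' hb') hu)
  have hmS : IsLocalRing.maximalIdeal S = Ideal.span {algebraMap R S ϖ} := by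
    ext x
    rw [IsLocalRing.mem_maximalIdeal, mem_nonunits_iff, Ideal.mem_span_singleton]
    exact ⟨(hud x).resolve_left, fun hd hu => hnu (isUnit_of_dvd_unit hd hu)⟩
  have hϖ0 : algebraMap R S ϖ ≠ 0 := (map_ne_zero_iff _ hinj).2 hϖ.ne_zero
  have hirr : Irreducible (algebraMap R S ϖ) := by
    refine ((Ideal.span_singleton_prime hϖ0).1 ?_).irreducible
    rw [← hmS]
    exact (IsLocalRing.maximalIdeal.isMaximal S).isPrime
  haveI : IsDiscreteValuationRing S :=
    IsDiscreteValuationRing.ofHasUnitMulPowIrreducibleFactorization ⟨algebraMap R S ϖ, hirr, fun {x} hx => by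
      obtain ⟨T, hT, h, x₀, rfl⟩ := hget1 x
      haveI := hT.fin
      haveI : IsNoetherianRing T := IsNoetherianRing.of_finite R T
      haveI : Algebra.IsIntegral R T := Algebra.IsIntegral.of_finite R T
      obtain ⟨n, a, ha, hxa⟩ := WfDvdMonoid.max_power_factor' (α := T) (a₀ := x₀) (x := algebraMap R T ϖ)
        (fun h0 => hx (by rw [h0, map_zero])) (not_isUnit hϖ.not_isUnit hi T)
      refine ⟨n, ((hT.unit_or_dvd a).resolve_right ha).map (Subalgebra.inclusion h) |>.unit, ?_⟩
      rw [IsUnit.unit_spec, hxa, map_mul, map_pow, AlgHom.commutes]⟩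
  haveI : HenselianLocalRing S := Hens.henselianLocalRing_of_isIntegral R S
  refine ⟨S, inferInstance, inferInstance, inferInstance, inferInstance, inferInstance, hinj, ?_, fun s => ?_, ?_, ?_⟩
  · rw [hϖ.maximalIdeal_eq, Ideal.map_span, Set.image_singleton, hmS]
  · obtain ⟨T, hT, h, hs⟩ := hget s
    haveI := hT.fin
    haveI : FaithfulSMul R Ω := (faithfulSMul_iff_algebraMap_injective R Ω).2 hi
    haveI : Module.IsTorsionFree R T :=
      Function.Injective.moduleIsTorsionFree T.val Subtype.val_injective (by simp)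
    haveI : Module.Free R T := Module.free_of_finite_type_torsion_free'
    let e := AlgEquiv.ofInjective (Subalgebra.inclusion h) (Subalgebra.inclusion_injective h)
    refine ⟨(Subalgebra.inclusion h).range, hs, Module.Finite.equiv e.toLinearEquiv,
      Module.Free.of_equiv e.toLinearEquiv, ?_⟩
    obtain ⟨m, hm⟩ := hT.rank
    exact ⟨m, e.toLinearEquiv.finrank_eq.symm.trans hm⟩
  · intro y
    rw [hmS]
    by_contra hne
    push Not at hne
    simp only [Ideal.mem_span_singleton] at hne
    rcases expChar_is_prime_or_one (IsLocalRing.ResidueField R) p with hp | hp1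
    swap
    · exact hne y (by simp [hp1])
    haveI : Fact p.Prime := ⟨hp⟩
    haveI : CharP (IsLocalRing.ResidueField R) p := by
      have key : ∀ q : ℕ, ExpChar (IsLocalRing.ResidueField R) q → q.Prime → CharP (IsLocalRing.ResidueField R) q := by
        intro q hq hq'
        cases hq with
        | zero => exact absurd hq' Nat.not_prime_one
        | prime _ => assumption
      exact key p inferInstance hp
    have hpϖ : ϖ ∣ (p : R) := by
      rw [← Ideal.mem_span_singleton, ← hϖ.maximalIdeal_eq, ← IsLocalRing.residue_eq_zero_iff, map_natCast,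
        CharP.cast_eq_zero]
    obtain ⟨z, hz⟩ := IsAlgClosed.exists_pow_nat_eq (y : Ω) hp.pos
    have hzS : z ∉ S := fun hzS => hne ⟨z, hzS⟩ (by
      have : (⟨z, hzS⟩ : S) ^ p = y := Subtype.ext hz
      simp [this])
    let S' := Algebra.adjoin R (insert z (S : Set Ω))
    have hSS' : S ≤ S' := fun x hx => Algebra.subset_adjoin (Set.mem_insert_of_mem _ hx)
    have hfin : ∀ w ∈ S', ∃ t : Finset Ω, (t : Set Ω) ⊆ S ∧ w ∈ Algebra.adjoin R (insert z (t : Set Ω)) := by
      intro w hw
      induction hw using Algebra.adjoin_induction with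
      | mem w hw =>
        rcases hw with rfl | hw
        · exact ⟨∅, by simp, Algebra.subset_adjoin (Set.mem_insert _ _)⟩
        · exact ⟨{w}, by simpa using hw, Algebra.subset_adjoin (by simp)⟩
      | algebraMap r => exact ⟨∅, by simp, Subalgebra.algebraMap_mem _ r⟩
      | add a b _ _ iha ihb =>
        obtain ⟨t₁, h₁, ha⟩ := iha
        obtain ⟨t₂, h₂, hb⟩ := ihb
        exact ⟨t₁ ∪ t₂, by simp [h₁, h₂], add_mem
          (Algebra.adjoin_mono (Set.insert_subset_insert (by simp)) ha)
          (Algebra.adjoin_mono (Set.insert_subset_insert (by simp)) hb)⟩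
      | mul a b _ _ iha ihb =>
        obtain ⟨t₁, h₁, ha⟩ := iha
        obtain ⟨t₂, h₂, hb⟩ := ihb
        exact ⟨t₁ ∪ t₂, by simp [h₁, h₂], mul_mem
          (Algebra.adjoin_mono (Set.insert_subset_insert (by simp)) ha)
          (Algebra.adjoin_mono (Set.insert_subset_insert (by simp)) hb)⟩
    have hgood : IsGood ϖ p S' := by
      intro s hs
      choose t ht1 ht2 using fun w : (s : Set Ω) => hfin w (hs w.2)
      obtain ⟨T, hT, hsT, hTS⟩ := hS (insert (y : Ω) (s.attach.biUnion fun w => t ⟨w.1, w.2⟩)) (by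
        intro a ha
        rcases Finset.mem_insert.1 ha with rfl | ha
        · exact y.2
        · obtain ⟨w, -, hw⟩ := Finset.mem_biUnion.1 ha
          exact ht1 _ hw)
      obtain ⟨T', hT', hTT', hzT', hT'min⟩ := step hϖ.ne_zero hϖ.not_isUnit hi hpϖ hT
        ⟨y, hsT (Finset.mem_insert_self _ _)⟩ z hz (fun x hd => hne (Subalgebra.inclusion hTS x) (by
          have := map_dvd (Subalgebra.inclusion hTS) hd
          simpa using this))
      refine ⟨T', hT', fun w hw => Algebra.adjoin_le (Set.insert_subset hzT' ?_) (ht2 ⟨w, hw⟩),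
        hT'min S' (hTS.trans hSS') (Algebra.subset_adjoin (Set.mem_insert _ _))⟩
      exact fun a ha => hTT' (hsT (Finset.mem_insert_of_mem
        (Finset.mem_biUnion.2 ⟨⟨w, hw⟩, Finset.mem_attach _ _, ha⟩)))
    exact hzS (hmax.le_of_ge hgood hSS' (Algebra.subset_adjoin (Set.mem_insert _ _)))
  · intro y
    obtain ⟨T, hT, h, y₀, rfl⟩ := hget1 y
    obtain ⟨m, z, hz⟩ := hT.res y₀
    refine ⟨m, z, ?_⟩
    rw [hmS, Ideal.mem_span_singleton]
    simpa using map_dvd (Subalgebra.inclusion h) hz

end Groth.Agent.S16360
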