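import Groth.Statements.S16361
import Groth.Agent.Lib.FC16.Comp
import Groth.Agent.Lib.FC16.Fp

set_option autoImplicit false
universe v u
open CategoryTheory CategoryTheory.Limits
open FibCat

namespace Groth.Agent.S16361
open CategoryTheory.Functor Groth.Agent.FC16
set_option linter.style.haveILetI false
set_option linter.unusedVariables false
set_option backward.isDefEq.respectTransparency false
set_option backward.isDefEq.respectTransparency.types false


/-- Let S be a category, π_X : X ⥤ S and π_Y : Y ⥤ S be fibred in groupoids, and F : Y ⥤ X a functor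
with F ⋙ π_X = π_Y. Consider the category of triples (y, x, φ) with φ : F y ≅ x an arbitrary
isomorphism of X and morphisms the compatible pairs of morphisms (the categorical pullback of F and
the identity of X; the isomorphism φ is not required to lie over an identity of S). Its projection
to X is fibred in groupoids over X, and the composite of that projection with π_X is fibred in
groupoids over S. (The published statement also asserts that y ↦ (y, F y, id) and (y, x, φ) ↦ y form
an equivalence over S; that is not asserted here.) -/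
theorem result {S : Type u} [Category.{v} S] {X : Type u} [Category.{v} X]
    {Y : Type u} [Category.{v} Y] (πX : X ⥤ S) (πY : Y ⥤ S) (hX : FibCat.IsFibGrpd πX) (hY : FibCat.IsFibGrpd πY)
    (F : Y ⥤ X) (hF : F ⋙ πX = πY) :
    FibCat.IsFibGrpd (CategoricalPullback.π₂ F (𝟭 X)) ∧
      FibCat.IsFibGrpd (CategoricalPullback.π₂ F (𝟭 X) ⋙ πX) := by
  subst hF
  have h1 : FibCat.IsFibGrpd (Limits.CategoricalPullback.π₂ F (𝟭 X)) := by
    refine ⟨fun {P x'} f => ?_, fun {P Q} φ => ?_⟩
    · obtain ⟨y', a, ha⟩ := Groth.Agent.FC16.exists_lift hY (rfl : (F ⋙ πX).obj P.fst = _)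
        (πX.map (f ≫ P.iso.inv))
      haveI := ha
      haveI := isHomLift_comp_map (F := F) (G := πX) (πX.map (f ≫ P.iso.inv)) a
      haveI := Groth.Agent.FC16.isStronglyCartesian hX (πX.map (f ≫ P.iso.inv)) (F.map a)
      haveI := Groth.Agent.FC16.isStronglyCartesian hX (πX.map (f ≫ P.iso.inv)) (f ≫ P.iso.inv)
      let i : F.obj y' ≅ x' :=
        IsCartesian.domainUniqueUpToIso πX (πX.map (f ≫ P.iso.inv)) (f ≫ P.iso.inv) (F.map a)
      have fi : i.hom ≫ f ≫ P.iso.inv = F.map a :=
        IsCartesian.fac πX (πX.map (f ≫ P.iso.inv)) (f ≫ P.iso.inv) (F.map a)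
      let Q : Limits.CategoricalPullback F (𝟭 X) := { fst := y', snd := x', iso := i }
      let m : Q ⟶ P :=
        { fst := a
          snd := f
          w := by
            show F.map a ≫ P.iso.hom = i.hom ≫ f
            rw [← fi, Category.assoc, Category.assoc, P.iso.inv_hom_id]
            exact congrArg (i.hom ≫ ·) (Category.comp_id f) }
      exact ⟨Q, m, CategoryTheory.IsHomLift.map (Limits.CategoricalPullback.π₂ F (𝟭 X)) m⟩
    · refine { universal_property' := fun {Z} g ψ hψ => ?_ }
      have e : g ≫ φ.snd = ψ.snd := @IsHomLift.eq_of_isHomLift _ _ _ _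
        (Limits.CategoricalPullback.π₂ F (𝟭 X)) _ _ _ ψ hψ
      have hw : F.map φ.fst ≫ Q.iso.hom = P.iso.hom ≫ φ.snd := φ.w
      have hw' : F.map ψ.fst ≫ Q.iso.hom = Z.iso.hom ≫ ψ.snd := ψ.w
      let k : F.obj Z.fst ⟶ F.obj P.fst := Z.iso.hom ≫ g ≫ P.iso.inv
      have hk : k ≫ F.map φ.fst = F.map ψ.fst := by
        rw [← cancel_mono Q.iso.hom, Category.assoc, hw, hw', ← e]
        simp [k]
      haveI := hY.isStronglyCartesian φ.fst
      haveI : (F ⋙ πX).IsHomLift (πX.map k ≫ (F ⋙ πX).map φ.fst) ψ.fst := by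
        show (F ⋙ πX).IsHomLift (πX.map k ≫ πX.map (F.map φ.fst)) ψ.fst
        rw [← πX.map_comp, hk]
        exact IsHomLift.map (F ⋙ πX) ψ.fst
      obtain ⟨c, ⟨hc, hc'⟩, hu⟩ := IsStronglyCartesian.universal_property (F ⋙ πX)
        ((F ⋙ πX).map φ.fst) φ.fst (πX.map k) (πX.map k ≫ (F ⋙ πX).map φ.fst) rfl ψ.fst
      haveI := hc
      haveI := isHomLift_comp_map (F := F) (G := πX) (πX.map k) c
      haveI := hX.isStronglyCartesian (F.map φ.fst)
      have hck : F.map c = k := IsStronglyCartesian.ext πX (πX.map (F.map φ.fst)) (F.map φ.fst)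
        (πX.map k) (by rw [hk, ← F.map_comp, hc'])
      let m : Z ⟶ P :=
        { fst := c
          snd := g
          w := by
            show F.map c ≫ P.iso.hom = Z.iso.hom ≫ g
            simp [hck, k] }
      refine ⟨m, ⟨CategoryTheory.IsHomLift.map (Limits.CategoricalPullback.π₂ F (𝟭 X)) m,
        Limits.CategoricalPullback.hom_ext hc' e⟩, fun τ hτ => ?_⟩
      have t : g = τ.snd := @IsHomLift.eq_of_isHomLift _ _ _ _
        (Limits.CategoricalPullback.π₂ F (𝟭 X)) _ _ _ τ hτ.1
      refine Limits.CategoricalPullback.hom_ext (hu τ.fst ⟨?_, ?_⟩) t.symm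
      · have wt : F.map τ.fst ≫ P.iso.hom = Z.iso.hom ≫ τ.snd := τ.w
        have : k = F.map τ.fst := by
          rw [← cancel_mono P.iso.hom, wt, ← t]; simp [k]
        rw [this]
        exact IsHomLift.map (F ⋙ πX) τ.fst
      · exact congrArg (fun q => q.fst) hτ.2
  exact ⟨h1, Groth.Agent.FC16.isFibGrpd_comp h1 hX⟩

end Groth.Agent.S16361
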