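import Groth.Statements.S16362
import Mathlib.RingTheory.IntegralClosure.IsIntegralClosure.Basic
import Mathlib.RingTheory.Ideal.Quotient.Operations

set_option autoImplicit false
universe u
open MovLem

namespace Groth.Agent.S16362

/-- Let A be a commutative ring, p a prime ideal of A, and ζ, u elements of A with u not in p. Then the
quotient of the classes of ζ and u in the fraction field of the domain A ⧸ p is integral over A ⧸ p
if and only if there exist a natural number N and elements a_1, …, a_N of A such that ζ^N + a_1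
ζ^(N-1) u + ⋯ + a_N u^N lies in p; equivalently, some binary form of degree N with coefficients in
A, monic in the first variable, evaluated at (ζ, u), lies in p. -/
theorem result
    {A : Type u} [CommRing A] (p : Ideal A) [p.IsPrime] (ζ u : A) (hu : u ∉ p) :
    IsIntegral (A ⧸ p)
        (algebraMap (A ⧸ p) (FractionRing (A ⧸ p)) (Ideal.Quotient.mk p ζ) /
          algebraMap (A ⧸ p) (FractionRing (A ⧸ p)) (Ideal.Quotient.mk p u)) ↔
      ∃ (N : ℕ) (a : ℕ → A),
        ζ ^ N + ∑ i ∈ Finset.Icc 1 N, a i * ζ ^ (N - i) * u ^ i ∈ p := by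
  classical
  set K := FractionRing (A ⧸ p)
  set z := algebraMap (A ⧸ p) K (Ideal.Quotient.mk p ζ)
  set w := algebraMap (A ⧸ p) K (Ideal.Quotient.mk p u)
  have hw : w ≠ 0 := fun h => hu (Ideal.Quotient.eq_zero_iff_mem.mp
    ((IsFractionRing.to_map_eq_zero_iff (K := K)).mp h))
  let φ : A →+* K := (algebraMap (A ⧸ p) K).comp (Ideal.Quotient.mk p)
  have key : ∀ (N : ℕ) (a : ℕ → A), (ζ ^ N + ∑ i ∈ Finset.Icc 1 N, a i * ζ ^ (N - i) * u ^ i ∈ p ↔
      (z / w) ^ N + ∑ i ∈ Finset.Icc 1 N, φ (a i) * (z / w) ^ (N - i) = 0) := by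
    intro N a
    have e : φ (ζ ^ N + ∑ i ∈ Finset.Icc 1 N, a i * ζ ^ (N - i) * u ^ i) =
        ((z / w) ^ N + ∑ i ∈ Finset.Icc 1 N, φ (a i) * (z / w) ^ (N - i)) * w ^ N := by
      rw [map_add, map_pow, map_sum, add_mul, Finset.sum_mul, div_pow, div_mul_cancel₀ _ (pow_ne_zero _ hw)]
      refine congrArg₂ (· + ·) rfl (Finset.sum_congr rfl fun i hi => ?_)
      obtain ⟨-, hi⟩ := Finset.mem_Icc.mp hi
      rw [map_mul, map_mul, map_pow, map_pow, div_pow, mul_div_assoc', div_mul_eq_mul_div, eq_div_iff (pow_ne_zero _ hw)]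
      change φ (a i) * z ^ (N - i) * w ^ i * w ^ (N - i) = φ (a i) * z ^ (N - i) * w ^ N
      rw [mul_assoc _ (w ^ i), ← pow_add, Nat.add_sub_cancel' hi]
    rw [← Ideal.Quotient.eq_zero_iff_mem, ← IsFractionRing.to_map_eq_zero_iff (K := K)]
    change φ _ = 0 ↔ _
    rw [e, mul_eq_zero, or_iff_left (pow_ne_zero _ hw)]
  constructor
  · rintro ⟨q, hq, he⟩
    let N := q.natDegree
    choose b hb using fun i => Ideal.Quotient.mk_surjective (q.coeff (N - i))
    refine ⟨N, b, (key N b).mpr ?_⟩
    rw [Polynomial.eval₂_eq_sum_range, Finset.sum_range_succ, hq.coeff_natDegree, map_one, one_mul] at he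
    rw [add_comm] at he
    refine Eq.trans (congrArg₂ (· + ·) rfl ?_) he
    refine Finset.sum_bij' (fun i _ => N - i) (fun i _ => N - i) ?_ ?_ ?_ ?_ ?_
    · intro i hi; simp only [Finset.mem_Icc, Finset.mem_range] at hi ⊢; omega
    · intro i hi; simp only [Finset.mem_Icc, Finset.mem_range] at hi ⊢; omega
    · intro i hi; simp only [Finset.mem_Icc] at hi; omega
    · intro i hi; simp only [Finset.mem_range] at hi; omega
    · intro i hi
      simp only [φ, RingHom.comp_apply, hb]
      rfl
  · rintro ⟨N, a, h⟩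
    have h' := (key N a).mp h
    refine ⟨Polynomial.X ^ N + ∑ i ∈ Finset.Icc 1 N, Polynomial.C (Ideal.Quotient.mk p (a i)) * Polynomial.X ^ (N - i), ?_, ?_⟩
    · refine Polynomial.monic_X_pow_add ?_
      refine (Polynomial.degree_sum_le _ _).trans_lt ((Finset.sup_lt_iff (WithBot.bot_lt_coe N)).mpr fun i hi => ?_)
      refine (Polynomial.degree_C_mul_X_pow_le _ _).trans_lt ?_
      obtain ⟨h1, h2⟩ := Finset.mem_Icc.mp hi
      exact WithBot.coe_lt_coe.mpr (show N - i < N by omega)
    · simpa [Polynomial.eval₂_add, Polynomial.eval₂_finsetSum, φ] using h'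

end Groth.Agent.S16362
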