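import Groth.Statements.S16363
import Mathlib

set_option autoImplicit false
universe u
open CategoryTheory Limits
open MovLem

namespace Groth.Agent.S16363

section Aux

open TensorProduct AlgebraicGeometry CategoryTheory Limits

set_option maxHeartbeats 1000000

lemma flat_map_left (k L L' B : Type u) [Field k] [Field L] [Field L'] [CommRing B] [Algebra k L] [Algebra k L']
    [Algebra L L'] [IsScalarTower k L L'] [Algebra k B] :
    (Algebra.TensorProduct.map (IsScalarTower.toAlgHom k L L') (AlgHom.id k B)).toRingHom.Flat := by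
  let e : (L ⊗[k] B) ⊗[L] L' ≃+* L' ⊗[k] B :=
    (Algebra.TensorProduct.comm L (L ⊗[k] B) L').toRingEquiv.trans
      (Algebra.TensorProduct.cancelBaseChange k L L' L' B).toRingEquiv
  have h : (algebraMap (L ⊗[k] B) ((L ⊗[k] B) ⊗[L] L')).Flat := RingHom.flat_algebraMap_iff.mpr inferInstance
  have he : (Algebra.TensorProduct.map (IsScalarTower.toAlgHom k L L') (AlgHom.id k B)).toRingHom =
      e.toRingHom.comp (algebraMap (L ⊗[k] B) ((L ⊗[k] B) ⊗[L] L')) := by
    apply RingHom.ext
    intro z
    induction z using TensorProduct.induction_on with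
    | zero => simp
    | tmul a b =>
      change algebraMap L L' a ⊗ₜ[k] b =
        Algebra.TensorProduct.cancelBaseChange k L L' L' B ((1 : L') ⊗ₜ[L] (a ⊗ₜ[k] b))
      rw [Algebra.TensorProduct.cancelBaseChange_tmul, Algebra.smul_def, mul_one]
    | add x y hx hy => rw [map_add, map_add, hx, hy]
  rw [he]
  exact h.comp (RingHom.Flat.of_bijective e.bijective)

lemma minimalPrimes_comap {R S : Type u} [CommRing R] [CommRing S] (f : R →+* S) (hf : f.Flat)
    {Q : Ideal S} (hQ : Q ∈ minimalPrimes S) : Q.comap f ∈ minimalPrimes R := by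
  letI := f.toAlgebra
  haveI : Module.Flat R S := hf
  haveI : Q.IsPrime := hQ.1.1
  refine ⟨⟨inferInstance, bot_le⟩, fun P hP hle => ?_⟩
  haveI : P.IsPrime := hP.1
  haveI : Q.LiesOver (Q.comap f) := ⟨rfl⟩
  obtain ⟨Q', hQ'le, hQ'p, hQ'o⟩ := Ideal.exists_ideal_le_liesOver_of_le Q hle
  have : Q' = Q := le_antisymm hQ'le (hQ.2 ⟨hQ'p, bot_le⟩ hQ'le)
  subst this
  rw [hQ'o.over]
  rfl

/-- the algebra statement -/
lemma exists_bad_ideal {k K B : Type u} (kb Kb : Type u) [Field k] [Field K] [Algebra k K] [CommRing B] [Algebra k B]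
    [Field kb] [Field Kb] [Algebra k kb] [Algebra.IsAlgebraic k kb] [Algebra kb Kb] [Algebra k Kb]
    [Algebra K Kb] [IsScalarTower k kb Kb] [IsScalarTower k K Kb]
    (J : Ideal (K ⊗[k] B)) (hJ : ∀ P ∈ minimalPrimes (K ⊗[k] B), ¬ J ≤ P) :
    ∃ I : Ideal B, (∀ p ∈ minimalPrimes B, ¬ I ≤ p) ∧
      ∀ χ : B →ₐ[k] kb,
        (∀ g ∈ J, Algebra.TensorProduct.lift (IsScalarTower.toAlgHom k K Kb)
          ((IsScalarTower.toAlgHom k kb Kb).comp χ) (fun _ _ => Commute.all _ _) g = 0) →
        I ≤ RingHom.ker χ := by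
  let C := kb ⊗[k] B
  let e := Module.Free.chooseBasis kb Kb
  let bC := Algebra.TensorProduct.basis C e
  let E : Kb ⊗[k] B ≃+* C ⊗[kb] Kb :=
    (Algebra.TensorProduct.cancelBaseChange k kb Kb Kb B).symm.toRingEquiv.trans
      (Algebra.TensorProduct.comm kb Kb C).toRingEquiv
  let ψ : K ⊗[k] B →+* C ⊗[kb] Kb := E.toRingHom.comp
    (Algebra.TensorProduct.map (IsScalarTower.toAlgHom k K Kb) (AlgHom.id k B)).toRingHom
  have hψ : ψ.Flat := by
    refine RingHom.Flat.comp (flat_map_left k K Kb B) ?_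
    exact RingHom.Flat.of_bijective E.bijective
  let IC : Ideal C := Ideal.span {c | ∃ g ∈ J, ∃ j, bC.repr (ψ g) j = c}
  let ι : B →+* C := Algebra.TensorProduct.includeRight.toRingHom
  refine ⟨IC.comap ι, ?_, ?_⟩
  · intro p hp hle
    haveI : p.IsPrime := hp.1.1
    letI : Algebra B C := ι.toAlgebra
    haveI hint : Algebra.IsIntegral B C := by
      refine ⟨fun c => ?_⟩
      have h1 : (Algebra.TensorProduct.comm k B kb).toRingEquiv.toRingHom.comp
          (algebraMap B (B ⊗[k] kb)) = ι := by
        ext b; simp [ι]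
      have h2 : ι.IsIntegral := by
        rw [← h1]
        exact RingHom.IsIntegral.trans _ _ (algebraMap_isIntegral_iff.mpr inferInstance)
          (RingHom.isIntegral_of_surjective _ (Algebra.TensorProduct.comm k B kb).surjective)
      exact h2 c
    obtain ⟨q, hq, hqp, hqc⟩ := Ideal.exists_ideal_over_prime_of_isIntegral p IC hle
    have hqmin : q ∈ minimalPrimes C := by
      refine ⟨⟨hqp, bot_le⟩, fun q' hq' hle' => ?_⟩
      haveI : q'.IsPrime := hq'.1
      rcases eq_or_lt_of_le hle' with h | h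
      · exact h ▸ le_rfl
      · have h3 := Ideal.IsIntegral.comap_lt_comap (R := B) h
        rw [hqc] at h3
        exact absurd (hp.2 ⟨inferInstance, bot_le⟩ h3.le) h3.not_ge
    haveI : q.IsPrime := hqp
    obtain ⟨Q0, hQ0⟩ := PrimeSpectrum.comap_surjective_of_faithfullyFlat (B := C ⊗[kb] Kb) ⟨q, hqp⟩
    obtain ⟨Q, hQmin, hQle⟩ := Ideal.exists_minimalPrimes_le (I := (⊥ : Ideal (C ⊗[kb] Kb)))
      (J := Q0.asIdeal) bot_le
    haveI : Q.IsPrime := hQmin.1.1
    have hQq : q ≤ Q.comap (algebraMap C (C ⊗[kb] Kb)) := by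
      have hle0 : Q.comap (algebraMap C (C ⊗[kb] Kb)) ≤ q :=
        (Ideal.comap_mono hQle).trans_eq (congrArg PrimeSpectrum.asIdeal hQ0)
      exact hqmin.2 ⟨inferInstance, bot_le⟩ hle0
    refine hJ _ (minimalPrimes_comap ψ hψ hQmin) fun g hg => ?_
    rw [Ideal.mem_comap, ← bC.linearCombination_repr (ψ g), Finsupp.linearCombination_apply]
    refine Ideal.sum_mem _ fun j _ => ?_
    show bC.repr (ψ g) j • bC j ∈ Q
    rw [Algebra.smul_def]
    exact Ideal.mul_mem_right _ _ (hQq (hq (Ideal.subset_span ⟨g, hg, j, rfl⟩)))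
  · intro χ hχ
    let χC : C →ₐ[kb] kb := Algebra.TensorProduct.lift (AlgHom.id kb kb) χ (fun _ _ => Commute.all _ _)
    have hC : ∀ b : B, χC ((1 : kb) ⊗ₜ[k] b) = χ b := fun b => by
      show (1 : kb) * χ b = χ b
      exact one_mul _
    let Φ : C ⊗[kb] Kb →ₐ[kb] Kb := Algebra.TensorProduct.lift ((Algebra.ofId kb Kb).comp χC)
      (AlgHom.id kb Kb) (fun _ _ => Commute.all _ _)
    have hΦψ : (Φ : C ⊗[kb] Kb →+* Kb).comp ψ = (Algebra.TensorProduct.lift
        (IsScalarTower.toAlgHom k K Kb) ((IsScalarTower.toAlgHom k kb Kb).comp χ) (fun _ _ => Commute.all _ _)).toRingHom := by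
      refine Algebra.TensorProduct.ringHom_ext ?_ ?_
      · ext a
        simp [Φ, ψ, E, hC]
      · ext b
        simp [Φ, ψ, E, hC]
    have hle : IC ≤ RingHom.ker χC := by
      refine Ideal.span_le.mpr ?_
      rintro _ ⟨g, hg, j, rfl⟩
      have h0 : Φ (ψ g) = 0 := (RingHom.congr_fun hΦψ g).trans (hχ g hg)
      have h1 : ∀ z : C ⊗[kb] Kb, ∀ j, e.repr (Φ z) j = χC (bC.repr z j) := by
        intro z j
        induction z using TensorProduct.induction_on with
        | zero => simp
        | tmul c a =>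
          have hΦt : Φ (c ⊗ₜ a) = χC c • a := by
            rw [Algebra.smul_def]; exact Algebra.TensorProduct.lift_tmul _ _ _ c a
          simp [hΦt, bC, Algebra.TensorProduct.basis_repr_tmul, mul_comm]
        | add x y hx hy => simp [hx, hy]
      have := h1 (ψ g) j
      rw [h0, map_zero, Finsupp.zero_apply] at this
      exact this.symm
    intro b hb
    have := hle hb
    exact (hC b).symm.trans this

lemma exists_lift_range {k K Ω : Type u} [Field k] [Field K] [Algebra k K] [Field Ω] [Algebra k Ω]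
    [Algebra K Ω] [IsScalarTower k K Ω] {Kb : Type u} [Field Kb] [Algebra k Kb] [IsAlgClosed Kb]
    (σ : Kb →ₐ[k] Ω) {y : Ω} (hy : IsIntegral k y) : ∃ a : algebraicClosure k Kb, σ a = y := by
  letI := σ.toRingHom.toAlgebra
  haveI : IsScalarTower k Kb Ω := IsScalarTower.of_algebraMap_eq fun r => (σ.commutes r).symm
  have hy' : IsIntegral Kb y := hy.tower_top
  have hd : (minpoly Kb y).degree = 1 := IsAlgClosed.degree_eq_one_of_irreducible _ (minpoly.irreducible hy')
  obtain ⟨a, ha⟩ := minpoly.degree_eq_one_iff.mp hd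
  refine ⟨⟨a, ?_⟩, ha⟩
  rw [mem_algebraicClosure_iff]
  exact ((isIntegral_algHom_iff σ σ.toRingHom.injective).mp (by rwa [show σ a = y from ha])).isAlgebraic

variable {k K : Type u} [Field k] [Field K] [Algebra k K] {X : Scheme.{u}}
  (f : X ⟶ Spec (CommRingCat.of k)) [LocallyOfFiniteType f]

/-- the bad set inside one affine chart -/
lemma exists_bad_closed (U' : (pullback f (Spec.map (CommRingCat.ofHom (algebraMap k K)))).Opens)
    (hU' : Dense (U' : Set ↥(pullback f (Spec.map (CommRingCat.ofHom (algebraMap k K))))))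
    {V : X.Opens} (hV : IsAffineOpen V) :
    ∃ Z : Set X, IsClosed Z ∧ Dense Zᶜ ∧
      ∀ (kb Ω : Type u) [Field kb] [Algebra k kb] [IsAlgClosure k kb]
        [Field Ω] [Algebra k Ω] [Algebra kb Ω] [Algebra K Ω] [IsScalarTower k kb Ω] [IsScalarTower k K Ω]
        (x : Spec (CommRingCat.of kb) ⟶ X),
        x ≫ f = Spec.map (CommRingCat.ofHom (algebraMap k kb)) →
        (∀ t : ↥(Spec (CommRingCat.of kb)), x.base t ∈ V ∧ x.base t ∉ Z) →
        ∀ (y : Spec (CommRingCat.of Ω) ⟶ pullback f (Spec.map (CommRingCat.ofHom (algebraMap k K)))),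
          y ≫ pullback.fst f (Spec.map (CommRingCat.ofHom (algebraMap k K))) =
              Spec.map (CommRingCat.ofHom (algebraMap kb Ω)) ≫ x →
          y ≫ pullback.snd f (Spec.map (CommRingCat.ofHom (algebraMap k K))) =
              Spec.map (CommRingCat.ofHom (algebraMap K Ω)) →
          ∀ t : ↥(Spec (CommRingCat.of Ω)), y.base t ∈ U' := by
  let B := Γ(X, V)
  let φ : CommRingCat.of k ⟶ B := Spec.preimage (hV.fromSpec ≫ f)
  have hφ : Spec.map φ = hV.fromSpec ≫ f := Spec.map_preimage _
  letI : Algebra k B := φ.hom.toAlgebra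
  let sK := Spec.map (CommRingCat.ofHom (algebraMap k K))
  have hB : Spec.map (CommRingCat.ofHom (algebraMap k B)) = hV.fromSpec ≫ f := hφ
  let σ : Spec (CommRingCat.of (K ⊗[k] B)) ⟶ pullback f sK := pullback.lift
    (Spec.map (CommRingCat.ofHom (Algebra.TensorProduct.includeRight (R := k) (A := K) (B := B)).toRingHom) ≫ hV.fromSpec)
    (Spec.map (CommRingCat.ofHom (algebraMap K (K ⊗[k] B))))
    (by
      rw [Category.assoc, ← hB, ← Spec.map_comp, ← Spec.map_comp]
      congr 1
      ext r
      exact (Algebra.TensorProduct.includeRight.commutes r))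
  haveI : IsOpenImmersion σ := by
    have hsq : IsPullback
        (Spec.map (CommRingCat.ofHom (Algebra.TensorProduct.includeRight (R := k) (A := K) (B := B)).toRingHom))
        (Spec.map (CommRingCat.ofHom (algebraMap K (K ⊗[k] B))))
        (hV.fromSpec ≫ f) sK := by
      rw [← hB]
      exact (IsPullback.of_iso_pullback ⟨by
          rw [← Spec.map_comp, ← Spec.map_comp]
          congr 1
          ext r
          exact (Algebra.TensorProduct.includeRight.commutes r).symm⟩ (pullbackSpecIso k K B).symm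
        (pullbackSpecIso_inv_fst' k K B) (pullbackSpecIso_inv_snd k K B)).flip
    have hsq' := hsq
    rw [← show σ ≫ pullback.snd f sK = Spec.map (CommRingCat.ofHom (algebraMap K (K ⊗[k] B))) from pullback.lift_snd _ _ _] at hsq'
    have h2 : IsPullback (Spec.map (CommRingCat.ofHom
          (Algebra.TensorProduct.includeRight (R := k) (A := K) (B := B)).toRingHom))
        σ hV.fromSpec (pullback.fst f sK) :=
      IsPullback.of_bot hsq' (pullback.lift_fst _ _ _).symm (IsPullback.of_hasPullback f sK)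
    exact MorphismProperty.of_isPullback h2 inferInstance
  have hσ1 : σ ≫ pullback.fst f sK = Spec.map (CommRingCat.ofHom
      (Algebra.TensorProduct.includeRight (R := k) (A := K) (B := B)).toRingHom) ≫ hV.fromSpec := pullback.lift_fst _ _ _
  have hσ2 : σ ≫ pullback.snd f sK = Spec.map (CommRingCat.ofHom (algebraMap K (K ⊗[k] B))) :=
    pullback.lift_snd _ _ _
  let W : Set (PrimeSpectrum (K ⊗[k] B)) := σ.base ⁻¹' U'
  have hWo : IsOpen W := U'.2.preimage σ.base.hom.continuous
  have hWd : Dense W := hU'.preimage σ.isOpenEmbedding.isOpenMap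
  let J := PrimeSpectrum.vanishingIdeal Wᶜ
  have hJz : PrimeSpectrum.zeroLocus (J : Set (K ⊗[k] B)) = Wᶜ := by
    rw [PrimeSpectrum.zeroLocus_vanishingIdeal_eq_closure, hWo.isClosed_compl.closure_eq]
  have hJ : ∀ P ∈ minimalPrimes (K ⊗[k] B), ¬ J ≤ P := by
    intro P hP hle
    haveI : P.IsPrime := hP.1.1
    haveI : Algebra.FiniteType k B := by
      haveI : LocallyOfFiniteType (Spec.map φ) := hφ ▸ inferInstance
      have h := (HasRingHomProperty.Spec_iff (P := @LocallyOfFiniteType)).mp ‹LocallyOfFiniteType (Spec.map φ)›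
      exact h
    haveI : IsNoetherianRing (K ⊗[k] B) := Algebra.FiniteType.isNoetherianRing K _
    have hPW : (⟨P, inferInstance⟩ : PrimeSpectrum (K ⊗[k] B)) ∉ W := fun h => by
      have : (⟨P, inferInstance⟩ : PrimeSpectrum (K ⊗[k] B)) ∈ Wᶜ := hJz ▸ hle
      exact this h
    let s : Set (PrimeSpectrum (K ⊗[k] B)) :=
      (⋃ Q ∈ minimalPrimes (K ⊗[k] B) \ {P}, PrimeSpectrum.zeroLocus (Q : Set (K ⊗[k] B)))ᶜ
    have hso : IsOpen s := (((minimalPrimes.finite_of_isNoetherianRing _).diff).isClosed_biUnion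
      fun Q _ => PrimeSpectrum.isClosed_zeroLocus _).isOpen_compl
    have hPs : (⟨P, inferInstance⟩ : PrimeSpectrum (K ⊗[k] B)) ∈ s := by
      simp only [s, Set.mem_compl_iff, Set.mem_iUnion, not_exists]
      rintro Q ⟨hQ, hQP⟩ (hm : Q ≤ P)
      exact hQP (le_antisymm hm (hP.2 hQ.1 hm))
    obtain ⟨w, hws, hwW⟩ := hWd.inter_open_nonempty s hso ⟨_, hPs⟩
    obtain ⟨Q, hQ, hQw⟩ := Ideal.exists_minimalPrimes_le (I := (⊥ : Ideal (K ⊗[k] B))) (J := w.asIdeal) bot_le
    by_cases hQP : Q = P
    · subst hQP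
      exact hPW (((PrimeSpectrum.le_iff_specializes ⟨Q, _⟩ w).mp hQw).mem_open hWo hwW)
    · exact hws (Set.mem_biUnion ⟨hQ, hQP⟩ hQw)
  obtain ⟨I, hI, hbad⟩ := exists_bad_ideal (algebraicClosure k (AlgebraicClosure K)) (AlgebraicClosure K) J hJ
  let Z0 : Set (Spec B) := PrimeSpectrum.zeroLocus (I : Set B)
  refine ⟨closure (hV.fromSpec.base '' Z0), isClosed_closure, ?_, ?_⟩
  · rw [← interior_eq_empty_iff_dense_compl]
    by_contra hne
    obtain ⟨p, hp⟩ := Set.nonempty_iff_ne_empty.mpr hne
    have hcl := hV.fromSpec.isOpenEmbedding.isOpenMap.preimage_closure_eq_closure_preimage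
      hV.fromSpec.base.hom.continuous (hV.fromSpec.base '' Z0)
    rw [Set.preimage_image_eq _ hV.fromSpec.isOpenEmbedding.injective,
      (show IsClosed Z0 from PrimeSpectrum.isClosed_zeroLocus _).closure_eq] at hcl
    obtain ⟨_, hq, q, hqZ, rfl⟩ := mem_closure_iff.mp (interior_subset hp) _ isOpen_interior hp
    obtain ⟨P, hP, hPq⟩ := Ideal.exists_minimalPrimes_le (I := (⊥ : Ideal B))
      (J := (show PrimeSpectrum B from q).asIdeal) bot_le
    haveI : P.IsPrime := hP.1.1
    let P' : PrimeSpectrum B := ⟨P, inferInstance⟩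
    have hP' : hV.fromSpec.base P' ∈ interior (closure (hV.fromSpec.base '' Z0)) :=
      (((PrimeSpectrum.le_iff_specializes P' q).mp hPq).map hV.fromSpec.base.hom.continuous).mem_open
        isOpen_interior hq
    have hP'' : P' ∈ Z0 := by
      rw [← hcl]
      exact Set.mem_preimage.mpr (interior_subset hP')
    exact hI P hP hP''
  · intro kb Ω _ _ _ _ _ _ _ _ _ x hx hxV y hy1 hy2 t
    by_contra hyU
    let xV : Spec (CommRingCat.of kb) ⟶ Spec B := IsOpenImmersion.lift hV.fromSpec x (by
      rw [IsAffineOpen.range_fromSpec]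
      rintro _ ⟨s, rfl⟩
      exact (hxV s).1)
    have hxV' : xV ≫ hV.fromSpec = x := IsOpenImmersion.lift_fac _ _ _
    let βc : B ⟶ CommRingCat.of kb := Spec.preimage xV
    have hβc : Spec.map βc = xV := Spec.map_preimage _
    let β : B →ₐ[k] kb :=
      { βc.hom with
        commutes' := fun r => by
          have : CommRingCat.ofHom (algebraMap k B) ≫ βc = CommRingCat.ofHom (algebraMap k kb) := by
            apply Spec.map_injective
            rw [Spec.map_comp, hB, hβc, ← Category.assoc, hxV', hx]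
          exact RingHom.congr_fun (congrArg CommRingCat.Hom.hom this) r }
    let Ωb := AlgebraicClosure Ω
    letI : Algebra K Ωb := inferInstance
    let σb : AlgebraicClosure K →ₐ[K] Ωb := IsAlgClosed.lift
    let j : kb →ₐ[k] Ωb := (IsScalarTower.toAlgHom k Ω Ωb).comp (IsScalarTower.toAlgHom k kb Ω)
    let kK := algebraicClosure k (AlgebraicClosure K)
    have hrange : ∀ b : B, ∃ a : kK, σb a = j (β b) := fun b =>
      exists_lift_range (K := K) (σb.restrictScalars k)
        ((Algebra.IsAlgebraic.isAlgebraic (R := k) (β b)).isIntegral.map j)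
    choose χ0 hχ0 using hrange
    have hinj : Function.Injective fun a : kK => σb a := σb.toRingHom.injective.comp Subtype.val_injective
    let χ : B →ₐ[k] kK :=
      { toFun := χ0
        map_one' := hinj (by simp [hχ0])
        map_mul' := fun a b => hinj (by simp [hχ0])
        map_zero' := hinj (by simp [hχ0])
        map_add' := fun a b => hinj (by simp [hχ0])
        commutes' := fun r => hinj (by simp [hχ0, ← IsScalarTower.algebraMap_apply]) }
    let ΦΩ : K ⊗[k] B →ₐ[k] Ω := Algebra.TensorProduct.lift (IsScalarTower.toAlgHom k K Ω)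
      ((IsScalarTower.toAlgHom k kb Ω).comp β) (fun _ _ => Commute.all _ _)
    have hy : y = Spec.map (CommRingCat.ofHom ΦΩ.toRingHom) ≫ σ := by
      apply pullback.hom_ext
      · rw [hy1, Category.assoc, hσ1, ← Spec.map_comp_assoc, ← hxV', ← hβc, ← Spec.map_comp_assoc]
        congr 2
        ext b
        simp [ΦΩ, β]
      · rw [hy2, Category.assoc, hσ2, ← Spec.map_comp]
        congr 1
        ext a
        simp [ΦΩ]
    have hpt : (Spec.map (CommRingCat.ofHom ΦΩ.toRingHom)).base t ∈ Wᶜ := by
      intro h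
      apply hyU
      rw [hy]
      exact h
    rw [← hJz] at hpt
    have hker : I ≤ RingHom.ker χ := by
      refine hbad χ fun g hg => ?_
      have hg0 : ΦΩ g = 0 := by
        have hm := hpt hg
        have ht : (show PrimeSpectrum Ω from t).asIdeal = ⊥ := Ideal.eq_bot_of_prime _
        change g ∈ ((show PrimeSpectrum Ω from t).asIdeal).comap ΦΩ.toRingHom at hm
        rw [ht] at hm
        exact hm
      apply σb.toRingHom.injective
      rw [map_zero, ← map_zero (algebraMap Ω Ωb), ← hg0]
      have heq : ((σb.restrictScalars k).comp (Algebra.TensorProduct.lift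
          (IsScalarTower.toAlgHom k K (AlgebraicClosure K)) ((IsScalarTower.toAlgHom k kK (AlgebraicClosure K)).comp χ) (fun _ _ => Commute.all _ _))) =
          (IsScalarTower.toAlgHom k Ω Ωb).comp ΦΩ := by
        refine Algebra.TensorProduct.ext ?_ ?_
        · ext a
          simp [ΦΩ, ← IsScalarTower.algebraMap_apply]
        · ext b
          simp [ΦΩ]
          exact hχ0 b
      exact AlgHom.congr_fun heq g
    obtain ⟨t0⟩ : Nonempty ↥(Spec (CommRingCat.of kb)) := inferInstance
    apply (hxV t0).2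
    refine subset_closure ⟨xV.base t0, ?_, by rw [← hxV']; rfl⟩
    rw [← hβc]
    intro b hb
    have hb0 : β b = 0 := by
      have h := hχ0 b
      rw [show χ0 b = 0 from hker hb] at h
      apply j.toRingHom.injective
      simpa using h.symm
    change βc.hom b ∈ (show PrimeSpectrum kb from t0).asIdeal
    rw [show βc.hom b = β b from rfl, hb0]
    exact Ideal.zero_mem _

end Aux


open AlgebraicGeometry in
/-- Let k be a field, X a k-scheme of finite type, K an extension field of k and U' ⊆ X_K = X ×_k Spec K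
a dense open subset. There exists a dense open U ⊆ X with the following property: for every
algebraic closure k̄ of k, every field Ω that is simultaneously a k̄-algebra and a K-algebra
compatibly with k, and every k-morphism x : Spec k̄ → X whose image point lies in U, every
K-morphism y : Spec Ω → X_K whose composite with the projection X_K → X is the composite Spec Ω →
Spec k̄ → X has image point in U'. (In words: the k̄-points of U, viewed as Ω-points of X_K, lie in
U'.) -/
theorem result
    {k K : Type u} [Field k] [Field K] [Algebra k K]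
    (X : Scheme.{u}) (f : X ⟶ Spec (CommRingCat.of k)) [LocallyOfFiniteType f] [QuasiCompact f]
    (U' : (pullback f (Spec.map (CommRingCat.ofHom (algebraMap k K)))).Opens)
    (hU' : Dense (U' : Set ↥(pullback f (Spec.map (CommRingCat.ofHom (algebraMap k K)))))) :
    ∃ U : X.Opens, Dense (U : Set ↥X) ∧
      ∀ (kb Ω : Type u) [Field kb] [Algebra k kb] [IsAlgClosure k kb]
        [Field Ω] [Algebra k Ω] [Algebra kb Ω] [Algebra K Ω] [IsScalarTower k kb Ω] [IsScalarTower k K Ω]
        (x : Spec (CommRingCat.of kb) ⟶ X),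
        x ≫ f = Spec.map (CommRingCat.ofHom (algebraMap k kb)) →
        (∀ t : ↥(Spec (CommRingCat.of kb)), x.base t ∈ U) →
        ∀ (y : Spec (CommRingCat.of Ω) ⟶ pullback f (Spec.map (CommRingCat.ofHom (algebraMap k K)))),
          y ≫ pullback.fst f (Spec.map (CommRingCat.ofHom (algebraMap k K))) =
              Spec.map (CommRingCat.ofHom (algebraMap kb Ω)) ≫ x →
          y ≫ pullback.snd f (Spec.map (CommRingCat.ofHom (algebraMap k K))) =
              Spec.map (CommRingCat.ofHom (algebraMap K Ω)) →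
          ∀ t : ↥(Spec (CommRingCat.of Ω)), y.base t ∈ U' := by
  haveI : CompactSpace X := QuasiCompact.compactSpace_of_compactSpace f
  have hcov : (Set.univ : Set X) ⊆ ⋃ V : X.affineOpens, ((V : X.Opens) : Set X) := by
    intro p _
    obtain ⟨V, hV, hp, -⟩ := exists_isAffineOpen_mem_and_subset (U := (⊤ : X.Opens)) (x := p) trivial
    exact Set.mem_iUnion.mpr ⟨⟨V, hV⟩, hp⟩
  obtain ⟨S, hS⟩ := isCompact_univ.elim_finite_subcover (fun V : X.affineOpens => ((V : X.Opens) : Set X))
    (fun V => (V : X.Opens).2) hcov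
  choose Z hZc hZd hZ using fun V : X.affineOpens => exists_bad_closed f U' hU' V.2
  have hd : ∀ T : Finset X.affineOpens, IsOpen (⋂ V ∈ T, (Z V)ᶜ) ∧ Dense (⋂ V ∈ T, (Z V)ᶜ) := by
    intro T
    classical
    induction T using Finset.induction with
    | empty => simp
    | insert a T _ ih =>
      rw [Finset.set_biInter_insert]
      exact ⟨(hZc a).isOpen_compl.inter ih.1, (hZd a).inter_of_isOpen_left ih.2 (hZc a).isOpen_compl⟩
  refine ⟨⟨_, (hd S).1⟩, (hd S).2, ?_⟩
  intro kb Ω _ _ _ _ _ _ _ _ _ x hx hxU y hy1 hy2 t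
  obtain ⟨t0⟩ : Nonempty ↥(Spec (CommRingCat.of kb)) := inferInstance
  obtain ⟨V, hVS, hxV⟩ : ∃ V ∈ S, x.base t0 ∈ (V : X.Opens) := by
    simpa using hS (Set.mem_univ (x.base t0))
  refine hZ V kb Ω x hx (fun t' => ?_) y hy1 hy2 t
  obtain rfl : t' = t0 := Subsingleton.elim _ _
  exact ⟨hxV, Set.mem_iInter₂.mp (hxU t') V hVS⟩

end Groth.Agent.S16363
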