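import Groth.Statements.S16365
import Groth.Agent.Lib.UnitSmooth4.Crit
-- import your own Groth.Agent.* helpers here

set_option autoImplicit false
universe u
open CategoryTheory Limits
open MovLem

namespace Groth.Agent.S16365

open AlgebraicGeometry in
/-- Let k be an infinite field, X a scheme of finite type over k, U an open subscheme of X which is
smooth over k, and x a point of X. Assume that if x lies in U then x is not an isolated point of X.
Then there exist an open neighbourhood V of x in X and a k-morphism v from V to the multiplicative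
group Spec k[T, T⁻¹] whose restriction to V ∩ U is a smooth morphism. (The published statement has
no hypothesis on x; when x is an isolated point of X lying in U the conclusion fails, since a
zero-dimensional scheme admits no smooth morphism to a curve, and in every other case an isolated
point can be discarded, so that case is excluded here.) -/
theorem result
    {k : Type u} [Field k] [Infinite k]
    (X : Scheme.{u}) (f : X ⟶ Spec (CommRingCat.of k)) [LocallyOfFiniteType f] [QuasiCompact f]
    (U : X.Opens) [Smooth (U.ι ≫ f)] (x : ↥X) (hx : x ∈ U → ¬ IsOpen ({x} : Set ↥X)) :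
    ∃ (V : X.Opens) (v : (↑V : Scheme.{u}) ⟶ Spec (CommRingCat.of (LaurentPolynomial k))),
      x ∈ V ∧
      v ≫ Spec.map (CommRingCat.ofHom (algebraMap k (LaurentPolynomial k))) = V.ι ≫ f ∧
      Smooth (X.homOfLE (inf_le_left : V ⊓ U ≤ V) ≫ v) := by
  classical
  obtain ⟨W, hW, hxW, -⟩ := exists_isAffineOpen_mem_and_subset (x := x) (U := ⊤) trivial
  let κ : CommRingCat.of k ⟶ Γ(X, W) := (Scheme.ΓSpecIso (CommRingCat.of k)).inv ≫ f.appLE ⊤ W le_top
  letI : Algebra k Γ(X, W) := κ.hom.toAlgebra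
  have hft : κ.hom.FiniteType :=
    (HasRingHomProperty.appLE @LocallyOfFiniteType f inferInstance ⟨⊤, isAffineOpen_top _⟩ ⟨W, hW⟩ le_top).comp
      (RingHom.FiniteType.of_surjective _ (ConcreteCategory.bijective_of_isIso (Scheme.ΓSpecIso (CommRingCat.of k)).inv).surjective)
  haveI : Algebra.FiniteType k Γ(X, W) := hft
  haveI : Algebra.FinitePresentation k Γ(X, W) := Algebra.FinitePresentation.of_finiteType.1 inferInstance
  let Us : Set (PrimeSpectrum Γ(X, W)) := hW.fromSpec ⁻¹' (U : Set ↥X)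
  have hUo : IsOpen Us := U.2.preimage hW.fromSpec.continuous
  have hbo : ∀ r : Γ(X, W), (↑(PrimeSpectrum.basicOpen r) : Set (PrimeSpectrum Γ(X, W))) = hW.fromSpec ⁻¹' (X.basicOpen r : Set ↥X) := by
    intro r
    rw [← hW.fromSpec_preimage_basicOpen r]
    rfl
  have hle : ∀ r : Γ(X, W), (↑(PrimeSpectrum.basicOpen r) : Set (PrimeSpectrum Γ(X, W))) ⊆ Us → X.basicOpen r ≤ U := by
    intro r hr y hy
    have h1 : hW.fromSpec (hW.primeIdealOf ⟨y, X.basicOpen_le r hy⟩) ∈ U := hr (by
      rw [hbo]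
      show hW.fromSpec (hW.primeIdealOf ⟨y, X.basicOpen_le r hy⟩) ∈ X.basicOpen r
      rw [hW.fromSpec_primeIdealOf]
      exact hy)
    rwa [hW.fromSpec_primeIdealOf] at h1
  have hsm : Us ⊆ Algebra.smoothLocus k Γ(X, W) := by
    intro q hq
    obtain ⟨_, ⟨_, ⟨r, rfl⟩, rfl⟩, hqr, hrU⟩ :=
      PrimeSpectrum.isBasis_basic_opens.exists_subset_of_mem_open hq hUo
    let O := X.basicOpen r
    have hOU : O ≤ U := hle r hrU
    haveI : Smooth (O.ι ≫ f) := by
      rw [← X.homOfLE_ι hOU, Category.assoc]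
      infer_instance
    have h0 : (f.appLE ⊤ O le_top).hom.Smooth := by
      have h1 := HasRingHomProperty.appLE @Smooth (O.ι ≫ f) inferInstance ⟨⊤, isAffineOpen_top _⟩
        ⟨⊤, haveI : IsAffine (O : Scheme.{u}) := hW.basicOpen r; isAffineOpen_top _⟩ le_top
      have h2 : (O.ι ≫ f).appLE ⊤ ⊤ le_top ≫ O.topIso.hom = f.appLE ⊤ O le_top := by
        simp [Scheme.Opens.topIso_hom, Scheme.Hom.appLE]
        congr 1
        erw [Category.id_comp, ← X.presheaf.map_comp]
        rfl
      rw [← h2]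
      exact RingHom.Smooth.comp h1 (RingHom.Smooth.of_bijective (ConcreteCategory.bijective_of_isIso O.topIso.hom))
    letI : Algebra k Γ(X, O) := (algebraMap Γ(X, W) Γ(X, O)).comp (algebraMap k Γ(X, W)) |>.toAlgebra
    haveI : IsScalarTower k Γ(X, W) Γ(X, O) := IsScalarTower.of_algebraMap_eq' rfl
    haveI := hW.isLocalization_basicOpen r
    have h3 : Algebra.Smooth k Γ(X, O) := by
      rw [← RingHom.smooth_algebraMap]
      have h4 : algebraMap k Γ(X, O) = ((Scheme.ΓSpecIso (CommRingCat.of k)).inv ≫ f.appLE ⊤ O le_top).hom := by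
        change ((f.appLE ⊤ W le_top ≫ X.presheaf.map (homOfLE (X.basicOpen_le r)).op).hom.comp _) = _
        rw [Scheme.Hom.appLE_map]
        rfl
      rw [h4]
      exact RingHom.Smooth.comp (RingHom.Smooth.of_bijective
        (ConcreteCategory.bijective_of_isIso (Scheme.ΓSpecIso (CommRingCat.of k)).inv)) h0
    haveI : Algebra.Smooth k (Localization.Away r) := Algebra.Smooth.of_equiv
      (((IsLocalization.algEquiv (Submonoid.powers r) Γ(X, O) (Localization.Away r))).restrictScalars k)
    exact Algebra.basicOpen_subset_smoothLocus_iff_smooth.2 this hqr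
  have hp : hW.primeIdealOf ⟨x, hxW⟩ ∈ Us → ¬ IsOpen ({hW.primeIdealOf ⟨x, hxW⟩} : Set (PrimeSpectrum Γ(X, W))) := by
    intro hmem ho
    have hmem' : x ∈ U := by
      have : hW.fromSpec (hW.primeIdealOf ⟨x, hxW⟩) ∈ U := hmem
      rwa [hW.fromSpec_primeIdealOf] at this
    have := hW.fromSpec.isOpenEmbedding.isOpenMap _ ho
    have he : (hW.fromSpec '' {hW.primeIdealOf ⟨x, hxW⟩} : Set ↥X) = {x} :=
      Set.image_singleton.trans (congrArg _ (hW.fromSpec_primeIdealOf ⟨x, hxW⟩))
    exact hx hmem' (he ▸ this)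
  obtain ⟨v, h, hh, hvh, hfin⟩ := Groth.Agent.UnitSmooth4.exists_unit_smooth_on k Us hUo hsm _ hp
  let V := X.basicOpen h
  have hVW : V ≤ W := X.basicOpen_le h
  let ρ : Γ(X, W) →+* Γ(X, V) := (X.presheaf.map (homOfLE hVW).op).hom
  have hvu : IsUnit ((ρ.comp (Polynomial.aeval (R := k) v).toRingHom) Polynomial.X) := by
    simp only [RingHom.comp_apply, AlgHom.toRingHom_eq_coe, RingHom.coe_coe, Polynomial.aeval_X]
    exact isUnit_of_dvd_unit (map_dvd ρ hvh) (RingedSpace.isUnit_res_basicOpen _ h)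
  let φL : LaurentPolynomial k →+* Γ(X, V) := IsLocalization.Away.lift (Polynomial.X : Polynomial k) hvu
  have hφ : ∀ p : Polynomial k, φL (algebraMap (Polynomial k) (LaurentPolynomial k) p) =
      ρ (Polynomial.aeval (R := k) v p) := fun p => IsLocalization.Away.lift_eq _ hvu p
  refine ⟨V, V.toSpecΓ ≫ Spec.map (CommRingCat.ofHom φL), ?_, ?_, ?_⟩
  · have : hW.fromSpec (hW.primeIdealOf ⟨x, hxW⟩) ∈ X.basicOpen h := by
      have h1 : hW.primeIdealOf ⟨x, hxW⟩ ∈ (↑(PrimeSpectrum.basicOpen h) : Set (PrimeSpectrum Γ(X, W))) := hh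
      rwa [hbo] at h1
    rwa [hW.fromSpec_primeIdealOf] at this
  · rw [Category.assoc, ← Spec.map_comp]
    apply ext_of_isAffine
    have : CommRingCat.ofHom (algebraMap k (LaurentPolynomial k)) ≫ CommRingCat.ofHom φL =
        (Scheme.ΓSpecIso (CommRingCat.of k)).inv ≫ f.appLE ⊤ V le_top := by
      rw [← f.appLE_map (U := ⊤) (V := W) le_top (homOfLE hVW).op, ← Category.assoc (Scheme.ΓSpecIso _).inv]
      ext c
      have hC : algebraMap k (LaurentPolynomial k) c =
          algebraMap (Polynomial k) (LaurentPolynomial k) (Polynomial.C c) := by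
        simp [LaurentPolynomial.algebraMap_eq_toLaurent, Polynomial.toLaurent_C]
      change φL (algebraMap k (LaurentPolynomial k) c) = _
      rw [hC, hφ, Polynomial.aeval_C]
      rfl
    rw [this, Scheme.Hom.comp_appTop, Scheme.Hom.comp_appTop, Scheme.Opens.toSpecΓ_appTop,
      Scheme.ΓSpecIso_naturality_assoc, ← Category.assoc, Category.assoc]
    simp [Scheme.Hom.appLE, Scheme.Opens.topIso]
    congr 1
    erw [← X.presheaf.map_comp]
    rfl
  · have hpt : ∀ z : ↥((V ⊓ U : X.Opens) : Scheme.{u}), ∃ a : Γ(X, W), z.1 ∈ X.basicOpen a ∧ X.basicOpen a ≤ V ∧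
        ((algebraMap Γ(X, W) (Localization.Away a)).comp (Polynomial.aeval (R := k) v).toRingHom).Smooth := by
      intro z
      have hzW : z.1 ∈ W := hVW z.2.1
      obtain ⟨a, ha, hha, -, hsa⟩ := hfin (hW.primeIdealOf ⟨z.1, hzW⟩)
        (by
          show hW.fromSpec (hW.primeIdealOf ⟨z.1, hzW⟩) ∈ U
          rw [hW.fromSpec_primeIdealOf]
          exact z.2.2)
        (by
          intro hc
          have h1 : z.1 ∈ X.basicOpen h := z.2.1
          rw [← hW.fromSpec_primeIdealOf ⟨z.1, hzW⟩] at h1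
          have h2 : hW.primeIdealOf ⟨z.1, hzW⟩ ∈ (↑(PrimeSpectrum.basicOpen h) : Set (PrimeSpectrum Γ(X, W))) := by
            rw [hbo]; exact h1
          exact h2 hc)
      refine ⟨a, ?_, ?_, hsa⟩
      · have h2 : hW.primeIdealOf ⟨z.1, hzW⟩ ∈ (↑(PrimeSpectrum.basicOpen a) : Set (PrimeSpectrum Γ(X, W))) := ha
        rw [hbo] at h2
        have h3 : hW.fromSpec (hW.primeIdealOf ⟨z.1, hzW⟩) ∈ X.basicOpen a := h2
        rwa [hW.fromSpec_primeIdealOf] at h3
      · obtain ⟨b, rfl⟩ := hha
        exact (X.basicOpen_mul h b).le.trans inf_le_left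
    choose a haz haV hsa using hpt
    apply IsZariskiLocalAtSource.of_iSup_eq_top (P := @Smooth) (fun z => (V ⊓ U).ι ⁻¹ᵁ X.basicOpen (a z))
    · exact eq_top_iff.2 fun z _ => TopologicalSpace.Opens.mem_iSup.2 ⟨z, haz z⟩
    intro z
    let O := (V ⊓ U).ι ⁻¹ᵁ X.basicOpen (a z)
    let Z := X.basicOpen (a z)
    have hrange : Set.range (O.ι ≫ (V ⊓ U).ι) ⊆ Set.range Z.ι := by
      rintro _ ⟨y, rfl⟩
      rw [Scheme.Opens.range_ι]
      exact y.2
    let i := IsOpenImmersion.lift Z.ι (O.ι ≫ (V ⊓ U).ι) hrange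
    have hi : i ≫ Z.ι = O.ι ≫ (V ⊓ U).ι := IsOpenImmersion.lift_fac _ _ _
    haveI : IsOpenImmersion (i ≫ Z.ι) := by rw [hi]; infer_instance
    haveI : IsOpenImmersion i := IsOpenImmersion.of_comp i Z.ι
    have he : O.ι ≫ X.homOfLE (inf_le_left : V ⊓ U ≤ V) = i ≫ X.homOfLE (haV z) := by
      rw [← cancel_mono V.ι, Category.assoc, Category.assoc, X.homOfLE_ι, X.homOfLE_ι, hi]
    rw [← Category.assoc O.ι, he, Category.assoc]
    apply IsZariskiLocalAtSource.comp (P := @Smooth)
    rw [← Category.assoc, ← Scheme.Opens.toSpecΓ_SpecMap_presheaf_map, Category.assoc, ← Spec.map_comp]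
    rw [show Z.toSpecΓ = (hW.basicOpen (a z)).isoSpec.hom from rfl,
      MorphismProperty.cancel_left_of_respectsIso @Smooth, HasRingHomProperty.Spec_iff (P := @Smooth)]
    haveI := hW.isLocalization_basicOpen (a z)
    let ψ : LaurentPolynomial k →+* Γ(X, Z) := (X.presheaf.map (homOfLE (haV z)).op).hom.comp φL
    change ψ.Smooth
    letI : Algebra (LaurentPolynomial k) Γ(X, Z) := ψ.toAlgebra
    letI : Algebra (Polynomial k) Γ(X, Z) :=
      ((algebraMap Γ(X, W) Γ(X, Z)).comp (Polynomial.aeval (R := k) v).toRingHom).toAlgebra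
    haveI : IsScalarTower (Polynomial k) (LaurentPolynomial k) Γ(X, Z) := IsScalarTower.of_algebraMap_eq fun p => by
      show _ = (X.presheaf.map (homOfLE (haV z)).op).hom (φL _)
      rw [hφ]
      exact (ConcreteCategory.congr_hom (X.presheaf.map_comp (homOfLE hVW).op (homOfLE (haV z)).op) _)
    have h5 := RingHom.Smooth.comp (hsa z) (RingHom.Smooth.of_bijective
      (f := (IsLocalization.algEquiv (Submonoid.powers (a z)) (Localization.Away (a z)) Γ(X, Z)).toAlgHom.toRingHom)
      (IsLocalization.algEquiv (Submonoid.powers (a z)) (Localization.Away (a z)) Γ(X, Z)).bijective)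
    have h6 : Algebra.Smooth (Polynomial k) Γ(X, Z) := by
      rw [← RingHom.smooth_algebraMap]
      refine (congrArg RingHom.Smooth (RingHom.ext fun c => ?_)).mp h5
      exact (IsLocalization.algEquiv (Submonoid.powers (a z)) (Localization.Away (a z)) Γ(X, Z)).commutes _
    haveI : Algebra.FormallySmooth (LaurentPolynomial k) Γ(X, Z) :=
      Algebra.FormallySmooth.localization_base (R := Polynomial k) (Submonoid.powers (Polynomial.X : Polynomial k))
    haveI : Algebra.FinitePresentation (Polynomial k) Γ(X, Z) := h6.2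
    haveI : Algebra.FiniteType (Polynomial k) (LaurentPolynomial k) :=
      IsLocalization.finiteType_of_monoid_fg (Submonoid.powers (Polynomial.X : Polynomial k)) _
    have h7 : Algebra.Smooth (LaurentPolynomial k) Γ(X, Z) :=
      ⟨inferInstance, Algebra.FinitePresentation.of_restrict_scalars_finitePresentation (Polynomial k) _ _⟩
    exact RingHom.smooth_algebraMap.2 h7

end Groth.Agent.S16365
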