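import Groth.Statements.S16366
import Groth.Agent.Lib.UnitSmooth4.Ring
-- import your own Groth.Agent.* helpers here

set_option autoImplicit false
universe u
open CategoryTheory Limits Opposite
open MovLem

namespace Groth.Agent.S16366

open AlgebraicGeometry in
/-- Let k be an infinite field, X a scheme of finite type over k and u a global function on X such that
the open subscheme X_u where u is invertible is smooth over k. Let x be a point of X at which u is
not invertible, and let x'_1, …, x'_n be finitely many points of X_u, each of which specializes to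
x. Then there exist an open neighbourhood X' of x, a unit e among the functions on X', and the
k-morphism g : X' → A^1_k = Spec k[T] whose pulled-back coordinate T is e·u restricted to X', such
that g is smooth on some open neighbourhood of each x'_i. (Equivalently: after shrinking X around x,
the equation u of the principal divisor D = (u) is replaced by another equation e·u of the same
divisor that is smooth at the chosen points. The published statement takes D an effective Cartier
divisor, i.e. u a non-zero-divisor; that is not assumed here, and the argument does not need it.) -/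
theorem result
    {k : Type u} [Field k] [Infinite k]
    (X : Scheme.{u}) (f : X ⟶ Spec (CommRingCat.of k)) [LocallyOfFiniteType f] [QuasiCompact f]
    (u : Γ(X, ⊤)) [Smooth ((X.basicOpen u).ι ≫ f)]
    (x : ↥X) (hx : x ∉ X.basicOpen u)
    {ι : Type} [Finite ι] (x' : ι → ↥X) (hx' : ∀ i, x' i ∈ X.basicOpen u) (hgen : ∀ i, x' i ⤳ x) :
    ∃ (X' : X.Opens) (e : Γ(X, X')) (g : (↑X' : Scheme.{u}) ⟶ Spec (CommRingCat.of (Polynomial k))),
      x ∈ X' ∧ IsUnit e ∧
      g ≫ Spec.map (CommRingCat.ofHom (Polynomial.C : k →+* Polynomial k)) = X'.ι ≫ f ∧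
      X'.topIso.hom (g.appTop ((Scheme.ΓSpecIso (CommRingCat.of (Polynomial k))).inv Polynomial.X)) =
        e * X.presheaf.map (homOfLE le_top).op u ∧
      ∀ i, ∃ (W : X.Opens) (hW : W ≤ X'), x' i ∈ W ∧ Smooth (X.homOfLE hW ≫ g) := by
  classical
  let pu := X.basicOpen u
  obtain ⟨V, hV, hxV, -⟩ := exists_isAffineOpen_mem_and_subset (x := x) (U := ⊤) trivial
  let κ : CommRingCat.of k ⟶ Γ(X, V) := (Scheme.ΓSpecIso (CommRingCat.of k)).inv ≫ f.appLE ⊤ V le_top
  letI : Algebra k Γ(X, V) := κ.hom.toAlgebra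
  have hft : κ.hom.FiniteType :=
    (HasRingHomProperty.appLE @LocallyOfFiniteType f inferInstance ⟨⊤, isAffineOpen_top _⟩ ⟨V, hV⟩ le_top).comp
      (RingHom.FiniteType.of_surjective _ (ConcreteCategory.bijective_of_isIso (Scheme.ΓSpecIso (CommRingCat.of k)).inv).surjective)
  haveI : Algebra.FiniteType k Γ(X, V) := hft
  let uV : Γ(X, V) := X.presheaf.map (homOfLE le_top).op u
  have hmem : ∀ (y : ↥X) (hy : y ∈ V) (r : Γ(X, V)),
      y ∈ X.basicOpen r ↔ r ∉ (hV.primeIdealOf ⟨y, hy⟩).asIdeal := by
    intro y hy r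
    rw [← PrimeSpectrum.mem_basicOpen, ← hV.fromSpec_preimage_basicOpen r]
    change _ ↔ hV.fromSpec (hV.primeIdealOf ⟨y, hy⟩) ∈ X.basicOpen r
    rw [hV.fromSpec_primeIdealOf ⟨y, hy⟩]
  have hres : X.basicOpen uV = V ⊓ X.basicOpen u := X.basicOpen_res u _
  have hx'V : ∀ i, x' i ∈ V := fun i => (hgen i).mem_open V.2 hxV
  have hu : uV ∈ (hV.primeIdealOf ⟨x, hxV⟩).asIdeal := by
    by_contra hu
    exact hx ((hres.le ((hmem x hxV uV).2 hu)).2)
  have hle : ∀ i, (hV.primeIdealOf ⟨x' i, hx'V i⟩).asIdeal ≤ (hV.primeIdealOf ⟨x, hxV⟩).asIdeal := fun i => by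
    apply (PrimeSpectrum.le_iff_specializes _ _).2
    apply hV.fromSpec.isOpenEmbedding.isInducing.specializes_iff.1
    rw [hV.fromSpec_primeIdealOf, hV.fromSpec_primeIdealOf]
    exact hgen i
  have hq : ∀ i, uV ∉ (hV.primeIdealOf ⟨x' i, hx'V i⟩).asIdeal := fun i =>
    (hmem (x' i) (hx'V i) uV).1 (hres.ge ⟨hx'V i, hx' i⟩)
  haveI : Algebra.FinitePresentation k Γ(X, V) := Algebra.FinitePresentation.of_finiteType.1 inferInstance
  have hsm : ∀ i, Algebra.IsSmoothAt k (hV.primeIdealOf ⟨x' i, hx'V i⟩).asIdeal := by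
    intro i
    let W := X.basicOpen uV
    have hWu : W ≤ X.basicOpen u := hres.le.trans inf_le_right
    haveI : Smooth (W.ι ≫ f) := by
      rw [← X.homOfLE_ι hWu, Category.assoc]
      infer_instance
    have h0 : (f.appLE ⊤ W le_top).hom.Smooth := by
      have h1 := HasRingHomProperty.appLE @Smooth (W.ι ≫ f) inferInstance ⟨⊤, isAffineOpen_top _⟩
        ⟨⊤, haveI : IsAffine (W : Scheme.{u}) := hV.basicOpen uV; isAffineOpen_top _⟩ le_top
      have h2 : (W.ι ≫ f).appLE ⊤ ⊤ le_top ≫ W.topIso.hom = f.appLE ⊤ W le_top := by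
        simp [Scheme.Opens.topIso_hom, Scheme.Hom.appLE]
        congr 1
        erw [Category.id_comp, ← X.presheaf.map_comp]
        rfl
      rw [← h2]
      exact RingHom.Smooth.comp h1 (RingHom.Smooth.of_bijective (ConcreteCategory.bijective_of_isIso W.topIso.hom))
    letI : Algebra k Γ(X, W) := (algebraMap Γ(X, V) Γ(X, W)).comp (algebraMap k Γ(X, V)) |>.toAlgebra
    haveI : IsScalarTower k Γ(X, V) Γ(X, W) := IsScalarTower.of_algebraMap_eq' rfl
    haveI := hV.isLocalization_basicOpen uV
    have h3 : Algebra.Smooth k Γ(X, W) := by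
      rw [← RingHom.smooth_algebraMap]
      have h4 : algebraMap k Γ(X, W) = ((Scheme.ΓSpecIso (CommRingCat.of k)).inv ≫ f.appLE ⊤ W le_top).hom := by
        change ((f.appLE ⊤ V le_top ≫ X.presheaf.map (homOfLE (X.basicOpen_le uV)).op).hom.comp _) = _
        rw [Scheme.Hom.appLE_map]
        rfl
      rw [h4]
      exact RingHom.Smooth.comp (RingHom.Smooth.of_bijective
        (ConcreteCategory.bijective_of_isIso (Scheme.ΓSpecIso (CommRingCat.of k)).inv)) h0
    haveI : Algebra.Smooth k (Localization.Away uV) := Algebra.Smooth.of_equiv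
      (((IsLocalization.algEquiv (Submonoid.powers uV) Γ(X, W) (Localization.Away uV))).restrictScalars k)
    exact Algebra.basicOpen_subset_smoothLocus_iff_smooth.2 this (hq i)
  obtain ⟨e, he, hf⟩ := Groth.Agent.UnitSmooth4.exists_unit_smoothAt k uV _ hu _ hle hq hsm
  let X' := X.basicOpen e
  have hX'V : X' ≤ V := X.basicOpen_le e
  let φ : CommRingCat.of (Polynomial k) ⟶ Γ(X, V) := CommRingCat.ofHom (Polynomial.aeval (R := k) (e * uV)).toRingHom
  let φ' : CommRingCat.of (Polynomial k) ⟶ Γ(X, X') := φ ≫ X.presheaf.map (homOfLE hX'V).op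
  refine ⟨X', X.presheaf.map (homOfLE hX'V).op e, X'.toSpecΓ ≫ Spec.map φ', (hmem x hxV e).2 he, ?_, ?_, ?_, ?_⟩
  · exact RingedSpace.isUnit_res_basicOpen _ e
  · rw [Category.assoc, ← Spec.map_comp]
    apply ext_of_isAffine
    have : CommRingCat.ofHom (Polynomial.C : k →+* Polynomial k) ≫ φ' =
        (Scheme.ΓSpecIso (CommRingCat.of k)).inv ≫ f.appLE ⊤ X' le_top := by
      rw [← f.appLE_map (U := ⊤) (V := V) le_top (homOfLE hX'V).op, ← Category.assoc,
        ← Category.assoc (Scheme.ΓSpecIso _).inv]
      congr 1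
      ext c
      exact (Polynomial.aeval (R := k) (e * uV)).commutes c
    rw [this, Scheme.Hom.comp_appTop, Scheme.Hom.comp_appTop, Scheme.Opens.toSpecΓ_appTop,
      Scheme.ΓSpecIso_naturality_assoc, ← Category.assoc, Category.assoc]
    simp [Scheme.Hom.appLE, Scheme.Opens.topIso]
    congr 1
    erw [← X.presheaf.map_comp]
    rfl
  · have : φ' Polynomial.X = X.presheaf.map (homOfLE hX'V).op e * X.presheaf.map (homOfLE le_top).op u := by
      change X.presheaf.map (homOfLE hX'V).op (Polynomial.aeval (R := k) (e * uV) Polynomial.X) = _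
      rw [Polynomial.aeval_X, map_mul]
      congr 1
      exact (ConcreteCategory.congr_hom (X.presheaf.map_comp (homOfLE le_top).op (homOfLE hX'V).op) u).symm
    rw [← this]
    simp only [← ConcreteCategory.comp_apply]
    congr 2
    simp only [Scheme.Hom.comp_appTop, Scheme.Opens.toSpecΓ_appTop, Category.assoc, Iso.inv_hom_id,
      Category.comp_id, Scheme.ΓSpecIso_naturality, Iso.inv_hom_id_assoc]
  · intro i
    obtain ⟨-, a, ha, hea, hsa⟩ := hf i
    have hW : X.basicOpen a ≤ X' := by
      obtain ⟨b, rfl⟩ := hea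
      exact (X.basicOpen_mul e b).le.trans inf_le_left
    refine ⟨X.basicOpen a, hW, (hmem _ (hx'V i) a).2 ha, ?_⟩
    rw [← Category.assoc, ← Scheme.Opens.toSpecΓ_SpecMap_presheaf_map, Category.assoc, ← Spec.map_comp]
    rw [show (X.basicOpen a).toSpecΓ = (hV.basicOpen a).isoSpec.hom from rfl,
      MorphismProperty.cancel_left_of_respectsIso @Smooth, HasRingHomProperty.Spec_iff (P := @Smooth)]
    rw [show φ' ≫ X.presheaf.map (homOfLE hW).op = φ ≫ X.presheaf.map (homOfLE (X.basicOpen_le a)).op by
      rw [Category.assoc, ← X.presheaf.map_comp]; rfl]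
    haveI := hV.isLocalization_basicOpen a
    have := RingHom.Smooth.comp hsa (RingHom.Smooth.of_bijective
      (f := (IsLocalization.algEquiv (Submonoid.powers a) (Localization.Away a) Γ(X, X.basicOpen a)).toAlgHom.toRingHom)
      (IsLocalization.algEquiv (Submonoid.powers a) (Localization.Away a) Γ(X, X.basicOpen a)).bijective)
    refine (congrArg RingHom.Smooth (RingHom.ext fun c => ?_)).mp this
    exact (IsLocalization.algEquiv (Submonoid.powers a) (Localization.Away a) Γ(X, X.basicOpen a)).commutes _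

end Groth.Agent.S16366
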