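import Groth.Statements.S16367
import Mathlib.RingTheory.Ideal.Quotient.Operations

set_option autoImplicit false
universe u
open MovLem

namespace Groth.Agent.S16367

/-- The chart computation of its proof: let k be a commutative ring, P = k[x_1, …, x_d, w_1, …, w_n] a
polynomial ring in two groups of variables, u a polynomial in the x-variables alone, v a vector in
k^d, J a set of indices among the w-variables with ζ = ∏_{j ∈ J} w_j, and N ≤ s natural numbers. Let
(f_λ) be a finite family of elements of P, each of total degree at most N in the x-variables, and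
assume that ζ^N + c_1 ζ^(N-1) u + ⋯ + c_N u^N lies in the ideal generated by the f_λ for some c_1,
…, c_N ∈ P. For each λ let φ_λ ∈ P[τ] be the polynomial τ^N · f_λ(x + u^s v/τ, w), written out
monomial by monomial: a monomial a·x^m·w^m' of x-degree e = |m| contributes a · τ^(N-e) · ∏_i (τ x_i
+ u^s v_i)^(m_i) · w^m'. Then there are c'_1, …, c'_N ∈ P[τ] with (τζ)^N + c'_1 (τζ)^(N-1) u + ⋯ +
c'_N u^N in the ideal of P[τ] generated by the φ_λ. (This identity is what shows that translating a
cycle by t·u^s·v preserves the modulus condition on the chart whose coordinates are the z_i and the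
1/z_j, with τ = 1/t; integrality of ζ/u, resp. τζ/u, is expressed by such monic binary forms.) -/
theorem result
    {k : Type u} [CommRing k] (d n : ℕ) (u : MvPolynomial (Fin d) k) (v : Fin d → k)
    (J : Finset (Fin n)) (N s : ℕ) (hs : N ≤ s)
    {Λ : Type u} [Fintype Λ] (f : Λ → MvPolynomial (Fin d ⊕ Fin n) k)
    (hdeg : ∀ l, ∀ m ∈ (f l).support, ∑ i : Fin d, m (Sum.inl i) ≤ N)
    (c : ℕ → MvPolynomial (Fin d ⊕ Fin n) k)
    (hE : (∏ j ∈ J, MvPolynomial.X (Sum.inr j)) ^ N +
        ∑ i ∈ Finset.Icc 1 N, c i * (∏ j ∈ J, MvPolynomial.X (Sum.inr j)) ^ (N - i) *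
          MvPolynomial.rename Sum.inl u ^ i ∈ Ideal.span (Set.range f)) :
    ∃ c' : ℕ → Polynomial (MvPolynomial (Fin d ⊕ Fin n) k),
      (Polynomial.X * Polynomial.C (∏ j ∈ J, MvPolynomial.X (Sum.inr j))) ^ N +
        ∑ i ∈ Finset.Icc 1 N, c' i *
          (Polynomial.X * Polynomial.C (∏ j ∈ J, MvPolynomial.X (Sum.inr j))) ^ (N - i) *
            Polynomial.C (MvPolynomial.rename Sum.inl u) ^ i ∈
      Ideal.span (Set.range fun l : Λ =>
        ∑ m ∈ (f l).support,
          Polynomial.C (MvPolynomial.C (MvPolynomial.coeff m (f l))) *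
            Polynomial.X ^ (N - ∑ i : Fin d, m (Sum.inl i)) *
            (∏ i : Fin d, (Polynomial.X * Polynomial.C (MvPolynomial.X (Sum.inl i)) +
                Polynomial.C (MvPolynomial.rename Sum.inl u ^ s * MvPolynomial.C (v i))) ^ m (Sum.inl i)) *
            ∏ j : Fin n, Polynomial.C (MvPolynomial.X (Sum.inr j)) ^ m (Sum.inr j)) := by
  classical
  set Q : MvPolynomial (Fin d ⊕ Fin n) k := ∏ j ∈ J, MvPolynomial.X (Sum.inr j)
  set w : MvPolynomial (Fin d ⊕ Fin n) k := MvPolynomial.rename Sum.inl u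
  set F : Λ → Polynomial (MvPolynomial (Fin d ⊕ Fin n) k) := fun l : Λ =>
        ∑ m ∈ (f l).support,
          Polynomial.C (MvPolynomial.C (MvPolynomial.coeff m (f l))) *
            Polynomial.X ^ (N - ∑ i : Fin d, m (Sum.inl i)) *
            (∏ i : Fin d, (Polynomial.X * Polynomial.C (MvPolynomial.X (Sum.inl i)) +
                Polynomial.C (w ^ s * MvPolynomial.C (v i))) ^ m (Sum.inl i)) *
            ∏ j : Fin n, Polynomial.C (MvPolynomial.X (Sum.inr j)) ^ m (Sum.inr j)
  have hcong : ∀ l, Polynomial.X ^ N * Polynomial.C (f l) - F l ∈ Ideal.span {Polynomial.C w ^ s} := by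
    intro l
    rw [← Ideal.Quotient.mk_eq_mk_iff_sub_mem]
    suffices hgen : ∀ (S : Type u) [CommRing S] (π : Polynomial (MvPolynomial (Fin d ⊕ Fin n) k) →+* S),
        π (Polynomial.C w ^ s) = 0 → π (Polynomial.X ^ N * Polynomial.C (f l)) = π (F l) from
      hgen (Polynomial (MvPolynomial (Fin d ⊕ Fin n) k) ⧸ Ideal.span {(Polynomial.C w : Polynomial (MvPolynomial (Fin d ⊕ Fin n) k)) ^ s})
        (Ideal.Quotient.mk _) (Ideal.Quotient.eq_zero_iff_mem.mpr (Ideal.mem_span_singleton_self _))
    intro S _ π hπ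
    conv_lhs => rw [(f l).as_sum]
    simp only [F, map_sum, Finset.mul_sum]
    refine Finset.sum_congr rfl fun m hm => ?_
    have hN : Polynomial.X (R := MvPolynomial (Fin d ⊕ Fin n) k) ^ N =
        Polynomial.X ^ (N - ∑ i : Fin d, m (Sum.inl i)) * ∏ i : Fin d, Polynomial.X ^ m (Sum.inl i) := by
      rw [Finset.prod_pow_eq_pow_sum, ← pow_add, Nat.sub_add_cancel (hdeg l m hm)]
    rw [MvPolynomial.monomial_eq, Finsupp.prod_fintype _ _ (fun i => pow_zero _), Fintype.prod_sum_type, hN]
    rw [map_pow] at hπ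
    simp only [map_mul, map_prod, map_pow, map_add, hπ, mul_pow, zero_mul, add_zero]
    rw [Finset.prod_mul_distrib]
    ring
  obtain ⟨g, hg⟩ := (Ideal.mem_span_range_iff_exists_fun (R := MvPolynomial (Fin d ⊕ Fin n) k)).mp hE
  choose R' hR' using fun l => Ideal.mem_span_singleton'.mp (hcong l)
  rcases Nat.eq_zero_or_pos N with rfl | hN
  · refine ⟨0, ?_⟩
    refine (Ideal.mem_span_range_iff_exists_fun).mpr ⟨fun l => Polynomial.C (g l), ?_⟩
    have hF : ∀ l, F l = Polynomial.C (f l) := by
      intro l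
      simp only [F]
      conv_rhs => rw [(f l).as_sum]
      rw [map_sum]
      refine Finset.sum_congr rfl fun m hm => ?_
      have h0 : ∀ i, m (Sum.inl i) = 0 := fun i =>
        Nat.le_zero.mp ((Finset.single_le_sum (fun j _ => Nat.zero_le _) (Finset.mem_univ i)).trans (hdeg l m hm))
      rw [MvPolynomial.monomial_eq, Finsupp.prod_fintype _ _ (fun i => pow_zero _), Fintype.prod_sum_type]
      simp [h0, map_prod]
    change ∑ l, Polynomial.C (g l) * F l = _
    simp only [hF, ← map_mul, ← map_sum, hg]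
    simp
  · refine ⟨fun i => Polynomial.C (c i) * Polynomial.X ^ i -
      (if i = N then Polynomial.C w ^ (s - N) * ∑ l, Polynomial.C (g l) * R' l else 0), ?_⟩
    refine (Ideal.mem_span_range_iff_exists_fun).mpr ⟨fun l => Polynomial.C (g l), ?_⟩
    change ∑ l, Polynomial.C (g l) * F l = _
    have e1 : ∀ l, F l = Polynomial.X ^ N * Polynomial.C (f l) - R' l * Polynomial.C w ^ s := fun l => by
      rw [hR' l]; ring
    simp only [e1, mul_sub, Finset.sum_sub_distrib, sub_mul, ite_mul, zero_mul]
    rw [Finset.sum_ite_eq' (Finset.Icc 1 N) N, if_pos (Finset.mem_Icc.mpr ⟨hN, le_rfl⟩), add_sub_assoc']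
    refine congrArg₂ (· - ·) ?_ ?_
    · simp only [mul_left_comm (Polynomial.C (g _)), ← map_mul, ← Finset.mul_sum, ← map_sum, hg]
      rw [map_add, map_sum, mul_add, mul_pow, map_pow, Finset.mul_sum]
      refine congrArg₂ (· + ·) rfl (Finset.sum_congr rfl fun i hi => ?_)
      have hi' := (Finset.mem_Icc.mp hi).2
      have hX : (Polynomial.X : Polynomial (MvPolynomial (Fin d ⊕ Fin n) k)) ^ N = Polynomial.X ^ i * Polynomial.X ^ (N - i) := by
        rw [← pow_add, Nat.add_sub_cancel' hi']
      simp only [map_mul, map_pow, mul_pow, hX]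
      ring
    · rw [Nat.sub_self, pow_zero, mul_one, mul_comm (Polynomial.C w ^ (s - N)), mul_assoc, ← pow_add,
        Nat.sub_add_cancel hs, Finset.sum_mul]
      exact Finset.sum_congr rfl fun l _ => by ring

end Groth.Agent.S16367
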