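import Groth.Statements.S16368
import Mathlib.RingTheory.Finiteness.Cardinality
import Mathlib.RingTheory.Nakayama
import Mathlib.LinearAlgebra.TensorProduct.RightExactness
import Mathlib.RingTheory.LocalRing.MaximalIdeal.Basic

set_option autoImplicit false
universe u v
open TensorProduct
open FrobAlg

namespace Groth.Agent.S16368

open scoped TensorProduct

/-- Let R be a local ring of prime characteristic p and M a finitely presented R-module. Write R' for R
regarded as an R-algebra through its Frobenius a ↦ a^p, so that R' ⊗_R M is the pull-back of M along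
the absolute Frobenius of Spec R, an R'-module. If this pull-back is isomorphic to M — there is a
bijective map e : R' ⊗_R M → M, additive and semilinear for the identification R' = R — then M is
free. -/
theorem result
    (p : ℕ) [Fact p.Prime] (R : Type u) [CommRing R] [IsLocalRing R] [CharP R p]
    (M : Type v) [AddCommGroup M] [Module R M] [Module.FinitePresentation R M]
    (e : (FrobAlg.Twist p R ⊗[R] M) →ₛₗ[((FrobAlg.toTwist p R).symm : FrobAlg.Twist p R →+* R)] M)
    (he : Function.Bijective e) :
    Module.Free R M := by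

  classical
  set 𝔪 := IsLocalRing.maximalIdeal R
  -- a minimal surjection
  have hex : ∃ n, ∃ f : (Fin n → R) →ₗ[R] M, Function.Surjective f := Module.Finite.exists_fin' R M
  obtain ⟨n, ⟨π, hπ⟩, hmin⟩ : ∃ n, (∃ f : (Fin n → R) →ₗ[R] M, Function.Surjective f) ∧
      ∀ q < n, ¬ ∃ f : (Fin q → R) →ₗ[R] M, Function.Surjective f :=
    ⟨Nat.find hex, Nat.find_spec hex, fun q hq => Nat.find_min hex hq⟩
  have hKm : ∀ x ∈ LinearMap.ker π, ∀ j, x j ∈ 𝔪 := by
    intro x hx j
    by_contra hj
    obtain ⟨u, hu⟩ : IsUnit (x j) := by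
      by_contra h
      exact hj h
    obtain ⟨q, hq⟩ : ∃ q, n = q + 1 := ⟨n - 1, by have := j.pos; omega⟩
    have hlt : ¬ ∃ f : (Fin q → R) →ₗ[R] M, Function.Surjective f := hmin q (by omega)
    have hcard : Fintype.card {i : Fin n // i ≠ j} = q := by
      rw [Fintype.card_subtype_compl, Fintype.card_fin, Fintype.card_subtype_eq]; omega
    let g : ({i : Fin n // i ≠ j} → R) →ₗ[R] M :=
      Fintype.linearCombination R fun i => π (Pi.single i.1 1)
    have hg : Function.Surjective g := by
      intro m
      obtain ⟨y, rfl⟩ := hπ m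
      refine ⟨fun i => (y - (y j * (u⁻¹ : Rˣ)) • x) i.1, ?_⟩
      have hxj : (y - (y j * (u⁻¹ : Rˣ)) • x) j = 0 := by
        simp [← hu]
      have hπ' : π (y - (y j * (u⁻¹ : Rˣ)) • x) = π y := by
        rw [map_sub, map_smul, LinearMap.mem_ker.mp hx, smul_zero, sub_zero]
      rw [← hπ']
      generalize y - (y j * (u⁻¹ : Rˣ)) • x = w at hxj ⊢
      conv_rhs => rw [pi_eq_sum_univ' w, map_sum]
      simp only [g, Fintype.linearCombination_apply, map_smul]
      rw [Fintype.sum_eq_add_sum_subtype_ne _ j, hxj, zero_smul, zero_add]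
    exact hlt ⟨g.comp (LinearEquiv.funCongrLeft R R
        (Fintype.equivFinOfCardEq hcard)).toLinearMap, hg.comp (LinearEquiv.surjective _)⟩
  obtain ⟨G, hG⟩ := Module.FinitePresentation.fg_ker π hπ
  let I : Ideal R := Ideal.span (Set.range fun t : G × Fin n => t.1.1 t.2)
  have hKI : ∀ x ∈ LinearMap.ker π, ∀ j, x j ∈ I := by
    intro x hx j
    rw [← hG] at hx
    induction hx using Submodule.span_induction with
    | mem y hy => exact Ideal.subset_span ⟨(⟨y, hy⟩, j), rfl⟩
    | zero => exact zero_mem _
    | add y z _ _ hy hz => exact add_mem hy hz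
    | smul c y _ hy => exact I.mul_mem_left c hy
  -- the Frobenius pull-back presentation
  let T := FrobAlg.Twist p R
  let τ := FrobAlg.toTwist p R
  let ρ : (Fin n → R) →ₗ[R] M := Fintype.linearCombination R fun j => e ((1 : T) ⊗ₜ π (Pi.single j 1))
  let w : (Fin n → R) → T ⊗[R] (Fin n → R) := fun x =>
    ∑ j, τ (x j) ⊗ₜ[R] (Pi.single j 1 : Fin n → R)
  have hρ : ∀ x, ρ x = e (π.lTensor T (w x)) := by
    intro x
    simp only [w, map_sum, LinearMap.lTensor_tmul, ρ, Fintype.linearCombination_apply]
    refine Finset.sum_congr rfl fun j _ => ?_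
    have h1 : τ (x j) ⊗ₜ[R] π (Pi.single j 1) = τ (x j) • ((1 : T) ⊗ₜ[R] π (Pi.single j 1)) := by
      rw [TensorProduct.smul_tmul', smul_eq_mul, mul_one]
    rw [h1, LinearMap.map_smulₛₗ]
    simp [τ]
  have hkerρ : ∀ x, ρ x = 0 → ∀ j, x j ∈ I * I := by
    intro x hx j
    rw [hρ, ← map_zero e] at hx
    have hx0 := he.1 hx
    have hex' : Function.Exact ((LinearMap.ker π).subtype.lTensor T) (π.lTensor T) :=
      lTensor_exact T (LinearMap.exact_subtype_ker_map π) hπ
    obtain ⟨z, hz⟩ := (hex' _).mp hx0
    let cj : T ⊗[R] (Fin n → R) →ₗ[R] T :=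
      (TensorProduct.rid R T).toLinearMap ∘ₗ (LinearMap.proj j).lTensor T
    have hcj : ∀ (t : T) (a : Fin n → R), cj (t ⊗ₜ a) = a j • t := fun t a => by simp [cj]
    have h1 : cj (w x) = τ (x j) := by
      simp only [w, map_sum, hcj, Pi.single_apply, ite_smul, one_smul, zero_smul]
      simp
    have h2 : τ.symm (cj ((LinearMap.ker π).subtype.lTensor T z)) ∈ I * I := by
      clear hz
      induction z using TensorProduct.induction_on with
      | zero => simp
      | add a b ha hb => rw [map_add, map_add, map_add]; exact add_mem ha hb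
      | tmul t a =>
        rw [LinearMap.lTensor_tmul, hcj, Algebra.smul_def, FrobAlg.algebraMap_twist, map_mul,
          RingEquiv.symm_apply_apply]
        refine Ideal.mul_mem_right _ _ ?_
        rw [← pow_two]
        exact Ideal.pow_le_pow_right (Fact.out : p.Prime).two_le (Ideal.pow_mem_pow (hKI _ a.2 j) p)
    rw [hz, h1, RingEquiv.symm_apply_apply] at h2
    exact h2
  have hρsurj : Function.Surjective ρ := by
    intro m
    obtain ⟨z, rfl⟩ := he.2 m
    obtain ⟨y, rfl⟩ := LinearMap.lTensor_surjective T hπ z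
    induction y using TensorProduct.induction_on with
    | zero => exact ⟨0, by simp⟩
    | add a b ha hb =>
      obtain ⟨a', ha'⟩ := ha
      obtain ⟨b', hb'⟩ := hb
      exact ⟨a' + b', by rw [map_add, ha', hb', map_add, map_add]⟩
    | tmul t a =>
      refine ⟨fun j => a j ^ p * τ.symm t, ?_⟩
      rw [hρ]
      congr 2
      conv_rhs => rw [pi_eq_sum_univ' a, TensorProduct.tmul_sum]
      refine Finset.sum_congr rfl fun j _ => ?_
      rw [TensorProduct.tmul_smul, TensorProduct.smul_tmul', Algebra.smul_def, FrobAlg.algebraMap_twist,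
        map_mul, RingEquiv.apply_symm_apply]
  obtain ⟨g, hg⟩ := Module.projective_lifting_property ρ π hρsurj
  obtain ⟨h, hh⟩ := Module.projective_lifting_property π ρ hπ
  let L : (Fin n → R) →ₗ[R] (Fin n → R) := h.comp g
  have hL : ∀ y, π (L y) = π y := fun y =>
    (LinearMap.congr_fun hh (g y)).trans (LinearMap.congr_fun hg y)
  have hsmul : ∀ (J : Ideal R) (A : (Fin n → R) →ₗ[R] (Fin n → R)) (y : Fin n → R),
      (∀ i, y i ∈ J) → ∀ i, A y i ∈ J := by
    intro J A y hy i
    rw [pi_eq_sum_univ' y, map_sum, Finset.sum_apply]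
    exact sum_mem fun l _ => by
      rw [map_smul, Pi.smul_apply, smul_eq_mul]
      exact J.mul_mem_right _ (hy l)
  have hLs : Function.Surjective L := by
    rw [← LinearMap.range_eq_top]
    refine top_le_iff.mp (Submodule.le_of_le_smul_of_le_jacobson_bot Module.Finite.fg_top
      (IsLocalRing.maximalIdeal_le_jacobson _) fun y _ => ?_)
    have hd : L y - y ∈ LinearMap.ker π := by
      rw [LinearMap.mem_ker, map_sub, hL, sub_self]
    have : y = L y + -(L y - y) := by abel
    rw [this]
    refine Submodule.add_mem_sup ⟨y, rfl⟩ (neg_mem ?_)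
    rw [pi_eq_sum_univ' (L y - y)]
    exact sum_mem fun l _ => Submodule.smul_mem_smul (hKm _ hd l) Submodule.mem_top
  have hLb : Function.Bijective L := ⟨OrzechProperty.injective_of_surjective_endomorphism L hLs, hLs⟩
  let Le := LinearEquiv.ofBijective L hLb
  have hI2 : I ≤ I * I := by
    rw [Ideal.span_le]
    rintro _ ⟨⟨⟨a, ha⟩, j⟩, rfl⟩
    have haK : a ∈ LinearMap.ker π := hG ▸ Submodule.subset_span ha
    have hga : ρ (g a) = 0 := (LinearMap.congr_fun hg a).trans haK
    have hLa : ∀ i, L a i ∈ I * I := hsmul _ h (g a) (hkerρ _ hga)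
    have := hsmul _ Le.symm.toLinearMap (L a) hLa j
    rwa [show Le.symm.toLinearMap (L a) = a from Le.symm_apply_apply a] at this
  have hIm : I ≤ 𝔪 := by
    rw [Ideal.span_le]
    rintro _ ⟨⟨⟨a, ha⟩, j⟩, rfl⟩
    exact hKm a (hG ▸ Submodule.subset_span ha) j
  have hI0 : I = ⊥ := by
    refine Submodule.eq_bot_of_le_smul_of_le_jacobson_bot I I ?_ hI2
      (hIm.trans (IsLocalRing.maximalIdeal_le_jacobson _))
    exact Submodule.fg_span (Set.finite_range _)
  have hinj : Function.Injective π := by
    rw [← LinearMap.ker_eq_bot, Submodule.eq_bot_iff]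
    intro x hx
    funext j
    have := hKI x hx j
    rw [hI0] at this
    exact this
  exact Module.Free.of_equiv (LinearEquiv.ofBijective π ⟨hinj, hπ⟩)


end Groth.Agent.S16368
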