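import Groth.Statements.S16370
-- import your own Groth.Agent.* helpers here

set_option autoImplicit false
set_option backward.isDefEq.respectTransparency.types false
universe u
open CategoryTheory AlgebraicGeometry Opposite
open FrobSch

namespace Groth.Agent.S16370

/-- (ii) ⇒ (iii): let X be a reduced scheme of prime characteristic p, φ the p-th power map on the sheaf
of additive groups underlying O_X (a monomorphism, X being reduced) and B its cokernel in abelian
sheaves. If H^i(X, B) = 0 for all i ≥ 0, then the endomorphism of H^i(X, O_X) induced by φ — the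
Hasse–Witt operation — is bijective for all i. (The source has X normal and proper over a perfect
field; only reducedness enters this implication.) -/
theorem result
    (p : ℕ) [Fact p.Prime] (X : Scheme.{u}) [IsReduced X] (hp : (p : Γ(X, ⊤)) = 0)
    (φ : Coh.toAb (Coh.structureModule X) ⟶ Coh.toAb (Coh.structureModule X))
    (hφ : ∀ (U : X.Opens) (t : Γ(X, U)), φ.hom.app (op U) t = t ^ p)
    (hB : ∀ i : ℕ, Subsingleton (Sheaf.H (Limits.cokernel φ) i))
    (i : ℕ) : Function.Bijective (Sheaf.H.map φ i) := by
  haveI : Mono φ := by
    haveI : ∀ U, Mono (φ.hom.app U) := fun U => by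
      rw [AddCommGrpCat.mono_iff_injective]
      have hinj : Function.Injective (fun t : Γ(X, U.unop) => t ^ p) := by
        have hpU : (p : Γ(X, U.unop)) = 0 := by
          have := congrArg (X.presheaf.map (homOfLE (le_top : U.unop ≤ ⊤)).op).hom hp
          simpa using this
        intro a b h
        dsimp only at h
        apply sub_eq_zero.1
        refine IsReduced.eq_zero _ ⟨p, ?_⟩
        rcases subsingleton_or_nontrivial Γ(X, U.unop) with hs | hn
        · exact hs.elim _ _
        haveI : CharP Γ(X, U.unop) p := (CharP.charP_iff_prime_eq_zero Fact.out).2 hpU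
        rw [sub_pow_char, h, sub_self]
      intro a b h
      exact hinj ((hφ U.unop a).symm.trans (h.trans (hφ U.unop b)))
    exact (sheafToPresheaf _ _).mono_of_mono_map (NatTrans.mono_of_mono_app φ.hom)
  let S := ShortComplex.mk φ (Limits.cokernel.π φ) (Limits.cokernel.condition φ)
  have hS : S.ShortExact :=
    { exact := ShortComplex.exact_of_g_is_cokernel S (Limits.cokernelIsCokernel φ)
      mono_f := ‹Mono φ›
      epi_g := inferInstanceAs (Epi (Limits.cokernel.π φ)) }
  constructor
  · rw [injective_iff_map_eq_zero]
    intro x hx
    cases i with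
    | zero =>
      apply Abelian.Ext.addEquiv₀.injective
      rw [map_zero, ← cancel_mono φ, Limits.zero_comp, ← Sheaf.H.addEquiv₀_map, hx, map_zero]
    | succ n =>
      obtain ⟨y, hy⟩ := Abelian.Ext.covariant_sequence_exact₁ _ hS x hx (rfl : n + 1 = n + 1)
      haveI := hB n
      rw [← hy]
      obtain rfl : y = (0 : Sheaf.H (Limits.cokernel φ) n) := @Subsingleton.elim _ (hB n) _ _
      exact Abelian.Ext.zero_comp _ _ _ _ _
  · intro x
    obtain ⟨y, hy⟩ := Abelian.Ext.covariant_sequence_exact₂ _ hS x (@Subsingleton.elim _ (hB i) _ _)
    exact ⟨y, hy⟩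

end Groth.Agent.S16370
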