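import Groth.Statements.S16373
import Groth.Prelude.Def_WittGrp
import Mathlib.RingTheory.WittVector.Identities

set_option autoImplicit false
universe u
open FrobAlg

namespace Groth.Agent.S16373

open WittGrp

theorem mul_shift (p : ℕ) [Fact p.Prime] (m : ℕ) (hm : 0 < m) (R : Type u) [CommRing R] (hp : (p : R) = 0)
    (y : TruncatedWittVector p (m + 1) R) (x : TruncatedWittVector p m R) :
    ∃ w : TruncatedWittVector p m R, w.coeff ⟨0, hm⟩ = y.coeff 0 ∧
      y * WittGrp.shift p (Nat.le_succ m) x = WittGrp.shift p (Nat.le_succ m) (WittGrp.frob p m hp w * x) := by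
  rcases subsingleton_or_nontrivial R with hR | hR
  · exact ⟨0, Subsingleton.elim _ _, TruncatedWittVector.ext fun i => Subsingleton.elim _ _⟩
  have : CharP R p := (CharP.charP_iff_prime_eq_zero (Fact.out : p.Prime)).mpr hp
  obtain ⟨X, rfl⟩ := WittVector.truncate_surjective p m R x
  obtain ⟨Y, rfl⟩ := WittVector.truncate_surjective p (m + 1) R y
  refine ⟨WittVector.truncate m Y, by simp, ?_⟩
  rw [WittGrp.shift_truncate, ← map_mul, WittGrp.frob_truncate, ← map_mul, WittGrp.shift_truncate]
  congr 1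
  rw [show m.succ - m = 1 by omega, Function.iterate_one]
  rw [mul_comm Y, ← WittVector.verschiebung_mul_frobenius, mul_comm]


/-- Let p be a prime, m ≥ 1, R a commutative ring with p = 0 in R and σ : W_m(R) → R a quasi-F-splitting
of level m (additive, σ(1) = 1, σ(F(x)·y) = x₀·σ(y) with F the componentwise p-th power). Let I ⊆
W_{m+1}(R) be the ideal generated by the shifts V(x) of the x with σ(x) = 0, and Q = W_{m+1}(R)/I.
Then Q is a flat lifting of R modulo p²: an element of Q lies in pQ exactly when the first Witt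
component of a representative vanishes (so Q/pQ is R through the first component), and an element of
Q is killed by p exactly when it lies in pQ. (Stated for a ring; the source has a scheme over the
prime field. For m = 1 this is the lifting attached to a Frobenius splitting.) -/
theorem result
    (p : ℕ) [Fact p.Prime] (m : ℕ) (hm : 0 < m) (R : Type u) [CommRing R] (hp : (p : R) = 0)
    (σ : TruncatedWittVector p m R →+ R) (h1 : σ 1 = 1)
    (hF : ∀ x y : TruncatedWittVector p m R, σ (WittGrp.frob p m hp x * y) = x.coeff ⟨0, hm⟩ * σ y)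
    (I : Ideal (TruncatedWittVector p (m + 1) R))
    (hI : I = Ideal.span (WittGrp.shift p (Nat.le_succ m) '' {x : TruncatedWittVector p m R | σ x = 0})) :
    (∀ w : TruncatedWittVector p (m + 1) R,
        Ideal.Quotient.mk I w ∈ Ideal.span ({(p : TruncatedWittVector p (m + 1) R ⧸ I)} : Set _) ↔
          w.coeff 0 = 0) ∧
    (∀ q : TruncatedWittVector p (m + 1) R ⧸ I,
        (p : TruncatedWittVector p (m + 1) R ⧸ I) * q = 0 ↔
          q ∈ Ideal.span ({(p : TruncatedWittVector p (m + 1) R ⧸ I)} : Set _)) := by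
  set V := WittGrp.shift (R := R) p (Nat.le_succ m) with hV
  have hVinj : Function.Injective V := fun x x' h => TruncatedWittVector.ext fun i => by
    have := congrArg (fun t => TruncatedWittVector.coeff ⟨i + 1, by omega⟩ t) h
    simpa [hV, WittGrp.coeff_shift] using this
  have hV0 : ∀ x, (V x).coeff 0 = 0 := fun x => by simp [hV, WittGrp.coeff_shift]
  have hσF : ∀ w : TruncatedWittVector p m R, σ (WittGrp.frob p m hp w) = w.coeff ⟨0, hm⟩ := fun w => by
    have := hF w 1
    rwa [mul_one, h1, mul_one] at this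
  have hp_mul : ∀ w : TruncatedWittVector p (m + 1) R, ∃ v : TruncatedWittVector p m R,
      v.coeff ⟨0, hm⟩ = w.coeff 0 ∧ (p : TruncatedWittVector p (m + 1) R) * w = V (WittGrp.frob p m hp v) := by
    intro w
    rcases subsingleton_or_nontrivial R with hR | hR
    · exact ⟨0, Subsingleton.elim _ _, TruncatedWittVector.ext fun i => Subsingleton.elim _ _⟩
    have : CharP R p := (CharP.charP_iff_prime_eq_zero (Fact.out : p.Prime)).mpr hp
    obtain ⟨W, rfl⟩ := WittVector.truncate_surjective p (m + 1) R w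
    refine ⟨WittVector.truncate m W, by simp, ?_⟩
    rw [hV, WittGrp.frob_truncate, WittGrp.shift_truncate, ← map_natCast (WittVector.truncate (p := p) (R := R) (m + 1)), ← map_mul]
    congr 1
    rw [show m.succ - m = 1 by omega, Function.iterate_one]
    rw [WittVector.verschiebung_frobenius, mul_comm]
  have hImem : ∀ w, w ∈ I ↔ ∃ x, σ x = 0 ∧ V x = w := by
    intro w
    refine ⟨fun h => ?_, fun ⟨x, hx, hw⟩ => hI ▸ hw ▸ Ideal.subset_span ⟨x, hx, rfl⟩⟩
    rw [hI] at h
    refine Submodule.span_induction (p := fun z _ => ∃ x, σ x = 0 ∧ V x = z) ?_ ⟨0, map_zero σ, map_zero V⟩ ?_ ?_ h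
    · rintro _ ⟨x, hx, rfl⟩; exact ⟨x, hx, rfl⟩
    · rintro _ _ _ _ ⟨x, hx, rfl⟩ ⟨y, hy, rfl⟩; exact ⟨x + y, by rw [map_add, hx, hy, add_zero], map_add V x y⟩
    · rintro c _ _ ⟨x, hx, rfl⟩
      obtain ⟨v, -, hv⟩ := mul_shift p m hm R hp c x
      exact ⟨_, by rw [hF, hx, mul_zero], hv.symm⟩
  have hI0 : ∀ w ∈ I, w.coeff 0 = 0 := fun w hw => by
    obtain ⟨x, -, rfl⟩ := (hImem w).1 hw
    exact hV0 x
  have hsub0 : ∀ w : TruncatedWittVector p (m + 1) R, ∀ v, v.coeff 0 = 0 → (w + v).coeff 0 = w.coeff 0 := by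
    intro w v hv
    obtain ⟨X, rfl⟩ := WittVector.truncate_surjective p (m + 1) R w
    obtain ⟨Y, rfl⟩ := WittVector.truncate_surjective p (m + 1) R v
    rw [← map_add, WittVector.coeff_truncate, WittVector.coeff_truncate]
    rw [WittVector.coeff_truncate] at hv
    show (X + Y).coeff 0 = X.coeff 0
    rw [WittVector.add_coeff_zero, show Y.coeff 0 = 0 from hv, add_zero]
  have hiff : ∀ w : TruncatedWittVector p (m + 1) R,
      Ideal.Quotient.mk I w ∈ Ideal.span ({(p : TruncatedWittVector p (m + 1) R ⧸ I)} : Set _) ↔ w.coeff 0 = 0 := by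
    intro w
    constructor
    · intro h
      obtain ⟨c, hc⟩ := Ideal.mem_span_singleton'.1 h
      obtain ⟨c, rfl⟩ := Ideal.Quotient.mk_surjective c
      rw [← map_natCast (Ideal.Quotient.mk I), ← map_mul, Ideal.Quotient.eq] at hc
      obtain ⟨v, -, hv⟩ := hp_mul c
      have h0 : (c * (p : TruncatedWittVector p (m + 1) R)).coeff 0 = 0 := by rw [mul_comm, hv, hV0]
      have := hsub0 w _ (hI0 _ hc)
      rw [add_sub_cancel] at this
      rw [← this, h0]
    · intro h0
      obtain ⟨x, rfl⟩ : ∃ x, V x = w := by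
        refine ⟨TruncatedWittVector.mk p fun i => w.coeff ⟨i + 1, by omega⟩, TruncatedWittVector.ext fun i => ?_⟩
        rw [hV, WittGrp.coeff_shift]
        split_ifs with hi
        · rw [TruncatedWittVector.coeff_mk]; congr 1; apply Fin.ext; show (i : ℕ) - (m + 1 - m) + 1 = i; omega
        · rw [show i = 0 from Fin.ext (by show (i : ℕ) = 0; omega)]; exact h0.symm
      let c : TruncatedWittVector p (m + 1) R := TruncatedWittVector.mk p fun i => if i = 0 then σ x else 0
      obtain ⟨v, hv0, hv⟩ := hp_mul c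
      refine Ideal.mem_span_singleton'.2 ⟨Ideal.Quotient.mk I c, ?_⟩
      rw [← map_natCast (Ideal.Quotient.mk I), ← map_mul, Ideal.Quotient.eq, mul_comm, hv, ← map_sub, hImem]
      refine ⟨_, ?_, rfl⟩
      rw [map_sub, hσF, hv0]
      simp [c]
  refine ⟨hiff, fun q => ?_⟩
  obtain ⟨w, rfl⟩ := Ideal.Quotient.mk_surjective q
  obtain ⟨v, hv0, hv⟩ := hp_mul w
  rw [← map_natCast (Ideal.Quotient.mk I), ← map_mul, Ideal.Quotient.eq_zero_iff_mem, hv, map_natCast, hiff, hImem, ← hv0, ← hσF]
  exact ⟨fun ⟨x, hx, hxv⟩ => hVinj hxv ▸ hx, fun h => ⟨_, h, rfl⟩⟩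


end Groth.Agent.S16373
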