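import Groth.Statements.S16374
import Mathlib.RingTheory.Kaehler.Basic
import Mathlib.RingTheory.Adjoin.Basic

set_option autoImplicit false
universe u v w
open FrobAlg

namespace Groth.Agent.S16374

/-- Let p be a prime, A a commutative ring, B and C commutative A-algebras with p² = 0 in B, and g : C →
B an A-algebra map such that every g(c) is congruent modulo p to an element of the A-subalgebra of B
generated by the p-th powers (g lifts a relative Frobenius). Then d(g(x)) = 0 in the module of
Kähler differentials of B over A for every x ∈ C that is congruent modulo p to an element of the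
A-subalgebra of C generated by the p-th powers. (The source works with a lifting of the relative
Frobenius of a smooth scheme over a ℤ/p²-thickening and the subsheaf of functions whose reduction
comes from the Frobenius twist; smoothness is not needed for this vanishing.) -/
theorem result
    (p : ℕ) [Fact p.Prime] (A : Type u) [CommRing A] (B : Type v) [CommRing B] [Algebra A B]
    (C : Type w) [CommRing C] [Algebra A C] (hp : (p : B) ^ 2 = 0)
    (g : C →ₐ[A] B)
    (hg : ∀ c : C, ∃ u ∈ Algebra.adjoin A (Set.range fun b : B => b ^ p),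
      g c - u ∈ Ideal.span ({(p : B)} : Set B))
    (x y : C) (hy : y ∈ Algebra.adjoin A (Set.range fun c : C => c ^ p))
    (hxy : x - y ∈ Ideal.span ({(p : C)} : Set C)) :
    KaehlerDifferential.D A B (g x) = 0 := by
  let D := KaehlerDifferential.D A B
  have hpp : ∀ m : KaehlerDifferential A B, (p : B) • (p : B) • m = 0 := fun m => by
    rw [← mul_smul, ← sq, hp, zero_smul]
  have hDp : ∀ b : B, D ((p : B) * b) = (p : B) • D b := fun b => by
    rw [D.leibniz, Derivation.map_natCast, smul_zero, add_zero]
  have hadj : ∀ u ∈ Algebra.adjoin A (Set.range fun b : B => b ^ p), ∃ m, D u = (p : B) • m := by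
    intro u hu
    induction hu using Algebra.adjoin_induction with
    | mem u hu =>
      obtain ⟨b, rfl⟩ := hu
      refine ⟨b ^ (p - 1) • D b, ?_⟩
      simp only [D.leibniz_pow, Nat.cast_smul_eq_nsmul]
    | algebraMap a => exact ⟨0, by rw [D.map_algebraMap, smul_zero]⟩
    | add u v _ _ hu hv =>
      obtain ⟨m, hm⟩ := hu
      obtain ⟨m', hm'⟩ := hv
      exact ⟨m + m', by rw [map_add, hm, hm', smul_add]⟩
    | mul u v _ _ hu hv =>
      obtain ⟨m, hm⟩ := hu
      obtain ⟨m', hm'⟩ := hv
      exact ⟨u • m' + v • m, by rw [D.leibniz, hm, hm', smul_add, smul_comm u, smul_comm v]⟩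
  have hDg : ∀ c, ∃ m, D (g c) = (p : B) • m := fun c => by
    obtain ⟨u, hu, hcu⟩ := hg c
    obtain ⟨d, hd⟩ := Ideal.mem_span_singleton.1 hcu
    obtain ⟨m, hm⟩ := hadj u hu
    exact ⟨m + D d, by rw [sub_eq_iff_eq_add'.1 hd, map_add, hm, hDp, smul_add]⟩
  have hy0 : D (g y) = 0 := by
    clear hxy
    induction hy using Algebra.adjoin_induction with
    | mem u hu =>
      obtain ⟨c, rfl⟩ := hu
      obtain ⟨m, hm⟩ := hDg c
      show D (g (c ^ p)) = 0
      rw [map_pow, D.leibniz_pow, hm, smul_comm _ (p : B), ← Nat.cast_smul_eq_nsmul B, hpp]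
    | algebraMap a => rw [AlgHom.commutes, D.map_algebraMap]
    | add u v _ _ hu hv => rw [map_add, map_add, hu, hv, add_zero]
    | mul u v _ _ hu hv => rw [map_mul, D.leibniz, hu, hv, smul_zero, smul_zero, add_zero]
  obtain ⟨c, hc⟩ := Ideal.mem_span_singleton.1 hxy
  obtain ⟨m, hm⟩ := hDg c
  show D (g x) = 0
  rw [sub_eq_iff_eq_add'.1 hc, map_add, map_add, hy0, zero_add, map_mul, map_natCast, hDp, hm, hpp]
end Groth.Agent.S16374
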