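import Groth.Statements.S16377
import Groth.Agent.Lib.FMHyp13.Vanish
import Groth.Agent.Lib.Snapper.Twist

set_option backward.isDefEq.respectTransparency false
set_option backward.isDefEq.respectTransparency.types false
set_option linter.style.haveILetI false

set_option autoImplicit false
universe u
open CategoryTheory CategoryTheory.Limits AlgebraicGeometry
attribute [local instance] HasDerivedCategory.standard
open FMK

namespace Groth.Agent.S16377

/-- Let k be an algebraically closed field, X a scheme over k and Y a quasi-compact scheme locally of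
finite type over k (structure morphisms a and b) of dimension at most g, and P a cochain complex of
modules on X ×_k Y. Write Φ_P = Rpr_{Y,*}(Lpr_X^*(−) ⊗^L P) : D(O_X) → D(O_Y), Ψ_P =
Rpr_{X,*}(Lpr_Y^*(−) ⊗^L P) : D(O_Y) → D(O_X) and R^iΦ_P(F) = H^i(Φ_P(F)), the derived functors
involved being assumed to exist. Let k' ≥ 0 and let F be a cochain complex of O_X-modules defining a
perfect object which is a GV_{k'}-object with respect to P: R^iΦ_P(F) = 0 for i < 0, and for i ≥ 0
the support of R^iΦ_P(F) has codimension at least i − k' in Y (the local ring of Y at each point of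
the support has Krull dimension ≥ i − k'). Let N be a finite locally free O_Y-module. Then H^i(X,
Ψ_P(N) ⊗^L F) = 0 for every i < 0 and every i > g + k'. (The published statement carries an extra
shift N[h] by an integer h and asserts vanishing of H^i(X, F ⊗ Ψ_P(N[h])) for i outside [0, dim Y −
h + k']; since that group is H^{i+h}(X, F ⊗ Ψ_P N), the correct range is i outside [−h, dim Y + k' −
h], which for h = 0 is the statement here, and for h > 0 the published range is wrong: X = Y = Spec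
k, P = k, F = N = k, k' = 0, h = 1 gives H^{−1}(F ⊗ N[1]) = k ≠ 0.) -/
theorem result (k : Type u) [Field k] [IsAlgClosed k]
    (X Y : Scheme.{u}) (a : X ⟶ Spec (CommRingCat.of k)) (b : Y ⟶ Spec (CommRingCat.of k))
    [LocallyOfFiniteType b] [QuasiCompact b] (g : ℕ) (hg : topologicalKrullDim ↥Y ≤ (g : WithBot ℕ∞))
    (P : CochainComplex (pullback a b).Modules ℤ)
    [DCoh.HasLpull (pullback.fst a b)] [DCoh.HasLpull (pullback.snd a b)] [DCoh.HasLTensorCx P]
    [DCoh.HasRpush (pullback.fst a b)] [DCoh.HasRpush (pullback.snd a b)] [DCoh.HasRΓ X]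
    (k' : ℕ) (F : CochainComplex X.Modules ℤ) (hF : DCoh.IsPerfect (DCoh.toD X F)) [DCoh.HasLTensorCx F]
    (hneg : ∀ i : ℤ, i < 0 → IsZero (DCoh.HD ((FMK.phi a b P).obj (DCoh.toD X F)) i))
    (hcodim : ∀ (i : ℕ) (y : ↥Y), y ∈ CohB1.support (DCoh.HD ((FMK.phi a b P).obj (DCoh.toD X F)) (i : ℤ)) →
      ((i - k' : ℕ) : WithBot ℕ∞) ≤ ringKrullDim ↑(Y.presheaf.stalk y))
    (N : Y.Modules) (hN : FlatMod.IsFinLocFree N) (i : ℤ) (hi : i < 0 ∨ (g : ℤ) + k' < i) :
    IsZero ((DerivedCategory.homologyFunctor AddCommGrpCat.{u} i).obj ((DCoh.RΓ X).obj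
      ((DCoh.LTensorCx F).obj ((DCoh.Lpull (pullback.snd a b) ⋙ DCoh.LTensorCx P ⋙ DCoh.Rpush (pullback.fst a b)).obj (DCoh.inD Y N))))) := by
  haveI : IsLocallyNoetherian Y := LocallyOfFiniteType.isLocallyNoetherian b
  haveI : CompactSpace Y := QuasiCompact.compactSpace_of_compactSpace b
  haveI : DCoh.HasRΓ Y := KInjLib.hasRightDerivedFunctor KInjLib.enoughKInj_of_grothendieck _
  haveI := KFlat.Sch.hasLTensorCx (Exact8.FMVanish.sgl N)
  let eN : DCoh.inD Y N ≅ DCoh.toD Y (Exact8.FMVanish.sgl N) := (DerivedCategory.singleFunctorIsoCompQ _ 0).app _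
  have hNp : DCoh.IsPerfect (DCoh.toD Y (Exact8.FMVanish.sgl N)) :=
    DGen9.ResP.isPerfect_toD (DPerf.isStrictlyPerfect_single hN)
  obtain ⟨e⟩ := Exact8.FMSwap.nonempty_swap (pullback.fst a b) (pullback.snd a b) P F hF _ hNp
  refine IsZero.of_iso ?_ ((DerivedCategory.homologyFunctor AddCommGrpCat.{u} i).mapIso
    ((DCoh.RΓ X).mapIso ((DCoh.LTensorCx F).mapIso ((DCoh.Lpull (pullback.snd a b) ⋙ DCoh.LTensorCx P ⋙
      DCoh.Rpush (pullback.fst a b)).mapIso eN)) ≪≫ e))
  let G := (DCoh.LTensorCx (Exact8.FMVanish.sgl N)).obj ((FMK.phi a b P).obj (DCoh.toD X F))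
  have eG : ∀ j, Nonempty (DCoh.HD G j ≅ CohB1.tensorMod (DCoh.HD ((FMK.phi a b P).obj (DCoh.toD X F)) j) N) :=
    fun j => Exact8.FMVanish.nonempty_HD_tensor hN _ j
  have hz : ∀ j : ℤ, j < 0 → IsZero (DCoh.HD G j) := fun j hj =>
    ((RelPCS4.rten N).map_isZero (hneg j hj)).of_iso (eG j).some
  haveI : G.IsGE 0 := (DerivedCategory.isGE_iff _ _).2 hz
  refine FMHyp13.isZero_rGamma G 0 i fun n p hnp => ?_
  rcases lt_or_ge n 0 with hn | hn
  · have hz0 := (CohFound.abF Y).map_isZero (hz n hn)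
    exact subsingleton_of_forall_eq 0 fun ξ => by
      rw [← CohFound.mp_id _ p ⊤ ξ, hz0.eq_of_src (𝟙 _) 0, CohFound.mp_zero]
  · obtain ⟨j, rfl⟩ := Int.eq_ofNat_of_zero_le hn
    refine CohFound.subsingleton_hc_of_iso (eG j).some.symm p ⊤ ?_
    refine FMHyp13.subsingleton_hc_of_dim_stalk hg _ (j - k') (fun x hx => hcodim j x
      (Snapper.support_tensor_subset _ _ hx)) p ?_
    rcases hi with hi | hi <;> omega

end Groth.Agent.S16377
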