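import Groth.Statements.S16378
import Groth.Agent.Lib.Exact8.FMVanish

set_option autoImplicit false
universe u
open CategoryTheory CategoryTheory.Limits AlgebraicGeometry
attribute [local instance] HasDerivedCategory.standard
open FMK

namespace Groth.Agent.S16378


/-- Let k be an algebraically closed field, X and Y schemes proper over k with structure morphisms a₀
and b₀, L an ample invertible O_Y-module, and P a cochain complex of modules on X ×_k Y defining a
perfect object. Write Φ_P = Rpr_{Y,*}(Lpr_X^*(−) ⊗^L P), Ψ_P = Rpr_{X,*}(Lpr_Y^*(−) ⊗^L P) and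
R^iΦ_P(F) = H^i(Φ_P(F)), the derived functors involved being assumed to exist; F satisfies WIT_[a,b]
with respect to P when R^iΦ_P(F) = 0 for every i outside [a, b]. Let F be a cochain complex of
O_X-modules defining a perfect object and a, b integers. Then for every sufficiently large n (there
is n₀ with the following for all n ≥ n₀): F satisfies WIT_[a,b] with respect to P if and only if
H^i(X, Ψ_P(L^{⊗ n}) ⊗^L F) = 0 for every integer i outside [a, b]. (Rendered, as for the
single-degree criterion it follows from, with powers of a fixed ample L in place of a sufficiently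
positive ample line bundle, and with X proper and F, P perfect.) -/
theorem result (k : Type u) [Field k] [IsAlgClosed k]
    (X Y : Scheme.{u}) (a₀ : X ⟶ Spec (CommRingCat.of k)) (b₀ : Y ⟶ Spec (CommRingCat.of k)) [IsProper a₀] [IsProper b₀]
    (P : CochainComplex (pullback a₀ b₀).Modules ℤ) (hP : DCoh.IsPerfect (DCoh.toD (pullback a₀ b₀) P))
    [DCoh.HasLpull (pullback.fst a₀ b₀)] [DCoh.HasLpull (pullback.snd a₀ b₀)] [DCoh.HasLTensorCx P]
    [DCoh.HasRpush (pullback.fst a₀ b₀)] [DCoh.HasRpush (pullback.snd a₀ b₀)] [DCoh.HasRΓ X]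
    (L : Y.Modules) (hL : CohB1.IsAmple L)
    (F : CochainComplex X.Modules ℤ) (hF : DCoh.IsPerfect (DCoh.toD X F)) [DCoh.HasLTensorCx F] (a b : ℤ) :
    ∃ n₀ : ℕ, ∀ n : ℕ, n₀ ≤ n →
      ((∀ i : ℤ, i < a ∨ b < i → IsZero (DCoh.HD ((FMK.phi a₀ b₀ P).obj (DCoh.toD X F)) i)) ↔
        (∀ i : ℤ, i < a ∨ b < i → IsZero ((DerivedCategory.homologyFunctor AddCommGrpCat.{u} i).obj ((DCoh.RΓ X).obj
          ((DCoh.LTensorCx F).obj ((DCoh.Lpull (pullback.snd a₀ b₀) ⋙ DCoh.LTensorCx P ⋙ DCoh.Rpush (pullback.fst a₀ b₀)).obj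
            (DCoh.inD Y (CohB1.tensorPow L n)))))))) := by
  obtain ⟨n₀, h⟩ := Groth.Agent.Exact8.FMVanish.exists_transform k X Y a₀ b₀ P hP L hL F hF
  exact ⟨n₀, fun n hn => forall₂_congr fun i _ => h n hn i⟩


end Groth.Agent.S16378
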