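import Groth.Statements.S16379
import Groth.Agent.Lib.FMHyp13.DualPhiApps
import Groth.Agent.Lib.FMHyp13.GVDual

set_option backward.isDefEq.respectTransparency false
set_option backward.isDefEq.respectTransparency.types false
set_option linter.style.haveILetI false
set_option maxHeartbeats 1600000

set_option autoImplicit false
universe u
open CategoryTheory CategoryTheory.Limits AlgebraicGeometry
attribute [local instance] HasDerivedCategory.standard
open FMK

namespace Groth.Agent.S16379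

/-- Let k be an algebraically closed field, X and Y proper schemes over k with structure morphisms a and
b, all of whose local rings are Cohen–Macaulay, X equidimensional of dimension d (every irreducible
component has dimension d). Let Ra_* on D_QCoh have the right adjoint a^× (given as data with its
adjunction), O an object of D_QCoh(Spec k) isomorphic to the structure sheaf in degree 0, and ω_X =
H^{−d}(a^×O) the dualizing module of X; write RΔ(F) = RHom(F, ω_X). Let P be a cochain complex of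
modules on X ×_k Y defining a perfect object, and P' a cochain complex representing its derived dual
RHom(P, O_{X×Y}). For a kernel K write Φ_K = Rpr_{Y,*}(Lpr_X^*(−) ⊗^L K) : D(O_X) → D(O_Y) and
R^iΦ_K = H^i ∘ Φ_K; the derived functors and internal RHom involved are assumed to exist. Let k' ≥ 0
and let F be a cochain complex of O_X-modules defining a perfect object which satisfies WIT_[d−k',d]
with respect to P: R^iΦ_P(F) = 0 for every i outside [d − k', d]. Then RΔ(F) is a GV_{k'}-object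
with respect to P': R^iΦ_{P'}(RΔ F) = 0 for i < 0, and for i ≥ 0 the support of R^iΦ_{P'}(RΔ F) has
codimension at least i − k' (the local ring of Y at each of its points has Krull dimension ≥ i −
k'). -/
theorem result (k : Type u) [Field k] [IsAlgClosed k]
    (X Y : Scheme.{u}) (a : X ⟶ Spec (CommRingCat.of k)) (b : Y ⟶ Spec (CommRingCat.of k)) [IsProper a] [IsProper b]
    (hXcm : ∀ x : ↥X, LocCoh.IsCohenMacaulayLocalRing ↑(X.presheaf.stalk x))
    (hYcm : ∀ y : ↥Y, LocCoh.IsCohenMacaulayLocalRing ↑(Y.presheaf.stalk y))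
    (d : ℕ) (hd : topologicalKrullDim ↥X = (d : WithBot ℕ∞))
    (hXeq : ∀ Z ∈ irreducibleComponents ↥X, topologicalKrullDim ↥Z = (d : WithBot ℕ∞))
    [DCoh.HasRpush a] (ha : DCoh.RpushPreservesQCoh a)
    (adx : DCoh.DQCoh (Spec (CommRingCat.of k)) ⥤ DCoh.DQCoh X) (adj : DCoh.RpushQ a ha ⊣ adx)
    (O : DCoh.DQCoh (Spec (CommRingCat.of k)))
    (hO : Nonempty (O.obj ≅ DCoh.inD (Spec (CommRingCat.of k)) (Coh.structureModule (Spec (CommRingCat.of k)))))
    (P : CochainComplex (pullback a b).Modules ℤ) (hP : DCoh.IsPerfect (DCoh.toD (pullback a b) P))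
    [DCoh.HasLpull (pullback.fst a b)] [DCoh.HasLTensorCx P] [DCoh.HasRSheafHom P] [DCoh.HasRpush (pullback.snd a b)]
    (P' : CochainComplex (pullback a b).Modules ℤ) [DCoh.HasLTensorCx P']
    (hP' : Nonempty (DCoh.toD (pullback a b) P' ≅
      (DCoh.RSheafHom P).obj (DCoh.inD (pullback a b) (Coh.structureModule (pullback a b)))))
    (k' : ℕ) (F : CochainComplex X.Modules ℤ) (hF : DCoh.IsPerfect (DCoh.toD X F)) [DCoh.HasLTensorCx F] [DCoh.HasRSheafHom F]
    (hWIT : ∀ i : ℤ, i < (d : ℤ) - k' ∨ (d : ℤ) < i → IsZero (DCoh.HD ((FMK.phi a b P).obj (DCoh.toD X F)) i)) :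
    (∀ i : ℤ, i < 0 → IsZero (DCoh.HD ((FMK.phi a b P').obj
      ((DCoh.RSheafHom F).obj (DCoh.inD X (DCoh.HD (adx.obj O).obj (-(d : ℤ)))))) i)) ∧
    (∀ (i : ℕ) (y : ↥Y), y ∈ CohB1.support (DCoh.HD ((FMK.phi a b P').obj
      ((DCoh.RSheafHom F).obj (DCoh.inD X (DCoh.HD (adx.obj O).obj (-(d : ℤ)))))) (i : ℤ)) →
      ((i - k' : ℕ) : WithBot ℕ∞) ≤ ringKrullDim ↑(Y.presheaf.stalk y)) := by
  haveI : IsLocallyNoetherian Y := LocallyOfFiniteType.isLocallyNoetherian b
  obtain ⟨G, DG, pG, hG, hD, ⟨eG⟩, ⟨eD⟩⟩ :=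
    FMHyp13.DualPhi.exists_dual_pair a b hXcm d hXeq ha adx adj O hO P hP P' hP' F hF
  haveI := pG
  have hW : ∀ l : ℤ, l < (d : ℤ) - k' ∨ (d : ℤ) < l → IsZero (DCoh.HD (G : DCoh.D Y) l) := fun l hl =>
    (hWIT l hl).of_iso ((DerivedCategory.homologyFunctor _ l).mapIso eG)
  let M := (FMK.phi a b P').obj ((DCoh.RSheafHom F).obj (DCoh.inD X (DCoh.HD (adx.obj O).obj (-(d : ℤ)))))
  have key : ∀ (i : ℤ) (y : Y), y ∈ CohB1.support (DCoh.HD M i) →
      0 ≤ i ∧ ∀ c : ℕ, (c : ℤ) ≤ i - k' → ((c : ℕ∞) : WithBot ℕ∞) ≤ ringKrullDim (Y.presheaf.stalk y) := by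
    intro i y hy
    have hs : y ∈ CohB1.support (DCoh.HD (DG : DCoh.D Y) (i - d)) := by
      rw [FMHyp13.support_iso (show DCoh.HD (DG : DCoh.D Y) (i - d) ≅ DCoh.HD (M⟦(d : ℤ)⟧) (i - d) from
        (DerivedCategory.homologyFunctor Y.Modules (i - d)).mapIso eD),
        FMHyp13.DualPhi.support_HD_shift M (d : ℤ) (i - d) i (by omega)]
      exact hy
    obtain ⟨h1, h2⟩ := FMHyp13.gv_of_dual hYcm G DG hG hD ((d : ℤ) - k') d hW (i - d) y hs
    exact ⟨by omega, fun c hc => h2 c (by omega)⟩
  refine ⟨fun i hi => ?_, fun i y hy => ?_⟩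
  · exact SerreCl8.isZero_of_support_eq_empty
      (Set.eq_empty_iff_forall_notMem.2 fun y hy => absurd (key i y hy).1 (by omega))
  · by_cases hk : i ≤ k'
    · rw [Nat.sub_eq_zero_of_le hk]
      exact ringKrullDim_nonneg_of_nontrivial
    · exact (key i y hy).2 (i - k') (by omega)

end Groth.Agent.S16379
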