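import Groth.Statements.S1638
import Mathlib.Algebra.Algebra.Subalgebra.Centralizer
import Mathlib.RingTheory.TensorProduct.Maps
import Mathlib.LinearAlgebra.Basis.VectorSpace

set_option autoImplicit false
universe u
open Brauer

namespace Groth.Agent.S1638

/-- Let A and A' be algebras over a field k with subalgebras B ⊆ A and B' ⊆ A' having centralizers C and
C'. Then the centralizer of the image of B ⊗ B' in A ⊗_k A' is the image of C ⊗_k C'. -/
theorem result (k : Type u) [Field k] (A A' : Type u) [Ring A] [Ring A'] [Algebra k A] [Algebra k A']
    (B : Subalgebra k A) (B' : Subalgebra k A') :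
    Subalgebra.centralizer k ((Algebra.TensorProduct.map B.val B'.val).range : Set (TensorProduct k A A')) =
      (Algebra.TensorProduct.map (Subalgebra.centralizer k (B : Set A)).val (Subalgebra.centralizer k (B' : Set A')).val).range := by
  rw [Algebra.TensorProduct.map_range, Subalgebra.centralizer_coe_sup]
  have e1 : ((Algebra.TensorProduct.includeLeft : A →ₐ[k] TensorProduct k A A').comp B.val).range =
      B.map (Algebra.TensorProduct.includeLeft (R := k) (B := A')) := by
    rw [AlgHom.range_comp, Subalgebra.range_val]
  have e2 : ((Algebra.TensorProduct.includeRight : A' →ₐ[k] TensorProduct k A A').comp B'.val).range =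
      B'.map (Algebra.TensorProduct.includeRight (R := k) (A := A)) := by
    rw [AlgHom.range_comp, Subalgebra.range_val]
  rw [e1, e2, Subalgebra.centralizer_coe_map_includeLeft_eq_center_tensorProduct,
    Subalgebra.centralizer_coe_map_includeRight_eq_center_tensorProduct]
  generalize Subalgebra.centralizer k (B : Set A) = C
  generalize Subalgebra.centralizer k (B' : Set A') = C'
  obtain ⟨P, hP⟩ := LinearMap.exists_leftInverse_of_injective C.val.toLinearMap
    (LinearMap.ker_eq_bot.2 Subtype.val_injective)
  refine le_antisymm ?_ (le_inf ?_ ?_)
  · rintro x ⟨⟨y, hy⟩, ⟨z, hz⟩⟩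
    refine ⟨LinearMap.rTensor C' P z, ?_⟩
    have h1 : LinearMap.rTensor A' (C.val.toLinearMap.comp P) x = x := by
      rw [← hy]
      clear hy hz
      induction y using TensorProduct.induction_on with
      | zero => simp
      | tmul u v =>
        have := LinearMap.congr_fun hP u
        simp at this
        simp [this]
      | add u v hu hv =>
        simp only [AlgHom.coe_toRingHom, RingHom.map_add, map_add] at *
        rw [hu, hv]
    conv_rhs => rw [← h1, ← hz]
    clear hy hz h1 y
    induction z using TensorProduct.induction_on with
    | zero => simp
    | tmul u v => simp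
    | add u v hu hv =>
      simp only [AlgHom.coe_toRingHom, RingHom.map_add, map_add] at *
      rw [hu, hv]
  · rintro _ ⟨w, rfl⟩
    refine ⟨LinearMap.lTensor C C'.val.toLinearMap w, ?_⟩
    induction w using TensorProduct.induction_on with
    | zero => simp
    | tmul u v => simp
    | add u v hu hv =>
      simp only [AlgHom.coe_toRingHom, RingHom.map_add, map_add] at *
      rw [hu, hv]
  · rintro _ ⟨w, rfl⟩
    refine ⟨LinearMap.rTensor C' C.val.toLinearMap w, ?_⟩
    induction w using TensorProduct.induction_on with
    | zero => simp
    | tmul u v => simp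
    | add u v hu hv =>
      simp only [AlgHom.coe_toRingHom, RingHom.map_add, map_add] at *
      rw [hu, hv]
end Groth.Agent.S1638
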