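import Groth.Statements.S16382
import Groth.Agent.Lib.FMHyp13.Fibres
import Groth.Agent.Lib.FMHyp13.Loci

set_option backward.isDefEq.respectTransparency false
set_option backward.isDefEq.respectTransparency.types false
set_option linter.style.haveILetI false
set_option maxHeartbeats 1600000

set_option autoImplicit false
universe u
open CategoryTheory CategoryTheory.Limits AlgebraicGeometry
attribute [local instance] HasDerivedCategory.standard
open FMK

namespace Groth.Agent.S16382

open DMon9 in
/-- Vanishing of hypercohomology on the fibre is vanishing of the derived fibre of the direct image. -/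
theorem key {Z Y : Scheme.{u}} (q : Z ⟶ Y) [IsProper q] [Flat q] [DCoh.HasRpush q] (y : Y)
    [DCoh.HasLpull (pullback.fst q (Y.fromSpecResidueField y))]
    [DCoh.HasRΓ (pullback q (Y.fromSpecResidueField y))] (E : DCoh.D Z) (hE : DCoh.IsPerfect E) (i : ℤ) :
    IsZero ((DerivedCategory.homologyFunctor AddCommGrpCat.{u} i).obj
        ((DCoh.RΓ (pullback q (Y.fromSpecResidueField y))).obj
          ((DCoh.Lpull (pullback.fst q (Y.fromSpecResidueField y))).obj E))) ↔
      IsZero (DCoh.HD ((lP (Y.fromSpecResidueField y)).obj ((DCoh.Rpush q).obj E)) i) := by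
  let g := Y.fromSpecResidueField y
  let j := pullback.fst q g
  let q' := pullback.snd q g
  haveI : DCoh.HasRpush q' := DBC9.hasRpush q'
  haveI : Subsingleton (Spec (Y.residueField y)) := inferInstanceAs (Subsingleton (PrimeSpectrum (Y.residueField y)))
  haveI : DCoh.HasRΓ (Spec (Y.residueField y)) :=
    KInjLib.hasRightDerivedFunctor KInjLib.enoughKInj_of_grothendieck _
  haveI : CompactSpace (pullback q g : Scheme.{u}) := QuasiCompact.compactSpace_of_compactSpace q'
  obtain ⟨n⟩ := nonempty_lpull_natIso_lP j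
  obtain ⟨a, ha⟩ := DPerf.exists_isGE_of_perfect (KFlat.Sch.isPerfect_lpull j hE)
  haveI := ha
  haveI := DPush.isGE_rpush q' ((DCoh.Lpull j).obj E) a inferInstance
  obtain ⟨bc⟩ := PerfPush9.nonempty_bc_flat q g q' j (IsPullback.of_hasPullback q g)
    (DGen9.isQCohD_of_isPerfect hE)
  obtain ⟨r⟩ := DMV.nonempty_rGamma_rpush q'
  refine ((DerivedCategory.homologyFunctor AddCommGrpCat.{u} i).mapIso (r.app ((DCoh.Lpull j).obj E)).symm).isZero_iff.trans
    (Iff.trans ⟨FMHyp13.isZero_HD_of_point _ a i, fun h => ?_⟩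
      ((DerivedCategory.homologyFunctor _ i).mapIso
        ((DCoh.Rpush q').mapIso (n.app E) ≪≫ bc.symm)).isZero_iff)
  refine FMHyp13.isZero_rGamma _ a i fun l p hlp => ?_
  rcases Nat.eq_zero_or_pos p with rfl | hp
  · rw [show l = i by simpa using hlp]
    have hz := (CohFound.abF _).map_isZero h
    exact subsingleton_of_forall_eq 0 fun ξ => by
      rw [← CohFound.mp_id _ 0 ⊤ ξ, hz.eq_of_src (𝟙 _) 0, CohFound.mp_zero]
  · haveI : Subsingleton (TopologicalSpace.IrreducibleCloseds (Spec (Y.residueField y))) := ⟨fun c d => by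
      obtain ⟨x, hx⟩ := c.2.nonempty
      obtain ⟨w, hw⟩ := d.2.nonempty
      exact TopologicalSpace.IrreducibleCloseds.ext (Set.ext fun z =>
        ⟨fun _ => Subsingleton.elim w z ▸ hw, fun _ => Subsingleton.elim x z ▸ hx⟩)⟩
    exact FMHyp13.subsingleton_hc_of_dim_stalk (d := 0) Order.krullDim_nonpos_of_subsingleton _ 0
      (fun x _ => by exact_mod_cast ringKrullDim_nonneg_of_nontrivial) p hp

/-- Let k be an algebraically closed field, X a proper scheme over k and Y a scheme locally of finite
type over k (structure morphisms a and b), P a cochain complex of modules on X ×_k Y defining a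
perfect object and F a cochain complex of O_X-modules defining a perfect object. Write Φ_P(F) =
Rpr_{Y,*}(Lpr_X^*F ⊗^L P), R^iΦ_P(F) = H^i(Φ_P(F)), and for a point y of Y with residue field κ(y)
let X_y = (X ×_k Y) ×_Y Spec κ(y) with first projection j_y : X_y → X ×_k Y, P restricted to the
fibre being Lj_y^*; the i-th cohomological support locus of F is V^i = {y ∈ Y : H^i(X_y,
Lj_y^*(Lpr_X^*F ⊗^L P)) ≠ 0} (hypercohomology on X_y); the derived functors involved are assumed to
exist. Let k' ≥ 0. Then the following are equivalent: (1') for every i ≥ 0 the support of R^iΦ_P(F)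
has codimension ≥ i − k' (the local ring of Y at each of its points has Krull dimension ≥ i − k');
(2) for every i ≥ 0 the locus V^i has codimension ≥ i − k' in the same pointwise sense. (The
published statement has the GV_{k'} condition in (1), which also asks R^iΦ_P(F) = 0 for i < 0; that
extra clause is not implied by (2) for complexes — over X = Y = Spec k with P = k and F = k[1]
condition (2) holds while R^{−1} ≠ 0 — and the published proof only treats the codimension clauses,
which are equivalent as stated here; for F and P sheaves the extra clause is automatic.) -/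
theorem result (k : Type u) [Field k] [IsAlgClosed k]
    (X Y : Scheme.{u}) (a : X ⟶ Spec (CommRingCat.of k)) (b : Y ⟶ Spec (CommRingCat.of k)) [IsProper a] [LocallyOfFiniteType b]
    (P : CochainComplex (pullback a b).Modules ℤ) (hP : DCoh.IsPerfect (DCoh.toD (pullback a b) P))
    [DCoh.HasLpull (pullback.fst a b)] [DCoh.HasLTensorCx P] [DCoh.HasRpush (pullback.snd a b)]
    [∀ y : ↥Y, DCoh.HasLpull (pullback.fst (pullback.snd a b) (Y.fromSpecResidueField y))]
    [∀ y : ↥Y, DCoh.HasRΓ (pullback (pullback.snd a b) (Y.fromSpecResidueField y))]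
    (F : CochainComplex X.Modules ℤ) (hF : DCoh.IsPerfect (DCoh.toD X F)) (k' : ℕ) :
    (∀ (i : ℕ) (y : ↥Y), y ∈ CohB1.support (DCoh.HD ((FMK.phi a b P).obj (DCoh.toD X F)) (i : ℤ)) →
      ((i - k' : ℕ) : WithBot ℕ∞) ≤ ringKrullDim ↑(Y.presheaf.stalk y)) ↔
    (∀ (i : ℕ) (y : ↥Y), ¬ IsZero ((DerivedCategory.homologyFunctor AddCommGrpCat.{u} (i : ℤ)).obj
        ((DCoh.RΓ (pullback (pullback.snd a b) (Y.fromSpecResidueField y))).obj ((DCoh.Lpull (pullback.fst (pullback.snd a b) (Y.fromSpecResidueField y))).obj
          ((DCoh.LTensorCx P).obj ((DCoh.Lpull (pullback.fst a b)).obj (DCoh.toD X F)))))) →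
      ((i - k' : ℕ) : WithBot ℕ∞) ≤ ringKrullDim ↑(Y.presheaf.stalk y)) := by
  haveI : IsLocallyNoetherian Y := LocallyOfFiniteType.isLocallyNoetherian b
  haveI : IsProper (pullback.snd a b) := inferInstance
  haveI : Flat a := inferInstance
  let E := (DCoh.LTensorCx P).obj ((DCoh.Lpull (pullback.fst a b)).obj (DCoh.toD X F))
  have hE : DCoh.IsPerfect E := by
    obtain ⟨P', ⟨eP⟩, hP'⟩ := DMon9.nonempty_ltensor_iso P
    obtain ⟨t⟩ := hP' ((DCoh.Lpull (pullback.fst a b)).obj (DCoh.toD X F))
    haveI := KFlat.Sch.hasLTensorCx P'.obj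
    exact DGen9.isPerfect_of_iso (t ≪≫ (DMon9.theta P').app _).symm
      (KFlat.Sch.isPerfect_lTensor P'.obj P'.property (DGen9.isPerfect_of_iso eP.symm hP) _
        (KFlat.Sch.isPerfect_lpull _ hF))
  haveI : IsLocallyNoetherian (pullback a b) := LocallyOfFiniteType.isLocallyNoetherian (pullback.snd a b)
  have hG : DCoh.IsPerfect ((DCoh.Rpush (pullback.snd a b)).obj E) :=
    PerfPush9.isPerfect_rpush_flat (pullback.snd a b) E hE
  have hpt : ∀ (y : Y) (z : Spec (Y.residueField y)), z = IsLocalRing.closedPoint (Y.residueField y) := fun y z =>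
    @Subsingleton.elim _ (inferInstanceAs (Subsingleton (PrimeSpectrum (Y.residueField y)))) _ _
  constructor
  · intro h i y hy
    obtain ⟨l, hil, hl⟩ := FMHyp13.exists_support_of_not_isZero (Y.fromSpecResidueField y) hG
      (IsLocalRing.closedPoint _) (hpt y) (i : ℤ) fun hz => hy ((key (pullback.snd a b) y E hE (i : ℤ)).2 hz)
    rw [Scheme.fromSpecResidueField_apply] at hl
    obtain ⟨l, rfl⟩ := Int.eq_ofNat_of_zero_le (le_trans (Int.natCast_nonneg i) hil)
    exact le_trans (Nat.cast_le.2 (Nat.sub_le_sub_right (by exact_mod_cast hil) k')) (h l y hl)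
  · intro h i y hy
    obtain ⟨l, hil, hl⟩ := FMHyp13.exists_not_isZero_of_support (Y.fromSpecResidueField y) hG
      (IsLocalRing.closedPoint _) (hpt y) (i : ℤ) (by rw [Scheme.fromSpecResidueField_apply]; exact hy)
    obtain ⟨l, rfl⟩ := Int.eq_ofNat_of_zero_le (le_trans (Int.natCast_nonneg i) hil)
    exact le_trans (Nat.cast_le.2 (Nat.sub_le_sub_right (by exact_mod_cast hil) k'))
      (h l y fun hz => hl ((key (pullback.snd a b) y E hE (l : ℤ)).1 hz))

end Groth.Agent.S16382
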