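import Groth.Statements.S16383
import Groth.Agent.Lib.FMHyp13.GVFibre
import Groth.Agent.S16382

set_option backward.isDefEq.respectTransparency false
set_option backward.isDefEq.respectTransparency.types false
set_option linter.style.haveILetI false
set_option maxHeartbeats 1600000

set_option autoImplicit false
universe u
open CategoryTheory CategoryTheory.Limits AlgebraicGeometry
attribute [local instance] HasDerivedCategory.standard
open FMK

namespace Groth.Agent.S16383

/-- Let k be an algebraically closed field, X a proper scheme over k all of whose local rings are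
Cohen–Macaulay, equidimensional of dimension d, and Y a proper scheme over k all of whose local
rings are Gorenstein (structure morphisms a and b). Let P be a finite locally free module on X ×_k
Y, viewed as a kernel in degree 0, and F a coherent O_X-module which is perfect as an object of
D(O_X). Write Φ_P(F) = Rpr_{Y,*}(Lpr_X^*F ⊗^L P), R^iΦ_P(F) = H^i(Φ_P(F)), and for a point y of Y
let X_y = (X ×_k Y) ×_Y Spec κ(y) with first projection j_y, and V^i = {y ∈ Y : H^i(X_y,
Lj_y^*(Lpr_X^*F ⊗^L P)) ≠ 0} the i-th cohomological support locus (hypercohomology on X_y; the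
derived functors involved are assumed to exist). Let k' ≥ 0 and suppose F is a GV_{k'}-sheaf with
respect to P: for every i ≥ 0 the support of R^iΦ_P(F) has codimension ≥ i − k' (the local ring of Y
at each of its points has Krull dimension ≥ i − k'). Then V^{i+1} ⊆ V^i for every i ≥ k', so that
V^d ⊆ ⋯ ⊆ V^{k'+1} ⊆ V^{k'}. -/
theorem result (k : Type u) [Field k] [IsAlgClosed k]
    (X Y : Scheme.{u}) (a : X ⟶ Spec (CommRingCat.of k)) (b : Y ⟶ Spec (CommRingCat.of k)) [IsProper a] [IsProper b]
    (hXcm : ∀ x : ↥X, LocCoh.IsCohenMacaulayLocalRing ↑(X.presheaf.stalk x))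
    (hYgor : ∀ y : ↥Y, LocCoh.IsGorensteinLocalRing ↑(Y.presheaf.stalk y))
    (d : ℕ) (hd : topologicalKrullDim ↥X = (d : WithBot ℕ∞))
    (hXeq : ∀ Z ∈ irreducibleComponents ↥X, topologicalKrullDim ↥Z = (d : WithBot ℕ∞))
    (P₀ : (pullback a b).Modules) (hP₀ : FlatMod.IsFinLocFree P₀)
    [DCoh.HasLpull (pullback.fst a b)]
    [DCoh.HasLTensorCx ((HomologicalComplex.single (pullback a b).Modules (ComplexShape.up ℤ) 0).obj P₀)]
    [DCoh.HasRpush (pullback.snd a b)]
    [∀ y : ↥Y, DCoh.HasLpull (pullback.fst (pullback.snd a b) (Y.fromSpecResidueField y))]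
    [∀ y : ↥Y, DCoh.HasRΓ (pullback (pullback.snd a b) (Y.fromSpecResidueField y))]
    (F : X.Modules) (hFc : Coh.IsCoh F) (hF : DCoh.IsPerfect (DCoh.inD X F)) (k' : ℕ)
    (hGV : ∀ (i : ℕ) (y : ↥Y), y ∈ CohB1.support (DCoh.HD ((FMK.phi a b
        ((HomologicalComplex.single (pullback a b).Modules (ComplexShape.up ℤ) 0).obj P₀)).obj (DCoh.inD X F)) (i : ℤ)) →
      ((i - k' : ℕ) : WithBot ℕ∞) ≤ ringKrullDim ↑(Y.presheaf.stalk y))
    (i : ℕ) (hi : k' ≤ i) (y : ↥Y)
    (hy : ¬ IsZero ((DerivedCategory.homologyFunctor AddCommGrpCat.{u} ((i : ℤ) + 1)).obj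
        ((DCoh.RΓ (pullback (pullback.snd a b) (Y.fromSpecResidueField y))).obj ((DCoh.Lpull (pullback.fst (pullback.snd a b) (Y.fromSpecResidueField y))).obj
          ((DCoh.LTensorCx ((HomologicalComplex.single (pullback a b).Modules (ComplexShape.up ℤ) 0).obj P₀)).obj
            ((DCoh.Lpull (pullback.fst a b)).obj (DCoh.inD X F))))))) :
    ¬ IsZero ((DerivedCategory.homologyFunctor AddCommGrpCat.{u} (i : ℤ)).obj
        ((DCoh.RΓ (pullback (pullback.snd a b) (Y.fromSpecResidueField y))).obj ((DCoh.Lpull (pullback.fst (pullback.snd a b) (Y.fromSpecResidueField y))).obj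
          ((DCoh.LTensorCx ((HomologicalComplex.single (pullback a b).Modules (ComplexShape.up ℤ) 0).obj P₀)).obj
            ((DCoh.Lpull (pullback.fst a b)).obj (DCoh.inD X F)))))) := by
  haveI : IsLocallyNoetherian Y := LocallyOfFiniteType.isLocallyNoetherian b
  haveI : IsProper (pullback.snd a b) := inferInstance
  haveI : Flat a := inferInstance
  let P : CochainComplex (pullback a b).Modules ℤ :=
    (HomologicalComplex.single (pullback a b).Modules (ComplexShape.up ℤ) 0).obj P₀
  have hP : DCoh.IsPerfect (DCoh.toD (pullback a b) P) :=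
    DGen9.ResP.isPerfect_toD (DPerf.isStrictlyPerfect_single hP₀)
  let E := (DCoh.LTensorCx P).obj ((DCoh.Lpull (pullback.fst a b)).obj (DCoh.inD X F))
  have hE : DCoh.IsPerfect E := by
    obtain ⟨P', ⟨eP⟩, hP'⟩ := DMon9.nonempty_ltensor_iso P
    obtain ⟨t⟩ := hP' ((DCoh.Lpull (pullback.fst a b)).obj (DCoh.inD X F))
    haveI := KFlat.Sch.hasLTensorCx P'.obj
    exact DGen9.isPerfect_of_iso (t ≪≫ (DMon9.theta P').app _).symm
      (KFlat.Sch.isPerfect_lTensor P'.obj P'.property (DGen9.isPerfect_of_iso eP.symm hP) _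
        (KFlat.Sch.isPerfect_lpull _ hF))
  haveI : IsLocallyNoetherian (pullback a b) := LocallyOfFiniteType.isLocallyNoetherian (pullback.snd a b)
  have hG : DCoh.IsPerfect ((DCoh.Rpush (pullback.snd a b)).obj E) :=
    PerfPush9.isPerfect_rpush_flat (pullback.snd a b) E hE
  intro hzero
  apply hy
  refine (S16382.key (pullback.snd a b) y E hE ((i : ℤ) + 1)).2 ?_
  haveI : LocCoh.IsCohenMacaulayLocalRing (Y.presheaf.stalk ((Y.fromSpecResidueField y) (IsLocalRing.closedPoint (Y.residueField y)))) :=
    @GorenLib.isCohenMacaulayLocalRing_of_gorenstein _ _ (hYgor _)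
  refine FMHyp13.isZero_HD_lP_succ (Y.fromSpecResidueField y) (IsLocalRing.closedPoint (Y.residueField y))
    (fun z => @Subsingleton.elim _ (inferInstanceAs (Subsingleton (PrimeSpectrum (Y.residueField y)))) _ _)
    (Residual14.isField_stalk_of_etale_field (𝟙 (Spec (CommRingCat.of (Y.residueField y)))) _) hG (i : ℤ) (fun m y' hm hmem => ?_)
    ((S16382.key (pullback.snd a b) y E hE (i : ℤ)).1 hzero)
  obtain ⟨l, rfl⟩ := Int.eq_ofNat_of_zero_le (le_trans (Int.natCast_nonneg i) hm.le)
  exact ⟨l - k', by omega, hGV l y' hmem⟩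

end Groth.Agent.S16383
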