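import Groth.Statements.S16384
import Groth.Agent.Lib.FMHyp13.WitSheaf
import Groth.Agent.Lib.FMHyp13.LocFreeDual
import Groth.Agent.Lib.FMHyp13.DualPhiApps
import Groth.Agent.Lib.FMHyp13.GVDual
import Groth.Agent.Lib.DGen9.PerfMain
import Groth.Agent.S3637

set_option backward.isDefEq.respectTransparency false
set_option backward.isDefEq.respectTransparency.types false
set_option linter.style.haveILetI false
set_option maxHeartbeats 1600000

set_option autoImplicit false
universe u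
open CategoryTheory CategoryTheory.Limits AlgebraicGeometry
attribute [local instance] HasDerivedCategory.standard
open FMK MonoidalCategory

namespace Groth.Agent.S16384

open DMon9 TwistBC9 in
/-- Derived pullback of a module along a flat morphism. -/
theorem nonempty_lP_flat {X Y : Scheme.{u}} (f : X ⟶ Y) [Flat f] (G : Y.Modules) :
    Nonempty ((lP f).obj ((DerivedCategory.singleFunctor Y.Modules 0).obj G) ≅
      (DerivedCategory.singleFunctor X.Modules 0).obj ((Scheme.Modules.pullback f).obj G)) := by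
  haveI : DCoh.HasLpull f := KFlat.Sch.hasLpull f
  obtain ⟨c⟩ := FMAdj9.nonempty_cxPull_iso f ((HomologicalComplex.single Y.Modules (ComplexShape.up ℤ) 0).obj G)
  obtain ⟨l⟩ := nonempty_lpull_natIso_lP f
  exact ⟨(lP f).mapIso ((DerivedCategory.singleFunctorIsoCompQ Y.Modules 0).app G) ≪≫ (l.app _).symm ≪≫ c.symm ≪≫
    DerivedCategory.Q.mapIso ((HomologicalComplex.singleMapHomologicalComplex (Scheme.Modules.pullback f)
      (ComplexShape.up ℤ) 0).app G) ≪≫ ((DerivedCategory.singleFunctorIsoCompQ X.Modules 0).app _).symm⟩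


/-- For a sheaf F and a locally free kernel P, let k be an algebraically closed field, X and Y proper
schemes over k with structure morphisms a and b, all of whose local rings are Cohen–Macaulay, X
equidimensional of dimension d and Y equidimensional of dimension g. Let Ra_* and Rb_* on D_QCoh
have right adjoints a^× and b^× (given as data with their adjunctions), O an object of D_QCoh(Spec
k) isomorphic to the structure sheaf in degree 0, and ω_X = H^{−d}(a^×O), ω_Y = H^{−g}(b^×O) the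
dualizing modules; write RΔ(F) = RHom(F, ω_X). Let P be a finite locally free module on X ×_k Y, P^∨
= Hom(P, O) its dual (the sheaf Hom as right adjoint of P ⊗ −) and Q = P^∨ ⊗ pr_Y^*ω_Y, both used as
kernels in degree 0; for a kernel K write Φ_K = Rpr_{Y,*}(Lpr_X^*(−) ⊗^L K) and R^iΦ_K = H^i ∘ Φ_K,
the derived functors involved being assumed to exist. Let k' ≥ 0 and F a coherent O_X-module,
perfect as an object of D(O_X), which is a GV_{k'}-sheaf with respect to P: for every i ≥ 0 the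
support of R^iΦ_P(F) has codimension ≥ i − k' (the local ring of Y at each of its points has Krull
dimension ≥ i − k'). Then RΔ(F) satisfies WIT_[d−k',d] with respect to Q: R^iΦ_Q(RΔ F) = 0 for every
integer i outside [d − k', d]. (The published statement is for an arbitrary object F of D(X) and an
arbitrary kernel P; in that generality the vanishing above degree d fails — for F = O_X[1] on an
abelian variety of dimension d ≥ 1 with the Poincaré kernel, F is GV_0 while Φ_Q(RΔF) is a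
skyscraper in degree d + 1 — so the row keeps F a sheaf and P locally free, the case of the
applications.) -/
theorem result (k : Type u) [Field k] [IsAlgClosed k]
    (X Y : Scheme.{u}) (a : X ⟶ Spec (CommRingCat.of k)) (b : Y ⟶ Spec (CommRingCat.of k)) [IsProper a] [IsProper b]
    (hXcm : ∀ x : ↥X, LocCoh.IsCohenMacaulayLocalRing ↑(X.presheaf.stalk x))
    (hYcm : ∀ y : ↥Y, LocCoh.IsCohenMacaulayLocalRing ↑(Y.presheaf.stalk y))
    (d : ℕ) (hd : topologicalKrullDim ↥X = (d : WithBot ℕ∞))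
    (hXeq : ∀ Z ∈ irreducibleComponents ↥X, topologicalKrullDim ↥Z = (d : WithBot ℕ∞))
    (g : ℕ) (hg : topologicalKrullDim ↥Y = (g : WithBot ℕ∞))
    (hYeq : ∀ Z ∈ irreducibleComponents ↥Y, topologicalKrullDim ↥Z = (g : WithBot ℕ∞))
    [DCoh.HasRpush a] (ha : DCoh.RpushPreservesQCoh a)
    (adx : DCoh.DQCoh (Spec (CommRingCat.of k)) ⥤ DCoh.DQCoh X) (adja : DCoh.RpushQ a ha ⊣ adx)
    [DCoh.HasRpush b] (hb : DCoh.RpushPreservesQCoh b)
    (bdx : DCoh.DQCoh (Spec (CommRingCat.of k)) ⥤ DCoh.DQCoh Y) (adjb : DCoh.RpushQ b hb ⊣ bdx)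
    (O : DCoh.DQCoh (Spec (CommRingCat.of k)))
    (hO : Nonempty (O.obj ≅ DCoh.inD (Spec (CommRingCat.of k)) (Coh.structureModule (Spec (CommRingCat.of k)))))
    (P₀ : (pullback a b).Modules) (hP₀ : FlatMod.IsFinLocFree P₀) [DCoh.HasSheafHom P₀]
    [DCoh.HasLpull (pullback.fst a b)] [DCoh.HasRpush (pullback.snd a b)]
    [DCoh.HasLTensorCx ((HomologicalComplex.single (pullback a b).Modules (ComplexShape.up ℤ) 0).obj P₀)]
    [DCoh.HasLTensorCx ((HomologicalComplex.single (pullback a b).Modules (ComplexShape.up ℤ) 0).obj (CohB1.tensorMod ((DCoh.sheafHom P₀).obj (Coh.structureModule (pullback a b))) ((Scheme.Modules.pullback (pullback.snd a b)).obj (DCoh.HD (bdx.obj O).obj (-(g : ℤ))))))]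
    (F : X.Modules) (hFc : Coh.IsCoh F) (hF : DCoh.IsPerfect (DCoh.inD X F))
    [DCoh.HasLTensorCx ((HomologicalComplex.single X.Modules (ComplexShape.up ℤ) 0).obj F)] [DCoh.HasRSheafHom ((HomologicalComplex.single X.Modules (ComplexShape.up ℤ) 0).obj F)]
    (k' : ℕ)
    (hGV : ∀ (i : ℕ) (y : ↥Y), y ∈ CohB1.support (DCoh.HD ((FMK.phi a b ((HomologicalComplex.single (pullback a b).Modules (ComplexShape.up ℤ) 0).obj P₀)).obj (DCoh.inD X F)) (i : ℤ)) →
      ((i - k' : ℕ) : WithBot ℕ∞) ≤ ringKrullDim ↑(Y.presheaf.stalk y))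
    (i : ℤ) (hi : i < (d : ℤ) - k' ∨ (d : ℤ) < i) :
    IsZero (DCoh.HD ((FMK.phi a b ((HomologicalComplex.single (pullback a b).Modules (ComplexShape.up ℤ) 0).obj (CohB1.tensorMod ((DCoh.sheafHom P₀).obj (Coh.structureModule (pullback a b))) ((Scheme.Modules.pullback (pullback.snd a b)).obj (DCoh.HD (bdx.obj O).obj (-(g : ℤ))))))).obj
      ((DCoh.RSheafHom ((HomologicalComplex.single X.Modules (ComplexShape.up ℤ) 0).obj F)).obj (DCoh.inD X (DCoh.HD (adx.obj O).obj (-(d : ℤ)))))) i) := by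
  haveI : IsLocallyNoetherian X := LocallyOfFiniteType.isLocallyNoetherian a
  haveI : IsLocallyNoetherian Y := LocallyOfFiniteType.isLocallyNoetherian b
  haveI : Flat a := inferInstance
  haveI : Flat b := inferInstance
  let p := pullback.fst a b
  let q := pullback.snd a b
  haveI : IsProper q := inferInstance
  haveI : Flat p := inferInstance
  haveI : Flat q := inferInstance
  haveI : IsLocallyNoetherian (pullback a b) := LocallyOfFiniteType.isLocallyNoetherian q
  let Z : Scheme.{u} := pullback a b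
  let w := DCoh.HD (bdx.obj O).obj (-(g : ℤ))
  obtain ⟨-, hwc, hwcm⟩ := S3637.result k Y b hYcm g hYeq hb bdx adjb O hO
  let sF : CochainComplex X.Modules ℤ := (HomologicalComplex.single X.Modules (ComplexShape.up ℤ) 0).obj F
  let sP : CochainComplex Z.Modules ℤ := (HomologicalComplex.single Z.Modules (ComplexShape.up ℤ) 0).obj P₀
  let eF : DCoh.inD X F ≅ DCoh.toD X sF := (DerivedCategory.singleFunctorIsoCompQ X.Modules 0).app F
  have hF' : DCoh.IsPerfect (DCoh.toD X sF) := DGen9.isPerfect_of_iso eF hF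
  have hP : DCoh.IsPerfect (DCoh.toD Z sP) := DGen9.ResP.isPerfect_toD (DPerf.isStrictlyPerfect_single hP₀)
  haveI : DCoh.HasRSheafHom sP := RHom.hasRSheafHom sP
  -- the dual kernel
  let Pd := (DCoh.sheafHom P₀).obj (Coh.structureModule Z)
  obtain ⟨sh⟩ := HilbObs3.nonempty_sheafHom_iso P₀ (Coh.structureModule Z)
  have hPd : FlatMod.IsFinLocFree Pd := (M2.isFinLocFree_of_iso sh.symm
    (HomShH7.isFinLocFree_homMod hP₀ (M2.isFinLocFree_of_isInvertible (M2.isInvertible_of_tensor_iso_unit (Coh.structureModule Z) (Coh.structureModule Z) (M2.tensorRUnit _)))))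
  let p0 : DMon9.DM Z := TwistBC9.modM P₀
  let ep0 : (DCoh.toD Z sP : DMon9.DM Z) ≅ p0 :=
    (((DerivedCategory.singleFunctorIsoCompQ Z.Modules 0).app P₀).symm :)
  obtain ⟨Dp, hDp, ⟨pp⟩⟩ := BC8.exists_pairing_left_perfect p0 (DGen9.isPerfect_of_iso
    ((DerivedCategory.singleFunctorIsoCompQ Z.Modules 0).app P₀).symm hP)
  haveI := pp
  obtain ⟨eDp⟩ := FMHyp13.LocFreeDual.nonempty_dual_locFree P₀ hP₀ Dp hDp
  let sD : CochainComplex Z.Modules ℤ := (HomologicalComplex.single Z.Modules (ComplexShape.up ℤ) 0).obj Pd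
  haveI := KFlat.Sch.hasLTensorCx sD
  let eD₀ : (DCoh.toD Z sD : DMon9.DM Z) ≅ Dp :=
    ((((DerivedCategory.singleFunctorIsoCompQ Z.Modules 0).app Pd).symm :) : (DCoh.toD Z sD : DMon9.DM Z) ≅
      TwistBC9.modM Pd) ≪≫ eDp.symm
  have hP' : Nonempty (DCoh.toD Z sD ≅ (DCoh.RSheafHom sP).obj (DCoh.inD Z (Coh.structureModule Z))) := by
    obtain ⟨r⟩ := FMAdj9.nonempty_rhomIso sP ep0 Dp
    exact ⟨(eD₀ ≪≫ (λ_ Dp).symm ≪≫ MonoidalCategory.whiskerRightIso (C := DMon9.DM Z) FMHyp13.DualPush.oneIso.symm Dp :) ≪≫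
      (r.app _).symm⟩
  obtain ⟨G, DG, pG, hG, hD, ⟨eG⟩, ⟨eD⟩⟩ :=
    FMHyp13.DualPhi.exists_dual_pair a b hXcm d hXeq ha adx adja O hO sP hP sD hP' sF hF'
  haveI := pG
  -- the fibres of the transform
  have hfib0 : ∀ (y : Y) (l : ℤ), l < 0 →
      IsZero (DCoh.HD ((DMon9.lP (Y.fromSpecResidueField y)).obj (G : DCoh.D Y)) l) := by
    intro y l hl
    let f := Y.fromSpecResidueField y
    let j := pullback.fst q f
    let q' := pullback.snd q f
    haveI : DCoh.HasRpush q' := DBC9.hasRpush q'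
    obtain ⟨φ⟩ := FMAdj9.nonempty_phiIso p q sP
    let E : DMon9.DM Z := ((DMon9.dPull p).obj (TwistBC9.modM F)) ⊗ p0
    have hE : DCoh.IsPerfect (E : DCoh.D Z) := by
      haveI : DCoh.HasLpull p := KFlat.Sch.hasLpull p
      obtain ⟨lp⟩ := DMon9.nonempty_lpull_natIso_lP p
      exact FMAdj9.isPerfect_tensor_perf (DGen9.isPerfect_of_iso (lp.app _) (KFlat.Sch.isPerfect_lpull p hF))
        (DGen9.isPerfect_of_iso ((DerivedCategory.singleFunctorIsoCompQ Z.Modules 0).app P₀).symm hP)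
    let tF : (DMon9.dPull p).obj (DCoh.toD X sF : DMon9.DM X) ⊗ (DCoh.toD Z sP : DMon9.DM Z) ≅ E :=
      ((DMon9.dPull p).mapIso (eF.symm :) ⊗ᵢ ep0)
    let eE : (G : DCoh.D Y) ≅ (DCoh.Rpush q).obj (E : DCoh.D Z) :=
      eG ≪≫ φ.app _ ≪≫ (DCoh.Rpush q).mapIso (tF :)
    obtain ⟨bc⟩ := PerfPush9.nonempty_bc_flat q f q' j (IsPullback.of_hasPullback q f)
      (DGen9.isQCohD_of_isPerfect hE)
    haveI : Flat (j ≫ p) := by
      have hpb : IsPullback (j ≫ p) q' a (f ≫ b) :=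
        ((IsPullback.of_hasPullback q f).flip.paste_vert (IsPullback.of_hasPullback a b).flip).flip
      haveI : Flat (f ≫ b) := inferInstance
      exact MorphismProperty.of_isPullback hpb.flip ‹Flat (f ≫ b)›
    obtain ⟨eA⟩ := nonempty_lP_flat (j ≫ p) F
    obtain ⟨eB⟩ := FMHyp13.LocFreeDual.nonempty_lP_modM j hP₀
    obtain ⟨eT⟩ := FMHyp13.LocFreeDual.nonempty_modM_tensor ((Scheme.Modules.pullback (j ≫ p)).obj F)
      ((Scheme.Modules.pullback j).obj P₀) (M2.isFinLocFree_pullback j hP₀)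
    let eC : (DMon9.lP j).obj ((DMon9.lP p).obj ((DerivedCategory.singleFunctor X.Modules 0).obj F)) ≅
        (DerivedCategory.singleFunctor _ 0).obj ((Scheme.Modules.pullback (j ≫ p)).obj F) :=
      (DMon9.lPComp j p rfl).app _ ≪≫ eA
    let eS : (DMon9.dPull j).obj E ≅
        TwistBC9.modM (CohB1.tensorMod ((Scheme.Modules.pullback (j ≫ p)).obj F) ((Scheme.Modules.pullback j).obj P₀)) :=
      (Functor.Monoidal.μIso (DMon9.dPull j) _ _).symm ≪≫ ((eC :) ⊗ᵢ (eB :)) ≪≫ eT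
    let S₀ := (DerivedCategory.singleFunctor (pullback q f : Scheme.{u}).Modules 0).obj
      (CohB1.tensorMod ((Scheme.Modules.pullback (j ≫ p)).obj F) ((Scheme.Modules.pullback j).obj P₀))
    haveI : ((DCoh.Rpush q').obj S₀).IsGE 0 := DPush.isGE_rpush q' S₀ 0 inferInstance
    exact (DerivedCategory.isZero_of_isGE ((DCoh.Rpush q').obj S₀) 0 l hl).of_iso
      ((DerivedCategory.homologyFunctor _ l).mapIso
        ((DMon9.lP f).mapIso eE ≪≫ bc ≪≫ (DCoh.Rpush q').mapIso (eS :)))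
  have hz := FMHyp13.WitSheaf.isZero_HD_tensor G DG hG hD w hwc hwcm k' hfib0 (fun m y hy => hGV m y (by
    rw [FMHyp13.support_iso ((DerivedCategory.homologyFunctor Y.Modules (m : ℤ)).mapIso
      ((FMK.phi a b sP).mapIso eF ≪≫ eG.symm))]
    exact hy)) (i - d) (by omega)
  -- the twist by the dualizing module
  let RF := (DCoh.RSheafHom sF).obj (DCoh.inD X (DCoh.HD (adx.obj O).obj (-(d : ℤ))))
  let G' : DMon9.DM Y := (FMK.phi a b sD).obj RF
  let wm : DMon9.DM Y := TwistBC9.modM w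
  obtain ⟨sR⟩ := FMHyp13.DualPush.nonempty_shift_tRD (d : ℤ) G' wm
  let W₀ : DCoh.D Y := (DG ⊗ wm : DMon9.DM Y)
  let W₁ : DCoh.D Y := (FMAdj9.tRD wm).obj (G' : DCoh.D Y)
  let eW : W₀ ≅ W₁⟦(d : ℤ)⟧ :=
    (FMAdj9.tRD wm).mapIso eD ≪≫ sR
  -- projection formula
  have hRF : DCoh.IsQCohD RF := by
    obtain ⟨De, hDe, ⟨pe⟩⟩ := BC8.exists_pairing_left_perfect (DCoh.toD X sF : DMon9.DM X) hF'
    haveI := pe
    obtain ⟨r⟩ := FMAdj9.nonempty_rhomIso sF (Iso.refl _) De
    exact DQC.isQCohD_of_iso (r.app _).symm (FMAdj9.isQCohD_tRD (DGen9.isQCohD_of_isPerfect hDe)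
      (TwistBC9.isQCohD_inD _ ((adx.obj O).property _) 0))
  let E' : DMon9.DM Z := (DMon9.dPull p).obj (RF : DMon9.DM X)
  let K : DMon9.DM Z := E' ⊗ (DCoh.toD Z sD : DMon9.DM Z)
  have hK : DCoh.IsQCohD (K : DCoh.D Z) := DMon9.isQCohD_tensor (DMon9.isQCohD_lP p hRF)
    (DQC.isQCohD_of_iso (eD₀.symm :) (DGen9.isQCohD_of_isPerfect hDp))
  obtain ⟨φD⟩ := FMAdj9.nonempty_phiIso p q sD
  obtain ⟨pr⟩ := FMHyp13.DualPush.nonempty_proj q K hK G' (φD.app RF).symm
  let e₁ : (DCoh.Rpush q).obj (((DMon9.dPull q).obj wm ⊗ K : DMon9.DM Z) : DCoh.D Z) ≅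
      ((wm ⊗ G' : DMon9.DM Y) : DCoh.D Y) :=
    (pr.app ⟨(wm : DCoh.D Y), TwistBC9.isQCohD_inD w hwc.1 0⟩).symm
  let sQ : CochainComplex Z.Modules ℤ := (HomologicalComplex.single Z.Modules (ComplexShape.up ℤ) 0).obj
    (CohB1.tensorMod Pd ((Scheme.Modules.pullback q).obj w))
  obtain ⟨φQ⟩ := FMAdj9.nonempty_phiIso p q sQ
  obtain ⟨eq'⟩ := nonempty_lP_flat q w
  obtain ⟨eT'⟩ := FMHyp13.LocFreeDual.nonempty_modM_tensor ((Scheme.Modules.pullback q).obj w) Pd hPd
  let eqM : (DMon9.dPull q).obj wm ≅ TwistBC9.modM ((Scheme.Modules.pullback q).obj w) := eq'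
  let eM₀ : TwistBC9.modM Pd ≅ (DCoh.toD Z sD : DMon9.DM Z) :=
    ((DerivedCategory.singleFunctorIsoCompQ Z.Modules 0).app Pd :)
  let sQm : DMon9.DM Z := DCoh.toD Z sQ
  let sDm : DMon9.DM Z := DCoh.toD Z sD
  let eQ : sQm ≅ (DMon9.dPull q).obj wm ⊗ sDm :=
    ((((DerivedCategory.singleFunctorIsoCompQ Z.Modules 0).app _).symm ≪≫
      (DerivedCategory.singleFunctor Z.Modules 0).mapIso (M2.tensorComm Pd ((Scheme.Modules.pullback q).obj w))) :
        sQm ≅ TwistBC9.modM (CohB1.tensorMod ((Scheme.Modules.pullback q).obj w) Pd)) ≪≫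
      eT'.symm ≪≫ (MonoidalCategory.tensorIso (C := DMon9.DM Z) eqM.symm eM₀)
  obtain ⟨cE⟩ := FMAdj9.nonempty_comm E'
  obtain ⟨cG⟩ := FMAdj9.nonempty_comm G'
  let e₂ : E' ⊗ sQm ≅ (DMon9.dPull q).obj wm ⊗ K :=
    MonoidalCategory.whiskerLeftIso E' eQ ≪≫ (α_ _ _ _).symm ≪≫
      MonoidalCategory.whiskerRightIso (cE.app ((DMon9.dPull q).obj wm)) _ ≪≫ α_ _ _ _
  let e₃ : (FMK.phi a b sQ).obj RF ≅ (FMAdj9.tRD wm).obj (G' : DCoh.D Y) :=
    φQ.app RF ≪≫ (DCoh.Rpush q).mapIso (e₂ :) ≪≫ e₁ ≪≫ ((cG.app wm).symm :)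
  refine IsZero.of_iso hz ((DerivedCategory.homologyFunctor Y.Modules i).mapIso e₃ ≪≫ ?_)
  exact (((DerivedCategory.homologyFunctor Y.Modules 0).shiftIso (d : ℤ) (i - d) i (by omega)).app _).symm ≪≫
    (DerivedCategory.homologyFunctor Y.Modules (i - d)).mapIso eW.symm

end Groth.Agent.S16384
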