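import Groth.Statements.S16386
import Groth.Agent.Lib.AVQuotH1.Basic
import Groth.Agent.Lib.TateTors22.HomFinite
import Mathlib.AlgebraicGeometry.ZariskisMainTheorem

set_option autoImplicit false
universe u
open CategoryTheory MonoidalCategory CartesianMonoidalCategory MonObj GrpObj AlgebraicGeometry
open AbVar

namespace Groth.Agent.S16386

section Aux
open Groth.Agent.AVQuotH1

variable {k : Type u} [Field k]

lemma exists_gens (Q A : AV k) : ∃ (n : ℕ) (ψ : Fin n → EndAV.Hom Q.X A.X),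
    ∀ S : AddSubgroup (EndAV.Hom Q.X A.X), (∀ i, ψ i ∈ S) → ∀ φ, φ ∈ S := by
  haveI : Module.Finite ℤ (EndAV.Hom Q.X A.X) := TateTors22.finite_hom (A := Q.X) (B := A.X)
  obtain ⟨n, ψ, hψ⟩ := Module.Finite.exists_fin (R := ℤ) (M := EndAV.Hom Q.X A.X)
  refine ⟨n, ψ, fun S hS φ => ?_⟩
  have hle : Submodule.span ℤ (Set.range ψ) ≤ S.toIntSubmodule := Submodule.span_le.2 (by rintro _ ⟨i, rfl⟩; exact hS i)
  exact hle (hψ ▸ Submodule.mem_top : φ ∈ Submodule.span ℤ (Set.range ψ))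

lemma agree_of_gens {Y A : AV k} {n : ℕ} {ψ : Fin n → EndAV.Hom Y.X A.X}
    (hgen : ∀ S : AddSubgroup (EndAV.Hom Y.X A.X), (∀ i, ψ i ∈ S) → ∀ φ, φ ∈ S)
    {T : Over (Spec (CommRingCat.of k))} (u v : T ⟶ Y.X) (h : ∀ i, u ≫ (ψ i).toHom = v ≫ (ψ i).toHom)
    (φ : EndAV.Hom Y.X A.X) : u ≫ φ.toHom = v ≫ φ.toHom := by
  let S : AddSubgroup (EndAV.Hom Y.X A.X) :=
    { carrier := {φ | u ≫ φ.toHom = v ≫ φ.toHom}
      add_mem' := fun {a b} ha hb => by
        show u ≫ (a.toHom * b.toHom) = v ≫ (a.toHom * b.toHom)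
        rw [MonObj.comp_mul, MonObj.comp_mul, ha, hb]
      zero_mem' := by
        show u ≫ (1 : Y.X ⟶ A.X) = v ≫ (1 : Y.X ⟶ A.X)
        rw [MonObj.comp_one, MonObj.comp_one]
      neg_mem' := fun {a} ha => by
        show u ≫ a.toHom⁻¹ = v ≫ a.toHom⁻¹
        rw [GrpObj.comp_inv, GrpObj.comp_inv, ha] }
  exact hgen S h φ

lemma isClosedImmersion_left {Y R : AV k} (Φ : Y.X ⟶ R.X) [Mono Φ] : IsClosedImmersion Φ.left := by
  haveI := quasiCompact_left Φ
  haveI : Mono Φ.left := inferInstanceAs (Mono ((Over.forget _).map Φ))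
  exact (IsClosedImmersion.iff_isProper_and_mono Φ.left).2 ⟨‹_›, ‹_›⟩

lemma eval₂_eq_zero_of_pr [Finite k] {R A : AV k} {n : ℕ} (pr : Fin n → (R.X ⟶ A.X)) (hpr : ∀ i, IsMonHom (pr i))
    (hext : ∀ (T : Over (Spec (CommRingCat.of k))) (x y : T ⟶ R.X), (∀ i, x ≫ pr i = y ≫ pr i) → x = y)
    (P : Polynomial ℤ) (πA : A.X ⟶ A.X) [IsMonHom πA] (hAb : πA.left.base = 𝟙 _)
    (hAle : ∀ U : A.X.left.Opens, U ≤ πA.left ⁻¹ᵁ U)
    (hAapp : ∀ (U : A.X.left.Opens) (s : Γ(A.X.left, U)), (πA.left.appLE U U (hAle U)).hom s = s ^ Nat.card k)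
    (hPA : Polynomial.eval₂ (Int.castRingHom (EndAV.End A.X)) (EndAV.End.of πA) P = 0)
    (πR : R.X ⟶ R.X) [IsMonHom πR] (hRb : πR.left.base = 𝟙 _)
    (hRle : ∀ U : R.X.left.Opens, U ≤ πR.left ⁻¹ᵁ U)
    (hRapp : ∀ (U : R.X.left.Opens) (s : Γ(R.X.left, U)), (πR.left.appLE U U (hRle U)).hom s = s ^ Nat.card k) :
    Polynomial.eval₂ (Int.castRingHom (EndAV.End R.X)) (EndAV.End.of πR) P = 0 := by
  apply EndAV.End.ext
  refine hext _ _ _ fun i => ?_
  haveI := hpr i
  have h := eval₂_comm (Q := A) (X := R) (EndAV.Hom.of (pr i)) (EndAV.End.of πR) (EndAV.End.of πA)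
    (EndAV.Hom.ext (frob_comm (pr i) πR hRb hRle hRapp πA hAb hAle hAapp)) P
  rw [hPA] at h
  have h' := congrArg EndAV.Hom.toHom h
  simp only [EndAV.Hom.toHom_comp, EndAV.Hom.toHom_of] at h'
  refine h'.trans ?_
  show pr i ≫ (1 : A.X ⟶ A.X) = (1 : R.X ⟶ R.X) ≫ pr i
  rw [MonObj.one_comp, MonObj.comp_one]

end Aux


/-- (c₁) ⇒ (a₁): let k be a finite field with q elements and fix a polynomial P with integer
coefficients. Work with abelian varieties over k (proper, geometrically integral commutative group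
schemes over k) together with their q-Frobenius endomorphism π (the identity on points and the q-th
power map on sections; a homomorphism) such that P(π) = 0 in the endomorphism ring; for P the
product of the minimal polynomials of a finite set w of Weil q-numbers these are exactly the abelian
varieties with Weil support in w. Let A be such an abelian variety and suppose that every such Z
admits finitely many homomorphisms ψ_1, …, ψ_n : Z → A which are jointly monomorphic (two T-valued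
points of Z over k with the same image under every ψ_i are equal; equivalently (ψ_i) : Z → A^n is an
injective homomorphism). Then the functor X ↦ Hom(X, A), with values in left End(A)-modules (End(A)
acting by postcomposition), is fully faithful on these abelian varieties: for such X and Y, two
homomorphisms f, g : X → Y inducing the same map Hom(Y, A) → Hom(X, A) are equal, and every additive
End(A)-linear map Hom(Y, A) → Hom(X, A) is precomposition with some homomorphism X → Y. -/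
theorem result (k : Type u) [Field k] [Finite k]
    (P : Polynomial ℤ) (A : Over (Spec (CommRingCat.of k))) [GrpObj A] [IsCommMonObj A] [IsProper A.hom] [GeometricallyIntegral A.hom]
    (πA : A ⟶ A) [IsMonHom πA] (hπAb : πA.left.base = 𝟙 _)
    (hπAle : ∀ U : A.left.Opens, U ≤ πA.left ⁻¹ᵁ U)
    (hπAapp : ∀ (U : A.left.Opens) (s : Γ(A.left, U)), (πA.left.appLE U U (hπAle U)).hom s = s ^ Nat.card k)
    (hPA : Polynomial.eval₂ (Int.castRingHom (EndAV.End A)) (EndAV.End.of πA) P = 0)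
    (hcog : ∀ (Z : Over (Spec (CommRingCat.of k))) [GrpObj Z] [IsCommMonObj Z] [IsProper Z.hom] [GeometricallyIntegral Z.hom]
      (πZ : Z ⟶ Z) [IsMonHom πZ] (hπZb : πZ.left.base = 𝟙 _) (hπZle : ∀ U : Z.left.Opens, U ≤ πZ.left ⁻¹ᵁ U)
      (hπZapp : ∀ (U : Z.left.Opens) (s : Γ(Z.left, U)), (πZ.left.appLE U U (hπZle U)).hom s = s ^ Nat.card k)
      (hPZ : Polynomial.eval₂ (Int.castRingHom (EndAV.End Z)) (EndAV.End.of πZ) P = 0),
      ∃ (n : ℕ) (ψ : Fin n → EndAV.Hom Z A), ∀ (T : Over (Spec (CommRingCat.of k))) (x y : T ⟶ Z),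
        (∀ i, x ≫ (ψ i).toHom = y ≫ (ψ i).toHom) → x = y)
    (X Y : Over (Spec (CommRingCat.of k))) [GrpObj X] [IsCommMonObj X] [IsProper X.hom] [GeometricallyIntegral X.hom]
    [GrpObj Y] [IsCommMonObj Y] [IsProper Y.hom] [GeometricallyIntegral Y.hom]
    (πX : X ⟶ X) [IsMonHom πX] (hπXb : πX.left.base = 𝟙 _)
    (hπXle : ∀ U : X.left.Opens, U ≤ πX.left ⁻¹ᵁ U)
    (hπXapp : ∀ (U : X.left.Opens) (s : Γ(X.left, U)), (πX.left.appLE U U (hπXle U)).hom s = s ^ Nat.card k)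
    (hPX : Polynomial.eval₂ (Int.castRingHom (EndAV.End X)) (EndAV.End.of πX) P = 0)
    (πY : Y ⟶ Y) [IsMonHom πY] (hπYb : πY.left.base = 𝟙 _)
    (hπYle : ∀ U : Y.left.Opens, U ≤ πY.left ⁻¹ᵁ U)
    (hπYapp : ∀ (U : Y.left.Opens) (s : Γ(Y.left, U)), (πY.left.appLE U U (hπYle U)).hom s = s ^ Nat.card k)
    (hPY : Polynomial.eval₂ (Int.castRingHom (EndAV.End Y)) (EndAV.End.of πY) P = 0) :
    (∀ f g : EndAV.Hom X Y, (∀ φ : EndAV.Hom Y A, f ≫ φ = g ≫ φ) → f = g) ∧
      (∀ g : EndAV.Hom Y A →+ EndAV.Hom X A,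
        (∀ (φ : EndAV.Hom Y A) (s : EndAV.Hom A A), g (φ ≫ s) = g φ ≫ s) →
          ∃ f : EndAV.Hom X Y, ∀ φ : EndAV.Hom Y A, g φ = f ≫ φ) := by
  classical
  refine ⟨fun f g h => ?_, fun g hg => ?_⟩
  · obtain ⟨n, ψ, hψ⟩ := hcog Y πY hπYb hπYle hπYapp hPY
    exact EndAV.Hom.ext (hψ X _ _ fun i => congrArg EndAV.Hom.toHom (h (ψ i)))
  · obtain ⟨n, ψ, hgen⟩ := exists_gens ⟨Y⟩ ⟨A⟩
    obtain ⟨n', ψ', hψ'⟩ := hcog Y πY hπYb hπYle hπYapp hPY
    obtain ⟨R, Φ, pr, inj, _, hpr, hinj, hfac, hdelta, hext⟩ :=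
      Groth.Agent.AVQuotH1.exists_prod (⟨A⟩ : Groth.Agent.AVQuotH1.AV k) n (fun i => (ψ i).toHom) (fun i => inferInstance)
    haveI : Mono Φ := ⟨fun {T} u v huv => hψ' T u v fun i =>
      agree_of_gens (Y := ⟨Y⟩) (A := ⟨A⟩) hgen u v (fun l => by rw [← hfac l, ← Category.assoc, huv, Category.assoc]) (ψ' i)⟩
    haveI := isClosedImmersion_left (Y := ⟨Y⟩) Φ
    obtain ⟨πR, _, hRb, hRle, hRapp⟩ := Groth.Agent.FrobPull22.exists_frobenius k R.X
    have hPR := eval₂_eq_zero_of_pr (A := ⟨A⟩) pr hpr hext P πA hπAb hπAle hπAapp hPA πR hRb hRle hRapp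
    obtain ⟨Q, q, _, _, hk⟩ := Groth.Agent.AVQuotH1.exists_quotient R Φ
    obtain ⟨πQ, _, hQb, hQle, hQapp, hPQ⟩ :=
      Groth.Agent.AVQuotH1.exists_frob_of_surjective q P πR hRb hRle hRapp hPR
    obtain ⟨m, χ, hχ⟩ := hcog Q.X πQ hQb hQle hQapp hPQ
    let I : Fin n → EndAV.Hom A R.X := fun l => haveI := hinj l; EndAV.Hom.of (inj l)
    let p : Fin n → EndAV.Hom R.X A := fun l => haveI := hpr l; EndAV.Hom.of (pr l)
    have hIp : ∀ l l', I l ≫ p l' = if l = l' then 𝟙 _ else 0 := fun l l' => by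
      apply EndAV.Hom.ext
      rw [EndAV.Hom.toHom_comp, apply_ite EndAV.Hom.toHom]
      exact hdelta l l'
    have hproj : ∀ {W : Over (Spec (CommRingCat.of k))} [GrpObj W] [IsCommMonObj W] (w : Fin n → EndAV.Hom W A) (l : Fin n),
        (∑ i, w i ≫ I i) ≫ p l = w l := by
      intro W _ _ w l
      rw [Preadditive.sum_comp, Finset.sum_eq_single l]
      · rw [Category.assoc, hIp, if_pos rfl, Category.comp_id]
      · intro i _ hi
        rw [Category.assoc, hIp, if_neg hi, Limits.comp_zero]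
      · intro h; exact absurd (Finset.mem_univ l) h
    have hΦ : (∑ i, ψ i ≫ I i) = EndAV.Hom.of Φ := by
      apply EndAV.Hom.ext
      refine hext _ _ _ fun l => ?_
      haveI := hpr l
      exact (congrArg EndAV.Hom.toHom (hproj ψ l)).trans (hfac l).symm
    have hΦq : EndAV.Hom.of Φ ≫ EndAV.Hom.of q = 0 := EndAV.Hom.ext (hk.w.trans Hom.one_def.symm)
    let xh : EndAV.Hom X R.X := ∑ i, g (ψ i) ≫ I i
    have hxq : ∀ φ : EndAV.Hom Q.X A, xh ≫ EndAV.Hom.of q ≫ φ = 0 := fun φ => by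
      simp only [xh, Preadditive.sum_comp, Category.assoc]
      rw [Finset.sum_congr rfl fun i _ => (hg (ψ i) (I i ≫ EndAV.Hom.of q ≫ φ)).symm, ← map_sum]
      simp only [← Category.assoc]
      rw [← Preadditive.sum_comp, ← Preadditive.sum_comp, hΦ, hΦq, Limits.zero_comp, map_zero]
    have hx : xh.toHom ≫ q = 1 := hχ X _ _ fun i => by
      rw [MonObj.one_comp, Category.assoc]
      exact congrArg EndAV.Hom.toHom (hxq (χ i))
    let f₀ : X ⟶ Y := hk.lift xh.toHom (toUnit X) (hx.trans Hom.one_def)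
    have hf₀ : f₀ ≫ Φ = xh.toHom := hk.lift_fst _ _ _
    haveI : IsMonHom f₀ := ⟨by
      rw [← cancel_mono Φ, Category.assoc, hf₀, IsMonHom.one_hom, IsMonHom.one_hom], by
      rw [← cancel_mono Φ, Category.assoc, hf₀, IsMonHom.mul_hom, Category.assoc, IsMonHom.mul_hom,
        MonoidalCategory.tensorHom_comp_tensorHom_assoc, hf₀]⟩
    refine ⟨EndAV.Hom.of f₀, fun φ => ?_⟩
    let S : AddSubgroup (EndAV.Hom Y A) :=
      { carrier := {φ | g φ = EndAV.Hom.of f₀ ≫ φ}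
        add_mem' := fun {a b} ha hb => by
          show g (a + b) = EndAV.Hom.of f₀ ≫ (a + b)
          rw [map_add, Preadditive.comp_add, ha, hb]
        zero_mem' := by
          show g 0 = EndAV.Hom.of f₀ ≫ 0
          rw [map_zero, Limits.comp_zero]
        neg_mem' := fun {a} ha => by
          show g (-a) = EndAV.Hom.of f₀ ≫ (-a)
          rw [map_neg, Preadditive.comp_neg, ha] }
    refine hgen S (fun l => ?_) φ
    haveI := hpr l
    show g (ψ l) = EndAV.Hom.of f₀ ≫ ψ l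
    apply EndAV.Hom.ext
    rw [← hproj (fun i => g (ψ i)) l, EndAV.Hom.toHom_comp, EndAV.Hom.toHom_comp]
    show _ = f₀ ≫ (ψ l).toHom
    rw [← hfac l, ← Category.assoc, hf₀]
    rfl

end Groth.Agent.S16386
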