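import Groth.Statements.S16387
import Groth.Agent.Lib.TateTors22.TateFinite

set_option autoImplicit false
universe u
open CategoryTheory MonoidalCategory CartesianMonoidalCategory MonObj GrpObj AlgebraicGeometry
open AbVar

namespace Groth.Agent.S16387

/-- Let k be a finite field with algebraic closure Ω, l a prime number invertible in k, and A, B abelian
varieties over k (proper, geometrically integral commutative group schemes over k). If the
homomorphism i : A → B is injective (a closed immersion), then the induced ℤ_l-linear map between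
the l-adic Tate modules of Ω-points T_l(i) : T_l A → T_l B is injective with torsion-free, hence
free, cokernel: the quotient of T_l B by the image of T_l A is a free ℤ_l-module. -/
theorem result (k Ω : Type u) [Field k] [Finite k]
    [Field Ω] [Algebra k Ω] [IsAlgClosure k Ω] (l : ℕ) [Fact l.Prime] (hl : (l : k) ≠ 0)
    (A B : Over (Spec (CommRingCat.of k))) [GrpObj A] [IsCommMonObj A] [IsProper A.hom] [GeometricallyIntegral A.hom]
    [GrpObj B] [IsCommMonObj B] [IsProper B.hom] [GeometricallyIntegral B.hom]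
    (i : A ⟶ B) [IsMonHom i] [IsClosedImmersion i.left] :
    Function.Injective (AbDual.tateMapₗ (l := l) (T := SGA7.pt Ω) i) ∧
      Module.Free ℤ_[l] (AbDual.TateMod B l (SGA7.pt Ω) ⧸
        LinearMap.range (AbDual.tateMapₗ (l := l) (T := SGA7.pt Ω) i)) := by
  haveI : IsAlgClosed Ω := IsAlgClosure.isAlgClosed k
  haveI : Mono i.left := inferInstance
  haveI : Mono i := (Over.forget _).mono_of_mono_map ‹Mono i.left›
  have hinj : Function.Injective (AbDual.tateMapₗ (l := l) (T := SGA7.pt Ω) i) := fun x x' h => AbDual.TateMod.ext fun n => by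
    have h1 : Additive.ofMul (((x : ℕ → Additive (SGA7.pt Ω ⟶ A)) n).toMul ≫ i) = Additive.ofMul (((x' : ℕ → Additive (SGA7.pt Ω ⟶ A)) n).toMul ≫ i) :=
      congrArg (fun z : AbDual.TateMod B l (SGA7.pt Ω) => (z : ℕ → Additive (SGA7.pt Ω ⟶ B)) n) h
    exact congrArg Additive.ofMul ((cancel_mono i).1 (congrArg Additive.toMul h1))
  refine ⟨hinj, ?_⟩
  haveI := TateTors22.finite_tateMod (A := B) Ω l hl
  have key : ∀ y : AbDual.TateMod B l (SGA7.pt Ω), (l : ℤ_[l]) • y ∈ LinearMap.range (AbDual.tateMapₗ (l := l) (T := SGA7.pt Ω) i) →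
      y ∈ LinearMap.range (AbDual.tateMapₗ (l := l) (T := SGA7.pt Ω) i) := fun y hy => by
    obtain ⟨x, hx⟩ := hy
    have hcomp : ∀ n, Additive.ofMul (((x : ℕ → Additive (SGA7.pt Ω ⟶ A)) (n + 1)).toMul ≫ i) = (y : ℕ → Additive (SGA7.pt Ω ⟶ B)) n := fun n => by
      have h1 := congrArg (fun z : AbDual.TateMod B l (SGA7.pt Ω) => (z : ℕ → Additive (SGA7.pt Ω ⟶ B)) (n + 1)) hx
      rw [← AbDual.TateMod.compat y n]
      refine h1.trans ?_
      rw [Nat.cast_smul_eq_nsmul]
      rfl
    refine ⟨⟨fun n => (x : ℕ → Additive (SGA7.pt Ω ⟶ A)) (n + 1), fun n => ?_, fun n => AbDual.TateMod.compat x (n + 1)⟩,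
      AbDual.TateMod.ext fun n => hcomp n⟩
    have h2 : Additive.ofMul ((l ^ n • (x : ℕ → Additive (SGA7.pt Ω ⟶ A)) (n + 1)).toMul ≫ i) = Additive.ofMul ((0 : Additive (SGA7.pt Ω ⟶ A)).toMul ≫ i) := by
      rw [AbDual.nsmul_comp, hcomp, AbDual.TateMod.torsion]
      exact congrArg Additive.ofMul (MonObj.one_comp i).symm
    exact congrArg Additive.ofMul ((cancel_mono i).1 (congrArg Additive.toMul h2))
  have key' : ∀ (n : ℕ) (y : AbDual.TateMod B l (SGA7.pt Ω)), (l : ℤ_[l]) ^ n • y ∈ LinearMap.range (AbDual.tateMapₗ (l := l) (T := SGA7.pt Ω) i) →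
      y ∈ LinearMap.range (AbDual.tateMapₗ (l := l) (T := SGA7.pt Ω) i) := fun n => by
    induction n with
    | zero => intro y hy; simpa using hy
    | succ n ih =>
      intro y hy
      rw [pow_succ', mul_smul] at hy
      exact ih y (key _ hy)
  haveI : Module.IsTorsionFree ℤ_[l] (AbDual.TateMod B l (SGA7.pt Ω) ⧸ LinearMap.range (AbDual.tateMapₗ (l := l) (T := SGA7.pt Ω) i)) := by
    refine .mk fun a ha z z' hzz => ?_
    have hz : a • (z - z') = 0 := by rw [smul_sub]; exact sub_eq_zero.2 hzz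
    obtain ⟨y, hy⟩ := Submodule.Quotient.mk_surjective _ (z - z')
    rw [← hy, ← Submodule.Quotient.mk_smul, Submodule.Quotient.mk_eq_zero] at hz
    have hua := PadicInt.unitCoeff_spec ha.ne_zero
    rw [hua, mul_smul] at hz
    have h1 := key' _ y (by
      have h2 := Submodule.smul_mem _ ((PadicInt.unitCoeff ha.ne_zero)⁻¹ : ℤ_[l]ˣ).val hz
      rwa [smul_smul, Units.inv_mul, one_smul] at h2)
    rw [← sub_eq_zero, ← hy, Submodule.Quotient.mk_eq_zero]
    exact h1
  exact Module.free_of_finite_type_torsion_free' 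

end Groth.Agent.S16387
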