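import Groth.Statements.S16388
import Groth.Agent.Lib.TateCons19.Count
import Groth.Agent.S14935
-- import your own Groth.Agent.* helpers here

set_option autoImplicit false
universe u
open CategoryTheory MonoidalCategory CartesianMonoidalCategory MonObj GrpObj AlgebraicGeometry
open AbVar

namespace Groth.Agent.S16388

set_option linter.style.haveILetI false
set_option backward.isDefEq.respectTransparency.types false


/-- For a single prime l different from the characteristic; let k be a finite field with algebraic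
closure Ω, l a prime number invertible in k, and A, B abelian varieties over k (proper,
geometrically integral commutative group schemes over k). For each k-automorphism τ of Ω let ρ_A(τ),
ρ_B(τ) be the ℤ_l-linear endomorphisms of the l-adic Tate modules of Ω-points T_l A, T_l B which act
on every component by the Galois action of τ (this pins them). Then T_l A and T_l B are isomorphic
as Galois modules — there is a ℤ_l-linear isomorphism e with e ∘ ρ_A(τ) = ρ_B(τ) ∘ e for all τ — if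
and only if there is an isogeny A → B of degree prime to l, expressed here as: homomorphisms f : A →
B and g : B → A and an integer N ≥ 1 not divisible by l such that g ∘ f is multiplication by N on A
and f ∘ g is multiplication by N on B. -/
theorem result (k Ω : Type u)
    [Field k] [Finite k] [Field Ω] [Algebra k Ω] [IsAlgClosure k Ω] (l : ℕ) [Fact l.Prime] (hl : (l : k) ≠ 0)
    (A B : Over (Spec (CommRingCat.of k))) [GrpObj A] [IsCommMonObj A] [IsProper A.hom] [GeometricallyIntegral A.hom]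
    [GrpObj B] [IsCommMonObj B] [IsProper B.hom] [GeometricallyIntegral B.hom]
    (ρA : (Ω ≃ₐ[k] Ω) → Module.End ℤ_[l] (AbDual.TateMod A l (SGA7.pt Ω)))
    (hρA : ∀ (τ : Ω ≃ₐ[k] Ω) (z : AbDual.TateMod A l (SGA7.pt Ω)) (m : ℕ),
      (AbDual.TateMod.component A l (SGA7.pt Ω) m (ρA τ z)).toMul =
        SGA7.galAct τ (AbDual.TateMod.component A l (SGA7.pt Ω) m z).toMul)
    (ρB : (Ω ≃ₐ[k] Ω) → Module.End ℤ_[l] (AbDual.TateMod B l (SGA7.pt Ω)))
    (hρB : ∀ (τ : Ω ≃ₐ[k] Ω) (z : AbDual.TateMod B l (SGA7.pt Ω)) (m : ℕ),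
      (AbDual.TateMod.component B l (SGA7.pt Ω) m (ρB τ z)).toMul =
        SGA7.galAct τ (AbDual.TateMod.component B l (SGA7.pt Ω) m z).toMul) :
    (∃ e : AbDual.TateMod A l (SGA7.pt Ω) ≃ₗ[ℤ_[l]] AbDual.TateMod B l (SGA7.pt Ω),
        ∀ τ : Ω ≃ₐ[k] Ω, e.toLinearMap ∘ₗ ρA τ = ρB τ ∘ₗ e.toLinearMap) ↔
      ∃ (f : A ⟶ B) (_ : IsMonHom f) (g : B ⟶ A) (_ : IsMonHom g) (N : ℕ), 0 < N ∧ ¬ l ∣ N ∧
        f ≫ g = (𝟙 A) ^ N ∧ g ≫ f = (𝟙 B) ^ N := by
  classical
  haveI : IsAlgClosed Ω := IsAlgClosure.isAlgClosed k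
  haveI := Groth.Agent.TateTors22.free_tateMod (A := B) Ω l hl
  haveI := Groth.Agent.TateTors22.finite_tateMod (A := B) Ω l hl
  haveI := Groth.Agent.TateTors22.finite_hom (A := A) (B := B)
  haveI := Groth.Agent.TateTors22.free_hom (A := A) (B := B)
  haveI := Groth.Agent.TateTors22.finite_hom (A := B) (B := A)
  haveI := Groth.Agent.TateTors22.free_hom (A := B) (B := A)
  refine ⟨fun ⟨e, he⟩ => ?_, fun ⟨f, _, g, _, N, hN, hlN, hfg, hgf⟩ => ?_⟩
  · have key : ∀ (X Y : Over (Spec (CommRingCat.of k))) [GrpObj X] [IsCommMonObj X] [IsProper X.hom]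
        [GeometricallyIntegral X.hom] [GrpObj Y] [IsCommMonObj Y] [IsProper Y.hom] [GeometricallyIntegral Y.hom]
        [Module.Finite ℤ (EndAV.Hom X Y)] [Module.Free ℤ (EndAV.Hom X Y)]
        (u : AbDual.TateMod X l (SGA7.pt (K := k) Ω) →ₗ[ℤ_[l]] AbDual.TateMod Y l (SGA7.pt (K := k) Ω)),
        u ∈ Submodule.span ℤ_[l] {v | ∃ (f : X ⟶ Y) (_ : IsMonHom f), v = AbDual.tateMapₗ (l := l) (T := SGA7.pt (K := k) Ω) f} →
        ∃ c : Fin (Module.finrank ℤ (EndAV.Hom X Y)) → ℤ_[l],
          ∑ i, c i • EndAV.Hom.tateMap l (SGA7.pt (K := k) Ω) (Module.finBasis ℤ (EndAV.Hom X Y) i) = u := by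
      intro X Y _ _ _ _ _ _ _ _ _ _ u hu
      refine (Submodule.mem_span_range_iff_exists_fun ℤ_[l]).1 (Submodule.span_le.2 ?_ hu)
      rintro _ ⟨f, _, rfl⟩
      rw [SetLike.mem_coe, show AbDual.tateMapₗ (l := l) (T := SGA7.pt (K := k) Ω) f =
        EndAV.Hom.tateMap l (SGA7.pt (K := k) Ω) (EndAV.Hom.of f) from rfl,
        ← (Module.finBasis ℤ (EndAV.Hom X Y)).sum_repr (EndAV.Hom.of f), map_sum]
      refine Submodule.sum_mem _ fun i _ => ?_
      rw [map_zsmul]
      exact zsmul_mem (Submodule.subset_span (Set.mem_range_self i)) _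
    have he' : ∀ τ, e.symm.toLinearMap ∘ₗ ρB τ = ρA τ ∘ₗ e.symm.toLinearMap := fun τ => by
      refine LinearMap.ext fun z => e.injective ?_
      have h := LinearMap.congr_fun (he τ) (e.symm z)
      simp only [LinearMap.comp_apply, LinearEquiv.coe_coe, LinearEquiv.apply_symm_apply] at h ⊢
      exact h.symm
    obtain ⟨c, hc⟩ := key A B e.toLinearMap (Groth.Agent.S14935.result k Ω l hl A B ρA hρA ρB hρB _ he)
    obtain ⟨d, hd⟩ := key B A e.symm.toLinearMap (Groth.Agent.S14935.result k Ω l hl B A ρB hρB ρA hρA _ he')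
    obtain ⟨f, hf⟩ := Groth.Agent.TateCons19.exists_bijective_tateMap Ω l hl _ e c hc
    obtain ⟨g, hg⟩ := Groth.Agent.TateCons19.exists_bijective_tateMap Ω l hl _ e.symm d hd
    have hb : Function.Bijective (EndAV.End.tateRep l (SGA7.pt (K := k) Ω) (g ≫ f : EndAV.End B)) := by
      show Function.Bijective (EndAV.Hom.tateMap l (SGA7.pt (K := k) Ω) (g ≫ f))
      rw [Groth.Agent.TateCons19.tateMap_comp, LinearMap.coe_comp]
      exact hf.comp hg
    have hu : IsUnit (LinearMap.det (EndAV.End.tateRep l (SGA7.pt (K := k) Ω) (g ≫ f : EndAV.End B))) :=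
      (LinearEquiv.ofBijective _ hb).isUnit_det'
    obtain ⟨v, N, hN, h1, h2, h3⟩ := Groth.Agent.TateCons19.exists_quasiInverse Ω l hl f g hf.1 hu.ne_zero
    exact ⟨f.toHom, inferInstance, v.toHom, inferInstance, N, hN, h3 hu, h1, h2⟩
  · have hunit : IsUnit (N : ℤ_[l]) := by
      rw [PadicInt.isUnit_iff, ← Int.cast_natCast]
      refine le_antisymm (PadicInt.norm_le_one _) (not_lt.1 fun h => hlN ?_)
      exact Int.natCast_dvd_natCast.1 ((PadicInt.norm_int_lt_one_iff_dvd _).1 h)
    obtain ⟨uN, huN⟩ := hunit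
    have key : ∀ {X Y : Over (Spec (CommRingCat.of k))} [GrpObj X] [IsCommMonObj X] [GrpObj Y] [IsCommMonObj Y]
        (a : X ⟶ Y) [IsMonHom a] (b : Y ⟶ X) [IsMonHom b], a ≫ b = (𝟙 X) ^ N → ∀ x,
          AbDual.tateMapₗ (l := l) (T := SGA7.pt (K := k) Ω) b (AbDual.tateMapₗ (l := l) (T := SGA7.pt (K := k) Ω) a x) =
            (N : ℤ_[l]) • x := by
      intro X Y _ _ _ _ a _ b _ h x
      rw [Nat.cast_smul_eq_nsmul]
      refine AbDual.TateMod.ext fun n => congrArg Additive.ofMul ?_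
      show (((x : ℕ → Additive (SGA7.pt (K := k) Ω ⟶ X)) n).toMul ≫ a) ≫ b = _
      rw [Category.assoc, h, MonObj.comp_pow, Category.comp_id]
    refine ⟨LinearEquiv.ofLinearMap (AbDual.tateMapₗ (l := l) (T := SGA7.pt (K := k) Ω) f)
      ((uN⁻¹ : ℤ_[l]ˣ).val • AbDual.tateMapₗ (l := l) (T := SGA7.pt (K := k) Ω) g) ?_ ?_, fun τ => ?_⟩
    · refine LinearMap.ext fun x => ?_
      rw [LinearMap.comp_apply, LinearMap.smul_apply, map_smul, key g f hgf, smul_smul, ← huN, Units.inv_mul, one_smul]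
      rfl
    · refine LinearMap.ext fun x => ?_
      rw [LinearMap.comp_apply, LinearMap.smul_apply, key f g hfg, smul_smul, ← huN, Units.inv_mul, one_smul]
      rfl
    · refine LinearMap.ext fun z => Groth.Agent.TateSub22.tate_ext Ω l fun n => ?_
      refine Eq.trans ?_ (hρB τ _ n).symm
      show (AbDual.TateMod.component A l (SGA7.pt Ω) n (ρA τ z)).toMul ≫ f = _
      rw [hρA]
      exact Category.assoc _ _ _

end Groth.Agent.S16388
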