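import Groth.Statements.S16389
import Groth.Agent.Lib.TateTors22.HomFinite
import Mathlib.GroupTheory.FiniteAbelian.Basic

set_option autoImplicit false
universe u
open CategoryTheory MonoidalCategory CartesianMonoidalCategory MonObj GrpObj AlgebraicGeometry
open AbVar

namespace Groth.Agent.S16389

section Aux

open CategoryTheory

theorem divisible_fg_eq_top {G : Type*} [AddCommGroup G] [Module.Finite ℤ G] (M : AddSubgroup G)
    (h : ∀ N : ℕ, 0 < N → ∀ f : G, ∃ m ∈ M, ∃ g : G, f = m + N • g) (f : G) : f ∈ M := by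
  let S : Submodule ℤ G := M.toIntSubmodule
  let Q := G ⧸ S
  have hdiv : ∀ N : ℕ, 0 < N → ∀ q : Q, ∃ q' : Q, q = N • q' := fun N hN q => by
    obtain ⟨x, rfl⟩ := Submodule.Quotient.mk_surjective S q
    obtain ⟨m, hm, g, rfl⟩ := h N hN x
    refine ⟨Submodule.Quotient.mk g, ?_⟩
    rw [Submodule.Quotient.mk_add, (Submodule.Quotient.mk_eq_zero S).2 hm, zero_add]
    exact map_nsmul (Submodule.mkQ S) N g
  haveI : Module.Finite ℤ Q := Module.Finite.quotient ℤ S
  obtain ⟨r, hr, hr0⟩ := Submodule.exists_sub_one_mem_and_smul_eq_zero_of_fg_of_le_smul (Ideal.span {(2 : ℤ)})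
    (⊤ : Submodule ℤ Q) Module.Finite.fg_top (fun q _ => by
      obtain ⟨q', rfl⟩ := hdiv 2 (by norm_num) q
      have e : (2 : ℕ) • q' = (2 : ℤ) • q' := (natCast_zsmul q' 2).symm
      rw [e]
      exact Submodule.smul_mem_smul (Ideal.mem_span_singleton_self _) Submodule.mem_top)
  have hne : r.natAbs ≠ 0 := by
    intro e
    rw [Ideal.mem_span_singleton] at hr
    rw [Int.natAbs_eq_zero.1 e] at hr
    omega
  obtain ⟨q', hq'⟩ := hdiv r.natAbs (Nat.pos_of_ne_zero hne) (Submodule.Quotient.mk f)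
  have : (Submodule.Quotient.mk f : Q) = 0 := by
    rw [hq']
    rcases Int.natAbs_eq r with e | e
    · rw [← natCast_zsmul, ← e]; exact hr0 q' Submodule.mem_top
    · rw [← natCast_zsmul, show (r.natAbs : ℤ) = -r by omega, neg_smul, hr0 q' Submodule.mem_top, neg_zero]
  exact (Submodule.Quotient.mk_eq_zero S).1 this

theorem finiteIndex_of_nsmul_mem {G : Type*} [AddCommGroup G] [Module.Finite ℤ G] (M : AddSubgroup G)
    (N : ℕ) (hN : 0 < N) (h : ∀ g : G, N • g ∈ M) : M.FiniteIndex := by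
  haveI : AddGroup.FG G := Module.Finite.iff_addGroup_fg.1 inferInstance
  haveI : Finite (G ⧸ M) := AddCommGroup.finite_of_fg_isAddTorsion _ (fun q => by
    induction q using QuotientAddGroup.induction_on with
    | H g =>
      refine isOfFinAddOrder_iff_nsmul_eq_zero.2 ⟨N, hN, ?_⟩
      rw [← QuotientAddGroup.mk_nsmul]
      exact (QuotientAddGroup.eq_zero_iff _).2 (h g))
  exact AddSubgroup.finiteIndex_of_finite_quotient

end Aux


/-- (b) ⇒ (c₂): let k be a finite field with q elements and fix a polynomial P with integer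
coefficients. Work with abelian varieties over k (proper, geometrically integral commutative group
schemes over k) together with their q-Frobenius endomorphism π (the identity on points, the q-th
power map on sections; a homomorphism) such that P(π) = 0 in the endomorphism ring (for suitable P:
the abelian varieties with Weil support in a given finite set of Weil q-numbers), and let A be one
of them. Assume (b₁): for every such Z and every finite closed subgroup scheme H ⊆ Z, a T-valued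
point of Z over k that is sent to the unit by every homomorphism Z → A killing H factors through H
(H is the common kernel of the homomorphisms vanishing on it); and (b₂): for every such Z and every
additive subgroup M of Hom(Z, A) of finite index which is stable under postcomposition with
endomorphisms of A (an End(A)-submodule), a homomorphism f : Z → A belongs to M as soon as it kills
the common kernel of M, i.e. every T-valued point of Z sent to the unit by all members of M is sent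
to the unit by f. Then (c₂) holds: for such X and Y and a homomorphism φ : X → Y which is a closed
immersion, every homomorphism X → A extends along φ to a homomorphism Y → A. -/
theorem result
    (k : Type u) [Field k] [Finite k]
    (P : Polynomial ℤ) (A : Over (Spec (CommRingCat.of k))) [GrpObj A] [IsCommMonObj A] [IsProper A.hom] [GeometricallyIntegral A.hom]
    (πA : A ⟶ A) [IsMonHom πA] (hπAb : πA.left.base = 𝟙 _)
    (hπAle : ∀ U : A.left.Opens, U ≤ πA.left ⁻¹ᵁ U)
    (hπAapp : ∀ (U : A.left.Opens) (s : Γ(A.left, U)), (πA.left.appLE U U (hπAle U)).hom s = s ^ Nat.card k)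
    (hPA : Polynomial.eval₂ (Int.castRingHom (EndAV.End A)) (EndAV.End.of πA) P = 0)
    (hb1 : ∀ (Z : Over (Spec (CommRingCat.of k))) [GrpObj Z] [IsCommMonObj Z] [IsProper Z.hom] [GeometricallyIntegral Z.hom]
      (πZ : Z ⟶ Z) [IsMonHom πZ] (hπZb : πZ.left.base = 𝟙 _) (hπZle : ∀ U : Z.left.Opens, U ≤ πZ.left ⁻¹ᵁ U)
      (hπZapp : ∀ (U : Z.left.Opens) (s : Γ(Z.left, U)), (πZ.left.appLE U U (hπZle U)).hom s = s ^ Nat.card k)
      (hPZ : Polynomial.eval₂ (Int.castRingHom (EndAV.End Z)) (EndAV.End.of πZ) P = 0)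
      (H : Over (Spec (CommRingCat.of k))) [GrpObj H] [IsFinite H.hom] (i : H ⟶ Z) [IsMonHom i] [IsClosedImmersion i.left]
      (T : Over (Spec (CommRingCat.of k))) (x : T ⟶ Z), (∀ r : EndAV.Hom Z A, i ≫ r.toHom = 1 → x ≫ r.toHom = 1) → ∃ y : T ⟶ H, y ≫ i = x)
    (hrec : ∀ (Z : Over (Spec (CommRingCat.of k))) [GrpObj Z] [IsCommMonObj Z] [IsProper Z.hom] [GeometricallyIntegral Z.hom]
      (πZ : Z ⟶ Z) [IsMonHom πZ] (hπZb : πZ.left.base = 𝟙 _) (hπZle : ∀ U : Z.left.Opens, U ≤ πZ.left ⁻¹ᵁ U)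
      (hπZapp : ∀ (U : Z.left.Opens) (s : Γ(Z.left, U)), (πZ.left.appLE U U (hπZle U)).hom s = s ^ Nat.card k)
      (hPZ : Polynomial.eval₂ (Int.castRingHom (EndAV.End Z)) (EndAV.End.of πZ) P = 0)
      (M : AddSubgroup (EndAV.Hom Z A)), M.FiniteIndex → (∀ r ∈ M, ∀ s : EndAV.Hom A A, r ≫ s ∈ M) →
      ∀ f : EndAV.Hom Z A,
        (∀ (T : Over (Spec (CommRingCat.of k))) (x : T ⟶ Z), (∀ r ∈ M, x ≫ EndAV.Hom.toHom r = 1) →
          x ≫ f.toHom = 1) → f ∈ M)
    (X Y : Over (Spec (CommRingCat.of k))) [GrpObj X] [IsCommMonObj X] [IsProper X.hom] [GeometricallyIntegral X.hom]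
    [GrpObj Y] [IsCommMonObj Y] [IsProper Y.hom] [GeometricallyIntegral Y.hom]
    (πX : X ⟶ X) [IsMonHom πX] (hπXb : πX.left.base = 𝟙 _)
    (hπXle : ∀ U : X.left.Opens, U ≤ πX.left ⁻¹ᵁ U)
    (hπXapp : ∀ (U : X.left.Opens) (s : Γ(X.left, U)), (πX.left.appLE U U (hπXle U)).hom s = s ^ Nat.card k)
    (hPX : Polynomial.eval₂ (Int.castRingHom (EndAV.End X)) (EndAV.End.of πX) P = 0)
    (πY : Y ⟶ Y) [IsMonHom πY] (hπYb : πY.left.base = 𝟙 _)
    (hπYle : ∀ U : Y.left.Opens, U ≤ πY.left ⁻¹ᵁ U)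
    (hπYapp : ∀ (U : Y.left.Opens) (s : Γ(Y.left, U)), (πY.left.appLE U U (hπYle U)).hom s = s ^ Nat.card k)
    (hPY : Polynomial.eval₂ (Int.castRingHom (EndAV.End Y)) (EndAV.End.of πY) P = 0)
    (φ : EndAV.Hom X Y) [IsClosedImmersion φ.toHom.left] (f : EndAV.Hom X A) :
    ∃ g : EndAV.Hom Y A, φ ≫ g = f := by
  classical
  haveI : Module.Finite ℤ (EndAV.Hom X A) := Groth.Agent.TateTors22.finite_hom (A := X) (B := A)
  haveI : Mono φ.toHom := Over.mono_of_mono_left _
  let R : EndAV.Hom Y A →+ EndAV.Hom X A := Preadditive.leftComp (CommGrp.mk A) φ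
  suffices hf : f ∈ R.range from hf
  refine divisible_fg_eq_top R.range (fun N hN g₀ => ?_) f
  let M : AddSubgroup (EndAV.Hom X A) := R.range ⊔ (nsmulAddMonoidHom N : EndAV.Hom X A →+ EndAV.Hom X A).range
  have hmem : g₀ ∈ M := by
    refine hrec X πX hπXb hπXle hπXapp hPX M
      (finiteIndex_of_nsmul_mem M N hN fun g => le_sup_right (a := R.range) ⟨g, rfl⟩) ?_ g₀ fun T x hx => ?_
    · intro r hr s
      obtain ⟨_, ⟨a, rfl⟩, _, ⟨b, rfl⟩, rfl⟩ := AddSubgroup.mem_sup.1 hr
      rw [Preadditive.add_comp]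
      refine AddSubgroup.add_mem_sup ⟨a ≫ s, ?_⟩ ⟨b ≫ s, ?_⟩
      · show φ ≫ (a ≫ s) = (φ ≫ a) ≫ s; rw [Category.assoc]
      · show N • (b ≫ s) = (N • b) ≫ s; rw [Preadditive.nsmul_comp]
    · haveI : IsFinite (𝟙_ (Over (Spec (CommRingCat.of k)))).hom := inferInstanceAs (IsFinite (𝟙 _))
      haveI : IsClosedImmersion (η[Y] : 𝟙_ _ ⟶ Y).left := by
        haveI : IsClosedImmersion ((η[Y] : 𝟙_ _ ⟶ Y).left ≫ Y.hom) := by
          rw [Over.w]; exact inferInstanceAs (IsClosedImmersion (𝟙 _))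
        exact IsClosedImmersion.of_comp _ Y.hom
      obtain ⟨y, hy⟩ := hb1 Y πY hπYb hπYle hπYapp hPY (𝟙_ _) η[Y] T (x ≫ φ.toHom) fun r _ => by
        rw [Category.assoc]
        exact hx (R r) (le_sup_left (b := (nsmulAddMonoidHom N : EndAV.Hom X A →+ EndAV.Hom X A).range) ⟨r, rfl⟩)
      have hx1 : x = 1 := by
        rw [← cancel_mono φ.toHom, MonObj.one_comp, ← hy, Hom.one_def, toUnit_unique y (toUnit T)]
      rw [hx1, MonObj.one_comp]
  obtain ⟨m, hm, _, ⟨g, rfl⟩, rfl⟩ := AddSubgroup.mem_sup.1 hmem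
  exact ⟨m, hm, g, rfl⟩

end Groth.Agent.S16389
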