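import Groth.Statements.S1639
import Groth.Agent.Lib.NormBundle5.Normal
import Groth.Agent.Lib.Ample18.Ample
import Groth.Agent.Lib.RedSep.Basic
-- import your own Groth.Agent.* helpers here

set_option autoImplicit false
set_option linter.style.haveILetI false
universe u
open CategoryTheory CategoryTheory.Limits AlgebraicGeometry
open Divisors

namespace Groth.Agent.S1639

/-- Let π : X → Y be finite and surjective, with Y integral and normal. If X has an ample invertible
module then so does Y. -/
theorem result {X Y : Scheme.{u}} (π : X ⟶ Y) [IsFinite π] [Surjective π]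
    [IsIntegral Y] (hY : Pi1.IsNormalScheme Y) (L : X.Modules) (hL : CohB1.IsAmple L) :
    ∃ M : Y.Modules, CohB1.IsAmple M := by
  open Groth.Agent in
  classical
  obtain ⟨ξ, hξ⟩ := π.surjective (genericPoint Y)
  let Z : TopologicalSpace.Closeds X := ⟨closure {ξ}, isClosed_closure⟩
  let I := AlgebraicGeometry.Scheme.IdealSheafData.vanishingIdeal Z
  haveI : IsReduced I.subscheme := RedSepLib.isReduced_vanishingIdeal_subscheme Z
  have hrange : Set.range I.subschemeι = closure {ξ} := by
    rw [AlgebraicGeometry.Scheme.IdealSheafData.range_subschemeι,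
      AlgebraicGeometry.Scheme.IdealSheafData.coe_support_vanishingIdeal]
    rfl
  haveI : Nonempty I.subscheme := by
    obtain ⟨z, -⟩ : ξ ∈ Set.range I.subschemeι := by rw [hrange]; exact subset_closure rfl
    exact ⟨z⟩
  haveI : IrreducibleSpace I.subscheme := by
    have h : IsIrreducible (Set.range I.subschemeι) := hrange ▸ isIrreducible_singleton.closure
    haveI : IrreducibleSpace (Set.range I.subschemeι) := Subtype.irreducibleSpace h
    exact Function.Surjective.irreducibleSpace I.subschemeι.isEmbedding.toHomeomorph.symm.continuous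
      I.subschemeι.isEmbedding.toHomeomorph.symm.surjective
  haveI : IsIntegral I.subscheme := isIntegral_of_irreducibleSpace_of_isReduced _
  haveI : Surjective (I.subschemeι ≫ π) := ⟨fun y => by
    have hcl : IsClosed (π '' Set.range I.subschemeι) := π.isClosedMap _ (hrange ▸ isClosed_closure)
    have hmem : genericPoint Y ∈ π '' Set.range I.subschemeι := by
      rw [hrange]
      exact ⟨ξ, subset_closure rfl, hξ⟩
    obtain ⟨_, ⟨z, rfl⟩, hz⟩ := ((genericPoint_spec Y).specializes (trivial : y ∈ Set.univ)).mem_closed hcl hmem
    exact ⟨z, hz⟩⟩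
  exact NormBundle5.exists_isAmple (NormBundle5.normalMulNorm (π := I.subschemeι ≫ π) hY)
    (Amp.isAmple_pullback_of_isAffineHom I.subschemeι hL)

end Groth.Agent.S1639
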