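import Groth.Statements.S16391
import Groth.Agent.Lib.AVQuotH1.Kernel
import Groth.Agent.Lib.TateTors22.HomFinite

set_option autoImplicit false
universe u
open CategoryTheory MonoidalCategory CartesianMonoidalCategory MonObj GrpObj AlgebraicGeometry
open AbVar

namespace Groth.Agent.S16391

section Aux
open Groth.Agent.AVQuotH1

variable {k : Type u} [Field k]

lemma eval₂_eq_zero_of_pr [Finite k] {R A : AV k} {n : ℕ} (pr : Fin n → (R.X ⟶ A.X)) (hpr : ∀ i, IsMonHom (pr i))
    (hext : ∀ (T : Over (Spec (CommRingCat.of k))) (x y : T ⟶ R.X), (∀ i, x ≫ pr i = y ≫ pr i) → x = y)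
    (P : Polynomial ℤ) (πA : A.X ⟶ A.X) [IsMonHom πA] (hAb : πA.left.base = 𝟙 _)
    (hAle : ∀ U : A.X.left.Opens, U ≤ πA.left ⁻¹ᵁ U)
    (hAapp : ∀ (U : A.X.left.Opens) (s : Γ(A.X.left, U)), (πA.left.appLE U U (hAle U)).hom s = s ^ Nat.card k)
    (hPA : Polynomial.eval₂ (Int.castRingHom (EndAV.End A.X)) (EndAV.End.of πA) P = 0)
    (πR : R.X ⟶ R.X) [IsMonHom πR] (hRb : πR.left.base = 𝟙 _)
    (hRle : ∀ U : R.X.left.Opens, U ≤ πR.left ⁻¹ᵁ U)
    (hRapp : ∀ (U : R.X.left.Opens) (s : Γ(R.X.left, U)), (πR.left.appLE U U (hRle U)).hom s = s ^ Nat.card k) :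
    Polynomial.eval₂ (Int.castRingHom (EndAV.End R.X)) (EndAV.End.of πR) P = 0 := by
  apply EndAV.End.ext
  refine hext _ _ _ fun i => ?_
  haveI := hpr i
  have h := eval₂_comm (Q := A) (X := R) (EndAV.Hom.of (pr i)) (EndAV.End.of πR) (EndAV.End.of πA)
    (EndAV.Hom.ext (frob_comm (pr i) πR hRb hRle hRapp πA hAb hAle hAapp)) P
  rw [hPA] at h
  have h' := congrArg EndAV.Hom.toHom h
  simp only [EndAV.Hom.toHom_comp, EndAV.Hom.toHom_of] at h'
  refine h'.trans ?_
  show pr i ≫ (1 : A.X ⟶ A.X) = (1 : R.X ⟶ R.X) ≫ pr i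
  rw [MonObj.one_comp, MonObj.comp_one]

end Aux


/-- (c) ⇒ (a₂): let k be a finite field with q elements and fix a polynomial P with integer
coefficients. Work with abelian varieties over k (proper, geometrically integral commutative group
schemes over k) together with their q-Frobenius endomorphism π (the identity on points, the q-th
power map on sections; a homomorphism) such that P(π) = 0 in the endomorphism ring (for suitable P:
the abelian varieties with Weil support in a given finite set of Weil q-numbers); let A be one of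
them and S = End(A) (product = composition). Assume that A is an injective cogenerator: (c₁) every
such Z admits finitely many homomorphisms Z → A which are jointly monomorphic on T-valued points
over k, and (c₂) for such X, Y and every homomorphism X → Y which is a closed immersion, the
restriction map Hom(Y, A) → Hom(X, A) is surjective. Then the functor X ↦ Hom(X, A) is essentially
surjective onto left S-modules that are free of finite rank over ℤ: for every such module M there
are such an abelian variety X (with its Frobenius and P(π_X) = 0) and an additive bijection M ≅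
Hom(X, A) carrying the action of s ∈ S to postcomposition with s. -/
theorem result
    (k : Type u) [Field k] [Finite k]
    (P : Polynomial ℤ) (A : Over (Spec (CommRingCat.of k))) [GrpObj A] [IsCommMonObj A] [IsProper A.hom] [GeometricallyIntegral A.hom]
    (πA : A ⟶ A) [IsMonHom πA] (hπAb : πA.left.base = 𝟙 _)
    (hπAle : ∀ U : A.left.Opens, U ≤ πA.left ⁻¹ᵁ U)
    (hπAapp : ∀ (U : A.left.Opens) (s : Γ(A.left, U)), (πA.left.appLE U U (hπAle U)).hom s = s ^ Nat.card k)
    (hPA : Polynomial.eval₂ (Int.castRingHom (EndAV.End A)) (EndAV.End.of πA) P = 0)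
    (hcog : ∀ (Z : Over (Spec (CommRingCat.of k))) [GrpObj Z] [IsCommMonObj Z] [IsProper Z.hom] [GeometricallyIntegral Z.hom]
      (πZ : Z ⟶ Z) [IsMonHom πZ] (hπZb : πZ.left.base = 𝟙 _) (hπZle : ∀ U : Z.left.Opens, U ≤ πZ.left ⁻¹ᵁ U)
      (hπZapp : ∀ (U : Z.left.Opens) (s : Γ(Z.left, U)), (πZ.left.appLE U U (hπZle U)).hom s = s ^ Nat.card k)
      (hPZ : Polynomial.eval₂ (Int.castRingHom (EndAV.End Z)) (EndAV.End.of πZ) P = 0),
      ∃ (n : ℕ) (ψ : Fin n → EndAV.Hom Z A), ∀ (T : Over (Spec (CommRingCat.of k))) (x y : T ⟶ Z),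
        (∀ i, x ≫ (ψ i).toHom = y ≫ (ψ i).toHom) → x = y)
    (hext : ∀ (X Y : Over (Spec (CommRingCat.of k))) [GrpObj X] [IsCommMonObj X] [IsProper X.hom] [GeometricallyIntegral X.hom]
      [GrpObj Y] [IsCommMonObj Y] [IsProper Y.hom] [GeometricallyIntegral Y.hom]
      (πX : X ⟶ X) [IsMonHom πX] (hπXb : πX.left.base = 𝟙 _) (hπXle : ∀ U : X.left.Opens, U ≤ πX.left ⁻¹ᵁ U)
      (hπXapp : ∀ (U : X.left.Opens) (s : Γ(X.left, U)), (πX.left.appLE U U (hπXle U)).hom s = s ^ Nat.card k)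
      (hPX : Polynomial.eval₂ (Int.castRingHom (EndAV.End X)) (EndAV.End.of πX) P = 0)
      (πY : Y ⟶ Y) [IsMonHom πY] (hπYb : πY.left.base = 𝟙 _) (hπYle : ∀ U : Y.left.Opens, U ≤ πY.left ⁻¹ᵁ U)
      (hπYapp : ∀ (U : Y.left.Opens) (s : Γ(Y.left, U)), (πY.left.appLE U U (hπYle U)).hom s = s ^ Nat.card k)
      (hPY : Polynomial.eval₂ (Int.castRingHom (EndAV.End Y)) (EndAV.End.of πY) P = 0)
      (φ : EndAV.Hom X Y) [IsClosedImmersion φ.toHom.left] (f : EndAV.Hom X A), ∃ g : EndAV.Hom Y A, φ ≫ g = f)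
    (M : Type u) [AddCommGroup M] [Module (EndAV.End A) M] [Module.Finite ℤ M] [Module.Free ℤ M] :
    ∃ (X : Over (Spec (CommRingCat.of k))) (_ : GrpObj X) (_ : IsCommMonObj X) (_ : IsProper X.hom)
      (_ : GeometricallyIntegral X.hom) (πX : X ⟶ X) (_ : IsMonHom πX) (_ : πX.left.base = 𝟙 _)
      (hπXle : ∀ U : X.left.Opens, U ≤ πX.left ⁻¹ᵁ U)
      (_ : ∀ (U : X.left.Opens) (s : Γ(X.left, U)), (πX.left.appLE U U (hπXle U)).hom s = s ^ Nat.card k)
      (_ : Polynomial.eval₂ (Int.castRingHom (EndAV.End X)) (EndAV.End.of πX) P = 0)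
      (e : M ≃+ EndAV.Hom X A), ∀ (s : EndAV.End A) (m : M), (e (s • m)).toHom = (e m).toHom ≫ s.toHom := by
  classical
  haveI : Module.Finite ℤ (EndAV.End A) := Groth.Agent.TateTors22.finite_hom (A := A) (B := A)
  obtain ⟨n, v, hv⟩ := Module.Finite.exists_fin (R := ℤ) (M := M)
  let L : (Fin n → EndAV.End A) →+ M := AddMonoidHom.mk' (fun c => ∑ i, c i • v i) fun c d => by
    rw [← Finset.sum_add_distrib]; exact Finset.sum_congr rfl fun i _ => add_smul (c i) (d i) (v i)
  have hL : Function.Surjective L := fun y => by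
    have hy : y ∈ Submodule.span ℤ (Set.range v) := hv ▸ Submodule.mem_top
    obtain ⟨c, rfl⟩ := (Submodule.mem_span_range_iff_exists_fun ℤ).1 hy
    refine ⟨fun i => (c i : EndAV.End A), ?_⟩
    show (∑ i, (c i : EndAV.End A) • v i) = _
    exact Finset.sum_congr rfl fun i _ => Int.cast_smul_eq_zsmul _ (c i) (v i)
  haveI : IsNoetherian ℤ (Fin n → EndAV.End A) := isNoetherian_of_isNoetherianRing_of_finite ℤ _
  obtain ⟨m, r, hr⟩ := Submodule.fg_iff_exists_fin_generating_family.1
    (IsNoetherian.noetherian L.toIntLinearMap.ker)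
  have hLr : ∀ j, L (r j) = 0 := fun j => LinearMap.mem_ker.1 (hr.le (Submodule.subset_span ⟨j, rfl⟩))
  obtain ⟨P₀, -, pr, inj, _, hpr, hinj, -, hdelta, hpext⟩ :=
    Groth.Agent.AVQuotH1.exists_prod (⟨A⟩ : Groth.Agent.AVQuotH1.AV k) (X := A) n (fun _ => 𝟙 A) (fun _ => inferInstance)
  obtain ⟨R₀, -, qr, jnj, _, hqr, hjnj, -, hdelta', hqext⟩ :=
    Groth.Agent.AVQuotH1.exists_prod (⟨A⟩ : Groth.Agent.AVQuotH1.AV k) (X := A) m (fun _ => 𝟙 A) (fun _ => inferInstance)
  let I : Fin n → EndAV.Hom A P₀.X := fun l => haveI := hinj l; EndAV.Hom.of (inj l)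
  let p : Fin n → EndAV.Hom P₀.X A := fun l => haveI := hpr l; EndAV.Hom.of (pr l)
  let J : Fin m → EndAV.Hom A R₀.X := fun l => haveI := hjnj l; EndAV.Hom.of (jnj l)
  have hIp : ∀ l l', I l ≫ p l' = if l = l' then 𝟙 _ else 0 := fun l l' => by
    apply EndAV.Hom.ext
    rw [EndAV.Hom.toHom_comp, apply_ite EndAV.Hom.toHom]
    exact hdelta l l'
  have hsum : ∀ (l : Fin n) {W : CommGrp (Over (Spec (CommRingCat.of k)))} (w : Fin n → (W ⟶ CommGrp.mk A)),
      (∑ i, w i ≫ I i) ≫ p l = w l := by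
    intro l W w
    rw [Preadditive.sum_comp, Finset.sum_eq_single l]
    · rw [Category.assoc, hIp, if_pos rfl, Category.comp_id]
    · intro i _ hi
      rw [Category.assoc, hIp, if_neg hi, Limits.comp_zero]
    · intro h; exact absurd (Finset.mem_univ l) h
  have hid : (∑ i, p i ≫ I i) = 𝟙 _ := by
    apply EndAV.Hom.ext
    refine hpext _ _ _ fun l => ?_
    exact congrArg EndAV.Hom.toHom ((hsum l p).trans (Category.id_comp _).symm)
  let toH : (Fin n → EndAV.End A) →+ EndAV.Hom P₀.X A :=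
    AddMonoidHom.mk' (fun c => ∑ i, p i ≫ (c i : EndAV.Hom A A)) fun c d => by
      rw [← Finset.sum_add_distrib]
      exact Finset.sum_congr rfl fun i _ => Preadditive.comp_add _ _ _ (p i) (c i) (d i)
  have hIH : ∀ c l, I l ≫ toH c = c l := fun c l => by
    show I l ≫ (∑ i, p i ≫ (c i : EndAV.Hom A A)) = c l
    rw [Preadditive.comp_sum, Finset.sum_eq_single l]
    · rw [← Category.assoc, hIp, if_pos rfl, Category.id_comp]
    · intro i _ hi
      rw [← Category.assoc, hIp, if_neg (Ne.symm hi), Limits.zero_comp]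
    · intro h; exact absurd (Finset.mem_univ l) h
  have htop : ∀ g : EndAV.Hom P₀.X A, toH (fun i => I i ≫ g) = g := fun g => by
    show (∑ i, p i ≫ I i ≫ g) = g
    simp only [← Category.assoc]
    rw [← Preadditive.sum_comp, hid, Category.id_comp]
  have hsmul : ∀ (s : EndAV.End A) c, toH (fun i => s * c i) = toH c ≫ (s : EndAV.Hom A A) := fun s c => by
    show (∑ i, p i ≫ ((c i : EndAV.Hom A A) ≫ s)) = (∑ i, p i ≫ (c i : EndAV.Hom A A)) ≫ s
    simp only [← Category.assoc]
    rw [Preadditive.sum_comp]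
  let ρ : EndAV.Hom P₀.X R₀.X := ∑ j, toH (r j) ≫ J j
  have hρ : ∀ l, ρ.toHom ≫ qr l = (toH (r l)).toHom := fun l => by
    haveI := hqr l
    have : ρ ≫ EndAV.Hom.of (qr l) = toH (r l) := by
      simp only [ρ, Preadditive.sum_comp, Category.assoc]
      rw [Finset.sum_eq_single l]
      · rw [show J l ≫ EndAV.Hom.of (qr l) = 𝟙 _ from EndAV.Hom.ext (by
          rw [EndAV.Hom.toHom_comp]; exact (hdelta' l l).trans (if_pos rfl)), Category.comp_id]
      · intro i _ hi
        rw [show J i ≫ EndAV.Hom.of (qr l) = 0 from EndAV.Hom.ext (by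
          rw [EndAV.Hom.toHom_comp]; exact (hdelta' i l).trans (if_neg hi)), Limits.comp_zero]
      · intro h; exact absurd (Finset.mem_univ l) h
    exact congrArg EndAV.Hom.toHom this
  obtain ⟨X₀, x, U, _, _, hxρ, hU, hrange⟩ := Groth.Agent.AVQuotH1.exists_unit_component ρ.toHom
  haveI : Mono x := Over.mono_of_mono_left x
  obtain ⟨πP, _, hPb, hPle, hPapp⟩ := Groth.Agent.FrobPull22.exists_frobenius k P₀.X
  have hPP := eval₂_eq_zero_of_pr (A := ⟨A⟩) pr hpr hpext P πA hπAb hπAle hπAapp hPA πP hPb hPle hPapp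
  obtain ⟨πR, _, hRb, hRle, hRapp⟩ := Groth.Agent.FrobPull22.exists_frobenius k R₀.X
  have hPR := eval₂_eq_zero_of_pr (A := ⟨A⟩) qr hqr hqext P πA hπAb hπAle hπAapp hPA πR hRb hRle hRapp
  obtain ⟨πX, _, hXb, hXle, hXapp⟩ := Groth.Agent.FrobPull22.exists_frobenius k X₀.X
  have hPX := eval₂_eq_zero_of_pr (n := 1) (A := P₀) (fun _ => x) (fun _ => inferInstance)
    (fun T a b hab => (cancel_mono x).1 (hab 0)) P πP hPb hPle hPapp hPP πX hXb hXle hXapp
  let x' : EndAV.Hom X₀.X P₀.X := EndAV.Hom.of x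
  have hkill : ∀ c, L c = 0 → x' ≫ toH c = 0 := fun c hc => by
    have hc' : c ∈ Submodule.span ℤ (Set.range r) := hr.ge (LinearMap.mem_ker.2 hc)
    obtain ⟨a, rfl⟩ := (Submodule.mem_span_range_iff_exists_fun ℤ).1 hc'
    rw [map_sum, Preadditive.comp_sum]
    refine Finset.sum_eq_zero fun j _ => ?_
    rw [map_zsmul, Preadditive.comp_zsmul]
    have : x' ≫ toH (r j) = 0 := EndAV.Hom.ext (by
      rw [EndAV.Hom.toHom_comp, ← hρ j]
      show x ≫ ρ.toHom ≫ qr j = 1
      haveI := hqr j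
      rw [← Category.assoc, hxρ, MonObj.one_comp])
    rw [this, smul_zero]
  have hinjective : ∀ c, x' ≫ toH c = 0 → L c = 0 := fun c hc => by
    obtain ⟨Q, j, q, N, h, _, _, _, _, _, hqj, hN, hqh⟩ := Groth.Agent.AVQuotH1.exists_nsmul_factor (A := ⟨A⟩)
      ρ.toHom (toH c).toHom x hxρ (congrArg EndAV.Hom.toHom hc) U hU hrange
    obtain ⟨πQ, _, hQb, hQle, hQapp, hPQ⟩ :=
      Groth.Agent.AVQuotH1.exists_frob_of_surjective q P πP hPb hPle hPapp hPP
    haveI : IsClosedImmersion (EndAV.Hom.of j).toHom.left := ‹IsClosedImmersion j.left›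
    obtain ⟨H, hH⟩ := hext Q.X R₀.X πQ hQb hQle hQapp hPQ πR hRb hRle hRapp hPR (EndAV.Hom.of j) (EndAV.Hom.of h)
    let d : Fin m → EndAV.End A := fun l => J l ≫ H
    have h1 : toH (N • c) = toH (∑ l, fun i => d l * r l i) := by
      rw [map_nsmul, map_sum]
      simp only [hsmul]
      have : N • toH c = ρ ≫ H := EndAV.Hom.ext (by
        refine (EndAV.Hom.toHom_nsmul N (toH c)).trans (hqh.symm.trans ?_)
        rw [EndAV.Hom.toHom_comp, ← hqj, Category.assoc]
        exact congrArg (fun z => q ≫ EndAV.Hom.toHom z) hH.symm)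
      rw [this]
      simp only [ρ, d, Preadditive.sum_comp, Category.assoc]
    have h2 : N • c = ∑ l, fun i => d l * r l i := funext fun i => by
      rw [← hIH (N • c) i, h1, hIH]
    have h3 : L (N • c) = 0 := by
      rw [h2, map_sum]
      refine Finset.sum_eq_zero fun l _ => ?_
      show (∑ i, (d l * r l i) • v i) = 0
      simp only [mul_smul, ← Finset.smul_sum]
      rw [show (∑ i, r l i • v i) = 0 from hLr l, smul_zero]
    rw [map_nsmul, ← natCast_zsmul] at h3
    exact (smul_eq_zero.1 h3).resolve_left (by omega)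
  let E₀ : (Fin n → EndAV.End A) →+ EndAV.Hom X₀.X A :=
    AddMonoidHom.mk' (fun c => x' ≫ toH c) fun c d => by rw [map_add, Preadditive.comp_add]
  choose σ hσ using hL
  have hE : ∀ c, E₀ (σ (L c)) = E₀ c := fun c => by
    rw [← sub_eq_zero, ← map_sub]
    exact hkill _ (by rw [map_sub, hσ, sub_self])
  let e : M →+ EndAV.Hom X₀.X A := AddMonoidHom.mk' (fun y => E₀ (σ y)) fun y z => by
    rw [← map_add, ← hE (σ y + σ z), map_add L, hσ, hσ]
  have hbij : Function.Bijective e := by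
    refine ⟨(injective_iff_map_eq_zero e).2 fun y hy => ?_, fun f => ?_⟩
    · rw [← hσ y]; exact hinjective _ hy
    · haveI : IsClosedImmersion x'.toHom.left := ‹IsClosedImmersion x.left›
      obtain ⟨g, hg⟩ := hext X₀.X P₀.X πX hXb hXle hXapp hPX πP hPb hPle hPapp hPP x' f
      refine ⟨L (fun i => I i ≫ g), ?_⟩
      show E₀ (σ _) = f
      rw [hE]
      show x' ≫ toH _ = f
      rw [htop, hg]
  refine ⟨X₀.X, inferInstance, inferInstance, inferInstance, inferInstance, πX, inferInstance, hXb, hXle, hXapp, hPX,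
    AddEquiv.ofBijective e hbij, fun s y => ?_⟩
  show (E₀ (σ (s • y))).toHom = (E₀ (σ y)).toHom ≫ s.toHom
  have hs : L (fun i => s * σ y i) = s • y := by
    show (∑ i, (s * σ y i) • v i) = s • y
    simp only [mul_smul, ← Finset.smul_sum]
    exact congrArg (s • ·) (hσ y)
  rw [← hs, hE]
  show EndAV.Hom.toHom (x' ≫ toH _) = _
  rw [hsmul, ← Category.assoc]
  rfl

end Groth.Agent.S16391
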