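import Groth.Statements.S16393
import Groth.Agent.Lib.AVQuotH1.Basic
import Groth.Agent.Lib.TateTors22.HomFinite

set_option autoImplicit false
universe u
open CategoryTheory MonoidalCategory CartesianMonoidalCategory MonObj GrpObj AlgebraicGeometry
open AbVar

namespace Groth.Agent.S16393

section Aux
open Groth.Agent.AVQuotH1

variable {k : Type u} [Field k]

lemma exists_gens (Q A : AV k) : ∃ (n : ℕ) (ψ : Fin n → EndAV.Hom Q.X A.X),
    ∀ S : AddSubgroup (EndAV.Hom Q.X A.X), (∀ i, ψ i ∈ S) → ∀ φ, φ ∈ S := by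
  haveI : Module.Finite ℤ (EndAV.Hom Q.X A.X) := TateTors22.finite_hom (A := Q.X) (B := A.X)
  obtain ⟨n, ψ, hψ⟩ := Module.Finite.exists_fin (R := ℤ) (M := EndAV.Hom Q.X A.X)
  refine ⟨n, ψ, fun S hS φ => ?_⟩
  have hle : Submodule.span ℤ (Set.range ψ) ≤ S.toIntSubmodule := Submodule.span_le.2 (by rintro _ ⟨i, rfl⟩; exact hS i)
  exact hle (hψ ▸ Submodule.mem_top : φ ∈ Submodule.span ℤ (Set.range ψ))

lemma inverse_precomp (Q Z A : AV k) (q : Q.X ⟶ Z.X) [IsMonHom q] [Surjective q.left] (n : ℕ)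
    (ψ : Fin n → EndAV.Hom Q.X A.X) (hgen : ∀ S : AddSubgroup (EndAV.Hom Q.X A.X), (∀ i, ψ i ∈ S) → ∀ φ, φ ∈ S)
    (hψ : ∀ i, ∃ χ : EndAV.Hom Z.X A.X, EndAV.Hom.of q ≫ χ = ψ i) :
    ∃ g : EndAV.Hom Q.X A.X →+ EndAV.Hom Z.X A.X, (∀ φ, EndAV.Hom.of q ≫ g φ = φ) ∧
      ∀ (φ : EndAV.Hom Q.X A.X) (s : EndAV.Hom A.X A.X), g (φ ≫ s) = g φ ≫ s := by
  haveI := epi_of_surjective q
  let pre : EndAV.Hom Z.X A.X →+ EndAV.Hom Q.X A.X :=
    AddMonoidHom.mk' (fun χ => EndAV.Hom.of q ≫ χ) fun a b => Preadditive.comp_add _ _ _ _ _ _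
  have hinj : Function.Injective pre := fun a b h => EndAV.Hom.ext (by
    rw [← cancel_epi q]
    exact congrArg EndAV.Hom.toHom h)
  have hsurj : Function.Surjective pre := fun φ => hgen pre.range (fun i => hψ i) φ
  let e := AddEquiv.ofBijective pre ⟨hinj, hsurj⟩
  refine ⟨e.symm.toAddMonoidHom, fun φ => e.apply_symm_apply φ, fun φ s => hinj ?_⟩
  refine (e.apply_symm_apply (φ ≫ s)).trans ?_
  exact (congrArg (· ≫ s) (e.apply_symm_apply φ)).symm.trans (Category.assoc _ _ _)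

end Aux


/-- (a₁) ⇒ (b₁): let k be a finite field with q elements and fix a polynomial P with integer
coefficients. Work with abelian varieties over k (proper, geometrically integral commutative group
schemes over k) with their q-Frobenius endomorphism π (identity on points, q-th power on sections; a
homomorphism) such that P(π) = 0 in the endomorphism ring (for suitable P: the abelian varieties
with Weil support in a given finite set of Weil q-numbers); let A be one of them. Assume (a₁): the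
functor X ↦ Hom(X, A), with values in left End(A)-modules (End(A) acting by postcomposition), is
fully faithful on these abelian varieties — for such X, Y, two homomorphisms X → Y agreeing after
composition with every homomorphism Y → A are equal, and every additive End(A)-linear map Hom(Y, A)
→ Hom(X, A) is precomposition with a homomorphism X → Y. Then (b₁): for such X and every finite
closed subgroup scheme H ⊆ X, H equals the common kernel of the homomorphisms X → A vanishing on H;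
on points: a T-valued point of X over k which is sent to the unit by every homomorphism X → A
killing H factors through H. -/
theorem result
    (k : Type u) [Field k] [Finite k]
    (P : Polynomial ℤ) (A : Over (Spec (CommRingCat.of k))) [GrpObj A] [IsCommMonObj A] [IsProper A.hom] [GeometricallyIntegral A.hom]
    (πA : A ⟶ A) [IsMonHom πA] (hπAb : πA.left.base = 𝟙 _) (hπAle : ∀ U : A.left.Opens, U ≤ πA.left ⁻¹ᵁ U)
      (hπAapp : ∀ (U : A.left.Opens) (s : Γ(A.left, U)), (πA.left.appLE U U (hπAle U)).hom s = s ^ Nat.card k)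
    (hPA : Polynomial.eval₂ (Int.castRingHom (EndAV.End A)) (EndAV.End.of πA) P = 0)
    (hff : ∀ (X Y : Over (Spec (CommRingCat.of k))) [GrpObj X] [IsCommMonObj X] [IsProper X.hom] [GeometricallyIntegral X.hom]
      [GrpObj Y] [IsCommMonObj Y] [IsProper Y.hom] [GeometricallyIntegral Y.hom]
      (πX : X ⟶ X) [IsMonHom πX] (hπXb : πX.left.base = 𝟙 _) (hπXle : ∀ U : X.left.Opens, U ≤ πX.left ⁻¹ᵁ U)
      (hπXapp : ∀ (U : X.left.Opens) (s : Γ(X.left, U)), (πX.left.appLE U U (hπXle U)).hom s = s ^ Nat.card k)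
      (hPX : Polynomial.eval₂ (Int.castRingHom (EndAV.End X)) (EndAV.End.of πX) P = 0)
      (πY : Y ⟶ Y) [IsMonHom πY] (hπYb : πY.left.base = 𝟙 _) (hπYle : ∀ U : Y.left.Opens, U ≤ πY.left ⁻¹ᵁ U)
      (hπYapp : ∀ (U : Y.left.Opens) (s : Γ(Y.left, U)), (πY.left.appLE U U (hπYle U)).hom s = s ^ Nat.card k)
      (hPY : Polynomial.eval₂ (Int.castRingHom (EndAV.End Y)) (EndAV.End.of πY) P = 0),
      (∀ f g : EndAV.Hom X Y, (∀ φ : EndAV.Hom Y A, f ≫ φ = g ≫ φ) → f = g) ∧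
        (∀ g : EndAV.Hom Y A →+ EndAV.Hom X A,
          (∀ (φ : EndAV.Hom Y A) (s : EndAV.Hom A A), g (φ ≫ s) = g φ ≫ s) →
            ∃ f : EndAV.Hom X Y, ∀ φ : EndAV.Hom Y A, g φ = f ≫ φ))
    (X : Over (Spec (CommRingCat.of k))) [GrpObj X] [IsCommMonObj X] [IsProper X.hom] [GeometricallyIntegral X.hom]
    (πX : X ⟶ X) [IsMonHom πX] (hπXb : πX.left.base = 𝟙 _) (hπXle : ∀ U : X.left.Opens, U ≤ πX.left ⁻¹ᵁ U)
      (hπXapp : ∀ (U : X.left.Opens) (s : Γ(X.left, U)), (πX.left.appLE U U (hπXle U)).hom s = s ^ Nat.card k)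
    (hPX : Polynomial.eval₂ (Int.castRingHom (EndAV.End X)) (EndAV.End.of πX) P = 0)
    (H : Over (Spec (CommRingCat.of k))) [GrpObj H] [IsFinite H.hom] (i : H ⟶ X) [IsMonHom i] [IsClosedImmersion i.left]
    (T : Over (Spec (CommRingCat.of k))) (x : T ⟶ X)
    (hx : ∀ f : EndAV.Hom X A, i ≫ f.toHom = 1 → x ≫ f.toHom = 1) :
    ∃ y : T ⟶ H, y ≫ i = x := by
  classical
  obtain ⟨Q, p, _, _, hk⟩ := Groth.Agent.AVQuotH1.exists_quotient ⟨X⟩ i
  obtain ⟨πQ, _, hQb, hQle, hQapp, hPQ⟩ :=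
    Groth.Agent.AVQuotH1.exists_frob_of_surjective (X := ⟨X⟩) p P πX hπXb hπXle hπXapp hPX
  obtain ⟨n, ψ, hgen⟩ := exists_gens Q ⟨A⟩
  obtain ⟨R, Φ, pr, inj, _, hpr, -, hfac, -, hext⟩ :=
    Groth.Agent.AVQuotH1.exists_prod (⟨A⟩ : Groth.Agent.AVQuotH1.AV k) n (fun i => (ψ i).toHom) (fun i => inferInstance)
  obtain ⟨Z, q, j, _, _, _, _, hqj⟩ := Groth.Agent.AVQuotH1.exists_image Q Φ
  obtain ⟨πZ, _, hZb, hZle, hZapp, hPZ⟩ :=
    Groth.Agent.AVQuotH1.exists_frob_of_surjective (X := Q) q P πQ hQb hQle hQapp hPQ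
  obtain ⟨g, hg, hgs⟩ := inverse_precomp Q Z ⟨A⟩ q n ψ hgen (fun i => by
    haveI := hpr i
    exact ⟨EndAV.Hom.of (j ≫ pr i), EndAV.Hom.ext (by
      rw [EndAV.Hom.toHom_comp, EndAV.Hom.toHom_of, EndAV.Hom.toHom_of, ← Category.assoc, hqj]
      exact hfac i)⟩)
  obtain ⟨r, hr⟩ := (hff Z.X Q.X πZ hZb hZle hZapp hPZ πQ hQb hQle hQapp hPQ).2 g hgs
  have hid : q ≫ r.toHom = 𝟙 Q.X := by
    have h := (hff Q.X Q.X πQ hQb hQle hQapp hPQ πQ hQb hQle hQapp hPQ).1 (EndAV.Hom.of q ≫ r) (𝟙 _) fun φ => by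
      rw [Category.assoc, ← hr, hg, Category.id_comp]
    exact congrArg EndAV.Hom.toHom h
  haveI : IsSplitMono q := ⟨⟨⟨r.toHom, hid⟩⟩⟩
  haveI : Mono Φ := hqj ▸ mono_comp q j
  have hip : i ≫ p = 1 := hk.w.trans Hom.one_def.symm
  have hxp : x ≫ p = 1 := by
    rw [← cancel_mono Φ, MonObj.one_comp]
    refine hext T _ _ fun l => ?_
    haveI := hpr l
    rw [MonObj.one_comp, Category.assoc, hfac l, Category.assoc]
    exact hx (EndAV.Hom.of p ≫ ψ l) (by
      rw [EndAV.Hom.toHom_comp, EndAV.Hom.toHom_of, ← Category.assoc, hip, MonObj.one_comp])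
  exact ⟨hk.lift x (toUnit T) (hxp.trans Hom.one_def), hk.lift_fst _ _ _⟩

end Groth.Agent.S16393
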