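import Groth.Statements.S16394
import Groth.Agent.Lib.TateTors22.HomFinite

set_option autoImplicit false
universe u
open CategoryTheory MonoidalCategory CartesianMonoidalCategory MonObj GrpObj AlgebraicGeometry
open AbVar

namespace Groth.Agent.S16394

/-- (b₁) ⇒ (c₁): let k be a finite field and X, A abelian varieties over k (proper, geometrically
integral commutative group schemes over k). Suppose the common kernel of all homomorphisms X → A is
trivial: every T-valued point of X over k that is sent to the unit by every homomorphism X → A is
the unit point (this is condition (b₁) for the trivial subgroup). Then there are finitely many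
homomorphisms ψ_1, …, ψ_n : X → A which are jointly monomorphic on T-valued points — two T-valued
points of X with the same image under every ψ_i are equal — so that (ψ_i) is an injective
homomorphism X → A^n. The published statement restricts X and A to abelian varieties whose Frobenius
is killed by a fixed polynomial; this row has no such restriction. -/
theorem result
    (k : Type u) [Field k] [Finite k] (X A : Over (Spec (CommRingCat.of k))) [GrpObj X] [IsCommMonObj X] [IsProper X.hom] [GeometricallyIntegral X.hom]
    [GrpObj A] [IsCommMonObj A] [IsProper A.hom] [GeometricallyIntegral A.hom]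
    (hsep : ∀ (T : Over (Spec (CommRingCat.of k))) (x : T ⟶ X), (∀ f : EndAV.Hom X A, x ≫ f.toHom = 1) → x = 1) :
    ∃ (n : ℕ) (ψ : Fin n → EndAV.Hom X A), ∀ (T : Over (Spec (CommRingCat.of k))) (x y : T ⟶ X),
      (∀ i, x ≫ (ψ i).toHom = y ≫ (ψ i).toHom) → x = y := by
  haveI : Module.Finite ℤ (EndAV.Hom X A) := TateTors22.finite_hom (A := X) (B := A)
  obtain ⟨n, ψ, hψ⟩ := Module.Finite.exists_fin (R := ℤ) (M := EndAV.Hom X A)
  refine ⟨n, ψ, fun T x y h => ?_⟩
  have key : ∀ f : EndAV.Hom X A, EndAV.Hom.ptsMap T f (Additive.ofMul x) = EndAV.Hom.ptsMap T f (Additive.ofMul y) := fun f => by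
    have hf : f ∈ Submodule.span ℤ (Set.range ψ) := hψ ▸ Submodule.mem_top
    induction hf using Submodule.span_induction with
    | mem g hg => obtain ⟨i, rfl⟩ := hg; exact congrArg Additive.ofMul (h i)
    | zero => simp
    | add a b _ _ ha hb => rw [map_add, AddMonoidHom.add_apply, AddMonoidHom.add_apply, ha, hb]
    | smul c a _ ha => rw [map_zsmul, AddMonoidHom.smul_apply, AddMonoidHom.smul_apply, ha]
  have h1 : x / y = 1 := hsep T (x / y) fun f => by
    have h2 := key f
    rw [← sub_eq_zero, ← map_sub] at h2
    exact congrArg Additive.toMul h2
  exact div_eq_one.1 h1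

end Groth.Agent.S16394
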