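import Groth.Statements.S16395
import Groth.Agent.S0383
import Groth.Agent.S15656
import Groth.Agent.Lib.TateTors22.HomFinite
import Groth.Agent.Lib.AbRigid.FactorEtale
import Groth.Agent.Lib.AbRigid.Isogeny

set_option autoImplicit false
universe u
open CategoryTheory MonoidalCategory CartesianMonoidalCategory MonObj GrpObj AlgebraicGeometry
open AbVar

namespace Groth.Agent.S16395

section Aux
open CategoryTheory.Limits

variable {k : Type u} [Field k]

lemma exists_factor {X Y Z : Over (Spec (CommRingCat.of k))} [GrpObj X] [GrpObj Y] [GrpObj Z]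
    [IsProper X.hom] [IsProper Y.hom] [GeometricallyIntegral Y.hom] [IsSeparated Z.hom]
    (q : X ⟶ Y) [IsMonHom q] [Surjective q.left] (g : X ⟶ Z) [IsMonHom g]
    (h : ∀ (T : Over (Spec (CommRingCat.of k))) (x : T ⟶ X), x ≫ q = 1 → x ≫ g = 1) :
    ∃ r : Y ⟶ Z, IsMonHom r ∧ q ≫ r = g := by
  haveI : AlgebraicGeometry.IsIntegral Y.left := GeometricallyIntegral.isIntegral_of_subsingleton Y.hom
  haveI : Flat q.left := AbRigid.flat_of_surjective X Y q
  haveI : IsProper (q.left ≫ Y.hom) := by rw [Over.w]; infer_instance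
  haveI : IsProper q.left := .of_comp _ Y.hom
  let N : Over (Spec (CommRingCat.of k)) := Over.mk (pullback.snd q.left η[Y].left)
  let i : N ⟶ X := Over.homMk (pullback.fst q.left η[Y].left) (by
    show pullback.fst q.left η[Y].left ≫ X.hom = pullback.snd _ _
    rw [← Over.w q, pullback.condition_assoc, Over.w η[Y]]
    exact Category.comp_id _)
  have hN : AlgGrp.IsKernel i q := by
    refine IsPullback.of_map (Over.forget _) ?_ ?_
    · ext1
      simp [i, N, pullback.condition]
    · simpa [N, i] using IsPullback.of_hasPullback q.left η[Y].left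
  obtain ⟨r, hr, -⟩ := AbRigid.existsUnique_factor q i hN g (h N i (by
    rw [hN.w]
    exact (Hom.one_def).symm))
  refine ⟨r, AbRigid.isMonHom_of_one Y Z r ?_, hr⟩
  rw [← IsMonHom.one_hom (f := q), Category.assoc, hr, IsMonHom.one_hom]

end Aux


/-- (a) ⇒ (b₂): let k be a finite field with q elements and fix a polynomial P with integer
coefficients. Work with abelian varieties over k (proper, geometrically integral commutative group
schemes over k) with their q-Frobenius endomorphism π (identity on points, q-th power on sections; a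
homomorphism) such that P(π) = 0 in the endomorphism ring (for suitable P: the abelian varieties
with Weil support in a given finite set of Weil q-numbers); let A be one of them and S = End(A)
(product = composition), acting on each Hom(X, A) by postcomposition. Assume (a): the functor X ↦
Hom(X, A) is an anti-equivalence from these abelian varieties onto left S-modules free of finite
rank over ℤ — (a₁) for such X, Y, homomorphisms X → Y agreeing after composition with every
homomorphism Y → A are equal and every additive S-linear map Hom(Y, A) → Hom(X, A) is precomposition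
with a homomorphism X → Y; (a₂) every left S-module whose additive group is free of finite rank over
ℤ is additively and S-linearly isomorphic to Hom(Y, A) for some such Y. Then (b₂): for every such X
and every additive subgroup M ⊆ Hom(X, A) of finite index stable under postcomposition with
endomorphisms of A, a homomorphism f : X → A lies in M as soon as it kills the common kernel of M,
i.e. every T-valued point of X over k sent to the unit by all members of M is sent to the unit by f. -/
theorem result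
    (k : Type u) [Field k] [Finite k]
    (P : Polynomial ℤ) (A : Over (Spec (CommRingCat.of k))) [GrpObj A] [IsCommMonObj A] [IsProper A.hom] [GeometricallyIntegral A.hom]
    (πA : A ⟶ A) [IsMonHom πA] (hπAb : πA.left.base = 𝟙 _) (hπAle : ∀ U : A.left.Opens, U ≤ πA.left ⁻¹ᵁ U)
      (hπAapp : ∀ (U : A.left.Opens) (s : Γ(A.left, U)), (πA.left.appLE U U (hπAle U)).hom s = s ^ Nat.card k)
    (hPA : Polynomial.eval₂ (Int.castRingHom (EndAV.End A)) (EndAV.End.of πA) P = 0)
    (hff : ∀ (X Y : Over (Spec (CommRingCat.of k))) [GrpObj X] [IsCommMonObj X] [IsProper X.hom] [GeometricallyIntegral X.hom]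
      [GrpObj Y] [IsCommMonObj Y] [IsProper Y.hom] [GeometricallyIntegral Y.hom]
      (πX : X ⟶ X) [IsMonHom πX] (hπXb : πX.left.base = 𝟙 _) (hπXle : ∀ U : X.left.Opens, U ≤ πX.left ⁻¹ᵁ U)
      (hπXapp : ∀ (U : X.left.Opens) (s : Γ(X.left, U)), (πX.left.appLE U U (hπXle U)).hom s = s ^ Nat.card k)
      (hPX : Polynomial.eval₂ (Int.castRingHom (EndAV.End X)) (EndAV.End.of πX) P = 0)
      (πY : Y ⟶ Y) [IsMonHom πY] (hπYb : πY.left.base = 𝟙 _) (hπYle : ∀ U : Y.left.Opens, U ≤ πY.left ⁻¹ᵁ U)
      (hπYapp : ∀ (U : Y.left.Opens) (s : Γ(Y.left, U)), (πY.left.appLE U U (hπYle U)).hom s = s ^ Nat.card k)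
      (hPY : Polynomial.eval₂ (Int.castRingHom (EndAV.End Y)) (EndAV.End.of πY) P = 0),
      (∀ f g : EndAV.Hom X Y, (∀ φ : EndAV.Hom Y A, f ≫ φ = g ≫ φ) → f = g) ∧
        (∀ g : EndAV.Hom Y A →+ EndAV.Hom X A,
          (∀ (φ : EndAV.Hom Y A) (s : EndAV.Hom A A), g (φ ≫ s) = g φ ≫ s) →
            ∃ f : EndAV.Hom X Y, ∀ φ : EndAV.Hom Y A, g φ = f ≫ φ))
    (hes : ∀ (M : Type u) [AddCommGroup M] [Module (EndAV.End A) M] [Module.Finite ℤ M] [Module.Free ℤ M],
      ∃ (Y : Over (Spec (CommRingCat.of k))) (_ : GrpObj Y) (_ : IsCommMonObj Y) (_ : IsProper Y.hom)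
        (_ : GeometricallyIntegral Y.hom) (πY : Y ⟶ Y) (_ : IsMonHom πY) (_ : πY.left.base = 𝟙 _)
        (hπYle : ∀ U : Y.left.Opens, U ≤ πY.left ⁻¹ᵁ U)
        (_ : ∀ (U : Y.left.Opens) (s : Γ(Y.left, U)), (πY.left.appLE U U (hπYle U)).hom s = s ^ Nat.card k)
        (_ : Polynomial.eval₂ (Int.castRingHom (EndAV.End Y)) (EndAV.End.of πY) P = 0)
        (e : M ≃+ EndAV.Hom Y A), ∀ (s : EndAV.End A) (m : M), (e (s • m)).toHom = (e m).toHom ≫ s.toHom)
    (X : Over (Spec (CommRingCat.of k))) [GrpObj X] [IsCommMonObj X] [IsProper X.hom] [GeometricallyIntegral X.hom]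
    (πX : X ⟶ X) [IsMonHom πX] (hπXb : πX.left.base = 𝟙 _) (hπXle : ∀ U : X.left.Opens, U ≤ πX.left ⁻¹ᵁ U)
      (hπXapp : ∀ (U : X.left.Opens) (s : Γ(X.left, U)), (πX.left.appLE U U (hπXle U)).hom s = s ^ Nat.card k)
    (hPX : Polynomial.eval₂ (Int.castRingHom (EndAV.End X)) (EndAV.End.of πX) P = 0)
    (M : AddSubgroup (EndAV.Hom X A)) (hM : M.FiniteIndex) (hMS : ∀ r ∈ M, ∀ s : EndAV.Hom A A, r ≫ s ∈ M)
    (f : EndAV.Hom X A)
    (hf : ∀ (T : Over (Spec (CommRingCat.of k))) (x : T ⟶ X), (∀ r ∈ M, x ≫ EndAV.Hom.toHom r = 1) → x ≫ f.toHom = 1) :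
    f ∈ M := by
  classical
  haveI : Module.Finite ℤ (EndAV.Hom X A) := Groth.Agent.TateTors22.finite_hom (A := X) (B := A)
  haveI : NoZeroSMulDivisors ℤ (EndAV.Hom X A) := Groth.Agent.S15656.result k X A
  letI : SMul (EndAV.End A) M := ⟨fun s m => ⟨m.1 ≫ s, hMS m.1 m.2 s⟩⟩
  have hsmul : ∀ (s : EndAV.End A) (m : M), (s • m).1 = m.1 ≫ s := fun s m => rfl
  letI : Module (EndAV.End A) M :=
    { one_smul := fun m => Subtype.ext ((hsmul 1 m).trans (Category.comp_id _))
      mul_smul := fun s t m => Subtype.ext (by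
        rw [hsmul, hsmul, hsmul]
        exact (Category.assoc _ _ _).symm)
      smul_zero := fun s => Subtype.ext ((hsmul s 0).trans Limits.zero_comp)
      smul_add := fun s m n => Subtype.ext (by
        rw [AddSubgroup.coe_add, hsmul, hsmul, hsmul, AddSubgroup.coe_add]
        exact Preadditive.add_comp _ _ _ _ _ _)
      add_smul := fun s t m => Subtype.ext (by
        rw [AddSubgroup.coe_add, hsmul, hsmul, hsmul]
        exact Preadditive.comp_add _ _ _ _ _ _)
      zero_smul := fun m => Subtype.ext ((hsmul 0 m).trans Limits.comp_zero) }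
  haveI : Module.Finite ℤ M :=
    Module.Finite.of_injective M.subtype.toIntLinearMap Subtype.val_injective
  haveI : NoZeroSMulDivisors ℤ M :=
    Function.Injective.noZeroSMulDivisors M.subtype Subtype.val_injective (map_zero _) (fun c x => map_zsmul _ c x)
  haveI : Module.Free ℤ M := Module.free_of_finite_type_torsion_free'
  obtain ⟨Y, _, _, _, _, πY, _, hYb, hYle, hYapp, hPY, e, he⟩ := hes M
  have heq : ∀ (φ : EndAV.Hom Y A) (s : EndAV.Hom A A), ((e.symm (φ ≫ s)).1 : EndAV.Hom X A) = (e.symm φ).1 ≫ s := by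
    intro φ s
    have h1 : e ((show EndAV.End A from s) • e.symm φ) = φ ≫ s := EndAV.Hom.ext (by
      rw [EndAV.Hom.toHom_comp, he (show EndAV.End A from s) (e.symm φ), e.apply_symm_apply])
    rw [← h1, e.symm_apply_apply]
    exact hsmul s _
  obtain ⟨q, hq⟩ := (hff X Y πX hπXb hπXle hπXapp hPX πY hYb hYle hYapp hPY).2
    (M.subtype.comp e.symm.toAddMonoidHom) heq
  let n := M.index
  have hn : n ≠ 0 := hM.index_ne_zero
  obtain ⟨q', hq'⟩ := (hff Y X πY hYb hYle hYapp hPY πX hπXb hπXle hπXapp hPX).2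
    (e.toAddMonoidHom.comp
      (AddMonoidHom.mk' (fun r : EndAV.Hom X A => (⟨n • r, AddSubgroup.nsmul_index_mem M r⟩ : M))
        (fun a b => Subtype.ext (nsmul_add a b n)))) (fun r s => EndAV.Hom.ext (by
      have h1 : (⟨n • (r ≫ s), AddSubgroup.nsmul_index_mem M _⟩ : M) = (show EndAV.End A from s) • (⟨n • r, AddSubgroup.nsmul_index_mem M r⟩ : M) :=
        Subtype.ext ((Preadditive.nsmul_comp r s n).symm.trans
          (hsmul (show EndAV.End A from s) ⟨n • r, AddSubgroup.nsmul_index_mem M r⟩).symm)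
      show EndAV.Hom.toHom (e (⟨n • (r ≫ s), AddSubgroup.nsmul_index_mem M _⟩ : M)) = _
      rw [h1, he, EndAV.Hom.toHom_comp]
      rfl))
  have hcomp : q' ≫ q = n • 𝟙 (CommGrp.mk Y) := by
    refine (hff Y Y πY hYb hYle hYapp hPY πY hYb hYle hYapp hPY).1 _ _ fun φ => ?_
    rw [Category.assoc, ← hq, ← hq', Preadditive.nsmul_comp, Category.id_comp]
    show e (⟨n • (e.symm φ).1, _⟩ : M) = n • φ
    rw [show (⟨n • (e.symm φ).1, AddSubgroup.nsmul_index_mem M _⟩ : M) = n • e.symm φ from Subtype.ext rfl,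
      map_nsmul, e.apply_symm_apply]
  haveI : Surjective q.toHom.left := by
    haveI : Surjective (q'.toHom.left ≫ q.toHom.left) := by
      rw [← Over.comp_left, ← EndAV.Hom.toHom_comp, hcomp, EndAV.Hom.toHom_nsmul, EndAV.Hom.toHom_id]
      exact Groth.Agent.S0383.result k Y n (Nat.one_le_iff_ne_zero.2 hn)
    exact Surjective.of_comp q'.toHom.left q.toHom.left
  obtain ⟨r, _, hr⟩ := exists_factor q.toHom f.toHom (fun T x hx => hf T x fun m hm => by
    have h1 : m = q ≫ e ⟨m, hm⟩ := by
      rw [← hq]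
      show m = (e.symm (e ⟨m, hm⟩)).1
      rw [e.symm_apply_apply]
    rw [h1, EndAV.Hom.toHom_comp, ← Category.assoc, hx, MonObj.one_comp])
  have hfr : f = q ≫ EndAV.Hom.of r := EndAV.Hom.ext hr.symm
  rw [hfr, ← hq]
  exact (e.symm (EndAV.Hom.of r)).2

end Groth.Agent.S16395
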