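import Groth.Statements.S16396
import Mathlib
import Groth.Agent.S15706

set_option autoImplicit false
universe u
open CAlg

namespace Groth.Agent.S16396
open Polynomial TensorProduct

open Polynomial in

open Polynomial in
/-- For a commutative ℚ-algebra A, a ℚ-subalgebra B of the polynomial algebra A[X] that contains X and
is closed under d/dX consists exactly of the polynomials each of whose coefficients is the value at
0 of some element of B; in other words B = ev(B)[X], with ev the evaluation at 0. -/
theorem result
    (A : Type u) [CommRing A] [Algebra ℚ A] (B : Subalgebra ℚ A[X])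
    (hX : (X : A[X]) ∈ B) (hD : ∀ P ∈ B, Polynomial.derivative P ∈ B) (P : A[X]) :
    P ∈ B ↔ ∀ i : ℕ, ∃ Q ∈ B, Polynomial.eval 0 Q = P.coeff i := by
  have scale : ∀ (i : ℕ) (c : A), C ((i + 1 : ℕ) * c) ∈ B → C c ∈ B := by
    intro i c h
    have h2 := B.smul_mem h ((i + 1 : ℕ) : ℚ)⁻¹
    rwa [Polynomial.smul_C, Algebra.smul_def, ← mul_assoc, ← map_natCast (algebraMap ℚ A), ← map_mul,
      inv_mul_cancel₀ (Nat.cast_ne_zero.2 (Nat.succ_ne_zero i)), map_one, one_mul] at h2
  have all : ∀ (n : ℕ) (Q : A[X]), Q.natDegree ≤ n → Q ∈ B → ∀ i, C (Q.coeff i) ∈ B := by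
    intro n
    induction n with
    | zero =>
      intro Q hQ hQB i
      rcases i with - | i
      · rwa [← Polynomial.eq_C_of_natDegree_le_zero hQ]
      · rw [Polynomial.coeff_eq_zero_of_natDegree_lt (by omega), map_zero]
        exact zero_mem _
    | succ n ih =>
      intro Q hQ hQB
      have hsucc : ∀ i, C (Q.coeff (i + 1)) ∈ B := by
        intro i
        apply scale i
        have := ih _ (le_trans (Polynomial.natDegree_derivative_le Q) (by omega)) (hD Q hQB) i
        rw [Polynomial.coeff_derivative] at this
        simpa [mul_comm] using this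
      intro i
      rcases i with - | i
      · have e : C (Q.coeff 0) = Q - X * Q.divX := by
          rw [eq_sub_iff_add_eq, add_comm, Polynomial.X_mul_divX_add]
        rw [e]
        refine sub_mem hQB (mul_mem hX ?_)
        rw [Q.divX.as_sum_range_C_mul_X_pow]
        refine sum_mem fun j _ => mul_mem ?_ (pow_mem hX _)
        rw [Polynomial.coeff_divX]
        exact hsucc j
      · exact hsucc i
  constructor
  · intro h i
    exact ⟨C (P.coeff i), all _ P le_rfl h i, by simp⟩
  · intro h
    rw [P.as_sum_range_C_mul_X_pow]
    refine sum_mem fun i _ => mul_mem ?_ (pow_mem hX _)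
    obtain ⟨Q, hQ, he⟩ := h i
    rw [← he, ← Polynomial.coeff_zero_eq_eval_zero]
    exact all _ Q le_rfl hQ 0

end Groth.Agent.S16396
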