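import Groth.Statements.S16399
import Groth.Agent.Lib.TautJac28.Gen

set_option autoImplicit false
open W4c3tautjacobian

namespace Groth.Agent.S16399

/-- In the formal relation ring of genus g ≥ 1, every symbol x 0 (2i) is congruent modulo the relation
ideal to a polynomial in y and the symbols x 0 (2j) with 1 ≤ j and 3j ≤ g; so these low symbols
together with y generate the first-degree-0 part modulo the relations. -/
theorem result
    (g : ℕ) (hg : 1 ≤ g) (i : ℕ) :
    ∃ q ∈ Algebra.adjoin ℚ (W4c3tautjacobian.lowGens g),
      W4c3tautjacobian.xv g 0 (2 * (i : ℤ)) - q ∈ W4c3tautjacobian.relIdeal g := by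
  exact Groth.Agent.TautJac28.main hg i

end Groth.Agent.S16399
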