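import Groth.Statements.S1640
import Groth.Agent.Lib.Semilocal18.Element

set_option autoImplicit false
universe u
open Variety

namespace Groth.Agent.S1640

/-- Let K be a field, A ⊆ K a subring with fraction field K, and B_1, …, B_r ⊆ K Noetherian
one-dimensional subrings with finitely many maximal ideals and fraction field K, such that for each
i the subring generated by A and B_i is all of K. Then some nonzero x ∈ A has x⁻¹ lying in B_i and
in the Jacobson radical of B_i for every i. -/
theorem result (K : Type u) [Field K] (A : Subring K) [IsFractionRing A K]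
    (r : ℕ) (B : Fin r → Subring K) [∀ i, IsNoetherianRing (B i)] [∀ i, IsFractionRing (B i) K]
    (hdim : ∀ i, ringKrullDim (B i) = 1) (hsl : ∀ i, Finite (MaximalSpectrum (B i)))
    (hgen : ∀ i, A ⊔ B i = ⊤) :
    ∃ x : K, x ∈ A ∧ x ≠ 0 ∧ ∀ i, ∃ hx : x⁻¹ ∈ B i, (⟨x⁻¹, hx⟩ : B i) ∈ (⊥ : Ideal (B i)).jacobson := by
  classical
  open Groth.Agent.Semilocal18 in
  exact (by
    have hB : ∀ i, Good (B i) := fun i => ⟨inferInstance, inferInstance, hdim i, hsl i⟩
    haveI := fun i => (hB i).isDedekind_norm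
    haveI := fun i => (hB i).isFractionRing_norm
    haveI := fun i => (hB i).finite_places
    let v : (Σ i, IsDedekindDomain.HeightOneSpectrum (norm (B i))) → Valuation K (WithZero (Multiplicative ℤ)) :=
      fun j => j.2.valuation K
    obtain ⟨a₀, ha₀, hv₀⟩ := exists_pole A v (fun j => by
      by_contra hall
      push Not at hall
      have hK : ∀ z : K, v j z ≤ 1 := by
        intro z
        have hz : z ∈ A ⊔ B j.1 := (hgen j.1).symm ▸ Subring.mem_top z
        have : A ⊔ B j.1 ≤ (v j).valuationSubring.toSubring := sup_le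
          (fun a ha => (Valuation.mem_valuationSubring_iff _ _).2 (hall a ha))
          (fun b hb => (Valuation.mem_valuationSubring_iff _ _).2
            (j.2.valuation_le_one (K := K) (algebraMap (B j.1) (norm (B j.1)) ⟨b, hb⟩)))
        exact (Valuation.mem_valuationSubring_iff _ _).1 (this hz)
      obtain ⟨π, hπ⟩ := j.2.valuation_exists_uniformizer K
      have h1 := hK π⁻¹
      rw [map_inv₀, show v j π = _ from hπ, ← WithZero.exp_neg, ← WithZero.exp_zero, WithZero.exp_le_exp] at h1
      omega)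
    obtain ⟨a, haA, ha0, hv⟩ : ∃ a ∈ A, a ≠ 0 ∧ ∀ j, 1 < v j a := by
      by_cases h : a₀ = 0
      · exact ⟨1, A.one_mem, one_ne_zero, fun j => absurd (h ▸ hv₀ j) (by simp)⟩
      · exact ⟨a₀, ha₀, h, hv₀⟩
    have key := fun i => (hB i).exists_pow_mem_jacobson a⁻¹ fun p => by
      rw [map_inv₀]; exact inv_lt_one_of_one_lt₀ (hv ⟨i, p⟩)
    choose g hg hgm using key
    choose N hN hgN using hg
    refine ⟨a ^ (∏ i, N i), pow_mem haA _, pow_ne_zero _ ha0, fun i => ?_⟩
    obtain ⟨k, hk⟩ := Finset.dvd_prod_of_mem N (Finset.mem_univ i)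
    have hn : 0 < ∏ i, N i := Finset.prod_pos fun i _ => hN i
    have hk0 : 0 < k := Nat.pos_of_ne_zero fun h0 => hn.ne' (by rw [hk, h0, mul_zero])
    have he : (a ^ (∏ i, N i))⁻¹ = (g i : K) ^ k := by rw [hgN, ← pow_mul, ← hk, inv_pow]
    refine ⟨he ▸ pow_mem (g i).2 k, ?_⟩
    have he' : (⟨(a ^ (∏ i, N i))⁻¹, he ▸ pow_mem (g i).2 k⟩ : B i) = g i ^ k := Subtype.ext he
    rw [he', Ideal.jacobson, Ideal.mem_sInf]
    exact fun {m} hm => Ideal.pow_mem_of_mem _ (hgm i m hm.2) k hk0)

end Groth.Agent.S1640
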