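import Groth.Statements.S16400
import Mathlib

set_option autoImplicit false
universe u v
open CAlgX

namespace Groth.Agent.S16400

/-- Let K be a field, N a finite index set and A a square matrix over K indexed by N whose linear map on
column vectors has kernel equal to its range (so A composed with A is zero and the three-term
sequence it defines is exact in the middle). Then there are subsets N₁₂, N₂₁, N₃₁ of N such that the
block of A with rows in N₃₁ and columns in N₂₁, and the block of A with rows outside N₂₁ and columns
in N₁₂, both act bijectively on column vectors. (In the original setting K is the prime field and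
middle exactness is supplied by the Cartier isomorphism; here exactness is the hypothesis and K is
any field.) -/
theorem result
    {K : Type u} [Field K] {N : Type v} [Fintype N] [DecidableEq N]
    (A : Matrix N N K)
    (hA : LinearMap.ker A.mulVecLin = LinearMap.range A.mulVecLin) :
    ∃ N₁₂ N₂₁ N₃₁ : Finset N,
      Function.Bijective (A.submatrix (Subtype.val : ↥N₃₁ → N) (Subtype.val : ↥N₂₁ → N)).mulVecLin ∧
      Function.Bijective
        (A.submatrix (Subtype.val : {x : N // x ∉ N₂₁} → N) (Subtype.val : ↥N₁₂ → N)).mulVecLin := by
  classical
  have sel : ∀ {V : Type (max u v)} [AddCommGroup V] [Module K V] (w : N → V), ∃ b : Finset N,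
      LinearIndependent K (fun j : b => w j) ∧ Submodule.span K (w '' (b : Set N)) = Submodule.span K (Set.range w) := by
    intro V _ _ w
    obtain ⟨κ, a, ha, hsp, hli⟩ := exists_linearIndependent' K w
    haveI : Finite κ := Finite.of_injective a ha
    haveI := Fintype.ofFinite κ
    refine ⟨Finset.univ.image a, ?_, ?_⟩
    · have hmem : ∀ j : (Finset.univ.image a : Finset N), ∃ x, a x = j := fun j => by
        obtain ⟨x, -, hx⟩ := Finset.mem_image.1 j.2; exact ⟨x, hx⟩
      choose g hg using hmem
      have hgi : Function.Injective g := fun x y h => Subtype.ext (by rw [← hg x, ← hg y, h])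
      have := hli.comp g hgi
      simpa [Function.comp_def, hg] using this
    · rw [Finset.coe_image, Finset.coe_univ, Set.image_univ, ← Set.range_comp, hsp]
  obtain ⟨b, hbli, hbsp⟩ := sel (V := N → K) A.col
  have hrange : LinearMap.range A.mulVecLin = Submodule.span K (A.col '' (b : Set N)) := by
    rw [Matrix.range_mulVecLin, hbsp]
  obtain ⟨R3, hR3li, hR3sp⟩ := sel (V := (b → K)) (fun i : N => fun j : b => A i j)
  have hzero : ∀ c : b → K, (∀ i, ∑ j : b, A i j * c j = 0) → c = 0 := fun c hc => by
    refine funext (Fintype.linearIndependent_iff.1 hbli c ?_)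
    funext i
    simp only [Finset.sum_apply, Pi.smul_apply, Matrix.col_apply, smul_eq_mul, Pi.zero_apply]
    rw [← hc i]
    exact Finset.sum_congr rfl fun j _ => mul_comm _ _
  have hrk : Module.finrank K (LinearMap.range A.mulVecLin) = b.card := by
    rw [hrange, show (A.col '' (b : Set N)) = Set.range fun j : b => A.col j by ext x; simp,
      finrank_span_eq_card hbli, Fintype.card_coe]
  refine ⟨b, b, R3, ?_, ?_⟩
  · have hinj : Function.Injective (A.submatrix (Subtype.val : ↥R3 → N) (Subtype.val : ↥b → N)).mulVecLin := by
      refine (injective_iff_map_eq_zero _).2 fun c hc => hzero c fun i => ?_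
      let φ : (b → K) →ₗ[K] K := Fintype.linearCombination K c
      have hφ : ∀ r : b → K, φ r = ∑ j, r j * c j := fun r => by simp [φ, Fintype.linearCombination_apply]
      have hle : Submodule.span K (Set.range fun i : N => fun j : b => A i j) ≤ LinearMap.ker φ := by
        rw [← hR3sp, Submodule.span_le]
        rintro _ ⟨i', hi', rfl⟩
        rw [SetLike.mem_coe, LinearMap.mem_ker, hφ]
        have := congrFun hc ⟨i', hi'⟩
        simpa [Matrix.mulVec, dotProduct] using this
      have := hle (Submodule.subset_span ⟨i, rfl⟩)
      rwa [LinearMap.mem_ker, hφ] at this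
    have h1 := hR3li.fintype_card_le_finrank
    have h2 := LinearMap.finrank_le_finrank_of_injective hinj
    rw [Module.finrank_fintype_fun_eq_card, Module.finrank_fintype_fun_eq_card] at h2
    rw [Module.finrank_fintype_fun_eq_card] at h1
    refine ⟨hinj, (LinearMap.injective_iff_surjective_of_finrank_eq_finrank ?_).1 hinj⟩
    rw [Module.finrank_fintype_fun_eq_card, Module.finrank_fintype_fun_eq_card]
    exact le_antisymm h2 h1
  · have hinj : Function.Injective (A.submatrix (Subtype.val : {x : N // x ∉ b} → N) (Subtype.val : ↥b → N)).mulVecLin := by
      refine (injective_iff_map_eq_zero _).2 fun c hc => hzero c ?_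
      let w : N → K := fun i => ∑ j : b, A i j * c j
      have hw : w ∈ LinearMap.range A.mulVecLin := by
        rw [hrange]
        have e : w = ∑ j : b, c j • A.col j := funext fun i => by
          simp only [w, Finset.sum_apply, Pi.smul_apply, Matrix.col_apply, smul_eq_mul]
          exact Finset.sum_congr rfl fun j _ => mul_comm _ _
        rw [e]
        exact sum_mem fun j _ => Submodule.smul_mem _ _ (Submodule.subset_span ⟨j, j.2, rfl⟩)
      rw [← hA, LinearMap.mem_ker] at hw
      have hwout : ∀ i, i ∉ b → w i = 0 := fun i hi => by
        have := congrFun hc ⟨i, hi⟩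
        simpa [Matrix.mulVec, dotProduct, w] using this
      have hwin := hzero (fun j : b => w j) fun i => by
        have := congrFun hw i
        rw [Matrix.mulVecLin_apply, Matrix.mulVec, dotProduct] at this
        rw [Pi.zero_apply, ← Finset.sum_subset (Finset.subset_univ b) (fun j _ hj => by rw [hwout j hj, mul_zero]),
          ← Finset.sum_coe_sort] at this
        exact this
      intro i
      by_cases hi : i ∈ b
      · exact congrFun hwin ⟨i, hi⟩
      · exact hwout i hi
    refine ⟨hinj, (LinearMap.injective_iff_surjective_of_finrank_eq_finrank ?_).1 hinj⟩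
    have h := A.mulVecLin.finrank_range_add_finrank_ker
    rw [hA, hrk, Module.finrank_fintype_fun_eq_card] at h
    rw [Module.finrank_fintype_fun_eq_card, Module.finrank_fintype_fun_eq_card, Fintype.card_coe,
      Fintype.card_subtype_compl, Fintype.card_coe]
    omega

end Groth.Agent.S16400
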