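import Groth.Statements.S16401
import Mathlib.LinearAlgebra.Matrix.NonsingularInverse
import Mathlib.LinearAlgebra.Matrix.Adjugate

set_option autoImplicit false
universe u v
open CAlgX

namespace Groth.Agent.S16401

/-- Let R be a commutative ring and (E_a), a ∈ ι, a family of additive subgroups of R indexed by an
additive commutative group ι, with E_0 = R and E_a · E_b ⊆ E_{a+b}. Let β, γ : Fin r → ι be weight
vectors with Σ_j β_j = Σ_i γ_i, and let ϑ be an r × r matrix over R with ϑ_{ij} ∈ E_{γ_i − β_j} for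
all i, j and with unit determinant. Then a column vector u satisfies u_j ∈ E_{β_j} for every j if
and only if (ϑ u)_i ∈ E_{γ_i} for every i; since ϑ is invertible this says that ϑ maps the box Π_j
E_{β_j} bijectively onto the box Π_i E_{γ_i}. -/
theorem result
    {R : Type u} [CommRing R] {ι : Type v} [AddCommGroup ι]
    (E : ι → AddSubgroup R) (h0 : E 0 = ⊤)
    (hmul : ∀ a b : ι, ∀ x ∈ E a, ∀ y ∈ E b, x * y ∈ E (a + b))
    {r : ℕ} (wβ wγ : Fin r → ι) (hsum : ∑ j, wβ j = ∑ i, wγ i)
    (ϑ : Matrix (Fin r) (Fin r) R) (hϑ : ∀ i j, ϑ i j ∈ E (wγ i - wβ j))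
    (hdet : IsUnit ϑ.det) (u : Fin r → R) :
    (∀ j, u j ∈ E (wβ j)) ↔ ∀ i, ϑ.mulVec u i ∈ E (wγ i) := by
  classical
  have hsum' : ∀ {J : Type} [Fintype J] (w : J → ι) (x : J → R), (∀ j, x j ∈ E (w j)) → ∏ j, x j ∈ E (∑ j, w j) := by
    intro J _ w x hx
    induction (Finset.univ : Finset J) using Finset.induction_on with
    | empty => rw [Finset.sum_empty, h0]; trivial
    | insert j s hj ih =>
      rw [Finset.prod_insert hj, Finset.sum_insert hj]
      exact hmul _ _ _ (hx j) _ ih
  have hfwd : ∀ (wa wb : Fin r → ι) (M : Matrix (Fin r) (Fin r) R), (∀ i j, M i j ∈ E (wb i - wa j)) →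
      ∀ v : Fin r → R, (∀ j, v j ∈ E (wa j)) → ∀ i, M.mulVec v i ∈ E (wb i) := by
    intro wa wb M hM v hv i
    show ∑ j, M i j * v j ∈ E (wb i)
    refine sum_mem fun j _ => ?_
    have := hmul _ _ _ (hM i j) _ (hv j)
    rwa [sub_add_cancel] at this
  refine ⟨fun h => hfwd wβ wγ ϑ hϑ u h, fun h => ?_⟩
  have hinv : ∀ j i, ϑ⁻¹ j i ∈ E (wβ j - wγ i) := by
    intro j i
    rw [Matrix.inv_def, Matrix.smul_apply, smul_eq_mul, Matrix.adjugate_apply,
      Matrix.det_apply (ϑ.updateRow i (Pi.single j 1)), Finset.mul_sum]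
    refine sum_mem fun σ _ => ?_
    rw [Units.smul_def, zsmul_eq_mul, ← mul_assoc]
    have hr : ∀ a : R, a ∈ E 0 := fun a => h0 ▸ AddSubgroup.mem_top a
    by_cases hσ : σ j = i
    · have hprod := hsum' (fun l => if l = j then 0 else wγ (σ l) - wβ l)
        (fun l => ϑ.updateRow i (Pi.single j 1) (σ l) l) fun l => by
          by_cases hl : l = j
          · subst hl; rw [if_pos rfl]; exact hr _
          · rw [if_neg hl, Matrix.updateRow_ne (fun e => hl (σ.injective (e.trans hσ.symm)))]
            exact hϑ _ _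
      have e : ∑ l, (if l = j then 0 else wγ (σ l) - wβ l) = wβ j - wγ i := by
        rw [show (fun l => if l = j then 0 else wγ (σ l) - wβ l) =
          fun l => (wγ (σ l) - wβ l) - (if l = j then wγ (σ l) - wβ l else 0) from funext fun l => by
            split_ifs <;> simp]
        rw [Finset.sum_sub_distrib, Finset.sum_sub_distrib, Equiv.sum_comp σ wγ, hsum, sub_self, Finset.sum_ite_eq',
          if_pos (Finset.mem_univ _), hσ]
        abel
      rw [e] at hprod
      have := hmul 0 _ _ (hr (Ring.inverse ϑ.det * ((Equiv.Perm.sign σ : ℤ) : R))) _ hprod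
      rwa [zero_add] at this
    · rw [Finset.prod_eq_zero (Finset.mem_univ (σ.symm i)), mul_zero]
      · exact zero_mem _
      · rw [Equiv.apply_symm_apply, Matrix.updateRow_self, Pi.single_apply, if_neg]
        intro e
        exact hσ (by rw [← e, Equiv.apply_symm_apply])
  intro j
  have := hfwd wγ wβ ϑ⁻¹ hinv (ϑ.mulVec u) h j
  rwa [Matrix.mulVec_mulVec, Matrix.nonsing_inv_mul _ hdet, Matrix.one_mulVec] at this

end Groth.Agent.S16401
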