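import Groth.Statements.S16405


set_option autoImplicit false
universe u v
open InvQ

namespace Groth.Agent.S16405

/-- In weight form. Let b : L → ℤ^r be an injective homomorphism of abelian groups (the case in view: L
the character group of a maximal torus T of a semisimple group over ℂ and b the map dual to the
surjection of the rank-r split torus T' onto T that sends the i-th coordinate cocharacter to the
primitive generator of the i-th ray of the Weyl chamber; only the injectivity of b is used, and ℂ is
replaced by any commutative ring k). Grade the monoid algebra k[L × ℕ^r] (the coordinate ring of T ×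
𝔸^r) by ℤ^r, the monomial (w, n) having weight b(w) + n (the weights of the T'-action u·(t, v) =
(b^∨(u) t, u v)), and grade k[ℕ^r] by ℤ^r/b(L), the monomial n having weight the class of n (the
weights of the action on 𝔸^r of the diagonalizable kernel Z of T' → T, a finite group in the case in
view). For a diagonalizable group acting on an affine scheme the ring of invariants is the
weight-zero part, so the two weight-zero parts are the coordinate rings of the quotients (T ×
𝔸^r)//T' and 𝔸^r//Z. The statement: the algebra map k[L × ℕ^r] → k[ℕ^r] induced by the projection L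
× ℕ^r → ℕ^r (restriction to the slice 1 × 𝔸^r) maps the weight-zero part of k[L × ℕ^r] bijectively
onto the weight-zero part of k[ℕ^r]; hence it induces an isomorphism of k-algebras between them. -/
theorem result
    (k : Type u) [CommRing k] (r : ℕ) (L : Type v) [AddCommGroup L]
    (b : L →+ (Fin r → ℤ)) (hb : Function.Injective b) :
    Set.BijOn
      (AddMonoidAlgebra.mapDomainAlgHom k k (AddMonoidHom.snd L (Fin r → ℕ)))
      (AddMonoidAlgebra.gradeBy k
        (b.comp (AddMonoidHom.fst L (Fin r → ℕ)) +
          (AddMonoidHom.compLeft (Nat.castAddMonoidHom ℤ) (Fin r)).comp (AddMonoidHom.snd L (Fin r → ℕ))) 0 :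
        Set (AddMonoidAlgebra k (L × (Fin r → ℕ))))
      (AddMonoidAlgebra.gradeBy k
        ((QuotientAddGroup.mk' b.range).comp (AddMonoidHom.compLeft (Nat.castAddMonoidHom ℤ) (Fin r))) 0 :
        Set (AddMonoidAlgebra k (Fin r → ℕ))) := by
  classical
  set f₁ := b.comp (AddMonoidHom.fst L (Fin r → ℕ)) +
    (AddMonoidHom.compLeft (Nat.castAddMonoidHom ℤ) (Fin r)).comp (AddMonoidHom.snd L (Fin r → ℕ))
  set f₂ := (QuotientAddGroup.mk' b.range).comp (AddMonoidHom.compLeft (Nat.castAddMonoidHom ℤ) (Fin r))
  have hcoe : ∀ x : AddMonoidAlgebra k (L × (Fin r → ℕ)),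
      (AddMonoidAlgebra.mapDomainAlgHom k k (AddMonoidHom.snd L (Fin r → ℕ)) x).coeff =
        Finsupp.mapDomain Prod.snd x.coeff := fun x => rfl
  have hf₁ : ∀ p, f₁ p = b p.1 + fun i => (p.2 i : ℤ) := fun p => rfl
  have hinj : Set.InjOn (Prod.snd : L × (Fin r → ℕ) → (Fin r → ℕ)) {p | f₁ p = 0} := by
    intro p hp q hq h
    refine Prod.ext (hb ?_) h
    have hp' : f₁ p = 0 := hp
    have hq' : f₁ q = 0 := hq
    rw [hf₁] at hp' hq'
    rw [h] at hp'
    exact add_right_cancel (hp'.trans hq'.symm)
  refine ⟨fun x hx => ?_, fun x hx y hy h => ?_, fun y hy => ?_⟩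
  · intro m hm
    rw [hcoe] at hm
    obtain ⟨p, hp, rfl⟩ := Finset.mem_image.1 (Finsupp.mapDomain_support hm)
    have := hx p hp
    rw [hf₁] at this
    show QuotientAddGroup.mk' b.range (fun i => (p.2 i : ℤ)) = 0
    rw [QuotientAddGroup.mk'_apply, QuotientAddGroup.eq_zero_iff]
    exact ⟨-p.1, by rw [map_neg]; exact (eq_neg_of_add_eq_zero_right this).symm⟩
  · refine AddMonoidAlgebra.ext (Finsupp.mapDomain_injOn {p | f₁ p = 0} hinj (fun p hp => hx p hp) (fun p hp => hy p hp) ?_)
    rw [← hcoe, ← hcoe, h]
  · have hw : ∀ m ∈ y.coeff.support, ∃ w : L, b w + (fun i => (m i : ℤ)) = 0 := by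
      intro m hm
      have := hy m hm
      change QuotientAddGroup.mk' b.range (fun i => (m i : ℤ)) = 0 at this
      rw [QuotientAddGroup.mk'_apply, QuotientAddGroup.eq_zero_iff] at this
      obtain ⟨w, hw⟩ := this
      exact ⟨-w, by rw [map_neg, hw, neg_add_cancel]⟩
    choose! w hw using hw
    refine ⟨∑ m ∈ y.coeff.support, AddMonoidAlgebra.single (w m, m) (y.coeff m), ?_, ?_⟩
    · refine sum_mem fun m hm => fun p hp => ?_
      have : p = (w m, m) := Finset.mem_singleton.1 (Finsupp.support_single_subset hp)
      subst this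
      exact hw m hm
    · rw [map_sum]
      refine Eq.trans ?_ (AddMonoidAlgebra.sum_coeff_single y)
      exact Finset.sum_congr rfl fun m _ => by simp

end Groth.Agent.S16405
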