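import Groth.Statements.S16414
import Mathlib.Order.Bounds.Defs
import Mathlib.Tactic
import Mathlib.LinearAlgebra.Dual.Lemmas
import Mathlib.LinearAlgebra.BilinearForm.Properties
import Mathlib.RepresentationTheory.Invariants
import Mathlib.LinearAlgebra.Matrix.GeneralLinearGroup.Defs
import Mathlib.GroupTheory.FiniteAbelian.Basic
import Mathlib.Topology.Algebra.ClopenNhdofOne

set_option autoImplicit false
open Dieud

namespace Groth.Agent.S16414

/-- Let μ be a rational number with 0 < μ ≤ 1 and i an integer, and put f(i,j) = max(−i−j, −j, 0) for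
integers j. Then min over all integers j of f(i,j) + jμ exists and equals max(−iμ, 0). -/
theorem result (μ : ℚ) (hμ0 : 0 < μ) (hμ1 : μ ≤ 1) (i : ℤ) :
    IsLeast (Set.range fun j : ℤ => ((max (max (-i - j) (-j)) 0 : ℤ) : ℚ) + (j : ℚ) * μ)
      (max (-(i : ℚ) * μ) 0) := by
  constructor
  · rcases le_total 0 i with h | h
    · refine ⟨0, ?_⟩
      have : (max (max (-i - 0) (-0)) 0 : ℤ) = 0 := by omega
      rw [max_eq_right]
      · simp only [this]; simp
      · have : (0:ℚ) ≤ i := by exact_mod_cast h
        nlinarith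
    · refine ⟨-i, ?_⟩
      have : (max (max (-i - -i) (- -i)) 0 : ℤ) = 0 := by omega
      rw [max_eq_left]
      · simp only [this]; push_cast; ring
      · have : (i:ℚ) ≤ 0 := by exact_mod_cast h
        nlinarith
  · rintro x ⟨j, rfl⟩
    dsimp only
    have h1 : -i - j ≤ max (max (-i - j) (-j)) 0 := by omega
    have h2 : -j ≤ max (max (-i - j) (-j)) 0 := by omega
    have h3 : 0 ≤ max (max (-i - j) (-j)) 0 := by omega
    generalize max (max (-i - j) (-j)) 0 = m at *
    have h1' : -(i:ℚ) - j ≤ m := by exact_mod_cast h1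
    have h2' : -(j:ℚ) ≤ m := by exact_mod_cast h2
    have h3' : (0:ℚ) ≤ m := by exact_mod_cast h3
    apply max_le <;> nlinarith

end Groth.Agent.S16414
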