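import Groth.Statements.S16417
import Mathlib.RingTheory.WittVector.DiscreteValuationRing
import Mathlib.RingTheory.Length
import Mathlib.LinearAlgebra.TensorProduct.Quotient
import Mathlib.Algebra.Module.Torsion.Basic
import Mathlib.LinearAlgebra.Dimension.Constructions
import Mathlib.RingTheory.TensorProduct.Finite

set_option autoImplicit false
universe u v w
open Dieud

namespace Groth.Agent.S16417

/-- For a prime p and a perfect field k of characteristic p, write W = W(k) for the ring of Witt vectors
and σ for its Frobenius; let M and N be free W-modules of finite rank, each with additive maps F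
(σ-semilinear) and V (with V(σ(a)m) = aV(m)) satisfying FV = VF = p, and H = Hom_W(M, N); write VM ⊆
M and VN ⊆ N for the images of V. (a) A W-linear h : M → N maps VM into VN if and only if h(V m) =
V(h'(m)) for all m for some W-linear h' : M → N (so the maps with this property form H ∩ V·H). (b)
The natural map from H to the W-linear maps VM → N/VN has image exactly the maps vanishing on pM =
V(FM): every such map is induced by some h ∈ H. (c) The W-length of H/(H ∩ V·H) is r₂ s₁, where r₂
is the length of N/VN and s₁ = rank M − length(M/VM) is the length of VM/pM. (The published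
statement is for the Cartier modules of two p-divisible formal groups over k, every slope of the
first below every slope of the second, and phrases (b), (c) as an isomorphism of H/(H ∩ VH) with
Hom_k(VM/pM, N/VN); only the structure listed is used, so connectedness and the slope condition are
not assumed.) -/
theorem result
    (p : ℕ) [Fact p.Prime] (k : Type u) [Field k] [CharP k p] [PerfectRing k p]
    (M : Type v) [AddCommGroup M] [Module (WittVector p k) M]
    [Module.Free (WittVector p k) M] [Module.Finite (WittVector p k) M]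
    (N : Type w) [AddCommGroup N] [Module (WittVector p k) N]
    [Module.Free (WittVector p k) N] [Module.Finite (WittVector p k) N]
    (FM VM : M →+ M) (FN VN : N →+ N)
    (hFM : ∀ (a : WittVector p k) (m : M), FM (a • m) = WittVector.frobenius a • FM m)
    (hVM : ∀ (a : WittVector p k) (m : M), VM (WittVector.frobenius a • m) = a • VM m)
    (hFVM : ∀ m : M, FM (VM m) = (p : WittVector p k) • m)
    (hVFM : ∀ m : M, VM (FM m) = (p : WittVector p k) • m)
    (hFN : ∀ (a : WittVector p k) (n : N), FN (a • n) = WittVector.frobenius a • FN n)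
    (hVN : ∀ (a : WittVector p k) (n : N), VN (WittVector.frobenius a • n) = a • VN n)
    (hFVN : ∀ n : N, FN (VN n) = (p : WittVector p k) • n)
    (hVFN : ∀ n : N, VN (FN n) = (p : WittVector p k) • n)
    (r₂ s₁ : ℕ)
    (hr₂ : Module.length (WittVector p k) (N ⧸ Submodule.span (WittVector p k) (Set.range VN)) = r₂)
    (hs₁ : (Module.finrank (WittVector p k) M : ℕ∞) =
      Module.length (WittVector p k) (M ⧸ Submodule.span (WittVector p k) (Set.range VM)) + s₁) :
    (∀ h : M →ₗ[WittVector p k] N,
      (∀ m : M, h (VM m) ∈ Submodule.span (WittVector p k) (Set.range VN)) ↔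
        ∃ h' : M →ₗ[WittVector p k] N, ∀ m : M, h (VM m) = VN (h' m)) ∧
    (∀ g : Submodule.span (WittVector p k) (Set.range VM) →ₗ[WittVector p k]
        N ⧸ Submodule.span (WittVector p k) (Set.range VN),
      (∀ m : M, g ⟨VM (FM m), Submodule.subset_span ⟨FM m, rfl⟩⟩ = 0) →
      ∃ h : M →ₗ[WittVector p k] N, ∀ x : Submodule.span (WittVector p k) (Set.range VM),
        (Submodule.span (WittVector p k) (Set.range VN)).mkQ (h x) = g x) ∧
    Module.length (WittVector p k) ((M →ₗ[WittVector p k] N) ⧸
      ⨅ m : M, (Submodule.span (WittVector p k) (Set.range VN)).comap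
        (LinearMap.applyₗ (VM m) : (M →ₗ[WittVector p k] N) →ₗ[WittVector p k] N)) = (r₂ * s₁ : ℕ) := by
  classical
  let W := WittVector p k
  let σ : W →+* W := WittVector.frobenius
  have hσ : Function.Bijective σ := WittVector.frobenius_bijective p k
  have hp0 : (p : W) ≠ 0 := WittVector.p_nonzero p k
  let P : Submodule W M := Submodule.span W (Set.range VM)
  let PN : Submodule W N := Submodule.span W (Set.range VN)
  have hrange : ∀ y ∈ PN, ∃ n, VN n = y := by
    intro y hy
    induction hy using Submodule.span_induction with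
    | mem v hv => exact hv
    | zero => exact ⟨0, map_zero _⟩
    | add v w _ _ h h' => obtain ⟨a, rfl⟩ := h; obtain ⟨b, rfl⟩ := h'; exact ⟨a + b, map_add _ _ _⟩
    | smul c v _ h => obtain ⟨a, rfl⟩ := h; exact ⟨σ c • a, hVN c a⟩
  have hinj : Function.Injective VN := fun a b h => by
    have := congrArg FN h
    rw [hFVN, hFVN] at this
    exact smul_right_injective N hp0 this
  have hA : ∀ h : M →ₗ[W] N, (∀ m : M, h (VM m) ∈ PN) ↔ ∃ h' : M →ₗ[W] N, ∀ m : M, h (VM m) = VN (h' m) := by
    refine fun h => ⟨fun hh => ?_, fun ⟨h', e⟩ m => e m ▸ Submodule.subset_span ⟨_, rfl⟩⟩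
    choose y hy using fun m => hrange _ (hh m)
    refine ⟨{ toFun := y, map_add' := fun a b => hinj ?_, map_smul' := fun c a => hinj ?_ }, fun m => (hy m).symm⟩
    · rw [hy, map_add VM, map_add h, map_add VN, hy, hy]
    · obtain ⟨b, rfl⟩ := hσ.2 c
      rw [hy, hVM, map_smul, RingHom.id_apply, hVN, hy]
  -- the residue field
  let I : Ideal W := Ideal.span {(p : W)}
  haveI : I.IsMaximal := PrincipalIdealRing.isMaximal_of_irreducible (WittVector.irreducible p)
  letI : Field (W ⧸ I) := Ideal.Quotient.field I
  have hsurj : Function.Surjective (algebraMap W (W ⧸ I)) := Ideal.Quotient.mk_surjective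
  let K := W ⧸ I
  let Q := N ⧸ PN
  have hQt : Module.IsTorsionBySet W Q (I : Set W) := by
    intro x ⟨a, ha⟩
    obtain ⟨x, rfl⟩ := PN.mkQ_surjective x
    obtain ⟨c, rfl⟩ := Ideal.mem_span_singleton'.1 ha
    change (c * (p : W)) • PN.mkQ x = 0
    rw [mul_smul, ← map_smul, show PN.mkQ ((p : W) • x) = 0 from
      (Submodule.Quotient.mk_eq_zero PN).2 (hVFN x ▸ Submodule.subset_span ⟨_, rfl⟩), smul_zero]
  letI : Module K Q := hQt.module
  haveI : IsScalarTower W K Q := hQt.isScalarTower
  let π : M →ₗ[W] M ⧸ (I • ⊤ : Submodule W M) := (I • ⊤ : Submodule W M).mkQ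
  have hIM : ∀ x ∈ (I • ⊤ : Submodule W M), ∃ m, (p : W) • m = x := by
    intro x hx
    rw [Submodule.ideal_span_singleton_smul] at hx
    obtain ⟨m, -, hm⟩ := hx
    exact ⟨m, hm⟩
  have hpP : (I • ⊤ : Submodule W M) ≤ P := fun x hx => by
    obtain ⟨m, rfl⟩ := hIM x hx
    exact hVFM m ▸ Submodule.subset_span ⟨_, rfl⟩
  let R0 : Submodule K (M ⧸ (I • ⊤ : Submodule W M)) := Submodule.span K (π '' (P : Set M))
  have hR0 : R0.restrictScalars W = P.map π := by
    rw [Submodule.restrictScalars_span W K hsurj, Submodule.span_image, Submodule.span_eq]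
  let ρ : P →ₗ[W] R0 :=
    LinearMap.codRestrict (R0.restrictScalars W) (π.domRestrict P) (fun x => Submodule.subset_span ⟨x.1, x.2, rfl⟩)
  have hρs : Function.Surjective ρ := by
    rintro ⟨y, hy⟩
    obtain ⟨x, hx, rfl⟩ := (hR0 ▸ (show y ∈ R0.restrictScalars W from hy) : y ∈ P.map π)
    exact ⟨⟨x, hx⟩, rfl⟩
  have hfac : ∀ g : P →ₗ[W] Q, (∀ m : M, g ⟨VM (FM m), Submodule.subset_span ⟨FM m, rfl⟩⟩ = 0) →
      ∃ g₀ : R0 →ₗ[W] Q, g₀.comp ρ = g := by
    intro g hg
    have hker : LinearMap.ker ρ ≤ LinearMap.ker g := by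
      intro x hx
      obtain ⟨m, hm⟩ := hIM x.1 ((Submodule.Quotient.mk_eq_zero _).1 (congrArg Subtype.val hx))
      rw [LinearMap.mem_ker, show x = ⟨VM (FM m), Submodule.subset_span ⟨FM m, rfl⟩⟩ from
        Subtype.ext (hm.symm.trans (hVFM m).symm)]
      exact hg m
    exact ⟨((LinearMap.ker ρ).liftQ g hker).comp (ρ.quotKerEquivOfSurjective hρs).symm.toLinearMap,
      LinearMap.ext fun x => by
        simp only [LinearMap.comp_apply, LinearEquiv.coe_coe]
        rw [(LinearEquiv.symm_apply_eq _).2 (show ρ x = ρ.quotKerEquivOfSurjective hρs (Submodule.Quotient.mk x) from rfl),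
          Submodule.liftQ_apply]⟩
  have hB : ∀ g : P →ₗ[W] Q, (∀ m : M, g ⟨VM (FM m), Submodule.subset_span ⟨FM m, rfl⟩⟩ = 0) →
      ∃ h : M →ₗ[W] N, ∀ x : P, PN.mkQ (h x) = g x := by
    intro g hg
    obtain ⟨g₀, hg₀⟩ := hfac g hg
    obtain ⟨G, hG⟩ := LinearMap.exists_extend (g₀.extendScalarsOfSurjective hsurj)
    obtain ⟨h, hh⟩ := Module.projective_lifting_property PN.mkQ ((G.restrictScalars W).comp π) PN.mkQ_surjective
    refine ⟨h, fun x => ?_⟩
    have h1 := LinearMap.congr_fun hh x.1
    have h2 := LinearMap.congr_fun hG (ρ x)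
    rw [← hg₀]
    exact h1.trans h2
  refine ⟨hA, hB, ?_⟩
  let Φ : (M →ₗ[W] N) →ₗ[W] (P →ₗ[W] Q) :=
    { toFun := fun h => PN.mkQ.comp (h.comp P.subtype)
      map_add' := fun a b => by ext x; simp
      map_smul' := fun c a => by ext x; simp }
  have hK : (⨅ m : M, PN.comap (LinearMap.applyₗ (VM m) : (M →ₗ[W] N) →ₗ[W] N)) = LinearMap.ker Φ := by
    ext h
    rw [Submodule.mem_iInf, LinearMap.mem_ker]
    constructor
    · intro hm
      ext ⟨x, hx⟩
      refine (Submodule.Quotient.mk_eq_zero PN).2 ?_
      induction hx using Submodule.span_induction with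
      | mem v hv => obtain ⟨m, rfl⟩ := hv; exact hm m
      | zero => simp
      | add v w _ _ a b => simpa using add_mem a b
      | smul c v _ a => simpa using PN.smul_mem c a
    · intro h0 m
      exact (Submodule.Quotient.mk_eq_zero PN).1 (LinearMap.congr_fun h0 ⟨VM m, Submodule.subset_span ⟨m, rfl⟩⟩)
  let c : (R0 →ₗ[W] Q) →ₗ[W] (P →ₗ[W] Q) := LinearMap.lcomp W Q ρ
  have hc : Function.Injective c := fun a b e => LinearMap.ext fun y => by
    obtain ⟨x, rfl⟩ := hρs y
    exact LinearMap.congr_fun e x
  have hrangeΦ : LinearMap.range Φ = LinearMap.range c := by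
    refine le_antisymm ?_ ?_
    · rintro _ ⟨h, rfl⟩
      obtain ⟨g₀, e⟩ := hfac (Φ h) fun m => by
        change PN.mkQ (h (VM (FM m))) = 0
        rw [hVFM, map_smul, ← hVFN]
        exact (Submodule.Quotient.mk_eq_zero PN).2 (Submodule.subset_span ⟨_, rfl⟩)
      exact ⟨g₀, e⟩
    · rintro _ ⟨g₀, rfl⟩
      obtain ⟨h, hh⟩ := hB (c g₀) fun m => by
        change g₀ (ρ ⟨VM (FM m), _⟩) = 0
        rw [show ρ ⟨VM (FM m), _⟩ = 0 from Subtype.ext ((Submodule.Quotient.mk_eq_zero _).2 (hVFM m ▸
          Submodule.smul_mem_smul (Ideal.mem_span_singleton_self (p : W)) Submodule.mem_top)), map_zero]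
      exact ⟨h, LinearMap.ext hh⟩
  rw [(Submodule.quotEquivOfEq _ _ hK).length_eq, LinearEquiv.length_eq (R := W) (N := LinearMap.range Φ) Φ.quotKerEquivRange,
    hrangeΦ, LinearEquiv.length_eq (R := W) (M := LinearMap.range c) (N := R0 →ₗ[W] Q) (LinearEquiv.ofInjective c hc).symm,
    (LinearMap.extendScalarsOfSurjectiveEquiv (M := R0) (N := Q) hsurj).length_eq]
  haveI : Module.Finite W Q := inferInstance
  haveI : Module.Finite K Q := Module.Finite.of_restrictScalars_finite W K Q
  haveI : Module.Finite K (M ⧸ (I • ⊤ : Submodule W M)) := Module.Finite.of_restrictScalars_finite W K _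
  have hQ : Module.finrank K Q = r₂ := by
    have h := hr₂
    rw [Module.length_eq_of_surjective hsurj, Module.length_eq_finrank] at h
    exact_mod_cast h
  have hMb : Module.finrank K (M ⧸ (I • ⊤ : Submodule W M)) = Module.finrank W M := by
    have h := (TensorProduct.quotTensorEquivQuotSMul M I).length_eq
    rw [Module.length_eq_of_surjective hsurj, Module.length_eq_of_surjective hsurj,
      Module.length_eq_finrank, Module.length_eq_finrank, Module.finrank_baseChange] at h
    exact_mod_cast h.symm
  have hR : Module.finrank K R0 = s₁ := by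
    let φ : (M ⧸ (I • ⊤ : Submodule W M)) →ₗ[W] M ⧸ P := (I • ⊤ : Submodule W M).liftQ P.mkQ (by rwa [Submodule.ker_mkQ])
    have hex : Function.Exact (R0.subtype.restrictScalars W) φ := by
      rw [LinearMap.exact_iff]
      ext y
      obtain ⟨x, rfl⟩ := (I • ⊤ : Submodule W M).mkQ_surjective y
      rw [LinearMap.mem_ker, LinearMap.mem_range]
      constructor
      · intro hx
        exact ⟨ρ ⟨x, (Submodule.Quotient.mk_eq_zero P).1 hx⟩, rfl⟩
      · rintro ⟨z, hz⟩
        obtain ⟨⟨w, hw⟩, rfl⟩ := hρs z
        rw [← hz]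
        exact (Submodule.Quotient.mk_eq_zero P).2 hw
    have h := Module.length_eq_add_of_exact (R0.subtype.restrictScalars W) φ R0.injective_subtype
      (fun y => by obtain ⟨x, rfl⟩ := P.mkQ_surjective y; exact ⟨π x, rfl⟩) hex
    rw [Module.length_eq_of_surjective hsurj, Module.length_eq_of_surjective (M := R0) hsurj,
      Module.length_eq_finrank, Module.length_eq_finrank, hMb, hs₁, add_comm] at h
    exact_mod_cast ((ENat.add_right_injective_of_ne_top
      (ne_top_of_le_ne_top (ENat.coe_ne_top _) (hs₁ ▸ le_self_add))) ((add_comm _ _).trans (h.symm.trans (add_comm _ _))))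
  rw [Module.length_eq_of_surjective hsurj, Module.length_eq_finrank, Module.finrank_linearMap, hR, hQ, mul_comm]

end Groth.Agent.S16417
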