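import Groth.Statements.S16418
import Mathlib

set_option autoImplicit false
universe u v
open Dieud

namespace Groth.Agent.S16418

/-- Step of the proof: for a prime p and a perfect field k of characteristic p, write W = W(k) and σ for
its Frobenius; let M be a W-module with additive maps F (σ-semilinear) and V (with V(σ(a)m) = aV(m))
such that FV = VF = p, V is injective, ⋂_n V^n M = 0 and M/VM is finitely generated over W. Put M₁ =
{x ∈ M : for every n there is m with V^m x ∈ F^n M} and M₂ = {x ∈ M : F^n x = 0 for some n}. Then M₂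
is killed by a single power of F, and F is injective on M₁. (The published text makes these
assertions inside a proof, for the V-reduced Cartier module of a connected smooth formal group of
finite dimension over k; only the listed structure is used, and V-adic completeness is not needed.) -/
theorem result
    (p : ℕ) [Fact p.Prime] (k : Type u) [Field k] [CharP k p] [PerfectRing k p]
    (M : Type v) [AddCommGroup M] [Module (WittVector p k) M]
    (F V : M →+ M)
    (hF : ∀ (a : WittVector p k) (m : M), F (a • m) = WittVector.frobenius a • F m)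
    (hV : ∀ (a : WittVector p k) (m : M), V (WittVector.frobenius a • m) = a • V m)
    (hFV : ∀ m : M, F (V m) = (p : WittVector p k) • m)
    (hVF : ∀ m : M, V (F m) = (p : WittVector p k) • m)
    (hVinj : Function.Injective V)
    (hsep : ∀ x : M, (∀ n : ℕ, ∃ y : M, x = (⇑V)^[n] y) → x = 0)
    (hfin : Module.Finite (WittVector p k) (M ⧸ Submodule.span (WittVector p k) (Set.range V))) :
    (∃ c : ℕ, ∀ x : M, (∃ n : ℕ, (⇑F)^[n] x = 0) → (⇑F)^[c] x = 0) ∧
    (∀ x : M, (∀ n : ℕ, ∃ (m : ℕ) (y : M), (⇑V)^[m] x = (⇑F)^[n] y) → F x = 0 → x = 0) := by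
  set W := WittVector p k
  have hcomm : Function.Commute (⇑F) (⇑V) := fun m => (hFV m).trans (hVF m).symm
  let Kn : ℕ → Submodule W M := fun n =>
    { carrier := {x | (⇑F)^[n] x = 0}
      zero_mem' := iterate_map_zero F n
      add_mem' := fun {a b} ha hb => by
        show (⇑F)^[n] (a + b) = 0
        rw [iterate_map_add, show (⇑F)^[n] a = 0 from ha, show (⇑F)^[n] b = 0 from hb, add_zero]
      smul_mem' := fun r x hx => by
        have : ∀ n, (⇑F)^[n] (r • x) = (⇑(WittVector.frobenius : W →+* W))^[n] r • (⇑F)^[n] x := fun n => by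
          induction n with
          | zero => rfl
          | succ n ih => rw [Function.iterate_succ_apply', ih, hF, Function.iterate_succ_apply', Function.iterate_succ_apply']
        show (⇑F)^[n] (r • x) = 0
        rw [this, show (⇑F)^[n] x = 0 from hx, smul_zero] }
  have hmono : Monotone Kn := monotone_nat_of_le_succ fun n x (hx : (⇑F)^[n] x = 0) => by
    show (⇑F)^[n + 1] x = 0
    rw [Function.iterate_succ_apply', hx, map_zero]
  set Q := Submodule.span W (Set.range V)
  haveI : IsNoetherianRing W := inferInstance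
  obtain ⟨c, hc⟩ := monotone_stabilizes_iff_noetherian.2 (inferInstance : IsNoetherian W (M ⧸ Q))
    ⟨fun n => (Kn n).map Q.mkQ, fun a b hab => Submodule.map_mono (hmono hab)⟩
  have hQ : ∀ z ∈ Q, ∃ w, V w = z := fun z hz => by
    induction hz using Submodule.span_induction with
    | mem z hz => exact hz
    | zero => exact ⟨0, map_zero V⟩
    | add a b _ _ ha hb =>
      obtain ⟨u, rfl⟩ := ha; obtain ⟨v, rfl⟩ := hb
      exact ⟨u + v, map_add V u v⟩
    | smul r a _ ha =>
      obtain ⟨u, rfl⟩ := ha
      exact ⟨WittVector.frobenius r • u, hV r u⟩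
  have hVit : ∀ m, Function.Injective ((⇑V)^[m]) := fun m => hVinj.iterate m
  have hmain : ∀ j x, (∃ n, (⇑F)^[n] x = 0) → ∃ z, (⇑F)^[c] x = (⇑V)^[j] ((⇑F)^[c] z) ∧ ∃ n, (⇑F)^[n] z = 0 := by
    intro j
    induction j with
    | zero => exact fun x hx => ⟨x, rfl, hx⟩
    | succ j ih =>
      intro x hx
      obtain ⟨z, hz, n, hzn⟩ := ih x hx
      have hz' : Q.mkQ z ∈ (Kn c).map Q.mkQ := by
        rcases le_total n c with hnc | hcn
        · exact ⟨z, hmono hnc hzn, rfl⟩
        · rw [show (Kn c).map Q.mkQ = (Kn n).map Q.mkQ from hc n hcn]; exact ⟨z, hzn, rfl⟩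
      obtain ⟨z0, hz0, hz0'⟩ := hz'
      obtain ⟨w, hw⟩ := hQ (z - z0) (by
        rw [← Submodule.Quotient.mk_eq_zero, Submodule.Quotient.mk_sub, sub_eq_zero]; exact hz0'.symm)
      have hwn : (⇑F)^[max n c] w = 0 := by
        refine hVinj ?_
        rw [map_zero, ← (hcomm.iterate_left (max n c)).eq w, hw, iterate_map_sub]
        have a1 : (⇑F)^[max n c] z = 0 := hmono (le_max_left n c) hzn
        have a2 : (⇑F)^[max n c] z0 = 0 := hmono (le_max_right n c) hz0
        rw [a1, a2, sub_zero]
      have hFz : (⇑F)^[c] z = V ((⇑F)^[c] w) := by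
        rw [← (hcomm.iterate_left c).eq w, hw, iterate_map_sub, show (⇑F)^[c] z0 = 0 from hz0, sub_zero]
      exact ⟨w, by rw [hz, hFz, ← Function.iterate_succ_apply], _, hwn⟩
  have h1 : ∀ x : M, (∃ n : ℕ, (⇑F)^[n] x = 0) → (⇑F)^[c] x = 0 := by
    intro x hn
    refine hsep _ fun j => ?_
    obtain ⟨z, hz, -⟩ := hmain j x hn
    exact ⟨_, hz⟩
  refine ⟨⟨c, h1⟩, fun x hx hFx => ?_⟩
  obtain ⟨m, y, hy⟩ := hx c
  have h2 : (⇑F)^[c + 1] y = 0 := by
    rw [Function.iterate_succ_apply', ← hy, (hcomm.iterate_right m).eq x, hFx, iterate_map_zero]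
  rw [h1 y ⟨_, h2⟩] at hy
  exact hVit m (hy.trans (iterate_map_zero V m).symm)

end Groth.Agent.S16418
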