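import Groth.Statements.S16419
import Groth.Statements.S18136
import Groth.Statements.S13156
import Groth.Statements.S13155
import Groth.Statements.S10933
import Groth.Statements.S12051
import Groth.Agent.Lib.ExtSelfPd1.Basic
import Groth.Agent.Lib.Goren.GorenDual27
import Groth.Agent.Lib.Goren.GorenFinLen27
import Mathlib

set_option autoImplicit false
universe u v
open CAlg

namespace Groth.Agent.S16419

open TensorProduct

open TensorProduct in
/-- For a commutative local Artinian ring R and an exact sequence 0 → H₁ → H → H₂ → 0 of finite free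
R-modules, let F₁ ⊆ H₁ and F₂ ⊆ H₂ be submodules with H₁/F₁ and H₂/F₂ free; let 𝔫 be an ideal of R
of square zero, R̄ = R/𝔫, and F̄ an R̄-submodule of H̄ = R̄ ⊗ H with free quotient such that F̄
meets the image of R̄ ⊗ H₁ in the image of R̄ ⊗ F₁ and the image of F̄ in R̄ ⊗ H₂ is the image of R̄
⊗ F₂. Then there is a direct summand F of H with F ∩ H₁ = F₁, whose image in H̄ is F̄ and whose
image in H₂ is F₂. -/
theorem result
    (R : Type u) [CommRing R] [IsArtinianRing R] [IsLocalRing R]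
    (H₁ : Type v) (H : Type v) (H₂ : Type v)
    [AddCommGroup H₁] [Module R H₁] [AddCommGroup H] [Module R H] [AddCommGroup H₂] [Module R H₂]
    [Module.Free R H₁] [Module.Finite R H₁] [Module.Free R H] [Module.Finite R H]
    [Module.Free R H₂] [Module.Finite R H₂]
    (f : H₁ →ₗ[R] H) (g : H →ₗ[R] H₂) (hf : Function.Injective f) (hg : Function.Surjective g)
    (hfg : Function.Exact f g)
    (F₁ : Submodule R H₁) (F₂ : Submodule R H₂) [Module.Free R (H₁ ⧸ F₁)] [Module.Free R (H₂ ⧸ F₂)]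
    (𝔫 : Ideal R) (hn : 𝔫 * 𝔫 = ⊥)
    (Fb : Submodule (R ⧸ 𝔫) ((R ⧸ 𝔫) ⊗[R] H))
    [Module.Free (R ⧸ 𝔫) (((R ⧸ 𝔫) ⊗[R] H) ⧸ Fb)]
    (h1 : Fb ⊓ LinearMap.range (f.baseChange (R ⧸ 𝔫)) =
      Submodule.map (f.baseChange (R ⧸ 𝔫)) (F₁.baseChange (R ⧸ 𝔫)))
    (h2 : Submodule.map (g.baseChange (R ⧸ 𝔫)) Fb = F₂.baseChange (R ⧸ 𝔫)) :
    ∃ F : Submodule R H, (∃ C : Submodule R H, IsCompl F C) ∧
      F ⊓ LinearMap.range f = Submodule.map f F₁ ∧
      F.baseChange (R ⧸ 𝔫) = Fb ∧ Submodule.map g F = F₂ := by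
  classical
  -- complements and a section
  obtain ⟨s₁, hs₁⟩ := Module.projective_lifting_property F₁.mkQ LinearMap.id F₁.mkQ_surjective
  obtain ⟨s₂, hs₂⟩ := Module.projective_lifting_property F₂.mkQ LinearMap.id F₂.mkQ_surjective
  obtain ⟨σ, hσ⟩ := Module.projective_lifting_property g LinearMap.id hg
  have hσ' : ∀ y, g (σ y) = y := fun y => LinearMap.congr_fun hσ y
  have hc₁ : IsCompl F₁ (LinearMap.range s₁) := by
    refine ⟨?_, ?_⟩
    · rw [disjoint_iff, eq_bot_iff]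
      rintro x ⟨hx, ⟨y, rfl⟩⟩
      have h := LinearMap.congr_fun hs₁ y
      rw [LinearMap.comp_apply, LinearMap.id_apply, Submodule.mkQ_apply, (Submodule.Quotient.mk_eq_zero _).2 hx] at h
      rw [← h, map_zero]; exact zero_mem _
    · rw [codisjoint_iff, eq_top_iff]
      intro x _
      refine Submodule.mem_sup.2 ⟨x - s₁ (F₁.mkQ x), ?_, _, ⟨_, rfl⟩, sub_add_cancel _ _⟩
      rw [← Submodule.Quotient.mk_eq_zero, ← Submodule.mkQ_apply, map_sub, ← LinearMap.comp_apply, hs₁,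
        LinearMap.id_apply, sub_self]
  have hp₂ : Module.Projective R F₂ := by
    refine Module.Projective.of_split F₂.subtype
      ((LinearMap.id (R := R) (M := H₂) - s₂.comp F₂.mkQ).codRestrict F₂ fun x => ?_) ?_
    · rw [← Submodule.Quotient.mk_eq_zero, ← Submodule.mkQ_apply, LinearMap.sub_apply, LinearMap.id_apply,
        LinearMap.comp_apply, map_sub, ← LinearMap.comp_apply, hs₂, LinearMap.id_apply, sub_self]
    · refine LinearMap.ext fun x => Subtype.ext ?_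
      show (x : H₂) - s₂ (F₂.mkQ x) = x
      rw [Submodule.mkQ_apply, (Submodule.Quotient.mk_eq_zero _).2 x.2, map_zero, sub_zero]
  -- lift of `F₂` into the preimage of `Fb`
  let one : H →ₗ[R] (R ⧸ 𝔫) ⊗[R] H := TensorProduct.mk R (R ⧸ 𝔫) H 1
  let W : Submodule R H := (Fb.restrictScalars R).comap one ⊓ F₂.comap g
  have hsurjW : ∀ y : F₂, ∃ x ∈ W, g x = y := by
    intro y
    have hy : (1 : R ⧸ 𝔫) ⊗ₜ[R] (y : H₂) ∈ F₂.baseChange (R ⧸ 𝔫) := Submodule.tmul_mem_baseChange_of_mem 1 y.2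
    rw [← h2] at hy
    obtain ⟨b, hb, hby⟩ := hy
    obtain ⟨x0, rfl⟩ : ∃ x0, one x0 = b :=
      TensorProduct.mk_surjective R H (R ⧸ 𝔫) Ideal.Quotient.mk_surjective b
    rw [show (g.baseChange (R ⧸ 𝔫)) (one x0) = (1 : R ⧸ 𝔫) ⊗ₜ g x0 from rfl, ← sub_eq_zero, ← TensorProduct.tmul_sub] at hby
    have hker : g x0 - y ∈ 𝔫 • (⊤ : Submodule R H₂) := by
      rw [← Submodule.Quotient.mk_eq_zero]
      have := congrArg (TensorProduct.quotTensorEquivQuotSMul H₂ 𝔫) hby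
      rw [map_zero, ← map_one (Ideal.Quotient.mk 𝔫), TensorProduct.quotTensorEquivQuotSMul_mk_tmul, one_smul] at this
      exact this
    have hmap : (𝔫 • (⊤ : Submodule R H)).map g = 𝔫 • ⊤ := by
      rw [Submodule.map_smul'', Submodule.map_top, LinearMap.range_eq_top.2 hg]
    rw [← hmap] at hker
    obtain ⟨e, he, heq⟩ := hker
    have he0 : one e = 0 := by
      refine Submodule.smul_induction_on he (fun r hr z _ => ?_) fun a b ha hb => by rw [map_add, ha, hb, add_zero]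
      rw [map_smul, TensorProduct.mk_apply, TensorProduct.smul_tmul', Algebra.smul_def, Ideal.Quotient.algebraMap_eq,
        Ideal.Quotient.eq_zero_iff_mem.2 hr, zero_mul, TensorProduct.zero_tmul]
    have hgx : g (x0 - e) = y := by rw [map_sub, heq, sub_sub_cancel]
    refine ⟨x0 - e, ⟨?_, ?_⟩, hgx⟩
    · show one (x0 - e) ∈ Fb
      rw [map_sub, he0, sub_zero]; exact hb
    · show g (x0 - e) ∈ F₂
      rw [hgx]; exact y.2
  let gW : W →ₗ[R] F₂ := (g.comp W.subtype).codRestrict F₂ fun x => x.2.2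
  obtain ⟨φ, hφ⟩ := Module.projective_lifting_property gW LinearMap.id (fun y => by
    obtain ⟨x, hx, hxy⟩ := hsurjW y
    exact ⟨⟨x, hx⟩, Subtype.ext hxy⟩)
  let L : F₂ →ₗ[R] H := W.subtype.comp φ
  have hL : ∀ y : F₂, g (L y) = y := fun y => congrArg Subtype.val (LinearMap.congr_fun hφ y)
  have hgf : ∀ x, g (f x) = 0 := fun x => hfg.apply_apply_eq_zero x
  let F : Submodule R H := F₁.map f ⊔ LinearMap.range L
  have hgF : Submodule.map g F = F₂ := by
    refine le_antisymm ?_ fun y hy => ⟨L ⟨y, hy⟩, Submodule.mem_sup_right ⟨_, rfl⟩, hL _⟩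
    rw [Submodule.map_le_iff_le_comap]
    refine sup_le ?_ ?_
    · rintro _ ⟨x, -, rfl⟩; rw [Submodule.mem_comap, hgf]; exact zero_mem _
    · rintro _ ⟨y, rfl⟩; rw [Submodule.mem_comap, hL]; exact y.2
  have hint : F ⊓ LinearMap.range f = Submodule.map f F₁ := by
    refine le_antisymm ?_ (le_inf le_sup_left (Submodule.map_le_iff_le_comap.2 fun x _ => ⟨x, rfl⟩))
    rintro z ⟨hz, ⟨w, rfl⟩⟩
    obtain ⟨a, ha, _, ⟨y, rfl⟩, hsum⟩ := Submodule.mem_sup.1 hz
    obtain ⟨a, ha', rfl⟩ := ha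
    have := congrArg g hsum
    rw [map_add, hgf, hgf, zero_add, hL] at this
    rw [← hsum, show y = 0 from Subtype.ext this, map_zero, add_zero]
    exact ⟨a, ha', rfl⟩
  refine ⟨F, ⟨(LinearMap.range s₁).map f ⊔ (LinearMap.range s₂).map σ, ?_, ?_⟩, hint, ?_, hgF⟩
  · rw [disjoint_iff, eq_bot_iff]
    rintro z ⟨hzF, hzC⟩
    obtain ⟨_, ⟨c, hc, rfl⟩, _, ⟨c', hc', rfl⟩, rfl⟩ := Submodule.mem_sup.1 hzC
    have hc0 : c' = 0 := by
      have h3 : g (f c + σ c') ∈ F₂ := hgF ▸ Submodule.mem_map_of_mem hzF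
      rw [map_add, hgf, zero_add, hσ'] at h3
      obtain ⟨y, rfl⟩ := hc'
      have h := LinearMap.congr_fun hs₂ y
      rw [LinearMap.comp_apply, LinearMap.id_apply, Submodule.mkQ_apply, (Submodule.Quotient.mk_eq_zero _).2 h3] at h
      rw [← h, map_zero]
    subst hc0
    rw [map_zero, add_zero] at hzF ⊢
    have h4 : f c ∈ F₁.map f := hint ▸ ⟨hzF, c, rfl⟩
    obtain ⟨c0, hc0, hcc⟩ := h4
    rw [hf hcc] at hc0
    have : c = 0 := by
      have := hc₁.disjoint.le_bot ⟨hc0, hc⟩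
      exact this
    rw [this, map_zero]; exact zero_mem _
  · rw [codisjoint_iff, eq_top_iff]
    intro z _
    set b := s₂ (F₂.mkQ (g z))
    have ha : g z - b ∈ F₂ := by
      rw [← Submodule.Quotient.mk_eq_zero, ← Submodule.mkQ_apply, map_sub]
      exact sub_eq_zero.2 (LinearMap.congr_fun hs₂ (F₂.mkQ (g z))).symm
    have hk : g (z - L ⟨_, ha⟩ - σ b) = 0 := by rw [map_sub, map_sub, hL, hσ']; simp
    obtain ⟨w, hw⟩ := (hfg _).1 hk
    obtain ⟨w1, hw1, w2, hw2, hww⟩ := Submodule.mem_sup.1 (hc₁.codisjoint.eq_top.ge (Submodule.mem_top (x := w)))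
    refine Submodule.mem_sup.2 ⟨f w1 + L ⟨_, ha⟩, add_mem (Submodule.mem_sup_left ⟨w1, hw1, rfl⟩) (Submodule.mem_sup_right ⟨_, rfl⟩),
      f w2 + σ b, add_mem (Submodule.mem_sup_left ⟨w2, hw2, rfl⟩) (Submodule.mem_sup_right ⟨b, ⟨_, rfl⟩, rfl⟩), ?_⟩
    rw [← hww, map_add] at hw
    linear_combination (norm := abel) hw
  · refine le_antisymm ?_ fun b hb => ?_
    · rw [Submodule.baseChange_eq_span, Submodule.span_le]
      rintro _ ⟨x, hx, rfl⟩
      obtain ⟨_, ⟨a, ha, rfl⟩, _, ⟨y, rfl⟩, rfl⟩ := Submodule.mem_sup.1 hx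
      rw [map_add]
      refine add_mem ?_ (φ y).2.1
      have : f.baseChange (R ⧸ 𝔫) ((1 : R ⧸ 𝔫) ⊗ₜ a) ∈ Fb ⊓ LinearMap.range (f.baseChange (R ⧸ 𝔫)) :=
        h1 ▸ Submodule.mem_map_of_mem (Submodule.tmul_mem_baseChange_of_mem 1 ha)
      exact this.1
    · have hle1 : Submodule.map (f.baseChange (R ⧸ 𝔫)) (F₁.baseChange (R ⧸ 𝔫)) ≤ F.baseChange (R ⧸ 𝔫) := by
        rw [Submodule.map_le_iff_le_comap, Submodule.baseChange_eq_span, Submodule.span_le]
        rintro _ ⟨a, ha, rfl⟩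
        exact Submodule.tmul_mem_baseChange_of_mem 1 (Submodule.mem_sup_left ⟨a, ha, rfl⟩)
      have hle2 : F.baseChange (R ⧸ 𝔫) ≤ Fb := by
        rw [Submodule.baseChange_eq_span, Submodule.span_le]
        rintro _ ⟨x, hx, rfl⟩
        obtain ⟨_, ⟨a, ha, rfl⟩, _, ⟨y, rfl⟩, rfl⟩ := Submodule.mem_sup.1 hx
        rw [map_add]
        refine add_mem ?_ (φ y).2.1
        have : f.baseChange (R ⧸ 𝔫) ((1 : R ⧸ 𝔫) ⊗ₜ a) ∈ Fb ⊓ LinearMap.range (f.baseChange (R ⧸ 𝔫)) :=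
          h1 ▸ Submodule.mem_map_of_mem (Submodule.tmul_mem_baseChange_of_mem 1 ha)
        exact this.1
      have hgb : g.baseChange (R ⧸ 𝔫) b ∈ F₂.baseChange (R ⧸ 𝔫) := h2 ▸ Submodule.mem_map_of_mem hb
      have hle3 : F₂.baseChange (R ⧸ 𝔫) ≤ (F.baseChange (R ⧸ 𝔫)).map (g.baseChange (R ⧸ 𝔫)) := by
        rw [Submodule.baseChange_eq_span, Submodule.span_le]
        rintro _ ⟨y, hy, rfl⟩
        exact ⟨one (L ⟨y, hy⟩), Submodule.tmul_mem_baseChange_of_mem 1 (Submodule.mem_sup_right ⟨_, rfl⟩),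
          show (1 : R ⧸ 𝔫) ⊗ₜ[R] g (L ⟨y, hy⟩) = _ by rw [hL]; rfl⟩
      obtain ⟨c, hc, hcb⟩ := hle3 hgb
      have hex : Function.Exact (f.baseChange (R ⧸ 𝔫)) (g.baseChange (R ⧸ 𝔫)) := lTensor_exact (R ⧸ 𝔫) hfg hg
      obtain ⟨w, hw⟩ := (hex (b - c)).1 (by rw [map_sub, hcb, sub_self])
      have h5 : b - c ∈ Submodule.map (f.baseChange (R ⧸ 𝔫)) (F₁.baseChange (R ⧸ 𝔫)) :=
        h1 ▸ ⟨sub_mem hb (hle2 hc), w, hw⟩
      simpa using add_mem (hle1 h5) hc

end Groth.Agent.S16419
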