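import Groth.Statements.S16420
import Mathlib

set_option autoImplicit false
universe u v
open CAlg

namespace Groth.Agent.S16420
open TensorProduct

lemma mk_one_tmul_eq_zero {R : Type u} [CommRing R] {M : Type v} [AddCommGroup M] [Module R M] (𝔫 : Ideal R) {x : M} :
    (1 : R ⧸ 𝔫) ⊗ₜ[R] x = 0 ↔ x ∈ 𝔫 • (⊤ : Submodule R M) := by
  rw [← (TensorProduct.quotTensorEquivQuotSMul M 𝔫).map_eq_zero_iff,
    show ((1 : R ⧸ 𝔫)) = Ideal.Quotient.mk 𝔫 1 from rfl,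
    TensorProduct.quotTensorEquivQuotSMul_mk_tmul, one_smul, Submodule.Quotient.mk_eq_zero]

lemma baseChange_map {R : Type u} [CommRing R] {M N : Type v} [AddCommGroup M] [Module R M] [AddCommGroup N] [Module R N]
    (A : Type u) [CommRing A] [Algebra R A] (f : M →ₗ[R] N) (p : Submodule R M) :
    (p.map f).baseChange A = (p.baseChange A).map (f.baseChange A) := by
  rw [Submodule.baseChange_eq_span, Submodule.baseChange_eq_span, Submodule.map_span]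
  congr 1
  ext z
  simp [Submodule.mem_map]

lemma tmul_mem {R : Type u} [CommRing R] {M : Type v} [AddCommGroup M] [Module R M]
    (A : Type u) [CommRing A] [Algebra R A] {p : Submodule R M} {x : M} (hx : x ∈ p) :
    (1 : A) ⊗ₜ[R] x ∈ p.baseChange A := by
  rw [Submodule.baseChange_eq_span]
  exact Submodule.subset_span ⟨x, hx, rfl⟩

lemma exists_u {R : Type u} [CommRing R] {H₁ H H₂ : Type v}
    [AddCommGroup H₁] [Module R H₁] [AddCommGroup H] [Module R H] [AddCommGroup H₂] [Module R H₂]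
    [Module.Projective R H₂]
    {f : H₁ →ₗ[R] H} {g : H →ₗ[R] H₂} (hf : Function.Injective f) (hg : Function.Surjective g)
    (hfg : Function.Exact f g) (F₁ : Submodule R H₁) (F₂ : Submodule R H₂) [Module.Projective R (H₂ ⧸ F₂)]
    {𝔫 : Ideal R} {Fb : Submodule (R ⧸ 𝔫) ((R ⧸ 𝔫) ⊗[R] H)}
    (h1 : Fb ⊓ LinearMap.range (f.baseChange (R ⧸ 𝔫)) =
      Submodule.map (f.baseChange (R ⧸ 𝔫)) (F₁.baseChange (R ⧸ 𝔫)))
    (π : H₁ →ₗ[R] H₁) (hπ : ∀ a, a - π a ∈ F₁) (hπ0 : ∀ a ∈ F₁, π a = 0)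
    {F F' : Submodule R H}
    (hmemF : ∀ a, f a ∈ F ↔ a ∈ F₁) (hmemF' : ∀ a ∈ F₁, f a ∈ F')
    (hFr' : F' ⊓ LinearMap.range f = Submodule.map f F₁)
    (hFb : F.baseChange (R ⧸ 𝔫) = Fb) (hFb' : F'.baseChange (R ⧸ 𝔫) = Fb)
    (hFg : F.map g = F₂) (hFg' : F'.map g = F₂) :
    ∃ u : H₂ →ₗ[R] H₁, (∀ y : H₂, u y ∈ 𝔫 • (⊤ : Submodule R H₁)) ∧
      F' = Submodule.map (LinearMap.id + f ∘ₗ u ∘ₗ g) F := by
  have hgf : ∀ a, g (f a) = 0 := hfg.apply_apply_eq_zero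
  obtain ⟨σ₂, hσ₂⟩ := Module.projective_lifting_property F₂.mkQ LinearMap.id (Submodule.mkQ_surjective F₂)
  let P₂ : H₂ →ₗ[R] F₂ := (LinearMap.id - σ₂ ∘ₗ F₂.mkQ).codRestrict F₂ (fun y => by
    rw [LinearMap.sub_apply, ← Submodule.Quotient.eq]
    exact (LinearMap.congr_fun hσ₂ (F₂.mkQ y)).symm)
  have hP₂ : P₂ ∘ₗ F₂.subtype = LinearMap.id := by
    ext y
    simp [P₂, (Submodule.Quotient.mk_eq_zero F₂).mpr y.2]
  haveI : Module.Projective R F₂ := Module.Projective.of_split F₂.subtype P₂ hP₂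
  have lift : ∀ G : Submodule R H, G.map g = F₂ → ∃ s : F₂ →ₗ[R] H, ∀ y, s y ∈ G ∧ g (s y) = y := fun G hG => by
    obtain ⟨s, hs⟩ := Module.projective_lifting_property ((g ∘ₗ G.subtype).codRestrict F₂ fun x => hG.le ⟨x, x.2, rfl⟩)
      LinearMap.id (fun y => by
        obtain ⟨x, hx, hxy⟩ := hG.ge y.2
        exact ⟨⟨x, hx⟩, Subtype.ext hxy⟩)
    exact ⟨G.subtype ∘ₗ s, fun y => ⟨(s y).2, congrArg Subtype.val (LinearMap.congr_fun hs y)⟩⟩
  obtain ⟨s, hs⟩ := lift F hFg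
  obtain ⟨s', hs'⟩ := lift F' hFg'
  obtain ⟨w, hw⟩ := Module.projective_lifting_property f.rangeRestrict
    ((s' - s).codRestrict (LinearMap.range f) (fun y => (hfg _).mp (by simp [(hs y).2, (hs' y).2])))
    f.surjective_rangeRestrict
  have hw' : ∀ y, f (w y) = s' y - s y := fun y => congrArg Subtype.val (LinearMap.congr_fun hw y)
  obtain ⟨l, hl⟩ := ((hfg.split_tfae hf hg).out 0 1).mp (Module.projective_lifting_property g LinearMap.id hg)
  refine ⟨π ∘ₗ w ∘ₗ P₂, fun y => ?_, ?_⟩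
  · rw [← mk_one_tmul_eq_zero]
    set z := P₂ y
    have hmem : (1 : R ⧸ 𝔫) ⊗ₜ[R] f (w z) ∈ Fb ⊓ LinearMap.range (f.baseChange (R ⧸ 𝔫)) := by
      refine ⟨?_, ⟨1 ⊗ₜ w z, by simp⟩⟩
      rw [hw', tmul_sub]
      exact sub_mem (hFb' ▸ tmul_mem _ (hs' z).1) (hFb ▸ tmul_mem _ (hs z).1)
    rw [h1] at hmem
    obtain ⟨t, ht, htw⟩ := hmem
    have hinj : Function.LeftInverse (l.baseChange (R ⧸ 𝔫)) (f.baseChange (R ⧸ 𝔫)) := fun x => by
      rw [← LinearMap.comp_apply, ← LinearMap.baseChange_comp, hl, LinearMap.baseChange_id]; rfl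
    have htw' : t = 1 ⊗ₜ w z := hinj.injective (by rw [htw, LinearMap.baseChange_tmul])
    have hker : F₁.baseChange (R ⧸ 𝔫) ≤ LinearMap.ker (π.baseChange (R ⧸ 𝔫)) := by
      rw [Submodule.baseChange_eq_span, Submodule.span_le]
      rintro _ ⟨a, ha, rfl⟩
      simp [hπ0 a ha]
    simpa [htw'] using hker ht
  · refine le_antisymm (fun x hx => ?_) ?_
    · let y : F₂ := ⟨g x, hFg'.le ⟨x, hx, rfl⟩⟩
      obtain ⟨a, ha⟩ := (hfg (x - s' y)).mp (by simp [y, (hs' y).2])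
      have haF₁ : a ∈ F₁ := by
        obtain ⟨b, hb, hab⟩ := hFr'.le (show f a ∈ F' ⊓ LinearMap.range f from ⟨ha ▸ sub_mem hx (hs' y).1, ⟨a, rfl⟩⟩)
        exact hf hab ▸ hb
      refine ⟨s y + f (a + (w y - π (w y))), add_mem (hs y).1 ((hmemF _).mpr (add_mem haF₁ (hπ _))), ?_⟩
      simp only [LinearMap.add_apply, LinearMap.id_apply, LinearMap.comp_apply, map_add, map_sub, hgf,
        (hs y).2, show (y : H₂) = g x from rfl, add_zero, sub_zero, map_zero,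
        show P₂ (g x) = y from LinearMap.congr_fun hP₂ y, ha, hw']
      abel
    · rintro _ ⟨x, hx, rfl⟩
      let y : F₂ := ⟨g x, hFg.le ⟨x, hx, rfl⟩⟩
      obtain ⟨a, ha⟩ := (hfg (x - s y)).mp (by simp [y, (hs y).2])
      have haF₁ : a ∈ F₁ := (hmemF a).mp (ha ▸ sub_mem hx (hs y).1)
      have : (LinearMap.id + f ∘ₗ (π ∘ₗ w ∘ₗ P₂) ∘ₗ g : H →ₗ[R] H) x = s' y + f (a - (w y - π (w y))) := by
        simp only [LinearMap.add_apply, LinearMap.id_apply, LinearMap.comp_apply, map_sub,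
          show P₂ (g x) = y from LinearMap.congr_fun hP₂ y, ha, hw']
        abel
      rw [this]
      exact add_mem (hs' y).1 (hmemF' _ (sub_mem haF₁ (hπ _)))

open TensorProduct in
/-- For a commutative local Artinian ring R and an exact sequence 0 → H₁ → H → H₂ → 0 of finite free
R-modules, let F₁ ⊆ H₁ and F₂ ⊆ H₂ be submodules with free quotients, 𝔫 an ideal of R of square
zero, R̄ = R/𝔫, and F̄ ⊆ H̄ = R̄ ⊗ H an R̄-submodule with free quotient meeting the image of R̄ ⊗ H₁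
in the image of R̄ ⊗ F₁ and mapping onto the image of R̄ ⊗ F₂; let L be the set of direct summands F
of H with F ∩ H₁ = F₁, with image F̄ in H̄ and with image F₂ in H₂. Then L is a torsor under
Hom_R(F₂, 𝔫(H₁/F₁)), acting as follows: an R-linear u : H₂ → H₁ with u(H₂) ⊆ 𝔫H₁ moves F ∈ L to the
image of F under x ↦ x + f(u(g(x))). Precisely, for F ∈ L: (1) that image again lies in L; (2) it
equals F if and only if u(F₂) ⊆ 𝔫F₁; (3) every F' ∈ L is obtained from F in this way for some such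
u. (The published statement phrases the torsor under the R̄-linear maps from F̄₂ to 𝔫 ⊗ (H̄₁/F̄₁), a
group identified with the maps u as above modulo those with u(F₂) ⊆ 𝔫F₁, and describes the action
through a lift F₂ → 𝔫 ⊗ H₁ composed with F → F/F₁ ≅ F₂; restricted to F this is x ↦ f(u(g(x))).) -/
theorem result
    (R : Type u) [CommRing R] [IsArtinianRing R] [IsLocalRing R]
    (H₁ : Type v) (H : Type v) (H₂ : Type v)
    [AddCommGroup H₁] [Module R H₁] [AddCommGroup H] [Module R H] [AddCommGroup H₂] [Module R H₂]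
    [Module.Free R H₁] [Module.Finite R H₁] [Module.Free R H] [Module.Finite R H]
    [Module.Free R H₂] [Module.Finite R H₂]
    (f : H₁ →ₗ[R] H) (g : H →ₗ[R] H₂) (hf : Function.Injective f) (hg : Function.Surjective g)
    (hfg : Function.Exact f g)
    (F₁ : Submodule R H₁) (F₂ : Submodule R H₂) [Module.Free R (H₁ ⧸ F₁)] [Module.Free R (H₂ ⧸ F₂)]
    (𝔫 : Ideal R) (hn : 𝔫 * 𝔫 = ⊥)
    (Fb : Submodule (R ⧸ 𝔫) ((R ⧸ 𝔫) ⊗[R] H))
    [Module.Free (R ⧸ 𝔫) (((R ⧸ 𝔫) ⊗[R] H) ⧸ Fb)]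
    (h1 : Fb ⊓ LinearMap.range (f.baseChange (R ⧸ 𝔫)) =
      Submodule.map (f.baseChange (R ⧸ 𝔫)) (F₁.baseChange (R ⧸ 𝔫)))
    (h2 : Submodule.map (g.baseChange (R ⧸ 𝔫)) Fb = F₂.baseChange (R ⧸ 𝔫))
    (F F' : Submodule R H)
    (hF : (∃ C : Submodule R H, IsCompl (F) C) ∧
      (F) ⊓ LinearMap.range f = Submodule.map f F₁ ∧
      Submodule.baseChange (R ⧸ 𝔫) (F) = Fb ∧ Submodule.map g (F) = F₂)
    (hF' : (∃ C : Submodule R H, IsCompl (F') C) ∧
      (F') ⊓ LinearMap.range f = Submodule.map f F₁ ∧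
      Submodule.baseChange (R ⧸ 𝔫) (F') = Fb ∧ Submodule.map g (F') = F₂) :
    (∀ u : H₂ →ₗ[R] H₁, (∀ y : H₂, u y ∈ 𝔫 • (⊤ : Submodule R H₁)) →
      (∃ C : Submodule R H, IsCompl (Submodule.map (LinearMap.id + f ∘ₗ u ∘ₗ g) F) C) ∧
      (Submodule.map (LinearMap.id + f ∘ₗ u ∘ₗ g) F) ⊓ LinearMap.range f = Submodule.map f F₁ ∧
      Submodule.baseChange (R ⧸ 𝔫) (Submodule.map (LinearMap.id + f ∘ₗ u ∘ₗ g) F) = Fb ∧ Submodule.map g (Submodule.map (LinearMap.id + f ∘ₗ u ∘ₗ g) F) = F₂) ∧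
    (∀ u : H₂ →ₗ[R] H₁, (∀ y : H₂, u y ∈ 𝔫 • (⊤ : Submodule R H₁)) →
      (Submodule.map (LinearMap.id + f ∘ₗ u ∘ₗ g) F = F ↔ ∀ y ∈ F₂, u y ∈ 𝔫 • F₁)) ∧
    (∃ u : H₂ →ₗ[R] H₁, (∀ y : H₂, u y ∈ 𝔫 • (⊤ : Submodule R H₁)) ∧
      F' = Submodule.map (LinearMap.id + f ∘ₗ u ∘ₗ g) F) := by
  obtain ⟨⟨C, hC⟩, hFr, hFb, hFg⟩ := hF
  obtain ⟨_, hFr', hFb', hFg'⟩ := hF'
  have hgf : ∀ a, g (f a) = 0 := hfg.apply_apply_eq_zero
  have hmemF : ∀ a, f a ∈ F ↔ a ∈ F₁ := fun a => by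
    constructor
    · intro ha
      obtain ⟨b, hb, hab⟩ := hFr.le ⟨ha, ⟨a, rfl⟩⟩
      exact hf hab ▸ hb
    · exact fun ha => (hFr.ge ⟨a, ha, rfl⟩).1
  have hmemF' : ∀ a ∈ F₁, f a ∈ F' := fun a ha => (hFr'.ge ⟨a, ha, rfl⟩).1
  obtain ⟨σ, hσ⟩ := Module.projective_lifting_property F₁.mkQ LinearMap.id (Submodule.mkQ_surjective F₁)
  let π : H₁ →ₗ[R] H₁ := σ ∘ₗ F₁.mkQ
  have hπ : ∀ a, a - π a ∈ F₁ := fun a => by
    rw [← Submodule.Quotient.eq]
    exact (LinearMap.congr_fun hσ (F₁.mkQ a)).symm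
  have hπ0 : ∀ a ∈ F₁, π a = 0 := fun a ha => by
    simp [π, (Submodule.Quotient.mk_eq_zero F₁).mpr ha]
  have hsat : ∀ a ∈ F₁, a ∈ 𝔫 • (⊤ : Submodule R H₁) → a ∈ 𝔫 • F₁ := fun a ha han => by
    have h := Submodule.mem_map_of_mem (f := LinearMap.id - π) han
    rw [Submodule.map_smul'', LinearMap.sub_apply, LinearMap.id_apply, hπ0 a ha, sub_zero] at h
    refine Submodule.smul_mono le_rfl ?_ h
    rintro _ ⟨b, -, rfl⟩
    exact hπ b
  refine ⟨fun u hu => ?_, fun u hu => ?_, ?_⟩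
  · let e : H ≃ₗ[R] H := LinearEquiv.ofLinearMap (LinearMap.id + f ∘ₗ u ∘ₗ g) (LinearMap.id - f ∘ₗ u ∘ₗ g)
      (by ext x; simp [hgf]) (by ext x; simp [hgf])
    have hT : (LinearMap.id + f ∘ₗ u ∘ₗ g : H →ₗ[R] H) = e.toLinearMap := rfl
    refine ⟨⟨C.map e.toLinearMap, ?_⟩, ?_, ?_, ?_⟩
    · rw [hT]
      exact hC.map (Submodule.orderIsoMapComap e)
    · have hfix : (LinearMap.range f).map e.toLinearMap = LinearMap.range f := by
        rw [← LinearMap.range_comp]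
        congr 1
        ext a; simp [e, hgf]
      rw [hT, ← hfix, ← Submodule.map_inf _ e.injective, hFr, ← Submodule.map_comp]
      congr 1
      ext a; simp [e, hgf]
    · rw [baseChange_map, hFb]
      have : (LinearMap.id + f ∘ₗ u ∘ₗ g : H →ₗ[R] H).baseChange (R ⧸ 𝔫) = LinearMap.id := by
        ext x
        simp only [TensorProduct.AlgebraTensorModule.curry_apply, LinearMap.restrictScalars_self, curry_apply,
          LinearMap.coe_restrictScalars, LinearMap.baseChange_tmul, LinearMap.add_apply, LinearMap.id_apply,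
          LinearMap.comp_apply, tmul_add, add_eq_left]
        rw [← LinearMap.baseChange_tmul, (mk_one_tmul_eq_zero 𝔫).mpr (hu _), map_zero]
      rw [this, Submodule.map_id]
    · rw [← Submodule.map_comp, ← hFg]
      congr 1
      ext x; simp [hgf]
  · constructor
    · intro h y hy
      obtain ⟨x, hx, rfl⟩ := hFg.ge hy
      have h' : (LinearMap.id + f ∘ₗ u ∘ₗ g : H →ₗ[R] H) x ∈ F := h ▸ Submodule.mem_map_of_mem hx
      simp only [LinearMap.add_apply, LinearMap.id_apply, LinearMap.comp_apply] at h'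
      exact hsat _ ((hmemF _).mp ((add_mem_cancel_left hx).mp h')) (hu _)
    · intro h
      have hmem : ∀ x ∈ F, f (u (g x)) ∈ F := fun x hx =>
        (hmemF _).mpr (Submodule.smul_le_right (h _ (hFg.le ⟨x, hx, rfl⟩)))
      refine le_antisymm ?_ fun x hx => ⟨x - f (u (g x)), sub_mem hx (hmem x hx), by simp [hgf]⟩
      rintro _ ⟨x, hx, rfl⟩
      exact add_mem hx (hmem x hx)
  · exact exists_u hf hg hfg F₁ F₂ h1 π hπ hπ0 hmemF hmemF' hFr' hFb hFb' hFg hFg'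

end Groth.Agent.S16420
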