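import Groth.Statements.S16422
import Mathlib.RingTheory.GradedAlgebra.Homogeneous.Ideal
import Mathlib.RingTheory.Finiteness.Projective
import Mathlib.Algebra.Module.Projective
import Mathlib.RingTheory.Ideal.Operations
import Mathlib.Algebra.DirectSum.Decomposition

set_option autoImplicit false
universe u
open GrMod

namespace Groth.Agent.S16422

/-- Let S be a commutative ring graded by ℤ with pieces 𝒜 n, and V a decreasing sequence of homogeneous
ideals for which S is graded-complete, i.e. for each degree n the map from 𝒜 n to the inverse limit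
of the quotients 𝒜 n / (𝒜 n ∩ V m) is bijective (stated as: a degree-n element in every V m
vanishes, and every sequence in 𝒜 n whose consecutive differences lie in the V m has a limit in 𝒜
n). Then every graded S-module M which is finitely generated and projective as an S-module is
graded-complete in the same sense for the submodules V m · M: for each n the map from ℳ n to the
inverse limit of ℳ n / (ℳ n ∩ V m · M) is bijective. -/
theorem result
    (S : Type u) [CommRing S] (𝒜 : ℤ → AddSubgroup S) [GradedRing 𝒜]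
    (V : ℕ → HomogeneousIdeal 𝒜) (hV : ∀ m, (V (m + 1)).toIdeal ≤ (V m).toIdeal)
    (hsep : ∀ (n : ℤ) (s : S), s ∈ 𝒜 n → (∀ m, s ∈ (V m).toIdeal) → s = 0)
    (hcpl : ∀ (n : ℤ) (f : ℕ → S), (∀ m, f m ∈ 𝒜 n) →
      (∀ m, f (m + 1) - f m ∈ (V m).toIdeal) → ∃ s ∈ 𝒜 n, ∀ m, s - f m ∈ (V m).toIdeal)
    (M : Type u) [AddCommGroup M] [Module S M] (ℳ : ℤ → AddSubgroup M)
    [DirectSum.Decomposition ℳ] [SetLike.GradedSMul 𝒜 ℳ]
    [Module.Finite S M] [Module.Projective S M] :
    (∀ (n : ℤ) (x : M), x ∈ ℳ n → (∀ m, x ∈ (V m).toIdeal • (⊤ : Submodule S M)) → x = 0) ∧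
    (∀ (n : ℤ) (g : ℕ → M), (∀ m, g m ∈ ℳ n) →
      (∀ m, g (m + 1) - g m ∈ (V m).toIdeal • (⊤ : Submodule S M)) →
      ∃ x ∈ ℳ n, ∀ m, x - g m ∈ (V m).toIdeal • (⊤ : Submodule S M)) := by
  classical
  obtain ⟨G, hG⟩ := Module.Finite.fg_top (R := S) (M := M)
  let ι := (x : G) × (DirectSum.decompose ℳ (x : M)).support
  let deg : ι → ℤ := fun i => i.2.1
  let gen : ι → M := fun i => (DirectSum.decompose ℳ (i.1 : M) i.2.1 : M)
  have hgen : ∀ i, gen i ∈ ℳ (deg i) := fun i => (DirectSum.decompose ℳ (i.1 : M) i.2.1).2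
  let π : (ι → S) →ₗ[S] M := Fintype.linearCombination S gen
  have hπ : Function.Surjective π := by
    rw [← LinearMap.range_eq_top, Fintype.range_linearCombination, ← top_le_iff, ← hG]
    refine Submodule.span_le.mpr fun x hx => ?_
    rw [← DirectSum.sum_support_decompose ℳ x]
    exact sum_mem fun j hj => Submodule.subset_span ⟨⟨⟨x, hx⟩, ⟨j, hj⟩⟩, rfl⟩
  obtain ⟨σ, hσ⟩ := Module.projective_lifting_property π LinearMap.id hπ
  let co : ℤ → M → ι → S := fun n x i => (DirectSum.decompose 𝒜 (σ x i) (n - deg i) : S)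
  have hco : ∀ n x i, co n x i ∈ 𝒜 (n - deg i) := fun n x i => (DirectSum.decompose 𝒜 (σ x i) (n - deg i)).2
  have hproj : ∀ (c : S) (i : ι) (n : ℤ),
      (DirectSum.decompose ℳ (c • gen i) n : M) = (DirectSum.decompose 𝒜 c (n - deg i) : S) • gen i := by
    intro c i n
    have key : ∀ (j : ℤ) (a : S), a ∈ 𝒜 j →
        (DirectSum.decompose ℳ (a • gen i) n : M) = (DirectSum.decompose 𝒜 a (n - deg i) : S) • gen i := by
      intro j a ha
      have hm : a • gen i ∈ ℳ (j + deg i) := SetLike.GradedSMul.smul_mem ha (hgen i)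
      by_cases h : j + deg i = n
      · rw [show n - deg i = j by omega, DirectSum.decompose_of_mem_same 𝒜 ha]
        exact DirectSum.decompose_of_mem_same ℳ (h ▸ hm)
      · rw [DirectSum.decompose_of_mem_ne 𝒜 ha (by omega), zero_smul]
        exact DirectSum.decompose_of_mem_ne ℳ hm h
    induction c using DirectSum.Decomposition.inductionOn 𝒜 with
    | zero => simp
    | @homogeneous j a => exact key j a a.2
    | add a b ha hb => simp only [add_smul, DirectSum.decompose_add, DirectSum.add_apply, AddMemClass.coe_add, ha, hb]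
  have hrec : ∀ n, ∀ x ∈ ℳ n, π (co n x) = x := fun n x hx => by
    have h1 : π (σ x) = x := DFunLike.congr_fun hσ x
    have h2 := congrArg (fun y => (DirectSum.decompose ℳ y n : M)) h1
    simp only [π, Fintype.linearCombination_apply, DirectSum.decompose_sum, DFinsupp.finsetSum_apply,
      AddSubmonoidClass.coe_finsetSum, DirectSum.decompose_of_mem_same ℳ hx] at h2
    simp only [π, Fintype.linearCombination_apply, co]
    refine Eq.trans (Finset.sum_congr rfl fun i _ => (hproj (σ x i) i n).symm) ?_
    simpa [DirectSum.sum_apply] using h2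
  have hin : ∀ m n, ∀ x ∈ (V m).toIdeal • (⊤ : Submodule S M), ∀ i, co n x i ∈ (V m).toIdeal := by
    intro m n x hx i
    refine (V m).isHomogeneous (n - deg i) ?_
    exact Submodule.smul_induction_on (p := fun y => σ y i ∈ (V m).toIdeal) hx
      (fun r hr y _ => by rw [map_smul, Pi.smul_apply, smul_eq_mul]; exact Ideal.mul_mem_right _ _ hr)
      (fun a b ha hb => by rw [map_add, Pi.add_apply]; exact add_mem ha hb)
  refine ⟨fun n x hx h => ?_, fun n g hg hd => ?_⟩
  · rw [← hrec n x hx, show co n x = 0 from funext fun i => hsep _ _ (hco n x i) fun m => hin m n x (h m) i,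
      map_zero]
  · choose a ha hlim using fun i => hcpl (n - deg i) (fun m => co n (g m) i) (fun m => hco _ _ i) fun m => by
      simpa only [co, map_sub, Pi.sub_apply, DirectSum.decompose_sub, DirectSum.sub_apply,
        AddSubgroupClass.coe_sub] using hin m n _ (hd m) i
    refine ⟨π a, ?_, fun m => ?_⟩
    · simp only [π, Fintype.linearCombination_apply]
      refine sum_mem fun i _ => ?_
      have := SetLike.GradedSMul.smul_mem (ha i) (hgen i)
      rwa [show (n - deg i) +ᵥ deg i = n from sub_add_cancel n (deg i)] at this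
    · rw [← hrec n (g m) (hg m), ← map_sub]
      simp only [π, Fintype.linearCombination_apply, Pi.sub_apply]
      exact sum_mem fun i _ => Submodule.smul_mem_smul (hlim i m) Submodule.mem_top

end Groth.Agent.S16422
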