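import Groth.Statements.S9769
import Groth.Agent.S1441
import Groth.Agent.Lib.ModM1.Stalk
import Groth.Agent.Lib.ModM1.Coh
import Groth.Agent.Lib.ModM1.Pull

set_option autoImplicit false
universe u
open FlatMor

set_option backward.isDefEq.respectTransparency.types false

namespace Groth.Agent.S9769


open AlgebraicGeometry CategoryTheory Limits in
theorem flatOverAt_id {X : Scheme.{u}} (M : X.Modules) (x : X) :
    FlatMod.IsFlatOverAt (𝟙 X) M x ↔ Module.Flat ↑(X.presheaf.stalk x) ↑(M.presheaf.stalk x) := by
  have key : ∀ (m : Module ↑(X.presheaf.stalk x) ↑(M.presheaf.stalk x))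
      (_ : m = FlatMod.moduleStalk M x), (@Module.Flat _ _ _ _ m ↔ @Module.Flat ↑(X.presheaf.stalk x) ↑(M.presheaf.stalk x) _ _ (FlatMod.moduleStalk M x)) := by
    rintro m rfl; rfl
  refine key (FlatMod.moduleStalkOver (𝟙 X) M x) (Module.ext' _ _ fun r v => ?_)
  refine congrArg (fun t : ↑(X.presheaf.stalk x) => @SMul.smul _ _ (FlatMod.moduleStalk M x).toSMul t v)
    (show ((𝟙 X : X ⟶ X).stalkMap x).hom r = r from ?_)
  rw [Scheme.Hom.stalkMap_id]
  rfl

open AlgebraicGeometry CategoryTheory Limits in
theorem free_iff {X : Scheme.{u}} (M : X.Modules) (hq : Coh.IsQCoh M) (hft : CohB1.IsFT M) (x : X) :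
    Module.Free ↑(X.presheaf.stalk x) ↑(M.presheaf.stalk x) ↔ FlatMod.IsFlatOverAt (𝟙 X) M x := by
  rw [flatOverAt_id]
  haveI := Groth.Agent.M1.finite_stalk hq hft x
  exact ⟨fun h => inferInstance, fun h => Module.free_of_flat_of_isLocalRing⟩

open AlgebraicGeometry CategoryTheory Limits in
/-- Let f : X ⟶ S be locally of finite presentation and F a finitely presented O_X-module which is flat
over S. Then the formation of the locus of points of X near which F is free (equivalently, for
finitely presented F, where the stalk of F is a free module) commutes with arbitrary base change: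
for a cartesian square with g' : X' ⟶ X over S' ⟶ S, the free locus of (g')^*F is the preimage of
that of F. The published statement also asserts that this locus is open; this row states only that
its formation commutes with base change. -/
theorem result {X S X' S' : Scheme.{u}} (f : X ⟶ S) [LocallyOfFinitePresentation f]
    (F : X.Modules) (hF : CohB1.IsFP F) (hfl : FlatMod.IsFlatOver f F)
    (g : S' ⟶ S) (f' : X' ⟶ S') (g' : X' ⟶ X) (hc : IsPullback g' f' f g) :
    {x' : ↑X' | Module.Free ↑(X'.presheaf.stalk x') ↑(((Scheme.Modules.pullback g').obj F).presheaf.stalk x')} =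
      g' ⁻¹' {x : ↑X | Module.Free ↑(X.presheaf.stalk x) ↑(F.presheaf.stalk x)} := by
  haveI := Groth.Agent.M1.isFP_isQCoh hF
  have hq : Coh.IsQCoh F := inferInstance
  haveI : LocallyOfFinitePresentation (𝟙 X ≫ f) := by rw [Category.id_comp]; infer_instance
  haveI : LocallyOfFiniteType f := inferInstance
  have hfl' : FlatMod.IsFlatOver (𝟙 X ≫ f) F := by rw [Category.id_comp]; exact hfl
  have hFP' := Groth.Agent.M1.isFP_pullback g' hF
  have h := (Groth.Agent.S1441.result (𝟙 X) f F hq hF hfl').2 g g' f' hc g' (𝟙 X')
    (by simpa using hc) (by simp)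
  ext x'
  have hx := Set.ext_iff.1 h x'
  simp only [Set.mem_setOf_eq, Set.mem_preimage] at hx ⊢
  rw [free_iff _ (Groth.Agent.M1.isFP_isQCoh hFP') (Groth.Agent.M1.isFP_isFT hFP'),
    free_iff _ hq (Groth.Agent.M1.isFP_isFT hF)]
  exact hx

end Groth.Agent.S9769
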