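import Groth.Statements.S16424
import Groth.Agent.S9769
import Groth.Agent.Lib.ModM1.LocFree
import Groth.Agent.Lib.WeilExt.Apply
import Groth.Agent.Lib.Depth.CM
import Mathlib

set_option autoImplicit false
universe u
open CategoryTheory CategoryTheory.Limits AlgebraicGeometry TopologicalSpace
open RhoSh

set_option backward.isDefEq.respectTransparency false
set_option backward.isDefEq.respectTransparency.types false

namespace Groth.Agent.S16424

/-- Let X be a smooth, proper, geometrically irreducible scheme over a field k admitting an ample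
invertible sheaf, S a k-scheme, and F a finitely presented quasi-coherent module on X ×_k S which is
flat over S and whose pullback to every fibre (X ×_k S)_s is torsion-free. Then F is free of finite
rank on some open neighbourhood of every point x whose local ring in its fibre has Krull dimension
at most 1. In particular F is locally free on a big open subset of X ×_k S. -/
theorem result
    (k : Type u) [Field k] (X S : Scheme.{u})
    (a : X ⟶ Spec (CommRingCat.of k)) (b : S ⟶ Spec (CommRingCat.of k))
    [Smooth a] [IsProper a] [GeometricallyIrreducible a]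
    (hproj : ∃ H : X.Modules, CohB1.IsAmple H)
    (F : (pullback a b).Modules) (hfp : CohB1.IsFP F)
    (hfl : FlatMod.IsFlatOver (pullback.snd a b) F)
    (htf : ∀ s : ↥S, TorSh.IsTorsionFree
      ((Scheme.Modules.pullback ((pullback.snd a b).fiberι s)).obj F))
    (x : ↥(pullback a b))
    (hx : ringKrullDim ↑(CInt.fiberStalk (pullback.snd a b) x) ≤ 1) :
    ∃ (V : (pullback a b).Opens) (n : ℕ), x ∈ V ∧
      Nonempty (F.restrict V.ι ≅ FlatMod.freeMod (↑V) n) := by
  haveI := Groth.Agent.M1.isFP_isQCoh hfp
  let f := pullback.snd a b
  haveI : LocallyOfFinitePresentation f := inferInstance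
  let z := f.asFiber x
  haveI : Smooth (f.fiberToSpecResidueField (f x)) := MorphismProperty.pullback_snd _ _ inferInstance
  haveI : IsRegularLocalRing ((f.fiber (f x)).presheaf.stalk z) :=
    WeilExt.isRegularLocalRing_stalk_of_smooth (f.fiberToSpecResidueField (f x)) z
  haveI : IsDomain ((f.fiber (f x)).presheaf.stalk z) := RegLoc.isDomain _
  haveI : IsPrincipalIdealRing ((f.fiber (f x)).presheaf.stalk z) := by
    have h1 : (IsLocalRing.maximalIdeal ((f.fiber (f x)).presheaf.stalk z)).spanFinrank ≤ 1 := by
      have h2 := (IsRegularLocalRing.spanFinrank_maximalIdeal (R := (f.fiber (f x)).presheaf.stalk z)).trans_le hx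
      exact_mod_cast h2
    have h2 : (IsLocalRing.maximalIdeal ((f.fiber (f x)).presheaf.stalk z)).IsPrincipal := by
      obtain ⟨g, hg⟩ := RegLoc.exists_fin_generators ((f.fiber (f x)).presheaf.stalk z)
      rcases Nat.le_one_iff_eq_zero_or_eq_one.1 h1 with h | h
      · haveI : IsEmpty (Fin (IsLocalRing.maximalIdeal ((f.fiber (f x)).presheaf.stalk z)).spanFinrank) := by
          rw [h]; infer_instance
        exact ⟨⟨0, by rw [← hg, Set.range_eq_empty, Ideal.span_empty, Submodule.span_zero_singleton]⟩⟩
      · exact ((Submodule.spanFinrank_eq_one_iff _).1 h).1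
    exact ((tfae_of_isNoetherianRing_of_isLocalRing_of_isDomain ((f.fiber (f x)).presheaf.stalk z)).out 4 0).1 h2
  let G := (Scheme.Modules.pullback (f.fiberι (f x))).obj F
  have hG := Groth.Agent.M1.isFP_pullback (f.fiberι (f x)) hfp
  haveI := Groth.Agent.M1.isFP_isQCoh hG
  haveI : Module.Finite ((f.fiber (f x)).presheaf.stalk z) (G.presheaf.stalk z) :=
    M1.finite_stalk inferInstance (Groth.Agent.M1.isFP_isFT hG) z
  haveI : Module.IsTorsionFree ((f.fiber (f x)).presheaf.stalk z) (G.presheaf.stalk z) := htf (f x) z
  have hfree : Module.Free ((f.fiber (f x)).presheaf.stalk z) (G.presheaf.stalk z) :=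
    Module.free_of_finite_type_torsion_free'
  have hset := S9769.result f F hfp hfl (S.fromSpecResidueField (f x)) (f.fiberToSpecResidueField (f x))
    (f.fiberι (f x)) (IsPullback.of_hasPullback f (S.fromSpecResidueField (f x)))
  haveI : Module.Free ↑((pullback a b).presheaf.stalk x) ↑(F.presheaf.stalk x) := by
    have h3 : z ∈ (f.fiberι (f x)) ⁻¹' {y : ↥(pullback a b) | Module.Free ↑((pullback a b).presheaf.stalk y) ↑(F.presheaf.stalk y)} :=
      hset ▸ hfree
    rw [Set.mem_preimage, f.fiberι_asFiber x] at h3
    exact h3
  exact Groth.Agent.M1.exists_freeMod_of_free_stalk hfp x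

end Groth.Agent.S16424
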