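import Groth.Statements.S4871
import Groth.Agent.Lib.SchDom.FlatNZD
import Groth.Agent.Lib.SchDom.FibrePoint
import Groth.Agent.Lib.SchDom.ChartDom
import Mathlib.AlgebraicGeometry.Fiber

set_option autoImplicit false
universe u
open CategoryTheory AlgebraicGeometry
open EGA43

namespace Groth.Agent.S4871

/-- Sections killed on an open immersion vanish on its image. -/
theorem eq_zero_of_immersion {P Z : Scheme.{u}} (μ : Z ⟶ P) [IsOpenImmersion μ] {V W : P.Opens}
    (e : W ≤ V) (hr : W ≤ μ.opensRange) (t : Γ(P, V)) (ht : μ.app V t = 0) :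
    P.presheaf.map (homOfLE e).op t = 0 := by
  haveI := μ.isIso_app _ hr
  apply (ConcreteCategory.bijective_of_isIso (μ.app W)).1
  rw [map_zero, ← CommRingCat.comp_apply, Scheme.Hom.naturality, CommRingCat.comp_apply, ht, map_zero]

open TensorProduct in
/-- An element killed by powers of generators of the unit ideal is zero. -/
theorem eq_zero_of_span_eq_top {C : Type u} [CommRing C] {T : Type u} [CommRing T] [Algebra C T]
    (s : Set C) (hs : Ideal.span s = ⊤) (x : T) (hx : ∀ c ∈ s, ∃ l : ℕ, algebraMap C T c ^ l * x = 0) :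
    x = 0 := by
  let a : Ideal C := LinearMap.ker (LinearMap.toSpanSingleton C T x)
  have hrad : Ideal.span s ≤ a.radical := Ideal.span_le.2 fun c hc => by
    obtain ⟨l, hl⟩ := hx c hc
    exact ⟨l, by simp [a, LinearMap.mem_ker, Algebra.smul_def, hl]⟩
  rw [hs, top_le_iff, Ideal.radical_eq_top] at hrad
  have h1 : (1 : C) ∈ a := hrad ▸ Submodule.mem_top
  simpa [a] using h1

attribute [local instance] Algebra.TensorProduct.rightAlgebra in
open TensorProduct in
/-- The affine core. -/
theorem core {A B A' : Type u} [CommRing A] [CommRing B] [CommRing A'] [Algebra A B] [Algebra A A']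
    [Algebra.FinitePresentation A B] [Module.Flat A B] (J : Ideal B) (hJ : SchDom.FibDense A B J)
    (h m : B ⊗[A] A') (hm : ∀ b ∈ J, ∃ l : ℕ, ((b ⊗ₜ[A] (1 : A')) * h) ^ l * m = 0) :
    ∃ l : ℕ, h ^ l * m = 0 := by
  haveI : Algebra.IsPushout A A' B (B ⊗[A] A') := Algebra.IsPushout.symm inferInstance
  obtain ⟨l, hl⟩ := hJ.exists_pow_smul_eq_zero (A' := A') h (m ⊗ₜ[B] (1 : B)) fun b hb => by
    obtain ⟨l, hl⟩ := hm b hb
    exact ⟨l, by rw [smul_tmul', smul_eq_mul, show algebraMap B (B ⊗[A] A') b = b ⊗ₜ[A] (1 : A') from rfl, hl,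
      zero_tmul]⟩
  refine ⟨l, ?_⟩
  have := congrArg (AlgebraTensorModule.rid B (B ⊗[A] A') (B ⊗[A] A')) hl
  simpa [smul_tmul'] using this

open CategoryTheory.Limits in
/-- Let f : X ⟶ S be flat and locally of finite presentation and U an open subscheme of X. Then U is
universally schematically dense in X relative to S, i.e. for every base change S' ⟶ S the preimage
of U in X ×_S S' is schematically dense, if and only if for every point s of S the trace U_s of U on
the fibre X_s is schematically dense in X_s. -/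
theorem result {X S : Scheme.{u}} (f : X ⟶ S) [Flat f]
    [LocallyOfFinitePresentation f] (U : X.Opens) :
    (∀ (S' : Scheme.{u}) (g : S' ⟶ S), CInt.IsSchematicallyDense ((pullback.fst f g) ⁻¹ᵁ U)) ↔
      ∀ s : S, CInt.IsSchematicallyDense ((f.fiberι s) ⁻¹ᵁ U) := by
  constructor
  · intro h s
    exact h _ (S.fromSpecResidueField s)
  intro hd S' g V
  rw [injective_iff_map_eq_zero]
  intro t ht
  -- sections vanishing on the trace of `U`
  refine SchDom.eq_zero_of_locally t fun x hx => ?_
  obtain ⟨R, hR, hxR, -⟩ := exists_isAffineOpen_mem_and_subset (X := S)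
    (x := f (pullback.fst f g x)) (U := ⊤) trivial
  obtain ⟨U₁, hU₁, hxU, hUR⟩ := exists_isAffineOpen_mem_and_subset (X := X)
    (x := pullback.fst f g x) (U := f ⁻¹ᵁ R) hxR
  have hsnd : g (pullback.snd f g x) = f (pullback.fst f g x) := by
    rw [← Scheme.Hom.comp_apply, ← Scheme.Hom.comp_apply, pullback.condition]
  obtain ⟨W, hW, hxW, hWR⟩ := exists_isAffineOpen_mem_and_subset (X := S')
    (x := pullback.snd f g x) (U := g ⁻¹ᵁ R)
    (show g (pullback.snd f g x) ∈ R by rw [hsnd]; exact hxR)
  let A := Γ(S, R)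
  let B := Γ(X, U₁)
  let A' := Γ(S', W)
  letI : Algebra A B := (f.appLE R U₁ hUR).hom.toAlgebra
  letI : Algebra A A' := (g.appLE R W hWR).hom.toAlgebra
  haveI : Module.Flat A B :=
    HasRingHomProperty.appLE (P := @Flat) f inferInstance ⟨R, hR⟩ ⟨U₁, hU₁⟩ hUR
  haveI : Algebra.FinitePresentation A B :=
    HasRingHomProperty.appLE (P := @LocallyOfFinitePresentation) f inferInstance ⟨R, hR⟩ ⟨U₁, hU₁⟩ hUR
  let c : SchDom.Chart f g A B A' :=
    { uA := hR.fromSpec, uB := hU₁.fromSpec, uA' := hW.fromSpec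
      openA := inferInstance, openB := inferInstance, openA' := inferInstance
      wB := hR.SpecMap_appLE_fromSpec f hU₁ hUR
      wA' := hR.SpecMap_appLE_fromSpec g hW hWR }
  let Zc : Set (PrimeSpectrum B) := (hU₁.fromSpec ⁻¹' (U : Set X))ᶜ
  let J : Ideal B := PrimeSpectrum.vanishingIdeal Zc
  have hZc : PrimeSpectrum.zeroLocus (J : Set B) = Zc := by
    rw [PrimeSpectrum.zeroLocus_vanishingIdeal_eq_closure]
    exact (U.2.preimage hU₁.fromSpec.continuous).isClosed_compl.closure_eq
  -- density of the fibres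
  have hdense : SchDom.FibDense A B J := by
    intro q _ x₀ hx₀
    obtain ⟨ψ, hψ, hker⟩ := SchDom.exists_fibre_point hR.fromSpec q
    let s : S := hR.fromSpec ⟨q, inferInstance⟩
    let K := S.residueField s
    letI : Algebra A K := ψ.hom.toAlgebra
    let cs : SchDom.Chart f (S.fromSpecResidueField s) A B K :=
      { uA := hR.fromSpec, uB := hU₁.fromSpec, uA' := 𝟙 _
        openA := inferInstance, openB := inferInstance, openA' := inferInstance
        wB := hR.SpecMap_appLE_fromSpec f hU₁ hUR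
        wA' := by rw [Category.id_comp]; exact hψ }
    let kK : q.ResidueField →ₐ[A] K := Ideal.ResidueField.liftₐ q (Algebra.ofId A K) hker.ge
      fun a ha => IsUnit.mk0 _ fun h0 => ha (hker.le h0)
    let incl : TensorProduct A q.ResidueField B → TensorProduct A B K :=
      fun z => TensorProduct.comm A K B (kK.toLinearMap.rTensor B z)
    have hincl : Function.Injective incl :=
      (TensorProduct.comm A K B).injective.comp (SchDom.rTensor_fieldExt_injective kK B)
    have hact : ∀ (b : B) (z : TensorProduct A q.ResidueField B),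
        incl ((Algebra.lsmul A A B b).lTensor q.ResidueField z) = (b ⊗ₜ[A] (1 : K)) * incl z := by
      intro b z
      induction z using TensorProduct.induction_on with
      | zero => simp [incl]
      | add y z hy hz => simp only [map_add, incl, mul_add] at hy hz ⊢; rw [hy, hz]
      | tmul y z => simp [incl]
    obtain ⟨l, hl⟩ := cs.sep_of_dom (f := fun _ : PUnit.{u+1} => U.ι) (by
      intro V' t' ht'
      refine (injective_iff_map_eq_zero _).1 (hd s V') t' ?_
      let μ := SchDom.Chart.mapB (p := f) (g := S.fromSpecResidueField s) U.ι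
      haveI : IsOpenImmersion μ :=
        inferInstanceAs (IsOpenImmersion (pullback.map _ _ _ _ U.ι (𝟙 _) (𝟙 _) _ _))
      have hr : V' ⊓ f.fiberι s ⁻¹ᵁ U ≤ μ.opensRange := by
        intro z hz
        have h2 : z ∈ Set.range μ := by
          rw [Scheme.Pullback.range_map]
          exact ⟨U.range_ι.symm.subset hz.2, by simp⟩
        exact h2
      exact eq_zero_of_immersion μ inf_le_left hr t' (ht' PUnit.unit))
      1 (incl x₀) fun _ Q hQ hQU φ hφ => by
        letI : Algebra B Γ(↑U, Q) := φ.hom.toAlgebra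
        letI : Algebra A Γ(↑U, Q) := (φ.hom.comp (algebraMap A B)).toAlgebra
        haveI : IsScalarTower A B Γ(↑U, Q) := IsScalarTower.of_algebraMap_eq fun _ => rfl
        have hspan : Ideal.span (algebraMap B Γ(↑U, Q) '' (J : Set B)) = ⊤ := by
          by_contra hne
          obtain ⟨mx, hmx, hle⟩ := Ideal.exists_le_maximal _ hne
          have hz : Spec.map φ (⟨mx, hmx.isPrime⟩ : PrimeSpectrum Γ(↑U, Q)) ∈ Zc := by
            rw [← hZc]
            refine (PrimeSpectrum.mem_zeroLocus _ _).2 fun b hb => ?_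
            exact hle (Ideal.subset_span ⟨b, hb, rfl⟩)
          apply hz
          show hU₁.fromSpec (Spec.map φ _) ∈ U
          rw [← Scheme.Hom.comp_apply, ← hφ]
          exact U.range_ι.subset ⟨_, rfl⟩
        refine ⟨0, eq_zero_of_span_eq_top _ hspan _ ?_⟩
        rintro _ ⟨b, hb, rfl⟩
        obtain ⟨l, hl⟩ := hx₀ b hb
        refine ⟨l, ?_⟩
        have := congrArg (SchDom.Chart.mapAlg A B Γ(↑U, Q) K) ((hact (b ^ l) x₀).symm.trans (congrArg incl hl))
        rw [map_mul] at this
        simpa [incl, Algebra.TensorProduct.algebraMap_apply, Algebra.TensorProduct.tmul_pow] using this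
    apply hincl
    simpa [incl] using hl
  -- the pieces of `U` in the chart
  have hb : ∀ b : J, Set.range (Spec.map (CommRingCat.ofHom (algebraMap B (Localization.Away (b : B)))) ≫
      hU₁.fromSpec) ⊆ Set.range U.ι := by
    rintro b _ ⟨z, rfl⟩
    rw [Scheme.Opens.range_ι]
    by_contra hz
    have h1 : Spec.map (CommRingCat.ofHom (algebraMap B (Localization.Away (b : B)))) z ∈
        PrimeSpectrum.zeroLocus (J : Set B) := by rw [hZc]; exact hz
    have h2 : Spec.map (CommRingCat.ofHom (algebraMap B (Localization.Away (b : B)))) z ∈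
        Set.range (PrimeSpectrum.comap (algebraMap B (Localization.Away (b : B)))) := ⟨z, rfl⟩
    rw [PrimeSpectrum.localization_away_comap_range (Localization.Away (b : B)) (b : B)] at h2
    exact h2 ((PrimeSpectrum.mem_zeroLocus _ _).1 h1 b.2)
  have ht0 : (SchDom.Chart.mapB (p := f) (g := g) U.ι).app V t = 0 := by
    let μ := SchDom.Chart.mapB (p := f) (g := g) U.ι
    have e : μ ⁻¹ᵁ V ≤ μ ⁻¹ᵁ (V ⊓ pullback.fst f g ⁻¹ᵁ U) := fun z hz => ⟨hz, by
      show pullback.fst f g (μ z) ∈ U
      rw [← Scheme.Hom.comp_apply, pullback.lift_fst, Scheme.Hom.comp_apply]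
      exact U.range_ι.subset ⟨_, rfl⟩⟩
    have h1 := congrArg (μ.appLE _ _ e) ht
    rw [map_zero, ← CommRingCat.comp_apply, Scheme.Hom.map_appLE] at h1
    rw [Scheme.Hom.app_eq_appLE]
    exact h1
  refine c.exists_nhd_eq_zero (Z := fun _ : PUnit.{u+1} => ↑U) (f := fun _ => U.ι)
    (idx := fun _ : J => PUnit.unit)
    (fun b : J => Localization.Away (b : B)) (fun b => IsOpenImmersion.lift U.ι _ (hb b))
    (fun b => IsOpenImmersion.lift_fac _ _ _) (fun h₀ m₀ hm₀ => ?_) t (fun _ => ht0) x hx ?_
  · refine core J hdense h₀ m₀ fun b hb' => ?_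
    obtain ⟨l, hl⟩ := hm₀ ⟨b, hb'⟩
    obtain ⟨⟨_, k, rfl⟩, hk⟩ := (IsLocalizedModule.eq_zero_iff (Submonoid.powers b)
      (TensorProduct.AlgebraTensorModule.rTensor A A' (Algebra.linearMap B (Localization.Away b)))).1
      (show _ = 0 from hl)
    refine ⟨k + l, ?_⟩
    have hk' : ((b ^ k) ⊗ₜ[A] (1 : A')) * (h₀ ^ l * m₀) = 0 := by
      show algebraMap B (TensorProduct A B A') (b ^ k) * (h₀ ^ l * m₀) = 0
      exact (Algebra.smul_def _ _).symm.trans hk
    have e1 : (b ⊗ₜ[A] (1 : A')) ^ k = (b ^ k) ⊗ₜ[A] (1 : A') := by rw [Algebra.TensorProduct.tmul_pow, one_pow]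
    calc ((b ⊗ₜ[A] (1 : A')) * h₀) ^ (k + l) * m₀
        = ((b ⊗ₜ[A] (1 : A')) ^ l * h₀ ^ k) * ((b ⊗ₜ[A] (1 : A')) ^ k * (h₀ ^ l * m₀)) := by ring
      _ = 0 := by rw [e1, hk', mul_zero]
  · rw [c.range_j]
    exact ⟨hU₁.range_fromSpec.symm.subset hxU, hW.range_fromSpec.symm.subset hxW⟩

end Groth.Agent.S4871
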