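import Groth.Statements.S16428
import Groth.Agent.S4871
import Groth.Agent.S1699
import Groth.Agent.Lib.OrbitTop19.Smooth

set_option autoImplicit false
universe u
open CategoryTheory CategoryTheory.Limits AlgebraicGeometry TopologicalSpace
open RhoSh

set_option backward.isDefEq.respectTransparency false
set_option backward.isDefEq.respectTransparency.types false

namespace Groth.Agent.S16428

/-- Let X be a smooth, proper, geometrically irreducible scheme over a field k admitting an ample
invertible sheaf, S a k-scheme, and U a big open subset of X ×_k S, i.e. at every point outside U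
the local ring of the fibre over S has Krull dimension at least 2. Then U is schematically dense in
X ×_k S: restriction of functions from any open V to V ∩ U is injective. -/
theorem result
    (k : Type u) [Field k] (X S : Scheme.{u})
    (a : X ⟶ Spec (CommRingCat.of k)) (b : S ⟶ Spec (CommRingCat.of k))
    [Smooth a] [IsProper a] [GeometricallyIrreducible a]
    (hproj : ∃ H : X.Modules, CohB1.IsAmple H)
    (U : (pullback a b).Opens)
    (hU : ∀ x : ↥(pullback a b), x ∉ U →
      (2 : WithBot ℕ∞) ≤ ringKrullDim ↑(CInt.fiberStalk (pullback.snd a b) x)) :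
    CInt.IsSchematicallyDense U := by
  haveI : Flat (pullback.snd a b) := inferInstance
  haveI : LocallyOfFinitePresentation (pullback.snd a b) := inferInstance
  have hd : ∀ s : S, CInt.IsSchematicallyDense (((pullback.snd a b).fiberι s) ⁻¹ᵁ U) := by
    intro s
    haveI : Smooth ((pullback.snd a b).fiberToSpecResidueField s) :=
      MorphismProperty.pullback_snd _ _ inferInstance
    haveI : IsLocallyNoetherian ((pullback.snd a b).fiber s) :=
      LocallyOfFiniteType.isLocallyNoetherian ((pullback.snd a b).fiberToSpecResidueField s)
    rw [S1699.result]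
    intro z hz
    by_contra hzU
    haveI := Groth.Agent.SmoothReg17.isDomain_stalk ((pullback.snd a b).fiberToSpecResidueField s) z
    have hbot : IsLocalRing.maximalIdeal ↑(((pullback.snd a b).fiber s).presheaf.stalk z) = ⊥ := by
      obtain ⟨hp, c, hc⟩ := hz
      rw [eq_bot_iff]
      intro r hr
      rcases eq_or_ne c 0 with rfl | hc0
      · exfalso
        apply hp.ne_top
        rw [hc, Ideal.eq_top_iff_one]
        exact Ideal.le_radical (by simp)
      · rw [hc] at hr
        obtain ⟨m, hm⟩ := hr
        rw [Submodule.mem_colon_singleton, Submodule.mem_bot, smul_eq_mul, mul_eq_zero] at hm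
        simp only [Ideal.mem_bot]
        exact (pow_eq_zero_iff').mp (hm.resolve_right hc0) |>.1
    have hdim : ringKrullDim ↑(((pullback.snd a b).fiber s).presheaf.stalk z) = 0 :=
      ringKrullDim_eq_zero_of_isField
        ((IsLocalRing.isField_iff_maximalIdeal_eq).2 hbot)
    have key : ∀ (w : ↥(pullback a b)) (s' : S), (pullback.snd a b) w = s' → ∀ (z' : (pullback.snd a b).fiber s'),
        (pullback.snd a b).fiberι s' z' = w → w ∉ U →
        (2 : WithBot ℕ∞) ≤ ringKrullDim ↑(((pullback.snd a b).fiber s').presheaf.stalk z') := by
      intro w s' hw z' hz' hwU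
      subst hw
      obtain rfl : z' = (pullback.snd a b).asFiber w :=
        ((pullback.snd a b).fiberι _).isEmbedding.injective (hz'.trans (Scheme.Hom.fiberι_asFiber _ _).symm)
      exact hU w hwU
    have hzs : (pullback.snd a b) ((pullback.snd a b).fiberι s z) = s := by
      have : (pullback.snd a b).fiberι s z ∈ (pullback.snd a b) ⁻¹' {s} := by
        rw [← Scheme.Hom.range_fiberι]; exact ⟨z, rfl⟩
      exact this
    have h2 := key _ s hzs z rfl hzU
    rw [hdim] at h2
    exact absurd h2 (by decide)
  have h := (S4871.result (pullback.snd a b) U).2 hd S (𝟙 S)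
  intro V
  rw [injective_iff_map_eq_zero]
  intro t ht
  let p := pullback.fst (pullback.snd a b) (𝟙 S)
  haveI : IsIso p := inferInstance
  have h1 : p.app V t = 0 := by
    refine (injective_iff_map_eq_zero _).1 (h (p ⁻¹ᵁ V)) _ ?_
    have h2 := congrArg (p.app (V ⊓ U)) ht
    rw [map_zero] at h2
    refine Eq.trans ?_ h2
    exact (ConcreteCategory.congr_hom (p.naturality (homOfLE (inf_le_left : V ⊓ U ≤ V)).op) t).symm
  exact (ConcreteCategory.isIso_iff_bijective (p.app V)).1 inferInstance |>.1 (h1.trans (map_zero _).symm)

end Groth.Agent.S16428
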