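import Groth.Statements.S16427
import Groth.Agent.Lib.BigOpen13.Main
import Groth.Agent.Lib.BigOpen13.Ext
import Groth.Agent.Lib.WeilExt.Apply
import Groth.Agent.S16428

set_option autoImplicit false
universe u
open CategoryTheory CategoryTheory.Limits AlgebraicGeometry TopologicalSpace
open RhoSh

set_option backward.isDefEq.respectTransparency false
set_option backward.isDefEq.respectTransparency.types false

namespace Groth.Agent.S16427

/-- Let X be a smooth, proper, geometrically irreducible scheme over a field k admitting an ample
invertible sheaf, S a k-scheme, and U a big open subset of X ×_k S, i.e. at every point outside U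
the local ring of the fibre over S has Krull dimension at least 2. Let p : Y ⟶ X ×_k S be affine and
of finite type. Then any section s of p over U is the restriction of exactly one section of p over
the whole of X ×_k S. -/
theorem result
    (k : Type u) [Field k] (X S Y : Scheme.{u})
    (a : X ⟶ Spec (CommRingCat.of k)) (b : S ⟶ Spec (CommRingCat.of k))
    [Smooth a] [IsProper a] [GeometricallyIrreducible a]
    (hproj : ∃ H : X.Modules, CohB1.IsAmple H)
    (U : (pullback a b).Opens)
    (hU : ∀ x : ↥(pullback a b), x ∉ U →
      (2 : WithBot ℕ∞) ≤ ringKrullDim ↑(CInt.fiberStalk (pullback.snd a b) x))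
    (p : Y ⟶ pullback a b) [IsAffineHom p] [LocallyOfFiniteType p]
    (s : (U : Scheme.{u}) ⟶ Y) (hs : s ≫ p = U.ι) :
    ∃! t : pullback a b ⟶ Y, t ≫ p = 𝟙 (pullback a b) ∧ U.ι ≫ t = s := by
  haveI : Flat (pullback.snd a b) := inferInstance
  haveI : LocallyOfFinitePresentation (pullback.snd a b) := inferInstance
  have hreg : ∀ (s : S) (z : (pullback.snd a b).fiber s),
      IsRegularLocalRing (((pullback.snd a b).fiber s).presheaf.stalk z) := fun s z =>
    haveI : Smooth ((pullback.snd a b).fiberToSpecResidueField s) :=
      MorphismProperty.pullback_snd _ _ inferInstance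
    WeilExt.isRegularLocalRing_stalk_of_smooth ((pullback.snd a b).fiberToSpecResidueField s) z
  have hdim : ∀ (s : S) (z : (pullback.snd a b).fiber s), (pullback.snd a b).fiberι s z ∉ U →
      (2 : WithBot ℕ∞) ≤ ringKrullDim (((pullback.snd a b).fiber s).presheaf.stalk z) := by
    intro s z hz
    have hzs : (pullback.snd a b) ((pullback.snd a b).fiberι s z) = s := by
      have : (pullback.snd a b).fiberι s z ∈ (pullback.snd a b) ⁻¹' {s} := by
        rw [← Scheme.Hom.range_fiberι]; exact ⟨z, rfl⟩
      exact this
    generalize hw : (pullback.snd a b).fiberι s z = w at hzs hz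
    subst hzs
    obtain rfl : z = (pullback.snd a b).asFiber w :=
      ((pullback.snd a b).fiberι _).isEmbedding.injective (hw.trans (Scheme.Hom.fiberι_asFiber _ _).symm)
    exact hU w hz
  exact BigOpen13.existsUnique_section U
    (BigOpen13.bijective_res (pullback.snd a b) U (S16428.result k X S a b hproj U hU) hdim hreg) p s hs

end Groth.Agent.S16427
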