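import Groth.Statements.S16429
import Groth.Agent.Lib.BigOpen13.Main
import Groth.Agent.Lib.BigOpen13.Bidual
import Groth.Agent.Lib.Twist.GenLocus
import Groth.Agent.Lib.WeilExt.Apply
import Groth.Agent.S16428

set_option autoImplicit false
universe u
open CategoryTheory CategoryTheory.Limits AlgebraicGeometry TopologicalSpace
open RhoSh

set_option backward.isDefEq.respectTransparency false
set_option backward.isDefEq.respectTransparency.types false

namespace Groth.Agent.S16429

/-- Let X be a smooth, proper, geometrically irreducible scheme over a field k admitting an ample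
invertible sheaf, S a locally Noetherian k-scheme, and F a finitely presented quasi-coherent module
on X ×_k S, flat over S with torsion-free fibres. Let U be an open subset of X ×_k S off which every
point has fibre local ring of Krull dimension at least 2 and on which F is locally free of rank h,
and let L be an h-th exterior power of F. Then the determinant det F, i.e. the double dual of L, is
the direct image of the determinant of the locally free module F|_U: the unit map from the double
dual of L to j_* j^* of it (j the inclusion of U) is an isomorphism, and the biduality map L ⟶ L^**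
restricts to an isomorphism over U, identifying det F on U with the exterior power L|_U of F|_U. The
published statement allows any k-scheme S; this row assumes S locally Noetherian. -/
theorem result
    (k : Type u) [Field k] (X S : Scheme.{u})
    (a : X ⟶ Spec (CommRingCat.of k)) (b : S ⟶ Spec (CommRingCat.of k))
    [Smooth a] [IsProper a] [GeometricallyIrreducible a]
    (hproj : ∃ H : X.Modules, CohB1.IsAmple H) [IsLocallyNoetherian S]
    (F : (pullback a b).Modules) (hfp : CohB1.IsFP F)
    (hfl : FlatMod.IsFlatOver (pullback.snd a b) F)
    (htf : ∀ s : ↥S, TorSh.IsTorsionFree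
      ((Scheme.Modules.pullback ((pullback.snd a b).fiberι s)).obj F))
    (h : ℕ) (U : (pullback a b).Opens)
    (hU : ∀ x : ↥(pullback a b), x ∉ U →
      (2 : WithBot ℕ∞) ≤ ringKrullDim ↑(CInt.fiberStalk (pullback.snd a b) x))
    (hFU : FlatMod.IsFinLocFreeOfRank h (F.restrict U.ι))
    (L : (pullback a b).Modules) (hL : ExtPow.IsExtPow h F L) :
    IsIso ((Scheme.Modules.restrictAdjunction U.ι).unit.app (RefHull.ddual L)) ∧
      IsIso ((Scheme.Modules.restrictFunctor U.ι).map (RefHull.bidualMap L)) := by
  haveI : Flat (pullback.snd a b) := inferInstance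
  haveI : LocallyOfFinitePresentation (pullback.snd a b) := inferInstance
  have hreg : ∀ (s : S) (z : (pullback.snd a b).fiber s),
      IsRegularLocalRing (((pullback.snd a b).fiber s).presheaf.stalk z) := fun s z =>
    haveI : Smooth ((pullback.snd a b).fiberToSpecResidueField s) :=
      MorphismProperty.pullback_snd _ _ inferInstance
    WeilExt.isRegularLocalRing_stalk_of_smooth ((pullback.snd a b).fiberToSpecResidueField s) z
  have hdim : ∀ (s : S) (z : (pullback.snd a b).fiber s), (pullback.snd a b).fiberι s z ∉ U →
      (2 : WithBot ℕ∞) ≤ ringKrullDim (((pullback.snd a b).fiber s).presheaf.stalk z) := by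
    intro s z hz
    have hzs : (pullback.snd a b) ((pullback.snd a b).fiberι s z) = s := by
      have : (pullback.snd a b).fiberι s z ∈ (pullback.snd a b) ⁻¹' {s} := by
        rw [← Scheme.Hom.range_fiberι]; exact ⟨z, rfl⟩
      exact this
    generalize hw : (pullback.snd a b).fiberι s z = w at hzs hz
    subst hzs
    obtain rfl : z = (pullback.snd a b).asFiber w :=
      ((pullback.snd a b).fiberι _).isEmbedding.injective (hw.trans (Scheme.Hom.fiberι_asFiber _ _).symm)
    exact hU w hz
  have hb := BigOpen13.bijective_res (pullback.snd a b) U (S16428.result k X S a b hproj U hU) hdim hreg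
  have hO : RH26.ExtU U (Coh.structureModule (pullback a b)) := fun W => hb W
  refine ⟨RH26.isIso_unit_of_extU (RH26.extU_homSh hO (RefHull.dual L)), ?_⟩
  rw [Twist.isIso_restrict_map_iff]
  intro V hV
  have key : ∀ x ∈ V, Function.Bijective (RefHull.stalkMapₗ (RefHull.bidualMap L) x) := by
    intro x hx
    obtain ⟨D, e, hxD, he⟩ := P1Split.exists_isBas_nhd hFU (⟨x, hV hx⟩ : (U : Scheme.{u}))
    obtain ⟨W, hxW, l, hl⟩ := BigOpen13.exists_gen_nhd hL (P1Split.isBas_of_restrict U.ι F he)
      (⟨⟨x, hV hx⟩, hxD, rfl⟩ : x ∈ U.ι ''ᵁ D)
    exact BigOpen13.bijective_bidual_of_gen hl hxW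
  exact TopCat.Presheaf.app_bijective_of_stalkFunctor_map_bijective
    ((SheafOfModules.toSheaf (pullback a b).ringCatSheaf).map (RefHull.bidualMap L)) V key

end Groth.Agent.S16429
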