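import Groth.Statements.S1643
import Groth.Agent.Lib.CMReg18.InfField

set_option autoImplicit false
universe u
open CategoryTheory CategoryTheory.Limits AlgebraicGeometry
open Variety

open Groth.Agent Groth.Agent.CMReg18
namespace Groth.Agent.S1643

/-- Fix n ≥ 0, r ≥ 1 and a rational polynomial P. There is an integer m, depending only on n, r and P,
such that for every field k and every epimorphism from the free module of rank r on P^n_k onto a
coherent module F whose Euler characteristics χ(F(t)) are given by P for all integers t, the kernel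
is m-regular. -/
theorem result (n r : ℕ) (hr : 1 ≤ r) (P : Polynomial ℚ) :
    ∃ m : ℤ, ∀ (k : Type u) [Field k] (F : (CohB1.ProjSpace n k).Modules) (φ : FlatMod.freeMod (CohB1.ProjSpace n k) r ⟶ F), Coh.IsCoh F → Epi φ →
      (∀ t : ℤ, (Curv2.euler k (CohB1.ProjSpace n k) (CohB1.tensorMod F (Twist.twistProjSpace n k t)) : ℚ) = P.eval (t : ℚ)) →
      Curv2.IsMRegular k n (kernel φ) m := by
  by_cases hw : ∃ (k : Type u) (_ : Field k) (F : (CohB1.ProjSpace n k).Modules)
      (φ : FlatMod.freeMod (CohB1.ProjSpace n k) r ⟶ F), Coh.IsCoh F ∧ Epi φ ∧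
      ∀ t : ℤ, (Curv2.euler k (CohB1.ProjSpace n k) (CohB1.tensorMod F (Twist.twistProjSpace n k t)) : ℚ) =
        P.eval (t : ℚ)
  swap
  · exact ⟨0, fun k _ F φ hF hφ h => absurd ⟨k, inferInstance, F, φ, hF, hφ, h⟩ hw⟩
  obtain ⟨B, hB⟩ := exists_bound.{u} r n
  have hker : ∀ (k : Type u) [Field k] (F : (CohB1.ProjSpace n k).Modules)
      (φ : FlatMod.freeMod (CohB1.ProjSpace n k) r ⟶ F), Coh.IsCoh F → Epi φ → Coh.IsCoh (kernel φ) ∧
      ∀ t : ℤ, Curv2.euler k (CohB1.ProjSpace n k) ((projData k n).tw (kernel φ) t) =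
        r * Ring.choose (t + n) n - Curv2.euler k (CohB1.ProjSpace n k) ((projData k n).tw F t) := by
    intro k _ F φ hF hφ
    haveI := isProper_projSpace k (n := n)
    haveI : IsNoetherian (CohB1.ProjSpace n k) :=
      CohFound.isNoetherian_of_isProper (CohB1.ProjSpace n k ↘ Spec (CommRingCat.of k))
    haveI := hφ
    have hf := CurveCoh17.isCoh_of_ofRank (M2.isFinLocFreeOfRank_freeMod (CohB1.ProjSpace n k) r)
    have hK := CurveCoh17.isCoh_kernel hf hF.1 φ
    refine ⟨hK, fun t => ?_⟩
    have hS : (ShortComplex.mk (kernel.ι φ) φ (kernel.condition φ)).ShortExact :=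
      { exact := ShortComplex.exact_kernel φ }
    have h := EulerAdd18.euler_add (k := k) ((projData k n).shortExact_tw hS t) (N := n)
      (bdd_proj (isCoh_tw hK t)) (bdd_proj (isCoh_tw hf t)) (bdd_proj (isCoh_tw hF t))
    have hfree : Curv2.euler k (CohB1.ProjSpace n k) ((projData k n).tw (FlatMod.freeMod (CohB1.ProjSpace n k) r) t) =
        r * Ring.choose (t + n) n := by
      rw [← euler_twist (k := k) t, (bdd_proj (isCoh_tw hf t)).euler_eq,
        (bdd_proj (k := k) (n := n) (Snapper.isCoh_of_isInvertible ((projData k n).inv t))).euler_eq, Finset.mul_sum]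
      refine Finset.sum_congr rfl fun q _ => ?_
      let e : (projData k n).tw (FlatMod.freeMod (CohB1.ProjSpace n k) r) t ≅
          ⨁ fun _ : Fin r => (projData k n).O t :=
        M2.freeModTensorIso _ r _ ≪≫ (biproduct.isoCoproduct _).symm
      haveI := (bdd_proj (k := k) (n := n) (Snapper.isCoh_of_isInvertible ((projData k n).inv t))).fin q
      rw [(CurveCoh17.hequiv k e q).finrank_eq, biproduct_finrank k, Module.finrank_pi_fintype, Finset.sum_const,
        Finset.card_univ, Fintype.card_fin, smul_eq_mul]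
      push_cast
      ring
    change Curv2.euler k _ ((projData k n).tw (FlatMod.freeMod _ r) t) = Curv2.euler k _ _ + Curv2.euler k _ _ at h
    rw [hfree] at h
    exact eq_sub_of_add_eq h.symm
  obtain ⟨k₀, _, F₀, φ₀, hF₀, hφ₀, h₀⟩ := hw
  obtain ⟨hK₀, hχ₀⟩ := hker k₀ F₀ φ₀ hF₀ hφ₀
  obtain ⟨a, ha⟩ := hasBinom hK₀
  refine ⟨MvPolynomial.eval a B, fun k _ F φ hF hφ h i hi _ => ?_⟩
  obtain ⟨hK, hχ⟩ := hker k F φ hF hφ
  refine hB k (kernel φ) hK (kernel.ι φ) inferInstance a (fun t => ?_) i hi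
  rw [hχ, ← ha, hχ₀]
  congr 1
  exact_mod_cast (h t).trans (h₀ t).symm

end Groth.Agent.S1643
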