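import Mathlib.RingTheory.Henselian
import Mathlib.RingTheory.LocalRing.ResidueField.Basic
import Mathlib.RingTheory.Etale.Basic
import Mathlib.FieldTheory.Separable
import Mathlib.RingTheory.Noetherian.Basic
import Groth.Agent.Lib.ResExt.Basic
import Mathlib

set_option autoImplicit false
universe u
namespace Hensel
end Hensel
open Hensel

namespace Groth.Agent.S16430

/-- For a Noetherian local ring A with residue field k and a finite separable field extension l of k,
there is a local ring E, finite and etale over A with local structure map, whose residue field is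
k-isomorphic to l. -/
theorem result (A : Type u)
    [CommRing A] [IsLocalRing A] [IsNoetherianRing A] (l : Type u) [Field l]
    [Algebra (IsLocalRing.ResidueField A) l] [FiniteDimensional (IsLocalRing.ResidueField A) l]
    [Algebra.IsSeparable (IsLocalRing.ResidueField A) l] :
    ∃ (E : Type u) (_ : CommRing E) (_ : IsLocalRing E) (_ : Algebra A E)
      (_ : IsLocalHom (algebraMap A E)),
      Module.Finite A E ∧ Algebra.Etale A E ∧
        Nonempty (IsLocalRing.ResidueField E ≃ₐ[IsLocalRing.ResidueField A] l) := by
  obtain ⟨E, iR, iL, iA, iH, φ, hflat, hfin, hmap, hφ, hker, hcomm⟩ :=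
    Groth.Agent.ResExt.exists_finite_flat_local_extension (R := A) (K := l)
  let e₀ : IsLocalRing.ResidueField E ≃+* l :=
    (Ideal.quotEquivOfEq hker.symm).trans (RingHom.quotientKerEquivOfSurjective hφ)
  let e : IsLocalRing.ResidueField E ≃ₐ[IsLocalRing.ResidueField A] l :=
    AlgEquiv.ofRingEquiv (f := e₀) (fun r => by
      obtain ⟨r, rfl⟩ := IsLocalRing.residue_surjective r
      rw [← IsLocalRing.ResidueField.algebraMap_eq, ← IsScalarTower.algebraMap_apply,
        IsScalarTower.algebraMap_apply A E (IsLocalRing.ResidueField E)]
      exact hcomm r)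
  haveI : Algebra.IsSeparable (IsLocalRing.ResidueField A) (IsLocalRing.ResidueField E) :=
    Algebra.IsSeparable.of_algHom _ _ e.toAlgHom
  haveI : Algebra.FormallyUnramified A E :=
    Algebra.FormallyUnramified.iff_map_maximalIdeal_eq.mpr ⟨inferInstance, hmap⟩
  haveI : Algebra.FinitePresentation A E := Algebra.FinitePresentation.of_finiteType.mp inferInstance
  exact ⟨E, iR, iL, iA, iH, hfin, Algebra.Etale.of_formallyUnramified_of_flat, ⟨e⟩⟩

end Groth.Agent.S16430
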