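import Groth.Statements.S16431
import Groth.Agent.Lib.Branch14.Corollaries
import Groth.Agent.Lib.Branch14.FibreRing
import Groth.Agent.Lib.Branch14.Birational
import Groth.Agent.Lib.Hens.Henselization
import Groth.Agent.Lib.Hens.Noetherian

set_option autoImplicit false
set_option linter.style.haveILetI false
set_option maxSynthPendingDepth 3
set_option backward.isDefEq.respectTransparency.types false
universe u
open Hensel

namespace Groth.Agent.S16431

open IsLocalRing

theorem isLocalHom_mid (A Ah Ash : Type u) [CommRing A] [IsLocalRing A] [CommRing Ah] [IsLocalRing Ah] [Algebra A Ah]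
    [IsLocalHom (algebraMap A Ah)] [Hensel.IsHenselization A Ah] [CommRing Ash] [IsLocalRing Ash] [Algebra A Ash]
    [IsLocalHom (algebraMap A Ash)] [Algebra Ah Ash] [IsScalarTower A Ah Ash] :
    IsLocalHom (algebraMap Ah Ash) := by
  refine ((IsLocalRing.local_hom_TFAE (algebraMap Ah Ash)).out 0 2).2 ?_
  rw [← Hens.henselization_map_maximalIdeal A Ah, Ideal.map_map, ← IsScalarTower.algebraMap_eq]
  exact ((IsLocalRing.local_hom_TFAE (algebraMap A Ash)).out 0 2).mp ‹IsLocalHom (algebraMap A Ash)›

/-- A strict henselization is a strict henselization of the henselization. -/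
theorem strict_over_henselization (A Ah Ash : Type u) [CommRing A] [IsLocalRing A] [CommRing Ah] [IsLocalRing Ah]
    [Algebra A Ah] [IsLocalHom (algebraMap A Ah)] [Hensel.IsHenselization A Ah] [CommRing Ash] [IsLocalRing Ash]
    [Algebra A Ash] [IsLocalHom (algebraMap A Ash)] [Hensel.IsStrictHenselization A Ash] [Algebra Ah Ash]
    [IsScalarTower A Ah Ash] [IsLocalHom (algebraMap Ah Ash)] : Hensel.IsStrictHenselization Ah Ash := by
  have hsep := Hensel.IsStrictHenselization.isSepClosure (R := A) (S := Ash)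
  let e : ResidueField A ≃+* ResidueField Ah :=
    RingEquiv.ofBijective (ResidueField.map (algebraMap A Ah)) (Hens.henselization_residueField_bijective A Ah)
  have hcomp : ∀ x, ResidueField.map (algebraMap Ah Ash) (e x) = ResidueField.map (algebraMap A Ash) x := fun x => by
    obtain ⟨a, rfl⟩ := residue_surjective x
    show residue Ash (algebraMap Ah Ash (algebraMap A Ah a)) = residue Ash (algebraMap A Ash a)
    rw [← IsScalarTower.algebraMap_apply]
  refine ⟨Hensel.IsStrictHenselization.henselian (R := A), ⟨hsep.1, ?_⟩, fun T _ _ f hf τ hτ => ?_⟩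
  · haveI := hsep.2
    refine Algebra.IsSeparable.of_equiv_equiv e (RingEquiv.refl _) (RingHom.ext fun x => ?_)
    exact hcomp x
  · haveI : IsLocalHom (f.comp (algebraMap A Ah)) := inferInstance
    obtain ⟨g, ⟨hg, hgτ⟩, hu⟩ := Hensel.IsStrictHenselization.universal (R := A) (S := Ash) T
      (f.comp (algebraMap A Ah)) τ (RingHom.ext fun x => by
        rw [RingHom.comp_apply, ← hcomp, ← RingHom.comp_apply, hτ]
        obtain ⟨a, rfl⟩ := residue_surjective x
        rfl)
    have hgA : g.comp (algebraMap Ah Ash) = f := by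
      refine (Hensel.IsHenselization.universal (R := A) (S := Ah) T (f.comp (algebraMap A Ah)) inferInstance).unique
        ?_ rfl
      rw [RingHom.comp_assoc, ← IsScalarTower.algebraMap_eq, hg]
    refine ⟨g, ⟨hgA, hgτ⟩, fun g' hg' => hu g' ⟨?_, hg'.2⟩⟩
    rw [IsScalarTower.algebraMap_eq A Ah Ash, ← RingHom.comp_assoc, hg'.1]

/-- Minimal primes of the strict henselization are extended iff there are as many as in the henselization. -/
theorem extended_iff (Ah Ash : Type u) [CommRing Ah] [IsLocalRing Ah] [CommRing Ash] [IsLocalRing Ash] [Algebra Ah Ash]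
    [IsLocalHom (algebraMap Ah Ash)] [Hensel.IsStrictHenselization Ah Ash] [IsNoetherianRing Ah] :
    (∀ Q ∈ minimalPrimes Ash, Q = Ideal.map (algebraMap Ah Ash) (Q.comap (algebraMap Ah Ash))) ↔
      ENat.card (minimalPrimes Ash) = ENat.card (minimalPrimes Ah) := by
  haveI := Hens.strictHenselization_flat Ah Ash
  haveI := Hens.strictHenselization_faithfullyFlat Ah Ash
  haveI : IsNoetherianRing Ash := Hens.strictHenselization_isNoetherianRing Ah Ash
  let Φ : minimalPrimes Ash → minimalPrimes Ah := fun Q =>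
    ⟨Q.1.comap (algebraMap Ah Ash), Branch14.comap_mem_minimalPrimes_of_flat (R := Ah) (T := Ash) Q.1 Q.2⟩
  have hsurj : Function.Surjective Φ := fun P => by
    obtain ⟨Q₁, hQ₁⟩ := PrimeSpectrum.comap_surjective_of_faithfullyFlat (A := Ah) (B := Ash) ⟨P.1, P.2.1.1⟩
    obtain ⟨Q₀, hQ₀, hle⟩ := Ideal.exists_minimalPrimes_le (I := (⊥ : Ideal Ash)) (J := Q₁.asIdeal) bot_le
    have hle' : Q₀.comap (algebraMap Ah Ash) ≤ P.1 := (Ideal.comap_mono hle).trans (congrArg PrimeSpectrum.asIdeal hQ₁).le
    haveI := hQ₀.1.1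
    exact ⟨⟨Q₀, hQ₀⟩, Subtype.ext (le_antisymm hle' (P.2.2 ⟨inferInstance, bot_le⟩ hle'))⟩
  haveI : Finite (minimalPrimes Ash) := (minimalPrimes.finite_of_isNoetherianRing Ash).to_subtype
  haveI : Finite (minimalPrimes Ah) := (minimalPrimes.finite_of_isNoetherianRing Ah).to_subtype
  constructor
  · intro h
    exact ENat.card_congr (Equiv.ofBijective Φ ⟨fun Q Q' hQ => Subtype.ext (by
      rw [h Q.1 Q.2, h Q'.1 Q'.2]; exact congrArg (Ideal.map (algebraMap Ah Ash)) (congrArg Subtype.val hQ)), hsurj⟩)
  · intro h Q hQ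
    have hinj : Function.Injective Φ := by
      rw [ENat.card_eq_coe_natCard, ENat.card_eq_coe_natCard, ENat.coe_inj] at h
      exact ((Nat.bijective_iff_surjective_and_card _).2 ⟨hsurj, h⟩).1
    set P := Q.comap (algebraMap Ah Ash) with hP
    have hPmin : P ∈ minimalPrimes Ah := Branch14.comap_mem_minimalPrimes_of_flat (R := Ah) (T := Ash) Q hQ
    haveI := hQ.1.1
    haveI : Nontrivial (Ah ⧸ P) := Ideal.Quotient.nontrivial_iff.2 hPmin.1.1.ne_top
    haveI : IsLocalRing (Ah ⧸ P) := .of_surjective' _ Ideal.Quotient.mk_surjective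
    have hle : P.map (algebraMap Ah Ash) ≤ Q := Ideal.map_comap_le
    haveI : Nontrivial (Ash ⧸ P.map (algebraMap Ah Ash)) :=
      Ideal.Quotient.nontrivial_iff.2 (ne_top_of_le_ne_top hQ.1.1.ne_top hle)
    haveI : IsLocalRing (Ash ⧸ P.map (algebraMap Ah Ash)) := .of_surjective' _ Ideal.Quotient.mk_surjective
    haveI : IsLocalHom (algebraMap (Ah ⧸ P) (Ash ⧸ P.map (algebraMap Ah Ash))) := ⟨fun x hx => by
      obtain ⟨a, rfl⟩ := Ideal.Quotient.mk_surjective x
      haveI : IsLocalHom (Ideal.Quotient.mk (P.map (algebraMap Ah Ash))) :=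
        IsLocalHom.of_surjective _ Ideal.Quotient.mk_surjective
      exact ((isUnit_map_iff (algebraMap Ah Ash) a).1
        (isUnit_of_map_unit (Ideal.Quotient.mk (P.map (algebraMap Ah Ash))) _ hx)).map _⟩
    haveI := Hens15.isStrictHenselization_quotient (A := Ah) (S := Ash) P
    haveI := hPmin.1.1
    haveI : IsDomain (Ah ⧸ P) := Ideal.Quotient.isDomain P
    have hred : _root_.IsReduced (Ash ⧸ P.map (algebraMap Ah Ash)) :=
      (Hens.strictHenselization_isReduced_iff (Ah ⧸ P) (Ash ⧸ P.map (algebraMap Ah Ash))).2 inferInstance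
    refine le_antisymm ?_ hle
    rw [← ((Ideal.isRadical_iff_quotient_reduced _).2 hred).radical, Ideal.radical_eq_sInf]
    refine le_sInf fun P' hP' => ?_
    haveI := hP'.2
    obtain ⟨Q', hQ', hQ'le⟩ := Ideal.exists_minimalPrimes_le (I := (⊥ : Ideal Ash)) (J := P') bot_le
    obtain ⟨Q'', hQ'', hQ''le⟩ := Ideal.exists_minimalPrimes_le hP'.1
    haveI := hQ''.1.1
    have hc : Q''.comap (algebraMap Ah Ash) = P := by
      haveI : Q''.LiesOver (Q''.comap (algebraMap Ah Ash)) := ⟨rfl⟩
      obtain ⟨R', hR'le, hR', hR'P⟩ := Ideal.exists_ideal_le_liesOver_of_le Q'' (p := P)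
        (Ideal.map_le_iff_le_comap.1 hQ''.1.2)
      have h2 := hQ''.2 ⟨hR', Ideal.map_le_iff_le_comap.2 hR'P.over.le⟩ hR'le
      rw [le_antisymm h2 hR'le]
      exact hR'P.over.symm
    obtain ⟨Q₀, hQ₀, hQ₀le⟩ := Ideal.exists_minimalPrimes_le (I := (⊥ : Ideal Ash)) (J := Q'') bot_le
    haveI := hQ₀.1.1
    have hc' : Q₀.comap (algebraMap Ah Ash) ≤ P := (Ideal.comap_mono hQ₀le).trans hc.le
    have := hinj (a₁ := ⟨Q, hQ⟩) (a₂ := ⟨Q₀, hQ₀⟩)
      (Subtype.ext (le_antisymm (hPmin.2 ⟨inferInstance, bot_le⟩ hc') hc'))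
    exact (congrArg Subtype.val this).le.trans (hQ₀le.trans hQ''le)

theorem sigma_card_eq_iff {ι : Type u} {F : ι → Type u} (hne : ∀ i, Nonempty (F i)) (hfin : Finite (Σ i, F i)) :
    ENat.card (Σ i, F i) = ENat.card ι ↔ ∀ i, Subsingleton (F i) := by
  haveI : Finite ι := Finite.of_surjective (Sigma.fst : (Σ i, F i) → ι) fun i => ⟨⟨i, (hne i).some⟩, rfl⟩
  constructor
  · intro h i
    rw [ENat.card_eq_coe_natCard, ENat.card_eq_coe_natCard, ENat.coe_inj] at h
    have hb := (Nat.bijective_iff_surjective_and_card (Sigma.fst : (Σ i, F i) → ι)).2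
      ⟨fun i => ⟨⟨i, (hne i).some⟩, rfl⟩, h⟩
    exact ⟨fun a b => eq_of_heq (Sigma.mk.inj (hb.1 (a₁ := ⟨i, a⟩) (a₂ := ⟨i, b⟩) rfl)).2⟩
  · intro h
    refine ENat.card_congr (Equiv.ofBijective Sigma.fst ⟨?_, fun i => ⟨⟨i, (hne i).some⟩, rfl⟩⟩)
    rintro ⟨i, a⟩ ⟨j, b⟩ (rfl : i = j)
    rw [(h i).elim a b]

/-- The normalization condition, read in the integral closure in the fraction ring. -/
theorem pi_iff (A : Type u) [CommRing A] [IsReduced A] :
    (∀ (M : Ideal (integralClosure A (FractionRing A))) [M.IsMaximal], Branch14.Bir.PI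
      ((Ideal.Quotient.mk M).comp (algebraMap A (integralClosure A (FractionRing A))))) ↔
    ∀ m : MaximalSpectrum (CAlg2.normRed A), Branch14.Bir.PI (Brnch.toResidue A m) := by
  let φ : A ≃+* CAlg2.red A :=
    RingEquiv.ofBijective (Ideal.Quotient.mk (nilradical A))
      ⟨RingHom.injective_iff_ker_eq_bot _ |>.2 (by rw [Ideal.mk_ker, nilradical_eq_zero]; rfl),
        Ideal.Quotient.mk_surjective⟩
  let ψ : FractionRing A ≃+* FractionRing (CAlg2.red A) := IsFractionRing.ringEquivOfRingEquiv φ
  have hψ : ∀ a, ψ (algebraMap A (FractionRing A) a) = algebraMap (CAlg2.red A) _ (φ a) :=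
    fun a => IsFractionRing.ringEquivOfRingEquiv_algebraMap φ a
  have hint : ∀ x, x ∈ integralClosure A (FractionRing A) ↔
      ψ x ∈ integralClosure (CAlg2.red A) (FractionRing (CAlg2.red A)) := fun x => by
    constructor
    · rintro ⟨P, hP, hPx⟩
      refine ⟨P.map φ.toRingHom, hP.map _, ?_⟩
      rw [Polynomial.eval₂_map, show (algebraMap (CAlg2.red A) _).comp φ.toRingHom =
        ψ.toRingHom.comp (algebraMap A (FractionRing A)) from RingHom.ext fun a => (hψ a).symm]
      rw [show ψ x = ψ.toRingHom x from rfl, ← Polynomial.hom_eval₂, hPx, map_zero]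
    · rintro ⟨P, hP, hPx⟩
      refine ⟨P.map φ.symm.toRingHom, hP.map _, ψ.injective ?_⟩
      rw [Polynomial.eval₂_map, map_zero, ← hPx]
      show ψ.toRingHom _ = _
      rw [Polynomial.hom_eval₂]
      congr 1
      exact RingHom.ext fun a => (hψ _).trans (by simp)
  let e : integralClosure A (FractionRing A) ≃+* CAlg2.normRed A :=
    { toFun := fun x => ⟨ψ x.1, (hint x.1).1 x.2⟩
      invFun := fun y => ⟨ψ.symm y.1, (hint _).2 (by rw [ψ.apply_symm_apply]; exact y.2)⟩
      left_inv := fun x => Subtype.ext (ψ.symm_apply_apply x.1)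
      right_inv := fun y => Subtype.ext (ψ.apply_symm_apply y.1)
      map_mul' := fun x y => Subtype.ext (map_mul ψ x.1 y.1)
      map_add' := fun x y => Subtype.ext (map_add ψ x.1 y.1) }
  have he : ∀ a, e (algebraMap A _ a) = algebraMap (CAlg2.red A) (CAlg2.normRed A) (Ideal.Quotient.mk _ a) :=
    fun a => Subtype.ext (hψ a)
  have key : ∀ (M : Ideal (integralClosure A (FractionRing A))) (m : MaximalSpectrum (CAlg2.normRed A)),
      M = m.asIdeal.comap e.toRingHom →
      (Branch14.Bir.PI ((Ideal.Quotient.mk M).comp (algebraMap A _)) ↔ Branch14.Bir.PI (Brnch.toResidue A m)) := by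
    intro M m hM
    have hM' : m.asIdeal = M.map (e : _ →+* CAlg2.normRed A) := by
      subst hM
      exact (Ideal.map_comap_of_surjective _ e.surjective _).symm
    let q := Ideal.quotientEquiv M m.asIdeal e hM'
    have hr : Brnch.toResidue A m = q.toRingHom.comp ((Ideal.Quotient.mk M).comp (algebraMap A _)) :=
      RingHom.ext fun a => by
        show _ = q (Ideal.Quotient.mk M (algebraMap A _ a))
        rw [Ideal.quotientEquiv_mk, he]
        rfl
    haveI : m.asIdeal.IsMaximal := m.isMaximal
    letI := Ideal.Quotient.field m.asIdeal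
    haveI : M.IsMaximal := hM ▸ Ideal.comap_isMaximal_of_surjective _ e.surjective
    letI := Ideal.Quotient.field M
    rw [hr, Branch14.Bir.pi_comp_iff]
    exact (and_iff_left (Branch14.Bir.pi_of_surjective _ q.surjective)).symm
  constructor
  · intro h m
    haveI : m.asIdeal.IsMaximal := m.isMaximal
    exact (key _ m rfl).1 (@h (m.asIdeal.comap e.toRingHom) (Ideal.comap_isMaximal_of_surjective _ e.surjective))
  · intro h M hM
    let m : MaximalSpectrum (CAlg2.normRed A) := ⟨M.comap e.symm.toRingHom, Ideal.comap_isMaximal_of_surjective _ e.symm.surjective⟩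
    exact (key M m (Ideal.ext fun x => by simp [m])).2 (h m)

/-- Let A be an excellent reduced local ring with residue field k, let A' be the integral closure of A
in its total ring of fractions, let A^h be a henselization and A^hs a strict henselization of A, and
let A^h → A^hs be the A-algebra map between them (it is the unique one). Then the residue field of
A' at every maximal ideal is purely inseparable over k — every element has some p^n-th power in the
image of A, p the characteristic exponent — if and only if every minimal prime ideal of A^hs is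
generated by its contraction to A^h. -/
theorem result
    (A Ah Ash : Type u) [CommRing A] [IsLocalRing A] [IsReduced A] (hA : EGA4.IsExcellent A)
    [CommRing Ah] [IsLocalRing Ah] [Algebra A Ah] [IsLocalHom (algebraMap A Ah)]
    [Hensel.IsHenselization A Ah]
    [CommRing Ash] [IsLocalRing Ash] [Algebra A Ash] [IsLocalHom (algebraMap A Ash)]
    [Hensel.IsStrictHenselization A Ash] [Algebra Ah Ash] [IsScalarTower A Ah Ash] :
    (∀ (M : Ideal (integralClosure A (FractionRing A))) [M.IsMaximal], ∀ x : (integralClosure A (FractionRing A)) ⧸ M, ∃ n : ℕ,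
        x ^ (ringExpChar ((integralClosure A (FractionRing A)) ⧸ M)) ^ n ∈
          ((Ideal.Quotient.mk M).comp (algebraMap A (integralClosure A (FractionRing A)))).range) ↔
      (∀ Q ∈ minimalPrimes Ash, Q = Ideal.map (algebraMap Ah Ash) (Q.comap (algebraMap Ah Ash))) := by
  haveI : IsNoetherianRing A := hA.1
  haveI := isLocalHom_mid A Ah Ash
  haveI := strict_over_henselization A Ah Ash
  haveI : IsNoetherianRing Ah := Hens.henselization_isNoetherianRing A Ah
  haveI : IsNoetherianRing Ash := Hens.strictHenselization_isNoetherianRing A Ash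
  have hfin : (minimalPrimes A).Finite := minimalPrimes.finite_of_isNoetherianRing A
  rw [extended_iff Ah Ash, Branch14.card_minimalPrimes_strictHenselization A Ash,
    Branch14.card_minimalPrimes_henselization A Ah, Branch14.numBranches_of_finite A hfin,
    Branch14.numGeomBranches_of_finite A hfin, sigma_card_eq_iff (fun m => (Branch14.emb_iff A m).1) ?_]
  · refine Iff.trans ?_ (forall_congr' fun m => (Branch14.emb_iff A m).2).symm
    exact pi_iff A
  · haveI : Finite (minimalPrimes Ash) := (minimalPrimes.finite_of_isNoetherianRing Ash).to_subtype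
    have h := Branch14.card_minimalPrimes_strictHenselization A Ash
    rw [Branch14.numGeomBranches_of_finite A hfin] at h
    exact ENat.card_lt_top.1 (h ▸ ENat.card_lt_top.2 inferInstance)

end Groth.Agent.S16431
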