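import Groth.Statements.S16436
import Groth.Agent.S16431
import Groth.Agent.S0505
import Groth.Agent.Lib.MilnorFib6.AlgClosure
import Groth.Agent.Lib.GRing6.Excellent
import Groth.Agent.Lib.SmoothFppf.Ring

set_option autoImplicit false
set_option linter.style.haveILetI false
set_option maxSynthPendingDepth 3
set_option backward.isDefEq.respectTransparency.types false
universe u
open Hensel

namespace Groth.Agent.S16436

open IsLocalRing

theorem isHenselization_self (D : Type u) [CommRing D] [HenselianLocalRing D] : Hensel.IsHenselization D D :=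
  ⟨inferInstance, fun T _ _ f _ => ⟨f, RingHom.ext fun _ => rfl, fun g hg => RingHom.ext fun x => congr($hg x)⟩⟩

/-- A finite subalgebra of a local ring over a henselian local ring is local. -/
theorem isLocalRing_subalgebra {A S : Type u} [CommRing A] [HenselianLocalRing A] [CommRing S] [IsLocalRing S]
    [Algebra A S] (D : Subalgebra A S) [Module.Finite A D] : IsLocalRing D := by
  classical
  haveI : Finite (MaximalSpectrum D) := Hens.finite_maximalSpectrum (A := A) (B := D)
  have hbij := Hens.bijective_pi_localization_of_henselian (A := A) (B := D)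
  haveI : Nontrivial D := D.toSubring.toSubsemiring.nontrivial
  have huniq : ∀ M N : MaximalSpectrum D, M = N := by
    intro M N
    by_contra hne
    obtain ⟨x, hx⟩ := hbij.2 (Pi.single M 1)
    have hidem : x * x = x := hbij.1 (by
      rw [map_mul, hx]
      funext i
      rcases eq_or_ne i M with rfl | h
      · rw [Pi.mul_apply, Pi.single_eq_same, mul_one]
      · rw [Pi.mul_apply, Pi.single_eq_of_ne h, mul_zero])
    have hS : (x : S) * (1 - (x : S)) = 0 := by
      rw [mul_sub, mul_one, sub_eq_zero]
      exact (congrArg Subtype.val hidem).symm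
    rcases IsLocalRing.isUnit_or_isUnit_one_sub_self (x : S) with hu | hu
    · have h1 : (1 : D) = x := Subtype.ext (sub_eq_zero.1 (hu.mul_right_eq_zero.1 hS))
      have := congrFun hx N
      rw [← h1, map_one, Pi.one_apply, Pi.single_eq_of_ne (Ne.symm hne)] at this
      exact one_ne_zero this
    · have h0 : x = 0 := Subtype.ext (hu.mul_left_eq_zero.1 hS)
      have := congrFun hx M
      rw [h0, map_zero, Pi.zero_apply, Pi.single_eq_same] at this
      exact zero_ne_one this
  refine IsLocalRing.of_unique_max_ideal ?_
  obtain ⟨M, hM⟩ := Ideal.exists_maximal D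
  exact ⟨M, hM, fun N hN => congrArg MaximalSpectrum.asIdeal (huniq ⟨N, hN⟩ ⟨M, hM⟩)⟩

/-- The separable closure condition is the purely inseparable one. -/
theorem sep_iff (D : Type u) [CommRing D] [IsLocalRing D] :
    (∀ (M : Ideal (integralClosure D (FractionRing D))) [M.IsMaximal],
      separableClosure (Subfield.closure (Set.range ((algebraMap (integralClosure D (FractionRing D)) M.ResidueField).comp
        (algebraMap D (integralClosure D (FractionRing D)))))) M.ResidueField = ⊥) ↔
    (∀ (M : Ideal (integralClosure D (FractionRing D))) [M.IsMaximal], ∀ x : (integralClosure D (FractionRing D)) ⧸ M,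
      ∃ n : ℕ, x ^ (ringExpChar ((integralClosure D (FractionRing D)) ⧸ M)) ^ n ∈
        ((Ideal.Quotient.mk M).comp (algebraMap D (integralClosure D (FractionRing D)))).range) := by
  refine forall_congr' fun M => forall_congr' fun hM => ?_
  let E := integralClosure D (FractionRing D)
  let L := M.ResidueField
  let φ : D →+* L := (algebraMap E L).comp (algebraMap D E)
  let k₀ := Subfield.closure (Set.range φ)
  have hbij := Ideal.bijective_algebraMap_quotient_residueField M
  letI := Ideal.Quotient.field M
  let ι : E ⧸ M →+* L := algebraMap (E ⧸ M) L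
  have hφ : φ = ι.comp ((Ideal.Quotient.mk M).comp (algebraMap D E)) := RingHom.ext fun d => rfl
  have hker : ∀ d, φ d = 0 ↔ d ∈ maximalIdeal D := fun d => by
    show algebraMap E L (algebraMap D E d) = 0 ↔ _
    rw [Ideal.algebraMap_residueField_eq_zero, ← Ideal.mem_comap,
      IsLocalRing.eq_maximalIdeal (Ideal.isMaximal_comap_of_isIntegral_of_isMaximal (R := D) M)]
  haveI : IsLocalHom φ := ⟨fun d hd => IsLocalRing.notMem_maximalIdeal.1 fun hm => hd.ne_zero ((hker d).2 hm)⟩
  have hk : (k₀ : Set L) = Set.range φ := by
    refine Set.Subset.antisymm (fun x hx => ?_) Subfield.subset_closure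
    obtain ⟨y, rfl⟩ := ((Subfield.closure_le).2 (show Set.range φ ⊆ ((IsLocalRing.ResidueField.lift φ).fieldRange : Set L) from
      fun _ ⟨d, hd⟩ => ⟨residue D d, hd⟩)) hx
    obtain ⟨d, rfl⟩ := residue_surjective y
    exact ⟨d, rfl⟩
  haveI : Algebra.IsAlgebraic k₀ L := by
    refine ⟨fun x => IsIntegral.isAlgebraic ?_⟩
    obtain ⟨q, rfl⟩ := hbij.2 x
    obtain ⟨e, rfl⟩ := Ideal.Quotient.mk_surjective q
    obtain ⟨P, hP, hPe⟩ := Algebra.IsIntegral.isIntegral (R := D) e
    refine ⟨P.map (φ.codRestrict k₀ fun d => Subfield.subset_closure ⟨d, rfl⟩), hP.map _, ?_⟩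
    rw [Polynomial.eval₂_map, show (algebraMap k₀ L).comp
      (φ.codRestrict k₀ fun d => Subfield.subset_closure ⟨d, rfl⟩) = (algebraMap E L).comp (algebraMap D E) from rfl]
    show Polynomial.eval₂ _ (algebraMap E L e) P = 0
    rw [← Polynomial.hom_eval₂, hPe, map_zero]
  obtain ⟨p, hp⟩ := ExpChar.exists L
  haveI : ExpChar k₀ p := (RingHom.expChar_iff (algebraMap k₀ L) (algebraMap k₀ L).injective p).2 hp
  refine (separableClosure.eq_bot_iff (F := k₀) (E := L)).trans ?_
  rw [isPurelyInseparable_iff_pow_mem k₀ p]
  have key := Branch14.Bir.pi_comp_iff ((Ideal.Quotient.mk M).comp (algebraMap D E)) ι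
  rw [← hφ, and_iff_left (Branch14.Bir.pi_of_surjective ι hbij.2)] at key
  refine Iff.trans ?_ key
  show _ ↔ ∀ x : L, ∃ n : ℕ, x ^ (ringExpChar L) ^ n ∈ φ.range
  rw [ringExpChar.eq L p]
  refine forall_congr' fun x => exists_congr fun n => ?_
  constructor
  · rintro ⟨y, hy⟩
    obtain ⟨d, hd⟩ := hk.le y.2
    exact ⟨d, hd.trans hy⟩
  · rintro ⟨d, hd⟩
    exact ⟨⟨φ d, Subfield.subset_closure ⟨d, rfl⟩⟩, hd⟩

theorem extended_of_equiv {D T S : Type u} [CommRing D] [CommRing T] [CommRing S] [Algebra D T] [Algebra D S]
    (e : T ≃ₐ[D] S) (h : ∀ Q ∈ minimalPrimes T, Q = Ideal.map (algebraMap D T) (Q.comap (algebraMap D T))) :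
    ∀ Q ∈ minimalPrimes S, Q = Ideal.map (algebraMap D S) (Q.comap (algebraMap D S)) := by
  intro Q hQ
  haveI := hQ.1.1
  have hQ' : Q.comap e.toRingEquiv.toRingHom ∈ minimalPrimes T := by
    refine ⟨⟨inferInstance, bot_le⟩, fun P hP hle => ?_⟩
    haveI := hP.1
    have h1 : P.comap e.symm.toRingEquiv.toRingHom ≤ Q := fun y hy => by
      simpa using hle hy
    intro x hx
    have := hQ.2 ⟨inferInstance, bot_le⟩ h1 hx
    simpa using this
  have hc : (e.toRingEquiv.toRingHom).comp (algebraMap D T) = algebraMap D S := RingHom.ext e.commutes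
  have := congrArg (Ideal.map e.toRingEquiv.toRingHom) (h _ hQ')
  rwa [Ideal.map_comap_of_surjective e.toRingEquiv.toRingHom e.surjective, Ideal.map_map, Ideal.comap_comap, hc] at this

/-- Let A be an excellent henselian reduced local ring, S a strict henselization of A and D an
A-subalgebra of S which is finitely generated as an A-module. Write D' for the integral closure of D
in its total ring of fractions. Then D is etale over A and every minimal prime ideal of S is
generated by its contraction to D, if and only if, for every maximal ideal M of D' with residue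
field l, writing k_0 for the subfield of l generated by the image of D (the image itself, a copy of
the residue field of D), k_0 is separably closed in l: every element of l separable over k_0 lies in
k_0. -/
theorem result
    (A S : Type u) [CommRing A] [HenselianLocalRing A] [IsReduced A] (hA : EGA4.IsExcellent A)
    [CommRing S] [IsLocalRing S] [Algebra A S] [IsLocalHom (algebraMap A S)]
    [Hensel.IsStrictHenselization A S] (D : Subalgebra A S) [Module.Finite A D] :
    (Algebra.Etale A D ∧
        ∀ Q ∈ minimalPrimes S, Q = Ideal.map (algebraMap D S) (Q.comap (algebraMap D S))) ↔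
      ∀ (M : Ideal (integralClosure D (FractionRing D))) [M.IsMaximal],
        separableClosure (Subfield.closure (Set.range ((algebraMap (integralClosure D (FractionRing D)) M.ResidueField).comp (algebraMap D (integralClosure D (FractionRing D)))))) M.ResidueField = ⊥ := by
  haveI : IsNoetherianRing A := hA.1
  haveI : HenselianLocalRing S := Hensel.IsStrictHenselization.henselian (R := A)
  haveI : IsLocalRing D := isLocalRing_subalgebra D
  haveI : HenselianLocalRing D := Groth.Agent.S0505.result A D
  haveI : Algebra.FiniteType A D := inferInstance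
  have hD : EGA4.IsExcellent D := GRing6.isExcellent_of_finiteType A D hA
  haveI : IsNoetherianRing D := hD.1
  haveI hSred : _root_.IsReduced S := (Hens.strictHenselization_isReduced_iff A S).2 inferInstance
  have hinjD : Function.Injective (algebraMap D S) := fun a b h => Subtype.ext h
  haveI : _root_.IsReduced D := isReduced_of_injective (algebraMap D S) hinjD
  haveI : Algebra.IsIntegral A D := Algebra.IsIntegral.of_finite A D
  have hmD : (IsLocalRing.maximalIdeal D).comap (algebraMap A D) = IsLocalRing.maximalIdeal A :=
    IsLocalRing.eq_maximalIdeal (Ideal.isMaximal_comap_of_isIntegral_of_isMaximal (R := A) _)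
  have hDS : IsLocalRing.maximalIdeal D = (IsLocalRing.maximalIdeal S).comap (algebraMap D S) := by
    refine ((IsLocalRing.eq_maximalIdeal ?_)).symm
    refine Ideal.isMaximal_of_isIntegral_of_isMaximal_comap (R := A) _ ?_
    rw [Ideal.comap_comap, ← IsScalarTower.algebraMap_eq, IsLocalRing.maximalIdeal_comap]
    infer_instance
  haveI : IsLocalHom (algebraMap A D) := ((IsLocalRing.local_hom_TFAE (algebraMap A D)).out 0 4).mpr hmD
  haveI : IsLocalHom (algebraMap D S) := ((IsLocalRing.local_hom_TFAE (algebraMap D S)).out 0 4).mpr hDS.symm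
  haveI := isHenselization_self D
  let T := Hens.Hsh D
  haveI : HenselianLocalRing T := Hensel.IsStrictHenselization.henselian (R := D)
  haveI : IsScalarTower (IsLocalRing.ResidueField A) (IsLocalRing.ResidueField D) (IsLocalRing.ResidueField S) :=
    IsScalarTower.of_algebraMap_eq fun x => by
      obtain ⟨a, rfl⟩ := IsLocalRing.residue_surjective x
      rfl
  have hS := Hensel.IsStrictHenselization.isSepClosure (R := A) (S := S)
  haveI := hS.1
  haveI := hS.2
  haveI : Algebra.IsSeparable (IsLocalRing.ResidueField D) (IsLocalRing.ResidueField S) :=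
    Algebra.isSeparable_tower_top_of_isSeparable (IsLocalRing.ResidueField A) _ _
  haveI : IsSepClosure (IsLocalRing.ResidueField D) (IsLocalRing.ResidueField S) := ⟨hS.1, inferInstance⟩
  haveI : IsSepClosure (IsLocalRing.ResidueField D) (IsLocalRing.ResidueField T) :=
    Hensel.IsStrictHenselization.isSepClosure (R := D)
  let τ : IsLocalRing.ResidueField T ≃ₐ[IsLocalRing.ResidueField D] IsLocalRing.ResidueField S :=
    IsSepClosure.equiv (IsLocalRing.ResidueField D) _ _
  obtain ⟨g, ⟨hg, hgr⟩, -⟩ := Hensel.IsStrictHenselization.universal (R := D) (S := T) S (algebraMap D S)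
    τ.toRingEquiv.toRingHom (RingHom.ext τ.commutes)
  letI algAT : Algebra A T := ((algebraMap D T).comp (algebraMap A D)).toAlgebra
  haveI : IsScalarTower A D T := IsScalarTower.of_algebraMap_eq fun _ => rfl
  haveI : IsLocalHom (algebraMap A T) :=
    inferInstanceAs (IsLocalHom ((algebraMap D T).comp (algebraMap A D)))
  obtain ⟨h, ⟨hh, hhr⟩, -⟩ := Hensel.IsStrictHenselization.universal (R := A) (S := S) T (algebraMap A T)
    τ.symm.toRingEquiv.toRingHom (RingHom.ext fun x => by
      obtain ⟨a, rfl⟩ := IsLocalRing.residue_surjective x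
      show τ.symm (IsLocalRing.residue S (algebraMap A S a)) = IsLocalRing.residue T (algebraMap D T (algebraMap A D a))
      exact τ.symm.commutes (IsLocalRing.residue D (algebraMap A D a)))
  have hgh : g.comp h = RingHom.id S := by
    obtain ⟨b, -, hb⟩ := Hensel.IsStrictHenselization.universal (R := A) (S := S) S (algebraMap A S) (RingHom.id _)
      (RingHom.id_comp _)
    refine (hb _ ⟨?_, fun x => ?_⟩).trans (hb _ ⟨RingHom.id_comp _, fun x => rfl⟩).symm
    · rw [RingHom.comp_assoc, hh]
      show g.comp ((algebraMap D T).comp (algebraMap A D)) = _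
      rw [← RingHom.comp_assoc, hg, ← IsScalarTower.algebraMap_eq]
    · show IsLocalRing.residue S (g (h x)) = IsLocalRing.residue S x
      rw [hgr, hhr]
      exact τ.apply_symm_apply _
  have hgsurj : Function.Surjective g := fun x => ⟨h x, congr($hgh x)⟩
  let g' : T →ₐ[D] S := { g with commutes' := fun d => congr($hg d) }
  have hkey := Groth.Agent.S16431.result D D T hD
  rw [sep_iff D]
  constructor
  · rintro ⟨het, hext⟩
    haveI := het
    have hhD : h.comp (algebraMap D S) = algebraMap D T := by
      let a : D →ₐ[A] T := { h.comp (algebraMap D S) with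
        commutes' := fun r => (congrArg h (IsScalarTower.algebraMap_apply A D S r).symm).trans congr($hh r) }
      suffices a = IsScalarTower.toAlgHom A D T from congrArg AlgHom.toRingHom this
      refine Algebra.FormallyUnramified.ext_of_iInf (I := IsLocalRing.maximalIdeal T)
        (Ideal.iInf_pow_eq_bot_of_isLocalRing _ (IsLocalRing.maximalIdeal.isMaximal T).ne_top) fun d => ?_
      show IsLocalRing.residue T (h (algebraMap D S d)) = IsLocalRing.residue T (algebraMap D T d)
      rw [hhr]
      exact τ.symm.commutes (IsLocalRing.residue D d)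
    have hhg : h.comp g = RingHom.id T := by
      obtain ⟨b, -, hb⟩ := Hensel.IsStrictHenselization.universal (R := D) (S := T) T (algebraMap D T) (RingHom.id _)
        (RingHom.id_comp _)
      refine (hb _ ⟨?_, fun x => ?_⟩).trans (hb _ ⟨RingHom.id_comp _, fun x => rfl⟩).symm
      · rw [RingHom.comp_assoc, hg, hhD]
      · show IsLocalRing.residue T (h (g x)) = IsLocalRing.residue T x
        rw [hhr, hgr]
        exact τ.symm_apply_apply _
    have hinj : Function.Injective g' := fun x y hxy =>
      congr($hhg x).symm.trans ((congrArg h hxy).trans congr($hhg y))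
    exact hkey.2 (extended_of_equiv (AlgEquiv.ofBijective g' ⟨hinj, hgsurj⟩).symm hext)
  · intro hPI
    have hext := hkey.1 hPI
    have hgood := Branch14.good_strictHenselization D T
    haveI := Hens.strictHenselization_flat D T
    haveI : _root_.IsReduced T := (Hens.strictHenselization_isReduced_iff D T).2 inferInstance
    have hinj : Function.Injective g' := by
      refine (injective_iff_map_eq_zero g').2 fun x hx => ?_
      have hnil : x ∈ nilradical T := by
        rw [nilradical, Ideal.zero_eq_bot, ← Ideal.sInf_minimalPrimes, Ideal.mem_sInf]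
        intro P hP
        haveI := hP.1.1
        have hPD := Branch14.comap_mem_minimalPrimes_of_flat (R := D) (T := T) P hP
        obtain ⟨Q, hQ, hQc⟩ := Ideal.exists_minimalPrimes_comap_eq (I := (⊥ : Ideal S)) (algebraMap D S)
          (P.comap (algebraMap D T)) (by rw [Ideal.comap_bot_of_injective _ hinjD]; exact hPD)
        haveI := hQ.1.1
        let R := Q.comap g
        have hRc : R.comap (algebraMap D T) = P.comap (algebraMap D T) := by
          rw [Ideal.comap_comap, hg, hQc]
        obtain ⟨R', hR', hle⟩ := Ideal.exists_minimalPrimes_le (I := (⊥ : Ideal T)) (J := R) bot_le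
        haveI := hR'.1.1
        have hR'c : R'.comap (algebraMap D T) = P.comap (algebraMap D T) := le_antisymm
          ((Ideal.comap_mono hle).trans hRc.le)
          (hPD.2 ⟨inferInstance, bot_le⟩ ((Ideal.comap_mono hle).trans hRc.le))
        have hRR : R' = R := hgood.inc R' R inferInstance inferInstance hle (hR'c.trans hRc.symm)
        have hPR : P = R := by
          rw [← hRR, hext P hP, hext R' hR', hR'c]
        rw [hPR]
        show g x ∈ Q
        rw [show g x = 0 from hx]
        exact zero_mem _
      rwa [nilradical_eq_zero] at hnil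
    let e := AlgEquiv.ofBijective g' ⟨hinj, hgsurj⟩
    refine ⟨?_, extended_of_equiv e hext⟩
    haveI := Hens.strictHenselization_faithfullyFlat D T
    haveI : Module.FaithfullyFlat D S := Module.FaithfullyFlat.of_linearEquiv D T e.symm.toLinearEquiv
    haveI := Hens.strictHenselization_flat A S
    haveI : Module.Flat A D := SmoothFppf.flat_of_faithfullyFlat A D S
    haveI : Algebra.IsSeparable (IsLocalRing.ResidueField A) (IsLocalRing.ResidueField D) :=
      Algebra.isSeparable_tower_bot_of_isSeparable (IsLocalRing.ResidueField A) _ (IsLocalRing.ResidueField S)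
    haveI : Algebra.FormallyUnramified A D := by
      refine Algebra.FormallyUnramified.of_map_maximalIdeal ?_
      refine le_antisymm (Ideal.map_le_iff_le_comap.2 hmD.ge) ?_
      rw [← Ideal.comap_map_eq_self_of_faithfullyFlat (B := S) ((IsLocalRing.maximalIdeal A).map (algebraMap A D)),
        Ideal.map_map, ← IsScalarTower.algebraMap_eq, Hens.strictHenselization_map_maximalIdeal A S, hDS]
    haveI : Algebra.FinitePresentation A D := Algebra.FinitePresentation.of_finiteType.mp inferInstance
    exact Algebra.Etale.of_formallyUnramified_of_flat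

end Groth.Agent.S16436
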