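import Groth.Statements.S16437
import Groth.Agent.S16436
import Groth.Agent.Lib.ExcDVR6.Dvr
import Groth.Agent.Lib.AlgSpEt14.Branches

set_option autoImplicit false
set_option linter.style.haveILetI false
set_option maxSynthPendingDepth 3
set_option backward.isDefEq.respectTransparency.types false
universe u
open Hensel

namespace Groth.Agent.S16437

open IsLocalRing
open scoped TensorProduct

theorem finite_of_essEtale (A E : Type u) [CommRing A] [HenselianLocalRing A] [IsNoetherianRing A] [CommRing E]
    [IsLocalRing E] [Algebra A E] (hE : EGA4loc.IsEssentiallyEtale A E) :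
    Module.Finite A E ∧ Algebra.Etale A E := by
  obtain ⟨C, _, _, q, _, hC, hq, ⟨e⟩⟩ := hE
  haveI := hC
  haveI : q.LiesOver (maximalIdeal A) := ⟨hq.symm⟩
  let T := Localization.AtPrime q
  haveI : Module.Finite A T := Hens.finite_localization_atPrime q ⟨hq.symm⟩ inferInstance
  haveI : Module.Finite A E := Module.Finite.equiv e.toLinearEquiv.symm
  haveI : Algebra.FormallyEtale C T := Algebra.FormallyEtale.of_isLocalization q.primeCompl
  haveI : Algebra.FormallyEtale A T := Algebra.FormallyEtale.comp A C T
  haveI : Algebra.FiniteType A T := inferInstance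
  haveI : Algebra.FinitePresentation A T := Algebra.FinitePresentation.of_finiteType.mp inferInstance
  haveI : Algebra.Etale A T := ⟨inferInstance, inferInstance⟩
  exact ⟨inferInstance, Algebra.Etale.of_equiv e.symm⟩

/-- The strict henselization of an étale finite local algebra mapping to that of the base. -/
theorem exists_equiv_hsh (A S E : Type u) [CommRing A] [IsLocalRing A] [CommRing S] [IsLocalRing S] [Algebra A S]
    [IsLocalHom (algebraMap A S)] [Hensel.IsStrictHenselization A S] [CommRing E] [HenselianLocalRing E]
    [IsNoetherianRing E] [Algebra A E] [IsLocalHom (algebraMap A E)] [Algebra.Etale A E] [Algebra E S]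
    [IsScalarTower A E S] [IsLocalHom (algebraMap E S)] : Nonempty (Hens.Hsh E ≃ₐ[E] S) := by
  haveI : HenselianLocalRing S := Hensel.IsStrictHenselization.henselian (R := A)
  let T := Hens.Hsh E
  haveI : HenselianLocalRing T := Hensel.IsStrictHenselization.henselian (R := E)
  haveI : IsNoetherianRing T := Hens.strictHenselization_isNoetherianRing E T
  haveI : IsScalarTower (ResidueField A) (ResidueField E) (ResidueField S) :=
    IsScalarTower.of_algebraMap_eq fun x => by
      obtain ⟨a, rfl⟩ := residue_surjective x
      show residue S (algebraMap A S a) = residue S (algebraMap E S (algebraMap A E a))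
      rw [← IsScalarTower.algebraMap_apply]
  have hS := Hensel.IsStrictHenselization.isSepClosure (R := A) (S := S)
  haveI := hS.2
  haveI : Algebra.IsSeparable (ResidueField E) (ResidueField S) :=
    Algebra.isSeparable_tower_top_of_isSeparable (ResidueField A) _ _
  haveI : IsSepClosure (ResidueField E) (ResidueField S) := ⟨hS.1, inferInstance⟩
  haveI : IsSepClosure (ResidueField E) (ResidueField T) := Hensel.IsStrictHenselization.isSepClosure (R := E)
  let τ : ResidueField T ≃ₐ[ResidueField E] ResidueField S := IsSepClosure.equiv (ResidueField E) _ _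
  obtain ⟨g, ⟨hg, hgr⟩, -⟩ := Hensel.IsStrictHenselization.universal (R := E) (S := T) S (algebraMap E S)
    τ.toRingEquiv.toRingHom (RingHom.ext τ.commutes)
  letI algAT : Algebra A T := ((algebraMap E T).comp (algebraMap A E)).toAlgebra
  haveI : IsScalarTower A E T := IsScalarTower.of_algebraMap_eq fun _ => rfl
  haveI : IsLocalHom (algebraMap A T) := inferInstanceAs (IsLocalHom ((algebraMap E T).comp (algebraMap A E)))
  obtain ⟨h, ⟨hh, hhr⟩, -⟩ := Hensel.IsStrictHenselization.universal (R := A) (S := S) T (algebraMap A T)
    τ.symm.toRingEquiv.toRingHom (RingHom.ext fun x => by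
      obtain ⟨a, rfl⟩ := residue_surjective x
      show τ.symm (residue S (algebraMap A S a)) = residue T (algebraMap E T (algebraMap A E a))
      rw [IsScalarTower.algebraMap_apply A E S]
      exact τ.symm.commutes (residue E (algebraMap A E a)))
  have hgh : g.comp h = RingHom.id S := by
    obtain ⟨b, -, hb⟩ := Hensel.IsStrictHenselization.universal (R := A) (S := S) S (algebraMap A S) (RingHom.id _)
      (RingHom.id_comp _)
    refine (hb _ ⟨?_, fun x => ?_⟩).trans (hb _ ⟨RingHom.id_comp _, fun x => rfl⟩).symm
    · rw [RingHom.comp_assoc, hh]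
      show g.comp ((algebraMap E T).comp (algebraMap A E)) = _
      rw [← RingHom.comp_assoc, hg, ← IsScalarTower.algebraMap_eq]
    · show residue S (g (h x)) = residue S x
      rw [hgr, hhr]
      exact τ.apply_symm_apply _
  have hhE : h.comp (algebraMap E S) = algebraMap E T := by
    let a : E →ₐ[A] T := { h.comp (algebraMap E S) with
      commutes' := fun r => (congrArg h (IsScalarTower.algebraMap_apply A E S r).symm).trans congr($hh r) }
    suffices a = IsScalarTower.toAlgHom A E T from congrArg AlgHom.toRingHom this
    refine Algebra.FormallyUnramified.ext_of_iInf (I := maximalIdeal T)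
      (Ideal.iInf_pow_eq_bot_of_isLocalRing _ (maximalIdeal.isMaximal T).ne_top) fun d => ?_
    show residue T (h (algebraMap E S d)) = residue T (algebraMap E T d)
    rw [hhr]
    exact τ.symm.commutes (residue E d)
  have hhg : h.comp g = RingHom.id T := by
    obtain ⟨b, -, hb⟩ := Hensel.IsStrictHenselization.universal (R := E) (S := T) T (algebraMap E T) (RingHom.id _)
      (RingHom.id_comp _)
    refine (hb _ ⟨?_, fun x => ?_⟩).trans (hb _ ⟨RingHom.id_comp _, fun x => rfl⟩).symm
    · rw [RingHom.comp_assoc, hg, hhE]
    · show residue T (h (g x)) = residue T x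
      rw [hhr, hgr]
      exact τ.symm_apply_apply _
  let g' : T →ₐ[E] S := { g with commutes' := fun d => congr($hg d) }
  exact ⟨AlgEquiv.ofBijective g' ⟨fun x y hxy => congr($hhg x).symm.trans ((congrArg h hxy).trans congr($hhg y)),
    fun x => ⟨h x, congr($hgh x)⟩⟩⟩

theorem good_etale (A E : Type u) [CommRing A] [IsLocalRing A] [CommRing E] [HenselianLocalRing E] [Algebra A E]
    [Algebra.Etale A E] : Branch14.Good A E where
  flat := inferInstance
  inc P Q hP hQ hle h :=
    haveI := hP
    haveI := hQ
    haveI : P.LiesOver (P.comap (algebraMap A E)) := ⟨rfl⟩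
    haveI : Q.LiesOver (P.comap (algebraMap A E)) := ⟨h⟩
    Algebra.QuasiFinite.eq_of_le_of_under_eq P Q hle h
  hens := inferInstance
  dom hfin M hM x y hxy := by
    haveI := hM
    let N := CAlg2.normRed A
    haveI : IsDomain (Localization.AtPrime M) := Branch14.isDomain_localization_of_etale (R := N) (E := N ⊗[A] E)
      (fun p _ => Branch14.normRed_localization_normal A hfin p) M
    have h0 : algebraMap (N ⊗[A] E) (Localization.AtPrime M) x * algebraMap (N ⊗[A] E) (Localization.AtPrime M) y = 0 := by
      rw [← map_mul, hxy, map_zero]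
    rcases mul_eq_zero.1 h0 with h | h
    · obtain ⟨⟨t, ht⟩, htx⟩ := (IsLocalization.map_eq_zero_iff M.primeCompl (Localization.AtPrime M) x).1 h
      exact ⟨t, ht, Or.inl htx⟩
    · obtain ⟨⟨t, ht⟩, hty⟩ := (IsLocalization.map_eq_zero_iff M.primeCompl (Localization.AtPrime M) y).1 h
      exact ⟨t, ht, Or.inr hty⟩

/-- For a reduced ring, the normalization is the integral closure in the fraction ring. -/
theorem exists_normRed_equiv (A : Type u) [CommRing A] [IsReduced A] :
    Nonempty (integralClosure A (FractionRing A) ≃ₐ[A] CAlg2.normRed A) := by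
  let φ : A ≃+* CAlg2.red A :=
    RingEquiv.ofBijective (Ideal.Quotient.mk (nilradical A))
      ⟨RingHom.injective_iff_ker_eq_bot _ |>.2 (by rw [Ideal.mk_ker, nilradical_eq_zero]; rfl),
        Ideal.Quotient.mk_surjective⟩
  let ψ : FractionRing A ≃+* FractionRing (CAlg2.red A) := IsFractionRing.ringEquivOfRingEquiv φ
  have hψ : ∀ a, ψ (algebraMap A (FractionRing A) a) = algebraMap (CAlg2.red A) _ (φ a) :=
    fun a => IsFractionRing.ringEquivOfRingEquiv_algebraMap φ a
  have hint : ∀ x, x ∈ integralClosure A (FractionRing A) ↔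
      ψ x ∈ integralClosure (CAlg2.red A) (FractionRing (CAlg2.red A)) := fun x => by
    constructor
    · rintro ⟨P, hP, hPx⟩
      refine ⟨P.map φ.toRingHom, hP.map _, ?_⟩
      rw [Polynomial.eval₂_map, show (algebraMap (CAlg2.red A) _).comp φ.toRingHom =
        ψ.toRingHom.comp (algebraMap A (FractionRing A)) from RingHom.ext fun a => (hψ a).symm]
      rw [show ψ x = ψ.toRingHom x from rfl, ← Polynomial.hom_eval₂, hPx, map_zero]
    · rintro ⟨P, hP, hPx⟩
      refine ⟨P.map φ.symm.toRingHom, hP.map _, ψ.injective ?_⟩
      rw [Polynomial.eval₂_map, map_zero, ← hPx]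
      show ψ.toRingHom _ = _
      rw [Polynomial.hom_eval₂]
      congr 1
      exact RingHom.ext fun a => (hψ _).trans (by simp)
  let e : integralClosure A (FractionRing A) ≃+* CAlg2.normRed A :=
    { toFun := fun x => ⟨ψ x.1, (hint x.1).1 x.2⟩
      invFun := fun y => ⟨ψ.symm y.1, (hint _).2 (by rw [ψ.apply_symm_apply]; exact y.2)⟩
      left_inv := fun x => Subtype.ext (ψ.symm_apply_apply x.1)
      right_inv := fun y => Subtype.ext (ψ.apply_symm_apply y.1)
      map_mul' := fun x y => Subtype.ext (map_mul ψ x.1 y.1)
      map_add' := fun x y => Subtype.ext (map_add ψ x.1 y.1) }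
  exact ⟨AlgEquiv.ofRingEquiv (f := e) fun a => Subtype.ext (hψ a)⟩

/-- Pairs of a maximal ideal and an embedding are algebra maps to the algebraic closure. -/
theorem nonempty_emb_equiv (A : Type u) [CommRing A] [IsLocalRing A] :
    Nonempty ((Σ m : MaximalSpectrum (CAlg2.normRed A), Brnch.Emb A m) ≃
      (CAlg2.normRed A →ₐ[A] AlgebraicClosure (ResidueField A))) := by
  let N := CAlg2.normRed A
  let F : (Σ m : MaximalSpectrum N, Brnch.Emb A m) → (N →ₐ[A] AlgebraicClosure (ResidueField A)) := fun p =>
    { p.2.1.comp (Ideal.Quotient.mk p.1.asIdeal) with commutes' := fun a => congr($(p.2.2) a) }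
  refine ⟨Equiv.ofBijective F ⟨?_, fun ψ => ?_⟩⟩
  · rintro ⟨m, σ, hσ⟩ ⟨m', σ', hσ'⟩ h
    have he : ∀ b, σ (Ideal.Quotient.mk m.asIdeal b) = σ' (Ideal.Quotient.mk m'.asIdeal b) := fun b => congr($h b)
    obtain rfl : m = m' := MaximalSpectrum.ext (Ideal.ext fun b => by
      have := m.isMaximal
      have := m'.isMaximal
      let _ := Ideal.Quotient.field m.asIdeal
      let _ := Ideal.Quotient.field m'.asIdeal
      rw [← Ideal.Quotient.eq_zero_iff_mem, ← Ideal.Quotient.eq_zero_iff_mem,
        ← map_eq_zero σ, ← map_eq_zero σ', he])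
    obtain rfl : σ = σ' := Ideal.Quotient.ringHom_ext (RingHom.ext he)
    rfl
  · let m : Ideal N := RingHom.ker ψ.toRingHom
    have hm : m.IsMaximal := by
      have := RingHom.ker_isPrime ψ.toRingHom
      refine Ideal.isMaximal_of_isIntegral_of_isMaximal_comap (R := A) m ?_
      have hc : m.comap (algebraMap A N) = maximalIdeal A := Ideal.ext fun a => by
        show ψ (algebraMap A _ a) = 0 ↔ _
        rw [ψ.commutes, IsScalarTower.algebraMap_apply A (ResidueField A) (AlgebraicClosure (ResidueField A)),
          map_eq_zero]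
        exact residue_eq_zero_iff a
      rw [hc]
      exact maximalIdeal.isMaximal A
    exact ⟨⟨⟨m, hm⟩, RingHom.kerLift ψ.toRingHom, RingHom.ext fun a => (ψ.commutes a).trans rfl⟩, AlgHom.ext fun x => rfl⟩

/-- Points of `B ⊗ E` over a point of `E`, and embeddings into the residue field of `E`. -/
theorem points_iff {A B E : Type u} [CommRing A] [IsLocalRing A] [CommRing B] [IsLocalRing B] [Algebra A B]
    [IsLocalHom (algebraMap A B)] [Algebra.IsIntegral A B] [CommRing E] [IsLocalRing E] [Algebra A E]
    [IsLocalHom (algebraMap A E)] [FiniteDimensional (ResidueField A) (ResidueField B)]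
    [Algebra.IsAlgebraic (ResidueField A) (ResidueField E)] :
    (Finite (B →ₐ[A] AlgebraicClosure (ResidueField A))) ∧
    ((ENat.card (B →ₐ[A] AlgebraicClosure (ResidueField A)) = ENat.card (MaximalSpectrum (B ⊗[A] E))) ↔
      Nat.card (separableClosure (ResidueField A) (ResidueField B) →ₐ[ResidueField A] ResidueField E) =
        Module.finrank (ResidueField A) (separableClosure (ResidueField A) (ResidueField B))) := by
  let k := ResidueField A
  let L := ResidueField B
  let kE := ResidueField E
  let Ω := AlgebraicClosure k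
  let Ks := separableClosure k L
  haveI : IsScalarTower A B L := inferInstance
  -- algebra maps from `B` are embeddings of its residue field
  let toL : (L →ₐ[k] Ω) → (B →ₐ[A] Ω) := fun σ =>
    { σ.toRingHom.comp (residue B) with
      commutes' := fun a => σ.commutes (residue A a) }
  have htoL : Function.Bijective toL := by
    refine ⟨fun σ σ' h => AlgHom.ext fun x => ?_, fun ψ => ?_⟩
    · obtain ⟨b, rfl⟩ := residue_surjective x
      exact congr($h b)
    · have hker : RingHom.ker ψ.toRingHom = maximalIdeal B := by
        have := RingHom.ker_isPrime ψ.toRingHom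
        refine eq_maximalIdeal (Ideal.isMaximal_of_isIntegral_of_isMaximal_comap (R := A) _ ?_)
        have hc : (RingHom.ker ψ.toRingHom).comap (algebraMap A B) = maximalIdeal A := Ideal.ext fun a => by
          show ψ (algebraMap A B a) = 0 ↔ _
          rw [ψ.commutes, IsScalarTower.algebraMap_apply A k Ω, map_eq_zero]
          exact residue_eq_zero_iff a
        rw [hc]
        exact maximalIdeal.isMaximal A
      let σ₀ : L →+* Ω := Ideal.Quotient.lift (maximalIdeal B) ψ.toRingHom fun x hx => hker.ge hx
      have hσ₀ : ∀ x : k, σ₀ (algebraMap k L x) = algebraMap k Ω x := fun x => by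
        obtain ⟨a, rfl⟩ := residue_surjective x
        exact ψ.commutes a
      exact ⟨{ σ₀ with commutes' := hσ₀ }, AlgHom.ext fun b => rfl⟩
  haveI : Finite (B →ₐ[A] Ω) := Finite.of_surjective toL htoL.2
  let ι : kE →ₐ[k] Ω := IsAlgClosed.lift
  letI : Algebra kE Ω := ι.toRingHom.toAlgebra
  haveI : IsScalarTower k kE Ω := IsScalarTower.of_algebraMap_eq fun x => (ι.commutes x).symm
  haveI : Algebra.IsAlgebraic kE Ω := Algebra.IsAlgebraic.tower_top (K := k) kE
  haveI : IsAlgClosure kE Ω := ⟨inferInstance, inferInstance⟩
  let kΩ : E →ₐ[A] Ω :=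
    { ι.toRingHom.comp (residue E) with commutes' := fun a => ι.commutes (residue A a) }
  have hkΩ : RingHom.ker kΩ.toRingHom = maximalIdeal E := Ideal.ext fun e => by
    show ι (residue E e) = 0 ↔ _
    rw [map_eq_zero, residue_eq_zero_iff]
  have hintE : (Algebra.TensorProduct.includeRight : E →ₐ[A] B ⊗[A] E).toRingHom.IsIntegral :=
    Hens.isIntegral_includeRight A B E
  have hmax : ∀ ψ : B →ₐ[A] Ω, (RingHom.ker (Algebra.TensorProduct.lift ψ kΩ fun _ _ => Commute.all _ _).toRingHom).IsMaximal := by
    intro ψ
    letI : Algebra E (B ⊗[A] E) := (Algebra.TensorProduct.includeRight : E →ₐ[A] B ⊗[A] E).toRingHom.toAlgebra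
    haveI : Algebra.IsIntegral E (B ⊗[A] E) := ⟨hintE⟩
    haveI := RingHom.ker_isPrime (Algebra.TensorProduct.lift ψ kΩ fun _ _ => Commute.all _ _).toRingHom
    refine Ideal.isMaximal_of_isIntegral_of_isMaximal_comap (R := E) _ ?_
    have hc : (RingHom.ker (Algebra.TensorProduct.lift ψ kΩ fun _ _ => Commute.all _ _).toRingHom).comap
        (algebraMap E (B ⊗[A] E)) = maximalIdeal E := Ideal.ext fun e => by
      show Algebra.TensorProduct.lift ψ kΩ _ (1 ⊗ₜ e) = 0 ↔ _
      rw [Algebra.TensorProduct.lift_tmul, map_one, one_mul, ← hkΩ]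
      rfl
    rw [hc]
    exact maximalIdeal.isMaximal E
  let G : (B →ₐ[A] Ω) → MaximalSpectrum (B ⊗[A] E) := fun ψ => ⟨_, hmax ψ⟩
  have hG : Function.Surjective G := fun M => by
    haveI := M.isMaximal
    have hkk : RingHom.ker kΩ.toRingHom =
        M.asIdeal.comap (Algebra.TensorProduct.includeRight : E →ₐ[A] B ⊗[A] E).toRingHom := by
      letI : Algebra E (B ⊗[A] E) := (Algebra.TensorProduct.includeRight : E →ₐ[A] B ⊗[A] E).toRingHom.toAlgebra
      haveI : Algebra.IsIntegral E (B ⊗[A] E) := ⟨hintE⟩
      rw [hkΩ]
      exact (eq_maximalIdeal (Ideal.isMaximal_comap_of_isIntegral_of_isMaximal (R := E) M.asIdeal)).symm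
    obtain ⟨θ, hθM, hθk⟩ := Branch14.exists_point _ hintE M.asIdeal kΩ.toRingHom hkk
    let ψ : B →ₐ[A] Ω :=
      { θ.comp (Algebra.TensorProduct.includeLeft : B →ₐ[A] B ⊗[A] E).toRingHom with
        commutes' := fun a => by
          show θ (algebraMap A B a ⊗ₜ 1) = _
          rw [Algebra.algebraMap_eq_smul_one a, TensorProduct.smul_tmul, ← Algebra.algebraMap_eq_smul_one,
            ← kΩ.commutes a]
          exact RingHom.congr_fun hθk (algebraMap A E a) }
    refine ⟨ψ, MaximalSpectrum.ext ?_⟩
    show RingHom.ker _ = M.asIdeal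
    rw [← hθM]
    congr 1
    refine RingHom.ext fun x => ?_
    induction x using TensorProduct.induction_on with
    | zero => rw [map_zero, map_zero]
    | add a b ha hb => rw [map_add, map_add, ha, hb]
    | tmul b e =>
      show Algebra.TensorProduct.lift ψ kΩ _ (b ⊗ₜ e) = _
      rw [Algebra.TensorProduct.lift_tmul, show b ⊗ₜ[A] e = b ⊗ₜ[A] (1 : E) * (1 : B) ⊗ₜ[A] e by
        rw [Algebra.TensorProduct.tmul_mul_tmul, mul_one, one_mul], map_mul]
      exact congrArg (ψ b * ·) (RingHom.congr_fun hθk e).symm
  haveI : Finite (MaximalSpectrum (B ⊗[A] E)) := Finite.of_surjective G hG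
  have hpush : Function.Injective G ↔ ∀ τ : Ks →ₐ[k] Ω, ∀ y, τ y ∈ Set.range ι := by
    constructor
    · intro hinj τ y
      by_contra hy
      obtain ⟨σ, hσ⟩ : ∃ σ : L →ₐ[k] Ω, σ.comp (IsScalarTower.toAlgHom k Ks L) = τ := by
        letI := τ.toRingHom.toAlgebra
        haveI : IsScalarTower k Ks Ω := IsScalarTower.of_algebraMap_eq fun x => (τ.commutes x).symm
        exact ⟨(IsAlgClosed.lift : L →ₐ[Ks] Ω).restrictScalars k,
          AlgHom.ext fun x => (IsAlgClosed.lift : L →ₐ[Ks] Ω).commutes x⟩
      have hz : IsSeparable kE (τ y) :=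
        IsSeparable.tower_top kE ((IsSeparable.map τ τ.toRingHom.injective (Algebra.IsSeparable.isSeparable k y)) : IsSeparable k (τ y))
      obtain ⟨z', hne, hconj⟩ := (notMem_iff_exists_ne_and_isConjRoot hz (IsAlgClosed.splits _)).1
        (fun h => hy (by
          obtain ⟨c, hc⟩ := Algebra.mem_bot.1 h
          exact ⟨c, hc⟩))
      obtain ⟨g, hg⟩ := hconj.exists_algEquiv
      have hGe : G (toL σ) = G (toL ((g.toAlgHom.restrictScalars k).comp σ)) := by
        refine MaximalSpectrum.ext (Ideal.ext fun x => ?_)
        have key : Algebra.TensorProduct.lift (toL ((g.toAlgHom.restrictScalars k).comp σ)) kΩ (fun _ _ => Commute.all _ _) x =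
            g (Algebra.TensorProduct.lift (toL σ) kΩ (fun _ _ => Commute.all _ _) x) := by
          induction x using TensorProduct.induction_on with
          | zero => simp
          | add a b ha hb => simp only [map_add, ha, hb]
          | tmul b e =>
            rw [Algebra.TensorProduct.lift_tmul, Algebra.TensorProduct.lift_tmul, map_mul]
            exact congrArg₂ (· * ·) rfl (g.commutes (residue E e)).symm
        show Algebra.TensorProduct.lift (toL σ) kΩ _ x = 0 ↔ Algebra.TensorProduct.lift (toL _) kΩ _ x = 0
        rw [key]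
        exact (map_eq_zero_iff g g.injective).symm
      have hh := htoL.1 (hinj hGe)
      have h1 : σ (y : L) = g (σ (y : L)) := congr($hh (y : L))
      have h2 : σ (y : L) = τ y := congr($hσ y)
      rw [h2] at h1
      exact hne (g.injective (h1.symm.trans hg.symm))
    · intro hall ψ ψ' hGe
      obtain ⟨σ, rfl⟩ := htoL.2 ψ
      obtain ⟨σ', rfl⟩ := htoL.2 ψ'
      congr 1
      refine IsPurelyInseparable.injective_restrictDomain Ks L k Ω (AlgHom.ext fun y => ?_)
      obtain ⟨c, hc⟩ := hall (σ.comp (IsScalarTower.toAlgHom k Ks L)) y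
      show σ (y : L) = σ' (y : L)
      obtain ⟨b, hb⟩ := residue_surjective (y : L)
      obtain ⟨e, he⟩ := residue_surjective c
      have hmem : b ⊗ₜ[A] (1 : E) - 1 ⊗ₜ[A] e ∈ (G (toL σ)).asIdeal := by
        show Algebra.TensorProduct.lift (toL σ) kΩ _ (b ⊗ₜ[A] (1 : E) - 1 ⊗ₜ[A] e) = 0
        rw [map_sub, Algebra.TensorProduct.lift_tmul, Algebra.TensorProduct.lift_tmul, map_one, map_one, mul_one,
          one_mul, sub_eq_zero]
        show σ (residue B b) = ι (residue E e)
        rw [hb, he]
        exact hc.symm
      rw [hGe] at hmem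
      have h2 : Algebra.TensorProduct.lift (toL σ') kΩ (fun _ _ => Commute.all _ _) (b ⊗ₜ[A] (1 : E) - 1 ⊗ₜ[A] e) = 0 := hmem
      rw [map_sub, Algebra.TensorProduct.lift_tmul, Algebra.TensorProduct.lift_tmul, map_one, map_one, mul_one,
          one_mul, sub_eq_zero] at h2
      have h3 : σ' (residue B b) = ι (residue E e) := h2
      rw [hb, he] at h3
      rw [h3]
      exact hc.symm
  refine ⟨inferInstance, ?_⟩
  have hcard : Nat.card (Ks →ₐ[k] Ω) = Module.finrank k Ks := by
    rw [Nat.card_eq_fintype_card, AlgHom.card]
  rw [ENat.card_eq_coe_natCard, ENat.card_eq_coe_natCard, ENat.coe_inj, ← hcard]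
  let J : (Ks →ₐ[k] kE) → (Ks →ₐ[k] Ω) := fun f => ι.comp f
  have hJ : Function.Injective J := fun f f' h => AlgHom.ext fun x => ι.injective congr($h x)
  haveI : Finite (Ks →ₐ[k] kE) := Finite.of_injective J hJ
  constructor
  · intro h
    have hinj := ((Nat.bijective_iff_surjective_and_card G).2 ⟨hG, h⟩).1
    refine Nat.card_eq_of_bijective J ⟨hJ, fun τ => ?_⟩
    choose c hc using hpush.1 hinj τ
    refine ⟨{ toFun := c
              map_one' := ι.injective (by simp [hc])
              map_mul' := fun x y => ι.injective (by simp [hc])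
              map_zero' := ι.injective (by simp [hc])
              map_add' := fun x y => ι.injective (by simp [hc])
              commutes' := fun x => ι.injective ((hc _).trans ((τ.commutes x).trans (ι.commutes x).symm)) }, AlgHom.ext fun x => hc x⟩
  · intro h
    refine Nat.card_eq_of_bijective G ⟨hpush.2 fun τ y => ?_, hG⟩
    obtain ⟨f, rfl⟩ := ((Nat.bijective_iff_injective_and_card J).2 ⟨hJ, h⟩).2 τ
    exact ⟨f y, rfl⟩

open IsLocalRing in
/-- Let A be an excellent henselian local domain with residue field k, whose integral closure A' in its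
fraction field is a local ring (as it is, A being henselian) with local inclusion A → A' and residue
field k'; let k^s be the separable closure of k in k', S a strict henselization of A, and E a local
ring which is an essentially etale local A-algebra with local structure map, together with an
A-algebra map E → S. Then every minimal prime ideal of S is generated by its contraction to E if and
only if the number of k-algebra maps from k^s to the residue field of E equals the degree [k^s : k];
equivalently, the minimal polynomial of a primitive element of k^s over k splits into linear factors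
over the residue field of E. -/
theorem result
    (A S E : Type u) [CommRing A] [HenselianLocalRing A] [IsDomain A] (hA : EGA4.IsExcellent A)
    [IsLocalRing (integralClosure A (FractionRing A))] [IsLocalHom (algebraMap A (integralClosure A (FractionRing A)))]
    [CommRing S] [IsLocalRing S] [Algebra A S] [IsLocalHom (algebraMap A S)]
    [Hensel.IsStrictHenselization A S]
    [CommRing E] [IsLocalRing E] [Algebra A E] [IsLocalHom (algebraMap A E)]
    (hE : EGA4loc.IsEssentiallyEtale A E) [Algebra E S] [IsScalarTower A E S] :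
    (∀ Q ∈ minimalPrimes S, Q = Ideal.map (algebraMap E S) (Q.comap (algebraMap E S))) ↔
      Nat.card (separableClosure (ResidueField A) (ResidueField (integralClosure A (FractionRing A))) →ₐ[ResidueField A]
          ResidueField E) =
        Module.finrank (ResidueField A)
          (separableClosure (ResidueField A) (ResidueField (integralClosure A (FractionRing A)))) := by
  haveI : IsNoetherianRing A := hA.1
  haveI : HenselianLocalRing S := Hensel.IsStrictHenselization.henselian (R := A)
  obtain ⟨hfin, het⟩ := finite_of_essEtale A E hE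
  haveI := hfin
  haveI := het
  haveI : HenselianLocalRing E := Groth.Agent.S0505.result A E
  haveI : IsNoetherianRing E := Algebra.FiniteType.isNoetherianRing A E
  have hmE : Ideal.map (algebraMap A E) (IsLocalRing.maximalIdeal A) = IsLocalRing.maximalIdeal E :=
    Algebra.FormallyUnramified.map_maximalIdeal
  haveI : IsLocalHom (algebraMap E S) := by
    refine ((IsLocalRing.local_hom_TFAE (algebraMap E S)).out 0 2).mpr ?_
    rw [← hmE, Ideal.map_map, ← IsScalarTower.algebraMap_eq]
    exact ((IsLocalRing.local_hom_TFAE (algebraMap A S)).out 0 2).mp ‹IsLocalHom (algebraMap A S)›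
  obtain ⟨e⟩ := exists_equiv_hsh A S E
  let B := integralClosure A (FractionRing A)
  haveI : Module.Finite A B := ExcDVR.finite_integralClosure A hA (FractionRing A) (FractionRing A)
  haveI : Module.Finite A (IsLocalRing.ResidueField B) :=
    Module.Finite.of_surjective (IsScalarTower.toAlgHom A B (IsLocalRing.ResidueField B)).toLinearMap
      IsLocalRing.residue_surjective
  haveI : FiniteDimensional (IsLocalRing.ResidueField A) (IsLocalRing.ResidueField B) :=
    Module.Finite.of_restrictScalars_finite A _ _
  haveI : Module.Finite A (IsLocalRing.ResidueField E) :=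
    Module.Finite.of_surjective (IsScalarTower.toAlgHom A E (IsLocalRing.ResidueField E)).toLinearMap
      IsLocalRing.residue_surjective
  haveI : Module.Finite (IsLocalRing.ResidueField A) (IsLocalRing.ResidueField E) :=
    Module.Finite.of_restrictScalars_finite A _ _
  obtain ⟨hfinB, hiff⟩ := points_iff (A := A) (B := B) (E := E)
  rw [← hiff]
  have hmin : (minimalPrimes A).Finite := minimalPrimes.finite_of_isNoetherianRing A
  have h1 : (∀ Q ∈ minimalPrimes S, Q = Ideal.map (algebraMap E S) (Q.comap (algebraMap E S))) ↔
      ∀ Q ∈ minimalPrimes (Hens.Hsh E), Q = Ideal.map (algebraMap E (Hens.Hsh E)) (Q.comap (algebraMap E (Hens.Hsh E))) :=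
    ⟨Groth.Agent.S16436.extended_of_equiv e.symm, Groth.Agent.S16436.extended_of_equiv e⟩
  rw [h1, Groth.Agent.S16431.extended_iff E (Hens.Hsh E)]
  have hS : ENat.card (minimalPrimes (Hens.Hsh E)) = ENat.card (B →ₐ[A] AlgebraicClosure (IsLocalRing.ResidueField A)) := by
    rw [show ENat.card (minimalPrimes (Hens.Hsh E)) = ENat.card (minimalPrimes S) from
      StalkHens14.encard_minimalPrimes_of_ringEquiv e.toRingEquiv,
      Branch14.card_minimalPrimes_strictHenselization A S, Branch14.numGeomBranches_of_finite A hmin]
    obtain ⟨e₁⟩ := nonempty_emb_equiv A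
    obtain ⟨e₂⟩ := exists_normRed_equiv A
    exact ENat.card_congr (e₁.trans (AlgEquiv.arrowCongr e₂.symm AlgEquiv.refl))
  have hE' : ENat.card (minimalPrimes E) = ENat.card (MaximalSpectrum (B ⊗[A] E)) := by
    obtain ⟨e₃⟩ := (good_etale A E).nonempty_equiv hmin
    obtain ⟨e₂⟩ := exists_normRed_equiv A
    let ee : B ⊗[A] E ≃ₐ[A] CAlg2.normRed A ⊗[A] E := Algebra.TensorProduct.congr e₂ AlgEquiv.refl
    refine ENat.card_congr (e₃.trans
      { toFun := fun M => ⟨M.asIdeal.comap ee.toRingEquiv.toRingHom,
          haveI := M.isMaximal; Ideal.comap_isMaximal_of_surjective _ ee.surjective⟩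
        invFun := fun M => ⟨M.asIdeal.comap ee.symm.toRingEquiv.toRingHom,
          haveI := M.isMaximal; Ideal.comap_isMaximal_of_surjective _ ee.symm.surjective⟩
        left_inv := fun M => MaximalSpectrum.ext (Ideal.ext fun x => by simp)
        right_inv := fun M => MaximalSpectrum.ext (Ideal.ext fun x => by simp) })
  rw [hS, hE']

end Groth.Agent.S16437
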