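import Groth.Statements.S16435
import Groth.Agent.S16437
import Groth.Agent.Lib.SHens6.GaloisEt
import Mathlib.FieldTheory.CardinalEmb

set_option autoImplicit false
set_option linter.style.haveILetI false
set_option maxSynthPendingDepth 3
set_option backward.isDefEq.respectTransparency.types false
universe u
open Hensel

namespace Groth.Agent.S16435

open IsLocalRing
open scoped TensorProduct

/-- Finitely many embeddings iff finite separable closure. -/
theorem finite_emb_iff (D : Type u) [CommRing D] [IsLocalRing D] {L : Type u} [Field L] (φ : D →+* L)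
    (hker : ∀ a ∈ maximalIdeal D, φ a = 0) (hint : φ.IsIntegral) :
    Finite {σ : L →+* AlgebraicClosure (ResidueField D) // σ.comp φ = Brnch.toClosure D} ↔
      FiniteDimensional (Subfield.closure (Set.range φ)) (separableClosure (Subfield.closure (Set.range φ)) L) := by
  let κ := ResidueField D
  let Ω := AlgebraicClosure κ
  let k₀ := Subfield.closure (Set.range φ)
  let ψ : κ →+* L := Ideal.Quotient.lift _ φ hker
  let ψ₀ : κ →+* k₀ := ψ.codRestrict k₀ fun x => by
    obtain ⟨d, rfl⟩ := residue_surjective x
    exact Subfield.subset_closure ⟨d, rfl⟩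
  have hsurj : Function.Surjective ψ₀ := fun y => by
    obtain ⟨x, hx⟩ := ((Subfield.closure_le).2 (show Set.range φ ⊆ (ψ.fieldRange : Set L) from
      fun _ ⟨d, hd⟩ => ⟨residue D d, hd⟩)) y.2
    exact ⟨x, Subtype.ext hx⟩
  let e : κ ≃+* k₀ := RingEquiv.ofBijective ψ₀ ⟨ψ₀.injective, hsurj⟩
  letI : Algebra k₀ Ω := ((algebraMap κ Ω).comp e.symm.toRingHom).toAlgebra
  have hφ : ∀ d, algebraMap k₀ L (e (residue D d)) = φ d := fun d => rfl
  haveI : Algebra.IsAlgebraic k₀ L := by
    refine ⟨fun x => IsIntegral.isAlgebraic ?_⟩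
    obtain ⟨P, hP, hPx⟩ := hint x
    refine ⟨P.map (φ.codRestrict k₀ fun d => Subfield.subset_closure ⟨d, rfl⟩), hP.map _, ?_⟩
    rw [Polynomial.eval₂_map]
    exact hPx
  let eE : {σ : L →+* Ω // σ.comp φ = Brnch.toClosure D} ≃ (L →ₐ[k₀] Ω) :=
    { toFun := fun σ => { σ.1 with
        commutes' := fun y => by
          obtain ⟨x, rfl⟩ := e.surjective y
          obtain ⟨d, rfl⟩ := residue_surjective x
          show σ.1 (φ d) = algebraMap κ Ω (e.symm (e (residue D d)))
          rw [e.symm_apply_apply]
          exact congr($(σ.2) d) }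
      invFun := fun σ => ⟨σ.toRingHom, RingHom.ext fun d => by
        show σ (φ d) = _
        rw [← hφ, σ.commutes]
        show algebraMap κ Ω (e.symm (e (residue D d))) = _
        rw [e.symm_apply_apply]
        rfl⟩
      left_inv := fun σ => rfl
      right_inv := fun σ => rfl }
  let Ks := separableClosure k₀ L
  let eR : (L →ₐ[k₀] Ω) ≃ (Ks →ₐ[k₀] Ω) :=
    Equiv.ofBijective _ (IsPurelyInseparable.bijective_restrictDomain Ks L k₀ Ω)
  rw [(eE.trans eR).finite_iff]
  constructor
  · intro hfin
    have hF : Finite (Field.Emb k₀ Ks) := (Field.embEquivOfIsAlgClosed k₀ Ks Ω).finite_iff.2 hfin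
    by_contra hinf
    have hr : Cardinal.aleph0 ≤ Module.rank k₀ Ks := not_lt.1 fun h => hinf (Module.rank_lt_aleph0_iff.1 h)
    have h2 := Cardinal.lt_aleph0_of_finite (Field.Emb k₀ Ks)
    rw [Field.Emb.cardinal_eq_two_pow_rank hr] at h2
    exact absurd h2 (not_lt.2 (hr.trans (Cardinal.cantor _).le))
  · intro _
    infer_instance

theorem cond_iff (D : Type u) [CommRing D] [IsLocalRing D] [IsReduced D] :
    (∀ (M : Ideal (integralClosure D (FractionRing D))) [M.IsMaximal],
        FiniteDimensional (Subfield.closure (Set.range ((algebraMap (integralClosure D (FractionRing D)) M.ResidueField).comp (algebraMap D (integralClosure D (FractionRing D)))))) (separableClosure (Subfield.closure (Set.range ((algebraMap (integralClosure D (FractionRing D)) M.ResidueField).comp (algebraMap D (integralClosure D (FractionRing D)))))) M.ResidueField)) ↔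
      ∀ m : MaximalSpectrum (CAlg2.normRed D), Finite (Brnch.Emb D m) := by
  let C := integralClosure D (FractionRing D)
  obtain ⟨e₂⟩ := Groth.Agent.S16437.exists_normRed_equiv D
  have key : ∀ (m : MaximalSpectrum (CAlg2.normRed D)) (M : Ideal C) [M.IsMaximal],
      M = m.asIdeal.comap e₂.toRingEquiv.toRingHom →
      (FiniteDimensional (Subfield.closure (Set.range ((algebraMap C M.ResidueField).comp (algebraMap D C))))
        (separableClosure (Subfield.closure (Set.range ((algebraMap C M.ResidueField).comp (algebraMap D C)))) M.ResidueField) ↔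
        Finite (Brnch.Emb D m)) := by
    intro m M _ hM
    haveI := m.isMaximal
    have hM' : m.asIdeal = M.map (e₂.toRingEquiv : C →+* CAlg2.normRed D) := by
      subst hM
      exact (Ideal.map_comap_of_surjective _ e₂.surjective _).symm
    let q : (C ⧸ M) ≃+* (CAlg2.normRed D ⧸ m.asIdeal) := Ideal.quotientEquiv M m.asIdeal e₂.toRingEquiv hM'
    let r : (C ⧸ M) ≃+* M.ResidueField :=
      RingEquiv.ofBijective (algebraMap (C ⧸ M) M.ResidueField) (Ideal.bijective_algebraMap_quotient_residueField M)
    let ρ : M.ResidueField ≃+* (CAlg2.normRed D ⧸ m.asIdeal) := r.symm.trans q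
    let φ := (algebraMap C M.ResidueField).comp (algebraMap D C)
    have hρ : ∀ d, ρ (φ d) = Brnch.toResidue D m d := fun d => by
      show q (r.symm (r (Ideal.Quotient.mk M (algebraMap D C d)))) = _
      rw [r.symm_apply_apply]
      show Ideal.Quotient.mk m.asIdeal (e₂ (algebraMap D C d)) = _
      rw [e₂.commutes]
      rfl
    rw [← finite_emb_iff D φ (fun a ha => by
        show algebraMap C M.ResidueField (algebraMap D C a) = 0
        rw [Ideal.algebraMap_residueField_eq_zero, ← Ideal.mem_comap,
          IsLocalRing.eq_maximalIdeal (Ideal.isMaximal_comap_of_isIntegral_of_isMaximal (R := D) M)]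
        exact ha) (fun x => by
        obtain ⟨y, rfl⟩ := r.surjective x
        obtain ⟨c, rfl⟩ := Ideal.Quotient.mk_surjective y
        obtain ⟨P, hP, hPc⟩ := Algebra.IsIntegral.isIntegral (R := D) c
        refine ⟨P, hP, ?_⟩
        show Polynomial.eval₂ φ (algebraMap C M.ResidueField c) P = 0
        rw [← Polynomial.hom_eval₂, hPc, map_zero])]
    refine Equiv.finite_iff
      { toFun := fun σ => ⟨σ.1.comp ρ.symm.toRingHom, RingHom.ext fun d => by
          show σ.1 (ρ.symm (Brnch.toResidue D m d)) = _
          rw [← hρ, ρ.symm_apply_apply]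
          exact congr($(σ.2) d)⟩
        invFun := fun σ => ⟨σ.1.comp ρ.toRingHom, RingHom.ext fun d => by
          show σ.1 (ρ (φ d)) = _
          rw [hρ]
          exact congr($(σ.2) d)⟩
        left_inv := fun σ => Subtype.ext (RingHom.ext fun x => congrArg σ.1 (ρ.symm_apply_apply x))
        right_inv := fun σ => Subtype.ext (RingHom.ext fun x => congrArg σ.1 (ρ.apply_symm_apply x)) }
  constructor
  · intro h m
    haveI := m.isMaximal
    haveI := Ideal.comap_isMaximal_of_surjective e₂.toRingEquiv.toRingHom e₂.surjective (K := m.asIdeal)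
    exact (key m _ rfl).1 (h _)
  · intro h M hM
    let m : MaximalSpectrum (CAlg2.normRed D) := ⟨M.comap e₂.symm.toRingEquiv.toRingHom,
      Ideal.comap_isMaximal_of_surjective _ e₂.symm.surjective⟩
    exact (key m M (Ideal.ext fun x => by simp [m])).2 (h m)

/-- Automorphisms of the strict henselization move any minimal prime to any other over the same prime. -/
theorem exists_aut (D : Type u) [CommRing D] [HenselianLocalRing D] (hfin : (minimalPrimes D).Finite)
    (Q R : Ideal (Hens.Hsh D)) (hQ : Q ∈ minimalPrimes (Hens.Hsh D)) (hR : R ∈ minimalPrimes (Hens.Hsh D))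
    (hQR : Q.comap (algebraMap D (Hens.Hsh D)) = R.comap (algebraMap D (Hens.Hsh D))) :
    ∃ a : Hens.Hsh D →+* Hens.Hsh D, Function.Surjective a ∧ Q = R.comap a := by
  let T := Hens.Hsh D
  let N := CAlg2.normRed D
  let κ := ResidueField D
  let Ω := AlgebraicClosure κ
  let kT := ResidueField T
  haveI : HenselianLocalRing T := Hensel.IsStrictHenselization.henselian (R := D)
  have hsc : IsSepClosure κ kT := Hensel.IsStrictHenselization.isSepClosure
  haveI : Algebra.IsSeparable κ kT := hsc.separable
  haveI : IsSepClosed kT := hsc.sep_closed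
  let ι : kT →ₐ[κ] Ω := IsAlgClosed.lift
  letI : Algebra kT Ω := ι.toRingHom.toAlgebra
  haveI : IsScalarTower κ kT Ω := IsScalarTower.of_algebraMap_eq fun x => (ι.commutes x).symm
  haveI : Algebra.IsAlgebraic kT Ω := Algebra.IsAlgebraic.tower_top (K := κ) kT
  haveI : IsPurelyInseparable kT Ω := inferInstance
  let kΩ : T →ₐ[D] Ω := { ι.toRingHom.comp (residue T) with commutes' := fun d => ι.commutes (residue D d) }
  have hkΩ : RingHom.ker kΩ.toRingHom = maximalIdeal T := Ideal.ext fun t => by
    show ι (residue T t) = 0 ↔ _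
    rw [map_eq_zero, residue_eq_zero_iff]
  have hg := Branch14.good_strictHenselization D T
  haveI := hg.flat
  let inc : T →ₐ[D] N ⊗[D] T := Algebra.TensorProduct.includeRight
  obtain ⟨q, hq, hqQ⟩ := (Branch14.bijOn_comap_includeRight D T hg.inc hfin).surjOn hQ
  obtain ⟨q', hq', hqR⟩ := (Branch14.bijOn_comap_includeRight D T hg.inc hfin).surjOn hR
  haveI := hq.1.1
  haveI := hq'.1.1
  have hqP : q.comap (algebraMap D (N ⊗[D] T)) = Q.comap (algebraMap D T) := by
    rw [← hqQ]
    show _ = (q.comap inc.toRingHom).comap (algebraMap D T)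
    rw [Ideal.comap_comap, AlgHom.toRingHom_eq_coe, AlgHom.comp_algebraMap]
  have hqP' : q'.comap (algebraMap D (N ⊗[D] T)) = R.comap (algebraMap D T) := by
    rw [← hqR]
    show _ = (q'.comap inc.toRingHom).comap (algebraMap D T)
    rw [Ideal.comap_comap, AlgHom.toRingHom_eq_coe, AlgHom.comp_algebraMap]
  have hPmin : Q.comap (algebraMap D T) ∈ minimalPrimes D :=
    Branch14.comap_mem_minimalPrimes_of_flat (R := D) (T := T) Q hQ
  obtain ⟨M, hM, hqM⟩ := q.exists_le_maximal (Ideal.IsPrime.ne_top inferInstance)
  obtain ⟨M', hM', hqM'⟩ := q'.exists_le_maximal (Ideal.IsPrime.ne_top inferInstance)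
  let lN : N →+* N ⊗[D] T := algebraMap N (N ⊗[D] T)
  have hlN : ∀ d, lN (algebraMap D N d) = algebraMap D (N ⊗[D] T) d := fun d =>
    (IsScalarTower.algebraMap_apply D N (N ⊗[D] T) d).symm
  have hsame : q.comap lN = q'.comap lN := by
    ext x
    obtain ⟨d, r, hd, hdx⟩ := Branch14.exists_normRed_denominator D x
    have h1 : ∀ (p : Ideal (N ⊗[D] T)) [p.IsPrime], p.comap (algebraMap D (N ⊗[D] T)) = Q.comap (algebraMap D T) →
        (x ∈ p.comap lN ↔ r ∈ Q.comap (algebraMap D T)) := fun p _ hp => by
      rw [← hp, Ideal.mem_comap, Ideal.mem_comap, ← hlN r, ← hdx, map_mul, hlN]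
      exact ⟨fun h => p.mul_mem_left _ h, fun h => ((inferInstance : p.IsPrime).mem_or_mem h).resolve_left fun h' =>
        hd _ hPmin (hp.le h')⟩
    rw [h1 q hqP, h1 q' (hqP'.trans hQR.symm)]
  have hmax : ∀ (X : Ideal (N ⊗[D] T)), X.IsMaximal → (X.comap lN).IsMaximal := fun X hX => by
    haveI := hX
    refine Ideal.isMaximal_of_isIntegral_of_isMaximal_comap (R := D) _ ?_
    have hc : (X.comap lN).comap (algebraMap D N) = maximalIdeal D := by
      rw [Ideal.comap_comap, show lN.comp (algebraMap D N) = inc.toRingHom.comp (algebraMap D T) from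
        (RingHom.ext hlN).trans inc.comp_algebraMap.symm, ← Ideal.comap_comap, hg.comap_eq_maximalIdeal X,
        IsLocalRing.maximalIdeal_comap]
    rw [hc]
    exact maximalIdeal.isMaximal D
  have hm : M.comap lN = M'.comap lN :=
    (Branch14.existsUnique_maximal D (T := N) (q.comap lN)).unique ⟨hmax M hM, Ideal.comap_mono hqM⟩
      ⟨hmax M' hM', hsame ▸ Ideal.comap_mono hqM'⟩
  have hintT := Hens.isIntegral_includeRight D N T
  have hcM : ∀ (X : Ideal (N ⊗[D] T)) [X.IsMaximal], RingHom.ker kΩ.toRingHom = X.comap inc.toRingHom := fun X _ => by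
    rw [hkΩ, hg.comap_eq_maximalIdeal X]
  haveI := hM
  haveI := hM'
  obtain ⟨θ, hθM, hθk⟩ := Branch14.exists_point inc.toRingHom hintT M kΩ.toRingHom (hcM M)
  obtain ⟨θ', hθM', hθk'⟩ := Branch14.exists_point inc.toRingHom hintT M' kΩ.toRingHom (hcM M')
  let m := M.comap lN
  haveI hmm : m.IsMaximal := hmax M hM
  letI := Ideal.Quotient.field m
  have hDm : ∀ (th : N ⊗[D] T →+* Ω), th.comp inc.toRingHom = kΩ.toRingHom → ∀ d,
      th (lN (algebraMap D N d)) = algebraMap κ Ω (residue D d) := fun th hth d => by
    rw [hlN, ← inc.commutes d]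
    exact (RingHom.congr_fun hth (algebraMap D T d)).trans (kΩ.commutes d)
  let κm : κ →+* N ⧸ m := Ideal.Quotient.lift _ ((Ideal.Quotient.mk m).comp (algebraMap D N)) fun d hd =>
    Ideal.Quotient.eq_zero_iff_mem.2 (by
      show d ∈ m.comap (algebraMap D N)
      rw [IsLocalRing.eq_maximalIdeal (Ideal.isMaximal_comap_of_isIntegral_of_isMaximal (R := D) m)]
      exact hd)
  letI : Algebra κ (N ⧸ m) := κm.toAlgebra
  let σ : N ⧸ m →ₐ[κ] Ω :=
    { Ideal.Quotient.lift m (θ.comp lN) fun n hn => hθM.ge hn with
      commutes' := fun x => by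
        obtain ⟨d, rfl⟩ := residue_surjective x
        exact hDm θ hθk d }
  let σ' : N ⧸ m →ₐ[κ] Ω :=
    { Ideal.Quotient.lift m (θ'.comp lN) fun n hn => hθM'.ge (show lN n ∈ M' from hm.le hn) with
      commutes' := fun x => by
        obtain ⟨d, rfl⟩ := residue_surjective x
        exact hDm θ' hθk' d }
  let eσ := AlgEquiv.ofInjectiveField σ
  let f : σ.fieldRange →ₐ[κ] Ω := σ'.comp eσ.symm.toAlgHom
  let g : Ω →ₐ[κ] Ω := f.liftNormal Ω
  have hgσ : ∀ y, g (σ y) = σ' y := fun y => by
    have h1 := f.liftNormal_commutes Ω (eσ y)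
    refine Eq.trans h1 ?_
    show σ' (eσ.symm (eσ y)) = _
    rw [eσ.symm_apply_apply]
  have hgrange : ∀ x : kT, ∃ y : kT, ι y = g (ι x) := fun x => by
    have hs : IsSeparable kT (g (ι x)) := IsSeparable.tower_top kT
      ((IsSeparable.map (g.comp ι) (g.comp ι).toRingHom.injective (Algebra.IsSeparable.isSeparable κ x)) : IsSeparable κ (g (ι x)))
    exact IsPurelyInseparable.inseparable kT (g (ι x)) hs
  choose c hc using hgrange
  let τ : kT →ₐ[κ] kT :=
    { toFun := c
      map_one' := ι.injective (by simp [hc])
      map_mul' := fun x y => ι.injective (by simp [hc])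
      map_zero' := ι.injective (by simp [hc])
      map_add' := fun x y => ι.injective (by simp [hc])
      commutes' := fun x => ι.injective ((hc _).trans ((congrArg g (ι.commutes x)).trans ((g.commutes x).trans (ι.commutes x).symm))) }
  let τe : kT ≃ₐ[κ] kT := AlgEquiv.ofBijective τ (Algebra.IsAlgebraic.algHom_bijective τ)
  obtain ⟨a, ⟨ha, har⟩, -⟩ := Hensel.IsStrictHenselization.universal (R := D) (S := T) T (algebraMap D T)
    τe.toRingEquiv.toRingHom (RingHom.ext τe.commutes)
  obtain ⟨a', ⟨ha', har'⟩, -⟩ := Hensel.IsStrictHenselization.universal (R := D) (S := T) T (algebraMap D T)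
    τe.symm.toRingEquiv.toRingHom (RingHom.ext τe.symm.commutes)
  have haa : a.comp a' = RingHom.id T := by
    obtain ⟨b, -, hb⟩ := Hensel.IsStrictHenselization.universal (R := D) (S := T) T (algebraMap D T) (RingHom.id _)
      (RingHom.id_comp _)
    refine (hb _ ⟨?_, fun x => ?_⟩).trans (hb _ ⟨RingHom.id_comp _, fun x => rfl⟩).symm
    · rw [RingHom.comp_assoc, ha', ha]
    · show residue T (a (a' x)) = residue T x
      rw [har, har']
      exact τe.apply_symm_apply _
  refine ⟨a, fun x => ⟨a' x, congr($haa x)⟩, ?_⟩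
  let aA : T →ₐ[D] T := { a with commutes' := fun d => congr($ha d) }
  let ida : N ⊗[D] T →ₐ[D] N ⊗[D] T := Algebra.TensorProduct.map (AlgHom.id D N) aA
  have hrel : ∀ x, θ' (ida x) = g (θ x) := fun x => by
    induction x using TensorProduct.induction_on with
    | zero => simp
    | add u v hu hv => simp only [map_add, hu, hv]
    | tmul n t =>
      rw [Algebra.TensorProduct.map_tmul, show n ⊗ₜ[D] t = n ⊗ₜ[D] (1 : T) * (1 : N) ⊗ₜ[D] t by
          rw [Algebra.TensorProduct.tmul_mul_tmul, mul_one, one_mul],
        show (AlgHom.id D N) n ⊗ₜ[D] aA t = n ⊗ₜ[D] (1 : T) * (1 : N) ⊗ₜ[D] a t by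
          rw [Algebra.TensorProduct.tmul_mul_tmul, mul_one, one_mul]; rfl, map_mul, map_mul, map_mul]
      refine congrArg₂ (· * ·) ?_ ?_
      · exact (hgσ (Ideal.Quotient.mk m n)).symm
      · refine (RingHom.congr_fun hθk' (a t)).trans (Eq.trans ?_ (congrArg g (RingHom.congr_fun hθk t)).symm)
        show ι (residue T (a t)) = g (ι (residue T t))
        rw [har]
        exact hc _
  have hMc : M = M'.comap ida.toRingHom := Ideal.ext fun x => by
    rw [Ideal.mem_comap, ← hθM', ← hθM, RingHom.mem_ker, RingHom.mem_ker]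
    show θ x = 0 ↔ θ' (ida x) = 0
    rw [hrel]
    exact (map_eq_zero g).symm
  let p := q'.comap ida.toRingHom
  have hp : p ∈ minimalPrimes (N ⊗[D] T) := by
    refine (Branch14.mem_minimalPrimes_tensor_iff D T hg.inc hfin p).2 ?_
    rw [Ideal.comap_comap, AlgHom.toRingHom_eq_coe, AlgHom.comp_algebraMap, hqP', ← hQR]
    exact hPmin
  have hpq : p = q := (hg.existsUnique_minimal hfin M).unique ⟨hp, hMc ▸ Ideal.comap_mono hqM'⟩ ⟨hq, hqM⟩
  rw [← hqQ, ← hqR, ← hpq]
  show (q'.comap ida.toRingHom).comap inc.toRingHom = (q'.comap inc.toRingHom).comap a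
  rw [Ideal.comap_comap, Ideal.comap_comap]
  congr 1

/-- Let A be an excellent henselian reduced local ring, S a strict henselization of A and D any
A-subalgebra of S (an intermediate ring between A and S). Write D' for the integral closure of D in
its total ring of fractions. Then D is Noetherian if and only if, for every maximal ideal M of D'
with residue field l, writing k_0 for the subfield of l generated by the image of D (it is the image
itself, a copy of the residue field of the local ring D), the separable closure of k_0 in l has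
finite degree over k_0. -/
theorem result
    (A S : Type u) [CommRing A] [HenselianLocalRing A] [IsReduced A] (hA : EGA4.IsExcellent A)
    [CommRing S] [IsLocalRing S] [Algebra A S] [IsLocalHom (algebraMap A S)]
    [Hensel.IsStrictHenselization A S] (D : Subalgebra A S) :
    IsNoetherianRing D ↔
      ∀ (M : Ideal (integralClosure D (FractionRing D))) [M.IsMaximal],
        FiniteDimensional (Subfield.closure (Set.range ((algebraMap (integralClosure D (FractionRing D)) M.ResidueField).comp (algebraMap D (integralClosure D (FractionRing D)))))) (separableClosure (Subfield.closure (Set.range ((algebraMap (integralClosure D (FractionRing D)) M.ResidueField).comp (algebraMap D (integralClosure D (FractionRing D)))))) M.ResidueField) := by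
  haveI : IsNoetherianRing A := hA.1
  haveI : HenselianLocalRing S := Hensel.IsStrictHenselization.henselian (R := A)
  haveI : Algebra.IsIntegral A S := ⟨fun x => by
    obtain ⟨N, _, hsN, -, hN, -⟩ := SHens6.exists_galois_ge A S {x}
    haveI := hN
    exact (Algebra.IsIntegral.isIntegral (R := A) (⟨x, hsN (by simp)⟩ : N)).map N.val⟩
  haveI : Algebra.IsIntegral A D := ⟨fun x => (isIntegral_algHom_iff D.val Subtype.val_injective).1
    (Algebra.IsIntegral.isIntegral (R := A) (x : S))⟩
  haveI : Algebra.IsIntegral D S := Algebra.IsIntegral.tower_top (R := A)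
  have hinjD : Function.Injective (algebraMap D S) := fun a b h => Subtype.ext h
  haveI : Nontrivial D := D.toSubring.toSubsemiring.nontrivial
  haveI : IsLocalRing D := IsLocalRing.of_unique_max_ideal
    ⟨(IsLocalRing.maximalIdeal S).comap (algebraMap D S),
      Ideal.isMaximal_comap_of_isIntegral_of_isMaximal (R := D) _, fun M hM => by
        obtain ⟨P, hP, hPc⟩ := Ideal.exists_ideal_over_maximal_of_isIntegral (S := S) M
          (by rw [(RingHom.injective_iff_ker_eq_bot _).1 hinjD]; exact bot_le)
        rw [← hPc, IsLocalRing.eq_maximalIdeal hP]⟩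
  haveI : HenselianLocalRing D := Hens.henselianLocalRing_of_isIntegral A D
  haveI hSred : _root_.IsReduced S := (Hens.strictHenselization_isReduced_iff A S).2 inferInstance
  haveI : _root_.IsReduced D := isReduced_of_injective (algebraMap D S) hinjD
  haveI : IsNoetherianRing S := Hens.strictHenselization_isNoetherianRing A S
  have hminD : (minimalPrimes D).Finite := by
    refine ((minimalPrimes.finite_of_isNoetherianRing S).image (Ideal.comap (algebraMap D S))).subset fun p hp => ?_
    obtain ⟨Q, hQ, hQc⟩ := Ideal.exists_minimalPrimes_comap_eq (I := (⊥ : Ideal S)) (algebraMap D S) p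
      (by rw [Ideal.comap_bot_of_injective _ hinjD]; exact hp)
    exact ⟨Q, hQ, hQc⟩
  let T := Hens.Hsh D
  haveI : HenselianLocalRing T := Hensel.IsStrictHenselization.henselian (R := D)
  have hgood := Branch14.good_strictHenselization D T
  haveI := hgood.flat
  haveI : Module.FaithfullyFlat D T := Hens.strictHenselization_faithfullyFlat D T
  rw [cond_iff D]
  constructor
  · intro hN
    haveI := hN
    haveI : IsNoetherianRing T := Hens.strictHenselization_isNoetherianRing D T
    haveI : Finite (minimalPrimes T) := (minimalPrimes.finite_of_isNoetherianRing T).to_subtype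
    have h := Branch14.card_minimalPrimes_strictHenselization D T
    rw [Branch14.numGeomBranches_of_finite D hminD] at h
    haveI : Finite (Σ m : MaximalSpectrum (CAlg2.normRed D), Brnch.Emb D m) :=
      ENat.card_lt_top.1 (h ▸ ENat.card_lt_top.2 inferInstance)
    exact fun m => Finite.of_injective (fun σ : Brnch.Emb D m => (⟨m, σ⟩ : Σ m, Brnch.Emb D m)) sigma_mk_injective
  · intro hemb
    haveI := Groth.Agent.S16436.isHenselization_self D
    haveI : Finite (minimalPrimes D) := hminD.to_subtype
    haveI : Finite (MaximalSpectrum (CAlg2.normRed D)) := by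
      have h := Branch14.card_minimalPrimes_henselization D D
      rw [Branch14.numBranches_of_finite D hminD] at h
      exact ENat.card_lt_top.1 (h ▸ ENat.card_lt_top.2 inferInstance)
    haveI := hemb
    haveI : Finite (minimalPrimes T) := by
      have h := Branch14.card_minimalPrimes_strictHenselization D T
      rw [Branch14.numGeomBranches_of_finite D hminD] at h
      exact ENat.card_lt_top.1 (h.symm ▸ ENat.card_lt_top.2 inferInstance)
    haveI : IsLocalHom (algebraMap D S) := ((IsLocalRing.local_hom_TFAE (algebraMap D S)).out 0 4).mpr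
      (IsLocalRing.eq_maximalIdeal (Ideal.isMaximal_comap_of_isIntegral_of_isMaximal (R := D) _))
    haveI : IsLocalHom (algebraMap A D) := ((IsLocalRing.local_hom_TFAE (algebraMap A D)).out 0 4).mpr
      (IsLocalRing.eq_maximalIdeal (Ideal.isMaximal_comap_of_isIntegral_of_isMaximal (R := A) _))
    haveI : IsScalarTower (IsLocalRing.ResidueField A) (IsLocalRing.ResidueField D) (IsLocalRing.ResidueField S) :=
      IsScalarTower.of_algebraMap_eq fun x => by
        obtain ⟨a, rfl⟩ := IsLocalRing.residue_surjective x
        rfl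
    have hS := Hensel.IsStrictHenselization.isSepClosure (R := A) (S := S)
    haveI := hS.2
    haveI : Algebra.IsSeparable (IsLocalRing.ResidueField D) (IsLocalRing.ResidueField S) :=
      Algebra.isSeparable_tower_top_of_isSeparable (IsLocalRing.ResidueField A) _ _
    haveI : IsSepClosure (IsLocalRing.ResidueField D) (IsLocalRing.ResidueField S) := ⟨hS.1, inferInstance⟩
    haveI : IsSepClosure (IsLocalRing.ResidueField D) (IsLocalRing.ResidueField T) :=
      Hensel.IsStrictHenselization.isSepClosure (R := D)
    let τ : IsLocalRing.ResidueField T ≃ₐ[IsLocalRing.ResidueField D] IsLocalRing.ResidueField S :=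
      IsSepClosure.equiv (IsLocalRing.ResidueField D) _ _
    obtain ⟨g, ⟨hg, hgr⟩, -⟩ := Hensel.IsStrictHenselization.universal (R := D) (S := T) S (algebraMap D S)
      τ.toRingEquiv.toRingHom (RingHom.ext τ.commutes)
    letI algAT : Algebra A T := ((algebraMap D T).comp (algebraMap A D)).toAlgebra
    haveI : IsLocalHom (algebraMap A T) := inferInstanceAs (IsLocalHom ((algebraMap D T).comp (algebraMap A D)))
    obtain ⟨h, ⟨hh, hhr⟩, -⟩ := Hensel.IsStrictHenselization.universal (R := A) (S := S) T (algebraMap A T)
      τ.symm.toRingEquiv.toRingHom (RingHom.ext fun x => by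
        obtain ⟨a, rfl⟩ := IsLocalRing.residue_surjective x
        show τ.symm (IsLocalRing.residue S (algebraMap A S a)) = IsLocalRing.residue T (algebraMap D T (algebraMap A D a))
        exact τ.symm.commutes (IsLocalRing.residue D (algebraMap A D a)))
    have hgh : g.comp h = RingHom.id S := by
      obtain ⟨b, -, hb⟩ := Hensel.IsStrictHenselization.universal (R := A) (S := S) S (algebraMap A S) (RingHom.id _)
        (RingHom.id_comp _)
      refine (hb _ ⟨?_, fun x => ?_⟩).trans (hb _ ⟨RingHom.id_comp _, fun x => rfl⟩).symm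
      · rw [RingHom.comp_assoc, hh]
        show g.comp ((algebraMap D T).comp (algebraMap A D)) = _
        rw [← RingHom.comp_assoc, hg, ← IsScalarTower.algebraMap_eq]
      · show IsLocalRing.residue S (g (h x)) = IsLocalRing.residue S x
        rw [hgr, hhr]
        exact τ.apply_symm_apply _
    have hgsurj : Function.Surjective g := fun x => ⟨h x, congr($hgh x)⟩
    haveI : _root_.IsReduced T := (Hens.strictHenselization_isReduced_iff D T).2 inferInstance
    have hquot : ∀ Q : minimalPrimes T, IsNoetherian T (T ⧸ (Q : Ideal T)) := by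
      rintro ⟨Q, hQ⟩
      have hPD := Branch14.comap_mem_minimalPrimes_of_flat (R := D) (T := T) Q hQ
      obtain ⟨Q₀, hQ₀, hQc⟩ := Ideal.exists_minimalPrimes_comap_eq (I := (⊥ : Ideal S)) (algebraMap D S)
        (Q.comap (algebraMap D T)) (by rw [Ideal.comap_bot_of_injective _ hinjD]; exact hPD)
      haveI := hQ₀.1.1
      have hRc : (Q₀.comap g).comap (algebraMap D T) = Q.comap (algebraMap D T) := by
        rw [Ideal.comap_comap, hg, hQc]
      have hR : Q₀.comap g ∈ minimalPrimes T :=
        (Branch14.mem_minimalPrimes_iff D T hgood.inc _).2 (hRc.symm ▸ hPD)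
      obtain ⟨a, hasurj, haQ⟩ := exists_aut D hminD Q (Q₀.comap g) hQ hR hRc.symm
      have hker : RingHom.ker ((Ideal.Quotient.mk Q₀).comp (g.comp a)) = Q := by
        rw [RingHom.ker, ← Ideal.comap_comap, ← RingHom.ker, Ideal.mk_ker, ← Ideal.comap_comap]
        exact haQ.symm
      have hsur : Function.Surjective ((Ideal.Quotient.mk Q₀).comp (g.comp a)) :=
        Ideal.Quotient.mk_surjective.comp (hgsurj.comp hasurj)
      let e : (T ⧸ Q) ≃+* (S ⧸ Q₀) :=
        (Ideal.quotEquivOfEq hker.symm).trans (RingHom.quotientKerEquivOfSurjective hsur)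
      haveI : IsNoetherianRing (T ⧸ Q) := isNoetherianRing_of_ringEquiv (S ⧸ Q₀) e.symm
      refine ⟨fun N => ?_⟩
      obtain ⟨N', rfl⟩ : ∃ N' : Submodule (T ⧸ Q) (T ⧸ Q), N'.restrictScalars T = N :=
        ⟨{ carrier := N, add_mem' := N.add_mem, zero_mem' := N.zero_mem,
           smul_mem' := fun c x hx => by
             obtain ⟨t, rfl⟩ := Ideal.Quotient.mk_surjective c
             exact N.smul_mem t hx }, rfl⟩
      exact (IsNoetherian.noetherian N').restrictScalars_of_surjective Ideal.Quotient.mk_surjective
    haveI := hquot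
    haveI : IsNoetherianRing T := by
      let F : T →ₗ[T] ∀ Q : minimalPrimes T, T ⧸ (Q : Ideal T) := LinearMap.pi fun Q => (Ideal.Quotient.mkₐ T (Q : Ideal T)).toLinearMap
      refine isNoetherian_of_injective F ((injective_iff_map_eq_zero F).2 fun x hx => ?_)
      have hnil : x ∈ nilradical T := by
        rw [nilradical, Ideal.zero_eq_bot, ← Ideal.sInf_minimalPrimes, Ideal.mem_sInf]
        exact fun {Q} hQ => Ideal.Quotient.eq_zero_iff_mem.1 (congrFun hx ⟨Q, hQ⟩)
      rwa [nilradical_eq_zero] at hnil
    exact Hens.isNoetherianRing_of_faithfullyFlat D T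

end Groth.Agent.S16435
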