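import Groth.Prelude.Def_Hensel
import Groth.Prelude.Def_EssEt
import Mathlib.RingTheory.EssentialFiniteness
import Mathlib.RingTheory.Ideal.MinimalPrime.Basic
import Mathlib.RingTheory.Nilpotent.Defs
import Groth.Agent.Lib.SHens6.GaloisApps

set_option autoImplicit false
universe u
open EGA4loc

namespace Groth.Agent.S16442

/-- Let A be a reduced local ring with finitely many minimal prime ideals, S a strict henselization of
A, and D an A-subalgebra of S which is a local ring dominated by S (local inclusion) and essentially
of finite type over A. Then D is contained in some A-subalgebra E of S which is a local ring and an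
essentially etale local A-algebra. -/
theorem result
    (A S : Type u) [CommRing A] [IsLocalRing A] [IsReduced A] (hmin : (minimalPrimes A).Finite)
    [CommRing S] [IsLocalRing S] [Algebra A S] [IsLocalHom (algebraMap A S)]
    [Hensel.IsStrictHenselization A S] (D : Subalgebra A S) [IsLocalRing D]
    [IsLocalHom (algebraMap D S)] [Algebra.EssFiniteType A D] :
    ∃ E : Subalgebra A S, D ≤ E ∧ ∃ _ : IsLocalRing E, EGA4loc.IsEssentiallyEtale A E := by
  exact Groth.Agent.SHens6.exists_le_essEtale A S D

end Groth.Agent.S16442
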