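import Groth.Statements.S16452
import Mathlib.RingTheory.Smooth.Basic
import Mathlib.RingTheory.Etale.Basic
import Mathlib.RingTheory.Ideal.Quotient.PowTransition

set_option autoImplicit false
universe u
open CAlg

namespace Groth.Agent.S16452
open CAlg

theorem map_bijective {A B : Type u} [CommRing A] [CommRing B] {φ : A →+* B} {F : FiltBl.IdealFiltration A}
    {G : FiltBl.IdealFiltration B} (h : AssocGr.IsFiltHom φ F G)
    (hi : ∀ n, ∀ a ∈ F.F n, φ a ∈ G.F (n + 1) → a ∈ F.F (n + 1))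
    (hs : ∀ n, ∀ b ∈ G.F n, ∃ a ∈ F.F n, φ a - b ∈ G.F (n + 1)) :
    Function.Bijective (AssocGr.map h) := by
  classical
  constructor
  · refine (injective_iff_map_eq_zero _).2 fun z hz => ?_
    obtain ⟨f, rfl⟩ := AssocGr.mkG_surjective _ z
    rw [AssocGr.map_mkG, AssocGr.mkG_eq_zero_iff, AssocGr.mem_succIdeal_iff] at hz
    rw [AssocGr.mkG_eq_zero_iff, AssocGr.mem_succIdeal_iff]
    intro n
    have h1 := hz n
    rw [AssocGr.coe_reesMap, Polynomial.coeff_map] at h1
    exact hi n _ (f.2 n) h1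
  · intro z
    obtain ⟨g, rfl⟩ := AssocGr.mkG_surjective _ z
    choose a ha ha' using fun n => hs n _ (g.2 n)
    let f : F.rees := ⟨∑ n ∈ (g : Polynomial B).support, Polynomial.monomial n (a n), fun m => by
        rw [Polynomial.finsetSum_coeff]
        simp only [Polynomial.coeff_monomial, Finset.sum_ite_eq']
        split_ifs
        · exact ha m
        · exact zero_mem _⟩
    refine ⟨AssocGr.mkG _ f, ?_⟩
    rw [AssocGr.map_mkG, ← sub_eq_zero, ← map_sub, AssocGr.mkG_eq_zero_iff, AssocGr.mem_succIdeal_iff]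
    intro n
    have hc : (f : Polynomial A).coeff n = if n ∈ (g : Polynomial B).support then a n else 0 := by
      change Polynomial.coeff (∑ i ∈ (g : Polynomial B).support, Polynomial.monomial i (a i)) n = _
      rw [Polynomial.finsetSum_coeff]
      simp only [Polynomial.coeff_monomial, Finset.sum_ite_eq']
    rw [AddSubgroupClass.coe_sub, Polynomial.coeff_sub, AssocGr.coe_reesMap, Polynomial.coeff_map, hc]
    split_ifs with h
    · exact ha' n
    · rw [Polynomial.notMem_support_iff.1 h, map_zero, sub_zero]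
      exact zero_mem _

variable {R S : Type u} [CommRing R] [CommRing S] [Algebra R S] [Algebra.FormallyEtale R S] {J : Ideal S}

theorem exists_sub (hJ : Function.Surjective (algebraMap R (S ⧸ J))) (x : S) :
    ∃ r, x - algebraMap R S r ∈ J := by
  obtain ⟨r, hr⟩ := hJ (Ideal.Quotient.mk J x)
  exact ⟨r, Ideal.Quotient.eq.1 hr.symm⟩

theorem exists_retr (hJ : Function.Surjective (algebraMap R (S ⧸ J))) :
    ∃ π : S →ₐ[R] R ⧸ J.comap (algebraMap R S), ∀ x ∈ J, π x = 0 := by
  let e : (R ⧸ J.comap (algebraMap R S)) →ₐ[R] S ⧸ J :=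
    Ideal.Quotient.liftₐ _ (Algebra.ofId R (S ⧸ J)) fun r hr => Ideal.Quotient.eq_zero_iff_mem.2 hr
  have he : Function.Bijective e := by
    refine ⟨(injective_iff_map_eq_zero e).2 fun x hx => ?_, fun y => ?_⟩
    · obtain ⟨r, rfl⟩ := Ideal.Quotient.mk_surjective x
      exact Ideal.Quotient.eq_zero_iff_mem.2
        (show algebraMap R S r ∈ J from Ideal.Quotient.eq_zero_iff_mem.1 hx)
    · obtain ⟨r, hr⟩ := hJ y
      exact ⟨Ideal.Quotient.mk _ r, hr⟩
  refine ⟨(AlgEquiv.ofBijective e he).symm.toAlgHom.comp (Ideal.Quotient.mkₐ R J), fun x hx => ?_⟩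
  show (AlgEquiv.ofBijective e he).symm (Ideal.Quotient.mk J x) = 0
  rw [Ideal.Quotient.eq_zero_iff_mem.2 hx, map_zero]

theorem le_sup (hJ : Function.Surjective (algebraMap R (S ⧸ J))) :
    J ≤ (J.comap (algebraMap R S)).map (algebraMap R S) ⊔ J ^ 2 := by
  obtain ⟨π, hπ⟩ := exists_retr hJ
  set K := (J.comap (algebraMap R S)).map (algebraMap R S) ⊔ J ^ 2 with hK
  have hKJ : K ≤ J := sup_le Ideal.map_comap_le (Ideal.pow_le_self two_ne_zero)
  let g : S →ₐ[R] S ⧸ K :=
    (Ideal.Quotient.liftₐ _ (Algebra.ofId R (S ⧸ K)) fun r hr => Ideal.Quotient.eq_zero_iff_mem.2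
      (Ideal.mem_sup_left (Ideal.mem_map_of_mem _ hr))).comp π
  have hg : ∀ x ∈ J, g x = 0 := fun x hx => by
    show _ = _
    rw [AlgHom.comp_apply, hπ x hx, map_zero]
  have hker : IsNilpotent (RingHom.ker (Ideal.Quotient.factor hKJ)) := by
    refine ⟨2, ?_⟩
    rw [Ideal.Quotient.factor_ker, ← Ideal.map_pow, Ideal.zero_eq_bot, Ideal.map_eq_bot_iff_le_ker, Ideal.mk_ker]
    exact le_sup_right
  have hext : Ideal.Quotient.mkₐ R K = g := by
    refine Algebra.FormallyUnramified.ext' (Ideal.Quotient.factor hKJ) hker _ _ fun x => ?_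
    obtain ⟨r, hr⟩ := exists_sub hJ x
    have h1 : g x = algebraMap R (S ⧸ K) r := by
      rw [← sub_add_cancel x (algebraMap R S r), map_add, hg _ hr, zero_add, AlgHom.commutes]
    rw [h1]
    exact Ideal.Quotient.eq.2 hr
  intro x hx
  exact Ideal.Quotient.eq_zero_iff_mem.1 ((AlgHom.congr_fun hext x).trans (hg x hx))

theorem pow_le_sup (hJ : Function.Surjective (algebraMap R (S ⧸ J))) (n : ℕ) :
    J ^ n ≤ ((J.comap (algebraMap R S)).map (algebraMap R S)) ^ n ⊔ J ^ (n + 1) := by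
  induction n with
  | zero => simp
  | succ n ih =>
    calc J ^ (n + 1) = J ^ n * J := pow_succ _ _
      _ ≤ _ := Ideal.mul_mono ih (le_sup hJ)
      _ ≤ _ := by
        rw [Ideal.sup_mul, Ideal.mul_sup, ← pow_succ]
        refine sup_le (sup_le le_sup_left (le_sup_of_le_right ?_)) (le_sup_of_le_right ?_)
        · exact (Ideal.mul_mono_left (Ideal.pow_right_mono Ideal.map_comap_le n)).trans (pow_add J n 2).ge
        · exact (Ideal.mul_mono_right (sup_le Ideal.map_comap_le (Ideal.pow_le_self two_ne_zero))).trans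
            (pow_succ J (n + 1)).ge

theorem exists_approx (hJ : Function.Surjective (algebraMap R (S ⧸ J))) (n : ℕ) (b : S) (hb : b ∈ J ^ n) :
    ∃ a ∈ (J.comap (algebraMap R S)) ^ n, algebraMap R S a - b ∈ J ^ (n + 1) := by
  obtain ⟨y, hy, z, hz, rfl⟩ := Submodule.mem_sup.1 (pow_le_sup hJ n hb)
  rw [← Ideal.map_pow] at hy
  suffices ∃ a ∈ (J.comap (algebraMap R S)) ^ n, algebraMap R S a - y ∈ J ^ (n + 1) by
    obtain ⟨a, ha, h⟩ := this
    exact ⟨a, ha, by rw [← sub_sub]; exact sub_mem h hz⟩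
  rw [Ideal.map] at hy
  clear hb hz
  induction hy using Submodule.span_induction with
  | mem x hx =>
    obtain ⟨a, ha, rfl⟩ := hx
    exact ⟨a, ha, by rw [sub_self]; exact zero_mem _⟩
  | zero => exact ⟨0, zero_mem _, by simp⟩
  | add x y _ _ hx hy =>
    obtain ⟨a, ha, h⟩ := hx
    obtain ⟨a', ha', h'⟩ := hy
    exact ⟨a + a', add_mem ha ha', by rw [map_add, add_sub_add_comm]; exact add_mem h h'⟩
  | smul s x _ hx =>
    obtain ⟨a, ha, h⟩ := hx
    obtain ⟨r, hr⟩ := exists_sub hJ s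
    refine ⟨r * a, Ideal.mul_mem_left _ r ha, ?_⟩
    have h1 : algebraMap R S a ∈ J ^ n :=
      Ideal.pow_right_mono (Ideal.map_comap_le (f := algebraMap R S)) n (by rw [← Ideal.map_pow]; exact Ideal.mem_map_of_mem _ ha)
    rw [map_mul, smul_eq_mul, show algebraMap R S r * algebraMap R S a - s * x =
      s * (algebraMap R S a - x) - (s - algebraMap R S r) * algebraMap R S a by ring]
    exact sub_mem (Ideal.mul_mem_left _ _ h) (by rw [pow_succ']; exact Ideal.mul_mem_mul hr h1)

theorem comap_pow (hJ : Function.Surjective (algebraMap R (S ⧸ J))) (n : ℕ) (a : R)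
    (ha : algebraMap R S a ∈ J ^ (n + 1)) : a ∈ (J.comap (algebraMap R S)) ^ (n + 1) := by
  set I := J.comap (algebraMap R S) with hI
  obtain ⟨π, hπ⟩ : ∃ π : S →ₐ[R] R ⧸ I, ∀ x ∈ J, π x = 0 := exists_retr hJ
  let q : (R ⧸ I ^ (n + 1)) →ₐ[R] R ⧸ I := Ideal.Quotient.factorₐ R (show I ^ (n + 1) ≤ I from Ideal.pow_le_self (Nat.succ_ne_zero n))
  have hq : Function.Surjective q := Ideal.Quotient.factor_surjective (Ideal.pow_le_self (Nat.succ_ne_zero n))
  have hker : IsNilpotent (RingHom.ker (q : (R ⧸ I ^ (n + 1)) →+* R ⧸ I)) := by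
    refine ⟨n + 1, ?_⟩
    rw [show RingHom.ker (q : (R ⧸ I ^ (n + 1)) →+* R ⧸ I) = I.map (Ideal.Quotient.mk (I ^ (n + 1))) from
      Ideal.Quotient.factor_ker (Ideal.pow_le_self (Nat.succ_ne_zero n)), ← Ideal.map_pow, Ideal.map_quotient_self]
    rfl
  let σ := Algebra.FormallySmooth.liftOfSurjective π q hq hker
  have hσ : J ≤ (RingHom.ker (q : (R ⧸ I ^ (n + 1)) →+* R ⧸ I)).comap σ := fun x hx => by
    show q (σ x) = 0
    exact (Algebra.FormallySmooth.liftOfSurjective_apply π q hq hker x).trans (hπ x hx)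
  have h1 : σ (algebraMap R S a) ∈ (RingHom.ker (q : (R ⧸ I ^ (n + 1)) →+* R ⧸ I)) ^ (n + 1) :=
    (Ideal.pow_right_mono hσ (n + 1)).trans (Ideal.le_comap_pow _ (n + 1)) ha
  rw [show (RingHom.ker (q : (R ⧸ I ^ (n + 1)) →+* R ⧸ I)) = I.map (Ideal.Quotient.mk (I ^ (n + 1))) from
      Ideal.Quotient.factor_ker (Ideal.pow_le_self (Nat.succ_ne_zero n)), ← Ideal.map_pow, Ideal.map_quotient_self, Ideal.mem_bot,
      AlgHom.commutes] at h1
  exact Ideal.Quotient.eq_zero_iff_mem.1 h1

/-- Let R → S be formally étale and J an ideal of S such that the composite R → S → S/J is surjective;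
let I ⊆ R be its kernel, the preimage of J in R. Then the homomorphism of associated graded rings ⊕ₙ
Iⁿ/Iⁿ⁺¹ → ⊕ₙ Jⁿ/Jⁿ⁺¹ induced by R → S (which carries I into J) is bijective. -/
theorem result (R : Type u) [CommRing R] (S : Type u)
    [CommRing S] [Algebra R S] [Algebra.FormallyEtale R S] (J : Ideal S)
    (hJ : Function.Surjective (algebraMap R (S ⧸ J))) :
    Function.Bijective (AssocGr.map (AssocGr.IsFiltHom.adic
      (Ideal.map_comap_le : (J.comap (algebraMap R S)).map (algebraMap R S) ≤ J))) := by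
  exact map_bijective _ (fun n a _ hb => comap_pow hJ n a hb) (fun n b hb => exists_approx hJ n b hb)

end Groth.Agent.S16452
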