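import Groth.Statements.S16453
-- import your own Groth.Agent.* helpers here

set_option autoImplicit false
universe u
open AdicGr

namespace Groth.Agent.S16453

/-- Let A be a commutative ring, I an ideal and Â the I-adic completion, filtered by the kernels Âₙ of
the projections Â → A/Iⁿ. Then the homomorphism of associated graded rings ⊕ₙ Iⁿ/Iⁿ⁺¹ → ⊕ₙ Âₙ/Âₙ₊₁
induced by the canonical map A → Â is bijective. No hypothesis on A or I is needed. (The published
statement is for an arbitrary filtered ring and also asserts the analogous isomorphism for a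
compatibly filtered module; this row is the ring assertion for the filtration by the powers of one
ideal.) -/
theorem result (A : Type u) [CommRing A] (I : Ideal A) :
    Function.Bijective (AssocGr.map (AssocGr.isFiltHom_kerFilt I)) := by
  classical
  constructor
  · refine (injective_iff_map_eq_zero _).2 fun z hz => ?_
    obtain ⟨f, rfl⟩ := AssocGr.mkG_surjective _ z
    rw [AssocGr.map_mkG, AssocGr.mkG_eq_zero_iff, AssocGr.mem_succIdeal_iff] at hz
    rw [AssocGr.mkG_eq_zero_iff, AssocGr.mem_succIdeal_iff]
    intro n
    have h := hz n
    rw [AssocGr.coe_reesMap, Polynomial.coeff_map, AssocGr.mem_kerFilt_iff_val, AdicCompletion.algebraMap_apply,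
      AdicCompletion.of_apply] at h
    simp only [Algebra.algebraMap_self, RingHom.id_apply, Submodule.mkQ_apply, Submodule.Quotient.mk_eq_zero] at h
    rwa [AssocGr.pow_smul_top] at h
  · intro z
    obtain ⟨g, rfl⟩ := AssocGr.mkG_surjective _ z
    have key : ∀ n, ∃ a ∈ I ^ n, algebraMap A (AdicCompletion I A) a - (g : Polynomial (AdicCompletion I A)).coeff n ∈
        (AssocGr.kerFilt I).F (n + 1) := by
      intro n
      obtain ⟨a, ha⟩ := Ideal.Quotient.mk_surjective (((g : Polynomial (AdicCompletion I A)).coeff n).val (n + 1))
      refine ⟨a, ?_, ?_⟩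
      · have h1 := AdicCompletion.transitionMap_comp_eval_apply I A (Nat.le_succ n) ((g : Polynomial (AdicCompletion I A)).coeff n)
        have hg := g.2 n
        rw [AssocGr.mem_kerFilt_iff_val] at hg
        rw [← ha, hg] at h1
        change Ideal.Quotient.mk (I ^ n • ⊤ : Ideal A) a = 0 at h1
        rwa [Ideal.Quotient.eq_zero_iff_mem, AssocGr.pow_smul_top] at h1
      · rw [AssocGr.mem_kerFilt_iff_val, AdicCompletion.val_sub_apply, AdicCompletion.algebraMap_apply, AdicCompletion.of_apply,
          ← ha, sub_eq_zero]
        rfl
    choose a ha ha' using key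
    let f : (FiltBl.IdealFiltration.adic I).rees :=
      ⟨∑ n ∈ (g : Polynomial (AdicCompletion I A)).support, Polynomial.monomial n (a n), fun m => by
        rw [Polynomial.finsetSum_coeff]
        simp only [Polynomial.coeff_monomial, Finset.sum_ite_eq']
        split_ifs
        · exact ha m
        · exact zero_mem _⟩
    refine ⟨AssocGr.mkG _ f, ?_⟩
    rw [AssocGr.map_mkG, ← sub_eq_zero, ← map_sub, AssocGr.mkG_eq_zero_iff, AssocGr.mem_succIdeal_iff]
    intro n
    have hc : (f : Polynomial A).coeff n = if n ∈ (g : Polynomial (AdicCompletion I A)).support then a n else 0 := by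
      change Polynomial.coeff (∑ i ∈ (g : Polynomial (AdicCompletion I A)).support, Polynomial.monomial i (a i)) n = _
      rw [Polynomial.finsetSum_coeff]
      simp only [Polynomial.coeff_monomial, Finset.sum_ite_eq']
    rw [AddSubgroupClass.coe_sub, Polynomial.coeff_sub, AssocGr.coe_reesMap, Polynomial.coeff_map, hc]
    split_ifs with h
    · exact ha' n
    · rw [Polynomial.notMem_support_iff.1 h, map_zero, sub_zero]
      exact zero_mem _

end Groth.Agent.S16453
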