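import Groth.Statements.S16454
import Groth.Agent.Lib.FlatH4.LocCrit

set_option autoImplicit false
universe u

namespace Groth.Agent.S16454

open TensorProduct

open TensorProduct in
/-- One step of the descent along the powers of I. -/
theorem mem_range_succ {A : Type u} [CommRing A] (I : Ideal A) {M : Type u} [AddCommGroup M] [Module A M]
    (hinj : ∀ (n k : ℕ) (a : Fin k → ↥((FiltBl.IdealFiltration.adic I).F n))
      (x : Fin k → ↥((Rees.powFilt I M).N 0)),
      (∑ i, (AssocGr.inDeg (FiltBl.IdealFiltration.adic I) n (a i) :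
          AssocGr.GrRing (FiltBl.IdealFiltration.adic I)) •
        (AssocGr.inDegM (Rees.powFilt I M) 0 (x i) : AssocGr.GrMod (Rees.powFilt I M))) = 0 →
      (∑ i, (AssocGr.inDeg (FiltBl.IdealFiltration.adic I) n (a i)) ⊗ₜ[A]
          (Submodule.Quotient.mk (x i : M)) :
        ↥(AssocGr.gr (FiltBl.IdealFiltration.adic I) n) ⊗[A] (M ⧸ (I • (⊤ : Submodule A M)))) = 0)
    (n : ℕ) (z : M ⊗[A] (I ^ n : Ideal A)) (hz : (I ^ n).subtype.lTensor M z = 0) :
    ∃ y : M ⊗[A] (I ^ (n + 1) : Ideal A),
      (Submodule.inclusion (Ideal.pow_le_pow_right n.le_succ)).lTensor M y = z := by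
  obtain ⟨k, x, a, rfl⟩ := TensorProduct.exists_sum_tmul_eq z
  let F := Rees.powFilt I M
  let d : ↥(I ^ n : Ideal A) →ₗ[A] ↥(AssocGr.gr (FiltBl.IdealFiltration.adic I) n) :=
    AssocGr.inDeg (FiltBl.IdealFiltration.adic I) n
  have hx : ∀ i, x i ∈ F.N 0 := fun i => by simp [F, Rees.powFilt, Ideal.stableFiltration]
  have hsum : ∑ i, (a i : A) • x i = 0 := by
    have h := congrArg (TensorProduct.rid A M) hz
    simpa [map_sum] using h
  have h0 := hinj n k a (fun i => ⟨x i, hx i⟩) (by
    simp only [AssocGr.inDeg_smul_inDegM]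
    rw [← AddSubgroup.val_finsetSum, ZeroMemClass.coe_eq_zero, ← map_sum, AssocGr.inDegM_eq_zero_iff,
      Submodule.coe_sum]
    simp only
    rw [hsum]
    exact zero_mem _)
  let f : ↥(I ^ (n + 1) : Ideal A) →ₗ[A] ↥(I ^ n : Ideal A) :=
    Submodule.inclusion (Ideal.pow_le_pow_right n.le_succ)
  let g : ↥(I • ⊤ : Submodule A M) →ₗ[A] M := (I • ⊤ : Submodule A M).subtype
  have hd : Function.Exact f d := fun b => by
    refine (AssocGr.inDeg_eq_zero_iff (FiltBl.IdealFiltration.adic I) n b).trans ?_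
    exact ⟨fun h => ⟨⟨b, h⟩, rfl⟩, by rintro ⟨c, rfl⟩; exact c.2⟩
  have hg : Function.Exact g (I • ⊤ : Submodule A M).mkQ := LinearMap.exact_subtype_mkQ _
  have hker : ∑ i, x i ⊗ₜ[A] a i ∈
      LinearMap.ker (TensorProduct.map (I • ⊤ : Submodule A M).mkQ d) := by
    rw [LinearMap.mem_ker, map_sum]
    apply (TensorProduct.comm A _ _).injective
    rw [map_sum, map_zero, ← h0]
    exact Finset.sum_congr rfl fun i _ => rfl
  rw [TensorProduct.map_ker hg (Submodule.mkQ_surjective _) hd
    (AssocGr.inDeg_surjective (FiltBl.IdealFiltration.adic I) n)] at hker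
  have hle : LinearMap.range (LinearMap.rTensor ↥(I ^ n : Ideal A) g) ≤ LinearMap.range (f.lTensor M) := by
    rintro _ ⟨w, rfl⟩
    induction w using TensorProduct.induction_on with
    | zero => rw [map_zero]; exact zero_mem _
    | add u v hu hv => rw [map_add]; exact add_mem hu hv
    | tmul m b =>
      show (m : M) ⊗ₜ[A] b ∈ _
      refine Submodule.smul_induction_on m.2 (p := fun m => m ⊗ₜ[A] b ∈ LinearMap.range (f.lTensor M)) ?_ ?_
      · intro r hr v _
        refine ⟨v ⊗ₜ ⟨r * b, by rw [pow_succ']; exact Ideal.mul_mem_mul hr b.2⟩, ?_⟩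
        rw [TensorProduct.smul_tmul, LinearMap.lTensor_tmul]
        rfl
      · intro u v hu hv
        rw [TensorProduct.add_tmul]
        exact add_mem hu hv
  exact (sup_le le_rfl hle) hker

/-- Let A be a commutative ring, I a nilpotent ideal of A and M an A-module, and form the associated
graded ring G = ⊕ₙ Iⁿ/Iⁿ⁺¹ and the associated graded G-module gr_I(M) = ⊕ₙ IⁿM/Iⁿ⁺¹M. Assume that
M/IM is flat over A/I and that the canonical homomorphism (M/IM) ⊗ G → gr_I(M), [x] ⊗ [a] ↦ [a·x],
is injective: degree by degree, whenever elements a_i ∈ Iⁿ and x_i ∈ M satisfy Σ_i [a_i]·[x_i] = 0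
in gr_I(M) (that is Σ a_i x_i ∈ Iⁿ⁺¹M), the element Σ_i [a_i] ⊗ [x_i] of (Iⁿ/Iⁿ⁺¹) ⊗ (M/IM) is zero.
Then M is a flat A-module. (The published lemma is stated for any finite decreasing multiplicative
filtration A = J₀ ⊇ J₁ ⊇ … ⊇ J_N₊₁ = 0 of A with M filtered by the submodules JₙM; this row is its
case Jₙ = Iⁿ.) -/
theorem result (A : Type u) [CommRing A] (I : Ideal A)
    (hI : IsNilpotent I) (M : Type u) [AddCommGroup M] [Module A M]
    (hflat : Module.Flat (A ⧸ I) (M ⧸ (I • (⊤ : Submodule A M))))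
    (hinj : ∀ (n k : ℕ) (a : Fin k → ↥((FiltBl.IdealFiltration.adic I).F n))
      (x : Fin k → ↥((Rees.powFilt I M).N 0)),
      (∑ i, (AssocGr.inDeg (FiltBl.IdealFiltration.adic I) n (a i) :
          AssocGr.GrRing (FiltBl.IdealFiltration.adic I)) •
        (AssocGr.inDegM (Rees.powFilt I M) 0 (x i) : AssocGr.GrMod (Rees.powFilt I M))) = 0 →
      (∑ i, (AssocGr.inDeg (FiltBl.IdealFiltration.adic I) n (a i)) ⊗ₜ[A]
          (Submodule.Quotient.mk (x i : M)) :
        ↥(AssocGr.gr (FiltBl.IdealFiltration.adic I) n) ⊗[A] (M ⧸ (I • (⊤ : Submodule A M)))) = 0) :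
    Module.Flat A M := by
  obtain ⟨N, hN⟩ := hI
  have key : ∀ j n, N ≤ n + j → Function.Injective ((I ^ n).subtype.lTensor M) := by
    intro j
    induction j with
    | zero =>
      intro n hn
      have hbot : I ^ n = ⊥ := eq_bot_iff.2 ((Ideal.pow_le_pow_right (by omega)).trans hN.le)
      haveI : Subsingleton ↥(I ^ n : Ideal A) := by rw [hbot]; infer_instance
      haveI : Subsingleton (TensorProduct A M ↥(I ^ n : Ideal A)) := inferInstance
      exact Function.injective_of_subsingleton _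
    | succ j ih =>
      intro n hn
      rw [injective_iff_map_eq_zero]
      intro z hz
      obtain ⟨y, rfl⟩ := mem_range_succ I hinj n z hz
      rw [← LinearMap.lTensor_comp_apply] at hz
      have : y = 0 := (injective_iff_map_eq_zero _).1 (ih (n + 1) (by omega)) y hz
      rw [this, map_zero]
  have h1 : Function.Injective (LinearMap.lTensor M I.subtype) := by
    have h := key N 1 (by omega)
    rwa [pow_one] at h
  have h2 : Module.Flat (A ⧸ I) (TensorProduct A (A ⧸ I) M) := by
    haveI := hflat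
    let e := TensorProduct.quotTensorEquivQuotSMul M I
    exact Module.Flat.of_linearEquiv (e.extendScalarsOfSurjective Ideal.Quotient.mk_surjective)
  refine Module.Flat.iff_lTensor_injective'.2 fun J => ?_
  exact FlatH4.lTensor_subtype_injective_of_pow_smul_le I h1 h2 N J (by
    rw [hN, Submodule.zero_eq_bot, Submodule.bot_smul]; exact bot_le)

end Groth.Agent.S16454
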