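import Groth.Prelude.Def_EGA4b
import Groth.Prelude.Def_AssocGrMod
import Mathlib.RingTheory.Flat.Basic
import Mathlib

set_option autoImplicit false
universe u
open EGA4

namespace Groth.Agent.S16455

/-- For a commutative ring A, an ideal I of A and an A-module M, the following are equivalent: every
quotient IⁿM/Iⁿ⁺¹M (n ≥ 0) is a flat A/I-module; the associated graded module gr_I(M) = ⊕ₙ
IⁿM/Iⁿ⁺¹M, as one module over A/I, is flat. Either condition says that M is normally flat along I.
(The source defines normal flatness for a coherent module on a locally Noetherian scheme through the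
second condition and notes it amounts to the first; the equivalence holds for every ring and
module.) -/
theorem result (A : Type u) [CommRing A] (I : Ideal A) (M : Type u)
    [AddCommGroup M] [Module A M] :
    EGA4.IsNormallyFlat I M ↔ Module.Flat (A ⧸ I) (AssocGr.GrMod (Rees.powFilt I M)) := by
  classical
  let F := Rees.powFilt I M
  let Q := fun n : ℕ => ↥(F.N n) ⧸ (I • (⊤ : Submodule A ↥(F.N n)))
  let m : ∀ n, ↥(F.N n) →ₗ[A] AssocGr.GrMod F := fun n =>
    { toFun := fun x => (AssocGr.inDegM F n x : AssocGr.GrMod F)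
      map_add' := fun x y => by rw [map_add, AddMemClass.coe_add]
      map_smul' := fun a x => AssocGr.coe_inDegM_smul F n a x }
  have hI : ∀ n (x : F.N n), x ∈ I • (⊤ : Submodule A ↥(F.N n)) ↔ (x : M) ∈ F.N (n + 1) := by
    intro n x
    have h1 : Submodule.map (F.N n).subtype (I • ⊤) = F.N (n + 1) := by
      rw [Submodule.map_smul'', Submodule.map_subtype_top]
      change I • (I ^ n • (⊤ : Submodule A M)) = I ^ (n + 1) • (⊤ : Submodule A M)
      rw [← Submodule.mul_smul, ← pow_succ']
    rw [← h1]
    exact ⟨fun h => ⟨x, h, rfl⟩, fun ⟨y, hy, hyx⟩ => Subtype.ext hyx ▸ hy⟩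
  let φ₀ : (DirectSum ℕ Q) →ₗ[A] AssocGr.GrMod F := DirectSum.toModule A ℕ _ fun n =>
    Submodule.liftQ _ (m n) fun x hx => by
      rw [LinearMap.mem_ker]
      change (AssocGr.inDegM F n x : AssocGr.GrMod F) = 0
      rw [(AssocGr.inDegM_eq_zero_iff F n x).2 ((hI n x).1 hx), ZeroMemClass.coe_zero]
  have hφ : ∀ n (x : F.N n), φ₀ (DirectSum.lof A ℕ Q n (Submodule.Quotient.mk x)) =
      AssocGr.mkGM F (AssocGr.monomM F n x) := fun n x => by
    refine (DirectSum.toModule_lof A (ι := ℕ) (M := Q) n _).trans ?_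
    exact AssocGr.coe_inDegM F n x
  have surj : Function.Surjective φ₀ := by
    intro z
    obtain ⟨y, rfl⟩ := AssocGr.mkGM_surjective F z
    rw [← AssocGr.sum_termM F y, map_sum]
    refine ⟨∑ n ∈ ((AssocGr.toReesM F).symm y : PolynomialModule A M).coeff.support,
      DirectSum.lof A ℕ Q n (Submodule.Quotient.mk ⟨_, AssocGr.ReesM.coeff_mem F y n⟩), ?_⟩
    rw [map_sum]
    exact Finset.sum_congr rfl fun n _ => hφ n _
  have inj : Function.Injective φ₀ := by
    refine (injective_iff_map_eq_zero _).2 fun z hz => ?_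
    have key : ∀ w : DirectSum ℕ Q, ∃ y, φ₀ w = AssocGr.mkGM F y ∧
        ∀ k, w k = Submodule.Quotient.mk ⟨_, AssocGr.ReesM.coeff_mem F y k⟩ := by
      intro w
      induction w using DirectSum.induction_on with
      | zero => exact ⟨0, by rw [map_zero, map_zero], fun k => by
          rw [DirectSum.zero_apply, ← Submodule.Quotient.mk_zero]; rfl⟩
      | of n q =>
        obtain ⟨x, rfl⟩ := Submodule.Quotient.mk_surjective _ q
        refine ⟨AssocGr.monomM F n x, hφ n x, fun k => ?_⟩
        by_cases h : n = k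
        · subst h
          rw [DirectSum.of_eq_same]
          exact congrArg Submodule.Quotient.mk (Subtype.ext (by change _ = AssocGr.ReesM.coeff F _ _; rw [AssocGr.ReesM.coeff_monomM, if_pos rfl]))
        · rw [DirectSum.of_eq_of_ne _ _ _ (Ne.symm h), eq_comm, Submodule.Quotient.mk_eq_zero]
          convert Submodule.zero_mem _ using 1
          exact Subtype.ext (by change AssocGr.ReesM.coeff F _ _ = _; rw [AssocGr.ReesM.coeff_monomM, if_neg h]; rfl)
      | add a b ha hb =>
        obtain ⟨ya, ha1, ha2⟩ := ha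
        obtain ⟨yb, hb1, hb2⟩ := hb
        refine ⟨ya + yb, by rw [map_add, map_add, ha1, hb1], fun k => ?_⟩
        rw [DirectSum.add_apply, ha2, hb2, ← Submodule.Quotient.mk_add]
        exact congrArg Submodule.Quotient.mk (Subtype.ext (AssocGr.ReesM.coeff_add F ya yb k).symm)
    obtain ⟨y, hy, hk⟩ := key z
    rw [hy, AssocGr.mkGM_eq_zero_iff] at hz
    exact DFinsupp.ext fun k => by
      rw [hk, DirectSum.zero_apply, Submodule.Quotient.mk_eq_zero]
      exact (hI k _).2 (hz k)
  let e : DirectSum ℕ Q ≃ₗ[A ⧸ I] AssocGr.GrMod F :=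
    (LinearEquiv.ofBijective φ₀ ⟨inj, surj⟩).extendScalarsOfSurjective Ideal.Quotient.mk_surjective
  rw [← Module.Flat.equiv_iff e, Module.Flat.directSum_iff]
  rfl

end Groth.Agent.S16455
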