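import Groth.Statements.S16456
import Mathlib.RingTheory.AdicCompletion.Basic

set_option autoImplicit false
universe u
open AdicGr

namespace Groth.Agent.S16456

theorem exists_limit {A : Type u} [CommRing A] {I : Ideal A} {N : Type u} [AddCommGroup N] [Module A N]
    [IsPrecomplete I N] (f : ℕ → N) (h : ∀ n, f (n + 1) - f n ∈ (I ^ n • ⊤ : Submodule A N)) :
    ∃ L : N, ∀ n, f n - L ∈ (I ^ n • ⊤ : Submodule A N) := by
  have hf : ∀ {m n}, m ≤ n → f m ≡ f n [SMOD (I ^ m • ⊤ : Submodule A N)] := fun {m n} hmn => by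
    induction hmn with
    | refl => rfl
    | @step k hk ih =>
      refine ih.trans (SModEq.sub_mem.2 ?_)
      rw [← neg_sub, neg_mem_iff]
      exact Submodule.smul_mono_left (Ideal.pow_le_pow_right hk) (h k)
  obtain ⟨L, hL⟩ := IsPrecomplete.prec ‹_› hf
  exact ⟨L, fun n => SModEq.sub_mem.1 (hL n)⟩

/-- Let φ : A → B be a ring homomorphism, I ⊆ A and J ⊆ B ideals with φ(I)B ⊆ J, so that φ is a
homomorphism of filtered rings for the I-adic and J-adic filtrations. Assume that A is I-adically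
complete in the sense that every I-adically Cauchy sequence has a limit, that B is J-adically
separated, and that the induced homomorphism of associated graded rings ⊕ₙ Iⁿ/Iⁿ⁺¹ → ⊕ₙ Jⁿ/Jⁿ⁺¹ is
surjective. Then φ is surjective, φ is strict (Jⁿ = φ(Iⁿ)B for all n, that is J = φ(I)B), and B is
J-adically separated and complete. (The published statement is for a homomorphism of filtered
modules over a filtered ring, with arbitrary compatible filtrations; this row is its case of a ring
homomorphism with adic filtrations.) -/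
theorem result (A : Type u) [CommRing A] (B : Type u)
    [CommRing B] (φ : A →+* B) (I : Ideal A) (J : Ideal B) (hIJ : I.map φ ≤ J)
    [IsPrecomplete I A] [IsHausdorff J B]
    (h : Function.Surjective (AssocGr.map (AssocGr.IsFiltHom.adic hIJ))) :
    Function.Surjective φ ∧ I.map φ = J ∧ IsAdicComplete J B := by
  classical
  have key : ∀ n, ∀ b ∈ J ^ n, ∃ a ∈ I ^ n, b - φ a ∈ J ^ (n + 1) := fun n b hb => by
    obtain ⟨x, hx⟩ := h (AssocGr.inDeg (FiltBl.IdealFiltration.adic J) n ⟨b, hb⟩ : _)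
    obtain ⟨f, rfl⟩ := AssocGr.mkG_surjective _ x
    rw [AssocGr.map_mkG, AssocGr.coe_inDeg] at hx
    refine ⟨(f : Polynomial A).coeff n, f.2 n, ?_⟩
    rw [eq_comm, ← sub_eq_zero, ← map_sub, AssocGr.mkG_eq_zero_iff, AssocGr.mem_succIdeal_iff] at hx
    have h2 := hx n
    simp only [AddSubgroupClass.coe_sub, Polynomial.coeff_sub, AssocGr.coe_coe_monom,
      Polynomial.coeff_monomial_same, AssocGr.coe_reesMap, Polynomial.coeff_map] at h2
    exact h2
  choose K hK hK' using key
  have hpow : ∀ n, (I ^ n • ⊤ : Submodule A A) = I ^ n := fun n => by rw [smul_eq_mul, Ideal.mul_top]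
  have hpowB : ∀ n, (J ^ n • ⊤ : Submodule B B) = J ^ n := fun n => by rw [smul_eq_mul, Ideal.mul_top]
  have approx : ∀ b : B, ∃ a : A, φ a = b ∧ (b ∈ J → a ∈ I) := fun b => by
    let f : ∀ k : ℕ, {a : A // b - φ a ∈ J ^ k} := fun k =>
      Nat.rec ⟨0, by simp⟩ (fun k p =>
        if hk : k = 0 ∧ b ∈ J then ⟨0, by rw [map_zero, sub_zero, hk.1]; exact (pow_one J).symm ▸ hk.2⟩
        else ⟨p.1 + K k _ p.2, by rw [map_add, ← sub_sub]; exact hK' k _ p.2⟩) k
    obtain ⟨L, hL⟩ := exists_limit (I := I) (fun k => (f k).1) fun k => by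
      rw [hpow]
      change (dite (k = 0 ∧ b ∈ J) _ _ : {a : A // b - φ a ∈ J ^ (k + 1)}).1 - (f k).1 ∈ _
      split_ifs with hk
      · obtain ⟨rfl, -⟩ := hk; rw [pow_zero, Ideal.one_eq_top]; trivial
      · rw [add_sub_cancel_left]; exact hK k _ _
    have hφL : φ L = b := (sub_eq_zero.1 (IsHausdorff.haus' (I := J) (b - φ L) fun k => by
      rw [SModEq.zero, hpowB, ← sub_add_sub_cancel b (φ (f k).1) (φ L), ← map_sub]
      refine add_mem (f k).2 ?_
      have h1 := hL k
      rw [hpow] at h1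
      have h2 := Ideal.mem_map_of_mem φ h1
      rw [Ideal.map_pow] at h2
      exact Ideal.pow_right_mono hIJ k h2)).symm
    refine ⟨L, hφL, fun hb => ?_⟩
    have h1 := hL 1
    rw [hpow, pow_one] at h1
    change (dite ((0 : ℕ) = 0 ∧ b ∈ J) _ _ : {a : A // b - φ a ∈ J ^ (0 + 1)}).1 - L ∈ I at h1
    rw [dif_pos ⟨rfl, hb⟩] at h1
    simpa using h1
  have hsurj : Function.Surjective φ := fun b => (approx b).imp fun a ha => ha.1
  have heq : I.map φ = J := le_antisymm hIJ fun b hb => by
    obtain ⟨a, rfl, ha⟩ := approx b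
    exact Ideal.mem_map_of_mem φ (ha hb)
  refine ⟨hsurj, heq, ?_⟩
  have : IsPrecomplete J B := ⟨fun g hg => by
    have hd : ∀ n, ∃ a ∈ I ^ n, φ a = g (n + 1) - g n := fun n => by
      have h1 := (SModEq.sub_mem.1 (hg (Nat.le_succ n)))
      rw [hpowB, ← heq, ← Ideal.map_pow, ← neg_mem_iff, neg_sub] at h1
      exact (Ideal.mem_map_iff_of_surjective φ hsurj).1 h1
    choose d hd hd' using hd
    obtain ⟨a0, ha0⟩ := hsurj (g 0)
    let f : ℕ → A := fun k => Nat.rec a0 (fun k p => p + d k) k
    have hf : ∀ k, φ (f k) = g k := fun k => by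
      induction k with
      | zero => exact ha0
      | succ k ih => change φ (f k + d k) = _; rw [map_add, ih, hd', add_sub_cancel]
    obtain ⟨L, hL⟩ := exists_limit (I := I) f fun k => by
      rw [hpow]
      change f k + d k - f k ∈ _
      rw [add_sub_cancel_left]
      exact hd k
    refine ⟨φ L, fun n => SModEq.sub_mem.2 ?_⟩
    rw [hpowB, ← hf, ← map_sub, ← heq, ← Ideal.map_pow]
    have h1 := hL n
    rw [hpow] at h1
    exact Ideal.mem_map_of_mem φ h1⟩
  exact ⟨⟩

end Groth.Agent.S16456
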