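import Groth.Statements.S16459
import Groth.Agent.Lib.AdicGr3.Basic

set_option autoImplicit false
universe u
open AdicGr

namespace Groth.Agent.S16459

/-- Let A be a commutative ring and I an ideal such that every I-adically Cauchy sequence in A has a
limit, and let M be an A-module with an I-filtration M = N₀ ⊇ N₁ ⊇ … (I·Nₙ ⊆ Nₙ₊₁) which is
separated, ⋂ₙ Nₙ = 0. If the associated graded module gr(M) = ⊕ₙ Nₙ/Nₙ₊₁ is a Noetherian module over
the associated graded ring ⊕ₙ Iⁿ/Iⁿ⁺¹, then M is a Noetherian A-module and every submodule M' of M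
is closed for the topology defined by the filtration, that is ⋂ₙ (M' + Nₙ) = M'. (The published
statement allows any complete filtered ring; this row takes the I-adic filtration on A.) -/
theorem result (A : Type u) [CommRing A]
    (I : Ideal A) [IsPrecomplete I A] (M : Type u) [AddCommGroup M] [Module A M] (F : I.Filtration M)
    (h0 : F.N 0 = ⊤) (hsep : ⨅ n, F.N n = ⊥)
    [IsNoetherian (AssocGr.GrRing (FiltBl.IdealFiltration.adic I)) (AssocGr.GrMod F)] :
    IsNoetherian A M ∧ ∀ M' : Submodule A M, ⨅ n, M' ⊔ F.N n = M' := by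
  refine ⟨⟨fun P => AdicGr3.fg_of_fg_initSet F hsep h0 P (IsNoetherian.noetherian _)⟩, fun M' => ?_⟩
  refine le_antisymm ?_ (le_iInf fun n => le_sup_left)
  obtain ⟨k, d, x, hxP, hx⟩ := AdicGr3.exists_gens_of_fg F M' (IsNoetherian.noetherian _)
  refine (AdicGr3.le_span_of_initSet_le F hsep h0 _ d x (fun i => ?_) ?_).trans
    (Submodule.span_le.2 (Set.range_subset_iff.2 hxP))
  · exact (le_iInf fun n => le_sup_left : M' ≤ ⨅ n, M' ⊔ F.N n) (hxP i)
  rintro _ ⟨n, y, hy, rfl⟩
  rw [← hx]
  obtain ⟨m, hm, w, hw, hmw⟩ := Submodule.mem_sup.1 (Submodule.mem_iInf _ |>.1 hy (n + 1))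
  have hwn : w ∈ F.N n := F.antitone (Nat.le_succ n) hw
  have hmn : m ∈ F.N n := by
    have : m = (y : M) - w := by rw [← hmw]; abel
    rw [this]; exact sub_mem y.2 hwn
  refine Submodule.subset_span ⟨n, ⟨m, hmn⟩, hm, ?_⟩
  rw [← sub_eq_zero, ← AddSubgroupClass.coe_sub, ← map_sub, ZeroMemClass.coe_eq_zero, AssocGr.inDegM_eq_zero_iff]
  simpa [← hmw] using hw

end Groth.Agent.S16459
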