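import Groth.Statements.S1646
import Groth.Agent.Lib.ParaFDesc27.GlobalBC
import Mathlib.Algebra.Category.ModuleCat.Sheaf.PullbackFree
-- import your own Groth.Agent.* helpers here

set_option autoImplicit false
universe u
open CategoryTheory CategoryTheory.Limits AlgebraicGeometry
open Variety

namespace Groth.Agent.S1646

/-- Let A → A' be a faithfully flat ring map, f : X → Spec A a quasi-compact and quasi-separated
morphism, and F a quasi-coherent O_X-module. F is generated by its global sections exactly when its
pullback to X ×_{Spec A} Spec A' is generated by its global sections. (Quasi-compactness and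
quasi-separatedness of f are assumed here on top of the published hypotheses.) -/
theorem result (A A' : Type u) [CommRing A] [CommRing A'] [Algebra A A']
    [Module.FaithfullyFlat A A'] (X : Scheme.{u}) (f : X ⟶ Spec (CommRingCat.of A)) [QuasiCompact f] [QuasiSeparated f]
    (F : X.Modules) (hF : Coh.IsQCoh F) :
    Curv2.IsGloballyGenerated F ↔ Curv2.IsGloballyGenerated
      ((Scheme.Modules.pullback (pullback.fst f (Spec.map (CommRingCat.ofHom (algebraMap A A'))))).obj F) := by
  let g := Spec.map (CommRingCat.ofHom (algebraMap A A'))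
  let r := pullback.fst f g
  let q := pullback.snd f g
  have hsq : IsPullback r q f g := IsPullback.of_hasPullback f g
  haveI := hF
  have hff := (flat_and_surjective_SpecMap_iff (CommRingCat.ofHom (algebraMap A A'))).2
    ((RingHom.faithfullyFlat_algebraMap_iff (R := A) (S := A')).2 inferInstance)
  haveI : Flat g := hff.1
  haveI : Surjective g := hff.2
  haveI : Flat r := MorphismProperty.of_isPullback hsq.flip ‹Flat g›
  haveI : Surjective r := MorphismProperty.of_isPullback hsq.flip ‹Surjective g›
  haveI := (Scheme.Modules.pullbackPushforwardAdjunction r).isLeftAdjoint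
  haveI : Functor.PreservesZeroMorphisms (Scheme.Modules.pullback r) :=
    Functor.preservesZeroMorphisms_of_isLeftAdjoint _
  constructor
  · rintro ⟨ι, p, hp⟩
    haveI : Epi ((Scheme.Modules.pullback r).map p) := @Functor.map_epi _ _ _ _ (Scheme.Modules.pullback r) _ _ _ p hp
    haveI : (TopologicalSpace.Opens.map r.base).Final := inferInstance
    let ee : (Scheme.Modules.pullback r).obj (SheafOfModules.free ι : X.Modules) ≅ SheafOfModules.free ι :=
      SheafOfModules.pullbackObjFreeIso r.toRingCatSheafHom ι
    exact ⟨ι, ee.inv ≫ (Scheme.Modules.pullback r).map p, @epi_comp _ _ _ _ _ _ inferInstance _ ‹Epi ((Scheme.Modules.pullback r).map p)›⟩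
  · rintro ⟨ι, p, hp⟩
    let can : Groth.Agent.M1.fr Γ(F, ⊤) ⟶ F := Groth.Agent.M1.freeHom fun m => m
    have hlift : ∀ t : Γ((Scheme.Modules.pullback r).obj F, ⊤),
        ∃ l, ((Scheme.Modules.pullback r).map can).app ⊤ l = t := by
      intro t
      induction t using Groth.Agent.ParaFDesc27.global_induction hsq F
        (Or.inr ⟨inferInstance, inferInstance, inferInstance⟩) with
      | zero => exact ⟨0, map_zero _⟩
      | add s t hs ht =>
        obtain ⟨a, rfl⟩ := hs
        obtain ⟨b, rfl⟩ := ht
        exact ⟨a + b, map_add _ a b⟩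
      | smul c m =>
        refine ⟨(show Γ(pullback f g, ⊤) from q.appTop c) •
          (show Γ((Scheme.Modules.pullback r).obj (Groth.Agent.M1.fr Γ(F, ⊤)), ⊤) from
            Groth.Agent.M2.pullSec r _ ((Groth.Agent.M1.ιF m).app ⊤ (Groth.Agent.M1.one ⊤))), ?_⟩
        rw [Scheme.Modules.Hom.app_smul]
        refine congrArg _ ?_
        show ((Scheme.Modules.pullback r).map can).app (r ⁻¹ᵁ ⊤) (Groth.Agent.M2.pullSec r _ _) = Groth.Agent.M2.pullSec r F m
        rw [Groth.Agent.Amp.map_pullSec]
        refine congrArg (Groth.Agent.M2.pullSec r F) ?_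
        have := congrArg (fun ψ => Scheme.Modules.Hom.app ψ ⊤ (Groth.Agent.M1.one ⊤))
          (Groth.Agent.M1.ιF_freeHom (fun m : Γ(F, ⊤) => m) m)
        exact this.trans (Groth.Agent.M1.secHom_app_one m)
    choose l hl using fun i : ι => hlift ((Groth.Agent.M1.ιF i ≫ p).app ⊤ (Groth.Agent.M1.one ⊤))
    have hfac : Groth.Agent.M1.freeHom l ≫ (Scheme.Modules.pullback r).map can = p :=
      Groth.Agent.M1.free_hom_ext fun i => by
        rw [← hl i, Groth.Agent.M1.ιF_freeHom_assoc]
        exact congrArg _ (Groth.Agent.M1.secHom_app_one _)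
    haveI : Epi ((Scheme.Modules.pullback r).map can) :=
      @epi_of_epi_fac _ _ _ _ _ (Groth.Agent.M1.freeHom l) _ _ hp hfac
    refine ⟨Γ(F, ⊤), can, Abelian.epi_of_cokernel_π_eq_zero can ?_⟩
    have h0 : (Scheme.Modules.pullback r).map (cokernel.π can) = 0 := by
      rw [← cancel_epi ((Scheme.Modules.pullback r).map can), ← Functor.map_comp, cokernel.condition,
        Functor.map_zero, comp_zero]
    have hz : IsZero ((Scheme.Modules.pullback r).obj (cokernel can)) := IsZero.of_epi_eq_zero _ h0
    apply Scheme.Modules.hom_ext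
    intro W
    ext s
    refine Groth.Agent.QcohDesc12.eq_of_res' (cokernel can) _ _ fun x hx => ?_
    obtain ⟨y, rfl⟩ := r.surjective x
    refine ⟨_, r, inferInstance, r ⁻¹ᵁ W, le_rfl, y, hx, rfl, ?_⟩
    have hid := congrArg (fun ψ => Scheme.Modules.Hom.app ψ (r ⁻¹ᵁ W)) ((IsZero.iff_id_eq_zero _).1 hz)
    have hz0 : ∀ z : Γ((Scheme.Modules.pullback r).obj (cokernel can), r ⁻¹ᵁ W), z = 0 := fun z =>
      ConcreteCategory.congr_hom hid z
    exact (hz0 _).trans (hz0 _).symm

end Groth.Agent.S1646
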