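import Groth.Statements.S16460
import Mathlib.RingTheory.Ideal.Operations

set_option autoImplicit false
universe u
open AdicGr

namespace Groth.Agent.S16460

/-- Let A be a commutative ring with a decreasing filtration by ideals A = F₀ ⊇ F₁ ⊇ F₂ ⊇ … satisfying
F_m·F_n ⊆ F_{m+n}, and assume the filtration is separated, ⋂ₙ Fₙ = 0. If the associated graded ring
⊕ₙ Fₙ/Fₙ₊₁ is an integral domain, then A is an integral domain. -/
theorem result (A : Type u) [CommRing A]
    (𝓕 : FiltBl.IdealFiltration A) (hsep : ⨅ n, 𝓕.F n = ⊥) [IsDomain (AssocGr.GrRing 𝓕)] :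
    IsDomain A := by
  classical
  have hne : Nontrivial A := by
    by_contra h
    rw [not_nontrivial_iff_subsingleton] at h
    have : Subsingleton (AssocGr.GrRing 𝓕) := ⟨fun x y => by
      obtain ⟨f, rfl⟩ := AssocGr.mkG_surjective 𝓕 x
      obtain ⟨g, rfl⟩ := AssocGr.mkG_surjective 𝓕 y
      exact congrArg _ (Subtype.ext (Polynomial.ext fun n => Subsingleton.elim _ _))⟩
    exact false_of_nontrivial_of_subsingleton (AssocGr.GrRing 𝓕)
  have lead : ∀ a : A, a ≠ 0 → ∃ (n : ℕ) (h : a ∈ 𝓕.F n), (AssocGr.inDeg 𝓕 n ⟨a, h⟩ : AssocGr.GrRing 𝓕) ≠ 0 := fun a ha => by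
    have hex : ∃ n, a ∉ 𝓕.F n := by
      by_contra h
      simp only [not_exists, not_not] at h
      exact ha ((Submodule.mem_bot A).1 (hsep.le (Submodule.mem_iInf _ |>.2 h)))
    obtain ⟨n, hn⟩ : ∃ n, Nat.find hex = n + 1 := Nat.exists_eq_succ_of_ne_zero fun h0 =>
      Nat.find_spec hex (by rw [h0, 𝓕.zero_eq]; trivial)
    refine ⟨n, not_not.1 (Nat.find_min hex (by omega)), fun h => Nat.find_spec hex ?_⟩
    rw [Submodule.coe_eq_zero, AssocGr.inDeg_eq_zero_iff] at h
    rw [hn]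
    exact h
  have hmul : NoZeroDivisors A := ⟨fun {a b} hab => by
    by_contra h
    rw [not_or] at h
    obtain ⟨m, hm, hm'⟩ := lead a h.1
    obtain ⟨n, hn, hn'⟩ := lead b h.2
    refine mul_ne_zero hm' hn' ?_
    rw [AssocGr.coe_inDeg_mul, Submodule.coe_eq_zero, AssocGr.inDeg_eq_zero_iff]
    simp [hab]⟩
  exact NoZeroDivisors.to_isDomain A

end Groth.Agent.S16460
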