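import Groth.Statements.S16466
import Groth.Agent.Lib.RankLoc10.Main
import Groth.Agent.Lib.DPerf.RelAmp
import Groth.Agent.Lib.KFlat.LpullPC
import Groth.Agent.Lib.TensorMod.Invertible
import Groth.Agent.Lib.VarDim.Irred
-- import your own Groth.Agent.* helpers here

set_option autoImplicit false
universe u
open PicF

namespace Groth.Agent.S16466

open CategoryTheory AlgebraicGeometry AlgebraicGeometry.Scheme.Modules in
/-- Suppose f : X → S is a proper, flat morphism between Noetherian schemes, and L is an invertible
O_X-module. Then there is a locally closed subscheme Z of S (an immersion i : Z → S) with the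
following universal property: a morphism t : T → S factors through i if and only if, for a cartesian
square X_T = X ×_S T with projections f_T and g_T, the direct image (f_T)_*(g_T^* L) is an
invertible O_T-module whose formation commutes with every further base change T' → T (the
degree-zero base change morphism is an isomorphism for every cartesian square over T' → T). In
particular Z is unique and (f_Z)_*(L_Z) is invertible of formation compatible with base change.
(Characterising the factorisation by invertibility of the direct image alone is not correct: for a
genus-two curve C over a field, p a point of C and S the spectrum of the local ring of C at the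
hyperelliptic conjugate of p, the family C × S → S with L = O(p + q), q the tautological point, has
direct image free of rank one while the closed fibre has a two-dimensional space of sections, so S →
S does not factor through Z.) -/
theorem result {X S : Scheme.{u}} (f : X ⟶ S) [IsProper f] [Flat f]
    [IsNoetherian S] [IsNoetherian X] (L : X.Modules) (hL : PicF.IsInvertible L) :
    ∃ (Z : Scheme.{u}) (i : Z ⟶ S), IsImmersion i ∧
      ∀ (T : Scheme.{u}) (t : T ⟶ S) (XT : Scheme.{u}) (fT : XT ⟶ T) (gT : XT ⟶ X)
        (hT : IsPullback gT fT f t),
        (∃ z : T ⟶ Z, z ≫ i = t) ↔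
          (PicF.IsInvertible ((pushforward fT).obj ((pullback gT).obj L)) ∧
            ∀ (T' : Scheme.{u}) (u : T' ⟶ T) (XT' : Scheme.{u}) (fT' : XT' ⟶ T') (u' : XT' ⟶ XT)
              (hT' : IsPullback u' fT' fT u),
              IsIso (CohBC.bc0 fT u fT' u' hT'.w ((pullback gT).obj L))) := by
  haveI : LocallyOfFinitePresentation f := VarDim.locallyOfFinitePresentation_of_locallyNoetherian f
  have hlf := M2.isFinLocFree_of_isInvertible hL
  haveI : Coh.IsQCoh L := M1.isFP_isQCoh (M1.isFP_of_isFinLocFree hlf)
  obtain ⟨Z, i, hi, -, -, hu, -⟩ := RankLoc10.exists_immersion_univ (f := f) (F := L)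
    (M1.isFP_of_isFinLocFree hlf) (DPerf.isFlatOver_of_isFlat f (KFlat.Sch.isFlat_of_isFinLocFree hlf)) 1
  refine ⟨Z, i, hi, fun T t XT fT gT hT => (hu T t XT gT fT hT).trans (and_congr ?_ ?_)⟩
  · exact (M2.isInvertible_iff_isFinLocFreeOfRank_one _).symm
  · exact ⟨fun h T' u XT' fT' u' hT' => h u' fT' u hT', fun h XT' T' u' fT' u hT' => h T' u XT' fT' u' hT'⟩

end Groth.Agent.S16466
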