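import Groth.Statements.S16468
import Groth.Agent.Lib.KS17.Slope
-- import your own Groth.Agent.* helpers here

set_option autoImplicit false
universe u
open CategoryTheory CategoryTheory.Limits AlgebraicGeometry
open VBCurve

namespace Groth.Agent.S16468

/-- Let X be a smooth proper integral curve (integral, smooth and proper of dimension one) over an
algebraically closed field k and E a finite locally free O_X-module of rank r ≥ 1 which is finite in
the sense of Weil: there are two distinct polynomials P ≠ Q with natural-number coefficients such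
that P(E) ≅ Q(E), where P(E) denotes the direct sum over i of P_i copies of the i-th tensor power
E^{⊗ i} (E^{⊗ 0} = O_X). Then E is slope-semistable of slope 0: deg E = 0 (degree = χ −
rank·χ(O_X)), and deg F · r ≤ deg E · r', that is deg F ≤ 0, for every finite locally free submodule
F ⊂ E (a monomorphism of O_X-modules) of rank r' ≥ 1. -/
theorem result (k : Type u) [Field k] [IsAlgClosed k] (X : Scheme.{u}) [X.Over (Spec (CommRingCat.of k))]
    [IsIntegral X] [IsProper (X ↘ Spec (CommRingCat.of k))] [Smooth (X ↘ Spec (CommRingCat.of k))]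
    (hdim : topologicalKrullDim X = 1)
    (r : ℕ) (hr : 0 < r) (E : X.Modules) (hE : FlatMod.IsFinLocFreeOfRank r E)
    (P Q : Polynomial ℕ) (hPQ : P ≠ Q)
    (hfin : Nonempty ((∐ fun i : Fin (P.natDegree + 1) => ∐ fun _ : Fin (P.coeff ↑i) => CohB1.tensorPow E ↑i) ≅
      (∐ fun i : Fin (Q.natDegree + 1) => ∐ fun _ : Fin (Q.coeff ↑i) => CohB1.tensorPow E ↑i))) :
    Curv2.deg k X E r = 0 ∧
      ∀ (F : X.Modules) (r' : ℕ) (i : F ⟶ E), Mono i → 0 < r' → FlatMod.IsFinLocFreeOfRank r' F →
        Curv2.deg k X F r' * (r : ℤ) ≤ Curv2.deg k X E r * (r' : ℤ) := by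
  have hX := Groth.Agent.VB17.regCurve' (k := k) (X := X) hdim
  obtain ⟨hd, hsub⟩ := Groth.Agent.KS17.deg_eq_zero_of_finType hX hr hE
    ((Groth.Agent.KS17.wf_iff_finType hX hE).1 ⟨P, Q, hPQ, hfin⟩)
  refine ⟨hd, fun F r' i hi h0 hF => ?_⟩
  rw [hd, zero_mul]
  exact mul_nonpos_of_nonpos_of_nonneg (hsub F r' i hi h0 hF) (by positivity)

end Groth.Agent.S16468
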