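import Groth.Statements.S16469
import Groth.Agent.Lib.VB17.Proper
import Groth.Agent.Lib.VB17.Slope
import Groth.Agent.Lib.VB17.Saturate
-- import your own Groth.Agent.* helpers here

set_option autoImplicit false
universe u
open CategoryTheory CategoryTheory.Limits AlgebraicGeometry
open VBCurve Groth.Agent.M1 Groth.Agent.M2 Groth.Agent.CurveCoh17 Groth.Agent.VB17

namespace Groth.Agent.S16469

/-- Let X be a smooth proper integral curve (integral, smooth and proper of dimension one) over an
algebraically closed field k, and let E, F be finite locally free O_X-modules of ranks r ≥ 1, s ≥ 1,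
both slope-semistable (deg G · rank ≤ deg · rank G on finite locally free submodules G of positive
rank; degree = χ − rank·χ(O_X)) and of the same slope μ: deg E · s = deg F · r. Then for every
homomorphism f : E → F the kernel and the cokernel of f, taken in the abelian category of
O_X-modules, are finite locally free of some ranks r₀ and s₀, have slope μ when nonzero (deg(ker f)
· r = deg E · r₀ and deg(coker f) · s = deg F · s₀) and are slope-semistable: deg G · r₀ ≤ deg(ker
f) · n for every finite locally free submodule G ⊂ ker f of rank n ≥ 1, and likewise for coker f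
with s₀. In other words the semistable bundles of slope μ form an abelian subcategory, and the image
of f is a sub-bundle of F. -/
theorem result (k : Type u) [Field k] [IsAlgClosed k] (X : Scheme.{u}) [X.Over (Spec (CommRingCat.of k))]
    [IsIntegral X] [IsProper (X ↘ Spec (CommRingCat.of k))] [Smooth (X ↘ Spec (CommRingCat.of k))]
    (hdim : topologicalKrullDim X = 1)
    (r s : ℕ) (hr : 0 < r) (hs : 0 < s) (E F : X.Modules)
    (hE : FlatMod.IsFinLocFreeOfRank r E) (hF : FlatMod.IsFinLocFreeOfRank s F)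
    (hEss : ModFun.IsSlopeSemistable k X E r) (hFss : ModFun.IsSlopeSemistable k X F s)
    (hμ : Curv2.deg k X E r * (s : ℤ) = Curv2.deg k X F s * (r : ℤ)) (f : E ⟶ F) :
    (∃ r₀ : ℕ, FlatMod.IsFinLocFreeOfRank r₀ (kernel f) ∧
        Curv2.deg k X (kernel f) r₀ * (r : ℤ) = Curv2.deg k X E r * (r₀ : ℤ) ∧
        ∀ (G : X.Modules) (n : ℕ) (j : G ⟶ kernel f), Mono j → 0 < n → FlatMod.IsFinLocFreeOfRank n G →
          Curv2.deg k X G n * (r₀ : ℤ) ≤ Curv2.deg k X (kernel f) r₀ * (n : ℤ)) ∧
      (∃ s₀ : ℕ, FlatMod.IsFinLocFreeOfRank s₀ (cokernel f) ∧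
        Curv2.deg k X (cokernel f) s₀ * (s : ℤ) = Curv2.deg k X F s * (s₀ : ℤ) ∧
        ∀ (G : X.Modules) (n : ℕ) (j : G ⟶ cokernel f), Mono j → 0 < n → FlatMod.IsFinLocFreeOfRank n G →
          Curv2.deg k X G n * (s₀ : ℤ) ≤ Curv2.deg k X (cokernel f) s₀ * (n : ℤ)) := by
  have hX := VB17.regCurve' (k := k) (X := X) hdim
  haveI := hX.like.noetherian
  obtain ⟨rK, rI, dK, dI, hK, hI, hdK, hdI, hd, hr', -, -, -, -, hI0, -⟩ := map_data hX hE hF f
  have hr0 : (0 : ℤ) < r := by exact_mod_cast hr
  have hs0 : (0 : ℤ) < s := by exact_mod_cast hs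
  have h1 : Curv2.deg k X E r * (rI : ℤ) ≤ dI * (r : ℤ) := hdI ▸ image_ge hX hE hF hEss f hI
  have h2 : dI * (s : ℤ) ≤ Curv2.deg k X F s * (rI : ℤ) := by
    rcases Nat.eq_zero_or_pos rI with h | h
    · rw [hI0 h, h]; simp
    · exact hdI ▸ hFss _ rI (Abelian.image.ι f) inferInstance h hI
  have hEI : dI * (r : ℤ) = Curv2.deg k X E r * (rI : ℤ) := by
    refine le_antisymm (le_of_mul_le_mul_right ?_ hs0) h1
    have := mul_le_mul_of_nonneg_right h2 hr0.le
    have := congrArg (· * (rI : ℤ)) hμ
    linarith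
  have hFI : dI * (s : ℤ) = Curv2.deg k X F s * (rI : ℤ) := by
    refine mul_right_cancel₀ hr0.ne' ?_
    have := congrArg (· * (rI : ℤ)) hμ
    have := congrArg (· * (s : ℤ)) hEI
    linarith
  have hrK : (r : ℤ) = rK + rI := by exact_mod_cast hr'
  have hEK : Curv2.deg k X (kernel f) rK * (r : ℤ) = Curv2.deg k X E r * (rK : ℤ) := by
    rw [← hdK]
    linear_combination -(r : ℤ) * hd - hEI + Curv2.deg k X E r * hrK
  refine ⟨⟨rK, hK, hEK, fun G n j hj hn hG => le_of_mul_le_mul_right ?_ hr0⟩, ?_⟩
  · have h := mul_le_mul_of_nonneg_right (hEss G n (j ≫ kernel.ι f) (mono_comp _ _) hn hG)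
      (show (0 : ℤ) ≤ rK by positivity)
    have := congrArg (· * (n : ℤ)) hEK
    linarith
  let eC : cokernel (Abelian.image.ι f) ≅ cokernel f :=
    (cokernelEpiComp (Abelian.factorThruImage f) (Abelian.image.ι f)).symm ≪≫
      cokernelIsoOfEq (Abelian.image.fac f)
  have hfree : FlatMod.IsFinLocFree (cokernel (Abelian.image.ι f)) :=
    isFinLocFree_cokernel hX hF hI (Abelian.image.ι f) fun P j hj hP => by
      rw [← hdI]
      rcases Nat.eq_zero_or_pos rI with h | h
      · rw [hI0 h]; subst h; exact (deg_rank_zero hX.like hP).le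
      · exact le_of_mul_le_mul_right ((hFss P rI j hj h hP).trans hFI.ge) hs0
  obtain ⟨sC, hsC⟩ := exists_rank_of_isFinLocFree hfree
  have hC := isFinLocFreeOfRank_of_iso eC hsC
  have hsr : (s : ℤ) = rI + sC := by exact_mod_cast rank_add (cokerSC_shortExact f) hI hF hC
  have hdC : Curv2.deg k X F s = dI + Curv2.deg k X (cokernel f) sC :=
    hdI ▸ deg_add hX.like (cokerSC_shortExact f) hI hF hC
  have hFC : Curv2.deg k X (cokernel f) sC * (s : ℤ) = Curv2.deg k X F s * (sC : ℤ) := by
    linear_combination -(s : ℤ) * hdC - hFI + Curv2.deg k X F s * hsr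
  refine ⟨sC, hC, hFC, fun G n j hj hn hG => le_of_mul_le_mul_right ?_ hs0⟩
  haveI := hj
  obtain ⟨P, l, hl, hP, hdP⟩ := exists_preimage hX hF hI (Abelian.image.ι f) hG (j ≫ eC.inv)
  have h := hFss P (rI + n) l hl (by omega) hP
  rw [hdP, ← hdI] at h
  push_cast at h
  have h' : Curv2.deg k X G n * (s : ℤ) ≤ Curv2.deg k X F s * (n : ℤ) := by linarith
  have := mul_le_mul_of_nonneg_right h' (show (0 : ℤ) ≤ sC by positivity)
  have := congrArg (· * (n : ℤ)) hFC
  linarith


end Groth.Agent.S16469
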