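import Groth.Statements.S16470
import Groth.Agent.Lib.VB17.Proper

set_option autoImplicit false
universe u
open CategoryTheory CategoryTheory.Limits AlgebraicGeometry
open VBCurve

namespace Groth.Agent.S16470

open CategoryTheory CategoryTheory.Limits AlgebraicGeometry Groth.Agent.VB17 Groth.Agent.CurveCoh17

/-- Let X be a smooth proper integral curve (integral, smooth and proper of dimension one) over an
algebraically closed field k and E a finite locally free O_X-module of rank r ≥ 1 (degree = χ −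
rank·χ(O_X), slope = degree / rank). There is a finite locally free submodule E₁ ⊂ E (a monomorphism
of O_X-modules) of some rank r₁ ≥ 1, the destabilising sub-bundle, such that: every finite locally
free submodule F ⊂ E of rank r' ≥ 1 has slope at most that of E₁ (deg F · r₁ ≤ deg E₁ · r'); and the
maximal slope drops in the quotient, i.e. every finite locally free submodule G of rank r' ≥ 1 of
the cokernel E/E₁ has deg G · r₁ < deg E₁ · r'. Moreover a submodule with these two properties is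
unique: any two are the same subobject of E. (Such an E₁ is slope-semistable, every submodule of E₁
being a submodule of E; the published statement lists semistability of E₁ as a third property, which
is therefore omitted here.) -/
theorem result (k : Type u) [Field k] [IsAlgClosed k] (X : Scheme.{u}) [X.Over (Spec (CommRingCat.of k))]
    [IsIntegral X] [IsProper (X ↘ Spec (CommRingCat.of k))] [Smooth (X ↘ Spec (CommRingCat.of k))]
    (hdim : topologicalKrullDim X = 1)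
    (r : ℕ) (hr : 0 < r) (E : X.Modules) (hE : FlatMod.IsFinLocFreeOfRank r E) :
    (∃ (E₁ : X.Modules) (r₁ : ℕ) (i₁ : E₁ ⟶ E), Mono i₁ ∧ 0 < r₁ ∧ FlatMod.IsFinLocFreeOfRank r₁ E₁ ∧
      (∀ (F : X.Modules) (r' : ℕ) (j : F ⟶ E), Mono j → 0 < r' → FlatMod.IsFinLocFreeOfRank r' F →
        Curv2.deg k X F r' * (r₁ : ℤ) ≤ Curv2.deg k X E₁ r₁ * (r' : ℤ)) ∧
      (∀ (Q : X.Modules) (s : ℕ) (j : Q ⟶ cokernel i₁), Mono j → 0 < s → FlatMod.IsFinLocFreeOfRank s Q →
        Curv2.deg k X Q s * (r₁ : ℤ) < Curv2.deg k X E₁ r₁ * (s : ℤ))) ∧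
    (∀ (E₁ E₁' : X.Modules) (r₁ r₁' : ℕ) (i₁ : E₁ ⟶ E) (i₁' : E₁' ⟶ E),
      Mono i₁ → 0 < r₁ → FlatMod.IsFinLocFreeOfRank r₁ E₁ →
      (∀ (F : X.Modules) (r' : ℕ) (j : F ⟶ E), Mono j → 0 < r' → FlatMod.IsFinLocFreeOfRank r' F →
        Curv2.deg k X F r' * (r₁ : ℤ) ≤ Curv2.deg k X E₁ r₁ * (r' : ℤ)) →
      (∀ (Q : X.Modules) (s : ℕ) (j : Q ⟶ cokernel i₁), Mono j → 0 < s → FlatMod.IsFinLocFreeOfRank s Q →
        Curv2.deg k X Q s * (r₁ : ℤ) < Curv2.deg k X E₁ r₁ * (s : ℤ)) →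
      Mono i₁' → 0 < r₁' → FlatMod.IsFinLocFreeOfRank r₁' E₁' →
      (∀ (F : X.Modules) (r' : ℕ) (j : F ⟶ E), Mono j → 0 < r' → FlatMod.IsFinLocFreeOfRank r' F →
        Curv2.deg k X F r' * (r₁' : ℤ) ≤ Curv2.deg k X E₁' r₁' * (r' : ℤ)) →
      (∀ (Q : X.Modules) (s : ℕ) (j : Q ⟶ cokernel i₁'), Mono j → 0 < s → FlatMod.IsFinLocFreeOfRank s Q →
        Curv2.deg k X Q s * (r₁' : ℤ) < Curv2.deg k X E₁' r₁' * (s : ℤ)) →
      ∃ e : E₁ ≅ E₁', e.hom ≫ i₁' = i₁) := by
  have hX := regCurve' (k := k) hdim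
  constructor
  · obtain ⟨E₁, r₁, i₁, hi₁, hpos, hE₁, hmax, hrk, -⟩ := exists_max_slope hX hr hE
    haveI := hi₁
    refine ⟨E₁, r₁, i₁, hi₁, hpos, hE₁, hmax, fun Q s j hj hs hQ => ?_⟩
    haveI := hj
    obtain ⟨P, l, hl, hP, hd⟩ := exists_preimage hX hE hE₁ i₁ hQ j
    have h1 := hmax P _ l hl (by omega) hP
    have h2 : Curv2.deg k X P (r₁ + s) * (r₁ : ℤ) ≠ Curv2.deg k X E₁ r₁ * ((r₁ + s : ℕ) : ℤ) := fun h => by
      have := hrk P _ l hl (by omega) hP h
      omega
    have h3 := lt_of_le_of_ne h1 h2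
    rw [hd] at h3
    push_cast at h3
    linarith
  · intro E₁ E₁' r₁ r₁' i₁ i₁' hi₁ hpos hE₁ hmax hq hi₁' hpos' hE₁' hmax' hq'
    haveI := hi₁
    haveI := hi₁'
    have key : ∀ (A B : X.Modules) (a b : ℕ) (i : A ⟶ E) (j : B ⟶ E) [Mono i] [Mono j], 0 < a → 0 < b →
        FlatMod.IsFinLocFreeOfRank a A → FlatMod.IsFinLocFreeOfRank b B →
        (∀ (F : X.Modules) (r' : ℕ) (l : F ⟶ E), Mono l → 0 < r' → FlatMod.IsFinLocFreeOfRank r' F →
          Curv2.deg k X F r' * (a : ℤ) ≤ Curv2.deg k X A a * (r' : ℤ)) →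
        (∀ (F : X.Modules) (r' : ℕ) (l : F ⟶ E), Mono l → 0 < r' → FlatMod.IsFinLocFreeOfRank r' F →
          Curv2.deg k X F r' * (b : ℤ) ≤ Curv2.deg k X B b * (r' : ℤ)) →
        (∀ (Q : X.Modules) (s : ℕ) (l : Q ⟶ cokernel j), Mono l → 0 < s → FlatMod.IsFinLocFreeOfRank s Q →
          Curv2.deg k X Q s * (b : ℤ) < Curv2.deg k X B b * (s : ℤ)) →
        ∃ l : A ⟶ B, l ≫ j = i := by
      intro A B a b i j hi hj ha hb hA hB hAmax hBmax hBq
      have hb' : (0 : ℤ) < b := by exact_mod_cast hb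
      obtain ⟨q, hC⟩ := exists_rank_of_isFinLocFree (isFinLocFree_cokernel hX hE hB j fun P l hl hP =>
        le_of_mul_le_mul_right (hBmax P b l hl hb hP) hb')
      obtain ⟨rK, rI, dK, dI, hK, hI, hdK, hdI, hd, hsum, -, h0, -, hK0, -, -⟩ :=
        map_data hX hA hC (i ≫ cokernel.π j)
      have hab := hAmax B b j hj hb hB
      have hba := hBmax A a i hi ha hA
      rcases Nat.eq_zero_or_pos rI with h | h
      · exact ⟨Abelian.monoLift j i (h0.1 h), Abelian.monoLift_comp j i (h0.1 h)⟩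
      · exfalso
        have h1 := hBq _ rI (Abelian.image.ι (i ≫ cokernel.π j)) inferInstance h hI
        rw [← hdI] at h1
        have h2 : dK * (b : ℤ) ≤ Curv2.deg k X B b * (rK : ℤ) := by
          rcases Nat.eq_zero_or_pos rK with h' | h'
          · rw [hK0 h', h']; simp
          · rw [hdK]
            exact hBmax _ rK (kernel.ι (i ≫ cokernel.π j) ≫ i) (mono_comp _ _) h' hK
        rw [hd] at hab hba
        subst hsum
        push_cast at hab hba
        linarith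
    obtain ⟨l, hl⟩ := key E₁ E₁' r₁ r₁' i₁ i₁' hpos hpos' hE₁ hE₁' hmax hmax' hq'
    obtain ⟨l', hl'⟩ := key E₁' E₁ r₁' r₁ i₁' i₁ hpos' hpos hE₁' hE₁ hmax' hmax hq
    exact ⟨⟨l, l', by rw [← cancel_mono i₁, Category.assoc, hl', hl, Category.id_comp],
      by rw [← cancel_mono i₁', Category.assoc, hl, hl', Category.id_comp]⟩, hl⟩

end Groth.Agent.S16470
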