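import Groth.Statements.S16474
import Groth.Agent.Lib.GLRed28.Integral
import Groth.Agent.Lib.Chevalley.Coef
import Groth.Agent.Lib.Comodule.Basic
import Mathlib.LinearAlgebra.PiTensorProduct.Basis
-- import your own Groth.Agent.* helpers here

set_option autoImplicit false
open LaurentPolynomial
open ComodTens

namespace Groth.Agent.S16474

noncomputable section

open TensorProduct LaurentPolynomial

section Helper

open TensorProduct HopfRep CoordGrp

variable {k : Type} [Field k] {r : ℕ}

local notation "G" => CoordGrp.GLn r k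

/-- The scalar torus coaction on functions. -/
def grade : G →ₐ[k] G ⊗[k] k[T;T⁻¹] :=
  (Algebra.TensorProduct.map (AlgHom.id k G) (GLn.diag r k (fun _ => 1) : G →ₐ[k] k[T;T⁻¹])).comp
    (Bialgebra.comulAlgHom k G)

theorem grade_X (i j : Fin r) : grade (k := k) (GLn.X i j) = GLn.X i j ⊗ₜ[k] T 1 := by
  simp only [grade, AlgHom.comp_apply, Bialgebra.comulAlgHom_apply, GLn.comul_X, map_sum,
    Algebra.TensorProduct.map_tmul, AlgHom.id_apply]
  rw [Finset.sum_eq_single j]
  · congr 1
    exact (GLn.diag_X (n := r) (k := k) (fun _ => (1 : ℤ)) j j).trans (if_pos rfl)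
  · intro l _ hl
    rw [show (GLn.diag r k (fun _ => 1) : G →ₐ[k] k[T;T⁻¹]) (GLn.X l j) = 0 from
      (GLn.diag_X (n := r) (k := k) (fun _ => (1 : ℤ)) l j).trans (if_neg hl), TensorProduct.tmul_zero]
  · simp

theorem grade_det : grade (k := k) (GLn.det : G) = GLn.det ⊗ₜ[k] T (r : ℤ) := by
  simp only [grade, AlgHom.comp_apply, Bialgebra.comulAlgHom_apply, GLn.comul_det,
    Algebra.TensorProduct.map_tmul, AlgHom.id_apply]
  congr 1
  refine (GLn.diag_det (n := r) (k := k) (fun _ => 1)).trans ?_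
  simp

/-- The standard comodule. -/
@[reducible] def std : HopfRep.Comod k G (Fin r → k) := GLin.comodAlong (Mat.toGLn r k) (ComodTens.stdVec r k)

theorem cf_std (i j : Fin r) :
    Groth.Agent.Chevalley.cf (std (k := k)) (LinearMap.proj i) (Pi.basisFun k (Fin r) j) = GLn.X i j := by
  have h : (std (k := k)).coact (Pi.basisFun k (Fin r) j) = ∑ l, Pi.basisFun k (Fin r) l ⊗ₜ[k] (GLn.X l j : G) := by
    show TensorProduct.map LinearMap.id _ ((ComodTens.stdVec r k).coact _) = _
    rw [ComodTens.stdVec_coact_basisFun]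
    simp only [map_sum, TensorProduct.map_tmul, LinearMap.id_apply]
    refine Finset.sum_congr rfl fun l _ => ?_
    congr 1
    exact CoordGrp.Mat.toGLn_X l j
  simp only [Groth.Agent.Chevalley.cf, LinearMap.comp_apply, LinearEquiv.coe_coe]
  rw [h]
  simp only [map_sum, LinearMap.rTensor_tmul, TensorProduct.lid_tmul, LinearMap.proj_apply, Pi.basisFun_apply,
    Pi.single_apply, ite_smul, one_smul, zero_smul, Finset.sum_ite_eq, Finset.mem_univ, if_true]

/-- Polynomial functions of degree `e`. -/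
def P (e : ℕ) : Submodule k G := Submodule.span k (Groth.Agent.Chevalley.coefSet (std (k := k)) e)

theorem toGLn_mem (p : Mat r k) : Mat.toGLn r k p ∈
    ⨆ e, Submodule.span k {z : G | z ∈ Groth.Agent.Chevalley.coefSet (std (k := k)) e ∧ grade (k := k) z = z ⊗ₜ T (e : ℤ)} := by
  let S : ℕ → Set G := fun e => {z : G | z ∈ Groth.Agent.Chevalley.coefSet (std (k := k)) e ∧ grade (k := k) z = z ⊗ₜ T (e : ℤ)}
  show _ ∈ ⨆ e, Submodule.span k (S e)
  have h1 : ∀ q : MvPolynomial (Fin r × Fin r) k, Mat.toGLn r k (q : Mat r k) ∈ ⨆ e, Submodule.span k (S e) := by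
    have hmon : ∀ β : List (Fin r × Fin r), (β.map fun x => (GLn.X x.1 x.2 : G)).prod ∈ S β.length := by
      intro β
      induction β using List.reverseRecOn with
      | nil =>
        refine ⟨by simpa using Groth.Agent.Chevalley.one_mem_coefSet (std (k := k)), ?_⟩
        simp [Algebra.TensorProduct.one_def]
      | append_singleton l a ih =>
        rw [List.map_append, List.prod_append, List.map_singleton, List.prod_singleton, List.length_append,
          List.length_singleton]
        refine ⟨?_, ?_⟩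
        · have := Groth.Agent.Chevalley.mul_mem_coefSet _ ih.1 (LinearMap.proj a.1) (Pi.basisFun k (Fin r) a.2)
          rwa [cf_std] at this
        · rw [map_mul, ih.2, grade_X, Algebra.TensorProduct.tmul_mul_tmul, ← LaurentPolynomial.T_add]
          push_cast
          rfl
    intro q
    let φ : MvPolynomial (Fin r × Fin r) k →ₐ[k] G := (Mat.toGLn r k : Mat r k →ₐ[k] G)
    show φ q ∈ ⨆ e, Submodule.span k (S e)
    induction q using MvPolynomial.induction_on with
    | C c =>
      rw [← MvPolynomial.algebraMap_eq, AlgHom.commutes, Algebra.algebraMap_eq_smul_one]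
      refine Submodule.smul_mem _ _ (Submodule.mem_iSup_of_mem 0 (Submodule.subset_span ?_))
      simpa using hmon []
    | add p q hp hq => rw [map_add]; exact add_mem hp hq
    | mul_X p x hp =>
      rw [map_mul, show φ (MvPolynomial.X x) = (GLn.X x.1 x.2 : G) from Mat.toGLn_X x.1 x.2]
      have hle : (⨆ e, Submodule.span k (S e)) ≤
          (⨆ e, Submodule.span k (S e)).comap (LinearMap.mulRight k (GLn.X x.1 x.2 : G)) := by
        refine iSup_le fun e => Submodule.span_le.mpr fun z hz => ?_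
        refine Submodule.mem_iSup_of_mem (e + 1) (Submodule.subset_span ⟨?_, ?_⟩)
        · have := Groth.Agent.Chevalley.mul_mem_coefSet _ hz.1 (LinearMap.proj x.1) (Pi.basisFun k (Fin r) x.2)
          rwa [cf_std] at this
        · rw [LinearMap.mulRight_apply, map_mul, hz.2, grade_X, Algebra.TensorProduct.tmul_mul_tmul,
            ← LaurentPolynomial.T_add]
          push_cast
          rfl
      exact hle hp
  exact h1 p

/-- Extraction of a graded piece. -/
def piece (m : ℤ) : G →ₗ[k] G :=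
  (TensorProduct.rid k G).toLinearMap ∘ₗ
    ((Finsupp.lapply m : (ℤ →₀ k) →ₗ[k] k) ∘ₗ (AddMonoidAlgebra.coeffLinearEquiv k).toLinearMap).lTensor G ∘ₗ
      (grade (k := k)).toLinearMap

theorem piece_eq {z : G} {e : ℤ} (hz : grade (k := k) z = z ⊗ₜ T e) (m : ℤ) :
    piece (k := k) m z = if e = m then z else 0 := by
  simp only [piece, LinearMap.comp_apply, AlgHom.toLinearMap_apply, LinearEquiv.coe_coe, hz,
    LinearMap.lTensor_tmul, TensorProduct.rid_tmul]
  rw [show (Finsupp.lapply m : (ℤ →₀ k) →ₗ[k] k) ((AddMonoidAlgebra.coeffLinearEquiv k) (T e : k[T;T⁻¹])) =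
    if e = m then 1 else 0 from ?_]
  · split_ifs <;> simp
  · simp only [LaurentPolynomial.T, LinearEquiv.coe_coe]
    rw [Finsupp.lapply_apply]
    exact Finsupp.single_apply

theorem mem_P_of_homogeneous {z : G} {m : ℤ} (hz : z ∈ ⨆ e, Submodule.span k
      {z : G | z ∈ Groth.Agent.Chevalley.coefSet (std (k := k)) e ∧ grade (k := k) z = z ⊗ₜ T (e : ℤ)})
    (hm : grade (k := k) z = z ⊗ₜ T m) {e0 : ℕ} (he : (e0 : ℤ) = m) : z ∈ P (k := k) e0 := by
  have h1 : piece (k := k) m z = z := by rw [piece_eq hm, if_pos rfl]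
  rw [← h1]
  suffices h : (⨆ e, Submodule.span k {z : G | z ∈ Groth.Agent.Chevalley.coefSet (std (k := k)) e ∧
      grade (k := k) z = z ⊗ₜ T (e : ℤ)}) ≤ (P (k := k) e0).comap (piece (k := k) m) from h hz
  refine iSup_le fun e => Submodule.span_le.mpr ?_
  rintro w ⟨hw, hwg⟩
  show piece (k := k) m w ∈ P (k := k) e0
  rw [piece_eq hwg]
  split_ifs with h
  · have : e = e0 := by omega
    subst this
    exact Submodule.subset_span hw
  · exact zero_mem _

variable {V : Type} [AddCommGroup V] [Module k V]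

/-- Coefficients of a homogeneous representation are `Dinv ^ c` times polynomials of one degree. -/
theorem exists_bound [Module.Finite k V] (hr : 0 < r) (ρ : HopfRep.Comod k G V) (h : ℤ)
    (hh : ∀ v : V, (GLn.diag r k (fun _ => 1) : G →ₐ[k] k[T;T⁻¹]).toLinearMap.lTensor V (ρ.coact v) = v ⊗ₜ T h) :
    ∃ (a c : ℕ), 0 < c ∧ ∀ (φ : V →ₗ[k] k) (v : V),
      Groth.Agent.Chevalley.cf ρ φ v * (GLn.det : G) ^ c ∈ P (k := k) a := by
  classical
  let F : ℕ → Submodule k G := fun c =>
    (⨆ e, Submodule.span k {z : G | z ∈ Groth.Agent.Chevalley.coefSet (std (k := k)) e ∧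
      grade (k := k) z = z ⊗ₜ T (e : ℤ)}).comap (LinearMap.mulRight k ((GLn.det : G) ^ c))
  have hF : ∀ (z : G), ∃ c, ∀ c', c ≤ c' → z ∈ F c' := by
    intro z
    obtain ⟨p, m, rfl⟩ := Groth.Agent.GLRed28.exists_rep z
    refine ⟨m, fun c' hc => ?_⟩
    refine Submodule.mem_comap.mpr ?_
    rw [LinearMap.mulRight_apply]
    have e : Mat.toGLn r k p * GLn.Dinv ^ m * GLn.det ^ c' = Mat.toGLn r k (p * Mat.det r k ^ (c' - m)) := by
      rw [map_mul, map_pow, Groth.Agent.GLRed28.toGLn_det, mul_assoc]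
      congr 1
      calc (GLn.Dinv : G) ^ m * GLn.det ^ c' = GLn.Dinv ^ m * GLn.det ^ (m + (c' - m)) := by
            rw [Nat.add_sub_cancel' hc]
        _ = _ := by rw [pow_add, ← mul_assoc, Groth.Agent.GLRed28.Dinv_pow_mul_det_pow, one_mul]
    rw [e]
    exact toGLn_mem _
  let bV := Module.finBasis k V
  choose C hC using fun li : Fin (Module.finrank k V) × Fin (Module.finrank k V) =>
    hF (Groth.Agent.Chevalley.cf ρ (bV.coord li.1) (bV li.2))
  let c := (Finset.univ.sup C) + h.natAbs + 1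
  have hpos : 0 ≤ h + (c : ℤ) * r := by
    have h1 : (h.natAbs : ℤ) ≤ c := by simp only [c]; push_cast; omega
    have h2 : (c : ℤ) * 1 ≤ (c : ℤ) * r := mul_le_mul_of_nonneg_left (by exact_mod_cast hr) (Nat.cast_nonneg c)
    omega
  refine ⟨(h + (c : ℤ) * r).toNat, c, by simp [c], fun φ v => ?_⟩
  have key : ∀ l i, Groth.Agent.Chevalley.cf ρ (bV.coord l) (bV i) * (GLn.det : G) ^ c ∈
      P (k := k) (h + (c : ℤ) * r).toNat := by
    intro l i
    refine mem_P_of_homogeneous (m := h + (c : ℤ) * r) ?_ ?_ (Int.toNat_of_nonneg hpos)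
    · have h1 : C (l, i) ≤ Finset.univ.sup C := Finset.le_sup (f := C) (Finset.mem_univ (l, i))
      have h2 : c = Finset.univ.sup C + h.natAbs + 1 := rfl
      exact hC (l, i) c (by omega)
    · rw [map_mul, map_pow, grade_det, Algebra.TensorProduct.tmul_pow, LaurentPolynomial.T_pow]
      have e : grade (k := k) (Groth.Agent.Chevalley.cf ρ (bV.coord l) (bV i)) =
          Groth.Agent.Chevalley.cf ρ (bV.coord l) (bV i) ⊗ₜ T h := by
        show Algebra.TensorProduct.map (AlgHom.id k G) (GLn.diag r k (fun _ => 1) : G →ₐ[k] k[T;T⁻¹])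
          (CoalgebraStruct.comul (R := k) (Groth.Agent.Chevalley.cf ρ (bV.coord l) (bV i))) = _
        rw [Groth.Agent.Chevalley.comul_cf]
        show ((GLn.diag r k (fun _ => 1) : G →ₐ[k] k[T;T⁻¹]).toLinearMap.lTensor G) _ = _
        rw [← LinearMap.comp_apply, LinearMap.lTensor_comp_rTensor, ← LinearMap.rTensor_comp_lTensor,
          LinearMap.comp_apply, hh, LinearMap.rTensor_tmul]
      rw [e, Algebra.TensorProduct.tmul_mul_tmul, ← LaurentPolynomial.T_add]
  have e : Groth.Agent.Chevalley.cf ρ φ v =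
      ∑ l, ∑ i, (φ (bV l) * bV.repr v i) • Groth.Agent.Chevalley.cf ρ (bV.coord l) (bV i) := by
    have e1 : ∀ w, Groth.Agent.Chevalley.cf ρ φ w = ∑ l, φ (bV l) • Groth.Agent.Chevalley.cf ρ (bV.coord l) w := by
      intro w
      simp only [Groth.Agent.Chevalley.cf, LinearMap.comp_apply, LinearEquiv.coe_coe]
      induction ρ.coact w using TensorProduct.induction_on with
      | zero => simp
      | add u x hu hx => simp only [map_add, smul_add, Finset.sum_add_distrib, hu, hx]
      | tmul u x =>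
        simp only [LinearMap.rTensor_tmul, TensorProduct.lid_tmul, smul_smul, ← Finset.sum_smul]
        congr 1
        conv_lhs => rw [← bV.sum_repr u, map_sum]
        exact Finset.sum_congr rfl fun s _ => by simp [mul_comm]
    conv_lhs => rw [← bV.sum_repr v, map_sum]
    rw [Finset.sum_comm]
    refine Finset.sum_congr rfl fun i _ => ?_
    rw [map_smul, e1, Finset.smul_sum]
    exact Finset.sum_congr rfl fun l _ => by rw [smul_smul, mul_comm]
  rw [e, Finset.sum_mul]
  refine Submodule.sum_mem _ fun l _ => ?_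
  rw [Finset.sum_mul]
  refine Submodule.sum_mem _ fun i _ => ?_
  rw [smul_mul_assoc]
  exact Submodule.smul_mem _ _ (key l i)

theorem exists_split {A : Type} [CommRing A] [Bialgebra k A] (hA : HopfRep.IsLinearlyReductive k A)
    {W : Type} [AddCommGroup W] [Module k W] (cW : HopfRep.Comod k A W)
    (σ : HopfRep.Comod k A V)
    (E : Submodule k W) (τ : E →ₗ[k] E ⊗[k] A) (q : E →ₗ[k] V) (hq : Function.Surjective q)
    (hτ : E.subtype.rTensor A ∘ₗ τ = cW.coact ∘ₗ E.subtype) (hqτ : q.rTensor A ∘ₗ τ = σ.coact ∘ₗ q) :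
    ∃ (i : V →ₗ[k] W) (p : W →ₗ[k] V), p ∘ₗ i = LinearMap.id ∧
      σ.coact ∘ₗ p = p.rTensor A ∘ₗ cW.coact ∧ cW.coact ∘ₗ i = i.rTensor A ∘ₗ σ.coact := by
  letI := cW
  letI := σ
  have hE : HopfRep.IsSubcomod (k := k) (A := A) E := fun x hx =>
    ⟨τ ⟨x, hx⟩, LinearMap.congr_fun hτ ⟨x, hx⟩⟩
  obtain ⟨C, hC, hEC⟩ := Groth.Agent.Comodule.exists_isCompl hA E hE
  let p : W →ₗ[k] V := q ∘ₗ E.projectionOnto C hEC
  have hp : σ.coact ∘ₗ p = p.rTensor A ∘ₗ cW.coact := by
    refine LinearMap.ext fun x => ?_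
    obtain ⟨a, ha, b, hb, rfl⟩ := Submodule.mem_sup.mp (hEC.sup_eq_top ▸ Submodule.mem_top : x ∈ E ⊔ C)
    obtain ⟨z, hz⟩ := hC b hb
    have e1 : p ∘ₗ E.subtype = q := LinearMap.ext fun y => by
      simp only [p, LinearMap.comp_apply, Submodule.subtype_apply, Submodule.projectionOnto_apply_left]
    have e2 : p ∘ₗ C.subtype = 0 := LinearMap.ext fun y => by
      simp only [p, LinearMap.comp_apply, Submodule.subtype_apply, Submodule.projectionOnto_apply_right, map_zero,
        LinearMap.zero_apply]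
    simp only [LinearMap.comp_apply, map_add]
    rw [show p a = q ⟨a, ha⟩ from LinearMap.congr_fun e1 ⟨a, ha⟩,
      show p b = 0 from LinearMap.congr_fun e2 ⟨b, hb⟩, map_zero, add_zero,
      show cW.coact a = E.subtype.rTensor A (τ ⟨a, ha⟩) from (LinearMap.congr_fun hτ ⟨a, ha⟩).symm,
      show cW.coact b = C.subtype.rTensor A z from hz.symm,
      ← LinearMap.rTensor_comp_apply, ← LinearMap.rTensor_comp_apply, e1, e2, LinearMap.rTensor_zero,
      LinearMap.zero_apply, add_zero]
    exact (LinearMap.congr_fun hqτ ⟨a, ha⟩).symm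
  obtain ⟨N, hN, hKN⟩ := Groth.Agent.Comodule.exists_isCompl hA (LinearMap.ker p)
    (Groth.Agent.Comodule.isSubcomod_ker hp)
  have hpinj : Function.Injective (p ∘ₗ N.subtype) := by
    refine (injective_iff_map_eq_zero _).mpr fun x hx => Subtype.ext ?_
    exact Submodule.disjoint_def.mp hKN.disjoint x hx x.2
  have hpsurj : Function.Surjective (p ∘ₗ N.subtype) := by
    intro v
    obtain ⟨e, rfl⟩ := hq v
    obtain ⟨a, ha, b, hb, hab⟩ := Submodule.mem_sup.mp
      (hKN.sup_eq_top ▸ Submodule.mem_top : (e : W) ∈ LinearMap.ker p ⊔ N)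
    refine ⟨⟨b, hb⟩, ?_⟩
    have : p (e : W) = q e := by simp [p]
    rw [← this, ← hab, map_add, LinearMap.mem_ker.mp ha, zero_add]
    rfl
  let eN := LinearEquiv.ofBijective (p ∘ₗ N.subtype) ⟨hpinj, hpsurj⟩
  refine ⟨N.subtype ∘ₗ eN.symm.toLinearMap, p, LinearMap.ext fun v => eN.apply_symm_apply v, hp, ?_⟩
  refine LinearMap.ext fun v => ?_
  obtain ⟨z, hz⟩ := hN _ (eN.symm v).2
  show cW.coact (eN.symm v : W) = (N.subtype ∘ₗ eN.symm.toLinearMap).rTensor A (σ.coact v)
  rw [show cW.coact (eN.symm v : W) = N.subtype.rTensor A z from hz.symm, LinearMap.rTensor_comp_apply]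
  congr 1
  refine Module.Flat.rTensor_preserves_injective_linearMap (M := A) _ hpinj ?_
  rw [LinearMap.rTensor_comp_apply, hz, ← LinearMap.rTensor_comp_apply,
    show (p ∘ₗ N.subtype) ∘ₗ eN.symm.toLinearMap = LinearMap.id from LinearMap.ext fun w => eN.apply_symm_apply w,
    LinearMap.rTensor_id, LinearMap.id_apply]
  show p.rTensor A (cW.coact (eN.symm v : W)) = σ.coact v
  rw [show p.rTensor A (cW.coact (eN.symm v : W)) = σ.coact (p (eN.symm v : W)) from
    (LinearMap.congr_fun hp _).symm, show p (eN.symm v : W) = v from eN.apply_symm_apply v]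

end Helper


/-- Let r ≥ 1 and let V be a finite-dimensional rational representation of the general linear group GL_r
over the complex numbers (a finite-dimensional comodule over its coordinate Hopf algebra) which is
homogeneous of some integer degree h, i.e. restricted to the scalar one-parameter subgroup t ↦ t·1
every vector of V has weight h. Then there are natural numbers a, b, c with c > 0 such that V is a
direct summand, as a representation, of ((ℂ^r)^(⊗a))^(⊕b) ⊗ det^(-c): there are equivariant linear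
maps i : V → E and p : E → V with p ∘ i the identity, where E is the direct sum of b copies of the
a-th tensor power of the standard representation on ℂ^r, twisted by the (−c)-th power of the
determinant character. -/
theorem result (r : ℕ) (hr : 0 < r)
    (V : Type) [AddCommGroup V] [Module ℂ V] [Module.Finite ℂ V] (ρ : HopfRep.Comod ℂ (CoordGrp.GLn r ℂ) V)
    (h : ℤ)
    (hh : @HopfRep.eigenspace ℂ ℂ[T;T⁻¹] _ _ _ V _ _
      (GLin.comodAlong (CoordGrp.GLn.diag r ℂ (fun _ => 1)) ρ) (T h) = ⊤) :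
    ∃ (a b c : ℕ), 0 < c ∧
      ∃ (i : V →ₗ[ℂ] (Fin b → TensorPower ℂ a (Fin r → ℂ)))
        (p : (Fin b → TensorPower ℂ a (Fin r → ℂ)) →ₗ[ℂ] V),
        p ∘ₗ i = LinearMap.id ∧
        @Hoch.IsComodHom ℂ _ (CoordGrp.GLn r ℂ) _ _ _ V _ _ ρ (Fin b → TensorPower ℂ a (Fin r → ℂ)) _ _
          (ComodTens.Comod.twist
            (ComodTens.Comod.pi fun _ : Fin b =>
              ComodTens.Comod.tpow (GLin.comodAlong (CoordGrp.Mat.toGLn r ℂ) (ComodTens.stdVec r ℂ)) a)
            (CoordGrp.GLn.Dinv ^ c) (IsGroupLikeElem.pow ⟨CoordGrp.GLn.counit_Dinv, CoordGrp.GLn.comul_Dinv⟩)) i ∧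
        @Hoch.IsComodHom ℂ _ (CoordGrp.GLn r ℂ) _ _ _ (Fin b → TensorPower ℂ a (Fin r → ℂ)) _ _
          (ComodTens.Comod.twist
            (ComodTens.Comod.pi fun _ : Fin b =>
              ComodTens.Comod.tpow (GLin.comodAlong (CoordGrp.Mat.toGLn r ℂ) (ComodTens.stdVec r ℂ)) a)
            (CoordGrp.GLn.Dinv ^ c) (IsGroupLikeElem.pow ⟨CoordGrp.GLn.counit_Dinv, CoordGrp.GLn.comul_Dinv⟩)) V _ _ ρ p := by
  classical
  have hh' : ∀ v : V, (CoordGrp.GLn.diag r ℂ (fun _ => 1) :
      CoordGrp.GLn r ℂ →ₐ[ℂ] ℂ[T;T⁻¹]).toLinearMap.lTensor V (ρ.coact v) = v ⊗ₜ T h := fun v => by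
    have hv : v ∈ @HopfRep.eigenspace ℂ ℂ[T;T⁻¹] _ _ _ V _ _
        (GLin.comodAlong (CoordGrp.GLn.diag r ℂ (fun _ => 1)) ρ) (T h) := hh ▸ Submodule.mem_top
    exact hv
  obtain ⟨a, c, hc, hbound⟩ := exists_bound hr ρ h hh'
  let hg := IsGroupLikeElem.pow (n := c)
    (⟨CoordGrp.GLn.counit_Dinv, CoordGrp.GLn.comul_Dinv⟩ : IsGroupLikeElem ℂ (CoordGrp.GLn.Dinv : CoordGrp.GLn r ℂ))
  let cT := ComodTens.Comod.tpow (std (k := ℂ) (r := r)) a
  let bT : Module.Basis (Fin a → Fin r) ℂ (TensorPower ℂ a (Fin r → ℂ)) :=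
    Basis.piTensorProduct fun _ : Fin a => Pi.basisFun ℂ (Fin r)
  let bV := Module.finBasis ℂ V
  let I := Fin (Module.finrank ℂ V) × (Fin a → Fin r)
  let N := Fintype.card I
  let ei : Fin N ≃ I := (Fintype.equivFin I).symm
  let g : Fin N → (TensorPower ℂ a (Fin r → ℂ) →ₗ[ℂ] V ⊗[ℂ] CoordGrp.GLn r ℂ) := fun i =>
    TensorProduct.mk ℂ V (CoordGrp.GLn r ℂ) (bV (ei i).1) ∘ₗ
      LinearMap.mulRight ℂ (CoordGrp.GLn.Dinv ^ c : CoordGrp.GLn r ℂ) ∘ₗ
        Groth.Agent.Chevalley.cf cT (bT.coord (ei i).2)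
  let cW : HopfRep.Comod ℂ (CoordGrp.GLn r ℂ) (Fin N → TensorPower ℂ a (Fin r → ℂ)) :=
    ComodTens.Comod.twist (ComodTens.Comod.pi fun _ : Fin N => cT) (CoordGrp.GLn.Dinv ^ c) hg
  let Ψ : (Fin N → TensorPower ℂ a (Fin r → ℂ)) →ₗ[ℂ] V ⊗[ℂ] CoordGrp.GLn r ℂ :=
    ∑ i, g i ∘ₗ LinearMap.proj i
  have hΨs : ∀ i z, Ψ (Pi.single i z) = g i z := fun i z => by
    simp only [Ψ, LinearMap.sum_apply, LinearMap.comp_apply, LinearMap.proj_apply]
    rw [Finset.sum_eq_single i (fun j _ hj => by rw [Pi.single_eq_of_ne hj, map_zero])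
      (fun h => absurd (Finset.mem_univ i) h), Pi.single_eq_same]
  have hcW : ∀ i z, cW.coact (Pi.single i z) =
      (LinearMap.single ℂ _ i).rTensor _ ((LinearMap.mulRight ℂ (CoordGrp.GLn.Dinv ^ c : CoordGrp.GLn r ℂ)).lTensor _
        (cT.coact z)) := fun i z => by
    rw [ComodTens.twist_coact, ComodTens.pi_coact_single, ← LinearMap.comp_apply,
      LinearMap.lTensor_comp_rTensor, ← LinearMap.rTensor_comp_lTensor, LinearMap.comp_apply]
  have hΨ : ∀ z, (CoalgebraStruct.comul (R := ℂ) (A := CoordGrp.GLn r ℂ)).lTensor V (Ψ z) =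
      TensorProduct.assoc ℂ V _ _ (Ψ.rTensor _ (cW.coact z)) := by
    intro z
    rw [← Finset.univ_sum_single z]
    simp only [map_sum]
    refine Finset.sum_congr rfl fun i _ => ?_
    rw [hΨs, hcW, ← LinearMap.rTensor_comp_apply,
      show Ψ ∘ₗ LinearMap.single ℂ (fun _ : Fin N => TensorPower ℂ a (Fin r → ℂ)) i = g i from
        LinearMap.ext fun w => hΨs i w]
    simp only [g, LinearMap.comp_apply, TensorProduct.mk_apply, LinearMap.lTensor_tmul, LinearMap.mulRight_apply]
    rw [ComodTens.comul_mul_of_isGroupLikeElem hg, Groth.Agent.Chevalley.comul_cf]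
    induction cT.coact (z i) using TensorProduct.induction_on with
    | zero => simp
    | add p q hp hq => simp only [map_add, TensorProduct.tmul_add, hp, hq]
    | tmul p q => simp
  have hrange : ∀ w, ∃ z, Ψ z = ρ.coact w := by
    intro w
    suffices h1 : ρ.coact w ∈ LinearMap.range Ψ from h1
    have h2 : ρ.coact w = ∑ l, bV l ⊗ₜ[ℂ] Groth.Agent.Chevalley.cf ρ (bV.coord l) w := by
      simp only [Groth.Agent.Chevalley.cf, LinearMap.comp_apply, LinearEquiv.coe_coe]
      induction ρ.coact w using TensorProduct.induction_on with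
      | zero => simp
      | add p q hp hq => simp only [map_add, TensorProduct.tmul_add, Finset.sum_add_distrib, ← hp, ← hq]
      | tmul p q =>
        conv_lhs => rw [← bV.sum_repr p, TensorProduct.sum_tmul]
        simp [TensorProduct.smul_tmul]
    rw [h2]
    refine Submodule.sum_mem _ fun l _ => ?_
    have h3 : ∀ y ∈ P (k := ℂ) (r := r) a,
        bV l ⊗ₜ[ℂ] (y * (CoordGrp.GLn.Dinv ^ c : CoordGrp.GLn r ℂ)) ∈ LinearMap.range Ψ := by
      intro y hy
      induction hy using Submodule.span_induction with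
      | mem y hy =>
        obtain ⟨φ, p, rfl⟩ := hy
        have e : Groth.Agent.Chevalley.cf cT φ p = ∑ s, φ (bT s) • Groth.Agent.Chevalley.cf cT (bT.coord s) p := by
          simp only [Groth.Agent.Chevalley.cf, LinearMap.comp_apply, LinearEquiv.coe_coe]
          induction cT.coact p using TensorProduct.induction_on with
          | zero => simp
          | add u v hu hv => simp only [map_add, smul_add, Finset.sum_add_distrib, hu, hv]
          | tmul u v =>
            simp only [LinearMap.rTensor_tmul, TensorProduct.lid_tmul, smul_smul, ← Finset.sum_smul]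
            congr 1
            conv_lhs => rw [← bT.sum_repr u, map_sum]
            exact Finset.sum_congr rfl fun s _ => by simp [mul_comm]
        rw [e, Finset.sum_mul, TensorProduct.tmul_sum]
        refine Submodule.sum_mem _ fun s _ => ?_
        rw [smul_mul_assoc, TensorProduct.tmul_smul]
        refine Submodule.smul_mem _ _ ⟨Pi.single (ei.symm (l, s)) p, ?_⟩
        rw [hΨs]
        simp only [g, Equiv.apply_symm_apply, LinearMap.comp_apply, TensorProduct.mk_apply, LinearMap.mulRight_apply]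
      | zero => simp
      | add x y _ _ hx hy => rw [add_mul, TensorProduct.tmul_add]; exact add_mem hx hy
      | smul t x _ hx => rw [smul_mul_assoc, TensorProduct.tmul_smul]; exact Submodule.smul_mem _ _ hx
    have h4 := h3 _ (hbound (bV.coord l) w)
    rwa [mul_assoc, ← mul_pow, CoordGrp.GLn.det_mul_Dinv, one_pow, mul_one] at h4
  obtain ⟨E, τ, q, hq, hτ, hqτ⟩ := Groth.Agent.Chevalley.exists_subquotient cW ρ Ψ hΨ hrange
  obtain ⟨i, p, hpi, hp, hi⟩ := exists_split Groth.Agent.GLRed28.isLinearlyReductive_GLn cW ρ E τ q hq hτ hqτ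
  exact ⟨a, N, c, hc, i, p, hpi, hi, hp⟩
end

end Groth.Agent.S16474
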