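import Groth.Statements.S16478
import Groth.Agent.Lib.GaDual.Char

set_option autoImplicit false
universe u
open GaDual
open scoped TensorProduct
open scoped TensorProduct

namespace Groth.Agent.S16478

/-- Let A be a commutative ring of prime characteristic p and n ≥ 1, and let φ be the comorphism of the
closed immersion α_{p^n} → G_a over A: the bialgebra map from the Hopf algebra of the additive group
(generator t primitive) to A[x]/(x^(p^n)) (x primitive) sending t to x. Then the restriction map on
characters, from those of the additive group over A to those of α_{p^n} over A, is surjective: every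
group-like element of A[x]/(x^(p^n)) is the image under φ of a group-like element of the Hopf
algebra of the additive group. -/
theorem result (p : ℕ) [Fact p.Prime] (A : Type u) [CommRing A] [CharP A p]
    (n : ℕ) (hn : 1 ≤ n) (φ : SekSuwa.A A 0 →ₐc[A] AlphaPn.A p n A) (hφ : φ SekSuwa.A.t = AlphaPn.x p n A)
    (u : AlphaPn.A p n A) (hu : IsGroupLikeElem A u) :
    ∃ g : SekSuwa.A A 0, IsGroupLikeElem A g ∧ φ g = u := by
  classical
  have : Nontrivial A := CharP.nontrivial_of_char_ne_one (Fact.out : p.Prime).ne_one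
  set f : Polynomial A := ∑ i : Fin (p ^ n),
    Polynomial.C ((AlphaPn.basis p n A).repr u i) * Polynomial.X ^ (i : ℕ) with hf
  have hu' : Polynomial.aeval (AlphaPn.x p n A) f = u := by
    conv_rhs => rw [← (AlphaPn.basis p n A).sum_repr u]
    simp only [hf, map_sum, map_mul, Polynomial.aeval_C, map_pow, Polynomial.aeval_X,
      AlphaPn.basis_apply, Algebra.smul_def]
  have hdeg : f.natDegree < p ^ n := by
    refine Nat.lt_of_le_pred (pow_pos (Fact.out : p.Prime).pos n)
      (Polynomial.natDegree_sum_le_of_forall_le _ _ fun i _ =>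
        (Polynomial.natDegree_C_mul_X_pow_le _ _).trans ?_)
    have := i.2
    simp only [Nat.pred_eq_sub_one]
    omega
  have h0 : f.coeff 0 = 1 := by
    have hc : Bialgebra.counitAlgHom A (AlphaPn.A p n A) (Polynomial.aeval (AlphaPn.x p n A) f) = 1 := by
      rw [hu']; exact hu.counit_eq_one
    rw [← Polynomial.aeval_algHom_apply] at hc
    change Polynomial.aeval (Coalgebra.counit (R := A) (AlphaPn.x p n A)) f = 1 at hc
    rwa [AlphaPn.counit_x, ← Polynomial.coeff_zero_eq_aeval_zero] at hc
  have hcoord : ∀ (i : Fin (p ^ n)) (k : ℕ),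
      (AlphaPn.basis p n A).coord i (AlphaPn.x p n A ^ k) = if k = (i : ℕ) then 1 else 0 := by
    intro i k
    rcases lt_or_ge k (p ^ n) with hk | hk
    · have : AlphaPn.x p n A ^ k = AlphaPn.basis p n A ⟨k, hk⟩ := by rw [AlphaPn.basis_apply]
      rw [this, Module.Basis.coord_apply, Module.Basis.repr_self, Finsupp.single_apply]
      simp [Fin.ext_iff]
    · rw [AlphaPn.x_pow_of_le p n A hk, map_zero, if_neg]
      have := i.2
      omega
  have hrel : ∀ i j, i < p ^ n → j < p ^ n →
      ((i + j).choose i : A) * f.coeff (i + j) = f.coeff i * f.coeff j := by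
    intro i j hi hj
    let Φ : AlphaPn.A p n A ⊗[A] AlphaPn.A p n A →ₗ[A] A :=
      (LinearMap.mul' A A).comp (TensorProduct.map ((AlphaPn.basis p n A).coord ⟨i, hi⟩)
        ((AlphaPn.basis p n A).coord ⟨j, hj⟩))
    have key : Φ (Bialgebra.comulAlgHom A (AlphaPn.A p n A) (Polynomial.aeval (AlphaPn.x p n A) f)) =
        Φ (Polynomial.aeval (AlphaPn.x p n A) f ⊗ₜ[A] Polynomial.aeval (AlphaPn.x p n A) f) := by
      rw [hu']; exact congrArg Φ hu.comul_eq_tmul_self
    have e1 : ∀ m : ℕ, Φ ((AlphaPn.x p n A ⊗ₜ[A] (1 : AlphaPn.A p n A) +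
        1 ⊗ₜ[A] AlphaPn.x p n A) ^ m) = if m = i + j then ((i + j).choose i : A) else 0 := by
      intro m
      rw [add_pow, map_sum]
      simp only [Algebra.TensorProduct.tmul_pow, one_pow, Algebra.TensorProduct.tmul_mul_tmul,
        mul_one, one_mul]
      have hterm : ∀ k, Φ ((AlphaPn.x p n A ^ k) ⊗ₜ[A] (AlphaPn.x p n A ^ (m - k)) *
          ((m.choose k : ℕ) : AlphaPn.A p n A ⊗[A] AlphaPn.A p n A)) =
          if k = i ∧ m - k = j then (m.choose k : A) else 0 := by
        intro k
        rw [mul_comm, ← nsmul_eq_mul, map_nsmul]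
        simp only [Φ, LinearMap.comp_apply, TensorProduct.map_tmul, LinearMap.mul'_apply, hcoord]
        by_cases h1 : k = i
        · subst h1; by_cases h2 : m - k = j <;> simp [h2]
        · simp [h1]
      rw [Finset.sum_congr rfl fun k _ => hterm k]
      by_cases hm : m = i + j
      · rw [Finset.sum_eq_single i]
        · simp [hm]
        · intro k _ hk; simp [hk]
        · intro h; simp only [Finset.mem_range] at h; omega
      · rw [if_neg hm, Finset.sum_eq_zero]
        intro k hk
        rw [Finset.mem_range] at hk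
        rw [if_neg]
        omega
    rw [← Polynomial.aeval_algHom_apply] at key
    change Φ (Polynomial.aeval (Coalgebra.comul (R := A) (AlphaPn.x p n A)) f) = _ at key
    rw [AlphaPn.comul_x, Polynomial.aeval_eq_sum_range, map_sum] at key
    simp only [map_smul, e1, smul_eq_mul, mul_ite, mul_zero, Finset.sum_ite_eq',
      Finset.mem_range] at key
    have e2 : ∀ (l : Fin (p ^ n)), (AlphaPn.basis p n A).coord l (Polynomial.aeval (AlphaPn.x p n A) f) =
        f.coeff l := by
      intro l
      rw [Polynomial.aeval_eq_sum_range, map_sum]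
      simp only [map_smul, hcoord, smul_eq_mul, mul_ite, mul_one, mul_zero, Finset.sum_ite_eq',
        Finset.mem_range]
      split_ifs with h
      · rfl
      · rw [Polynomial.coeff_eq_zero_of_natDegree_lt (by omega)]
    simp only [Φ, LinearMap.comp_apply, TensorProduct.map_tmul, LinearMap.mul'_apply, e2] at key
    rw [← key]
    split_ifs with h
    · ring
    · rw [Polynomial.coeff_eq_zero_of_natDegree_lt (by omega), mul_zero]
  obtain ⟨a, ha, hfa⟩ := Groth.Agent.GaDual.eq_chrProd_of_rel p f n hdeg h0 hrel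
  have hchar : Groth.Agent.GaDual.IsChar f := hfa ▸ Groth.Agent.GaDual.chrProd_isChar p ha n
  refine ⟨Polynomial.aeval (SekSuwa.A.t : SekSuwa.A A 0) f, ⟨?_, ?_⟩, ?_⟩
  · change Bialgebra.counitAlgHom A (SekSuwa.A A 0) _ = 1
    rw [← Polynomial.aeval_algHom_apply]
    change Polynomial.aeval (Coalgebra.counit (R := A) (SekSuwa.A.t : SekSuwa.A A 0)) f = 1
    rw [SekSuwa.A.counit_t, ← Polynomial.coeff_zero_eq_aeval_zero, h0]
  · change Bialgebra.comulAlgHom A (SekSuwa.A A 0) _ = _
    rw [← Polynomial.aeval_algHom_apply]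
    change Polynomial.aeval (Coalgebra.comul (R := A) (SekSuwa.A.t : SekSuwa.A A 0)) f = _
    rw [SekSuwa.A.comul_t, zero_smul, add_zero]
    have h := congrArg (MvPolynomial.aeval ![(SekSuwa.A.t : SekSuwa.A A 0) ⊗ₜ[A] (1 : SekSuwa.A A 0),
      1 ⊗ₜ[A] SekSuwa.A.t]) hchar
    simp only [map_mul, ← Polynomial.aeval_algHom_apply, map_add, MvPolynomial.aeval_X,
      Matrix.cons_val_zero, Matrix.cons_val_one] at h
    rw [h]
    have hl := Polynomial.aeval_algHom_apply (Algebra.TensorProduct.includeLeft :
      SekSuwa.A A 0 →ₐ[A] SekSuwa.A A 0 ⊗[A] SekSuwa.A A 0) (SekSuwa.A.t) f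
    have hr := Polynomial.aeval_algHom_apply (Algebra.TensorProduct.includeRight :
      SekSuwa.A A 0 →ₐ[A] SekSuwa.A A 0 ⊗[A] SekSuwa.A A 0) (SekSuwa.A.t) f
    simp only [Algebra.TensorProduct.includeLeft_apply] at hl
    simp only [Algebra.TensorProduct.includeRight_apply] at hr
    rw [hl, hr, Algebra.TensorProduct.tmul_mul_tmul, mul_one, one_mul]
  · change (φ : SekSuwa.A A 0 →ₐ[A] AlphaPn.A p n A) _ = u
    rw [← Polynomial.aeval_algHom_apply]
    change Polynomial.aeval (φ SekSuwa.A.t) f = u
    rw [hφ, hu']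

end Groth.Agent.S16478
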