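import Groth.Statements.S16482
-- import your own Groth.Agent.* helpers here

set_option autoImplicit false
set_option backward.isDefEq.respectTransparency.types false
open CategoryTheory CategoryTheory.Limits AlgebraicGeometry
universe u
open FrobSch

namespace Groth.Agent.S16482

/-- Let p be a prime and S a reduced scheme on which p = 0 whose absolute Frobenius is flat; let Y be a
reduced S-scheme with structure map a, Z an S-scheme with structure map b, and g₁, g₂ : Y ⟶ Z two
S-morphisms. For i = 1, 2 let h_i : Y ⟶ Z^(p) be the relative Frobenius F_{Y/S} : Y ⟶ Y^(p) followed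
by the base change Y^(p) ⟶ Z^(p) of g_i along the absolute Frobenius of S. If h₁ = h₂, then g₁ = g₂.
(The published statement works over the reduced special fibre of a flat formal scheme of finite type
over the Witt vectors of a perfect field; only reducedness of S and flatness of its absolute
Frobenius are kept here.) -/
theorem result (p : ℕ) [Fact p.Prime]
    {Y Z S : Scheme.{u}} [FrobSch.IsCharP S p] [IsReduced S] [Flat (FrobSch.frob S p)]
    [IsReduced Y] (a : Y ⟶ S) (b : Z ⟶ S) (g₁ g₂ : Y ⟶ Z) (hg₁ : g₁ ≫ b = a) (hg₂ : g₂ ≫ b = a)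
    (h : FrobSch.relFrob a p ≫ pullback.map a (FrobSch.frob S p) b (FrobSch.frob S p) g₁ (𝟙 S) (𝟙 S)
        ((Category.comp_id a).trans hg₁.symm) ((Category.comp_id _).trans (Category.id_comp _).symm) =
      FrobSch.relFrob a p ≫ pullback.map a (FrobSch.frob S p) b (FrobSch.frob S p) g₂ (𝟙 S) (𝟙 S)
        ((Category.comp_id a).trans hg₂.symm) ((Category.comp_id _).trans (Category.id_comp _).symm)) :
    g₁ = g₂ := by
  haveI : FrobSch.IsCharP Y p := FrobSch.IsCharP.of_hom a p
  have e : FrobSch.frob Y p ≫ g₁ = FrobSch.frob Y p ≫ g₂ := by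
    have h' := congrArg (· ≫ pullback.fst b (FrobSch.frob S p)) h
    simp only [Category.assoc, pullback.lift_fst, FrobSch.relFrob_fst_assoc] at h'
    exact h'
  have hb : g₁.base = g₂.base := by
    have := congrArg (fun q => q.base) e
    simpa using this
  refine (Scheme.Hom.ext hb.symm fun U => ?_).symm
  ext s
  apply sub_eq_zero.1
  refine IsReduced.eq_zero _ ⟨p, ?_⟩
  rw [← FrobSch.powHom_apply p _ (FrobSch.natCast_eq_zero_app Y p _), map_sub, sub_eq_zero,
    FrobSch.powHom_apply, FrobSch.powHom_apply]
  have h2 := ConcreteCategory.congr_hom (Scheme.Hom.congr_app e U) s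
  change (g₁.app U s) ^ p = Y.presheaf.map (eqToHom _).op ((g₂.app U s) ^ p) at h2
  exact ((congrArg (· ^ p) rfl).trans (map_pow (Y.presheaf.map (eqToHom _).op).hom (g₂.app U s) p).symm).trans h2.symm

end Groth.Agent.S16482
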