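import Groth.Statements.S16488
import Groth.Agent.Lib.RefHull26.Free
-- import your own Groth.Agent.* helpers here

set_option autoImplicit false
universe u
open CategoryTheory CategoryTheory.Limits AlgebraicGeometry TopologicalSpace
open VBPn

namespace Groth.Agent.S16488

/-- Let X be an integral locally Noetherian scheme all of whose local rings are regular, and F a
coherent O_X-module which is reflexive, i.e. the canonical map F → F^** is an isomorphism. Then the
singularity set of F (the set of points at which the stalk of F is not free) has codimension at
least 3: for every point x such that F_x is not a free O_{X,x}-module, the local ring O_{X,x} has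
dimension at least 3. The published statement is for reflexive coherent analytic sheaves on a
complex manifold; this row is its statement for coherent sheaves on a regular integral locally
Noetherian scheme, where the same argument (a reflexive sheaf is locally a second syzygy sheaf)
applies. -/
theorem result (X : Scheme.{u}) [IsIntegral X] [IsLocallyNoetherian X]
    (hreg : ∀ x : X, IsRegularLocalRing (X.presheaf.stalk x)) (F : X.Modules) (hF : Coh.IsCoh F)
    (hrefl : RefHull.IsReflexive F) (x : X) (hx : ¬ Module.Free (X.presheaf.stalk x) (F.presheaf.stalk x)) :
    (3 : WithBot ℕ∞) ≤ ringKrullDim (X.presheaf.stalk x) := by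
  haveI := hreg x
  haveI := (Groth.Agent.RH26.isReflexive_iff_stalks hF).1 hrefl x
  haveI : Module.IsReflexive (X.presheaf.stalk x) (F.presheaf.stalk x) := (Groth.Agent.RH26.isReflexive_iff_stalks hF).1 hrefl x
  haveI := Groth.Agent.M1.finite_stalk hF.1 (Groth.Agent.M1.isFP_isFT (Groth.Agent.M1.isFP_of_isCoh hF)) x
  have h2 : ¬ ringKrullDim (X.presheaf.stalk x) ≤ 2 := fun h => hx (Groth.Agent.RH26.free_of_isReflexive_regular h _)
  rw [ringKrullDim_stalk_eq_coheight] at h2 ⊢
  rw [not_le] at h2
  have h3 := Order.add_one_le_of_lt (WithBot.coe_lt_coe.1 (show ((2 : ℕ∞) : WithBot ℕ∞) < _ from h2))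
  exact WithBot.coe_le_coe.2 (le_of_eq_of_le (by norm_num) h3)

end Groth.Agent.S16488
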