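import Groth.Statements.S16490
import Groth.Agent.Lib.RefHull26.Local
-- import your own Groth.Agent.* helpers here

set_option autoImplicit false
universe u
open CategoryTheory CategoryTheory.Limits AlgebraicGeometry TopologicalSpace
open VBPn

namespace Groth.Agent.S16490

/-- Let X be an integral locally Noetherian scheme all of whose local rings are regular, and let 0 → F →
E → Q → 0 be a short exact sequence of coherent O_X-modules in which E is reflexive (the canonical
map E → E^** is an isomorphism) and Q is torsion-free (every stalk Q_x is a torsion-free
O_{X,x}-module). Then F is normal: for all open subsets V ⊆ U of X such that every point of U not in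
V has local ring of dimension at least 2, the restriction map F(U) → F(V) is bijective. The
published statement is for coherent analytic sheaves on a complex manifold, a sheaf being called
normal when for every open U and every analytic subset A ⊆ U of codimension at least 2 the
restriction F(U) → F(U ∖ A) is bijective; this row is its statement for coherent sheaves on a
regular integral locally Noetherian scheme, with normality phrased through open subsets V ⊆ U whose
complement in U consists of points with local ring of dimension at least 2, where the same argument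
applies. -/
theorem result (X : Scheme.{u}) [IsIntegral X] [IsLocallyNoetherian X]
    (hreg : ∀ x : X, IsRegularLocalRing (X.presheaf.stalk x)) (S : ShortComplex X.Modules) (hS : S.ShortExact)
    (hF : Coh.IsCoh S.X₁) (hE : Coh.IsCoh S.X₂) (hQ : Coh.IsCoh S.X₃)
    (hErefl : RefHull.IsReflexive S.X₂) (hQtf : TorSh.IsTorsionFree S.X₃) :
    (∀ (U V : X.Opens) (hVU : V ≤ U), (∀ x : X, x ∈ U → x ∉ V → (2 : WithBot ℕ∞) ≤ ringKrullDim (X.presheaf.stalk x)) →
        Function.Bijective (S.X₁.presheaf.map (homOfLE hVU).op)) := by
  haveI := hS.mono_f
  have hX := Groth.Agent.RH26.isNormalScheme_of_regular hreg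
  have hc := (Groth.Agent.RH26.isReflexive_iff_closed1 hX hE).1 hErefl
  intro U V hVU hUV
  have hb := Groth.Agent.RH26.bijective_res_of_closed1 hc U V hVU hUV
  refine ⟨fun s t e => Groth.Agent.M1.app_injective S.f U (hb.1 ?_), fun t => ?_⟩
  · rw [← Groth.Agent.M1.map_app_eq, ← Groth.Agent.M1.map_app_eq, e]
  · obtain ⟨b, hb'⟩ := hb.2 (S.f.app V t)
    have hg : S.g.app U b = 0 := by
      refine Groth.Agent.RH26.section_ext' _ fun y hy => ?_
      haveI := hQtf y
      refine Groth.Agent.RH26.injective_sp_of_isTorsionFree hQ.1 y ?_
      have hη : genericPoint X ∈ V := by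
        by_contra hη
        have h0 := hUV _ (Groth.Agent.RH26.mem_of_genericPoint U hy) hη
        rw [ringKrullDim_eq_zero_of_isField Groth.Agent.RH26.isField_η] at h0
        exact absurd h0 (by decide)
      rw [TopCat.Presheaf.germ_stalkSpecializes_apply, map_zero, map_zero, ← TopCat.Presheaf.germ_res_apply S.X₃.presheaf (homOfLE hVU) _ hη, ← Groth.Agent.M1.map_app_eq, hb']
      have h0 : S.g.app V (S.f.app V t) = 0 := ConcreteCategory.congr_hom (congrArg (fun φ => φ.app V) S.zero) t
      rw [h0, map_zero]
    obtain ⟨a, ha⟩ := Groth.Agent.M1.sections_exact hS.exact U b hg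
    exact ⟨a, Groth.Agent.M1.app_injective S.f V (by rw [Groth.Agent.M1.map_app_eq, ha, hb'])⟩

end Groth.Agent.S16490
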