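import Groth.Statements.S16493
-- import your own Groth.Agent.* helpers here
import Groth.Agent.Lib.DlzCurve17.HomDualEuler

set_option autoImplicit false
universe u
open CategoryTheory CategoryTheory.Limits AlgebraicGeometry
attribute [local instance] HasDerivedCategory.standard
open TFCurv

namespace Groth.Agent.S16493

/-- Let X be an integral proper curve (integral, proper, of dimension one) over an algebraically closed
field k, ω_X its dualizing module (the cohomology sheaf in degree -1 of f^! O for f : X → Spec k,
assuming the derived direct image Rf_* on D_QCoh and its right adjoint exist, which is how the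
prelude presents f^!), and F a coherent torsion-free O_X-module of rank n (its stalk at the generic
point has dimension n over the function field). Define the degree of a module G of rank n by the
formula deg G = χ(G) − n·χ(O_X), and the arithmetic genus by g = 1 − χ(O_X). Then the ω-dual F* =
𝓗om_{O_X}(F, ω_X) has degree deg F* = n(2g − 2) − deg F. -/
theorem result (k : Type u) [Field k] [IsAlgClosed k] (X : Scheme.{u}) [X.Over (Spec (CommRingCat.of k))]
    [IsIntegral X] [IsProper (X ↘ (Spec (CommRingCat.of k)))] (hdim : topologicalKrullDim X = 1)
    [DCoh.HasRpush (X ↘ (Spec (CommRingCat.of k)))] (h : DCoh.RpushPreservesQCoh (X ↘ (Spec (CommRingCat.of k)))) [DCoh.HasShriek (X ↘ (Spec (CommRingCat.of k))) h]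
    (OY : DCoh.DQCoh (Spec (CommRingCat.of k))) (hOY : Nonempty (OY.obj ≅ DCoh.inD (Spec (CommRingCat.of k)) (Coh.structureModule (Spec (CommRingCat.of k)))))
    (F : X.Modules) (hFc : Coh.IsCoh F) (hFt : TorSh.IsTorsionFree F) (n : ℕ)
    (hn : Module.finrank (X.presheaf.stalk (genericPoint X)) (F.presheaf.stalk (genericPoint X)) = n) :
    Curv2.deg k X (RefHull.homSh F (DCoh.dualizingMod (X ↘ (Spec (CommRingCat.of k))) h OY 1)) n =
      (n : ℤ) * (2 * (1 - Curv2.euler k X (Coh.structureModule X)) - 2) - Curv2.deg k X F n := by
  obtain ⟨-, he⟩ := Groth.Agent.DlzCurve17.euler_homSh_dualizing k X h OY hOY hdim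
  simp only [Curv2.deg, he F hFc hFt]
  ring

end Groth.Agent.S16493
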