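import Groth.Statements.S16496
import Groth.Agent.Lib.DepthAlong11.FlatExtend
import Groth.Agent.Lib.SerreCrit.Basic

set_option autoImplicit false
universe u
open CategoryTheory AlgebraicGeometry
open SGA3

namespace Groth.Agent.S16496

/-- Let S be a Noetherian normal scheme, A a flat quasi-coherent O_S-module (not assumed of finite type)
and j : U → S the inclusion of an open subscheme containing every point of S whose local ring has
dimension at most 1. Then A = j_* j^* A: the unit A → j_*(A|_U) of the adjunction between
restriction to U and direct image along j is an isomorphism. In the source U is the flatness locus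
of a finite type submodule of A, an open which contains all points of codimension at most 1; the
printed argument uses only this property of U. -/
theorem result (S : Scheme.{u}) [IsNoetherian S]
    (hS : Pi1.IsNormalScheme S) (A : S.Modules) (hA : Coh.IsQCoh A) (hAfl : FlatMod.IsFlat A)
    (U : S.Opens) (hU : ∀ s : S, ringKrullDim (S.presheaf.stalk s) ≤ 1 → s ∈ U) :
    IsIso ((Scheme.Modules.restrictAdjunction U.ι).unit.app A) := by
  haveI := hA
  haveI : Coh.IsQCoh (Coh.structureModule S) := M1.isQCoh_structureModule S
  refine DepthAlong11.isIso_unit_of_hasSlicePair (DepthAlong11.hasSlicePair_of_flat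
    (DepthAlong11.hasSlicePair_of_depth _ (M1.isCoh_structureModule S) U fun z hz => ?_) A hAfl)
  haveI := (hS z).1
  haveI := (hS z).2
  have h2 : (2 : WithBot ℕ∞) ≤ ringKrullDim (S.presheaf.stalk z) := by
    have h1 : (1 : WithBot ℕ∞) < ringKrullDim (S.presheaf.stalk z) := not_le.1 fun hle => hz (hU z hle)
    cases hd : ringKrullDim (S.presheaf.stalk z) with
    | bot => rw [hd] at h1; exact absurd h1 not_lt_bot
    | coe n =>
      rw [hd] at h1
      refine WithBot.coe_le_coe.2 ?_
      have h3 := Order.add_one_le_of_lt (WithBot.coe_lt_coe.1 h1)
      rw [one_add_one_eq_two] at h3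
      exact h3
  rw [show LocCoh.depth (S.presheaf.stalk z) ((Coh.structureModule S).presheaf.stalk z) =
      LocCoh.depth (S.presheaf.stalk z) (S.presheaf.stalk z) from
    (DepthLib.idealDepth_congr (RH26.str (X := S) z)).symm]
  exact SerreCrit.two_le_depth_of_normal _ h2

end Groth.Agent.S16496
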