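import Groth.Statements.S1650
import Groth.Agent.Lib.LMSimple8.BlowNormal

set_option autoImplicit false
universe u
open CategoryTheory CategoryTheory.Limits AlgebraicGeometry
open Resolve

namespace Groth.Agent.S1650

/-- Let A be a local normal Nagata domain of dimension two defining a rational singularity and b : X →
Spec A a blowing up in the maximal ideal. Then X is a normal scheme. -/
theorem result (A : Type u) [CommRing A] [IsDomain A] [IsLocalRing A] [IsNoetherianRing A]
    [IsIntegrallyClosed A] (hN : CAlg.IsNagata A) (hdim : ringKrullDim A = 2) (hA : Curv2.IsRationalSing A)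
    (X : Scheme.{u}) (b : X ⟶ Spec (CommRingCat.of A)) (hb : BlowUp.IsBlowUp b (Curv2.idealSheaf A (IsLocalRing.maximalIdeal A))) :
    Pi1.IsNormalScheme X := by
  exact Groth.Agent.LMSimple8.BlowNormal.isNormalScheme_blowUp A hN hdim hA X b hb

end Groth.Agent.S1650
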