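import Groth.Statements.S16500
import Mathlib.Algebra.Polynomial.Reverse
import Mathlib.Data.Nat.Prime.Basic
import Mathlib.Tactic
-- import your own Groth.Agent.* helpers here

set_option autoImplicit false
universe u
open Curves

namespace Groth.Agent.S16500

/-- Let k be a field of odd characteristic p, g ≤ p a natural number and f ∈ k[x] of degree at most 2g +
2. Let F be f with its coefficients reversed in degrees 0, …, 2g + 2, i.e. F(X) = X^(2g+2) f(1/X)
(Mathlib's reflect (2g+2) f), and write f^((p-1)/2) = Σ_l c_l x^l and F^((p-1)/2) = Σ_l C_l X^l.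
Then C_{ip-j} = c_{(g+1-i)p-(g+1-j)} for all i, j = 1, …, g; that is, the g × g Cartier–Manin matrix
of F is that of f with the order of both rows and columns reversed (below the indices run over Fin
g, the entry at (i, j) being the coefficient of degree (i+1)p-(j+1), and reversal is Fin.rev). In
particular the two matrices have the same determinant. (The source applies this to f with f(0) = 0,
separable of degree 2g + 2 over a perfect field, so that F has odd degree 2g + 1; the identity uses
none of that.) -/
theorem result (k : Type u) [Field k] (p : ℕ) [Fact p.Prime] (hp : p ≠ 2) [CharP k p]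
    (g : ℕ) (hg : g ≤ p) (f : Polynomial k) (hf : f.natDegree ≤ 2 * g + 2) :
    (Matrix.of fun i j : Fin g =>
        ((Polynomial.reflect (2 * g + 2) f) ^ ((p - 1) / 2)).coeff (((i : ℕ) + 1) * p - ((j : ℕ) + 1))) =
      Matrix.of fun i j : Fin g =>
        (f ^ ((p - 1) / 2)).coeff (((Fin.rev i : ℕ) + 1) * p - ((Fin.rev j : ℕ) + 1)) := by
  have key : ∀ m : ℕ, (Polynomial.reflect (2 * g + 2) f) ^ m = Polynomial.reflect ((2 * g + 2) * m) (f ^ m) := by
    intro m
    induction m with
    | zero => simp
    | succ n ih =>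
      rw [pow_succ, ih, ← Polynomial.reflect_mul _ _ (Polynomial.natDegree_pow_le.trans (by rw [mul_comm _ n]; gcongr)) hf, ← pow_succ, Nat.mul_succ]
  ext i j
  rw [Matrix.of_apply, Matrix.of_apply, key, Polynomial.coeff_reflect]
  congr 1
  have hp' : 2 * ((p - 1) / 2) = p - 1 := by
    obtain ⟨m, hm⟩ := Nat.Prime.odd_of_ne_two (Fact.out : Nat.Prime p) hp
    omega
  have hN : (2 * g + 2) * ((p - 1) / 2) = (g + 1) * (p - 1) := by
    rw [show 2 * g + 2 = (g + 1) * 2 by ring, mul_assoc, hp']
  rw [hN, Polynomial.revAt_le]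
  · have hi := i.2; have hj := j.2
    simp only [Fin.val_rev]
    have e1 : g - ((i : ℕ) + 1) + 1 = g - i := by omega
    have e2 : g - ((j : ℕ) + 1) + 1 = g - j := by omega
    rw [e1, e2]
    have h1 : p * ((g : ℕ) - i) + p * ((i : ℕ) + 1) = p * (g + 1) := by rw [← mul_add]; congr 1; omega
    have h3 : p * ((i : ℕ) + 1) ≥ p := Nat.le_mul_of_pos_right p (by omega)
    have h4 : p * ((g : ℕ) - i) ≥ p := Nat.le_mul_of_pos_right p (by omega)
    rw [Nat.mul_sub_one, mul_comm _ p, mul_comm _ p, mul_comm (g - (i:ℕ)) p]
    omega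
  · have hi := i.2; have hj := j.2
    have h2 : ((i : ℕ) + 1) * p ≤ g * p := Nat.mul_le_mul_right p (by omega)
    rw [Nat.mul_sub_one, Nat.succ_mul g p]
    omega

end Groth.Agent.S16500
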