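import Mathlib.RingTheory.DiscreteValuationRing.Basic
import Mathlib.RingTheory.AdicCompletion.Basic
import Mathlib.RingTheory.IntegralClosure.IsIntegralClosure.Basic
import Mathlib.FieldTheory.Separable
import Mathlib.RingTheory.Localization.FractionRing
import Mathlib.RingTheory.Ideal.Quotient.Operations
import Mathlib.RingTheory.Finiteness.Defs
import Groth.Agent.Lib.Krasner3
-- import your own Groth.Agent.* helpers here

set_option autoImplicit false
set_option linter.style.haveILetI false
universe u
namespace Hensel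
end Hensel
open Hensel

namespace Groth.Agent.S16501

/-- Let A be a complete discrete valuation ring with uniformizer ϖ and fraction field K, let L be a
finite separable extension of K and B the integral closure of A in L. There is a positive integer m₀
such that for every discrete valuation ring C that is a module-finite A-algebra, B ≅ C as A-algebras
if and only if B/ϖ^m B ≅ C/ϖ^m C as A-algebras for some m > m₀. (Finiteness of L over K is implicit
in the source, which takes a primitive element.) -/
theorem result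
    (A : Type u) [CommRing A] [IsDomain A] [IsDiscreteValuationRing A]
    [IsAdicComplete (IsLocalRing.maximalIdeal A) A] (ϖ : A) (hϖ : Irreducible ϖ)
    (K : Type u) [Field K] [Algebra A K] [IsFractionRing A K]
    (L : Type u) [Field L] [Algebra K L] [Algebra A L] [IsScalarTower A K L]
    [FiniteDimensional K L] [Algebra.IsSeparable K L]
    (B : Type u) [CommRing B] [Algebra A B] [Algebra B L] [IsScalarTower A B L]
    [IsIntegralClosure B A L] :
    ∃ m₀ : ℕ, 0 < m₀ ∧ ∀ (C : Type u) [CommRing C] [IsDomain C] [IsDiscreteValuationRing C]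
      [Algebra A C] [Module.Finite A C],
      Nonempty (B ≃ₐ[A] C) ↔ ∃ m : ℕ, m₀ < m ∧
        Nonempty ((B ⧸ Ideal.span {algebraMap A B (ϖ ^ m)}) ≃ₐ[A]
          (C ⧸ Ideal.span {algebraMap A C (ϖ ^ m)})) := by
  classical
  have hmax : IsLocalRing.maximalIdeal A = Ideal.span {ϖ} := hϖ.maximalIdeal_eq
  haveI : IsDomain B := (IsIntegralClosure.algebraMap_injective B A L).isDomain _
  haveI : Module.Finite A B := IsIntegralClosure.finite A K L B
  haveI : IsFractionRing B L := IsIntegralClosure.isFractionRing_of_finite_extension A K L B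
  have hAL : Function.Injective (algebraMap A L) := by
    rw [IsScalarTower.algebraMap_eq A K L]
    exact (algebraMap K L).injective.comp (IsFractionRing.injective A K)
  have hAB : Function.Injective (algebraMap A B) := fun x y h => hAL (by
    rw [IsScalarTower.algebraMap_apply A B L, IsScalarTower.algebraMap_apply A B L, h])
  have hBL : Function.Injective (algebraMap B L) := IsIntegralClosure.algebraMap_injective B A L
  -- an integral primitive element
  haveI : Algebra.IsAlgebraic A K := IsLocalization.isAlgebraic K (nonZeroDivisors A)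
  obtain ⟨θ₀, hθ₀⟩ := Field.exists_primitive_element K L
  obtain ⟨a, ha, haθ⟩ := ((Algebra.IsAlgebraic.isAlgebraic (R := K) θ₀).restrictScalars A).exists_integral_multiple
  let θ : L := a • θ₀
  let θB : B := IsIntegralClosure.mk' B θ haθ
  have hθB : algebraMap B L θB = θ := IsIntegralClosure.algebraMap_mk' B θ haθ
  have hθ : IntermediateField.adjoin K {θ} = ⊤ := by
    rw [← top_le_iff, ← hθ₀, IntermediateField.adjoin_simple_le_iff]
    have haK : algebraMap A K a ≠ 0 := by
      rw [Ne, map_eq_zero_iff _ (IsFractionRing.injective A K)]; exact ha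
    have e : θ₀ = (algebraMap A K a)⁻¹ • θ := by
      rw [show θ = (algebraMap A K a) • θ₀ from (IsScalarTower.algebraMap_smul K a θ₀).symm, inv_smul_smul₀ haK]
    rw [e]
    exact IntermediateField.smul_mem _ (IntermediateField.mem_adjoin_simple_self K θ)
  have hint : IsIntegral A θ := haθ
  let g : Polynomial A := minpoly A θ
  have hgK : minpoly K θ = g.map (algebraMap A K) :=
    minpoly.isIntegrallyClosed_eq_field_fractions' K hint
  have hg0 : Polynomial.aeval θB g = 0 := hBL (by
    rw [map_zero, ← Polynomial.aeval_algebraMap_apply, hθB]; exact minpoly.aeval A θ)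
  have hgd : Polynomial.aeval θB (Polynomial.derivative g) ≠ 0 := by
    intro h
    have hsep : (minpoly K θ).Separable := Algebra.IsSeparable.isSeparable K θ
    refine hsep.aeval_derivative_ne_zero (minpoly.aeval K θ) ?_
    rw [hgK, Polynomial.derivative_map, Polynomial.aeval_map_algebraMap, ← hθB,
      Polynomial.aeval_algebraMap_apply, h, map_zero]
  have hdvd : ∀ z : B, z ≠ 0 → ∃ c : ℕ, z ∣ algebraMap A B (ϖ ^ c) := by
    intro z hz
    obtain ⟨q, hq, hq0⟩ : ∃ q : A, q ∈ (Ideal.span {z}).comap (algebraMap A B) ∧ q ≠ 0 := by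
      have h := Ideal.comap_ne_bot_of_integral_mem (R := A) hz (Ideal.mem_span_singleton_self z)
        (IsIntegralClosure.isIntegral A L z)
      exact Submodule.exists_mem_ne_zero_of_ne_bot h
    obtain ⟨c, u, rfl⟩ := IsDiscreteValuationRing.eq_unit_mul_pow_irreducible hq0 hϖ
    refine ⟨c, ?_⟩
    rw [Ideal.mem_comap, Ideal.mem_span_singleton, map_mul] at hq
    exact (IsUnit.dvd_mul_left (u.isUnit.map (algebraMap A B))).1 hq
  obtain ⟨c, hc⟩ := hdvd _ hgd
  -- denominators with respect to the order generated by the primitive element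
  have hden : ∀ x : B, ∃ k : ℕ, algebraMap A B (ϖ ^ k) * x ∈ Algebra.adjoin A {θB} := by
    intro x
    have hx : algebraMap B L x ∈ IntermediateField.adjoin K {θ} := hθ ▸ trivial
    rw [← IntermediateField.mem_toSubalgebra,
      IntermediateField.adjoin_simple_toSubalgebra_of_isAlgebraic (Algebra.IsAlgebraic.isAlgebraic θ),
      Algebra.adjoin_singleton_eq_range_aeval, AlgHom.mem_range] at hx
    obtain ⟨p, hp⟩ := hx
    obtain ⟨⟨q, hq⟩, hqp⟩ := IsLocalization.integerNormalization_map_to_map (nonZeroDivisors A) p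
    have hq0 : q ≠ 0 := nonZeroDivisors.ne_zero hq
    obtain ⟨k, u, hu⟩ := IsDiscreteValuationRing.eq_unit_mul_pow_irreducible hq0 hϖ
    refine ⟨k, ?_⟩
    have h1 : algebraMap A B q * x =
        Polynomial.aeval θB (IsLocalization.integerNormalization (nonZeroDivisors A) p) := hBL (by
      rw [map_mul, ← IsScalarTower.algebraMap_apply, ← Polynomial.aeval_algebraMap_apply, hθB,
        ← Polynomial.aeval_map_algebraMap K, hqp, LinearMapClass.map_smul_of_tower (R := A), hp, Algebra.smul_def])
    have h2 : algebraMap A B (ϖ ^ k) * x = (↑u⁻¹ : A) • (algebraMap A B q * x) := by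
      rw [hu, Algebra.smul_def, ← mul_assoc, ← map_mul, ← mul_assoc, Units.inv_mul, one_mul]
    rw [h2, h1]
    exact Subalgebra.smul_mem _ (Polynomial.aeval_mem_adjoin_singleton A θB) _
  choose kf hkf using hden
  obtain ⟨sB, hsB⟩ := Module.finite_def.1 (inferInstance : Module.Finite A B)
  obtain ⟨e, he⟩ : ∃ e : ℕ, ∀ x : B, algebraMap A B (ϖ ^ e) * x ∈ Algebra.adjoin A {θB} := by
    refine ⟨sB.sup kf, fun x => ?_⟩
    have hx : x ∈ Submodule.span A (sB : Set B) := by rw [hsB]; trivial
    induction hx using Submodule.span_induction with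
    | mem y hy =>
      have hle : kf y ≤ sB.sup kf := Finset.le_sup hy
      rw [← Nat.sub_add_cancel hle, pow_add, map_mul, mul_assoc]
      exact Subalgebra.mul_mem _ (Subalgebra.algebraMap_mem _ _) (hkf y)
    | zero => rw [mul_zero]; exact Subalgebra.zero_mem _
    | add y z _ _ hy hz => rw [mul_add]; exact Subalgebra.add_mem _ hy hz
    | smul r y _ hy => rw [mul_smul_comm]; exact Subalgebra.smul_mem _ hy r
  refine ⟨2 * c + e + 1, by omega, fun C _ _ _ _ _ => ?_⟩
  constructor
  · rintro ⟨φ⟩
    refine ⟨2 * c + e + 2, by omega, ⟨Ideal.quotientEquivAlg _ _ φ ?_⟩⟩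
    rw [Ideal.map_span, Set.image_singleton]
    exact congrArg (fun t => Ideal.span {t}) (φ.commutes _).symm
  rintro ⟨m, hm, ⟨φm⟩⟩
  -- `A → C` is injective
  have hACinj : Function.Injective (algebraMap A C) := by
    rw [RingHom.injective_iff_ker_eq_bot]
    by_contra hne
    haveI : (RingHom.ker (algebraMap A C)).IsPrime := RingHom.ker_isPrime _
    have hker : RingHom.ker (algebraMap A C) = IsLocalRing.maximalIdeal A :=
      (IsPrime.to_maximal_ideal hne).eq_of_le (IsLocalRing.maximalIdeal.isMaximal A).ne_top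
        (IsLocalRing.le_maximalIdeal (RingHom.ker_ne_top _)) |>.trans rfl
    haveI : (RingHom.ker (algebraMap A C)).IsMaximal := hker ▸ IsLocalRing.maximalIdeal.isMaximal A
    letI : Field (A ⧸ RingHom.ker (algebraMap A C)) := Ideal.Quotient.field _
    letI : Algebra (A ⧸ RingHom.ker (algebraMap A C)) C := (RingHom.kerLift (algebraMap A C)).toAlgebra
    haveI : IsScalarTower A (A ⧸ RingHom.ker (algebraMap A C)) C := IsScalarTower.of_algebraMap_eq fun _ => rfl
    haveI : Module.Finite (A ⧸ RingHom.ker (algebraMap A C)) C := Module.Finite.of_restrictScalars_finite A _ C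
    exact IsDiscreteValuationRing.not_isField C (isField_of_isIntegral_of_isField'
      (R := A ⧸ RingHom.ker (algebraMap A C)) (Field.toIsField _))
  haveI : FaithfulSMul A C := (faithfulSMul_iff_algebraMap_injective A C).2 hACinj
  haveI : Algebra.IsIntegral A C := Algebra.IsIntegral.of_finite A C
  haveI : IsLocalHom (algebraMap A C) := RingHom.IsIntegral.isLocalHom Algebra.IsIntegral.isIntegral hACinj
  let π : C := algebraMap A C ϖ
  have hπ : π ∈ IsLocalRing.maximalIdeal C := by
    rw [IsLocalRing.mem_maximalIdeal, mem_nonunits_iff]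
    exact fun h => hϖ.not_isUnit (isUnit_of_map_unit _ _ h)
  have hπ0 : π ≠ 0 := by rw [Ne, map_eq_zero_iff _ hACinj]; exact hϖ.ne_zero
  haveI : IsAdicComplete (Ideal.span {π}) C := by
    have h := Groth.Agent.Compl.isAdicComplete_of_finite (IsLocalRing.maximalIdeal A) C
    rw [← IsAdicComplete.map_algebraMap_iff (S := C) (I := IsLocalRing.maximalIdeal A) (M := C)] at h
    rwa [hmax, Ideal.map_span, Set.image_singleton] at h
  have hmk : ∀ (k : ℕ) (x : C), Ideal.Quotient.mk (Ideal.span {algebraMap A C (ϖ ^ m)}) x = 0 → k ≤ m → π ^ k ∣ x := by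
    intro k x hx hk
    rw [Ideal.Quotient.eq_zero_iff_mem, Ideal.mem_span_singleton, map_pow] at hx
    exact (pow_dvd_pow π hk).trans hx
  let ψ : B →ₐ[A] C ⧸ Ideal.span {algebraMap A C (ϖ ^ m)} :=
    φm.toAlgHom.comp (Ideal.Quotient.mkₐ A _)
  have hψ : Function.Surjective ψ := φm.surjective.comp Ideal.Quotient.mk_surjective
  obtain ⟨γ, hγ⟩ := Ideal.Quotient.mk_surjective (ψ θB)
  have hev : ∀ p : Polynomial A, Ideal.Quotient.mk (Ideal.span {algebraMap A C (ϖ ^ m)}) (Polynomial.aeval γ p) =
      ψ (Polynomial.aeval θB p) := by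
    intro p
    rw [← Polynomial.aeval_algHom_apply ψ, ← hγ]
    exact (Polynomial.aeval_algHom_apply (Ideal.Quotient.mkₐ A _) γ p).symm
  have hgγ : π ^ (2 * c + (e + 1)) ∣ (g.map (algebraMap A C)).eval γ := by
    rw [Polynomial.eval_map, ← Polynomial.aeval_def]
    exact hmk _ _ (by rw [hev, hg0, map_zero]) (by omega)
  have hdγ : (g.map (algebraMap A C)).derivative.eval γ ∣ π ^ c := by
    rw [Polynomial.derivative_map, Polynomial.eval_map, ← Polynomial.aeval_def]
    obtain ⟨w, hw⟩ := hc
    obtain ⟨w', hw'⟩ := Ideal.Quotient.mk_surjective (ψ w)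
    have h1 : π ^ (c + 1) ∣ π ^ c - Polynomial.aeval γ (Polynomial.derivative g) * w' := by
      refine hmk _ _ ?_ (by omega)
      rw [map_sub, map_mul, hev, hw', ← map_mul, ← hw, AlgHom.commutes, sub_eq_zero, ← map_pow]
      rfl
    obtain ⟨z, hz⟩ := h1
    have hu : IsUnit (1 - π * z) := IsLocalRing.isUnit_one_sub_self_of_mem_nonunits _ (Ideal.mul_mem_right _ _ hπ)
    refine (hu.dvd_mul_right).1 ⟨w', ?_⟩
    rw [pow_succ] at hz
    linear_combination hz
  obtain ⟨γ', hγ', hγγ⟩ := Groth.Agent.Krasner3.exists_root π hπ (g.map (algebraMap A C)) γ c (e + 1)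
    (by omega) hgγ hdγ
  -- extend to the fraction fields
  let F := FractionRing C
  letI : Algebra K F := (IsFractionRing.lift (A := A) (K := K) (g := algebraMap A F)
    (by rw [IsScalarTower.algebraMap_eq A C F]; exact (IsFractionRing.injective C F).comp hACinj)).toAlgebra
  haveI : IsScalarTower A K F := IsScalarTower.of_algebraMap_eq fun x => by
    rw [RingHom.algebraMap_toAlgebra, IsFractionRing.lift_algebraMap]
  have hroot : Polynomial.aeval (algebraMap C F γ') (minpoly K θ) = 0 := by
    rw [hgK, Polynomial.aeval_map_algebraMap, Polynomial.aeval_algebraMap_apply, Polynomial.aeval_def,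
      ← Polynomial.eval_map, hγ', map_zero]
  let pb := (IntermediateField.adjoin.powerBasis (K := K) (Algebra.IsIntegral.isIntegral (R := K) θ)).map
    ((IntermediateField.equivOfEq hθ).trans IntermediateField.topEquiv)
  have hgen : pb.gen = θ := by
    simp [pb, IntermediateField.adjoin.powerBasis]
  let σ : L →ₐ[K] F := pb.lift (algebraMap C F γ') (by rw [hgen]; exact hroot)
  have hσθ : σ θ = algebraMap C F γ' := by
    conv_lhs => rw [← hgen]
    exact pb.lift_gen _ _
  let σB : B →ₐ[A] F := (σ.restrictScalars A).comp (IsScalarTower.toAlgHom A B L)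
  have hσB : ∀ x : B, σB x ∈ (IsScalarTower.toAlgHom A C F).range := by
    intro x
    have h1 : IsIntegral A (σB x) := (IsIntegralClosure.isIntegral A L x).map σB
    obtain ⟨y, hy⟩ := IsIntegrallyClosed.isIntegral_iff.1 (h1.tower_top (A := C))
    exact ⟨y, hy⟩
  have hCF : Function.Injective (IsScalarTower.toAlgHom A C F) := IsFractionRing.injective C F
  let φ : B →ₐ[A] C := (AlgEquiv.ofInjective _ hCF).symm.toAlgHom.comp (σB.codRestrict _ hσB)
  have hφ : ∀ x : B, algebraMap C F (φ x) = σB x := fun x => by
    have := congrArg Subtype.val ((AlgEquiv.ofInjective _ hCF).apply_symm_apply (σB.codRestrict _ hσB x))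
    exact this
  have hφinj : Function.Injective φ := fun x y h => hBL (σ.toRingHom.injective (by
    have := congrArg (algebraMap C F) h
    rwa [hφ, hφ] at this))
  have hφθ : φ θB = γ' := IsFractionRing.injective C F (by
    rw [hφ]; change σ (algebraMap B L θB) = _; rw [hθB, hσθ])
  -- `φ` agrees with `ψ` modulo `π`
  have hagree : ∀ x : B, ∀ y : C, Ideal.Quotient.mk _ y = ψ x → π ∣ φ x - y := by
    intro x y hy
    have hx := he x
    rw [Algebra.adjoin_singleton_eq_range_aeval, AlgHom.mem_range] at hx
    obtain ⟨p, hp⟩ := hx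
    have h1 : π ^ (e + 1) ∣ π ^ e * y - Polynomial.aeval γ p := by
      refine hmk _ _ ?_ (by omega)
      rw [map_sub, map_mul, hev, hp, map_mul ψ, hy, AlgHom.commutes, sub_eq_zero, ← map_pow]
      rfl
    have h2 : π ^ (e + 1) ∣ Polynomial.aeval γ' p - Polynomial.aeval γ p := by
      refine (pow_dvd_pow π (show e + 1 ≤ c + (e + 1) by omega)).trans (hγγ.trans ?_)
      obtain ⟨z, hz⟩ := Polynomial.evalSubFactor (p.map (algebraMap A C)) γ' γ
      rw [Polynomial.eval_map, Polynomial.eval_map, ← Polynomial.aeval_def, ← Polynomial.aeval_def] at hz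
      rw [hz]
      exact dvd_mul_left _ _
    have h3 : Polynomial.aeval γ' p = π ^ e * φ x := by
      rw [← hφθ, Polynomial.aeval_algHom_apply, hp, map_mul, AlgHom.commutes, map_pow]
    have h4 := dvd_sub h2 h1
    rw [h3, sub_sub_sub_cancel_right, ← mul_sub, pow_succ] at h4
    exact (mul_dvd_mul_iff_left (pow_ne_zero _ hπ0)).1 h4
  have hsurj : Function.Surjective φ := by
    have htop : LinearMap.range φ.toLinearMap = ⊤ := by
      refine top_le_iff.1 (Submodule.le_of_le_smul_of_le_jacobson_bot (I := IsLocalRing.maximalIdeal A)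
        Module.Finite.fg_top (IsLocalRing.maximalIdeal_le_jacobson _) ?_)
      intro y _
      obtain ⟨x, hx⟩ := hψ (Ideal.Quotient.mk _ y)
      obtain ⟨z, hz⟩ := hagree x y hx.symm
      rw [show y = φ x + ϖ • (-z) by rw [Algebra.smul_def]; change y = φ x + π * -z; linear_combination -hz]
      exact Submodule.add_mem_sup ⟨x, rfl⟩
        (Submodule.smul_mem_smul (hmax ▸ Ideal.mem_span_singleton_self ϖ) trivial)
    exact LinearMap.range_eq_top.1 htop
  exact ⟨AlgEquiv.ofBijective φ ⟨hφinj, hsurj⟩⟩

end Groth.Agent.S16501
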