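import Groth.Statements.S16506
import Groth.Agent.Lib.P1Surf1.Section

set_option autoImplicit false
universe u
open CategoryTheory AlgebraicGeometry
open Curves

namespace Groth.Agent.S16506

/-- Over an algebraically closed field k, let X be a projective surface, B a smooth proper curve and π :
X → B a surjective k-morphism whose generic fibre is geometrically integral of arithmetic genus 0.
Then π has a section. -/
theorem result
    (k : Type u) [Field k] [IsAlgClosed k]
    (X : Scheme.{u}) [X.Over (Spec (CommRingCat.of k))] [IsIntegral X] (hX2 : topologicalKrullDim X = 2)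
    (hX : ∃ (N : ℕ) (ι : X ⟶ CohB1.ProjSpace N k), IsClosedImmersion ι ∧
      ι ≫ CohB1.ProjSpace.toSpec N k = X ↘ Spec (CommRingCat.of k))
    (B : Scheme.{u}) [B.Over (Spec (CommRingCat.of k))] [IsIntegral B]
    (hB : Curve.IsSmoothProperCurve k B (B ↘ Spec (CommRingCat.of k)))
    (π : X ⟶ B) (hπ : π ≫ (B ↘ Spec (CommRingCat.of k)) = X ↘ Spec (CommRingCat.of k))
    (hsurj : Function.Surjective π.base)
    [GeometricallyIntegral (π.fiberToSpecResidueField (genericPoint B))]
    (hgen : letI : (π.fiber (genericPoint B)).Over (Spec (B.residueField (genericPoint B))) :=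
        ⟨π.fiberToSpecResidueField (genericPoint B)⟩
      Curv2.genus (B.residueField (genericPoint B)) (π.fiber (genericPoint B)) = 0) :
    ∃ σ : B ⟶ X, σ ≫ π = 𝟙 B := by
  obtain ⟨hBp, hBs, -, hB1⟩ := hB
  haveI := hBp; haveI := hBs
  obtain ⟨N, ι, hι, hιe⟩ := hX
  haveI := hι
  haveI : IsProper (X ↘ Spec (CommRingCat.of k)) := by rw [← hιe]; infer_instance
  exact Groth.Agent.P1Surf1.exists_section_of_genus_zero hπ hB1
    (Groth.Agent.P1Surf1.dim_fiber_generic hπ hsurj hX2 hB1) hgen

end Groth.Agent.S16506
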