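import Groth.Statements.S16507
import Groth.Agent.Lib.AlmostR6.Degrees
import Groth.Agent.Lib.AlmostR6.Free
-- import your own Groth.Agent.* helpers here

set_option autoImplicit false
universe u
open CategoryTheory AlgebraicGeometry
open Curves

namespace Groth.Agent.S16507

/-- Over an algebraically closed field k, let X be a smooth projective variety of dimension n with a
free rational curve, that is, a nonconstant k-morphism f from the projective line such that the
twist of f^*Ω_{X/k} by O(−1) has no nonzero global sections (equivalently f^*T_X is globally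
generated). Then all plurigenera of X vanish: H^0(X, ω^{⊗m}) = 0 for every m ≥ 1, ω the top exterior
power of Ω_{X/k}. (The published hypothesis is that X is smooth, proper and separably uniruled; when
X is smooth and projective over an algebraically closed base field, a free rational curve makes X
separably uniruled, and conversely such an X carries free rational curves. This row also takes k
algebraically closed and X projective, where the published statement allows any base field and X
proper.) -/
theorem result
    (k : Type u) [Field k] [IsAlgClosed k]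
    (X : Scheme.{u}) [X.Over (Spec (CommRingCat.of k))] [IsIntegral X] [Smooth (X ↘ Spec (CommRingCat.of k))]
    (hX : ∃ (N : ℕ) (ι : X ⟶ CohB1.ProjSpace N k), IsClosedImmersion ι ∧
      ι ≫ CohB1.ProjSpace.toSpec N k = X ↘ Spec (CommRingCat.of k))
    (n : ℕ) (hn : topologicalKrullDim X = n)
    (f : CohB1.ProjSpace 1 k ⟶ X) (hf : f ≫ (X ↘ Spec (CommRingCat.of k)) = CohB1.ProjSpace.toSpec 1 k)
    (hnc : ¬ ∃ x : X, Set.range f.base ⊆ {x})
    (hfree : Subsingleton (Coh.HH (CohB1.ProjSpace 1 k)
      (CohB1.tensorMod ((Scheme.Modules.pullback f).obj (Omega.sheaf (X ↘ Spec (CommRingCat.of k)))) (Twist.twistProjSpace 1 k (-1))) 0))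
    (ω : X.Modules) (hω : ExtPow.IsExtPow n (Omega.sheaf (X ↘ Spec (CommRingCat.of k))) ω) (m : ℕ) (hm : 1 ≤ m) :
    Subsingleton (Coh.HH X (CohB1.tensorPow ω m) 0) := by
  haveI : IsProper (X ↘ Spec (CommRingCat.of k)) := by
    obtain ⟨N, ι, hι, hιf⟩ := hX
    haveI := hι
    rw [← hιf]
    infer_instance
  obtain ⟨r, hr, hdim⟩ := AlmostR6.exists_rank (X ↘ Spec (CommRingCat.of k))
  obtain rfl : r = n := by exact_mod_cast hdim.symm.trans hn
  obtain ⟨d, -, ⟨Φ⟩⟩ := P1Split.exists_splitting k _ (M2.isFinLocFreeOfRank_pullback f hr)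
  have hd : ∀ a, d a ≤ 0 := AlmostR6.nonpos_of_subsingleton Φ hfree
  obtain ⟨a, ha⟩ := AlmostR6.exists_neg_degree hf hnc hr Φ hd
  haveI : Subsingleton Γ(CohB1.tensorPow ω m, ⊤) := subsingleton_of_forall_eq 0
    (AlmostR6.eq_zero_of_split Φ hω hf hr hd
      (fun w hw => let ⟨b, hb⟩ := (Finite.injective_iff_surjective.1 hw) a; ⟨b, hb.symm ▸ ha⟩) hm)
  exact (CurveCoh17.hh0 _).injective.subsingleton

end Groth.Agent.S16507
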