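import Groth.Statements.S16511
import Groth.Agent.Lib.P1Surf1.Section

set_option autoImplicit false
universe u
open CategoryTheory AlgebraicGeometry
open Curves

namespace Groth.Agent.S16511

/-- Over an algebraically closed field k, let π : X → B be a surjective k-morphism from a projective
surface onto a smooth proper curve whose fibres over closed points are all isomorphic to the
projective line. Then X is isomorphic over B to the projective bundle of a locally free sheaf of
rank 2 on B: π together with some invertible quotient q : π^*E → O(1), E locally free of rank 2 on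
B, has the universal property of P(E). -/
theorem result
    (k : Type u) [Field k] [IsAlgClosed k]
    (X : Scheme.{u}) [X.Over (Spec (CommRingCat.of k))] [IsIntegral X] (hX2 : topologicalKrullDim X = 2)
    (hX : ∃ (N : ℕ) (ι : X ⟶ CohB1.ProjSpace N k), IsClosedImmersion ι ∧
      ι ≫ CohB1.ProjSpace.toSpec N k = X ↘ Spec (CommRingCat.of k))
    (B : Scheme.{u}) [B.Over (Spec (CommRingCat.of k))] (hB : Curve.IsSmoothProperCurve k B (B ↘ Spec (CommRingCat.of k)))
    (π : X ⟶ B) (hπ : π ≫ (B ↘ Spec (CommRingCat.of k)) = X ↘ Spec (CommRingCat.of k))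
    (hsurj : Function.Surjective π.base)
    (hfib : ∀ b : B, IsClosed ({b} : Set B) → Nonempty (π.fiber b ≅ CohB1.ProjSpace 1 k)) :
    ∃ (E : B.Modules) (L : X.Modules) (q : (Scheme.Modules.pullback π).obj E ⟶ L),
      FlatMod.IsFinLocFreeOfRank 2 E ∧ KRR.IsProjBundle π E L q := by
  obtain ⟨hBp, hBs, hBi, hB1⟩ := hB
  haveI := hBp; haveI := hBs; haveI := hBi
  obtain ⟨N, ι, hι, hιe⟩ := hX
  haveI := hι
  haveI : IsProper (X ↘ Spec (CommRingCat.of k)) := by rw [← hιe]; infer_instance
  haveI := Groth.Agent.P1Surf1.isProper_of_comp hπ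
  obtain ⟨hsm, hfam, -⟩ := Groth.Agent.P1Surf1.smooth_and_isP1Fam hπ hsurj hX2 hB1 hfib
  haveI := hsm
  haveI := Groth.Agent.P1Bun1.smoothOfRelDim_of_fam hfam
  obtain ⟨σ, hσ⟩ := Groth.Agent.P1Surf1.exists_section_of_lines hπ hsurj hX2 hB1 hfib
  obtain ⟨D⟩ := Groth.Agent.P1Bun1.exists_divSec (Groth.Agent.S15990.result π σ hσ).1
  exact ⟨_, _, Groth.Agent.P1Bun1.quot D, Groth.Agent.P1Bun1.isFinLocFreeOfRank_push hσ hfam D,
    Groth.Agent.P1Bun1.isProjBundle hσ hfam D⟩

end Groth.Agent.S16511
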