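import Groth.Statements.S16514
import Groth.Agent.Lib.P1Surf1.Section
import Groth.Agent.Lib.SBBirat28.Basic

set_option autoImplicit false
universe u
open CategoryTheory AlgebraicGeometry
open Curves

namespace Groth.Agent.S16514

/-- Over an algebraically closed field k, let π : X → B be a surjective k-morphism from a projective
surface onto a smooth proper curve whose generic fibre is geometrically integral of arithmetic genus
0. Then X is birational to B × P^1 over B: a nonempty open subscheme of X is isomorphic over B to an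
open subscheme of B ×_k P^1_k. -/
theorem result
    (k : Type u) [Field k] [IsAlgClosed k]
    (X : Scheme.{u}) [X.Over (Spec (CommRingCat.of k))] [IsIntegral X] (hX2 : topologicalKrullDim X = 2)
    (hX : ∃ (N : ℕ) (ι : X ⟶ CohB1.ProjSpace N k), IsClosedImmersion ι ∧
      ι ≫ CohB1.ProjSpace.toSpec N k = X ↘ Spec (CommRingCat.of k))
    (B : Scheme.{u}) [B.Over (Spec (CommRingCat.of k))] [IsIntegral B]
    (hB : Curve.IsSmoothProperCurve k B (B ↘ Spec (CommRingCat.of k)))
    (π : X ⟶ B) (hπ : π ≫ (B ↘ Spec (CommRingCat.of k)) = X ↘ Spec (CommRingCat.of k))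
    (hsurj : Function.Surjective π.base)
    [GeometricallyIntegral (π.fiberToSpecResidueField (genericPoint B))]
    (hgen : letI : (π.fiber (genericPoint B)).Over (Spec (B.residueField (genericPoint B))) :=
        ⟨π.fiberToSpecResidueField (genericPoint B)⟩
      Curv2.genus (B.residueField (genericPoint B)) (π.fiber (genericPoint B)) = 0) :
    ∃ (U : X.Opens) (W : (Limits.pullback (B ↘ Spec (CommRingCat.of k)) (CohB1.ProjSpace.toSpec 1 k)).Opens)
      (e : (U : Scheme.{u}) ≅ (W : Scheme.{u})),
      (U : Set X).Nonempty ∧ e.hom ≫ W.ι ≫ Limits.pullback.fst (B ↘ Spec (CommRingCat.of k)) (CohB1.ProjSpace.toSpec 1 k) = U.ι ≫ π := by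
  obtain ⟨hBp, hBs, -, hB1⟩ := hB
  haveI := hBp; haveI := hBs
  obtain ⟨N, ι, hι, hιe⟩ := hX
  haveI := hι
  haveI : IsProper (X ↘ Spec (CommRingCat.of k)) := by rw [← hιe]; infer_instance
  haveI := Groth.Agent.P1Surf1.isProper_of_comp hπ
  let η := genericPoint B
  letI : (π.fiber η).Over (Spec (CommRingCat.of (B.residueField η))) := ⟨π.fiberToSpecResidueField η⟩
  haveI : IsProper ((π.fiber η) ↘ Spec (CommRingCat.of (B.residueField η))) :=
    MorphismProperty.of_isPullback (P := @IsProper) (IsPullback.of_hasPullback π (B.fromSpecResidueField η)) inferInstance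
  haveI : GeometricallyIntegral ((π.fiber η) ↘ Spec (CommRingCat.of (B.residueField η))) :=
    ‹GeometricallyIntegral (π.fiberToSpecResidueField (genericPoint B))›
  obtain ⟨ρ, hρ'⟩ := Groth.Agent.P1Surf1.exists_iso_P1_of_isCr_one (Groth.Agent.P1Surf1.isCr_one_generic (k := k) hB1)
    (Groth.Agent.P1Surf1.dim_fiber_generic hπ hsurj hX2 hB1) hgen
  have hρ : ρ.hom ≫ CohB1.ProjSpace.toSpec 1 (B.residueField η) = π.fiberToSpecResidueField η := hρ'
  let fB := B ↘ Spec (CommRingCat.of k)
  let φ : CommRingCat.of k ⟶ B.residueField η := Spec.preimage (B.fromSpecResidueField η ≫ fB)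
  have hφ : Spec.map φ = B.fromSpecResidueField η ≫ fB := Spec.map_preimage _
  let P := Limits.pullback fB (CohB1.ProjSpace.toSpec 1 k)
  let j : CohB1.ProjSpace 1 (B.residueField η) ⟶ P :=
    Limits.pullback.lift (CohB1.ProjSpace.toSpec 1 _ ≫ B.fromSpecResidueField η) (Groth.Agent.ProjSpace.map 1 φ.hom) (by
      rw [Category.assoc, ← hφ]
      exact ((Groth.Agent.ProjSpace.isPullback_map 1 φ.hom).w).symm)
  have hj : IsPullback j (CohB1.ProjSpace.toSpec 1 (B.residueField η))
      (Limits.pullback.fst fB (CohB1.ProjSpace.toSpec 1 k)) (B.fromSpecResidueField η) := by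
    refine IsPullback.of_right ?_ (Limits.pullback.lift_fst _ _ _) (IsPullback.of_hasPullback fB (CohB1.ProjSpace.toSpec 1 k)).flip
    rw [Limits.pullback.lift_snd, ← hφ]
    exact Groth.Agent.ProjSpace.isPullback_map 1 φ.hom
  haveI : IsPreimmersion j := MorphismProperty.of_isPullback (P := @IsPreimmersion) hj.flip inferInstance
  haveI : IsPreimmersion (π.fiberι η) :=
    MorphismProperty.of_isPullback (P := @IsPreimmersion) (IsPullback.of_hasPullback π (B.fromSpecResidueField η)).flip inferInstance
  haveI : IsPreimmersion (ρ.hom ≫ j) := inferInstance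
  haveI : GeometricallyIntegral (CohB1.ProjSpace.toSpec 1 k) := by
    haveI : IsIntegral (CohB1.ProjSpace 1 k) := Groth.Agent.RegExt.isIntegral_projSpace 1 k
    letI : (CohB1.ProjSpace 1 k).Over (Spec (CommRingCat.of k)) := ⟨CohB1.ProjSpace.toSpec 1 k⟩
    exact Groth.Agent.CubeField.geometricallyIntegral_of_isIntegral ((CohB1.ProjSpace 1 k) ↘ Spec (CommRingCat.of k))
  haveI : IsLocallyNoetherian B := LocallyOfFiniteType.isLocallyNoetherian fB
  haveI : IsIntegral P := inferInstance
  have hgP : genericPoint P ∈ Set.range (ρ.hom ≫ j) := by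
    obtain ⟨z, hz⟩ : genericPoint P ∈ Set.range j := by
      suffices h : genericPoint P ∈ Set.range (Limits.pullback.fst (Limits.pullback.fst fB (CohB1.ProjSpace.toSpec 1 k))
          (B.fromSpecResidueField η)) by
        obtain ⟨w, hw⟩ := h
        refine ⟨hj.isoPullback.inv w, ?_⟩
        rw [← Scheme.Hom.comp_apply, hj.isoPullback_inv_fst, hw]
      rw [Scheme.Pullback.range_fst]
      show Limits.pullback.fst fB (CohB1.ProjSpace.toSpec 1 k) (genericPoint P) ∈ Set.range (B.fromSpecResidueField η)
      rw [Groth.Agent.SBBirat28.map_genericPoint, B.range_fromSpecResidueField]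
      rfl
    obtain ⟨z', rfl⟩ := ρ.hom.surjective z
    exact ⟨z', hz⟩
  have hgX : genericPoint X ∈ Set.range (π.fiberι η) := by
    rw [π.range_fiberι]
    exact Groth.Agent.P1Surf1.map_genericPoint hsurj
  obtain ⟨f, hf⟩ := Groth.Agent.SBBirat28.birationalOver_of_preimmersion π (Limits.pullback.fst fB (CohB1.ProjSpace.toSpec 1 k))
    (π.fiberι η) (ρ.hom ≫ j) hgX hgP (by
      rw [Category.assoc, Limits.pullback.lift_fst, ← Category.assoc, hρ]
      exact Limits.pullback.condition)
  exact ⟨f.source, f.target, f.iso, f.dense_source.nonempty, hf⟩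

end Groth.Agent.S16514
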