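import Groth.Statements.S16516
import Mathlib
import Groth.Agent.Lib.BinFormH28.Basic

set_option autoImplicit false
universe u
open RatCurv

namespace Groth.Agent.S16516
open TensorProduct

/-- A smooth nondegenerate rational quintic curve C ⊂ P^4 has exactly one 3-secant line. Stated for C
given as the image of P^1 under a 5-dimensional linear series V of binary quintic forms which
separates every length-2 subscheme of P^1 (for every nonzero quadratic form e the forms of V
together with the multiples of e span all quintic forms), so that P^1 → P(V^*) = P^4 is a closed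
embedding with nondegenerate image; the linear forms on P^4 are the elements of V, a line L ⊂ P^4 is
recorded by the 3-dimensional space of linear forms vanishing on it, and L ∩ C has length at least 3
exactly when that space consists of the multiples g · K[s,t]_2 of a cubic form g. The conclusion: a
nonzero cubic g with g · K[s,t]_2 ⊆ V exists and is unique up to a scalar. (That such a line meets C
in length exactly 3, i.e. is not 4-secant, is immediate in this description and is not restated; the
ground field is algebraically closed of characteristic zero in place of the complex numbers.) -/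
theorem result (K : Type u) [Field K] [IsAlgClosed K]
    [CharZero K] (V : Submodule K (MvPolynomial (Fin 2) K))
    (hV : V ≤ MvPolynomial.homogeneousSubmodule (Fin 2) K 5) (hdim : Module.finrank K ↥V = 5)
    (hsep : ∀ e ∈ MvPolynomial.homogeneousSubmodule (Fin 2) K 2, e ≠ 0 →
      ∀ F ∈ MvPolynomial.homogeneousSubmodule (Fin 2) K 5, ∃ v ∈ V,
        ∃ h ∈ MvPolynomial.homogeneousSubmodule (Fin 2) K 3, F = v + e * h) :
    ∃ g ∈ MvPolynomial.homogeneousSubmodule (Fin 2) K 3, g ≠ 0 ∧
      (∀ h ∈ MvPolynomial.homogeneousSubmodule (Fin 2) K 2, g * h ∈ V) ∧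
      ∀ g' ∈ MvPolynomial.homogeneousSubmodule (Fin 2) K 3,
        (∀ h ∈ MvPolynomial.homogeneousSubmodule (Fin 2) K 2, g' * h ∈ V) → ∃ c : K, g' = c • g := by
  set S5 := MvPolynomial.homogeneousSubmodule (Fin 2) K 5
  haveI := Groth.Agent.BinFormH28.finite_forms K 5
  haveI := Groth.Agent.BinFormH28.finite_forms K 3
  haveI := Groth.Agent.BinFormH28.finite_forms K 2
  let V' : Submodule K S5 := V.comap S5.subtype
  have hV' : Module.finrank K V' = 5 := (Submodule.comapSubtypeEquivOfLe hV).finrank_eq.trans hdim
  have hquot : Module.finrank K (S5 ⧸ V') = 1 := by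
    have := V'.finrank_quotient_add_finrank
    rw [hV', Groth.Agent.BinFormH28.finrank_forms] at this
    omega
  let ε : (S5 ⧸ V') ≃ₗ[K] K := LinearEquiv.ofFinrankEq _ _ (by rw [hquot, Module.finrank_self])
  let T := (Groth.Agent.BinFormH28.mulForms K 3 2 5 rfl).compr₂ (ε.toLinearMap ∘ₗ V'.mkQ)
  -- `T : S3 → dual S2`; its flip is injective by the separation hypothesis
  have hinj : Function.Injective T.flip := by
    rw [injective_iff_map_eq_zero]
    intro e he
    by_contra hne
    obtain ⟨F, hF⟩ : ∃ F : S5, F ∉ V' := by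
      by_contra hc; push Not at hc
      have : V' = ⊤ := eq_top_iff.2 fun x _ => hc x
      rw [this, finrank_top, Groth.Agent.BinFormH28.finrank_forms] at hV'
      omega
    obtain ⟨v, hv, h, hh, hFe⟩ := hsep e.1 e.2 (fun h => hne (Subtype.ext h)) F.1 F.2
    refine hF ?_
    have h1 := LinearMap.congr_fun he ⟨h, hh⟩
    have h2 : (Groth.Agent.BinFormH28.mulForms K 3 2 5 rfl ⟨h, hh⟩ e) ∈ V' := by
      rw [← Submodule.Quotient.mk_eq_zero, ← Submodule.mkQ_apply]
      exact ε.map_eq_zero_iff.1 h1
    show (F : MvPolynomial (Fin 2) K) ∈ V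
    rw [hFe, mul_comm]
    exact V.add_mem hv h2
  have hsurj : Function.Surjective T := by
    rw [← LinearMap.range_eq_top]
    refine Submodule.eq_top_of_finrank_eq ?_
    by_contra hne
    have hlt : LinearMap.range T < ⊤ := lt_top_iff_ne_top.2 fun h => hne (by rw [h, finrank_top])
    obtain ⟨φ, hφ, hφT⟩ := Submodule.exists_dual_map_eq_bot_of_lt_top hlt inferInstance
    obtain ⟨e, rfl⟩ := (Module.evalEquiv K (MvPolynomial.homogeneousSubmodule (Fin 2) K 2)).surjective φ
    refine hφ ?_
    have : e = 0 := hinj (by
      refine (LinearMap.ext fun g => ?_).trans (map_zero _).symm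
      have := Submodule.mem_map_of_mem (f := (Module.evalEquiv K _) e) (LinearMap.mem_range_self T g)
      rw [hφT, Submodule.mem_bot] at this
      simpa using this)
    rw [this, map_zero]
  have hker : Module.finrank K (LinearMap.ker T) = 1 := by
    have h1 := T.finrank_range_add_finrank_ker
    rw [LinearMap.range_eq_top.2 hsurj, finrank_top, Subspace.dual_finrank_eq, Groth.Agent.BinFormH28.finrank_forms, Groth.Agent.BinFormH28.finrank_forms] at h1
    omega
  have hmem : ∀ g : MvPolynomial.homogeneousSubmodule (Fin 2) K 3, g ∈ LinearMap.ker T ↔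
      ∀ h ∈ MvPolynomial.homogeneousSubmodule (Fin 2) K 2, g.1 * h ∈ V := by
    intro g
    rw [LinearMap.mem_ker]
    constructor
    · intro hg h hh
      exact (Submodule.Quotient.mk_eq_zero V').1 (ε.map_eq_zero_iff.1 (LinearMap.congr_fun hg ⟨h, hh⟩))
    · intro hg
      refine LinearMap.ext fun h => ?_
      exact ε.map_eq_zero_iff.2 ((Submodule.Quotient.mk_eq_zero V').2 (hg h.1 h.2))
  have hgen' : ∀ L : Submodule K (MvPolynomial.homogeneousSubmodule (Fin 2) K 3), Module.finrank K L = 1 →
      ∃ g : L, g ≠ 0 ∧ ∀ w : L, ∃ c : K, c • g = w := fun L hL => by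
    haveI : Nontrivial L := Module.nontrivial_of_finrank_eq_succ hL
    obtain ⟨g, hg⟩ := exists_ne (0 : L)
    refine ⟨g, hg, fun w => ?_⟩
    have hs : Submodule.span K {g.1} = L := by
      haveI := Groth.Agent.BinFormH28.finite_forms K 3
      refine Submodule.eq_of_le_of_finrank_eq ((Submodule.span_singleton_le_iff_mem _ _).2 g.2) ?_
      rw [finrank_span_singleton (fun h => hg (Subtype.ext h)), hL]
    have hw : w.1 ∈ Submodule.span K {g.1} := by rw [hs]; exact w.2
    obtain ⟨c, hc⟩ := Submodule.mem_span_singleton.1 hw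
    exact ⟨c, Subtype.ext hc⟩
  obtain ⟨g, hg0, hgen⟩ := hgen' _ hker
  refine ⟨g.1.1, g.1.2, fun h => hg0 (Subtype.ext (Subtype.ext h)), (hmem g.1).1 g.2, fun g' hg' hg'V => ?_⟩
  obtain ⟨c, hc⟩ := hgen ⟨⟨g', hg'⟩, (hmem ⟨g', hg'⟩).2 hg'V⟩
  exact ⟨c, (congrArg (fun x : LinearMap.ker T => x.1.1) hc).symm⟩

end Groth.Agent.S16516
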