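import Groth.Statements.S16517
import Groth.Statements.S16518
import Groth.Agent.Lib.LiaisonFlat2.Basic
import Mathlib

set_option autoImplicit false
universe u
open CAlg

namespace Groth.Agent.S16517

open Groth.Agent IsLocalRing

/-- Let R be a regular local ring, A a Gorenstein local ring which is a flat R-algebra through a local
homomorphism, I ⊂ A an ideal of codimension zero (the Krull dimension of A/I equals that of A) with
A/I Cohen–Macaulay, and J = (0 : I) the annihilator of I in A (the ideal of the residual subscheme).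
Then A/I and A/J are flat over R. -/
theorem result (R A : Type u)
    [CommRing R] [IsRegularLocalRing R] [CommRing A] [Algebra R A] [LocCoh.IsGorensteinLocalRing A]
    [IsLocalHom (algebraMap R A)] [Module.Flat R A] (I : Ideal A)
    (hI : ringKrullDim (A ⧸ I) = ringKrullDim A) [LocCoh.IsCohenMacaulayLocalRing (A ⧸ I)] :
    Module.Flat R (A ⧸ I) ∧ Module.Flat R (A ⧸ (Submodule.annihilator I)) := by
  obtain ⟨d, hd⟩ := LiaisonH1.exists_dim A
  have hdep := LiaisonFlat2.depth_quot (I := I) hd hI
  have hIne : I ≠ ⊤ := fun h => not_subsingleton (A ⧸ I) (Ideal.Quotient.subsingleton_iff.2 h)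
  refine ⟨LiaisonFlat2.flat_quot hIne hd hdep, ?_⟩
  rw [LiaisonFlat2.annihilator_eq]
  by_cases hJ : (⊥ : Ideal A).colon (I : Set A) = ⊤
  · haveI : Subsingleton (A ⧸ (⊥ : Ideal A).colon (I : Set A)) := Ideal.Quotient.subsingleton_iff.2 hJ
    infer_instance
  · exact LiaisonFlat2.flat_quot hJ hd (LiaisonH1.depth_colon d A I hd hdep)

end Groth.Agent.S16517
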