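import Groth.Statements.S16518
import Groth.Statements.S16517
import Groth.Agent.Lib.LiaisonFlat2.Basic
import Mathlib

set_option autoImplicit false
universe u
open CAlg

namespace Groth.Agent.S16518

open Groth.Agent IsLocalRing

/-- Let R be a Noetherian local ring, A a Gorenstein local ring which is a flat R-algebra through a
local homomorphism, I ⊂ A an ideal of codimension zero (the Krull dimension of A/I equals that of A)
with A/I Cohen–Macaulay, and J = (0 : I) its annihilator. For every R-regular sequence r_1, …, r_n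
generating an ideal 𝔯 of R, the module J/𝔯J is the annihilator of the image of I in A/𝔯A: the
natural map J/𝔯J → A/𝔯A is injective (J ∩ 𝔯A = 𝔯J) with image the ideal quotient (𝔯A : I) modulo 𝔯A
(J + 𝔯A = (𝔯A : I)). -/
theorem result (R A : Type u)
    [CommRing R] [IsNoetherianRing R] [IsLocalRing R] [CommRing A] [Algebra R A]
    [LocCoh.IsGorensteinLocalRing A] [IsLocalHom (algebraMap R A)] [Module.Flat R A] (I : Ideal A)
    (hI : ringKrullDim (A ⧸ I) = ringKrullDim A) [LocCoh.IsCohenMacaulayLocalRing (A ⧸ I)]
    (rs : List R) (hrs : RingTheory.Sequence.IsRegular R rs) :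
    Submodule.annihilator I ⊔ (Ideal.ofList rs).map (algebraMap R A) =
        Submodule.colon ((Ideal.ofList rs).map (algebraMap R A)) (I : Set A) ∧
      Submodule.annihilator I ⊓ (Ideal.ofList rs).map (algebraMap R A) =
        (Ideal.ofList rs).map (algebraMap R A) * Submodule.annihilator I := by
  obtain ⟨d, hd⟩ := LiaisonH1.exists_dim A
  have hdep := LiaisonFlat2.depth_quot (I := I) hd hI
  have hIne : I ≠ ⊤ := fun h => not_subsingleton (A ⧸ I) (Ideal.Quotient.subsingleton_iff.2 h)
  have hne : Ideal.ofList rs ≠ ⊤ := fun h => hrs.top_ne_smul (by rw [h, Submodule.top_smul])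
  have hmem : ∀ y ∈ rs.map (algebraMap R A), y ∈ maximalIdeal A := by
    intro y hy
    obtain ⟨r, hr, rfl⟩ := List.mem_map.1 hy
    exact map_nonunit _ r (le_maximalIdeal hne (Ideal.subset_span hr))
  obtain ⟨h1, h2⟩ := LiaisonFlat2.colon_ofList _ A (rs.map (algebraMap R A)) rfl I d hIne hd hdep
    hrs.toIsWeaklyRegular.of_flat hmem
  rw [LiaisonFlat2.annihilator_eq, Ideal.map_ofList]
  exact ⟨h1.symm, le_antisymm h2 (le_inf Ideal.mul_le_right Ideal.mul_le_left)⟩

end Groth.Agent.S16518
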