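import Groth.Statements.S16519
import Mathlib.Tactic
import Mathlib.Data.Set.Card
import Mathlib.Algebra.BigOperators.Fin
import Mathlib.Algebra.Order.Chebyshev
import Mathlib.Analysis.Calculus.ContDiff.Deriv
import Mathlib.Analysis.Calculus.ParametricIntervalIntegral
import Mathlib.MeasureTheory.Integral.IntervalIntegral.FundThmCalculus
import Mathlib.RingTheory.Polynomial.Pochhammer
import Mathlib.Algebra.Algebra.Rat
import Mathlib.RingTheory.TensorProduct.Basic
import Mathlib.RingTheory.Localization.BaseChange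
import Mathlib.RingTheory.Flat.TorsionFree
import Mathlib.RingTheory.MvPolynomial.Basic
import Mathlib.RingTheory.Ideal.Quotient.Operations
import Mathlib.RingTheory.LocalRing.Basic
import Mathlib.Algebra.CharP.Lemmas

set_option autoImplicit false
open CubicSurf

namespace Groth.Agent.S16519

/-- Integer vectors of length `n` with entries in `[-4, 4]`, given sum and sum of squares. -/
def cubicSurfSols : ℕ → ℤ → ℤ → List (List ℤ)
  | 0, s, q => if s = 0 ∧ q = 0 then [[]] else []
  | n + 1, s, q => if ((n : ℤ) + 1) * q < s * s then [] else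
      ([-4, -3, -2, -1, 0, 1, 2, 3, 4] : List ℤ).flatMap fun b =>
        (cubicSurfSols n (s - b) (q - b * b)).map (b :: ·)

theorem cubicSurfSols_sound : ∀ (n : ℕ) (s q : ℤ) (l : List ℤ), l ∈ cubicSurfSols n s q →
    ∃ v : Fin n → ℤ, List.ofFn v = l ∧ ∑ i, v i = s ∧ ∑ i, v i ^ 2 = q := by
  intro n
  induction n with
  | zero =>
    intro s q l h
    simp only [cubicSurfSols] at h
    split_ifs at h with h1
    · simp only [List.mem_singleton] at h
      exact ⟨Fin.elim0, by simp [h], by simp [h1.1], by simp [h1.2]⟩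
    · simp at h
  | succ n ih =>
    intro s q l h
    simp only [cubicSurfSols] at h
    split_ifs at h with h1
    · simp at h
    · rw [List.mem_flatMap] at h
      obtain ⟨b, -, h⟩ := h
      rw [List.mem_map] at h
      obtain ⟨m, hm, rfl⟩ := h
      obtain ⟨v, hv, hvs, hvq⟩ := ih _ _ _ hm
      refine ⟨Fin.cons b v, ?_, ?_, ?_⟩
      · rw [List.ofFn_succ]; simp [hv]
      · rw [Fin.sum_univ_succ]; simp [hvs]
      · rw [Fin.sum_univ_succ]; simp [hvq]; ring

theorem cubicSurfSols_complete : ∀ (n : ℕ) (v : Fin n → ℤ), (∀ i, -4 ≤ v i ∧ v i ≤ 4) →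
    List.ofFn v ∈ cubicSurfSols n (∑ i, v i) (∑ i, v i ^ 2) := by
  intro n
  induction n with
  | zero => intro v _; simp [cubicSurfSols]
  | succ n ih =>
    intro v hv
    simp only [cubicSurfSols]
    have h1 := sq_sum_le_card_mul_sum_sq (s := (Finset.univ : Finset (Fin (n + 1)))) (f := v)
    simp only [Finset.card_univ, Fintype.card_fin, Nat.cast_add, Nat.cast_one] at h1
    rw [if_neg (by rw [← pow_two]; push_cast; linarith), List.mem_flatMap]
    refine ⟨v 0, ?_, ?_⟩
    · obtain ⟨a, b⟩ := hv 0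
      interval_cases (v 0) <;> simp
    · rw [List.mem_map]
      refine ⟨List.ofFn fun i : Fin n => v i.succ, ?_, by rw [List.ofFn_succ]⟩
      convert ih (fun i => v i.succ) (fun i => hv i.succ) using 2
      · rw [Fin.sum_univ_succ]; ring
      · rw [Fin.sum_univ_succ]; ring


/-- On a smooth cubic surface there are exactly 72 divisor classes L with L² = 1 and L · K = −3. Stated
in the lattice ℤ^{1,6} with basis l, e_1, …, e_6 (l² = 1, e_i² = −1, K = −3l + Σ e_i): the integer
vectors (a, b) ∈ ℤ × ℤ^6, standing for a·l − Σ b_i e_i, with 3a − Σ b_i = 3 and a² − Σ b_i² = 1 form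
a set of exactly 72 elements. -/
theorem result :
    {p : ℤ × (Fin 6 → ℤ) | 3 * p.1 - (Finset.univ.sum fun i => p.2 i) = 3 ∧
        p.1 ^ 2 - (Finset.univ.sum fun i => p.2 i ^ 2) = 1}.ncard = 72 := by
  let enc : ℤ × (Fin 6 → ℤ) → List ℤ := fun p => p.1 :: List.ofFn p.2
  have henc : Function.Injective enc := fun p p' h => by
    simp only [enc, List.cons.injEq] at h
    exact Prod.ext h.1 (List.ofFn_injective h.2)
  let L : List (List ℤ) := ([1, 2, 3, 4, 5] : List ℤ).flatMap fun a =>
    (cubicSurfSols 6 (3 * a - 3) (a * a - 1)).map (a :: ·)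
  rw [← Set.ncard_image_of_injective _ henc]
  have himg : enc '' {p : ℤ × (Fin 6 → ℤ) | 3 * p.1 - (Finset.univ.sum fun i => p.2 i) = 3 ∧
        p.1 ^ 2 - (Finset.univ.sum fun i => p.2 i ^ 2) = 1} = ↑L.toFinset := by
    ext l
    simp only [Set.mem_image, Set.mem_setOf_eq, List.coe_toFinset, L, List.mem_flatMap, List.mem_map, enc]
    constructor
    · rintro ⟨⟨a, v⟩, ⟨h1, h2⟩, rfl⟩
      simp only at h1 h2 ⊢
      have hc := sq_sum_le_card_mul_sum_sq (s := (Finset.univ : Finset (Fin 6))) (f := v)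
      simp only [Finset.card_univ, Fintype.card_fin, Nat.cast_ofNat] at hc
      have hs : ∑ i, v i = 3 * a - 3 := by linarith
      have hq : ∑ i, v i ^ 2 = a ^ 2 - 1 := by linarith
      rw [hs, hq] at hc
      have ha : 1 ≤ a ∧ a ≤ 5 := by constructor <;> nlinarith
      refine ⟨a, ?_, List.ofFn v, ?_, rfl⟩
      · obtain ⟨p1, p2⟩ := ha
        interval_cases a <;> simp
      · rw [← hs, show a * a - 1 = ∑ i, v i ^ 2 by rw [hq]; ring]
        refine cubicSurfSols_complete 6 v fun i => ?_
        have : v i ^ 2 ≤ ∑ j, v j ^ 2 := Finset.single_le_sum (f := fun j => v j ^ 2) (fun j _ => sq_nonneg _) (Finset.mem_univ i)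
        constructor <;> nlinarith
    · rintro ⟨a, -, m, hm, rfl⟩
      obtain ⟨v, hv, hs, hq⟩ := cubicSurfSols_sound _ _ _ _ hm
      refine ⟨(a, v), ⟨?_, ?_⟩, by rw [hv]⟩
      · rw [hs]; ring
      · rw [hq]; ring
  rw [himg, Set.ncard_coe_finset, List.toFinset_card_of_nodup] <;> decide +kernel

end Groth.Agent.S16519
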