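import Groth.Statements.S1652
import Groth.Agent.Lib.CurveAmple18.Basic

set_option autoImplicit false
universe u
open CategoryTheory CategoryTheory.Limits AlgebraicGeometry
open Variety

namespace Groth.Agent.S1652

/-- On a proper curve over a field, if L and M are invertible modules with L ⊗ M ≅ O_X and both L and M
have a nonzero global section, then L is isomorphic to the structure sheaf. -/
theorem result (k : Type u) [Field k] (X : Scheme.{u}) [X.Over (Spec (CommRingCat.of k))]
    [IsIntegral X] [IsProper (X ↘ (Spec (CommRingCat.of k)))] (hdim : topologicalKrullDim X = 1)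
    (L M : X.Modules) (hL : PicF.IsInvertible L) (hM : PicF.IsInvertible M) (hLM : ClSub.IsInverseOf L M)
    (s : Coh.structureModule X ⟶ L) (hs : s ≠ 0) (t : Coh.structureModule X ⟶ M) (ht : t ≠ 0) :
    Nonempty (L ≅ Coh.structureModule X) := by
  have hX := Groth.Agent.CurveAmple18.curveLike k X hdim.le
  haveI := hX.noetherian
  have hnt : ∀ {N : X.Modules} {φ : Coh.structureModule X ⟶ N}, φ ≠ 0 → Nontrivial (Coh.HH X N 0) :=
    fun {N φ} h => nontrivial_of_ne ((Groth.Agent.CurveCoh17.hh0 N).symm (Groth.Agent.Amp.gval φ)) 0 fun h0 =>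
      Groth.Agent.CurveAmple18.gval_ne_zero h (by
        have h1 := congrArg (Groth.Agent.CurveCoh17.hh0 N) h0
        rwa [AddEquiv.apply_symm_apply, map_zero] at h1)
  obtain ⟨e⟩ := hLM
  have hd := hX.deg_of_tensor_iso hL hM e
  have h1 := hX.deg_nonneg (Groth.Agent.CurveCoh17.rkOne_of_invertible hdim.le hL) (hnt hs)
  have h2 := hX.deg_nonneg (Groth.Agent.CurveCoh17.rkOne_of_invertible hdim.le hM) (hnt ht)
  exact h1.2 (by omega)

end Groth.Agent.S1652
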