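import Groth.Statements.S16520
import Groth.Agent.Lib.GenusFF17.Sum
import Groth.Agent.Lib.CurveOm17.DoubleCover
import Groth.Agent.Lib.CurveCoh17.Pencil2
import Groth.Agent.S7797
import Groth.Agent.S7640
import Groth.Agent.Lib.FiltNeg17.Main
-- import your own Groth.Agent.* helpers here

set_option autoImplicit false
universe u
open CategoryTheory CategoryTheory.Limits AlgebraicGeometry
open Curves

set_option linter.style.haveILetI false
set_option maxHeartbeats 1600000
open CategoryTheory CategoryTheory.Limits AlgebraicGeometry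
open Groth.Agent.M1 Groth.Agent.M2 Groth.Agent.CurveCoh17 Groth.Agent.VB17 Groth.Agent.CurveOm17 Groth.Agent.P1Split

namespace Groth.Agent.S16520

/-- Let E be an elliptic curve over an algebraically closed field k of characteristic zero (in place of
the complex numbers): smooth, proper and geometrically connected over k, of dimension one and genus
dim_k H^1(E, O_E) = 1; let π : E → P^1_k be a k-morphism which is finite and flat of constant rank
2, and L an invertible O_E-module of degree d = χ(L) − χ(O_E). If d = 2e + 1 then π_*L ≅ O(e) ⊕ O(e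
− 1); if d = 2e and L ≅ π^*O(e) then π_*L ≅ O(e) ⊕ O(e − 2); if d = 2e and L is not isomorphic to
π^*O(e) then π_*L ≅ O(e − 1) ⊕ O(e − 1). (Existence of isomorphisms of O-modules on P^1_k; the
source states the isomorphisms abstractly.) -/
theorem result (k : Type u) [Field k]
    [IsAlgClosed k] [CharZero k] (E : Scheme.{u}) [E.Over (Spec (CommRingCat.of k))] [IsProper (E ↘ Spec (CommRingCat.of k))]
    [Smooth (E ↘ Spec (CommRingCat.of k))] [GeometricallyConnected (E ↘ Spec (CommRingCat.of k))]
    (hE : topologicalKrullDim E = 1) (hg : Curv2.genus k E = 1)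
    (π : E ⟶ CohB1.ProjSpace 1 k) (hπ : π ≫ CohB1.ProjSpace.toSpec 1 k = E ↘ Spec (CommRingCat.of k))
    [IsFinite π] [Flat π] (hrk : ∀ y : ↥(CohB1.ProjSpace 1 k), Scheme.Hom.finrank π y = 2)
    (L : E.Modules) (hL : PicF.IsInvertible L) (d : ℤ) (hd : Curv2.deg k E L 1 = d) :
    (∀ e : ℤ, d = 2 * e + 1 → Nonempty ((Scheme.Modules.pushforward π).obj L ≅
        ∐ fun j : Fin 2 => Twist.twistProjSpace 1 k (![e, e - 1] j))) ∧
    (∀ e : ℤ, d = 2 * e → Nonempty (L ≅ (Scheme.Modules.pullback π).obj (Twist.twistProjSpace 1 k e)) →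
        Nonempty ((Scheme.Modules.pushforward π).obj L ≅
          ∐ fun j : Fin 2 => Twist.twistProjSpace 1 k (![e, e - 2] j))) ∧
    (∀ e : ℤ, d = 2 * e → IsEmpty (L ≅ (Scheme.Modules.pullback π).obj (Twist.twistProjSpace 1 k e)) →
        Nonempty ((Scheme.Modules.pushforward π).obj L ≅
          ∐ fun j : Fin 2 => Twist.twistProjSpace 1 k (![e - 1, e - 1] j))) := by
  classical
  letI : (CohB1.ProjSpace 1 k).Over (Spec (CommRingCat.of k)) := ⟨CohB1.ProjSpace.toSpec 1 k⟩
  haveI := RegExt.isIntegral_projSpace 1 k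
  haveI : IsProper ((CohB1.ProjSpace 1 k) ↘ Spec (CommRingCat.of k)) := ProjSpace.isProper_toSpec 1 k
  haveI : Smooth ((CohB1.ProjSpace 1 k) ↘ Spec (CommRingCat.of k)) := ProjSpace.smooth_toSpec 1 k
  have hdimY : topologicalKrullDim (CohB1.ProjSpace 1 k) = 1 := by rw [Groth.Agent.S10829.result k 1]; rfl
  haveI := isIntegral_of_smooth (k := k) (X := E)
  have hX := VB17.regCurve' (k := k) (X := E) hE
  have hY := VB17.regCurve' (k := k) (X := CohB1.ProjSpace 1 k) hdimY
  haveI := hY.like.noetherian
  obtain ⟨hξ, hres, hpO⟩ := CurveOm17.isFinLocFreeOfRank_two k hE hdimY π hrk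
  haveI : LocallyOfFinitePresentation π := {
    finitePresentation_appLE := fun {U} hU {V} hV le =>
      haveI := IsLocallyNoetherian.component_noetherian (X := CohB1.ProjSpace 1 k) ⟨U, hU⟩
      RingHom.FinitePresentation.of_finiteType.mp (π.finiteType_appLE hU hV le) }
  have hP : FlatMod.IsFinLocFreeOfRank 2 ((Scheme.Modules.pushforward π).obj L) :=
    CurveOm17.isFinLocFreeOfRank_pushW π hL hpO
  obtain ⟨a, ⟨ha, ⟨φ⟩⟩, -⟩ := Groth.Agent.S7797.result k 2 _ hP
  let G : Fin 2 → (CohB1.ProjSpace 1 k).Modules := fun i => _root_.Twist.twistProjSpace 1 k (a i)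
  have hTw : ∀ m : ℤ, FlatMod.IsFinLocFreeOfRank 1 (_root_.Twist.twistProjSpace 1 k m) := fun m =>
    (isInvertible_iff_isFinLocFreeOfRank_one _).1 (Groth.Agent.Twist.isInvertible_twistProjSpace 1 k m)
  have hdT : ∀ m : ℤ, Curv2.deg k (CohB1.ProjSpace 1 k) (_root_.Twist.twistProjSpace 1 k m) 1 = m := fun m => by
    haveI : ConnectedSpace (CohB1.ProjSpace 1 k) := inferInstance
    rw [Curv2.deg, GenusFF17.euler_twist, hY.like.euler_structureModule, h0_one_of_smooth, genus_P1]
    simp
  have hL1 : FlatMod.IsFinLocFreeOfRank 1 L := (isInvertible_iff_isFinLocFreeOfRank_one _).1 hL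
  have hpT : ∀ m : ℤ, FlatMod.IsFinLocFreeOfRank 1 ((Scheme.Modules.pullback π).obj (_root_.Twist.twistProjSpace 1 k m)) :=
    fun m => isFinLocFreeOfRank_pullback π (hTw m)
  have hdpT : ∀ m : ℤ, Curv2.deg k E ((Scheme.Modules.pullback π).obj (_root_.Twist.twistProjSpace 1 k m)) 1 = 2 * m :=
    fun m => by
      rw [Groth.Agent.S7640.result k E (CohB1.ProjSpace 1 k) hE hdimY π hπ hξ 1 _ (hTw m), hres, hdT]
      rfl
  have hST : ∀ {Z : Scheme.{u}} [Z.Over (Spec (CommRingCat.of k))] (M : Z.Modules), ST k M 1 :=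
    fun M G r' j _ h0 h1 _ => absurd h1 (by omega)
  -- each summand gives a map from a pulled back twist
  let adj := Scheme.Modules.pullbackPushforwardAdjunction π
  have hbound : ∀ i, 2 * a i ≤ d ∧ (2 * a i = d → Nonempty (L ≅ (Scheme.Modules.pullback π).obj (_root_.Twist.twistProjSpace 1 k (a i)))) := fun i => by
    let g : _root_.Twist.twistProjSpace 1 k (a i) ⟶ (Scheme.Modules.pushforward π).obj L := Sigma.ι G i ≫ φ.inv
    have hg : g ≠ 0 := fun h0 => by
      have h1 : Sigma.ι G i = 0 := by rw [← cancel_mono φ.inv, zero_comp]; exact h0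
      have h2 : 𝟙 (G i) = 0 := by rw [← ι_proj_self G i, h1, zero_comp]
      have h3 := finrank_stalk (hTw (a i)) (genericPoint (CohB1.ProjSpace 1 k))
      have hz : IsZero (G i) := (IsZero.iff_id_eq_zero _).2 h2
      haveI : Subsingleton ((G i).presheaf.stalk (genericPoint (CohB1.ProjSpace 1 k))) :=
        subsingleton_of_forall_eq 0 fun x => by
          have h4 := congrArg (fun t => stalkLin t (genericPoint (CohB1.ProjSpace 1 k)) x) h2
          simpa [FiltNeg17.stalkLin_id, FiltNeg17.stalkLin_zero] using h4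
      rw [Module.finrank_zero_of_subsingleton] at h3
      exact zero_ne_one h3
    let h := (adj.homEquiv _ _).symm g
    have hh : h ≠ 0 := fun h0 => hg (by
      have := congrArg (adj.homEquiv _ _) h0
      rw [Equiv.apply_symm_apply] at this
      rw [this, adj.homEquiv_unit, Functor.map_zero, comp_zero])
    refine ⟨?_, fun heq => ?_⟩
    · by_contra hlt
      refine hh (hom_eq_zero_of_slope_gt hX one_pos one_pos (hpT _) hL1 (ss_of_st hX (hpT _) (hST _))
        (ss_of_st hX hL1 (hST _)) ?_ h)
      rw [hdpT, hd]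
      push_cast
      omega
    · haveI := isIso_of_st_st hX one_pos one_pos (hpT _) hL1 (hST _) (hST _) (by rw [hdpT, hd, heq]) h hh
      exact ⟨(asIso h).symm⟩
  have hsum : a 0 + a 1 = d - 2 := by
    have h0 : Curv2.euler k E L = d := by
      have h1 : Curv2.euler k E (Coh.structureModule E) = 0 := by
        haveI : ConnectedSpace E := inferInstance
        rw [hX.like.euler_structureModule, h0_one_of_smooth, hg]
        simp
      rw [← hd, Curv2.deg, h1]
      simp
    have h2 := AmpleFin18.euler_push π hπ L (M1.isFP_isQCoh (M1.isFP_of_isFinLocFree (M2.isFinLocFree_of_ofRank hL1)))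
    have h3 : Curv2.euler k (CohB1.ProjSpace 1 k) (∐ G) = ∑ i, (a i + 1) :=
      (GenusFF17.adm_coprod 2 G (fun i => a i + 1) (fun i => HypEq17.adm_twist (k := k) (a i))
        (fun i => GenusFF17.euler_twist (a i))).2
    rw [← euler_iso φ.symm, h3, h0, Fin.sum_univ_two] at h2
    omega
  have ha01 : a 1 ≤ a 0 := ha (by decide)
  have hb0 := hbound 0
  refine ⟨fun e he => ?_, fun e he hiso => ?_, fun e he hno => ?_⟩
  · have : a = ![e, e - 1] := by
      funext i; fin_cases i
      · show a 0 = e; omega
      · show a 1 = e - 1; omega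
    exact this ▸ ⟨φ⟩
  · obtain ⟨iL⟩ := hiso
    have hmax : e ≤ a 0 := by
      by_contra hlt
      let g : _root_.Twist.twistProjSpace 1 k e ⟶ (Scheme.Modules.pushforward π).obj L := adj.homEquiv _ _ iL.inv
      have hg0 : g ≠ 0 := fun h0 => by
        have h1 : iL.inv = 0 := by
          refine (adj.homEquiv _ _).injective (h0.trans ?_)
          rw [adj.homEquiv_unit, Functor.map_zero, comp_zero]
        have h2 : 𝟙 L = 0 := by rw [← iL.hom_inv_id, h1, comp_zero]
        have h3 := finrank_stalk hL1 (genericPoint E)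
        haveI : Subsingleton (L.presheaf.stalk (genericPoint E)) :=
          subsingleton_of_forall_eq 0 fun x => by
            have h4 := congrArg (fun t => stalkLin t (genericPoint E) x) h2
            simpa [FiltNeg17.stalkLin_id, FiltNeg17.stalkLin_zero] using h4
        rw [Module.finrank_zero_of_subsingleton] at h3
        exact zero_ne_one h3
      have hz : ∀ i, g ≫ φ.hom ≫ proj G i = 0 := fun i => by
        refine hom_eq_zero_of_slope_gt hY one_pos one_pos (hTw e) (hTw (a i)) (ss_of_st hY (hTw e) (hST _))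
          (ss_of_st hY (hTw (a i)) (hST _)) ?_ _
        rw [hdT, hdT]
        have : a i ≤ a 0 := ha (Fin.zero_le i)
        push_cast
        omega
      refine hg0 ?_
      rw [← cancel_mono φ.hom, zero_comp, ← Category.comp_id (g ≫ φ.hom), ← sum_proj_ι G, Preadditive.comp_sum]
      refine Finset.sum_eq_zero fun i _ => ?_
      rw [← Category.assoc, Category.assoc g, hz i, zero_comp]
    have : a = ![e, e - 2] := by
      funext i; fin_cases i
      · show a 0 = e; omega
      · show a 1 = e - 2; omega
    exact this ▸ ⟨φ⟩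
  · have hne : a 0 ≠ e := fun h0 => hno.elim ((hb0.2 (by omega)).some ≪≫ eqToIso (by rw [h0]))
    have : a = ![e - 1, e - 1] := by
      funext i; fin_cases i
      · show a 0 = e - 1; omega
      · show a 1 = e - 1; omega
    exact this ▸ ⟨φ⟩

end Groth.Agent.S16520
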