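import Groth.Statements.S1653
import Groth.Agent.Lib.FibDim14.Semicont
import Groth.Agent.Lib.VarDim.Scheme

set_option autoImplicit false
universe u
open CategoryTheory CategoryTheory.Limits AlgebraicGeometry
open Variety

namespace Groth.Agent.S1653

/-- Let f : X → Y be a k-morphism of schemes locally of finite type over a field k, with X irreducible
of dimension a, and let the closure of the image of f have dimension b. Then the local fibre
dimension of f at every point of X is at least a - b, and the set of points where it equals a - b is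
open and dense. -/
theorem result (k : Type u) [Field k] (X Y : Scheme.{u}) [X.Over (Spec (CommRingCat.of k))] [Y.Over (Spec (CommRingCat.of k))]
    [LocallyOfFiniteType (X ↘ (Spec (CommRingCat.of k)))] [LocallyOfFiniteType (Y ↘ (Spec (CommRingCat.of k)))] [IrreducibleSpace X]
    (f : X ⟶ Y) (hf : f ≫ (Y ↘ (Spec (CommRingCat.of k))) = X ↘ (Spec (CommRingCat.of k))) (a b : ℕ) (ha : topologicalKrullDim X = a)
    (hb : topologicalKrullDim (closure (Set.range f.base)) = b) :
    (∀ x : X, ((a - b : ℕ) : WithBot ℕ∞) ≤ FlatMor.fibreDimAt f x) ∧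
      IsOpen {x : X | FlatMor.fibreDimAt f x = (a - b : ℕ)} ∧ Dense {x : X | FlatMor.fibreDimAt f x = (a - b : ℕ)} := by
  set p := X ↘ (Spec (CommRingCat.of k))
  set q := Y ↘ (Spec (CommRingCat.of k))
  haveI : LocallyOfFiniteType f := by
    haveI : LocallyOfFiniteType (f ≫ q) := hf ▸ inferInstance
    exact locallyOfFiniteType_of_comp f q
  let η := genericPoint X
  have hη : ∀ y : X, η ⤳ y := fun y => (genericPoint_spec X).specializes trivial
  have hea : Groth.Agent.VarDim.sdim p η = a := by
    have := Groth.Agent.VarDim.dim_eq_sdim_genericPoint (f := p)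
    rw [ha] at this
    exact_mod_cast this.symm
  have hgen : IsGenericPoint (f η) (closure (Set.range f.base)) := by
    have := (genericPoint_spec X).image f.continuous
    rwa [Set.image_univ] at this
  have heb : Groth.Agent.VarDim.sdim q (f η) = b := by
    have := Groth.Agent.VarDim.dim_closure_singleton (f := q) (f η)
    rw [hgen.def, hb] at this
    exact_mod_cast this.symm
  have hrd : Groth.Agent.FibDim14.rd f η = a - b := by
    have h : Groth.Agent.VarDim.sdim (f ≫ q) η =
        Groth.Agent.VarDim.sdim q (f η) + Groth.Agent.FibDim14.rd f η :=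
      Groth.Agent.VarDim.sdim_comp_eq q f η
    simp only [hf, hea, heb] at h
    omega
  have hfη : FlatMor.fibreDimAt f η = ((a - b : ℕ) : WithBot ℕ∞) := by
    obtain ⟨y, hy, -, hd, -⟩ := Groth.Agent.FibDim14.exists_fibreDimAt_eq f η
    rw [hd, (hy.antisymm (hη y)).eq, hrd]
  have hge : ∀ x : X, ((a - b : ℕ) : WithBot ℕ∞) ≤ FlatMor.fibreDimAt f x := by
    intro x
    obtain ⟨y, -, -, hd, -⟩ := Groth.Agent.FibDim14.exists_fibreDimAt_eq f x
    have := (hη x).mem_open (Groth.Agent.FibDim14.isOpen_fibreDimAt_le f (Groth.Agent.FibDim14.rd f y))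
      (show FlatMor.fibreDimAt f x ≤ _ from hd.le)
    exact hd ▸ (hfη ▸ this)
  have hset : {x : X | FlatMor.fibreDimAt f x = ((a - b : ℕ) : WithBot ℕ∞)} =
      {x : X | FlatMor.fibreDimAt f x ≤ ((a - b : ℕ) : WithBot ℕ∞)} :=
    Set.ext fun x => ⟨fun h => h.le, fun h => le_antisymm h (hge x)⟩
  refine ⟨hge, hset ▸ Groth.Agent.FibDim14.isOpen_fibreDimAt_le f _, ?_⟩
  intro x
  exact closure_mono (s := {η}) (Set.singleton_subset_iff.2 hfη) ((hη x).mem_closure)

end Groth.Agent.S1653
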