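import Groth.Statements.S16534
import Groth.Agent.Lib.LefPen13.Chart
import Groth.Agent.Lib.Curve17.ProjSep
import Groth.Agent.Lib.CurveCoh17.HZero
import Groth.Agent.Lib.CurveCoh17.Clifford
import Groth.Agent.Lib.CurveCoh17.Section
import Groth.Agent.Lib.Twist.GlobalProjSpace
import Groth.Agent.Lib.Twist.Tensor
import Groth.Agent.Lib.TensorMod.PullTensor
import Groth.Agent.Lib.PicPn.Aut
import Groth.Agent.Lib.CurveOm17.Apps
import Groth.Agent.Lib.VB17.Proper

set_option autoImplicit false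
set_option linter.style.haveILetI false
set_option backward.isDefEq.respectTransparency false
set_option maxHeartbeats 4000000
universe u
open CategoryTheory CategoryTheory.Limits AlgebraicGeometry
open Curves

namespace Groth.Agent.S16534

section Helpers

open Groth.Agent.M1 Groth.Agent.Twist TopologicalSpace MvPolynomial

variable {k : Type u} [Field k] {n : ℕ}

local notation "𝒢" => CohB1.polyGrading n k

variable {X : Scheme.{u}}

/-- The pullback of a form as a section of the pullback of `O(d)`. -/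
noncomputable abbrev secD (r : X ⟶ Proj 𝒢) (d : ℕ) (q : 𝒢 d) :
    Γ((Scheme.Modules.pullback r).obj (_root_.Twist.twist 𝒢 (d : ℤ)), ⊤) :=
  _root_.ProjUP.pullSec r (_root_.Twist.twist 𝒢 (d : ℤ)) (_root_.Twist.globalOf 𝒢 q)

/-- The `j`-th power. -/
noncomputable def xpow (d : ℕ) (j : Fin (n + 1)) : 𝒢 d :=
  ⟨MvPolynomial.X j ^ d, by simpa using (MvPolynomial.isHomogeneous_X k j).pow d⟩

theorem germ_secD (r : X ⟶ Proj 𝒢) (d : ℕ) (q : 𝒢 d) (j : Fin (n + 1)) (P : X)
    (hP : P ∈ r ⁻¹ᵁ Proj.basicOpen 𝒢 (MvPolynomial.X j)) :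
    ((Scheme.Modules.pullback r).obj (_root_.Twist.twist 𝒢 (d : ℤ))).presheaf.germ ⊤ P trivial (secD r d q) =
      Curve17.evAt r j P hP q.1 •
        ((Scheme.Modules.pullback r).obj (_root_.Twist.twist 𝒢 (d : ℤ))).presheaf.germ ⊤ P trivial (secD r d (xpow d j)) := by
  let D := Proj.basicOpen 𝒢 (MvPolynomial.X j : MvPolynomial (Fin (n + 1)) k)
  let M := _root_.Twist.twist 𝒢 (d : ℤ)
  have hres : ∀ a : 𝒢 d, mres ((Scheme.Modules.pullback r).obj M) (le_top : r ⁻¹ᵁ D ≤ ⊤) (secD r d a) =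
      M2.pullSec r M (U := D) (mres M (le_top : D ≤ ⊤) (_root_.Twist.globalOf 𝒢 a)) := fun a =>
    (app_mres ((Scheme.Modules.pullbackPushforwardAdjunction r).unit.app M) (le_top : D ≤ ⊤)
      (_root_.Twist.globalOf 𝒢 a)).symm
  have hs : mres M (le_top : D ≤ ⊤) (_root_.Twist.globalOf 𝒢 q) =
      Proj.awayToSection 𝒢 (MvPolynomial.X j) (EGA2.dehom 𝒢 (Curve17.X_mem j) q.1) •
        mres M (le_top : D ≤ ⊤) (_root_.Twist.globalOf 𝒢 (xpow d j)) := by
    refine sec_ext fun x hx => ?_
    refine Eq.trans ?_ (val_smul _ _ x hx).symm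
    rw [ProjUP.valO_awayToSection_dehom 𝒢 (Curve17.X_mem j) q.2 x hx]
    have h1 := one_notMem_prime 𝒢 x
    show Localization.mk q.1 (⟨1, h1⟩ : x.asHomogeneousIdeal.toIdeal.primeCompl) =
      Localization.mk q.1 _ * Localization.mk ((MvPolynomial.X j) ^ d) ⟨1, h1⟩
    rw [Localization.mk_mul]
    refine (mk_eq_iff 𝒢 _ _).2 ⟨1, h1, ?_⟩
    show 1 * ((MvPolynomial.X j) ^ d * 1 * q.1) = 1 * (1 * (q.1 * (MvPolynomial.X j) ^ d))
    ring
  have h := congrArg (fun z => M2.pullSec r M (U := D) z) hs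
  simp only [M2.pullSec_smul, ← hres] at h
  have h2 := congrArg (((Scheme.Modules.pullback r).obj M).presheaf.germ (r ⁻¹ᵁ D) P hP) h
  rw [germ_smul, germ_mres, germ_mres] at h2
  refine h2.trans ?_
  rw [Curve17.evAt, RingHom.comp_apply, ProjUP.ev_apply, Scheme.Hom.app_eq_appLE]

theorem isGen_xpow (d : ℕ) (j : Fin (n + 1)) :
    Twist.IsGen (_root_.Twist.twist 𝒢 (d : ℤ)) (Proj.basicOpen 𝒢 (MvPolynomial.X j))
      (mres (_root_.Twist.twist 𝒢 (d : ℤ)) (le_top : Proj.basicOpen 𝒢 (MvPolynomial.X j) ≤ ⊤)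
        (_root_.Twist.globalOf 𝒢 (xpow d j))) := fun W hW => by
  have e : mres (_root_.Twist.twist 𝒢 (d : ℤ)) (le_top : Proj.basicOpen 𝒢 (MvPolynomial.X j) ≤ ⊤)
      (_root_.Twist.globalOf 𝒢 (xpow d j)) =
      Twist.frac 𝒢 (Proj.basicOpen 𝒢 (MvPolynomial.X j)) (n := (d : ℤ)) (xpow d j).2 (SetLike.one_mem_graded 𝒢) (by simp)
        (fun x _ => Twist.one_notMem_prime 𝒢 x) := by
    refine sec_ext fun x hx => ?_
    erw [Twist.val_frac]
  rw [e]
  refine Twist.bijective_smul_of_inverse (𝒜 := 𝒢) (n := (d : ℤ)) _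
    (Twist.frac 𝒢 (Proj.basicOpen 𝒢 (MvPolynomial.X j)) (n := -(d : ℤ)) (SetLike.one_mem_graded 𝒢) (xpow d j).2 (by simp)
      (fun _ hx => Twist.pow_notMem 𝒢 hx d))
    (fun x hx => by
      erw [Twist.val_frac, Twist.val_frac, Localization.mk_mul]
      rw [← Localization.mk_one, Localization.mk_eq_mk_iff, Localization.r_iff_exists]
      exact ⟨1, by simp [xpow]⟩) W hW

/-- A form whose dehomogenisation vanishes at the generic point vanishes on the curve. -/
theorem hypIdeal_le_ker [IsIntegral X] (r : X ⟶ CohB1.ProjSpace n k) [QuasiCompact r] {d : ℕ}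
    (q : LefPen.Form n k d) (h : ∀ (j : Fin (n + 1))
      (hη : genericPoint X ∈ r ⁻¹ᵁ Proj.basicOpen 𝒢 (MvPolynomial.X j)), Curve17.evAt r j (genericPoint X) hη q.1 = 0) :
    LefPen.hypIdeal q ≤ r.ker := by
  refine Scheme.IdealSheafData.le_of_iSup_eq_top
    (fun j => (⟨LefPen.chart n k j, ProjDim18.isAffineOpen_chart j⟩ : (CohB1.ProjSpace n k).affineOpens))
    (top_le_iff.1 fun y _ => ?_) fun j => ?_
  · obtain ⟨j, hj⟩ := Curve17.exists_X_notMem (k := k) (n := n) y
    exact Opens.mem_iSup.2 ⟨j, hj⟩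
  · rw [LefPen13.hypIdeal_chart, Ideal.span_singleton_le_iff_mem, Scheme.Hom.ker_apply, RingHom.mem_ker]
    have e : r.app (LefPen.chart n k j) (LefPen.dehom q j) =
        ProjUP.ev 𝒢 (Curve17.X_mem j) r (r ⁻¹ᵁ LefPen.chart n k j) le_rfl q.1 := by
      rw [ProjUP.ev_apply, EGA2.dehom_of_mem 𝒢 _ q.2, Scheme.Hom.app_eq_appLE]
      rfl
    refine e.trans ?_
    by_cases hne : (r ⁻¹ᵁ LefPen.chart n k j : Set X).Nonempty
    · have hη : genericPoint X ∈ r ⁻¹ᵁ LefPen.chart n k j :=
        ((genericPoint_spec X).mem_open_set_iff (r ⁻¹ᵁ LefPen.chart n k j).2).2 (by simpa using hne)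
      haveI : Nonempty (r ⁻¹ᵁ LefPen.chart n k j : X.Opens) := ⟨⟨_, hη⟩⟩
      exact AlgebraicGeometry.germ_injective_of_isIntegral X (genericPoint X) hη ((h j hη).trans (map_zero _).symm)
    · have hempty : r ⁻¹ᵁ LefPen.chart n k j = ⊥ :=
        Opens.ext (Set.not_nonempty_iff_eq_empty.1 hne)
      haveI : Subsingleton Γ(X, r ⁻¹ᵁ LefPen.chart n k j) := by rw [hempty]; infer_instance
      exact Subsingleton.elim _ _

/-- Too many forms: a combination of them vanishes on the curve. -/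
theorem exists_vanishing [X.Over (Spec (CommRingCat.of k))] [IsIntegral X] {ι : Type*} [Fintype ι]
    (r : X ⟶ CohB1.ProjSpace n k) (hr : r ≫ CohB1.ProjSpace.toSpec n k = X ↘ Spec (CommRingCat.of k)) (d : ℕ)
    [Module.Finite k (Coh.HH X ((Scheme.Modules.pullback r).obj (_root_.Twist.twist 𝒢 (d : ℤ))) 0)]
    (hlt : Module.finrank k (Coh.HH X ((Scheme.Modules.pullback r).obj (_root_.Twist.twist 𝒢 (d : ℤ))) 0) < Fintype.card ι)
    (m : ι → 𝒢 d) :
    ∃ c : ι → k, c ≠ 0 ∧ ∀ (j : Fin (n + 1)) (hη : genericPoint X ∈ r ⁻¹ᵁ Proj.basicOpen 𝒢 (MvPolynomial.X j)),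
      Curve17.evAt r j (genericPoint X) hη (∑ a, MvPolynomial.C (c a) * (m a).1) = 0 := by
  classical
  let L := (Scheme.Modules.pullback r).obj (_root_.Twist.twist 𝒢 (d : ℤ))
  let pX := X ↘ Spec (CommRingCat.of k)
  let v : ι → Coh.HH X L 0 := fun a => (CurveCoh17.hh0 L).symm (secD r d (m a))
  have hdep : ¬ LinearIndependent k v := fun hv => absurd hv.fintype_card_le_finrank (not_le.2 hlt)
  obtain ⟨c, hc, a, ha⟩ := Fintype.not_linearIndependent_iff.1 hdep
  refine ⟨c, fun h => ha (congrFun h a), fun j hη => ?_⟩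
  have hsum : ∑ a, _root_.ProjUP.toGlobal pX (c a) • secD r d (m a) = 0 := by
    rw [← map_zero (CurveCoh17.hh0 L), ← hc, map_sum]
    refine Finset.sum_congr rfl fun a _ => ?_
    refine ((CurveCoh17.hh0_smul (M := L) _ _).trans ?_).symm
    rw [AddEquiv.apply_symm_apply]
    rfl
  have hg := congrArg (L.presheaf.germ ⊤ (genericPoint X) trivial) hsum
  rw [map_sum, map_zero] at hg
  let D := Proj.basicOpen 𝒢 (MvPolynomial.X j : MvPolynomial (Fin (n + 1)) k)
  have hbij : Function.Bijective fun s : X.presheaf.stalk (genericPoint X) =>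
      s • L.presheaf.germ ⊤ (genericPoint X) trivial (secD r d (xpow d j)) := by
    have h1 := (Twist.IsGen.pullback r (isGen_xpow (k := k) (n := n) d j)).stalk hη
    have h2 : mres L (le_top : r ⁻¹ᵁ D ≤ ⊤) (secD r d (xpow d j)) =
        M2.pullSec r (_root_.Twist.twist 𝒢 (d : ℤ)) (U := D) (mres _ (le_top : D ≤ ⊤) (_root_.Twist.globalOf 𝒢 (xpow d j))) :=
      (app_mres ((Scheme.Modules.pullbackPushforwardAdjunction r).unit.app (_root_.Twist.twist 𝒢 (d : ℤ)))
        (le_top : D ≤ ⊤) (_root_.Twist.globalOf 𝒢 (xpow d j))).symm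
    rw [← germ_mres L (le_top : r ⁻¹ᵁ D ≤ ⊤) hη, h2]
    exact h1
  have hz : Curve17.evAt r j (genericPoint X) hη (∑ a, MvPolynomial.C (c a) * (m a).1) •
      L.presheaf.germ ⊤ (genericPoint X) trivial (secD r d (xpow d j)) = 0 := by
    refine Eq.trans ?_ hg
    rw [map_sum, Finset.sum_smul]
    refine Finset.sum_congr rfl fun a _ => ?_
    rw [map_mul, Curve17.evAt_C pX r j _ hη hr, mul_smul, germ_smul, germ_secD r d (m a) j _ hη, Curve17.baseStalk]
    rfl
  exact hbij.1 (hz.trans (zero_smul _ _).symm)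

end Helpers

/-- Over an algebraically closed field k of characteristic zero (in place of the complex numbers), a
smooth connected quintic curve of genus 2 in P^4 lies in a hyperplane and on a quadric surface in
that hyperplane. Here C is smooth, proper and integral of dimension one over k with dim_k H^1(C,
O_C) = 2, i : C → P^4_k is a closed immersion over k with deg i^*O(1) = χ(i^*O(1)) − χ(O_C) = 5, and
the conclusion provides a nonzero linear form l and a quadratic form q not divisible by l such that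
i factors through V_+(l) ∩ V_+(q). -/
theorem result (k : Type u) [Field k] [IsAlgClosed k]
    [CharZero k] (C : Scheme.{u}) [C.Over (Spec (CommRingCat.of k))] [Smooth (C ↘ Spec (CommRingCat.of k))] [IsProper (C ↘ Spec (CommRingCat.of k))]
    [IsIntegral C] (hC : topologicalKrullDim C = 1) (hg : Curv2.genus k C = 2)
    (i : C ⟶ CohB1.ProjSpace 4 k) [IsClosedImmersion i] (hi : i ≫ CohB1.ProjSpace.toSpec 4 k = C ↘ Spec (CommRingCat.of k))
    (hdeg : Curv2.deg k C ((Scheme.Modules.pullback i).obj (Twist.twistProjSpace 4 k 1)) 1 = 5) :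
    ∃ (l : LefPen.Form 4 k 1) (q : LefPen.Form 4 k 2), l ≠ 0 ∧ q.1 ∉ Ideal.span {l.1} ∧
      ∃ j : C ⟶ (LefPen.hypIdeal l ⊔ LefPen.hypIdeal q).subscheme,
        j ≫ (LefPen.hypIdeal l ⊔ LefPen.hypIdeal q).subschemeι = i := by
  classical
  obtain ⟨hR, h0, -⟩ := Groth.Agent.VB17.setup (k := k) (X := C) hC
  haveI := hR.like.noetherian
  let L := (Scheme.Modules.pullback i).obj (_root_.Twist.twistProjSpace 4 k 1)
  have hLi : PicF.IsInvertible L := Groth.Agent.Twist.isInvertible_pullback i (Groth.Agent.Twist.isInvertible_twistProjSpace 4 k 1)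
  have hdim0 : ∀ F : C.Modules, PicF.IsInvertible F → 5 ≤ Curv2.deg k C F 1 →
      Module.finrank k (Coh.HH C F 0) = Curv2.deg k C F 1 - 1 := by
    intro F hF hd
    have hF1 := Groth.Agent.CurveCoh17.rkOne_of_invertible hR.like.dim hF
    haveI := hR.like.fin F hF1.coh 0
    haveI := hR.like.fin F hF1.coh 1
    have hrr := hR.like.rr hF1.coh
    haveI : Nontrivial (Coh.HH C F 0) := Module.nontrivial_of_finrank_pos (R := k) (by omega)
    by_cases h1 : Nontrivial (Coh.HH C F 1)
    · have hcl := hR.like.clifford hF1 inferInstance h1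
      omega
    rw [not_nontrivial_iff_subsingleton] at h1
    have h10 : Module.finrank k (Coh.HH C F 1) = 0 := Module.finrank_zero_of_subsingleton
    omega
  have hdeg' : Curv2.deg k C L 1 = 5 := hdeg
  haveI hfin : ∀ d : ℕ, Module.Finite k (Coh.HH C ((Scheme.Modules.pullback i).obj (_root_.Twist.twist (CohB1.polyGrading 4 k) (d : ℤ))) 0) :=
    fun d => hR.like.fin _ (Groth.Agent.CurveCoh17.rkOne_of_invertible hR.like.dim
      (Groth.Agent.Twist.isInvertible_pullback i (Groth.Agent.Twist.isInvertible_twistProjSpace 4 k _))).coh 0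
  -- the hyperplane
  obtain ⟨c, hc, hl⟩ := exists_vanishing (ι := Fin 5) i hi 1 (by
    rw [Fintype.card_fin]
    have := hdim0 L hLi (by omega)
    change Module.finrank k (Coh.HH C L 0) < 5
    omega) (fun a => ⟨MvPolynomial.X a, Groth.Agent.Curve17.X_mem a⟩)
  obtain ⟨m, hm⟩ := Function.ne_iff.1 hc
  let l : LefPen.Form 4 k 1 := ⟨Groth.Agent.Curve17.linForm c, Groth.Agent.Curve17.linForm_mem c⟩
  -- the quadric
  let ι2 := {p : Fin 4 × Fin 4 // p.1 ≤ p.2}
  let mono : ι2 → MvPolynomial (Fin 4) k := fun p => MvPolynomial.X p.1.1 * MvPolynomial.X p.1.2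
  have hmono : ∀ p, (MvPolynomial.rename m.succAbove (mono p)) ∈ CohB1.polyGrading 4 k 2 := fun p => by
    simp only [mono, map_mul, MvPolynomial.rename_X]
    exact (MvPolynomial.isHomogeneous_X k _).mul (MvPolynomial.isHomogeneous_X k _)
  obtain ⟨φ⟩ := Groth.Agent.Twist.nonempty_iso_tensorPow (CohB1.polyGrading 4 k) (Groth.Agent.Twist.iSup_basicOpen_one 4 k) 2
  have e2 : (Scheme.Modules.pullback i).obj (_root_.Twist.twist (CohB1.polyGrading 4 k) ((2 : ℕ) : ℤ)) ≅ CohB1.tensorPow L 2 :=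
    (Scheme.Modules.pullback i).mapIso φ ≪≫ Groth.Agent.M2.pullTensorPowIso i _ 2
  obtain ⟨b, hb, hq⟩ := exists_vanishing (ι := ι2) i hi 2 (by
    rw [show Fintype.card ι2 = 10 from rfl]
    have hd2 : Curv2.deg k C ((Scheme.Modules.pullback i).obj (_root_.Twist.twist (CohB1.polyGrading 4 k) ((2 : ℕ) : ℤ))) 1 = 10 := by
      rw [Groth.Agent.CurveCoh17.deg_iso e2, hR.like.deg_tensorPow hLi, hdeg']
      norm_num
    have := hdim0 ((Scheme.Modules.pullback i).obj (_root_.Twist.twist (CohB1.polyGrading 4 k) ((2 : ℕ) : ℤ)))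
      (Groth.Agent.Twist.isInvertible_pullback i (Groth.Agent.Twist.isInvertible_twistProjSpace 4 k _)) (hd2.ge.trans' (by norm_num))
    omega) (fun p => ⟨_, hmono p⟩)
  let qq : MvPolynomial (Fin 4) k := ∑ p, MvPolynomial.C (b p) * mono p
  have hqq : (∑ p, MvPolynomial.C (b p) * MvPolynomial.rename m.succAbove (mono p)) = MvPolynomial.rename m.succAbove qq := by
    simp only [qq, map_sum, map_mul, MvPolynomial.rename_C]
  let q : LefPen.Form 4 k 2 := ⟨∑ p, MvPolynomial.C (b p) * MvPolynomial.rename m.succAbove (mono p),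
    Submodule.sum_mem _ fun p _ => (hmono p : MvPolynomial.IsHomogeneous _ 2).C_mul (b p)⟩
  refine ⟨l, q, fun h => ?_, fun h => ?_, ?_⟩
  · apply hm
    have := congrArg (MvPolynomial.eval (Pi.single m (1 : k))) (congrArg Subtype.val h)
    simpa [l, Groth.Agent.Curve17.linForm, Pi.single_apply, eq_comm] using this
  · obtain ⟨w, hw⟩ := Ideal.mem_span_singleton.1 h
    let f : Fin 5 → MvPolynomial (Fin 4) k := Fin.insertNth m
      (-∑ a, MvPolynomial.C (c (m.succAbove a) / c m) * MvPolynomial.X a) MvPolynomial.X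
    have hfm : f m = -∑ a, MvPolynomial.C (c (m.succAbove a) / c m) * MvPolynomial.X a := Fin.insertNth_apply_same _ _ _
    have hfa : f ∘ m.succAbove = (MvPolynomial.X : Fin 4 → MvPolynomial (Fin 4) k) := funext fun a => Fin.insertNth_apply_succAbove _ _ _ a
    have hlf : MvPolynomial.aeval f l.1 = 0 := by
      simp only [l, Groth.Agent.Curve17.linForm, map_sum, map_mul, MvPolynomial.aeval_C, MvPolynomial.aeval_X, MvPolynomial.algebraMap_eq]
      rw [Fin.sum_univ_succAbove _ m, hfm, mul_neg, Finset.mul_sum, neg_add_eq_zero]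
      refine Finset.sum_congr rfl fun a _ => ?_
      rw [show f (m.succAbove a) = MvPolynomial.X a from congrFun hfa a, ← mul_assoc, ← map_mul, mul_div_cancel₀ _ hm]
    have hqf : qq = 0 := by
      have h' := congrArg (MvPolynomial.aeval f) hw
      rw [map_mul, hlf, zero_mul] at h'
      change MvPolynomial.aeval f (∑ p, MvPolynomial.C (b p) * MvPolynomial.rename m.succAbove (mono p)) = 0 at h'
      rwa [hqq, MvPolynomial.aeval_rename, hfa, MvPolynomial.aeval_X_left_apply] at h'
    have hinj : ∀ p p' : ι2, (∀ a : Fin 4, ((if p.1.1 = a then 1 else 0) + if p.1.2 = a then 1 else 0 : ℕ) =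
        (if p'.1.1 = a then 1 else 0) + if p'.1.2 = a then 1 else 0) → p = p' := by decide
    apply hb
    funext p
    have h' := congrArg (MvPolynomial.coeff (Finsupp.single p.1.1 1 + Finsupp.single p.1.2 1)) hqf
    rw [MvPolynomial.coeff_zero] at h'
    simp only [qq, MvPolynomial.coeff_sum, MvPolynomial.coeff_C_mul] at h'
    rw [Finset.sum_eq_single p] at h'
    · simpa [mono, MvPolynomial.X, MvPolynomial.monomial_mul] using h'
    · intro p' _ hne
      rw [show mono p' = MvPolynomial.monomial (Finsupp.single p'.1.1 1 + Finsupp.single p'.1.2 1) 1 by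
        simp [mono, MvPolynomial.X, MvPolynomial.monomial_mul], MvPolynomial.coeff_monomial, if_neg, mul_zero]
      intro he
      exact hne (hinj p' p fun a => by simpa [Finsupp.single_apply] using DFunLike.congr_fun he a)
    · exact fun h => absurd (Finset.mem_univ p) h
  · have hle : LefPen.hypIdeal l ⊔ LefPen.hypIdeal q ≤ i.ker :=
      sup_le (hypIdeal_le_ker i l hl) (hypIdeal_le_ker i q hq)
    exact ⟨i.toImage ≫ Scheme.IdealSheafData.inclusion hle, by
      rw [Category.assoc, Scheme.IdealSheafData.inclusion_subschemeι]; exact i.toImage_imageι⟩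

end Groth.Agent.S16534
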