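import Groth.Statements.S16539
import Groth.Agent.Lib.Disp23.Nilp
import Mathlib.RingTheory.WittVector.Identities

set_option autoImplicit false
universe u v
open Disp

namespace Groth.Agent.S16539

/-- Let p be a prime, k a perfect commutative ring of characteristic p, W = W(k) with Frobenius
automorphism σ, and M a finitely generated projective W-module carrying a Dieudonné module
structure, a σ-semilinear F and a σ⁻¹-semilinear V with FV = VF = p. Let D be the associated
3n-display (M, VM, F, V⁻¹): the 3n-display structure on M whose submodule is the image of V, whose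
Frobenius operator is F and whose inverse operator sends V m to m. Then D is a display, i.e. its
operator V# satisfies the nilpotence condition, if and only if V is topologically nilpotent for the
p-adic topology on M: for every e some power of V maps M into p^e M. -/
theorem result (p : ℕ) [Fact p.Prime] (k : Type u) [CommRing k]
    [CharP k p] [PerfectRing k p]
    (M : Type v) [AddCommGroup M] [Module (WittVector p k) M] [Module.Finite (WittVector p k) M]
    [Module.Projective (WittVector p k) M] (Dm : Dieu.DieuMod p k M) (D : W4c1extbt610.Display3n p k M)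
    (hF : D.F = Dm.F) (hQ : ∀ x : M, x ∈ D.Q ↔ x ∈ Set.range Dm.V)
    (hV : ∀ (m : M) (h : Dm.V m ∈ D.Q), D.Vinv ⟨Dm.V m, h⟩ = m) :
    Dieu.IsDisplay D ↔ Dm.VTopNilp := by
  let τ : WittVector p k →+* WittVector p k := (WittVector.frobeniusEquiv p k).symm
  have hτ : ∀ w, WittVector.frobenius (τ w) = w := fun w => (WittVector.frobeniusEquiv p k).apply_symm_apply w
  have hσinj : Function.Injective (WittVector.frobenius : WittVector p k →+* WittVector p k) :=
    (WittVector.frobenius_bijective p k).1
  let Vs : M →ₗ[WittVector p k] Dieu.BC (WittVector.frobenius : WittVector p k →+* WittVector p k) M :=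
    { toFun := fun x => Dieu.BC.tmul _ 1 (Dm.V x)
      map_add' := fun x y => by rw [map_add, Dieu.BC.tmul_add]
      map_smul' := fun c x => by
        rw [LinearMap.map_smulₛₗ, ← Dieu.BC.tmul_apply_eq, RingHom.id_apply, Dieu.BC.smul_tmul, mul_one]
        congr 1
        exact hτ c }
  have hVs : Dieu.IsVSharp D Vs := by
    refine ⟨fun w x => ?_, fun w y => ?_⟩
    · rw [map_smul]
      show w • Dieu.BC.tmul _ 1 (Dm.V (D.F x)) = _
      rw [hF, Dm.V_F, ← Dieu.BC.tmul_apply_eq, map_natCast, Dieu.BC.smul_tmul, Dieu.BC.smul_tmul, mul_comm]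
    · rw [map_smul]
      obtain ⟨m, hm⟩ := (hQ y).1 y.2
      have hy : y = ⟨Dm.V m, hm ▸ y.2⟩ := Subtype.ext hm.symm
      show w • Dieu.BC.tmul _ 1 (Dm.V (D.Vinv y)) = _
      rw [Dieu.BC.smul_tmul, mul_one]
      conv_lhs => rw [hy, hV]
      rw [hm]
  have hpow : ∀ n x, Dieu.vSharpPow Vs n x = Dieu.BC.tmul _ 1 ((⇑Dm.V)^[n + 1] x) := by
    intro n
    induction n with
    | zero => intro x; rw [Dieu.vSharpPow_zero_apply]; exact Dieu.BC.castHom_tmul _ _ _ _
    | succ n ih =>
      intro x
      rw [Dieu.vSharpPow_succ_apply, show Vs x = Dieu.BC.tmul _ 1 (Dm.V x) from rfl, Dieu.BC.map_tmul, ih,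
        Dieu.BC.lift_tmul, one_smul, Dieu.BC.push_tmul, map_one, Dieu.BC.castHom_tmul, Function.iterate_succ_apply _ (n + 1)]
  have hspan : W4c1extbt610.IV p k ⊔ Ideal.span {(p : WittVector p k)} = Ideal.span {(p : WittVector p k)} := by
    refine sup_eq_right.2 (Ideal.span_le.2 ?_)
    rintro _ ⟨u, rfl⟩
    rw [SetLike.mem_coe, ← hτ u, WittVector.verschiebung_frobenius, mul_comm]
    exact Ideal.mul_mem_right _ _ (Ideal.mem_span_singleton_self _)
  obtain ⟨t, e, f, hf⟩ := Disp23.exists_coords_top (A := WittVector p k) (P := M)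
  have hmem : ∀ (n : ℕ) (z : M), Dieu.BC.tmul
      ((WittVector.frobenius : WittVector p k →+* WittVector p k) ^ n) 1 z ∈
      Ideal.span {(p : WittVector p k)} • (⊤ : Submodule (WittVector p k)
        (Dieu.BC ((WittVector.frobenius : WittVector p k →+* WittVector p k) ^ n) M)) ↔
      z ∈ Ideal.span {(p : WittVector p k)} • (⊤ : Submodule (WittVector p k) M) := by
    intro n z
    rw [Disp23.bc_mem_smul_top _ hf, Disp23.mem_smul_top hf]
    refine forall_congr' fun i => ?_
    rw [Disp23.bcFun_tmul, one_mul, Ideal.mem_span_singleton, Ideal.mem_span_singleton]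
    have hbij : Function.Bijective ⇑((WittVector.frobenius : WittVector p k →+* WittVector p k) ^ n) := by
      rw [RingHom.coe_pow]
      exact (WittVector.frobenius_bijective p k).iterate n
    refine ⟨fun ⟨c, hc⟩ => ?_, fun ⟨c, hc⟩ => ⟨_, by rw [hc, map_mul, map_natCast]⟩⟩
    obtain ⟨c, rfl⟩ := hbij.2 c
    exact ⟨c, hbij.1 (by rw [hc, map_mul, map_natCast])⟩
  refine ⟨fun ⟨Vs', hVs', hnil⟩ => ?_, fun h => ⟨Vs, hVs, ?_⟩⟩
  · rw [Disp23.vSharp_unique D Vs' Vs hVs' hVs] at hnil
    obtain ⟨n, hn⟩ := hnil
    intro r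
    refine ⟨(n + 1) * r, ?_⟩
    induction r with
    | zero => intro m; rw [pow_zero, Ideal.one_eq_top, Submodule.top_smul]; exact Submodule.mem_top
    | succ r ih =>
      intro m
      rw [Nat.mul_succ, Function.iterate_add_apply]
      have h1 := hn m
      rw [hspan, hpow, hmem, Submodule.ideal_span_singleton_smul, Submodule.mem_smul_pointwise_iff_exists] at h1
      obtain ⟨z, -, hz⟩ := h1
      have hlin : ∀ j (z : M), (⇑Dm.V)^[j] ((p : WittVector p k) • z) = (p : WittVector p k) • (⇑Dm.V)^[j] z := by
        intro j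
        induction j with
        | zero => exact fun z => rfl
        | succ j ihj =>
          intro z
          rw [Function.iterate_succ_apply', Function.iterate_succ_apply', ihj, LinearMap.map_smulₛₗ, map_natCast]
      rw [← hz, hlin, pow_succ', Submodule.mul_smul]
      exact Submodule.smul_mem_smul (Ideal.mem_span_singleton_self _) (ih z)
  · obtain ⟨n, hn⟩ := h 1
    refine ⟨n, fun x => ?_⟩
    rw [hspan, hpow, hmem, Function.iterate_succ_apply]
    simpa using hn (Dm.V x)

end Groth.Agent.S16539
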