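import Groth.Statements.S16541
import Groth.Statements.S16225
import Groth.Agent.Lib.WittDesc2.Witt

set_option autoImplicit false
universe u v
open CAlg

namespace Groth.Agent.S16541
open TensorProduct

/-- Let p be a prime, S → R a faithfully flat homomorphism of commutative rings and M a flat
W(S)-module; write ι₁, ι₂ : R → R ⊗_S R for the two coprojections, M_R = W(R) ⊗_{W(S)} M and M_{R ⊗
R} = W(R ⊗_S R) ⊗_{W(S)} M for the scalar extensions along W(S) → W(R) and W(S) → W(R ⊗_S R). Then 0
→ M → M_R ⇉ M_{R ⊗ R} is exact: the map x ↦ 1 ⊗ x from M to M_R is injective, and an element of M_R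
has the same image under the two maps w ⊗ x ↦ W(ι₁)(w) ⊗ x and w ⊗ x ↦ W(ι₂)(w) ⊗ x exactly when it
is of the form 1 ⊗ x. The hypothesis e records that the two composite ring maps W(S) → W(R) → W(R
⊗_S R) agree (both coprojections are S-algebra maps); it serves to identify the two targets. -/
theorem result (p : ℕ) [Fact p.Prime]
    (S R : Type u) [CommRing S] [CommRing R] [Algebra S R] [Module.FaithfullyFlat S R]
    (M : Type v) [AddCommGroup M] [Module (WittVector p S) M] [Module.Flat (WittVector p S) M]
    (e : (WittVector.map (Algebra.TensorProduct.includeLeftRingHom : R →+* TensorProduct S R R) : WittVector p R →+* WittVector p (TensorProduct S R R)).comp (WittVector.map (algebraMap S R) : WittVector p S →+* WittVector p R) = (WittVector.map ((Algebra.TensorProduct.includeRight : R →ₐ[S] TensorProduct S R R) : R →+* TensorProduct S R R) : WittVector p R →+* WittVector p (TensorProduct S R R)).comp (WittVector.map (algebraMap S R) : WittVector p S →+* WittVector p R)) :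
    Function.Injective (Dieu.BC.ι (WittVector.map (algebraMap S R) : WittVector p S →+* WittVector p R) M) ∧
      ∀ z : Dieu.BC (WittVector.map (algebraMap S R) : WittVector p S →+* WittVector p R) M,
        (Dieu.BC.castHom e (Dieu.BC.push (WittVector.map (algebraMap S R) : WittVector p S →+* WittVector p R) (WittVector.map (Algebra.TensorProduct.includeLeftRingHom : R →+* TensorProduct S R R) : WittVector p R →+* WittVector p (TensorProduct S R R)) z) = Dieu.BC.push (WittVector.map (algebraMap S R) : WittVector p S →+* WittVector p R) (WittVector.map ((Algebra.TensorProduct.includeRight : R →ₐ[S] TensorProduct S R R) : R →+* TensorProduct S R R) : WittVector p R →+* WittVector p (TensorProduct S R R)) z ↔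
          z ∈ Set.range (Dieu.BC.ι (WittVector.map (algebraMap S R) : WittVector p S →+* WittVector p R) M)) := by
  let g : WittVector p S →+* WittVector p R := WittVector.map (algebraMap S R)
  let h1 : WittVector p R →+* WittVector p (TensorProduct S R R) :=
    WittVector.map (Algebra.TensorProduct.includeLeftRingHom : R →+* TensorProduct S R R)
  let h2 : WittVector p R →+* WittVector p (TensorProduct S R R) :=
    WittVector.map ((Algebra.TensorProduct.includeRight : R →ₐ[S] TensorProduct S R R) : R →+* TensorProduct S R R)
  let i : WittVector p S →ₗ[WittVector p S] Dieu.Res g :=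
    { toFun := fun a => Dieu.Res.mk g (g a)
      map_add' := fun a b => Dieu.Res.ext g (map_add g a b)
      map_smul' := fun a b => Dieu.Res.ext g (map_mul g a b) }
  let L1 : Dieu.Res g →ₗ[WittVector p S] Dieu.Res (h2.comp g) :=
    { toFun := fun t => Dieu.Res.mk _ (h1 t.val)
      map_add' := fun s t => Dieu.Res.ext _ (map_add h1 s.val t.val)
      map_smul' := fun a t => Dieu.Res.ext _ (by
        show h1 (g a * t.val) = (h2.comp g) a * h1 t.val
        rw [map_mul, ← e]; rfl) }
  let L2 : Dieu.Res g →ₗ[WittVector p S] Dieu.Res (h2.comp g) :=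
    { toFun := fun t => Dieu.Res.mk _ (h2 t.val)
      map_add' := fun s t => Dieu.Res.ext _ (map_add h2 s.val t.val)
      map_smul' := fun a t => Dieu.Res.ext _ (by
        show h2 (g a * t.val) = (h2.comp g) a * h2 t.val
        rw [map_mul]; rfl) }
  have hi : Function.Injective i := fun a b h => by
    have : g a = g b := congrArg Dieu.Res.val h
    exact WittVector.map_injective _ (FaithfulSMul.algebraMap_injective S R) this
  have hex : Function.Exact i (L1 - L2) := fun y => by
    refine ⟨fun h => ?_, ?_⟩
    · rw [LinearMap.sub_apply, sub_eq_zero] at h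
      have h' : h1 y.val = h2 y.val := congrArg Dieu.Res.val h
      have hj : ∀ j, ∃ a, algebraMap S R a = y.val.coeff j := fun j => by
        have := congrArg (fun w => WittVector.coeff w j) h'
        simp only [h1, h2, WittVector.map_coeff] at this
        exact Groth.Agent.WittDesc2.exists_of_q0_eq_q1 this
      choose a ha using hj
      refine ⟨WittVector.mk p a, Dieu.Res.ext g ?_⟩
      show g (WittVector.mk p a) = y.val
      exact WittVector.ext fun j => by simp [g, ha]
    · rintro ⟨a, rfl⟩
      rw [LinearMap.sub_apply, sub_eq_zero]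
      exact Dieu.Res.ext _ (RingHom.congr_fun e a)
  have hval : ∀ m : M, i.rTensor M ((TensorProduct.lid (WittVector p S) M).symm m) = Dieu.BC.ι g M m := fun m => by
    rw [TensorProduct.lid_symm_apply, LinearMap.rTensor_tmul]
    show Dieu.BC.tmul g (g 1) m = Dieu.BC.tmul g 1 m
    rw [map_one]
  have h1z : ∀ z : Dieu.BC g M, Dieu.BC.castHom e (Dieu.BC.push g h1 z) = L1.rTensor M z := fun z => by
    induction z using Dieu.BC.induction_on g with
    | zero => rw [map_zero, map_zero]; exact (map_zero (L1.rTensor M)).symm
    | tmul b x => rw [Dieu.BC.push_tmul, Dieu.BC.castHom_tmul]; rfl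
    | add x y hx hy => rw [map_add, map_add, hx, hy]; exact (map_add (L1.rTensor M) x y).symm
  have h2z : ∀ z : Dieu.BC g M, Dieu.BC.push g h2 z = L2.rTensor M z := fun z => by
    induction z using Dieu.BC.induction_on g with
    | zero => rw [map_zero]; exact (map_zero (L2.rTensor M)).symm
    | tmul b x => rw [Dieu.BC.push_tmul]; rfl
    | add x y hx hy => rw [map_add, hx, hy]; exact (map_add (L2.rTensor M) x y).symm
  have hsub : ∀ w : Dieu.Res g ⊗[WittVector p S] M, (L1 - L2).rTensor M w = L1.rTensor M w - L2.rTensor M w :=
    fun w => by rw [LinearMap.rTensor_sub, LinearMap.sub_apply]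
  have hexM := Module.Flat.rTensor_exact M hex
  refine ⟨fun a b h => (TensorProduct.lid (WittVector p S) M).symm.injective
    (Module.Flat.rTensor_preserves_injective_linearMap i hi (by rw [hval, hval]; exact h)), fun z => ?_⟩
  constructor
  · intro hz
    obtain ⟨w, hw⟩ := (hexM z).1 ((hsub z).trans
      (sub_eq_zero.2 ((h1z z).symm.trans (hz.trans (h2z z)))))
    exact ⟨TensorProduct.lid _ M w, by rw [← hval, LinearEquiv.symm_apply_apply, hw]⟩
  · rintro ⟨m, rfl⟩
    refine (h1z _).trans (Eq.trans ?_ (h2z _).symm)
    exact sub_eq_zero.1 ((hsub _).symm.trans ((hexM _).2 ⟨_, hval m⟩))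

end Groth.Agent.S16541
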