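import Groth.Statements.S16544
import Groth.Agent.Lib.Disp23.Hom
import Mathlib.RingTheory.WittVector.Identities

set_option autoImplicit false
universe u v
open Disp

namespace Groth.Agent.S16544

/-- Let p be a prime and S a commutative ring in which p is nilpotent and whose nilradical (the ideal of
nilpotent elements) is a nilpotent ideal; let (P, Q, F, V⁻¹) and (P', Q', F', V'⁻¹) be displays over
S, i.e. 3n-displays whose operators V# satisfy the nilpotence condition. Then the group of
homomorphisms of displays from P to P' has no p-torsion: a W(S)-linear ψ : P → P' which is a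
homomorphism of 3n-displays and satisfies p·ψ = 0 is zero. (The published statement says
torsion-free; primes other than p are units in S, and the published proof treats the prime p.) -/
theorem result (p : ℕ) [Fact p.Prime]
    (S : Type u) [CommRing S] (hp : IsNilpotent (p : S)) (hn : IsNilpotent (nilradical S))
    (P P' : Type v) [AddCommGroup P] [Module (WittVector p S) P] [AddCommGroup P'] [Module (WittVector p S) P']
    (D : W4c1extbt610.Display3n p S P) (D' : W4c1extbt610.Display3n p S P')
    (hD : Dieu.IsDisplay D) (hD' : Dieu.IsDisplay D')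
    (ψ : P →ₗ[WittVector p S] P') (hψ : W4c1extbt610.IsHom D D' ψ)
    (h : (p : WittVector p S) • ψ = 0) : ψ = 0 := by
  refine Disp23.hom_eq_zero_of_nilpotent hp hn hD hψ fun x => ?_
  have := D'.finite
  have := D'.projective
  obtain ⟨t, e, f, hf⟩ := Disp23.exists_coords_top (A := WittVector p S) (P := P')
  rw [Disp23.mem_smul_top hf]
  intro i
  have hx : (p : WittVector p S) * f i (ψ x) = 0 := by
    rw [← smul_eq_mul, ← map_smul, show (p : WittVector p S) • ψ x = ((p : WittVector p S) • ψ) x from rfl, h,
      LinearMap.zero_apply, map_zero]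
  rw [Disp23.mem_wIdeal]
  intro j
  rw [← Ideal.Quotient.eq_zero_iff_mem]
  rcases subsingleton_or_nontrivial (S ⧸ nilradical S) with hs | hs
  · exact Subsingleton.elim _ _
  have hred : IsReduced (S ⧸ nilradical S) :=
    (Ideal.isRadical_iff_quotient_reduced _).1 (Ideal.radical_isRadical _)
  have hp0 : (p : S ⧸ nilradical S) = 0 :=
    IsNilpotent.eq_zero (map_natCast (Ideal.Quotient.mk (nilradical S)) p ▸ hp.map _)
  have : CharP (S ⧸ nilradical S) p := (CharP.charP_iff_prime_eq_zero Fact.out).2 hp0
  have h2 := congrArg (WittVector.map (Ideal.Quotient.mk (nilradical S))) hx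
  rw [map_mul, map_natCast, map_zero, mul_comm] at h2
  have h3 := congrArg (fun y : WittVector p (S ⧸ nilradical S) => y.coeff (j + 1)) h2
  simp only [WittVector.mul_charP_coeff_succ, WittVector.zero_coeff] at h3
  have h4 := pow_eq_zero_iff (n := p) (Nat.Prime.ne_zero Fact.out) |>.1 h3
  rwa [WittVector.map_coeff] at h4

end Groth.Agent.S16544
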