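import Groth.Statements.S16545
import Groth.Agent.Lib.Disp23.HomLift
import Mathlib.RingTheory.Flat.FaithfullyFlat.Algebra
import Mathlib.RingTheory.TensorProduct.IncludeLeftSubRight

set_option autoImplicit false
universe u v
open Disp

namespace Groth.Agent.S16545

/-- Let p be a prime, S → R a faithfully flat homomorphism of commutative rings with p nilpotent in S,
ι₁, ι₂ : R → R ⊗_S R the two coprojections, and (P, Q, F, V⁻¹), (P', Q', F', V'⁻¹) displays over S
with base changes (P_R, Q_R, F_R, V_R⁻¹) and (P'_R, Q'_R, F'_R, V'_R⁻¹) along S → R (the 3n-display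
structures on W(R) ⊗_{W(S)} P and W(R) ⊗_{W(S)} P' with Q_R = ker(P_R → R ⊗_S P/Q), F_R(w ⊗ x) =
σ(w) ⊗ F x, V_R⁻¹(w ⊗ y) = σ(w) ⊗ V⁻¹ y for y ∈ Q, V_R⁻¹(V(w) ⊗ x) = w ⊗ F x, and likewise for P').
Let χ : P_R → P'_R be a homomorphism of 3n-displays whose two scalar extensions along W(ι₁) and
W(ι₂) agree, after the modules W(R ⊗_S R) ⊗_{W(ι_i),W(R)} (W(R) ⊗_{W(S)} P) are mapped to W(R ⊗_S R)
⊗_{W(S)} P by the canonical maps u ⊗ (w ⊗ x) ↦ u·W(ι_i)(w) ⊗ x (and likewise for P'). Then there is
exactly one homomorphism of 3n-displays ψ : P → P' over S with id ⊗ ψ = χ: the sequence 0 → Hom(P,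
P') → Hom(P_R, P'_R) ⇉ Hom(P_{R⊗R}, P'_{R⊗R}) is exact. The hypotheses e₁, e₂ record that both
composite ring maps W(S) → W(R) → W(R ⊗_S R) equal W(S → R ⊗_S R); they serve to identify targets. -/
theorem result (p : ℕ) [Fact p.Prime]
    (S R : Type u) [CommRing S] [CommRing R] [Algebra S R] [Module.FaithfullyFlat S R] (hp : IsNilpotent (p : S))
    (e₁ : (WittVector.map (Algebra.TensorProduct.includeLeftRingHom : R →+* TensorProduct S R R) : WittVector p R →+* WittVector p (TensorProduct S R R)).comp (WittVector.map (algebraMap S R) : WittVector p S →+* WittVector p R) = (WittVector.map (algebraMap S (TensorProduct S R R)) : WittVector p S →+* WittVector p (TensorProduct S R R)))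
    (e₂ : (WittVector.map ((Algebra.TensorProduct.includeRight : R →ₐ[S] TensorProduct S R R) : R →+* TensorProduct S R R) : WittVector p R →+* WittVector p (TensorProduct S R R)).comp (WittVector.map (algebraMap S R) : WittVector p S →+* WittVector p R) = (WittVector.map (algebraMap S (TensorProduct S R R)) : WittVector p S →+* WittVector p (TensorProduct S R R)))
    (P P' : Type v) [AddCommGroup P] [Module (WittVector p S) P] [AddCommGroup P'] [Module (WittVector p S) P']
    (D : W4c1extbt610.Display3n p S P) (D' : W4c1extbt610.Display3n p S P')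
    (hD : Dieu.IsDisplay D) (hD' : Dieu.IsDisplay D')
    (DR : W4c1extbt610.Display3n p R (Dieu.BC (WittVector.map (algebraMap S R) : WittVector p S →+* WittVector p R) P)) (hDR : Dieu.IsDispBaseChange (algebraMap S R) D DR)
    (DR' : W4c1extbt610.Display3n p R (Dieu.BC (WittVector.map (algebraMap S R) : WittVector p S →+* WittVector p R) P')) (hDR' : Dieu.IsDispBaseChange (algebraMap S R) D' DR')
    (χ : Dieu.BC (WittVector.map (algebraMap S R) : WittVector p S →+* WittVector p R) P →ₗ[WittVector p R] Dieu.BC (WittVector.map (algebraMap S R) : WittVector p S →+* WittVector p R) P') (hχ : W4c1extbt610.IsHom DR DR' χ)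
    (hdesc : ∀ (z₁ : Dieu.BC (WittVector.map (Algebra.TensorProduct.includeLeftRingHom : R →+* TensorProduct S R R) : WittVector p R →+* WittVector p (TensorProduct S R R)) (Dieu.BC (WittVector.map (algebraMap S R) : WittVector p S →+* WittVector p R) P)) (z₂ : Dieu.BC (WittVector.map ((Algebra.TensorProduct.includeRight : R →ₐ[S] TensorProduct S R R) : R →+* TensorProduct S R R) : WittVector p R →+* WittVector p (TensorProduct S R R)) (Dieu.BC (WittVector.map (algebraMap S R) : WittVector p S →+* WittVector p R) P)),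
      (Dieu.BC.castHom (P := P) e₁).comp (Dieu.BC.lift (WittVector.map (Algebra.TensorProduct.includeLeftRingHom : R →+* TensorProduct S R R) : WittVector p R →+* WittVector p (TensorProduct S R R)) (Dieu.BC.push (WittVector.map (algebraMap S R) : WittVector p S →+* WittVector p R) (WittVector.map (Algebra.TensorProduct.includeLeftRingHom : R →+* TensorProduct S R R) : WittVector p R →+* WittVector p (TensorProduct S R R)))) z₁ = (Dieu.BC.castHom (P := P) e₂).comp (Dieu.BC.lift (WittVector.map ((Algebra.TensorProduct.includeRight : R →ₐ[S] TensorProduct S R R) : R →+* TensorProduct S R R) : WittVector p R →+* WittVector p (TensorProduct S R R)) (Dieu.BC.push (WittVector.map (algebraMap S R) : WittVector p S →+* WittVector p R) (WittVector.map ((Algebra.TensorProduct.includeRight : R →ₐ[S] TensorProduct S R R) : R →+* TensorProduct S R R) : WittVector p R →+* WittVector p (TensorProduct S R R)))) z₂ →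
        (Dieu.BC.castHom (P := P') e₁).comp (Dieu.BC.lift (WittVector.map (Algebra.TensorProduct.includeLeftRingHom : R →+* TensorProduct S R R) : WittVector p R →+* WittVector p (TensorProduct S R R)) (Dieu.BC.push (WittVector.map (algebraMap S R) : WittVector p S →+* WittVector p R) (WittVector.map (Algebra.TensorProduct.includeLeftRingHom : R →+* TensorProduct S R R) : WittVector p R →+* WittVector p (TensorProduct S R R)))) (Dieu.BC.map (WittVector.map (Algebra.TensorProduct.includeLeftRingHom : R →+* TensorProduct S R R) : WittVector p R →+* WittVector p (TensorProduct S R R)) χ z₁) =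
          (Dieu.BC.castHom (P := P') e₂).comp (Dieu.BC.lift (WittVector.map ((Algebra.TensorProduct.includeRight : R →ₐ[S] TensorProduct S R R) : R →+* TensorProduct S R R) : WittVector p R →+* WittVector p (TensorProduct S R R)) (Dieu.BC.push (WittVector.map (algebraMap S R) : WittVector p S →+* WittVector p R) (WittVector.map ((Algebra.TensorProduct.includeRight : R →ₐ[S] TensorProduct S R R) : R →+* TensorProduct S R R) : WittVector p R →+* WittVector p (TensorProduct S R R)))) (Dieu.BC.map (WittVector.map ((Algebra.TensorProduct.includeRight : R →ₐ[S] TensorProduct S R R) : R →+* TensorProduct S R R) : WittVector p R →+* WittVector p (TensorProduct S R R)) χ z₂)) :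
    ∃! ψ : P →ₗ[WittVector p S] P', W4c1extbt610.IsHom D D' ψ ∧ Dieu.BC.map (WittVector.map (algebraMap S R) : WittVector p S →+* WittVector p R) ψ = χ := by
  have := D.finite
  have := D.projective
  have := D'.finite
  have := D'.projective
  let g : S →+* R := algebraMap S R
  have hinj : Function.Injective g := FaithfulSMul.algebraMap_injective S R
  have hk : RingHom.ker g = ⊥ := (RingHom.injective_iff_ker_eq_bot g).1 hinj
  have hzero : ∀ z : P', Dieu.BC.tmul (WittVector.map g : WittVector p S →+* WittVector p R) 1 z = 0 → z = 0 :=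
    fun z hz => Disp23.eq_zero_of_mem_bot (hk ▸ (Disp23.ι_eq_zero_iff g z).1 hz)
  have hι : ∀ a b : P', Dieu.BC.tmul (WittVector.map g : WittVector p S →+* WittVector p R) 1 a =
      Dieu.BC.tmul (WittVector.map g : WittVector p S →+* WittVector p R) 1 b → a = b := by
    intro a b h
    refine sub_eq_zero.1 (hzero _ ?_)
    rw [← Dieu.BC.ι_apply, map_sub, Dieu.BC.ι_apply, Dieu.BC.ι_apply, h, sub_self]
  obtain ⟨t', e', f', hf'⟩ := Disp23.exists_coords_top (A := WittVector p S) (P := P')
  have hdes : ∀ x : P, ∃ m : P', Dieu.BC.tmul (WittVector.map g : WittVector p S →+* WittVector p R) 1 m =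
      χ (Dieu.BC.tmul _ 1 x) := by
    intro x
    have h := hdesc (Dieu.BC.tmul _ 1 (Dieu.BC.tmul _ 1 x)) (Dieu.BC.tmul _ 1 (Dieu.BC.tmul _ 1 x)) (by
      rw [LinearMap.comp_apply, LinearMap.comp_apply, Dieu.BC.lift_tmul, Dieu.BC.lift_tmul, one_smul, one_smul,
        Dieu.BC.push_tmul, Dieu.BC.push_tmul, Dieu.BC.castHom_tmul, Dieu.BC.castHom_tmul, map_one, map_one])
    rw [Dieu.BC.map_tmul, Dieu.BC.map_tmul, LinearMap.comp_apply, LinearMap.comp_apply, Dieu.BC.lift_tmul,
      Dieu.BC.lift_tmul, one_smul, one_smul] at h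
    have hc : ∀ i, ∃ s : WittVector p S, WittVector.map g s =
        Disp23.bcFun (WittVector.map g : WittVector p S →+* WittVector p R) (f' i) (χ (Dieu.BC.tmul _ 1 x)) := by
      intro i
      have h' := congrArg (Disp23.bcFun (WittVector.map (algebraMap S (TensorProduct S R R)) :
        WittVector p S →+* WittVector p (TensorProduct S R R)) (f' i)) h
      rw [Disp23.bcFun_castHom_push, Disp23.bcFun_castHom_push] at h'
      have hj : ∀ j, ∃ s : S, g s = (Disp23.bcFun (WittVector.map g : WittVector p S →+* WittVector p R) (f' i)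
          (χ (Dieu.BC.tmul _ 1 x))).coeff j := by
        intro j
        have h'' := congrArg (fun w : WittVector p (TensorProduct S R R) => w.coeff j) h'
        simp only [WittVector.map_coeff] at h''
        obtain ⟨s, hs⟩ := ((Algebra.IsEffective.of_faithfullyFlat S R) _).1 (by
          rw [Algebra.TensorProduct.includeLeftSubRight_apply]
          exact sub_eq_zero.2 h'')
        exact ⟨s, hs⟩
      choose s hs using hj
      exact ⟨WittVector.mk p s, by ext j; rw [WittVector.map_coeff, WittVector.coeff_mk, hs]⟩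
    choose s hs using hc
    refine ⟨∑ i, s i • e' i, ?_⟩
    rw [Disp23.bc_expand _ hf' (χ (Dieu.BC.tmul _ 1 x)), ← Dieu.BC.ι_apply, map_sum]
    refine Finset.sum_congr rfl fun i _ => ?_
    rw [LinearMap.map_smulₛₗ, Dieu.BC.ι_apply, hs]
  obtain ⟨t, e, f, hf⟩ := Disp23.exists_coords_top (A := WittVector p S) (P := P)
  choose m hm using fun k => hdes (e k)
  let ψ : P →ₗ[WittVector p S] P' := ∑ k, (f k).smulRight (m k)
  have hψ : ∀ x, Dieu.BC.tmul (WittVector.map g : WittVector p S →+* WittVector p R) 1 (ψ x) =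
      χ (Dieu.BC.tmul _ 1 x) := fun x => by
    conv_rhs => rw [hf x, ← Dieu.BC.ι_apply, map_sum, map_sum]
    rw [← Dieu.BC.ι_apply, LinearMap.sum_apply, map_sum]
    refine Finset.sum_congr rfl fun k _ => ?_
    rw [LinearMap.smulRight_apply, LinearMap.map_smulₛₗ, LinearMap.map_smulₛₗ, map_smul, Dieu.BC.ι_apply,
      Dieu.BC.ι_apply, hm]
  have hmaps : ∀ y, y ∈ D.Q → ψ y ∈ D'.Q := fun y hy => by
    have h1 := Disp23.mem_sup_of_tmul_mem (g := g) hDR' (by
      rw [hψ]; exact hχ.mapsTo _ (Disp23.tmul_mem_Q hDR 1 hy) :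
      Dieu.BC.tmul (WittVector.map g : WittVector p S →+* WittVector p R) 1 (ψ y) ∈ DR'.Q)
    obtain ⟨q, hq, k, hk', hqk⟩ := Submodule.mem_sup.1 h1
    rw [hk] at hk'
    rw [← hqk, Disp23.eq_zero_of_mem_bot hk', add_zero]
    exact hq
  refine ⟨ψ, ⟨Disp23.isHom_of_Vinv D D' ψ hmaps fun y => hι _ _ ?_,
    Dieu.BC.ext _ fun x => by rw [Dieu.BC.map_tmul, hψ]⟩, ?_⟩
  · have hyR := Disp23.tmul_mem_Q hDR 1 y.2
    have hqR := Disp23.tmul_mem_Q hDR' 1 (hmaps y y.2)
    have h1 := hχ.comm_Vinv ⟨_, hyR⟩
    rw [hDR.Vinv_tmul, map_one, ← hψ,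
      show (⟨χ (Dieu.BC.tmul _ 1 (y : P)), hχ.mapsTo _ hyR⟩ : DR'.Q) = ⟨_, hqR⟩ from Subtype.ext (hψ _).symm] at h1
    exact h1.trans ((hDR'.Vinv_tmul 1 ⟨_, hmaps y y.2⟩ hqR).trans (by rw [map_one]))
  · rintro ψ' ⟨-, hψ'⟩
    refine LinearMap.ext fun x => hι _ _ ?_
    rw [hψ, ← hψ', Dieu.BC.map_tmul]

end Groth.Agent.S16545
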