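import Groth.Statements.S16546
import Groth.Agent.Lib.Disp23.Nilp

set_option autoImplicit false
universe u v w
open Disp

namespace Groth.Agent.S16546

/-- Let p be a prime and R a commutative ring in which p is nilpotent (in particular every prime number
other than p is a unit in R); write W = W(R) with Frobenius σ, Verschiebung V, I_R = V(W) and w₀ : W
→ R for the zeroth Witt component. Let (P, Q, F, V⁻¹) be a 3n-display over R with a normal
decomposition P = L ⊕ T, Q = L + I_R·T in which T and L are free with finite bases (t_j) and (l_k).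
Let α be the square matrix over W, indexed by the disjoint union of the two index sets, such that
F(t_j) = Σ_i α_{i,j} e_i and V⁻¹(l_k) = Σ_i α_{i,k} e_i, where (e_i) is the basis of P formed by the
t_j followed by the l_k, and let β be a two-sided inverse of α. Let B be the square block of β on
the L-indices, reduced to R/pR through w₀, and write B^{(p^i)} for the matrix whose entries are the
p^i-th powers of those of B. Then (P, Q, F, V⁻¹) is a display, i.e. its operator V# satisfies the
nilpotence condition, if and only if B^{(p^{N-1})} ⋯ B^{(p)} · B = 0 for some N ≥ 1. -/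
theorem result (p : ℕ) [Fact p.Prime] (R : Type u) [CommRing R]
    (hR : ∀ ℓ : ℕ, ℓ.Prime → ℓ ≠ p → IsUnit (ℓ : R)) (hp : IsNilpotent (p : R))
    (P : Type v) [AddCommGroup P] [Module (WittVector p R) P] (D : W4c1extbt610.Display3n p R P)
    (L T : Submodule (WittVector p R) P) (hLT : IsCompl L T)
    (hQ : D.Q = L ⊔ W4c1extbt610.IV p R • T) (hLQ : L ≤ D.Q)
    (ιT ιL : Type w) [Fintype ιT] [Fintype ιL] [DecidableEq ιT] [DecidableEq ιL]
    (bT : Module.Basis ιT (WittVector p R) T) (bL : Module.Basis ιL (WittVector p R) L)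
    (α β : Matrix (ιT ⊕ ιL) (ιT ⊕ ιL) (WittVector p R)) (hαβ : α * β = 1) (hβα : β * α = 1)
    (hF : ∀ j : ιT, D.F (bT j : P) =
      Finset.univ.sum fun i : ιT ⊕ ιL => α i (Sum.inl j) • Sum.elim (fun a : ιT => (bT a : P)) (fun a : ιL => (bL a : P)) i)
    (hV : ∀ k : ιL, D.Vinv ⟨(bL k : P), hLQ (bL k).2⟩ =
      Finset.univ.sum fun i : ιT ⊕ ιL => α i (Sum.inr k) • Sum.elim (fun a : ιT => (bT a : P)) (fun a : ιL => (bL a : P)) i) :
    Dieu.IsDisplay D ↔
      ∃ N : ℕ, 0 < N ∧
        (((List.range N).reverse.map fun i : ℕ =>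
            (Matrix.of fun k l : ιL =>
                Ideal.Quotient.mk (Ideal.span {(p : R)}) (WittVector.constantCoeff (β (Sum.inr k) (Sum.inr l)))).map
              fun x : R ⧸ Ideal.span {(p : R)} => x ^ p ^ i).prod
          = 0) := by
  obtain ⟨Vs, hVs⟩ := Disp23.exists_vSharp hp D
  let b : Module.Basis (ιT ⊕ ιL) (WittVector p R) P :=
    (bT.prod bL).map (Submodule.prodEquivOfIsCompl T L hLT.symm)
  have hb : ∀ i, b i = Sum.elim (fun a : ιT => (bT a : P)) (fun a : ιL => (bL a : P)) i := by
    rintro (a | a) <;> simp [b]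
  have hf : ∀ x, x = ∑ i, b.coord i x • b i := fun x => (b.sum_repr x).symm
  let c : ιT ⊕ ιL → WittVector p R := Sum.elim (fun _ => (p : WittVector p R)) (fun _ => 1)
  let img : ιT ⊕ ιL → P := fun m => ∑ i, α i m • b i
  have himg : ∀ m, Vs (img m) = Dieu.BC.tmul _ (c m) (b m) := by
    rintro (a | a)
    · have h1 := hVs.app_smul_F 1 (bT a : P)
      rw [one_smul, Dieu.BC.smul_tmul, mul_one] at h1
      simp only [img, hb, ← hF]
      exact h1
    · have h1 := hVs.app_smul_Vinv 1 ⟨(bL a : P), hLQ (bL a).2⟩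
      rw [one_smul] at h1
      simp only [img, hb, ← hV]
      exact h1
  have hbj : ∀ j, b j = ∑ m, β m j • img m := by
    intro j
    simp only [img, Finset.smul_sum, smul_smul]
    rw [Finset.sum_comm]
    simp only [← Finset.sum_smul]
    have hentry : ∀ i, (∑ m, β m j * α i m) = (α * β) i j := fun i => by
      rw [Matrix.mul_apply]
      exact Finset.sum_congr rfl fun m _ => mul_comm _ _
    simp only [hentry, hαβ, Matrix.one_apply, ite_smul, one_smul, zero_smul, Finset.sum_ite_eq', Finset.mem_univ,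
      if_true]
  let f : ιT ⊕ ιL → P →ₗ[WittVector p R] WittVector p R := fun i => b.coord i
  have hM : ∀ i j, Disp23.vMat b f Vs i j = β i j * c i := by
    intro i j
    show Disp23.bcFun _ (b.coord i) (Vs (b j)) = _
    rw [hbj j]
    simp only [map_sum, map_smul, himg, Disp23.bcFun_tmul, smul_eq_mul, Module.Basis.coord_apply,
      Module.Basis.repr_self]
    rw [Finset.sum_eq_single i (fun m _ hm => ?_) (by simp)]
    · rw [Finsupp.single_eq_same, map_one, mul_one]
    · rw [Finsupp.single_eq_of_ne hm.symm, map_zero, mul_zero, mul_zero]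
  let π : WittVector p R →+* R ⧸ Ideal.span {(p : R)} :=
    (Ideal.Quotient.mk _).comp WittVector.constantCoeff
  have hπp : π (p : WittVector p R) = 0 := by
    show Ideal.Quotient.mk _ (WittVector.constantCoeff (p : WittVector p R)) = 0
    rw [map_natCast, Ideal.Quotient.eq_zero_iff_mem]
    exact Ideal.mem_span_singleton_self _
  have hπJ : ∀ x, π x = 0 ↔ x ∈ W4c1extbt610.IV p R ⊔ Ideal.span {(p : WittVector p R)} := by
    refine fun x => ⟨fun hx => ?_, fun hx => ?_⟩
    · obtain ⟨r, hr⟩ := Ideal.mem_span_singleton.1 (Ideal.Quotient.eq_zero_iff_mem.1 hx)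
      have h1 : x - (p : WittVector p R) * WittVector.teichmuller p r ∈ W4c1extbt610.IV p R := by
        rw [Disp23.IV_eq_ker, RingHom.mem_ker, map_sub, map_mul, map_natCast, hr]
        exact sub_eq_zero.2 (congrArg ((p : R) * ·) (WittVector.teichmuller_coeff_zero p r).symm)
      have := Submodule.add_mem_sup h1 (Ideal.mul_mem_right (WittVector.teichmuller p r) _
        (Ideal.mem_span_singleton_self (p : WittVector p R)))
      rwa [sub_add_cancel] at this
    · obtain ⟨a, ha, d, hd, rfl⟩ := Submodule.mem_sup.1 hx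
      obtain ⟨d, rfl⟩ := Ideal.mem_span_singleton.1 hd
      rw [Disp23.IV_eq_ker, RingHom.mem_ker] at ha
      rw [map_add, map_mul, hπp, zero_mul, add_zero]
      show Ideal.Quotient.mk _ (WittVector.constantCoeff a) = 0
      rw [ha, map_zero]
  have hπσ : ∀ x, π (WittVector.frobenius x) = π x ^ p := fun x => by
    rw [← map_pow, ← sub_eq_zero, ← map_sub, hπJ]
    exact Disp23.frobenius_sub_pow_mem p R x
  have hπσn : ∀ (n : ℕ) x, π (((WittVector.frobenius : WittVector p R →+* WittVector p R) ^ n) x) = π x ^ p ^ n := by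
    intro n
    induction n with
    | zero => intro x; simp
    | succ n ih =>
      intro x
      rw [← Dieu.comp_pow_eq_pow_succ]
      show π (WittVector.frobenius (((WittVector.frobenius : WittVector p R →+* WittVector p R) ^ n) x)) = _
      rw [hπσ, ih, ← pow_mul, ← pow_succ]
  let σ' : WittVector p R →+* WittVector p R := WittVector.frobenius
  let M := Disp23.vMat b f Vs
  let B : Matrix ιL ιL (R ⧸ Ideal.span {(p : R)}) := Matrix.of fun k l => π (β (Sum.inr k) (Sum.inr l))
  let Q : ℕ → Matrix ιL ιL (R ⧸ Ideal.span {(p : R)}) :=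
    fun N => ((List.range N).reverse.map fun i : ℕ => B.map fun x => x ^ p ^ i).prod
  have hQsucc : ∀ N, Q (N + 1) = (B.map fun x => x ^ p ^ N) * Q N := by
    intro N
    simp only [Q, List.range_succ, List.reverse_append, List.reverse_cons, List.reverse_nil, List.nil_append,
      List.cons_append, List.map_cons, List.prod_cons]
  have htop : ∀ a j, π (M (Sum.inl a) j) = 0 := fun a j => by
    show π (Disp23.vMat b f Vs _ _) = 0
    rw [hM, map_mul]
    show _ * π (p : WittVector p R) = 0
    rw [hπp, mul_zero]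
  have hbot : ∀ a l, π (M (Sum.inr a) (Sum.inr l)) = B a l := fun a l => by
    show π (Disp23.vMat b f Vs _ _) = _
    rw [hM, map_mul]
    show _ * π 1 = _
    rw [map_one, mul_one]
    rfl
  have hP : ∀ n, (∀ a j, π (Disp23.powMat σ' M n (Sum.inl a) j) = 0) ∧
      ∀ a l, π (Disp23.powMat σ' M n (Sum.inr a) (Sum.inr l)) = Q (n + 1) a l := by
    intro n
    induction n with
    | zero =>
      refine ⟨htop, fun a l => (hbot a l).trans ?_⟩
      rw [hQsucc]
      simp [Q]
    | succ n ih =>
      have hrec : Disp23.powMat σ' M (n + 1) = M.map ⇑(σ' ^ (n + 1)) * Disp23.powMat σ' M n := by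
        have := Disp23.powMat_add σ' M 0 n
        rwa [zero_add] at this
      rw [hrec]
      refine ⟨fun a j => ?_, fun a l => ?_⟩
      · rw [Matrix.mul_apply, map_sum]
        refine Finset.sum_eq_zero fun m _ => ?_
        rw [map_mul, Matrix.map_apply, hπσn, htop, zero_pow (pow_ne_zero _ (Nat.Prime.ne_zero Fact.out)), zero_mul]
      · rw [Matrix.mul_apply, map_sum, Fintype.sum_sum_type, hQsucc (n + 1), Matrix.mul_apply,
          Finset.sum_eq_zero (s := Finset.univ) (fun (m : ιT) _ => by rw [map_mul, ih.1, mul_zero]), zero_add]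
        refine Finset.sum_congr rfl fun m _ => ?_
        rw [map_mul, Matrix.map_apply, hπσn, hbot, ih.2, Matrix.map_apply]
  show Dieu.IsDisplay D ↔ ∃ N : ℕ, 0 < N ∧ Q N = 0
  refine ⟨fun ⟨Vs', hVs', hnil⟩ => ?_, fun ⟨N, hN, hQN⟩ => ⟨Vs, hVs, ?_⟩⟩
  · rw [Disp23.vSharp_unique D Vs' Vs hVs' hVs, Disp23.isVNilpotent_iff (f := f) hf] at hnil
    obtain ⟨n, hn⟩ := hnil
    refine ⟨n + 1, n.succ_pos, ?_⟩
    ext a l
    rw [← (hP n).2]
    exact (hπJ _).2 (hn _ _)
  · rw [Disp23.isVNilpotent_iff (f := f) hf]
    obtain ⟨N, rfl⟩ := Nat.exists_eq_succ_of_ne_zero hN.ne'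
    refine ⟨N + 1, fun i j => (hπJ _).1 ?_⟩
    show π ((((Disp23.powMat σ' M N).map σ') * M) i j) = 0
    rw [Matrix.mul_apply, map_sum]
    refine Finset.sum_eq_zero fun m _ => ?_
    rw [map_mul, Matrix.map_apply, hπσ]
    rcases m with a | m
    · rw [htop, mul_zero]
    · rcases i with i | i
      · rw [(hP N).1, zero_pow (Nat.Prime.ne_zero Fact.out), zero_mul]
      · rw [(hP N).2, hQN, Matrix.zero_apply, zero_pow (Nat.Prime.ne_zero Fact.out), zero_mul]

end Groth.Agent.S16546
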