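import Groth.Statements.S16547
import Mathlib
import Groth.Agent.Lib.CI2.Eakin

set_option autoImplicit false
universe u
open CAlg

namespace Groth.Agent.S16547

open scoped Classical in
theorem spanStep {A B : Type u} [CommRing A] [CommRing B] [Algebra B A] (q : Ideal B) [q.IsPrime]
    (l : List A) (hl : ∀ x ∈ l, ∀ a : A, ∃ b c : B, c ∉ q ∧ x ∣ algebraMap B A c * a - algebraMap B A b) :
    ∃ V : Finset A, V.card ≤ l.length ∧ ∀ a : A, ∃ c : B, c ∉ q ∧ ∃ m ∈ Submodule.span B (V : Set A),
      l.prod ∣ algebraMap B A c * a - m := by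
  induction l with
  | nil => exact ⟨∅, le_rfl, fun a => ⟨1, fun h => ‹q.IsPrime›.ne_top ((Ideal.eq_top_iff_one q).mpr h), 0,
      zero_mem _, by simp⟩⟩
  | cons x l ih =>
    obtain ⟨V, hV, hV'⟩ := ih fun y hy => hl y (List.mem_cons_of_mem _ hy)
    refine ⟨insert 1 (V.image fun v => x * v), (Finset.card_insert_le _ _).trans (Nat.succ_le_succ (Finset.card_image_le.trans hV)), fun a => ?_⟩
    obtain ⟨b, c₁, hc₁, a', ha'⟩ := hl x (List.mem_cons_self ..) a
    obtain ⟨c₂, hc₂, m, hm, e, he⟩ := hV' a'
    refine ⟨c₁ * c₂, fun h => (‹q.IsPrime›.mem_or_mem h).elim hc₁ hc₂, (c₂ * b) • (1 : A) + x * m, ?_, e, ?_⟩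
    · refine add_mem (Submodule.smul_mem _ _ (Submodule.subset_span (by simp))) ?_
      have := Submodule.mem_map_of_mem (f := LinearMap.mulLeft B x) hm
      rw [Submodule.map_span] at this
      refine Submodule.span_mono ?_ this
      rintro _ ⟨v, hv, rfl⟩
      simp only [Finset.coe_insert, Finset.coe_image]
      exact Set.mem_insert_of_mem _ ⟨v, hv, rfl⟩
    · rw [List.prod_cons, Algebra.smul_def, mul_one, map_mul, map_mul]
      linear_combination x * he + algebraMap B A c₂ * ha'

theorem rankBound {A B G : Type u} [CommRing A] [IsDomain A] [CommRing B] [Algebra B A] [FaithfulSMul B A]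
    [Group G] [Fintype G] [MulSemiringAction G A] [FaithfulSMul G A] [SMulCommClass G B A]
    (V : Finset A) (s : B) (hs : s ≠ 0) (h : ∀ a : A, s • a ∈ Submodule.span B (V : Set A)) :
    Fintype.card G ≤ V.card := by
  by_contra hlt
  push Not at hlt
  let K := FractionRing A
  let v : G → (↥V → K) := fun g x => algebraMap A K (g • (x : A))
  have hdep : ¬ LinearIndependent K v := fun hli => by
    have := hli.fintype_card_le_finrank
    rw [Module.finrank_pi, Fintype.card_coe] at this
    omega
  obtain ⟨lam, hlam, g0, hg0⟩ := Fintype.not_linearIndependent_iff.mp hdep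
  have hall : ∀ a : A, ∑ g, lam g * algebraMap A K (g • a) = 0 := by
    have hspan : ∀ a ∈ Submodule.span B (V : Set A), ∑ g, lam g * algebraMap A K (g • a) = 0 := by
      intro a ha
      induction ha using Submodule.span_induction with
      | mem x hx => simpa [v] using congrFun hlam ⟨x, hx⟩
      | zero => simp
      | add x y _ _ hx hy => simp only [smul_add, map_add, mul_add, Finset.sum_add_distrib, hx, hy, add_zero]
      | smul b x _ hx =>
        have : ∀ g : G, lam g * algebraMap A K (g • b • x) = algebraMap A K (algebraMap B A b) * (lam g * algebraMap A K (g • x)) := by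
          intro g; rw [smul_comm, Algebra.smul_def b, map_mul]; ring
        simp only [this, ← Finset.mul_sum, hx, mul_zero]
    intro a
    have h1 := hspan _ (h a)
    have : ∀ g : G, lam g * algebraMap A K (g • s • a) = algebraMap A K (algebraMap B A s) * (lam g * algebraMap A K (g • a)) := by
      intro g; rw [smul_comm, Algebra.smul_def s, map_mul]; ring
    simp only [this, ← Finset.mul_sum] at h1
    refine (mul_eq_zero.mp h1).resolve_left fun h0 => hs ?_
    exact FaithfulSMul.algebraMap_injective B A ((IsFractionRing.injective A K (h0.trans (map_zero _).symm)).trans (map_zero _).symm)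
  let χ : G → (A →* K) := fun g => (algebraMap A K).toMonoidHom.comp (MulSemiringAction.toRingHom G A g).toMonoidHom
  have hinj : Function.Injective χ := fun g g' hgg => FaithfulSMul.eq_of_smul_eq_smul fun a : A =>
    IsFractionRing.injective A K (DFunLike.congr_fun hgg a)
  have hli := (linearIndependent_monoidHom A K).comp χ hinj
  exact hg0 (Fintype.linearIndependent_iff.mp hli lam (funext fun a => by
    rw [Finset.sum_apply]
    exact hall a) g0)

theorem regularPart (B : Type u) [CommRing B] [IsNoetherianRing B] [IsLocalRing B] (x : B)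
    (hx : x ∈ IsLocalRing.maximalIdeal B) (hnz : x ∈ nonZeroDivisors B)
    [IsRegularLocalRing (B ⧸ Ideal.span {x})] : IsRegularLocalRing B := by
  classical
  refine IsRegularLocalRing.of_spanFinrank_maximalIdeal_le (R := B) ?_
  have h1 := (isRegularLocalRing_iff (B ⧸ Ideal.span {x})).mp inferInstance
  obtain ⟨t, ht, ht'⟩ := Submodule.FG.exists_span_finset_card_eq_spanFinrank
    (IsLocalRing.maximalIdeal (B ⧸ Ideal.span {x})).fg_of_isNoetherianRing
  let π := Ideal.Quotient.mk (Ideal.span {x})
  choose l hl using fun z : B ⧸ Ideal.span {x} => Ideal.Quotient.mk_surjective z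
  have hmem : ∀ z, π z ∈ IsLocalRing.maximalIdeal (B ⧸ Ideal.span {x}) ↔ z ∈ IsLocalRing.maximalIdeal B := by
    intro z
    have := IsLocalRing.eq_maximalIdeal
      (Ideal.comap_isMaximal_of_surjective π Ideal.Quotient.mk_surjective (K := IsLocalRing.maximalIdeal _))
    rw [← this]; rfl
  have hspan : IsLocalRing.maximalIdeal B = Ideal.span ((insert x (t.image l) : Finset B) : Set B) := by
    refine le_antisymm (fun z hz => ?_) (Ideal.span_le.mpr fun z hz => ?_)
    · have h2 : π z ∈ (Ideal.span ((insert x (t.image l) : Finset B) : Set B)).map π := by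
        rw [Ideal.map_span]
        have h3 : π z ∈ Submodule.span (B ⧸ Ideal.span {x}) (t : Set (B ⧸ Ideal.span {x})) := by
          rw [ht']; exact (hmem z).mpr hz
        refine Ideal.span_mono ?_ h3
        intro w hw
        exact ⟨l w, by simp [Finset.mem_coe.mp hw]; exact Or.inr ⟨w, hw, rfl⟩, hl w⟩
      have h4 : z ∈ ((Ideal.span ((insert x (t.image l) : Finset B) : Set B)).map π).comap π := h2
      rw [Ideal.comap_map_of_surjective _ Ideal.Quotient.mk_surjective, ← RingHom.ker_eq_comap_bot, Ideal.mk_ker,
        sup_of_le_left (Ideal.span_mono (by simp))] at h4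
      exact h4
    · rcases Finset.mem_insert.mp hz with rfl | hz
      · exact hx
      · obtain ⟨w, hw, rfl⟩ := Finset.mem_image.mp hz
        rw [SetLike.mem_coe, ← hmem]
        show π (l w) ∈ _
        rw [hl w, ← ht']
        exact Submodule.subset_span hw
  have hle : (IsLocalRing.maximalIdeal B).spanFinrank ≤ (IsLocalRing.maximalIdeal (B ⧸ Ideal.span {x})).spanFinrank + 1 := by
    rw [hspan]
    refine (Submodule.spanFinrank_span_le_ncard_of_finite (Finset.finite_toSet _)).trans ?_
    rw [Set.ncard_coe_finset]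
    exact (Finset.card_insert_le _ _).trans (by rw [← ht]; exact Nat.add_le_add_right Finset.card_image_le 1)
  have h2 := ringKrullDim_quotient_succ_le_of_nonZeroDivisor (R := B) hnz
  refine le_trans ?_ h2
  rw [← h1]
  exact_mod_cast hle

theorem principal {A B G : Type u} [CommRing A] [IsDomain A] [UniqueFactorizationMonoid A]
    [CommRing B] [IsNoetherianRing B] [Algebra B A] [FaithfulSMul B A] [Module.Finite B A]
    [Group G] [Finite G] [MulSemiringAction G A] [FaithfulSMul G A] [SMulCommClass G B A]
    [Algebra.IsInvariant B A G]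
    (q : Ideal B) [q.IsPrime] (hq : q.height = 1) (p : Ideal A) [p.IsPrime] [p.LiesOver q]
    (hres : ∀ a : A, ∃ b c : B, c ∉ q ∧ algebraMap B A c * a - algebraMap B A b ∈ p) :
    Submodule.IsPrincipal q := by
  classical
  haveI := Fintype.ofFinite G
  haveI : Algebra.IsIntegral B A := Algebra.IsIntegral.of_finite B A
  have hinjBA := FaithfulSMul.algebraMap_injective B A
  haveI : IsDomain B := hinjBA.isDomain _
  have hpq : p.comap (algebraMap B A) = q := ((Ideal.liesOver_iff p q).mp inferInstance).symm
  have hq0 : q ≠ ⊥ := by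
    rintro rfl
    rw [Ideal.height_bot] at hq
    exact zero_ne_one hq
  have hp0 : p ≠ ⊥ := by
    rintro rfl
    exact hq0 (by rw [← hpq, ← RingHom.ker_eq_comap_bot, (RingHom.injective_iff_ker_eq_bot _).mp hinjBA])
  obtain ⟨π, hπp, hπ⟩ := Ideal.IsPrime.exists_mem_prime_of_ne_bot ‹p.IsPrime› hp0
  haveI hπprime : (Ideal.span {π}).IsPrime := (Ideal.span_singleton_prime hπ.ne_zero).mpr hπ
  have hple : Ideal.span {π} ≤ p := (Ideal.span_singleton_le_iff_mem _).mpr hπp
  have hπq : (Ideal.span {π}).comap (algebraMap B A) = q := by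
    have hle : (Ideal.span {π}).comap (algebraMap B A) ≤ q := hpq ▸ Ideal.comap_mono hple
    by_contra hne
    have hlt := lt_of_le_of_ne hle hne
    have hne0 : (Ideal.span {π}).comap (algebraMap B A) ≠ ⊥ := fun h =>
      hπ.ne_zero (Ideal.span_singleton_eq_bot.mp (Ideal.eq_bot_of_comap_eq_bot h))
    have h1 := Ideal.height_strict_mono_of_isPrime_of_isPrime (bot_lt_iff_ne_bot.mpr hne0)
    have h2 := Ideal.height_strict_mono_of_isPrime_of_isPrime hlt
    rw [hq] at h2
    rw [Ideal.height_bot] at h1
    rw [Order.lt_one_iff] at h2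
    exact h1.ne' h2
  have hpeq : Ideal.span {π} = p := by
    by_contra hne
    have := Ideal.IsIntegral.comap_lt_comap (R := B) (lt_of_le_of_ne hple hne)
    rw [hπq, hpq] at this
    exact lt_irrefl q this
  have hdvdq : ∀ b : B, π ∣ algebraMap B A b ↔ b ∈ q := fun b => by
    rw [← Ideal.mem_span_singleton, ← Ideal.mem_comap, hπq]
  -- conjugates
  have hgd : ∀ (g : G) {x y : A}, x ∣ y → g • x ∣ g • y := fun g x y ⟨z, hz⟩ => ⟨g • z, by rw [hz, smul_mul']⟩
  have hfix : ∀ (g : G) (b : B), g • algebraMap B A b = algebraMap B A b := fun g b => smul_algebraMap g b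
  have hprimeg : ∀ g : G, Prime (g • π) := fun g =>
    (MulEquiv.prime_iff (MulSemiringAction.toRingEquiv G A g).toMulEquiv).mpr hπ
  have hpow : ∀ (g : G) (k : ℕ) (b : B), (g • π) ^ k ∣ algebraMap B A b ↔ π ^ k ∣ algebraMap B A b := by
    intro g k b
    constructor
    · intro h
      have := hgd g⁻¹ h
      rwa [smul_pow', inv_smul_smul, hfix] at this
    · intro h
      have := hgd g h
      rwa [smul_pow', hfix] at this
  let f : G → Associates A := fun g => Associates.mk (g • π)
  let T : Finset (Associates A) := Finset.univ.image f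
  have hrep : ∀ t ∈ T, ∃ g, f g = t := fun t ht => by simpa [T] using ht
  choose! γ hγ using hrep
  let w : Associates A → A := fun t => γ t • π
  let d := (Finset.univ.filter fun g => f g = f 1).card
  have hd : ∀ t ∈ T, (Finset.univ.filter fun g => f g = t).card = d := by
    intro t ht
    have hf : ∀ k g h : G, f g = f h → f (k * g) = f (k * h) := fun k g h e => by
      simp only [f, mul_smul] at e ⊢
      rw [Associates.mk_eq_mk_iff_associated] at e ⊢
      exact e.map (MulSemiringAction.toRingHom G A k)
    refine (Finset.card_bij (fun g _ => γ t * g) (fun g hg => ?_) (fun a _ b _ h => mul_left_cancel h) (fun g hg => ?_)).symm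
    · simp only [Finset.mem_filter, Finset.mem_univ, true_and] at hg ⊢
      rw [hf (γ t) g 1 hg, mul_one, hγ t ht]
    · simp only [Finset.mem_filter, Finset.mem_univ, true_and] at hg ⊢
      refine ⟨(γ t)⁻¹ * g, ?_, mul_inv_cancel_left _ _⟩
      rw [hf (γ t)⁻¹ g (γ t) (by rw [hg, hγ t ht]), inv_mul_cancel]
  have hcard : Fintype.card G = T.card * d := by
    rw [← Finset.card_univ, Finset.card_eq_sum_card_fiberwise (f := f) (t := T) (fun g _ => Finset.mem_image_of_mem f (Finset.mem_univ g)),
      Finset.sum_congr rfl hd, Finset.sum_const, smul_eq_mul]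
  have hrel : (T : Set (Associates A)).Pairwise fun s t => ∀ k : ℕ, IsRelPrime (w s ^ k) (w t ^ k) := by
    intro s hs t ht hne k
    refine IsRelPrime.pow ((hprimeg (γ s)).irreducible.isRelPrime_iff_not_dvd.mpr fun h => hne ?_)
    rw [← hγ s hs, ← hγ t ht]
    exact Associates.mk_eq_mk_iff_associated.mpr ((hprimeg (γ s)).associated_of_dvd (hprimeg (γ t)) h)
  obtain ⟨N0, hN0⟩ := Algebra.IsInvariant.isInvariant (A := B) (∏ g : G, g • π) (fun h => by
    refine (map_prod (MulSemiringAction.toRingHom G A h) _ _).trans ?_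
    exact Finset.prod_equiv (Equiv.mulLeft h) (by simp) (fun g _ => (mul_smul h g _).symm))
  have hN : Associated (∏ g : G, g • π) (∏ t ∈ T, w t ^ d) := by
    rw [← Associates.mk_eq_mk_iff_associated, ← Associates.finset_prod_mk, ← Associates.finset_prod_mk,
      ← Finset.prod_fiberwise_of_maps_to (g := f) (t := T) (fun g _ => Finset.mem_image_of_mem f (Finset.mem_univ g))]
    refine Finset.prod_congr rfl fun t ht => ?_
    rw [Associates.mk_pow, show Associates.mk (w t) = t from hγ t ht,
      Finset.prod_congr rfl (g := fun _ => t) (fun g hg => (Finset.mem_filter.mp hg).2), Finset.prod_const, hd t ht]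
  refine ⟨⟨N0, le_antisymm (fun b hb => ?_) ?_⟩⟩
  swap
  · rw [Submodule.span_singleton_le_iff_mem, ← hdvdq, hN0]
    exact (one_smul G π).symm.dvd.trans (Finset.dvd_prod_of_mem (fun g : G => g • π) (Finset.mem_univ 1))
  rcases eq_or_ne b 0 with rfl | hb0
  · exact zero_mem _
  have ha0 : algebraMap B A b ≠ 0 := fun h => hb0 (hinjBA (h.trans (map_zero _).symm))
  obtain ⟨e, r, hr, her⟩ := WfDvdMonoid.max_power_factor ha0 hπ.irreducible
  have hdvd : ∀ k, π ^ k ∣ algebraMap B A b → k ≤ e := by
    intro k hk
    by_contra hlt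
    push Not at hlt
    have h1 : π ^ (e + 1) ∣ π ^ e * r := her ▸ (pow_dvd_pow π hlt).trans hk
    rw [pow_succ] at h1
    exact hr ((mul_dvd_mul_iff_left (pow_ne_zero e hπ.ne_zero)).mp h1)
  have hprodk : ∀ k ≤ e, ∏ t ∈ T, w t ^ k ∣ algebraMap B A b := by
    intro k hk
    refine Finset.prod_dvd_of_isRelPrime (fun s hs t ht hne => hrel hs ht hne k) fun t _ => ?_
    rw [hpow]
    exact (pow_dvd_pow π hk).trans ⟨r, her⟩
  rcases le_or_gt d e with hde | hde
  · obtain ⟨c, hc⟩ := (hN.dvd.trans (hprodk d hde))
    have hcinv : ∀ g : G, g • c = c := by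
      intro g
      have h := congrArg (g • ·) hc
      simp only [smul_mul', hfix] at h
      rw [hc, ← hN0, hfix g N0] at h
      have hne : algebraMap B A N0 ≠ 0 := by
        intro h0
        rw [← hN0, h0, zero_mul] at hc
        exact ha0 hc
      exact (mul_left_cancel₀ hne h).symm
    obtain ⟨c0, hc0⟩ := Algebra.IsInvariant.isInvariant (A := B) c hcinv
    rw [Submodule.mem_span_singleton]
    refine ⟨c0, hinjBA ?_⟩
    rw [smul_eq_mul, map_mul, hc0, hN0, hc, mul_comm]
  exfalso
  obtain ⟨r', hr'⟩ := hprodk e le_rfl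
  have hne : ∀ g : G, ¬ g • π ∣ r' := by
    intro g hg
    have hgt : f g ∈ T := Finset.mem_image_of_mem f (Finset.mem_univ g)
    have hass : Associated (w (f g)) (g • π) := Associates.mk_eq_mk_iff_associated.mp (hγ _ hgt)
    have : w (f g) ^ (e + 1) ∣ algebraMap B A b := by
      rw [hr', pow_succ]
      exact mul_dvd_mul (Finset.dvd_prod_of_mem _ hgt) (hass.dvd.trans hg)
    have h2 := hdvd (e + 1) ((hpow _ _ _).mp this)
    omega
  obtain ⟨c0, hc0⟩ := Algebra.IsInvariant.isInvariant (A := B) (∏ g : G, g • r') (fun h => by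
    refine (map_prod (MulSemiringAction.toRingHom G A h) _ _).trans ?_
    exact Finset.prod_equiv (Equiv.mulLeft h) (by simp) (fun g _ => (mul_smul h g _).symm))
  have hc0q : c0 ∉ q := by
    rw [← hdvdq, hc0]
    intro h
    obtain ⟨g, -, hg⟩ := hπ.exists_mem_finset_dvd h
    have := hgd g⁻¹ hg
    rw [inv_smul_smul] at this
    exact hne _ this
  obtain ⟨s0, hs0⟩ : r' ∣ ∏ g : G, g • r' := (one_smul G r').symm.dvd.trans (Finset.dvd_prod_of_mem _ (Finset.mem_univ 1))
  let L : List A := T.toList.flatMap fun t => List.replicate e (w t)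
  have hLlen : L.length = T.card * e := by
    simp [L, List.length_flatMap]
  have hLprod : L.prod = ∏ t ∈ T, w t ^ e := by
    rw [← Finset.prod_map_toList T (fun t => w t ^ e)]
    simp only [L]
    induction T.toList with
    | nil => simp
    | cons t l ih => simp [List.flatMap_cons, List.prod_append, List.prod_replicate, ih]
  obtain ⟨V, hV, hV'⟩ := spanStep q L (fun x hx a => by
    simp only [L, List.mem_flatMap, List.mem_replicate] at hx
    obtain ⟨t, -, -, rfl⟩ := hx
    obtain ⟨b', c, hc, hmem⟩ := hres ((γ t)⁻¹ • a)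
    refine ⟨b', c, hc, ?_⟩
    rw [← hpeq, Ideal.mem_span_singleton] at hmem
    have := hgd (γ t) hmem
    rwa [smul_sub, smul_mul', hfix, hfix, smul_inv_smul] at this)
  set M := Submodule.span B (V : Set A)
  have hkey : ∀ n : A ⧸ M, ∃ c : B, c ∉ q ∧ c • n ∈ q • (⊤ : Submodule B (A ⧸ M)) := by
    intro n
    obtain ⟨a, rfl⟩ := Submodule.Quotient.mk_surjective M n
    obtain ⟨c, hc, m, hm, z, hz⟩ := hV' a
    refine ⟨c0 * c, fun h => (‹q.IsPrime›.mem_or_mem h).elim hc0q hc, ?_⟩
    rw [hLprod] at hz
    have e1 : (c0 * c) • a = c0 • m + b • (s0 * z) := by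
      simp only [Algebra.smul_def, map_mul]
      rw [hr', show algebraMap B A c0 = r' * s0 from hc0.trans hs0]
      linear_combination r' * s0 * hz
    rw [← Submodule.Quotient.mk_smul, e1, Submodule.Quotient.mk_add, Submodule.Quotient.mk_smul, Submodule.Quotient.mk_smul,
      (Submodule.Quotient.mk_eq_zero M).mpr hm, smul_zero, zero_add]
    exact Submodule.smul_mem_smul ((hdvdq b).mp (dvd_trans (by
      have h1 : 1 ≤ e := hdvd 1 (by rw [pow_one]; exact (hdvdq b).mpr hb)
      calc π ∣ π ^ e := dvd_pow_self π (by omega)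
        _ ∣ algebraMap B A b := ⟨r, her⟩) dvd_rfl)) Submodule.mem_top
  obtain ⟨gs, hgs⟩ := (Module.Finite.fg_top : (⊤ : Submodule B (A ⧸ M)).FG)
  choose cc hcc hccm using hkey
  let C := ∏ n ∈ gs, cc n
  have hC : C ∉ q := fun h => by
    obtain ⟨n, -, hn⟩ := (Ideal.IsPrime.prod_mem_iff).mp h
    exact hcc n hn
  have hrange : LinearMap.range (algebraMap B (Module.End B (A ⧸ M)) C) ≤ q • ⊤ := by
    rw [LinearMap.range_eq_map, ← hgs, Submodule.map_span, Submodule.span_le]
    rintro _ ⟨n, hn, rfl⟩
    rw [Module.algebraMap_end_apply, SetLike.mem_coe, hgs]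
    obtain ⟨k, hk⟩ := Finset.dvd_prod_of_mem cc hn
    rw [show C = cc n * k from hk, mul_comm, mul_smul]
    exact Submodule.smul_mem _ k (hccm n)
  obtain ⟨P, hPm, -, hPc, hP0⟩ := LinearMap.exists_monic_and_natDegree_eq_and_coeff_mem_pow_and_aeval_eq_zero B _ q hrange
  rw [Polynomial.aeval_algebraMap_apply] at hP0
  set s := Polynomial.eval C P
  have hP0' : algebraMap B (Module.End B (A ⧸ M)) s = 0 := hP0
  have hsq : s ∉ q := by
    intro hs
    rw [show s = Polynomial.eval C P from rfl, Polynomial.eval_eq_sum_range, Finset.sum_range_succ,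
      hPm.coeff_natDegree, one_mul] at hs
    refine hC (‹q.IsPrime›.mem_of_pow_mem P.natDegree ((Ideal.add_mem_iff_right q (sum_mem fun i hi => ?_)).mp hs))
    exact q.mul_mem_right _ (Ideal.pow_le_self (by have := Finset.mem_range.mp hi; omega) (hPc i))
  have hb' := rankBound (G := G) V s (fun h => hsq (h ▸ q.zero_mem)) fun a => by
    have h := LinearMap.congr_fun hP0' (Submodule.Quotient.mk a)
    rw [Module.algebraMap_end_apply, LinearMap.zero_apply, ← Submodule.Quotient.mk_smul, Submodule.Quotient.mk_eq_zero] at h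
    exact h
  have hT : 0 < T.card := Finset.card_pos.mpr (Finset.univ_nonempty.image f)
  have := Nat.mul_lt_mul_of_pos_left hde hT
  omega

/-- Let A be a Noetherian factorial local domain and G a finite group acting faithfully on A by ring
automorphisms; let B be a ring with an injective ring map to A whose image is exactly the ring of
invariants of G, and assume A is a finite B-module. Let q be a prime ideal of B of height one and p
a prime ideal of A lying over q such that the extension of residue fields of the local rings B_q and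
A_p is trivial (every element of A is congruent modulo p to some c⁻¹b with b, c in B, c outside q).
Then q is a principal ideal; and if moreover B/q is a regular local ring, then B is a regular local
ring. -/
theorem result
    {A B G : Type u} [CommRing A] [IsDomain A] [IsNoetherianRing A] [IsLocalRing A]
    [UniqueFactorizationMonoid A]
    [CommRing B] [Algebra B A] [FaithfulSMul B A] [Module.Finite B A]
    [Group G] [Finite G] [MulSemiringAction G A] [FaithfulSMul G A] [SMulCommClass G B A]
    [Algebra.IsInvariant B A G]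
    (q : Ideal B) [q.IsPrime] (hq : q.height = 1) (p : Ideal A) [p.IsPrime] [p.LiesOver q]
    (hres : ∀ a : A, ∃ b c : B, c ∉ q ∧ algebraMap B A c * a - algebraMap B A b ∈ p) :
    Submodule.IsPrincipal q ∧ (IsRegularLocalRing (B ⧸ q) → IsRegularLocalRing B) := by
  have hinj := FaithfulSMul.algebraMap_injective B A
  haveI : IsNoetherianRing B := Groth.Agent.CI2.Eakin.isNoetherianRing (A := A) hinj
  have hP := principal (G := G) q hq p hres
  refine ⟨hP, fun hreg => ?_⟩
  haveI : IsDomain B := hinj.isDomain _
  haveI : IsLocalRing B := RingHom.domain_isLocalRing (algebraMap B A)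
  obtain ⟨x, hx⟩ := hP
  have hx0 : x ≠ 0 := by
    rintro rfl
    rw [Submodule.span_zero_singleton] at hx
    rw [hx, Ideal.height_bot] at hq
    exact zero_ne_one hq
  have hxq : Ideal.span {x} = q := hx.symm
  haveI : IsRegularLocalRing (B ⧸ Ideal.span {x}) :=
    IsRegularLocalRing.of_ringEquiv (Ideal.quotEquivOfEq hxq.symm)
  refine regularPart B x (IsLocalRing.le_maximalIdeal ‹q.IsPrime›.ne_top (hxq ▸ Ideal.mem_span_singleton_self x)) (mem_nonZeroDivisors_of_ne_zero hx0)

end Groth.Agent.S16547
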