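import Groth.Statements.S16548
-- import your own Groth.Agent.* helpers here
import Groth.Agent.Lib.CurveOm17.KaehlerStalk
import Groth.Agent.Lib.BertiniAff5.Basic
import Mathlib.AlgebraicGeometry.Morphisms.Finite

set_option autoImplicit false
universe u
open CategoryTheory CategoryTheory.Limits AlgebraicGeometry
attribute [local instance] Curv2.resAlgebra
open Curves

namespace Groth.Agent.S16548

/-- Let k be a field, X and Y smooth over k of relative dimension one (not necessarily proper), f : X ->
Y a finite k-morphism and x a closed point of X, with y = f(x). Suppose f is tamely ramified at x: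
m_y O_{X,x} = m_x^e for an integer e ≥ 2 prime to the characteristic of k, and κ(x) is separable
over κ(y). Then κ(x) is separable over k. (Consequently the field generated over k by the residue
fields of all such points is Galois over k.) -/
theorem result (k : Type u) [Field k]
    (X Y : Scheme.{u}) [X.Over (Spec (CommRingCat.of k))] [Y.Over (Spec (CommRingCat.of k))]
    [SmoothOfRelativeDimension 1 (X ↘ Spec (CommRingCat.of k))]
    [SmoothOfRelativeDimension 1 (Y ↘ Spec (CommRingCat.of k))]
    (f : X ⟶ Y) [IsFinite f] (hf : f ≫ (Y ↘ Spec (CommRingCat.of k)) = X ↘ Spec (CommRingCat.of k))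
    (x : X) (hx : IsClosed ({x} : Set X)) (e : ℕ)
    (he : (IsLocalRing.maximalIdeal (Y.presheaf.stalk (f.base x))).map (f.stalkMap x).hom =
      IsLocalRing.maximalIdeal (X.presheaf.stalk x) ^ e)
    (h2 : 2 ≤ e) (hp : ¬ ringChar k ∣ e)
    (hsep : @Algebra.IsSeparable (Y.residueField (f.base x)) (X.residueField x) _ _
      (f.residueFieldMap x).hom.toAlgebra) :
    Algebra.IsSeparable k (X.residueField x) := by
  letI : Algebra k (Y.presheaf.stalk (f.base x)) :=
    (Groth.Agent.RegSmooth17.toStalk (Y ↘ Spec (CommRingCat.of k)) (f.base x)).toAlgebra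
  letI : Algebra k (X.presheaf.stalk x) :=
    (Groth.Agent.RegSmooth17.toStalk (X ↘ Spec (CommRingCat.of k)) x).toAlgebra
  letI : Algebra (Y.presheaf.stalk (f.base x)) (X.presheaf.stalk x) := (f.stalkMap x).hom.toAlgebra
  haveI : IsScalarTower k (Y.presheaf.stalk (f.base x)) (X.presheaf.stalk x) := IsScalarTower.of_algebraMap_eq' (by
    show Groth.Agent.RegSmooth17.toStalk _ x = (f.stalkMap x).hom.comp (Groth.Agent.RegSmooth17.toStalk _ (f.base x))
    rw [Groth.Agent.RegSmooth17.toStalk, Groth.Agent.RegSmooth17.toStalk, ← CommRingCat.hom_comp, Category.assoc,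
      Category.assoc]
    erw [Scheme.Hom.germ_stalkMap f ⊤ x trivial]
    rw [← hf, Scheme.Hom.comp_appTop, Category.assoc]
    rfl)
  haveI : IsLocalHom (algebraMap (Y.presheaf.stalk (f.base x)) (X.presheaf.stalk x)) :=
    inferInstanceAs (IsLocalHom (f.stalkMap x).hom)
  haveI : Algebra.EssFiniteType (Y.presheaf.stalk (f.base x)) (X.presheaf.stalk x) :=
    RingHom.essFiniteType_algebraMap.1 (LocallyOfFiniteType.stalkMap f x)
  haveI : Algebra.IsSeparable (IsLocalRing.ResidueField (Y.presheaf.stalk (f.base x)))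
      (IsLocalRing.ResidueField (X.presheaf.stalk x)) := by
    have h0 : (f.residueFieldMap x).hom.toAlgebra =
        (inferInstance : Algebra (IsLocalRing.ResidueField (Y.presheaf.stalk (f.base x)))
          (IsLocalRing.ResidueField (X.presheaf.stalk x))) := by
      refine Algebra.algebra_ext _ _ fun r => ?_
      obtain ⟨r, rfl⟩ := IsLocalRing.residue_surjective r
      exact ConcreteCategory.congr_hom (Scheme.residue_residueFieldMap f x) r
    have h1 : @Algebra.IsSeparable (IsLocalRing.ResidueField (Y.presheaf.stalk (f.base x)))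
        (IsLocalRing.ResidueField (X.presheaf.stalk x)) _ _ inferInstance := by
      rw [← h0]; exact hsep
    exact h1
  haveI : Smooth (Y ↘ Spec (CommRingCat.of k)) := SmoothOfRelativeDimension.smooth 1 _
  haveI : Algebra.EssFiniteType k (IsLocalRing.ResidueField (Y.presheaf.stalk (f.base x))) := by
    refine RingHom.essFiniteType_algebraMap.1 ?_
    show ((Y.residue (f.base x)).hom.comp (Groth.Agent.RegSmooth17.toStalk _ (f.base x))).EssFiniteType
    refine RingHom.EssFiniteType.comp ?_
      (RingHom.FiniteType.of_surjective _ (Y.residue_surjective (f.base x))).essFiniteType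
    rw [Groth.Agent.RegSmooth17.toStalk_eq]
    refine RingHom.EssFiniteType.comp (RingHom.EssFiniteType.comp ?_ ?_)
      (LocallyOfFiniteType.stalkMap (Y ↘ Spec (CommRingCat.of k)) (f.base x))
    · exact (RingHom.FiniteType.of_surjective _
        (ConcreteCategory.bijective_of_isIso (Scheme.ΓSpecIso (CommRingCat.of k)).inv).2).essFiniteType
    · have hU := isAffineOpen_top (Spec (CommRingCat.of k))
      letI := (Spec (CommRingCat.of k)).presheaf.algebra_section_stalk (U := ⊤)
        ⟨(Y ↘ Spec (CommRingCat.of k)) (f.base x), trivial⟩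
      haveI := hU.isLocalization_stalk ⟨(Y ↘ Spec (CommRingCat.of k)) (f.base x), trivial⟩
      exact RingHom.essFiniteType_algebraMap.2 (Algebra.EssFiniteType.of_isLocalization _
        (hU.primeIdealOf ⟨(Y ↘ Spec (CommRingCat.of k)) (f.base x), trivial⟩).asIdeal.primeCompl)
  by_contra hns
  have hns' : ¬ Algebra.IsSeparable k (IsLocalRing.ResidueField (Y.presheaf.stalk (f.base x))) := fun h => by
    refine hns ?_
    haveI : IsScalarTower k (IsLocalRing.ResidueField (Y.presheaf.stalk (f.base x)))
        (IsLocalRing.ResidueField (X.presheaf.stalk x)) := IsScalarTower.of_algebraMap_eq fun c => by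
      show IsLocalRing.residue _ (algebraMap k (X.presheaf.stalk x) c) = algebraMap _ _
        (IsLocalRing.residue _ (algebraMap k (Y.presheaf.stalk (f.base x)) c))
      rw [IsScalarTower.algebraMap_apply k (Y.presheaf.stalk (f.base x)) (X.presheaf.stalk x)]
      rfl
    have := Algebra.IsSeparable.trans k (IsLocalRing.ResidueField (Y.presheaf.stalk (f.base x)))
      (IsLocalRing.ResidueField (X.presheaf.stalk x))
    exact this
  obtain ⟨eS⟩ := Groth.Agent.CurveOm17.nonempty_kaehler_stalk_equiv (X ↘ Spec (CommRingCat.of k)) x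
  have h1 := Groth.Agent.CurveOm17.map_maximalIdeal_of_not_separable eS hns'
  have h2' : IsLocalRing.maximalIdeal (X.presheaf.stalk x) ≤ IsLocalRing.maximalIdeal (X.presheaf.stalk x) ^ 2 :=
    h1.symm.le.trans (he.le.trans (Ideal.pow_le_pow_right h2))
  haveI : Smooth (X ↘ Spec (CommRingCat.of k)) := SmoothOfRelativeDimension.smooth 1 _
  haveI : IsLocallyNoetherian X := LocallyOfFiniteType.isLocallyNoetherian (X ↘ Spec (CommRingCat.of k))
  have hbot : IsLocalRing.maximalIdeal (X.presheaf.stalk x) = ⊥ := by
    refine Submodule.eq_bot_of_le_smul_of_le_jacobson_bot (IsLocalRing.maximalIdeal (X.presheaf.stalk x)) _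
      (IsNoetherian.noetherian _) ?_ (IsLocalRing.maximalIdeal_le_jacobson ⊥)
    rwa [Ideal.smul_eq_mul, ← pow_two]
  obtain ⟨U, hU, V, hV, hxV, hle, hsm⟩ :=
    SmoothOfRelativeDimension.exists_isStandardSmoothOfRelativeDimension (n := 1) (f := X ↘ Spec (CommRingCat.of k)) x
  obtain rfl : U = ⊤ := top_le_iff.1 fun z _ => by
    rw [Subsingleton.elim (α := PrimeSpectrum k) z ((X ↘ Spec (CommRingCat.of k)) x)]
    exact hle hxV
  letI : Algebra k Γ(X, V) :=
    (((X ↘ Spec (CommRingCat.of k)).appLE ⊤ V hle).hom.comp (Scheme.ΓSpecIso (CommRingCat.of k)).inv.hom).toAlgebra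
  haveI : Algebra.IsStandardSmoothOfRelativeDimension 1 k Γ(X, V) :=
    hsm.comp (RingHom.IsStandardSmoothOfRelativeDimension.equiv
      (Scheme.ΓSpecIso (CommRingCat.of k)).symm.commRingCatIsoToRingEquiv)
  let q := (hV.primeIdealOf ⟨x, hxV⟩).asIdeal
  haveI : q.IsMaximal := by
    rw [← PrimeSpectrum.isClosed_singleton_iff_isMaximal]
    have : ({hV.primeIdealOf ⟨x, hxV⟩} : Set (Spec Γ(X, V))) = hV.fromSpec ⁻¹' {x} := by
      ext z
      change z = hV.primeIdealOf ⟨x, hxV⟩ ↔ hV.fromSpec z = x
      exact ⟨fun h => h ▸ hV.fromSpec_primeIdealOf ⟨x, hxV⟩,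
        fun h => hV.fromSpec.isOpenEmbedding.injective (h.trans (hV.fromSpec_primeIdealOf ⟨x, hxV⟩).symm)⟩
    exact (this ▸ hx.preimage hV.fromSpec.continuous :)
  have hd := Groth.Agent.CurveCartier25.ringKrullDim_atPrime_of_standardSmooth k Γ(X, V) 1 q
  letI := X.presheaf.algebra_section_stalk (U := V) ⟨x, hxV⟩
  haveI := hV.isLocalization_stalk ⟨x, hxV⟩
  rw [ringKrullDim_eq_of_ringEquiv
    (IsLocalization.algEquiv q.primeCompl (Localization.AtPrime q) (X.presheaf.stalk x)).toRingEquiv,
    ringKrullDim_eq_zero_of_isField (IsLocalRing.isField_iff_maximalIdeal_eq.2 hbot)] at hd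
  exact absurd hd (by norm_num)

end Groth.Agent.S16548
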