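import Groth.Statements.S16552
import Groth.Agent.Lib.ModelDom32.Fibre
import Groth.Agent.Lib.RelMin32.Birat
import Groth.Agent.Lib.PointBlowUp32.RatMap
import Groth.Agent.S2415
import Mathlib

set_option autoImplicit false
set_option linter.style.haveILetI false
set_option maxHeartbeats 1000000
set_option backward.isDefEq.respectTransparency false
universe u
open CategoryTheory CategoryTheory.Limits AlgebraicGeometry
open Models

namespace Groth.Agent.S16552

/-- Let R be a discrete valuation ring with fraction field K, C a smooth proper curve over K with H^0(C,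
O_C) = K, and XR, WR two models of C over R — integral normal schemes, proper and flat over Spec R,
with generic fibres identified with C through iX and iW. For a point x of either model, view its
local ring inside the function field of C (the stalk of C at its generic point η) through the
specialization map to the stalk at the image of η followed by the stalk map of iX or iW. Suppose
that for every point ξ of WR whose closure is an irreducible component of the special fibre there is
a point ξ' of XR whose closure is an irreducible component of the special fibre and whose local ring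
has the same image in the function field as that of ξ (the centre of the discrete valuation ring
O_{WR,ξ} on XR is a generic point of the special fibre). Then the identification of generic fibres
extends to an R-morphism XR -> WR. The published statement takes both models projective over R; this
row asks them only to be proper, which the argument allows. -/
theorem result
    (R : Type u) [CommRing R] [IsDomain R] [IsDiscreteValuationRing R]
    (C : Scheme.{u}) [IsIntegral C] (fC : C ⟶ Spec (CommRingCat.of (FractionRing R)))
    (hC : Curve.IsSmoothProperCurve (FractionRing R) C fC) (hC0 : IsIso fC.appTop)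
    (XR WR : Over (Spec (CommRingCat.of R))) [IsIntegral XR.left] [IsIntegral WR.left]
    (hXn : Pi1.IsNormalScheme XR.left) (hWn : Pi1.IsNormalScheme WR.left)
    [IsProper XR.hom] [Flat XR.hom] [IsProper WR.hom] [Flat WR.hom]
    (iX : C ⟶ XR.left) (hiX : IsPullback iX fC XR.hom (Spec.map (CommRingCat.ofHom (algebraMap R (FractionRing R)))))
    (iW : C ⟶ WR.left) (hiW : IsPullback iW fC WR.hom (Spec.map (CommRingCat.ofHom (algebraMap R (FractionRing R)))))
    (H : ∀ (ξ : WR.left) (hξ : iW.base (genericPoint C) ⤳ ξ),
      closure ({ξ} : Set WR.left) ∈ Models.fibreComponents R WR →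
        ∃ (ξ' : XR.left) (hξ' : iX.base (genericPoint C) ⤳ ξ'),
          closure ({ξ'} : Set XR.left) ∈ Models.fibreComponents R XR ∧
          Set.range ((iX.stalkMap (genericPoint C)).hom.comp (XR.left.presheaf.stalkSpecializes hξ').hom) =
            Set.range ((iW.stalkMap (genericPoint C)).hom.comp (WR.left.presheaf.stalkSpecializes hξ).hom)) :
    ∃ φ : XR ⟶ WR, iX ≫ φ.left = iW := by
  haveI := hC.1
  haveI := hC.2.2.1
  haveI : IsOpenImmersion iX := ArInter.isOpenImmersion_generic (p := XR.hom) hiX
  haveI : IsOpenImmersion iW := ArInter.isOpenImmersion_generic (p := WR.hom) hiW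
  haveI : AlgebraicGeometry.IsNoetherian XR.left := ArInter.isNoetherian_left ⟨inferInstance, inferInstance, inferInstance, inferInstance⟩
  haveI : XR.left.IsSeparated := ⟨by
    rw [show terminal.from XR.left = XR.hom ≫ terminal.from _ from terminal.hom_ext _ _]
    infer_instance⟩
  let U : XR.left.Opens := iX.opensRange
  let e := iX.isoOpensRange
  have hne : (U : Set XR.left).Nonempty := ⟨iX (genericPoint C), _, rfl⟩
  have heι : e.inv ≫ iX = U.ι := by
    rw [Iso.inv_comp_eq]; exact (Scheme.Hom.isoOpensRange_hom_ι iX).symm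
  obtain ⟨G, hG, i, σ, hi, hσ, hiso, hσf, hσr⟩ := ModelDom.exists_graph XR.hom WR.hom U hne (e.inv ≫ iW) (by
    rw [Category.assoc, hiW.w, ← hiX.w, ← Category.assoc, heι])
  haveI := hG; haveI := hi; haveI := hσ; haveI := hiso
  let f : G ⟶ XR.left := i ≫ pullback.fst XR.hom WR.hom
  let r : G ⟶ WR.left := i ≫ pullback.snd XR.hom WR.hom
  haveI : IsProper (pullback.fst XR.hom WR.hom) := MorphismProperty.pullback_fst _ _ inferInstance
  haveI : IsProper f := inferInstanceAs (IsProper (i ≫ pullback.fst XR.hom WR.hom))
  let j : C ⟶ G := e.hom ≫ σ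
  have hjf : j ≫ f = iX := by
    show (e.hom ≫ σ) ≫ f = iX
    rw [Category.assoc, hσf, ← heι, Iso.hom_inv_id_assoc]
  have hjr : j ≫ r = iW := by
    show (e.hom ≫ σ) ≫ r = iW
    rw [Category.assoc, hσr, Iso.hom_inv_id_assoc]
  haveI : IsOpenImmersion j := inferInstanceAs (IsOpenImmersion (e.hom ≫ σ))
  haveI : IsLocallyNoetherian G := LocallyOfFiniteType.isLocallyNoetherian f
  haveI : CompactSpace G := QuasiCompact.compactSpace_of_compactSpace f
  haveI : AlgebraicGeometry.IsNoetherian G := {}
  have hq : r ≫ WR.hom = f ≫ XR.hom := by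
    simp only [r, f, Category.assoc, pullback.condition]
  obtain ⟨π, hπ⟩ := IsDiscreteValuationRing.exists_irreducible R
  -- points off the generic fibre lie on the closed fibre
  have hsp : ∀ x : XR.left, x ∉ U → x ∈ Models.specialFibreSet R XR := fun x hx => by
    by_contra h
    refine hx ?_
    show x ∈ Set.range iX
    rw [ArInter.range_generic (p := XR.hom) hiX hπ]
    by_contra hb
    refine h ((ArInter.mem_support_fibreIdeal (X := XR) hπ x).1 ?_)
    obtain ⟨V, hV, hx'⟩ := DivDesc12.exists_affine x
    rw [Scheme.IdealSheafData.mem_support_iff_of_mem (U := ⟨V, hV⟩) hx', ArInter.ideal_fibreIdeal,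
      Scheme.zeroLocus_span, Scheme.mem_zeroLocus_iff]
    simp only [Set.mem_singleton_iff, forall_eq]
    rw [Scheme.basicOpen_res]
    exact fun hh => hb hh.2
  -- the fibres of `f` have no specializations
  have anti : ∀ {γ γ' : G}, γ ⤳ γ' → f γ = f γ' → γ = γ' := by
    intro γ γ' hs he
    by_cases hU : f γ ∈ U
    · exact PointBlowUp.eq_of_restrict f U hU he
    have hspy := hsp _ hU
    have hrange : ∀ δ : G, ModelDom.IsMaxPt (f δ) →
        Set.range (ModelDom.toK j δ (ModelDom.spec_gen j δ)) =
          Set.range (ModelDom.toK iX (f δ) (ModelDom.spec_gen iX (f δ))) := fun δ hδ => by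
      obtain ⟨hd, hv⟩ := ModelDom.valuationRing hXn hδ
      haveI := hd; haveI := hv
      exact ModelDom.range_eq_of_valuation (f.stalkMap δ).hom _ _
        (ModelDom.toK_comp j f hjf δ _ _).symm (ModelDom.toK_injective iX _ _)
        (ModelDom.toK_injective j δ _) (ModelDom.toK_frac iX _ _)
    by_cases hyM : ModelDom.IsMaxPt (f γ)
    · refine ModelDom.eq_of_range j hs ?_
      rw [hrange γ hyM, hrange γ' (he ▸ hyM)]
      exact ModelDom.range_congr iX he _ _
    have hyc : IsClosed ({f γ} : Set XR.left) :=
      (ModelDom.isMaxPt_or_isClosed hC iX hiX hspy).resolve_left hyM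
    have hrs : r γ ∈ Models.specialFibreSet R WR := by
      show WR.hom (r γ) = IsLocalRing.closedPoint R
      rw [← Scheme.Hom.comp_apply, hq, Scheme.Hom.comp_apply]
      exact hspy
    rcases ModelDom.isMaxPt_or_isClosed hC iW hiW hrs with hWM | hWc
    · exfalso
      obtain ⟨ξ', hξ', hξc, hR⟩ := H (r γ) (ModelDom.spec_gen iW _) ((ModelDom.isMaxPt_iff_component _).1 hWM)
      have hξM := (ModelDom.isMaxPt_iff_component ξ').2 hξc
      obtain ⟨hd, hv⟩ := ModelDom.valuationRing hWn hWM
      haveI := hd; haveI := hv
      let a := ModelDom.toK j γ (ModelDom.spec_gen j γ)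
      have ha : Function.Injective a := ModelDom.toK_injective j γ _
      have hA : Set.range a = Set.range (ModelDom.toK iX ξ' hξ') :=
        (ModelDom.range_eq_of_valuation (r.stalkMap γ).hom a _ (ModelDom.toK_comp j r hjr γ _ _).symm
          (ModelDom.toK_injective iW _ _) ha (ModelDom.toK_frac iW _ _)).trans hR.symm
      have hmem : ∀ v, ModelDom.toK iX ξ' hξ' v ∈ Set.range a := fun v => hA.ge ⟨v, rfl⟩
      choose φ hφ using hmem
      let φ' : XR.left.presheaf.stalk ξ' →+* G.presheaf.stalk γ :=
        { toFun := φ
          map_one' := ha (by rw [hφ, map_one, map_one])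
          map_mul' := fun x y => ha (by rw [hφ, map_mul, map_mul, hφ, hφ])
          map_zero' := ha (by rw [hφ, map_zero, map_zero])
          map_add' := fun x y => ha (by rw [hφ, map_add, map_add, hφ, hφ]) }
      have hb : Function.Bijective φ' := by
        refine ⟨fun x y hxy => ModelDom.toK_injective iX ξ' hξ' ?_, fun o => ?_⟩
        · rw [← hφ, ← hφ]
          exact congrArg a hxy
        · obtain ⟨v, hv⟩ := hA.le ⟨o, rfl⟩
          exact ⟨v, ha ((hφ v).trans hv)⟩
      haveI : IsLocalHom φ' := ⟨fun v hv => by
        have h2 := hv.map (RingEquiv.ofBijective φ' hb).symm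
        rwa [show (RingEquiv.ofBijective φ' hb).symm (φ' v) = v from
          (RingEquiv.ofBijective φ' hb).symm_apply_apply v] at h2⟩
      haveI : IsDomain (G.presheaf.stalk γ) := ha.isDomain a
      have hee : f γ = ξ' := ModelDom.centre_unique iX a ha (ModelDom.spec_gen iX (f γ)) hξ' (f.stalkMap γ).hom φ'
        (ModelDom.toK_comp j f hjf γ _ _).symm (RingHom.ext hφ)
      exact hyM (hee ▸ hξM)
    -- both points closed: the fibre over them is discrete
    have hr' : r γ' = r γ := (hs.map r.continuous).mem_closed hWc rfl
    let k := XR.left.fromSpecResidueField (f γ)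
    haveI : IsClosedImmersion k := isClosed_singleton_iff_isClosedImmersion.1 hyc
    haveI : IsProper (k ≫ XR.hom) := inferInstance
    haveI : IsAffineHom (k ≫ XR.hom) := inferInstance
    haveI : IsFinite (k ≫ XR.hom) := IsFinite.iff_isProper_and_isAffineHom.2 ⟨inferInstance, inferInstance⟩
    haveI : IsFinite (pullback.snd (k ≫ XR.hom) WR.hom) := MorphismProperty.pullback_snd _ _ inferInstance
    let m : f.fiber (f γ) ⟶ pullback (k ≫ XR.hom) WR.hom :=
      pullback.lift (f.fiberToSpecResidueField (f γ)) (f.fiberι (f γ) ≫ r) (by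
        rw [Category.assoc, hq, ← Category.assoc, ← Category.assoc]
        exact congrArg (· ≫ XR.hom) pullback.condition.symm)
    let n : pullback (k ≫ XR.hom) WR.hom ⟶ pullback XR.hom WR.hom :=
      pullback.map _ _ _ _ k (𝟙 _) (𝟙 _) (by simp) (by simp)
    have hmn : m ≫ n = f.fiberι (f γ) ≫ i := by
      apply pullback.hom_ext
      · simp only [m, n, Category.assoc, pullback.lift_fst, pullback.lift_fst_assoc, pullback.map]
        exact pullback.condition.symm
      · simp only [m, n, r, Category.assoc, pullback.lift_snd, pullback.lift_snd_assoc, pullback.map,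
          Category.comp_id]
    have hγ : γ ∈ Set.range (f.fiberι (f γ)) := by rw [Scheme.Hom.range_fiberι]; rfl
    have hγ' : γ' ∈ Set.range (f.fiberι (f γ)) := by rw [Scheme.Hom.range_fiberι]; exact he.symm
    obtain ⟨z, hz⟩ := hγ
    obtain ⟨z', hz'⟩ := hγ'
    have hzz : z ⤳ z' := (f.fiberι (f γ)).isEmbedding.isInducing.specializes_iff.1 (by rw [hz, hz']; exact hs)
    have hsn : ∀ w, pullback.snd (k ≫ XR.hom) WR.hom (m w) = r (f.fiberι (f γ) w) := fun w => by
      rw [← Scheme.Hom.comp_apply, show m ≫ pullback.snd _ _ = f.fiberι (f γ) ≫ r from pullback.lift_snd _ _ _,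
        Scheme.Hom.comp_apply]
    have hd := (pullback.snd (k ≫ XR.hom) WR.hom).isDiscrete_preimage_singleton (r γ)
    have h1 : m z ∈ pullback.snd (k ≫ XR.hom) WR.hom ⁻¹' {r γ} := by
      show pullback.snd (k ≫ XR.hom) WR.hom (m z) = r γ
      rw [hsn, hz]
    have h2 : m z' ∈ pullback.snd (k ≫ XR.hom) WR.hom ⁻¹' {r γ} := by
      show pullback.snd (k ≫ XR.hom) WR.hom (m z') = r γ
      rw [hsn, hz', hr']
    haveI := hd.to_subtype
    have hmz : m z = m z' := congrArg Subtype.val
      (((subtype_specializes_iff ⟨m z, h1⟩ ⟨m z', h2⟩).2 (hzz.map m.continuous)).eq)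
    have hw : ∀ w, i (f.fiberι (f γ) w) = n (m w) := fun w => by
      rw [← Scheme.Hom.comp_apply, ← hmn, Scheme.Hom.comp_apply]
    have : i γ = i γ' :=
      (congrArg i hz.symm).trans ((hw z).trans ((congrArg n hmz).trans ((hw z').symm.trans (congrArg i hz'))))
    exact i.isClosedEmbedding.injective this
  have hfin : ∀ y : XR.left, (f.base ⁻¹' {y}).Finite := fun y => by
    obtain ⟨S, hS, hS1, hS2, hSeq⟩ := TopologicalSpace.NoetherianSpace.exists_finite_set_isClosed_irreducible
      ((isClosed_closure (s := ({y} : Set XR.left))).preimage f.continuous)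
    haveI : Finite S := hS
    refine (Set.finite_range fun T : S => (hS2 T.1 T.2).genericPoint).subset fun γ hγ => ?_
    obtain ⟨T, hT, hγT⟩ := Set.mem_sUnion.1 (hSeq ▸ (subset_closure hγ : f γ ∈ closure ({y} : Set XR.left)) :
      γ ∈ ⋃₀ S)
    refine ⟨⟨T, hT⟩, ?_⟩
    have hg := (hS2 T hT).isGenericPoint_genericPoint (hS1 T hT)
    have hm : f (hS2 T hT).genericPoint ∈ closure ({y} : Set XR.left) :=
      (hSeq ▸ Set.mem_sUnion_of_mem hg.mem hT : (hS2 T hT).genericPoint ∈ f ⁻¹' closure ({y} : Set XR.left))
    have hy : f γ = y := hγ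
    refine anti (hg.specializes hγT) ?_
    rw [hy]
    exact ((specializes_iff_mem_closure.2 hm).antisymm (hy ▸ (hg.specializes hγT).map f.continuous)).eq.symm
  obtain ⟨hgen, hbir⟩ := RelMin.birational_of_restrict f hne
  haveI := (Groth.Agent.S2415.result hXn f hgen hbir hfin).2 inferInstance
  refine ⟨Over.homMk (inv f ≫ r) ?_, ?_⟩
  · show (inv f ≫ r) ≫ WR.hom = XR.hom
    rw [Category.assoc, hq, IsIso.inv_hom_id_assoc]
  · show iX ≫ inv f ≫ r = iW
    rw [← hjf, Category.assoc, IsIso.hom_inv_id_assoc, hjr]

end Groth.Agent.S16552
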