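import Groth.Statements.S16557
import Groth.Agent.Lib.SurfRR10.Curves

set_option autoImplicit false
set_option linter.style.haveILetI false
set_option maxHeartbeats 2000000
set_option backward.isDefEq.respectTransparency false
set_option backward.isDefEq.respectTransparency.types false
universe u
open CategoryTheory CategoryTheory.Limits AlgebraicGeometry TopologicalSpace
open Surf

namespace Groth.Agent.S16557

noncomputable local instance instLawS16557 (Y : Scheme.{u}) : PicGrp.Law Y := M2.law Y

/-- Let X be a smooth proper integral surface over an algebraically closed field k, W = Λ²Ω_{X/k} a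
canonical module, and suppose H⁰(X, W) = 0 (the source states this for smooth rational surfaces and
uses exactly the vanishing of H⁰(X, K_X)). If L is an invertible O_X-module with H⁰(X, L) ≠ 0, then
H²(X, L) = 0. -/
theorem result (k : Type u) [Field k] [IsAlgClosed k]
    (X : Scheme.{u}) [X.Over (Spec (CommRingCat.of k))] [IsIntegral X] [IsProper (X ↘ (Spec (CommRingCat.of k)))] [Smooth (X ↘ (Spec (CommRingCat.of k)))]
    (hdim : topologicalKrullDim X = 2)
    (W : X.Modules) (hW : ExtPow.IsExtPow 2 (Omega.sheaf (X ↘ (Spec (CommRingCat.of k)))) W)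
    (hpg : Subsingleton (Coh.HH X W 0))
    (L : X.Modules) (hL : PicF.IsInvertible L) (h0 : Nontrivial (Coh.HH X L 0)) :
    Subsingleton (Coh.HH X L 2) := by
  have hWi : PicF.IsInvertible W := SurfRR10.isInvertible_canonical hdim hW
  have hd := SurfRR10.dim_eq (k := k) hdim
  by_contra h2
  rw [not_subsingleton_iff_nontrivial] at h2
  have hdual := SurfRR10.finrank_duality hdim hW hWi (PicGrp.cls L hL) (p := 2) le_rfl
  have hpos : 0 < Module.finrank k (Coh.HH X (HypSq10.rep (PicGrp.cls L hL)) 2) := by
    haveI : Module.Finite k (Coh.HH X (HypSq10.rep (PicGrp.cls L hL)) 2) := SymSq10.finite_hh _ 2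
    haveI : Nontrivial (Coh.HH X (HypSq10.rep (PicGrp.cls L hL)) 2) :=
      (CurveCoh17.hequiv k (HypSq10.rep_cls hL).some 2).toEquiv.nontrivial
    exact Module.finrank_pos
  haveI : Nontrivial (Coh.HH X (HypSq10.rep ((PicGrp.cls L hL)⁻¹ * PicGrp.cls W hWi)) 0) :=
    Module.nontrivial_of_finrank_pos (R := k) (hdual ▸ hpos)
  have hs1 := NumPoly18.hasMonoSec_of_nontrivial k hL h0
  have hM := HypSq10.rep_inv ((PicGrp.cls L hL)⁻¹ * PicGrp.cls W hWi)
  have hs2 := NumPoly18.hasMonoSec_of_nontrivial k hM inferInstance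
  obtain ⟨e⟩ := (PicGrp.cls_eq_cls_iff (M2.isInvertible_tensor hL hM) hWi).1
    (by rw [← AlgEquiv22.cls_tensor hL hM, HypSq10.cls_rep, mul_inv_cancel_left])
  exact not_subsingleton_iff_nontrivial.2 (NumPoly18.nontrivial_of_hasMonoSec k ((hs2.tensor hs1 hM).of_iso e)) hpg

end Groth.Agent.S16557
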