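import Groth.Statements.S1656
import Groth.Agent.Lib.DlzCurve17.EndOmega
import Groth.Agent.Lib.TFOne27.Cluster

set_option autoImplicit false
set_option maxHeartbeats 1000000
universe u
open CategoryTheory CategoryTheory.Limits AlgebraicGeometry
attribute [local instance] HasDerivedCategory.standard
open Curves

namespace Groth.Agent.S1656

/-- Let X be proper over k, Cohen–Macaulay and equidimensional of dimension one, and let ω_X be its
dualizing module, i.e. the cohomology sheaf in degree -1 of f^! O for f : X → Spec k (assuming the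
derived direct image Rf_* on D_QCoh and its right adjoint exist, which is how the shared prelude
presents f^!). Then χ(X, O_X) = -χ(X, ω_X). -/
theorem result (k : Type u) [Field k] (X : Scheme.{u}) [X.Over (Spec (CommRingCat.of k))] [IsProper (X ↘ (Spec (CommRingCat.of k)))]
    (hCM : ∀ x : X, LocCoh.IsCohenMacaulayLocalRing (X.presheaf.stalk x))
    (hequi : ∀ Z ∈ irreducibleComponents (X : Type u), topologicalKrullDim Z = 1)
    [DCoh.HasRpush (X ↘ (Spec (CommRingCat.of k)))] (h : DCoh.RpushPreservesQCoh (X ↘ (Spec (CommRingCat.of k)))) [DCoh.HasShriek (X ↘ (Spec (CommRingCat.of k))) h]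
    (OY : DCoh.DQCoh (Spec (CommRingCat.of k))) (hOY : Nonempty (OY.obj ≅ DCoh.inD (Spec (CommRingCat.of k)) (Coh.structureModule (Spec (CommRingCat.of k))))) :
    Curv2.euler k X (Coh.structureModule X) = - Curv2.euler k X (DCoh.dualizingMod (X ↘ (Spec (CommRingCat.of k))) h OY 1) := by
  have hω := DlzCurve17.isCoh_dualizingMod k X h OY hOY
  have hO := M1.isCoh_structureModule X
  have hle : topologicalKrullDim X ≤ 1 :=
    CurveR1_10.topologicalKrullDim_le_of_components fun Z hZ => (hequi Z hZ).le
  have hX := CurveAmple18.curveLike k X hle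
  rcases isEmpty_or_nonempty X with he | ⟨⟨x⟩⟩
  · rw [TFOne27.euler_eq_zero hX hO (fun y => isEmptyElim y), TFOne27.euler_eq_zero hX hω (fun y => isEmptyElim y),
      neg_zero]
  · have hdim : topologicalKrullDim X = 1 :=
      le_antisymm hle ((hequi _ (irreducibleComponent_mem_irreducibleComponents x)).ge.trans
        (topologicalKrullDim_subspace_le X _))
    rw [(hX.adm hO).euler_eq, (hX.adm hω).euler_eq, DlzCurve17.h0_dualizing_eq k h OY hOY hdim,
      DlzCurve17.h1_dualizing_eq k h OY hOY hCM hequi hdim]
    ring

end Groth.Agent.S1656
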