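import Groth.Statements.S16560
import Groth.Agent.Lib.BlowPts12.Basic
import Groth.Agent.Lib.PlaneOne10.Basic
import Groth.Agent.S16559
import Groth.Agent.S0844
import Groth.Agent.Lib.CMReg18.Proj
-- import your own Groth.Agent.* helpers here

set_option autoImplicit false
set_option maxHeartbeats 1000000
set_option backward.isDefEq.respectTransparency false
set_option backward.isDefEq.respectTransparency.types false
universe u
open CategoryTheory CategoryTheory.Limits AlgebraicGeometry TopologicalSpace
open Surf

namespace Groth.Agent.S16560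

open TopologicalSpace Groth.Agent
open Groth.Agent.SymSq10 (sdot)
open Groth.Agent.HypSq10 (chi rep rep_inv cls_rep)

noncomputable local instance instLawPlane60 (Y : Scheme.{u}) : PicGrp.Law Y := M2.law Y

/-- Let k be an algebraically closed field, p_1, …, p_r distinct closed points of the projective plane
P²_k and σ : X → P²_k the blow-up of P²_k in the ideal of the reduced finite set {p_1, …, p_r}
(universal property), X being regarded over k through σ; X is then an integral smooth proper surface
(carried as hypotheses). Write H = σ^*O(1), (L·M) = χ(O_X) − χ(L) − χ(M) + χ(L ⊗ M) for the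
intersection number of invertible modules L, M, and for a closed subscheme C ⊆ X with ideal I_C
write (L·C) = χ(O_C ⊗ L) − χ(O_C) and C² = (I_C·I_C). Let W = Λ²Ω_{X/k} be a canonical module. If L
is an invertible O_X-module with (L·H) ≥ −2 and (L·L) − (L·W) ≥ 0, then H⁰(X, L) ≠ 0. (The source
takes the points in general position; that assumption plays no role here.) -/
theorem result (k : Type u) [Field k] [IsAlgClosed k]
    (r : ℕ) (P : Fin r → ↥(CohB1.ProjSpace 2 k)) (hP : Function.Injective P)
    (hPc : ∀ i, IsClosed ({P i} : Set ↥(CohB1.ProjSpace 2 k))) (hZ : IsClosed (Set.range P))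
    (X : Scheme.{u}) [X.Over (Spec (CommRingCat.of k))] (σ : X ⟶ CohB1.ProjSpace 2 k)
    (hσk : σ ≫ CohB1.ProjSpace.toSpec 2 k = X ↘ (Spec (CommRingCat.of k)))
    (hσ : BlowUp.IsBlowUp σ (Scheme.IdealSheafData.vanishingIdeal ⟨Set.range P, hZ⟩))
    [IsIntegral X] [IsProper (X ↘ (Spec (CommRingCat.of k)))] [Smooth (X ↘ (Spec (CommRingCat.of k)))] (hdim : topologicalKrullDim X = 2)
    (W : X.Modules) (hW : ExtPow.IsExtPow 2 (Omega.sheaf (X ↘ (Spec (CommRingCat.of k)))) W)
    (L : X.Modules) (hL : PicF.IsInvertible L) (hLH : -2 ≤ FGA.intNum k X 2 ![L, ((Scheme.Modules.pullback σ).obj (Twist.twistProjSpace 2 k 1))] (Coh.structureModule X))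
    (hRR : 0 ≤ FGA.intNum k X 2 ![L, L] (Coh.structureModule X) - FGA.intNum k X 2 ![L, W] (Coh.structureModule X)) :
    Nontrivial (Coh.HH X L 0) := by
  have hd := SurfRR10.dim_eq (k := k) (X := X) hdim
  have hH := Twist.isInvertible_pullback σ (CMReg18.isAmple_twistOne (n := 2) k).1
  have hWi : PicF.IsInvertible W := SurfRR10.isInvertible_canonical hdim hW
  haveI : IsNoetherian X := CohFound.isNoetherian_of_isProper (X ↘ Spec (CommRingCat.of k))
  have hO := PicLoc.isInvertible_structureModule X
  haveI := RegExt.isIntegral_projSpace 2 k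
  haveI : IsProper (CohB1.ProjSpace.toSpec 2 k) := ProjSpace.isProper_toSpec 2 k
  haveI : IsNoetherian (CohB1.ProjSpace 2 k) := CohFound.isNoetherian_of_isProper (CohB1.ProjSpace.toSpec 2 k)
  haveI : IsProper σ := BlowUpExist.isProper (BlowUpReg6.isFiniteTypeIdeal _) hσ
  have hη : genericPoint (CohB1.ProjSpace 2 k) ∉ Set.range P := by
    rintro ⟨i, hi⟩
    have h2 := PlaneOne10.stalk_dim (k := k) (hPc i)
    rw [hi] at h2
    have h0 : ringKrullDim ((CohB1.ProjSpace 2 k).functionField) = 0 :=
      ringKrullDim_eq_zero_of_isField (Field.toIsField _)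
    exact absurd (h2.symm.trans h0) (by decide)
  haveI hiso : IsIso (σ ∣_ (⟨(Set.range P)ᶜ, hZ.isOpen_compl⟩ : (CohB1.ProjSpace 2 k).Opens)) := by
    have hV : EffCartier.cmpl (Scheme.IdealSheafData.vanishingIdeal
        (⟨Set.range P, hZ⟩ : Closeds ↥(CohB1.ProjSpace 2 k))) = ⟨(Set.range P)ᶜ, hZ.isOpen_compl⟩ :=
      Opens.ext (congrArg compl (Scheme.IdealSheafData.coe_support_vanishingIdeal _))
    rw [← hV]
    exact EffCartier.isIso_blowUp_restrict hσ
  haveI h1 : Subsingleton (Coh.HH X (Coh.structureModule X) 1) := by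
    refine BlowPts12.subsingleton_HH_one_points σ PlaneOne10.regular_projPlane (Set.finite_range P)
      (by rintro _ ⟨i, rfl⟩; exact hPc i) (by rintro _ ⟨i, rfl⟩; exact PlaneOne10.stalk_dim (hPc i))
      hZ hη hσ hiso ?_
    have h0 := Groth.Agent.S0844.result k 2 0 1 (fun h => absurd h.1 (by decide)) (fun h => absurd h.1 (by decide))
    letI : (CohB1.ProjSpace 2 k).Over (Spec (CommRingCat.of k)) := ⟨CohB1.ProjSpace.toSpec 2 k⟩
    exact @Equiv.subsingleton _ _ (CurveCoh17.hequiv k (CMReg18.projData k 2).zero 1).symm.toEquiv h0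
  haveI h2 : Subsingleton (Coh.HH X (Coh.structureModule X) 2) := by
    refine Groth.Agent.S16559.result k r P hP hPc hZ X σ hσk hσ hdim _ hO ?_
    rw [SymSq10.intNum_eq' (k := k) hd.le hO hH, PicGrp.cls_structureModule_eq_one]
    show (-2 : ℤ) ≤ sdot k _ _
    rw [SymSq10.sdot_one_left]
    decide
  have hgt : ∀ {M : X.Modules}, PicF.IsInvertible M → ∀ i, 2 < i → Subsingleton (Coh.HH X M i) :=
    fun hM i h => NumPoly18.subsingleton_HH_of_support (k := k) (Snapper.isCoh_of_isInvertible hM)
      ((Snapper.dim_le_of_subset (Set.subset_univ _)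
        ((Homeomorph.Set.univ X).isHomeomorph.topologicalKrullDim_eq.trans hd).le)) h
  have heul : ∀ {M : X.Modules}, PicF.IsInvertible M → Curv2.euler k X M =
      (Module.finrank k (Coh.HH X M 0) : ℤ) - Module.finrank k (Coh.HH X M 1) + Module.finrank k (Coh.HH X M 2) := by
    intro M hM
    rw [Curv2.euler, finsum_eq_finsetSum_of_support_subset (s := Finset.range 3)]
    · simp [Finset.sum_range_succ]
      ring
    · intro i hi
      simp only [Finset.coe_range, Set.mem_Iio]
      by_contra hlt
      haveI := hgt hM i (by omega)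
      exact hi (by simp [Module.finrank_zero_of_subsingleton])
  have hone : chi k (1 : PicLoc.PicSet X) = 1 := by
    rw [← PicGrp.cls_structureModule_eq_one, ← HypSq10.euler_eq_chi hO, heul hO,
      SurfRR10.finrank_h0_eq_one (k := k) (X := X), Module.finrank_zero_of_subsingleton (M := Coh.HH X (Coh.structureModule X) 1),
      Module.finrank_zero_of_subsingleton (M := Coh.HH X (Coh.structureModule X) 2)]
    rfl
  haveI := Groth.Agent.S16559.result k r P hP hPc hZ X σ hσk hσ hdim L hL hLH
  have hr := SurfRR10.rr (k := k) (X := X) hdim hW hWi (PicGrp.cls L hL)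
  rw [SurfRR10.phi, hone, ← HypSq10.euler_eq_chi hL, heul hL,
    Module.finrank_zero_of_subsingleton (M := Coh.HH X L 2)] at hr
  rw [SymSq10.intNum_eq' (k := k) hd.le hL hL, SymSq10.intNum_eq' (k := k) hd.le hL hWi] at hRR
  change (0 : ℤ) ≤ sdot k _ _ - sdot k _ _ at hRR
  exact Module.nontrivial_of_finrank_pos (R := k) (M := Coh.HH X L 0) (by push_cast at hr; omega)

end Groth.Agent.S16560
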