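import Groth.Statements.S16561
import Groth.Agent.Lib.ExcTwist10.Basic
import Groth.Agent.Lib.PlaneBlow10.Basic
import Groth.Agent.S16559
import Groth.Agent.Lib.CMReg18.Proj

set_option autoImplicit false
set_option maxHeartbeats 1000000
set_option linter.style.haveILetI false
set_option backward.isDefEq.respectTransparency false
set_option backward.isDefEq.respectTransparency.types false
universe u
open CategoryTheory CategoryTheory.Limits AlgebraicGeometry TopologicalSpace
open Surf

namespace Groth.Agent.S16561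

open TopologicalSpace Groth.Agent Groth.Agent.ExcTwist10
open Groth.Agent.SymSq10 (sdot)
open Groth.Agent.SurfRR10 (ncl)
open Groth.Agent.HypSq10 (chi rep rep_inv cls_rep hh)

noncomputable local instance instLawPlane (Y : Scheme.{u}) : PicGrp.Law Y := M2.law Y

/-- Let k be an algebraically closed field, p_1, …, p_r distinct closed points of the projective plane
P²_k and σ : X → P²_k the blow-up of P²_k in the ideal of the reduced finite set {p_1, …, p_r}
(universal property), X being regarded over k through σ; X is then an integral smooth proper surface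
(carried as hypotheses). Write H = σ^*O(1), (L·M) = χ(O_X) − χ(L) − χ(M) + χ(L ⊗ M) for the
intersection number of invertible modules L, M, and for a closed subscheme C ⊆ X with ideal I_C
write (L·C) = χ(O_C ⊗ L) − χ(O_C) and C² = (I_C·I_C). A (−1)-curve is an integral closed
one-dimensional subscheme E ⊆ X with H¹(E, O_E) = 0 and E² = −1. Let L be an invertible O_X-module,
d = (L·H), χ⁻ = max(−χ(L), 0), and E a (−1)-curve with (H·E) ≤ d + 2. If dim_k H¹(X, L) = χ⁻, then
(L·E) ≥ −1 − χ⁻. (The source takes the points in general position; that assumption plays no role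
here.) -/
theorem result (k : Type u) [Field k] [IsAlgClosed k]
    (r : ℕ) (P : Fin r → ↥(CohB1.ProjSpace 2 k)) (hP : Function.Injective P)
    (hPc : ∀ i, IsClosed ({P i} : Set ↥(CohB1.ProjSpace 2 k))) (hZ : IsClosed (Set.range P))
    (X : Scheme.{u}) [X.Over (Spec (CommRingCat.of k))] (σ : X ⟶ CohB1.ProjSpace 2 k)
    (hσk : σ ≫ CohB1.ProjSpace.toSpec 2 k = X ↘ (Spec (CommRingCat.of k)))
    (hσ : BlowUp.IsBlowUp σ (Scheme.IdealSheafData.vanishingIdeal ⟨Set.range P, hZ⟩))
    [IsIntegral X] [IsProper (X ↘ (Spec (CommRingCat.of k)))] [Smooth (X ↘ (Spec (CommRingCat.of k)))] (hdim : topologicalKrullDim X = 2)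
    (L : X.Modules) (hL : PicF.IsInvertible L)
    (E : X.IdealSheafData) (hEi : IsIntegral E.subscheme) (hE1 : topologicalKrullDim (E.support : Set X) = 1)
    (hEg : Subsingleton (Coh.HH E.subscheme (Coh.structureModule E.subscheme) 1))
    (hEE : FGA.intNum k X 2 ![ClSub.idealMod E, ClSub.idealMod E] (Coh.structureModule X) = -1)
    (hEH : (Curv2.euler k X (CohB1.tensorMod (ClSub.quotMod E) ((Scheme.Modules.pullback σ).obj (Twist.twistProjSpace 2 k 1))) - Curv2.euler k X (ClSub.quotMod E)) ≤ FGA.intNum k X 2 ![L, ((Scheme.Modules.pullback σ).obj (Twist.twistProjSpace 2 k 1))] (Coh.structureModule X) + 2)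
    (h1 : (Module.finrank k (Coh.HH X L 1) : ℤ) = max (-Curv2.euler k X L) 0) :
    -1 - max (-Curv2.euler k X L) 0 ≤ (Curv2.euler k X (CohB1.tensorMod (ClSub.quotMod E) L) - Curv2.euler k X (ClSub.quotMod E)) := by
  have hd := SurfRR10.dim_eq (k := k) (X := X) hdim
  haveI : IsNoetherian X := CohFound.isNoetherian_of_isProper (X ↘ Spec (CommRingCat.of k))
  obtain ⟨ξ, hξ, rfl⟩ := exists_eq_ptIdeal E hEi hE1
  have hH := Twist.isInvertible_pullback σ (CMReg18.isAmple_twistOne (n := 2) k).1
  rw [euler_sub_eq (k := k) hdim hξ hH, SymSq10.intNum_eq' (k := k) hd.le hL hH] at hEH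
  rw [euler_sub_eq (k := k) hdim hξ hL]
  set e := ncl (k := k) hdim hξ with he
  by_cases hbig : -1 ≤ sdot k e (PicGrp.cls L hL)
  · have := le_max_right (-Curv2.euler k X L) 0
    omega
  push Not at hbig
  have hI := NumConn10.cartier_pt (k := k) hdim hξ
  have hIi := M2.isInvertible_idealMod _ hI
  have hi := M2.isInvertible_tensor hIi hL
  haveI hX₁ := Groth.Agent.S16559.result k r P hP hPc hZ X σ hσk hσ hdim _ hi (by
    rw [SymSq10.intNum_eq' (k := k) hd.le hi hH]
    show (-2 : ℤ) ≤ sdot k _ _
    rw [← AlgEquiv22.cls_tensor hIi hL, SymSq10.sdot_mul (k := k) hd.le, SurfRR10.cls_ideal_pt (k := k) hdim hξ,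
      SurfRR10.sdot_inv_left (k := k) hdim, ← he]
    change sdot k e _ ≤ sdot k _ _ + 2 at hEH
    omega)
  have hS := CurveCoh17.twistSES hL (NumPoly18.ptIdeal ξ)
  have hsur : Function.Surjective (CurveCoh17.hmap k
      (((ShortComplex.mk (ClSub.idealModι (NumPoly18.ptIdeal ξ)) (ClSub.toSubscheme (NumPoly18.ptIdeal ξ)) (kernel.condition _)).map (M2.tensorR L)).g) 1) :=
    fun x => (CurveCoh17.exact_hmap_hdelta k hS 1 x).1 (@Subsingleton.elim _ hX₁ _ _)
  have hLc : Coh.IsCoh ((M2.tensorR L).obj (Coh.structureModule X)) :=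
    CohFound.isCoh_of_iso (M2.tensorLUnit L).symm (Snapper.isCoh_of_isInvertible hL)
  haveI : Module.Finite k (Coh.HH X ((M2.tensorR L).obj (Coh.structureModule X)) 1) :=
    CohFound.finite_HH_of_isProper _ hLc 1
  have hle : Module.finrank k (Coh.HH X (NumConn10.tw (NumPoly18.ptIdeal ξ) L) 1) ≤
      Module.finrank k (Coh.HH X ((M2.tensorR L).obj (Coh.structureModule X)) 1) :=
    LinearMap.finrank_le_finrank_of_surjective hsur
  rw [(CurveCoh17.hequiv k (show (M2.tensorR L).obj (Coh.structureModule X) ≅ L from M2.tensorLUnit L) 1).finrank_eq] at hle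
  have h0 := subsingleton_h0_tw (k := k) hdim hξ hL (by rw [← he]; omega)
  have heul : Curv2.euler k X (NumConn10.tw (NumPoly18.ptIdeal ξ) L) =
      -(Module.finrank k (Coh.HH X (NumConn10.tw (NumPoly18.ptIdeal ξ) L) 1) : ℤ) := by
    rw [Curv2.euler, finsum_eq_finsetSum_of_support_subset (s := Finset.range 2)]
    · rw [Finset.sum_range_succ, Finset.sum_range_one,
        Module.finrank_zero_of_subsingleton (M := Coh.HH X (NumConn10.tw (NumPoly18.ptIdeal ξ) L) 0)]
      simp
    · intro i hi
      simp only [Finset.coe_range, Set.mem_Iio]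
      by_contra hlt
      haveI := NumPoly18.subsingleton_HH_of_support (k := k) (NumConn10.isCoh_tw (k := k) hdim (NumPoly18.ptIdeal ξ) hL)
        (NumConn10.dim_support_tw (k := k) hdim hI hL) (show 1 < i by omega)
      refine hi ?_
      simp [Module.finrank_zero_of_subsingleton]
  rw [NumConn10.euler_tw (k := k) hdim hI hL, NumConn10.icl_pt (k := k) hdim hξ, SurfRR10.sdot_inv_left (k := k) hdim, ← he] at heul
  obtain ⟨W, hW⟩ := NumConn10.exists_canonical (k := k) hdim
  have hWi := SurfRR10.isInvertible_canonical hdim hW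
  obtain ⟨g, -, hg, hg0⟩ := SurfRR10.exists_genus hdim hW hWi hξ
  rw [hg, hg0.2 hEg] at heul
  rw [← h1]
  push_cast at heul
  omega

end Groth.Agent.S16561
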