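import Groth.Statements.S16562
import Groth.Agent.Lib.ExcTwist10.Basic
import Groth.Agent.S16558
import Groth.Agent.Lib.CMReg18.Proj

set_option autoImplicit false
set_option maxHeartbeats 1000000
set_option linter.style.haveILetI false
set_option backward.isDefEq.respectTransparency false
set_option backward.isDefEq.respectTransparency.types false
universe u
open CategoryTheory CategoryTheory.Limits AlgebraicGeometry TopologicalSpace
open Surf

namespace Groth.Agent.S16562

open TopologicalSpace Groth.Agent Groth.Agent.ExcTwist10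
open Groth.Agent.SymSq10 (sdot)
open Groth.Agent.SurfRR10 (ncl)
open Groth.Agent.HypSq10 (chi rep rep_inv cls_rep hh)

noncomputable local instance instLawPlane (Y : Scheme.{u}) : PicGrp.Law Y := M2.law Y

/-- Let k be an algebraically closed field, p_1, …, p_r distinct closed points of the projective plane
P²_k and σ : X → P²_k the blow-up of P²_k in the ideal of the reduced finite set {p_1, …, p_r}
(universal property), X being regarded over k through σ; X is then an integral smooth proper surface
(carried as hypotheses). Write H = σ^*O(1), (L·M) = χ(O_X) − χ(L) − χ(M) + χ(L ⊗ M) for the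
intersection number of invertible modules L, M, and for a closed subscheme C ⊆ X with ideal I_C
write (L·C) = χ(O_C ⊗ L) − χ(O_C) and C² = (I_C·I_C). A (−1)-curve is an integral closed
one-dimensional subscheme E ⊆ X with H¹(E, O_E) = 0 and E² = −1. If L is an invertible O_X-module
and E a (−1)-curve whose H-degree satisfies 2(H·E) > (L·H), and (L·E) < −1, then H⁰(X, L) = 0. (The
source takes the points in general position; that assumption plays no role here.) -/
theorem result (k : Type u) [Field k] [IsAlgClosed k]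
    (r : ℕ) (P : Fin r → ↥(CohB1.ProjSpace 2 k)) (hP : Function.Injective P)
    (hPc : ∀ i, IsClosed ({P i} : Set ↥(CohB1.ProjSpace 2 k))) (hZ : IsClosed (Set.range P))
    (X : Scheme.{u}) [X.Over (Spec (CommRingCat.of k))] (σ : X ⟶ CohB1.ProjSpace 2 k)
    (hσk : σ ≫ CohB1.ProjSpace.toSpec 2 k = X ↘ (Spec (CommRingCat.of k)))
    (hσ : BlowUp.IsBlowUp σ (Scheme.IdealSheafData.vanishingIdeal ⟨Set.range P, hZ⟩))
    [IsIntegral X] [IsProper (X ↘ (Spec (CommRingCat.of k)))] [Smooth (X ↘ (Spec (CommRingCat.of k)))] (hdim : topologicalKrullDim X = 2)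
    (L : X.Modules) (hL : PicF.IsInvertible L)
    (E : X.IdealSheafData) (hEi : IsIntegral E.subscheme) (hE1 : topologicalKrullDim (E.support : Set X) = 1)
    (hEg : Subsingleton (Coh.HH E.subscheme (Coh.structureModule E.subscheme) 1))
    (hEE : FGA.intNum k X 2 ![ClSub.idealMod E, ClSub.idealMod E] (Coh.structureModule X) = -1)
    (hEH : FGA.intNum k X 2 ![L, ((Scheme.Modules.pullback σ).obj (Twist.twistProjSpace 2 k 1))] (Coh.structureModule X) < 2 * (Curv2.euler k X (CohB1.tensorMod (ClSub.quotMod E) ((Scheme.Modules.pullback σ).obj (Twist.twistProjSpace 2 k 1))) - Curv2.euler k X (ClSub.quotMod E)))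
    (hLE : (Curv2.euler k X (CohB1.tensorMod (ClSub.quotMod E) L) - Curv2.euler k X (ClSub.quotMod E)) < -1) :
    Subsingleton (Coh.HH X L 0) := by
  have hd := SurfRR10.dim_eq (k := k) (X := X) hdim
  obtain ⟨ξ, hξ, rfl⟩ := exists_eq_ptIdeal E hEi hE1
  have hH := Twist.isInvertible_pullback σ (CMReg18.isAmple_twistOne (n := 2) k).1
  rw [intNum_ideal (k := k) hdim hξ] at hEE
  rw [euler_sub_eq (k := k) hdim hξ hL] at hLE
  rw [euler_sub_eq (k := k) hdim hξ hH, SymSq10.intNum_eq' (k := k) hd.le hL hH] at hEH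
  set e := ncl (k := k) hdim hξ with he
  set l := PicGrp.cls L hL with hl
  have h1 : hh k 0 (l * e⁻¹) = hh k 0 l := hh0_mul_icl (k := k) hdim hξ l (by rw [← he]; omega)
  have h2 : hh k 0 (l * e⁻¹ * e⁻¹) = hh k 0 (l * e⁻¹) := hh0_mul_icl (k := k) hdim hξ _ (by
    rw [SurfRR10.sdot_mul_right (k := k) hdim, SurfRR10.sdot_inv_right (k := k) hdim, ← he]; omega)
  haveI := Groth.Agent.S16558.result k r P hP hPc hZ X σ hσk hσ hdim (rep (l * e⁻¹ * e⁻¹)) (rep_inv _) (by
    rw [SymSq10.intNum_eq' (k := k) hd.le (rep_inv _) hH]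
    show sdot k _ _ < 0
    rw [cls_rep, SymSq10.sdot_mul (k := k) hd.le, SymSq10.sdot_mul (k := k) hd.le, SurfRR10.sdot_inv_left (k := k) hdim]
    change sdot k l (PicGrp.cls _ hH) < _ at hEH
    omega)
  have h3 : hh k 0 (l * e⁻¹ * e⁻¹) = 0 := Module.finrank_zero_of_subsingleton
  rw [h2, h1] at h3
  obtain ⟨b⟩ := (PicGrp.cls_eq_cls_iff (rep_inv l) hL).1 (cls_rep _)
  rw [hh, (CurveCoh17.hequiv k b 0).finrank_eq] at h3
  haveI : IsNoetherian X := CohFound.isNoetherian_of_isProper (X ↘ Spec (CommRingCat.of k))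
  haveI : Module.Finite k (Coh.HH X L 0) := CohFound.finite_HH_of_isProper _ (Snapper.isCoh_of_isInvertible hL) 0
  exact Module.finrank_zero_iff.1 h3

end Groth.Agent.S16562
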