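import Groth.Statements.S16563
import Groth.Agent.Lib.ExcTwist10.Basic
import Groth.Agent.Lib.NumConn10.Fibre

set_option autoImplicit false
set_option maxHeartbeats 1000000
set_option linter.style.haveILetI false
set_option backward.isDefEq.respectTransparency false
set_option backward.isDefEq.respectTransparency.types false
universe u
open CategoryTheory CategoryTheory.Limits AlgebraicGeometry TopologicalSpace
open Surf

namespace Groth.Agent.S16563

open TopologicalSpace Groth.Agent Groth.Agent.ExcTwist10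
open Groth.Agent.SymSq10 (sdot)
open Groth.Agent.SurfRR10 (ncl)
open Groth.Agent.HypSq10 (chi rep rep_inv cls_rep hh)

noncomputable local instance instLawPlane (Y : Scheme.{u}) : PicGrp.Law Y := M2.law Y

/-- Let k be an algebraically closed field, p_1, …, p_r distinct closed points of the projective plane
P²_k and σ : X → P²_k the blow-up of P²_k in the ideal of the reduced finite set {p_1, …, p_r}
(universal property), X being regarded over k through σ; X is then an integral smooth proper surface
(carried as hypotheses). Write H = σ^*O(1), (L·M) = χ(O_X) − χ(L) − χ(M) + χ(L ⊗ M) for the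
intersection number of invertible modules L, M, and for a closed subscheme C ⊆ X with ideal I_C
write (L·C) = χ(O_C ⊗ L) − χ(O_C) and C² = (I_C·I_C). A (−1)-curve is an integral closed
one-dimensional subscheme E ⊆ X with H¹(E, O_E) = 0 and E² = −1. Let L be an invertible O_X-module
and E a (−1)-curve with ideal I_E such that (L·E) = −s with s > 1. Then dim_k H⁰(X, L ⊗ I_E^s) =
dim_k H⁰(X, L); equivalently the injection H⁰(X, L ⊗ I_E^s) → H⁰(X, L) induced by I_E^s ⊆ O_X is
bijective. (The source takes the points in general position; that assumption plays no role here.) -/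
theorem result (k : Type u) [Field k] [IsAlgClosed k]
    (r : ℕ) (P : Fin r → ↥(CohB1.ProjSpace 2 k)) (hP : Function.Injective P)
    (hPc : ∀ i, IsClosed ({P i} : Set ↥(CohB1.ProjSpace 2 k))) (hZ : IsClosed (Set.range P))
    (X : Scheme.{u}) [X.Over (Spec (CommRingCat.of k))] (σ : X ⟶ CohB1.ProjSpace 2 k)
    (hσk : σ ≫ CohB1.ProjSpace.toSpec 2 k = X ↘ (Spec (CommRingCat.of k)))
    (hσ : BlowUp.IsBlowUp σ (Scheme.IdealSheafData.vanishingIdeal ⟨Set.range P, hZ⟩))
    [IsIntegral X] [IsProper (X ↘ (Spec (CommRingCat.of k)))] [Smooth (X ↘ (Spec (CommRingCat.of k)))] (hdim : topologicalKrullDim X = 2)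
    (L : X.Modules) (hL : PicF.IsInvertible L)
    (E : X.IdealSheafData) (hEi : IsIntegral E.subscheme) (hE1 : topologicalKrullDim (E.support : Set X) = 1)
    (hEg : Subsingleton (Coh.HH E.subscheme (Coh.structureModule E.subscheme) 1))
    (hEE : FGA.intNum k X 2 ![ClSub.idealMod E, ClSub.idealMod E] (Coh.structureModule X) = -1)
    (s : ℕ) (hs : 1 < s) (hLE : (Curv2.euler k X (CohB1.tensorMod (ClSub.quotMod E) L) - Curv2.euler k X (ClSub.quotMod E)) = -(s : ℤ)) :
    Module.finrank k (Coh.HH X (CohB1.tensorMod L (ClSub.idealMod (E ^ s))) 0) = Module.finrank k (Coh.HH X L 0) := by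
  have hd := SurfRR10.dim_eq (k := k) (X := X) hdim
  obtain ⟨ξ, hξ, rfl⟩ := exists_eq_ptIdeal E hEi hE1
  rw [intNum_ideal (k := k) hdim hξ] at hEE
  rw [euler_sub_eq (k := k) hdim hξ hL] at hLE
  set e := ncl (k := k) hdim hξ with he
  have key : ∀ j : ℕ, j ≤ s → hh k 0 (PicGrp.cls L hL * e⁻¹ ^ j) = hh k 0 (PicGrp.cls L hL) := by
    intro j
    induction j with
    | zero => intro _; rw [pow_zero, mul_one]
    | succ j ih =>
      intro hj
      rw [pow_succ, ← mul_assoc, ← ih (by omega)]
      refine hh0_mul_icl (k := k) hdim hξ _ ?_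
      rw [SurfRR10.sdot_mul_right (k := k) hdim, SymSq10.sdot_comm e (e⁻¹ ^ j), SurfRR10.sdot_pow_left (k := k) hdim,
        SurfRR10.sdot_inv_left (k := k) hdim, ← he, hLE, hEE]
      omega
  have hIc := BlowUpExist.isEffCartierIdeal_pow (NumConn10.cartier_pt (k := k) hdim hξ) s
  have hIi := M2.isInvertible_idealMod _ hIc
  have hcl : PicGrp.cls _ (M2.isInvertible_tensor hL hIi) = PicGrp.cls L hL * e⁻¹ ^ s := by
    rw [← AlgEquiv22.cls_tensor hL hIi,
      show PicGrp.cls (ClSub.idealMod (NumPoly18.ptIdeal ξ ^ s)) hIi = NumConn10.icl hIc from rfl,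
      NumConn10.icl_pow (k := k) hdim (NumConn10.cartier_pt (k := k) hdim hξ) s hIc, NumConn10.icl_pt (k := k) hdim hξ]
  obtain ⟨a⟩ := (PicGrp.cls_eq_cls_iff (rep_inv (PicGrp.cls L hL * e⁻¹ ^ s)) (M2.isInvertible_tensor hL hIi)).1
    (by rw [cls_rep, hcl])
  obtain ⟨b⟩ := (PicGrp.cls_eq_cls_iff (rep_inv (PicGrp.cls L hL)) hL).1 (cls_rep _)
  have := key s le_rfl
  rw [hh, hh, (CurveCoh17.hequiv k a 0).finrank_eq, (CurveCoh17.hequiv k b 0).finrank_eq] at this
  exact this

end Groth.Agent.S16563
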