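import Groth.Statements.S16564
import Groth.Agent.Lib.ExcTwist10.Basic

set_option autoImplicit false
set_option maxHeartbeats 1000000
set_option linter.style.haveILetI false
set_option backward.isDefEq.respectTransparency false
set_option backward.isDefEq.respectTransparency.types false
universe u
open CategoryTheory CategoryTheory.Limits AlgebraicGeometry TopologicalSpace
open Surf

namespace Groth.Agent.S16564

open TopologicalSpace Groth.Agent Groth.Agent.ExcTwist10
open Groth.Agent.SymSq10 (sdot)
open Groth.Agent.SurfRR10 (ncl)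
open Groth.Agent.HypSq10 (chi rep rep_inv cls_rep hh)

noncomputable local instance instLawPlane (Y : Scheme.{u}) : PicGrp.Law Y := M2.law Y

/-- Let k be an algebraically closed field, p_1, …, p_r distinct closed points of the projective plane
P²_k and σ : X → P²_k the blow-up of P²_k in the ideal of the reduced finite set {p_1, …, p_r}
(universal property), X being regarded over k through σ; X is then an integral smooth proper surface
(carried as hypotheses). Write H = σ^*O(1), (L·M) = χ(O_X) − χ(L) − χ(M) + χ(L ⊗ M) for the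
intersection number of invertible modules L, M, and for a closed subscheme C ⊆ X with ideal I_C
write (L·C) = χ(O_C ⊗ L) − χ(O_C) and C² = (I_C·I_C). A (−1)-curve is an integral closed
one-dimensional subscheme E ⊆ X with H¹(E, O_E) = 0 and E² = −1. Call an invertible module M
non-special when at most one of H⁰(X, M), H¹(X, M), H²(X, M) is nonzero. Suppose every invertible M
with (M·E) ≥ −1 for every (−1)-curve E is non-special (the non-speciality hypothesis for X). Then no
integral closed one-dimensional subscheme C ⊆ X has C² ≤ −2. (The source concludes that the curves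
of negative self-intersection are exactly the (−1)-curves; its argument treats C² ≤ −2, which is
what is stated here.) (The source takes the points in general position; that assumption plays no
role here.) -/
theorem result (k : Type u) [Field k] [IsAlgClosed k]
    (r : ℕ) (P : Fin r → ↥(CohB1.ProjSpace 2 k)) (hP : Function.Injective P)
    (hPc : ∀ i, IsClosed ({P i} : Set ↥(CohB1.ProjSpace 2 k))) (hZ : IsClosed (Set.range P))
    (X : Scheme.{u}) [X.Over (Spec (CommRingCat.of k))] (σ : X ⟶ CohB1.ProjSpace 2 k)
    (hσk : σ ≫ CohB1.ProjSpace.toSpec 2 k = X ↘ (Spec (CommRingCat.of k)))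
    (hσ : BlowUp.IsBlowUp σ (Scheme.IdealSheafData.vanishingIdeal ⟨Set.range P, hZ⟩))
    [IsIntegral X] [IsProper (X ↘ (Spec (CommRingCat.of k)))] [Smooth (X ↘ (Spec (CommRingCat.of k)))] (hdim : topologicalKrullDim X = 2)
    (hconj : ∀ (M : X.Modules), PicF.IsInvertible M →
      (∀ (E : X.IdealSheafData), IsIntegral E.subscheme → topologicalKrullDim (E.support : Set X) = 1 →
        Subsingleton (Coh.HH E.subscheme (Coh.structureModule E.subscheme) 1) →
        FGA.intNum k X 2 ![ClSub.idealMod E, ClSub.idealMod E] (Coh.structureModule X) = -1 →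
        -1 ≤ (Curv2.euler k X (CohB1.tensorMod (ClSub.quotMod E) M) - Curv2.euler k X (ClSub.quotMod E))) →
      ((Subsingleton (Coh.HH X M 0) ∧ Subsingleton (Coh.HH X M 1)) ∨ (Subsingleton (Coh.HH X M 0) ∧ Subsingleton (Coh.HH X M 2)) ∨
        (Subsingleton (Coh.HH X M 1) ∧ Subsingleton (Coh.HH X M 2))))
    (C : X.IdealSheafData) (hCi : IsIntegral C.subscheme) (hC1 : topologicalKrullDim (C.support : Set X) = 1) :
    -1 ≤ FGA.intNum k X 2 ![ClSub.idealMod C, ClSub.idealMod C] (Coh.structureModule X) := by
  by_contra hlt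
  push Not at hlt
  have hd := SurfRR10.dim_eq (k := k) (X := X) hdim
  obtain ⟨ξ, hξ, rfl⟩ := exists_eq_ptIdeal C hCi hC1
  rw [intNum_ideal (k := k) hdim hξ] at hlt
  set c := ncl (k := k) hdim hξ with hc
  have key : ∀ m : ℕ, hh k 0 (c ^ m) = 1 → chi k (c ^ m) = 1 := by
    intro m hm
    have hor := hconj (rep (c ^ m)) (rep_inv _) (fun E hEi hE1 hEg hEE => by
      obtain ⟨η, hη, rfl⟩ := exists_eq_ptIdeal E hEi hE1
      rw [intNum_ideal (k := k) hdim hη] at hEE
      rw [euler_sub_eq (k := k) hdim hη (rep_inv _), cls_rep, SymSq10.sdot_comm, SurfRR10.sdot_pow_left (k := k) hdim,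
        SymSq10.sdot_comm]
      have hne : η ≠ ξ := by
        rintro rfl
        rw [← hc] at hEE
        omega
      have := NumConn10.ncl_nonneg (k := k) hdim hη hξ hne
      have h2 : (0 : ℤ) ≤ (m : ℤ) * sdot k (ncl (k := k) hdim hη) c := mul_nonneg (by positivity) this
      omega)
    have hn : ¬ Subsingleton (Coh.HH X (rep (c ^ m)) 0) := fun h => by
      rw [hh, Module.finrank_zero_of_subsingleton] at hm
      exact absurd hm (by decide)
    rcases hor with ⟨h, -⟩ | ⟨h, -⟩ | ⟨h1, h2⟩
    · exact absurd h hn
    · exact absurd h hn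
    · rw [SymSq10.chi_eq_hh2 (k := k) hd.le, hm]
      simp [hh, Module.finrank_zero_of_subsingleton]
  have hh1 : hh k 0 (c ^ 1) = 1 := by
    have h := hh0_mul_icl (k := k) hdim hξ (c ^ 1) (by rw [pow_one, ← hc]; omega)
    rw [← h, pow_one, ← hc, mul_inv_cancel]
    exact hh0_one (k := k) hdim
  have hh2 : hh k 0 (c ^ 2) = 1 := by
    have h := hh0_mul_icl (k := k) hdim hξ (c ^ 2) (by
      rw [pow_two, SurfRR10.sdot_mul_right (k := k) hdim, ← hc]; omega)
    rw [← h, pow_two, ← hc, mul_inv_cancel_right, ← pow_one c]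
    exact hh1
  have h0 := key 0 (by rw [pow_zero]; exact hh0_one (k := k) hdim)
  have h1 := key 1 hh1
  have h2 := key 2 hh2
  rw [pow_zero] at h0
  obtain ⟨W, hW⟩ := NumConn10.exists_canonical (k := k) hdim
  have hWi := SurfRR10.isInvertible_canonical hdim hW
  obtain ⟨g, hg, -, -⟩ := SurfRR10.exists_genus hdim hW hWi hξ
  rw [← hc] at hg
  have r1 := SurfRR10.rr hdim hW hWi (c ^ 1)
  have r2 := SurfRR10.rr hdim hW hWi (c ^ 2)
  rw [SurfRR10.phi, h0, h1, pow_one] at r1
  rw [SurfRR10.phi, h0, h2, pow_two, SymSq10.sdot_mul (k := k) hd.le, SymSq10.sdot_mul (k := k) hd.le,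
    SurfRR10.sdot_mul_right (k := k) hdim] at r2
  omega

end Groth.Agent.S16564
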