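import Groth.Statements.S16565
import Groth.Agent.Lib.Ruled10.LineH1
import Groth.Agent.Lib.Ruled10.Basic
import Groth.Agent.Lib.ProjForm2.Basic
import Groth.Agent.Lib.PicPn.Main
import Groth.Agent.Lib.CMReg18.EulerBinom
import Groth.Agent.Lib.CMReg18.FlatCrit
import Groth.Agent.Lib.AlgSpCartier.SchemeDescent

set_option autoImplicit false
set_option maxHeartbeats 1000000
set_option synthInstance.maxHeartbeats 80000
set_option linter.style.haveILetI false
set_option backward.isDefEq.respectTransparency false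
set_option backward.isDefEq.respectTransparency.types false
universe u
open CategoryTheory CategoryTheory.Limits AlgebraicGeometry TopologicalSpace
open Surf

namespace Groth.Agent.S16565

open TopologicalSpace Opposite
open Groth.Agent

variable {k : Type u} [Field k] [IsAlgClosed k]

/-- The ideal of a point of the line is `O(-1)`. -/
theorem nonempty_idealMod_iso (q : CohB1.ProjSpace 1 k) (hq : IsClosed ({q} : Set (CohB1.ProjSpace 1 k))) :
    Nonempty (ClSub.idealMod (Scheme.IdealSheafData.vanishingIdeal (⟨{q}, hq⟩ : Closeds (CohB1.ProjSpace 1 k))) ≅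
      _root_.Twist.twistProjSpace 1 k (-1)) := by
  letI : (CohB1.ProjSpace 1 k).Over (Spec (CommRingCat.of k)) := ⟨CohB1.ProjSpace.toSpec 1 k⟩
  haveI : IsProper (CohB1.ProjSpace 1 k ↘ Spec (CommRingCat.of k)) := ProjSpace.isProper_toSpec 1 k
  haveI := RegExt.isIntegral_projSpace 1 k
  haveI : SmoothOfRelativeDimension 1 (CohB1.ProjSpace 1 k ↘ Spec (CommRingCat.of k)) :=
    ProjSpace.smoothOfRelativeDimension_toSpec 1 k
  haveI : Smooth (CohB1.ProjSpace 1 k ↘ Spec (CommRingCat.of k)) := SmoothOfRelativeDimension.smooth (n := 1) _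
  haveI : IsNoetherian (CohB1.ProjSpace 1 k) :=
    CohFound.isNoetherian_of_isProper (CohB1.ProjSpace 1 k ↘ Spec (CommRingCat.of k))
  have hdimC : topologicalKrullDim (CohB1.ProjSpace 1 k) = 1 := by rw [Groth.Agent.S10829.result k 1]; rfl
  have hI := CurveCoh17.isInvertible_pointIdeal hdimC (SurfRR10.regular (k := k)) hq
  obtain ⟨d, ⟨e⟩⟩ := PicPn.exists_iso_twist (n := 1) (R := k) hI
  suffices hd : d = -1 by subst hd; exact ⟨e⟩
  have h1 := CurveAmple18.deg_pointIdeal (k := k) hdimC hq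
  rw [Curv2.deg, CurveCoh17.euler_iso e, Nat.cast_one, one_mul,
    CurveCoh17.euler_iso (CMReg18.projData k 1).zero.symm] at h1
  have e1 := CMReg18.euler_twist (k := k) (n := 1) d
  have e0 := CMReg18.euler_twist (k := k) (n := 1) 0
  rw [Nat.cast_one, Ring.choose_one_right] at e1 e0
  change Curv2.euler k _ ((CMReg18.projData k 1).O d) - Curv2.euler k _ ((CMReg18.projData k 1).O 0) = -1 at h1
  rw [e1, e0] at h1
  omega


/-- Let X be a smooth proper integral surface over an algebraically closed field k, π : X → P¹_k a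
surjective k-morphism, L an invertible O_X-module with R¹π_*L = 0, q a closed point of P¹_k and F =
π⁻¹(q) its fibre, with ideal I_F. Assume the restriction map H⁰(X, L) → H⁰(F, L|_F) is surjective,
stated as dim_k H⁰(X, L) = dim_k H⁰(X, L ⊗ I_F) + dim_k H⁰(X, L ⊗ O_F) (the sequence 0 → L ⊗ I_F → L
→ L ⊗ O_F → 0 being exact). Then H¹(X, L) = 0 = H¹(X, L ⊗ I_F), and H¹(P¹_k, π_*L ⊗ O(−1)) = 0, i.e.
the line bundle summands of π_*L all have degree ≥ 0. (The source states this for the blow-up of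
P²_k at points in general position fibred over P¹_k by projection from one of the points; its
argument uses only a smooth projective surface mapping onto P¹_k.) -/
theorem result (k : Type u) [Field k] [IsAlgClosed k]
    (X : Scheme.{u}) [X.Over (Spec (CommRingCat.of k))] [IsIntegral X] [IsProper (X ↘ (Spec (CommRingCat.of k)))] [Smooth (X ↘ (Spec (CommRingCat.of k)))]
    (hdim : topologicalKrullDim X = 2) [HasInjectiveResolutions X.Modules]
    (π : X ⟶ CohB1.ProjSpace 1 k) (hπk : π ≫ CohB1.ProjSpace.toSpec 1 k = X ↘ (Spec (CommRingCat.of k))) (hπs : Function.Surjective π)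
    (L : X.Modules) (hL : PicF.IsInvertible L) (hR1 : IsZero ((Coh.Rpush π 1).obj L))
    (q : ↥(CohB1.ProjSpace 1 k)) (hq : IsClosed ({q} : Set ↥(CohB1.ProjSpace 1 k)))
    (hres : Module.finrank k (Coh.HH X L 0) =
      Module.finrank k (Coh.HH X (CohB1.tensorMod L (ClSub.idealMod ((Scheme.IdealSheafData.vanishingIdeal ⟨{q}, hq⟩).comap π))) 0) +
        Module.finrank k (Coh.HH X (CohB1.tensorMod (ClSub.quotMod ((Scheme.IdealSheafData.vanishingIdeal ⟨{q}, hq⟩).comap π)) L) 0)) :
    Subsingleton (Coh.HH X L 1) ∧ Subsingleton (Coh.HH X (CohB1.tensorMod L (ClSub.idealMod ((Scheme.IdealSheafData.vanishingIdeal ⟨{q}, hq⟩).comap π))) 1) ∧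
      Subsingleton (Coh.HH (CohB1.ProjSpace 1 k) (CohB1.tensorMod ((Coh.push π).obj L) (Twist.twistProjSpace 1 k (-1))) 1) := by
  classical
  letI : (CohB1.ProjSpace 1 k).Over (Spec (CommRingCat.of k)) := ⟨CohB1.ProjSpace.toSpec 1 k⟩
  haveI : IsProper (CohB1.ProjSpace 1 k ↘ Spec (CommRingCat.of k)) := ProjSpace.isProper_toSpec 1 k
  haveI := RegExt.isIntegral_projSpace 1 k
  haveI : SmoothOfRelativeDimension 1 (CohB1.ProjSpace 1 k ↘ Spec (CommRingCat.of k)) :=
    ProjSpace.smoothOfRelativeDimension_toSpec 1 k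
  haveI : Smooth (CohB1.ProjSpace 1 k ↘ Spec (CommRingCat.of k)) := SmoothOfRelativeDimension.smooth (n := 1) _
  have hdimC : topologicalKrullDim (CohB1.ProjSpace 1 k) = 1 := by rw [Groth.Agent.S10829.result k 1]; rfl
  haveI : IsProper π := Ruled10.isProper_of_over π hπk
  haveI : Flat π := Ruled10.flat_of_surj hdimC (SurfRR10.regular (k := k)) π hπs
  haveI : IsNoetherian X := CohFound.isNoetherian_of_isProper (X ↘ Spec (CommRingCat.of k))
  haveI : IsNoetherian (CohB1.ProjSpace 1 k) :=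
    CohFound.isNoetherian_of_isProper (CohB1.ProjSpace 1 k ↘ Spec (CommRingCat.of k))
  set Zq := Scheme.IdealSheafData.vanishingIdeal (⟨{q}, hq⟩ : Closeds (CohB1.ProjSpace 1 k)) with hZq
  let ZF := Zq.comap π
  have hP := CurveCoh17.isInvertible_pointIdeal hdimC (SurfRR10.regular (k := k)) hq
  have hPc : BlowUp.IsEffCartierIdeal Zq := SecDiv.isEffCartierIdeal_of_isInvertible _ hP
  have hFc : BlowUp.IsEffCartierIdeal ZF := AlgSpCartier.isEffCartierIdeal_comap_of_flat π hPc
  obtain ⟨eF⟩ := ArInter.nonempty_pullback_idealMod π hPc hFc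
  let M := CohB1.tensorMod L (ClSub.idealMod ZF)
  have hFi : PicF.IsInvertible (ClSub.idealMod ZF) := M2.isInvertible_idealMod _ hFc
  have hM : PicF.IsInvertible M := M2.isInvertible_tensor hL hFi
  have hPP : PicF.IsInvertible ((Scheme.Modules.pullback π).obj (ClSub.idealMod Zq)) :=
    PicLoc.isInvertible_pullback π hP
  -- the higher direct image of the twist
  obtain ⟨P', hP', ⟨eP⟩⟩ := M2.exists_inverse hP
  let θ : CohMop.tenR ((Scheme.Modules.pullback π).obj (ClSub.idealMod Zq)) ⋙ Scheme.Modules.pushforward π ≅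
      Scheme.Modules.pushforward π ⋙ CohMop.tenR (ClSub.idealMod Zq) :=
    Functor.isoWhiskerRight (ProjForm2.tenRIso _) _ ≪≫ (Kunneth22.projIso π eP).symm ≪≫
      Functor.isoWhiskerLeft _ (ProjForm2.tenRIso (ClSub.idealMod Zq)).symm
  obtain ⟨dd⟩ := CohMop.nonempty_rightDerived_tenR (Scheme.Modules.pushforward π)
    (M2.isFinLocFree_of_isInvertible hPP) (M2.isFinLocFree_of_isInvertible hP) θ 1 L
  haveI := CohMop.preservesHomology_tenR (M2.isFinLocFree_of_isInvertible hP)
  let u : (CohMop.tenR ((Scheme.Modules.pullback π).obj (ClSub.idealMod Zq))).obj L ≅ M :=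
    M2.tensorIso (Iso.refl L) eF
  have hRM : IsZero ((Coh.Rpush π 1).obj M) :=
    (((CohMop.tenR (ClSub.idealMod Zq)).map_isZero hR1).of_iso dd).of_iso ((Coh.Rpush π 1).mapIso u).symm
  obtain ⟨aL⟩ := Ruled10.nonempty_HH_push_one (k := k) π hπk L (Twist.isQCoh_of_isInvertible hL) hR1
  obtain ⟨aM⟩ := Ruled10.nonempty_HH_push_one (k := k) π hπk M (Twist.isQCoh_of_isInvertible hM) hRM
  let E := (Scheme.Modules.pushforward π).obj L
  have hE : Coh.IsCoh E := CMReg18.isCoh_push π (Snapper.isCoh_of_isInvertible hL)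
  let v : (Scheme.Modules.pushforward π).obj M ≅ CohB1.tensorMod (ClSub.idealMod Zq) E :=
    (Scheme.Modules.pushforward π).mapIso u.symm ≪≫ θ.app L ≪≫ M2.tensorComm _ _
  -- `H¹(L(-F)) → H¹(L)` is injective
  have hS := CurveCoh17.twistSES hL ZF
  let T := (ShortComplex.mk (ClSub.idealModι ZF) (ClSub.toSubscheme ZF) (kernel.condition _)).map (M2.tensorR L)
  haveI f5 : Module.Finite k (Coh.HH X T.X₂ 1) := CohFound.finite_HH_of_isProper (A := k) _
    (CurveCoh17.isCoh_tensor (M1.isCoh_structureModule X) (Snapper.isCoh_of_isInvertible hL)) 1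
  haveI f1 : Module.Finite k (Coh.HH X T.X₁ 0) := CohFound.finite_HH_of_isProper (A := k) _
    (CurveCoh17.isCoh_tensor (CurveCoh17.isCoh_idealMod ZF) (Snapper.isCoh_of_isInvertible hL)) 0
  haveI f2 : Module.Finite k (Coh.HH X T.X₂ 0) := CohFound.finite_HH_of_isProper (A := k) _
    (CurveCoh17.isCoh_tensor (M1.isCoh_structureModule X) (Snapper.isCoh_of_isInvertible hL)) 0
  haveI f3 : Module.Finite k (Coh.HH X T.X₃ 0) := CohFound.finite_HH_of_isProper (A := k) _
    (CurveCoh17.isCoh_tensor (CurveCoh17.isCoh_quotMod ZF) (Snapper.isCoh_of_isInvertible hL)) 0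
  haveI f4 : Module.Finite k (Coh.HH X (CohB1.tensorMod (Coh.structureModule X) L) 1) := CohFound.finite_HH_of_isProper (A := k) _
    (CurveCoh17.isCoh_tensor (M1.isCoh_structureModule X) (Snapper.isCoh_of_isInvertible hL)) 1
  have hk : LinearMap.ker (CurveCoh17.hmap k T.g 0) = LinearMap.range (CurveCoh17.hmap k T.f 0) :=
    LinearMap.exact_iff.1 (CurveCoh17.exact_hmap_hmap k hS 0)
  have hrn := LinearMap.finrank_range_add_finrank_ker (CurveCoh17.hmap k T.g 0)
  rw [hk, LinearMap.finrank_range_of_inj (CurveCoh17.hmap_f_injective k hS)] at hrn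
  have hT2 : Module.finrank k (Coh.HH X T.X₂ 0) = Module.finrank k (Coh.HH X L 0) :=
    (CurveCoh17.hequiv k (M2.tensorLUnit L) 0).finrank_eq
  have hT1 : Module.finrank k (Coh.HH X T.X₁ 0) = Module.finrank k (Coh.HH X M 0) :=
    (CurveCoh17.hequiv k (M2.tensorComm (ClSub.idealMod ZF) L) 0).finrank_eq
  have hT3 : Module.finrank k (LinearMap.range (CurveCoh17.hmap k T.g 0)) = Module.finrank k (Coh.HH X T.X₃ 0) := by
    have hrn' : Module.finrank k (LinearMap.range (CurveCoh17.hmap k T.g 0)) + Module.finrank k (Coh.HH X T.X₁ 0) =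
        Module.finrank k (Coh.HH X T.X₂ 0) := hrn
    have h := hres
    change Module.finrank k (Coh.HH X L 0) = Module.finrank k (Coh.HH X M 0) + Module.finrank k (Coh.HH X T.X₃ 0) at h
    omega
  have hg0 : Function.Surjective (CurveCoh17.hmap k T.g 0) :=
    LinearMap.range_eq_top.1 (Submodule.eq_top_of_finrank_eq hT3)
  have hinj : Function.Injective (CurveCoh17.hmap k T.f 1) := by
    rw [injective_iff_map_eq_zero]
    intro a ha
    obtain ⟨b, rfl⟩ := (CurveCoh17.exact_hdelta_hmap k hS 0 a).1 ha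
    exact (CurveCoh17.exact_hmap_hdelta k hS 0 b).2 (hg0 b)
  have hleX : Module.finrank k (Coh.HH X M 1) ≤ Module.finrank k (Coh.HH X L 1) := by
    rw [← (CurveCoh17.hequiv k (M2.tensorComm (ClSub.idealMod ZF) L) 1).finrank_eq,
      ← (CurveCoh17.hequiv k (M2.tensorLUnit L) 1).finrank_eq]
    exact LinearMap.finrank_le_finrank_of_injective hinj
  have hle : Module.finrank k (Coh.HH (CohB1.ProjSpace 1 k) (CohB1.tensorMod (ClSub.idealMod Zq) E) 1) ≤
      Module.finrank k (Coh.HH (CohB1.ProjSpace 1 k) E 1) := by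
    rw [← (CurveCoh17.hequiv k v 1).finrank_eq, aM.finrank_eq, aL.finrank_eq]
    exact hleX
  obtain ⟨h1, h2⟩ := Ruled10.h1_eq_zero_of_le (k := k) hdimC (Ruled10.subsingleton_H1_P1 (k := k)) hE hq hle
  obtain ⟨w⟩ := nonempty_idealMod_iso (k := k) q hq
  exact ⟨aL.symm.toEquiv.subsingleton, (aM.symm.trans (CurveCoh17.hequiv k v 1)).toEquiv.subsingleton,
    (CurveCoh17.hequiv k ((M2.tensorIso (Iso.refl E) w.symm) ≪≫ M2.tensorComm _ _) 1).toEquiv.subsingleton⟩

end Groth.Agent.S16565
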