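import Groth.Statements.S1657
import Groth.Agent.Lib.TriCan1
import Groth.Agent.Lib.AmpleFib.CurveSep
import Groth.Agent.Lib.AmpleFib.DescVA
import Groth.Agent.Lib.CurveCoh17.GenusBC

set_option linter.style.haveILetI false
set_option backward.isDefEq.respectTransparency false

set_option autoImplicit false
universe u
open CategoryTheory CategoryTheory.Limits AlgebraicGeometry
attribute [local instance] HasDerivedCategory.standard
open Curves

namespace Groth.Agent.S1657

set_option maxHeartbeats 1600000 in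
theorem main (k : Type u) [Field k] (X : Scheme.{u}) [X.Over (Spec (CommRingCat.of k))] [IsProper (X ↘ (Spec (CommRingCat.of k)))] (hdim : topologicalKrullDim X = 1)
    (h0 : Module.finrank k (Coh.HH X (Coh.structureModule X) 0) = 1) (hg : 2 ≤ Curv2.genus k X) (hnodal : Curv2.AtWorstNodal k X)
    [DCoh.HasRpush (X ↘ (Spec (CommRingCat.of k)))] (h : DCoh.RpushPreservesQCoh (X ↘ (Spec (CommRingCat.of k)))) [DCoh.HasShriek (X ↘ (Spec (CommRingCat.of k))) h]
    (OY : DCoh.DQCoh (Spec (CommRingCat.of k))) (hOY : Nonempty (OY.obj ≅ DCoh.inD (Spec (CommRingCat.of k)) (Coh.structureModule (Spec (CommRingCat.of k)))))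
    (hample : CohB1.IsAmple (DCoh.dualizingMod (X ↘ (Spec (CommRingCat.of k))) h OY 1)) :
    let L := CohB1.tensorPow (DCoh.dualizingMod (X ↘ (Spec (CommRingCat.of k))) h OY 1) 3
    (∃ (n : ℕ) (i : X ⟶ CohB1.ProjSpace n k), IsClosedImmersion i ∧ i ≫ CohB1.ProjSpace.toSpec n k = X ↘ (Spec (CommRingCat.of k)) ∧
      Nonempty ((Scheme.Modules.pullback i).obj (Twist.twistProjSpace n k 1) ≅ L)) ∧
      Subsingleton (Coh.HH X L 1) := by
  intro L
  classical
  let K := AlgebraicClosure k
  let X' := Curv2.bc k X K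
  let g := Curv2.bcFst k X K
  let q' := Curv2.bcSnd k X K
  let q := X ↘ Spec (CommRingCat.of k)
  have sq : IsPullback g q' q (Spec.map (CommRingCat.ofHom (algebraMap k K))) := IsPullback.of_hasPullback _ _
  letI : X'.Over (Spec (CommRingCat.of K)) := ⟨q'⟩
  obtain ⟨hP, hR, hC, hdim', hD⟩ := TriCan1.geometric k X hdim h0 hg hnodal h OY hOY hample
  haveI : IsProper (X' ↘ Spec (CommRingCat.of K)) := hP
  haveI := hR
  haveI := hC
  have hX : CurveCoh17.CurveLike k X := CurveAmple18.curveLike k X hdim.le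
  haveI := hX.noetherian
  haveI : CompactSpace X := inferInstance
  haveI : QuasiSeparatedSpace X := inferInstance
  have hL : PicF.IsInvertible L := M2.isInvertible_tensorPow hample.1 3
  have hL1 := (M2.isInvertible_iff_isFinLocFreeOfRank_one L).1 hL
  let L' := (Scheme.Modules.pullback g).obj L
  have hL' : PicF.IsInvertible L' := PicLoc.isInvertible_pullback g hL
  refine ⟨?_, ?_⟩
  swap
  · haveI := CurveVA1.subsingleton_h1_of_degVA hdim' hL' hD
    obtain ⟨eH⟩ := CohBC18.nonempty_HH_bc (k := k) X K (M := L) (CurveCoh17.isCoh_of_ofRank hL1).1 1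
    haveI := hX.fin L (CurveCoh17.isCoh_of_ofRank hL1) 1
    haveI : Subsingleton (TensorProduct k K (Coh.HH X L 1)) := eH.toEquiv.subsingleton
    rw [← Module.finrank_zero_iff (R := k), ← Module.finrank_baseChange (R := K)]
    exact Module.finrank_zero_of_subsingleton
  haveI := hX.fin L (CurveCoh17.isCoh_of_ofRank hL1) 0
  let bs := Module.finBasis k (Coh.HH X L 0)
  let w : Fin (Module.finrank k (Coh.HH X L 0) + 1) → ProjUP.Γm L :=
    Fin.cons 0 fun i => CurveCoh17.hh0 L (bs i)
  let σ : Fin (Module.finrank k (Coh.HH X L 0) + 1) → Γ(L', g ⁻¹ᵁ ⊤) := fun i => M2.pullSec g L (w i)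
  -- constants
  have hconst : ∀ a : k, g.app ⊤ (Coh.toGlobal q a) =
      M1.ores (le_top : g ⁻¹ᵁ ⊤ ≤ ⊤) (Coh.toGlobal q' (algebraMap k K a)) := fun a => by
    refine (CohBC18.appTop_φk (k := k) X K a).trans ?_
    exact (M1.ores_id _ _).symm
  let comb : (Fin (Module.finrank k (Coh.HH X L 0) + 1) → K) → Γ(L', g ⁻¹ᵁ ⊤) := fun c =>
    ∑ i, M1.ores (le_top : g ⁻¹ᵁ ⊤ ≤ ⊤) (Coh.toGlobal q' (c i)) • σ i
  have hcomb0 : ∀ t : Γ(L', g ⁻¹ᵁ ⊤), ∃ c, comb c = t := fun t => by
    induction t using AmpleFib.bc_section_induction (k := k) X K L (CurveCoh17.isCoh_of_ofRank hL1).1 with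
    | h0 => exact ⟨0, Finset.sum_eq_zero fun i _ => by simp⟩
    | hadd a b ha hb =>
      obtain ⟨c, rfl⟩ := ha
      obtain ⟨d, rfl⟩ := hb
      refine ⟨c + d, ?_⟩
      simp only [comb, ← Finset.sum_add_distrib]
      exact Finset.sum_congr rfl fun i _ => by rw [Pi.add_apply, map_add, map_add, add_smul]
    | hgen a m =>
      let co := bs.repr ((CurveCoh17.hh0 L).symm m)
      refine ⟨Fin.cons 0 fun i => a * algebraMap k K (co i), ?_⟩
      have hm : m = ∑ i, (show Γ(X, ⊤) from Coh.toGlobal q (co i)) • (show Γ(L, ⊤) from CurveCoh17.hh0 L (bs i)) := by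
        conv_lhs => rw [← (CurveCoh17.hh0 L).apply_symm_apply m, ← bs.sum_repr ((CurveCoh17.hh0 L).symm m), map_sum]
        exact Finset.sum_congr rfl fun i _ => CurveCoh17.hh0_smul _ _
      simp only [comb]
      rw [Fin.sum_univ_succ]
      simp only [Fin.cons_zero, Fin.cons_succ, map_zero, zero_smul, zero_add, σ, w]
      rw [hm]
      have hsum : M2.pullSec g L (∑ i, (show Γ(X, ⊤) from Coh.toGlobal q (co i)) •
            (show Γ(L, ⊤) from CurveCoh17.hh0 L (bs i))) =
          ∑ i, M2.pullSec g L ((show Γ(X, ⊤) from Coh.toGlobal q (co i)) •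
            (show Γ(L, ⊤) from CurveCoh17.hh0 L (bs i))) :=
        map_sum (((Scheme.Modules.pullbackPushforwardAdjunction g).unit.app L).app ⊤).hom _ _
      rw [hsum, Finset.smul_sum]
      refine Finset.sum_congr rfl fun i _ => ?_
      rw [M2.pullSec_smul, hconst, smul_smul, ← map_mul]
      exact congrArg (· • M2.pullSec g L (CurveCoh17.hh0 L (bs i))) (congrArg _ (map_mul _ _ _))
  have hX' : CurveCoh17.CurveLike K X' := CurveAmple18.curveLike K X' hdim'.le
  haveI := hX'.noetherian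
  have hL'1 := (M2.isInvertible_iff_isFinLocFreeOfRank_one L').1 hL'
  have hgen : ProjUP.GeneratedBy L' σ := by
    intro y
    have hle : ∀ t : Γ(L', g ⁻¹ᵁ ⊤), (L'.presheaf.germ ⊤ y trivial t : L'.presheaf.stalk y) ∈
        Submodule.span (X'.presheaf.stalk y) (Set.range fun i => (L'.presheaf.germ ⊤ y trivial).hom (σ i)) := fun t => by
      obtain ⟨c, rfl⟩ := hcomb0 t
      refine (map_sum (L'.presheaf.germ ⊤ y trivial).hom _ _).symm ▸ Submodule.sum_mem _ fun i _ => ?_
      exact (M1.germ_smul L' (U := (⊤ : X'.Opens)) trivial _ (σ i)).symm ▸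
        Submodule.smul_mem _ _ (Submodule.subset_span ⟨i, rfl⟩)
    exact top_le_iff.1 (le_trans (CurveVA1.spanTop_of_degVA hdim' hL' hD y).ge
      (Submodule.span_le.2 (Set.range_subset_iff.2 hle)))
  obtain ⟨r, hr, τ, hτ⟩ := S3572.result _ (X' ↘ Spec (CommRingCat.of K)) L' hL' σ hgen
  have hspan : ∀ t : Γ(L', (⊤ : X'.Opens)), ∃ c,
      τ.hom.app ⊤ (Curve17.vSec (X' ↘ Spec (CommRingCat.of K)) r c) = t := fun t => by
    obtain ⟨c, hc⟩ := hcomb0 t
    refine ⟨c, Eq.trans ?_ hc⟩
    refine (map_sum (τ.hom.app ⊤).hom _ _).trans ?_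
    refine Finset.sum_congr rfl fun i _ => ?_
    refine (Scheme.Modules.Hom.app_smul τ.hom _ _).trans ?_
    exact congrArg₂ (· • ·) (M1.ores_id _ _).symm (hτ i)
  haveI := CurveVA1.isClosedImmersion_of_degVA hdim' hL' hD r hr τ hspan
  haveI : Fintype (ULift.{u} (Fin (Module.finrank k (Coh.HH X L 0) + 1))) := inferInstance
  refine AmpleFib.exists_closedImmersion_of_vaat (algebraMap k K) q sq hL
    (fun l : ULift.{u} (Fin (Module.finrank k (Coh.HH X L 0) + 1)) => w l.down) fun x' => ?_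
  have hcs : AmpleFib.coordSec r τ = σ := funext hτ
  have h := AmpleFib.vaat_coordSec r τ hL' (ρ := Coh.toGlobal q') (fun c => by rw [hr]; rfl) x'
  rw [hcs] at h
  exact AmpleFib.vaat_relabel σ ULift.down ULift.down_surjective h


/-- Let X be proper of dimension one over k with global functions k and genus g ≥ 2, with at-worst-nodal
singularities, and let ω_X be its dualizing module (degree -1 cohomology sheaf of f^! O for f : X →
Spec k, assuming Rf_* on D_QCoh and its right adjoint exist). If ω_X is ample, then ω_X^{⊗3} is very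
ample — some closed immersion i : X → P^n_k over k has i^* O(1) ≅ ω_X^{⊗3} — and H^1(X, ω_X^{⊗3}) =
0. -/
theorem result (k : Type u) [Field k] (X : Scheme.{u}) [X.Over (Spec (CommRingCat.of k))] [IsProper (X ↘ (Spec (CommRingCat.of k)))] (hdim : topologicalKrullDim X = 1)
    (h0 : Module.finrank k (Coh.HH X (Coh.structureModule X) 0) = 1) (hg : 2 ≤ Curv2.genus k X) (hX : Curv2.AtWorstNodal k X)
    [DCoh.HasRpush (X ↘ (Spec (CommRingCat.of k)))] (h : DCoh.RpushPreservesQCoh (X ↘ (Spec (CommRingCat.of k)))) [DCoh.HasShriek (X ↘ (Spec (CommRingCat.of k))) h]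
    (OY : DCoh.DQCoh (Spec (CommRingCat.of k))) (hOY : Nonempty (OY.obj ≅ DCoh.inD (Spec (CommRingCat.of k)) (Coh.structureModule (Spec (CommRingCat.of k)))))
    (hample : CohB1.IsAmple (DCoh.dualizingMod (X ↘ (Spec (CommRingCat.of k))) h OY 1)) :
    (∃ (n : ℕ) (i : X ⟶ CohB1.ProjSpace n k), IsClosedImmersion i ∧ i ≫ CohB1.ProjSpace.toSpec n k = X ↘ (Spec (CommRingCat.of k)) ∧
      Nonempty ((Scheme.Modules.pullback i).obj (Twist.twistProjSpace n k 1) ≅ CohB1.tensorPow (DCoh.dualizingMod (X ↘ (Spec (CommRingCat.of k))) h OY 1) 3)) ∧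
      Subsingleton (Coh.HH X (CohB1.tensorPow (DCoh.dualizingMod (X ↘ (Spec (CommRingCat.of k))) h OY 1) 3) 1) := by
  exact main k X hdim h0 hg hX h OY hOY hample

end Groth.Agent.S1657
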