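import Groth.Statements.S16572
import Groth.Statements.S11933
import Groth.Statements.S13161
import Groth.Statements.S11938
import Groth.Statements.S15365
import Mathlib

set_option autoImplicit false
universe u
open CAlg

namespace Groth.Agent.S16572

open Polynomial

theorem core (A : Type u) [CommRing A] (B : Type u) [CommRing B] [Algebra A B] [Algebra.IsIntegral A B]
    (hroot : ∀ P : A[X], P.Monic → 0 < P.natDegree → ∃ y : B, aeval y P = 0) (Q : Ideal B) [Q.IsPrime] :
    IsAlgClosed Q.ResidueField ∧
      (Ideal.ResidueField.map (Q.comap (algebraMap A B)) Q (algebraMap A B) rfl).IsIntegral := by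
  set p := Q.comap (algebraMap A B) with hp
  set φ := Ideal.ResidueField.map p Q (algebraMap A B) rfl
  letI : Algebra p.ResidueField Q.ResidueField := φ.toAlgebra
  have hcomm : ∀ a : A, φ (algebraMap A p.ResidueField a) = algebraMap B Q.ResidueField (algebraMap A B a) :=
    fun a => Ideal.ResidueField.map_algebraMap p Q (algebraMap A B) rfl a
  haveI : IsScalarTower A p.ResidueField Q.ResidueField := IsScalarTower.of_algebraMap_eq fun a => by
    rw [IsScalarTower.algebraMap_apply A B Q.ResidueField]
    exact (hcomm a).symm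
  have hint : ∀ x : Q.ResidueField, IsIntegral p.ResidueField x := by
    intro x
    obtain ⟨a, b, -, rfl⟩ := IsFractionRing.div_surjective (A := B ⧸ Q) x
    obtain ⟨a, rfl⟩ := Ideal.Quotient.mk_surjective a
    obtain ⟨b, rfl⟩ := Ideal.Quotient.mk_surjective b
    have h : ∀ c : B, IsIntegral p.ResidueField (algebraMap B Q.ResidueField c) := fun c =>
      ((Algebra.IsIntegral.isIntegral (R := A) c).map (IsScalarTower.toAlgHom A B Q.ResidueField)).tower_top
    rw [div_eq_mul_inv]
    exact (h a).mul (h b).inv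
  refine ⟨?_, fun x => hint x⟩
  haveI : Algebra.IsAlgebraic p.ResidueField Q.ResidueField := ⟨fun x => (hint x).isAlgebraic⟩
  suffices IsAlgClosure p.ResidueField Q.ResidueField from IsAlgClosure.isAlgClosed p.ResidueField
  refine IsAlgClosure.of_exists_root fun f hf hfi => ?_
  classical
  obtain ⟨⟨s, hs⟩, hs'⟩ := IsLocalization.exist_integer_multiples_of_finset (nonZeroDivisors (A ⧸ p)) f.coeffs
  obtain ⟨s, rfl⟩ := Ideal.Quotient.mk_surjective s
  set t := algebraMap A p.ResidueField s
  have ht : t ≠ 0 := fun h0 => nonZeroDivisors.ne_zero hs (IsFractionRing.injective (A ⧸ p) p.ResidueField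
    (by rw [map_zero]; exact h0))
  have hmem : f.scaleRoots t ∈ Polynomial.lifts (algebraMap A p.ResidueField) := by
    rw [Polynomial.lifts_iff_coeff_lifts]
    intro i
    rw [coeff_scaleRoots]
    rcases lt_trichotomy i f.natDegree with hi | rfl | hi
    · obtain ⟨j, hj⟩ : ∃ j, f.natDegree - i = j + 1 := ⟨f.natDegree - i - 1, by omega⟩
      rw [hj, pow_succ, ← mul_assoc]
      by_cases hc : f.coeff i = 0
      · exact ⟨0, by simp [hc]⟩
      obtain ⟨r, hr⟩ := hs' _ (Polynomial.coeff_mem_coeffs hc)
      obtain ⟨r, rfl⟩ := Ideal.Quotient.mk_surjective r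
      refine ⟨r * s ^ j, ?_⟩
      have hr' : algebraMap A p.ResidueField r = t * f.coeff i := by
        rw [IsScalarTower.algebraMap_apply A (A ⧸ p) p.ResidueField]
        exact hr.trans (Algebra.smul_def _ _)
      rw [map_mul, map_pow, hr']
      ring
    · exact ⟨1, by rw [hf.coeff_natDegree, Nat.sub_self, pow_zero, mul_one, map_one]⟩
    · exact ⟨0, by rw [coeff_eq_zero_of_natDegree_lt hi, zero_mul, map_zero]⟩
  obtain ⟨P, hP, hPd, hPm⟩ := Polynomial.lifts_and_natDegree_eq_and_monic hmem ((monic_scaleRoots_iff t).2 hf)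
  obtain ⟨y, hy⟩ := hroot P hPm (by rw [hPd, natDegree_scaleRoots]; exact hfi.natDegree_pos)
  refine ⟨algebraMap p.ResidueField Q.ResidueField t⁻¹ * algebraMap B Q.ResidueField y, ?_⟩
  have h1 : aeval (algebraMap B Q.ResidueField y) (f.scaleRoots t) = 0 := by
    rw [← hP, aeval_map_algebraMap, aeval_algebraMap_apply, hy, map_zero]
  have h2 : algebraMap p.ResidueField Q.ResidueField t *
      (algebraMap p.ResidueField Q.ResidueField t⁻¹ * algebraMap B Q.ResidueField y) = algebraMap B Q.ResidueField y := by
    rw [← mul_assoc, ← map_mul, mul_inv_cancel₀ ht, map_one, one_mul]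
  rw [← h2, aeval_def, scaleRoots_eval₂_mul] at h1
  exact (mul_eq_zero.1 h1).resolve_left (pow_ne_zero _ (by rw [_root_.map_ne_zero]; exact ht))

/-- Let A be a commutative ring and T the quotient of the polynomial ring over A in indeterminates X_P,
one for each monic polynomial P over A of positive degree, by the ideal generated by the elements
P(X_P). Then the map on prime spectra Spec T → Spec A is surjective, and for every prime ideal Q of
T, with p its contraction to A, the residue field of Q is algebraically closed and integral over the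
residue field of p under the induced map of residue fields (so it is an algebraic closure of it). -/
theorem result (A : Type u) [CommRing A] :
    Function.Surjective (PrimeSpectrum.comap (algebraMap A (MvPolynomial {P : Polynomial A // P.Monic ∧ 0 < P.natDegree} A ⧸
      Ideal.span (Set.range fun P : {P : Polynomial A // P.Monic ∧ 0 < P.natDegree} =>
        Polynomial.aeval (MvPolynomial.X (R := A) P) P.1)))) ∧
    ∀ (Q : Ideal (MvPolynomial {P : Polynomial A // P.Monic ∧ 0 < P.natDegree} A ⧸
      Ideal.span (Set.range fun P : {P : Polynomial A // P.Monic ∧ 0 < P.natDegree} =>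
        Polynomial.aeval (MvPolynomial.X (R := A) P) P.1))) [Q.IsPrime],
      IsAlgClosed Q.ResidueField ∧
      (Ideal.ResidueField.map (Q.comap (algebraMap A (MvPolynomial {P : Polynomial A // P.Monic ∧ 0 < P.natDegree} A ⧸
      Ideal.span (Set.range fun P : {P : Polynomial A // P.Monic ∧ 0 < P.natDegree} =>
        Polynomial.aeval (MvPolynomial.X (R := A) P) P.1)))) Q (algebraMap A (MvPolynomial {P : Polynomial A // P.Monic ∧ 0 < P.natDegree} A ⧸
      Ideal.span (Set.range fun P : {P : Polynomial A // P.Monic ∧ 0 < P.natDegree} =>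
        Polynomial.aeval (MvPolynomial.X (R := A) P) P.1))) rfl).IsIntegral := by
  classical
  let ι := {P : Polynomial A // P.Monic ∧ 0 < P.natDegree}
  set J : Ideal (MvPolynomial ι A) := Ideal.span (Set.range fun P : ι => Polynomial.aeval (MvPolynomial.X (R := A) P) P.1)
  have hX : ∀ P : ι, Polynomial.aeval (Ideal.Quotient.mk J (MvPolynomial.X P)) P.1 = 0 := fun P => by
    rw [← Ideal.Quotient.mkₐ_eq_mk A, Polynomial.aeval_algHom_apply, Ideal.Quotient.mkₐ_eq_mk,
      Ideal.Quotient.eq_zero_iff_mem]
    exact Ideal.subset_span ⟨P, rfl⟩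
  haveI : Algebra.IsIntegral A (MvPolynomial ι A ⧸ J) := ⟨fun x => by
    obtain ⟨x, rfl⟩ := Ideal.Quotient.mk_surjective x
    induction x using MvPolynomial.induction_on with
    | C a => exact isIntegral_algebraMap (x := a)
    | add a b ha hb => rw [map_add]; exact ha.add hb
    | mul_X a i ha => rw [map_mul]; exact ha.mul ⟨i.1, i.2.1, hX i⟩⟩
  refine ⟨fun p => ?_, fun Q _ => core A (MvPolynomial ι A ⧸ J)
    (fun P hP hd => ⟨_, hX ⟨P, hP, hd⟩⟩) Q⟩
  let Ω := AlgebraicClosure p.asIdeal.ResidueField
  have hr : ∀ P : ι, ∃ z : Ω, Polynomial.aeval z P.1 = 0 := fun P => by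
    obtain ⟨z, hz⟩ := IsAlgClosed.exists_root (P.1.map (algebraMap A Ω)) (by
      rw [Polynomial.degree_eq_natDegree (P.2.1.map _).ne_zero, P.2.1.natDegree_map]
      exact_mod_cast P.2.2.ne')
    exact ⟨z, by rwa [IsRoot, eval_map, ← aeval_def] at hz⟩
  choose r hr using hr
  let g : MvPolynomial ι A ⧸ J →ₐ[A] Ω := Ideal.Quotient.liftₐ J (MvPolynomial.aeval r) fun y hy => by
    refine (Ideal.span_le.2 ?_ hy : y ∈ RingHom.ker (MvPolynomial.aeval r : MvPolynomial ι A →ₐ[A] Ω))
    rintro _ ⟨P, rfl⟩
    rw [SetLike.mem_coe, RingHom.mem_ker, ← Polynomial.aeval_algHom_apply, MvPolynomial.aeval_X, hr]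
  refine ⟨⟨RingHom.ker g, RingHom.ker_isPrime _⟩, PrimeSpectrum.ext ?_⟩
  ext a
  show g (algebraMap A _ a) = 0 ↔ a ∈ p.asIdeal
  rw [g.commutes, IsScalarTower.algebraMap_apply A p.asIdeal.ResidueField Ω, _root_.map_eq_zero,
    Ideal.algebraMap_residueField_eq_zero]

end Groth.Agent.S16572
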