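import Groth.Statements.S16576
import Groth.Agent.Lib.CplLocH7.Basic
import Groth.Agent.Lib.SerreCrit.Basic
import Groth.Agent.Lib.Depth.BaseChange
import Groth.Agent.Lib.Depth.CM
import Groth.Agent.Lib.CplDomain.Nagata
import Groth.Agent.Lib.VarDim.Alg
import Groth.Agent.Lib.MilnorFib6.AlgClosure
import Groth.Agent.Lib.NodeCpl1.Basic
import Mathlib

set_option autoImplicit false
universe u
open CAlg

namespace Groth.Agent.S16576
open IsLocalRing TensorProduct

open Groth.Agent

/-- Depth does not drop along flat local homomorphisms. -/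
theorem depth_le_of_flat_local {A B : Type u} [CommRing A] [IsNoetherianRing A] [IsLocalRing A]
    [CommRing B] [IsLocalRing B] [Algebra A B] [IsLocalHom (algebraMap A B)] [Module.Flat A B] :
    LocCoh.depth A A ≤ LocCoh.depth B B := by
  refine le_trans (DepthLib.idealDepth_le_baseChange (A := A) (B := B) (M := A)
    (I := IsLocalRing.maximalIdeal A)) ?_
  rw [DepthLib.idealDepth_congr (TensorProduct.AlgebraTensorModule.rid A B B)]
  exact DepthLib.idealDepth_mono (((IsLocalRing.local_hom_TFAE (algebraMap A B)).out 0 2).1 ‹_›)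

theorem exists_cpl_map {A B : Type u} [CommRing A] [CommRing B] [IsLocalRing A] [IsLocalRing B] [Algebra A B]
    [IsLocalHom (algebraMap A B)] :
    ∃ ψ : CplLocH7.Cpl A →+* CplLocH7.Cpl B,
      ψ.comp (algebraMap A (CplLocH7.Cpl A)) = (algebraMap B (CplLocH7.Cpl B)).comp (algebraMap A B) := by
  have hle : ∀ n, maximalIdeal A ^ n ≤ (maximalIdeal B ^ n).comap (algebraMap A B) := fun n => by
    refine Ideal.map_le_iff_le_comap.1 ?_
    rw [Ideal.map_pow]
    exact Ideal.pow_right_mono ((Ideal.map_le_iff_le_comap (f := algebraMap A B) (K := maximalIdeal B)).2 fun x hx => map_nonunit (algebraMap A B) x hx) n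
  let f : ∀ n, CplLocH7.Cpl A →+* B ⧸ maximalIdeal B ^ n := fun n =>
    (Ideal.quotientMap (maximalIdeal B ^ n) (algebraMap A B) (hle n)).comp
      (AdicCompletion.evalₐ (maximalIdeal A) n).toRingHom
  have hf : ∀ {m n : ℕ} (h : m ≤ n), (Ideal.Quotient.factorPow (maximalIdeal B) h).comp (f n) = f m := by
    intro m n h
    ext x
    obtain ⟨a, rfl⟩ := AdicCompletion.mk_surjective (maximalIdeal A) A x
    simp only [f, AlgHom.toRingHom_eq_coe, RingHom.comp_apply, RingHom.coe_coe, AdicCompletion.evalₐ_mk]
    show Ideal.Quotient.mk _ (algebraMap A B (a n)) = Ideal.Quotient.mk _ (algebraMap A B (a m))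
    refine Ideal.Quotient.eq.2 ?_
    rw [← map_sub]
    refine hle m ?_
    have := (a.property h).symm
    rw [SModEq.sub_mem, Ideal.smul_eq_mul, Ideal.mul_top] at this
    exact this
  refine ⟨AdicCompletion.liftRingHom (maximalIdeal B) f hf, RingHom.ext fun a => AdicCompletion.ext_evalₐ fun n => ?_⟩
  rw [RingHom.comp_apply, AdicCompletion.evalₐ_liftRingHom, RingHom.comp_apply]
  show Ideal.quotientMap _ _ (hle n) (AdicCompletion.evalₐ (maximalIdeal A) n (algebraMap A _ a)) = _
  rw [AlgHom.commutes, RingHom.comp_apply, AlgHom.commutes]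
  rfl

/-- The dimension bound through a finite algebra flat over a ring of depth two. -/
theorem dim_ge_aux {C D N T : Type u} [CommRing C] [IsLocalRing C] [CommRing D] [IsLocalRing D]
    [Algebra C D] [IsLocalHom (algebraMap C D)] [CommRing N] [IsLocalRing N] [IsNoetherianRing N] [Algebra C N]
    [Module.Finite C N] [CommRing T] [IsNoetherianRing T] [Algebra D T] [Module.Finite D T] [Algebra C T]
    [IsScalarTower C D T] [Algebra N T] [IsScalarTower C N T] [Module.Flat N T]
    (hdepthN : 2 ≤ LocCoh.depth N N) (q : Ideal D) [q.IsPrime] (hq : q ∈ minimalPrimes D)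
    (hker : RingHom.ker (algebraMap D T) ≤ q) : (2 : WithBot ℕ∞) ≤ ringKrullDim (D ⧸ q) := by
  haveI : Algebra.IsIntegral D T := Algebra.IsIntegral.of_finite D T
  obtain ⟨Q₁, -, hQ₁p, hQ₁c⟩ := Ideal.exists_ideal_over_prime_of_isIntegral (S := T) q (⊥ : Ideal T) (by
    rw [← RingHom.ker_eq_comap_bot]; exact hker)
  haveI := hQ₁p
  obtain ⟨Q, hQ, hQle⟩ := Ideal.exists_minimalPrimes_le (I := (⊥ : Ideal T)) (J := Q₁) bot_le
  haveI := hQ.1.1
  have hQq : Q.comap (algebraMap D T) = q := by
    have h1 : Q.comap (algebraMap D T) ≤ q := (Ideal.comap_mono hQle).trans hQ₁c.le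
    exact le_antisymm h1 (hq.2 ⟨inferInstance, bot_le⟩ h1)
  obtain ⟨M', hM', hle⟩ := Ideal.exists_le_maximal Q Ideal.IsPrime.ne_top'
  let L := Localization.AtPrime M'
  have hMD : M'.comap (algebraMap D T) = maximalIdeal D :=
    IsLocalRing.eq_maximalIdeal (Ideal.isMaximal_comap_of_isIntegral_of_isMaximal (R := D) (S := T) M')
  have hloc : IsLocalHom (algebraMap N L) := ⟨fun n hn => by
    by_contra hu
    have hn' : n ∈ maximalIdeal N := hu
    have hmax : maximalIdeal N ≤ M'.comap (algebraMap N T) := by
      haveI : Algebra.IsIntegral C N := Algebra.IsIntegral.of_finite _ _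
      haveI : (M'.comap (algebraMap N T)).IsPrime := inferInstance
      have hc : (M'.comap (algebraMap N T)).comap (algebraMap C N) = maximalIdeal C := by
        rw [Ideal.comap_comap, ← IsScalarTower.algebraMap_eq, IsScalarTower.algebraMap_eq C D T,
          ← Ideal.comap_comap, hMD]
        exact IsLocalRing.maximalIdeal_comap (algebraMap C D)
      haveI := Ideal.isMaximal_of_isIntegral_of_isMaximal_comap (R := C) (M'.comap (algebraMap N T)) (by rw [hc]; infer_instance)
      rw [IsLocalRing.eq_maximalIdeal (inferInstance : (M'.comap (algebraMap N T)).IsMaximal)]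
    have h1 : algebraMap T L (algebraMap N T n) ∈ maximalIdeal L := by
      rw [← Localization.AtPrime.map_eq_maximalIdeal]
      exact Ideal.mem_map_of_mem _ (hmax hn')
    rw [← IsScalarTower.algebraMap_apply] at h1
    exact h1 hn⟩
  haveI : IsNoetherianRing L := IsLocalization.isNoetherianRing M'.primeCompl L inferInstance
  haveI : Module.Flat N L := Module.Flat.trans N T L
  have hdepth : 2 ≤ LocCoh.depth L L :=
    hdepthN.trans (depth_le_of_flat_local (A := N) (B := L))
  let QL := Q.map (algebraMap T L)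
  haveI : QL.IsPrime := IsLocalization.isPrime_of_isPrime_disjoint M'.primeCompl L Q inferInstance
    (Set.disjoint_left.2 fun x hx hxQ => hx (hle hxQ))
  have hQL : QL ∈ minimalPrimes L := by
    refine ⟨⟨inferInstance, bot_le⟩, fun P hP hPle => ?_⟩
    haveI := hP.1
    have h1 : P.comap (algebraMap T L) ≤ Q := (Ideal.comap_mono hPle).trans
      (le_of_eq (IsLocalization.comap_map_of_isPrime_disjoint M'.primeCompl L inferInstance
        (Set.disjoint_left.2 fun x hx hxQ => hx (hle hxQ))))
    have h2 : Q ≤ P.comap (algebraMap T L) := hQ.2 ⟨inferInstance, bot_le⟩ h1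
    exact Ideal.map_le_iff_le_comap.2 h2
  have hass : QL ∈ associatedPrimes L L := by
    refine Module.associatedPrimes.minimalPrimes_annihilator_subset_associatedPrimes L L ?_
    rwa [Module.annihilator_eq_bot.2 inferInstance]
  have hL : (2 : WithBot ℕ∞) ≤ ringKrullDim (L ⧸ QL) :=
    le_trans (WithBot.coe_le_coe.2 hdepth) (DepthLib.depth_le_of_mem_associatedPrimes hass)
  refine hL.trans (le_trans ?_ (le_of_eq (?_ : ringKrullDim (T ⧸ Q) = ringKrullDim (D ⧸ q))))
  · let g : (T ⧸ Q) →+* L ⧸ QL := Ideal.quotientMap QL (algebraMap T L) Ideal.le_comap_map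
    have hg : Function.Injective (PrimeSpectrum.comap g) := by
      intro a b hab
      apply PrimeSpectrum.comap_injective_of_surjective (Ideal.Quotient.mk QL) Ideal.Quotient.mk_surjective
      apply PrimeSpectrum.localization_comap_injective L M'.primeCompl
      have h := congrArg (PrimeSpectrum.comap (Ideal.Quotient.mk Q)) hab
      exact h
    exact Order.krullDim_le_of_strictMono (PrimeSpectrum.comap g)
      ((Monotone.strictMono_of_injective (fun a b h => Ideal.comap_mono h) hg))
  · letI : Algebra (D ⧸ q) (T ⧸ Q) := (Ideal.quotientMap Q (algebraMap D T) hQq.ge).toAlgebra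
    haveI : Algebra.IsIntegral (D ⧸ q) (T ⧸ Q) := ⟨fun z => by
      obtain ⟨t, rfl⟩ := Ideal.Quotient.mk_surjective z
      have ht : IsIntegral D (Ideal.Quotient.mk Q t) := (Algebra.IsIntegral.isIntegral t).map (Ideal.Quotient.mkₐ D Q)
      obtain ⟨f, hf, hf0⟩ := ht
      exact ⟨f.map (Ideal.Quotient.mk q), hf.map _, by rw [Polynomial.eval₂_map]; exact hf0⟩⟩
    exact VarDim.ringKrullDim_eq_of_isIntegral (Ideal.quotientMap_injective' hQq.le)

/-- Components stay of dimension at least two along flat local maps from complete local rings. -/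
theorem dim_ge {C D : Type u} [CommRing C] [IsLocalRing C] [IsNoetherianRing C]
    [IsAdicComplete (maximalIdeal C) C] [CommRing D] [IsLocalRing D] [IsNoetherianRing D] [Algebra C D]
    [IsLocalHom (algebraMap C D)] [Module.Flat C D]
    (hC : ∀ p ∈ minimalPrimes C, (2 : WithBot ℕ∞) ≤ ringKrullDim (C ⧸ p)) :
    ∀ q ∈ minimalPrimes D, (2 : WithBot ℕ∞) ≤ ringKrullDim (D ⧸ q) := by
  intro q hq
  haveI hqp : q.IsPrime := hq.1.1
  set p := q.comap (algebraMap C D) with hp
  have hpmin : p ∈ minimalPrimes C := by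
    refine ⟨⟨inferInstance, bot_le⟩, fun p' hp' hle => ?_⟩
    haveI := hp'.1
    haveI : q.LiesOver p := ⟨rfl⟩
    obtain ⟨Q, hQle, hQ, hQl⟩ := Ideal.exists_ideal_le_liesOver_of_le (R := C) (S := D) (p := p') (q := p) q hle
    have : q ≤ Q := hq.2 ⟨hQ, bot_le⟩ hQle
    rw [hQl.over]
    exact Ideal.comap_mono this
  let K := FractionRing (C ⧸ p)
  obtain ⟨_, hcpl⟩ := CplDomain.completeLocal_of_finite C (C ⧸ p)
  haveI := hcpl
  let N := integralClosure (C ⧸ p) K
  haveI hfinN : Module.Finite (C ⧸ p) N := CplDomain.isN2_of_complete (C ⧸ p) K inferInstance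
  haveI : Module.Finite C N := Module.Finite.trans (C ⧸ p) N
  haveI : IsNoetherianRing N := IsNoetherianRing.of_finite C N
  haveI : IsIntegrallyClosed N := integralClosure.isIntegrallyClosedOfFiniteExtension K
  haveI : HenselianLocalRing C :=
    { is_henselian := fun f hf a₀ h₁ h₂ => HenselianRing.is_henselian (I := maximalIdeal C) f hf a₀ h₁
        (by exact h₂.map _) }
  haveI : IsLocalRing N := MilnorFib6.isLocalRing_of_finite_domain C N
  have hNinj : Function.Injective (algebraMap (C ⧸ p) N) := fun a b hab =>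
    IsFractionRing.injective (C ⧸ p) K (congrArg Subtype.val hab)
  have hNdim : (2 : WithBot ℕ∞) ≤ ringKrullDim N := by
    haveI : Algebra.IsIntegral (C ⧸ p) N := Algebra.IsIntegral.of_finite _ _
    rw [VarDim.ringKrullDim_eq_of_isIntegral hNinj]
    exact hC p hpmin
  have hdepthN : 2 ≤ LocCoh.depth N N := SerreCrit.two_le_depth_of_normal N hNdim
  let T := N ⊗[C] D
  letI : Algebra D T := Algebra.TensorProduct.rightAlgebra
  haveI : Module.Finite D T :=
    Module.Finite.equiv (Algebra.TensorProduct.commRight C D N).toLinearEquiv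
  haveI : IsNoetherianRing T := IsNoetherianRing.of_finite D T
  have hker : RingHom.ker (algebraMap D T) ≤ q := by
    intro x hx
    let ι : (C ⧸ p) →ₗ[C] N := (IsScalarTower.toAlgHom C (C ⧸ p) N).toLinearMap
    have hι : Function.Injective ι := hNinj
    have h0 : ((Ideal.Quotient.mk p 1) ⊗ₜ[C] x : (C ⧸ p) ⊗[C] D) = 0 := by
      apply Module.Flat.rTensor_preserves_injective_linearMap (M := D) ι hι
      rw [map_zero, LinearMap.rTensor_tmul, show ι (Ideal.Quotient.mk p 1) = 1 from map_one (algebraMap (C ⧸ p) N)]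
      exact hx
    have h1 := congrArg (TensorProduct.quotTensorEquivQuotSMul D p) h0
    rw [map_zero, map_one, TensorProduct.quotTensorEquivQuotSMul_mk_one_tmul,
      Submodule.Quotient.mk_eq_zero, Ideal.smul_top_eq_map] at h1
    exact Ideal.map_le_iff_le_comap.2 le_rfl h1
  letI : Algebra C T := Algebra.TensorProduct.leftAlgebra
  haveI : IsScalarTower C D T := IsScalarTower.of_algebraMap_eq fun c => by
    show algebraMap C N c ⊗ₜ[C] (1 : D) = (1 : N) ⊗ₜ[C] algebraMap C D c
    rw [Algebra.algebraMap_eq_smul_one, Algebra.algebraMap_eq_smul_one, smul_tmul]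
  exact dim_ge_aux (C := C) (N := N) (T := T) hdepthN q hq hker

/-- Let A → B be a flat local homomorphism of Noetherian local rings and let Â, B̂ be their completions
at the maximal ideals. If every irreducible component of Spec Â has dimension at least 2, then every
irreducible component of Spec B̂ has dimension at least 2. (This is the c_2 condition in its
completed form; globally: the preimage of a c_2 closed subset under a flat morphism of Noetherian
schemes is c_2, in particular the condition is invariant under Zariski and étale localization.) -/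
theorem result
    (A B : Type u) [CommRing A] [CommRing B] [IsNoetherianRing A] [IsNoetherianRing B]
    [IsLocalRing A] [IsLocalRing B] (f : A →+* B) [IsLocalHom f] (hf : f.Flat)
    (hA : ∀ q ∈ minimalPrimes (AdicCompletion (IsLocalRing.maximalIdeal A) A), (2 : WithBot ℕ∞) ≤ ringKrullDim (AdicCompletion (IsLocalRing.maximalIdeal A) A ⧸ q)) :
    ∀ q ∈ minimalPrimes (AdicCompletion (IsLocalRing.maximalIdeal B) B), (2 : WithBot ℕ∞) ≤ ringKrullDim (AdicCompletion (IsLocalRing.maximalIdeal B) B ⧸ q) := by
  algebraize [f]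
  haveI : IsLocalHom (algebraMap A B) := ‹IsLocalHom f›
  obtain ⟨ψ, hψ⟩ := exists_cpl_map (A := A) (B := B)
  letI := ψ.toAlgebra
  haveI : IsScalarTower A (CplLocH7.Cpl A) (CplLocH7.Cpl B) := IsScalarTower.of_algebraMap_eq fun x => by
    rw [IsScalarTower.algebraMap_apply A B (CplLocH7.Cpl B)]
    exact (RingHom.congr_fun hψ x).symm
  haveI : Module.Flat (CplLocH7.Cpl A) (CplLocH7.Cpl B) := CplLocH7.flat_iff.2 ‹_›
  haveI : IsAdicComplete (maximalIdeal (CplLocH7.Cpl A)) (CplLocH7.Cpl A) := NodeCpl1.isAdicComplete_cpl A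
  exact dim_ge hA

end Groth.Agent.S16576
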