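import Groth.Prelude.Def_Hensel
import Mathlib.RingTheory.KrullDimension.Basic
import Mathlib.RingTheory.Ideal.MinimalPrime.Basic
import Mathlib.RingTheory.Noetherian.Defs
import Mathlib
import Groth.Agent.Lib.Hens.Fibre

set_option autoImplicit false
universe u
namespace Hensel
end Hensel
open Hensel

namespace Groth.Agent.S16577

/-- Let A be a Noetherian local ring with a strict henselization S', and p a prime ideal of A. Call p an
immediate étale generization of the closed point when the strict henselization S'/pS' of A/p has an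
irreducible component of dimension 1, that is, some minimal prime P over pS' has dim S'/P = 1. Then
p is an immediate étale generization of the closed point if and only if p is the contraction of some
prime ideal P of S' with dim S'/P = 1. -/
theorem result
    (A : Type u) [CommRing A] [IsNoetherianRing A] [IsLocalRing A]
    (S' : Type u) [CommRing S'] [IsLocalRing S'] [Algebra A S'] [IsLocalHom (algebraMap A S')]
    [Hensel.IsStrictHenselization A S']
    (p : Ideal A) [p.IsPrime] :
    (∃ P ∈ (p.map (algebraMap A S')).minimalPrimes, ringKrullDim (S' ⧸ P) = 1) ↔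
    (∃ P : Ideal S', P.IsPrime ∧ P.comap (algebraMap A S') = p ∧ ringKrullDim (S' ⧸ P) = 1) := by
  haveI : Module.Flat A S' := Hens.strictHenselization_flat A S'
  constructor
  · rintro ⟨P, hP, hdim⟩
    haveI : P.IsPrime := hP.1.1
    refine ⟨P, hP.1.1, ?_, hdim⟩
    refine le_antisymm ?_ (Ideal.map_le_iff_le_comap.mp hP.1.2)
    obtain ⟨q, hqP, hq, hqp⟩ := Ideal.exists_ideal_le_liesOver_of_le (S := S') (p := p)
      (q := P.comap (algebraMap A S')) P (Ideal.map_le_iff_le_comap.mp hP.1.2)
    haveI := hq
    exact Ideal.comap_mono (hP.2 ⟨hq, Ideal.map_le_iff_le_comap.mpr hqp.over.le⟩ hqP) |>.trans hqp.over.ge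
  · rintro ⟨P, hP, rfl, hdim⟩
    refine ⟨P, ⟨⟨hP, Ideal.map_comap_le⟩, ?_⟩, hdim⟩
    rintro J ⟨hJ, hle⟩ hJP x hx
    obtain ⟨s, hs, hsx⟩ := Hens.strictHenselization_unrStalks (R := A) (S := S') P hP x hx
    exact (hJ.mem_or_mem (hle hsx)).resolve_left fun h => hs (hJP h)

end Groth.Agent.S16577
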