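import Groth.Statements.S16579
import Groth.Agent.Lib.GabberRig6.Main
-- import your own Groth.Agent.* helpers here

set_option autoImplicit false
universe u
open CategoryTheory AlgebraicGeometry
open Hensel

namespace Groth.Agent.S16579

set_option backward.isDefEq.respectTransparency.types false

theorem mem_map_pow_iff {A : Type u} [CommRing A] {I : Ideal A} (hI : I.FG) (n : ℕ) (x : AdicCompletion I A) :
    x ∈ (I ^ n).map (algebraMap A (AdicCompletion I A)) ↔ AdicCompletion.evalₐ I n x = 0 := by
  have h1 : x ∈ (I ^ n).map (algebraMap A (AdicCompletion I A)) ↔ AdicCompletion.eval I A n x = 0 := by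
    rw [← LinearMap.mem_ker, ← AdicCompletion.pow_smul_top_eq_ker_eval hI, Ideal.smul_top_eq_map]
    rfl
  rw [h1]
  have h : (I ^ n • ⊤ : Ideal A) = I ^ n := by simp
  rw [← AdicCompletion.factor_eval_eq_evalₐ I x h.le]
  constructor
  · intro hx
    rw [hx]
    exact map_zero _
  · intro hx
    have hinj : Function.Injective (Ideal.Quotient.factor h.le) := fun a b hab => by
      obtain ⟨a, rfl⟩ := Ideal.Quotient.mk_surjective a
      obtain ⟨b, rfl⟩ := Ideal.Quotient.mk_surjective b
      simp only [Ideal.Quotient.factor_mk, Ideal.Quotient.mk_eq_mk_iff_sub_mem] at hab ⊢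
      exact h.ge hab
    exact hinj (hx.trans (map_zero _).symm)

theorem approx {A : Type u} [CommRing A] {I : Ideal A} (hI : I.FG) :
    GabberRig6.Approx (A' := AdicCompletion I A) I where
  jac := by
    haveI := AdicCompletion.isAdicComplete (M := A) (I := I) hI
    haveI : IsAdicComplete (I.map (algebraMap A (AdicCompletion I A))) (AdicCompletion I A) :=
      (IsAdicComplete.map_algebraMap_iff I (AdicCompletion I A)).mpr inferInstance
    exact IsAdicComplete.le_jacobson_bot _
  lift := fun m x => by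
    obtain ⟨a, ha⟩ := Ideal.Quotient.mk_surjective (AdicCompletion.evalₐ I m x)
    refine ⟨a, (mem_map_pow_iff hI m _).mpr ?_⟩
    rw [map_sub, AlgHom.commutes, Ideal.Quotient.algebraMap_eq, ha, sub_self]
  contract := fun m a ha => by
    have := (mem_map_pow_iff hI m _).mp ha
    rwa [AlgHom.commutes, Ideal.Quotient.algebraMap_eq, Ideal.Quotient.eq_zero_iff_mem] at this

/-- The case of the constant sheaf on a two-element set. Let (A, I) be a henselian pair with I finitely
generated (A not necessarily Noetherian), Â the I-adic completion of A, π : Spec Â → Spec A the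
completion morphism, U a quasi-compact open subscheme of Spec A containing the complement of V(I),
and Û = π⁻¹(U). Then V ↦ (π|Û)⁻¹(V) is a bijection from the clopen subsets of U onto the clopen
subsets of Û; equivalently, for every finite set F the locally constant F-valued functions on U and
on Û correspond under composition with π. -/
theorem result
    (A : Type u) [CommRing A] (I : Ideal A) (hI : I.FG) [HenselianRing A I]
    (U : (Spec (CommRingCat.of A)).Opens) (hU : IsCompact (U : Set (Spec (CommRingCat.of A))))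
    (hUI : ∀ x : Spec (CommRingCat.of A), x ∉ U → I ≤ x.asIdeal) :
    Function.Bijective (fun V : {V : Set ↥U // IsClopen V} =>
      (⟨((Spec.map (CommRingCat.ofHom (algebraMap A (AdicCompletion I A)))) ∣_ U).base.hom ⁻¹' V.1, V.2.preimage ((Spec.map (CommRingCat.ofHom (algebraMap A (AdicCompletion I A)))) ∣_ U).base.hom.continuous⟩ :
        {V' : Set ↥((Spec.map (CommRingCat.ofHom (algebraMap A (AdicCompletion I A)))) ⁻¹ᵁ U) // IsClopen V'})) := by
  let π := PrimeSpectrum.comap (algebraMap A (AdicCompletion I A))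
  let q := (Spec.map (CommRingCat.ofHom (algebraMap A (AdicCompletion I A)))) ∣_ U
  have hq : ∀ z, (q.base.hom z).1 = π z.1 := fun z => morphismRestrict_base_coe _ _ z
  have hjac : I ≤ Ideal.jacobson ⊥ := HenselianRing.jac
  let Us : Set (PrimeSpectrum A) := U.1
  constructor
  · intro V₁ V₂ h
    have h' : ∀ z, q.base.hom z ∈ V₁.1 ↔ q.base.hom z ∈ V₂.1 := fun z =>
      Set.ext_iff.mp (congrArg Subtype.val h) z
    suffices key : ∀ V₁ V₂ : {V : Set ↥U // IsClopen V}, (∀ z, q.base.hom z ∈ V₁.1 → q.base.hom z ∈ V₂.1) →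
        V₁.1 ⊆ V₂.1 from
      Subtype.ext ((key V₁ V₂ fun z => (h' z).1).antisymm (key V₂ V₁ fun z => (h' z).2))
    intro V₁ V₂ hz
    rw [← Set.sdiff_eq_empty]
    have hemp := GabberRig6.eq_empty_of_preimage (A' := AdicCompletion I A) hjac (approx hI) hI
      (U := Us) (W := (Subtype.val '' (V₁.1 \ V₂.1) : Set (PrimeSpectrum A)))
      hUI ?_ ?_
    · exact Set.image_eq_empty.mp hemp
    · rintro _ ⟨x, hx, rfl⟩ y hy hs
      exact ⟨⟨y, hy⟩, ((Topology.IsInducing.subtypeVal.specializes_iff (x := x) (y := (⟨y, hy⟩ : ↥U))).mp hs).mem_closed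
        (V₁.2.diff V₂.2).1 hx, rfl⟩
    · refine Set.eq_empty_iff_forall_notMem.mpr fun z hz' => ?_
      obtain ⟨x, ⟨hx1, hx2⟩, hxz⟩ := hz'
      have hzU : π z ∈ Us := show PrimeSpectrum.comap _ z ∈ Us by rw [← hxz]; exact x.2
      have he : q.base.hom ⟨z, hzU⟩ = x := Subtype.ext ((hq ⟨z, hzU⟩).trans hxz.symm)
      exact hx2 (he ▸ hz ⟨z, hzU⟩ (he.symm ▸ hx1))
  · intro V'
    obtain ⟨W, W', hW, hW', hd, hWW, hVW⟩ := GabberRig6.exists_open_split (A' := AdicCompletion I A)
      (inferInstanceAs (HenselianRing A I)) (approx hI) hI (U := Us) U.2 hU hUI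
      (V := (Subtype.val '' V'.1 : Set (PrimeSpectrum (AdicCompletion I A))))
      (V' := (Subtype.val '' V'.1ᶜ : Set (PrimeSpectrum (AdicCompletion I A))))
      (((Spec.map (CommRingCat.ofHom (algebraMap A (AdicCompletion I A)))) ⁻¹ᵁ U).2.isOpenMap_subtype_val _ V'.2.2)
      (((Spec.map (CommRingCat.ofHom (algebraMap A (AdicCompletion I A)))) ⁻¹ᵁ U).2.isOpenMap_subtype_val _
        V'.2.compl.2)
      (Set.disjoint_image_of_injective Subtype.val_injective disjoint_compl_right)
      (by
        ext z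
        constructor
        · rintro (⟨w, -, rfl⟩ | ⟨w, -, rfl⟩) <;> exact w.2
        · intro hz
          by_cases hzV : (⟨z, hz⟩ : ↥((Spec.map (CommRingCat.ofHom (algebraMap A (AdicCompletion I A)))) ⁻¹ᵁ U)) ∈ V'.1
          · exact Or.inl ⟨_, hzV, rfl⟩
          · exact Or.inr ⟨_, hzV, rfl⟩)
    let V : Set ↥U := Subtype.val ⁻¹' W
    have hVc : IsClopen V := by
      refine ⟨⟨?_⟩, hW.preimage continuous_subtype_val⟩
      rw [show Vᶜ = (Subtype.val ⁻¹' W' : Set ↥U) from Set.ext fun x => ⟨fun hx =>
        ((hWW.ge x.2 : x.1 ∈ W ∪ W')).resolve_left hx, fun hx hx' => Set.disjoint_left.mp hd hx' hx⟩]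
      exact hW'.preimage continuous_subtype_val
    refine ⟨⟨V, hVc⟩, Subtype.ext (Set.ext fun z => ?_)⟩
    show (q.base.hom z).1 ∈ W ↔ z ∈ V'.1
    rw [hq z]
    refine (Iff.trans ?_ Subtype.val_injective.mem_set_image)
    exact (Set.ext_iff.mp hVW z.1).symm

end Groth.Agent.S16579
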