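import Groth.Statements.S1658
import Groth.Agent.Lib.RelAmple18.Generation
import Groth.Agent.Lib.SecDiv18.Regular

set_option autoImplicit false
universe u
open CategoryTheory CategoryTheory.Limits AlgebraicGeometry
open Divisors

namespace Groth.Agent.S1658

/-- Let X be Noetherian with an ample invertible module and N any invertible O_X-module. For every
finite set E of points of X there are effective Cartier divisors D and D', whose supports miss E,
with N ⊗ I_D ≅ I_{D'} (that is, N ≅ O_X(D) ⊗ O_X(D')^{-1}), where I_D, I_{D'} are the ideal sheaves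
as O_X-modules. -/
theorem result (X : Scheme.{u}) [IsNoetherian X] (L : X.Modules) (hL : CohB1.IsAmple L)
    (N : X.Modules) (hN : PicF.IsInvertible N) (E : Set X) (hE : E.Finite) :
    ∃ D D' : X.IdealSheafData, BlowUp.IsEffCartierIdeal D ∧ BlowUp.IsEffCartierIdeal D' ∧
      Disjoint E (D.support : Set X) ∧ Disjoint E (D'.support : Set X) ∧
      Nonempty (CohB1.tensorMod N (ClSub.idealMod D) ≅ ClSub.idealMod D') := by
  obtain ⟨Z, hZ, hreg⟩ := Groth.Agent.SecDiv.exists_finite_regular X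
  obtain ⟨W, a, hW, hWa⟩ := Groth.Agent.RA.exists_gen_nhd_finite hL hN (hE.union hZ)
  obtain ⟨W', b, hW', hWb⟩ := Groth.Agent.RA.exists_gen_nhd_finite hL
    (PicLoc.isInvertible_structureModule X) (hE.union hZ)
  let n := max a b
  have hLn := Groth.Agent.M2.isInvertible_tensorPow hL.1 n
  have hP := Groth.Agent.M2.isInvertible_tensor hN hLn
  obtain ⟨s, hs⟩ := hWa n (le_max_left a b)
  obtain ⟨t, ht⟩ := hWb n (le_max_right a b)
  let t' := t ≫ (Groth.Agent.M2.tensorLUnit (CohB1.tensorPow L n)).hom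
  have ht' : (E ∪ Z) ⊆ (CohB1.genLocus _ t' : Set X) := fun z hz => by
    rw [Groth.Agent.Amp.genLocus_comp_iso]
    exact ht (hW' hz)
  have hs' : (E ∪ Z) ⊆ (CohB1.genLocus _ s : Set X) := fun z hz => hs (hW hz)
  obtain ⟨DP, hDP, ⟨eP⟩⟩ := Groth.Agent.M2.exists_inverse hP
  obtain ⟨DL, hDL, ⟨eL⟩⟩ := Groth.Agent.M2.exists_inverse hLn
  obtain ⟨D, hD, ⟨i⟩, hDs⟩ := Groth.Agent.SecDiv.exists_ideal_of_section hP hDP eP s
    (hreg _ s hP (fun z hz => hs' (Or.inr hz)))
  obtain ⟨D', hD', ⟨i'⟩, hDt⟩ := Groth.Agent.SecDiv.exists_ideal_of_section hLn hDL eL t'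
    (hreg _ t' hLn (fun z hz => ht' (Or.inr hz)))
  refine ⟨D, D', hD, hD', Set.disjoint_left.mpr fun z hz => hDs (hs' (Or.inl hz)),
    Set.disjoint_left.mpr fun z hz => hDt (ht' (Or.inl hz)), ⟨?_⟩⟩
  exact Groth.Agent.M2.tensorIso (Iso.refl N) i.symm ≪≫ Groth.Agent.M2.inverseUnique
    (M := CohB1.tensorPow L n) ((Groth.Agent.M2.tensorAssoc _ _ _).symm ≪≫
      Groth.Agent.M2.tensorIso (Groth.Agent.M2.tensorComm _ N) (Iso.refl DP) ≪≫ eP) eL ≪≫ i'

end Groth.Agent.S1658
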