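import Groth.Statements.S16583
import Groth.Agent.Lib.LfpSpread12.Basic

set_option autoImplicit false
universe u
open CategoryTheory AlgebraicGeometry
open EtCore

namespace Groth.Agent.S16583

/-- Let X be a scheme such that every local ring of X is a field and every residue field of X is
algebraically closed, and let f : Y → X be an étale morphism. Then f is Zariski-locally trivial: for
every point y of Y there exist an open V of X containing f(y) and a section s : V → Y of f over V
whose image contains y. (The published lemma is stated for a specific scheme X^c attached to a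
coherent scheme — the constructible topology of a suitable integral cover, which has these two
properties by construction; the row states the assertion for every scheme with these two properties,
which is all the printed proof uses. The lemma's further assertions about the étale and Zariski
topoi, torsors and gerbes on X^c are not included.) -/
theorem result
    (X Y : Scheme.{u}) (hX : ∀ x : X, IsField (X.presheaf.stalk x))
    (hX' : ∀ x : X, IsAlgClosed (X.residueField x))
    (f : Y ⟶ X) [Etale f] (y : Y) :
    ∃ (V : X.Opens) (s : (V : Scheme.{u}) ⟶ Y), f.base y ∈ V ∧ s ≫ f = V.ι ∧ y ∈ Set.range s.base := by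
  haveI := hX' (f y)
  haveI : IsIso (X.residue (f y)) := (ConcreteCategory.isIso_iff_bijective _).2
    ⟨(letI := (hX (f y)).toField; RingHom.injective _), Ideal.Quotient.mk_surjective⟩
  haveI : IsIso (f.residueFieldMap y) := (ConcreteCategory.isIso_iff_bijective _).2 <| by
    letI := (f.residueFieldMap y).hom.toAlgebra
    haveI : Algebra.IsSeparable (X.residueField (f y)) (Y.residueField y) :=
      inferInstance
    exact IsAlgClosed.algebraMap_bijective_of_isIntegral
  let φ : Spec (X.presheaf.stalk (f y)) ⟶ Y :=
    Spec.map (inv (f.residueFieldMap y) ≫ inv (X.residue (f y))) ≫ Y.fromSpecResidueField y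
  have hφ : φ ≫ f = X.fromSpecStalk (f y) ≫ 𝟙 X := by
    rw [Category.comp_id]
    simp only [φ, Category.assoc]
    rw [← Scheme.Hom.SpecMap_residueFieldMap_fromSpecResidueField, ← Spec.map_comp_assoc,
      Scheme.fromSpecResidueField, ← Spec.map_comp_assoc]
    simp
  obtain ⟨U, hxU, s, hs, hsf⟩ := Groth.Agent.LfpSpread12.exists_spread' (𝟙 X) f φ hφ
  refine ⟨U, s, hxU, hsf.trans (Category.comp_id _), ?_⟩
  have hy : φ (IsLocalRing.closedPoint _) = y := by
    simp only [φ, Scheme.Hom.comp_apply]
    exact Scheme.fromSpecResidueField_apply _ _
  rw [hs, Scheme.Hom.comp_apply] at hy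
  exact ⟨_, hy⟩

end Groth.Agent.S16583
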