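import Groth.Statements.S16597
import Groth.Agent.Lib.Brauer25.LGCorner

set_option autoImplicit false
universe u v
open LGRing

namespace Groth.Agent.S16597

/-- Let R be an LG-ring and M a finite locally free (finitely generated projective) R-module of constant
rank. Then M is free. In particular invertible R-modules are trivial: Pic(R) = 0. -/
theorem result {R : Type u} [CommRing R] (hR : LGRing.IsLGRing R)
    (M : Type v) [AddCommGroup M] [Module R M] [Module.Finite R M] [Module.Projective R M] (d : ℕ)
    (hd : ∀ p : PrimeSpectrum R, Module.rankAtStalk M p = d) : Module.Free R M := by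
  haveI : Module.Finite R (ULift.{u} M) := Module.Finite.equiv ULift.moduleEquiv.symm
  haveI : Module.Projective R (ULift.{u} M) := inferInstance
  haveI : Module.Finite R (ULift.{v} (Fin d → R)) := Module.Finite.equiv ULift.moduleEquiv.symm
  rcases subsingleton_or_nontrivial R with h0 | h0
  · haveI := Module.subsingleton R M
    infer_instance
  obtain ⟨e⟩ := Groth.Agent.Brauer25.LG.nonempty_linearEquiv (R := R) (A := R) hR (ULift.{v} (Fin d → R)) (ULift.{u} M)
    fun p => by
      rw [Module.rankAtStalk_eq_of_equiv (ULift.moduleEquiv : ULift.{u} M ≃ₗ[R] M), hd,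
        Module.rankAtStalk_eq_of_equiv (ULift.moduleEquiv : ULift.{v} (Fin d → R) ≃ₗ[R] _),
        Module.rankAtStalk_eq_finrank_of_free]
      simp
  exact Module.Free.of_equiv ((ULift.moduleEquiv.symm.trans e).trans ULift.moduleEquiv)
end Groth.Agent.S16597
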