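import Groth.Statements.S1660
import Groth.Agent.Lib.SecDiv18.Factorial
import Groth.Agent.Lib.WeakAss18.Push

set_option autoImplicit false
universe u
open CategoryTheory CategoryTheory.Limits AlgebraicGeometry
open Divisors

namespace Groth.Agent.S1660

set_option backward.isDefEq.respectTransparency false

/-- The key step: over a factorial ring an ideal whose localisation is principal at an associated prime. -/
theorem prime_principal {R : Type u} [CommRing R] [IsDomain R] [UniqueFactorizationMonoid R]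
    (J q : Ideal R) [q.IsPrime] (a g : R) (hq : ∀ w, w ∈ q ↔ w * a ∈ J) (hgJ : g ∈ J) (hg : g ≠ 0)
    (hJ : ∀ b ∈ J, ∃ w, w ∉ q ∧ w * b ∈ Ideal.span {g}) : ∃ p, Prime p ∧ q = Ideal.span {p} := by
  have hgq : g ∈ q := (hq g).mpr (J.mul_mem_right a hgJ)
  have hne : q ≠ ⊥ := fun h => hg (by simpa [h] using hgq)
  obtain ⟨p, hpq, hp⟩ := Ideal.IsPrime.exists_mem_prime_of_ne_bot inferInstance hne
  refine ⟨p, hp, le_antisymm (fun t ht => ?_) ((Ideal.span_singleton_le_iff_mem _).mpr hpq)⟩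
  rw [Ideal.mem_span_singleton]
  by_contra hpt
  have ha : a ≠ 0 := fun h0 => (inferInstance : q.IsPrime).ne_top ((Ideal.eq_top_iff_one _).mpr
    ((hq 1).mpr (by rw [h0, mul_zero]; exact J.zero_mem)))
  obtain ⟨w₁, hw₁, h₁⟩ := hJ _ ((hq p).mp hpq)
  obtain ⟨w₂, hw₂, h₂⟩ := hJ _ ((hq t).mp ht)
  obtain ⟨u, hu⟩ := Ideal.mem_span_singleton'.mp h₁
  obtain ⟨v, hv⟩ := Ideal.mem_span_singleton'.mp h₂
  have he : w₂ * t * u = w₁ * p * v := by
    refine mul_right_cancel₀ (mul_ne_zero hg ha) ?_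
    linear_combination (w₂ * t * a) * hu - (w₁ * p * a) * hv
  have hdvd : p ∣ w₂ * t * u := ⟨w₁ * v, by rw [he]; ring⟩
  rcases hp.dvd_or_dvd hdvd with h | ⟨u', rfl⟩
  · rcases hp.dvd_or_dvd h with h | h
    · exact hw₂ (Ideal.mem_of_dvd _ h hpq)
    · exact hpt h
  · refine hw₁ ((hq w₁).mpr ?_)
    have : w₁ * a = u' * g := mul_left_cancel₀ hp.ne_zero (by linear_combination -hu)
    rw [this]
    exact J.mul_mem_left _ hgJ

variable {X : Scheme.{u}}

/-- The stalk of an ideal sheaf does not depend on the affine open. -/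
theorem map_germ_eq (I : X.IdealSheafData) (V W : X.affineOpens) {z : X} (hV : z ∈ V.1) (hW : z ∈ W.1) :
    (I.ideal V).map (X.presheaf.germ V.1 z hV).hom = (I.ideal W).map (X.presheaf.germ W.1 z hW).hom := by
  obtain ⟨O, hO, hzO, hle⟩ := exists_isAffineOpen_mem_and_subset (U := V.1 ⊓ W.1) (x := z) ⟨hV, hW⟩
  have key : ∀ (V : X.affineOpens) (hV : z ∈ V.1), O ≤ V.1 →
      (I.ideal V).map (X.presheaf.germ V.1 z hV).hom = (I.ideal ⟨O, hO⟩).map (X.presheaf.germ O z hzO).hom := by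
    intro V hV h
    rw [← I.map_ideal (U := ⟨O, hO⟩) (V := V) h, Ideal.map_map]
    refine congrArg (Ideal.map · (I.ideal V)) (RingHom.ext fun a => ?_)
    exact (X.presheaf.germ_res_apply (homOfLE h) z hzO a).symm
  rw [key V hV (hle.trans inf_le_left), key W hW (hle.trans inf_le_right)]

variable [IsLocallyNoetherian X] (U : X.Opens) (D : (U : Scheme.{u}).IdealSheafData)

theorem comap_map_ι : (D.map U.ι).comap U.ι = D := by
  refine le_antisymm (Scheme.IdealSheafData.comap_map_le _ _) fun W a ha => ?_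
  have h : U.ι ⁻¹ᵁ (U.ι ''ᵁ W.1) = W.1 := U.ι.preimage_image_eq W.1
  have H : IsAffineOpen (U.ι ⁻¹ᵁ (U.ι ''ᵁ W.1)) := h.symm ▸ W.2
  rw [Scheme.IdealSheafData.ideal_comap_of_isOpenImmersion, Ideal.mem_comap,
    Scheme.IdealSheafData.ideal_map D U.ι _ H, Ideal.mem_comap]
  have e : U.ι.app (U.ι ''ᵁ W.1) ((U.ι.appIso W.1).inv a) =
      (U : Scheme.{u}).presheaf.map (homOfLE h.le).op a :=
    ConcreteCategory.congr_hom (U.ι.appIso_inv_app W.1) a
  erw [e]
  rw [← D.map_ideal (U := ⟨_, H⟩) (V := W) h.le]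
  exact Ideal.mem_map_of_mem _ ha

theorem eqn_of_mem (hD : BlowUp.IsEffCartierIdeal D) {x : X} (hx : x ∈ U) :
    ∃ V : X.affineOpens, x ∈ V.1 ∧ ∃ f : Γ(X, V.1), f ∈ nonZeroDivisors Γ(X, V.1) ∧
      (D.map U.ι).ideal V = Ideal.span {f} := by
  obtain ⟨W, hxW, f, hf, hWf⟩ := hD ⟨x, hx⟩
  let V : X.affineOpens := ⟨U.ι ''ᵁ W.1, W.2.image_of_isOpenImmersion U.ι⟩
  let e : Γ(U, W.1) ≃+* Γ(X, V.1) := (U.ι.appIso W.1).symm.commRingCatIsoToRingEquiv
  refine ⟨V, ⟨⟨x, hx⟩, hxW, rfl⟩, e f, MulEquivClass.map_nonZeroDivisors e ▸ ⟨f, hf, rfl⟩, ?_⟩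
  have h1 : D.ideal W = ((D.map U.ι).ideal V).comap e.toRingHom := by
    conv_lhs => rw [← comap_map_ι U D]
    exact Scheme.IdealSheafData.ideal_comap_of_isOpenImmersion _ _ _
  have h2 := congrArg (Ideal.map e.toRingHom) h1
  rw [Ideal.map_comap_of_surjective e.toRingHom e.surjective, hWf, Ideal.map_span, Set.image_singleton] at h2
  exact h2.symm

theorem eqn_of_not_mem (hD : BlowUp.IsEffCartierIdeal D) {x : X} (hxU : x ∉ U)
    (hdom : IsDomain (X.presheaf.stalk x)) (hufd : UniqueFactorizationMonoid (X.presheaf.stalk x)) :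
    ∃ V : X.affineOpens, x ∈ V.1 ∧ ∃ f : Γ(X, V.1), f ∈ nonZeroDivisors Γ(X, V.1) ∧
      (D.map U.ι).ideal V = Ideal.span {f} := by
  haveI := hdom
  haveI := hufd
  obtain ⟨V₀, hV, hx, -⟩ := exists_isAffineOpen_mem_and_subset (U := (⊤ : X.Opens)) (x := x) trivial
  let V : X.affineOpens := ⟨V₀, hV⟩
  let f : D.subscheme ⟶ X := D.subschemeι ≫ U.ι
  haveI : QuasiCompact f := inferInstance
  haveI : QuasiSeparated f := inferInstance
  let I := D.map U.ι
  let φ := (X.presheaf.germ V₀ x hx).hom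
  let J : Ideal (X.presheaf.stalk x) := (I.ideal V).map φ
  let := TopCat.Presheaf.algebra_section_stalk X.presheaf (⟨x, hx⟩ : V₀)
  have := hV.isLocalization_stalk ⟨x, hx⟩
  haveI : IsNoetherianRing Γ(X, V₀) := IsLocallyNoetherian.component_noetherian V
  haveI : IsNoetherianRing (X.presheaf.stalk x) := IsLocalization.isNoetherianRing (hV.primeIdealOf ⟨x, hx⟩).asIdeal.primeCompl _ inferInstance
  have hI : ∀ a : Γ(X, V₀), a ∈ I.ideal V ↔ f.app V₀ a = 0 := fun a => by
    rw [show I.ideal V = RingHom.ker (f.app V₀).hom from f.ker_apply V]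
    exact RingHom.mem_ker
  suffices hass : ∀ q : Ideal (X.presheaf.stalk x), IsAssociatedPrime q ((X.presheaf.stalk x) ⧸ J) →
      ∃ p, Prime p ∧ q = Ideal.span {p} by
    obtain ⟨g, hg, hJ⟩ := Groth.Agent.SecDiv.principal_of_ass J hass
    exact Groth.Agent.SecDiv.exists_eqn_of_stalk I V hx g (mem_nonZeroDivisors_of_ne_zero hg) hJ
  intro q hq
  obtain ⟨hqp, m, hm⟩ := isAssociatedPrime_iff.mp hq
  haveI := hqp
  obtain ⟨b, rfl⟩ := Ideal.Quotient.mk_surjective m
  obtain ⟨⟨a₀, c⟩, hc⟩ := IsLocalization.surj (hV.primeIdealOf ⟨x, hx⟩).asIdeal.primeCompl b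
  have hc : b * φ c = φ a₀ := hc
  have hcu : IsUnit (φ c) := IsLocalization.map_units _ c
  have hqa : ∀ w, w ∈ q ↔ w * φ a₀ ∈ J := fun w => by
    rw [hm, Submodule.mem_colon_singleton, Submodule.mem_bot,
      show w • Ideal.Quotient.mk J b = Ideal.Quotient.mk J (w * b) from rfl, Ideal.Quotient.eq_zero_iff_mem,
      ← hc, ← mul_assoc, Ideal.mul_unit_mem_iff_mem _ hcu]
  obtain ⟨z, hz, hzu⟩ := Groth.Agent.WA.exists_point hV (q.comap φ)
  let G := (Scheme.Modules.pushforward f).obj (Coh.structureModule D.subscheme)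
  haveI := Groth.Agent.M1.isQCoh_structureModule D.subscheme
  haveI : Coh.IsQCoh G := Groth.Agent.M1.isQCoh_push f (F := Coh.structureModule D.subscheme) inferInstance
  let t₀ : Γ(G, V₀) := f.app V₀ a₀
  have hsm : ∀ r : Γ(X, V₀), r • t₀ = 0 ↔ r * a₀ ∈ I.ideal V := fun r => by
    rw [hI, map_mul]
    exact Iff.rfl
  have hwa : Curv2.IsWeakAssPoint G z := by
    refine Groth.Agent.WA.isWeakAssPoint_of_section hV hz t₀ (fun h0 => ?_) fun r hr => ⟨1, ?_⟩
    · obtain ⟨r, hr, hr0⟩ := Groth.Agent.M1.exists_smul_eq_zero_of_germ_eq_zero G hV hz t₀ h0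
      refine (hzu r).mp hr ((hqa _).mpr ?_)
      rw [← map_mul]
      exact Ideal.mem_map_of_mem _ ((hsm r).mp hr0)
    · have h1 : φ (r * a₀) ∈ J := by
        rw [map_mul]
        exact (hqa _).mp (not_not.mp fun h => hr ((hzu r).mpr h))
      obtain ⟨s, hs, hsa⟩ := (IsLocalization.algebraMap_mem_map_algebraMap_iff
        (hV.primeIdealOf ⟨x, hx⟩).asIdeal.primeCompl (X.presheaf.stalk x) _ _).mp h1
      rw [pow_one]
      refine Groth.Agent.WA.germ_zero_of_smul hz s _ ((hzu s).mpr fun h =>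
        hqp.ne_top (Ideal.eq_top_of_isUnit_mem _ h (IsLocalization.map_units (X.presheaf.stalk x) ⟨s, hs⟩))) ?_
      rw [← mul_smul, hsm, mul_assoc]
      exact hsa
  obtain ⟨y, hy, -⟩ := Groth.Agent.WA.exists_weakAss_of_push f (F := Coh.structureModule D.subscheme) z hwa
  have hzU : z ∈ U := hy ▸ (D.subschemeι y).2
  obtain ⟨W, hzW, g₀, hg₀, hWg⟩ := eqn_of_mem U D hD hzU
  let := TopCat.Presheaf.algebra_section_stalk X.presheaf (⟨z, hz⟩ : V₀)
  have := hV.isLocalization_stalk ⟨z, hz⟩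
  let M := (hV.primeIdealOf ⟨z, hz⟩).asIdeal.primeCompl
  let ψ := (X.presheaf.germ V₀ z hz).hom
  let γ := X.presheaf.germ W.1 z hzW g₀
  have hJz : (I.ideal V).map ψ = Ideal.span {γ} := by
    rw [map_germ_eq I V W hz hzW, hWg, Ideal.map_span, Set.image_singleton]
  have hγ : γ ∈ nonZeroDivisors (X.presheaf.stalk z) := by
    let := TopCat.Presheaf.algebra_section_stalk X.presheaf (⟨z, hzW⟩ : W.1)
    have := W.2.isLocalization_stalk ⟨z, hzW⟩
    exact IsLocalization.map_nonZeroDivisors_le (W.2.primeIdealOf ⟨z, hzW⟩).asIdeal.primeCompl _ ⟨g₀, hg₀, rfl⟩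
  obtain ⟨⟨⟨e, he⟩, d⟩, hed⟩ := (IsLocalization.mem_map_algebraMap_iff M (X.presheaf.stalk z)).mp
    (hJz.ge (Ideal.subset_span rfl))
  have hed : γ * ψ d = ψ e := hed
  have hdu : IsUnit (ψ d) := IsLocalization.map_units _ d
  refine prime_principal J q (φ a₀) (φ e) hqa (Ideal.mem_map_of_mem _ he) (fun h0 => ?_) fun w hw => ?_
  · obtain ⟨⟨s, hs⟩, hse⟩ :=
      (IsLocalization.map_eq_zero_iff (hV.primeIdealOf ⟨x, hx⟩).asIdeal.primeCompl _ _).mp h0
    have h2 : ψ e = 0 := by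
      refine ((hzu s).mpr fun h => hqp.ne_top (Ideal.eq_top_of_isUnit_mem _ h
        (IsLocalization.map_units (X.presheaf.stalk x) ⟨s, hs⟩))).mul_right_eq_zero.mp ?_
      change ψ s * ψ e = 0
      rw [← map_mul, hse, map_zero]
    rw [← hed, hdu.mul_left_eq_zero] at h2
    exact nonZeroDivisors.ne_zero hγ h2
  · obtain ⟨⟨⟨i, hi⟩, c'⟩, hic⟩ := (IsLocalization.mem_map_algebraMap_iff
      (hV.primeIdealOf ⟨x, hx⟩).asIdeal.primeCompl (X.presheaf.stalk x)).mp hw
    have hic : w * φ c' = φ i := hic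
    have hψi : ψ i ∈ (Ideal.span {e}).map ψ := by
      rw [Ideal.map_span, Set.image_singleton, ← hed, Ideal.span_singleton_mul_right_unit hdu]
      exact hJz.le (Ideal.mem_map_of_mem _ hi)
    obtain ⟨s, hs, hsi⟩ := (IsLocalization.algebraMap_mem_map_algebraMap_iff M (X.presheaf.stalk z) _ _).mp hψi
    refine ⟨φ c' * φ s, fun h => (hqp.mem_or_mem h).elim
      (fun h' => hqp.ne_top (Ideal.eq_top_of_isUnit_mem _ h' (IsLocalization.map_units _ c')))
      ((hzu s).mp ((Groth.Agent.M1.isUnit_germ_iff hV hz s).mpr hs)), ?_⟩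
    have h2 := Ideal.mem_map_of_mem φ hsi
    rw [Ideal.map_span, Set.image_singleton, map_mul] at h2
    rw [show φ c' * φ s * w = φ s * φ i by rw [← hic]; ring]
    exact h2

/-- Let X be locally Noetherian, U open, and D an effective Cartier divisor on U. If the local ring of X
at every point outside U is a unique factorisation domain, then there is an effective Cartier
divisor D' on X whose restriction (inverse image ideal) to U is D. -/
theorem result (X : Scheme.{u}) [IsLocallyNoetherian X] (U : X.Opens)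
    (D : (U : Scheme.{u}).IdealSheafData) (hD : BlowUp.IsEffCartierIdeal D)
    (hufd : ∀ x : X, x ∉ U → IsDomain (X.presheaf.stalk x) ∧ UniqueFactorizationMonoid (X.presheaf.stalk x)) :
    ∃ D' : X.IdealSheafData, BlowUp.IsEffCartierIdeal D' ∧ D'.comap U.ι = D := by
  refine ⟨D.map U.ι, fun x => ?_, comap_map_ι U D⟩
  by_cases hx : x ∈ U
  · exact eqn_of_mem U D hD hx
  · exact eqn_of_not_mem U D hD hx (hufd x hx).1 (hufd x hx).2

end Groth.Agent.S1660
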