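import Groth.Statements.S16601
import Groth.Agent.Lib.LGPt28.Main

set_option autoImplicit false
open AlgebraicGeometry
universe u
open LGRing

namespace Groth.Agent.S16601

/-- Let R be an LG-ring whose residue fields at maximal ideals are all infinite (R satisfies the
primitive criterion), M a finite locally free R-module with vector bundle W(M) = Spec Sym(M^∨), and
U ⊆ W(M) an open quasi-compact subscheme which is fibrewise dense over the closed points of Spec R
(for every maximal ideal m, the trace of U on the closed fibre Spec (Sym(M^∨) ⧸ m Sym(M^∨)) is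
dense). Then U has an R-valued point. (The source asks U to be R-dense in W(M); only density of the
closed fibres is used, which is what is assumed here.) -/
theorem result {R : Type u} [CommRing R]
    (hR : LGRing.IsLGRing R) (hinf : ∀ (m : Ideal R) [m.IsMaximal], Infinite (R ⧸ m))
    (M : Type u) [AddCommGroup M] [Module R M] [Module.Finite R M] [Module.Projective R M]
    (U : (Spec (CommRingCat.of (SymmetricAlgebra R (Module.Dual R M)))).Opens)
    (hU : IsCompact (U : Set ↥(Spec (CommRingCat.of (SymmetricAlgebra R (Module.Dual R M))))))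
    (hdense : ∀ (m : Ideal R) [m.IsMaximal],
      Dense ((Spec.map (CommRingCat.ofHom (Ideal.Quotient.mk
        (Ideal.map (algebraMap R (SymmetricAlgebra R (Module.Dual R M))) m)))).base ⁻¹'
          (U : Set ↥(Spec (CommRingCat.of (SymmetricAlgebra R (Module.Dual R M))))))) :
    ∃ φ : Module.Dual R M →ₗ[R] R,
      Set.range (Spec.map (CommRingCat.ofHom (SymmetricAlgebra.lift φ).toRingHom)).base ⊆
        (U : Set ↥(Spec (CommRingCat.of (SymmetricAlgebra R (Module.Dual R M))))) := by
  obtain ⟨r, f, hf⟩ := LGPt28.exists_eq_zeroLocus_compl U hU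
  obtain ⟨φ, hφ⟩ := LGPt28.exists_point_dense M hR hinf f fun m _ => by
    set J := Ideal.map (algebraMap R (SymmetricAlgebra R (Module.Dual R M))) m with hJ
    have hne : J ≠ ⊤ := fun e => by
      have h := congrArg (Ideal.map (SymmetricAlgebra.lift (0 : Module.Dual R M →ₗ[R] R)).toRingHom) e
      rw [hJ, Ideal.map_map, Ideal.map_top, show (SymmetricAlgebra.lift (0 : Module.Dual R M →ₗ[R] R)).toRingHom.comp
        (algebraMap R _) = RingHom.id R from AlgHom.comp_algebraMap _, Ideal.map_id] at h
      exact Ideal.IsMaximal.ne_top ‹_› h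
    haveI : Nontrivial (SymmetricAlgebra R (Module.Dual R M) ⧸ J) := Ideal.Quotient.nontrivial_iff.mpr hne
    obtain ⟨P, hP⟩ := Ideal.exists_maximal (SymmetricAlgebra R (Module.Dual R M) ⧸ J)
    haveI : Nonempty ↥(Spec (CommRingCat.of (SymmetricAlgebra R (Module.Dual R M) ⧸ J))) :=
      ⟨(⟨P, hP.isPrime⟩ : PrimeSpectrum (SymmetricAlgebra R (Module.Dual R M) ⧸ J))⟩
    obtain ⟨q, hq⟩ := (hdense m).nonempty
    obtain ⟨i, hi⟩ := (hf _).mp hq
    refine ⟨i, fun hmem => hi ?_⟩
    change Ideal.Quotient.mk J (f i) ∈ (q : PrimeSpectrum (SymmetricAlgebra R (Module.Dual R M) ⧸ J)).asIdeal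
    rw [Ideal.Quotient.eq_zero_iff_mem.mpr hmem]
    exact zero_mem _
  exact ⟨φ, (LGPt28.range_subset_iff _ U f hf).mpr hφ⟩

end Groth.Agent.S16601
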