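import Groth.Statements.S16607
import Groth.Agent.Lib.Brauer25.LGCorner

set_option autoImplicit false
universe u v
open Brauer

namespace Groth.Agent.S16607

/-- Let R be an LG-ring, A and B Azumaya R-algebras and n ≥ 1. If Mₙ(A) ≅ Mₙ(B) as R-algebras then A ≅ B
as R-algebras (cancellation of Azumaya algebras). -/
theorem result {R : Type u} [CommRing R]
    (hR : LGRing.IsLGRing R) (A B : Type v) [Ring A] [Algebra R A] [IsAzumaya R A] [Ring B] [Algebra R B]
    [IsAzumaya R B] (n : ℕ) (hn : 0 < n)
    (e : Matrix (Fin n) (Fin n) A ≃ₐ[R] Matrix (Fin n) (Fin n) B) : Nonempty (A ≃ₐ[R] B) := by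
  rcases subsingleton_or_nontrivial R with hR0 | hR0
  · haveI := Module.subsingleton R A
    haveI := Module.subsingleton R B
    exact ⟨{ toFun := fun _ => 0
             invFun := fun _ => 0
             left_inv := fun _ => Subsingleton.elim _ _
             right_inv := fun _ => Subsingleton.elim _ _
             map_mul' := fun _ _ => Subsingleton.elim _ _
             map_add' := fun _ _ => Subsingleton.elim _ _
             commutes' := fun _ => Subsingleton.elim _ _ }⟩
  haveI : FaithfulSMul R (Fin n → R) := ⟨fun {r s} h => by simpa using congrFun (h 1) ⟨0, hn⟩⟩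
  let T := (Matrix.toLinAlgEquiv' : Matrix (Fin n) (Fin n) R ≃ₐ[R] _)
  let E : TensorProduct R A (Module.End R (Fin n → R)) ≃ₐ[R] TensorProduct R B (Module.End R (Fin n → R)) :=
    (Algebra.TensorProduct.congr AlgEquiv.refl T.symm).trans <|
      (matrixEquivTensor (Fin n) R A).symm.trans <|
        e.trans <| (matrixEquivTensor (Fin n) R B).trans (Algebra.TensorProduct.congr AlgEquiv.refl T)
  refine Groth.Agent.Brauer25.LG.nonempty_algEquiv_of_tensor_end hR A B (fun p => ?_) (Fin n → R) (Fin n → R) E
  haveI : Module.Finite R (Matrix (Fin n) (Fin n) R) := inferInstance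
  have h := congrFun (Module.rankAtStalk_eq_of_equiv E.toLinearEquiv) p
  rw [Module.rankAtStalk_tensorProduct, Module.rankAtStalk_tensorProduct, Pi.mul_apply, Pi.mul_apply,
    Groth.Agent.Brauer25.LG.rankAtStalk_end] at h
  refine Nat.eq_of_mul_eq_mul_right ?_ h
  rw [Module.rankAtStalk_eq_finrank_of_free]
  simp
  positivity
end Groth.Agent.S16607
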