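import Groth.Statements.S16608
import Groth.Agent.Lib.Brauer25.LGCorner

set_option autoImplicit false
open scoped TensorProduct
universe u v
open Brauer

namespace Groth.Agent.S16608

/-- Let R be an LG-ring and A, B, C Azumaya R-algebras. If A ⊗_R C ≅ B ⊗_R C as R-algebras then A ≅ B as
R-algebras. -/
theorem result {R : Type u} [CommRing R]
    (hR : LGRing.IsLGRing R) (A B C : Type v) [Ring A] [Algebra R A] [IsAzumaya R A] [Ring B] [Algebra R B]
    [IsAzumaya R B] [Ring C] [Algebra R C] [IsAzumaya R C]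
    (e : A ⊗[R] C ≃ₐ[R] B ⊗[R] C) : Nonempty (A ≃ₐ[R] B) := by
  let m := AlgEquiv.ofBijective (AlgHom.mulLeftRight R C) (IsAzumaya.bij (R := R) (A := C))
  let E : A ⊗[R] Module.End R C ≃ₐ[R] B ⊗[R] Module.End R C :=
    (Algebra.TensorProduct.congr AlgEquiv.refl m.symm).trans <|
      (Algebra.TensorProduct.assoc R R R A C Cᵐᵒᵖ).symm.trans <|
        (Algebra.TensorProduct.congr e AlgEquiv.refl).trans <|
          (Algebra.TensorProduct.assoc R R R B C Cᵐᵒᵖ).trans (Algebra.TensorProduct.congr AlgEquiv.refl m)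
  refine Groth.Agent.Brauer25.LG.nonempty_algEquiv_of_tensor_end hR A B (fun p => ?_) C C E
  have h := congrFun (Module.rankAtStalk_eq_of_equiv e.toLinearEquiv) p
  rw [Module.rankAtStalk_tensorProduct, Module.rankAtStalk_tensorProduct, Pi.mul_apply, Pi.mul_apply] at h
  refine Nat.eq_of_mul_eq_mul_right ?_ h
  rw [Module.rankAtStalk_pos_iff_mem_support, Module.mem_support_iff_of_finite]
  intro r hr
  have : r = 0 := by
    refine eq_of_smul_eq_smul (α := C) fun y => ?_
    rw [zero_smul]
    exact Module.mem_annihilator.1 hr y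
  exact this ▸ zero_mem _
end Groth.Agent.S16608
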