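import Groth.Statements.S16619
import Groth.Agent.Lib.Brauer25.AzCorner

set_option autoImplicit false
set_option synthInstance.maxHeartbeats 400000
set_option synthInstance.maxSize 1024
set_option maxHeartbeats 1000000
open scoped TensorProduct
universe u
open Brauer

namespace Groth.Agent.S16619

open Brauer25.AzCorner

variable {R : Type u} [CommRing R] [ConnectedSpace (PrimeSpectrum R)]

lemma pos_rank (M : Type u) [AddCommGroup M] [Module R M] [Module.Finite R M] [Module.Projective R M]
    [Nontrivial M] (p : PrimeSpectrum R) : 0 < Module.rankAtStalk (R := R) M p := by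
  haveI := Module.finitePresentation_of_projective R M
  by_contra h
  refine not_subsingleton M ((Module.rankAtStalk_eq_zero_iff_subsingleton (R := R)).1 (funext fun q => ?_))
  rw [(Module.isLocallyConstant_rankAtStalk (R := R) (M := M)).apply_eq_of_preconnectedSpace q p]
  show _ = 0
  omega

lemma nontrivial_tensor (M N : Type u) [AddCommGroup M] [Module R M] [Module.Finite R M]
    [Module.Projective R M] [Nontrivial M] [AddCommGroup N] [Module R N] [Module.Finite R N]
    [Module.Projective R N] [Nontrivial N] : Nontrivial (M ⊗[R] N) := by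
  obtain ⟨p⟩ := (inferInstance : Nonempty (PrimeSpectrum R))
  by_contra h
  rw [not_nontrivial_iff_subsingleton] at h
  have h1 : Module.rankAtStalk (R := R) (M ⊗[R] N) p = 0 := by
    rw [Module.rankAtStalk_eq_zero_of_subsingleton]; rfl
  rw [Module.rankAtStalk_tensorProduct, Pi.mul_apply] at h1
  exact (Nat.mul_pos (pos_rank M p) (pos_rank N p)).ne' h1

/-- Composition of two elementary Brauer equivalences. -/
lemma combine (A B C : Type u) [Ring A] [Algebra R A] [Ring B] [Algebra R B] [Ring C] [Algebra R C]
    (M P' Q' : Type u) [AddCommGroup M] [Module R M] [Module.Finite R M] [Module.Projective R M]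
    [AddCommGroup P'] [Module R P'] [Module.Finite R P'] [Module.Projective R P']
    [AddCommGroup Q'] [Module R Q'] [Module.Finite R Q'] [Module.Projective R Q']
    [Module.Finite R B] [Module.Projective R B]
    (σ : A ⊗[R] Bᵐᵒᵖ ≃ₐ[R] Module.End R M) (τ : B ⊗[R] Bᵐᵒᵖ ≃ₐ[R] Module.End R B)
    (F : B ⊗[R] Module.End R P' ≃ₐ[R] C ⊗[R] Module.End R Q') :
    Nonempty (A ⊗[R] Module.End R (B ⊗[R] P') ≃ₐ[R] C ⊗[R] Module.End R (Q' ⊗[R] M)) :=
  let step : A ⊗[R] Module.End R B ≃ₐ[R] B ⊗[R] Module.End R M :=
    (Algebra.TensorProduct.congr AlgEquiv.refl τ.symm).trans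
      ((Algebra.TensorProduct.assoc R R R A B Bᵐᵒᵖ).symm.trans
        ((Algebra.TensorProduct.congr (Algebra.TensorProduct.comm R A B) AlgEquiv.refl).trans
          ((Algebra.TensorProduct.assoc R R R B A Bᵐᵒᵖ).trans
            (Algebra.TensorProduct.congr AlgEquiv.refl σ))))
  let swap : (B ⊗[R] Module.End R M) ⊗[R] Module.End R P' ≃ₐ[R]
      (B ⊗[R] Module.End R P') ⊗[R] Module.End R M :=
    (Algebra.TensorProduct.assoc R R R B (Module.End R M) (Module.End R P')).trans
      ((Algebra.TensorProduct.congr AlgEquiv.refl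
        (Algebra.TensorProduct.comm R (Module.End R M) (Module.End R P'))).trans
        (Algebra.TensorProduct.assoc R R R B (Module.End R P') (Module.End R M)).symm)
  ⟨(Algebra.TensorProduct.congr AlgEquiv.refl (endTensorEquiv B P').symm).trans
    ((Algebra.TensorProduct.assoc R R R A (Module.End R B) (Module.End R P')).symm.trans
      ((Algebra.TensorProduct.congr step AlgEquiv.refl).trans
        (swap.trans ((Algebra.TensorProduct.congr F AlgEquiv.refl).trans
          ((Algebra.TensorProduct.assoc R R R C (Module.End R Q') (Module.End R M)).trans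
            (Algebra.TensorProduct.congr AlgEquiv.refl (endTensorEquiv Q' M)))))))⟩

lemma main (n : ℕ) : ∀ (A : Type u) [Ring A] [Algebra R A] [IsAzumaya R A],
    Module.rankAtStalk (R := R) A (Classical.arbitrary (PrimeSpectrum R)) ≤ n →
    ∃ (B : Type u) (_ : Ring B) (_ : Algebra R B) (_ : IsAzumaya R B) (P Q : Type u) (_ : AddCommGroup P)
      (_ : Module R P) (_ : AddCommGroup Q) (_ : Module R Q),
      (∀ b : B, IsIdempotentElem b → b = 0 ∨ b = 1) ∧ Module.Finite R P ∧ Module.Projective R P ∧
      Nontrivial P ∧ Module.Finite R Q ∧ Module.Projective R Q ∧ Nontrivial Q ∧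
      Nonempty (A ⊗[R] Module.End R P ≃ₐ[R] B ⊗[R] Module.End R Q) := by
  induction n using Nat.strong_induction_on with
  | _ n ih =>
    intro A _ _ _ hn
    classical
    haveI : Nontrivial R := PrimeSpectrum.nonempty_iff_nontrivial.1 inferInstance
    by_cases hid : ∀ b : A, IsIdempotentElem b → b = 0 ∨ b = 1
    · exact ⟨A, ‹_›, ‹_›, ‹_›, R, R, inferInstance, inferInstance, inferInstance, inferInstance, hid,
        inferInstance, inferInstance, inferInstance, inferInstance, inferInstance, inferInstance,
        ⟨AlgEquiv.refl⟩⟩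
    push Not at hid
    obtain ⟨e, he, he0, he1⟩ := hid
    set p₀ := Classical.arbitrary (PrimeSpectrum R)
    haveI := isAzumaya_cor (R := R) he he0
    -- the rank drops
    have hlt : Module.rankAtStalk (R := R) (Cor he) p₀ < Module.rankAtStalk (R := R) A p₀ := by
      let f : A →ₗ[R] Cor he := pr he
      let g : Cor he →ₗ[R] A := incl he
      have hfg : f ∘ₗ g = LinearMap.id :=
        LinearMap.ext fun x => Subtype.ext (by simp [f, g, cor_left, cor_right])
      let K : Submodule R A := LinearMap.ker f
      let E : A ≃ₗ[R] Cor he × K :=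
        LinearEquiv.ofLinearMap
          (LinearMap.prod f ((LinearMap.id - g ∘ₗ f).codRestrict K fun z => by
            have := LinearMap.congr_fun hfg (f z)
            simp only [LinearMap.coe_comp, Function.comp_apply, LinearMap.id_apply] at this
            simp [K, LinearMap.sub_apply, map_sub, this]))
          (LinearMap.coprod g K.subtype)
          (LinearMap.ext fun ⟨x, k⟩ => by
            have h1 := LinearMap.congr_fun hfg x
            simp only [LinearMap.coe_comp, Function.comp_apply, LinearMap.id_apply] at h1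
            have h2 : f (k : A) = 0 := k.2
            refine Prod.ext ?_ (Subtype.ext ?_) <;> simp [h1, h2])
          (LinearMap.ext fun z => by simp)
      haveI : Module.Finite R K := Module.Finite.of_surjective ((LinearMap.snd R (Cor he) K) ∘ₗ E.toLinearMap)
        (fun k => ⟨E.symm (0, k), by simp⟩)
      haveI : Module.Projective R K := Module.Projective.of_split
        (E.symm.toLinearMap ∘ₗ LinearMap.inr R (Cor he) K) ((LinearMap.snd R (Cor he) K) ∘ₗ E.toLinearMap)
        (LinearMap.ext fun x => by simp)
      haveI : Nontrivial K := ⟨⟨⟨1 - e, by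
        show f (1 - e) = 0
        exact Subtype.ext (by
          show e * (1 - e) * e = 0
          rw [mul_sub, mul_one, he.eq, sub_self, zero_mul])⟩, 0,
        fun h => he1 (sub_eq_zero.1 (congrArg Subtype.val h)).symm⟩⟩
      rw [Module.rankAtStalk_eq_of_equiv E, Module.rankAtStalk_prod, Pi.add_apply]
      have := pos_rank (R := R) K p₀
      omega
    obtain ⟨C, _, _, hC, P', Q', _, _, _, _, hidC, _, _, _, _, _, _, ⟨F⟩⟩ :=
      ih _ (hlt.trans_le hn) (Cor he) le_rfl
    -- `A ⊗ B^op = End M`
    have h1 : IsIdempotentElem (1 : A) := IsIdempotentElem.one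
    let M := Sand R (1 : A) e
    haveI : Module.Finite R M := sand_finite h1 he
    haveI : Module.Projective R M := sand_projective h1 he
    haveI : Nontrivial M := ⟨⟨⟨e, (mem_sand_iff h1 he).2 ⟨one_mul e, he.eq⟩⟩, 0,
      fun h => he0 (congrArg Subtype.val h)⟩⟩
    haveI : Nontrivial (Cor he) := ⟨⟨1, 0, fun h => he0 (congrArg Subtype.val h)⟩⟩
    let σ : A ⊗[R] (Cor he)ᵐᵒᵖ ≃ₐ[R] Module.End R M :=
      (Algebra.TensorProduct.congr (corOne (R := R)) AlgEquiv.refl).trans
        (AlgEquiv.ofBijective (psi h1 he) (psi_bijective h1 he))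
    let τ : (Cor he) ⊗[R] (Cor he)ᵐᵒᵖ ≃ₐ[R] Module.End R (Cor he) :=
      AlgEquiv.ofBijective (AlgHom.mulLeftRight R (Cor he)) IsAzumaya.bij
    obtain ⟨total⟩ := combine A (Cor he) C M P' Q' σ τ F
    exact ⟨C, _, _, hC, (Cor he) ⊗[R] P', Q' ⊗[R] M, inferInstance, inferInstance, inferInstance,
      inferInstance, hidC, inferInstance, inferInstance, nontrivial_tensor (Cor he) P', inferInstance,
      inferInstance, nontrivial_tensor Q' M, ⟨total⟩⟩

/-- Let R be a connected commutative ring. Then every class of the Brauer group of R is represented by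
an Azumaya algebra B with idemp(B) = {0, 1}: for every Azumaya R-algebra A there are such a B and
faithfully projective R-modules P, Q with A ⊗_R End_R(P) ≅ B ⊗_R End_R(Q) as R-algebras. -/
theorem result {R : Type u} [CommRing R]
    [ConnectedSpace (PrimeSpectrum R)] (A : Type u) [Ring A] [Algebra R A] [IsAzumaya R A] :
    ∃ (B : Type u) (_ : Ring B) (_ : Algebra R B) (_ : IsAzumaya R B) (P Q : Type u) (_ : AddCommGroup P)
      (_ : Module R P) (_ : AddCommGroup Q) (_ : Module R Q),
      (∀ b : B, IsIdempotentElem b → b = 0 ∨ b = 1) ∧ Module.Finite R P ∧ Module.Projective R P ∧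
      FaithfulSMul R P ∧ Module.Finite R Q ∧ Module.Projective R Q ∧ FaithfulSMul R Q ∧
      Nonempty (A ⊗[R] Module.End R P ≃ₐ[R] B ⊗[R] Module.End R Q) := by
  obtain ⟨B, _, _, hB, P, Q, _, _, _, _, h1, h2, h3, h4, h5, h6, h7, h8⟩ :=
    main (R := R) _ A le_rfl
  exact ⟨B, _, _, hB, P, Q, _, _, _, _, h1, h2, h3, Brauer25.AzCorner.faithful_of_nontrivial P, h5, h6,
    Brauer25.AzCorner.faithful_of_nontrivial Q, h8⟩

end Groth.Agent.S16619
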