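import Groth.Statements.S16621
import Groth.Agent.Lib.CocharExt20.Basic
-- import your own Groth.Agent.* helpers here

set_option autoImplicit false
open CategoryTheory MonoidalCategory CartesianMonoidalCategory MonObj GrpObj AlgebraicGeometry
universe u
open SGA3x

namespace Groth.Agent.S16621

set_option linter.style.haveILetI false
set_option backward.isDefEq.respectTransparency false
set_option backward.isDefEq.respectTransparency.types false
set_option maxSynthPendingDepth 3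
open CategoryTheory.Limits Groth.Agent.MTRigid29 Groth.Agent.DiagGL

/-- Let S be a connected, normal, locally Noetherian scheme, T an S-torus and T₀ ⟶ T its unique maximal
split subtorus (a split subtorus through which every split subtorus of T factors). Then T₀ is also
the unique maximal locally split subtorus of T: every subtorus T₁ ⟶ T which is split Zariski-locally
on S factors through T₀. (Without normality this fails.) -/
theorem result {S : Scheme.{u}} [ConnectedSpace ↥S]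
    [IsLocallyNoetherian S] (hnorm : ∀ x : ↥S, IsDomain (S.presheaf.stalk x) ∧ IsIntegrallyClosed (S.presheaf.stalk x))
    {T T₀ T₁ : Over S} [GrpObj T] [GrpObj T₀] [GrpObj T₁] (hT : Red.IsTorus T) (j₀ : T₀ ⟶ T) [IsMonHom j₀] [Mono j₀]
    (r₀ : ℕ) (hT₀ : Red.IsSplitTorusWith (Fin r₀ → ℤ) T₀)
    (hmax : ∀ (T' : Over S) [GrpObj T'] (j' : T' ⟶ T) [IsMonHom j'] [Mono j'] (r' : ℕ),
      Red.IsSplitTorusWith (Fin r' → ℤ) T' → ∃ g : T' ⟶ T₀, g ≫ j₀ = j')
    (j₁ : T₁ ⟶ T) [IsMonHom j₁] [Mono j₁]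
    (hT₁ : ∀ s : ↥S, ∃ U : S.Opens, s ∈ U ∧ ∃ r : ℕ, Red.IsSplitTorusWith (Fin r → ℤ) (Red.bc U.ι T₁)) :
    ∃ g : T₁ ⟶ T₀, g ≫ j₀ = j₁ := by
  choose U hsU r hr using hT₁
  have hloc : ∀ s, ∃ g : Red.bc (U s).ι T₁ ⟶ Red.bc (U s).ι T₀,
      g ≫ (Over.pullback (U s).ι).map j₀ = (Over.pullback (U s).ι).map j₁ := fun s => by
    haveI := isMonHom_map j₁ (U s).ι
    exact CocharExt20.exists_factor_open hnorm hT j₀ hmax (U s) ⟨⟨s, hsU s⟩⟩ _ _ (r s) (hr s)
  choose g hg using hloc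
  have hcover : TopologicalSpace.IsOpenCover U :=
    eq_top_iff.2 fun s _ => TopologicalSpace.Opens.mem_iSup.2 ⟨s, hsU s⟩
  let 𝒲 : T₁.left.OpenCover := (S.openCoverOfIsOpenCover U hcover).pullback₁ T₁.hom
  let h : ∀ s, 𝒲.X s ⟶ T₀.left := fun s => (g s).left ≫ pullback.fst T₀.hom (U s).ι
  have hj : ∀ s, h s ≫ j₀.left = 𝒲.f s ≫ j₁.left := fun s => by
    have e0 : ((Over.pullback (U s).ι).map j₀).left ≫ pullback.fst T.hom (U s).ι =
        pullback.fst T₀.hom (U s).ι ≫ j₀.left := pullback.lift_fst _ _ _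
    have e1 : ((Over.pullback (U s).ι).map j₁).left ≫ pullback.fst T.hom (U s).ι =
        pullback.fst T₁.hom (U s).ι ≫ j₁.left := pullback.lift_fst _ _ _
    show ((g s).left ≫ pullback.fst T₀.hom (U s).ι) ≫ j₀.left = pullback.fst T₁.hom (U s).ι ≫ j₁.left
    rw [Category.assoc, ← e0, ← e1, ← Category.assoc, ← Over.comp_left, hg]
  let G : T₁.left ⟶ T₀.left := 𝒲.glueMorphisms h fun x y => by
    rw [← cancel_mono j₀.left]
    calc (pullback.fst (𝒲.f x) (𝒲.f y) ≫ h x) ≫ j₀.left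
        = pullback.fst (𝒲.f x) (𝒲.f y) ≫ 𝒲.f x ≫ j₁.left :=
          (Category.assoc _ _ _).trans (congrArg (pullback.fst (𝒲.f x) (𝒲.f y) ≫ ·) (hj x))
      _ = pullback.snd (𝒲.f x) (𝒲.f y) ≫ 𝒲.f y ≫ j₁.left := pullback.condition_assoc _
      _ = (pullback.snd (𝒲.f x) (𝒲.f y) ≫ h y) ≫ j₀.left :=
          ((Category.assoc _ _ _).trans (congrArg (pullback.snd (𝒲.f x) (𝒲.f y) ≫ ·) (hj y))).symm
  have hG : G ≫ j₀.left = j₁.left := 𝒲.hom_ext _ _ fun s => by
    rw [← Category.assoc, Scheme.Cover.ι_glueMorphisms, hj]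
  exact ⟨Over.homMk G (by rw [← Over.w j₀, ← Category.assoc, hG, Over.w j₁]), Over.OverMorphism.ext hG⟩


end Groth.Agent.S16621
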