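import Groth.Statements.S16624
import Groth.Agent.Lib.Quot18.Present
-- import your own Groth.Agent.* helpers here

set_option autoImplicit false
universe u
open FGA

namespace Groth.Agent.S16624

open AlgebraicGeometry CategoryTheory in
/-- Let S be a Noetherian scheme, n and r natural numbers, l an integer, and E the module O^r ⊗ O(-l) on
projective n-space P^n_S over S. The Quot functor of E over S — sending a locally Noetherian
S-scheme T to the set of submodules K of E_T (the pullback of E to P^n_S ×_S T) whose quotient E_T/K
is coherent and flat over T, with pullback of submodules as transition maps — is represented by an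
S-scheme Q with a universal submodule, and Q is a disjoint union of S-schemes each admitting a
closed immersion over S into some projective space P^m_S. (The source states this for each fixed
Hilbert polynomial; the indexing of the pieces by Hilbert polynomials is not recorded here.) -/
theorem result (S : Scheme.{u}) [IsNoetherian S]
    (n r : ℕ) (l : ℤ) :
    ∃ (Q : Over S) (K : FGA.QuotSet (CohB1.ProjSpaceOver.toBase n S)
        (CohB1.tensorMod (FlatMod.freeMod (CohB1.ProjSpaceOver n S) r) (Twist.twistOver n S (-l))) Q),
      FGA.QuotRepresentedBy (CohB1.ProjSpaceOver.toBase n S)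
        (CohB1.tensorMod (FlatMod.freeMod (CohB1.ProjSpaceOver n S) r) (Twist.twistOver n S (-l))) Q K ∧
      ∃ (ι : Type u) (P : ι → Scheme.{u}) (e : (∐ P) ≅ Q.left) (m : ι → ℕ)
        (c : ∀ a, P a ⟶ CohB1.ProjSpaceOver (m a) S),
        ∀ a, IsClosedImmersion (c a) ∧
          c a ≫ CohB1.ProjSpaceOver.toBase (m a) S = Limits.Sigma.ι P a ≫ e.hom ≫ Q.hom := by
  let D := _root_.Twist.twistOver n S (-l)
  let E := CohB1.tensorMod (FlatMod.freeMod (CohB1.ProjSpaceOver n S) r) D
  haveI : IsLocallyNoetherian (CohB1.ProjSpaceOver n S) :=
    LocallyOfFiniteType.isLocallyNoetherian (CohB1.ProjSpaceOver.toBase n S)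
  have hE : Coh.IsCoh E := (M1.isCoh_iff_isFP _).2 (CMReg18.isFP_tensor_inv
    (M1.isFP_of_isFinLocFree (M2.isFinLocFree_of_ofRank (M2.isFinLocFreeOfRank_freeMod _ r)))
    (Twist.isInvertible_twistOver n S (-l)))
  let e : (∐ fun _ : Fin r => (Scheme.Modules.pullback (𝟙 (CohB1.ProjSpaceOver n S))).obj D) ≅ E :=
    Limits.Sigma.mapIso (fun _ => (Scheme.Modules.pullbackId _).app D) ≪≫ (M2.freeModTensorIso _ r D).symm
  have h := Quot18.exists_quot_scheme_of_presentation (𝟙 (CohB1.ProjSpaceOver n S)) hE e.hom
  rw [Category.id_comp] at h
  exact h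

end Groth.Agent.S16624
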