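import Groth.Statements.S16625
import Groth.Agent.Lib.CMReg18.FibGG
import Groth.Agent.Lib.CMReg18.Proj
import Groth.Agent.Lib.RelAmple18.Basic
import Groth.Agent.Lib.Ample18.Ample
import Groth.Agent.Lib.FlatTwist13.Main
import Groth.Agent.Lib.LimH13.ArrowModel
import Groth.Agent.S14444
import Groth.Agent.S15985
import Groth.Agent.S11319
import Groth.Agent.S10869

set_option autoImplicit false
universe u
open FGA

open Groth.Agent Groth.Agent.CMReg18
namespace Groth.Agent.S16625

open AlgebraicGeometry CategoryTheory CategoryTheory.Limits in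
/-- Let S be a Noetherian scheme with projective n-space π : P^n_S → S, Q a coherent module on P^n_S
which is flat over S, and m > 0 an integer such that for every point s of S the restriction Q_s of Q
to the fibre P^n_S ×_S Spec κ(s) is m-regular: H^i of the restriction of Q(m - i) = Q ⊗ O(m - i) to
that fibre vanishes for every i ≥ 1. Then for every integer d ≥ m: (1) π_*(Q(d)) is a finite locally
free O_S-module; (2) R^i π_*(Q(d)) = 0 for every i ≥ 1 (higher direct images of the underlying
abelian sheaf); (3) the counit π^*π_*(Q(d)) → Q(d) is an epimorphism. (The source's (1) also says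
that the formation of π_*(Q(d)) commutes with arbitrary base change T → S; that clause is not
recorded here.) -/
theorem result (S : Scheme.{u}) [IsNoetherian S] (n : ℕ)
    (Q : (CohB1.ProjSpaceOver n S).Modules) (hQ : Coh.IsCoh Q)
    (hflat : FlatMod.IsFlatOver (CohB1.ProjSpaceOver.toBase n S) Q) (m : ℤ) (hm : 0 < m)
    (hreg : ∀ (s : S) (i : ℕ), 1 ≤ i →
      Subsingleton (Coh.HH (pullback (CohB1.ProjSpaceOver.toBase n S) (S.fromSpecResidueField s))
        ((Scheme.Modules.pullback
            (pullback.fst (CohB1.ProjSpaceOver.toBase n S) (S.fromSpecResidueField s))).obj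
          (CohB1.tensorMod Q (Twist.twistOver n S (m - i)))) i))
    (d : ℤ) (hd : m ≤ d) :
    FlatMod.IsFinLocFree ((Coh.push (CohB1.ProjSpaceOver.toBase n S)).obj
        (CohB1.tensorMod Q (Twist.twistOver n S d))) ∧
      (∀ i : ℕ, 1 ≤ i → IsZero ((Coh.RpushAb (CohB1.ProjSpaceOver.toBase n S) i).obj
        (Coh.toAb (CohB1.tensorMod Q (Twist.twistOver n S d))))) ∧
      Epi ((Scheme.Modules.pullbackPushforwardAdjunction (CohB1.ProjSpaceOver.toBase n S)).counit.app
        (CohB1.tensorMod Q (Twist.twistOver n S d))) := by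
  let f := CohB1.ProjSpaceOver.toBase n S
  haveI : IsProper f := inferInstanceAs (IsProper (CohB1.ProjSpaceOver.toBase n S))
  haveI : IsLocallyNoetherian (CohB1.ProjSpaceOver n S) := LocallyOfFiniteType.isLocallyNoetherian f
  haveI : LocallyOfFinitePresentation f := LimH13.locallyOfFinitePresentation_of_noetherian f
  let D₀ : TwistData (CohB1.ProjSpaceOver n S) := (projData (ULift.{u} ℤ) n).pullback
    (pullback.fst (CohB1.ProjSpace.toSpec n (ULift.{u} ℤ)) (specULiftZIsTerminal.from S))
  let G := CohB1.tensorMod Q (Twist.twistOver n S d)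
  have hG : Coh.IsCoh G := CurveCoh17.isCoh_tensor hQ (Snapper.isCoh_of_isInvertible (D₀.inv d))
  haveI := hQ.1
  have hGfl : FlatMod.IsFlatOver f G := FlatTwist13.isFlatOver_tensor f hflat (D₀.inv d)
  haveI := hG.1
  have hGfp : CohB1.IsFP G := M1.isFP_of_isCoh hG
  -- the regularity on a fibre
  have hfib : ∀ s : S, (∀ i : ℕ, 1 ≤ i → Subsingleton (CohIII.fiberH f G s i)) ∧
      Curv2.IsGloballyGenerated ((Scheme.Modules.pullback (f.fiberι s)).obj G) := fun s => by
    letI : (f.fiber s).Over (Spec (CommRingCat.of (S.residueField s))) := ⟨f.fiberToSpecResidueField s⟩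
    haveI : IsProper (f.fiber s ↘ Spec (CommRingCat.of (S.residueField s))) :=
      inferInstanceAs (IsProper (pullback.snd f (S.fromSpecResidueField s)))
    haveI : IsNoetherian (f.fiber s) :=
      CohFound.isNoetherian_of_isProper (f.fiber s ↘ Spec (CommRingCat.of (S.residueField s)))
    let D := D₀.pullback (f.fiberι s)
    let Qs := (Scheme.Modules.pullback (f.fiberι s)).obj Q
    have e : ∀ a : ℤ, D.tw Qs a ≅ (Scheme.Modules.pullback (f.fiberι s)).obj
        (CohB1.tensorMod Q (Twist.twistOver n S a)) :=
      fun a => (M2.pullTensorIso (f.fiberι s) Q (D₀.O a)).symm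
    have hr : D.IsReg Qs m := fun i hi => van_iso (S.residueField s) (e _).symm (hreg s i hi)
    haveI : IsAffineHom (f.fiberι s ≫
        pullback.fst (CohB1.ProjSpace.toSpec n (ULift.{u} ℤ)) (specULiftZIsTerminal.from S)) :=
      MorphismProperty.of_isPullback
        (((IsPullback.of_hasPullback f (S.fromSpecResidueField s)).paste_horiz
          (IsPullback.of_hasPullback (CohB1.ProjSpace.toSpec n (ULift.{u} ℤ)) (specULiftZIsTerminal.from S))).flip)
        (inferInstanceAs (IsAffineHom (S.fromSpecResidueField s ≫ specULiftZIsTerminal.from S)))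
    have hA : CohB1.IsAmple (D.O 1) :=
      (RA.isAmple_pullback_comp_iff (f.fiberι s)
        (pullback.fst (CohB1.ProjSpace.toSpec n (ULift.{u} ℤ)) (specULiftZIsTerminal.from S))).2
        (Amp.isAmple_pullback_of_isAffineHom (L := _root_.Twist.twistProjSpace n (ULift.{u} ℤ) 1) _
          (Twist.isAmple_twist (CohB1.polyGrading n (ULift.{u} ℤ)) _ (fun i => ProjSpace.X_mem' n _ i)
            (ProjSpace.irrelevant_le_span n _) Nat.one_pos))
    refine ⟨fun i hi => van_iso (S.residueField s) (e d) (hr.van (S.residueField s) hi (by omega)), ?_⟩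
    obtain ⟨T, p, hp⟩ := (hr.of_le (S.residueField s) hd).isGloballyGenerated D (S.residueField s)
      (D.exists_gg_large hA (M1.isCoh_pullback _ hQ))
    exact ⟨T, p ≫ (e d).hom, epi_comp _ _⟩
  have h14 := S14444.result f G hGfp hGfl fun s => (hfib s).1 1 le_rfl
  haveI := CohFound.hasInjectiveResolutions_modules (CohB1.ProjSpaceOver n S)
  refine ⟨h14.1, fun i hi => ?_, ?_⟩
  · obtain ⟨e⟩ := S11319.result f G i
    exact IsZero.of_iso ((SheafOfModules.toSheaf _).map_isZero
      (S15985.result f G hGfp hGfl i fun s => (hfib s).1 i hi)) e.symm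
  · refine epi_counit_of_fibres f hG (fun s => h14.2 (f.fiberι s) (f.fiberToSpecResidueField s)
      (S.fromSpecResidueField s) (IsPullback.of_hasPullback f (S.fromSpecResidueField s))) fun s => ?_
    haveI : IsProper (f.fiberToSpecResidueField s) :=
      inferInstanceAs (IsProper (pullback.snd f (S.fromSpecResidueField s)))
    refine ((S10869.result (f.fiberToSpecResidueField s) _ (M1.isQCoh_pullback _ hG.1)).2).2 fun U _ => ?_
    exact isGloballyGenerated_restrict ((hfib s).2) _

end Groth.Agent.S16625
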