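import Groth.Statements.S16629
import Groth.Agent.Lib.Grass18.Mono
import Groth.Agent.Lib.Grass18.ET
-- import your own Groth.Agent.* helpers here

set_option autoImplicit false
universe u
open Grass

namespace Groth.Agent.S16629

open AlgebraicGeometry CategoryTheory CategoryTheory.Limits in
/-- Let S be a Noetherian scheme, V a finite locally free O_S-module of rank n, and 0 < q < n. The
Grassmannian functor Gr(q, V) — sending an S-scheme T to the set of submodules K of V_T (the
pullback of V to S ×_S T) whose quotient V_T/K is finite locally free of rank q, with pullback of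
submodules as transition maps — is represented by an S-scheme G carrying a universal such submodule;
and for every O_S-module L that is a q-th exterior power of V and every projective bundle π : P → S
of L (an invertible quotient O_P(1) of π^*L with the universal property for invertible quotients of
pullbacks of L), there is a closed immersion G → P over S. (In the source the closed immersion is
the Plücker morphism sending a quotient to its top exterior power; here it is only asserted to
exist.) -/
theorem result (S : Scheme.{u}) [IsNoetherian S]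
    (n q : ℕ) (hq : 0 < q) (hqn : q < n) (V : S.Modules) (hV : FlatMod.IsFinLocFreeOfRank n V) :
    ∃ (G : Over S) (K : Subobject (FGA.ET (𝟙 S) V G)),
      FlatMod.IsFinLocFreeOfRank q (cokernel K.arrow) ∧
      (∀ (T : Over S) (K' : Subobject (FGA.ET (𝟙 S) V T)),
        FlatMod.IsFinLocFreeOfRank q (cokernel K'.arrow) → ∃! g : T ⟶ G, FGA.quotPull (𝟙 S) V g K = K') ∧
      (∀ (L : S.Modules), ExtPow.IsExtPow q V L →
        ∀ (P : Scheme.{u}) (π : P ⟶ S) (O1 : P.Modules) (u : (Scheme.Modules.pullback π).obj L ⟶ O1),
          KRR.IsProjBundle π L O1 u →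
            ∃ c : G.left ⟶ P, IsClosedImmersion c ∧ c ≫ π = G.hom) := by
  obtain ⟨G, Q, qu, hG, hprop⟩ := Groth.Agent.Grass18.exists_isGrass V q hV hqn.le
  obtain ⟨K, hK, hu⟩ := Groth.Agent.Grass18.exists_rep_ET V hG
  refine ⟨G, K, hK, hu, fun L hL P π O1 u₁ hP => ?_⟩
  haveI := hG.epi
  haveI := hprop
  haveI : Coh.IsQCoh Q :=
    Groth.Agent.M2.isQCoh_of_isFinLocFree (Groth.Agent.M2.isFinLocFree_of_ofRank hG.rank)
  obtain ⟨φ, hφ⟩ := Groth.Agent.ExtFil4.exists_phi hL
  obtain ⟨θ, hθ⟩ := Groth.Agent.Grass18.exists_theta G.hom qu q φ hφ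
  haveI hθe : Epi θ := Groth.Agent.Grass18.epi_theta qu hV hG.rank φ θ hθ
  have hD : FlatMod.IsFinLocFreeOfRank 1 (Groth.Agent.Wedge2.extMod q Q) :=
    (Groth.Agent.M2.isInvertible_iff_isFinLocFreeOfRank_one _).1
      (Groth.Agent.Wedge2.isInvertible_top hG.rank (Groth.Agent.Wedge2.isExtPow_extMod q Q))
  have hPG := Grass.IsGrass.of_isProjBundle hP
  let c := hPG.lift G.hom _ hD θ hθe
  have hc : c ≫ π = G.hom := hPG.lift_comp G.hom _ hD θ hθe
  haveI : IsProper π := Groth.Agent.Grass18.isProper_projBundle hP
    (Groth.Agent.Grass18.isFinLocFreeOfRank_extPow hV hL) (Nat.choose_pos hqn.le)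
  haveI : Mono c := Groth.Agent.Grass18.mono_plucker hG hV φ θ hθ hc (hPG.liftIso G.hom _ hD θ hθe)
    (hPG.quotBC_liftIso G.hom _ hD θ hθe)
  haveI : IsProper (c ≫ π) := by rw [hc]; infer_instance
  haveI : IsProper c := IsProper.of_comp c π
  exact ⟨c, (IsClosedImmersion.iff_isProper_and_mono c).2 ⟨inferInstance, inferInstance⟩, hc⟩
end Groth.Agent.S16629
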