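import Groth.Statements.S1663
import Groth.Agent.Lib.DimOne18.Affine
import Groth.Agent.Lib.CohFound.AffMor
import Groth.Agent.Lib.CohFound.RpushHc

set_option autoImplicit false
universe u
open CategoryTheory CategoryTheory.Limits AlgebraicGeometry
open Variety

namespace Groth.Agent.S1663

/-- Let X be a scheme whose local rings are Noetherian of Krull dimension at most one, j : U → X the
inclusion of a retrocompact open (j quasi-compact) and F a quasi-coherent O_U-module. Then R^p j_* F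
vanishes for all p > 0. -/
theorem result (X : Scheme.{u})
    (hX : ∀ x : X, IsNoetherianRing (X.presheaf.stalk x) ∧ ringKrullDim (X.presheaf.stalk x) ≤ 1)
    (U : X.Opens) [QuasiCompact U.ι] [HasInjectiveResolutions (U : Scheme.{u}).Modules]
    (F : (U : Scheme.{u}).Modules) (hF : Coh.IsQCoh F) (p : ℕ) (hp : 0 < p) :
    IsZero ((Coh.Rpush U.ι p).obj F) := by
  haveI : IsAffineHom U.ι := ⟨fun V hV => by
    haveI : IsAffine (V : Scheme.{u}) := hV
    have hV' : IsCompact ((U.ι ⁻¹ᵁ V : (U : Scheme.{u}).Opens) : Set (U : Scheme.{u})) :=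
      U.ι.isCompact_preimage hV.isCompact
    have hW : IsCompact ((V.ι ⁻¹ᵁ U : (V : Scheme.{u}).Opens) : Set (V : Scheme.{u})) := by
      rw [V.ι.isOpenEmbedding.isInducing.isCompact_iff]
      have : ⇑V.ι '' (↑(V.ι ⁻¹ᵁ U) : Set (V : Scheme.{u})) =
          ⇑U.ι '' (↑(U.ι ⁻¹ᵁ V) : Set (U : Scheme.{u})) := by
        ext y
        constructor
        · rintro ⟨z, hz, rfl⟩
          exact ⟨⟨z.1, hz⟩, z.2, rfl⟩
        · rintro ⟨z, hz, rfl⟩
          exact ⟨⟨z.1, hz⟩, z.2, rfl⟩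
      rw [this]
      exact hV'.image U.ι.continuous
    have h1 := Groth.Agent.DimOne18.isAffineOpen_of_isCompact (X := (V : Scheme.{u})) (fun x => by
      let e := (asIso (V.ι.stalkMap x)).commRingCatIsoToRingEquiv
      obtain ⟨h2, h3⟩ := hX (V.ι x)
      exact ⟨isNoetherianRing_of_ringEquiv _ e, (ringKrullDim_eq_of_ringEquiv e).symm.le.trans h3⟩)
      (V.ι ⁻¹ᵁ U) hW
    rw [← U.ι.isAffineOpen_iff_of_isOpenImmersion]
    have : U.ι ''ᵁ (U.ι ⁻¹ᵁ V) = V.ι ''ᵁ (V.ι ⁻¹ᵁ U) := by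
      rw [U.ι.image_preimage_eq_opensRange_inf, V.ι.image_preimage_eq_opensRange_inf,
        Scheme.Opens.opensRange_ι, Scheme.Opens.opensRange_ι, inf_comm]
    rw [this]
    exact h1.image_of_isOpenImmersion V.ι⟩
  obtain ⟨q, rfl⟩ := Nat.exists_eq_succ_of_ne_zero hp.ne'
  haveI := hF
  obtain ⟨e⟩ := Groth.Agent.CohFound.nonempty_abF_rpush_iso_shPre U.ι F (q + 1)
  obtain ⟨e'⟩ := Groth.Agent.CohFound.nonempty_rpush_iso_shPre
    (U.ι.base : Groth.Agent.CohFound.sp (U : Scheme.{u}) ⟶ Groth.Agent.CohFound.sp X)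
    ((Groth.Agent.CohFound.abF _).obj F) (q + 1)
  have h := ((Groth.Agent.CohFound.isZero_rpush_succ_iff _ q _).2
    (Groth.Agent.CohFound.locKilled_of_isAffineHom U.ι F q)).of_iso (e ≪≫ e'.symm)
  rw [IsZero.iff_id_eq_zero] at h ⊢
  refine (Groth.Agent.CohFound.abF X).map_injective ?_
  rw [CategoryTheory.Functor.map_id]
  exact h.trans (Functor.map_zero _ _ _).symm

end Groth.Agent.S1663
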