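import Groth.Statements.S16631
import Groth.Agent.Lib.PushStab17.Norm

set_option autoImplicit false
universe u
open CategoryTheory CategoryTheory.Limits AlgebraicGeometry
open TFCurv

namespace Groth.Agent.S16631

/-- Suppose k is an algebraically closed field and X is an integral proper curve over k (integral,
proper, of dimension one), with normalisation ν : X~ → X. Given an ample invertible module L on X
and a finite locally free module E of rank n on X~, the direct image ν_*E on X is stable exactly
when E itself is stable. Here stability means stability of pure one-dimensional sheaves measured by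
reduced Hilbert polynomials, where E carries the polarisation ν^*L and ν_*E carries L; for an
integral curve this amounts to the slope inequality deg F · rk E < deg E · rk F holding for each
nonzero torsion-free subsheaf F whose rank is smaller, with degrees computed via the Euler
characteristic, and the condition is independent of which ample polarisation is chosen. -/
theorem result (k : Type u) [Field k] [IsAlgClosed k] (X : Scheme.{u}) [X.Over (Spec (CommRingCat.of k))] [IsIntegral X] [IsProper (X ↘ Spec (CommRingCat.of k))] (hdim : topologicalKrullDim X = 1) [QuasiCompact (X.fromSpecStalk (genericPoint X))] [QuasiSeparated (X.fromSpecStalk (genericPoint X))] (L : X.Modules) (hL : CohB1.IsAmple L) (n : ℕ) (E : (Curv2.normalization X).Modules) (hE : FlatMod.IsFinLocFreeOfRank n E) :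
    letI : (Curv2.normalization X).Over (Spec (CommRingCat.of k)) := ⟨Curv2.normalizationι X ≫ X ↘ Spec (CommRingCat.of k)⟩
    ShStab.IsStable k (Curv2.normalization X) ((Scheme.Modules.pullback (Curv2.normalizationι X)).obj L) E 1 ↔ ShStab.IsStable k X L ((Coh.push (Curv2.normalizationι X)).obj E) 1 := by
  obtain ⟨hfin, hprop, ⟨U, hU, hiso⟩, hint, hd', hη⟩ := Groth.Agent.PushStab17.normalization_data k X hdim
  haveI := hfin
  haveI := hiso
  haveI := hint
  letI : (Curv2.normalization X).Over (Spec (CommRingCat.of k)) := ⟨Curv2.normalizationι X ≫ X ↘ Spec (CommRingCat.of k)⟩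
  haveI : IsProper ((Curv2.normalization X) ↘ Spec (CommRingCat.of k)) := hprop
  haveI := Groth.Agent.VB17.isNoetherian_of_over (k := k) (X := Curv2.normalization X)
  have hEc : Coh.IsCoh E := Groth.Agent.CurveCoh17.isCoh_of_ofRank hE
  have hpE := Groth.Agent.PushStab17.isPure_of_finLocFree hd' hE hEc
  obtain ⟨hz, hcoh, hpure, hSS, hSt⟩ :=
    Groth.Agent.PushStab17.compare (k := k) (Curv2.normalizationι X) U rfl hdim hd' hη hU hL hEc hpE
  exact ⟨fun h => ⟨hcoh, fun h0 => h.2.1 (hz.1 h0), hpure, hSt.1 h.2.2.2⟩,
    fun h => ⟨hEc, fun h0 => h.2.1 (hz.2 h0), hpE, hSt.2 h.2.2.2⟩⟩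

end Groth.Agent.S16631
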