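import Groth.Statements.S16638
import Groth.Agent.Lib.PMor16.Closed

set_option linter.style.haveILetI false
set_option backward.isDefEq.respectTransparency false
set_option backward.isDefEq.respectTransparency.types false
-- import your own Groth.Agent.* helpers here

set_option autoImplicit false
open CategoryTheory MonoidalCategory CartesianMonoidalCategory MonObj GrpObj AlgebraicGeometry
universe u
open RedSub

namespace Groth.Agent.S16638

/-- Let G be a reductive group scheme over a scheme S with a splitting D, and let Ψ be a closed set of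
roots (a, b ∈ Ψ with a + b a root forces a + b ∈ Ψ) containing no pair of opposite roots. Then the
root groups U_a, a ∈ Ψ, directly span, in any order, one and the same closed subgroup scheme U_Ψ of
G: U_Ψ is smooth over S with connected geometric fibres containing no non-trivial subtorus, it is
normalised by the torus of the splitting, and for every enumeration of Ψ the ordered product of the
root homomorphisms is an isomorphism from a power of the additive group onto U_Ψ. -/
theorem result {S : Scheme.{u}} {G : Over S} [GrpObj G]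
    (D : Red.SplitRed G) (Ψ : Set D.idx)
    (hcl : ∀ a b c : D.idx, a ∈ Ψ → b ∈ Ψ → D.P.root a + D.P.root b = D.P.root c → c ∈ Ψ)
    (hneg : ∀ a b : D.idx, a ∈ Ψ → D.P.root b = -D.P.root a → b ∉ Ψ) :
    ∃ (U : Over S) (_ : GrpObj U) (v : U ⟶ G), IsMonHom v ∧ IsClosedImmersion v.left ∧ Smooth U.hom ∧
      (∀ s : S, ConnectedSpace (Red.geomFibre s U).left ∧
        Red.HasNoSubtorus (AlgebraicClosure (S.residueField s)) (Red.geomFibre s U)) ∧
      (∀ (X : Over S) (t : X ⟶ D.T) (x : X ⟶ U), ∃ x' : X ⟶ U, (t ≫ D.i) * (x ≫ v) * (t ≫ D.i)⁻¹ = x' ≫ v) ∧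
      ∀ {m : ℕ} (e : Fin m → D.idx), RedSub.Enumerates Ψ e →
        ∃ ψ : RedSub.pow (Red.Ga S) m ≅ U, ψ.hom ≫ v = RedSub.prodMap (Red.Ga S) m (fun k => D.u (e k)) := by
  rcases isEmpty_or_nonempty S with hS | ⟨⟨s₀⟩⟩
  · have hu : ∀ (A B : Over S), Nonempty (A ⟶ B) ∧ Subsingleton (A ⟶ B) := RedCell16.hom_subsingleton
    let v : 𝟙_ (Over S) ⟶ G := 1
    haveI : IsEmpty G.left := Function.isEmpty G.hom.base
    haveI : IsEmpty (𝟙_ (Over S)).left := hS
    haveI : IsIso v.left := ⟨(isInitialOfIsEmpty (X := G.left)).to _, isInitialOfIsEmpty.hom_ext _ _,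
      isInitialOfIsEmpty.hom_ext _ _⟩
    refine ⟨𝟙_ _, inferInstance, v, ⟨(hu _ _).2.elim _ _, (hu _ _).2.elim _ _⟩, inferInstance,
      inferInstanceAs (Smooth (𝟙 S)), fun s => isEmptyElim s,
      fun X t x => ⟨x, (hu _ _).2.elim _ _⟩, fun {m} e _ => ?_⟩
    exact ⟨⟨(hu _ _).1.some, (hu _ _).1.some, (hu _ _).2.elim _ _, (hu _ _).2.elim _ _⟩, (hu _ _).2.elim _ _⟩
  haveI := RedCell16.isReduced D s₀
  obtain ⟨b, hb⟩ := PMor16.exists_pos_closed D hcl hneg
  obtain ⟨k, e, he⟩ := RedCell16.exists_enum_set D Ψ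
  obtain ⟨hgrp, hmon⟩ := PMor16.exists_grpObj_closed D Ψ hcl hb e he
  letI := hgrp
  haveI := hmon
  refine ⟨_, hgrp, _, hmon, PMor16.isClosedImmersion_closed D Ψ hcl hb e he, RedCell16.smooth_pow k,
    fun s => ⟨PMor16.connectedSpace_geomFibre_pow s, PMor16.hasNoSubtorus_closed D Ψ hcl hb e he s⟩,
    fun X t x => ?_, fun e' he' => PMor16.exists_iso_closed D Ψ hcl hb e he e' he'⟩
  obtain ⟨x', hx'⟩ := (PMor16.factor_closed D Ψ hcl hb e he _).2
    (RedCell16.torus_conj_gens D t ((PMor16.factor_closed D Ψ hcl hb e he _).1 ⟨x, rfl⟩))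
  exact ⟨x', hx'.symm⟩

end Groth.Agent.S16638
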