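import Groth.Statements.S1664
import Groth.Agent.Lib.RelAmple18.Generated

set_option autoImplicit false
universe u
open CategoryTheory CategoryTheory.Limits AlgebraicGeometry
open Variety

namespace Groth.Agent.S1664

/-- Let X be quasi-compact. Suppose every point of X lies in the locus where some global section s of
some globally generated invertible module L generates L, with that locus affine. Then X has an ample
invertible module. -/
theorem result (X : Scheme.{u}) [CompactSpace X]
    (h : ∀ x : X, ∃ (L : X.Modules) (s : Coh.structureModule X ⟶ L), PicF.IsInvertible L ∧ Curv2.IsGloballyGenerated L ∧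
      x ∈ CohB1.genLocus L s ∧ IsAffineOpen (CohB1.genLocus L s)) :
    ∃ M : X.Modules, CohB1.IsAmple M := by
  classical
  choose L s hL hg hx hA using h
  have key : ∀ T : Finset X, ∃ M : X.Modules, PicF.IsInvertible M ∧
      (∀ z : X, ∃ t : Coh.structureModule X ⟶ M, z ∈ CohB1.genLocus M t) ∧
      ∀ z : X, (∃ a ∈ T, z ∈ CohB1.genLocus (L a) (s a)) →
        ∃ t : Coh.structureModule X ⟶ M, z ∈ CohB1.genLocus M t ∧ IsAffineOpen (CohB1.genLocus M t) := by
    intro T
    induction T using Finset.induction with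
    | empty =>
      refine ⟨Coh.structureModule X, PicLoc.isInvertible_structureModule X,
        fun z => ⟨Groth.Agent.M1.secHom (Groth.Agent.M1.one ⊤), ?_⟩, by simp⟩
      rw [Groth.Agent.Amp.mem_genLocus_iff (PicLoc.isInvertible_structureModule X),
        Groth.Agent.Amp.gval_secHom]
      exact Groth.Agent.Amp.gen_one z (U := ⊤) trivial
    | insert a T _ ih =>
      obtain ⟨M, hM, hMg, hMT⟩ := ih
      refine ⟨CohB1.tensorMod M (L a), Groth.Agent.M2.isInvertible_tensor hM (hL a), fun z => ?_, fun z hz => ?_⟩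
      · obtain ⟨t, ht⟩ := hMg z
        obtain ⟨t', ht'⟩ := Groth.Agent.RA.exists_gen_of_isGloballyGenerated (hL a) (hg a) z
        exact ⟨SecTwist.tmulHom t t', by rw [Groth.Agent.Amp.genLocus_tmulHom hM (hL a)]; exact ⟨ht, ht'⟩⟩
      · obtain ⟨b, hb, hzb⟩ := hz
        rcases Finset.mem_insert.mp hb with rfl | hb
        · obtain ⟨t, ht⟩ := hMg z
          refine ⟨SecTwist.tmulHom t (s b), ?_⟩
          rw [Groth.Agent.Amp.genLocus_tmulHom hM (hL b)]
          exact ⟨⟨ht, hzb⟩, Groth.Agent.Amp.isAffineOpen_inf_genLocus hM t (hA b)⟩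
        · obtain ⟨t, ht, hAt⟩ := hMT z ⟨b, hb, hzb⟩
          obtain ⟨t', ht'⟩ := Groth.Agent.RA.exists_gen_of_isGloballyGenerated (hL a) (hg a) z
          refine ⟨SecTwist.tmulHom t t', ?_⟩
          rw [Groth.Agent.Amp.genLocus_tmulHom hM (hL a)]
          refine ⟨⟨ht, ht'⟩, ?_⟩
          rw [inf_comm]
          exact Groth.Agent.Amp.isAffineOpen_inf_genLocus (hL a) t' hAt
  obtain ⟨T, hT⟩ := isCompact_univ.elim_finite_subcover (fun x => (CohB1.genLocus (L x) (s x) : Set X))
    (fun x => (CohB1.genLocus (L x) (s x)).isOpen) (fun x _ => Set.mem_iUnion.mpr ⟨x, hx x⟩)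
  obtain ⟨M, hM, -, hMT⟩ := key T
  refine ⟨M, Groth.Agent.Amp.isAmple_iff.mpr ⟨hM, inferInstance, fun z => ?_⟩⟩
  obtain ⟨a, ha, hza⟩ := Set.mem_iUnion₂.mp (hT (Set.mem_univ z))
  obtain ⟨t, ht, hAt⟩ := hMT z ⟨a, ha, hza⟩
  exact ⟨0, _, Groth.Agent.Amp.hasSec_of_iso (Groth.Agent.M2.tensorPowOne M).symm t, ht, hAt⟩

end Groth.Agent.S1664
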