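import Groth.Statements.S3003
import Groth.Agent.Lib.TorusLift21.SelfCent

set_option linter.style.haveILetI false
set_option maxHeartbeats 1600000
set_option backward.isDefEq.respectTransparency.types false
-- import your own Groth.Agent.* helpers here

set_option autoImplicit false
universe u
open CategoryTheory MonoidalCategory CartesianMonoidalCategory MonObj GrpObj AlgebraicGeometry
open Red

namespace Groth.Agent.S3003

/-- Let S be a scheme, G an S-group scheme which is smooth and affine over S with connected fibres, and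
s₀ ∈ S such that every maximal torus of the geometric fibre G_{s̄₀} is its own centralizer (every
point of G_{s̄₀} commuting with all points of the torus lies in it). Then there exist an étale
morphism v : Spec B → S whose image contains s₀ and a maximal torus of the base change of G to Spec
B which is split. -/
theorem result (S : Scheme.{u}) (G : Over S) [GrpObj G] [IsAffineHom G.hom] [Smooth G.hom] (hconn : ∀ s : S, _root_.IsConnected (G.hom.base ⁻¹' {s})) (s₀ : S) (hc : ∀ (T : Over (Spec (CommRingCat.of (AlgebraicClosure (S.residueField s₀))))) [GrpObj T] (i : T ⟶ Red.geomFibre s₀ G), Red.IsMaximalTorus i → ∀ (X : Over _) (g : X ⟶ Red.geomFibre s₀ G), (∀ (X' : Over _) (x : X' ⟶ X) (t : X' ⟶ T), (x ≫ g) * (t ≫ i) = (t ≫ i) * (x ≫ g)) → ∃ t : X ⟶ T, g = t ≫ i) : ∃ (B : Type u) (_ : CommRing B) (v : Spec (CommRingCat.of B) ⟶ S), Etale v ∧ s₀ ∈ Set.range v.base ∧ ∃ (T : Over (Spec (CommRingCat.of B))) (_ : GrpObj T) (i : T ⟶ Red.bc v G), Red.IsMaximalTorus i ∧ ∃ r : ℕ, Red.IsSplitTorusWith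 (Fin r → ℤ) T := by
  haveI : Smooth (Red.geomFibre s₀ G).hom := inferInstanceAs (Smooth (Limits.pullback.snd G.hom (Red.geomPt s₀)))
  haveI : IsAffineHom (Red.geomFibre s₀ G).hom :=
    inferInstanceAs (IsAffineHom (Limits.pullback.snd G.hom (Red.geomPt s₀)))
  haveI : IsAffine (Red.geomFibre s₀ G).left := isAffine_of_isAffineHom (Red.geomFibre s₀ G).hom
  haveI : ConnectedSpace ↥(Red.geomFibre s₀ G).left := CentMT21.connectedSpace_geomFibre G hconn s₀
  obtain ⟨T₀, _, i₀, hT₀⟩ := TorPts21.exists_maxTorus (Red.geomFibre s₀ G)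
  have hT₀' := AttrBorel21.isMaximalTorus_of_isMaxTorus hT₀
  haveI := hT₀.1
  haveI := hT₀.2.1
  obtain ⟨r, ⟨C⟩⟩ := TorPts21.exists_chars hT₀.2.2.1
  obtain ⟨C₀, _, c₀, hc₀, hcc, -⟩ := TorusCentr19.exists_centralizer'
    (MTRigid29.isMT_of_ft (TorPts21.isMultTypeFT_of_isTorus hT₀.2.2.1)) ‹Smooth (Red.geomFibre s₀ G).hom› i₀
  haveI := hcc
  obtain ⟨t, ht⟩ := hc T₀ i₀ hT₀' C₀ c₀ fun X' x h => (hc₀.2.2 C₀ c₀).1 ⟨𝟙 _, Category.id_comp _⟩ X' x h
  haveI := TorPts21.isClosedImmersion_of_torus hT₀.2.2.1 i₀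
  haveI : IsClosedImmersion (t.left ≫ i₀.left) := by rw [← Over.comp_left, ← ht]; infer_instance
  haveI : IsClosedImmersion t.left := IsClosedImmersion.of_comp t.left i₀.left
  exact TorusLift21.exists_etale_split_maximalTorus G hconn s₀ i₀ hT₀.2.2.1 C c₀ hc₀
    (t.left.isClosedEmbedding.isInducing.topologicalKrullDim_le.trans (le_of_eq (TorusLift21.dim_of_chars _ C)))

end Groth.Agent.S3003
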