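import Groth.Statements.S16642
import Groth.Agent.Lib.ParTorus19.Basic
import Groth.Agent.Lib.TorPts21.ReductiveCartanField
import Groth.Agent.S3003
-- import your own Groth.Agent.* helpers here

set_option autoImplicit false
open CategoryTheory MonoidalCategory CartesianMonoidalCategory MonObj GrpObj AlgebraicGeometry
universe u
set_option backward.isDefEq.respectTransparency false
set_option backward.isDefEq.respectTransparency.types false
set_option maxSynthPendingDepth 3
open RedSub

namespace Groth.Agent.S16642

/-- For a parabolic subgroup P of a reductive group scheme G over a scheme S, etale-locally on S there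
is a maximal torus of G contained in P. -/
theorem result {S : Scheme.{u}} {G P : Over S} [GrpObj G] [GrpObj P]
    (hG : Red.IsReductive G) (p : P ⟶ G) (hP : Red.IsParabolic p) (s : S) :
    ∃ (S' : Scheme.{u}) (f : S' ⟶ S) (_ : Etale f), s ∈ Set.range f.base ∧
      ∃ (T : Over S') (_ : GrpObj T) (t : T ⟶ Red.bc f P), IsMonHom t ∧
        Red.IsMaximalTorus (t ≫ (Over.pullback f).map p) := by
  haveI := hG.1
  haveI := hG.2.1
  haveI := hP.1
  haveI := hP.2.1
  haveI := hP.2.2.1
  haveI : Mono p := Over.mono_of_mono_left p
  haveI : IsAffineHom P.hom := by rw [← Over.w p]; infer_instance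
  haveI : QuasiCompact P.hom := inferInstance
  have hc := (BorelNorm21.isNormalizerOf_and_closed_parabolic hG p hP.2.2.2).2.2
  obtain ⟨B, _, v, hv, hs, T, _, i, hi, -⟩ := S3003.result S P hc s (fun T _ i hi X g hg => by
    set ps := (Over.pullback (Red.geomPt s)).map p
    haveI : IsMonHom ps := MTRigid29.isMonHom_map p _
    haveI : Mono ps := Functor.map_mono _ _
    haveI : IsAffine (Red.geomFibre s G).left := (hG.2.2 s).1
    haveI : Smooth (Red.geomFibre s G).hom := (hG.2.2 s).2.1
    haveI : Smooth (Red.geomFibre s P).hom := inferInstanceAs (Smooth (Limits.pullback.snd P.hom (Red.geomPt s)))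
    haveI : QuasiCompact (Red.geomFibre s P).hom :=
      inferInstanceAs (QuasiCompact (Limits.pullback.snd P.hom (Red.geomPt s)))
    haveI := CentMT21.connectedSpace_geomFibre P hc s
    obtain ⟨T₀, _, t₀, ht₀m, ht₀⟩ := ParTorus19.exists_torus hG p hP s
    haveI := ht₀m
    have h := AttrBorel21.isMaximalTorus_of_isMaxTorus
      (ParTorus19.isMaxTorus_comp ps t₀ ht₀ i (TorPts21.isMaxTorus_of_isMaximalTorus hi))
    obtain ⟨a, ha⟩ := TorPts21.exists_lift_of_commute_maxTorus (PMor16.isReductive_geomPt hG s) h (g ≫ ps)
      fun X' x y => by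
        have h1 := congrArg (· ≫ ps) (hg X' x y)
        simpa only [MonObj.mul_comp, Category.assoc] using h1
    exact ⟨a, (cancel_mono ps).1 (by simpa only [Category.assoc] using ha.symm)⟩)
  exact ⟨Spec (CommRingCat.of B), v, hv, hs, T, inferInstance, i, hi.1,
    ParTorus19.isMaximalTorus_comp hG p hP v hi⟩

end Groth.Agent.S16642
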