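import Groth.Statements.S16644
import Mathlib.RingTheory.Ideal.Quotient.Operations
import Mathlib.GroupTheory.Perm.Cycle.Type

set_option autoImplicit false
open QuadZ

namespace Groth.Agent.S16644

/-- For odd n, the discriminant of the universal quadratic form Σ_{i ≤ j} A_{ij} x_i x_j in n variables
(variables A_{ij} indexed by unordered pairs), i.e. the determinant of the symmetric matrix with
diagonal entries 2 A_{ii} and off-diagonal entries A_{ij}, is divisible by 2 in the integral
polynomial ring ℤ[A_{ij}] (so the half-discriminant is an integral polynomial). -/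
theorem result (n : ℕ) (hn : Odd n) :
    (2 : MvPolynomial (Sym2 (Fin n)) ℤ) ∣
      (Matrix.of fun i j : Fin n =>
        if i = j then 2 * MvPolynomial.X (R := ℤ) (σ := Sym2 (Fin n)) (Sym2.mk i j)
        else MvPolynomial.X (R := ℤ) (σ := Sym2 (Fin n)) (Sym2.mk i j)).det := by
  rw [← Ideal.mem_span_singleton, ← Ideal.Quotient.eq_zero_iff_mem]
  set I := Ideal.span ({2} : Set (MvPolynomial (Sym2 (Fin n)) ℤ))
  set π := Ideal.Quotient.mk I
  have h2 : (2 : MvPolynomial (Sym2 (Fin n)) ℤ ⧸ I) = 0 := by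
    rw [← map_ofNat π 2]; exact Ideal.Quotient.eq_zero_iff_mem.2 (Ideal.subset_span rfl)
  rw [RingHom.map_det, RingHom.mapMatrix_apply]
  set M := Matrix.map (Matrix.of fun i j : Fin n => if i = j then 2 * MvPolynomial.X (R := ℤ) (σ := Sym2 (Fin n)) (Sym2.mk i j)
    else MvPolynomial.X (R := ℤ) (σ := Sym2 (Fin n)) (Sym2.mk i j)) π with hM
  have hdiag : ∀ i, M i i = 0 := fun i => by simp [hM, map_ofNat, h2]
  have hsym : ∀ i j, M i j = M j i := fun i j => by
    by_cases h : i = j
    · rw [h]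
    · simp [hM, h, Ne.symm h, Sym2.eq_swap]
  rw [Matrix.det_apply]
  have hneg : ∀ x : MvPolynomial (Sym2 (Fin n)) ℤ ⧸ I, -x = x := fun x => by
    rw [neg_eq_iff_add_eq_zero, ← two_mul, h2, zero_mul]
  have hsign : ∀ (σ : Equiv.Perm (Fin n)) (x : MvPolynomial (Sym2 (Fin n)) ℤ ⧸ I), Equiv.Perm.sign σ • x = x := by
    intro σ x
    rcases Int.units_eq_one_or (Equiv.Perm.sign σ) with h | h <;> rw [h]
    · rw [one_smul]
    · rw [Units.neg_smul, one_smul, hneg]
  simp only [hsign]
  refine Finset.sum_involution (fun σ _ => σ⁻¹) ?_ ?_ (fun σ _ => Finset.mem_univ _) (fun σ _ => inv_inv σ)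
  · intro σ _
    have : ∏ i, M (σ⁻¹ i) i = ∏ i, M (σ i) i := by
      refine (Equiv.prod_comp σ (fun i => M (σ⁻¹ i) i)).symm.trans ?_
      refine Finset.prod_congr rfl fun i _ => ?_
      rw [show σ⁻¹ (σ i) = i from σ.symm_apply_apply i, hsym]
    rw [this, ← two_mul, h2, zero_mul]
  · intro σ _ hne heq
    apply hne
    haveI : Fact (Nat.Prime 2) := ⟨Nat.prime_two⟩
    have hσ : σ ^ 2 ^ 1 = 1 := by
      rw [pow_one, sq]
      nth_rewrite 1 [← heq]
      exact inv_mul_cancel σ
    obtain ⟨a, ha⟩ := Equiv.Perm.exists_fixed_point_of_prime (p := 2) (n := 1)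
      (by rw [Fintype.card_fin]; exact fun h => (Nat.not_even_iff_odd.2 hn) (even_iff_two_dvd.2 h)) hσ
    exact Finset.prod_eq_zero (Finset.mem_univ a) (by rw [ha]; exact hdiag a)

end Groth.Agent.S16644
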