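import Groth.Statements.S16647
import Groth.Agent.Lib.AbRigid.KernelPair
import Groth.Agent.Lib.AbRigid.Shear
import Groth.Agent.Lib.FpqcDesc.Basic

set_option autoImplicit false
open CategoryTheory MonoidalCategory CartesianMonoidalCategory MonObj GrpObj AlgebraicGeometry
universe u
open GrpSch

set_option backward.isDefEq.respectTransparency false

namespace Groth.Agent.S16647

/-- In a commutative diagram of short exact sequences of S-group schemes that are flat, separated and of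
finite presentation over a scheme S (in each row the first homomorphism is the kernel of the second
and the second is a flat surjection), if the two outer vertical homomorphisms are closed immersions
then so is the middle one. -/
theorem result {S : Scheme.{u}}
    {H₁' H₁ H₁'' H₂' H₂ H₂'' : Over S} [GrpObj H₁'] [GrpObj H₁] [GrpObj H₁''] [GrpObj H₂'] [GrpObj H₂] [GrpObj H₂'']
    [Flat H₁'.hom] [Flat H₁.hom] [Flat H₁''.hom] [Flat H₂'.hom] [Flat H₂.hom] [Flat H₂''.hom]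
    [IsSeparated H₁'.hom] [IsSeparated H₁.hom] [IsSeparated H₁''.hom]
    [IsSeparated H₂'.hom] [IsSeparated H₂.hom] [IsSeparated H₂''.hom]
    [QuasiCompact H₁'.hom] [QuasiCompact H₁.hom] [QuasiCompact H₁''.hom]
    [QuasiCompact H₂'.hom] [QuasiCompact H₂.hom] [QuasiCompact H₂''.hom]
    [LocallyOfFinitePresentation H₁'.hom] [LocallyOfFinitePresentation H₁.hom] [LocallyOfFinitePresentation H₁''.hom]
    [LocallyOfFinitePresentation H₂'.hom] [LocallyOfFinitePresentation H₂.hom] [LocallyOfFinitePresentation H₂''.hom]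
    (a₁ : H₁' ⟶ H₁) (b₁ : H₁ ⟶ H₁'') (a₂ : H₂' ⟶ H₂) (b₂ : H₂ ⟶ H₂'')
    [IsMonHom a₁] [IsMonHom b₁] [IsMonHom a₂] [IsMonHom b₂]
    (h₁ : AlgGrp.IsKernel a₁ b₁) (hb₁ : Flat b₁.left ∧ Surjective b₁.left)
    (h₂ : AlgGrp.IsKernel a₂ b₂) (hb₂ : Flat b₂.left ∧ Surjective b₂.left)
    (j' : H₁' ⟶ H₂') (j : H₁ ⟶ H₂) (j'' : H₁'' ⟶ H₂'') [IsMonHom j'] [IsMonHom j] [IsMonHom j'']
    (sq₁ : a₁ ≫ j = j' ≫ a₂) (sq₂ : b₁ ≫ j'' = j ≫ b₂)
    (hj' : IsClosedImmersion j'.left) (hj'' : IsClosedImmersion j''.left) :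
    IsClosedImmersion j.left := by
  haveI : Flat b₁.left := hb₁.1
  haveI : Surjective b₁.left := hb₁.2
  haveI : QuasiCompact (b₁.left ≫ H₁''.hom) := by rw [Over.w]; infer_instance
  haveI : QuasiCompact b₁.left := QuasiCompact.of_comp b₁.left H₁''.hom
  -- `P = H₂ ×_{H₂''} H₁''`
  let P : Over S := CategoryTheory.Limits.pullback b₂ j''
  let pr₁ : P ⟶ H₁'' := CategoryTheory.Limits.pullback.snd b₂ j''
  let pr₂ : P ⟶ H₂ := CategoryTheory.Limits.pullback.fst b₂ j''
  have hP : IsPullback pr₂ pr₁ b₂ j'' := IsPullback.of_hasPullback _ _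
  let ρ : H₁ ⟶ P := hP.lift j b₁ sq₂.symm
  -- `H₂ ×_{H₂''} H₁ = H₁ ⊗ H₂'`
  let T₂ := H₁ ⊗ H₂'
  let q : T₂ ⟶ H₂ := (j ▷ H₂') ≫ (fst H₂ H₂' * (snd H₂ H₂' ≫ a₂))
  have hq : IsPullback q (fst H₁ H₂') b₂ (j ≫ b₂) :=
    IsPullback.paste_horiz (AbRigid.isPullback_whiskerRight j H₂').flip (AbRigid.isPullback_kernelPair b₂ a₂ h₂).flip
  rw [← sq₂] at hq
  let π₂ : T₂ ⟶ P := hP.lift q (fst H₁ H₂' ≫ b₁) (by rw [Category.assoc]; exact hq.w)
  have hπ : IsPullback π₂ (fst H₁ H₂') pr₁ b₁ :=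
    IsPullback.of_right (by rw [IsPullback.lift_fst]; exact hq) (hP.lift_snd _ _ _) hP
  -- the square over `π₂`
  let g₁ : H₁ ⊗ H₁' ⟶ H₁ := fst H₁ H₁' * (snd H₁ H₁' ≫ a₁)
  have hk : IsPullback g₁ (fst H₁ H₁') b₁ b₁ := (AbRigid.isPullback_kernelPair b₁ a₁ h₁).flip
  have hsq : IsPullback g₁ (H₁ ◁ j') ρ π₂ := by
    refine IsPullback.of_bot ?_ ?_ hπ
    · rw [IsPullback.lift_snd, whiskerLeft_fst]; exact hk
    · apply hP.hom_ext
      · simp only [Category.assoc, π₂, ρ, IsPullback.lift_fst, q, g₁]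
        rw [← Category.assoc, whisker_exchange, Category.assoc, MonObj.mul_comp, MonObj.comp_mul]
        simp [MonObj.comp_mul, sq₁]
      · simp only [Category.assoc, π₂, ρ, IsPullback.lift_snd, g₁]
        rw [whiskerLeft_fst_assoc, hk.w]
  -- `ρ` is a closed immersion
  haveI := Groth.Agent.FpqcDesc.descendsAlong_isClosedImmersion.{u}
  have hb : IsClosedImmersion (H₁ ◁ j').left :=
    MorphismProperty.of_isPullback ((AbRigid.isPullback_whiskerLeft j' H₁).map (Over.forget S)) hj'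
  have hπ₂ : (@Surjective ⊓ @Flat ⊓ @QuasiCompact : MorphismProperty Scheme.{u}) π₂.left :=
    MorphismProperty.of_isPullback (P := (@Surjective ⊓ @Flat ⊓ @QuasiCompact : MorphismProperty Scheme.{u}))
      ((hπ.map (Over.forget S)).flip) ⟨⟨‹Surjective b₁.left›, ‹Flat b₁.left›⟩, ‹QuasiCompact b₁.left›⟩
  have hρ : IsClosedImmersion ρ.left :=
    MorphismProperty.of_isPullback_of_descendsAlong (P := @IsClosedImmersion)
      (Q := @Surjective ⊓ @Flat ⊓ @QuasiCompact) (hsq.map (Over.forget S)).flip hπ₂ hb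
  have hpr : IsClosedImmersion pr₂.left :=
    MorphismProperty.of_isPullback ((hP.map (Over.forget S)).flip) hj''
  have : j = ρ ≫ pr₂ := (hP.lift_fst _ _ _).symm
  rw [this, Over.comp_left]
  exact MorphismProperty.comp_mem _ _ _ hρ hpr

end Groth.Agent.S16647
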