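import Groth.Statements.S16650
import Groth.Agent.Lib.BorelNorm21.Parabolic
import Groth.Agent.Lib.BorelPre21.Field
-- import your own Groth.Agent.* helpers here

set_option autoImplicit false
open CategoryTheory MonoidalCategory CartesianMonoidalCategory MonObj GrpObj AlgebraicGeometry
universe u
open RedSub

namespace Groth.Agent.S16650

/-- The centre of a reductive group scheme G over a scheme S is contained in every parabolic subgroup of
G. -/
theorem result {S : Scheme.{u}} {G Z P : Over S} [GrpObj G] [GrpObj Z] [GrpObj P]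
    (hG : Red.IsReductive G) (z : Z ⟶ G) (hZ : Red.IsCentre z) (p : P ⟶ G) (hP : Red.IsParabolic p) :
    ∃ f : Z ⟶ P, f ≫ p = z := by
  haveI := hP.1
  haveI := hP.2.1
  haveI := hP.2.2.1
  haveI : Mono p := Over.mono_of_mono_left p
  haveI := hG.1
  haveI := hG.2.1
  haveI := hZ.1
  have hc := (BorelNorm21.isNormalizerOf_and_closed_parabolic hG p hP.2.2.2).2.2
  refine SubCartan21.exists_lift_central p (CentMT21.connectedSpace_geomFibre P hc) (fun s => ?_) z fun X x g => ?_
  · let k := Red.geomPt s
    haveI : Smooth (Red.bc k G).hom := inferInstanceAs (Smooth (Limits.pullback.snd G.hom k))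
    haveI : QuasiCompact (Red.bc k G).hom := inferInstanceAs (QuasiCompact (Limits.pullback.snd G.hom k))
    haveI : ConnectedSpace (Red.bc k G).left := (hG.2.2 s).2.2.1
    obtain ⟨-, -, -, B, _, b, hb⟩ := hP.2.2.2 s
    obtain ⟨C, _, c, hC⟩ := BorelPre21.exists_cartan_le hb
    exact ⟨C, inferInstance, c ≫ b, by rwa [Category.assoc]⟩
  · have h := (hZ.2.2 X (x ≫ z)).1 ⟨x, rfl⟩ X (𝟙 X) g
    simpa only [Category.id_comp, Category.comp_id] using h

end Groth.Agent.S16650
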