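import Groth.Statements.S16651
import Groth.Agent.Lib.QuadH13.EvenAzumaya28

set_option autoImplicit false
universe u v
open scoped TensorProduct
open QuadZ

namespace Groth.Agent.S16651

/-- For a free module over an affine base, let Q be a non-degenerate quadratic form (polar form a
perfect pairing) on a free module V of even rank 2m ≥ 2 over a commutative ring A. Then fppf-locally
on A the Clifford algebra C(V,Q) is a matrix algebra of size 2^m and its even part a product of two
matrix algebras of size 2^(m-1) (there is a faithfully flat finitely presented A-algebra A'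
realising both), the centre of C(V,Q) is A, the map V → C(V,Q) is injective onto a direct summand,
and the even part is the centralizer in C(V,Q) of its own centre. -/
theorem result (A : Type u) [CommRing A] (V : Type u)
    [AddCommGroup V] [Module A V] [Module.Free A V] [Module.Finite A V] (m : ℕ) (hm : 1 ≤ m)
    (hV : Module.finrank A V = 2 * m) (Q : QuadraticForm A V) (hQ : Function.Bijective (QuadraticMap.polarBilin Q)) :
    (∃ (A' : Type u) (_ : CommRing A') (_ : Algebra A A'), Module.FaithfullyFlat A A' ∧ Algebra.FinitePresentation A A' ∧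
        Nonempty ((A' ⊗[A] CliffordAlgebra Q) ≃ₐ[A'] Matrix (Fin (2 ^ m)) (Fin (2 ^ m)) A') ∧
        Nonempty ((A' ⊗[A] ↥(CliffordAlgebra.even Q)) ≃ₐ[A']
          (Matrix (Fin (2 ^ (m - 1))) (Fin (2 ^ (m - 1))) A' × Matrix (Fin (2 ^ (m - 1))) (Fin (2 ^ (m - 1))) A'))) ∧
    Subalgebra.center A (CliffordAlgebra Q) = ⊥ ∧
    (Function.Injective (CliffordAlgebra.ι Q) ∧
      ∃ W : Submodule A (CliffordAlgebra Q), IsCompl (LinearMap.range (CliffordAlgebra.ι Q)) W) ∧
    Subalgebra.centralizer A
        ((CliffordAlgebra.even Q).val '' (Subalgebra.center A ↥(CliffordAlgebra.even Q) : Set ↥(CliffordAlgebra.even Q))) =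
      CliffordAlgebra.even Q := by
  classical
  rcases subsingleton_or_nontrivial A with hA | hA
  · rw [Module.finrank_subsingleton] at hV; omega
  let b := Module.finBasisOfFinrankEq A V (hV.trans (two_mul m))
  have hreg : QuadGrp.IsRegular Q := hQ
  obtain ⟨A', i1, i2, hff, het, Ψ, Φ, hΨ, hback⟩ := Groth.Agent.EvenCliff28.exists_split hm b hreg
  have hcenter : ∀ z : CliffordAlgebra Q, (∀ y, y * z = z * y) → ∃ r, algebraMap A (CliffordAlgebra Q) r = z :=
    fun z hz ↦ Groth.Agent.QuadH13.exists_scalar_of_central b ⟨m, rfl⟩ hreg fun v ↦ hz _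
  refine ⟨⟨A', i1, i2, hff, inferInstance, ⟨?_⟩, ⟨Φ⟩⟩, ?_, ⟨Groth.Agent.QuadH13.ι_inj b Q, ?_⟩, ?_⟩
  · exact Ψ.trans (Matrix.reindexAlgEquiv A' A' (finSumFinEquiv.trans (finCongr (by
      rw [← two_mul, ← pow_succ']; congr 1; omega))))
  · refine eq_bot_iff.2 fun z hz ↦ ?_
    obtain ⟨r, hr⟩ := hcenter z (Subalgebra.mem_center_iff.1 hz)
    exact Algebra.mem_bot.2 ⟨r, hr⟩
  · let r : CliffordAlgebra Q →ₗ[A] V :=
      ExteriorAlgebra.ιInv.comp (Groth.Agent.QuadH13.toExt b Q).toLinearMap
    refine ⟨LinearMap.ker ((CliffordAlgebra.ι Q).rangeRestrict.comp r), LinearMap.isCompl_of_proj ?_⟩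
    rintro ⟨_, v, rfl⟩
    apply Subtype.ext
    change CliffordAlgebra.ι Q (r (CliffordAlgebra.ι Q v)) = CliffordAlgebra.ι Q v
    congr 1
    change ExteriorAlgebra.ιInv (Groth.Agent.QuadH13.toExt b Q (CliffordAlgebra.ι Q v)) = v
    rw [Groth.Agent.QuadH13.toExt, CliffordAlgebra.changeFormEquiv_apply, CliffordAlgebra.changeForm_ι]
    exact ExteriorAlgebra.ι_leftInverse v
  · refine le_antisymm (fun y hy ↦ hback y ?_) fun y hy ↦ ?_
    · obtain ⟨hf, hp⟩ := Groth.Agent.EvenCliff28.finite_projective_even (Q := Q) b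
      letI : Algebra ↥(Subalgebra.center A ↥(CliffordAlgebra.even Q)) ↥(CliffordAlgebra.even Q) :=
        (Subalgebra.center A ↥(CliffordAlgebra.even Q)).val.toRingHom.toAlgebra'
          (fun c x => (Subalgebra.mem_center_iff.mp c.2 x).symm)
      haveI : @IsScalarTower A ↥(Subalgebra.center A ↥(CliffordAlgebra.even Q)) ↥(CliffordAlgebra.even Q)
          Algebra.toSMul Algebra.toSMul Algebra.toSMul :=
        IsScalarTower.of_algebraMap_eq fun r ↦ rfl
      obtain ⟨ξ, hξ⟩ := Φ.surjective (1, 0)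
      obtain ⟨ζ, hζ⟩ := Groth.Agent.EvenCliff28.exists_centerMap A'
        (Z := ↥(Subalgebra.center A ↥(CliffordAlgebra.even Q)))
        (fun x hx ↦ ⟨⟨x, Subalgebra.mem_center_iff.2 hx⟩, rfl⟩) (ξ := ξ) fun η ↦ Φ.injective (by
          rw [map_mul, map_mul, hξ]
          exact Prod.ext ((mul_one _).trans (one_mul _).symm) ((mul_zero _).trans (zero_mul _).symm))
      have hcomm : ∀ ζ', ((1 : A') ⊗ₜ[A] y) *
          Algebra.TensorProduct.map (AlgHom.id A' A') (CliffordAlgebra.even Q).val
            (Groth.Agent.EvenCliff28.centerMap (Z := ↥(Subalgebra.center A ↥(CliffordAlgebra.even Q))) A' ζ') =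
          Algebra.TensorProduct.map (AlgHom.id A' A') (CliffordAlgebra.even Q).val
            (Groth.Agent.EvenCliff28.centerMap (Z := ↥(Subalgebra.center A ↥(CliffordAlgebra.even Q))) A' ζ') *
            ((1 : A') ⊗ₜ[A] y) := by
        intro ζ'
        induction ζ' using TensorProduct.induction_on with
        | zero => simp
        | add a c ha hc => simp only [map_add, mul_add, add_mul, ha, hc]
        | tmul a z =>
          simp only [Groth.Agent.EvenCliff28.centerMap, Algebra.TensorProduct.map_tmul, AlgHom.id_apply,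
            Algebra.TensorProduct.tmul_mul_tmul, one_mul, mul_one]
          congr 1
          exact ((Subalgebra.mem_centralizer_iff A).1 hy _ ⟨_, z.2, rfl⟩).symm
      have h := congrArg Ψ (hcomm ζ)
      rw [map_mul, map_mul, hζ, hΨ, hξ] at h
      refine ⟨(Ψ (1 ⊗ₜ y)).toBlocks₁₁, (Ψ (1 ⊗ₜ y)).toBlocks₂₂, ?_⟩
      rw [← Matrix.fromBlocks_toBlocks (Ψ (1 ⊗ₜ y)), Matrix.fromBlocks_multiply, Matrix.fromBlocks_multiply,
        Matrix.fromBlocks_inj] at h
      simp only [Matrix.mul_one, Matrix.one_mul, Matrix.mul_zero, Matrix.zero_mul, add_zero, zero_add] at h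
      conv_lhs => rw [← Matrix.fromBlocks_toBlocks (Ψ (1 ⊗ₜ y)), ← h.2.1, h.2.2.1]
    · rintro _ ⟨z, hz, rfl⟩
      exact congrArg Subtype.val ((Subalgebra.mem_center_iff.1 hz ⟨y, hy⟩)).symm

end Groth.Agent.S16651
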