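import Groth.Statements.S16652
import Groth.Agent.Lib.PMor16.Closed
import Groth.Agent.Lib.RedCell16.Tail

set_option linter.style.haveILetI false
set_option backward.isDefEq.respectTransparency false
set_option backward.isDefEq.respectTransparency.types false
-- import your own Groth.Agent.* helpers here

set_option autoImplicit false
open CategoryTheory MonoidalCategory CartesianMonoidalCategory MonObj GrpObj AlgebraicGeometry
universe u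
open RedSub

namespace Groth.Agent.S16652

/-- With G a reductive group scheme over a scheme S with splitting D, Ψ a closed set of roots without
opposite pairs, λ ∈ M^∨ non-vanishing on the roots and positive on Ψ, and n ≥ 1, let U₁ ⊃ U₂ be the
closed subgroups directly spanned by the root groups U_a (a ∈ Ψ) with λ(a) ≥ n, resp. λ(a) ≥ n + 1.
Then U₂ is normal in U₁, root groups U_a, U_b with λ(a) = λ(b) = n commute modulo U₂, and
multiplication (∏_{λ(a) = n} U_a) × U₂ → U₁ (product in any order) is an isomorphism of schemes;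
thus U₁/U₂ is the vector group ∏_{λ(a)=n} U_a. -/
theorem result {S : Scheme.{u}} {G : Over S} [GrpObj G]
    (D : Red.SplitRed G) (Ψ : Set D.idx)
    (hcl : ∀ a b c : D.idx, a ∈ Ψ → b ∈ Ψ → D.P.root a + D.P.root b = D.P.root c → c ∈ Ψ)
    (hneg : ∀ a b : D.idx, a ∈ Ψ → D.P.root b = -D.P.root a → b ∉ Ψ)
    (lam : Module.Dual ℤ D.M) (hlam : ∀ a : D.idx, lam (D.P.root a) ≠ 0) (hpos : ∀ a ∈ Ψ, 0 < lam (D.P.root a))
    (n : ℕ) (hn : 1 ≤ n)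
    {U₁ U₂ : Over S} [GrpObj U₁] [GrpObj U₂] (v₁ : U₁ ⟶ G) (v₂ : U₂ ⟶ G) [IsMonHom v₁] [IsMonHom v₂]
    (hv₁ : IsClosedImmersion v₁.left) (hv₂ : IsClosedImmersion v₂.left)
    (hU₁ : ∀ {m : ℕ} (e : Fin m → D.idx), RedSub.Enumerates {a | a ∈ Ψ ∧ (n : ℤ) ≤ lam (D.P.root a)} e →
      ∃ ψ : RedSub.pow (Red.Ga S) m ≅ U₁, ψ.hom ≫ v₁ = RedSub.prodMap (Red.Ga S) m (fun k => D.u (e k)))
    (hU₂ : ∀ {m : ℕ} (e : Fin m → D.idx), RedSub.Enumerates {a | a ∈ Ψ ∧ (n : ℤ) + 1 ≤ lam (D.P.root a)} e →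
      ∃ ψ : RedSub.pow (Red.Ga S) m ≅ U₂, ψ.hom ≫ v₂ = RedSub.prodMap (Red.Ga S) m (fun k => D.u (e k))) :
    (∃ f : U₂ ⟶ U₁, f ≫ v₁ = v₂ ∧ IsMonHom f ∧ AlgGrp.IsNormalHom f) ∧
    (∀ (a b : D.idx), a ∈ Ψ → b ∈ Ψ → lam (D.P.root a) = n → lam (D.P.root b) = n →
      ∀ (X : Over S) (x y : X ⟶ Red.Ga S), ∃ w : X ⟶ U₂,
        (x ≫ D.u a) * (y ≫ D.u b) * (x ≫ D.u a)⁻¹ * (y ≫ D.u b)⁻¹ = w ≫ v₂) ∧
    ∀ {m : ℕ} (e : Fin m → D.idx), RedSub.Enumerates {a | a ∈ Ψ ∧ lam (D.P.root a) = n} e →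
      ∃ ψ : RedSub.pow (Red.Ga S) m ⊗ U₂ ≅ U₁,
        ψ.hom ≫ v₁ = (fst _ _ ≫ RedSub.prodMap (Red.Ga S) m (fun k => D.u (e k))) * (snd _ _ ≫ v₂) := by
  classical
  haveI := hv₁
  haveI := hv₂
  haveI : Mono v₁ := Over.mono_of_mono_left _
  haveI : Mono v₂ := Over.mono_of_mono_left _
  rcases isEmpty_or_nonempty S with hS | ⟨⟨s₀⟩⟩
  · have hu : ∀ (A B : Over S), Nonempty (A ⟶ B) ∧ Subsingleton (A ⟶ B) := RedCell16.hom_subsingleton
    refine ⟨⟨(hu _ _).1.some, (hu _ _).2.elim _ _, ⟨(hu _ _).2.elim _ _, (hu _ _).2.elim _ _⟩,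
        fun T g x => ⟨(hu _ _).1.some, (hu _ _).2.elim _ _⟩⟩,
      fun a b _ _ _ _ X x y => ⟨(hu _ _).1.some, (hu _ _).2.elim _ _⟩, fun {m} e _ =>
      ⟨⟨(hu _ _).1.some, (hu _ _).1.some, (hu _ _).2.elim _ _, (hu _ _).2.elim _ _⟩, (hu _ _).2.elim _ _⟩⟩
  haveI := RedCell16.isReduced D s₀
  obtain ⟨b, hb⟩ := PMor16.exists_pos_closed D hcl hneg
  set R₁ : Set D.idx := {a | a ∈ Ψ ∧ (n : ℤ) ≤ lam (D.P.root a)} with hR₁
  set R₂ : Set D.idx := {a | a ∈ Ψ ∧ (n : ℤ) + 1 ≤ lam (D.P.root a)} with hR₂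
  have h21 : R₂ ⊆ R₁ := fun a ha => ⟨ha.1, by have := ha.2; omega⟩
  have hcl₁ : ∀ a b c : D.idx, a ∈ R₁ → b ∈ R₁ → D.P.root a + D.P.root b = D.P.root c → c ∈ R₁ :=
    fun a b c ha hb' h => ⟨hcl a b c ha.1 hb'.1 h, by rw [← h, map_add]; have := ha.2; have := hb'.2; omega⟩
  have hcl₂ : ∀ a b c : D.idx, a ∈ R₂ → b ∈ R₂ → D.P.root a + D.P.root b = D.P.root c → c ∈ R₂ :=
    fun a b c ha hb' h => ⟨hcl a b c ha.1 hb'.1 h, by rw [← h, map_add]; have := ha.2; have := hb'.2; omega⟩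
  have hb₁ : R₁ ⊆ RedSub.posRoots D.P b := fun a ha => hb ha.1
  have hb₂ : R₂ ⊆ RedSub.posRoots D.P b := fun a ha => hb ha.1
  obtain ⟨k₁, e₁, he₁⟩ := RedCell16.exists_enum_set D R₁
  obtain ⟨k₂, e₂, he₂⟩ := RedCell16.exists_enum_set D R₂
  obtain ⟨ψ₁, hψ₁⟩ := hU₁ e₁ he₁
  obtain ⟨ψ₂, hψ₂⟩ := hU₂ e₂ he₂
  have hm₁ : ∀ (X : Over S) (g : X ⟶ G), (∃ w : X ⟶ U₁, w ≫ v₁ = g) ↔ g ∈ RedCell16.gens D R₁ X := fun X g => by
    rw [← PMor16.factor_closed D R₁ hcl₁ hb₁ e₁ he₁]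
    exact ⟨fun ⟨w, hw⟩ => ⟨w ≫ ψ₁.inv, by rw [← hψ₁, Category.assoc, Iso.inv_hom_id_assoc, hw]⟩,
      fun ⟨z, hz⟩ => ⟨z ≫ ψ₁.hom, by rw [Category.assoc, hψ₁, hz]⟩⟩
  have hm₂ : ∀ (X : Over S) (g : X ⟶ G), (∃ w : X ⟶ U₂, w ≫ v₂ = g) ↔ g ∈ RedCell16.gens D R₂ X := fun X g => by
    rw [← PMor16.factor_closed D R₂ hcl₂ hb₂ e₂ he₂]
    exact ⟨fun ⟨w, hw⟩ => ⟨w ≫ ψ₂.inv, by rw [← hψ₂, Category.assoc, Iso.inv_hom_id_assoc, hw]⟩,
      fun ⟨z, hz⟩ => ⟨z ≫ ψ₂.hom, by rw [Category.assoc, hψ₂, hz]⟩⟩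
  obtain ⟨nn, mm, eneg, epos, hneg', hpos'⟩ := RedCell16.exists_enum D b
  have hcomm : ∀ (X : Over S) (p q : D.idx), p ∈ Ψ → q ∈ Ψ → (n : ℤ) ≤ lam (D.P.root p) → (n : ℤ) ≤ lam (D.P.root q) →
      ∀ x y, RedCell16.comm D p q x y ∈ RedCell16.gens D R₂ X := fun X p q hp hq hp' hq' x y => by
    obtain ⟨i, j, C, -, hC, hc⟩ := RedCell16.exists_comm_coeff D eneg epos hneg' hpos' p q (hb hp) (hb hq)
    rw [hc]
    refine RedCell16.rp_mem_gens_of_supp D _ _ fun l => ?_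
    by_cases hcb : RedCell16.IsComb D p q (epos l) (i l) (j l)
    · refine Or.inl ⟨PMor16.comb_mem_of_closed D hcl p q _ _ _ hp hq hcb, ?_⟩
      rw [hcb.2.2, map_add, map_zsmul, map_zsmul, smul_eq_mul, smul_eq_mul]
      have h1 : (1 : ℤ) ≤ i l := by exact_mod_cast hcb.1
      have h2 : (1 : ℤ) ≤ j l := by exact_mod_cast hcb.2.1
      have hn' : (1 : ℤ) ≤ n := by exact_mod_cast hn
      nlinarith
    · exact Or.inr (by rw [hC X l hcb, zero_mul, zero_mul])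
  have hnorm : ∀ (X : Over S) (g w : X ⟶ G), g ∈ RedCell16.gens D R₁ X → w ∈ RedCell16.gens D R₂ X →
      g * w * g⁻¹ ∈ RedCell16.gens D R₂ X := fun X g w hg hw => by
    have hP : ∀ p ∈ R₁, ∀ (x : Γ(X.left, ⊤)) (w : X ⟶ G), w ∈ RedCell16.gens D R₂ X →
        RankOne.P (D.u p) x * w * (RankOne.P (D.u p) x)⁻¹ ∈ RedCell16.gens D R₂ X := fun p hp x w hw => by
      refine RedCell16.conj_gens D _ _ (fun q hq y => ?_) hw
      rw [show RankOne.P (D.u p) x * RankOne.P (D.u q) y * (RankOne.P (D.u p) x)⁻¹ =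
        RedCell16.comm D p q x y * RankOne.P (D.u q) y by simp only [RedCell16.comm]; group]
      exact mul_mem (hcomm X p q hp.1 hq.1 hp.2 (h21 hq).2 x y) (RedCell16.P_mem_gens D hq y)
    refine (Subgroup.closure_induction (p := fun g _ =>
        (∀ w, w ∈ RedCell16.gens D R₂ X → g * w * g⁻¹ ∈ RedCell16.gens D R₂ X) ∧
        (∀ w, w ∈ RedCell16.gens D R₂ X → g⁻¹ * w * g⁻¹⁻¹ ∈ RedCell16.gens D R₂ X))
      ?_ ⟨fun w hw => by simpa using hw, fun w hw => by simpa using hw⟩ ?_ ?_ hg).1 w hw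
    · rintro _ ⟨p, x, hp, rfl⟩
      haveI := (D.rootHom p).1
      exact ⟨hP p hp x, fun w hw => by rw [← RankOne.P_neg]; exact hP p hp (-x) w hw⟩
    · intro g g' _ _ ih ih'
      refine ⟨fun w hw => ?_, fun w hw => ?_⟩
      · rw [show g * g' * w * (g * g')⁻¹ = g * (g' * w * g'⁻¹) * g⁻¹ by group]
        exact ih.1 _ (ih'.1 w hw)
      · rw [show (g * g')⁻¹ * w * (g * g')⁻¹⁻¹ = g'⁻¹ * (g⁻¹ * w * g⁻¹⁻¹) * g'⁻¹⁻¹ by group]
        exact ih'.2 _ (ih.2 w hw)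
    · intro g _ ih
      exact ⟨ih.2, fun w hw => by rw [_root_.inv_inv]; exact ih.1 w hw⟩
  obtain ⟨f, hf⟩ := (hm₁ U₂ v₂).2 (RedCell16.gens_mono D h21 _ ((hm₂ U₂ v₂).1 ⟨𝟙 _, Category.id_comp _⟩))
  haveI hfm : IsMonHom f := TorsorSch25.isMonHom_of_points f fun X x y => by
    rw [← cancel_mono v₁]; simp only [MonObj.mul_comp, Category.assoc, hf]
  refine ⟨⟨f, hf, hfm, fun T g x => ?_⟩, fun a c ha hc ha' hc' X x y => ?_, fun {m} e he => ?_⟩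
  · obtain ⟨w, hw⟩ := (hm₂ T _).2 (hnorm T _ _ ((hm₁ T (g ≫ v₁)).1 ⟨g, rfl⟩) ((hm₂ T (x ≫ v₂)).1 ⟨x, rfl⟩))
    refine ⟨w, ?_⟩
    rw [← cancel_mono v₁, MonObj.mul_comp, MonObj.mul_comp, GrpObj.inv_comp, Category.assoc, hf, Category.assoc, hf, hw]
  · obtain ⟨w, hw⟩ := (hm₂ X _).2 (hcomm X a c ha hc ha'.ge hc'.ge (Red.gaFn x) (Red.gaFn y))
    refine ⟨w, ?_⟩
    rw [hw, RankOne.comp_eq_P (D.u a) x, RankOne.comp_eq_P (D.u c) y]
  · let ea : Fin (m + k₂) → D.idx := Fin.append e e₂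
    have hea : RedSub.Enumerates R₁ ea := by
      have hmem : ∀ l, e l ∈ Ψ ∧ lam (D.P.root (e l)) = n := fun l => (Set.ext_iff.1 he.2 _).1 ⟨l, rfl⟩
      refine ⟨Fin.append_injective_iff.2 ⟨he.1, he₂.1, fun i l h => ?_⟩, ?_⟩
      · have h1 : lam (D.P.root (e i)) = n := (hmem i).2
        have h2 : (n : ℤ) + 1 ≤ lam (D.P.root (e₂ l)) := (he₂.2 ▸ Set.mem_range_self l : e₂ l ∈ R₂).2
        rw [h] at h1; omega
      · rw [Set.range_eq_iff]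
        refine ⟨fun i => ?_, fun a ha => ?_⟩
        · refine Fin.addCases (fun l => ?_) (fun l => ?_) i
          · rw [show ea (Fin.castAdd k₂ l) = e l from Fin.append_left _ _ l]
            exact ⟨(hmem l).1, (hmem l).2.ge⟩
          · rw [show ea (Fin.natAdd m l) = e₂ l from Fin.append_right _ _ l]
            exact h21 (he₂.2 ▸ Set.mem_range_self l : e₂ l ∈ R₂)
        · by_cases h : lam (D.P.root a) = n
          · obtain ⟨l, rfl⟩ : a ∈ Set.range e := he.2.symm ▸ ⟨ha.1, h⟩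
            exact ⟨_, Fin.append_left _ _ l⟩
          · obtain ⟨l, rfl⟩ : a ∈ Set.range e₂ := he₂.2.symm ▸ ⟨ha.1, by have := ha.2; omega⟩
            exact ⟨_, Fin.append_right _ _ l⟩
    let q : RedSub.pow (Red.Ga S) m ⊗ U₂ ⟶ G :=
      (fst _ _ ≫ RedSub.prodMap (Red.Ga S) m (fun k => D.u (e k))) * (snd _ _ ≫ v₂)
    have hq : ∀ (X : Over S) (d : X ⟶ RedSub.pow (Red.Ga S) m ⊗ U₂), d ≫ q =
        RedCell16.rp D ea (Fin.append (AttrBorel21.powFn m (d ≫ fst _ _)) (AttrBorel21.powFn k₂ ((d ≫ snd _ _) ≫ ψ₂.inv))) := by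
      intro X d
      have hz : d ≫ snd _ _ ≫ v₂ = RedCell16.rp D e₂ (AttrBorel21.powFn k₂ ((d ≫ snd _ _) ≫ ψ₂.inv)) := by
        rw [← PMor16.comp_prodMap, ← hψ₂, Category.assoc, Category.assoc, Iso.inv_hom_id_assoc]
      rw [MonObj.comp_mul, hz, ← Category.assoc d (fst _ _), PMor16.comp_prodMap, RedCell16.rp_append]
      congr 2 <;> funext i <;> simp
    haveI : Mono q := ⟨fun d d' h => by
      rw [hq, hq] at h
      have h1 := PMor16.rp_inj_closed D R₁ hcl₁ hb₁ ea hea _ _ h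
      refine CartesianMonoidalCategory.hom_ext _ _ ?_ ((cancel_mono ψ₂.inv).1 ?_)
      · rw [← AttrBorel21.powPt_powFn m (d ≫ fst _ _), ← AttrBorel21.powPt_powFn m (d' ≫ fst _ _)]
        congr 1; funext i; simpa using congrFun h1 (Fin.castAdd k₂ i)
      · rw [← AttrBorel21.powPt_powFn k₂ ((d ≫ snd _ _) ≫ ψ₂.inv), ← AttrBorel21.powPt_powFn k₂ ((d' ≫ snd _ _) ≫ ψ₂.inv)]
        congr 1; funext i; simpa using congrFun h1 (Fin.natAdd m i)⟩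
    obtain ⟨fq, hfq⟩ := (hm₁ _ q).2 (by
      rw [← Category.id_comp q, hq]; exact RedCell16.rp_mem_gens D _ _ fun l => hea.2 ▸ Set.mem_range_self l)
    obtain ⟨z, hz⟩ := (PMor16.factor_closed D R₁ hcl₁ hb₁ ea hea v₁).2 ((hm₁ U₁ v₁).1 ⟨𝟙 _, Category.id_comp _⟩)
    let zz := AttrBorel21.powFn (m + k₂) z
    let gq : U₁ ⟶ RedSub.pow (Red.Ga S) m ⊗ U₂ :=
      lift (AttrBorel21.powPt m fun i => zz (Fin.castAdd k₂ i)) (AttrBorel21.powPt k₂ (fun i => zz (Fin.natAdd m i)) ≫ ψ₂.hom)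
    have hgq : gq ≫ q = v₁ := by
      rw [hq, ← hz, PMor16.comp_prodMap]
      congr 1
      simp only [gq, lift_fst, lift_snd, Category.assoc, Iso.hom_inv_id, Category.comp_id, AttrBorel21.powFn_powPt]
      exact Fin.append_castAdd_natAdd
    exact PMor16.exists_iso_of_mono q v₁ fq hfq gq hgq

end Groth.Agent.S16652
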