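import Groth.Statements.S16663
import Groth.Agent.Lib.Conn3.Basic

set_option autoImplicit false
universe v u
open TensorProduct
open Conn

namespace Groth.Agent.S16663

/-- Let B be an A-algebra with a receptacle of differentials (Ω, δ), Ω a finite free B-module (the local
form of a weakly smooth scheme), and let M be a finitely ℤ-graded B-module presented as a finite
family of finite free B-modules M_i with integer degrees deg i (the local form of a graded vector
bundle), with total module Π_i M_i. Let ∇ be a connection on Π_i M_i preserving the grading, in the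
sense that (pr_j ⊗ 1)(∇(ι_i m)) = 0 for m ∈ M_i whenever deg i ≠ deg j, and let ∇_E be the induced
connection on the B-linear endomorphisms, the one with (ev_m ⊗ 1)(∇_E φ) = ∇(φ m) − (φ ⊗ 1)(∇ m).
Give B the connection b ↦ 1 ⊗ δ b. Then the supertrace, φ ↦ tr(ε ∘ φ) with ε = Σ_i (−1)^{deg i} ι_i
∘ pr_i the grading involution, is a horizontal map End_B(Π_i M_i) → B. -/
theorem result {A : Type v} {B Ω ι : Type u}
    [CommRing A] [CommRing B] [Algebra A B]
    [AddCommGroup Ω] [Module B Ω] [Module A Ω] [IsScalarTower A B Ω] [Module.Finite B Ω] [Module.Free B Ω]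
    [Fintype ι] [DecidableEq ι] (deg : ι → ℤ) (M : ι → Type u)
    [∀ i, AddCommGroup (M i)] [∀ i, Module B (M i)] [∀ i, Module A (M i)] [∀ i, IsScalarTower A B (M i)]
    [∀ i, Module.Free B (M i)] [∀ i, Module.Finite B (M i)]
    (δ : Derivation A B Ω) (nabla : (Π k, M k) →ₗ[A] (Π k, M k) ⊗[B] Ω) (hc : Conn.IsConn δ nabla)
    (hgr : ∀ i j : ι, deg i ≠ deg j → ∀ m : M i,
      TensorProduct.map (LinearMap.proj j : (Π k, M k) →ₗ[B] M j) LinearMap.id (nabla (LinearMap.single B M i m)) = 0)
    (nablaE : ((Π k, M k) →ₗ[B] (Π k, M k)) →ₗ[A] ((Π k, M k) →ₗ[B] (Π k, M k)) ⊗[B] Ω)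
    (hE : Conn.IsHomConn nabla nabla nablaE) :
    Conn.IsHorizontal nablaE (Conn.triv δ)
      (LinearMap.trace B (Π k, M k) ∘ₗ LinearMap.llcomp B (Π k, M k) (Π k, M k) (Π k, M k)
        (∑ i : ι, (LinearMap.single B M i) ∘ₗ (((-1 : B) ^ (deg i).natAbs) • (LinearMap.proj i : (Π k, M k) →ₗ[B] M i)))) := by
  classical
  let ε : (Π k, M k) →ₗ[B] (Π k, M k) :=
    ∑ i : ι, (LinearMap.single B M i) ∘ₗ (((-1 : B) ^ (deg i).natAbs) • (LinearMap.proj i : (Π k, M k) →ₗ[B] M i))
  have hε : ∀ x j, ε x j = ((-1 : B) ^ (deg j).natAbs) • x j := fun x j => by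
    simp only [ε, LinearMap.coe_sum, Finset.sum_apply, LinearMap.comp_apply, LinearMap.smul_apply, LinearMap.proj_apply,
      LinearMap.single_apply, Pi.single_apply, Finset.sum_ite_eq, Finset.mem_univ, if_true]
    rw [Finset.sum_eq_single j (fun i _ hi => Pi.single_eq_of_ne (Ne.symm hi) _) (fun h => (h (Finset.mem_univ j)).elim),
      Pi.single_eq_same]
  refine Conn3.isHorizontal_of_along fun θ g => ?_
  rw [LinearMap.comp_apply, LinearMap.comp_apply, Conn3.along_triv, ← Conn3.trace_along hc hE]
  congr 1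
  refine LinearMap.ext fun x => ?_
  simp only [LinearMap.llcomp_apply]
  change Conn.along nablaE θ (ε ∘ₗ g) x = ε (Conn.along nablaE θ g x)
  rw [Conn3.along_hom hE, Conn3.along_hom hE, map_sub, LinearMap.comp_apply, LinearMap.comp_apply]
  congr 1
  have hδ : ∀ n : ℕ, δ ((-1 : B) ^ n) = 0 := fun n => by
    induction n with
    | zero => rw [pow_zero, Derivation.map_one_eq_zero]
    | succ m ih => rw [pow_succ, Derivation.leibniz, ih, map_neg, Derivation.map_one_eq_zero, neg_zero, smul_zero, smul_zero, add_zero]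
  funext j
  have hy : ∀ y : Π k, M k, y = ∑ i, LinearMap.single B M i (y i) := fun y =>
    (Finset.univ_sum_single y).symm
  have h0 : ∀ i m, deg i ≠ deg j → Conn.along nabla θ (LinearMap.single B M i m) j = 0 := fun i m hne => by
    have := congrArg (Conn3.ctr θ) (hgr i j hne m)
    rw [Conn3.ctr_map, map_zero] at this
    exact this
  conv_lhs => rw [hy (ε (g x))]
  rw [hε]
  conv_rhs => rw [hy (g x)]
  simp only [map_sum, Finset.sum_apply, Finset.smul_sum]
  refine Finset.sum_congr rfl fun i _ => ?_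
  rw [hε, map_smul, Conn3.along_conn hc, hδ, map_zero, zero_smul, add_zero, Pi.smul_apply]
  by_cases hd : deg i = deg j
  · rw [hd]
  · rw [h0 i _ hd, smul_zero, smul_zero]

end Groth.Agent.S16663
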