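import Groth.Statements.S16667
import Groth.Agent.Lib.CDivLib.Alg

set_option autoImplicit false
universe u
open CAlg

namespace Groth.Agent.S16667

/-- Let A be a Noetherian integral domain satisfying Serre's condition (S_2), with fraction field K. An
element of K which lies in the localization A_p for every prime p of A with depth(A_p) = 1 lies in
A. -/
theorem result {A : Type u} [CommRing A] [IsDomain A]
    [IsNoetherianRing A] (hS2 : LocCoh.HasSk 2 A A) (x : FractionRing A)
    (hx : ∀ (p : Ideal A) [p.IsPrime],
      LocCoh.depth (Localization.AtPrime p) (Localization.AtPrime p) = 1 →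
        x ∈ Set.range (algebraMap (Localization.AtPrime p) (FractionRing A))) :
    x ∈ Set.range (algebraMap A (FractionRing A)) := by
  obtain ⟨a, b, rfl⟩ := IsLocalization.exists_mk'_eq (nonZeroDivisors A) x
  by_cases hdvd : (b : A) ∣ a
  · obtain ⟨c, rfl⟩ := hdvd
    exact ⟨c, (IsLocalization.eq_mk'_iff_mul_eq.2 (by rw [← map_mul, mul_comm]))⟩
  · exfalso
    let I : Ideal A := (Ideal.span {(b : A)}).colon {a}
    have hI : ∀ {s : A}, s ∈ I ↔ (b : A) ∣ s * a := by
      intro s
      simp only [I, Submodule.mem_colon_singleton, smul_eq_mul, Ideal.mem_span_singleton]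
    have hne : I ≠ ⊤ := fun h => hdvd (by simpa using (hI.1 (h ▸ Submodule.mem_top : (1 : A) ∈ I)))
    obtain ⟨m, hm, hIm⟩ := Ideal.exists_le_maximal I hne
    haveI := hm.isPrime
    obtain ⟨q, hq, -, hqn, hqd⟩ := Groth.Agent.CDivLib.exists_prime_depth_one_of_not_dvd m a b
      (nonZeroDivisors.coe_ne_zero b) (fun s hs hd => hs (hIm (hI.2 hd)))
    obtain ⟨y, hy⟩ := hx q (hqd (Localization.AtPrime q) inferInstance)
    obtain ⟨r, s, rfl⟩ := IsLocalization.exists_mk'_eq q.primeCompl y
    refine hqn s.1 s.2 ⟨r, ?_⟩
    apply IsFractionRing.injective A (FractionRing A)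
    have h1 : algebraMap (Localization.AtPrime q) (FractionRing A) (IsLocalization.mk' _ r s) *
        algebraMap A (FractionRing A) s = algebraMap A (FractionRing A) r := by
      rw [IsScalarTower.algebraMap_apply A (Localization.AtPrime q) (FractionRing A) s.1, ← map_mul,
        IsLocalization.mk'_spec, ← IsScalarTower.algebraMap_apply]
    rw [hy] at h1
    rw [map_mul, map_mul, ← h1, ← mul_assoc, mul_comm (algebraMap A (FractionRing A) (b : A)) _,
      IsLocalization.mk'_spec, mul_comm]

end Groth.Agent.S16667
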