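import Groth.Statements.S16668
import Groth.Agent.Lib.Hartogs3.Normal
import Groth.Agent.Lib.Hartogs3.Scheme
import Groth.Agent.Lib.QReg3.InfPow
import Groth.Agent.Lib.SerreCrit.Basic
import Mathlib
-- import your own Groth.Agent.* helpers here

set_option autoImplicit false
universe u
open CategoryTheory AlgebraicGeometry
open Lef

namespace Groth.Agent.S16668

/-- Let A be an excellent normal domain, J the radical ideal of A whose zero set is the set of
non-regular points of Spec A, and p a prime ideal of A generated by an A-regular sequence, such that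
A/p is normal and ht(p) + ht(J) ≤ ht(p + J). Let U be an open subset of Spec A which contains every
regular point of V(p) and whose complement consists of points of height at least 2. Then for every m
≥ 1 the restriction map from Γ(Spec(A/p^m), O) to the sections of O over the inverse image of U in
Spec(A/p^m) is bijective. (The published lemma asserts the corresponding bijection after p-adic
completion, for every finitely generated reflexive A-module in place of A; stated here, for A
itself, is the bijection at each finite level m which its proof establishes.) -/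
theorem result
    (A : Type u) [CommRing A] [IsDomain A] [IsIntegrallyClosed A] (hA : EGA4.IsExcellent A)
    (J : Ideal A) (hJrad : J.IsRadical)
    (hJ : ∀ x : PrimeSpectrum A, J ≤ x.asIdeal ↔ x ∉ EGA4.regLocus A)
    (p : Ideal A) [p.IsPrime] (rs : List A) (hrs : RingTheory.Sequence.IsRegular A rs)
    (hp : Ideal.ofList rs = p) (hnorm : IsIntegrallyClosed (A ⧸ p))
    (hht : p.height + J.height ≤ (p ⊔ J).height)
    (U : (Spec (CommRingCat.of A)).Opens)
    (hUreg : ∀ x : PrimeSpectrum A, p ≤ x.asIdeal → x ∈ EGA4.regLocus A → x ∈ U.1)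
    (hUcodim : ∀ x : PrimeSpectrum A, x ∉ U.1 → (2 : ℕ∞) ≤ x.asIdeal.height)
    (m : ℕ) (hm : 1 ≤ m) :
    Function.Bijective ((Spec (CommRingCat.of (A ⧸ p ^ m))).presheaf.map
      (homOfLE (le_top : Spec.map (CommRingCat.ofHom (Ideal.Quotient.mk (p ^ m))) ⁻¹ᵁ U ≤ ⊤)).op).hom := by
  haveI : IsNoetherianRing A := hA.1
  -- the regular sequence as a family
  let c := rs.length
  let f : Fin c → A := rs.get
  have hof : List.ofFn f = rs := List.ofFn_get rs
  have hspan : Ideal.span (Set.range f) = p := by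
    rw [← hp, Ideal.ofList]; congr 1; ext a; simp only [Set.mem_range, Set.mem_setOf_eq]
    exact List.mem_iff_get.symm
  have hqr : CAlgX.IsQuasiRegular f :=
    QReg.isQuasiRegular_of_isH1Regular (QReg.isH1Regular_of_isWeaklyRegular f (by rw [hof]; exact hrs.toIsWeaklyRegular))
  -- every point of height at most one is regular
  have hregle : ∀ x : PrimeSpectrum A, J ≤ x.asIdeal → (2 : ℕ∞) ≤ x.asIdeal.height := by
    intro x hx
    by_contra hh
    apply (hJ x).1 hx
    show IsRegularLocalRing (Localization.AtPrime x.asIdeal)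
    haveI : IsIntegrallyClosed (Localization.AtPrime x.asIdeal) :=
      isIntegrallyClosed_of_isLocalization _ x.asIdeal.primeCompl x.asIdeal.primeCompl_le_nonZeroDivisors
    refine SerreCrit.isRegularLocalRing_of_normal _ ?_
    rw [IsLocalization.AtPrime.ringKrullDim_eq_height x.asIdeal]
    have : x.asIdeal.height ≤ 1 := Order.le_of_lt_add_one (by simpa [one_add_one_eq_two] using not_le.1 hh)
    exact_mod_cast this
  have hJ2 : (2 : ℕ∞) ≤ J.height := by
    rw [J.height_eq_inf_minimalPrimes]
    exact le_iInf₂ fun P hP => hregle ⟨P, hP.1.1⟩ hP.1.2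
  have hpc : (c : ℕ∞) ≤ p.height := by
    have hmem : ∀ r ∈ rs, r ∈ p := fun r hr => hp ▸ Ideal.subset_span hr
    have hreg := hrs.toIsWeaklyRegular.isRegular_of_isLocalization_of_mem (Localization.AtPrime p) p hmem
    have hd := ringKrullDim_add_length_eq_ringKrullDim_of_isRegular _ hreg
    rw [List.length_map, ← Ideal.map_ofList, hp, IsLocalization.AtPrime.map_eq_maximalIdeal p] at hd
    letI := Ideal.Quotient.field (IsLocalRing.maximalIdeal (Localization.AtPrime p))
    rw [ringKrullDim_eq_zero_of_field, zero_add, IsLocalization.AtPrime.ringKrullDim_eq_height p] at hd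
    exact_mod_cast hd.le
  -- the complement of `U` in `V(p)` has codimension at least two
  let q := Ideal.Quotient.mk p
  let Zc : Set (PrimeSpectrum (A ⧸ p)) := PrimeSpectrum.comap q ⁻¹' (U.1)ᶜ
  have hZc : IsClosed Zc := U.2.isClosed_compl.preimage (PrimeSpectrum.continuous_comap q)
  let I := PrimeSpectrum.vanishingIdeal Zc
  have hI : ∀ P : Ideal (A ⧸ p), P.IsPrime → I ≤ P → (2 : ℕ∞) ≤ P.height := by
    intro P hP hIP
    have hPZ : (⟨P, hP⟩ : PrimeSpectrum (A ⧸ p)) ∈ Zc := by
      have : (⟨P, hP⟩ : PrimeSpectrum (A ⧸ p)) ∈ PrimeSpectrum.zeroLocus (I : Set (A ⧸ p)) := hIP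
      rwa [PrimeSpectrum.zeroLocus_vanishingIdeal_eq_closure, hZc.closure_eq] at this
    let x := PrimeSpectrum.comap q ⟨P, hP⟩
    have hpx : p ≤ x.asIdeal := fun a ha => by
      show q a ∈ P
      rw [Ideal.Quotient.eq_zero_iff_mem.2 ha]; exact P.zero_mem
    have hJx : J ≤ x.asIdeal := (hJ x).2 fun hr => hPZ (hUreg x hpx hr)
    have h1 : (c : ℕ∞) + 2 ≤ x.asIdeal.height :=
      ((add_le_add hpc hJ2).trans hht).trans (Ideal.height_mono (sup_le hpx hJx))
    have h2 := Ideal.height_le_height_add_spanFinrank_of_le hpx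
    have h3 : x.asIdeal.map q = P := Ideal.map_comap_of_surjective q Ideal.Quotient.mk_surjective P
    have h4 : p.spanFinrank ≤ c := by
      rw [← hspan]
      refine (Submodule.spanFinrank_span_le_ncard_of_finite (Set.finite_range f)).trans ?_
      rw [← Nat.card_coe_set_eq]
      exact (Finite.card_range_le f).trans (by simp)
    rw [h3] at h2
    have h5 := h1.trans (h2.trans (add_le_add le_rfl (Nat.cast_le.2 h4)))
    rw [add_comm (c : ℕ∞) 2] at h5
    exact (WithTop.add_le_add_iff_right (ENat.coe_ne_top c)).1 h5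
  obtain ⟨x', hx', y', hy', hxreg, hyreg⟩ := Hartogs3.exists_pair I
    (fun P _ => ⟨IsLocalization.isDomain_localization P.primeCompl_le_nonZeroDivisors,
      isIntegrallyClosed_of_isLocalization _ P.primeCompl P.primeCompl_le_nonZeroDivisors⟩) hI
  obtain ⟨x, rfl⟩ := Ideal.Quotient.mk_surjective x'
  obtain ⟨y, rfl⟩ := Ideal.Quotient.mk_surjective y'
  -- regularity of the pair on all thickenings
  have hev : ∀ (n : ℕ) (Q : MvPolynomial (Fin c) A) (T : Ideal A), Q.IsHomogeneous n →
      (∀ d, Q.coeff d ∈ T) → MvPolynomial.eval f Q ∈ T * p ^ n := by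
    intro n Q T hQ hT
    rw [Q.as_sum, map_sum]
    refine sum_mem fun d hd => ?_
    rw [MvPolynomial.eval_monomial]
    refine Ideal.mul_mem_mul (hT d) ?_
    have hm : (MvPolynomial.monomial d (1 : A)).IsHomogeneous n := MvPolynomial.isHomogeneous_monomial _
      ((DFunLike.congr_fun Finsupp.degree_eq_weight_one d).trans (hQ (MvPolynomial.mem_support_iff.mp hd)))
    have := QReg3.eval_mem_pow f hm
    rwa [hspan, MvPolynomial.eval_monomial, one_mul] at this
  have key : ∀ n : ℕ, (∀ a, x * a ∈ p ^ n → a ∈ p ^ n) ∧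
      ∀ z, y * z ∈ Ideal.span {x} ⊔ p ^ n → z ∈ Ideal.span {x} ⊔ p ^ n := by
    intro n
    induction n with
    | zero => simp
    | succ n ih =>
      have first : ∀ a, x * a ∈ p ^ (n + 1) → a ∈ p ^ (n + 1) := by
        intro a ha
        have h0 := ih.1 a (Ideal.pow_le_pow_right n.le_succ ha)
        rw [← hspan] at h0
        obtain ⟨Q, hQ, rfl⟩ := QReg.exists_homogeneous_of_mem_pow h0
        have hc := hqr n _ (hQ.C_mul x) (by rw [map_mul, MvPolynomial.eval_C, hspan]; exact ha)
        rw [pow_succ']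
        refine hev n Q p hQ fun d => ?_
        have h1 := hc d
        rw [MvPolynomial.coeff_C_mul, hspan, ← Ideal.Quotient.eq_zero_iff_mem, map_mul] at h1
        exact Ideal.Quotient.eq_zero_iff_mem.1 (hxreg _ h1)
      refine ⟨first, fun z hz => ?_⟩
      obtain ⟨u, hu, w, hw, huw⟩ := Submodule.mem_sup.1
        (ih.2 z ((sup_le_sup (le_refl (Ideal.span {x})) (Ideal.pow_le_pow_right (I := p) n.le_succ) : Ideal.span {x} ⊔ p ^ (n + 1) ≤ Ideal.span {x} ⊔ p ^ n) hz))
      obtain ⟨e₁, rfl⟩ := Ideal.mem_span_singleton.1 hu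
      obtain ⟨u', hu', e, he, hue⟩ := Submodule.mem_sup.1 hz
      obtain ⟨e₂, rfl⟩ := Ideal.mem_span_singleton.1 hu'
      have hd : e₂ - y * e₁ ∈ p ^ n := ih.1 _ (by
        rw [show x * (e₂ - y * e₁) = y * w - e by rw [← huw] at hue; linear_combination hue]
        exact Ideal.sub_mem _ (Ideal.mul_mem_left _ y hw) (Ideal.pow_le_pow_right n.le_succ he))
      rw [← hspan] at hw hd
      obtain ⟨F, hF, rfl⟩ := QReg.exists_homogeneous_of_mem_pow hw
      obtain ⟨G, hG, hGe⟩ := QReg.exists_homogeneous_of_mem_pow hd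
      have hc := hqr n (MvPolynomial.C y * F - MvPolynomial.C x * G) ((hF.C_mul y).sub (hG.C_mul x)) (by
        rw [map_sub, map_mul, map_mul, MvPolynomial.eval_C, MvPolynomial.eval_C, hGe, hspan,
          show y * MvPolynomial.eval f F - x * (e₂ - y * e₁) = e by rw [← huw] at hue; linear_combination -hue]
        exact he)
      have hFT : MvPolynomial.eval f F ∈ (Ideal.span {x} ⊔ p) * p ^ n := hev n F _ hF fun d => by
        have h1 := hc d
        rw [MvPolynomial.coeff_sub, MvPolynomial.coeff_C_mul, MvPolynomial.coeff_C_mul, hspan,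
          ← Ideal.Quotient.eq_zero_iff_mem, map_sub, map_mul, map_mul, sub_eq_zero] at h1
        obtain ⟨v, hv⟩ := hyreg _ (Dvd.intro _ h1.symm)
        obtain ⟨v, rfl⟩ := Ideal.Quotient.mk_surjective v
        rw [← map_mul, Ideal.Quotient.eq] at hv
        exact Submodule.mem_sup.2 ⟨x * v, Ideal.mem_span_singleton.2 (dvd_mul_right _ _), _, hv, add_sub_cancel _ _⟩
      rw [← huw]
      refine Submodule.add_mem _ (le_sup_left (a := Ideal.span {x}) (Ideal.mem_span_singleton.2 (dvd_mul_right _ _))) ?_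
      refine (?_ : (Ideal.span {x} ⊔ p) * p ^ n ≤ Ideal.span {x} ⊔ p ^ (n + 1)) hFT
      rw [Ideal.sup_mul, pow_succ']
      exact sup_le_sup_right Ideal.mul_le_left _
  -- conclude
  let U' := Spec.map (CommRingCat.ofHom (Ideal.Quotient.mk (p ^ m))) ⁻¹ᵁ U
  have hbasic : ∀ a : A, q a ∈ I → PrimeSpectrum.basicOpen (Ideal.Quotient.mk (p ^ m) a) ≤ U' := by
    intro a ha P hP
    show PrimeSpectrum.comap (Ideal.Quotient.mk (p ^ m)) P ∈ U.1
    by_contra hx
    let x₀ := PrimeSpectrum.comap (Ideal.Quotient.mk (p ^ m)) P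
    have hpx : p ≤ x₀.asIdeal := x₀.2.le_of_pow_le (n := m) (fun b hb => by
      show Ideal.Quotient.mk (p ^ m) b ∈ P.asIdeal
      rw [Ideal.Quotient.eq_zero_iff_mem.2 hb]; exact P.asIdeal.zero_mem)
    have hker : RingHom.ker q ≤ x₀.asIdeal := by rwa [Ideal.mk_ker]
    haveI : (x₀.asIdeal.map q).IsPrime := Ideal.map_isPrime_of_surjective Ideal.Quotient.mk_surjective hker
    have hc : (x₀.asIdeal.map q).comap q = x₀.asIdeal := by
      rw [Ideal.comap_map_of_surjective q Ideal.Quotient.mk_surjective, ← RingHom.ker_eq_comap_bot]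
      exact sup_eq_left.2 hker
    have hmem : (⟨x₀.asIdeal.map q, inferInstance⟩ : PrimeSpectrum (A ⧸ p)) ∈ Zc := by
      show PrimeSpectrum.comap q _ ∈ (U.1)ᶜ
      rwa [show PrimeSpectrum.comap q (⟨x₀.asIdeal.map q, inferInstance⟩ : PrimeSpectrum (A ⧸ p)) = x₀ from
        PrimeSpectrum.ext hc]
    have := (PrimeSpectrum.mem_vanishingIdeal _ _).1 ha _ hmem
    exact hP (show a ∈ x₀.asIdeal from hc ▸ this)
  refine Hartogs3.bijective_res U' _ _ (hbasic x hx') (hbasic y hy') ?_ ?_
  · rw [isSMulRegular_iff_right_eq_zero_of_smul]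
    intro a ha
    obtain ⟨a, rfl⟩ := Ideal.Quotient.mk_surjective a
    rw [smul_eq_mul, ← map_mul, Ideal.Quotient.eq_zero_iff_mem] at ha
    exact Ideal.Quotient.eq_zero_iff_mem.2 ((key m).1 a ha)
  · intro z hz
    obtain ⟨z, rfl⟩ := Ideal.Quotient.mk_surjective z
    obtain ⟨v, hv⟩ := hz
    obtain ⟨v, rfl⟩ := Ideal.Quotient.mk_surjective v
    rw [← map_mul, ← map_mul, Ideal.Quotient.eq] at hv
    obtain ⟨u, hu, w, hw, huw⟩ := Submodule.mem_sup.1 ((key m).2 z (Submodule.mem_sup.2
      ⟨x * v, Ideal.mem_span_singleton.2 (dvd_mul_right _ _), _, hv, add_sub_cancel _ _⟩))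
    rw [← huw, map_add, Ideal.Quotient.eq_zero_iff_mem.2 hw, add_zero]
    exact map_dvd _ (Ideal.mem_span_singleton.1 hu)

end Groth.Agent.S16668
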