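import Groth.Statements.S16671
import Groth.Agent.Lib.RefHull26.Dual
import Groth.Agent.Lib.RefHull26.Free
import Groth.Agent.Lib.RefHull26.Glue
import Groth.Agent.Lib.RefHull26.Pow
import Groth.Agent.Lib.FitGen26.Basic
import Groth.Agent.Lib.RelAmple18.Generation
import Groth.Agent.Lib.CohGab13.Basic
import Groth.Agent.Lib.CohFound.ModQuot
import Groth.Agent.Lib.CurveCoh17.Bases
import Groth.Agent.Lib.KFlat.Scheme
-- import your own Groth.Agent.* helpers here

set_option autoImplicit false
set_option linter.style.haveILetI false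
set_option backward.isDefEq.respectTransparency false
set_option backward.isDefEq.respectTransparency.types false
set_option maxHeartbeats 1600000
universe u
open CategoryTheory CategoryTheory.Limits AlgebraicGeometry
open Coh

namespace Groth.Agent.S16671

open scoped TensorProduct

section Alg

variable {R M N : Type u} [CommRing R] [IsDomain R] [IsNoetherianRing R] [AddCommGroup M] [Module R M]
  [Module.Finite R M] [AddCommGroup N] [Module R N]

/-- Generators of the functionals of a torsion-free module are jointly injective. -/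
theorem joint_injective (htf : ∀ (c : R) (v : M), c ≠ 0 → c • v = 0 → v = 0) (e : N ≃ₗ[R] R) {r : ℕ}
    (φ : Fin r → (M →ₗ[R] N)) (hφ : Submodule.span R (Set.range φ) = ⊤) {v : M} (hv : ∀ i, φ i v = 0) : v = 0 := by
  have h : ∀ ψ : Module.Dual R M, ψ v = 0 := fun ψ => by
    have hm : e.symm.toLinearMap.comp ψ ∈ Submodule.span R (Set.range φ) := hφ ▸ Submodule.mem_top
    obtain ⟨a, ha⟩ := (Submodule.mem_span_range_iff_exists_fun R).1 hm
    have := LinearMap.congr_fun ha v
    simp [hv] at this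
    exact (e.symm.map_eq_zero_iff.1 this.symm)
  obtain ⟨c, hc, hcv⟩ := RH26.exists_smul_eq_zero_of_forall_dual h
  exact htf c v hc hcv

/-- Generators of the functionals of a reflexive module give an embedding with torsion-free cokernel. -/
theorem saturated [Module.IsReflexive R M] (e : N ≃ₗ[R] R) {r : ℕ}
    (φ : Fin r → (M →ₗ[R] N)) (hφ : Submodule.span R (Set.range φ) = ⊤) {c : R} (hc : c ≠ 0) {m : M}
    {v : Fin r → N} (hv : ∀ i, c • v i = φ i m) : ∃ m', ∀ i, φ i m' = v i := by
  have hsp : ∀ ψ : Module.Dual R M, ∃ a : Fin r → R, ∑ i, a i • φ i = e.symm.toLinearMap.comp ψ := fun ψ =>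
    (Submodule.mem_span_range_iff_exists_fun R).1 (hφ ▸ Submodule.mem_top)
  choose a ha using hsp
  let w : Module.Dual R M → R := fun ψ => e (∑ i, a ψ i • v i)
  have hw : ∀ ψ, c * w ψ = ψ m := fun ψ => by
    rw [← smul_eq_mul, ← map_smul, Finset.smul_sum]
    have h1 := congrArg e (LinearMap.congr_fun (ha ψ) m)
    rw [LinearMap.sum_apply] at h1
    refine Eq.trans (congrArg e (Finset.sum_congr rfl fun i _ => ?_)) (h1.trans (e.apply_symm_apply _))
    rw [smul_comm, hv]
    rfl
  let W : Module.Dual R (Module.Dual R M) :=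
    { toFun := w
      map_add' := fun p q => mul_left_cancel₀ hc (by rw [mul_add, hw, hw, hw]; rfl)
      map_smul' := fun t p => mul_left_cancel₀ hc (by
        rw [hw, RingHom.id_apply, smul_eq_mul, mul_left_comm, hw]; rfl) }
  obtain ⟨m', hm'⟩ := (Module.bijective_dual_eval R M).2 W
  refine ⟨m', fun i => ?_⟩
  apply e.injective
  refine mul_left_cancel₀ hc ?_
  have h1 : e (φ i m') = w (e.toLinearMap.comp (φ i)) := LinearMap.congr_fun hm' (e.toLinearMap.comp (φ i))
  rw [h1, hw, ← smul_eq_mul c, ← map_smul, hv]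
  rfl

/-- Generators of the functionals of a free module give a split embedding. -/
theorem exists_retraction [Module.Free R M] (e : N ≃ₗ[R] R) {r : ℕ}
    (φ : Fin r → (M →ₗ[R] N)) (hφ : Submodule.span R (Set.range φ) = ⊤) :
    ∃ ρ : (Fin r → N) →ₗ[R] M, ∀ m, ρ (fun i => φ i m) = m := by
  let b := Module.Free.chooseBasis R M
  have hsp : ∀ j, ∃ a : Fin r → R, ∑ i, a i • φ i = e.symm.toLinearMap.comp (b.coord j) := fun j =>
    (Submodule.mem_span_range_iff_exists_fun R).1 (hφ ▸ Submodule.mem_top)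
  choose a ha using hsp
  refine ⟨∑ j, (LinearMap.toSpanSingleton R M (b j)).comp
    (∑ i, a j i • e.toLinearMap.comp (LinearMap.proj i)), fun m => ?_⟩
  simp only [LinearMap.sum_apply, LinearMap.comp_apply, LinearMap.smul_apply, LinearMap.toSpanSingleton_apply,
    LinearMap.proj_apply, LinearEquiv.coe_coe]
  conv_rhs => rw [← b.sum_repr m]
  refine Finset.sum_congr rfl fun j _ => ?_
  congr 1
  have := congrArg e (LinearMap.congr_fun (ha j) m)
  simpa using this

end Alg

variable {X : Scheme.{u}}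

theorem sm_zero {A B : X.Modules} (x : X) : RefHull.stalkMapₗ (0 : A ⟶ B) x = 0 := by
  refine LinearMap.ext fun v => ?_
  obtain ⟨V, hV, m, rfl⟩ := A.presheaf.exists_germ_eq v
  rw [RefHull.stalkMapₗ_germ]
  exact map_zero _

theorem sm_add {A B : X.Modules} (φ ψ : A ⟶ B) (x : X) :
    RefHull.stalkMapₗ (φ + ψ) x = RefHull.stalkMapₗ φ x + RefHull.stalkMapₗ ψ x := by
  refine LinearMap.ext fun v => ?_
  obtain ⟨V, hV, m, rfl⟩ := A.presheaf.exists_germ_eq v
  rw [LinearMap.add_apply, RefHull.stalkMapₗ_germ, RefHull.stalkMapₗ_germ, RefHull.stalkMapₗ_germ, ← map_add]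
  rfl

theorem sm_sum {A B : X.Modules} {ι : Type*} (s : Finset ι) (φ : ι → (A ⟶ B)) (x : X) :
    RefHull.stalkMapₗ (∑ i ∈ s, φ i) x = ∑ i ∈ s, RefHull.stalkMapₗ (φ i) x := by
  classical
  induction s using Finset.induction_on with
  | empty => rw [Finset.sum_empty, Finset.sum_empty, sm_zero]
  | insert i s hi ih => rw [Finset.sum_insert hi, Finset.sum_insert hi, sm_add, ih]

/-- The projection of a finite sum of copies. -/
noncomputable def prj (P : X.Modules) {r : ℕ} (i : Fin r) : (∐ fun _ : Fin r => P) ⟶ P :=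
  Sigma.desc fun j => if j = i then 𝟙 P else 0

theorem ι_prj (P : X.Modules) {r : ℕ} (i j : Fin r) :
    Sigma.ι (fun _ : Fin r => P) j ≫ prj P i = if j = i then 𝟙 P else 0 := by
  simp [prj]

theorem sum_prj (P : X.Modules) (r : ℕ) :
    (∑ i, prj P i ≫ Sigma.ι (fun _ : Fin r => P) i) = 𝟙 _ := by
  classical
  refine Sigma.hom_ext _ _ fun j => ?_
  rw [Preadditive.comp_sum, Category.comp_id, Finset.sum_eq_single j]
  · rw [← Category.assoc, ι_prj, if_pos rfl, Category.id_comp]
  · intro i _ hi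
    rw [← Category.assoc, ι_prj, if_neg (Ne.symm hi), zero_comp]
  · simp

theorem prj_decomp (P : X.Modules) {r : ℕ} (x : X) (a : ((∐ fun _ : Fin r => P) : X.Modules).presheaf.stalk x) :
    (∑ i, RefHull.stalkMapₗ (Sigma.ι (fun _ : Fin r => P) i) x (RefHull.stalkMapₗ (prj P i) x a)) = a := by
  have h := congrArg (fun φ => RefHull.stalkMapₗ φ x a) (sum_prj P r)
  simp only [sm_sum, LinearMap.sum_apply, RH26.stalkMapₗ_comp, LinearMap.comp_apply, RH26.stalkMapₗ_id',
    LinearMap.id_apply] at h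
  exact h

/-- The map into a finite sum given by components. -/
noncomputable def lift {A : X.Modules} (P : X.Modules) {r : ℕ} (φ : Fin r → (A ⟶ P)) : A ⟶ ∐ fun _ : Fin r => P :=
  ∑ i, φ i ≫ Sigma.ι (fun _ : Fin r => P) i

theorem lift_prj {A : X.Modules} (P : X.Modules) {r : ℕ} (φ : Fin r → (A ⟶ P)) (i : Fin r) :
    lift P φ ≫ prj P i = φ i := by
  classical
  rw [lift, Preadditive.sum_comp, Finset.sum_eq_single i]
  · rw [Category.assoc, ι_prj, if_pos rfl, Category.comp_id]
  · intro j _ hj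
    rw [Category.assoc, ι_prj, if_neg hj, comp_zero]
  · simp

theorem sm_lift_prj {A : X.Modules} (P : X.Modules) {r : ℕ} (φ : Fin r → (A ⟶ P)) (x : X) (v : A.presheaf.stalk x)
    (i : Fin r) : RefHull.stalkMapₗ (prj P i) x (RefHull.stalkMapₗ (lift P φ) x v) = RefHull.stalkMapₗ (φ i) x v := by
  rw [← LinearMap.comp_apply, ← RH26.stalkMapₗ_comp, lift_prj]

/-- A global section of the sheaf Hom is a morphism. -/
theorem exists_hom {A B : X.Modules} (g : Γ(RefHull.homSh A B, ⊤)) :
    ∃ φ : A ⟶ B, ∀ x, RefHull.stalkMapₗ φ x = g.1 ⟨x, trivial⟩ :=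
  RH26.exists_hom_of_stalkFamily A B (fun x => g.1 ⟨x, trivial⟩) fun V m x hx => by
    obtain ⟨W, hW, j, n, hn⟩ := RefHull.isLocSect_of_mem g V (homOfLE le_top) m ⟨x, hx⟩
    exact ⟨W, hW, j.le, n, fun y hy => (hn ⟨y, hy⟩).symm⟩

/-- Contraction of a functional with a section. -/
theorem exists_contract (A P : X.Modules) :
    ∃ μ : CohB1.tensorMod (RefHull.dual A) P ⟶ RefHull.homSh A P,
      ∀ (U : X.Opens) (θ : Γ(RefHull.dual A, U)) (s : Γ(P, U)) (x : X) (hx : x ∈ U) (v : A.presheaf.stalk x),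
        (μ.app U (M2.tsec (RefHull.dual A) P θ s)).1 ⟨x, hx⟩ v =
          (RH26.str x).symm (θ.1 ⟨x, hx⟩ v) • P.presheaf.germ U x hx s := by
  let f : ∀ U : X.Opens, Γ(RefHull.dual A, U) → Γ(P, U) → Γ(RefHull.homSh A P, U) := fun U θ s =>
    ⟨fun y => (((RH26.str y.1).symm.toLinearMap.comp (θ.1 y)).smulRight (P.presheaf.germ U y.1 y.2 s)),
      fun V i m x => by
        obtain ⟨W, hW, j, n, hn⟩ := RefHull.isLocSect_of_mem θ V i m x
        refine ⟨W, hW, j, (show Γ(X, W) from n) • P.presheaf.map (j ≫ i).op s, fun y => ?_⟩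
        have hstr : (RH26.str y.1).symm ((Coh.structureModule X).presheaf.germ W y.1 y.2 n) =
            X.presheaf.germ W y.1 y.2 (show Γ(X, W) from n) := by
          rw [LinearEquiv.symm_apply_eq, RH26.str_apply]
          have h1 : n = (show Γ(X, W) from n) • M1.one W := (mul_one (show Γ(X, W) from n)).symm
          conv_lhs => rw [h1]
          rw [M1.germ_smul]
          refine congrArg (fun z : (Coh.structureModule X).presheaf.stalk y.1 =>
            X.presheaf.germ W y.1 y.2 (show Γ(X, W) from n) • z) ?_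
          rw [Cyc26.oneStalk, ← M1.mres_one (le_top : W ≤ ⊤)]
          exact M1.germ_mres _ le_top y.2 _
        show (RH26.str y.1).symm (θ.1 ⟨y.1, i.le (j.le y.2)⟩ (A.presheaf.germ V y.1 (j.le y.2) m)) •
          P.presheaf.germ U y.1 (i.le (j.le y.2)) s = _
        rw [hn y, hstr, Mero.germ_smul, TopCat.Presheaf.germ_res_apply]⟩
  let b : M2.BiMap (RefHull.dual A) P (RefHull.homSh A P) :=
    { f := f
      add_left := fun U θ θ' s => Subtype.ext (funext fun y => LinearMap.ext fun v => by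
        show (RH26.str y.1).symm ((θ.1 y + θ'.1 y) v) • P.presheaf.germ U y.1 y.2 s =
          (RH26.str y.1).symm (θ.1 y v) • P.presheaf.germ U y.1 y.2 s + (RH26.str y.1).symm (θ'.1 y v) • P.presheaf.germ U y.1 y.2 s
        rw [LinearMap.add_apply, map_add, add_smul])
      smul_left := fun U c θ s => Subtype.ext (funext fun y => LinearMap.ext fun v => by
        show (RH26.str y.1).symm ((X.presheaf.germ U y.1 y.2 c • θ.1 y) v) • P.presheaf.germ U y.1 y.2 s =
          X.presheaf.germ U y.1 y.2 c • ((RH26.str y.1).symm (θ.1 y v) • P.presheaf.germ U y.1 y.2 s)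
        rw [LinearMap.smul_apply, map_smul, smul_eq_mul, mul_smul])
      add_right := fun U θ s s' => Subtype.ext (funext fun y => LinearMap.ext fun v => by
        show (RH26.str y.1).symm (θ.1 y v) • P.presheaf.germ U y.1 y.2 (s + s') =
          (RH26.str y.1).symm (θ.1 y v) • P.presheaf.germ U y.1 y.2 s + (RH26.str y.1).symm (θ.1 y v) • P.presheaf.germ U y.1 y.2 s'
        rw [map_add, smul_add])
      smul_right := fun U c θ s => Subtype.ext (funext fun y => LinearMap.ext fun v => by
        show (RH26.str y.1).symm (θ.1 y v) • P.presheaf.germ U y.1 y.2 (c • s) =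
          X.presheaf.germ U y.1 y.2 c • ((RH26.str y.1).symm (θ.1 y v) • P.presheaf.germ U y.1 y.2 s)
        rw [Mero.germ_smul, smul_comm])
      compat := fun {U V} h θ s => Subtype.ext (funext fun y => LinearMap.ext fun v => by
        show (RH26.str y.1).symm (θ.1 ⟨y.1, h y.2⟩ v) • P.presheaf.germ V y.1 y.2 (M2.res P h s) =
          (RH26.str y.1).symm (θ.1 ⟨y.1, h y.2⟩ v) • P.presheaf.germ U y.1 (h y.2) s
        refine congrArg (fun z : P.presheaf.stalk y.1 => (RH26.str y.1).symm (θ.1 ⟨y.1, h y.2⟩ v) • z) ?_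
        exact TopCat.Presheaf.germ_res_apply P.presheaf (homOfLE h) y.1 y.2 s) }
  exact ⟨M2.mkHom b, fun U θ s x hx v => by rw [M2.mkHom_tsec]; rfl⟩

/-- Finitely many maps to a power of an ample module generating all stalk functionals. -/
theorem exists_family [IsIntegral X] [IsNoetherian X] {L : X.Modules} (hL : CohB1.IsAmple L) {A : X.Modules}
    (hA : Coh.IsCoh A) :
    ∃ (q k : ℕ) (φ : Fin (k + 1) → (A ⟶ CohB1.tensorPow L q)), ∀ x : X,
      Submodule.span (X.presheaf.stalk x) (Set.range fun i => RefHull.stalkMapₗ (φ i) x) = ⊤ := by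
  have hD : Coh.IsCoh (RefHull.dual A) := RH26.isCoh_dual hA
  obtain ⟨q, hq⟩ := RA.exists_globallyGenerated hL (RefHull.dual A) hD.1 hD.2
  let P := CohB1.tensorPow L q
  have hP : PicF.IsInvertible P := M2.isInvertible_tensorPow hL.1 q
  have hT : Coh.IsCoh (CohB1.tensorMod (RefHull.dual A) P) :=
    CohFound.isCoh_tensor hD (CohFound.isCoh_of_isFinLocFree (M2.isFinLocFree_of_isInvertible hP))
  obtain ⟨k, p, hp⟩ := CohFound.exists_epi_freeMod hT (hq q le_rfl)
  obtain ⟨μ, hμ⟩ := exists_contract A P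
  let g : Fin k → Γ(RefHull.homSh A P, ⊤) := fun i =>
    (Sigma.ι (fun _ : Fin k => Coh.structureModule X) i ≫ p ≫ μ).app ⊤ (M1.one ⊤)
  choose φ₀ hφ₀ using fun i => exists_hom (g i)
  let φ : Fin (k + 1) → (A ⟶ P) := fun i => if h : i.1 < k then φ₀ ⟨i.1, h⟩ else 0
  refine ⟨q, k, φ, fun x => eq_top_iff.2 fun ψ _ => ?_⟩
  let S := Submodule.span (X.presheaf.stalk x)
    (Set.range fun i => RefHull.stalkMapₗ (φ i) x)
  let ev : (RefHull.homSh A P).presheaf.stalk x →ₗ[X.presheaf.stalk x] RefHull.StalkHom A P x :=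
    RefHull.evalStalk A P x
  -- everything coming from the free module is spanned
  have hfree : ∀ a, ev (RefHull.stalkMapₗ μ x (RefHull.stalkMapₗ p x a)) ∈ S := fun a => by
    rw [← prj_decomp (Coh.structureModule X) x a, map_sum, map_sum, map_sum]
    refine S.sum_mem fun i _ => ?_
    obtain ⟨c, hc⟩ := (RH26.str x).surjective
      (RefHull.stalkMapₗ (prj (Coh.structureModule X) i) x a)
    rw [← hc, RH26.str_apply, map_smul, map_smul, map_smul, map_smul]
    refine S.smul_mem c (Submodule.subset_span ⟨i.castSucc, ?_⟩)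
    show RefHull.stalkMapₗ (φ i.castSucc) x = _
    rw [show φ i.castSucc = φ₀ i from dif_pos i.2, hφ₀]
    show _ = ev _
    rw [← LinearMap.comp_apply (RefHull.stalkMapₗ μ x), ← RH26.stalkMapₗ_comp,
      ← LinearMap.comp_apply (RefHull.stalkMapₗ (p ≫ μ) x), ← RH26.stalkMapₗ_comp, Cyc26.oneStalk,
      RefHull.stalkMapₗ_germ]
    exact (RefHull.evalStalk_germ A P x (U := ⊤) trivial _).symm
  have hpsurj : Function.Surjective (RefHull.stalkMapₗ p x) := (M1.epi_iff_stalk p).1 hp x
  suffices h : ∃ t, ev (RefHull.stalkMapₗ μ x t) = ψ by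
    obtain ⟨t, rfl⟩ := h
    obtain ⟨a, rfl⟩ := hpsurj t
    exact hfree a
  obtain ⟨eP⟩ := CurveCoh17.nonempty_stalk_equiv ((M2.isInvertible_iff_isFinLocFreeOfRank_one _).1 hP) x
  let e : P.presheaf.stalk x ≃ₗ[X.presheaf.stalk x] X.presheaf.stalk x := eP ≪≫ₗ LinearEquiv.funUnique (Fin 1) _ _
  obtain ⟨θ, hθ⟩ := (RH26.evalStalk_bijective (M1.isFP_of_isCoh hA) (Coh.structureModule X) x).2
    (((RH26.str x).toLinearMap.comp e.toLinearMap).comp ψ)
  obtain ⟨U, hU, θ₀, rfl⟩ := (RefHull.dual A).presheaf.exists_germ_eq θ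
  obtain ⟨V, hV, s, hs⟩ := P.presheaf.exists_germ_eq (e.symm 1)
  let W := U ⊓ V
  let θ₁ := (RefHull.dual A).presheaf.map (homOfLE (inf_le_left : W ≤ U)).op θ₀
  let s₁ := P.presheaf.map (homOfLE (inf_le_right : W ≤ V)).op s
  refine ⟨(CohB1.tensorMod (RefHull.dual A) P).presheaf.germ W x ⟨hU, hV⟩ (M2.tsec (RefHull.dual A) P θ₁ s₁), ?_⟩
  rw [RefHull.stalkMapₗ_germ]
  show RefHull.evalStalk A P x _ = ψ
  rw [RefHull.evalStalk_germ]
  refine LinearMap.ext fun v => ?_
  rw [hμ W θ₁ s₁ x ⟨hU, hV⟩ v]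
  have h1 : θ₁.1 ⟨x, ⟨hU, hV⟩⟩ v = RH26.str x (e (ψ v)) := by
    rw [RefHull.evalStalk_germ] at hθ
    exact LinearMap.congr_fun hθ v
  rw [h1, LinearEquiv.symm_apply_apply]
  show e (ψ v) • P.presheaf.germ W x _ (P.presheaf.map _ s) = ψ v
  rw [TopCat.Presheaf.germ_res_apply, hs, ← map_smul, smul_eq_mul, mul_one, e.symm_apply_apply]

/-- The stalk of a component equivalence. -/
theorem stalk_gen {L : X.Modules} (hL : PicF.IsInvertible L) (q : ℕ) (x : X) :
    Nonempty ((CohB1.tensorPow L q).presheaf.stalk x ≃ₗ[X.presheaf.stalk x] X.presheaf.stalk x) := by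
  obtain ⟨eP⟩ := CurveCoh17.nonempty_stalk_equiv
    ((M2.isInvertible_iff_isFinLocFreeOfRank_one _).1 (M2.isInvertible_tensorPow hL q)) x
  exact ⟨eP ≪≫ₗ LinearEquiv.funUnique (Fin 1) _ _⟩

/-- Let k be a field, X an integral scheme locally of finite type over k carrying an ample invertible
module L, and E a coherent O_X-module all of whose stalks are reflexive. Then there are natural
numbers q, q', integers r, r' ≥ 1 and a coherent O_X-module E' with a short exact sequence 0 → E →
(L^q)^r → E' → 0 (tensor powers of L, direct sums of copies) and a monomorphism E' → (L^q')^r'; and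
E' is finite locally free whenever E is. (In the published statement X is an integral locally closed
subscheme of P^N_k, the sums are restrictions of O(m)^r with m any integer, and E is reflexive
coherent.) -/
theorem result (k : Type u) [Field k] (X : Scheme.{u})
    (f : X ⟶ Spec (CommRingCat.of k)) [LocallyOfFiniteType f] [IsIntegral X]
    (L : X.Modules) (hL : CohB1.IsAmple L) (E : X.Modules) (hE : Coh.IsCoh E)
    (hEr : ∀ x : X, Module.IsReflexive (X.presheaf.stalk x) (E.presheaf.stalk x)) :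
    ∃ (q r q' r' : ℕ) (E' : X.Modules) (ι : E ⟶ ∐ fun _ : Fin r => CohB1.tensorPow L q)
      (π : (∐ fun _ : Fin r => CohB1.tensorPow L q) ⟶ E') (w : ι ≫ π = 0)
      (ι' : E' ⟶ ∐ fun _ : Fin r' => CohB1.tensorPow L q'),
      1 ≤ r ∧ 1 ≤ r' ∧ (ShortComplex.mk ι π w).ShortExact ∧ Mono ι' ∧ Coh.IsCoh E' ∧
        (FlatMod.IsFinLocFree E → FlatMod.IsFinLocFree E') := by
  haveI : IsLocallyNoetherian X := LocallyOfFiniteType.isLocallyNoetherian f
  haveI : CompactSpace X := hL.2.1
  haveI : IsNoetherian X := {}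
  obtain ⟨q, k, φ, hφ⟩ := exists_family hL hE
  let P := CohB1.tensorPow L q
  let T : X.Modules := ∐ fun _ : Fin (k + 1) => P
  let Φ : E ⟶ T := lift P φ
  have hT : Coh.IsCoh T := CohGab13.isCoh_sigma
    (CohFound.isCoh_of_isFinLocFree (M2.isFinLocFree_of_isInvertible (M2.isInvertible_tensorPow hL.1 q))) _
  let E' := cokernel Φ
  have hE' : Coh.IsCoh E' := M1.isCoh_cokernel hE.1 hT Φ
  haveI := fun x => M1.finite_stalk hE.1 hE.2 x
  have htfE : ∀ (x : X) (c : X.presheaf.stalk x) (v : E.presheaf.stalk x), c ≠ 0 → c • v = 0 → v = 0 :=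
    fun x c v hc hv => by
      haveI := hEr x
      refine (Module.bijective_dual_eval (X.presheaf.stalk x) (E.presheaf.stalk x)).1 (LinearMap.ext fun ψ => ?_)
      rw [map_zero, LinearMap.zero_apply, Module.Dual.eval_apply]
      refine (mul_eq_zero.1 (?_ : c * ψ v = 0)).resolve_left hc
      rw [← smul_eq_mul, ← map_smul, hv, map_zero]
  have hinj : ∀ x, Function.Injective (RefHull.stalkMapₗ Φ x) := fun x => by
    rw [injective_iff_map_eq_zero]
    intro v hv
    obtain ⟨e⟩ := stalk_gen hL.1 q x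
    refine joint_injective (htfE x) e (fun i => RefHull.stalkMapₗ (φ i) x) (hφ x) fun i => ?_
    rw [← sm_lift_prj P φ x v i]
    show RefHull.stalkMapₗ (prj P i) x (RefHull.stalkMapₗ Φ x v) = 0
    rw [hv, map_zero]
  haveI : Mono Φ := (KFlat.Sch.mono_iff_stalk Φ).2 hinj
  have hsurj : ∀ x, Function.Surjective (RefHull.stalkMapₗ (cokernel.π Φ) x) := fun x =>
    (M1.epi_iff_stalk (cokernel.π Φ)).1 inferInstance x
  have hker : ∀ x (t : T.presheaf.stalk x), RefHull.stalkMapₗ (cokernel.π Φ) x t = 0 →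
      ∃ v, RefHull.stalkMapₗ Φ x v = t := fun x t ht => by
    have hex := (M1.exact_iff_stalk (ShortComplex.mk Φ (cokernel.π Φ) (cokernel.condition Φ))).1
      (ShortComplex.exact_cokernel _) x
    rw [ShortComplex.ab_exact_iff] at hex
    exact hex t ht
  have hzero : ∀ x v, RefHull.stalkMapₗ (cokernel.π Φ) x (RefHull.stalkMapₗ Φ x v) = 0 := fun x v => by
    rw [← LinearMap.comp_apply, ← RH26.stalkMapₗ_comp, cokernel.condition, sm_zero]
    rfl
  -- the cokernel is torsion free
  have htf : ∀ (x : X) (c : X.presheaf.stalk x) (w : E'.presheaf.stalk x), c ≠ 0 → c • w = 0 → w = 0 :=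
    fun x c w hc hw => by
      haveI := hEr x
      obtain ⟨t, rfl⟩ := hsurj x w
      rw [← map_smul] at hw
      obtain ⟨m, hm⟩ := hker x _ hw
      obtain ⟨e⟩ := stalk_gen hL.1 q x
      obtain ⟨m', hm'⟩ := saturated e (fun i => RefHull.stalkMapₗ (φ i) x) (hφ x) hc (m := m)
        (v := fun i => RefHull.stalkMapₗ (prj P i) x t) fun i => by
          rw [← sm_lift_prj P φ x m i]
          show _ = RefHull.stalkMapₗ (prj P i) x (RefHull.stalkMapₗ Φ x m)
          rw [hm, map_smul]
      have ht : RefHull.stalkMapₗ Φ x m' = t := by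
        rw [← prj_decomp P x t, ← prj_decomp P x (RefHull.stalkMapₗ Φ x m')]
        refine Finset.sum_congr rfl fun i _ => congrArg _ ?_
        rw [sm_lift_prj P φ x m' i]
        exact hm' i
      rw [← ht]
      exact hzero x m'
  obtain ⟨q', k', φ', hφ'⟩ := exists_family hL hE'
  haveI := fun x => M1.finite_stalk hE'.1 hE'.2 x
  haveI hmono' : Mono (lift (CohB1.tensorPow L q') φ') := (KFlat.Sch.mono_iff_stalk _).2 fun x => by
    show Function.Injective (RefHull.stalkMapₗ (lift (CohB1.tensorPow L q') φ') x)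
    rw [injective_iff_map_eq_zero]
    intro v hv
    obtain ⟨e⟩ := stalk_gen hL.1 q' x
    refine joint_injective (htf x) e (fun i => RefHull.stalkMapₗ (φ' i) x) (hφ' x) fun i => ?_
    rw [← sm_lift_prj (CohB1.tensorPow L q') φ' x v i, hv, map_zero]
  refine ⟨q, k + 1, q', k' + 1, E', Φ, cokernel.π Φ, cokernel.condition Φ, lift (CohB1.tensorPow L q') φ',
    Nat.succ_pos _, Nat.succ_pos _, { exact := ShortComplex.exact_cokernel _ }, hmono', hE', fun hlf => ?_⟩
  refine RH26.isFinLocFree_of_stalks hE' fun x => ?_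
  haveI : Module.Free (X.presheaf.stalk x) (E.presheaf.stalk x) := ((M1.isFinLocFree_iff E).1 hlf).2 x
  obtain ⟨e⟩ := stalk_gen hL.1 q x
  obtain ⟨ρ, hρ⟩ := exists_retraction e (fun i => RefHull.stalkMapₗ (φ i) x) (hφ x)
  let π' := RefHull.stalkMapₗ (cokernel.π Φ) x
  let co : T.presheaf.stalk x →ₗ[X.presheaf.stalk x] (Fin (k + 1) → P.presheaf.stalk x) :=
    LinearMap.pi fun i => RefHull.stalkMapₗ (prj P i) x
  let r := ρ.comp co
  have hr : ∀ v, r (RefHull.stalkMapₗ Φ x v) = v := fun v => by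
    refine Eq.trans (congrArg ρ (funext fun i => ?_)) (hρ v)
    exact sm_lift_prj P φ x v i
  let one' : T.presheaf.stalk x →ₗ[X.presheaf.stalk x] T.presheaf.stalk x :=
    LinearMap.id - (RefHull.stalkMapₗ Φ x).comp r
  have hk : LinearMap.ker π' ≤ LinearMap.ker one' := fun t ht => by
    obtain ⟨v, rfl⟩ := hker x t ht
    simp [one', hr]
  let σ : E'.presheaf.stalk x →ₗ[X.presheaf.stalk x] T.presheaf.stalk x :=
    ((LinearMap.ker π').liftQ one' hk).comp (π'.quotKerEquivOfSurjective (hsurj x)).symm.toLinearMap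
  have hσ : π'.comp σ = LinearMap.id := LinearMap.ext fun w => by
    obtain ⟨t, rfl⟩ := hsurj x w
    have h1 : (π'.quotKerEquivOfSurjective (hsurj x)).symm (π' t) = Submodule.Quotient.mk t := by
      rw [LinearEquiv.symm_apply_eq]; rfl
    show π' ((LinearMap.ker π').liftQ one' hk ((π'.quotKerEquivOfSurjective (hsurj x)).symm (π' t))) = π' t
    rw [h1]
    show π' (t - RefHull.stalkMapₗ Φ x (r t)) = π' t
    rw [map_sub, hzero, sub_zero]
  have hFT : FlatMod.IsFinLocFree T := by
    refine M2.isFinLocFree_of_iso (M2.freeModTensorIso X (k + 1) P) ?_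
    exact M2.isFinLocFree_tensor (M2.isFinLocFree_of_ofRank (M2.isFinLocFreeOfRank_freeMod X (k + 1)))
      (M2.isFinLocFree_of_isInvertible (M2.isInvertible_tensorPow hL.1 q))
  haveI : Module.Free (X.presheaf.stalk x) (T.presheaf.stalk x) := ((M1.isFinLocFree_iff T).1 hFT).2 x
  haveI : Module.Projective (X.presheaf.stalk x) (E'.presheaf.stalk x) := Module.Projective.of_split σ π' hσ
  exact Module.free_of_flat_of_isLocalRing

end Groth.Agent.S16671
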