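import Groth.Statements.S16673
import Groth.Agent.Lib.AVPRank22.TorsRank
import Groth.Agent.Lib.TateTors22.DetNorm

set_option autoImplicit false
universe u
open CategoryTheory CategoryTheory.Limits MonoidalCategory CartesianMonoidalCategory MonObj GrpObj AlgebraicGeometry
open AbVar

namespace Groth.Agent.S16673

/-- Let k be a field of characteristic p > 0 with an algebraic closure k̄, let X and Y be abelian
varieties over k (proper, geometrically integral, commutative k-group schemes) and let h : X → Y be
a homomorphism which is finite and surjective (an isogeny). If i and j are natural numbers such that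
for every m ≥ 0 the group X[p^m](k̄) of k̄-valued points of X killed by p^m (k̄-valued points being
the k-morphisms Spec k̄ → X, a group under the group law of X) is isomorphic to (ℤ/p^m)^i and the
group Y[p^m](k̄) is isomorphic to (ℤ/p^m)^j (groups of points written multiplicatively), then i = j:
the p-rank is an isogeny invariant. -/
theorem result (k : Type u) [Field k] (p : ℕ) [Fact p.Prime] [CharP k p]
    (X Y : Over (Spec (CommRingCat.of k)))
    [GrpObj X] [IsCommMonObj X] [IsProper X.hom] [GeometricallyIntegral X.hom]
    [GrpObj Y] [IsCommMonObj Y] [IsProper Y.hom] [GeometricallyIntegral Y.hom]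
    (h : X ⟶ Y) [IsMonHom h] [IsFinite h.left] [Surjective h.left]
    (i j : ℕ)
    (hi : ∀ m : ℕ, Nonempty (AbDual.torsPts X (p ^ m)
      (Over.mk (Spec.map (CommRingCat.ofHom (algebraMap k (AlgebraicClosure k))))) ≃*
      Multiplicative (Fin i → ZMod (p ^ m))))
    (hj : ∀ m : ℕ, Nonempty (AbDual.torsPts Y (p ^ m)
      (Over.mk (Spec.map (CommRingCat.ofHom (algebraMap k (AlgebraicClosure k))))) ≃*
      Multiplicative (Fin j → ZMod (p ^ m)))) :
    i = j := by
  let K := AlgebraicClosure k
  let f : (SGA7.pt (K := k) K ⟶ X) →* (SGA7.pt (K := k) K ⟶ Y) :=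
    { toFun := fun x => x ≫ h
      map_one' := MonObj.one_comp h
      map_mul' := fun a b => MonObj.mul_comp a b h }
  haveI : Finite f.ker := TateTors22.finite_kerPts (A := X) (B := Y) K h
  have hs : Function.Surjective f := fun y => TateTors22.exists_lift_point K h y
  have hc : ∀ {Z : Over (Spec (CommRingCat.of k))} [GrpObj Z] [IsCommMonObj Z] (r : ℕ),
      (∀ m : ℕ, Nonempty (AbDual.torsPts Z (p ^ m) (SGA7.pt (K := k) K) ≃* Multiplicative (Fin r → ZMod (p ^ m)))) →
      ∀ m, Nat.card (powMonoidHom (p ^ m) : (SGA7.pt (K := k) K ⟶ Z) →* _).ker = p ^ (m * r) := fun r hr m => by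
    obtain ⟨e⟩ := hr m
    haveI : NeZero (p ^ m) := ⟨pow_ne_zero _ (Fact.out : p.Prime).ne_zero⟩
    rw [pow_mul]
    exact ((Nat.card_congr e.toEquiv).trans (Nat.card_congr Multiplicative.toAdd)).trans (by simp [Nat.card_pi])
  exact AVPRank22.eq_of_surjective_finite_ker f hs (hc i hi) (hc j hj)

end Groth.Agent.S16673
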