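import Groth.Statements.S16674
import Groth.Agent.Lib.HopfEtale20.Basic
import Groth.Agent.Lib.FinRed23.Basic
import Groth.Prelude.Def_CartDual
import Mathlib.RingTheory.Etale.Field
import Mathlib.GroupTheory.Perm.Cycle.Type

set_option autoImplicit false
universe u
open CartDual

namespace Groth.Agent.S16674

open WithConv
open scoped TensorProduct

/-- Let k be a field of characteristic p > 0 and A a finite-dimensional commutative and cocommutative
Hopf algebra over k, the coordinate ring of a finite commutative k-group scheme G, with Cartier dual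
the convolution Hopf algebra Hom_k(A, k). Then G is étale-étale, i.e. both A and its dual are étale
k-algebras, if and only if p does not divide the rank dim_k A of G. -/
theorem result (k : Type u) [Field k] (p : ℕ) [Fact p.Prime] [CharP k p]
    (A : Type u) [CommRing A] [HopfAlgebra k A] [Coalgebra.IsCocomm k A] [FiniteDimensional k A] :
    (Algebra.Etale k A ∧ Algebra.Etale k (CartDual.D k A)) ↔ ¬ p ∣ Module.finrank k A := by
  constructor
  · rintro ⟨hA, hD⟩ hdvd
    classical
    let K := AlgebraicClosure k
    let G := WithConv (A →ₐ[k] K)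
    let B := K ⊗[k] A
    have hred : IsReduced B := Algebra.FormallyUnramified.isReduced_of_field K B
    have hfinB := Groth.Agent.FinRed23.finite_points (k := K) (E := B)
    have e₀ : G ≃ (B →ₐ[K] K) := (WithConv.equiv (A →ₐ[k] K)).trans ((AlgHom.liftEquiv k K A K))
    have hfin : Finite G := Finite.of_equiv _ e₀.symm
    have hcard : Nat.card G = Module.finrank k A := by
      rw [Nat.card_congr e₀, Groth.Agent.FinRed23.card_points, Module.finrank_baseChange]
    let : Inv G := ⟨fun g => toConv (g.ofConv.comp (HopfAlgebra.antipodeAlgHom k A))⟩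
    let : Group G := { (inferInstance : Monoid (WithConv (A →ₐ[k] K))) with
      inv := fun g => g⁻¹
      inv_mul_cancel := fun g => by
        have h := congrArg (fun t => toConv (g.ofConv.comp t.ofConv)) (AlgHom.antipode_id_cancel (R := k) (A := A))
        simp only [AlgHom.comp_convMul_distrib, ofConv_toConv, AlgHom.comp_id, toConv_ofConv] at h
        refine h.trans (ofConv_injective (AlgHom.ext fun a => ?_))
        simp [AlgHom.convOne_apply] }
    obtain ⟨g, hg⟩ := exists_prime_orderOf_dvd_card' (G := G) p (by rw [hcard]; exact hdvd)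
    have hgp : (toConv g.ofConv.toLinearMap : (WithConv (A →ₗ[k] K))) ^ p = 1 := by
      rw [← AlgHom.toLinearMap_convPow, show (g : G) ^ p = 1 by rw [← hg]; exact pow_orderOf_eq_one g]
      exact AlgHom.toLinearMap_convOne
    have : Nontrivial (WithConv (A →ₗ[k] K)) := ⟨1, 0, fun e => one_ne_zero (α := K) (by
      have := LinearMap.congr_fun (congrArg WithConv.ofConv e) (1 : A)
      simpa [LinearMap.convOne_def] using this)⟩
    have : CharP (WithConv (A →ₗ[k] K)) p := charP_of_injective_algebraMap' k p
    have : ExpChar (WithConv (A →ₗ[k] K)) p := ExpChar.prime Fact.out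
    have : Algebra.Etale K (K ⊗[k] CartDual.D k A) := inferInstance
    have hredD : IsReduced (K ⊗[k] CartDual.D k A) := Algebra.FormallyUnramified.isReduced_of_field K (K ⊗[k] CartDual.D k A)
    let post : CartDual.D k A →ₐ[k] (WithConv (A →ₗ[k] K)) :=
      AlgHom.ofLinearMap ((WithConv.linearEquiv k (A →ₗ[k] K)).symm.toLinearMap ∘ₗ
        LinearMap.compRight k (Algebra.ofId k K).toLinearMap ∘ₗ (WithConv.linearEquiv k (A →ₗ[k] k)).toLinearMap)
        (ofConv_injective (LinearMap.ext fun a => by simp [LinearMap.convOne_def]))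
        (fun x y => congrArg WithConv.toConv (LinearMap.algHom_comp_convMul_distrib (Algebra.ofId k K) x y))
    have hsm : ∀ (c : K) (x : (WithConv (A →ₗ[k] K))) (a : A), (algebraMap K (WithConv (A →ₗ[k] K)) c * x).ofConv a = c * x.ofConv a := fun c x a => by
      rw [← Algebra.smul_def]; rfl
    let φ : K →ₐ[k] (WithConv (A →ₗ[k] K)) := { toRingHom := algebraMap K (WithConv (A →ₗ[k] K)), commutes' := fun c => ofConv_injective (LinearMap.ext fun a => by
      show algebraMap k K c * (1 : WithConv (A →ₗ[k] K)).ofConv a = c • (1 : WithConv (A →ₗ[k] K)).ofConv a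
      rw [Algebra.smul_def]) }
    have hcom : ∀ (c : K) (x : (WithConv (A →ₗ[k] K))), Commute (φ c) x := fun c x => Algebra.commutes c x
    let Ψ : K ⊗[k] CartDual.D k A →ₐ[k] (WithConv (A →ₗ[k] K)) :=
      Algebra.TensorProduct.lift φ post fun c x => hcom c (post x)
    obtain ⟨n, f, s, -, -, hfs⟩ := Module.Finite.exists_comp_eq_id_of_projective k A
    let xs : Fin n → CartDual.D k A := fun i => toConv (LinearMap.proj i ∘ₗ s)
    let as : Fin n → A := fun i => f (Pi.single i 1)
    have hxa : ∀ a : A, ∑ i, (xs i).ofConv a • as i = a := fun a => by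
      conv_rhs => rw [← show f (s a) = a from congr($hfs a), pi_eq_sum_univ' (s a)]
      simp [xs, as, map_sum]
    have hexp : ∀ w, ∑ i, (Ψ w).ofConv (as i) ⊗ₜ[k] xs i = w := by
      intro w
      induction w with
      | zero => simp
      | add u v hu hv =>
        conv_rhs => rw [← hu, ← hv, ← Finset.sum_add_distrib]
        refine Finset.sum_congr rfl fun i _ => ?_
        rw [map_add Ψ, WithConv.ofConv_add, LinearMap.add_apply, TensorProduct.add_tmul]
      | tmul c x =>
        have hx : ∑ i, x.ofConv (as i) • xs i = x := ofConv_injective (LinearMap.ext fun a => by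
          conv_rhs => rw [← hxa a, map_sum]
          simp [mul_comm])
        conv_rhs => rw [← hx, TensorProduct.tmul_sum]
        refine Finset.sum_congr rfl fun i _ => ?_
        rw [TensorProduct.tmul_smul, TensorProduct.smul_tmul']
        congr 1
        rw [show Ψ (c ⊗ₜ[k] x) = algebraMap K (WithConv (A →ₗ[k] K)) c * post x from Algebra.TensorProduct.lift_tmul _ _ _ _ _, hsm]
        simp [post, Algebra.smul_def, mul_comm]
    have hinj : Function.Injective Ψ := fun u v huv => by rw [← hexp u, ← hexp v, huv]
    let z : K ⊗[k] CartDual.D k A := ∑ i, (g.ofConv (as i) - algebraMap k K (Coalgebra.counit (R := k) (as i))) ⊗ₜ[k] xs i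
    have hz : Ψ z = toConv g.ofConv.toLinearMap - 1 := by
      apply ofConv_injective
      refine LinearMap.ext fun a => ?_
      conv_rhs => rw [← hxa a]
      rw [show Ψ z = ∑ i, Ψ ((g.ofConv (as i) - algebraMap k K (Coalgebra.counit (R := k) (as i))) ⊗ₜ[k] xs i) from map_sum Ψ _ _,
        map_sum, WithConv.ofConv_sum, LinearMap.sum_apply]
      refine Finset.sum_congr rfl fun i _ => ?_
      rw [show Ψ ((g.ofConv (as i) - algebraMap k K (Coalgebra.counit (R := k) (as i))) ⊗ₜ[k] xs i) = algebraMap K (WithConv (A →ₗ[k] K)) _ * post (xs i)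
        from Algebra.TensorProduct.lift_tmul _ _ _ _ _, hsm]
      simp [post, LinearMap.convOne_def, Algebra.smul_def]
      ring
    have hz0 : z = 0 := IsReduced.eq_zero z ⟨p, hinj (by
      rw [show Ψ (z ^ p) = (Ψ z) ^ p from map_pow Ψ.toRingHom z p, hz, show Ψ 0 = 0 from map_zero Ψ.toRingHom,
        sub_pow_char_of_commute p (Commute.one_right (toConv g.ofConv.toLinearMap : WithConv (A →ₗ[k] K))), hgp, one_pow, sub_self])⟩
    rw [hz0, map_zero] at hz
    have hg1 : g = 1 := ofConv_injective (AlgHom.toLinearMap_injective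
      ((congrArg WithConv.ofConv (sub_eq_zero.1 hz.symm)).trans (congrArg WithConv.ofConv AlgHom.toLinearMap_convOne).symm))
    rw [hg1, orderOf_one] at hg
    exact (Fact.out : p.Prime).ne_one hg.symm
  · intro h
    have hne : (Module.finrank k A : k) ≠ 0 := fun e => h ((CharP.cast_eq_zero_iff k p _).1 e)
    refine ⟨Groth.Agent.HopfEtale.etale_of_finrank_ne_zero hne, Groth.Agent.HopfEtale.etale_of_finrank_ne_zero ?_⟩
    rwa [(CartDual.toDual k A).finrank_eq, Subspace.dual_finrank_eq]


end Groth.Agent.S16674
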