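import Groth.Statements.S16679
import Groth.Agent.Lib.AVQuotH1.KerImage

set_option autoImplicit false
universe u
open CategoryTheory CategoryTheory.Limits MonoidalCategory CartesianMonoidalCategory MonObj GrpObj AlgebraicGeometry
open AbVar

namespace Groth.Agent.S16679

section Aux
open CategoryTheory CategoryTheory.Limits MonoidalCategory CartesianMonoidalCategory MonObj AlgebraicGeometry
open scoped GrpObj

/-- A closed immersion onto a reduced closed subscheme with the same points factors the latter. -/
lemma exists_factor_closed {S A B : Scheme.{u}} (a : A ⟶ S) (b : B ⟶ S) [IsClosedImmersion b] [Surjective b]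
    [IsReduced A] : ∃ t : A ⟶ B, t ≫ b = a := by
  haveI : IsClosedImmersion (pullback.fst a b) := MorphismProperty.pullback_fst _ _ ‹_›
  haveI : Surjective (pullback.fst a b) := MorphismProperty.pullback_fst _ _ ‹_›
  haveI : IsIso (pullback.fst a b) := isIso_of_isClosedImmersion_of_surjective _
  exact ⟨inv (pullback.fst a b) ≫ pullback.snd a b, by
    rw [Category.assoc, ← pullback.condition, IsIso.inv_hom_id_assoc]⟩

end Aux


/-- Let X be an abelian variety over an arbitrary field k (a proper, geometrically integral k-group
scheme), let i : Y → X be a closed subgroup scheme (a homomorphism of k-group schemes which is a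
closed immersion) whose underlying space is connected, and let j : Y_red → Y be the reduced closed
subscheme with the same underlying space (a closed immersion from a reduced scheme which is
surjective). Then Y_red is geometrically integral over k, and there is a k-group scheme structure on
Y_red for which j is a homomorphism: Y_red is an abelian subvariety of X. (For a closed subgroup
scheme which is not connected the reduced subscheme need not be geometrically reduced; the statement
concerns the identity component.) -/
theorem result (k : Type u) [Field k]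
    (X : Over (Spec (CommRingCat.of k))) [GrpObj X] [IsProper X.hom] [GeometricallyIntegral X.hom]
    (Y : Over (Spec (CommRingCat.of k))) [GrpObj Y] (i : Y ⟶ X) [IsMonHom i] [IsClosedImmersion i.left]
    [ConnectedSpace ↥Y.left]
    (Yr : Scheme.{u}) (j : Yr ⟶ Y.left) [IsClosedImmersion j] [Surjective j] [IsReduced Yr] :
    GeometricallyIntegral (j ≫ Y.hom) ∧
      ∃ _ : GrpObj (Over.mk (j ≫ Y.hom)), IsMonHom (Over.homMk j rfl : Over.mk (j ≫ Y.hom) ⟶ Y) := by
  haveI : IsProper Y.hom := by rw [← Over.w i]; infer_instance
  haveI := isCommMonObj_of_isProper_of_geometricallyIntegral X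
  haveI : IrreducibleSpace ↥Y.left := by
    haveI := Groth.Agent.AbRigid.geometricallyIrreducible_of_connected Y
    exact GeometricallyIrreducible.irreducibleSpace_of_subsingleton Y.hom
  obtain ⟨M, Z, _, z, q, hM, _, _, _, _, _, _, hqz⟩ := Groth.Agent.AVQuotH1.exists_abelian_power i
  haveI : IsFinite (q ≫ z).left := by
    haveI := (Groth.Agent.CubeField.isFinite_surjective_pow (A := X) Groth.Agent.CubeField.finH1 (n := M) hM).1
    haveI : IsFinite ((q ≫ z).left ≫ i.left) := by
      rw [← Over.comp_left, hqz, Groth.Agent.Isogeny14.hom_pow_comp, Category.id_comp,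
        show i ^ M = i ≫ (𝟙 X ^ M) by rw [MonObj.comp_pow, Category.comp_id], Over.comp_left]
      infer_instance
    exact IsFinite.of_comp (q ≫ z).left i.left
  haveI : Surjective (q ≫ z).left := Groth.Agent.AbRigid.surjective_of_isFinite Y Y (q ≫ z) rfl
  haveI : Surjective z.left := by
    haveI : Surjective (q.left ≫ z.left) := by rw [← Over.comp_left]; infer_instance
    exact Surjective.of_comp q.left z.left
  haveI : AlgebraicGeometry.IsIntegral Z.left := GeometricallyIntegral.isIntegral_of_subsingleton Z.hom
  obtain ⟨t, ht⟩ := exists_factor_closed z.left j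
  obtain ⟨s, hs⟩ := exists_factor_closed j z.left
  let Yo : Over (Spec (CommRingCat.of k)) := Over.mk (j ≫ Y.hom)
  let jo : Yo ⟶ Y := Over.homMk j rfl
  haveI : IsClosedImmersion jo.left := inferInstanceAs (IsClosedImmersion j)
  haveI : Mono jo := Over.mono_of_mono_left jo
  haveI : Mono z := Over.mono_of_mono_left z
  let T : Z ⟶ Yo := Over.homMk t (by
    show t ≫ j ≫ Y.hom = Z.hom
    rw [← Category.assoc, ht, Over.w z])
  have hT : T ≫ jo = z := Over.OverMorphism.ext ht
  let Sm : Yo ⟶ Z := Over.homMk s (by
    show s ≫ Z.hom = j ≫ Y.hom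
    rw [← Over.w z, ← Category.assoc, hs])
  have hS : Sm ≫ z = jo := Over.OverMorphism.ext hs
  refine ⟨?_, ?_⟩
  · haveI : IsIso s := by
      refine ⟨t, ?_, ?_⟩
      · rw [← cancel_mono j, Category.assoc, ht, hs, Category.id_comp]
      · rw [← cancel_mono z.left, Category.assoc, hs, ht, Category.id_comp]
    have h : s ≫ Z.hom = j ≫ Y.hom := Over.w Sm
    rw [← h]
    exact (MorphismProperty.cancel_left_of_respectsIso @GeometricallyIntegral s Z.hom).2 inferInstance
  · have hη : (η[Z] ≫ T) ≫ jo = η[Y] := by rw [Category.assoc, hT, IsMonHom.one_hom]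
    have hμ : ((Sm ⊗ₘ Sm) ≫ μ[Z] ≫ T) ≫ jo = (jo ⊗ₘ jo) ≫ μ[Y] := by
      rw [Category.assoc, Category.assoc, hT, IsMonHom.mul_hom, MonoidalCategory.tensorHom_comp_tensorHom_assoc, hS]
    have hι : (Sm ≫ ι[Z] ≫ T) ≫ jo = jo ≫ ι[Y] := by
      rw [Category.assoc, Category.assoc, hT, GrpObj.inv_hom, reassoc_of% hS]
    letI G : GrpObj Yo := Groth.Agent.AbRigid.grpObjOfMono jo _ hη _ hμ _ hι
    exact ⟨G, ⟨hη, hμ⟩⟩

end Groth.Agent.S16679
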