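import Groth.Statements.S2070
import Mathlib
import Groth.Agent.Lib.NormalBC6.SepBase
import Groth.Agent.Lib.IntClosFin.Insep

set_option autoImplicit false
universe u
open CAlg

namespace Groth.Agent.S2070

open TensorProduct

theorem normal_descend {A B : Type u} [CommRing A] [CommRing B] [Algebra A B] [Module.FaithfullyFlat A B]
    (hB : EGA4.IsNormalRing B) : EGA4.IsNormalRing A := by
  intro p _
  obtain ⟨⟨q, hq'⟩, hq⟩ := PrimeSpectrum.comap_surjective_of_faithfullyFlat (A := A) (B := B) ⟨p, ‹_›⟩
  obtain rfl : q.comap (algebraMap A B) = p := congrArg PrimeSpectrum.asIdeal hq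
  haveI := hq'
  obtain ⟨hd, hic⟩ := hB q
  set p := q.comap (algebraMap A B) with hp
  let Ap := Localization.AtPrime p
  let Bq := Localization.AtPrime q
  let θ : Ap →+* Bq := Localization.localRingHom p q (algebraMap A B) rfl
  letI : Algebra Ap Bq := θ.toAlgebra
  haveI : IsScalarTower A Ap Bq := .of_algebraMap_eq fun a => by
    rw [RingHom.algebraMap_toAlgebra, Localization.localRingHom_to_map, ← IsScalarTower.algebraMap_apply]
  haveI : Module.Flat A Bq := Module.Flat.trans A B Bq
  haveI : Module.Flat Ap Bq := (Module.flat_iff_of_isLocalization Ap p.primeCompl Bq).2 inferInstance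
  haveI : IsLocalHom (algebraMap Ap Bq) := Localization.isLocalHom_localRingHom _ _ _ rfl
  haveI : Module.FaithfullyFlat Ap Bq := Module.FaithfullyFlat.of_flat_of_isLocalHom
  have hinj : Function.Injective (algebraMap Ap Bq) := FaithfulSMul.algebraMap_injective Ap Bq
  haveI : IsDomain Ap := hinj.isDomain
  refine ⟨inferInstance, (isIntegrallyClosed_iff (FractionRing Ap)).2 fun {x} hx => ?_⟩
  obtain ⟨a, b, hb, rfl⟩ := IsFractionRing.div_surjective (A := Ap) x
  have hb0 : b ≠ 0 := nonZeroDivisors.ne_zero hb
  let L : FractionRing Ap →+* FractionRing Bq := IsFractionRing.lift (g := (algebraMap Bq (FractionRing Bq)).comp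
    (algebraMap Ap Bq)) ((IsFractionRing.injective Bq _).comp hinj)
  have hL : ∀ r, L (algebraMap Ap _ r) = algebraMap Bq _ (algebraMap Ap Bq r) := fun r =>
    IsFractionRing.lift_algebraMap _ r
  have hx' : IsIntegral Bq (L (algebraMap Ap _ a / algebraMap Ap _ b)) := by
    obtain ⟨P, hP, hev⟩ := hx
    refine ⟨P.map (algebraMap Ap Bq), hP.map _, ?_⟩
    rw [Polynomial.eval₂_map]
    have := congrArg L hev
    rw [Polynomial.hom_eval₂, map_zero] at this
    rw [show L.comp (algebraMap Ap (FractionRing Ap)) = (algebraMap Bq (FractionRing Bq)).comp (algebraMap Ap Bq) from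
      RingHom.ext fun r => hL r] at this
    exact this
  obtain ⟨c, hc⟩ := IsIntegrallyClosed.isIntegral_iff.1 hx'
  rw [map_div₀, hL, hL, eq_div_iff (by simpa using (map_ne_zero_iff _ hinj).2 hb0), ← map_mul] at hc
  have hmem : algebraMap Ap Bq a ∈ (Ideal.span {b}).map (algebraMap Ap Bq) := by
    rw [Ideal.map_span, Set.image_singleton, ← IsFractionRing.injective Bq (FractionRing Bq) hc]
    exact Ideal.mul_mem_left _ _ (Ideal.mem_span_singleton_self _)
  rw [← Ideal.mem_comap, Ideal.comap_map_eq_self_of_faithfullyFlat, Ideal.mem_span_singleton'] at hmem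
  obtain ⟨r, hr⟩ := hmem
  refine ⟨r, ?_⟩
  rw [← hr, map_mul, mul_div_cancel_right₀]
  exact (map_ne_zero_iff _ (IsFractionRing.injective Ap _)).2 hb0



open TensorProduct in
/-- Let `A` be an algebra over a field `k`. Then all local rings of `k' ⊗ A` are integrally closed
domains for every field extension `k'/k` if and only if this holds for every finite purely
inseparable extension `k'/k` (extensions in the same universe). -/
theorem result {k A : Type u} [Field k] [CommRing A] [Algebra k A] :
    (∀ (k' : Type u) [Field k'] [Algebra k k'] (P : Ideal (k' ⊗[k] A)) [P.IsPrime],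
        IsDomain (Localization.AtPrime P) ∧ IsIntegrallyClosed (Localization.AtPrime P)) ↔
      ∀ (k' : Type u) [Field k'] [Algebra k k'], Module.Finite k k' → IsPurelyInseparable k k' →
        ∀ (P : Ideal (k' ⊗[k] A)) [P.IsPrime],
          IsDomain (Localization.AtPrime P) ∧ IsIntegrallyClosed (Localization.AtPrime P) := by
  refine ⟨fun h k' _ _ _ _ P _ => h k' P, fun h => ?_⟩
  have hg : EGA4.IsGeomNormal k A := by
    intro k' _ _ hfin
    let Ω := AlgebraicClosure k'
    let N := IntermediateField.normalClosure k k' Ω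
    haveI : Normal k N := inferInstance
    haveI : FiniteDimensional k N := inferInstance
    let j : k' →ₐ[k] N := (IsScalarTower.toAlgHom k k' Ω).codRestrict N.toSubalgebra fun x =>
      AlgHom.fieldRange_le_normalClosure (IsScalarTower.toAlgHom k k' Ω) ⟨x, rfl⟩
    let Ni := IntermediateField.fixedField (⊤ : Subgroup Gal(N/k))
    haveI : IsPurelyInseparable k Ni := IntClosFin.isPurelyInseparable_of_fixed
    haveI : IsGalois Ni N := IsGalois.of_fixed_field N (⊤ : Subgroup Gal(N/k))
    have hNi : EGA4.IsNormalRing (Ni ⊗[k] A) := h Ni inferInstance inferInstance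
    haveI := NormalBC6.geomReduced_of_isSeparable (k := Ni) (k' := N)
    have hN : EGA4.IsNormalRing (N ⊗[k] A) :=
      FlatDepth.isNormalRing_of_ringEquiv (Algebra.TensorProduct.cancelBaseChange k Ni N N A).toRingEquiv
        (NormalBC6.isNormalRing_tensor (NormalBC6.isNormalHom_of_geomReduced_field Ni N) (Ni ⊗[k] A) hNi)
    letI : Algebra k' N := j.toRingHom.toAlgebra
    haveI : IsScalarTower k k' N := .of_algebraMap_eq fun x => (j.commutes x).symm
    haveI : Module.FaithfullyFlat k' N := inferInstance
    exact normal_descend (A := k' ⊗[k] A) (B := (k' ⊗[k] A) ⊗[k'] N)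
      (FlatDepth.isNormalRing_of_ringEquiv ((Algebra.TensorProduct.cancelBaseChange k k' N N A).symm.toRingEquiv.trans
        (Algebra.TensorProduct.comm k' N (k' ⊗[k] A)).toRingEquiv) hN)
  intro k' _ _
  have hk : EGA4.IsNormalRing k' := fun p _ => by
    let e : k' ≃ₐ[k'] Localization.AtPrime p := IsLocalization.atUnits k' p.primeCompl fun x hx =>
      isUnit_iff_ne_zero.2 fun h => hx (h ▸ p.zero_mem)
    exact ⟨MulEquiv.isDomain _ e.symm.toRingEquiv.toMulEquiv,
      IsIntegrallyClosed.of_equiv e.toRingEquiv⟩
  exact FlatDepth.isNormalRing_of_ringEquiv (Algebra.TensorProduct.comm k A k').toRingEquiv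
    (NormalBC6.isNormalRing_tensor_geomNormal A k' hg hk)

end Groth.Agent.S2070
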