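import Groth.Statements.S7599
import Groth.Agent.Lib.GeomNorm15.Stalk
import Groth.Agent.S2070
-- import your own Groth.Agent.* helpers here

set_option autoImplicit false
universe u
open CategoryTheory CategoryTheory.Limits AlgebraicGeometry
attribute [local instance] Curv2.stalkAlgebra
open scoped TensorProduct
open Variety

namespace Groth.Agent.S7599

/-- Let X be a scheme over a field k and x a point of X. These conditions are equivalent: (1) the scheme
X is geometrically normal at x (meaning: for any extension field k' and any point x' of X_{k'} over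
x the local ring O_{X_{k'}, x'} is an integrally closed domain); (2) the same for the finite purely
inseparable extensions k' of k only; (3) for every extension field k' of k the ring k' ⊗_k O_{X, x}
is normal (all its localisations at primes are integrally closed domains). Stated as (1) ↔ (2)
together with (2) ↔ (3). -/
theorem result (k : Type u) [Field k] (X : Scheme.{u}) [X.Over (Spec (CommRingCat.of k))] (x : ↥X) :
    ((∀ (k' : Type u) [Field k'] [Algebra k k'] (x' : ↥(Curv2.bc k X k')), Curv2.bcFst k X k' x' = x →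
          IsDomain ↥((Curv2.bc k X k').presheaf.stalk x') ∧ IsIntegrallyClosed ↥((Curv2.bc k X k').presheaf.stalk x')) ↔
      (∀ (k' : Type u) [Field k'] [Algebra k k'] [FiniteDimensional k k'] [IsPurelyInseparable k k'] (x' : ↥(Curv2.bc k X k')), Curv2.bcFst k X k' x' = x →
          IsDomain ↥((Curv2.bc k X k').presheaf.stalk x') ∧ IsIntegrallyClosed ↥((Curv2.bc k X k').presheaf.stalk x'))) ∧
    ((∀ (k' : Type u) [Field k'] [Algebra k k'] [FiniteDimensional k k'] [IsPurelyInseparable k k'] (x' : ↥(Curv2.bc k X k')), Curv2.bcFst k X k' x' = x →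
          IsDomain ↥((Curv2.bc k X k').presheaf.stalk x') ∧ IsIntegrallyClosed ↥((Curv2.bc k X k').presheaf.stalk x')) ↔
      ∀ (k' : Type u) [Field k'] [Algebra k k'], EGA4.IsNormalRing (k' ⊗[k] ↥(X.presheaf.stalk x))) := by
  classical
  have h23 : (∀ (k' : Type u) [Field k'] [Algebra k k'] [FiniteDimensional k k'] [IsPurelyInseparable k k'] (x' : ↥(Curv2.bc k X k')), Curv2.bcFst k X k' x' = x →
          IsDomain ↥((Curv2.bc k X k').presheaf.stalk x') ∧ IsIntegrallyClosed ↥((Curv2.bc k X k').presheaf.stalk x')) →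
      ∀ (k' : Type u) [Field k'] [Algebra k k'], EGA4.IsNormalRing (k' ⊗[k] ↥(X.presheaf.stalk x)) := by
    intro h2
    refine (Groth.Agent.S2070.result (k := k) (A := ↥(X.presheaf.stalk x))).2 ?_
    intro k' _ _ hfin hpi P _
    haveI : Module.Finite k k' := hfin
    haveI := hpi
    obtain ⟨pt, h1, h2', -⟩ := Groth.Agent.GeomNorm15.exists_stalk_points k X x k'
    obtain ⟨M, hM, hPM⟩ := Ideal.exists_le_maximal P ‹P.IsPrime›.ne_top
    haveI := hM
    let φ : ↥(X.presheaf.stalk x) →+* k' ⊗[k] ↥(X.presheaf.stalk x) :=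
      (Algebra.TensorProduct.includeRight (R := k) (A := k') (B := ↥(X.presheaf.stalk x))).toRingHom
    have hint : φ.IsIntegral := by
      have h1 : φ = (Algebra.TensorProduct.comm k ↥(X.presheaf.stalk x) k').toRingEquiv.toRingHom.comp
          (algebraMap ↥(X.presheaf.stalk x) (↥(X.presheaf.stalk x) ⊗[k] k')) := by
        ext c; simp [φ]
      refine RingHom.Finite.to_isIntegral ?_
      rw [h1]
      exact RingHom.Finite.comp (RingHom.Finite.of_surjective _ (Algebra.TensorProduct.comm k ↥(X.presheaf.stalk x) k').toRingEquiv.surjective)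
        (RingHom.finite_algebraMap.2 inferInstance)
    have hMc : (M.comap φ).IsMaximal := Ideal.isMaximal_comap_of_isIntegral_of_isMaximal' φ hint M
    have hx : Curv2.bcFst k X k' (pt ⟨M, inferInstance⟩) = x := by
      rw [h2' ⟨M, inferInstance⟩]
      refine (congrArg (X.fromSpecStalk x) ?_).trans Scheme.fromSpecStalk_closedPoint
      exact PrimeSpectrum.ext (IsLocalRing.eq_maximalIdeal hMc)
    obtain ⟨e⟩ := h1 ⟨M, inferInstance⟩
    exact Groth.Agent.GeomNorm15.normal_atPrime_of_le P M hPM
      (Groth.Agent.GeomNorm15.normal_of_ringEquiv e (h2 k' _ hx))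
  have h31 : (∀ (k' : Type u) [Field k'] [Algebra k k'], EGA4.IsNormalRing (k' ⊗[k] ↥(X.presheaf.stalk x))) →
      ∀ (k' : Type u) [Field k'] [Algebra k k'] (x' : ↥(Curv2.bc k X k')), Curv2.bcFst k X k' x' = x →
          IsDomain ↥((Curv2.bc k X k').presheaf.stalk x') ∧ IsIntegrallyClosed ↥((Curv2.bc k X k').presheaf.stalk x') := by
    intro h3 k' _ _ x' hx'
    obtain ⟨pt, h1, -, h4⟩ := Groth.Agent.GeomNorm15.exists_stalk_points k X x k'
    obtain ⟨P, rfl⟩ := h4 x' hx'
    obtain ⟨e⟩ := h1 P
    exact Groth.Agent.GeomNorm15.normal_of_ringEquiv e.symm (h3 k' P.asIdeal)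
  exact ⟨⟨fun h k' _ _ _ _ => h k', fun h => h31 (h23 h)⟩,
    ⟨h23, fun h k' _ _ _ _ => h31 h k'⟩⟩


end Groth.Agent.S7599
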