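import Groth.Statements.S16680
import Groth.Agent.Lib.AVEmb13.Main
import Groth.Agent.Lib.Index22.Descend
import Groth.Agent.Lib.ProjSpace.BaseChange
import Groth.Agent.S7795

open scoped CategoryTheory.Obj

set_option autoImplicit false
universe u
open CategoryTheory CategoryTheory.Limits MonoidalCategory CartesianMonoidalCategory MonObj GrpObj AlgebraicGeometry
open AbVar

namespace Groth.Agent.S16680

/-- Fix a field k and a g-dimensional abelian variety X over k (a proper, geometrically integral k-group
scheme whose underlying space has Krull dimension g). Then X admits no closed immersion into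
projective (2g − 1)-space over k: if f : X → P^n_k is a closed immersion compatible with the
structure morphisms to Spec k, then 2g ≤ n. -/
theorem result (k : Type u) [Field k]
    (X : Over (Spec (CommRingCat.of k))) [GrpObj X] [IsProper X.hom] [GeometricallyIntegral X.hom]
    (g : ℕ) (hg : topologicalKrullDim ↥X.left = g)
    (n : ℕ) (f : X.left ⟶ CohB1.ProjSpace n k) [IsClosedImmersion f]
    (hf : f ≫ CohB1.ProjSpace.toSpec n k = X.hom) :
    2 * g ≤ n := by
  letI : GrpObj (Groth.Agent.Index22.bar X) := Functor.grpObjObj
  haveI : IsIntegral (Groth.Agent.Index22.bar X).left :=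
    GeometricallyIntegral.isIntegral_of_subsingleton (Groth.Agent.Index22.bar X).hom
  haveI : LocallyOfFinitePresentation (Groth.Agent.Index22.bar X).hom := inferInstance
  haveI : Smooth (Groth.Agent.Index22.bar X).hom := Groth.Agent.S7795.result (Groth.Agent.Index22.bar X)
  have hsq := Groth.Agent.ProjSpace.isPullback_map n (algebraMap k (AlgebraicClosure k))
  let fK : (Groth.Agent.Index22.bar X).left ⟶ CohB1.ProjSpace n (AlgebraicClosure k) :=
    hsq.lift (Groth.Agent.Index22.prj X ≫ f) (Groth.Agent.Index22.bar X).hom
      (by rw [Category.assoc, hf]; exact pullback.condition)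
  have hfK : fK ≫ CohB1.ProjSpace.toSpec n (AlgebraicClosure k) = (Groth.Agent.Index22.bar X).hom :=
    hsq.lift_snd _ _ _
  haveI : IsClosedImmersion fK := by
    have hs : IsPullback (Groth.Agent.Index22.prj X) (fK ≫ CohB1.ProjSpace.toSpec n (AlgebraicClosure k))
        (f ≫ CohB1.ProjSpace.toSpec n k) (Spec.map (CommRingCat.ofHom (algebraMap k (AlgebraicClosure k)))) := by
      rw [hfK, hf]
      exact IsPullback.of_hasPullback _ _
    have hp : Groth.Agent.Index22.prj X ≫ f = fK ≫ Groth.Agent.ProjSpace.map n (algebraMap k (AlgebraicClosure k)) :=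
      (hsq.lift_fst _ _ _).symm
    exact MorphismProperty.of_isPullback (IsPullback.of_bot hs hp hsq) (inferInstance : IsClosedImmersion f)
  exact Groth.Agent.AVEmb13.two_mul_dim_le (Groth.Agent.Index22.bar X) g
    (Groth.Agent.Index22.topologicalKrullDim_bar.trans hg) n fK hfK

end Groth.Agent.S16680
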