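import Groth.Statements.S16682
import Groth.Agent.Lib.PicPn.Seesaw
import Groth.Agent.Lib.TensorMod.Invertible
import Groth.Agent.Lib.TensorMod.PullTensor

set_option autoImplicit false
universe u
open CategoryTheory CategoryTheory.Limits MonoidalCategory CartesianMonoidalCategory AlgebraicGeometry
open AbVar

namespace Groth.Agent.S16682

/-- Let k be a field, X a proper geometrically integral k-scheme (a complete variety), Y a variety over
k (separated, of finite type, geometrically integral), and L, M two invertible modules on X ×_k Y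
(the product in the category of k-schemes). If for every closed point y of Y the restrictions of L
and M to the fibre X ×_k Spec k(y) are isomorphic, then there is an invertible O_Y-module N with L
isomorphic to M ⊗ p^*N, where p : X ×_k Y → Y is the second projection (existence of an isomorphism;
N is determined only up to isomorphism). -/
theorem result (k : Type u) [Field k]
    (X Y : Over (Spec (CommRingCat.of k)))
    [IsProper X.hom] [GeometricallyIntegral X.hom]
    [IsSeparated Y.hom] [QuasiCompact Y.hom] [LocallyOfFiniteType Y.hom] [GeometricallyIntegral Y.hom]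
    (L M : (X ⊗ Y).left.Modules) (hL : PicF.IsInvertible L) (hM : PicF.IsInvertible M)
    (h : ∀ y : ↥Y.left, IsClosed ({y} : Set ↥Y.left) →
      Nonempty ((Scheme.Modules.pullback (pullback.fst (snd X Y).left (Y.left.fromSpecResidueField y))).obj L ≅
        (Scheme.Modules.pullback (pullback.fst (snd X Y).left (Y.left.fromSpecResidueField y))).obj M)) :
    ∃ N : Y.left.Modules, PicF.IsInvertible N ∧
      Nonempty (L ≅ CohB1.tensorMod M ((Scheme.Modules.pullback (snd X Y).left).obj N)) := by
  haveI : IsIntegral Y.left := GeometricallyIntegral.isIntegral_of_subsingleton Y.hom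
  haveI : IsLocallyNoetherian Y.left := LocallyOfFiniteType.isLocallyNoetherian Y.hom
  haveI : JacobsonSpace Y.left := LocallyOfFiniteType.jacobsonSpace Y.hom
  haveI : IsProper (snd X Y).left := inferInstanceAs (IsProper (pullback.snd X.hom Y.hom))
  haveI : Flat (snd X Y).left := Groth.Agent.AbRigid.flat_snd_left X Y
  haveI : GeometricallyIntegral (snd X Y).left :=
    inferInstanceAs (GeometricallyIntegral (pullback.snd X.hom Y.hom))
  haveI : LocallyOfFinitePresentation (snd X Y).left :=
    Groth.Agent.LimH13.locallyOfFinitePresentation_of_noetherian _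
  haveI : GeometricallyConnected (snd X Y).left := Groth.Agent.PicPn.geometricallyConnected_of_irreducible _
  have h0 := fun y => Groth.Agent.PicPn.finrank_fiber_of_geometrically (snd X Y).left y
  obtain ⟨D, hD, ⟨e⟩⟩ := Groth.Agent.M2.exists_inverse hM
  have hLD : PicF.IsInvertible (CohB1.tensorMod L D) := Groth.Agent.M2.isInvertible_tensor hL hD
  have ht : ∀ y, Nonempty ((Scheme.Modules.pullback ((snd X Y).left.fiberι y)).obj (CohB1.tensorMod L D) ≅
      Coh.structureModule ((snd X Y).left.fiber y)) :=
    Groth.Agent.PicPn.forall_trivial_of_closedPoints _ (fun y => inferInstance) hLD fun y hy =>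
      ⟨Groth.Agent.M2.pullTensorIso ((snd X Y).left.fiberι y) L D ≪≫
        Groth.Agent.M2.tensorIso (h y hy).some (Iso.refl _) ≪≫
        (Groth.Agent.M2.pullTensorIso ((snd X Y).left.fiberι y) M D).symm ≪≫
        (Scheme.Modules.pullback ((snd X Y).left.fiberι y)).mapIso e ≪≫
        Groth.Agent.Twist.pullbackUnitIso _⟩
  obtain ⟨⟨N, hN, ⟨φ⟩⟩, -⟩ := Groth.Agent.PicPn.exists_of_gens _ (Groth.Agent.PicPn.bijective_app_of_h0 _ h0)
    (fun y => Groth.Agent.PicPn.exists_gen_of_trivial_fibres _ h0 hLD ht y)
  exact ⟨N, hN, ⟨(Groth.Agent.M2.tensorRUnit L).symm ≪≫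
    Groth.Agent.M2.tensorIso (Iso.refl L) (e.symm ≪≫ Groth.Agent.M2.tensorComm M D) ≪≫
    (Groth.Agent.M2.tensorAssoc L D M).symm ≪≫ Groth.Agent.M2.tensorComm _ M ≪≫
    Groth.Agent.M2.tensorIso (Iso.refl M) φ.symm⟩⟩

end Groth.Agent.S16682
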