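import Groth.Statements.S16683
import Groth.Agent.Lib.PicAV13.Main

set_option autoImplicit false
universe u
open CategoryTheory CategoryTheory.Limits MonoidalCategory CartesianMonoidalCategory MonObj GrpObj AlgebraicGeometry
open AbVar

namespace Groth.Agent.S16683

/-- Fix a field k and a g-dimensional abelian variety X over k (a proper, geometrically integral k-group
scheme with underlying space of Krull dimension g), and let P be a k-scheme locally of finite type
which represents, through φ, the relative Picard functor Pic_{X/k} (the fppf sheaf associated to T ↦
Pic(X ×_k T)). Then P is smooth over k — in particular its identity component Pic⁰_{X/k}, the dual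
of X, is reduced and hence an abelian variety — and the underlying space of P has Krull dimension g
= dim X. (The published statement also identifies g with dim_k H^1(X, O_X) and the kernel of φ_L
with K(L) for L ample; those clauses are not part of this statement. The Picard scheme is taken as
given.) -/
theorem result (k : Type u) [Field k]
    (X : Over (Spec (CommRingCat.of k))) [GrpObj X] [IsProper X.hom] [GeometricallyIntegral X.hom]
    (g : ℕ) (hg : topologicalKrullDim ↥X.left = g)
    (P : Over (Spec (CommRingCat.of k)))
    (φ : ∀ T : Over (Spec (CommRingCat.of k)), PicF.Cl (PicF.XT X.hom T) → (T ⟶ P))
    (hP : AbDual.IsRelPicK Scheme.fppfPrecoverage X.hom P φ) [LocallyOfFiniteType P.hom] :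
    Smooth P.hom ∧ topologicalKrullDim ↥P.left = g := by
  exact Groth.Agent.PicAV13.smooth_and_dim X hP hg

end Groth.Agent.S16683
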