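import Groth.Statements.S16685
import Groth.Agent.Lib.TruncPoly23.Quot
import Mathlib.RingTheory.Artinian.Ring

set_option autoImplicit false
universe u
open HopfRep

namespace Groth.Agent.S16685

/-- The description of the kernel of Frobenius established in the course of the proof. Let k be a field
of characteristic p > 0 and A a finite-dimensional commutative Hopf algebra over k which is a local
ring, the coordinate ring of a connected finite k-group scheme G; let I be the augmentation ideal
(the kernel of the counit), d = dim_k I/I² the dimension of the tangent space at the identity, and J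
⊆ A the ideal generated by the p-th powers of the elements of I, so that A/J is the coordinate ring
of the kernel G[F] of the relative Frobenius. Then A/J is isomorphic as a k-algebra to k[X_1, …,
X_d]/(X_1^p, …, X_d^p) (existence of an isomorphism; it depends on the choice of elements of I
lifting a basis of I/I²); in particular G[F] has rank p^d. -/
theorem result (k : Type u) [Field k] (p : ℕ) [Fact p.Prime] [CharP k p]
    (A : Type u) [CommRing A] [HopfAlgebra k A] [FiniteDimensional k A] [IsLocalRing A]
    (d : ℕ) (hd : Module.finrank k (RingHom.ker (Bialgebra.counitAlgHom k A).toRingHom).Cotangent = d) :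
    Nonempty ((A ⧸ Ideal.span ((fun a : A => a ^ p) '' (RingHom.ker (Bialgebra.counitAlgHom k A).toRingHom : Set A))) ≃ₐ[k]
      (MvPolynomial (Fin d) k ⧸ Ideal.span (Set.range fun i : Fin d => (MvPolynomial.X i : MvPolynomial (Fin d) k) ^ p))) := by
  classical
  have : IsNoetherianRing A := IsNoetherianRing.of_finite k A
  have := Groth.Agent.TruncPoly23.finite_cotangent (k := k) (A := A)
  let b : Module.Basis (Fin d) k (Groth.Agent.TruncPoly23.aug k A).Cotangent := Module.finBasisOfFinrankEq k _ hd
  have hp0 : p ≠ 0 := (Fact.out : p.Prime).ne_zero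
  have : IsArtinianRing A := IsArtinianRing.of_finite k A
  have hI : IsNilpotent (Groth.Agent.TruncPoly23.aug k A) := by
    refine (Ideal.fg_of_isNoetherianRing _).isNilpotent_iff_le_nilradical.2 ?_
    have hmax : (Groth.Agent.TruncPoly23.aug k A).IsMaximal :=
      RingHom.ker_isMaximal_of_surjective _ fun c => ⟨algebraMap k A c, by simp⟩
    rw [IsLocalRing.eq_maximalIdeal hmax]
    exact fun x hx => mem_nilradical.2 <| by
      have h2 := IsArtinianRing.isNilpotent_jacobson_bot (R := A)
      rw [IsLocalRing.jacobson_eq_maximalIdeal ⊥ bot_ne_top] at h2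
      obtain ⟨N, hN⟩ := h2
      exact ⟨N, by simpa [hN] using Ideal.pow_mem_pow hx N⟩
  obtain ⟨N, hN⟩ := hI
  refine Groth.Agent.TruncPoly23.nonempty_algEquiv_truncated b p _ ?_
    (fun i a ha => Groth.Agent.TruncPoly23.der_mem_span_pow b p i ha)
    (fun i => Ideal.subset_span ⟨_, Groth.Agent.TruncPoly23.gen_mem b i, rfl⟩) ⟨N, hN.le.trans bot_le⟩
  rw [Ideal.span_le]
  rintro _ ⟨f, hf, rfl⟩
  exact Ideal.pow_mem_of_mem _ hf _ (Nat.pos_of_ne_zero hp0)


end Groth.Agent.S16685
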