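import Groth.Statements.S16687
import Groth.Agent.Lib.CubeField.Mumford22
import Groth.Agent.Lib.CubeField.FinInst

set_option autoImplicit false
universe u
open CategoryTheory CategoryTheory.Limits MonoidalCategory CartesianMonoidalCategory MonObj GrpObj AlgebraicGeometry
open AbVar

namespace Groth.Agent.S16687

/-- Let X be an abelian variety over a field k (a proper, geometrically integral k-group scheme) with
group law m : X ×_k X → X and projections p₁, p₂, let L be an invertible O_X-module, and let n ≥ 2
be an integer such that n^*L ≅ L^{⊗ n}, where n : X → X is multiplication by n (the n-th power of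
the identity in the group of endomorphisms). Then the class of L lies in Pic⁰_{X/k}, i.e. the
Mumford module of L is trivial: m^*L ≅ p₁^*L ⊗ p₂^*L (existence of an isomorphism of modules on X
×_k X). (The published statement allows any integer n other than 0 and 1, negative n included; this
row takes n a natural number with n ≥ 2. The converse implication also holds; this row is the
direction from one such n.) -/
theorem result (k : Type u) [Field k]
    (X : Over (Spec (CommRingCat.of k))) [GrpObj X] [IsProper X.hom] [GeometricallyIntegral X.hom]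
    (L : X.left.Modules) (hL : PicF.IsInvertible L) (n : ℕ) (hn : 2 ≤ n)
    (h : Nonempty ((Scheme.Modules.pullback (𝟙 X ^ n).left).obj L ≅ CohB1.tensorPow L n)) :
    Nonempty ((Scheme.Modules.pullback μ[X].left).obj L ≅
      CohB1.tensorMod ((Scheme.Modules.pullback (fst X X).left).obj L)
        ((Scheme.Modules.pullback (snd X X).left).obj L)) := by

  letI : ∀ Y : Scheme.{u}, PicGrp.Law Y := fun Y => Groth.Agent.M2.law Y
  have h1 : Groth.Agent.CubeField.P L hL (𝟙 X ^ n) = Groth.Agent.CubeField.P L hL (𝟙 X) ^ n := by
    apply Subtype.ext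
    rw [Groth.Agent.CubeField.P_id]
    rw [Groth.Agent.CubeField.P, PicGrp.cls_val, PicGrp.cls_pow_val]
    exact (PicGrp.cl_eq_cl_iff _ _).2 h
  have h2 := Groth.Agent.CubeField.D_eq_one_of_pow Groth.Agent.CubeField.finH1 hn h1
  rw [Groth.Agent.CubeField.D, mul_inv_eq_one] at h2
  have h3 := congrArg Subtype.val h2
  simp only [Groth.Agent.CubeField.P, PicGrp.mul_val, PicGrp.cls_val, PicGrp.mulCl_cl] at h3
  obtain ⟨e⟩ := (PicGrp.cl_eq_cl_iff _ _).1 h3
  exact ⟨(Scheme.Modules.pullbackCongr (congrArg (fun f : X ⊗ X ⟶ X => f.left)
    (show μ[X] = fst X X * snd X X by rw [Hom.mul_def, lift_fst_snd, Category.id_comp]))).app L ≪≫ e⟩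

end Groth.Agent.S16687
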