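import Groth.Statements.S16688
import Groth.Agent.Lib.CoalgH23.Dual

set_option autoImplicit false
universe u v w
open ComodSub

namespace Groth.Agent.S16688
open scoped TensorProduct

/-- Let `k` be a commutative ring, `A` a commutative Hopf algebra over `k` with antipode `S`, and `M` a
`k`-module with a left `A`-comodule structure `m ↦ Σ m₋₁ ⊗ m₀`. Then the map `M → M ⊗ A`, `m ↦ Σ m₀
⊗ S(m₋₁)`, is coassociative and counital: it is the coaction of a right `A`-comodule structure on
`M` (a right structure is determined by its coaction, so this structure is unique). -/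
theorem result (k : Type u) [CommRing k]
    (A : Type v) [CommRing A] [HopfAlgebra k A]
    (M : Type w) [AddCommGroup M] [Module k M] (l : ComodSub.LComod k A M) :
    ∃ c : HopfRep.Comod k A M, c.coact = ComodSub.rcoactOfLeft l := by

  refine ⟨{ coact := ComodSub.rcoactOfLeft l, coassoc := ?_, counit_comp := ?_ }, rfl⟩
  · refine LinearMap.ext fun v => ?_
    simp only [LinearMap.comp_apply, LinearEquiv.coe_coe, ComodSub.rcoactOfLeft_apply]
    let S : A →ₗ[k] A := HopfAlgebraStruct.antipode (R := k)
    let Φ : A ⊗[k] (A ⊗[k] M) →ₗ[k] M ⊗[k] (A ⊗[k] A) :=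
      (TensorProduct.map S S ∘ₗ (TensorProduct.comm k A A).toLinearMap).lTensor M ∘ₗ
        (TensorProduct.comm k (A ⊗[k] A) M).toLinearMap ∘ₗ (TensorProduct.assoc k A A M).symm.toLinearMap
    have h1 : ∀ z : A ⊗[k] M,
        TensorProduct.assoc k M A A ((ComodSub.rcoactOfLeft l).rTensor A
          (TensorProduct.comm k A M (S.rTensor M z))) = Φ (l.coact.lTensor A z) := by
      intro z
      induction z with
      | zero => simp
      | add p q hp hq => simp only [map_add, hp, hq]
      | tmul p q =>
        simp only [LinearMap.rTensor_tmul, TensorProduct.comm_tmul, LinearMap.lTensor_tmul,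
          ComodSub.rcoactOfLeft_apply]
        generalize l.coact q = y
        induction y with
        | zero => simp
        | add a b ha hb => simp only [map_add, TensorProduct.add_tmul, TensorProduct.tmul_add, ha, hb]
        | tmul a b => simp [Φ, S]
    rw [h1, show l.coact.lTensor A (l.coact v) = _ from LinearMap.congr_fun l.coassoc v]
    simp only [LinearMap.comp_apply, LinearEquiv.coe_coe]
    generalize l.coact v = z
    induction z with
    | zero => simp
    | add p q hp hq => simp only [map_add, hp, hq]
    | tmul p q => simp [Φ, S, Groth.Agent.CoalgH23.comul_antipode]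
  · refine LinearMap.ext fun v => ?_
    have h := LinearMap.congr_fun l.counit_comp v
    simp only [LinearMap.comp_apply, ComodSub.rcoactOfLeft_apply, LinearMap.flip_apply, TensorProduct.mk_apply] at h ⊢
    rw [← TensorProduct.comm_tmul (R := k) (m := (1 : k)) (n := v), ← h]
    generalize l.coact v = z
    induction z with
    | zero => simp
    | add p q hp hq => simp only [map_add, hp, hq]
    | tmul p q => simp [HopfAlgebra.counit_antipode]

end Groth.Agent.S16688
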