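import Groth.Statements.S16689
import Groth.Agent.Lib.CoalgH23.Dual

set_option autoImplicit false
universe u v w
open ComodSub

namespace Groth.Agent.S16689
open scoped TensorProduct

/-- Let `k` be a commutative ring, `A` a commutative Hopf algebra over `k` with antipode `S`, and `M` a
`k`-module with a right `A`-comodule structure `m ↦ Σ m₀ ⊗ m₁`. Then the map `M → A ⊗ M`, `m ↦ Σ
S(m₁) ⊗ m₀`, is coassociative and counital: it is the coaction of a left `A`-comodule structure on
`M` (a left structure is determined by its coaction, so this structure is unique). -/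
theorem result (k : Type u) [CommRing k]
    (A : Type v) [CommRing A] [HopfAlgebra k A]
    (M : Type w) [AddCommGroup M] [Module k M] (c : HopfRep.Comod k A M) :
    ∃ l : ComodSub.LComod k A M, l.coact = ComodSub.lcoactOfRight c := by

  refine ⟨{ coact := ComodSub.lcoactOfRight c, coassoc := ?_, counit_comp := ?_ }, rfl⟩
  · refine LinearMap.ext fun v => ?_
    simp only [LinearMap.comp_apply, LinearEquiv.coe_coe, ComodSub.lcoactOfRight_apply]
    let S : A →ₗ[k] A := HopfAlgebraStruct.antipode (R := k)
    let Φ : M ⊗[k] (A ⊗[k] A) →ₗ[k] A ⊗[k] (A ⊗[k] M) :=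
      (TensorProduct.assoc k A A M).toLinearMap ∘ₗ (TensorProduct.comm k M (A ⊗[k] A)).toLinearMap ∘ₗ
        (TensorProduct.map S S ∘ₗ (TensorProduct.comm k A A).toLinearMap).lTensor M
    have h1 : ∀ z : M ⊗[k] A,
        (ComodSub.lcoactOfRight c).lTensor A (TensorProduct.comm k M A (S.lTensor M z)) =
          Φ (TensorProduct.assoc k M A A (c.coact.rTensor A z)) := by
      intro z
      induction z with
      | zero => simp
      | add p q hp hq => simp only [map_add, hp, hq]
      | tmul p q =>
        simp only [LinearMap.rTensor_tmul, TensorProduct.comm_tmul, LinearMap.lTensor_tmul,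
          ComodSub.lcoactOfRight_apply]
        generalize c.coact p = y
        induction y with
        | zero => simp
        | add a b ha hb => simp only [map_add, TensorProduct.add_tmul, TensorProduct.tmul_add, ha, hb]
        | tmul a b => simp [Φ, S]
    letI := c
    rw [h1, show TensorProduct.assoc k M A A (c.coact.rTensor A (c.coact v)) = _ from
      LinearMap.congr_fun (HopfRep.Comod.coassoc (k := k) (A := A) (V := M)) v]
    simp only [LinearMap.comp_apply]
    generalize c.coact v = z
    induction z with
    | zero => simp
    | add p q hp hq => simp only [map_add, hp, hq]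
    | tmul p q => simp [Φ, S, Groth.Agent.CoalgH23.comul_antipode]
  · refine LinearMap.ext fun v => ?_
    letI := c
    have h := LinearMap.congr_fun (HopfRep.Comod.counit_comp (k := k) (A := A) (V := M)) v
    simp only [LinearMap.comp_apply, ComodSub.lcoactOfRight_apply, LinearMap.flip_apply, TensorProduct.mk_apply] at h ⊢
    rw [← TensorProduct.comm_tmul (R := k) (m := v) (n := (1 : k)), ← h]
    generalize c.coact v = z
    induction z with
    | zero => simp
    | add p q hp hq => simp only [map_add, hp, hq]
    | tmul p q => simp [HopfAlgebra.counit_antipode]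

end Groth.Agent.S16689
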