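import Groth.Statements.S16690
import Groth.Agent.Lib.CoalgH23.HomFixed

set_option autoImplicit false
universe u v w
open ComodSub

namespace Groth.Agent.S16690
open scoped TensorProduct

/-- Let `k` be a commutative ring, `A` a `k`-coalgebra that is flat over `k`, and `M` a finitely
presented `k`-module with a right `A`-comodule structure `m ↦ Σ m₀ ⊗ m₁`. Then the dual module `M^*
= Hom(M, k)` carries a left `A`-comodule structure whose coaction sends a form `g` to the element of
`A ⊗ M^*` that reads, through `a ⊗ φ ↦ (m ↦ φ(m) a)`, as the map `m ↦ Σ g(m₀) m₁` (the left dual of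
the given structure). (The published statement takes coalgebras to be commutative algebras whose
comultiplication and counit are algebra maps; the construction uses no multiplication on `A`, so
here `A` is any flat coalgebra.) -/
theorem result (k : Type u) [CommRing k]
    (A : Type v) [AddCommGroup A] [Module k A] [Coalgebra k A] [Module.Flat k A]
    (M : Type w) [AddCommGroup M] [Module k M] [Module.FinitePresentation k M]
    (c : HopfRep.Comod k A M) :
    ∃ l : ComodSub.LComod k A (Module.Dual k M), ComodSub.LComod.IsLDual c l := by

  let e : A ⊗[k] Module.Dual k M ≃ₗ[k] (M →ₗ[k] A) := (TensorProduct.comm k A (Module.Dual k M)).trans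
    (LinearEquiv.ofBijective _ ⟨Groth.Agent.CoalgH23.dualTensorHom_injective_of_flat,
      Groth.Agent.CoalgH23.dualTensorHom_surjective_of_flat⟩)
  let Θ : Module.Dual k M →ₗ[k] M →ₗ[k] A :=
    { toFun := ComodSub.ldualFun c
      map_add' := fun f g => LinearMap.ext fun m => by
        simp [ComodSub.ldualFun_apply, LinearMap.rTensor_add]
      map_smul' := fun a f => LinearMap.ext fun m => by
        simp [ComodSub.ldualFun_apply, LinearMap.rTensor_smul] }
  let r := e.symm.toLinearMap ∘ₗ Θ
  have hr : ∀ g, dualTensorHom k M A (TensorProduct.comm k A (Module.Dual k M) (r g)) = ComodSub.ldualFun c g :=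
    fun g => e.apply_symm_apply (Θ g)
  letI := c
  refine ⟨{ coact := r, coassoc := ?_, counit_comp := ?_ }, hr⟩
  · refine LinearMap.ext fun g => ?_
    simp only [LinearMap.comp_apply, LinearEquiv.coe_coe]
    apply ((TensorProduct.assoc k A A (Module.Dual k M)).symm.trans
      (TensorProduct.comm k (A ⊗[k] A) (Module.Dual k M))).injective
    refine Groth.Agent.CoalgH23.dualTensorHom_injective_of_flat (LinearMap.ext fun m => ?_)
    simp only [LinearEquiv.trans_apply, LinearEquiv.symm_apply_apply]
    have h1 : ∀ z : A ⊗[k] Module.Dual k M,
        dualTensorHom k M (A ⊗[k] A) (TensorProduct.comm k (A ⊗[k] A) (Module.Dual k M)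
          ((TensorProduct.assoc k A A (Module.Dual k M)).symm (r.lTensor A z))) m =
        (dualTensorHom k M A (TensorProduct.comm k A (Module.Dual k M) z)).rTensor A (c.coact m) := by
      intro z
      induction z with
      | zero => simp
      | add p q hp hq => simp only [map_add, LinearMap.add_apply, LinearMap.rTensor_add, hp, hq]
      | tmul p q =>
        have h2 : ∀ y : A ⊗[k] Module.Dual k M,
            dualTensorHom k M (A ⊗[k] A) (TensorProduct.comm k (A ⊗[k] A) (Module.Dual k M)
              ((TensorProduct.assoc k A A (Module.Dual k M)).symm (p ⊗ₜ[k] y))) m =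
            p ⊗ₜ[k] dualTensorHom k M A (TensorProduct.comm k A (Module.Dual k M) y) m := by
          intro y
          induction y with
          | zero => simp
          | add a b ha hb => simp only [TensorProduct.tmul_add, map_add, LinearMap.add_apply, ha, hb]
          | tmul a b => simp [TensorProduct.tmul_smul]
        rw [LinearMap.lTensor_tmul, h2, hr, ComodSub.ldualFun_apply]
        generalize c.coact m = w
        induction w with
        | zero => simp
        | add a b ha hb => simp only [map_add, TensorProduct.tmul_add, ha, hb]
        | tmul a b => simp [TensorProduct.tmul_smul, ← TensorProduct.smul_tmul']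
    rw [h1, hr]
    have h3 : ∀ z : A ⊗[k] Module.Dual k M,
        dualTensorHom k M (A ⊗[k] A) (TensorProduct.comm k (A ⊗[k] A) (Module.Dual k M)
          ((CoalgebraStruct.comul (R := k)).rTensor _ z)) m =
        CoalgebraStruct.comul (R := k) (dualTensorHom k M A (TensorProduct.comm k A (Module.Dual k M) z) m) := by
      intro z
      induction z with
      | zero => simp
      | add p q hp hq => simp only [map_add, LinearMap.add_apply, hp, hq]
      | tmul p q => simp
    rw [h3, hr, ComodSub.ldualFun_apply]
    let Ψ : M ⊗[k] (A ⊗[k] A) →ₗ[k] A ⊗[k] A := (TensorProduct.lid k _).toLinearMap ∘ₗ g.rTensor (A ⊗[k] A)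
    have h4 : ∀ w : M ⊗[k] A, (ComodSub.ldualFun c g).rTensor A w =
        Ψ (TensorProduct.assoc k M A A (c.coact.rTensor A w)) := by
      intro w
      induction w with
      | zero => simp
      | add p q hp hq => simp only [map_add, hp, hq]
      | tmul p q =>
        simp only [LinearMap.rTensor_tmul, ComodSub.ldualFun_apply]
        generalize c.coact p = y
        induction y with
        | zero => simp
        | add a b ha hb => simp only [map_add, TensorProduct.add_tmul, ha, hb]
        | tmul a b => simp [Ψ, ← TensorProduct.smul_tmul']
    rw [h4, show TensorProduct.assoc k M A A (c.coact.rTensor A (c.coact m)) = _ from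
      LinearMap.congr_fun (HopfRep.Comod.coassoc (k := k) (A := A) (V := M)) m]
    simp only [LinearMap.comp_apply]
    generalize c.coact m = w
    induction w with
    | zero => simp
    | add p q hp hq => simp only [map_add, hp, hq]
    | tmul p q => simp [Ψ]
  · refine LinearMap.ext fun g => (TensorProduct.lid k _).injective (LinearMap.ext fun m => ?_)
    simp only [LinearMap.comp_apply, TensorProduct.mk_apply, TensorProduct.lid_tmul, one_smul]
    have h1 : ∀ z : A ⊗[k] Module.Dual k M,
        TensorProduct.lid k _ ((CoalgebraStruct.counit (R := k) (A := A)).rTensor (Module.Dual k M) z) m =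
        CoalgebraStruct.counit (R := k) (dualTensorHom k M A (TensorProduct.comm k A (Module.Dual k M) z) m) := by
      intro z
      induction z with
      | zero => simp
      | add p q hp hq => simp only [map_add, LinearMap.add_apply, hp, hq]
      | tmul p q => simp [mul_comm]
    rw [h1, hr, ComodSub.ldualFun_apply]
    have h2 : ∀ w : M ⊗[k] A, CoalgebraStruct.counit (R := k) (TensorProduct.lid k A (g.rTensor A w)) =
        g (TensorProduct.rid k M ((CoalgebraStruct.counit (R := k) (A := A)).lTensor M w)) := by
      intro w
      induction w with
      | zero => simp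
      | add p q hp hq => simp only [map_add, hp, hq]
      | tmul p q => simp [mul_comm]
    have h3 := LinearMap.congr_fun (HopfRep.Comod.counit_comp (k := k) (A := A) (V := M)) m
    simp only [LinearMap.comp_apply] at h3
    rw [h2, show c.coact = HopfRep.Comod.coact (k := k) (A := A) (V := M) from rfl, h3]
    simp

end Groth.Agent.S16690
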