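import Groth.Statements.S16697
import Groth.Agent.Lib.StAlg16.QCMor
import Groth.Agent.Lib.StAlg16.DiagIff
import Groth.Agent.Lib.QAMor14.Basic
import Groth.Agent.Lib.FiniteMor15.Basic
import Groth.Agent.S12970

set_option autoImplicit false
universe u
open AlgSt AlgSt.IsWellNighAffine

namespace Groth.Agent.S16697
set_option linter.style.haveILetI false
set_option backward.isDefEq.respectTransparency false
set_option backward.isDefEq.respectTransparency.types false
open Groth.Agent.StAlg Groth.Agent.StAlg16 Groth.Agent.FC16 CategoryTheory.Limits CategoryTheory CategoryTheory.Functor AlgebraicGeometry AlgSp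


open CategoryTheory AlgebraicGeometry in
/-- A well-nigh affine algebraic stack is quasi-compact, quasi-DM over `S` and separated over `S` (for
`S = Spec ℤ` these are the absolute notions of the published statement). The characterisation by
presentations `[U/R]` with `U`, `R` affine and `s`, `t` finite locally free is not stated. -/
theorem result (S : Scheme.{u}) (𝒳 : AlgSt.Cat S)
    (h𝒳 : AlgSt.IsAlgStack Scheme.fppfPrecoverage 𝒳) (hw : AlgSt.IsWellNighAffine 𝒳) :
    AlgSt.IsQuasiCompact 𝒳 ∧ AlgSt.IsQuasiDMOver 𝒳 ∧ AlgSt.IsSeparatedOver 𝒳 := by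
  obtain ⟨U, x, hU, hx⟩ := hw
  haveI := hU
  have h1 : AlgSt.RepByAlgSpWith AlgSp.IsSurjectiveMor x := repByAlgSpWith_mono (fun _ _ _ _ ha => ha.1.1.1) hx
  have h2 : AlgSt.RepByAlgSpWith (AlgSp.LocP @Flat) x := repByAlgSpWith_mono (fun _ _ _ _ ha => ha.1.1.2) hx
  have h3 : AlgSt.RepByAlgSpWith (AlgSp.LocP @LocallyOfFinitePresentation) x := repByAlgSpWith_mono (fun _ _ _ _ ha => ha.2) hx
  have h4 : AlgSt.RepByAlgSpWith (AlgSp.LocP (@LocallyQuasiFinite ⊓ @LocallyOfFiniteType)) x :=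
    repByAlgSpWith_mono (fun _ _ T _ ha => Groth.Agent.FiniteMor15.locP_lqf_of_isFiniteMor (AlgSp.IsAlgSpace.yon_obj T) ha.1.2) hx
  have h5 : AlgSt.RepByAlgSpWith AlgSp.IsProperMor x :=
    repByAlgSpWith_mono (fun _ hF T _ ha =>
      ((Groth.Agent.AlgSpace.isFiniteMor_iff_affine_proper hF (AlgSp.IsAlgSpace.yon_obj T)).1 ha.1.2).2) hx
  have hq : AlgSt.IsQuasiCompact 𝒳 :=
    Groth.Agent.StAlg16.isQuasiCompact_of_isSurjective h𝒳 (Groth.Agent.StAlg16.isAlgStack_overCat U) x
      (Groth.Agent.StAlg16.isSurjective_of_with h𝒳.isStack.1 h1) (Groth.Agent.StAlg16.isQuasiCompact_overCat U)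
  have hd : AlgSt.IsQuasiDMOver 𝒳 := Groth.Agent.S12970.result S 𝒳 h𝒳 ⟨(AlgSp.yon S).obj U, AlgSp.IsAlgSpace.yon_obj U⟩
    (BasedFunctor.comp (AlgSt.toOverCat U) x) (with_comp_equiv (toOverCat_isEquivOver U) h2)
    (with_comp_equiv (toOverCat_isEquivOver U) h3) (with_comp_equiv (toOverCat_isEquivOver U) h1)
    (with_comp_equiv (toOverCat_isEquivOver U) h4)
  refine ⟨hq, hd, ?_⟩
  have hg := h𝒳.isStack.1
  have hz := isFibGrpd_of_rep (rep_overCat U)
  let t := FibCat.toSelf 𝒳
  have hsep : IsSeparated U.hom := IsSeparated.of_comp U.hom (terminal.from S)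
  have hk : AlgSt.RepByAlgSpWith AlgSp.IsSeparatedMor (BasedFunctor.comp x t) :=
    with_of_iso (eqToIso (selfOver_functor_eq _ _))
      (Groth.Agent.QAMor14.with_toSelf_overCat pbP_isSeparatedMor U ((AlgSp.isSeparatedMor_yon_map_iff _).2 hsep))
  refine with_of_fpFst_cover (z := pair (Iso.refl (BasedFunctor.comp x t)) (Iso.refl (BasedFunctor.comp x t)))
    pbP_isProperMor (isLocalOnBase_fppf_of_fpqc isLocalOnBase_fpqc_isProperMor) hg
    (fp_isFibGrpd hg hg selfOver_isFibGrpd _ _)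
    (fp_isFibGrpd hz hz selfOver_isFibGrpd _ _) h𝒳.diag
    (with_fp_map_gen goodP_locP hg selfOver_isFibGrpd t t hz hz h2 h2)
    (with_fp_map_gen goodP_locP hg selfOver_isFibGrpd t t hz hz h3 h3)
    (with_fp_map_gen goodP_surjective hg selfOver_isFibGrpd t t hz hz h1 h1)
    ((with_cmp_iff (wrIso (FibCat.fpIso x x) t) (fun _ => rfl)).2 ?_)
  exact with_of_comp (g := FibCat.fpFst (BasedFunctor.comp x t) (BasedFunctor.comp x t)) goodP_isProperMor
    (fp_isFibGrpd hz hz hg _ _) (fp_isFibGrpd hz hz selfOver_isFibGrpd _ _) hz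
    (with_of_iso (Iso.refl _) (with_fpFst x h5))
    (with_diag_of_rep1 pbP_isProperMor (with_fpFst _ hk) fun _ hX _ a ha => Groth.Agent.StAlg.isProperMor_diagonal hX a ha)

end Groth.Agent.S16697
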