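import Groth.Statements.S16699
import Groth.Agent.Lib.StAlg16.LocQ
import Groth.Agent.Lib.StAlg.Psh

set_option autoImplicit false
universe u
open AlgSt AlgSt.IsWellNighAffine

namespace Groth.Agent.S16699
set_option linter.style.haveILetI false
set_option backward.isDefEq.respectTransparency false
set_option backward.isDefEq.respectTransparency.types false
open Groth.Agent.StAlg Groth.Agent.StAlg16 Groth.Agent.FC16 CategoryTheory.Limits


open CategoryTheory AlgebraicGeometry in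
/-- An algebraic stack affine over a well-nigh affine algebraic stack is well-nigh affine. -/
theorem result (S : Scheme.{u}) (𝒳 𝒳' : AlgSt.Cat S)
    (h𝒳 : AlgSt.IsAlgStack Scheme.fppfPrecoverage 𝒳) (h𝒳' : AlgSt.IsAlgStack Scheme.fppfPrecoverage 𝒳')
    (hw : AlgSt.IsWellNighAffine 𝒳) (f : 𝒳' ⥤ᵇ 𝒳) (hf : AlgSt.RepByAlgSpWith AlgSp.IsAffineMor f) :
    AlgSt.IsWellNighAffine 𝒳' := by
  obtain ⟨U, x, hU, hx⟩ := hw
  obtain ⟨F, e, he, hP⟩ := hf U x
  obtain ⟨W, i, fst, sq, hW⟩ := hP hU (𝟙 ((AlgSp.yon S).obj U))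
  haveI : IsIso fst := sq.isIso_fst_of_isIso
  haveI : IsIso fst.hom := inferInstanceAs (IsIso ((ObjectProperty.ι _).map fst))
  have h1 : FibCat.IsEquivOver (AlgSt.ofSpMap fst) := ofPshMap_isEquivOver fst.hom
  refine ⟨W, BasedFunctor.comp (BasedFunctor.comp (BasedFunctor.comp (AlgSt.ofOverCat W) (AlgSt.ofSpMap fst)) e)
    (FibCat.fpSnd x f), hW, ?_⟩
  exact with_comp_equiv (isEquivOver_comp (isEquivOver_comp (ofOverCat_isEquivOver W) h1) he)
    (with_fpSnd f hx)

end Groth.Agent.S16699
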