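import Groth.Statements.S1670
import Groth.Agent.Lib.GeomIrr18.Comp
import Mathlib.AlgebraicGeometry.Noetherian

set_option autoImplicit false
universe u
open CategoryTheory CategoryTheory.Limits AlgebraicGeometry
open Variety

namespace Groth.Agent.S1670

/-- Let X be locally of finite type over k, K a separable closure of k, and T an irreducible component
of X. Then the inverse image of T in X_K is the union of the finitely many irreducible components of
X_K mapping into T, and these form a single orbit under the action of the k-automorphisms of K on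
X_K. -/
theorem result (k : Type u) [Field k] (X : Scheme.{u}) [X.Over (Spec (CommRingCat.of k))] [LocallyOfFiniteType (X ↘ (Spec (CommRingCat.of k)))]
    (T : Set X) (hT : T ∈ irreducibleComponents (X : Type u)) :
    {T' : Set (Curv2.bc k X (SeparableClosure k)) | T' ∈ irreducibleComponents (Curv2.bc k X (SeparableClosure k) : Type u) ∧
        (Curv2.bcFst k X (SeparableClosure k)).base '' T' ⊆ T}.Finite ∧
      (Curv2.bcFst k X (SeparableClosure k)).base ⁻¹' T = ⋃₀ {T' : Set (Curv2.bc k X (SeparableClosure k)) | T' ∈ irreducibleComponents (Curv2.bc k X (SeparableClosure k) : Type u) ∧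
        (Curv2.bcFst k X (SeparableClosure k)).base '' T' ⊆ T} ∧
      ∀ T' T'' : Set (Curv2.bc k X (SeparableClosure k)), T' ∈ irreducibleComponents (Curv2.bc k X (SeparableClosure k) : Type u) →
        T'' ∈ irreducibleComponents (Curv2.bc k X (SeparableClosure k) : Type u) →
        (Curv2.bcFst k X (SeparableClosure k)).base '' T' ⊆ T → (Curv2.bcFst k X (SeparableClosure k)).base '' T'' ⊆ T →
        ∃ σ : (SeparableClosure k) ≃ₐ[k] (SeparableClosure k), (Curv2.galAct k X (SeparableClosure k) σ).base '' T' = T'' := by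
  let K := SeparableClosure k
  let π := Curv2.bcFst k X K
  let S := {T' : Set (Curv2.bc k X K) | T' ∈ irreducibleComponents (Curv2.bc k X K : Type u) ∧ π '' T' ⊆ T}
  obtain ⟨ξ, hξ, hξT⟩ := GeomIrr.exists_generic_component hT
  have hmax : ∀ w, π w = ξ → GeomIrr.IsMaximalPt w := by
    intro w hw
    obtain ⟨η, hη, hηw⟩ := GeomIrr.exists_maximal_specializes w
    obtain ⟨σ, hσ⟩ := BcField.exists_galAct k X K (x := η) (y := w) (by
      change π η = π w
      rw [hw]
      exact hξ _ (hw ▸ hηw.map π.continuous))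
    rw [← hσ]
    exact GeomIrr.isMaximalPt_galAct k X K σ hη
  have hS : ∀ T', T' ∈ S ↔ ∃ w, π w = ξ ∧ closure {w} = T' := by
    intro T'
    constructor
    · rintro ⟨h1, h2⟩
      obtain ⟨w, hw, hwT⟩ := GeomIrr.exists_generic_component h1
      refine ⟨w, ?_, hwT⟩
      have h3 : π w ∈ closure {ξ} := hξT.ge (h2 ⟨w, hwT.le (subset_closure rfl), rfl⟩)
      exact (GeomIrr.isMaximalPt_bcFst k X K hw ξ (specializes_iff_mem_closure.mpr h3)).symm
    · rintro ⟨w, hw, rfl⟩
      refine ⟨GeomIrr.closure_mem_of_isMaximalPt (hmax w hw), ?_⟩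
      rw [GeomIrr.image_closure k X K w]
      exact (show closure {π w} = T by rw [hw, hξT]).le
  have hfib : (π ⁻¹' {ξ}).Finite := by
    haveI := GeomIrr.isIntegralHom_fst (X ↘ Spec (CommRingCat.of k)) K
    haveI : LocallyOfFiniteType (Curv2.bcSnd k X K) := MorphismProperty.pullback_snd _ _ inferInstance
    haveI : IsLocallyNoetherian (Curv2.bc k X K) := LocallyOfFiniteType.isLocallyNoetherian (Curv2.bcSnd k X K)
    obtain ⟨W, hW, hξW, -⟩ := exists_isAffineOpen_mem_and_subset (X := X) (x := ξ) (U := ⊤) trivial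
    let V : (Curv2.bc k X K).Opens := π ⁻¹ᵁ W
    haveI : CompactSpace (V : Scheme.{u}) := isCompact_iff_compactSpace.mp
      (QuasiCompact.isCompact_preimage (f := π) _ W.isOpen hW.isCompact)
    haveI : IsNoetherian (V : Scheme.{u}) := ⟨⟩
    have hfin := TopologicalSpace.NoetherianSpace.finite_irreducibleComponents (α := (V : Scheme.{u}))
    have hmem : ∀ w ∈ π ⁻¹' {ξ}, w ∈ V := fun w hw => show π w ∈ W by rw [show π w = ξ from hw]; exact hξW
    have hcl : ∀ w (hw : w ∈ π ⁻¹' {ξ}), closure ({⟨w, hmem w hw⟩} : Set (V : Scheme.{u})) ∈ irreducibleComponents (V : Scheme.{u}) := by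
      intro w hw
      refine GeomIrr.closure_mem_of_isMaximalPt fun y hy => Subtype.ext ?_
      exact hmax w hw y.1 (hy.map continuous_subtype_val)
    haveI := hfin.to_subtype
    refine Set.finite_coe_iff.mp (Finite.of_injective
      (fun w : ↑(π ⁻¹' {ξ}) => (⟨_, hcl w.1 w.2⟩ : irreducibleComponents (V : Scheme.{u}))) fun a b hab => ?_)
    have h1 : closure ({⟨a.1, hmem a.1 a.2⟩} : Set (V : Scheme.{u})) = closure {⟨b.1, hmem b.1 b.2⟩} := congrArg Subtype.val hab
    have h2 := (inseparable_iff_closure_eq.mpr h1).eq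
    exact Subtype.ext (Subtype.mk.inj h2)
  refine ⟨(hfib.image fun w => closure ({w} : Set _)).subset fun T' h => ?_, ?_, fun T' T'' h1 h2 h3 h4 => ?_⟩
  · obtain ⟨w, hw, rfl⟩ := (hS T').mp h
    exact ⟨w, hw, rfl⟩
  · refine Set.Subset.antisymm (fun z hz => ?_) ?_
    · haveI := GeomIrr.flat_bcFst k X K
      have h1 : ξ ⤳ π z := specializes_iff_mem_closure.mpr (hξT.ge hz)
      obtain ⟨w, hwz, hw⟩ := GeomIrr.exists_specializes π h1
      exact Set.mem_sUnion.mpr ⟨closure {w}, (hS _).mpr ⟨w, hw, rfl⟩, specializes_iff_mem_closure.mp hwz⟩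
    · rintro z ⟨T', h, hz⟩
      exact h.2 ⟨z, hz, rfl⟩
  · obtain ⟨w, hw, rfl⟩ := (hS T').mp ⟨h1, h3⟩
    obtain ⟨w', hw', rfl⟩ := (hS T'').mp ⟨h2, h4⟩
    obtain ⟨σ, hσ⟩ := BcField.exists_galAct k X K (x := w) (y := w') (hw.trans hw'.symm)
    refine ⟨σ, ?_⟩
    rw [← hσ]
    exact GeomIrr.galAct_image_closure k X K σ w

end Groth.Agent.S1670
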