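import Groth.Statements.S16707
import Mathlib
import Groth.Agent.Lib.H2Alg.WeakAss

set_option autoImplicit false
universe u v
open CAlg

namespace Groth.Agent.S16707
open TensorProduct

open TensorProduct in
/-- Let A be a commutative ring, I a nilpotent ideal of A and f : M → N a homomorphism of A-modules with
N flat over A (no finiteness assumption on M or N). If the base change of f to A/I, that is M/IM →
N/IN, is bijective, then f is bijective. -/
theorem result (A : Type u) [CommRing A] (I : Ideal A)
    (hI : IsNilpotent I) (M N : Type v) [AddCommGroup M] [Module A M] [AddCommGroup N] [Module A N]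
    [Module.Flat A N] (f : M →ₗ[A] N)
    (hf : Function.Bijective (f.baseChange (A ⧸ I))) :
    Function.Bijective f := by
  obtain ⟨n, hn⟩ := hI
  rw [Ideal.zero_eq_bot] at hn
  have nak : ∀ (P : Type v) [AddCommGroup P] [Module A P], (⊤ : Submodule A P) ≤ I • ⊤ → ∀ x : P, x = 0 := by
    intro P _ _ h x
    have : ∀ k, (⊤ : Submodule A P) ≤ I ^ k • ⊤ := by
      intro k; induction k with
      | zero => simp
      | succ k ih => rw [pow_succ', Submodule.mul_smul]; exact h.trans (Submodule.smul_mono le_rfl ih)
    have := this n (Submodule.mem_top (x := x))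
    rwa [hn, Submodule.bot_smul, Submodule.mem_bot] at this
  have hsurj : Function.Surjective f := by
    rw [← LinearMap.range_eq_top]
    have hsub : ∀ x : N ⧸ LinearMap.range f, x = 0 := nak _ (by
      rintro x -
      obtain ⟨y, rfl⟩ := Submodule.mkQ_surjective _ x
      obtain ⟨z, hz⟩ := hf.2 (1 ⊗ₜ y)
      obtain ⟨w, rfl⟩ := TensorProduct.mk_surjective A M (A ⧸ I) Ideal.Quotient.mk_surjective z
      rw [TensorProduct.mk_apply, LinearMap.baseChange_tmul] at hz
      have := (TensorProduct.quotTensorEquivQuotSMul N I).injective.eq_iff.2 hz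
      have h2 : f w - y ∈ (I • ⊤ : Submodule A N) := by
        simpa [Submodule.Quotient.eq, ← Ideal.Quotient.algebraMap_eq] using this
      have h3 := Submodule.mem_map_of_mem (f := (LinearMap.range f).mkQ) h2
      rw [Submodule.map_smul'', Submodule.map_top, Submodule.range_mkQ, map_sub, Submodule.mkQ_apply, (Submodule.Quotient.mk_eq_zero _).2 (LinearMap.mem_range_self f w), zero_sub, neg_mem_iff] at h3
      exact h3)
    exact eq_top_iff.2 fun y _ => (Submodule.Quotient.mk_eq_zero _).1 (hsub _)
  refine ⟨?_, hsurj⟩
  rw [← LinearMap.ker_eq_bot, eq_bot_iff]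
  intro x hx
  have hex := LinearMap.exact_subtype_ker_map f
  have hi : Function.Injective ((LinearMap.ker f).subtype.lTensor (A ⧸ I)) := by
    apply lTensor_injective_of_exact_of_exact_of_rTensor_injective (LinearMap.exact_subtype_mkQ I)
      (Submodule.mkQ_surjective _) hex hsurj
    · exact Module.Flat.rTensor_preserves_injective_linearMap (M := N) _ I.injective_subtype
    · exact Module.Flat.lTensor_preserves_injective_linearMap (M := A) _ Subtype.val_injective
  have hzero : ∀ k : LinearMap.ker f, ((1 : A ⧸ I) ⊗ₜ[A] k) = 0 := fun k => by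
    apply (injective_iff_map_eq_zero _).1 hi
    apply (injective_iff_map_eq_zero _).1 hf.1
    rw [LinearMap.lTensor_tmul, LinearMap.baseChange_tmul, Submodule.subtype_apply, LinearMap.mem_ker.1 k.2, tmul_zero]
  have := nak (LinearMap.ker f) (fun k _ => by
    have := congrArg (TensorProduct.quotTensorEquivQuotSMul (LinearMap.ker f) I) (hzero k)
    simpa [← Ideal.Quotient.algebraMap_eq, Submodule.Quotient.mk_eq_zero] using this) ⟨x, hx⟩
  exact congrArg Subtype.val this

end Groth.Agent.S16707
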