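import Groth.Statements.S16708
import Groth.Agent.Lib.CoalgH23.Integral

set_option autoImplicit false
universe u
open HopfRep

namespace Groth.Agent.S16708

open scoped Groth.Agent.CoalgH23
open Groth.Agent.CoalgH23 WithConv

/-- Let G be a finite group and k a field in which the order of G is a nonzero element. Then the
constant group scheme of G over k is linearly reductive: every finite-dimensional comodule over its
coordinate Hopf algebra (the algebra of functions G → k with the Hopf structure of the constant
group) is semisimple, i.e. every subcomodule admits a complementary subcomodule. -/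
theorem result (k : Type u) [Field k] (G : Type u) [Group G]
    [Fintype G] [DecidableEq G] (hG : ((Fintype.card G : ℕ) : k) ≠ 0) :
    HopfRep.IsLinearlyReductive k (ConstGrp.F k G) := by
  let c : k := ((Fintype.card G : ℕ) : k)⁻¹
  let l : ConstGrp.F k G →ₗ[k] k :=
    { toFun := fun f => c * ∑ g, f g
      map_add' := fun f f' =>
        (congrArg (c * ·) (Finset.sum_add_distrib (f := fun g => f g) (g := fun g => f' g))).trans (mul_add c _ _)
      map_smul' := fun r f =>
        (congrArg (c * ·) (Finset.mul_sum Finset.univ (fun g => (f g : k)) r).symm).trans (mul_left_comm c r _) }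
  have he : ∀ g, l (ConstGrp.e k g) = c := fun g => by
    show c * ∑ h, ConstGrp.e k g h = c
    simp only [ConstGrp.e_apply]
    simp
  refine isLinearlyReductive_of_integral (l := l) (show c * ∑ g : G, (1 : k) = 1 by rw [Finset.sum_const, Finset.card_univ, nsmul_one]; exact inv_mul_cancel₀ hG) fun y => ?_
  refine LinearMap.congr_fun (?_ : (TensorProduct.lid k _).toLinearMap ∘ₗ l.rTensor _ ∘ₗ CoalgebraStruct.comul (R := k) =
    Algebra.linearMap k (ConstGrp.F k G) ∘ₗ l) y
  refine ConstGrp.linearMap_ext fun g => ?_
  simp only [LinearMap.comp_apply, LinearEquiv.coe_coe, Algebra.linearMap_apply, he, ConstGrp.comul_e, map_sum,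
    LinearMap.rTensor_tmul, TensorProduct.lid_tmul, ← Finset.smul_sum]
  rw [Algebra.algebraMap_eq_smul_one, ← ConstGrp.sum_e,
    Fintype.sum_equiv ((Equiv.inv G).trans (Equiv.mulRight g)) (fun a => ConstGrp.e k (a⁻¹ * g)) (fun a => ConstGrp.e k a)
      fun a => rfl]

end Groth.Agent.S16708
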