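import Groth.Statements.S16710
import Groth.Agent.Lib.NumPoly18.StrictNef

set_option autoImplicit false
universe u
open CategoryTheory CategoryTheory.Limits AlgebraicGeometry TopologicalSpace
open Variety

namespace Groth.Agent.S16710

/-- Let X be a proper scheme over a field k and L an invertible O_X-module. Then L is ample if and only
if (i) L is strictly nef, meaning χ(O_C ⊗ L) - χ(O_C) > 0 for every integral closed subscheme C ⊆ X
of dimension one, and (ii) L is semiample, meaning some positive tensor power of L is generated by
its global sections (is a quotient of a free O_X-module). -/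
theorem result (k : Type u) [Field k] (X : Scheme.{u})
    [X.Over (Spec (CommRingCat.of k))] [IsProper (X ↘ (Spec (CommRingCat.of k)))]
    (L : X.Modules) (hL : PicF.IsInvertible L) :
    CohB1.IsAmple L ↔
      ((∀ C : X.IdealSheafData, IsIntegral C.subscheme →
          topologicalKrullDim (C.support : Set X) = 1 →
            0 < Curv2.euler k X (CohB1.tensorMod (ClSub.quotMod C) L) - Curv2.euler k X (ClSub.quotMod C)) ∧
        ∃ m : ℕ, Curv2.IsGloballyGenerated (CohB1.tensorPow L (m + 1))) := by
  rw [Groth.Agent.NumPoly18.isAmple_iff_strictlyNef_semiample k hL]
  simp only [Groth.Agent.NumPoly18.cdeg_quotMod]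
  refine and_congr_left' (forall_congr' fun C => imp_congr_right fun _ => imp_congr_right fun _ => ?_)
  exact_mod_cast Iff.rfl

end Groth.Agent.S16710
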