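import Groth.Statements.S16712
import Groth.Agent.Lib.NumPoly18.Pullback

set_option autoImplicit false
universe u
open CategoryTheory CategoryTheory.Limits AlgebraicGeometry TopologicalSpace
open Variety

namespace Groth.Agent.S16712

/-- Let X and X' be proper schemes over a field k, f : X' → X a surjective k-morphism and L an
invertible O_X-module. Then L is nef, meaning χ(O_C ⊗ L) - χ(O_C) ≥ 0 for every integral closed
subscheme C ⊆ X of dimension one, if and only if the pullback f^*L is nef on X' in the same sense. -/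
theorem result (k : Type u) [Field k] (X X' : Scheme.{u})
    [X.Over (Spec (CommRingCat.of k))] [IsProper (X ↘ (Spec (CommRingCat.of k)))]
    [X'.Over (Spec (CommRingCat.of k))] [IsProper (X' ↘ (Spec (CommRingCat.of k)))]
    (f : X' ⟶ X) (hf : f ≫ (X ↘ (Spec (CommRingCat.of k))) = X' ↘ (Spec (CommRingCat.of k)))
    [Surjective f] (L : X.Modules) (hL : PicF.IsInvertible L) :
    (∀ C : X.IdealSheafData, IsIntegral C.subscheme →
        topologicalKrullDim (C.support : Set X) = 1 →
          0 ≤ Curv2.euler k X (CohB1.tensorMod (ClSub.quotMod C) L) - Curv2.euler k X (ClSub.quotMod C)) ↔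
      (∀ C' : X'.IdealSheafData, IsIntegral C'.subscheme →
        topologicalKrullDim (C'.support : Set X') = 1 →
          0 ≤ Curv2.euler k X' (CohB1.tensorMod (ClSub.quotMod C') ((Scheme.Modules.pullback f).obj L)) -
            Curv2.euler k X' (ClSub.quotMod C')) := by
  have hfL := Groth.Agent.Twist.isInvertible_pullback f hL
  constructor
  · intro h
    have h' := Groth.Agent.NumPoly18.cdeg_nonneg_of_quotMod (k := k) (L := L) fun C hC h1 => by
      rw [Groth.Agent.NumPoly18.cdeg_quotMod]; exact_mod_cast h C hC h1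
    intro C hC h1
    have := Groth.Agent.NumPoly18.cdeg_quotMod_nonneg (k := k) hfL (fun ξ hξ => ?_) C hC h1
    · rw [Groth.Agent.NumPoly18.cdeg_quotMod] at this
      exact_mod_cast this
    · rcases Groth.Agent.NumPoly18.cdeg_pullback f hf hξ with ⟨h0, -⟩ | ⟨hd, c, -, hc⟩
      · rw [h0 L hL]
      · rw [hc L hL]
        exact mul_nonneg (Nat.cast_nonneg c) (h' (f ξ) hd)
  · intro h
    have h' := Groth.Agent.NumPoly18.cdeg_nonneg_of_quotMod (k := k) (L := (Scheme.Modules.pullback f).obj L)
      fun C hC h1 => by rw [Groth.Agent.NumPoly18.cdeg_quotMod]; exact_mod_cast h C hC h1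
    intro C hC h1
    have := Groth.Agent.NumPoly18.cdeg_quotMod_nonneg (k := k) hL (fun η hη => ?_) C hC h1
    · rw [Groth.Agent.NumPoly18.cdeg_quotMod] at this
      exact_mod_cast this
    · obtain ⟨ξ, hξ, rfl⟩ := Groth.Agent.NumPoly18.exists_curve_over f hf hη
      rcases Groth.Agent.NumPoly18.cdeg_pullback f hf hξ with ⟨-, hcl⟩ | ⟨-, c, hc0, hc⟩
      · exact absurd hcl (Groth.Agent.NumPoly18.not_isClosed_of_dim_one hη)
      · have e := h' ξ hξ
        rw [hc L hL] at e
        exact nonneg_of_mul_nonneg_right e (Nat.cast_pos.2 hc0)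

end Groth.Agent.S16712
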