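import Groth.Statements.S16713
import Groth.Agent.Lib.CI2.NLPerf
import Groth.Agent.Lib.CI2.FlatLCI
import Groth.Agent.Lib.CI2.SyntScheme
import Groth.Agent.Lib.CI2.Smooth
import Groth.Agent.Lib.LiaisonH1.Unmixed
import Mathlib

set_option autoImplicit false
universe u
open CotT

namespace Groth.Agent.S16713

open IsLocalRing in
theorem mem_minimalPrimes_of_ass {A : Type u} [CommRing A] [LocCoh.IsCohenMacaulayRing A] {q : Ideal A}
    (hq : q ∈ associatedPrimes A A) : q ∈ minimalPrimes A := by
  haveI := hq.isPrime
  haveI := LocCoh.IsCohenMacaulayRing.isCohenMacaulayLocalRing_localization q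
  have h1 : maximalIdeal (Localization.AtPrime q) ∈ associatedPrimes (Localization.AtPrime q) (Localization.AtPrime q) := by
    apply Module.associatedPrimes.mem_associatedPrimes_of_comap_mem_associatedPrimes_of_isLocalizedModule
      q.primeCompl (Algebra.linearMap A (Localization.AtPrime q))
    simpa [Localization.AtPrime.under_maximalIdeal] using hq
  have h2 := Groth.Agent.LiaisonH1.ringKrullDim_eq_zero_of_mem h1
  rw [IsLocalization.AtPrime.ringKrullDim_eq_height q] at h2
  exact Ideal.height_eq_zero_iff.1 (by exact_mod_cast h2)

theorem eq_zero_of_smul_notMem_minimal {A M : Type u} [CommRing A] [LocCoh.IsCohenMacaulayRing A] [AddCommGroup M]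
    [Module A M] [Module.Projective A M] (x : M) (h : ∀ p ∈ minimalPrimes A, ∃ s ∉ p, s • x = 0) : x = 0 := by
  obtain ⟨σ, hσ⟩ := Module.projective_def.1 ‹Module.Projective A M›
  suffices σ x = 0 by rw [← hσ x, this, map_zero]
  ext i
  rw [Finsupp.zero_apply]
  by_contra hne
  obtain ⟨q, hq, hle⟩ := exists_le_isAssociatedPrime_of_isNoetherianRing A (σ x i) hne
  obtain ⟨s, hs, hs0⟩ := h q (mem_minimalPrimes_of_ass hq)
  refine hs (hle ?_)
  rw [Submodule.mem_colon_singleton, Submodule.mem_bot, ← Finsupp.smul_apply, ← map_smul, hs0, map_zero, Finsupp.zero_apply]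



/-- The final assertion, in the case where the base is a field. Let k be a field and A a k-algebra which
is a local complete intersection over k (of finite type, presented by a polynomial algebra in
finitely many variables with Koszul-regular kernel) and generically smooth over k, in the sense that
the localization of A at each of its minimal primes is formally smooth over k. Then H^1 of the naive
cotangent complex L_{A/k} vanishes: for the presentation A = P/I by the polynomial k-algebra P on
the elements of A, the conormal map I/I² → Ω_{P/k} ⊗_P A is injective, so that L_{A/k} is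
quasi-isomorphic to Ω_{A/k}. (The published statement is for a generically smooth syntomic morphism
over an arbitrary base, where it fails when the base has embedded points: over B = k[s,t]/(s², st)
with 2 invertible in k, the algebra B[x]/(x² − t) is a relative complete intersection, free of rank
two and smooth where x is invertible, yet the class of s·x·(x² − t) is a non-zero element of the
kernel of its conormal map. This row states the case of an algebra of finite type over a field.) -/
theorem result (k : Type u) [Field k]
    (A : Type u) [CommRing A] [Algebra k A] (hlci : LCI.IsLCI k A)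
    (hgs : ∀ (p : Ideal A) [p.IsPrime], p ∈ minimalPrimes A → Algebra.FormallySmooth k (Localization.AtPrime p)) :
    Subsingleton (Algebra.H1Cotangent k A) := by
  obtain ⟨hft, n, f, hf, hker⟩ := id hlci
  haveI : LocCoh.IsCohenMacaulayRing A := Groth.Agent.CI2.isCM_of_isLCIOver
    (Groth.Agent.CI2.isLCIOver_of_isSyntomic_field (Groth.Agent.CI2.isSyntomic_of_flat_of_isLCI hlci))
  let P : Algebra.Generators k A (Fin n) := Algebra.Generators.ofAlgHom f hf
  have hP : P.toExtension.ker = RingHom.ker f.toRingHom := by
    have : MvPolynomial.aeval P.val = f := MvPolynomial.algHom_ext fun i => by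
      rw [MvPolynomial.aeval_X]; rfl
    conv_rhs => rw [← this]
    exact P.ker_eq_ker_aeval_val
  haveI : Module.Projective A P.toExtension.Cotangent :=
    (Groth.Agent.CI2.finite_projective_extCotangent k A P.toExtension (hP ▸ hker)).2
  suffices ∀ z : P.toExtension.H1Cotangent, z = 0 from
    ⟨fun a b => P.equivH1Cotangent.symm.injective ((this _).trans (this _).symm)⟩
  intro z
  refine Algebra.Extension.h1Cotangentι_ext _ _ (eq_zero_of_smul_notMem_minimal (A := A) z.1 fun p hp => ?_)
  haveI : p.IsPrime := hp.1.1
  haveI := hgs p hp
  haveI : Subsingleton (Algebra.H1Cotangent k (Localization.AtPrime p)) := inferInstance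
  obtain ⟨s, hs⟩ := (IsLocalizedModule.eq_zero_iff p.primeCompl
    (Algebra.H1Cotangent.map k k A (Localization.AtPrime p))).1
      (Subsingleton.elim (Algebra.H1Cotangent.map k k A (Localization.AtPrime p) (P.equivH1Cotangent z)) 0)
  refine ⟨s.1, s.2, ?_⟩
  rw [Submonoid.smul_def, ← map_smul, LinearEquiv.map_eq_zero_iff] at hs
  exact congrArg Subtype.val hs


end Groth.Agent.S16713
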