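import Groth.Statements.S16714
import Groth.Agent.Lib.NumPoly18.Pullback
import Groth.Agent.Lib.NumPoly18.Kleiman
import Groth.Agent.Lib.NumPoly18.SurfBir
import Groth.Agent.Lib.NumPoly18.SurfProj
import Groth.Agent.Lib.NumPoly18.FamilyEuler
import Groth.Agent.Lib.FlatClosure19.Basic
import Groth.Agent.Lib.MinModel32.Basic
import Groth.Agent.Lib.Cyc26.SpecialSub
import Groth.Agent.Lib.FlatTwist13.Main
import Groth.Agent.Lib.FibDimLocConst4
import Groth.Agent.Lib.TensorMod.PullTensor
import Groth.Agent.Lib.TensorMod.PullSupport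
import Groth.Agent.Lib.ModM1.Pull

set_option autoImplicit false
universe u
open CategoryTheory CategoryTheory.Limits AlgebraicGeometry TopologicalSpace
open Variety

namespace Groth.Agent.S16714


section
set_option backward.isDefEq.respectTransparency false

open Groth.Agent Groth.Agent.NumPoly18

private theorem dim_preimage {X Z : Scheme.{u}} {S : Scheme.{u}} (p : X ⟶ S) (ι : Z ⟶ X) [IsClosedImmersion ι] (y : S) :
    topologicalKrullDim ↥((ι ≫ p).fiber y) = topologicalKrullDim ↥((p.fiberι y).base ⁻¹' Set.range ι.base) := by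
  have ha : Topology.IsEmbedding (p.fiberι y).base := (p.fiberι y).isEmbedding
  have hb : Topology.IsEmbedding (((ι ≫ p).fiberι y) ≫ ι).base :=
    ι.isClosedEmbedding.isEmbedding.comp ((ι ≫ p).fiberι y).isEmbedding
  have e : Set.range (((ι ≫ p).fiberι y) ≫ ι).base =
      (p.fiberι y).base '' ((p.fiberι y).base ⁻¹' Set.range ι.base) := by
    rw [Set.image_preimage_eq_inter_range]
    show Set.range (ι.base ∘ ((ι ≫ p).fiberι y).base) = _
    rw [Set.range_comp, Scheme.Hom.range_fiberι, Scheme.Hom.range_fiberι]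
    ext x
    constructor
    · rintro ⟨z, hz, rfl⟩
      exact ⟨⟨z, rfl⟩, hz⟩
    · rintro ⟨⟨z, rfl⟩, hz⟩
      exact ⟨z, hz, rfl⟩
  exact ((hb.toHomeomorph.trans (Homeomorph.setCongr e)).trans
    (ha.homeomorphImage _).symm).isHomeomorph.topologicalKrullDim_eq _

private theorem cdeg_fib {R : Type u} [CommRing R] [IsNoetherianRing R] {X : Scheme.{u}} (p : X ⟶ Spec (CommRingCat.of R))
    [IsProper p] {L F : X.Modules} (hL : PicF.IsInvertible L) (hF : Coh.IsCoh F) (hfl : FlatMod.IsFlatOver p F)
    (y : ↥(Spec (CommRingCat.of R))) :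
    letI : (p.fiber y).Over (Spec (CommRingCat.of ((Spec (CommRingCat.of R)).residueField y))) := ⟨p.fiberToSpecResidueField y⟩
    cdeg ((Spec (CommRingCat.of R)).residueField y) ((Scheme.Modules.pullback (p.fiberι y)).obj L)
      ((Scheme.Modules.pullback (p.fiberι y)).obj F) =
    (PerfAux.eulerChar p (CohB1.tensorMod F L) y : ℚ) - (PerfAux.eulerChar p F y : ℚ) := by
  letI : (p.fiber y).Over (Spec (CommRingCat.of ((Spec (CommRingCat.of R)).residueField y))) := ⟨p.fiberToSpecResidueField y⟩
  haveI : IsLocallyNoetherian X := LocallyOfFiniteType.isLocallyNoetherian p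
  have hT : Coh.IsCoh (CohB1.tensorMod F L) := CurveCoh17.isCoh_tensor hF (Snapper.isCoh_of_isInvertible hL)
  have h : ∀ G : X.Modules, Coh.IsCoh G → FlatMod.IsFlatOver p G →
      PerfAux.eulerChar p G y = Curv2.euler ((Spec (CommRingCat.of R)).residueField y) (p.fiber y)
        ((Scheme.Modules.pullback (p.fiberι y)).obj G) := fun G hG hfG => by
    refine Eq.trans ?_ (eulerChar_eq_euler (k := ((Spec (CommRingCat.of R)).residueField y)) p hG hfG (p.fiberι y) ((Spec (CommRingCat.of R)).fromSpecResidueField y)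
      (IsPullback.of_hasPullback _ _))
    exact congrArg _ (Scheme.fromSpecResidueField_apply y _).symm
  rw [cdeg_eq, CurveCoh17.euler_iso (M2.pullTensorIso (p.fiberι y) F L).symm, h _ hT (FlatTwist13.isFlatOver_tensor p hfl hL), h _ hF hfl]
end


/-- Let R be a discrete valuation ring, p : X → Spec R a proper flat morphism and L an invertible
O_X-module. If the restriction L_0 of L to the closed fibre X_0 is nef (χ(O_C ⊗ L_0) - χ(O_C) ≥ 0
for every integral closed subscheme C ⊆ X_0 of dimension one, computed over the residue field), then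
the restriction L_η to the generic fibre X_η is nef over the fraction field in the same sense. -/
theorem result (R : Type u) [CommRing R] [IsDomain R]
    [IsDiscreteValuationRing R] (X : Scheme.{u}) (p : X ⟶ Spec (CommRingCat.of R)) [IsProper p] [Flat p]
    (L : X.Modules) (hL : PicF.IsInvertible L)
    (h0 : ∀ C : (p.fiber (IsLocalRing.closedPoint R)).IdealSheafData, IsIntegral C.subscheme →
        topologicalKrullDim (C.support : Set ↥(p.fiber (IsLocalRing.closedPoint R))) = 1 →
          0 ≤ @Curv2.euler ((Spec (CommRingCat.of R)).residueField (IsLocalRing.closedPoint R)) _ (p.fiber (IsLocalRing.closedPoint R)) ⟨p.fiberToSpecResidueField (IsLocalRing.closedPoint R)⟩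
                (CohB1.tensorMod (ClSub.quotMod C) ((Scheme.Modules.pullback (p.fiberι (IsLocalRing.closedPoint R))).obj L)) -
              @Curv2.euler ((Spec (CommRingCat.of R)).residueField (IsLocalRing.closedPoint R)) _ (p.fiber (IsLocalRing.closedPoint R)) ⟨p.fiberToSpecResidueField (IsLocalRing.closedPoint R)⟩ (ClSub.quotMod C)) :
    ∀ C' : (p.fiber (⟨⊥, Ideal.isPrime_bot⟩ : PrimeSpectrum R)).IdealSheafData, IsIntegral C'.subscheme →
        topologicalKrullDim (C'.support : Set ↥(p.fiber (⟨⊥, Ideal.isPrime_bot⟩ : PrimeSpectrum R))) = 1 →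
          0 ≤ @Curv2.euler ((Spec (CommRingCat.of R)).residueField (⟨⊥, Ideal.isPrime_bot⟩ : PrimeSpectrum R)) _ (p.fiber (⟨⊥, Ideal.isPrime_bot⟩ : PrimeSpectrum R)) ⟨p.fiberToSpecResidueField (⟨⊥, Ideal.isPrime_bot⟩ : PrimeSpectrum R)⟩
                (CohB1.tensorMod (ClSub.quotMod C') ((Scheme.Modules.pullback (p.fiberι (⟨⊥, Ideal.isPrime_bot⟩ : PrimeSpectrum R))).obj L)) -
              @Curv2.euler ((Spec (CommRingCat.of R)).residueField (⟨⊥, Ideal.isPrime_bot⟩ : PrimeSpectrum R)) _ (p.fiber (⟨⊥, Ideal.isPrime_bot⟩ : PrimeSpectrum R)) ⟨p.fiberToSpecResidueField (⟨⊥, Ideal.isPrime_bot⟩ : PrimeSpectrum R)⟩ (ClSub.quotMod C') := by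
  intro C' hC' hC'd
  let η : ↥(Spec (CommRingCat.of R)) := (⟨⊥, Ideal.isPrime_bot⟩ : PrimeSpectrum R)
  let o : ↥(Spec (CommRingCat.of R)) := IsLocalRing.closedPoint R
  letI : (p.fiber η).Over (Spec (CommRingCat.of ((Spec (CommRingCat.of R)).residueField η))) := ⟨p.fiberToSpecResidueField η⟩
  letI : (p.fiber o).Over (Spec (CommRingCat.of ((Spec (CommRingCat.of R)).residueField o))) := ⟨p.fiberToSpecResidueField o⟩
  haveI hpη : IsProper (p.fiber η ↘ Spec (CommRingCat.of ((Spec (CommRingCat.of R)).residueField η))) :=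
    MorphismProperty.pullback_snd _ _ inferInstance
  haveI hpo : IsProper (p.fiber o ↘ Spec (CommRingCat.of ((Spec (CommRingCat.of R)).residueField o))) :=
    MorphismProperty.pullback_snd _ _ inferInstance
  haveI : IsNoetherian (p.fiber η) := CohFound.isNoetherian_of_isProper (p.fiber η ↘ Spec (CommRingCat.of ((Spec (CommRingCat.of R)).residueField η)))
  haveI : IsLocallyNoetherian X := LocallyOfFiniteType.isLocallyNoetherian p
  haveI : CompactSpace X := QuasiCompact.compactSpace_of_compactSpace p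
  haveI : AlgebraicGeometry.IsNoetherian X := {}
  have hLη := PicLoc.isInvertible_pullback (p.fiberι η) hL
  have hLo := PicLoc.isInvertible_pullback (p.fiberι o) hL
  suffices key : ∀ ξ : p.fiber η, topologicalKrullDim (closure ({ξ} : Set (p.fiber η))) = 1 →
      0 ≤ NumPoly18.cdeg ((Spec (CommRingCat.of R)).residueField η) ((Scheme.Modules.pullback (p.fiberι η)).obj L) (NumPoly18.ptMod ξ) by
    have := NumPoly18.cdeg_quotMod_nonneg hLη key C' hC' hC'd
    rw [NumPoly18.cdeg_eq] at this
    exact_mod_cast this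
  intro ξ hξ
  have hnef : NumPoly18.Nef ((Spec (CommRingCat.of R)).residueField o) ((Scheme.Modules.pullback (p.fiberι o)).obj L) :=
    NumPoly18.cdeg_nonneg_of_quotMod fun C hC hCd => by
      rw [NumPoly18.cdeg_eq]
      exact_mod_cast h0 C hC hCd
  let φ : (NumPoly18.ptIdeal ξ).subscheme ⟶ X := (NumPoly18.ptIdeal ξ).subschemeι ≫ p.fiberι η
  haveI : QuasiCompact (p.fiberι η) := MorphismProperty.pullback_fst _ _ inferInstance
  haveI : QuasiCompact φ := inferInstanceAs (QuasiCompact (_ ≫ _))
  haveI := MinModel.isOpenImmersion_toGen (R := R)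
  have hr : Set.range ((Spec (CommRingCat.of R)).fromSpecResidueField η) ⊆ Set.range (MinModel.toGen R) := by
    rw [Scheme.range_fromSpecResidueField, Set.singleton_subset_iff]
    refine ⟨(⟨⊥, Ideal.isPrime_bot⟩ : PrimeSpectrum (FractionRing R)), PrimeSpectrum.ext ?_⟩
    exact Ideal.comap_bot_of_injective _ (IsFractionRing.injective R (FractionRing R))
  haveI : Flat (φ.imageι ≫ p) := FlatClosure19.flat_of_dominant (R := R) φ.toImage (φ.imageι ≫ p)
    (((NumPoly18.ptIdeal ξ).subschemeι ≫ p.fiberToSpecResidueField η) ≫ IsOpenImmersion.lift (MinModel.toGen R) _ hr) (by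
      show _ = _ ≫ MinModel.toGen R
      rw [Category.assoc, IsOpenImmersion.lift_fac, Scheme.Hom.toImage_imageι_assoc, Category.assoc]
      show ((NumPoly18.ptIdeal ξ).subschemeι ≫ p.fiberι η) ≫ p = _
      rw [Category.assoc]
      exact congrArg (_ ≫ ·) pullback.condition)
  let F := ClSub.quotMod φ.ker
  have hF : Coh.IsCoh F := CurveCoh17.isCoh_quotMod φ.ker
  have hfl : FlatMod.IsFlatOver p F := Cyc26Sp.isFlatOver_push R p φ.imageι
  have hT : Coh.IsCoh (CohB1.tensorMod F L) := CurveCoh17.isCoh_tensor hF (Snapper.isCoh_of_isInvertible hL)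
  have hconst : ∀ G : X.Modules, Coh.IsCoh G → FlatMod.IsFlatOver p G → PerfAux.eulerChar p G o = PerfAux.eulerChar p G η :=
    fun G hG hfG => (FibEuler9.isLocallyConstant_eulerChar p G (M1.isFP_of_isCoh hG) hfG).apply_eq_of_preconnectedSpace _ _
  have hsupp : ∀ y, CohB1.support ((Scheme.Modules.pullback (p.fiberι y)).obj F) = (p.fiberι y).base ⁻¹' Set.range φ.imageι.base := fun y => by
    rw [M2.support_pullback _ hF.1 hF.2, NumPoly18.support_quotMod]
    exact congrArg _ φ.ker.range_subschemeι.symm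
  have hη : (p.fiberι η).base ⁻¹' Set.range φ.imageι.base = closure {ξ} := by
    have h1 : Set.range φ.imageι.base = closure ((p.fiberι η).base '' closure {ξ}) := by
      refine φ.ker.range_subschemeι.trans (φ.support_ker.trans (congrArg closure ?_))
      show Set.range ((p.fiberι η).base ∘ (NumPoly18.ptIdeal ξ).subschemeι.base) = _
      rw [Set.range_comp]
      exact congrArg _ (NumPoly18.range_ptι ξ)
    rw [h1, ← (p.fiberι η).isEmbedding.isInducing.closure_eq_preimage_closure_image, closure_closure]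
  haveI : LocallyOfFinitePresentation (φ.imageι ≫ p) := inferInstance
  have hd : topologicalKrullDim (CohB1.support ((Scheme.Modules.pullback (p.fiberι o)).obj F)) ≤ 1 := by
    rw [hsupp, ← dim_preimage]
    refine (FibDimLocConst4.dim_fiber_le_of_isOpenMap (φ.imageι ≫ p) (φ.imageι ≫ p).isOpenMap (a := η) (b := o)
      (IsLocalRing.specializes_closedPoint η)).trans ?_
    rw [dim_preimage, hη]
    exact hξ.le
  have h1 := NumPoly18.cdeg_nonneg_of_nef hLo hnef (M1.isCoh_pullback _ hF) hd
  rw [cdeg_fib p hL hF hfl o, hconst _ hT (FlatTwist13.isFlatOver_tensor p hfl hL), hconst _ hF hfl, ← cdeg_fib p hL hF hfl η] at h1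
  have hFη := M1.isCoh_pullback (p.fiberι η) hF
  have hFZ : CohB1.support ((Scheme.Modules.pullback (p.fiberι η)).obj F) = closure {ξ} := (hsupp η).trans hη
  have hsum := NumPoly18.md_eq_sum (k := ((Spec (CommRingCat.of R)).residueField η)) (r := 1)
    (L := fun _ : Fin 1 => (Scheme.Modules.pullback (p.fiberι η)).obj L) (fun _ => hLη) isClosed_closure
    (Z := closure {ξ}) (by simpa using hξ.le) {ξ} (fun ζ => by
      rw [Finset.mem_singleton]
      exact ⟨by rintro rfl; exact ⟨subset_closure rfl, by simpa using hξ⟩, fun ⟨hζ, hζd⟩ =>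
        (NumPoly18.eq_of_specializes_of_dim (Z := closure ({ξ} : Set (p.fiber η))) isClosed_closure (by simpa using hξ.le) (subset_closure rfl) hζd (specializes_iff_mem_closure.2 hζ)).symm⟩)
    hFη hFZ.le
  rw [Finset.sum_singleton] at hsum
  have hpos := NumPoly18.lenAt_pos hFη (d := 1) (by rw [hFZ]; simpa using hξ.le) (by rw [hFZ]; exact subset_closure rfl) (by simpa using hξ)
  rw [NumPoly18.cdeg, hsum] at h1
  exact nonneg_of_mul_nonneg_right h1 hpos

end Groth.Agent.S16714
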