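import Groth.Statements.S16716
import Groth.Agent.Lib.NefBC1

set_option autoImplicit false
universe u
open CategoryTheory CategoryTheory.Limits AlgebraicGeometry TopologicalSpace
open Variety

namespace Groth.Agent.S16716

/-- Let X be a proper scheme over a field k, L an invertible O_X-module and k'/k a field extension. Then
L is nef (χ(O_C ⊗ L) - χ(O_C) ≥ 0 for every integral closed subscheme C ⊆ X of dimension one) if and
only if its pullback L_{k'} to X_{k'} = X ×_k Spec k' is nef over k' in the same sense. -/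
theorem result (k : Type u) [Field k] (X : Scheme.{u})
    [X.Over (Spec (CommRingCat.of k))] [IsProper (X ↘ (Spec (CommRingCat.of k)))]
    (L : X.Modules) (hL : PicF.IsInvertible L) (k' : Type u) [Field k'] [Algebra k k'] :
    (∀ C : X.IdealSheafData, IsIntegral C.subscheme →
        topologicalKrullDim (C.support : Set X) = 1 →
          0 ≤ Curv2.euler k X (CohB1.tensorMod (ClSub.quotMod C) L) - Curv2.euler k X (ClSub.quotMod C)) ↔
      (∀ C' : (Curv2.bc k X k').IdealSheafData, IsIntegral C'.subscheme →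
        topologicalKrullDim (C'.support : Set ↥(Curv2.bc k X k')) = 1 →
          0 ≤ @Curv2.euler k' _ (Curv2.bc k X k') ⟨Curv2.bcSnd k X k'⟩
                (CohB1.tensorMod (ClSub.quotMod C') ((Scheme.Modules.pullback (Curv2.bcFst k X k')).obj L)) -
              @Curv2.euler k' _ (Curv2.bc k X k') ⟨Curv2.bcSnd k X k'⟩ (ClSub.quotMod C')) := by
  letI := Groth.Agent.NefBC1.overBC (k := k) k' X
  haveI : IsProper (Curv2.bc k X k' ↘ Spec (CommRingCat.of k')) := Groth.Agent.NefBC1.isProper_bcSnd k' X
  have hL' : PicF.IsInvertible ((Scheme.Modules.pullback (Curv2.bcFst k X k')).obj L) :=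
    PicLoc.isInvertible_pullback _ hL
  refine ⟨fun h C hC h1 => ?_, fun h C hC h1 => ?_⟩
  · have hn : Groth.Agent.NumPoly18.Nef k L :=
      Groth.Agent.NumPoly18.cdeg_nonneg_of_quotMod fun D hD hD1 => by
        rw [Groth.Agent.NumPoly18.cdeg_eq]; exact_mod_cast h D hD hD1
    have h0 := Groth.Agent.NumPoly18.cdeg_quotMod_nonneg hL' (Groth.Agent.NefBC1.nef_bc k' X hL hn) C hC h1
    rw [Groth.Agent.NumPoly18.cdeg_eq] at h0
    exact_mod_cast h0
  · have hn : Groth.Agent.NumPoly18.Nef k' ((Scheme.Modules.pullback (Curv2.bcFst k X k')).obj L) :=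
      Groth.Agent.NumPoly18.cdeg_nonneg_of_quotMod fun D hD hD1 => by
        rw [Groth.Agent.NumPoly18.cdeg_eq]; exact_mod_cast h D hD hD1
    have h0 := Groth.Agent.NumPoly18.cdeg_quotMod_nonneg hL (Groth.Agent.NefBC1.nef_of_bc k' X hL hn) C hC h1
    rw [Groth.Agent.NumPoly18.cdeg_eq] at h0
    exact_mod_cast h0

end Groth.Agent.S16716
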