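import Groth.Statements.S16717
import Groth.Agent.Lib.CoalgH23.Integral

set_option autoImplicit false
universe u v
open HopfRep

namespace Groth.Agent.S16717

open scoped Groth.Agent.CoalgH23
open Groth.Agent.CoalgH23 WithConv

open TensorProduct in
/-- Equivalence of the exactness of invariants with complete reducibility of finite-dimensional
representations. Let k be a field and A a finitely generated commutative Hopf algebra over k (the
coordinate ring of an affine algebraic group G). Then every finite-dimensional A-comodule is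
semisimple if and only if taking fixed vectors is exact, i.e. for every surjective comodule map φ :
V → W between A-comodules (of any dimension; φ k-linear with (φ ⊗ id) ∘ ρ_V = ρ_W ∘ φ) every fixed
vector of W is the image of a fixed vector of V. -/
theorem result (k : Type u) [Field k] (A : Type v)
    [CommRing A] [HopfAlgebra k A] (hA : Algebra.FiniteType k A) :
    HopfRep.IsLinearlyReductive k A ↔
      ∀ (V W : Type v) [AddCommGroup V] [Module k V] [HopfRep.Comod k A V]
        [AddCommGroup W] [Module k W] [HopfRep.Comod k A W] (φ : V →ₗ[k] W),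
        LinearMap.rTensor A φ ∘ₗ HopfRep.Comod.coact (k := k) (A := A) (V := V) =
            HopfRep.Comod.coact (k := k) (A := A) (V := W) ∘ₗ φ →
          Function.Surjective φ →
            ∀ w ∈ HopfRep.fixedPts k A W, ∃ v ∈ HopfRep.fixedPts k A V, φ v = w := by
  constructor
  · intro hG V W _ _ _ _ _ _ φ hφ hsurj w hw
    obtain ⟨E, hE⟩ := Groth.Agent.Comodule.exists_reynolds (V := V) (A := A) hG
    obtain ⟨E', hE'⟩ := Groth.Agent.Comodule.exists_reynolds (V := W) (A := A) hG
    obtain ⟨v, rfl⟩ := hsurj w
    refine ⟨E v, hE.mem v, ?_⟩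
    rw [← LinearMap.comp_apply, ← hE.comp_comm hG hE' hφ.symm, LinearMap.comp_apply, (hE'.fix _).2 hw]
  · intro H
    refine isLinearlyReductive_of_hasFixedLifts fun V _ _ _ hV π hπ hcom => ?_
    obtain ⟨v₁, hv₁⟩ := hπ 1
    let W := V ⧸ LinearMap.ker π
    letI : HopfRep.Comod k A W := HopfRep.Comod.trivial k A W
    have hθ : (LinearMap.ker π).mkQ = LinearMap.toSpanSingleton k W (Submodule.Quotient.mk v₁) ∘ₗ π := by
      refine LinearMap.ext fun v => ?_
      show (Submodule.Quotient.mk v : W) = π v • Submodule.Quotient.mk v₁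
      refine Eq.trans ?_ (Submodule.Quotient.mk_smul (LinearMap.ker π) (π v) v₁)
      rw [Submodule.Quotient.eq, LinearMap.mem_ker, map_sub, map_smul, hv₁, smul_eq_mul, mul_one, sub_self]
    have hq : LinearMap.rTensor A (LinearMap.ker π).mkQ ∘ₗ HopfRep.Comod.coact (k := k) (A := A) (V := V) =
        HopfRep.Comod.coact (k := k) (A := A) (V := W) ∘ₗ (LinearMap.ker π).mkQ := by
      rw [hθ, LinearMap.rTensor_comp, LinearMap.comp_assoc, hcom]
      exact LinearMap.ext fun v => rfl
    obtain ⟨v, hv, hv'⟩ := H V W _ hq (Submodule.mkQ_surjective _) (Submodule.Quotient.mk v₁)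
      (rfl : HopfRep.Comod.coact (k := k) (A := A) (Submodule.Quotient.mk v₁ : W) = _)
    refine ⟨v, hv, fun h0 => one_ne_zero (α := k) ?_⟩
    rw [Submodule.mkQ_apply, Submodule.Quotient.eq, LinearMap.mem_ker, map_sub, h0, hv₁, zero_sub, neg_eq_zero] at hv'
    exact hv'

end Groth.Agent.S16717
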