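import Groth.Statements.S1672
import Groth.Agent.Lib.DlzCurve17.Duality
import Groth.Agent.Lib.CurveH1Min27.NodalOmega
import Groth.Agent.Lib.CurveH1Min27.AnyApps
import Groth.Agent.Lib.CurveOm17.AnyField
import Groth.Agent.Lib.GeomRed21.Locus
import Groth.Agent.Lib.CurveH1Min27.GenusOne
-- import your own Groth.Agent.* helpers here

set_option autoImplicit false
universe u
open CategoryTheory CategoryTheory.Limits AlgebraicGeometry
attribute [local instance] HasDerivedCategory.standard
open Curves

namespace Groth.Agent.S1672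

/-- Let X be proper of dimension one over k with global functions k, at-worst-nodal singularities and no
rational tail, and ω_X its dualizing module (as in the other rows: via f^! O, assuming Rf_* on
D_QCoh and its right adjoint exist). Then for every reduced connected closed subscheme Y ≠ X of
dimension one, deg(ω_X|_Y) ≥ dim_k H^1(Y, O_Y) (computed as H^1(X, i_* O_Y) = H^1(X, O_X/J)). -/
theorem result (k : Type u) [Field k] (X : Scheme.{u}) [X.Over (Spec (CommRingCat.of k))] [IsProper (X ↘ (Spec (CommRingCat.of k)))] (hdim : topologicalKrullDim X = 1)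
    (h0 : Module.finrank k (Coh.HH X (Coh.structureModule X) 0) = 1) (hX : Curv2.AtWorstNodal k X) (hnt : ∀ (C : Set X) (hC : C ∈ irreducibleComponents (X : Type u)), ¬ Curv2.IsRationalTail X C hC)
    [DCoh.HasRpush (X ↘ (Spec (CommRingCat.of k)))] (h : DCoh.RpushPreservesQCoh (X ↘ (Spec (CommRingCat.of k)))) [DCoh.HasShriek (X ↘ (Spec (CommRingCat.of k))) h]
    (OY : DCoh.DQCoh (Spec (CommRingCat.of k))) (hOY : Nonempty (OY.obj ≅ DCoh.inD (Spec (CommRingCat.of k)) (Coh.structureModule (Spec (CommRingCat.of k)))))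
    (J : X.IdealSheafData) [IsReduced J.subscheme] [ConnectedSpace J.subscheme]
    (hJ1 : topologicalKrullDim J.subscheme = 1) (hJne : J ≠ ⊥) :
    (Module.finrank k (Coh.HH X (ClSub.quotMod J) 1) : ℤ) ≤
      @Curv2.deg k _ J.subscheme ⟨J.subschemeι ≫ (X ↘ (Spec (CommRingCat.of k)))⟩ ((Scheme.Modules.pullback J.subschemeι).obj (DCoh.dualizingMod (X ↘ (Spec (CommRingCat.of k))) h OY 1)) 1 := by
  haveI : ConnectedSpace X := CurveOm17.connectedSpace_of_h0 h0
  haveI := CohFound.isNoetherian_of_isProper (X ↘ (Spec (CommRingCat.of k)))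
  haveI := (S1589.result k X (CurveH1Min27.components_dim_one k X hdim) hX).2
  haveI : AlgebraicGeometry.IsReduced X := GeomRed21.isReduced_of_geometricallyReduced (X ↘ (Spec (CommRingCat.of k)))
  have hGor := CurveH1Min27.isInvertible_dualizing_nodal k X hdim hX h OY hOY
  obtain ⟨t, ht⟩ := DlzCurve17.exists_trace k X hdim h OY hOY
  have ht' : CurveH1Min27.IsTrace k (DCoh.dualizingMod (X ↘ (Spec (CommRingCat.of k))) h OY 1) t := ht
  obtain ⟨T, hT, rfl⟩ : ∃ (T : Set X) (hT : IsClosed T), J = CurveH1Min27.vI T hT := ⟨_, _, CurveH1Min27.eq_vI J⟩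
  have hne : T ≠ Set.univ := fun e => hJne (by subst e; exact CurveH1Min27.vI_univ)
  letI : (CurveH1Min27.vI T hT).subscheme.Over (Spec (CommRingCat.of k)) :=
    ⟨(CurveH1Min27.vI T hT).subschemeι ≫ (X ↘ (Spec (CommRingCat.of k)))⟩
  haveI : (Coh.structureModule (CurveH1Min27.vI T hT).subscheme).IsQuasicoherent := M1.isQCoh_structureModule _
  have e : Module.finrank k (Coh.HH X (ClSub.quotMod (CurveH1Min27.vI T hT)) 1) =
      Module.finrank k (Coh.HH (CurveH1Min27.vI T hT).subscheme (Coh.structureModule _) 1) :=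
    (CurveCoh17.nonempty_hequiv_push k (CurveH1Min27.vI T hT).subschemeι rfl
      (Coh.structureModule (CurveH1Min27.vI T hT).subscheme) 1).some.finrank_eq
  rw [e]
  show (CurveH1Min27.genusOn k (CurveH1Min27.vI T hT) : ℤ) ≤ CurveH1Min27.degOn k (CurveH1Min27.vI T hT) _
  rw [← CurveH1Min27.delta_eq_degOn hGor hT]
  exact CurveH1Min27.deg_ge_h1 hGor ht' hdim hnt T hT hne inferInstance hJ1


end Groth.Agent.S1672
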