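import Groth.Statements.S16722
import Groth.Agent.Lib.GerbBand16.Atlas
-- import your own Groth.Agent.* helpers here

set_option autoImplicit false
universe u
open Gerb

namespace Groth.Agent.S16722

open CategoryTheory AlgebraicGeometry in
/-- Let `X` be a quasi-separated scheme and `A` a commutative group scheme over `X` whose structure
morphism is flat, surjective, locally of finite presentation, quasi-compact and separated. Let `𝒳`
be a category over `(Sch/X)` which is a gerbe for the big fppf topology (a stack in groupoids,
objects exist fppf-locally, and two objects over one scheme are fppf-locally both targets of
morphisms from a common object) and which is banded by `A`: the groups of automorphisms over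
identities are identified with the groups of points of `A`, compatibly with every morphism of `𝒳`.
Then `𝒳` is an algebraic stack (fppf topology), its diagonal over `X` is representable by algebraic
spaces, quasi-compact and separated, and `𝒳 ⟶ (Sch/X)` is locally of finite presentation, read on
one smooth chart square. The published statement allows any faithfully flat, locally finitely
presented group scheme `A` together with a cohomology class that the gerbe represents, and its
algebraic stacks are those with quasi-compact separated diagonal, over quasi-separated base schemes;
this row takes `X` quasi-separated and `A` commutative, quasi-compact and separated over `X`, and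
replaces the class by a banding, which identifies the automorphism sheaves with `A` compatibly with
all morphisms. For a group scheme that is flat, surjective and locally of finite presentation but
not quasi-compact over `X`, such as the constant group scheme on the integers, the classifying gerbe
has a diagonal that is not quasi-compact; the published proof's diagonal step uses that the sheaves
of isomorphisms are torsors under `A`, which are quasi-compact and separated when `A` is. -/
theorem result (X : Scheme.{u}) [QuasiSeparatedSpace X] (A : Over X) [GrpObj A]
    [IsCommMonObj A] [Flat A.hom] [Surjective A.hom] [LocallyOfFinitePresentation A.hom]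
    [QuasiCompact A.hom] [IsSeparated A.hom]
    (𝒳 : AlgSt.Cat X) (h𝒳 : Gerb.IsGerbe (QuotSh.J Scheme.fppfPrecoverage X) 𝒳)
    (β : Gerb.Banding 𝒳 (yonedaGrpObj A)) :
    AlgSt.IsAlgStack Scheme.fppfPrecoverage 𝒳 ∧
      AlgSt.RepByAlgSpWith (AlgSp.IsQuasiCompactMor ⊓ AlgSp.IsSeparatedMor) (FibCat.diag (FibCat.toSelf 𝒳)) ∧
      AlgSt.LocQ (AlgSp.LocP @LocallyOfFinitePresentation) (FibCat.toSelf 𝒳) := by
  exact Groth.Agent.GerbBand16.main A h𝒳 β

end Groth.Agent.S16722
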