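import Groth.Statements.S1673
import Groth.Agent.Lib.DlzCurve17.Duality
import Groth.Agent.Lib.CurveH1Min27.NodalOmega
import Groth.Agent.Lib.CurveH1Min27.AnyApps
import Groth.Agent.Lib.CurveOm17.AnyField
import Groth.Agent.Lib.GeomRed21.Locus
import Groth.Agent.Lib.CurveH1Min27.GenusOne
-- import your own Groth.Agent.* helpers here

set_option autoImplicit false
universe u
open CategoryTheory CategoryTheory.Limits AlgebraicGeometry
attribute [local instance] HasDerivedCategory.standard
open Curves

namespace Groth.Agent.S1673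

/-- Let X be proper of dimension one over k with global functions k, at-worst-nodal singularities and no
rational tail, and ω_X its dualizing module (via f^! O, assuming Rf_* on D_QCoh and its right
adjoint exist). In genus 1, ω_X ≅ O_X; in genus at least 2, every tensor power ω_X^{⊗m} with m ≥ 2
is globally generated. -/
theorem result (k : Type u) [Field k] (X : Scheme.{u}) [X.Over (Spec (CommRingCat.of k))] [IsProper (X ↘ (Spec (CommRingCat.of k)))] (hdim : topologicalKrullDim X = 1)
    (h0 : Module.finrank k (Coh.HH X (Coh.structureModule X) 0) = 1) (hX : Curv2.AtWorstNodal k X) (hnt : ∀ (C : Set X) (hC : C ∈ irreducibleComponents (X : Type u)), ¬ Curv2.IsRationalTail X C hC)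
    [DCoh.HasRpush (X ↘ (Spec (CommRingCat.of k)))] (h : DCoh.RpushPreservesQCoh (X ↘ (Spec (CommRingCat.of k)))) [DCoh.HasShriek (X ↘ (Spec (CommRingCat.of k))) h]
    (OY : DCoh.DQCoh (Spec (CommRingCat.of k))) (hOY : Nonempty (OY.obj ≅ DCoh.inD (Spec (CommRingCat.of k)) (Coh.structureModule (Spec (CommRingCat.of k))))) :
    (Curv2.genus k X = 1 → Nonempty ((DCoh.dualizingMod (X ↘ (Spec (CommRingCat.of k))) h OY 1) ≅ Coh.structureModule X)) ∧
      (2 ≤ Curv2.genus k X → ∀ m : ℕ, 2 ≤ m → Curv2.IsGloballyGenerated (CohB1.tensorPow (DCoh.dualizingMod (X ↘ (Spec (CommRingCat.of k))) h OY 1) m)) := by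
  haveI : ConnectedSpace X := CurveOm17.connectedSpace_of_h0 h0
  haveI := CohFound.isNoetherian_of_isProper (X ↘ (Spec (CommRingCat.of k)))
  haveI := (S1589.result k X (CurveH1Min27.components_dim_one k X hdim) hX).2
  haveI : AlgebraicGeometry.IsReduced X := GeomRed21.isReduced_of_geometricallyReduced (X ↘ (Spec (CommRingCat.of k)))
  have hGor := CurveH1Min27.isInvertible_dualizing_nodal k X hdim hX h OY hOY
  obtain ⟨t, ht⟩ := DlzCurve17.exists_trace k X hdim h OY hOY
  have ht' : CurveH1Min27.IsTrace k (DCoh.dualizingMod (X ↘ (Spec (CommRingCat.of k))) h OY 1) t := ht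
  exact ⟨fun hg => CurveH1Min27.nonempty_iso_of_genus_one hGor ht' hdim hnt h0 hg,
    fun hg m hm => CurveH1Min27.pow_globallyGenerated hGor ht' hdim hnt h0 hg m hm⟩


end Groth.Agent.S1673
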