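import Groth.Statements.S16731
import Groth.Agent.Lib.StabUniq18.Inter
import Groth.Agent.Lib.StabUniq18.Geo

set_option autoImplicit false
universe u
open CurvSt

namespace Groth.Agent.S16731

open CategoryTheory CategoryTheory.Limits AlgebraicGeometry TopologicalSpace Set StabUniq18 in
/-- A component without first cohomology is a projective line. -/
theorem isSmRatComp_of_h1 {k : Type u} [Field k] [IsAlgClosed k] {X : Scheme.{u}}
    [X.Over (Spec (CommRingCat.of k))] (hY : IsNodalCurve k X) {C : Set X} (hC : C ∈ irreducibleComponents (X : Type u))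
    (hH : Subsingleton (Coh.HH (red (clE hC)) (Coh.structureModule (red (clE hC))) 1)) :
    CurvSt.IsSmRatComp k X (X ↘ Spec (CommRingCat.of k)) C := by
  haveI := hY.proper
  letI : (red (clE hC)).Over (Spec (CommRingCat.of k)) := ⟨redι (clE hC) ≫ (X ↘ Spec (CommRingCat.of k))⟩
  haveI : IsProper (red (clE hC) ↘ Spec (CommRingCat.of k)) :=
    inferInstanceAs (IsProper (redι (clE hC) ≫ (X ↘ Spec (CommRingCat.of k))))
  haveI := isIntegral_red hC
  haveI := hH
  have hg : Curv2.genus k (red (clE hC)) = 0 := Module.finrank_zero_of_subsingleton
  have hdim : topologicalKrullDim (red (clE hC)) = 1 := by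
    have h1 := IsHomeomorph.topologicalKrullDim_eq _ (redι (clE hC)).isEmbedding.toHomeomorph.isHomeomorph
    rw [h1]
    have hr : Set.range (redι (clE hC)) = C := range_redι _
    rw [hr]
    exact hY.dim C hC
  haveI : GeometricallyReduced (red (clE hC) ↘ Spec (CommRingCat.of k)) := by
    haveI : IsIso (CommRingCat.ofHom (algebraMap k k)) :=
      (ConcreteCategory.isIso_iff_bijective _).2 Function.bijective_id
    haveI : IsIso (Curv2.bcFst k (red (clE hC)) k) := inferInstanceAs (IsIso (pullback.fst _ _))
    haveI : AlgebraicGeometry.IsReduced (Curv2.bc k (red (clE hC)) k) :=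
      isReduced_of_isOpenImmersion (Curv2.bcFst k (red (clE hC)) k)
    exact GeomRed.geometricallyReduced_of_perfect k
  obtain ⟨x, hx, hpid, hres⟩ := CurveCoh17.exists_rational_regular_point (k := k) hdim
  obtain ⟨e, he'⟩ := CurveCoh17.exists_iso_P1_of_point hdim hg hx hpid hres
  refine ⟨hC, e.inv ≫ redι (clE hC), inferInstance, ?_, ?_⟩
  · show (e.inv ≫ redι (clE hC)) ≫ (X ↘ Spec (CommRingCat.of k)) = _
    rw [Category.assoc, show redι (clE hC) ≫ (X ↘ Spec (CommRingCat.of k)) =
      (red (clE hC) ↘ Spec (CommRingCat.of k)) from rfl, ← he', Iso.inv_hom_id_assoc]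
  · ext y
    constructor
    · rintro ⟨z, rfl⟩
      exact (mem_range_redι hC).1 ⟨e.inv z, rfl⟩
    · intro hy
      obtain ⟨w, rfl⟩ := (mem_range_redι hC).2 hy
      obtain ⟨z, rfl⟩ := e.inv.homeomorph.surjective w
      exact ⟨z, rfl⟩

open CategoryTheory CategoryTheory.Limits AlgebraicGeometry TopologicalSpace StabUniq18 in
/-- Let k be an algebraically closed field and X a proper connected scheme over k of dimension one with
at-worst-nodal singularities. For a natural number g the following are equivalent: (i) X, with no
marked points, is a stable curve of genus g in the component form — dim H^1(X, O_X) = g, every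
irreducible component which is a smooth rational curve (the image of a closed immersion of the
projective line) contains at least three points lying on other components, and 2g ≥ 3; (ii) dim
H^1(X, O_X) = g with g ≥ 2, and no irreducible component of X is a rational tail or a rational
bridge. (With no marked points the published statement excludes only genus one; it fails for the
projective line, which has genus zero, no rational tail and no rational bridge, and is not stable,
so genus at least two is required in (ii) here — exactly what the inequality 2g ≥ 3 of (i) forces.) -/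
theorem result (k : Type u) [Field k] [IsAlgClosed k] (X : Scheme.{u})
    [X.Over (Spec (CommRingCat.of k))] [IsProper (X ↘ Spec (CommRingCat.of k))] [ConnectedSpace X]
    (hdim : topologicalKrullDim X = 1) (hX : Curv2.AtWorstNodal k X) (g : ℕ) :
    CurvSt.IsStablePtd k X (X ↘ Spec (CommRingCat.of k)) g (Fin.elim0 : Fin 0 → X) ↔
      (Curv2.genus k X = g ∧ 2 ≤ g ∧
        (∀ (C : Set X) (hC : C ∈ irreducibleComponents (X : Type u)), ¬ Curv2.IsRationalTail X C hC) ∧
        (∀ (C : Set X) (hC : C ∈ irreducibleComponents (X : Type u)), ¬ Curv2.IsRationalBridge k X C hC)) := by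
  haveI := CohFound.isNoetherian_of_isProper (X ↘ Spec (CommRingCat.of k))
  have hY : IsNodalCurve k X := ⟨inferInstance, dim_components hdim, hX⟩
  haveI : JacobsonSpace X := LocallyOfFiniteType.jacobsonSpace (X ↘ Spec (CommRingCat.of k))
  constructor
  · rintro ⟨-, -, -, ⟨-, hg⟩, -, -, hcomp, h3⟩
    have key : ∀ (C : Set X) (hC : C ∈ irreducibleComponents (X : Type u)),
        Subsingleton (Coh.HH (red (clE hC)) (Coh.structureModule (red (clE hC))) 1) →
        ∀ I : X.IdealSheafData, I = Scheme.IdealSheafData.vanishingIdeal (clE hC) ⊔
          (Scheme.Opens.ι (⟨Cᶜ, (isClosed_of_mem_irreducibleComponents C hC).isOpen_compl⟩ : X.Opens)).ker →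
        (Subsingleton I.subscheme ∨ Module.finrank k (Coh.HH X (ClSub.quotMod I) 0) =
          2 * Module.finrank k (Coh.HH X (ClSub.quotMod (Scheme.IdealSheafData.vanishingIdeal (clE hC))) 0)) →
        False := by
      intro C hC hH I hI hor
      haveI := hY.isReduced
      let S : Closeds X := clE hC ⊓ Closeds.closure Cᶜ
      have hsup : I = Scheme.IdealSheafData.vanishingIdeal S := by
        rw [hI, ker_opens_ι]
        exact hY.vanishing_sup hC
      have hmeet : CurvSt.meetPts X C = C ∩ closure Cᶜ := by
        refine Set.Subset.antisymm ?_ ?_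
        · rintro z ⟨hzW, W', hW', hne, hzW'⟩
          exact mem_bdry_of_comp (isClosed_of_mem_irreducibleComponents C hC) hW'
            (fun h => hne (eq_of_comp_subset hW' hC h)) hzW' hzW
        · intro z hz
          obtain ⟨hzW, E', hE', hEW, hzE⟩ := bdry_subset (D := C) hz
          exact ⟨hzW, E', hE', fun h => hEW h.le, hzE⟩
      have hSr : Set.range (redι S) = CurvSt.meetPts X C := by rw [range_redι, hmeet]; rfl
      have hfin : (CurvSt.meetPts X C).Finite := by
        refine ((NoetherianSpace.finite_irreducibleComponents (α := X)).biUnion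
          (fun E hE => (?_ : {p | p ∈ C ∧ E ≠ C ∧ p ∈ E}.Finite))).subset ?_
        · by_cases hEC : E = C
          · exact Set.finite_empty.subset fun p hp => hp.2.1 hEC
          · exact (finite_inter_comp hdim.le (isClosed_of_mem_irreducibleComponents E hE) hC
              (fun h => hEC (eq_of_comp_subset hC hE h).symm)).subset fun p hp => ⟨hp.2.2, hp.1⟩
        · rintro p ⟨hp, E, hE, hne, hpE⟩
          exact Set.mem_biUnion hE ⟨hp, hne, hpE⟩
      haveI := hfin.to_subtype
      haveI : Finite (red S) := Finite.of_injective (fun z : red S => (⟨redι S z, hSr.subset ⟨z, rfl⟩⟩ : CurvSt.meetPts X C))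
        (fun a b h => (redι S).isEmbedding.injective (congrArg Subtype.val h :))
      haveI : JacobsonSpace (red S) := JacobsonSpace.of_isClosedEmbedding (redι S).isClosedEmbedding
      have hcount : Nat.card (red S) = (CurvSt.meetPts X C).ncard := by
        rw [← hSr, ← Nat.card_coe_set_eq]
        exact Nat.card_congr (Equiv.ofInjective _ (redι S).isEmbedding.injective)
      have hle : Nat.card (red S) ≤ 2 := by
        subst hsup
        rcases hor with h | h
        · haveI := h
          exact (Finite.card_le_one_iff_subsingleton.2 inferInstance).trans one_le_two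
        · rw [hY.finrank_quot S, hY.finrank_quot (clE hC)] at h
          haveI := isIntegral_red hC
          haveI : Subsingleton (_root_.ConnectedComponents (red (clE hC))) := ⟨fun a b => by
            obtain ⟨x, rfl⟩ := ConnectedComponents.surjective_coe a
            obtain ⟨y, rfl⟩ := ConnectedComponents.surjective_coe b
            exact ConnectedComponents.coe_eq_coe'.2 (by rw [PreconnectedSpace.connectedComponent_eq_univ]; trivial)⟩
          rw [(Nat.card_eq_one_iff_unique (α := _root_.ConnectedComponents (red (clE hC)))).2
            ⟨inferInstance, ⟨ConnectedComponents.mk (genericPoint _)⟩⟩] at h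
          haveI : TotallyDisconnectedSpace (red S) := inferInstance
          rw [Nat.card_congr (Equiv.ofBijective (ConnectedComponents.mk : red S → _)
            ⟨fun a b hab => by
              have := ConnectedComponents.coe_eq_coe'.1 hab
              rwa [connectedComponent_eq_singleton, Set.mem_singleton_iff] at this, ConnectedComponents.surjective_coe⟩)]
          omega
      have h := hcomp C (isSmRatComp_of_h1 hY hC hH)
      rw [hcount] at hle
      have h3' : ((3 : ℕ) : ℕ∞) ≤ ((CurvSt.meetPts X C).ncard : ℕ∞) := by
        rw [hfin.cast_ncard_eq]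
        simpa using h
      have h' : 3 ≤ (CurvSt.meetPts X C).ncard := by exact_mod_cast h3'
      omega
    refine ⟨hg, by omega, fun C hC ht => ?_, fun C hC ht => ?_⟩
    · exact key C hC ht.2.2.2.2.2 _ rfl (Or.inl ht.2.2.1)
    · exact key C hC ht.2.2 _ rfl (Or.inr ht.2.1)
  · rintro ⟨hg, h2, ht, hb⟩
    refine ⟨inferInstance, inferInstance, hdim, ⟨hX, hg⟩, fun i => i.elim0, fun i => i.elim0, fun E hE => ?_, by omega⟩
    by_contra hlt
    refine hY.false_of_P1 (hg.symm ▸ h2) (fun Z hZ => ⟨ht Z hZ, hb Z hZ⟩) hE ?_
    have h : (CurvSt.meetPts X E).encard < 3 := lt_of_le_of_lt le_self_add (not_le.1 hlt)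
    exact Order.le_of_lt_add_one (by exact_mod_cast h)

end Groth.Agent.S16731
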