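import Groth.Statements.S16737
import Mathlib.RingTheory.Kaehler.Polynomial
import Mathlib.Algebra.MvPolynomial.Expand
import Mathlib.Algebra.CharP.Invertible

set_option autoImplicit false
universe u v
open DeRham

namespace Groth.Agent.S16737

/-- The case of affine space over an affine base of characteristic p, in degree zero. Let p be a prime
and R a commutative ring with p = 0 in R. For a polynomial f over R in any set of variables t_i, the
Kähler differential df in Ω_{R[t]/R} vanishes if and only if f is a polynomial in the p-th powers of
the variables, f = g(t_i^p). Equivalently, the functions on affine space over R killed by the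
differential of the de Rham complex are exactly the functions on its Frobenius twist. (The published
computation is for finitely many variables over a noetherian base of characteristic p; the statement
here allows any commutative ring with p = 0 and any set of variables.) -/
theorem result (p : ℕ) [Fact p.Prime]
    (R : Type u) [CommRing R] [CharP R p] (σ : Type v) (f : MvPolynomial σ R) :
    KaehlerDifferential.D R (MvPolynomial σ R) f = 0 ↔
      ∃ g : MvPolynomial σ R, f = MvPolynomial.expand p g := by
  classical
  have hp := Fact.out (p := p.Prime)
  constructor
  · intro h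
    have hd : ∀ i, MvPolynomial.pderiv i f = 0 := fun i => by
      have e : ((Finsupp.lapply i).comp (KaehlerDifferential.mvPolynomialBasis R σ).repr.toLinearMap).compDer
          (KaehlerDifferential.D R (MvPolynomial σ R)) = MvPolynomial.pderiv i :=
        MvPolynomial.derivation_ext fun j => by
          show (KaehlerDifferential.mvPolynomialBasis R σ).repr (KaehlerDifferential.D R _ (MvPolynomial.X j)) i = _
          rw [KaehlerDifferential.mvPolynomialBasis_repr_D_X, MvPolynomial.pderiv_X, Finsupp.single_apply,
            Pi.single_apply]
      rw [← e]
      show (KaehlerDifferential.mvPolynomialBasis R σ).repr (KaehlerDifferential.D R _ f) i = 0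
      rw [h, map_zero]
      rfl
    have hdiv : ∀ d ∈ f.support, ∀ i, p ∣ d i := by
      intro d hdm i
      by_contra hnd
      have hi : d i ≠ 0 := fun e => hnd (e ▸ dvd_zero p)
      have hc := congrArg (MvPolynomial.coeff (d - Finsupp.single i 1)) (hd i)
      have hle : Finsupp.single i 1 ≤ d := by
        intro j
        rcases eq_or_ne j i with rfl | hne
        · simp; omega
        · simp [hne]
      rw [MvPolynomial.coeff_pderiv, MvPolynomial.coeff_zero, tsub_add_cancel_of_le hle] at hc
      have hu : IsUnit ((((d - Finsupp.single i 1 : σ →₀ ℕ) i : ℕ) : R) + 1) := by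
        rw [show (((d - Finsupp.single i 1 : σ →₀ ℕ) i : ℕ) : R) + 1 = ((d i : ℕ) : R) by
          rw [← Nat.cast_add_one]; congr 1; simp; omega]
        exact (CharP.isUnit_natCast_iff hp).2 hnd
      exact (MvPolynomial.mem_support_iff.1 hdm) (hu.mul_left_eq_zero.1 hc)
    refine ⟨∑ d ∈ f.support, MvPolynomial.monomial (d.mapRange (· / p) (Nat.zero_div p)) (f.coeff d), ?_⟩
    conv_lhs => rw [f.as_sum]
    rw [map_sum]
    refine Finset.sum_congr rfl fun d hdm => ?_
    rw [MvPolynomial.expand_monomial]
    refine congrArg (fun e => MvPolynomial.monomial e (f.coeff d)) (Finsupp.ext fun i => ?_)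
    simp [Nat.mul_div_cancel' (hdiv d hdm i)]
  · rintro ⟨g, rfl⟩
    induction g using MvPolynomial.induction_on with
    | C a => simp [← MvPolynomial.algebraMap_eq]
    | add x y hx hy => simp [map_add, hx, hy]
    | mul_X x i hx =>
      rw [map_mul, MvPolynomial.expand_X, Derivation.leibniz, hx, Derivation.leibniz_pow, smul_zero, add_zero,
        ← Nat.cast_smul_eq_nsmul (MvPolynomial σ R)]
      simp

end Groth.Agent.S16737
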