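import Groth.Statements.S16742
import Mathlib
import Groth.Agent.Lib.FlatH4.LocCrit

set_option autoImplicit false
universe u
open CAlg

namespace Groth.Agent.S16742
open TensorProduct

/-- The equivalence in affine form, with flatness of the reduction in place of smoothness. Let p be a
prime, A~ a commutative ring flat over Z/p^2 and B~ an A~-algebra such that B~/pB~ is flat over
A~/pA~. Then B~ is flat over A~ if and only if every element of B~ killed by p is a multiple of p;
equivalently multiplication by p identifies B~/pB~ with pB~. (The published statement assumes the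
reduction smooth over A~/pA~ and the schemes noetherian, and phrases (b) as B~ being a lifting, that
is flat over A~; the statement here assumes only that the reduction is flat, where the equivalence
still holds by the local flatness criterion for the square-zero ideal generated by p.) -/
theorem result (p : ℕ) [Fact p.Prime]
    (Al : Type u) [CommRing Al] [Algebra (ZMod (p ^ 2)) Al] [Module.Flat (ZMod (p ^ 2)) Al]
    (Bl : Type u) [CommRing Bl] [Algebra Al Bl]
    (hB : Module.Flat (Al ⧸ Ideal.span {(p : Al)})
      (Bl ⧸ (Ideal.span {(p : Al)}).map (algebraMap Al Bl))) :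
    Module.Flat Al Bl ↔ ∀ b : Bl, (p : Bl) * b = 0 → b ∈ Ideal.span {(p : Bl)} := by
  have hp := (Fact.out : p.Prime)
  have hZ : ∀ c : ZMod (p ^ 2), (p : ZMod (p ^ 2)) * c = 0 → (p : ZMod (p ^ 2)) ∣ c := fun c hc => by
    have : NeZero (p ^ 2) := ⟨pow_ne_zero _ hp.ne_zero⟩
    rw [← ZMod.natCast_zmod_val c, ← Nat.cast_mul, ZMod.natCast_eq_zero_iff] at hc
    replace hc := (Nat.mul_dvd_mul_iff_left hp.pos).1 (dvd_trans (dvd_of_eq (sq p).symm) hc)
    obtain ⟨d, hd⟩ := hc
    exact ⟨d, by rw [← ZMod.natCast_zmod_val c, hd, Nat.cast_mul]⟩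
  have hann : ∀ a : Al, (p : Al) * a = 0 → a ∈ Ideal.span {(p : Al)} := fun a ha => by
    obtain ⟨k, c, y, hy, hc⟩ := Module.Flat.isTrivialRelation_of_sum_smul_eq_zero (R := ZMod (p ^ 2)) (M := Al)
      (f := fun _ : Unit => (p : ZMod (p ^ 2))) (x := fun _ => a) (by simpa [Algebra.smul_def] using ha)
    rw [show a = ∑ j, c () j • y j from hy ()]
    refine sum_mem fun j _ => ?_
    obtain ⟨d, hd⟩ := hZ (c () j) (by simpa using hc j)
    rw [Algebra.smul_def, hd, map_mul, map_natCast, mul_assoc]
    exact Ideal.mul_mem_right _ _ (Ideal.mem_span_singleton_self _)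
  have hsq : (p : Al) * (p : Al) = 0 := by
    rw [← Nat.cast_mul, ← sq, ← map_natCast (algebraMap (ZMod (p ^ 2)) Al), ZMod.natCast_self, map_zero]
  constructor
  · intro _ b hb
    obtain ⟨k, c, y, hy, hc⟩ := Module.Flat.isTrivialRelation_of_sum_smul_eq_zero (R := Al) (M := Bl)
      (f := fun _ : Unit => (p : Al)) (x := fun _ => b) (by simpa [Algebra.smul_def] using hb)
    rw [show b = ∑ j, c () j • y j from hy ()]
    refine sum_mem fun j _ => ?_
    obtain ⟨d, hd⟩ := Ideal.mem_span_singleton.1 (hann (c () j) (by simpa using hc j))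
    rw [Algebra.smul_def, hd, map_mul, map_natCast, mul_assoc]
    exact Ideal.mul_mem_right _ _ (Ideal.mem_span_singleton_self _)
  · intro h
    let P := Ideal.span {(p : Al)}
    let g : P := ⟨p, Ideal.mem_span_singleton_self _⟩
    refine Groth.Agent.FlatH4.flat_of_isNilpotent P ⟨2, ?_⟩ ?_ ?_
    · rw [sq, Ideal.zero_eq_bot, Ideal.span_singleton_mul_span_singleton, hsq, Ideal.span_singleton_eq_bot]
    · rw [injective_iff_map_eq_zero]
      intro z hz
      obtain ⟨b, rfl⟩ : ∃ b : Bl, z = b ⊗ₜ g := by
        induction z using TensorProduct.induction_on with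
        | zero => exact ⟨0, (zero_tmul _ _).symm⟩
        | tmul b i =>
          obtain ⟨c, hc⟩ := Ideal.mem_span_singleton'.1 i.2
          exact ⟨c • b, by rw [smul_tmul]; congr 1; exact Subtype.ext hc.symm⟩
        | add x y hx hy =>
          by_cases hy0 : LinearMap.lTensor Bl (Submodule.subtype P) y = 0
          · obtain ⟨a, rfl⟩ := hx (by rwa [map_add, hy0, add_zero] at hz)
            obtain ⟨b, rfl⟩ := hy hy0
            exact ⟨a + b, (add_tmul _ _ _).symm⟩
          · have gen : ∀ t : Bl ⊗[Al] P, ∃ b : Bl, t = b ⊗ₜ g := fun t => by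
              induction t using TensorProduct.induction_on with
              | zero => exact ⟨0, (zero_tmul _ _).symm⟩
              | tmul b i =>
                obtain ⟨c, hc⟩ := Ideal.mem_span_singleton'.1 i.2
                exact ⟨c • b, by rw [smul_tmul]; congr 1; exact Subtype.ext hc.symm⟩
              | add a b ha hb => obtain ⟨a, rfl⟩ := ha; obtain ⟨b, rfl⟩ := hb; exact ⟨a + b, (add_tmul _ _ _).symm⟩
            exact gen _
      have hb : (p : Bl) * b = 0 := by
        have := congrArg (TensorProduct.rid Al Bl) hz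
        simpa [g, Algebra.smul_def, mul_comm] using this
      obtain ⟨b', hb'⟩ := Ideal.mem_span_singleton'.1 (h b hb)
      rw [← hb', show b' * (p : Bl) = (p : Al) • b' by rw [Algebra.smul_def, map_natCast, mul_comm], smul_tmul,
        show (p : Al) • g = 0 from Subtype.ext hsq, tmul_zero]
    · let e : (Bl ⧸ P.map (algebraMap Al Bl)) ≃ₗ[Al] (Al ⧸ P) ⊗[Al] Bl :=
        (Algebra.TensorProduct.quotIdealMapEquivTensorQuot Bl P).toLinearEquiv.restrictScalars Al ≪≫ₗ TensorProduct.comm Al _ _
      exact Module.Flat.of_linearEquiv (e.extendScalarsOfSurjective Ideal.Quotient.mk_surjective).symm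

end Groth.Agent.S16742
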