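import Groth.Statements.S16752
import Groth.Agent.Lib.OpenH0Fib12.Basic
import Groth.Agent.S0404
-- import your own Groth.Agent.* helpers here

set_option autoImplicit false
set_option backward.isDefEq.respectTransparency false
universe u
open CurvSt Groth.Agent

namespace Groth.Agent.S16752

open CategoryTheory CategoryTheory.Limits AlgebraicGeometry in
/-- Let f : X → S be a flat, proper morphism of schemes, locally of finite presentation, all of whose
fibres have dimension at most one (a family of curves whose total space is a scheme). Then the set
of points s of S such that the fibre X_s has dimension one and dim_{κ(s)} H^0(X_s, O_{X_s}) = 1 (the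
conditions under which the genus of X_s is defined) is open in S. The source allows the total space
to be an algebraic space and phrases the result as the existence of an open substack of the stack of
curves with this membership condition. -/
theorem result (X S : Scheme.{u}) (f : X ⟶ S)
    [Flat f] [IsProper f] [LocallyOfFinitePresentation f]
    (hdim : ∀ s : S, topologicalKrullDim ↥(f.fiber s) ≤ 1) :
    IsOpen {s : S | topologicalKrullDim ↥(f.fiber s) = 1 ∧
      Models.hRank ↥(S.residueField s) (f.fiber s) (f.fiberToSpecResidueField s)
        (Coh.structureModule (f.fiber s)) 0 = 1} := by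
  have h1 : ∀ t : S, topologicalKrullDim ↥(f.fiber t) = 1 ↔ (0 : WithBot ℕ∞) < topologicalKrullDim ↥(f.fiber t) := by
    intro t
    refine ⟨fun h => h ▸ zero_lt_one, fun h => le_antisymm (hdim t) ?_⟩
    generalize topologicalKrullDim ↥(f.fiber t) = d at h
    induction d with
    | bot => exact absurd h not_lt_bot
    | coe a => exact WithBot.coe_le_coe.2 (Order.one_le_iff_pos.2 (WithBot.coe_lt_coe.1 h))
  rw [isOpen_iff_forall_mem_open]
  rintro s ⟨hs, h0⟩
  obtain ⟨W, hsW, hW⟩ := OpenH0Fib12.exists_nhd_bijective_fibre f s hs.le
    (CurveR1_10.bijective_appTop_of_hRank _ h0)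
  exact ⟨(W : Set S) ∩ {t | (0 : WithBot ℕ∞) < topologicalKrullDim ↥(f.fiber t)},
    fun t ht => ⟨(h1 t).2 ht.2, OpenH0Fib12.hRank_eq_one_of_bijective _ (hW t ht.1)⟩,
    W.isOpen.inter (S0404.result f 0), hsW, (h1 s).1 hs⟩

end Groth.Agent.S16752
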