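import Groth.Statements.S16755
import Groth.Agent.Lib.Contr18.Factor

set_option autoImplicit false
universe u
open CurvSt

namespace Groth.Agent.S16755

open CategoryTheory CategoryTheory.Limits AlgebraicGeometry in
/-- Let S be a scheme and s a point of S; let f : X → S, g₁ : Y₁ → S, g₂ : Y₂ → S be families of curves
with X, Y₁, Y₂ schemes (flat, proper, locally of finite presentation, all fibres of dimension at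
most one) and c₁ : X → Y₁, c₂ : X → Y₂ morphisms over S. Fix the fibres X_s, Y_{1,s}, Y_{2,s} over
the residue field κ(s) (cartesian squares over Spec κ(s) → S), the morphisms d₁ : X_s → Y_{1,s}, d₂
: X_s → Y_{2,s} induced by c₁, c₂, and an isomorphism e : Y_{1,s} ≅ Y_{2,s} over κ(s) with d₁
followed by e equal to d₂. Assume O_{Y_{1,s}} → d_{1,*} O_{X_s} is an isomorphism (on sections over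
every open) and R^1 d_{1,*} O_{X_s} = 0 (the first cohomology of the structure sheaf of X_s vanishes
on the preimage of every affine open of Y_{1,s}). Then there are an open neighbourhood U of s in S
and an isomorphism e' between the open subschemes g₁^{-1}(U) of Y₁ and g₂^{-1}(U) of Y₂, over S,
compatible with c₁ and c₂ (a T-valued point of X whose images under c₁ and c₂ lie in these opens has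
those images matched by e') and restricting to e on the fibres over s. The source allows
algebraic-space total spaces. -/
theorem result {X Y₁ Y₂ S : Scheme.{u}}
    (f : X ⟶ S) (g₁ : Y₁ ⟶ S) (g₂ : Y₂ ⟶ S) (c₁ : X ⟶ Y₁) (c₂ : X ⟶ Y₂) (hc₁ : c₁ ≫ g₁ = f) (hc₂ : c₂ ≫ g₂ = f)
    [Flat f] [IsProper f] [LocallyOfFinitePresentation f]
    [Flat g₁] [IsProper g₁] [LocallyOfFinitePresentation g₁]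
    [Flat g₂] [IsProper g₂] [LocallyOfFinitePresentation g₂]
    (hX : ∀ t : S, topologicalKrullDim ↥(f.fiber t) ≤ 1) (hY₁ : ∀ t : S, topologicalKrullDim ↥(g₁.fiber t) ≤ 1)
    (hY₂ : ∀ t : S, topologicalKrullDim ↥(g₂.fiber t) ≤ 1)
    (s : S) (Xs Ys₁ Ys₂ : Scheme.{u})
    (iX : Xs ⟶ X) (qX : Xs ⟶ Spec (S.residueField s)) (hXs : IsPullback iX qX f (S.fromSpecResidueField s))
    (i₁ : Ys₁ ⟶ Y₁) (q₁ : Ys₁ ⟶ Spec (S.residueField s)) (hYs₁ : IsPullback i₁ q₁ g₁ (S.fromSpecResidueField s))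
    (i₂ : Ys₂ ⟶ Y₂) (q₂ : Ys₂ ⟶ Spec (S.residueField s)) (hYs₂ : IsPullback i₂ q₂ g₂ (S.fromSpecResidueField s))
    (d₁ : Xs ⟶ Ys₁) (hd₁ : d₁ ≫ i₁ = iX ≫ c₁) (hd₁q : d₁ ≫ q₁ = qX)
    (d₂ : Xs ⟶ Ys₂) (hd₂ : d₂ ≫ i₂ = iX ≫ c₂) (hd₂q : d₂ ≫ q₂ = qX)
    (e : Ys₁ ≅ Ys₂) (he : e.hom ≫ q₂ = q₁) (hec : d₁ ≫ e.hom = d₂)
    (hiso : ∀ U : Ys₁.Opens, IsIso (d₁.app U))
    (hR1 : ∀ U : Ys₁.Opens, IsAffineOpen U → Subsingleton (Coh.HHon Xs (Coh.structureModule Xs) (d₁ ⁻¹ᵁ U) 1)) :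
    ∃ U : S.Opens, s ∈ U ∧ ∃ e' : ((g₁ ⁻¹ᵁ U : Scheme.{u})) ≅ (g₂ ⁻¹ᵁ U : Scheme.{u}),
      e'.hom ≫ (g₂ ⁻¹ᵁ U).ι ≫ g₂ = (g₁ ⁻¹ᵁ U).ι ≫ g₁ ∧
      (∀ (T : Scheme.{u}) (a : T ⟶ X) (a₁ : T ⟶ (g₁ ⁻¹ᵁ U : Scheme.{u})) (a₂ : T ⟶ (g₂ ⁻¹ᵁ U : Scheme.{u})),
          a ≫ c₁ = a₁ ≫ (g₁ ⁻¹ᵁ U).ι → a ≫ c₂ = a₂ ≫ (g₂ ⁻¹ᵁ U).ι → a₁ ≫ e'.hom = a₂) ∧
      (∀ (b₁ : Ys₁ ⟶ (g₁ ⁻¹ᵁ U : Scheme.{u})) (b₂ : Ys₂ ⟶ (g₂ ⁻¹ᵁ U : Scheme.{u})),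
          b₁ ≫ (g₁ ⁻¹ᵁ U).ι = i₁ → b₂ ≫ (g₂ ⁻¹ᵁ U).ι = i₂ → b₁ ≫ e'.hom = e.hom ≫ b₂) := by
  subst hc₁
  haveI : IsProper c₁ := IsProper.of_comp c₁ g₁
  haveI : Flat (c₂ ≫ g₂) := hc₂.symm ▸ (inferInstance : Flat (c₁ ≫ g₁))
  haveI : IsProper (c₂ ≫ g₂) := hc₂.symm ▸ (inferInstance : IsProper (c₁ ≫ g₁))
  haveI : LocallyOfFinitePresentation (c₂ ≫ g₂) :=
    hc₂.symm ▸ (inferInstance : LocallyOfFinitePresentation (c₁ ≫ g₁))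
  haveI : IsProper c₂ := IsProper.of_comp c₂ g₂
  obtain ⟨hi₁, hr₁⟩ := Contr18.fiberMap_hyps c₁ g₁ s hXs hYs₁ d₁ hd₁ hd₁q hiso hR1
  obtain ⟨hiso₂, hR1₂⟩ := Contr18.hyps_comp_iso d₁ e.hom hiso hR1
  rw [hec] at hiso₂ hR1₂
  obtain ⟨hi₂, hr₂⟩ := Contr18.fiberMap_hyps c₂ g₂ s (hc₂.symm ▸ hXs) hYs₂ d₂ hd₂ hd₂q hiso₂ hR1₂
  obtain ⟨U₁, hsU₁, hU₁⟩ := S16753.result c₁ g₁ hX hY₁ s hi₁ hr₁
  obtain ⟨U₂, hsU₂, hU₂⟩ := S16753.result c₂ g₂ (hc₂.symm ▸ hX) hY₂ s hi₂ hr₂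
  have h0₁ : ∀ V ≤ U₁, ∀ W : (g₁ ⁻¹ᵁ V).toScheme.Opens, IsIso ((c₁ ∣_ g₁ ⁻¹ᵁ V).app W) := fun V hV =>
    (hU₁ _ _ _ V.ι (g₁ ∣_ V) (c₁ ∣_ g₁ ⁻¹ᵁ V) (g₁ ⁻¹ᵁ V).ι (c₁ ⁻¹ᵁ g₁ ⁻¹ᵁ V).ι
      (isPullback_morphismRestrict g₁ V).flip (isPullback_morphismRestrict c₁ _).flip
      (by rw [Scheme.Opens.range_ι]; exact hV)).1
  have h0₂ : ∀ V ≤ U₂, ∀ W : (g₂ ⁻¹ᵁ V).toScheme.Opens, IsIso ((c₂ ∣_ g₂ ⁻¹ᵁ V).app W) := fun V hV =>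
    (hU₂ _ _ _ V.ι (g₂ ∣_ V) (c₂ ∣_ g₂ ⁻¹ᵁ V) (g₂ ⁻¹ᵁ V).ι (c₂ ⁻¹ᵁ g₂ ⁻¹ᵁ V).ι
      (isPullback_morphismRestrict g₂ V).flip (isPullback_morphismRestrict c₂ _).flip
      (by rw [Scheme.Opens.range_ι]; exact hV)).1
  obtain ⟨V₁, hsV₁, hV₁, hp₁⟩ := Contr18.exists_collapse c₁ g₁ c₂ U₁ (h0₁ _ le_rfl) s hsU₁
    (Contr18.collapse_fibre c₁ g₁ c₂ s hXs hYs₁ d₁ hd₁ e.hom (by rw [← hd₂, ← hec, Category.assoc]))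
  obtain ⟨V₂, hsV₂, hV₂, hp₂⟩ := Contr18.exists_collapse c₂ g₂ c₁ U₂ (h0₂ _ le_rfl) s hsU₂
    (Contr18.collapse_fibre c₂ g₂ c₁ s (hc₂.symm ▸ hXs) hYs₂ d₂ hd₂ e.inv
      (by rw [← hd₁, ← hec, Category.assoc, Iso.hom_inv_id_assoc]))
  let U : S.Opens := V₁ ⊓ V₂
  have hU₁' : U ≤ U₁ := inf_le_left.trans hV₁
  have hU₂' : U ≤ U₂ := inf_le_right.trans hV₂
  obtain ⟨φ, hφ, hφg⟩ := Contr18.exists_hom c₁ g₁ g₂ c₂ hc₂.symm U (h0₁ U hU₁') fun y hy => hp₁ y hy.1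
  obtain ⟨ψ, hψ, hψg⟩ := Contr18.exists_hom c₂ g₂ g₁ c₁ hc₂ U (h0₂ U hU₂') fun y hy => hp₂ y hy.2
  -- on `T`-valued points, `φ` and `ψ` match the two contractions
  have key₁ : ∀ (T : Scheme.{u}) (a : T ⟶ X) (a₁ : T ⟶ (g₁ ⁻¹ᵁ U).toScheme),
      a ≫ c₁ = a₁ ≫ (g₁ ⁻¹ᵁ U).ι → a₁ ≫ φ ≫ (g₂ ⁻¹ᵁ U).ι = a ≫ c₂ := fun T a a₁ h₁ => by
    have hc := isPullback_morphismRestrict c₁ (g₁ ⁻¹ᵁ U)
    rw [← hc.lift_fst a₁ a h₁.symm, Category.assoc, hφ, ← Category.assoc, hc.lift_snd]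
  have key₂ : ∀ (T : Scheme.{u}) (a : T ⟶ X) (a₂ : T ⟶ (g₂ ⁻¹ᵁ U).toScheme),
      a ≫ c₂ = a₂ ≫ (g₂ ⁻¹ᵁ U).ι → a₂ ≫ ψ ≫ (g₁ ⁻¹ᵁ U).ι = a ≫ c₁ := fun T a a₂ h₂ => by
    have hc := isPullback_morphismRestrict c₂ (g₂ ⁻¹ᵁ U)
    rw [← hc.lift_fst a₂ a h₂.symm, Category.assoc, hψ, ← Category.assoc, hc.lift_snd]
  have h₁₂ : φ ≫ ψ = 𝟙 _ := Contr18.cancel_of_isIso_app _ (h0₁ U hU₁') (by
    rw [← cancel_mono (g₁ ⁻¹ᵁ U).ι, Category.comp_id, Category.assoc, Category.assoc, morphismRestrict_ι,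
      ← Category.assoc _ φ]
    exact key₂ _ (c₁ ⁻¹ᵁ g₁ ⁻¹ᵁ U).ι _ (by rw [Category.assoc]; exact hφ.symm))
  have h₂₁ : ψ ≫ φ = 𝟙 _ := Contr18.cancel_of_isIso_app _ (h0₂ U hU₂') (by
    rw [← cancel_mono (g₂ ⁻¹ᵁ U).ι, Category.comp_id, Category.assoc, Category.assoc, morphismRestrict_ι,
      ← Category.assoc _ ψ]
    exact key₁ _ (c₂ ⁻¹ᵁ g₂ ⁻¹ᵁ U).ι _ (by rw [Category.assoc]; exact hψ.symm))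
  refine ⟨U, ⟨hsV₁, hsV₂⟩, ⟨φ, ψ, h₁₂, h₂₁⟩, hφg, fun T a a₁ a₂ h₁ h₂ => ?_, fun b₁ b₂ hb₁ hb₂ => ?_⟩
  · rw [← cancel_mono (g₂ ⁻¹ᵁ U).ι, Category.assoc, ← h₂]
    exact key₁ T a a₁ h₁
  · haveI : IsProper q₁ := MorphismProperty.of_isPullback hYs₁ inferInstance
    haveI : IsProper (d₁ ≫ q₁) := hd₁q.symm ▸ MorphismProperty.of_isPullback hXs inferInstance
    haveI : IsProper d₁ := IsProper.of_comp d₁ q₁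
    refine Contr18.cancel_of_isIso_app d₁ hiso ?_
    rw [← cancel_mono (g₂ ⁻¹ᵁ U).ι]
    simp only [Category.assoc]
    rw [hb₂, ← Category.assoc d₁ e.hom, hec, hd₂, ← Category.assoc d₁ b₁]
    exact key₁ Xs iX (d₁ ≫ b₁) (by rw [Category.assoc, hb₁, hd₁])

end Groth.Agent.S16755
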