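import Groth.Statements.S16762
import Mathlib.RingTheory.Flat.FaithfullyFlat.Basic
import Mathlib.LinearAlgebra.TensorProduct.Tower
import Mathlib.LinearAlgebra.TensorProduct.RightExactness

set_option autoImplicit false
universe u
open CAlgX

namespace Groth.Agent.S16762

open scoped TensorProduct

/-- Let A → A' be faithfully flat and u : M → N a map of A-modules. Then u is universally injective (u ⊗
id_Q injective for every A-module Q) if and only if its base change A' ⊗_A M → A' ⊗_A N is
universally injective as a map of A'-modules. -/
theorem result (A A' : Type u) [CommRing A] [CommRing A']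
    [Algebra A A'] [Module.FaithfullyFlat A A'] {M N : Type u} [AddCommGroup M] [Module A M]
    [AddCommGroup N] [Module A N] (u : M →ₗ[A] N) :
    CAlgX.UniversallyInjective A u ↔ CAlgX.UniversallyInjective A' (u.baseChange A') := by
  constructor
  · intro h Q _ _
    letI : Module A Q := Module.compHom Q (algebraMap A A')
    haveI : IsScalarTower A A' Q := ⟨fun a b q => by
      show (a • b) • q = algebraMap A A' a • b • q
      rw [Algebra.smul_def, mul_smul]⟩
    -- `(A' ⊗ M) ⊗_{A'} Q ≅ M ⊗_A Q`
    let eM := (TensorProduct.comm A' (A' ⊗[A] M) Q).trans (TensorProduct.AlgebraTensorModule.cancelBaseChange A A' A' Q M)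
    let eN := (TensorProduct.comm A' (A' ⊗[A] N) Q).trans (TensorProduct.AlgebraTensorModule.cancelBaseChange A A' A' Q N)
    have hinj : Function.Injective (u.lTensor Q) := (LinearMap.lTensor_inj_iff_rTensor_inj Q u).mpr (h Q)
    have key : ∀ x, eN ((u.baseChange A').rTensor Q x) = u.lTensor Q (eM x) := fun x => by
      induction x using TensorProduct.induction_on with
      | zero => simp
      | tmul y q =>
        induction y using TensorProduct.induction_on with
        | zero => simp
        | tmul a m => simp [eM, eN, TensorProduct.smul_tmul']
        | add a b ha hb =>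
          simp only [TensorProduct.add_tmul, map_add] at ha hb ⊢
          rw [ha, hb]
      | add a b ha hb => simp only [map_add, ha, hb]
    intro x y e
    exact eM.injective (hinj (by rw [← key, ← key, e]))
  · intro h Q _ _
    have h' : Function.Injective ((u.baseChange A').rTensor (A' ⊗[A] Q)) := h (A' ⊗[A] Q)
    rw [← Module.FaithfullyFlat.lTensor_injective_iff_injective A A']
    -- `A' ⊗ (M ⊗ Q) ≅ (A' ⊗ M) ⊗_{A'} (A' ⊗ Q)`
    let eM := TensorProduct.AlgebraTensorModule.distribBaseChange A A' M Q
    let eN := TensorProduct.AlgebraTensorModule.distribBaseChange A A' N Q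
    have key : ∀ x, eN ((u.rTensor Q).lTensor A' x) = (u.baseChange A').rTensor (A' ⊗[A] Q) (eM x) := fun x => by
      induction x using TensorProduct.induction_on with
      | zero => simp
      | tmul a y =>
        induction y using TensorProduct.induction_on with
        | zero => simp
        | tmul m q => simp [eM, eN]
        | add a b ha hb =>
          simp only [TensorProduct.tmul_add, map_add] at ha hb ⊢
          rw [ha, hb]
      | add a b ha hb => simp only [map_add, ha, hb]
    intro x y e
    exact eM.injective (h' (by rw [← key, ← key, e]))

end Groth.Agent.S16762
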