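import Groth.Statements.S16767
import Groth.Agent.Lib.CocharExt20.Basic
import Groth.Agent.Lib.MTRigid29.CentralizerNormalizer
import Groth.Agent.Lib.QuotFlat20.Basic
import Groth.Agent.Lib.TorPts21.CharExtend
import Groth.Agent.Lib.H12.FlatComp
import Groth.Agent.Lib.SchBasic.Basic

set_option autoImplicit false
open CategoryTheory MonoidalCategory CartesianMonoidalCategory MonObj GrpObj AlgebraicGeometry
universe u
open SGA3x

namespace Groth.Agent.S16767

set_option linter.style.haveILetI false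
set_option backward.isDefEq.respectTransparency.types false

theorem commute_of_conj_eq {G : Type*} [Group G] {a b h : G} (e : a * h * a⁻¹ = b * h * b⁻¹) :
    Commute (a⁻¹ * b) h := by
  show a⁻¹ * b * h = h * (a⁻¹ * b)
  calc a⁻¹ * b * h = a⁻¹ * (b * h * b⁻¹) * b := by group
    _ = a⁻¹ * (a * h * a⁻¹) * b := by rw [e]
    _ = h * (a⁻¹ * b) := by group

theorem conj_eq_of_commute {G : Type*} [Group G] {a b h : G} (e : a⁻¹ * b * h = h * (a⁻¹ * b)) :
    a * h * a⁻¹ = b * h * b⁻¹ := by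
  calc a * h * a⁻¹ = a * (h * (a⁻¹ * b)) * b⁻¹ := by group
    _ = a * (a⁻¹ * b * h) * b⁻¹ := by rw [e]
    _ = b * h * b⁻¹ := by group

theorem commute_conj {G : Type*} [Group G] {a c h : G} (e : c * (a⁻¹ * h * a) = a⁻¹ * h * a * c) :
    a * c * a⁻¹ * h = h * (a * c * a⁻¹) := by
  calc a * c * a⁻¹ * h = a * (c * (a⁻¹ * h * a)) * a⁻¹ := by group
    _ = a * (a⁻¹ * h * a * c) * a⁻¹ := by rw [e]
    _ = h * (a * c * a⁻¹) := by group

open Limits in
/-- The kernel pair of a map whose fibres are cosets. -/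
theorem isPullback_cosets {S : Scheme.{u}} {N Z Q : Over S} [GrpObj N] (f : Z ⟶ N) [Mono f]
    (p : N ⟶ Q) (h : ∀ (T : Over S) (a b : T ⟶ N), a ≫ p = b ≫ p ↔ ∃ z : T ⟶ Z, a⁻¹ * b = z ≫ f) :
    IsPullback (fst N Z) ((N ◁ f) ≫ μ[N]) p p := by
  have key : ∀ {T : Over S} (w : T ⟶ N ⊗ Z), w ≫ (N ◁ f) ≫ μ[N] = (w ≫ fst N Z) * ((w ≫ snd N Z) ≫ f) := by
    intro T w
    rw [Hom.mul_def, ← Category.assoc w (N ◁ f)]
    congr 1
    apply CartesianMonoidalCategory.hom_ext <;> simp
  have w : fst N Z ≫ p = ((N ◁ f) ≫ μ[N]) ≫ p := by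
    refine (h _ (fst N Z) _).2 ⟨snd N Z, ?_⟩
    have h1 := key (𝟙 (N ⊗ Z))
    simp only [Category.id_comp] at h1
    rw [h1, inv_mul_cancel_left]
  refine ⟨⟨w⟩, ⟨PullbackCone.IsLimit.mk _ (fun s => lift s.fst ((h _ s.fst s.snd).1 s.condition).choose)
    (fun s => lift_fst _ _) (fun s => ?_) fun s m h1 h2 => ?_⟩⟩
  · rw [key, lift_fst, lift_snd, ← ((h _ s.fst s.snd).1 s.condition).choose_spec, mul_inv_cancel_left]
  · rw [key, h1] at h2
    apply CartesianMonoidalCategory.hom_ext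
    · rw [h1, lift_fst]
    · rw [lift_snd, ← cancel_mono f, ← ((h _ s.fst s.snd).1 s.condition).choose_spec, ← h2, inv_mul_cancel_left]


/-- For a smooth affine group scheme G over a scheme S and a subgroup scheme H of multiplicative type
(of finite type) with centralizer Z and normalizer N, Z being a subgroup of N, the fppf quotient N/Z
is representable by an S-group scheme which is separated, etale and quasi-compact over S (a
separated etale S-group of finite presentation). -/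
theorem result {S : Scheme.{u}} (H G Z N : Over S)
    [GrpObj H] [GrpObj G] [GrpObj Z] [GrpObj N]
    (hH : SGA3x.IsMultTypeFT H) (hG : Smooth G.hom) (hGa : IsAffineHom G.hom) (i : H ⟶ G) [IsMonHom i] [Mono i]
    (j : Z ⟶ G) (k : N ⟶ G) (hj : Red.IsCentralizerOf i j) (hk : Red.IsNormalizerOf i k)
    (f : Z ⟶ N) [IsMonHom f] (hf : f ≫ k = j) :
    ∃ (W : Over S) (_ : GrpObj W) (q : N ⟶ W) (_ : IsMonHom q), RedSub.IsQuotient f q ∧
      IsSeparated W.hom ∧ Etale W.hom ∧ QuasiCompact W.hom := by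
  obtain ⟨hkhom, hkmono, hkp⟩ := hk
  obtain ⟨hjhom, hjmono, hjp⟩ := hj
  haveI := hkhom
  haveI := hkmono
  -- the normalizer is smooth, affine and contains Z as a clopen subscheme
  obtain ⟨N', _, j', ⟨-, hj'mono, hj'p⟩, hj'cl, hN'sm⟩ := MTRigid29.exists_normalizer hH hG hGa i
  haveI := hj'mono
  haveI := hj'cl
  obtain ⟨z₁, hz₁⟩ := (hj'p N k).2 ((hkp N k).1 ⟨𝟙 N, Category.id_comp k⟩)
  obtain ⟨z₂, hz₂⟩ := (hkp N' j').2 ((hj'p N' j').1 ⟨𝟙 N', Category.id_comp j'⟩)
  let e : N ≅ N' := ⟨z₁, z₂, by rw [← cancel_mono k, Category.assoc, hz₂, hz₁, Category.id_comp],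
    by rw [← cancel_mono j', Category.assoc, hz₁, hz₂, Category.id_comp]⟩
  haveI : IsIso z₁.left := inferInstanceAs (IsIso ((Over.forget _).mapIso e).hom)
  haveI hNsm : Smooth N.hom := by
    rw [← Over.w z₁]
    exact MorphismProperty.comp_mem _ _ _ inferInstance hN'sm
  haveI hNaff : IsAffineHom N.hom := by
    haveI := hGa
    haveI : IsAffineHom N'.hom := by rw [← Over.w j']; infer_instance
    rw [← Over.w z₁]
    infer_instance
  obtain ⟨f', hf', hfo, hfc⟩ :=
    MTRigid29.centralizer_clopen_normalizer hH i j k ⟨hjhom, hjmono, hjp⟩ ⟨hkhom, hkmono, hkp⟩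
  have hff : f' = f := (cancel_mono k).1 (hf'.trans hf.symm)
  subst hff
  haveI := hfo
  haveI : Mono f' := Over.mono_of_mono_left f'
  haveI hZsm : Smooth Z.hom := by
    haveI : Smooth f'.left := inferInstance
    rw [← Over.w f']
    exact MorphismProperty.comp_mem _ _ _ ‹Smooth f'.left› hNsm
  -- the conjugation family
  obtain ⟨κ, hκ⟩ := ((hkp N k).1 ⟨𝟙 N, Category.id_comp k⟩ (H ⊗ N) (snd H N) (fst H N)).1
  have hκl : ∀ (X : Over S) (h : X ⟶ H) (n : X ⟶ N), lift h n ≫ κ ≫ i = (n ≫ k) * (h ≫ i) * (n ≫ k)⁻¹ := by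
    intro X h n
    rw [← hκ, MonObj.comp_mul, MonObj.comp_mul, GrpObj.comp_inv, lift_snd_assoc, lift_fst_assoc]
  have hκh : AutFam.IsHomFamily H H κ := fun X g₁ g₂ t => by
    rw [← cancel_mono i, MonObj.mul_comp, Category.assoc, Category.assoc, Category.assoc, hκl, hκl, hκl,
      MonObj.mul_comp]
    group
  have he := CocharExt20.locally_etale_of_ft hH
  obtain ⟨A, υ, hA, hAt⟩ := Groth.Agent.S6061.result H H
    (fun s => by obtain ⟨W, g, h1, h2, M, x, -, h3⟩ := he s; exact ⟨W, g, h1, h2, M, x, h3⟩) he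
  obtain ⟨hAsep, hAet⟩ := MTRigid29.etale_of_twConst A hAt
  haveI := hAsep
  haveI := hAet
  obtain ⟨o, ho, -⟩ := hA.2 N κ hκh
  have hcoset : ∀ (T : Over S) (a b : T ⟶ N), a ≫ o = b ≫ o ↔ ∃ z : T ⟶ Z, a⁻¹ * b = z ≫ f' := by
    intro T a b
    have h1 : a ≫ o = b ≫ o ↔ (H ◁ a) ≫ κ = (H ◁ b) ≫ κ := by
      constructor
      · intro h
        rw [← ho, ← MonoidalCategory.whiskerLeft_comp_assoc, h, MonoidalCategory.whiskerLeft_comp_assoc]
      · intro h
        obtain ⟨x, -, hx⟩ := hA.2 T ((H ◁ a) ≫ κ) (fun X g₁ g₂ t => by simpa using hκh X g₁ g₂ (t ≫ a))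
        rw [hx (a ≫ o) (show (H ◁ (a ≫ o)) ≫ υ = _ by rw [MonoidalCategory.whiskerLeft_comp, Category.assoc, ho]),
          hx (b ≫ o) (show (H ◁ (b ≫ o)) ≫ υ = _ by rw [MonoidalCategory.whiskerLeft_comp, Category.assoc, ho, h])]
    have h2 : (∃ z : T ⟶ Z, a⁻¹ * b = z ≫ f') ↔ ∃ z : T ⟶ Z, z ≫ j = (a⁻¹ * b) ≫ k := by
      constructor
      · rintro ⟨z, hz⟩
        exact ⟨z, by rw [hz, Category.assoc, hf]⟩
      · rintro ⟨z, hz⟩
        exact ⟨z, by rw [← cancel_mono k, ← hz, Category.assoc, hf]⟩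
    rw [h1, h2, hjp]
    constructor
    · intro h X x y
      have h3 := congrArg (fun m => lift y x ≫ m ≫ i) h
      simp only [Category.assoc, lift_whiskerLeft_assoc, hκl] at h3
      rw [MonObj.mul_comp, GrpObj.inv_comp, MonObj.comp_mul, GrpObj.comp_inv]
      try simp only [Category.assoc]
      exact (commute_of_conj_eq h3).eq
    · intro h
      rw [← cancel_mono i]
      have h3 := h (H ⊗ T) (snd H T) (fst H T)
      rw [MonObj.mul_comp, GrpObj.inv_comp, MonObj.comp_mul, GrpObj.comp_inv] at h3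
      have e1 : ∀ c : T ⟶ N, (H ◁ c) ≫ κ ≫ i =
          ((snd H T ≫ c) ≫ k) * (fst H T ≫ i) * ((snd H T ≫ c) ≫ k)⁻¹ := fun c => by
        rw [← hκl, ← Category.assoc (lift _ _)]
        rw [show (H ◁ c) = lift (fst H T) (snd H T ≫ c) by apply CartesianMonoidalCategory.hom_ext <;> simp]
        rw [Category.assoc]
      rw [Category.assoc, Category.assoc, e1, e1]
      simp only [Category.assoc] at h3 ⊢
      exact conj_eq_of_commute h3
  have hfl : Flat (Limits.pullback.fst o.left o.left) := by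
    have hs : IsPullback (fst N Z).left ((N ◁ f') ≫ μ[N]).left o.left o.left :=
      (isPullback_cosets f' o hcoset).map (Over.forget S)
    haveI : Flat (fst N Z).left := by
      show Flat (Limits.pullback.fst N.hom Z.hom)
      infer_instance
    rw [← MorphismProperty.cancel_left_of_respectsIso @Flat hs.isoPullback.hom, hs.isoPullback_hom_fst]
    infer_instance
  obtain ⟨Q, p, m, hpm, hps, hpf, hpp, hmm, hQfp⟩ :=
    QuotFlat20.exists_factor_over (A := N) (X := A) (Or.inl inferInstance) o hfl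
  haveI := hps
  haveI := hpf
  haveI := hpp
  haveI := hmm
  haveI := hQfp
  haveI : Mono m.left := inferInstance
  haveI : IsSeparated Q.hom := by rw [← Over.w m]; infer_instance
  haveI : QuasiCompact Q.hom := by
    haveI : QuasiCompact (p.left ≫ Q.hom) := by rw [Over.w p]; infer_instance
    exact SchBasic.quasiCompact_of_comp_surjective p.left Q.hom
  haveI : Etale Q.hom := by
    haveI : Flat (p.left ≫ Q.hom) := by rw [Over.w p]; infer_instance
    haveI : Flat Q.hom := H12.flat_of_comp_of_surjective p.left Q.hom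
    haveI : FormallyUnramified Q.hom := by
      rw [← Over.w m]
      haveI : IsOpenImmersion (Limits.pullback.diagonal m.left) := inferInstance
      haveI : FormallyUnramified m.left := inferInstance
      exact MorphismProperty.comp_mem @FormallyUnramified _ _ ‹_› inferInstance
    exact (Etale.iff_flat_and_formallyUnramified).mpr ⟨inferInstance, inferInstance, inferInstance⟩
  haveI : QuasiCompact p.left := by
    haveI : QuasiCompact (p.left ≫ Q.hom) := by rw [Over.w p]; infer_instance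
    exact QuasiCompact.of_comp p.left Q.hom
  have hcosetp : ∀ (T : Over S) (a b : T ⟶ N), a ≫ p = b ≫ p ↔ ∃ z : T ⟶ Z, a⁻¹ * b = z ≫ f' := fun T a b => by
    refine Iff.trans ?_ (hcoset T a b)
    rw [← hpm, ← Category.assoc a, ← Category.assoc b]
    exact (cancel_mono m).symm
  have hsq := isPullback_cosets f' p hcosetp
  obtain ⟨hgr, hpmon, -⟩ := GrpQuot20.exists_grpObj f' p (TorPts21.covFac_of_quasiCompact p.left) hsq.flip
    fun T a z => by
      obtain ⟨w, hw⟩ : ∃ w : T ⟶ Z, w ≫ j = (a * (z ≫ f') * a⁻¹) ≫ k := by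
        refine (hjp T _).2 fun X x y => ?_
        obtain ⟨y', hy'⟩ := ((hkp T (a ≫ k)).1 ⟨a, rfl⟩ X x y).2
        have h3 := (hjp T (z ≫ j)).1 ⟨z, rfl⟩ X x y'
        rw [← hy'] at h3
        simp only [MonObj.mul_comp, GrpObj.inv_comp, MonObj.comp_mul, GrpObj.comp_inv, Category.assoc, hf] at h3 ⊢
        exact commute_conj h3
      exact ⟨w, by rw [← cancel_mono k, ← hw, Category.assoc, hf]⟩
  exact ⟨Q, hgr, p, hpmon, ⟨hps, hpf, hpp, hsq⟩, inferInstance, inferInstance, inferInstance⟩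

end Groth.Agent.S16767
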