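import Groth.Statements.S16774
import Groth.Agent.Lib.CartanNhd21.Main
import Groth.Agent.Lib.TorPts21.ReductiveCartan
import Groth.Agent.Lib.TorPts21.MaximalTorusClosed
import Groth.Agent.Lib.AttrBorel21.CentreQuot
import Groth.Agent.Lib.CentMT21.Cartan
import Groth.Agent.Lib.CartanT21.Iso

set_option linter.style.haveILetI false
set_option maxHeartbeats 1600000
set_option backward.isDefEq.respectTransparency.types false
-- import your own Groth.Agent.* helpers here

set_option autoImplicit false
open CategoryTheory MonoidalCategory CartesianMonoidalCategory MonObj GrpObj AlgebraicGeometry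
universe u
open Red

namespace Groth.Agent.S16774

/-- Let G be a smooth affine group scheme with connected fibres over a scheme S, T ⊆ G a subtorus with
centralizer Z = Z_G(T) ⊇ T, and s ∈ S a point at which the geometric fibre of G is reductive and the
geometric fibre of T is a maximal torus. Then over some open neighbourhood U of s the inclusion T →
Z_G(T) is an isomorphism and T is a maximal torus of G. (The published statement allows disconnected
fibres and concerns identity components; here the fibres of G are connected.) -/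
theorem result {S : Scheme.{u}} {G T Z : Over S} [GrpObj G] [GrpObj T] [GrpObj Z]
    (hG : Smooth G.hom) (hGa : IsAffineHom G.hom) (hconn : ∀ s : S, _root_.IsConnected (G.hom.base ⁻¹' {s}))
    (i : T ⟶ G) [IsMonHom i] [Mono i] (hT : Red.IsTorus T) (z : Z ⟶ G) (hz : Red.IsCentralizerOf i z)
    (f : T ⟶ Z) (hf : f ≫ z = i) (s : S)
    (hs : Red.IsReductiveOver (AlgebraicClosure (S.residueField s)) (Red.geomFibre s G))
    (hTs : Red.IsMaximalTorus ((Over.pullback (Red.geomPt s)).map i)) :
    ∃ U : S.Opens, s ∈ U ∧ IsIso ((Over.pullback U.ι).map f) ∧ Red.IsMaximalTorus ((Over.pullback U.ι).map i) := by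
  haveI := hG
  haveI := hGa
  haveI : IsSeparated G.hom := inferInstance
  haveI : QuasiCompact G.hom := inferInstance
  obtain ⟨Z₁, _, j, hj, hjc, hjs⟩ :=
    TorusCentr19.exists_centralizer' (MTRigid29.isMT_of_ft (TorPts21.isMultTypeFT_of_isTorus hT)) hG i
  haveI := hz.1
  haveI := hz.2.1
  haveI := hj.2.1
  haveI := hjc
  haveI := hjs
  obtain ⟨a, ha⟩ := (hj.2.2 Z z).2 ((hz.2.2 Z z).1 ⟨𝟙 _, Category.id_comp _⟩)
  obtain ⟨b, hb⟩ := (hz.2.2 Z₁ j).2 ((hj.2.2 Z₁ j).1 ⟨𝟙 _, Category.id_comp _⟩)
  haveI : IsIso a := ⟨b, by rw [← cancel_mono z, Category.assoc, hb, ha, Category.id_comp], by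
    rw [← cancel_mono j, Category.assoc, ha, hb, Category.id_comp]⟩
  haveI : IsIso a.left := inferInstanceAs (IsIso ((Over.forget S).map a))
  haveI : IsClosedImmersion z.left := by rw [← ha, Over.comp_left]; infer_instance
  haveI : Smooth Z.hom := by rw [← Over.w a]; infer_instance
  haveI : IsSeparated Z.hom := by rw [← Over.w z]; infer_instance
  haveI : IsMonHom f := MTExt21.isMonHom_of_comp' z f (by rw [hf]; infer_instance)
  haveI : Mono (f ≫ z) := by rw [hf]; infer_instance
  haveI : Mono f := mono_of_mono f z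
  haveI : IsClosedImmersion f.left := by
    haveI : IsClosedImmersion i.left :=
      MTRigid29.isClosedImmersion_of_mono (TorPts21.isMultTypeFT_of_isTorus hT) hGa i
    haveI : IsClosedImmersion (f.left ≫ z.left) := by rw [← Over.comp_left, hf]; infer_instance
    exact IsClosedImmersion.of_comp f.left z.left
  haveI : Smooth T.hom := CartanT21.smooth_of_torus hT
  haveI : LocallyOfFinitePresentation f.left := by
    haveI : LocallyOfFinitePresentation (f.left ≫ Z.hom) := by rw [Over.w f]; infer_instance
    exact SchBasic.locallyOfFinitePresentation_of_comp f.left Z.hom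
  have hsU : s ∈ CartanNhd21.unitFlatLocus f := by
    refine CartanNhd21.mem_unitFlatLocus f ?_
    haveI := MTRigid29.isMonHom_map i (Red.geomPt s)
    obtain ⟨l, hl⟩ := TorPts21.exists_lift_cartan_reductive hs (TorPts21.isMaxTorus_of_isMaximalTorus hTs)
      (CartanRel21.isCentralizerOf_bc hz (Red.geomPt s))
    have h1 : (Over.pullback (Red.geomPt s)).map f ≫ (Over.pullback (Red.geomPt s)).map z =
        (Over.pullback (Red.geomPt s)).map i := by rw [← Functor.map_comp, hf]
    haveI : Mono ((Over.pullback (Red.geomPt s)).map i) := Functor.map_mono _ _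
    haveI : Mono ((Over.pullback (Red.geomPt s)).map z) := Functor.map_mono _ _
    refine ⟨l, ?_, ?_⟩
    · rw [← cancel_mono ((Over.pullback (Red.geomPt s)).map i), Category.assoc, hl, h1, Category.id_comp]
    · rw [← cancel_mono ((Over.pullback (Red.geomPt s)).map z), Category.assoc, h1, hl, Category.id_comp]
  let U : S.Opens := ⟨_, CartanNhd21.isOpen_unitFlatLocus f⟩
  have hiso : ∀ u : (U : Scheme.{u}), IsIso ((Over.pullback (Red.geomPt u)).map ((Over.pullback U.ι).map f)) := by
    intro u
    obtain ⟨t, a', ht, hk⟩ := MTExt21.exists_factor_geomPt (Red.geomPt u ≫ U.ι)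
    have htU : t ∈ CartanNhd21.unitFlatLocus f := by
      rw [ht]
      show U.ι (Red.geomPt u (IsLocalRing.closedPoint _)) ∈ _
      rw [CentMT21.geomPt_apply]
      exact u.2
    haveI := CartanNhd21.isIso_of_mem_unitFlatLocus f (CentMT21.connectedSpace_geomFibre Z
      (fun x => CentMT21.isConnected_fibre_centralizer hconn hT hz x) t) htU
    let φ := Spec.map (CommRingCat.ofHom a')
    have e1 := SpreadSub19.bcComp_natural (Red.geomPt t) φ hk.symm f
    have e2 := SpreadSub19.bcComp_natural U.ι (Red.geomPt u) rfl f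
    haveI : IsIso ((Over.pullback (Red.geomPt u ≫ U.ι)).map f) := by
      have : (Over.pullback (Red.geomPt u ≫ U.ι)).map f = (SpreadSub19.bcComp (Red.geomPt t) φ hk.symm T).inv ≫
          (Over.pullback φ).map ((Over.pullback (Red.geomPt t)).map f) ≫
          (SpreadSub19.bcComp (Red.geomPt t) φ hk.symm Z).hom := by
        rw [e1, Iso.inv_hom_id_assoc]
      rw [this]
      infer_instance
    have : (Over.pullback (Red.geomPt u)).map ((Over.pullback U.ι).map f) =
        (SpreadSub19.bcComp U.ι (Red.geomPt u) rfl T).hom ≫ (Over.pullback (Red.geomPt u ≫ U.ι)).map f ≫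
        (SpreadSub19.bcComp U.ι (Red.geomPt u) rfl Z).inv := by
      rw [← Category.assoc, ← e2, Category.assoc, Iso.hom_inv_id, Category.comp_id]
    rw [this]
    infer_instance
  haveI : Flat (Red.bc U.ι T).hom := inferInstanceAs (Flat (Limits.pullback.snd T.hom U.ι))
  haveI : LocallyOfFinitePresentation (Red.bc U.ι T).hom :=
    inferInstanceAs (LocallyOfFinitePresentation (Limits.pullback.snd T.hom U.ι))
  haveI : LocallyOfFiniteType (Red.bc U.ι Z).hom := inferInstanceAs (LocallyOfFiniteType (Limits.pullback.snd Z.hom U.ι))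
  haveI : Mono ((Over.pullback U.ι).map f) := Functor.map_mono _ _
  haveI hfU : IsIso ((Over.pullback U.ι).map f) := CartanT21.isIso_of_geom_fibres _ hiso
  haveI := MTRigid29.isMonHom_map i U.ι
  refine ⟨U, hsU, hfU, inferInstance, Functor.map_mono _ _, MTExt21.isTorus_bc hT _, fun u T' _ k _ _ g hT' hg => ?_⟩
  haveI := hiso u
  let P := Over.pullback (Red.geomPt u)
  have hzu := CartanRel21.isCentralizerOf_bc (CartanRel21.isCentralizerOf_bc hz U.ι) (Red.geomPt u)
  obtain ⟨l, hl⟩ := (hzu.2.2 T' k).2 fun X x h => by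
    rw [← hg, ← Category.assoc, ← MonObj.mul_comp, AttrBorel21.mul_comm_of_isTorus hT', MonObj.mul_comp]
  haveI : Mono (P.map ((Over.pullback U.ι).map z)) := Functor.map_mono _ _
  haveI : Mono (P.map ((Over.pullback U.ι).map f)) := Functor.map_mono _ _
  have hfz : P.map ((Over.pullback U.ι).map f) ≫ P.map ((Over.pullback U.ι).map z) =
      P.map ((Over.pullback U.ι).map i) := by rw [← Functor.map_comp, ← Functor.map_comp, hf]
  refine ⟨l ≫ inv (P.map ((Over.pullback U.ι).map f)), ?_, ?_⟩
  · rw [← cancel_mono (P.map ((Over.pullback U.ι).map f)), ← cancel_mono (P.map ((Over.pullback U.ι).map z))]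
    simp only [Category.assoc, IsIso.inv_hom_id_assoc, Category.id_comp]
    rw [hl, hg, hfz]
  · rw [← cancel_mono k]
    simp only [Category.assoc, Category.id_comp]
    rw [hg, ← hfz, IsIso.inv_hom_id_assoc, hl]

end Groth.Agent.S16774
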