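import Groth.Statements.S16775
import Groth.Agent.Lib.MTExt29.InGroup
import Groth.Agent.Lib.Quot16.Local
-- import your own Groth.Agent.* helpers here

set_option autoImplicit false
open CategoryTheory MonoidalCategory CartesianMonoidalCategory MonObj GrpObj AlgebraicGeometry
universe u
open SGA3x

namespace Groth.Agent.S16775

/-- Let G be a smooth affine group scheme with connected fibres over a scheme S, H ⊆ G a normal subgroup
scheme of multiplicative type (of finite type), G → Q = G/H the quotient, and H' ⊆ Q a central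
subgroup scheme of multiplicative type (of finite type). Then the preimage of H' in G is a central
subgroup scheme of G of multiplicative type. -/
theorem result {S : Scheme.{u}} {G H Q H' P : Over S}
    [GrpObj G] [GrpObj H] [GrpObj Q] [GrpObj H'] [GrpObj P]
    (hG : Smooth G.hom) (hGa : IsAffineHom G.hom) (hconn : ∀ s : S, _root_.IsConnected (G.hom.base ⁻¹' {s}))
    (i : H ⟶ G) [IsMonHom i] [Mono i] (hH : SGA3x.IsMultTypeFT H) (hHn : AlgGrp.IsNormalHom i)
    (q : G ⟶ Q) [IsMonHom q] (hq : RedSub.IsQuotient i q) (hker : AlgGrp.IsKernel i q)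
    (j : H' ⟶ Q) [IsMonHom j] [Mono j] (hH' : SGA3x.IsMultTypeFT H')
    (hcenH' : ∀ (X : Over S) (x : X ⟶ H') (g : X ⟶ Q), (x ≫ j) * g = g * (x ≫ j))
    (i' : P ⟶ G) [IsMonHom i'] (p : P ⟶ H') (hP : IsPullback i' p q j) :
    SGA3x.IsMultTypeFT P ∧ ∀ (X : Over S) (x : X ⟶ P) (g : X ⟶ G), (x ≫ i') * g = g * (x ≫ i') := by
  haveI : Mono i' := hP.mono_fst_of_mono
  haveI : IsMonHom p := by
    have hw : p ≫ j = i' ≫ q := hP.w.symm
    exact ⟨(cancel_mono j).1 (by rw [Category.assoc, hw, IsMonHom.one_hom_assoc, IsMonHom.one_hom, IsMonHom.one_hom]),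
      (cancel_mono j).1 (by simp [IsMonHom.mul_hom, hw])⟩
  obtain ⟨hqs, hqf, hqp, hqH⟩ := hq
  haveI : IsAffineHom q.left := by
    haveI : MorphismProperty.DescendsAlong @IsAffineHom.{u} (@Surjective ⊓ @Flat ⊓ @LocallyOfFinitePresentation) :=
      Quot16.descendsAlong_isAffineHom_fppf
    refine MorphismProperty.of_isPullback_of_descendsAlong (P := @IsAffineHom)
      (Q := @Surjective ⊓ @Flat ⊓ @LocallyOfFinitePresentation) ((hqH).map (Over.forget _)) ⟨⟨hqs, hqf⟩, hqp⟩ ?_
    exact MorphismProperty.pullback_fst (P := @IsAffineHom) G.hom H.hom (MTRigid29.isAffineHom_of_isMultTypeFT hH)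
  have hPl := hP.map (Over.forget _)
  haveI : IsAffineHom p.left := MorphismProperty.of_isPullback (P := @IsAffineHom) hPl ‹IsAffineHom q.left›
  haveI : Flat p.left := MorphismProperty.of_isPullback (P := @Flat) hPl hqf
  haveI : Surjective p.left := MorphismProperty.of_isPullback (P := @Surjective) hPl hqs
  have hiq : i ≫ q = toUnit H ≫ η[H'] ≫ j := by rw [IsMonHom.one_hom]; exact hker.w
  let m : H ⟶ P := hP.lift i (toUnit H ≫ η[H']) (by rw [hiq, Category.assoc])
  have hm : m ≫ i' = i := hP.lift_fst _ _ _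
  haveI : IsMonHom m := ⟨(cancel_mono i').1 (by rw [Category.assoc, hm, IsMonHom.one_hom, IsMonHom.one_hom]),
    (cancel_mono i').1 (by simp [IsMonHom.mul_hom, hm])⟩
  have hmp : AlgGrp.IsKernel m p :=
    IsPullback.of_right (by rw [hm, IsMonHom.one_hom]; exact hker) (hP.lift_snd _ _ _) hP
  have hPn : AlgGrp.IsNormalHom i' := fun T g x => by
    have h1 : (g * (x ≫ i') * g⁻¹) ≫ q = (x ≫ p) ≫ j := by
      rw [MonObj.mul_comp, MonObj.mul_comp, GrpObj.inv_comp, Category.assoc, hP.w, ← Category.assoc,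
        ← hcenH' T (x ≫ p) (g ≫ q), mul_inv_cancel_right]
    exact ⟨hP.lift _ _ h1, (hP.lift_fst _ _ _).symm⟩
  obtain ⟨hc, hMT⟩ := MTExt29.central_and_isMultTypeFT p m hmp i' hPn (hm.symm ▸ hHn) hH hH' hconn
  exact ⟨hMT, fun X x g => (hc X g x).symm⟩

end Groth.Agent.S16775
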