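import Groth.Statements.S1678
import Groth.Agent.Lib.RegImm26.Apps
-- import your own Groth.Agent.* helpers here

set_option autoImplicit false
universe u
open CategoryTheory CategoryTheory.Limits AlgebraicGeometry TopologicalSpace
open SDiv

namespace Groth.Agent.S1678

/-- Let X ⟶ S be smooth and let i : Y ⟶ X and j : Y ⟶ S be closed immersions with i ≫ (X ⟶ S) = j. If j
is a regular closed immersion then so is i. -/
theorem result {X Y S : Scheme.{u}} (p : X ⟶ S) [Smooth p] (i : Y ⟶ X) (j : Y ⟶ S)
    [IsClosedImmersion i] [IsClosedImmersion j] (h : i ≫ p = j) (hj : Mor2.IsRegularClosedImmersion j) :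
    Mor2.IsRegularClosedImmersion i := by
  obtain ⟨-, hjr⟩ := (Groth.Agent.RegImm26.regularClosedImmersion_iff j).1 hj
  haveI : Flat p := inferInstance
  haveI : IsClosedImmersion (Limits.pullback.snd j p) := inferInstance
  have hsnd : Mor2.IsRegularClosedImmersion (Limits.pullback.snd j p) :=
    (Groth.Agent.RegImm26.regularClosedImmersion_iff _).2 ⟨inferInstance,
      Groth.Agent.RegSeq26.isRegularImmersion_baseChange .regular j p _ _ (IsPullback.of_hasPullback j p) hjr⟩
  let s : Y ⟶ Limits.pullback j p := Limits.pullback.lift (𝟙 Y) i (by rw [Category.id_comp, h])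
  have hs1 : s ≫ Limits.pullback.fst j p = 𝟙 Y := Limits.pullback.lift_fst _ _ _
  have hs2 : s ≫ Limits.pullback.snd j p = i := Limits.pullback.lift_snd _ _ _
  haveI : IsClosedImmersion (s ≫ Limits.pullback.snd j p) := hs2.symm ▸ inferInstance
  haveI : IsClosedImmersion s := IsClosedImmersion.of_comp s (Limits.pullback.snd j p)
  haveI : Smooth (Limits.pullback.fst j p) := by infer_instance
  rw [← hs2]
  exact Groth.Agent.RegImm26.regularClosedImmersion_comp s _ (Groth.Agent.RegImm26.section_regular _ s hs1) hsnd

end Groth.Agent.S1678
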