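import Groth.Statements.S16785
import Groth.Agent.Lib.PureSmooth29.Transporter

set_option autoImplicit false
set_option backward.isDefEq.respectTransparency false
set_option backward.isDefEq.respectTransparency.types false
open CategoryTheory MonoidalCategory CartesianMonoidalCategory MonObj GrpObj AlgebraicGeometry
universe u
open SGA3x

namespace Groth.Agent.S16785

/-- Let G be an affine group scheme of finite presentation over a scheme S and Y ⊆ G a closed subscheme
of finite presentation, smooth over S with non-empty geometrically connected fibres. Then the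
centralizer of Y in G is representable by a closed subscheme of G. (The published statement asks
only that the fibres of Y be connected; this row asks them to be geometrically connected, the case
the printed argument treats.) -/
theorem result {S : Scheme.{u}} (G Y : Over S) [GrpObj G]
    (hGa : IsAffineHom G.hom) (hGfp : LocallyOfFinitePresentation G.hom)
    (y : Y ⟶ G) (hy : IsClosedImmersion y.left) (hYs : Smooth Y.hom) (hYfp : LocallyOfFinitePresentation Y.hom)
    (hYc : ∀ s : S, ConnectedSpace ↥(Red.geomFibre s Y).left) :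
    ∃ (C : Over S) (c : C ⟶ G), IsClosedImmersion c.left ∧
      ∀ (X : Over S) (g : X ⟶ G), (∃ z : X ⟶ C, z ≫ c = g) ↔
        ∀ (X' : Over S) (x : X' ⟶ X) (a : X' ⟶ Y), (x ≫ g) * (a ≫ y) = (a ≫ y) * (x ≫ g) := by
  haveI := hYs
  haveI := hGa
  haveI : IsClosedImmersion (η[G] : 𝟙_ (Over S) ⟶ G).left := by
    have : IsClosedImmersion ((η[G] : 𝟙_ (Over S) ⟶ G).left ≫ G.hom) := by
      rw [Over.w]; exact inferInstanceAs (IsClosedImmersion (𝟙 S))
    exact IsClosedImmersion.of_comp _ G.hom
  obtain ⟨C, c, hc, hrep, -⟩ := PureSmooth29.exists_closed_over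
    ((snd Y G) * (fst Y G ≫ y) * ((fst Y G ≫ y) * snd Y G)⁻¹) (η[G] : 𝟙_ (Over S) ⟶ G) hYc
  refine ⟨C, c, hc, fun X g => (hrep X g).trans ?_⟩
  have h1 : ∀ (X' : Over S) (a' : X' ⟶ 𝟙_ (Over S)), a' ≫ η[G] = (1 : X' ⟶ G) := fun X' a' => by
    rw [Hom.one_def, Subsingleton.elim a' (toUnit X')]
  simp only [MonObj.comp_mul, GrpObj.comp_inv, lift_snd, lift_fst_assoc, h1, mul_inv_eq_one]
  exact ⟨fun h X' x a => (h X' x a).choose_spec, fun h X' x a => ⟨toUnit _, h X' x a⟩⟩

end Groth.Agent.S16785
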