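import Groth.Statements.S16794
import Groth.Agent.Lib.PCurv29.Basic

set_option autoImplicit false
universe v u
open PCurv

namespace Groth.Agent.S16794

open TensorProduct in
/-- Let p be a prime number and B a commutative algebra of characteristic p over a commutative ring A
whose module Ω of Kähler differentials over A is free of rank one on a form ω; let θ₀ be the
A-derivation of B dual to ω (its B-linear functional Ω → B takes the value 1 on ω), and let ∇ be a
connection on a finite free B-module M. Then the p-curvature of ∇ vanishes identically — for every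
A-derivation θ of B and every derivation θ' that agrees with the p-fold iterate of θ, the
endomorphism (∇_θ)^p − ∇_{θ'} of M is zero — if and only if it vanishes for the single derivation
θ₀. -/
theorem result {A : Type v} {B M : Type u} [CommRing A] [CommRing B]
    [Algebra A B] (p : ℕ) [Fact p.Prime] [CharP B p]
    [AddCommGroup M] [Module B M] [Module A M] [IsScalarTower A B M] [Module.Finite B M] [Module.Free B M]
    (bΩ : Module.Basis (Fin 1) B (KaehlerDifferential A B)) (θ₀ : Derivation A B B)
    (hθ₀ : θ₀.liftKaehlerDifferential (bΩ 0) = 1)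
    (nabla : M →ₗ[A] M ⊗[B] KaehlerDifferential A B)
    (hc : Conn.IsConn (KaehlerDifferential.D A B) nabla) :
    (∀ θ θp : Derivation A B B, Conn.IsIterPow θ p θp → Conn.pCurv p nabla θ θp = 0) ↔
      (∀ θp : Derivation A B B, Conn.IsIterPow θ₀ p θp → Conn.pCurv p nabla θ₀ θp = 0) := by
  refine ⟨fun h θp hθp => h θ₀ θp hθp, fun h θ θp hθp => ?_⟩
  have hcov : ∀ L : KaehlerDifferential A B →ₗ[B] B, L = L (bΩ 0) • θ₀.liftKaehlerDifferential :=
    fun L => bΩ.ext fun i => by
      rw [Subsingleton.elim i 0, LinearMap.smul_apply, hθ₀, smul_eq_mul, mul_one]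
  obtain ⟨f, hf⟩ : ∃ f, θ.liftKaehlerDifferential = f • θ₀.liftKaehlerDifferential := ⟨_, hcov _⟩
  have hθ : ∀ b, θ b = f • θ₀ b := fun b => by
    rw [← Derivation.liftKaehlerDifferential_comp_D θ b, hf, LinearMap.smul_apply,
      Derivation.liftKaehlerDifferential_comp_D]
  let θ₀p : Derivation A B B := Groth.Agent.PCurv29.iterPow θ₀ p
  have h₀p : Conn.IsIterPow θ₀ p θ₀p := fun b => Groth.Agent.PCurv29.iterPow_apply θ₀ p b
  have h0 := h θ₀p h₀p
  let D : M →+ M := (Conn.alongDer nabla θ₀).toAddMonoidHom
  have hD : ∀ (b : B) (m : M), D (b • m) = θ₀ b • m + b • D m :=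
    Groth.Agent.PCurv29.alongDer_smul_leibniz nabla hc θ₀
  let c : B := Groth.Agent.PCurv29.cf θ₀ f p 1
  have hder : ∀ b, θp b = f ^ p * θ₀p b + c * θ₀ b := fun b => by
    rw [hθp, show (⇑θ : B → B) = (fun x => f • θ₀ x) from funext hθ, h₀p b]
    exact Groth.Agent.PCurv29.iterate_prime_smul p θ₀ f θ₀.toLinearMap.toAddMonoidHom
      (fun a x => by
        show θ₀ (a * x) = θ₀ a * x + a * θ₀ x
        rw [θ₀.leibniz, smul_eq_mul, smul_eq_mul, add_comm, mul_comm x]) b
  have hlift : θp.liftKaehlerDifferential =
      f ^ p • θ₀p.liftKaehlerDifferential + c • θ₀.liftKaehlerDifferential :=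
    Groth.Agent.PCurv29.lift_eq_of_eq _ _ fun b => by
      simp [hder, Derivation.liftKaehlerDifferential_comp_D]
  refine LinearMap.ext fun m => ?_
  have h0m : D^[p] m - Conn.alongDer nabla θ₀p m = 0 := by
    have := LinearMap.congr_fun h0 m
    simpa [Conn.pCurv, Module.End.pow_apply, D] using this
  have hfun : (⇑(Conn.alongDer nabla θ) : M → M) = fun x => f • D x := funext fun x => by
    show Conn.along nabla θ.liftKaehlerDifferential x = _
    rw [hf, Groth.Agent.PCurv29.along_smul]; rfl
  rw [Conn.pCurv, LinearMap.sub_apply, Module.End.pow_apply, hfun,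
    Groth.Agent.PCurv29.iterate_prime_smul p θ₀ f D hD, LinearMap.zero_apply]
  show _ - Conn.along nabla θp.liftKaehlerDifferential m = 0
  rw [hlift, Groth.Agent.PCurv29.along_add, Groth.Agent.PCurv29.along_smul,
    Groth.Agent.PCurv29.along_smul, sub_eq_zero.mp h0m]
  exact sub_self _

end Groth.Agent.S16794
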