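import Groth.Statements.S16796
import Groth.Agent.Lib.LogConnH7.Basic

set_option autoImplicit false
universe v u
open LogConn

namespace Groth.Agent.S16796

open TensorProduct in
/-- Let B be a commutative algebra over a commutative ring A, λ ∈ B, and t₁, …, tₙ ∈ B elements whose
differentials dt₁, …, dtₙ form a basis of the Kähler differentials Ω of B over A; let L be a
B-module free on ω₁, …, ωₙ with a B-linear ι : Ω → L sending dtᵢ to tᵢ ωᵢ (ωᵢ playing the role of
dlog tᵢ), and E a B-module with an A-linear ∇ : E → E ⊗ L obeying the λ-twisted Leibniz rule ∇(b e)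
= b ∇e + λ e ⊗ ι(db); write ∇ᵢ for the components of ∇ in the basis ω, ∇_J for their composite over
a finite index set J in increasing order, and E_I = Σ_{J ⊆ I} (∏_{i ∈ I∖J} tᵢ) · ∇_J(E) (an
A-submodule of E) for a finite index set I. For each degree p let R^p ⊆ E ⊗ Λ^p L be the B-span of
the elements ∇_I(e) ⊗ (ω_{i₁} ∧ ⋯ ∧ ω_{i_l} ∧ ι(η₁) ∧ ⋯ ∧ ι(η_{p−l})) with I = {i₁ < ⋯ < i_l}, l ≤
p, e ∈ E, ηⱼ ∈ Ω (the degree-p part of the graded submodule generated by the ∇_I(e) ⊗ ω_I under
multiplication by forms from Ω). Then R^p is the set of elements of E ⊗ Λ^p L whose coordinate along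
ω_K = ω_{k₁} ∧ ⋯ ∧ ω_{k_p} lies in E_K for every set K of p indices; in other words R^p = ⊕_{|K| =
p} E_K ⊗ ω_K. (Flatness of ∇ is not used.) -/
theorem result {A : Type v} {B L E : Type u} [CommRing A] [CommRing B]
    [Algebra A B] [AddCommGroup L] [Module B L] [Module A L] [IsScalarTower A B L]
    [AddCommGroup E] [Module B E] [Module A E] [IsScalarTower A B E]
    (lam : B) {n : ℕ} (t : Fin n → B) (bΩ : Module.Basis (Fin n) B (KaehlerDifferential A B))
    (hbΩ : ∀ i, bΩ i = KaehlerDifferential.D A B (t i))
    (ω : Module.Basis (Fin n) B L) (ι : KaehlerDifferential A B →ₗ[B] L)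
    (hι : ∀ i, ι (KaehlerDifferential.D A B (t i)) = t i • ω i)
    (nabla : E →ₗ[A] E ⊗[B] L)
    (hc : Conn.IsLamConn (ι.compDer (KaehlerDifferential.D A B)) lam nabla)
    (p : ℕ) :
    (Submodule.span B (LogConn.gens nabla ω ι p)).restrictScalars A = LogConn.layer nabla ω t p := by
  classical
  have hG : Submodule.span B (Set.univ : Set E) = ⊤ := by simp
  have hmem : ∀ (K : Finset (Fin n)), LogConn.piece nabla ω t K = (Groth.Agent.LogConnH7.spanPiece t ω nabla Set.univ K).restrictScalars A :=
    fun K => Groth.Agent.LogConnH7.piece_eq hbΩ hι hc hG K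
  have hdec : ∀ x : E ⊗[B] ↥(⋀[B]^p L), x = ∑ K : Set.powersetCard (Fin n) p, LogConn.coordE ω p K x ⊗ₜ[B] (ω.exteriorPower p K) := by
    intro x
    induction x using TensorProduct.induction_on with
    | zero => simp
    | add a b ha hb =>
      conv_lhs => rw [ha, hb]
      rw [← Finset.sum_add_distrib]
      exact Finset.sum_congr rfl fun K _ => by rw [map_add, TensorProduct.add_tmul]
    | tmul e η =>
      conv_lhs => rw [← (ω.exteriorPower p).sum_repr η, TensorProduct.tmul_sum]
      exact Finset.sum_congr rfl fun K _ => by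
        simp [LogConn.coordE, TensorProduct.smul_tmul]
  apply le_antisymm
  · rw [LogConn.layer]
    refine le_iInf fun K x hx => ?_
    show LogConn.coordE ω p K x ∈ LogConn.piece nabla ω t (K : Finset (Fin n))
    rw [hmem, Submodule.restrictScalars_mem]
    rw [Submodule.restrictScalars_mem] at hx
    revert x
    show Submodule.span B (LogConn.gens nabla ω ι p) ≤ (Groth.Agent.LogConnH7.spanPiece t ω nabla Set.univ (K : Finset (Fin n))).comap (LogConn.coordE ω p K)
    rw [Submodule.span_le]
    rintro x ⟨I, hI, e, v, hv1, hv2, rfl⟩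
    show LogConn.coordE ω p K (LogConn.compProd nabla ω I e ⊗ₜ[B] exteriorPower.ιMulti B p v) ∈ Groth.Agent.LogConnH7.spanPiece t ω nabla Set.univ (K : Finset (Fin n))
    have hcoord : LogConn.coordE ω p K (LogConn.compProd nabla ω I e ⊗ₜ[B] exteriorPower.ιMulti B p v) =
        ((ω.exteriorPower p).coord K (exteriorPower.ιMulti B p v)) • LogConn.compProd nabla ω I e := by
      simp [LogConn.coordE]
    rw [hcoord, exteriorPower.basis_coord, exteriorPower.ιMultiDual_apply_ιMulti, Matrix.det_apply, Finset.sum_smul]
    refine Submodule.sum_mem _ fun σ _ => ?_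
    rw [smul_assoc]
    refine Submodule.smul_of_tower_mem _ _ ?_
    -- row `σ x` is paired with the `x`-th element of `K`
    set kk : Fin p ↪o Fin n := Set.powersetCard.ofFinEmbEquiv.symm K with hkk
    simp only [Matrix.of_apply]
    by_cases hzero : ∃ c : Fin p, (σ c).val < I.card ∧ kk c ∉ I
    · obtain ⟨c, hc1, hc2⟩ := hzero
      rw [Finset.prod_eq_zero (Finset.mem_univ c), zero_smul]
      · exact Submodule.zero_mem _
      · rw [hv1 (σ c) hc1, Module.Basis.coord_apply, Module.Basis.repr_self, Finsupp.single_eq_of_ne]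
        intro h
        exact hc2 (by rw [h]; exact Finset.orderEmbOfFin_mem I rfl _)
    · push Not at hzero
      set S : Finset (Fin p) := Finset.univ.filter fun c => (σ c).val < I.card with hS
      have hScard : S.card = I.card := by
        have : S = (Finset.univ.filter fun r : Fin p => r.val < I.card).map σ.symm.toEmbedding := by
          ext c; simp [hS]
        rw [this, Finset.card_map]
        have : (Finset.univ.filter fun r : Fin p => r.val < I.card) = (Finset.univ : Finset (Fin I.card)).map (Fin.castLEEmb hI) := by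
          ext r
          constructor
          · intro hr
            exact Finset.mem_map.2 ⟨⟨r.val, (Finset.mem_filter.1 hr).2⟩, Finset.mem_univ _, rfl⟩
          · intro hr
            obtain ⟨a, -, rfl⟩ := Finset.mem_map.1 hr
            simp
        rw [this, Finset.card_map, Finset.card_univ, Fintype.card_fin]
      have himg : S.map kk.toEmbedding = I := Finset.eq_of_subset_of_card_le
        (fun a ha => by
          obtain ⟨c, hc, rfl⟩ := Finset.mem_map.1 ha
          exact hzero c (Finset.mem_filter.1 hc).2) (by rw [Finset.card_map, hScard])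
      have hK : (K : Finset (Fin n)) = (Finset.univ : Finset (Fin p)).map kk.toEmbedding := by
        ext a
        rw [Finset.mem_map]
        simp only [Finset.mem_univ, true_and]
        exact (Set.powersetCard.mem_range_ofFinEmbEquiv_symm_iff_mem K a).symm
      have hIK : I ⊆ (K : Finset (Fin n)) := by
        rw [hK, ← himg]; exact Finset.map_subset_map.2 (Finset.subset_univ _)
      have hKI : (K : Finset (Fin n)) \ I = (Finset.univ \ S).map kk.toEmbedding := by
        rw [Finset.map_sdiff, hK, himg]
      choose η hη using fun (c : Fin p) (hc : I.card ≤ (σ c).val) => hv2 (σ c) hc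
      have hsplit : ∏ c, ω.coord (kk c) (v (σ c)) = (∏ c ∈ Finset.univ \ S, ω.coord (kk c) (v (σ c))) * ∏ c ∈ S, ω.coord (kk c) (v (σ c)) :=
        (Finset.prod_sdiff (Finset.subset_univ S)).symm
      obtain ⟨b, hb⟩ : ∃ b, ∏ c ∈ Finset.univ \ S, ω.coord (kk c) (v (σ c)) = b * ∏ i ∈ (K : Finset (Fin n)) \ I, t i := by
        rw [hKI, Finset.prod_map]
        obtain ⟨b, hb⟩ : (∏ c ∈ Finset.univ \ S, t (kk.toEmbedding c)) ∣ ∏ c ∈ Finset.univ \ S, ω.coord (kk c) (v (σ c)) := by
          refine Finset.prod_dvd_prod_of_dvd _ _ fun c hc => ?_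
          have hc' : I.card ≤ (σ c).val := by
            by_contra hlt
            exact (Finset.mem_sdiff.1 hc).2 (Finset.mem_filter.2 ⟨Finset.mem_univ _, not_le.1 hlt⟩)
          rw [← hη c hc', Groth.Agent.LogConnH7.coord_iota hbΩ hι]
          exact dvd_mul_right _ _
        exact ⟨b, by rw [hb]; ring⟩
      rw [hsplit, hb, show b * (∏ i ∈ (K : Finset (Fin n)) \ I, t i) * (∏ c ∈ S, ω.coord (kk c) (v (σ c))) =
        ((∏ c ∈ S, ω.coord (kk c) (v (σ c))) * b) * ∏ i ∈ (K : Finset (Fin n)) \ I, t i by ring, mul_smul]
      exact Submodule.smul_mem _ _ (Groth.Agent.LogConnH7.mem_spanPiece hIK (Set.mem_univ e))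
  · intro x hx
    rw [Submodule.restrictScalars_mem, hdec x]
    refine Submodule.sum_mem _ fun K _ => ?_
    have hxK : LogConn.coordE ω p K x ∈ LogConn.piece nabla ω t (K : Finset (Fin n)) := by
      rw [LogConn.layer, Submodule.mem_iInf] at hx
      exact hx K
    rw [hmem, Submodule.restrictScalars_mem] at hxK
    have hle : Groth.Agent.LogConnH7.spanPiece t ω nabla Set.univ (K : Finset (Fin n)) ≤
        (Submodule.span B (LogConn.gens nabla ω ι p)).comap
          ((TensorProduct.mk B E ↥(⋀[B]^p L)).flip (ω.exteriorPower p K)) := by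
      refine Submodule.span_le.2 fun y hy => ?_
      obtain ⟨J, hJ, e, -, rfl⟩ := Set.mem_iUnion₂.1 hy
      rw [Finset.mem_powerset] at hJ
      show ((∏ i ∈ (K : Finset (Fin n)) \ J, t i) • LogConn.compProd nabla ω J e) ⊗ₜ[B] (ω.exteriorPower p K) ∈ Submodule.span B (LogConn.gens nabla ω ι p)
      have hKc : (K : Finset (Fin n)).card = p := Set.powersetCard.mem_iff.1 K.2
      have hJp : J.card ≤ p := hKc ▸ Finset.card_le_card hJ
      have hdc : ((K : Finset (Fin n)) \ J).card = p - J.card := by rw [Finset.card_sdiff_of_subset hJ, hKc]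
      let σf : Fin p → Fin n := fun r => if h : r.val < J.card then J.orderEmbOfFin rfl ⟨r.val, h⟩
        else ((K : Finset (Fin n)) \ J).orderEmbOfFin hdc ⟨r.val - J.card, by omega⟩
      have hσi : Function.Injective σf := by
        intro a b hab
        simp only [σf] at hab
        split at hab <;> split at hab
        · exact Fin.ext (by simpa using congrArg Fin.val ((J.orderEmbOfFin rfl).injective hab))
        · exfalso
          have := Finset.orderEmbOfFin_mem ((K : Finset (Fin n)) \ J) hdc ⟨b.val - J.card, by omega⟩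
          rw [← hab] at this
          exact (Finset.mem_sdiff.1 this).2 (Finset.orderEmbOfFin_mem J rfl _)
        · exfalso
          have := Finset.orderEmbOfFin_mem ((K : Finset (Fin n)) \ J) hdc ⟨a.val - J.card, by omega⟩
          rw [hab] at this
          exact (Finset.mem_sdiff.1 this).2 (Finset.orderEmbOfFin_mem J rfl _)
        · have := congrArg Fin.val ((((K : Finset (Fin n)) \ J).orderEmbOfFin hdc).injective hab)
          simp only at this
          exact Fin.ext (by omega)
      have hσm : ∀ r, σf r ∈ (K : Finset (Fin n)) := by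
        intro r; simp only [σf]; split
        · exact hJ (Finset.orderEmbOfFin_mem _ _ _)
        · exact (Finset.mem_sdiff.1 (Finset.orderEmbOfFin_mem _ _ _)).1
      set kk : Fin p ↪o Fin n := Set.powersetCard.ofFinEmbEquiv.symm K with hkk
      have hmem' : ∀ r, ∃ c, kk c = σf r := fun r =>
        (Set.powersetCard.mem_range_ofFinEmbEquiv_symm_iff_mem K (σf r)).2 (hσm r)
      choose τ hτ using hmem'
      have hτb : Function.Bijective τ := Finite.injective_iff_bijective.1 fun a b h => hσi (by rw [← hτ a, ← hτ b, h])
      have hperm : exteriorPower.ιMulti B p (fun r => ω (σf r)) =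
          (Equiv.Perm.sign (Equiv.ofBijective τ hτb)) • (ω.exteriorPower p K) := by
        rw [exteriorPower.basis_apply, exteriorPower.ιMulti_family, ← AlternatingMap.map_perm]
        congr 1
        funext r
        show _ = ω (kk (τ r))
        rw [hτ]
      let cc : Fin p → B := fun r => if r.val < J.card then 1 else t (σf r)
      have hccp : ∏ r, cc r = ∏ i ∈ (K : Finset (Fin n)) \ J, t i := by
        simp only [cc]
        rw [Finset.prod_ite]
        simp only [Finset.prod_const_one, one_mul, not_lt]
        refine Finset.prod_bij (fun r _ => σf r) (fun r hr => ?_) (fun a _ b _ h => hσi h) (fun i hi => ?_) (fun r _ => rfl)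
        · have h := (Finset.mem_filter.1 hr).2
          simp only [σf, dif_neg (not_lt.2 h)]
          exact Finset.orderEmbOfFin_mem _ _ _
        · have hir : i ∈ Set.range (((K : Finset (Fin n)) \ J).orderEmbOfFin hdc) := by
            rw [Finset.range_orderEmbOfFin]; exact hi
          obtain ⟨a, ha⟩ := hir
          refine ⟨⟨a.val + J.card, by omega⟩, Finset.mem_filter.2 ⟨Finset.mem_univ _, Nat.le_add_left _ _⟩, ?_⟩
          simp only [σf, dif_neg (show ¬ (a.val + J.card < J.card) by omega)]
          rw [← ha]; congr 1; exact Fin.ext (Nat.add_sub_cancel _ _)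
      have hgen : LogConn.compProd nabla ω J e ⊗ₜ[B] exteriorPower.ιMulti B p (fun r => cc r • ω (σf r)) ∈
          Submodule.span B (LogConn.gens nabla ω ι p) := by
        refine Submodule.subset_span ⟨J, hJp, e, _, fun r hr => ?_, fun r hr => ?_, rfl⟩
        · simp only [cc, σf, if_pos hr, dif_pos hr, one_smul]
        · simp only [cc, if_neg (not_lt.2 hr)]
          exact ⟨KaehlerDifferential.D A B (t (σf r)), hι _⟩
      rw [AlternatingMap.map_smul_univ, hccp, hperm, TensorProduct.tmul_smul] at hgen
      rw [TensorProduct.smul_tmul']at hgen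
      rcases Int.units_eq_one_or (Equiv.Perm.sign (Equiv.ofBijective τ hτb)) with h | h <;>
        rw [h] at hgen
      · rwa [one_smul] at hgen
      · rw [Units.neg_smul, one_smul, TensorProduct.tmul_neg] at hgen
        exact neg_mem_iff.1 hgen
    exact hle hxK

end Groth.Agent.S16796
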