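import Groth.Statements.S16798
import Groth.Agent.Lib.LogConnH7.Integrable
import Mathlib.Tactic.LinearCombination

set_option autoImplicit false
universe v u
open LogConn

namespace Groth.Agent.S16798

open TensorProduct in
/-- Let B be a commutative algebra over a commutative ring A, λ ∈ B, and t₁, …, tₙ ∈ B elements whose
differentials dt₁, …, dtₙ form a basis of the Kähler differentials Ω of B over A; let L be a
B-module free on ω₁, …, ωₙ with a B-linear ι : Ω → L sending dtᵢ to tᵢ ωᵢ (ωᵢ playing the role of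
dlog tᵢ), and E a B-module with an A-linear ∇ : E → E ⊗ L obeying the λ-twisted Leibniz rule ∇(b e)
= b ∇e + λ e ⊗ ι(db); write ∇ᵢ for the components of ∇ in the basis ω, ∇_J for their composite over
a finite index set J in increasing order, and E_I = Σ_{J ⊆ I} (∏_{i ∈ I∖J} tᵢ) · ∇_J(E) (an
A-submodule of E) for a finite index set I. Assume ∇ flat: for the logarithmic de Rham differential
d on the exterior powers of L (pinned on generators by d(b₀ · e₁ ∧ ⋯ ∧ e_p) = ι(db₀) ∧ e₁ ∧ ⋯ ∧ e_p,
factors eⱼ of the form ι(db) or ωᵢ) and the λ-twisted extension ∇^• of ∇ (∇^p(e ⊗ η) = ∇(e) ∧ η + e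
⊗ λ dη) one has ∇¹ ∘ ∇ = 0. Let u₁, …, uₙ be units of B such that the elements t'ᵢ = uᵢ tᵢ again
have differentials forming a basis of Ω, and such that the elements ω'ᵢ = ωᵢ + uᵢ⁻¹ ι(duᵢ) again
form a basis of L (a second admissible coordinate system with the same branches, ω'ᵢ playing the
role of dlog t'ᵢ). Then for every p the layer ⊕_{|K| = p} E_K ⊗ ω_K formed with the coordinates t,
the basis ω and the components of ∇ in ω coincides with the layer formed with t', ω' and the
components of ∇ in ω'. (The published statement also allows a permutation of the indices.) -/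
theorem result {A : Type v} {B L E : Type u} [CommRing A] [CommRing B]
    [Algebra A B] [AddCommGroup L] [Module B L] [Module A L] [IsScalarTower A B L]
    [AddCommGroup E] [Module B E] [Module A E] [IsScalarTower A B E]
    (lam : B) {n : ℕ} (t : Fin n → B) (bΩ : Module.Basis (Fin n) B (KaehlerDifferential A B))
    (hbΩ : ∀ i, bΩ i = KaehlerDifferential.D A B (t i))
    (ω : Module.Basis (Fin n) B L) (ι : KaehlerDifferential A B →ₗ[B] L)
    (hι : ∀ i, ι (KaehlerDifferential.D A B (t i)) = t i • ω i)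
    (nabla : E →ₗ[A] E ⊗[B] L)
    (hc : Conn.IsLamConn (ι.compDer (KaehlerDifferential.D A B)) lam nabla)
    (d : ∀ p : ℕ, ↥(⋀[B]^p L) →ₗ[A] ↥(⋀[B]^(p + 1) L))
    (hd : LogDiff.IsLogRule (KaehlerDifferential.D A B) ι (⇑ω) d)
    (nablas : ∀ p : ℕ, E ⊗[B] ↥(⋀[B]^p L) →ₗ[A] E ⊗[B] ↥(⋀[B]^(p + 1) L))
    (hint : Conn.IsIntegrable nabla (fun p => lam • d p) nablas)
    (u : Fin n → Bˣ) (bΩ' : Module.Basis (Fin n) B (KaehlerDifferential A B))
    (hbΩ' : ∀ i, bΩ' i = KaehlerDifferential.D A B ((u i : B) * t i))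
    (ω' : Module.Basis (Fin n) B L)
    (hω' : ∀ i, ω' i = ω i + ((u i)⁻¹ : Bˣ).val • ι (KaehlerDifferential.D A B (u i : B)))
    (p : ℕ) :
    LogConn.layer nabla ω t p = LogConn.layer nabla ω' (fun i => (u i : B) * t i) p := by
  have hι' : ∀ i, ι (KaehlerDifferential.D A B ((u i : B) * t i)) = ((u i : B) * t i) • ω' i := by
    intro i
    rw [Derivation.leibniz, map_add, map_smul, map_smul, hι, smul_smul, hω', smul_add, smul_smul]
    congr 2
    rw [mul_comm (u i : B) (t i), mul_assoc, Units.mul_inv, mul_one]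
  have hd' : ∀ j, d 1 (exteriorPower.ιMulti B 1 (fun _ => ω' j)) = 0 := fun j => by
    rw [hω']; exact Groth.Agent.LogConnH7.d_omega_change hd j (u j)
  have hcomm := Groth.Agent.LogConnH7.comp_comm
    (fun j => Groth.Agent.LogConnH7.d_omega hd 1 fun _ => j) hint
  have hcomm' := Groth.Agent.LogConnH7.comp_comm hd' hint
  have h1 : ∀ i j, ∃ b, ω'.coord i (ω j) = (if j = i then 1 else 0) + t i * b := fun i j =>
    ⟨-(((u j)⁻¹ : Bˣ).val * (u i : B) * bΩ'.coord i (KaehlerDifferential.D A B (u j : B))), by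
      rw [eq_sub_of_add_eq (hω' j).symm, map_sub, map_smul,
        Groth.Agent.LogConnH7.coord_iota hbΩ' hι', smul_eq_mul]
      simp only [Module.Basis.coord_apply, Module.Basis.repr_self, Finsupp.single_apply]
      ring⟩
  have h2 : ∀ i j, ∃ b, ω.coord i (ω' j) = (if j = i then 1 else 0) + ((u i : B) * t i) * b := fun i j =>
    ⟨((u j)⁻¹ : Bˣ).val * ((u i)⁻¹ : Bˣ).val * bΩ.coord i (KaehlerDifferential.D A B (u j : B)), by
      rw [hω' j, map_add, map_smul, Groth.Agent.LogConnH7.coord_iota hbΩ hι, smul_eq_mul]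
      simp only [Module.Basis.coord_apply, Module.Basis.repr_self, Finsupp.single_apply]
      linear_combination (-(((u j)⁻¹ : Bˣ).val) * t i * bΩ.repr (KaehlerDifferential.D A B (u j : B)) i) * (u i).mul_inv⟩
  have hpiece : ∀ K, LogConn.piece nabla ω t K = LogConn.piece nabla ω' (fun i => (u i : B) * t i) K := fun K =>
    le_antisymm
      (Groth.Agent.LogConnH7.piece_coord_le hbΩ' hι' hc hcomm' ω t
        (fun i => ⟨((u i)⁻¹ : Bˣ).val, by rw [← mul_assoc, Units.inv_mul, one_mul]⟩) h2 K)
      (Groth.Agent.LogConnH7.piece_coord_le hbΩ hι hc hcomm ω' _ (fun i => ⟨(u i : B), rfl⟩) h1 K)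
  exact le_antisymm (Groth.Agent.LogConnH7.layer_coord_le hbΩ hι hc hcomm ω' _ hpiece h1 p)
    (Groth.Agent.LogConnH7.layer_coord_le hbΩ' hι' hc hcomm' ω t (fun K => (hpiece K).symm) h2 p)

end Groth.Agent.S16798
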