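import Groth.Statements.S16805
import Groth.Agent.Lib.ResGerb16.Basic

set_option autoImplicit false
universe u
open CategoryTheory AlgebraicGeometry
open Gerb

set_option backward.isDefEq.respectTransparency false
set_option backward.isDefEq.respectTransparency.types false

namespace Groth.Agent.S16805

/-- For an algebraic stack 𝒵 the following are equivalent: 𝒵 is reduced with exactly one point; 𝒵
receives a surjective flat morphism from the spectrum of a field; 𝒵 receives a locally of finite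
type, surjective, flat morphism from the spectrum of a field. -/
theorem result
    (S : Scheme.{u}) (𝒵 : AlgSt.Cat S) (h𝒵 : AlgSt.IsAlgStack Scheme.fppfPrecoverage 𝒵) :
    [AlgSt.SmoothLocally (fun T => IsReduced T) 𝒵 ∧ Nonempty (AlgSt.Points 𝒵) ∧ Subsingleton (AlgSt.Points 𝒵),
      ∃ (k : Type u) (_ : Field k) (a : Spec (CommRingCat.of k) ⟶ S)
        (z : FibCat.overCat (Over.mk a) ⥤ᵇ 𝒵), AlgSt.RepByAlgSpWith AlgSp.IsSurjectiveMor z ∧ AlgSt.RepByAlgSpWith (AlgSp.LocP @Flat) z,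
      ∃ (k : Type u) (_ : Field k) (a : Spec (CommRingCat.of k) ⟶ S)
        (z : FibCat.overCat (Over.mk a) ⥤ᵇ 𝒵), AlgSt.RepByAlgSpWith (AlgSp.LocP @LocallyOfFiniteType) z ∧
          AlgSt.RepByAlgSpWith AlgSp.IsSurjectiveMor z ∧ AlgSt.RepByAlgSpWith (AlgSp.LocP @Flat) z].TFAE := by
  tfae_have 1 → 3 := fun ⟨h₁, h₂, h₃⟩ => by
    obtain ⟨K, hK, b, z, hz, -⟩ := Groth.Agent.ResGerb16.exists_lft_pt h𝒵
    exact ⟨K, hK, b, z, hz, Groth.Agent.ResGerb16.with_surjective_pt h𝒵 z, Groth.Agent.ResGerb16.with_flat_pt h𝒵 h₁ z⟩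
  tfae_have 3 → 2 := fun ⟨K, hK, b, z, _, h₂, h₃⟩ => ⟨K, hK, b, z, h₂, h₃⟩
  tfae_have 2 → 1 := fun ⟨K, hK, b, z, h₂, h₃⟩ =>
    ⟨Groth.Agent.ResGerb16.smoothLocally_isReduced h𝒵 z h₂ h₃, Groth.Agent.ResGerb16.singleton_points h𝒵 z h₂⟩
  tfae_finish

end Groth.Agent.S16805
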