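import Groth.Statements.S16808
import Groth.Agent.Lib.ResGerb16.Existence

set_option autoImplicit false
universe u
open CategoryTheory AlgebraicGeometry
open Gerb

set_option backward.isDefEq.respectTransparency false
set_option backward.isDefEq.respectTransparency.types false

namespace Groth.Agent.S16808

/-- Let the algebraic stack 𝒵 receive a surjective flat morphism from the spectrum of a field. Then
there is a unique strictly full subcategory of 𝒵 which is an algebraic stack receiving a locally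
finitely presented, surjective, flat morphism from the spectrum of a field; its inclusion into 𝒵 is
a monomorphism. -/
theorem result
    (S : Scheme.{u}) (𝒵 : AlgSt.Cat S) (h𝒵 : AlgSt.IsAlgStack Scheme.fppfPrecoverage 𝒵)
    (k : Type u) [Field k] (a : Spec (CommRingCat.of k) ⟶ S)
    (z : FibCat.overCat (Over.mk a) ⥤ᵇ 𝒵)
    (hzs : AlgSt.RepByAlgSpWith AlgSp.IsSurjectiveMor z) (hzf : AlgSt.RepByAlgSpWith (AlgSp.LocP @Flat) z) :
    ∃ Q : 𝒵.obj → Prop,
      (ObjectProperty.IsClosedUnderIsomorphisms Q ∧ AlgSt.IsAlgStack Scheme.fppfPrecoverage (AlgSt.fullSub 𝒵 Q) ∧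
        (∃ (k' : Type u) (_ : Field k') (a' : Spec (CommRingCat.of k') ⟶ S)
          (z' : FibCat.overCat (Over.mk a') ⥤ᵇ AlgSt.fullSub 𝒵 Q),
          AlgSt.RepByAlgSpWith (AlgSp.LocP @LocallyOfFinitePresentation) z' ∧
            AlgSt.RepByAlgSpWith AlgSp.IsSurjectiveMor z' ∧ AlgSt.RepByAlgSpWith (AlgSp.LocP @Flat) z') ∧
        AlgSt.IsMono (AlgSt.subIncl 𝒵 Q)) ∧
      ∀ Q' : 𝒵.obj → Prop, ObjectProperty.IsClosedUnderIsomorphisms Q' → AlgSt.IsAlgStack Scheme.fppfPrecoverage (AlgSt.fullSub 𝒵 Q') →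
        (∃ (k' : Type u) (_ : Field k') (a' : Spec (CommRingCat.of k') ⟶ S)
          (z' : FibCat.overCat (Over.mk a') ⥤ᵇ AlgSt.fullSub 𝒵 Q'),
          AlgSt.RepByAlgSpWith (AlgSp.LocP @LocallyOfFinitePresentation) z' ∧
            AlgSt.RepByAlgSpWith AlgSp.IsSurjectiveMor z' ∧ AlgSt.RepByAlgSpWith (AlgSp.LocP @Flat) z') →
        ∀ ξ : 𝒵.obj, Q' ξ ↔ Q ξ := by
  obtain ⟨hne, hsub⟩ := Groth.Agent.ResGerb16.singleton_points h𝒵 z hzs
  have hred := Groth.Agent.ResGerb16.smoothLocally_isReduced h𝒵 z hzs hzf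
  obtain ⟨Q, hQi, hA, hz⟩ := Groth.Agent.ResGerb16.exists_image_substack h𝒵 hred
  refine ⟨Q, ⟨hQi, hA, hz, Groth.Agent.ResGerb16.isMono_subIncl h𝒵 hA⟩, fun Q' hQ'i hA' hz' ξ => ?_⟩
  have key : ∀ {Q : 𝒵.obj → Prop}, ObjectProperty.IsClosedUnderIsomorphisms Q →
      AlgSt.IsAlgStack Scheme.fppfPrecoverage (AlgSt.fullSub 𝒵 Q) →
      (∃ (k' : Type u) (_ : Field k') (a' : Spec (CommRingCat.of k') ⟶ S)
        (z' : FibCat.overCat (Over.mk a') ⥤ᵇ AlgSt.fullSub 𝒵 Q),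
        AlgSt.RepByAlgSpWith (AlgSp.LocP @LocallyOfFinitePresentation) z' ∧
          AlgSt.RepByAlgSpWith AlgSp.IsSurjectiveMor z' ∧ AlgSt.RepByAlgSpWith (AlgSp.LocP @Flat) z') →
      Gerb.IsResGerbe Scheme.fppfPrecoverage 𝒵 (AlgSt.Points.ofChart z (IsLocalRing.closedPoint k)) Q := by
    rintro Q hQ hA ⟨K, hK, b, w, hp, hs, hf⟩
    obtain ⟨hne', hsub'⟩ := Groth.Agent.ResGerb16.singleton_points hA w hs
    exact ⟨hQ, hA, Groth.Agent.ResGerb16.smoothLocally_isReduced hA w hs hf, Groth.Agent.ResGerb16.smoothLocally_isLocallyNoetherian hA w hp hs hf,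
      hne', hsub', fun p => Subsingleton.elim _ _⟩
  exact Groth.Agent.ResGerb16.isResGerbe_iff h𝒵 (key hQ'i hA' hz') (key hQi hA hz) ξ

end Groth.Agent.S16808
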