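import Groth.Statements.S16809
import Groth.Agent.Lib.ResGerb16.Image

set_option autoImplicit false
universe u
open CategoryTheory AlgebraicGeometry
open Gerb

set_option backward.isDefEq.respectTransparency false
set_option backward.isDefEq.respectTransparency.types false

namespace Groth.Agent.S16809

/-- (1)⇔(2)⇔(3): for a point x of an algebraic stack 𝒳 the following are equivalent: some algebraic
stack with exactly one point maps monomorphically to 𝒳 onto x; some reduced algebraic stack with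
exactly one point does; some algebraic stack 𝒵 with a monomorphism f : 𝒵 → 𝒳 receives a surjective
flat morphism z from the spectrum of a field with f(z) = x. -/
theorem result
    (S : Scheme.{u}) (𝒳 : AlgSt.Cat S) (h𝒳 : AlgSt.IsAlgStack Scheme.fppfPrecoverage 𝒳) (x : AlgSt.Points 𝒳) :
    [Gerb.ResGerbeExists Scheme.fppfPrecoverage 𝒳 x,
      ∃ (𝒵 : AlgSt.Cat S) (f : 𝒵 ⥤ᵇ 𝒳), AlgSt.IsAlgStack Scheme.fppfPrecoverage 𝒵 ∧
        AlgSt.SmoothLocally (fun T => IsReduced T) 𝒵 ∧ AlgSt.IsMono f ∧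
        Nonempty (AlgSt.Points 𝒵) ∧ Subsingleton (AlgSt.Points 𝒵) ∧ ∀ p, AlgSt.Points.map f p = x,
      ∃ (𝒵 : AlgSt.Cat S) (f : 𝒵 ⥤ᵇ 𝒳) (k : Type u) (_ : Field k) (a : Spec (CommRingCat.of k) ⟶ S)
        (z : FibCat.overCat (Over.mk a) ⥤ᵇ 𝒵), AlgSt.IsAlgStack Scheme.fppfPrecoverage 𝒵 ∧ AlgSt.IsMono f ∧
        AlgSt.RepByAlgSpWith AlgSp.IsSurjectiveMor z ∧ AlgSt.RepByAlgSpWith (AlgSp.LocP @Flat) z ∧
        ∀ t : ↥(Over.mk a).left, AlgSt.Points.map f (AlgSt.Points.ofChart z t) = x].TFAE := by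
  tfae_have 1 → 2 := by
    rintro ⟨𝒵, f, hA, hf, hne, hsub, hx⟩
    obtain ⟨𝒲, i, hW, hred, hi₁, hi₂, hne', hsub'⟩ := Groth.Agent.ResGerb16.exists_reduced hA hne hsub
    obtain ⟨hf₁, hf₂⟩ := Groth.Agent.StAlg16.fullyFaithful_of_isMono hA.isStack.1 h𝒳.isStack.1 f hf
    haveI : (BasedFunctor.comp i f).toFunctor.Full := inferInstanceAs (i.toFunctor ⋙ f.toFunctor).Full
    haveI : (BasedFunctor.comp i f).toFunctor.Faithful := inferInstanceAs (i.toFunctor ⋙ f.toFunctor).Faithful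
    exact ⟨𝒲, BasedFunctor.comp i f, hW, hred, Groth.Agent.StAlg16.isMono_of_fullyFaithful hW h𝒳 _, hne', hsub', fun p => by
      rw [Groth.Agent.StAlg16.map_comp_apply, hx]⟩
  tfae_have 2 → 3 := by
    rintro ⟨𝒵, f, hA, hred, hf, hne, hsub, hx⟩
    obtain ⟨K, hK, b, z, -, -⟩ := Groth.Agent.ResGerb16.exists_lft_pt hA
    exact ⟨𝒵, f, K, hK, b, z, hA, hf, Groth.Agent.ResGerb16.with_surjective_pt hA z, Groth.Agent.ResGerb16.with_flat_pt hA hred z, fun t => hx _⟩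
  tfae_have 3 → 1 := by
    rintro ⟨𝒵, f, K, hK, b, z, hA, hf, hzs, hzf, hx⟩
    obtain ⟨hne, hsub⟩ := Groth.Agent.ResGerb16.singleton_points hA z hzs
    refine ⟨𝒵, f, hA, hf, hne, hsub, fun p => ?_⟩
    obtain ⟨t, rfl⟩ := Groth.Agent.StAlg16.surjective_ofChart hA.isStack.1 hzs p
    exact hx t
  tfae_finish

end Groth.Agent.S16809
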