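import Groth.Statements.S16810
import Groth.Agent.Lib.ResGerb16.Existence

set_option autoImplicit false
universe u
open CategoryTheory AlgebraicGeometry
open Gerb

set_option backward.isDefEq.respectTransparency false
set_option backward.isDefEq.respectTransparency.types false

namespace Groth.Agent.S16810

/-- If some reduced algebraic stack with exactly one point admits a monomorphism to the algebraic stack
𝒳 with image the point x, then there is a unique strictly full subcategory of 𝒳 which is a reduced,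
locally Noetherian algebraic stack with exactly one point mapping to x. -/
theorem result
    (S : Scheme.{u}) (𝒳 : AlgSt.Cat S) (h𝒳 : AlgSt.IsAlgStack Scheme.fppfPrecoverage 𝒳) (x : AlgSt.Points 𝒳)
    (𝒵 : AlgSt.Cat S) (h𝒵 : AlgSt.IsAlgStack Scheme.fppfPrecoverage 𝒵)
    (hred : AlgSt.SmoothLocally (fun T => IsReduced T) 𝒵)
    (hne : Nonempty (AlgSt.Points 𝒵)) (hsub : Subsingleton (AlgSt.Points 𝒵))
    (f : 𝒵 ⥤ᵇ 𝒳) (hf : AlgSt.IsMono f) (hfx : ∀ p : AlgSt.Points 𝒵, AlgSt.Points.map f p = x) :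
    ∃ Q : 𝒳.obj → Prop, Gerb.IsResGerbe Scheme.fppfPrecoverage 𝒳 x Q ∧
      ∀ Q' : 𝒳.obj → Prop, Gerb.IsResGerbe Scheme.fppfPrecoverage 𝒳 x Q' → ∀ ξ : 𝒳.obj, Q' ξ ↔ Q ξ := by
  obtain ⟨P, hPi, hA, K, hK, b, z, hp, hs, hfl⟩ := Groth.Agent.ResGerb16.exists_image_substack h𝒵 hred
  obtain ⟨hne', hsub'⟩ := Groth.Agent.ResGerb16.singleton_points hA z hs
  obtain ⟨h₁, h₂⟩ := Groth.Agent.StAlg16.fullyFaithful_of_isMono h𝒵.isStack.1 h𝒳.isStack.1 f hf
  haveI : (AlgSt.subIncl 𝒵 P).toFunctor.Full := inferInstanceAs (ObjectProperty.ι P).Full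
  haveI : (AlgSt.subIncl 𝒵 P).toFunctor.Faithful := inferInstanceAs (ObjectProperty.ι P).Faithful
  let g := BasedFunctor.comp (AlgSt.subIncl 𝒵 P) f
  haveI : g.toFunctor.Full := inferInstanceAs ((AlgSt.subIncl 𝒵 P).toFunctor ⋙ f.toFunctor).Full
  haveI : g.toFunctor.Faithful := inferInstanceAs ((AlgSt.subIncl 𝒵 P).toFunctor ⋙ f.toFunctor).Faithful
  obtain ⟨Q, hQ, -⟩ := Groth.Agent.ResGerb16.exists_isResGerbe h𝒳 x hA (Groth.Agent.ResGerb16.smoothLocally_isReduced hA z hs hfl)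
    (Groth.Agent.ResGerb16.smoothLocally_isLocallyNoetherian hA z hp hs hfl) hne' hsub' g
    (Groth.Agent.StAlg16.isMono_of_fullyFaithful hA h𝒳 g) (fun p => by rw [Groth.Agent.StAlg16.map_comp_apply, hfx])
  exact ⟨Q, hQ, fun Q' hQ' ξ => Groth.Agent.ResGerb16.isResGerbe_iff h𝒳 hQ' hQ ξ⟩

end Groth.Agent.S16810
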