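import Groth.Statements.S16811
import Groth.Agent.Lib.ResGerb16.Basic
import Groth.Agent.Lib.AlgSpDescent.FppfComp

set_option autoImplicit false
universe u
open CategoryTheory AlgebraicGeometry
open Gerb

set_option backward.isDefEq.respectTransparency false
set_option backward.isDefEq.respectTransparency.types false

namespace Groth.Agent.S16811

/-- A reduced, locally Noetherian algebraic stack with exactly one point is regular (all local rings of
all schemes smooth over it are regular local rings). -/
theorem result
    (S : Scheme.{u}) (𝒵 : AlgSt.Cat S) (h𝒵 : AlgSt.IsAlgStack Scheme.fppfPrecoverage 𝒵)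
    (hred : AlgSt.SmoothLocally (fun T => IsReduced T) 𝒵)
    (hnoeth : AlgSt.SmoothLocally (fun T => IsLocallyNoetherian T) 𝒵)
    (hne : Nonempty (AlgSt.Points 𝒵)) (hsub : Subsingleton (AlgSt.Points 𝒵)) :
    AlgSt.SmoothLocally (fun T => ∀ t : T, IsRegularLocalRing (T.presheaf.stalk t)) 𝒵 := by
  obtain ⟨K, hK, b, z, hp, hs, hf⟩ := Groth.Agent.ResGerb16.exists_fppf_pt h𝒵 hred hnoeth
  intro U x hx
  obtain ⟨A, h, d, hh, hs', hd, hp'⟩ := Groth.Agent.ResGerb16.exists_chart_square h𝒵 z hs hf hx
  haveI := hd
  haveI : IsLocallyNoetherian (Over.mk b).left :=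
    inferInstanceAs (IsLocallyNoetherian (Spec (CommRingCat.of K)))
  haveI : IsLocallyNoetherian A.left := LocallyOfFiniteType.isLocallyNoetherian d.left
  have hK' : ∀ t : ↥(Over.mk b).left, IsRegularLocalRing ((Over.mk b).left.presheaf.stalk t) := fun t => by
    haveI : Ring.KrullDimLE 0 ((Spec (CommRingCat.of K)).presheaf.stalk t) :=
      Ring.krullDimLE_iff.2 (Groth.Agent.Residual14.isField_stalk_of_subsingleton_field t).le
    have hF := Ring.KrullDimLE.isField_of_isReduced (R := (Spec (CommRingCat.of K)).presheaf.stalk t)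
    letI := hF.toField
    exact inferInstanceAs (IsRegularLocalRing ((Spec (CommRingCat.of K)).presheaf.stalk t))
  exact (Groth.Agent.AlgSpDescent.regular_down h.left hh (hp' hp) hs'
    ⟨inferInstance, fun t => Groth.Agent.WeilExt.isRegularLocalRing_of_smooth d.left hK' t⟩).2

end Groth.Agent.S16811
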