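import Groth.Statements.S16830
import Groth.Agent.Lib.StSmooth16.Main
-- import your own Groth.Agent.* helpers here

set_option autoImplicit false
universe u
open AlgSt

namespace Groth.Agent.S16830

open CategoryTheory AlgebraicGeometry in
/-- Let f : 𝒳 → 𝒴 be a functor over (Sch/S) between algebraic stacks for the etale topology which are
locally Noetherian and have separated diagonals over S (diagonal representable by algebraic spaces
and separated), with f locally of finite type. Then f is smooth (in the chart sense: some smooth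
surjective scheme chart of 𝒳 and smooth scheme chart of 𝒴 with a smooth map between them compatible
with f) if and only if: for every surjection φ : A → A₀ of Artinian local rings whose kernel is a
simple A-module (isomorphic to the residue field), every structure morphism Spec A → S, every x :
(Sch/Spec A₀) → 𝒳 and y : (Sch/Spec A) → 𝒴 over (Sch/S) and every 2-isomorphism α between x followed
by f and Spec A₀ → Spec A followed by y, there is a functor (Sch/Spec A) → 𝒳 ×_𝒴 (Sch/Spec A) over
(Sch/S) into the 2-fibre product of f and y which is a section of the second projection up to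
isomorphism and whose restriction to Spec A₀ is isomorphic to the functor (x, Spec A₀ → Spec A, α).
(A lifting is thus a morphism Spec A → 𝒳 with 2-isomorphisms compatible with α. The published
statement assumes the absolute diagonals separated; this row assumes only the diagonals over S
separated.) -/
theorem result (S : Scheme.{u}) (𝒳 𝒴 : AlgSt.Cat S)
    (h𝒳 : AlgSt.IsAlgStack Scheme.etalePrecoverage 𝒳) (h𝒴 : AlgSt.IsAlgStack Scheme.etalePrecoverage 𝒴)
    (hn𝒳 : AlgSt.SmoothLocally (fun T => IsLocallyNoetherian T) 𝒳)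
    (hn𝒴 : AlgSt.SmoothLocally (fun T => IsLocallyNoetherian T) 𝒴)
    (hΔ𝒳 : AlgSt.RepByAlgSpWith AlgSp.IsSeparatedMor (FibCat.diag (FibCat.toSelf 𝒳)))
    (hΔ𝒴 : AlgSt.RepByAlgSpWith AlgSp.IsSeparatedMor (FibCat.diag (FibCat.toSelf 𝒴)))
    (f : 𝒳 ⥤ᵇ 𝒴) (hft : AlgSt.LocQ (AlgSp.LocP @LocallyOfFiniteType) f) :
    AlgSt.LocQ (AlgSp.LocP @Smooth) f ↔
      ∀ (A A₀ : Type u) [CommRing A] [IsArtinianRing A] [IsLocalRing A] [CommRing A₀] [IsLocalRing A₀]
        (φ : A →+* A₀) (_ : Function.Surjective φ) (_ : IsSimpleModule A (RingHom.ker φ))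
        (sA : Spec (CommRingCat.of A) ⟶ S)
        (x : FibCat.overCat (Over.mk (Spec.map (CommRingCat.ofHom φ) ≫ sA)) ⥤ᵇ 𝒳)
        (y : FibCat.overCat (Over.mk sA) ⥤ᵇ 𝒴)
        (α : BasedFunctor.comp x f ≅
          BasedFunctor.comp (AlgSt.overMap (Over.homMk (Spec.map (CommRingCat.ofHom φ)) rfl :
            Over.mk (Spec.map (CommRingCat.ofHom φ) ≫ sA) ⟶ Over.mk sA)) y),
        ∃ (c : FibCat.overCat (Over.mk sA) ⥤ᵇ FibCat.fp f y),
          Nonempty (BasedFunctor.comp c (FibCat.fpSnd f y) ≅ AlgSt.overMap (𝟙 (Over.mk sA))) ∧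
          Nonempty (BasedFunctor.comp (AlgSt.overMap (Over.homMk (Spec.map (CommRingCat.ofHom φ)) rfl :
              Over.mk (Spec.map (CommRingCat.ofHom φ) ≫ sA) ⟶ Over.mk sA)) c ≅
            FibCat.fpLift x (AlgSt.overMap (Over.homMk (Spec.map (CommRingCat.ofHom φ)) rfl :
              Over.mk (Spec.map (CommRingCat.ofHom φ) ≫ sA) ⟶ Over.mk sA)) α) := by
  exact ⟨Groth.Agent.StSmooth16.infLift_of_locQ_smooth h𝒳 h𝒴,
    Groth.Agent.StSmooth16.locQ_smooth_of_infLift h𝒳 h𝒴 hn𝒴 hft⟩

end Groth.Agent.S16830
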