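import Groth.Statements.S16833
import Groth.Agent.Lib.FiniteMor15.Basic
import Groth.Agent.Lib.AlgSpace.SepDescend
-- import your own Groth.Agent.* helpers here

set_option autoImplicit false
universe u
open AlgSp

namespace Groth.Agent.S16833

open CategoryTheory AlgebraicGeometry in
/-- Let p : U → X and f : X → Y be morphisms of algebraic spaces over a scheme S with p etale and
surjective and f separated. If the composite U → Y is finite, then f is finite. -/
theorem result {S : Scheme.{u}}
    {U X Y : AlgSp.Space S} (p : U ⟶ X) (f : X ⟶ Y)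
    (hp : AlgSp.IsEtaleMor p.hom) (hps : AlgSp.IsSurjectiveMor p.hom)
    (hf : AlgSp.IsSeparatedMor f.hom) (h : AlgSp.IsFiniteMor (p ≫ f).hom) :
    AlgSp.IsFiniteMor f.hom := by
  have hlqf := FiniteMor15.locP_lqf_of_isFiniteMor Y.property h
  obtain ⟨Z, φ, hφe, hφs⟩ := U.property.atlas
  obtain ⟨V, b, hbe, hbs⟩ := Y.property.atlas
  obtain ⟨U', a, k, hae, has, w⟩ := AlgSpace.exists_chart_over (AlgSp.IsAlgSpace.yon_obj Z) Y.property
    (φ ≫ p.hom ≫ f.hom) b hbe hbs
  have hq : AlgSp.LocP _ f.hom :=
    AlgSpace.locP_of_one_chart ((a ≫ φ) ≫ p.hom) b k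
      (hp (a ≫ φ) (AlgSpace.repWith_comp hae hφe))
      (AlgSpace.repWith_surjective_of_map
        (X.property.representable_from_yon _) (by
          rw [AlgSpace.map_comp_eq]
          exact hps.comp (AlgSpace.surjective_map_of_repWith (AlgSpace.repWith_comp has hφs))))
      hbe (by simpa [Category.assoc] using w)
      (hlqf (a ≫ φ) b k (AlgSpace.repWith_comp hae hφe) hbe (by simpa [Category.assoc] using w))
  have hfin := (AlgSpace.isFiniteMor_iff_affine_proper U.property Y.property).1 h
  refine FiniteMor15.isFiniteMor_of_proper_lqf X.property Y.property ⟨hf, ⟨?_, ?_⟩, ?_⟩ hq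
  · exact AlgSpace.locP_mono (fun _ _ g hg => hg.2) hq
  · exact AlgSpace.isQuasiCompactMor_of_surjective_source U.property X.property Y.property hps
      hfin.2.2.1.2
  · exact AlgSpace.isUnivClosedMor_of_surjective_source hps hfin.2.2.2


end Groth.Agent.S16833
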