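import Groth.Statements.S16834
import Groth.Agent.Lib.AlgSpDescent.AffineFpqc
import Groth.Agent.Lib.AlgSpace.QCQS
-- import your own Groth.Agent.* helpers here

set_option autoImplicit false
universe u
open CategoryTheory CategoryTheory.Limits AlgebraicGeometry
open AlgSp

namespace Groth.Agent.S16834

/-- Let k be a field with algebraic closure k̄ and X an algebraic space over Spec k which is
quasi-separated over k and whose structure morphism is locally of finite type. If the base change X
×_k Spec k̄ (product with h_{Spec k̄} in fppf sheaves over Spec k) is isomorphic to h_T for an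
affine scheme T over k, then X is isomorphic to h_U for an affine scheme U over k. -/
theorem result (k : Type u) [Field k]
    (X : AlgSp.Space (Spec (CommRingCat.of k))) (hqs : AlgSp.IsQuasiSeparatedSp X.obj)
    (hlft : ∀ q : X.obj ⟶ (AlgSp.yon (Spec (CommRingCat.of k))).obj (Over.mk (𝟙 _)),
      AlgSp.LocP @LocallyOfFiniteType q)
    (kbar : Type u) [Field kbar] [Algebra k kbar] [IsAlgClosure k kbar]
    (T : Over (Spec (CommRingCat.of k))) (hT : IsAffine T.left)
    (e : X.obj ⨯ (AlgSp.yon (Spec (CommRingCat.of k))).obj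
        (Over.mk (Spec.map (CommRingCat.ofHom (algebraMap k kbar)))) ≅
      (AlgSp.yon (Spec (CommRingCat.of k))).obj T) :
    ∃ (U : Over (Spec (CommRingCat.of k))), IsAffine U.left ∧
      Nonempty (X.obj ≅ (AlgSp.yon (Spec (CommRingCat.of k))).obj U) := by
  let Sk := Spec (CommRingCat.of k)
  let Z : Over Sk := Over.mk (𝟙 Sk)
  let g : Spec (CommRingCat.of kbar) ⟶ Sk := Spec.map (CommRingCat.ofHom (algebraMap k kbar))
  let V : Over Sk := Over.mk g
  let v : V ⟶ Z := Over.homMk g (Category.comp_id _)
  have hterm := Groth.Agent.AlgSpace.isTerminalBase (S := Sk)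
  have : IsAffine Z.left := inferInstanceAs (IsAffine Sk)
  have : IsAffine V.left := inferInstanceAs (IsAffine (Spec (CommRingCat.of kbar)))
  have : Flat v.left := by
    rw [show v.left = g from rfl, HasRingHomProperty.Spec_iff (P := @Flat)]
    exact (RingHom.flat_algebraMap_iff).2 inferInstance
  have : Surjective v.left := ⟨fun x =>
    ⟨(default : PrimeSpectrum kbar), @Subsingleton.elim (PrimeSpectrum k) inferInstance _ _⟩⟩
  obtain ⟨p, hp⟩ := (AlgSp.yon Sk).map_surjective (e.inv ≫ Limits.prod.snd)
  have sq : IsPullback (e.inv ≫ Limits.prod.fst) ((AlgSp.yon Sk).map p) (hterm.from X.obj)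
      ((AlgSp.yon Sk).map v) := by
    rw [hp]
    have sq0 : IsPullback (Limits.prod.fst : X.obj ⨯ (AlgSp.yon Sk).obj V ⟶ _) Limits.prod.snd (hterm.from X.obj)
        ((AlgSp.yon Sk).map v) := by
      rw [hterm.hom_ext ((AlgSp.yon Sk).map v) (hterm.from _)]
      exact IsPullback.of_is_product' (Limits.prodIsProd X.obj ((AlgSp.yon Sk).obj V)) hterm
    exact sq0.of_iso e (Iso.refl _) (Iso.refl _) (Iso.refl _) (by simp [V, g, Sk]) (by simp [V, g, Sk]) (by simp) (by simp)
  obtain ⟨A, i, φ, hA, hφ, -⟩ :=
    Groth.Agent.AlgSpDescent.exists_iso_affine_of_fpqc X.property _ v p _ sq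
  exact ⟨A, hA, ⟨asIso φ⟩⟩

end Groth.Agent.S16834
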