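import Groth.Statements.S16843
import Groth.Agent.Lib.TateCons19.Basic
-- import your own Groth.Agent.* helpers here

set_option autoImplicit false
universe u
open CategoryTheory MonoidalCategory CartesianMonoidalCategory MonObj GrpObj AlgebraicGeometry
open scoped Classical
open AbVar

namespace Groth.Agent.S16843

set_option linter.style.haveILetI false
set_option backward.isDefEq.respectTransparency.types false


open UniqueFactorizationMonoid in
/-- Let k be a finite field with q elements and algebraic closure Ω, ℓ a prime invertible in k, and X, Y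
abelian varieties over k (proper, geometrically integral commutative group schemes over k) with
geometric Frobenii π_X, π_Y (identity on points, q-th power on sections); assume, as is the case,
that the ℓ-adic Tate modules of Ω-points are free of finite rank over ℤ_ℓ, and let f_X, f_Y ∈ ℤ[t]
map to the characteristic polynomials of T_ℓ(π_X), T_ℓ(π_Y). Then the finitely generated free
abelian group Hom_k(X, Y) of homomorphisms defined over k has rank r(f_X, f_Y) = Σ_P mult_P(f_X) ·
mult_P(f_Y) · deg P, the sum over the monic irreducible polynomials P in ℚ[t]. -/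
theorem result (k Ω : Type u) [Field k] [Finite k] [Field Ω] [Algebra k Ω] [IsAlgClosure k Ω]
    (l : ℕ) [Fact l.Prime] (hl : (l : k) ≠ 0)
    (X : Over (Spec (CommRingCat.of k)))
    [GrpObj X] [IsCommMonObj X] [IsProper X.hom] [GeometricallyIntegral X.hom]
    (Y : Over (Spec (CommRingCat.of k)))
    [GrpObj Y] [IsCommMonObj Y] [IsProper Y.hom] [GeometricallyIntegral Y.hom]
    (πX : X ⟶ X) [IsMonHom πX] (hπb : πX.left.base = 𝟙 _)
    (hπle : ∀ U : X.left.Opens, U ≤ πX.left ⁻¹ᵁ U)
    (hπapp : ∀ (U : X.left.Opens) (s : Γ(X.left, U)), (πX.left.appLE U U (hπle U)).hom s = s ^ Nat.card k)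
    (πY : Y ⟶ Y) [IsMonHom πY] (hρb : πY.left.base = 𝟙 _)
    (hρle : ∀ U : Y.left.Opens, U ≤ πY.left ⁻¹ᵁ U)
    (hρapp : ∀ (U : Y.left.Opens) (s : Γ(Y.left, U)), (πY.left.appLE U U (hρle U)).hom s = s ^ Nat.card k)
    [Module.Free ℤ_[l] (AbDual.TateMod X l (SGA7.pt Ω))] [Module.Finite ℤ_[l] (AbDual.TateMod X l (SGA7.pt Ω))]
    [Module.Free ℤ_[l] (AbDual.TateMod Y l (SGA7.pt Ω))] [Module.Finite ℤ_[l] (AbDual.TateMod Y l (SGA7.pt Ω))]
    (PX : Polynomial ℤ) (hPX : (AbDual.tateMapₗ (l := l) (T := SGA7.pt Ω) πX).charpoly = PX.map (Int.castRingHom ℤ_[l]))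
    (PY : Polynomial ℤ) (hPY : (AbDual.tateMapₗ (l := l) (T := SGA7.pt Ω) πY).charpoly = PY.map (Int.castRingHom ℤ_[l])) :
    Module.finrank ℤ (EndAV.Hom X Y) =
      ∑ P ∈ (normalizedFactors (PX.map (Int.castRingHom ℚ))).toFinset,
        (normalizedFactors (PX.map (Int.castRingHom ℚ))).count P *
          (normalizedFactors (PY.map (Int.castRingHom ℚ))).count P * P.natDegree := by
  rw [Groth.Agent.TateCons19.finrank_hom_eq_num Ω l hl ⟨hπle, hπapp⟩ ⟨hρle, hρapp⟩
    (Groth.Agent.TateCons19.tateHyp Ω l hl ⟨hπle, hπapp⟩ ⟨hρle, hρapp⟩) hPX hPY, Groth.Agent.Intertwine22.num_eq_sum]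
  congr!

end Groth.Agent.S16843
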