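import Groth.Statements.S16845
import Groth.Agent.Lib.TateCons19.Algebra
-- import your own Groth.Agent.* helpers here

set_option autoImplicit false
universe u
open CategoryTheory MonoidalCategory CartesianMonoidalCategory MonObj GrpObj AlgebraicGeometry
open AbVar

namespace Groth.Agent.S16845

set_option linter.style.haveILetI false
set_option backward.isDefEq.respectTransparency.types false


/-- (a) ⇔ (b) ⇔ (c): let k be a finite field with q elements and algebraic closure Ω, ℓ a prime
invertible in k, and X an abelian variety over k (a proper, geometrically integral commutative group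
scheme over k) of dimension g, with geometric Frobenius π_X (the endomorphism that is the identity
on points and the q-th power map on sections); assume, as is the case, that the ℓ-adic Tate module
of Ω-points T_ℓ X is free of finite rank over ℤ_ℓ, and let f_X ∈ ℤ[t] be the polynomial mapping to
the characteristic polynomial of T_ℓ(π_X) (the characteristic polynomial of Frobenius). Then dim_ℚ
(ℚ ⊗ End_k(X)) = (2g)² if and only if ℚ[π_X] = ℚ, i.e. π_X ∈ End_k(X) is multiplication by some
rational integer n; and π_X = [n] for some integer n if and only if f_X = (t − a)^{2g} for some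
integer a. (The remaining equivalent conditions, involving the quaternion algebra ramified at p and
∞ and supersingular elliptic curves, are not restated.) -/
theorem result (k Ω : Type u) [Field k] [Finite k] [Field Ω] [Algebra k Ω] [IsAlgClosure k Ω]
    (l : ℕ) [Fact l.Prime] (hl : (l : k) ≠ 0) (X : Over (Spec (CommRingCat.of k)))
    [GrpObj X] [IsCommMonObj X] [IsProper X.hom] [GeometricallyIntegral X.hom]
    (g : ℕ) (hg : topologicalKrullDim X.left = g)
    (πX : X ⟶ X) [IsMonHom πX] (hπb : πX.left.base = 𝟙 _)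
    (hπle : ∀ U : X.left.Opens, U ≤ πX.left ⁻¹ᵁ U)
    (hπapp : ∀ (U : X.left.Opens) (s : Γ(X.left, U)), (πX.left.appLE U U (hπle U)).hom s = s ^ Nat.card k)
    [Module.Free ℤ_[l] (AbDual.TateMod X l (SGA7.pt Ω))] [Module.Finite ℤ_[l] (AbDual.TateMod X l (SGA7.pt Ω))]
    (P : Polynomial ℤ) (hP : (AbDual.tateMapₗ (l := l) (T := SGA7.pt Ω) πX).charpoly = P.map (Int.castRingHom ℤ_[l])) :
    (Module.finrank ℚ (EndAV.End0 X) = (2 * g) ^ 2 ↔ ∃ n : ℤ, EndAV.End.of πX = (n : EndAV.End X)) ∧
      ((∃ n : ℤ, EndAV.End.of πX = (n : EndAV.End X)) ↔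
        ∃ a : ℤ, P = (Polynomial.X - Polynomial.C a) ^ (2 * g)) := by
  classical
  haveI : IsAlgClosed Ω := IsAlgClosure.isAlgClosed k
  haveI := GeometricallyIntegral.isIntegral_of_subsingleton X.hom
  haveI := Groth.Agent.AVCSA22.finite_end0 X
  obtain ⟨hm, hd⟩ := Groth.Agent.TateCons19.charpoly_facts Ω l hl hg hP
  have hnum := Groth.Agent.TateCons19.finrank_end0_eq_num Ω l hl ⟨hπle, hπapp⟩
    (Groth.Agent.TateCons19.tateHyp Ω l hl ⟨hπle, hπapp⟩ ⟨hπle, hπapp⟩) hP
  have hinj : Function.Injective (EndAV.toEnd0 : EndAV.End X →ₐ[ℤ] EndAV.End0 X) := Groth.Agent.AVDegree22.toEnd0_injective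
  have hsq := (Groth.Agent.FrobPull22.minpoly_frobenius πX hπle Nat.card_pos.ne' hπapp).1
  have hdvd := Groth.Agent.FrobPull22.minpoly_dvd_charpoly Ω hl (EndAV.End.of πX) hP
  have hlin : ∀ n : ℤ, EndAV.End.of πX = (n : EndAV.End X) → P = (Polynomial.X - Polynomial.C n) ^ (2 * g) := by
    intro n hn
    have hfr : Module.finrank ℤ_[l] (AbDual.TateMod X l (SGA7.pt (K := k) Ω)) = 2 * g :=
      Groth.Agent.TateTors22.finrank_tateMod (A := X) Ω l hl hg
    refine Polynomial.map_injective (Int.castRingHom ℤ_[l]) (RingHom.injective_int _) ?_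
    rw [← hP]
    show (EndAV.End.tateRep l (SGA7.pt (K := k) Ω) (EndAV.End.of πX)).charpoly = _
    let b := Module.finBasisOfFinrankEq ℤ_[l] (AbDual.TateMod X l (SGA7.pt (K := k) Ω)) hfr
    have hmat : LinearMap.toMatrix b b ((n : ℤ) : Module.End ℤ_[l] (AbDual.TateMod X l (SGA7.pt (K := k) Ω))) =
        Matrix.diagonal fun _ => (n : ℤ_[l]) := by
      show LinearMap.toMatrixAlgEquiv b _ = _
      rw [map_intCast]
      rfl
    rw [hn, map_intCast, ← LinearMap.charpoly_toMatrix _ b, hmat, Matrix.charpoly_diagonal, Finset.prod_const,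
      Finset.card_univ, Fintype.card_fin, Polynomial.map_pow, Polynomial.map_sub, Polynomial.map_X, Polynomial.map_C,
      eq_intCast]
  have hconv : ∀ a : ℤ, P.map (Int.castRingHom ℚ) = (Polynomial.X - Polynomial.C (a : ℚ)) ^ (2 * g) →
      EndAV.End.of πX = (a : EndAV.End X) := by
    intro a ha
    rw [ha] at hdvd
    have h2 : minpoly ℚ (EndAV.toEnd0 (EndAV.End.of πX)) ∣ Polynomial.X - Polynomial.C (a : ℚ) :=
      by
        rcases (dvd_prime_pow (Polynomial.prime_X_sub_C _) _).1 hdvd with ⟨j, -, hj⟩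
        refine hj.dvd.trans ?_
        have hj1 : j ≤ 1 := by
          by_contra hj2
          exact Polynomial.not_isUnit_X_sub_C _ (hsq _ ((pow_two (Polynomial.X - Polynomial.C (a : ℚ)) ▸
            (pow_dvd_pow _ (show 2 ≤ j by omega))).trans hj.symm.dvd))
        exact (pow_dvd_pow _ hj1).trans (pow_one _).dvd
    obtain ⟨c, hc⟩ := h2
    have h3 := congrArg (Polynomial.aeval (EndAV.toEnd0 (EndAV.End.of πX))) hc
    rw [map_mul, minpoly.aeval, zero_mul, map_sub, Polynomial.aeval_X, Polynomial.aeval_C, sub_eq_zero] at h3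
    refine hinj ?_
    rw [h3, map_intCast, map_intCast]
  have hback : ∀ n : ℤ, EndAV.End.of πX = (n : EndAV.End X) → Module.finrank ℚ (EndAV.End0 X) = (2 * g) ^ 2 := by
    intro n hn
    rw [hnum, hlin n hn, Polynomial.map_pow, Polynomial.map_sub, Polynomial.map_X, Polynomial.map_C,
      Groth.Agent.TateCons19.num_pow_pow (Polynomial.irreducible_X_sub_C _) (Polynomial.monic_X_sub_C _),
      Polynomial.natDegree_X_sub_C]
    ring
  refine ⟨⟨fun h => ?_, fun ⟨n, hn⟩ => hback n hn⟩, fun ⟨n, hn⟩ => ⟨n, hlin n hn⟩, fun ⟨a, ha⟩ => ⟨a, hconv a ?_⟩⟩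
  · rw [hnum, ← hd] at h
    obtain ⟨a, ha⟩ := Groth.Agent.TateCons19.exists_eq_pow_of_num_self hm h
    rw [hd] at ha
    rcases Nat.eq_zero_or_pos g with rfl | hg0
    · exact ⟨0, hconv 0 (ha.trans (by simp))⟩
    have hint : IsIntegral ℤ a := by
      refine ⟨P, ?_, ?_⟩
      · exact Polynomial.monic_of_injective (RingHom.injective_int (Int.castRingHom ℚ)) hm
      · rw [← Polynomial.aeval_def, ← Polynomial.aeval_map_algebraMap ℚ, algebraMap_int_eq, ha, map_pow, map_sub,
          Polynomial.aeval_X, Polynomial.aeval_C, Algebra.algebraMap_self, RingHom.id_apply, sub_self,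
          zero_pow (by omega)]
    obtain ⟨n, hn⟩ := IsIntegrallyClosed.isIntegral_iff.1 hint
    exact ⟨n, hconv n (by rw [ha, ← hn, eq_intCast (algebraMap ℤ ℚ)])⟩
  · rw [ha, Polynomial.map_pow, Polynomial.map_sub, Polynomial.map_X, Polynomial.map_C, eq_intCast]

end Groth.Agent.S16845
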