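import Groth.Statements.S16851
import Groth.Agent.Lib.TateSub22.Range

set_option autoImplicit false
universe u
open CategoryTheory MonoidalCategory CartesianMonoidalCategory MonObj GrpObj AlgebraicGeometry
open scoped TensorProduct
open AbVar

namespace Groth.Agent.S16851

/-- Let k be a field with algebraic closure Ω, ℓ a prime invertible in k, and X an abelian variety over
k (a proper, geometrically integral commutative group scheme over k) satisfying the finiteness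
condition Fin(X/k, ℓ): up to isomorphism of k-schemes only finitely many abelian varieties Y over k
admit an isogeny X → Y of ℓ-power degree (rendered by homomorphisms u : X → Y, v : Y → X with v ∘ u
= [ℓ^m], u ∘ v = [ℓ^m]). Let T = T_ℓ X be the Tate module of Ω-points, assumed (as is the case) free
of finite rank over ℤ_ℓ, V = ℚ_ℓ ⊗ T, and ρ(τ) the componentwise Galois action of τ ∈ Aut_k(Ω) on T.
Then for every ℚ_ℓ-subspace W ⊆ V stable under all ρ(τ) there is an element u of ℚ_ℓ ⊗ End_k(X) with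
W = u · V: W is the range of some ℚ_ℓ-linear combination of the endomorphisms V_ℓ(f) = ℚ_ℓ ⊗ T_ℓ(f),
f an endomorphism of X over k. -/
theorem result (k Ω : Type u) [Field k] [Field Ω] [Algebra k Ω] [IsAlgClosure k Ω]
    (l : ℕ) [Fact l.Prime] (hl : (l : k) ≠ 0)
    (X : Over (Spec (CommRingCat.of k)))
    [GrpObj X] [IsCommMonObj X] [IsProper X.hom] [GeometricallyIntegral X.hom]
    (hFin : (∃ (J : Type u) (_ : Finite J) (F : J → Over (Spec (CommRingCat.of k))),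
        ∀ (Y : Over (Spec (CommRingCat.of k))) [GrpObj Y] [IsCommMonObj Y] [IsProper Y.hom] [GeometricallyIntegral Y.hom]
          (u : X ⟶ Y) [IsMonHom u] (v : Y ⟶ X) [IsMonHom v] (m : ℕ),
          u ≫ v = (𝟙 X) ^ (l ^ m) → v ≫ u = (𝟙 Y) ^ (l ^ m) → ∃ i, Nonempty (Y ≅ F i)))
    (ρ : (Ω ≃ₐ[k] Ω) → Module.End ℤ_[l] (AbDual.TateMod X l (SGA7.pt Ω)))
    (hρ : ∀ (τ : Ω ≃ₐ[k] Ω) (z : AbDual.TateMod X l (SGA7.pt Ω)) (m : ℕ),
      (AbDual.TateMod.component X l (SGA7.pt Ω) m (ρ τ z)).toMul =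
        SGA7.galAct τ (AbDual.TateMod.component X l (SGA7.pt Ω) m z).toMul)
    [Module.Free ℤ_[l] (AbDual.TateMod X l (SGA7.pt Ω))] [Module.Finite ℤ_[l] (AbDual.TateMod X l (SGA7.pt Ω))]
    (W : Submodule ℚ_[l] (ℚ_[l] ⊗[ℤ_[l]] AbDual.TateMod X l (SGA7.pt Ω)))
    (hW : ∀ τ : Ω ≃ₐ[k] Ω, W.map ((ρ τ).baseChange ℚ_[l]) ≤ W) :
    ∃ u ∈ Submodule.span ℚ_[l] {ψ : Module.End ℚ_[l] (ℚ_[l] ⊗[ℤ_[l]] AbDual.TateMod X l (SGA7.pt Ω)) |
          ∃ (f : X ⟶ X) (_ : IsMonHom f), ψ = (AbDual.tateMapₗ (l := l) (T := SGA7.pt Ω) f).baseChange ℚ_[l]},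
      LinearMap.range u = W := by
  classical
  let S : Submodule ℤ_[l] (AbDual.TateMod X l (SGA7.pt (K := k) Ω)) :=
    (W.restrictScalars ℤ_[l]).comap (TensorProduct.mk ℤ_[l] ℚ_[l] _ 1)
  have hS : ∀ (τ : Ω ≃ₐ[k] Ω), ∀ z ∈ S, ∀ n, ∃ w ∈ S,
      Groth.Agent.TateSub22.co Ω l n w = SGA7.galAct τ (Groth.Agent.TateSub22.co Ω l n z) := by
    intro τ z hz n
    refine ⟨ρ τ z, ?_, hρ τ z n⟩
    have h := hW τ (Submodule.mem_map_of_mem (f := (ρ τ).baseChange ℚ_[l]) (show (1 : ℚ_[l]) ⊗ₜ[ℤ_[l]] z ∈ W from hz))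
    rwa [LinearMap.baseChange_tmul] at h
  obtain ⟨g, hg, hgS, N, hgw⟩ := Groth.Agent.TateSub22.exists_range Ω l S hl hFin hS
  refine ⟨g.baseChange ℚ_[l], ?_, le_antisymm ?_ ?_⟩
  · clear hgS hgw
    induction hg using Submodule.span_induction with
    | mem x hx =>
      obtain ⟨f, hf, rfl⟩ := hx
      exact Submodule.subset_span ⟨f, hf, rfl⟩
    | zero => rw [LinearMap.baseChange_zero]; exact zero_mem _
    | add x y _ _ hx hy => rw [LinearMap.baseChange_add]; exact add_mem hx hy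
    | smul r x _ hx => rw [LinearMap.baseChange_smul]; exact Submodule.smul_of_tower_mem _ r hx
  · rintro _ ⟨z, rfl⟩
    induction z using TensorProduct.induction_on with
    | zero => rw [map_zero]; exact zero_mem _
    | add x y hx hy => rw [map_add]; exact add_mem hx hy
    | tmul q x =>
      rw [LinearMap.baseChange_tmul, show q ⊗ₜ[ℤ_[l]] g x = q • ((1 : ℚ_[l]) ⊗ₜ[ℤ_[l]] g x) by
        rw [TensorProduct.smul_tmul', smul_eq_mul, _root_.mul_one]]
      exact W.smul_mem q (hgS x)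
  · intro w hw
    have hl0 : ((l : ℚ_[l]) : ℚ_[l]) ≠ 0 := Nat.cast_ne_zero.2 (Fact.out : l.Prime).ne_zero
    obtain ⟨a, t, ht⟩ : ∃ (a : ℕ) (t : AbDual.TateMod X l (SGA7.pt (K := k) Ω)),
        (l : ℚ_[l]) ^ a • w = (1 : ℚ_[l]) ⊗ₜ[ℤ_[l]] t := by
      clear hw
      induction w using TensorProduct.induction_on with
      | zero => exact ⟨0, 0, by rw [smul_zero, TensorProduct.tmul_zero]⟩
      | tmul q x =>
        obtain ⟨a, ha⟩ : ∃ a : ℕ, ‖(l : ℚ_[l]) ^ a * q‖ ≤ 1 := by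
          have h1 : ((l : ℝ))⁻¹ < 1 := inv_lt_one_of_one_lt₀ (by exact_mod_cast (Fact.out : l.Prime).one_lt)
          obtain ⟨a, ha⟩ := exists_pow_lt_of_lt_one (show (0 : ℝ) < (‖q‖ + 1)⁻¹ by positivity) h1
          refine ⟨a, ?_⟩
          rw [norm_mul, norm_pow, Padic.norm_p]
          calc ((l : ℝ))⁻¹ ^ a * ‖q‖ ≤ (‖q‖ + 1)⁻¹ * (‖q‖ + 1) :=
                mul_le_mul ha.le (by linarith) (norm_nonneg _) (by positivity)
            _ = 1 := inv_mul_cancel₀ (by positivity)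
        obtain ⟨c, hc⟩ : ∃ c : ℤ_[l], (c : ℚ_[l]) = (l : ℚ_[l]) ^ a * q := ⟨⟨_, ha⟩, rfl⟩
        refine ⟨a, c • x, ?_⟩
        rw [TensorProduct.smul_tmul', TensorProduct.tmul_smul, TensorProduct.smul_tmul', smul_eq_mul, ← hc,
          Algebra.smul_def, _root_.mul_one, PadicInt.algebraMap_apply]
      | add x y hx hy =>
        obtain ⟨a, s, hs⟩ := hx
        obtain ⟨b, t, ht⟩ := hy
        refine ⟨a + b, (l : ℤ_[l]) ^ b • s + (l : ℤ_[l]) ^ a • t, ?_⟩
        rw [smul_add, TensorProduct.tmul_add, TensorProduct.tmul_smul, TensorProduct.tmul_smul, ← hs, ← ht,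
          ← algebraMap_smul ℚ_[l] ((l : ℤ_[l]) ^ b), ← algebraMap_smul ℚ_[l] ((l : ℤ_[l]) ^ a), smul_smul, smul_smul,
          _root_.map_pow, _root_.map_pow, map_natCast, ← pow_add, ← pow_add, Nat.add_comm b a]
    have htS : t ∈ S := show (1 : ℚ_[l]) ⊗ₜ[ℤ_[l]] t ∈ W from ht ▸ W.smul_mem _ hw
    obtain ⟨x, hx⟩ := hgw t htS
    refine ⟨((l : ℚ_[l]) ^ (N + a))⁻¹ • ((1 : ℚ_[l]) ⊗ₜ[ℤ_[l]] x), ?_⟩
    rw [map_smul, LinearMap.baseChange_tmul, hx, TensorProduct.tmul_smul, ← ht,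
      ← algebraMap_smul ℚ_[l] ((l : ℤ_[l]) ^ N), _root_.map_pow, map_natCast, smul_smul, smul_smul,
      _root_.mul_assoc, ← pow_add, inv_mul_cancel₀ (pow_ne_zero _ hl0), one_smul]

end Groth.Agent.S16851
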