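import Groth.Statements.S16848
import Groth.Agent.Lib.TateSub22.Semisimple
import Groth.Agent.Lib.TateSub22.Graph
import Groth.Agent.Lib.TateSub22.PowSmul
import Groth.Agent.S16851
import Groth.Agent.Lib.AbRigid.Geometric
import Mathlib.LinearAlgebra.Projection

set_option autoImplicit false
universe u
open CategoryTheory MonoidalCategory CartesianMonoidalCategory MonObj GrpObj AlgebraicGeometry
open scoped TensorProduct
open AbVar

namespace Groth.Agent.S16848

/-- Let k be a field with algebraic closure Ω and ℓ a prime number invertible in k. Assume the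
finiteness condition Fin(Z/k, ℓ) for every abelian variety Z over k: up to isomorphism of k-schemes
there are only finitely many abelian varieties Y over k admitting an isogeny Z → Y of ℓ-power degree
(rendered: homomorphisms u : Z → Y, v : Y → Z with v ∘ u = [ℓ^m] and u ∘ v = [ℓ^m]). (The hypothesis
is used only for X and for X × X; it is assumed here for all abelian varieties over k.) Let X be an
abelian variety over k (a proper, geometrically integral commutative group scheme over k), T = T_ℓ X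
its ℓ-adic Tate module of Ω-points, assumed (as is the case) free of finite rank over ℤ_ℓ, V = ℚ_ℓ ⊗
T, and for τ ∈ Aut_k(Ω) let ρ(τ) be the ℤ_ℓ-linear endomorphism of T acting componentwise by the
Galois action of τ (this pins ρ). Then (1) the Galois representation on V is semisimple: every
ℚ_ℓ-subspace of V stable under all ρ(τ) has a complement stable under all ρ(τ); and (2) every
ℚ_ℓ-linear endomorphism of V commuting with all ρ(τ) lies in the ℚ_ℓ-span of the endomorphisms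
V_ℓ(f) = ℚ_ℓ ⊗ T_ℓ(f) induced by endomorphisms f of X defined over k. -/
theorem result (k Ω : Type u) [Field k] [Field Ω] [Algebra k Ω] [IsAlgClosure k Ω]
    (l : ℕ) [Fact l.Prime] (hl : (l : k) ≠ 0)
    (hFin : ∀ (Z : Over (Spec (CommRingCat.of k))) [GrpObj Z] [IsCommMonObj Z] [IsProper Z.hom] [GeometricallyIntegral Z.hom],
      ∃ (J : Type u) (_ : Finite J) (F : J → Over (Spec (CommRingCat.of k))),
        ∀ (Y : Over (Spec (CommRingCat.of k))) [GrpObj Y] [IsCommMonObj Y] [IsProper Y.hom] [GeometricallyIntegral Y.hom]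
          (u : Z ⟶ Y) [IsMonHom u] (v : Y ⟶ Z) [IsMonHom v] (m : ℕ),
          u ≫ v = (𝟙 Z) ^ (l ^ m) → v ≫ u = (𝟙 Y) ^ (l ^ m) → ∃ i, Nonempty (Y ≅ F i))
    (X : Over (Spec (CommRingCat.of k)))
    [GrpObj X] [IsCommMonObj X] [IsProper X.hom] [GeometricallyIntegral X.hom]
    (ρ : (Ω ≃ₐ[k] Ω) → Module.End ℤ_[l] (AbDual.TateMod X l (SGA7.pt Ω)))
    (hρ : ∀ (τ : Ω ≃ₐ[k] Ω) (z : AbDual.TateMod X l (SGA7.pt Ω)) (m : ℕ),
      (AbDual.TateMod.component X l (SGA7.pt Ω) m (ρ τ z)).toMul =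
        SGA7.galAct τ (AbDual.TateMod.component X l (SGA7.pt Ω) m z).toMul)
    [Module.Free ℤ_[l] (AbDual.TateMod X l (SGA7.pt Ω))] [Module.Finite ℤ_[l] (AbDual.TateMod X l (SGA7.pt Ω))] :
    (∀ W : Submodule ℚ_[l] (ℚ_[l] ⊗[ℤ_[l]] AbDual.TateMod X l (SGA7.pt Ω)),
        (∀ τ : Ω ≃ₐ[k] Ω, W.map ((ρ τ).baseChange ℚ_[l]) ≤ W) →
        ∃ W' : Submodule ℚ_[l] (ℚ_[l] ⊗[ℤ_[l]] AbDual.TateMod X l (SGA7.pt Ω)),
          IsCompl W W' ∧ ∀ τ : Ω ≃ₐ[k] Ω, W'.map ((ρ τ).baseChange ℚ_[l]) ≤ W') ∧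
      ∀ φ : Module.End ℚ_[l] (ℚ_[l] ⊗[ℤ_[l]] AbDual.TateMod X l (SGA7.pt Ω)),
        (∀ τ : Ω ≃ₐ[k] Ω, φ ∘ₗ (ρ τ).baseChange ℚ_[l] = (ρ τ).baseChange ℚ_[l] ∘ₗ φ) →
        φ ∈ Submodule.span ℚ_[l] {ψ : Module.End ℚ_[l] (ℚ_[l] ⊗[ℤ_[l]] AbDual.TateMod X l (SGA7.pt Ω)) |
          ∃ (f : X ⟶ X) (_ : IsMonHom f), ψ = (AbDual.tateMapₗ (l := l) (T := SGA7.pt Ω) f).baseChange ℚ_[l]} := by
  classical
  obtain ⟨E, hE, hEspan⟩ := Groth.Agent.TateSub22.exists_subalgebra X Ω l
  haveI := hE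
  have hl0 : (l : ℚ_[l]) ≠ 0 := Nat.cast_ne_zero.2 (Fact.out : l.Prime).ne_zero
  have hEcomm : ∀ e ∈ E, ∀ τ, e * (ρ τ).baseChange ℚ_[l] = (ρ τ).baseChange ℚ_[l] * e := by
    intro e he τ
    rw [← Subalgebra.mem_toSubmodule, hEspan] at he
    induction he using Submodule.span_induction with
    | mem x hx =>
      obtain ⟨f, hf, rfl⟩ := hx
      rw [Module.End.mul_eq_comp, Module.End.mul_eq_comp, ← LinearMap.baseChange_comp, ← LinearMap.baseChange_comp,
        Groth.Agent.TateSub22.map_comm Ω l f τ (ρ τ) (fun z n => hρ τ z n)]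
    | zero => rw [zero_mul, mul_zero]
    | add x y _ _ hx hy => rw [add_mul, mul_add, hx, hy]
    | smul r x _ hx => rw [smul_mul_assoc, mul_smul_comm, hx]
  refine ⟨fun W hW => ?_, fun φ hφ => ?_⟩
  · obtain ⟨u, hu, huW⟩ := Groth.Agent.S16851.result k Ω l hl X (hFin X) ρ hρ W hW
    rw [← hEspan] at hu
    obtain ⟨x, hx⟩ := Groth.Agent.TateSub22.exists_regular (⟨u, hu⟩ : E)
    have hxu : u * (x : Module.End ℚ_[l] _) * u = u := congrArg Subtype.val hx
    have he : IsIdempotentElem (u * (x : Module.End ℚ_[l] _)) := by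
      rw [IsIdempotentElem, ← _root_.mul_assoc, hxu]
    have hrange : LinearMap.range (u * (x : Module.End ℚ_[l] _)) = W := by
      rw [← huW]
      refine le_antisymm (LinearMap.range_comp_le_range _ _) ?_
      conv_lhs => rw [← hxu]
      exact LinearMap.range_comp_le_range _ _
    refine ⟨LinearMap.ker (u * (x : Module.End ℚ_[l] _)), ?_, fun τ => ?_⟩
    · rw [← hrange]
      exact LinearMap.IsIdempotentElem.isCompl he
    · rintro _ ⟨w, hw, rfl⟩
      rw [SetLike.mem_coe, LinearMap.mem_ker] at hw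
      rw [LinearMap.mem_ker, ← Module.End.mul_apply, hEcomm _ (mul_mem hu x.2) τ, Module.End.mul_apply, hw, map_zero]
  · rw [← hEspan, Subalgebra.mem_toSubmodule]
    refine Groth.Agent.TateSub22.mem_of_commutes E φ fun c hc => ?_
    let b := Module.Free.chooseBasis ℤ_[l] (AbDual.TateMod X l (SGA7.pt (K := k) Ω))
    haveI : Fintype (Module.Free.ChooseBasisIndex ℤ_[l] (AbDual.TateMod X l (SGA7.pt (K := k) Ω))) := inferInstance
    choose a t ht using fun i => Groth.Agent.TateSub22.exists_pow_smul_eq l (φ ((1 : ℚ_[l]) ⊗ₜ[ℤ_[l]] b i))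
    let m := ∑ i, a i
    let ψ : Module.End ℤ_[l] (AbDual.TateMod X l (SGA7.pt (K := k) Ω)) :=
      b.constr ℤ_[l] fun i => (l : ℤ_[l]) ^ (m - a i) • t i
    have hψ : ψ.baseChange ℚ_[l] = (l : ℚ_[l]) ^ m • φ := by
      refine (Algebra.TensorProduct.basis ℚ_[l] b).ext fun i => ?_
      rw [Algebra.TensorProduct.basis_apply, LinearMap.baseChange_tmul, LinearMap.smul_apply,
        Module.Basis.constr_basis, TensorProduct.tmul_smul, ← ht, ← algebraMap_smul ℚ_[l] ((l : ℤ_[l]) ^ (m - a i)),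
        smul_smul, _root_.map_pow, map_natCast, ← pow_add,
        Nat.sub_add_cancel (Finset.single_le_sum (fun j _ => Nat.zero_le (a j)) (Finset.mem_univ i))]
    have hψρ : ∀ τ z, ψ (ρ τ z) = ρ τ (ψ z) := fun τ z => by
      apply Groth.Agent.TateSub22.inj_one_tmul Ω l
      show (1 : ℚ_[l]) ⊗ₜ[ℤ_[l]] ψ (ρ τ z) = (1 : ℚ_[l]) ⊗ₜ[ℤ_[l]] ρ τ (ψ z)
      rw [← LinearMap.baseChange_tmul, ← LinearMap.baseChange_tmul, ← LinearMap.baseChange_tmul (f := ρ τ),
        ← LinearMap.baseChange_tmul, hψ, LinearMap.smul_apply, LinearMap.smul_apply, map_smul]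
      exact congrArg _ (LinearMap.congr_fun (hφ τ) _)
    haveI : IsProper (X ⊗ X).hom := inferInstanceAs (IsProper (Limits.pullback.fst X.hom X.hom ≫ X.hom))
    haveI : GeometricallyIntegral (X ⊗ X).hom := Groth.Agent.AbRigid.geometricallyIntegral_tensorObj X X
    have h := Groth.Agent.TateSub22.comm_of_equivariant Ω l hl (hFin (X ⊗ X)) ρ (fun τ z n => hρ τ z n) ψ hψρ c
      (fun f hf => hc _ ((Subalgebra.mem_toSubmodule E).1 (hEspan ▸ Submodule.subset_span ⟨f, hf, rfl⟩)))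
    rw [hψ, smul_mul_assoc, mul_smul_comm] at h
    exact smul_right_injective _ (pow_ne_zero m hl0) h

end Groth.Agent.S16848
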