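import Groth.Statements.S16854
import Mathlib
import Groth.Agent.Lib.SigmaLin.Basic

set_option autoImplicit false
universe u v
open CAlg

namespace Groth.Agent.S16854
open Groth.Agent.SigmaLinLib

/-- Let k be an algebraically closed field of characteristic p > 0, ν ≥ 1, W = W(k) the ring of
p-typical Witt vectors with its Frobenius endomorphism σ, M a finitely generated free W-module and F
: M → M a bijective additive map that is σ^ν-semilinear, F(a·m) = σ^ν(a)·F(m). Then M admits a
W-basis consisting of F-fixed elements; in particular M is spanned over W by M₀ = {m | F(m) = m}, a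
module over the Witt vectors of F_{p^ν}. (The copy allows ν < 0 as well, reducing to F⁻¹; stated
here for ν ≥ 1.) -/
theorem result (k : Type u) [Field k] [IsAlgClosed k]
    (p : ℕ) [Fact p.Prime] [CharP k p] (ν : ℕ) (hν : 1 ≤ ν)
    (M : Type v) [AddCommGroup M] [Module (WittVector p k) M]
    [Module.Finite (WittVector p k) M] [Module.Free (WittVector p k) M]
    (F : M →+ M)
    (hF : ∀ (a : WittVector p k) (m : M), F (a • m) = ((⇑(WittVector.frobenius : WittVector p k →+* WittVector p k))^[ν] a) • F m)
    (hbij : Function.Bijective F) :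
    ∃ (ι : Type v) (b : Module.Basis ι (WittVector p k) M), ∀ i, F (b i) = b i := by
  classical
  let W := WittVector p k
  let b₀ := Module.Free.chooseBasis W M
  have hker : ∀ w : W, w.coeff 0 = 0 ↔ (p : W) ∣ w := fun w => by
    rw [← Ideal.mem_span_singleton, ← WittVector.ker_constantCoeff, RingHom.mem_ker]
    rfl
  have hp0 : ((p : W)).coeff 0 = 0 := (hker _).2 dvd_rfl
  have hfrob : ∀ w : W, ((⇑(WittVector.frobenius : W →+* W))^[ν] w).coeff 0 = w.coeff 0 ^ p ^ ν := by
    intro w
    clear hν hF
    induction ν with
    | zero => simp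
    | succ n ih => rw [Function.iterate_succ_apply', WittVector.coeff_frobenius_charP, ih, ← pow_mul, pow_succ]
  have hfp : ∀ n : ℕ, (⇑(WittVector.frobenius : W →+* W))^[ν] ((p : W) ^ n) = (p : W) ^ n := fun n =>
    Function.iterate_fixed (by rw [map_pow, map_natCast]) ν
  have hFp : ∀ (n : ℕ) (m : M), F ((p : W) ^ n • m) = (p : W) ^ n • F m := fun n m => by rw [hF, hfp]
  -- the reduction of the coordinates
  let π : M →+ (Module.Free.ChooseBasisIndex W M → k) :=
    { toFun := fun m i => (b₀.repr m i).coeff 0
      map_zero' := by ext i; simp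
      map_add' := fun m m' => by
        funext i
        simp only [map_add, Finsupp.add_apply, Pi.add_apply]
        exact map_add (WittVector.constantCoeff (p := p) (R := k)) _ _ }
  have hπsmul : ∀ (w : W) (m : M), π (w • m) = w.coeff 0 • π m := fun w m => by
    ext i
    simp only [π, AddMonoidHom.coe_mk, ZeroHom.coe_mk, map_smul, Finsupp.smul_apply, smul_eq_mul, Pi.smul_apply]
    exact map_mul (WittVector.constantCoeff (p := p) (R := k)) _ _
  have hπsurj : Function.Surjective π := fun c => by
    refine ⟨b₀.equivFun.symm fun i => WittVector.teichmuller p (c i), funext fun i => ?_⟩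
    show (b₀.repr _ i).coeff 0 = c i
    rw [← b₀.equivFun_apply, LinearEquiv.apply_symm_apply, WittVector.teichmuller_coeff_zero]
  have hπker : ∀ m, π m = 0 ↔ ∃ m' : M, m = (p : W) • m' := by
    intro m
    constructor
    · intro h
      choose c hc using fun i => (hker (b₀.repr m i)).1 (congrFun h i)
      refine ⟨b₀.equivFun.symm c, b₀.equivFun.injective (funext fun i => ?_)⟩
      rw [map_smul, LinearEquiv.apply_symm_apply, Pi.smul_apply, smul_eq_mul, ← hc i, b₀.equivFun_apply]
    · rintro ⟨m', rfl⟩; rw [hπsmul, hp0, zero_smul]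
  choose lift hlift using hπsurj
  have hmod : ∀ m m', π m = π m' → π (F m) = π (F m') := by
    intro m m' h
    obtain ⟨z, hz⟩ := (hπker (m - m')).1 (by rw [map_sub, h, sub_self])
    rw [← sub_eq_zero, ← map_sub π, ← map_sub F, hz, ← pow_one (p : W), hFp, pow_one, hπsmul, hp0, zero_smul]
  let φ : (Module.Free.ChooseBasisIndex W M → k) →+ (Module.Free.ChooseBasisIndex W M → k) :=
    AddMonoidHom.mk' (fun c => π (F (lift c))) fun c d => by
      rw [← map_add π, ← map_add F]
      exact hmod _ _ (by rw [map_add, hlift, hlift, hlift])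
  have hφ : ∀ (a : k) c, φ (a • c) = a ^ (p ^ ν) • φ c := by
    intro a c
    show π (F (lift (a • c))) = _
    rw [hmod (lift (a • c)) (WittVector.teichmuller p a • lift c) (by
      rw [hπsmul, hlift, hlift, WittVector.teichmuller_coeff_zero]), hF, hπsmul, hfrob,
      WittVector.teichmuller_coeff_zero]
    rfl
  let T := ofQLinear (k := k) (p := p) (r := ν) φ hφ
  have h1 : Submodule.span k (Set.range ⇑T) = ⊤ := by
    rw [show Set.range ⇑T = Set.univ from ?_, Submodule.span_univ]
    refine Set.eq_univ_of_forall fun c => ?_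
    obtain ⟨m, hm⟩ := hbij.2 (lift c)
    exact ⟨π m, (hmod _ m (hlift _)).trans (by rw [hm, hlift])⟩
  obtain ⟨b, hb⟩ := exists_basis_fixed T h1 (cond2_frobenius k p ν hν) (cond3_frobenius k p ν hν)
  -- `1 - F` is onto
  have hstep : ∀ z : M, ∃ y z', z = (y - F y) + (p : W) • z' := by
    intro z
    obtain ⟨c, hc⟩ := sub_surjective T (cond2_frobenius k p ν hν) (cond3_frobenius k p ν hν) (π z)
    obtain ⟨z', hz'⟩ := (hπker (z - (lift c - F (lift c)))).1 (by
      rw [map_sub, map_sub, hlift, ← hc]
      exact sub_self _)
    exact ⟨lift c, z', by rw [← hz']; abel⟩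
  choose g h hgh using hstep
  have hsurj : ∀ z : M, ∃ y, y - F y = z := by
    intro z
    let s : ℕ → M := fun N => ∑ n ∈ Finset.range N, (p : W) ^ n • g (h^[n] z)
    have hs : ∀ N, z = (s N - F (s N)) + (p : W) ^ N • h^[N] z := by
      intro N
      induction N with
      | zero => simp [s]
      | succ N ih =>
        conv_lhs => rw [ih, hgh (h^[N] z)]
        simp only [s, Finset.sum_range_succ, map_add, hFp, Function.iterate_succ_apply', smul_add, smul_sub,
          pow_succ, mul_smul]
        abel
    have hL : ∀ i, ∃ L : W, ∀ N, b₀.repr (s N) i - L ∈ Ideal.span {(p : W)} ^ N := by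
      intro i
      obtain ⟨L, hL⟩ := IsPrecomplete.prec (I := Ideal.span {(p : W)}) (M := W) inferInstance
        (f := fun N => b₀.repr (s N) i) (fun {m n} hmn => by
          rw [SModEq.sub_mem, smul_eq_mul, Ideal.mul_top]
          induction n, hmn using Nat.le_induction with
          | base => simp
          | succ n hmn ih =>
            have : b₀.repr (s (n + 1)) i = b₀.repr (s n) i + (p : W) ^ n * b₀.repr (g (h^[n] z)) i := by
              simp [s, Finset.sum_range_succ]
            rw [this, ← sub_sub]
            refine Submodule.sub_mem _ ih (Ideal.mul_mem_right _ _ ?_)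
            rw [Ideal.span_singleton_pow, Ideal.mem_span_singleton]
            exact pow_dvd_pow _ hmn)
      exact ⟨L, fun N => by simpa [SModEq.sub_mem, smul_eq_mul, Ideal.mul_top] using hL N⟩
    choose L hL using hL
    refine ⟨b₀.equivFun.symm L, ?_⟩
    set y := b₀.equivFun.symm L
    have hy : ∀ N, ∃ w : M, y = s N + (p : W) ^ N • w := by
      intro N
      have hd : ∀ i, ∃ c, L i = b₀.repr (s N) i + (p : W) ^ N * c := fun i => by
        obtain ⟨c, hc⟩ := Ideal.mem_span_singleton.1 (Ideal.span_singleton_pow (p : W) N ▸ hL i N)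
        exact ⟨-c, by linear_combination -hc⟩
      choose c hc using hd
      refine ⟨b₀.equivFun.symm c, b₀.equivFun.injective (funext fun i => ?_)⟩
      rw [map_add, map_smul, Pi.add_apply, Pi.smul_apply, show b₀.equivFun y = L from b₀.equivFun.apply_symm_apply L,
        show b₀.equivFun (b₀.equivFun.symm c) = c from b₀.equivFun.apply_symm_apply c, b₀.equivFun_apply, smul_eq_mul]
      exact hc i
    refine b₀.equivFun.injective (funext fun i => ?_)
    rw [b₀.equivFun_apply, b₀.equivFun_apply, ← sub_eq_zero]
    refine IsHausdorff.haus (I := Ideal.span {(p : W)}) (M := W) inferInstance _ fun N => ?_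
    rw [SModEq.zero, smul_eq_mul, Ideal.mul_top, Ideal.span_singleton_pow, Ideal.mem_span_singleton]
    obtain ⟨w, hw⟩ := hy N
    have : y - F y - z = (p : W) ^ N • (w - F w - h^[N] z) := by
      conv_lhs => rw [hw, hs N]
      simp only [map_add, hFp, smul_sub]
      abel
    rw [← Finsupp.sub_apply, ← map_sub, this, map_smul]
    exact ⟨_, rfl⟩
  -- fixed lifts form a basis
  have hfix : ∀ i, ∃ m : M, π m = b i ∧ F m = m := by
    intro i
    obtain ⟨z', hz'⟩ := (hπker (F (lift (b i)) - lift (b i))).1 (by
      rw [map_sub, hlift]; exact sub_eq_zero.2 (hb i))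
    obtain ⟨y, hy⟩ := hsurj z'
    refine ⟨lift (b i) + (p : W) • y, by rw [map_add, hlift, hπsmul, hp0, zero_smul, add_zero], ?_⟩
    rw [map_add, ← pow_one (p : W), hFp, pow_one, ← sub_eq_zero]
    rw [show F (lift (b i)) + (p : W) • F y - (lift (b i) + (p : W) • y) =
      (F (lift (b i)) - lift (b i)) - (p : W) • (y - F y) by rw [smul_sub]; abel, hy, hz', sub_self]
  choose e heπ heF using hfix
  have hspan : ⊤ ≤ Submodule.span W (Set.range e) := by
    refine Submodule.le_of_le_smul_of_le_jacobson_bot (I := Ideal.span {(p : W)}) Module.Finite.fg_top ?_ ?_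
    · exact IsAdicComplete.le_jacobson_bot _
    · intro m _
      choose c hc using fun i => (⟨WittVector.teichmuller p (b.repr (π m) i), rfl⟩ :
        ∃ w : W, w = WittVector.teichmuller p (b.repr (π m) i))
      obtain ⟨m', hm'⟩ := (hπker (m - ∑ i, c i • e i)).1 (by
        rw [map_sub, map_sum, sub_eq_zero]
        conv_lhs => rw [← b.sum_repr (π m)]
        exact Finset.sum_congr rfl fun i _ => by rw [hπsmul, heπ, hc, WittVector.teichmuller_coeff_zero])
      rw [show m = (∑ i, c i • e i) + (p : W) • m' by rw [← hm']; abel]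
      exact Submodule.add_mem_sup (Submodule.sum_mem _ fun i _ => Submodule.smul_mem _ _ (Submodule.subset_span ⟨i, rfl⟩))
        (Submodule.smul_mem_smul (Ideal.mem_span_singleton_self _) trivial)
  have hcard : Fintype.card (Fin (Module.finrank k (Module.Free.ChooseBasisIndex W M → k))) = Module.finrank W M := by
    rw [Fintype.card_fin, Module.finrank_fintype_fun_eq_card, Module.finrank_eq_card_basis b₀]
  let B := basisOfTopLeSpanOfCardEqFinrank e hspan hcard
  exact ⟨ULift.{v} _, B.reindex Equiv.ulift.symm, fun i => by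
    rw [Module.Basis.reindex_apply, show ⇑B = e from coe_basisOfTopLeSpanOfCardEqFinrank _ _ _]; exact heF _⟩

end Groth.Agent.S16854
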