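import Groth.Statements.S16856
import Groth.Agent.Lib.FrobPull22.CharFrob
import Groth.Agent.Lib.FrobPull22.Equality

set_option autoImplicit false
universe u
open CategoryTheory MonoidalCategory CartesianMonoidalCategory MonObj GrpObj AlgebraicGeometry
open AbVar

namespace Groth.Agent.S16856

/-- Equality case of the Hasse–Weil–Serre bound: let k be a finite field with q elements and algebraic
closure Ω, ℓ a prime invertible in k, and X an abelian variety over k (a proper, geometrically
integral commutative group scheme over k) of dimension g, with geometric Frobenius π_X (the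
endomorphism that is the identity on points and the q-th power map on sections); assume, as is the
case, that the ℓ-adic Tate module of Ω-points T_ℓ X is free of finite rank over ℤ_ℓ, and let f_X ∈
ℤ[t] be the polynomial mapping to the characteristic polynomial of T_ℓ(π_X) (the characteristic
polynomial of Frobenius). Put m = ⌊2√q⌋. Then |trace(π_X)| = g·m (equality in the bound |trace(π_X)|
≤ g·m; the trace is minus the second-highest coefficient of f_X) if and only if either α + q/α = m
for every root α of f_X or α + q/α = −m for every root, i.e. if and only if f_X = (t² − m t + q)^g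
or f_X = (t² + m t + q)^g. -/
theorem result (k Ω : Type u) [Field k] [Finite k] [Field Ω] [Algebra k Ω] [IsAlgClosure k Ω]
    (l : ℕ) [Fact l.Prime] (hl : (l : k) ≠ 0) (X : Over (Spec (CommRingCat.of k)))
    [GrpObj X] [IsCommMonObj X] [IsProper X.hom] [GeometricallyIntegral X.hom]
    (g : ℕ) (hg : topologicalKrullDim X.left = g)
    (πX : X ⟶ X) [IsMonHom πX] (hπb : πX.left.base = 𝟙 _)
    (hπle : ∀ U : X.left.Opens, U ≤ πX.left ⁻¹ᵁ U)
    (hπapp : ∀ (U : X.left.Opens) (s : Γ(X.left, U)), (πX.left.appLE U U (hπle U)).hom s = s ^ Nat.card k)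
    [Module.Free ℤ_[l] (AbDual.TateMod X l (SGA7.pt Ω))] [Module.Finite ℤ_[l] (AbDual.TateMod X l (SGA7.pt Ω))]
    (P : Polynomial ℤ) (hP : (AbDual.tateMapₗ (l := l) (T := SGA7.pt Ω) πX).charpoly = P.map (Int.castRingHom ℤ_[l])) :
    |(P.nextCoeff : ℝ)| = (g : ℝ) * (⌊2 * Real.sqrt (Nat.card k)⌋ : ℝ) ↔
      (P = (Polynomial.X ^ 2 - Polynomial.C ⌊2 * Real.sqrt (Nat.card k)⌋ * Polynomial.X + Polynomial.C (Nat.card k : ℤ)) ^ g ∨
        P = (Polynomial.X ^ 2 + Polynomial.C ⌊2 * Real.sqrt (Nat.card k)⌋ * Polynomial.X + Polynomial.C (Nat.card k : ℤ)) ^ g) := by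
  haveI : IsAlgClosed Ω := IsAlgClosure.isAlgClosed k
  haveI := GeometricallyIntegral.isIntegral_of_subsingleton X.hom
  obtain ⟨hm, hd, -⟩ := FrobPull22.charpoly_spec Ω hl hg (EndAV.End.of πX) hP
  have hroots := FrobPull22.norm_root_charpoly Ω πX hπle Nat.card_pos.ne' hπapp hP
  set m := ⌊2 * Real.sqrt (Nat.card k)⌋ with hmdef
  have hm0 : 0 ≤ m := Int.floor_nonneg.2 (by positivity)
  constructor
  · intro h
    rcases abs_choice (P.nextCoeff : ℝ) with hc | hc
    · refine Or.inr ?_
      have := FrobPull22.eq_pow_of_extremal Nat.card_pos.ne' hm hd hroots 1 (Or.inl rfl)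
        (by rw [Int.cast_one, _root_.one_mul, ← hmdef, ← h, hc])
      simpa using this
    · refine Or.inl ?_
      have := FrobPull22.eq_pow_of_extremal Nat.card_pos.ne' hm hd hroots (-1) (Or.inr rfl)
        (by rw [Int.cast_neg, Int.cast_one, neg_one_mul, ← hmdef, ← h, hc])
      simpa [sub_eq_add_neg] using this
  · have key : ∀ a : ℤ, P = (Polynomial.X ^ 2 + Polynomial.C a * Polynomial.X + Polynomial.C (Nat.card k : ℤ)) ^ g →
        |(P.nextCoeff : ℝ)| = (g : ℝ) * |(a : ℝ)| := by
      intro a hPe
      have hh : (Polynomial.X ^ 2 + Polynomial.C a * Polynomial.X + Polynomial.C (Nat.card k : ℤ)).Monic := by monicity!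
      have hd2 : (Polynomial.X ^ 2 + Polynomial.C a * Polynomial.X + Polynomial.C (Nat.card k : ℤ)).natDegree = 2 := by
        compute_degree!
      rw [hPe, hh.nextCoeff_pow, nsmul_eq_mul, Polynomial.nextCoeff_of_natDegree_pos (by rw [hd2]; norm_num)]
      rw [hd2]
      simp [Polynomial.coeff_X_pow, Polynomial.coeff_C, abs_mul]
    rintro (h | h)
    · rw [key (-m) (by simpa [sub_eq_add_neg] using h)]
      push_cast
      rw [abs_neg, abs_of_nonneg (by exact_mod_cast hm0)]
    · rw [key m h, abs_of_nonneg (by exact_mod_cast hm0)]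

end Groth.Agent.S16856
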