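import Groth.Statements.S16859
import Groth.Agent.Lib.AutGrp14.Basic
import Groth.Agent.Lib.StQuotDiag14.Basic

set_option autoImplicit false
universe u
open CategoryTheory CategoryTheory.Limits AlgebraicGeometry
open AlgSt

namespace Groth.Agent.S16859

/-- Let `𝒳` be an algebraic stack over a scheme `S` (fppf topology) whose diagonal over `S` is
representable by algebraic spaces and quasi-affine. Let `k` be a field with a morphism `Spec k → S`,
let `x : (Sch/Spec k) → 𝒳` be a functor over `(Sch/S)` (a `k`-valued point of `𝒳`), and let `G` be a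
group scheme over `Spec k` representing the automorphism presheaf of `x` on schemes over `Spec k`
(the stabilizer group scheme of `x`). Then `G` is affine and locally of finite type over `k`, i.e.
an affine algebraic group. (The published statement is over the base `Spec ℤ`; the same argument
applies to the diagonal over any base scheme.) -/
theorem result (S : Scheme.{u})
    (𝒳 : AlgSt.Cat S) (h𝒳 : AlgSt.IsAlgStack Scheme.fppfPrecoverage 𝒳)
    (hΔ : AlgSt.RepByAlgSpWith AlgSp.IsQuasiAffineMor (FibCat.diag (FibCat.toSelf 𝒳)))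
    (k : Type u) [Field k] (p : Spec (CommRingCat.of k) ⟶ S)
    (x : FibCat.overCat (Over.mk p) ⥤ᵇ 𝒳) (G : Over (Over.mk p).left) [GrpObj G]
    (hG : Gerb.AutRep x (Gerb.ptsGrp (Over.mk p) G)) :
    IsAffine G.left ∧ LocallyOfFiniteType G.hom := by
  haveI : IsAffine (Over.mk p).left := inferInstanceAs (IsAffine (Spec (CommRingCat.of k)))
  have hl := Groth.Agent.AutGrp14.prop_proj x G hG h𝒳.isStack.1 Groth.Agent.StAlg.pbP_locP
    Groth.Agent.StAlg.isLocalOnBase_fppf_locP_lft (Groth.Agent.StAlg.lft_diag_toSelf h𝒳)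
  have hq := Groth.Agent.AutGrp14.prop_proj x G hG h𝒳.isStack.1 Groth.Agent.StQuotDiag14.pbP_isQuasiAffineMor
    (Groth.Agent.StAlg.isLocalOnBase_fppf_of_fpqc Groth.Agent.Gabber15.isLocalOnBase_fpqc_isQuasiAffineMor) hΔ
  obtain ⟨W, i, fst, sq, hW⟩ := hq (Z := Over.mk p) ‹_› (𝟙 _)
  haveI : IsIso fst := sq.isIso_fst_of_isIso
  let j := (AlgSp.yon S).preimageIso (asIso fst)
  haveI : ((Over.forget S).obj W).IsQuasiAffine := hW
  haveI : G.left.IsQuasiAffine :=
    Groth.Agent.QA11.isQuasiAffine_of_iso ((Over.forget S).mapIso j.symm).hom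
  exact ⟨Groth.Agent.AffGrp19.isAffine_of_quasiAffine (k := k) (G := G),
    (Groth.Agent.StAlg16.locP_yon_iff (R := @LocallyOfFiniteType) (Groth.Agent.AutGrp14.proj G)).1 hl⟩

end Groth.Agent.S16859
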