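import Groth.Statements.S16860
import Groth.Agent.Lib.GerbAbs16.Apps
import Groth.Agent.Lib.GerbAbs16.OfCover

set_option autoImplicit false
universe u
open CategoryTheory AlgebraicGeometry
open Gerb

set_option backward.isDefEq.respectTransparency false
set_option backward.isDefEq.respectTransparency.types false

namespace Groth.Agent.S16860

/-- For a morphism f of algebraic stacks, the source is a gerbe over the target along f if and only if f
and its diagonal are both surjective, flat and locally of finite presentation. -/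
theorem result
    (S : Scheme.{u}) (𝒳 𝒴 : AlgSt.Cat S)
    (h𝒳 : AlgSt.IsAlgStack Scheme.fppfPrecoverage 𝒳) (h𝒴 : AlgSt.IsAlgStack Scheme.fppfPrecoverage 𝒴)
    (f : 𝒳 ⥤ᵇ 𝒴) :
    Gerb.IsGerbeOver (QuotSh.J Scheme.fppfPrecoverage S) f ↔
      (AlgSt.IsSurjective f ∧ AlgSt.LocQ (AlgSp.LocP @Flat) f ∧
        AlgSt.LocQ (AlgSp.LocP @LocallyOfFinitePresentation) f) ∧
      (AlgSt.IsSurjective (FibCat.diag f) ∧ AlgSt.LocQ (AlgSp.LocP @Flat) (FibCat.diag f) ∧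
        AlgSt.LocQ (AlgSp.LocP @LocallyOfFinitePresentation) (FibCat.diag f)) := by
  refine ⟨fun hf => ⟨⟨Groth.Agent.GerbAbs.Chart.isSurjective h𝒳 h𝒴 hf, Groth.Agent.GerbAbs.Chart.locQ_flat h𝒳 h𝒴 hf,
    Groth.Agent.GerbAbs.Chart.locQ_lfp h𝒳 h𝒴 hf⟩, Groth.Agent.GerbAbs.Chart.diag_triple h𝒳 h𝒴 hf⟩, ?_⟩
  rintro ⟨⟨h₁, h₂, h₃⟩, h₄, h₅, h₆⟩
  exact Groth.Agent.GerbAbs.OfCover.isGerbeOver h𝒳 h𝒴 h₁ h₂ h₃ h₄ h₅ h₆

end Groth.Agent.S16860
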