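import Groth.Statements.S16861
import Groth.Agent.Lib.AlgGerbe16.Space
import Groth.Agent.Lib.AlgGerbe16.InertiaComp

set_option autoImplicit false
universe u
open CategoryTheory AlgebraicGeometry
open Gerb

set_option backward.isDefEq.respectTransparency false
set_option backward.isDefEq.respectTransparency.types false

namespace Groth.Agent.S16861

/-- An algebraic stack is a gerbe (over some algebraic space) exactly when its inertia is flat and
locally of finite presentation over it. -/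
theorem result
    (S : Scheme.{u}) (𝒳 : AlgSt.Cat S) (h𝒳 : AlgSt.IsAlgStack Scheme.fppfPrecoverage 𝒳) :
    Gerb.IsAlgGerbe Scheme.fppfPrecoverage 𝒳 ↔
      AlgSt.LocQ (AlgSp.LocP @Flat) (FibCat.inertiaToBase (FibCat.toSelf 𝒳)) ∧
        AlgSt.LocQ (AlgSp.LocP @LocallyOfFinitePresentation) (FibCat.inertiaToBase (FibCat.toSelf 𝒳)) := by
  constructor
  · rintro ⟨X, π, hπ⟩
    exact Groth.Agent.AlgGerbe16.locQ_inertia_of_isGerbeOver π h𝒳 X.property hπ
  · rintro ⟨h₁, h₂⟩
    exact ⟨⟨Groth.Agent.AlgGerbe16.clsSp h𝒳.isStack.1,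
      Groth.Agent.AlgGerbe16.isAlgSpace_clsSp h𝒳.isStack.1 h𝒳 h₁ h₂⟩,
      Groth.Agent.AlgGerbe16.π h𝒳.isStack.1, Groth.Agent.AlgGerbe16.isGerbeOver h𝒳.isStack.1⟩

end Groth.Agent.S16861
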