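import Groth.Statements.S16870
import Groth.Agent.Lib.GerbAbs16.Apps
import Groth.Agent.Lib.StAlg16.QSBase

set_option autoImplicit false
universe u
open CategoryTheory AlgebraicGeometry
open Gerb

set_option backward.isDefEq.respectTransparency false
set_option backward.isDefEq.respectTransparency.types false

namespace Groth.Agent.S16870

/-- If f : 𝒳 → 𝒴 makes 𝒳 a gerbe over 𝒴 and the diagonal of 𝒳 over the base scheme is quasi-compact,
then the diagonal of 𝒴 over the base scheme is quasi-compact. -/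
theorem result
    (S : Scheme.{u}) (𝒳 𝒴 : AlgSt.Cat S)
    (h𝒳 : AlgSt.IsAlgStack Scheme.fppfPrecoverage 𝒳) (h𝒴 : AlgSt.IsAlgStack Scheme.fppfPrecoverage 𝒴)
    (f : 𝒳 ⥤ᵇ 𝒴) (hf : Gerb.IsGerbeOver (QuotSh.J Scheme.fppfPrecoverage S) f)
    (hΔ : AlgSt.IsQuasiCompactMor Scheme.fppfPrecoverage (FibCat.diag (FibCat.toSelf 𝒳))) :
    AlgSt.IsQuasiCompactMor Scheme.fppfPrecoverage (FibCat.diag (FibCat.toSelf 𝒴)) := by
  have hS := Groth.Agent.StAlg16.isAlgStack_selfOver (S := S)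
  let s := FibCat.toSelf 𝒴
  let F := BasedFunctor.comp f s
  have hFe : F = FibCat.toSelf 𝒳 := Groth.Agent.FC16.selfOver_functor_eq _ _
  have hXX := Groth.Agent.StAlg.isAlgStack_fp hS.isStack hS.diag h𝒳 h𝒳 F F
  have hYY := Groth.Agent.StAlg.isAlgStack_fp hS.isStack hS.diag h𝒴 h𝒴 s s
  have hΔ' : AlgSt.IsQuasiCompactMor Scheme.fppfPrecoverage (FibCat.diag F) := by
    rw [hFe]; exact hΔ
  have hff := Groth.Agent.StAlg.isAlgStack_fp h𝒴.isStack h𝒴.diag h𝒳 h𝒳 f f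
  -- the comparison is quasi-compact
  have hc := Groth.Agent.StAlg16.isQuasiCompactMor_of_triangle h𝒳 hff hXX
    (f := FibCat.diag f) (q := Groth.Agent.StAlg.cmp f f s) (p := FibCat.diag F)
    (Groth.Agent.StAlg.isoToFp (Iso.refl _) (Iso.refl _)) (Groth.Agent.GerbAbs.Chart.diag_triple h𝒳 h𝒴 hf).1 hΔ'
  -- hence so is the base change of the diagonal along `f × f`
  let z := Groth.Agent.FC16.pair (g := s) (F := f) (G := f) (Iso.refl F) (Iso.refl F)
  have hE₀ := Groth.Agent.FC16.diagFun_isEquivOver (g := s) (F := f) (G := f) (Iso.refl F) (Iso.refl F)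
  obtain ⟨E, hE, -, ⟨β⟩⟩ := Groth.Agent.FC16.exists_inverse hE₀
  have hfp := Groth.Agent.StAlg.isAlgStack_fp hYY.isStack hYY.diag hXX h𝒴 z (FibCat.diag s)
  let j : BasedFunctor.comp (Groth.Agent.FC16.diagFun (g := s) (F := f) (G := f) (Iso.refl F) (Iso.refl F))
      (Groth.Agent.StAlg.cmp f f s) ≅ FibCat.fpFst z (FibCat.diag s) :=
    Groth.Agent.StAlg.isoToFp (Iso.refl _) (Iso.refl _)
  have hb := Groth.Agent.StAlg16.isQuasiCompactMor_of_triangle hff hfp hXX (f := E)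
    (q := FibCat.fpFst z (FibCat.diag s))
    (Groth.Agent.FC16.wlIso E j.symm ≪≫ Groth.Agent.StAlg.wrIso β (Groth.Agent.StAlg.cmp f f s))
    (Groth.Agent.StAlg16.map_bijective hE).2 hc
  -- `f × f` is a gerbe
  haveI := Groth.Agent.StAlg.idFun_full (𝒳 := FibCat.selfOver (Over S))
  haveI := Groth.Agent.StAlg.idFun_faithful (𝒳 := FibCat.selfOver (Over S))
  let J := QuotSh.J Scheme.fppfPrecoverage S
  have gX := h𝒳.isStack.1
  have gY := h𝒴.isStack.1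
  have gS := hS.isStack.1
  have g₁ := Groth.Agent.FC16.fp_isFibGrpd gY gX gS s F
  have g₀ := Groth.Agent.FC16.fp_isFibGrpd gX gX gS F F
  let M₁ := Groth.Agent.FC16.fpMap (F := F) (G := F) (F' := s) (G' := F) (a := f) (b := BasedFunctor.id 𝒳)
    (s := BasedFunctor.id (FibCat.selfOver (Over S))) (Iso.refl _) (Iso.refl _)
  let M₂ := Groth.Agent.FC16.fpMap (F := s) (G := F) (F' := s) (G' := s) (a := BasedFunctor.id 𝒴) (b := f)
    (s := BasedFunctor.id (FibCat.selfOver (Over S))) (Iso.refl _) (Iso.refl _)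
  obtain ⟨E₁, hE₁, -, ⟨β₁⟩⟩ := Groth.Agent.FC16.exists_inverse (Groth.Agent.FC16.pasteL_isEquivOver f s F)
  obtain ⟨E₂, hE₂, -, ⟨β₂⟩⟩ := Groth.Agent.FC16.exists_inverse (Groth.Agent.FC16.pasteR_isEquivOver s s f)
  have gP₁ := Groth.Agent.FC16.fp_isFibGrpd gX g₁ gY f (FibCat.fpFst s F)
  have gP₂ := Groth.Agent.FC16.fp_isFibGrpd (Groth.Agent.FC16.fp_isFibGrpd gY gY gS s s) gX gY (FibCat.fpSnd s s) f
  have k₁ : Gerb.IsGerbeOver J M₁ :=
    Groth.Agent.GerbAbs.isGerbeOver_of_iso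
      ((Groth.Agent.StAlg.wrIso β₁.symm M₁ ≪≫ Groth.Agent.FC16.wlIso E₁ (Groth.Agent.StAlg.pasteLMapIso f s F)).symm)
      (Groth.Agent.GerbAbs.isGerbeOver_comp g₀ gP₁ (Groth.Agent.GerbAbs.isGerbeOver_of_isEquivOver g₀ hE₁)
        (Groth.Agent.GerbAbs.isGerbeOver_of_iso (F := BasedFunctor.comp (Groth.Agent.StAlg.fpSwap f (FibCat.fpFst s F))
            (FibCat.fpFst (FibCat.fpFst s F) f)) (Iso.refl _)
          (Groth.Agent.GerbAbs.isGerbeOver_comp gP₁ (Groth.Agent.FC16.fp_isFibGrpd g₁ gX gY _ _)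
            (Groth.Agent.GerbAbs.isGerbeOver_of_isEquivOver gP₁ (Groth.Agent.StAlg.fpSwap_isEquivOver _ _))
            (Groth.Agent.GerbAbs.isGerbeOver_fpFst g₁ gY _ hf))))
  have k₂ : Gerb.IsGerbeOver J M₂ :=
    Groth.Agent.GerbAbs.isGerbeOver_of_iso
      ((Groth.Agent.StAlg.wrIso β₂.symm M₂ ≪≫ Groth.Agent.FC16.wlIso E₂ (Groth.Agent.StAlg.pasteRMapIso s s f)).symm)
      (Groth.Agent.GerbAbs.isGerbeOver_comp g₁ gP₂ (Groth.Agent.GerbAbs.isGerbeOver_of_isEquivOver g₁ hE₂)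
        (Groth.Agent.GerbAbs.isGerbeOver_fpFst (Groth.Agent.FC16.fp_isFibGrpd gY gY gS s s) gY _ hf))
  have k : Gerb.IsGerbeOver J z :=
    Groth.Agent.GerbAbs.isGerbeOver_of_iso (F := BasedFunctor.comp M₁ M₂)
      (Groth.Agent.StAlg.isoToFp (Iso.refl _) (Iso.refl _))
      (Groth.Agent.GerbAbs.isGerbeOver_comp g₀ g₁ k₁ k₂)
  exact Groth.Agent.StAlg16.isQuasiCompactMor_of_cover h𝒴 hYY hXX z (Groth.Agent.GerbAbs.Chart.locQ_flat hXX hYY k)
    (Groth.Agent.GerbAbs.Chart.locQ_lfp hXX hYY k) (Groth.Agent.GerbAbs.Chart.isSurjective hXX hYY k) hb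

end Groth.Agent.S16870
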