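import Groth.Statements.S16871
import Groth.Agent.S16869
import Groth.Agent.Lib.ResGerb16.Image
import Groth.Agent.Lib.Residual14.Main
import Groth.Agent.Lib.StAlg16.QCMor

set_option autoImplicit false
universe u
open CategoryTheory AlgebraicGeometry
open Gerb

set_option backward.isDefEq.respectTransparency false
set_option backward.isDefEq.respectTransparency.types false

namespace Groth.Agent.S16871

/-- If an algebraic stack is a gerbe (over some algebraic space), then the residual gerbe exists at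
every one of its points. (Non-triviality of the conclusion rests on the monomorphism condition.) -/
theorem result
    (S : Scheme.{u}) (𝒳 : AlgSt.Cat S) (h𝒳 : AlgSt.IsAlgStack Scheme.fppfPrecoverage 𝒳)
    (X : AlgSp.Space S) (π : 𝒳 ⥤ᵇ AlgSt.ofSp X.obj)
    (hπ : Gerb.IsGerbeOver (QuotSh.J Scheme.fppfPrecoverage S) π) (x : AlgSt.Points 𝒳) :
    Gerb.ResGerbeExists Scheme.fppfPrecoverage 𝒳 x := by
  have hX := Groth.Agent.StAlg16.isAlgStack_ofSp X.property
  obtain ⟨Z, i, hi, hr, k, _, str, p, -, -, hps⟩ :=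
    Groth.Agent.Residual14.exists_residual X (Groth.Agent.StAlg16.spPts (AlgSt.Points.map π x))
  have hZ := Groth.Agent.StAlg16.isAlgStack_ofSp Z.property
  let g := AlgSt.ofSpMap i.hom
  haveI : Mono i.hom.hom := by
    exact inferInstanceAs (Mono ((sheafToPresheaf _ _).map i.hom))
  haveI : g.toFunctor.Full := Groth.Agent.StAlg16.ofPshMap_full i.hom.hom fun T => (mono_iff_injective _).1 inferInstance
  haveI : g.toFunctor.Faithful := ⟨fun {_ _} {φ ψ} h => by
    have h' := congrArg Stk.EltObj.Hom.hom h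
    exact Stk.EltObj.hom_ext h'⟩
  have hg := Groth.Agent.StAlg16.isMono_of_fullyFaithful hZ hX g
  have hh := Groth.Agent.S16869.result S 𝒳 (AlgSt.ofSp X.obj) h𝒳 hX π hπ (AlgSt.ofSp Z.obj) hZ g
  haveI := Groth.Agent.Residual14.subsingleton_points hps
  haveI hZs : Subsingleton (AlgSt.Points (AlgSt.ofSp Z.obj)) := Groth.Agent.StAlg16.spPts_bijective.1.subsingleton
  obtain ⟨y, hy⟩ : ∃ y : AlgSt.Points (AlgSt.ofSp Z.obj), AlgSt.Points.map g y = AlgSt.Points.map π x := by
    obtain ⟨z, hz⟩ : Groth.Agent.StAlg16.spPts (AlgSt.Points.map π x) ∈ Set.range (AlgSp.Points.map i.hom) := by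
      rw [hr]; rfl
    obtain ⟨y, rfl⟩ := Groth.Agent.StAlg16.spPts_bijective.2 z
    exact ⟨y, Groth.Agent.StAlg16.spPts_bijective.1 ((Groth.Agent.StAlg16.spPts_map i.hom y).trans hz)⟩
  obtain ⟨w, -, hw⟩ := Groth.Agent.StAlg16.exists_fp_point h𝒳.isStack.1 hX.isStack.1 hZ.isStack.1 π g y x hy
  haveI : Subsingleton (AlgSt.Points (FibCat.fp g π)) := hh.bijective.1.subsingleton
  exact ⟨FibCat.fp g π, FibCat.fpSnd g π, Groth.Agent.StAlg.isAlgStack_fp hX.isStack hX.diag hZ h𝒳 g π,
    Groth.Agent.StAlg.with_fpSnd π hg, ⟨w⟩, inferInstance, fun q => by rw [Subsingleton.elim q w, hw]⟩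

end Groth.Agent.S16871
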