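import Groth.Statements.S16877
import Groth.Agent.Lib.GerbAbs16.Space

set_option autoImplicit false
universe u
open CategoryTheory AlgebraicGeometry Opposite
open Gerb

namespace Groth.Agent.S16877
set_option linter.style.haveILetI false
set_option backward.isDefEq.respectTransparency false
set_option backward.isDefEq.respectTransparency.types false


/-- If π : 𝒳 → X makes the algebraic stack 𝒳 a gerbe over the algebraic space X, then X is the fppf
sheafification of the presheaf of isomorphism classes of objects of 𝒳: the map of presheaves sending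
the class of an object x to the section π(x) of X is locally surjective and locally injective.
(Consequently the space over which a gerbe lives is determined by the gerbe.) -/
theorem result
    (S : Scheme.{u}) (𝒳 : AlgSt.Cat S) (h𝒳 : AlgSt.IsAlgStack Scheme.fppfPrecoverage 𝒳)
    [FibCat.IsFibGrpd 𝒳.p]
    (X : AlgSp.Space S) (π : 𝒳 ⥤ᵇ AlgSt.ofSp X.obj)
    (hπ : Gerb.IsGerbeOver (QuotSh.J Scheme.fppfPrecoverage S) π) :
    ∃ c : Gerb.isoClPsh 𝒳 ⟶ X.obj.obj,
      (∀ x : 𝒳.obj, c.app (op (𝒳.p.obj x)) (Quot.mk _ (Gerb.fib x)) =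
          X.obj.obj.map (eqToHom (π.w_obj x).symm).op (π.obj x).sec) ∧
      Presheaf.IsLocallySurjective (QuotSh.J Scheme.fppfPrecoverage S) c ∧
      Presheaf.IsLocallyInjective (QuotSh.J Scheme.fppfPrecoverage S) c := by
  open Groth.Agent.GerbAbs in
  have hpull : ∀ {U V : Over S} (f : V ⟶ U) (a : 𝒳.p.Fiber U), 𝒳.p.IsHomLift f
      (Gerb.pullHom 𝒳 a.1 (f ≫ eqToHom a.2.symm)) := fun {U V} f a =>
    IsHomLift.of_fac' 𝒳.p f _ (Gerb.pull_over 𝒳 _ _) a.2 (by rw [Gerb.pullHom_map])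
  let c : Gerb.isoClPsh 𝒳 ⟶ X.obj.obj :=
    { app := fun U => ↾Quot.lift (fun a : 𝒳.p.Fiber U.unop => AlgSt.fibSec π a)
        (fun a a' ⟨k⟩ => Groth.Agent.GerbAbs.fibSec_eq_of_hom π k)
      naturality := fun U V f => by
        ext ⟨a⟩
        let k := π.map (Gerb.pullHom 𝒳 a.1 (f.unop ≫ eqToHom a.2.symm))
        haveI := hpull f.unop a
        haveI : (Stk.EltObj.forget X.obj.obj).IsHomLift f.unop k := BasedFunctor.preserves_isHomLift π f.unop _
        have hk := IsHomLift.fac' (Stk.EltObj.forget X.obj.obj) f.unop k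
        change AlgSt.fibSec π (Gerb.pullFib 𝒳 f.unop a) = X.obj.obj.map f (AlgSt.fibSec π a)
        change X.obj.obj.map _ (π.obj (Gerb.pull 𝒳 a.1 _)).sec = X.obj.obj.map f (X.obj.obj.map _ (π.obj a.1).sec)
        rw [← k.map_sec, ← Functor.map_comp_apply, ← Functor.map_comp_apply]
        have hk' : k.hom = _ := hk
        rw [hk']
        exact congrArg (fun q => X.obj.obj.map q (π.obj a.1).sec) (Quiver.Hom.unop_inj (by simp)) }
  refine ⟨c, fun x => rfl, ⟨fun {U} s => ?_⟩, ⟨fun {U} A B h => ?_⟩⟩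
  · obtain ⟨R, hR, hl⟩ := Groth.Agent.GerbAbs.locSurjObj_at _ hπ.1 (⟨U, s⟩ : Stk.EltObj X.obj.obj) (U := U) rfl
    refine GrothendieckTopology.superset_covering _ (fun V f hf => ?_) hR
    obtain ⟨x, g, hg⟩ := hl f hf
    haveI := hg
    have hx : (π.obj x).base = V := IsHomLift.domain_eq (AlgSt.ofSp X.obj).p f g
    have hgh : g.hom = eqToHom hx ≫ f := by simpa using IsHomLift.fac' (AlgSt.ofSp X.obj).p f g
    refine ⟨Quot.mk _ ⟨x, (π.w_obj x).symm.trans hx⟩, ?_⟩
    change X.obj.obj.map _ (π.obj x).sec = X.obj.obj.map f.op s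
    rw [← g.map_sec, hgh, ← Functor.map_comp_apply, ← op_comp]
    simp
  · obtain ⟨a⟩ := A
    obtain ⟨b⟩ := B
    change AlgSt.fibSec π a = AlgSt.fibSec π b at h
    have ha := (π.w_obj a.1).trans a.2
    have hb := (π.w_obj b.1).trans b.2
    let k : π.obj a.1 ⟶ π.obj b.1 := ⟨eqToHom (ha.trans hb.symm), by
      have h' := congrArg (X.obj.obj.map (eqToHom ha).op) h
      simp only [AlgSt.fibSec, ← Functor.map_comp_apply, ← op_comp, eqToHom_trans] at h'
      simpa using h'.symm⟩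
    obtain ⟨R, hR, hl⟩ := Groth.Agent.GerbAbs.locSurjHom_at _ hπ.2 a.1 b.1 k a.2
      (IsHomLift.of_fac' (AlgSt.ofSp X.obj).p _ _ ha hb (by simp [k]))
    refine GrothendieckTopology.superset_covering _ (fun V f hf => ?_) hR
    obtain ⟨x₀, φ, ψ, hφ, hψ, -⟩ := hl f hf
    have hx₀ : 𝒳.p.obj x₀ = V := Groth.Agent.GerbAbs.domEq hφ
    change Quot.mk _ (Gerb.pullFib 𝒳 f a) = Quot.mk _ (Gerb.pullFib 𝒳 f b)
    have key : ∀ (a : 𝒳.p.Fiber U.unop) (φ : x₀ ⟶ a.1), 𝒳.p.IsHomLift f φ →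
        Quot.mk (Gerb.IsoRel 𝒳 V) (⟨x₀, hx₀⟩ : 𝒳.p.Fiber V) = Quot.mk _ (Gerb.pullFib 𝒳 f a) := by
      intro a φ hφ
      obtain ⟨χ, hχ, -⟩ := Gerb.exists_hom_pull 𝒳 a.1 (f ≫ eqToHom a.2.symm) φ (by
        haveI := hφ
        refine IsHomLift.of_fac' 𝒳.p _ _ hx₀ rfl ?_
        rw [IsHomLift.fac' 𝒳.p f φ]
        simp)
      exact Quot.sound ⟨⟨χ, hχ⟩⟩
    exact (key a φ hφ).symm.trans (key b ψ hψ)

end Groth.Agent.S16877
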