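import Groth.Statements.S1688
import Groth.Agent.Lib.RefHull26.Free
import Groth.Agent.Lib.AlgSpRel14.FlatDim
-- import your own Groth.Agent.* helpers here

set_option autoImplicit false
universe u
open CategoryTheory CategoryTheory.Limits AlgebraicGeometry TopologicalSpace
open SDiv

namespace Groth.Agent.S1688

/-- Let X be a locally Noetherian integral scheme of dimension at most 1 all of whose local rings are
regular, and F a coherent module on X. Then F is torsion free (every stalk is a torsion-free module
over the local ring) if and only if F is finite locally free. -/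
theorem result (X : Scheme.{u}) [IsIntegral X] [IsLocallyNoetherian X] (hreg : ∀ x : ↥X, IsRegularLocalRing (X.presheaf.stalk x))
    (hdim : topologicalKrullDim ↥X ≤ 1) (F : X.Modules) (hF : Coh.IsCoh F) :
    (∀ x : ↥X, NoZeroSMulDivisors (X.presheaf.stalk x) (F.presheaf.stalk x)) ↔ FlatMod.IsFinLocFree F := by
  have hX := Groth.Agent.RH26.isNormalScheme_of_regular hreg
  constructor
  · intro h
    refine Groth.Agent.RH26.isFinLocFree_of_stalks hF fun x => ?_
    haveI := Groth.Agent.RH26.isPrincipalIdealRing_stalk hX ((Groth.Agent.AlgSpRel14.stalkDim_le_dim X x).trans hdim)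
    haveI := h x
    haveI : Module.IsTorsionFree (X.presheaf.stalk x) (F.presheaf.stalk x) := inferInstance
    exact Groth.Agent.RH26.free_of_isPrincipal hF
  · intro h x
    haveI := ((Groth.Agent.M1.isFinLocFree_iff F).1 h).2 x
    exact ⟨fun {r v} h => smul_eq_zero.1 h⟩

end Groth.Agent.S1688
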