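import Groth.Statements.S16900
import Groth.Agent.Lib.Cyc6.Cover

set_option autoImplicit false
universe u
open Vanish
open Polynomial

namespace Groth.Agent.S16900

/-- Let k be an algebraically closed field and B an integral domain of finite type over k all of whose
localizations at primes are regular (an affine open Spec B of a manifold); let N ≥ 1 be invertible
in k, u a unit of B, α a natural number and f₁ ≠ 0 an element of B such that all local rings of
B/f₁B are regular (the divisor D₁ = V(f₁) is non-singular; f₁ may be a unit). With A' = B[t]/(t^N −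
u·f₁^α) (the algebra of the N-th root of the section u·f₁^α) and K = A'[1/f₁], let A ⊆ K be the
B-subalgebra generated by the N elements t^i · f₁^(−⌊iα/N⌋), 0 ≤ i < N. Then A is finite over B, A
is the integral closure of A' in K (Spec A is the normalization of Spec A', finite and normal over
Spec B), and Spec A is non-singular: every localization of A at a prime ideal is a regular local
ring. -/
theorem result (k : Type u) [Field k] [IsAlgClosed k]
    (B : Type u) [CommRing B] [IsDomain B] [Algebra k B] [Algebra.FiniteType k B]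
    (hreg : ∀ (P : Ideal B) [P.IsPrime], IsRegularLocalRing (Localization.AtPrime P))
    (N : ℕ) (hN : 0 < N) (hNk : IsUnit ((N : ℕ) : k)) (u : Bˣ) (α : ℕ) (f₁ : B) (hf₁ : f₁ ≠ 0)
    (hD : ∀ (P : Ideal (B ⧸ Ideal.span ({f₁} : Set B))) [P.IsPrime], IsRegularLocalRing (Localization.AtPrime P))
    (A : Subalgebra B (Localization.Away
      (algebraMap B (AdjoinRoot (X ^ N - C ((u : B) * f₁ ^ α) : B[X])) f₁)))
    (hA : A = Algebra.adjoin B (Set.range fun i : Fin N =>
      algebraMap (AdjoinRoot (X ^ N - C ((u : B) * f₁ ^ α) : B[X])) (Localization.Away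
        (algebraMap B (AdjoinRoot (X ^ N - C ((u : B) * f₁ ^ α) : B[X])) f₁))
        (AdjoinRoot.root (X ^ N - C ((u : B) * f₁ ^ α) : B[X]) ^ (i : ℕ)) *
      IsLocalization.Away.invSelf (S := Localization.Away
        (algebraMap B (AdjoinRoot (X ^ N - C ((u : B) * f₁ ^ α) : B[X])) f₁))
        (algebraMap B (AdjoinRoot (X ^ N - C ((u : B) * f₁ ^ α) : B[X])) f₁) ^ ((i : ℕ) * α / N))) :
    Module.Finite B A ∧
      IsIntegralClosure A (AdjoinRoot (X ^ N - C ((u : B) * f₁ ^ α) : B[X]))
        (Localization.Away (algebraMap B (AdjoinRoot (X ^ N - C ((u : B) * f₁ ^ α) : B[X])) f₁)) ∧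
      ∀ (Q : Ideal A) [Q.IsPrime], IsRegularLocalRing (Localization.AtPrime Q) := by
  classical
  subst hA
  have hinjk : Function.Injective (algebraMap k B) := (algebraMap k B).injective
  haveI : IsNoetherianRing B := Algebra.FiniteType.isNoetherianRing k B
  have hNB : IsUnit (N : B) := by
    have := hNk.map (algebraMap k B)
    rwa [map_natCast] at this
  set h : B[X] := X ^ N - C ((u : B) * f₁ ^ α) with hh
  have hmon : h.Monic := monic_X_pow_sub_C _ hN.ne'
  have hdeg : h.natDegree = N := natDegree_X_pow_sub_C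
  let pb := AdjoinRoot.powerBasis' hmon
  have hdim : pb.dim = N := by simp [pb, hdeg]
  set φ := algebraMap B (AdjoinRoot h) f₁ with hφ
  set K := Localization.Away φ
  let ρ := algebraMap (AdjoinRoot h) K
  have hnzd : φ ∈ nonZeroDivisors (AdjoinRoot h) := by
    rw [mem_nonZeroDivisors_iff_right]
    intro z hz
    apply pb.basis.repr.injective
    rw [map_zero]
    ext i
    have h1 : f₁ • z = 0 := by rw [Algebra.smul_def, ← hφ, mul_comm, hz]
    have h2 := congrArg (fun y => pb.basis.repr y i) h1
    simp only [map_smul, map_zero, Finsupp.smul_apply, Finsupp.zero_apply, smul_eq_mul] at h2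
    exact (mul_eq_zero.mp h2).resolve_left hf₁
  have hρinj : Function.Injective ρ :=
    IsLocalization.injective K (Submonoid.powers_le.mpr hnzd)
  have hFu : IsUnit (ρ φ) := IsLocalization.Away.algebraMap_isUnit φ
  have hB : ∀ b : B, algebraMap B K b = ρ (algebraMap B (AdjoinRoot h) b) :=
    fun b => IsScalarTower.algebraMap_apply B (AdjoinRoot h) K b
  have hroot : AdjoinRoot.root h ^ N = algebraMap B (AdjoinRoot h) ((u : B) * f₁ ^ α) := by
    have := AdjoinRoot.eval₂_root h
    rw [hh, eval₂_sub, eval₂_X_pow, eval₂_C, sub_eq_zero] at this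
    exact this
  have hTN : ρ (AdjoinRoot.root h) ^ N = algebraMap B K (u : B) * ρ φ ^ α := by
    rw [← map_pow, hroot, map_mul, map_pow, map_mul, map_pow, hB, ← hφ]
  have hTu : IsUnit (ρ (AdjoinRoot.root h)) := by
    refine (isUnit_pow_iff hN.ne').mp ?_
    rw [hTN]
    exact (u.isUnit.map _).mul (hFu.pow _)
  obtain ⟨g, n, α', hg, hn, hNe, hαe, a, b, hab⟩ : ∃ g n α' : ℕ, 0 < g ∧ 0 < n ∧ N = g * n ∧
      α = g * α' ∧ ∃ a b : ℤ, a * α' = b * n + 1 := by
    have hg : 0 < Nat.gcd α N := Nat.gcd_pos_of_pos_right _ hN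
    refine ⟨Nat.gcd α N, N / Nat.gcd α N, α / Nat.gcd α N, hg,
      Nat.div_pos (Nat.le_of_dvd hN (Nat.gcd_dvd_right _ _)) hg,
      (Nat.mul_div_cancel' (Nat.gcd_dvd_right _ _)).symm,
      (Nat.mul_div_cancel' (Nat.gcd_dvd_left _ _)).symm, ?_⟩
    have hcop := Nat.coprime_div_gcd_div_gcd (m := α) (n := N) hg
    refine ⟨Nat.gcdA (α / Nat.gcd α N) (N / Nat.gcd α N), -Nat.gcdB (α / Nat.gcd α N) (N / Nat.gcd α N), ?_⟩
    have := Nat.gcd_eq_gcd_ab (α / Nat.gcd α N) (N / Nat.gcd α N)
    rw [Nat.Coprime] at hcop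
    rw [hcop] at this
    push_cast at this ⊢
    linarith
  subst hNe hαe
  have hspan : ∀ x : AdjoinRoot h, ρ x ∈
      Submodule.span B (Set.range fun i : Fin (g * n) => ρ (AdjoinRoot.root h) ^ (i : ℕ)) := by
    intro x
    rw [← pb.basis.sum_repr x, map_sum]
    refine Submodule.sum_mem _ fun i _ => ?_
    rw [Algebra.smul_def, map_mul, ← hB, ← Algebra.smul_def]
    refine Submodule.smul_mem _ _ (Submodule.subset_span ⟨⟨i, hdim ▸ i.isLt⟩, ?_⟩)
    simp [pb, PowerBasis.coe_basis]
  let D : Groth.Agent.Cyc6.Cover B K :=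
    { T := hTu.unit
      F := hFu.unit
      v := u
      f := f₁
      g := g
      n := n
      α := α'
      hg := hg
      hn := hn
      a := a
      b := b
      bez := hab
      hF := by rw [IsUnit.unit_spec, hB]
      hT := by
        ext
        simp only [Units.val_pow_eq_pow_val, IsUnit.unit_spec, Units.val_mul, Units.coe_map, hTN]
        rfl
      indep := by
        simp only [IsUnit.unit_spec]
        have h1 : LinearIndependent B fun i : Fin (g * n) => pb.basis (Fin.cast hdim.symm i) :=
          pb.basis.linearIndependent.comp _ (Fin.cast_injective _)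
        have h2 := h1.map' (IsScalarTower.toAlgHom B (AdjoinRoot h) K).toLinearMap
          (LinearMap.ker_eq_bot.mpr hρinj)
        have e : (fun i : Fin (g * n) => ρ (AdjoinRoot.root h) ^ (i : ℕ)) =
            (IsScalarTower.toAlgHom B (AdjoinRoot h) K).toLinearMap ∘
              fun i : Fin (g * n) => pb.basis (Fin.cast hdim.symm i) := by
          ext i
          simp [pb, PowerBasis.coe_basis, ρ]
        rw [e]
        exact h2
      gen := by
        intro x
        obtain ⟨k, a, ha⟩ := IsLocalization.Away.surj φ x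
        refine ⟨k, ?_⟩
        simp only [IsUnit.unit_spec]
        rw [mul_comm (ρ φ ^ k) x, show x * ρ φ ^ k = ρ a from ha]
        exact hspan a }
  have hAeq : Algebra.adjoin B (Set.range fun i : Fin (g * n) =>
      algebraMap (AdjoinRoot h) K (AdjoinRoot.root h ^ (i : ℕ)) *
        IsLocalization.Away.invSelf (S := K) φ ^ ((i : ℕ) * (g * α') / (g * n))) = D.A := by
    refine congrArg (fun s => Algebra.adjoin B s) (congrArg Set.range (funext fun i => ?_))
    show _ = ((D.e (i : ℕ) : Kˣ) : K)
    have hinv : IsLocalization.Away.invSelf (S := K) φ = ((D.F⁻¹ : Kˣ) : K) := by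
      exact Units.eq_inv_of_mul_eq_one_left (IsLocalization.Away.mul_invSelf φ)
    rw [hinv, map_pow]
    rw [Groth.Agent.Cyc6.Cover.e, Units.val_mul, zpow_natCast, Units.val_pow_eq_pow_val]
    congr 1
    rw [← Units.val_pow_eq_pow_val, inv_pow, ← zpow_natCast, ← zpow_neg]
    congr 2
    rw [show (i : ℕ) * (g * α') = g * ((i : ℕ) * α') by ring, Nat.mul_div_mul_left _ _ hg]
    push_cast
    rfl
  rw [hAeq]
  haveI : IsReduced (B ⧸ Ideal.span ({f₁} : Set B)) := Groth.Agent.Cyc6.isReduced_of_regular _ hD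
  have hgB : IsUnit (g : B) := by rw [Nat.cast_mul, IsUnit.mul_iff] at hNB; exact hNB.1
  haveI hfin : Module.Finite B D.A := D.A_finite
  refine ⟨hfin, ⟨Subtype.val_injective, fun {x} => ⟨fun hx => ?_, ?_⟩⟩, ?_⟩
  · refine ⟨⟨x, ?_⟩, rfl⟩
    refine D.integral_mem hgB x ?_
    obtain ⟨p, hp, hpx⟩ := hx
    let ψ : AdjoinRoot h →ₐ[B] D.A := (IsScalarTower.toAlgHom B (AdjoinRoot h) K).codRestrict D.A
      (fun y => by
        refine (Submodule.span_le (p := D.A.toSubmodule)).mpr ?_ (hspan y)
        rintro _ ⟨i, rfl⟩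
        exact D.T_mem i)
    refine ⟨p.map ψ.toRingHom, hp.map _, ?_⟩
    rw [eval₂_map]
    exact hpx
  · rintro ⟨y, rfl⟩
    have : IsIntegral B ((y : K)) :=
      (IsIntegral.of_finite B y).map (IsScalarTower.toAlgHom B D.A K)
    exact this.tower_top
  · intro Q _
    exact D.regular hNB hf₁ hreg hD Q

end Groth.Agent.S16900
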