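import Groth.Statements.S16901
import Groth.Agent.Lib.NumPoly18.BigNef

set_option autoImplicit false
universe u
open CategoryTheory CategoryTheory.Limits AlgebraicGeometry
open Vanish

open Groth.Agent
namespace Groth.Agent.S16901

/-- Let k be an algebraically closed field and X an integral proper k-scheme of dimension n with an
ample invertible O_X-module (a projective variety, not assumed non-singular), and let L be an
invertible O_X-module. The Iitaka dimension of L is n, in the growth form the text adopts as its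
working definition (for some ν > 0 there is a constant a > 0 with μ^n ≤ a · dim_k H^0(X, L^⊗νμ) for
all μ ≥ 1), if and only if for some ν > 0 there are an ample invertible module A and a monomorphism
A → L^⊗ν (that is, L^⊗ν(−C) is ample for some effective divisor C). -/
theorem result (k : Type u) [Field k] [IsAlgClosed k]
    (X : Scheme.{u}) [X.Over (Spec (CommRingCat.of k))] [IsIntegral X] [IsProper (X ↘ Spec (CommRingCat.of k))]
    (n : ℕ) (hn : topologicalKrullDim X = n) (H : X.Modules) (hH : CohB1.IsAmple H)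
    (L : X.Modules) (hL : PicF.IsInvertible L) :
    (∃ ν a : ℕ, 0 < ν ∧ 0 < a ∧ ∀ μ : ℕ, 1 ≤ μ →
        μ ^ n ≤ a * Module.finrank k (Coh.HH X (CohB1.tensorPow L (ν * μ)) 0)) ↔
      ∃ (ν : ℕ) (A : X.Modules) (φ : A ⟶ CohB1.tensorPow L ν), 0 < ν ∧ CohB1.IsAmple A ∧ Mono φ := by
  constructor
  · rintro ⟨ν, a, hν, ha, h⟩
    have hP := M2.isInvertible_tensorPow hL ν
    obtain ⟨m, φ, hm, hφ⟩ := NumPoly18.mono_of_growth k hn hH hP (C := 1 / (a : ℚ))
      (div_pos one_pos (Nat.cast_pos.2 ha)) (n₁ := 1) fun μ hμ => by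
        rw [NumPoly18.finrank_h0_eq (k := k) (M2.tensorPowPow L ν μ), div_mul_eq_mul_div, one_mul,
          div_le_iff₀ (Nat.cast_pos.2 ha : (0 : ℚ) < a)]
        have := (Nat.cast_le (α := ℚ)).2 (h μ hμ)
        push_cast at this
        linarith
    exact ⟨ν * m, H, φ ≫ (M2.tensorPowPow L ν m).hom, Nat.mul_pos hν hm, hH, mono_comp' hφ inferInstance⟩
  · rintro ⟨ν, A, φ, hν, hA, hφ⟩
    haveI := hφ
    obtain ⟨C, hC, n₁, hn₁⟩ := NumPoly18.growth_of_mono k hn hA hL hν φ
    obtain ⟨b, hb⟩ := exists_nat_gt (1 / C)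
    rw [div_lt_iff₀ hC] at hb
    refine ⟨ν * (n₁ + 1), b, Nat.mul_pos hν n₁.succ_pos, ?_, fun μ hμ => ?_⟩
    · rcases Nat.eq_zero_or_pos b with rfl | h
      · simp only [Nat.cast_zero, zero_mul] at hb; linarith
      · exact h
    · have hle : n₁ + 1 ≤ ν * (n₁ + 1) * μ :=
        (Nat.le_mul_of_pos_left _ hν).trans (Nat.le_mul_of_pos_right _ hμ)
      have h1 := hn₁ (ν * (n₁ + 1) * μ) (by omega)
      have h2 : (μ : ℚ) ^ n ≤ ((ν * (n₁ + 1) * μ : ℕ) : ℚ) ^ n :=
        pow_le_pow_left₀ (Nat.cast_nonneg _) (Nat.cast_le.2 (Nat.le_mul_of_pos_left _ (Nat.mul_pos hν n₁.succ_pos))) _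
      have h3 : ((μ ^ n : ℕ) : ℚ) ≤ (b : ℚ) *
          (Module.finrank k (Coh.HH X (CohB1.tensorPow L (ν * (n₁ + 1) * μ)) 0) : ℚ) := by
        push_cast at h1 h2 ⊢
        have hμn : (0 : ℚ) ≤ (μ : ℚ) ^ n := pow_nonneg (Nat.cast_nonneg _) _
        have hh0 : (0 : ℚ) ≤ (Module.finrank k (Coh.HH X (CohB1.tensorPow L (ν * (n₁ + 1) * μ)) 0) : ℚ) :=
          Nat.cast_nonneg _
        calc (μ : ℚ) ^ n ≤ (b : ℚ) * C * (μ : ℚ) ^ n := le_mul_of_one_le_left hμn hb.le
          _ ≤ (b : ℚ) * (C * ((ν : ℚ) * ((n₁ : ℚ) + 1) * (μ : ℚ)) ^ n) := by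
              rw [mul_assoc]
              exact mul_le_mul_of_nonneg_left (mul_le_mul_of_nonneg_left h2 hC.le) (Nat.cast_nonneg _)
          _ ≤ _ := mul_le_mul_of_nonneg_left h1 (Nat.cast_nonneg _)
      exact_mod_cast h3

end Groth.Agent.S16901
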