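import Groth.Statements.S16909
import Groth.Agent.Lib.TensorMod.IdealMod

set_option autoImplicit false
universe u
open CategoryTheory CategoryTheory.Limits AlgebraicGeometry
open ResProp

set_option backward.isDefEq.respectTransparency false

namespace Groth.Agent.S16909

/-- Let `X` be a quasi-compact and quasi-separated scheme on which every quasi-coherent module is
globally generated (a quotient of a free module on some index type, i.e. the structure sheaf is a
generating family). Then `X` is quasi-affine. No separatedness hypothesis is made; it follows. (The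
published statement is for an algebraic stack over an algebraic space with affine stabilizer groups
at closed points and concludes that it is representable by a quasi-affine morphism; that general
case rests on results outside this text, and this row is the final step of its proof, the case of a
scheme.) -/
theorem result (X : Scheme.{u}) [CompactSpace X]
    [QuasiSeparatedSpace X] (h : ∀ M : X.Modules, Coh.IsQCoh M → Curv2.IsGloballyGenerated M) :
    X.IsQuasiAffine := by
  refine Scheme.IsQuasiAffine.of_forall_exists_mem_basicOpen X fun x => ?_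
  obtain ⟨V, hV, hxV, -⟩ := exists_isAffineOpen_mem_and_subset (U := (⊤ : X.Opens)) (x := x) trivial
  let Z : TopologicalSpace.Closeds X := ⟨(V : Set X)ᶜ, V.isOpen.isClosed_compl⟩
  let I := Scheme.IdealSheafData.vanishingIdeal Z
  obtain ⟨ι, p, hp⟩ := h _ (M2.isQCoh_idealMod I)
  let s : ι → Γ(X, ⊤) := fun i => M2.idealIncl I (M1.freeSec p i)
  have hsupp : Set.range I.subschemeι = (Z : Set X) := by
    rw [Scheme.IdealSheafData.range_subschemeι]
    simp [I]
  have hsub : ∀ i, X.basicOpen (s i) ≤ V := fun i y hy => by
    by_contra hyV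
    obtain ⟨z, rfl⟩ : y ∈ Set.range I.subschemeι := hsupp.ge hyV
    have hz : z ∈ I.subschemeι ⁻¹ᵁ X.basicOpen (s i) := hy
    rw [Scheme.preimage_basicOpen, M2.subschemeι_app_idealIncl, Scheme.basicOpen_zero] at hz
    exact hz
  suffices ∃ i, x ∈ X.basicOpen (s i) by
    obtain ⟨i, hi⟩ := this
    refine ⟨s i, ?_, hi⟩
    have := hV.basicOpen (X.presheaf.map (homOfLE (le_top : V ≤ ⊤)).op (s i))
    rwa [Scheme.basicOpen_res, inf_eq_right.mpr (hsub i)] at this
  by_contra hc
  push Not at hc
  let g := X.fromSpecResidueField x
  have hzero : ∀ (U : X.Opens) (t : Γ(X, U)), x ∉ X.basicOpen t → g.app U t = 0 := fun U t ht => by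
    refine (basicOpen_eq_bot_iff (g.app U t)).mp ?_
    rw [← Scheme.preimage_basicOpen]
    exact bot_unique fun z hz => ht ((X.fromSpecResidueField_apply x z) ▸ hz)
  have hk : ClSub.idealModι I ≫ ClSub.unitToPush g = 0 := by
    refine (cancel_epi p).mp (Eq.trans (M1.free_hom_ext fun i => ?_) Limits.comp_zero.symm)
    exact hzero _ (s i) (hc i)
  obtain ⟨a, ha⟩ : (1 : Γ(X, V)) ∈ Set.range (M2.idealIncl I (U := (⟨V, hV⟩ : X.affineOpens).1)) := by
    rw [M2.range_idealIncl I ⟨V, hV⟩, Scheme.IdealSheafData.vanishingIdeal_ideal]
    rw [SetLike.mem_coe, PrimeSpectrum.mem_vanishingIdeal]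
    intro q hq
    have hqV : hV.fromSpec q ∈ (V : Set X) := hV.range_fromSpec.le ⟨q, rfl⟩
    exact absurd hqV hq
  have h1 : g.app V (1 : Γ(X, V)) = 0 := by
    rw [← ha]
    exact congrArg (fun φ => φ.app V a) hk
  rw [map_one] at h1
  have h2 : (Spec (X.residueField x)).basicOpen (1 : Γ(Spec (X.residueField x), g ⁻¹ᵁ V)) = ⊥ := by
    rw [h1, Scheme.basicOpen_zero]
  rw [Scheme.basicOpen_of_isUnit _ isUnit_one] at h2
  have hmem : (default : Spec (X.residueField x)) ∈ g ⁻¹ᵁ V := by
    show g default ∈ V
    rw [X.fromSpecResidueField_apply x]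
    exact hxV
  exact (h2 ▸ hmem : (default : Spec (X.residueField x)) ∈ (⊥ : (Spec (X.residueField x)).Opens))

end Groth.Agent.S16909
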