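import Groth.Statements.S1691
import Groth.Agent.Lib.RefHull26.DepthExt
import Groth.Agent.S2252
-- import your own Groth.Agent.* helpers here

set_option autoImplicit false
universe u
open CategoryTheory CategoryTheory.Limits AlgebraicGeometry TopologicalSpace
open SDiv

namespace Groth.Agent.S1691

/-- Let X be an integral locally Noetherian scheme and j : U ⟶ X an open subscheme such that the local
ring of X at every point outside U has depth at least 2. Then (a) for every coherent reflexive
module F on X the canonical map F ⟶ j_* j^* F is an isomorphism, and (b) for every coherent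
reflexive module G on U the direct image j_* G is coherent and reflexive (so that j^* and j_* are
mutually inverse equivalences). -/
theorem result (X : Scheme.{u}) [IsIntegral X] [IsLocallyNoetherian X] (U : X.Opens)
    (hU : ∀ x : ↥X, x ∉ U → (2 : ℕ∞) ≤ LocCoh.depth (X.presheaf.stalk x) (X.presheaf.stalk x)) :
    (∀ F : X.Modules, Coh.IsCoh F → (∀ x : ↥X, Module.IsReflexive (X.presheaf.stalk x) (F.presheaf.stalk x)) →
        IsIso ((Scheme.Modules.restrictAdjunction U.ι).unit.app F)) ∧
      (∀ G : (U : Scheme.{u}).Modules, Coh.IsCoh G → (∀ x : ↥(U : Scheme.{u}), Module.IsReflexive ((U : Scheme.{u}).presheaf.stalk x) (G.presheaf.stalk x)) →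
        Coh.IsCoh ((Scheme.Modules.pushforward U.ι).obj G) ∧
          (∀ x : ↥X, Module.IsReflexive (X.presheaf.stalk x) (((Scheme.Modules.pushforward U.ι).obj G).presheaf.stalk x))) := by
  have hiso : ∀ {Y : Scheme.{u}} {A B : Y.Modules} (e : A ≅ B) (y : Y), RefHull.IsReflexiveAt A y → RefHull.IsReflexiveAt B y := by
    intro Y A B e y hy
    haveI : Module.IsReflexive (Y.presheaf.stalk y) (A.presheaf.stalk y) := hy
    let l := LinearEquiv.ofBijective (RefHull.stalkMapₗ e.hom y) ((Groth.Agent.RH26.isIso_iff_stalkMapₗ e.hom).1 inferInstance y)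
    exact Module.IsReflexive.of_split l.symm.toLinearMap l.toLinearMap (LinearMap.ext fun v => l.apply_symm_apply v)
  refine ⟨fun F hF hr => Groth.Agent.RH26.isIso_unit_of_depth hF hU hr, fun G hG hGr => ?_⟩
  haveI := hG.1
  have hnoeth : ∀ x : X, ∃ V : X.Opens, x ∈ V ∧ TopologicalSpace.NoetherianSpace (V : Set X) := fun x => by
    obtain ⟨V, hV, hxV, -⟩ := exists_isAffineOpen_mem_and_subset (x := x) (U := (⊤ : X.Opens)) trivial
    haveI := IsLocallyNoetherian.component_noetherian (X := X) ⟨V, hV⟩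
    exact ⟨V, hxV, AlgebraicGeometry.noetherianSpace_of_isAffineOpen V hV⟩
  obtain ⟨G0, hq, hft, ⟨e⟩⟩ := Groth.Agent.S2252.result hnoeth U G (Groth.Agent.M1.isFP_isFT (Groth.Agent.M1.isFP_of_isCoh hG))
  have hG0 : Coh.IsCoh G0 := ⟨hq, hft⟩
  have hF1 := Groth.Agent.RH26.isCoh_dual (Groth.Agent.RH26.isCoh_dual hG0)
  have hr1 : ∀ x : X, RefHull.IsReflexiveAt (RefHull.ddual G0) x := fun x => by
    haveI : Module.Finite (X.presheaf.stalk x) ((RefHull.dual G0).presheaf.stalk x) := Groth.Agent.M1.finite_stalk (Groth.Agent.RH26.isCoh_dual hG0).1 (Groth.Agent.M1.isFP_isFT (Groth.Agent.M1.isFP_of_isCoh (Groth.Agent.RH26.isCoh_dual hG0))) x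
    haveI := Groth.Agent.RH26.isReflexive_dual (R := X.presheaf.stalk x) (M := (RefHull.dual G0).presheaf.stalk x)
    let l := Groth.Agent.RH26.dualEquiv (Groth.Agent.RH26.isCoh_dual hG0) x
    exact Module.IsReflexive.of_split l.toLinearMap l.symm.toLinearMap (LinearMap.ext fun v => l.symm_apply_apply v)
  haveI : IsIso ((Scheme.Modules.restrictFunctor U.ι).map (RefHull.bidualMap G0)) := by
    rw [Groth.Agent.M1.isIso_iff_stalk]
    intro z
    have hb : Function.Bijective (RefHull.stalkMapₗ (RefHull.bidualMap G0) z.1) :=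
      (Groth.Agent.RH26.bijective_bidual_stalk_iff hG0 z.1).2 ((Groth.Agent.RH26.isReflexiveAt_restrict_iff G0 U z).1 (hiso e.symm z (hGr z)))
    have nat := (Scheme.Modules.restrictStalkNatIso U.ι z).hom.naturality (RefHull.bidualMap G0)
    have hz : IsIso ((Scheme.Modules.toPresheaf X ⋙ TopCat.Presheaf.stalkFunctor Ab.{u} (U.ι z)).map (RefHull.bidualMap G0)) :=
      (ConcreteCategory.isIso_iff_bijective ((TopCat.Presheaf.stalkFunctor Ab.{u} (U.ι z)).map (RefHull.bidualMap G0).mapPresheaf)).2 hb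
    have h2 : IsIso ((Scheme.Modules.restrictFunctor U.ι ⋙ Scheme.Modules.toPresheaf (U : Scheme.{u}) ⋙ TopCat.Presheaf.stalkFunctor Ab.{u} z).map (RefHull.bidualMap G0)) :=
      (NatIso.isIso_map_iff (Scheme.Modules.restrictStalkNatIso U.ι z) (RefHull.bidualMap G0)).2 hz
    exact (ConcreteCategory.isIso_iff_bijective _).1 h2
  haveI := Groth.Agent.RH26.isIso_unit_of_depth hF1 hU hr1
  let i : RefHull.ddual G0 ≅ (Scheme.Modules.pushforward U.ι).obj G :=
    asIso ((Scheme.Modules.restrictAdjunction U.ι).unit.app (RefHull.ddual G0)) ≪≫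
      (Scheme.Modules.pushforward U.ι).mapIso ((asIso ((Scheme.Modules.restrictFunctor U.ι).map (RefHull.bidualMap G0))).symm ≪≫ e)
  exact ⟨⟨Groth.Agent.M1.isQCoh_of_isIso i hF1.1, Groth.Agent.M1.isFT_of_isIso i hF1.2⟩, fun x => hiso i x (hr1 x)⟩

end Groth.Agent.S1691
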