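import Groth.Statements.S16910
import Groth.Agent.Lib.StQC14.FpqcDesc

set_option autoImplicit false
universe u
open CategoryTheory CategoryTheory.Limits AlgebraicGeometry
open ResProp

namespace Groth.Agent.S16910

/-- Let `𝒳` be an algebraic stack over `S` (fppf topology; diagonal representable, separated and
quasi-compact, the text's standing convention) admitting a morphism `u : U → 𝒳` from a Noetherian
scheme `U` of Krull dimension at most one all of whose local rings are regular, with `u`
representable by algebraic spaces, affine, flat and surjective. Then the diagonal of `𝒳` over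
`(Sch/S)` is representable by algebraic spaces and affine. -/
theorem result (S : Scheme.{u}) (𝒳 : AlgSt.Cat S)
    (h𝒳 : AlgSt.IsAlgStack Scheme.fppfPrecoverage 𝒳)
    (hΔ : AlgSt.RepByAlgSpWith (AlgSp.IsSeparatedMor ⊓ AlgSp.IsQuasiCompactMor) (FibCat.diag (FibCat.toSelf 𝒳)))
    (U : Over S) [IsNoetherian U.left] (hreg : ∀ x : U.left, IsRegularLocalRing (U.left.presheaf.stalk x))
    (hdim : topologicalKrullDim U.left ≤ 1) (u : FibCat.overCat U ⥤ᵇ 𝒳)
    (hua : AlgSt.RepByAlgSpWith AlgSp.IsAffineMor u) (huf : AlgSt.RepByAlgSpWith (AlgSp.LocP @Flat) u)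
    (hus : AlgSt.RepByAlgSpWith AlgSp.IsSurjectiveMor u) :
    AlgSt.RepByAlgSpWith AlgSp.IsAffineMor (FibCat.diag (FibCat.toSelf 𝒳)) := by
  exact Groth.Agent.StQC14.with_affine_diag_of_regular h𝒳.isStack.1 (Groth.Agent.StAlg.repByAlgSp1_of_with hΔ) U hreg hdim u hua huf hus

end Groth.Agent.S16910
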