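import Groth.Statements.S16911
import Groth.Agent.Lib.StQC14.ResChart

set_option autoImplicit false
universe u
open CategoryTheory CategoryTheory.Limits AlgebraicGeometry
open ResProp

namespace Groth.Agent.S16911

/-- Let `𝒳` be an algebraic stack over `S` (fppf topology; diagonal representable, separated and
quasi-compact, the text's standing convention) admitting a morphism `u : U → 𝒳` from a Noetherian
scheme `U` of Krull dimension at most one all of whose local rings are regular, with `u`
representable by algebraic spaces, affine, flat and surjective. Then `𝒳` has the resolution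
property: (a) every quasi-coherent module of finite type on `𝒳` receives a morphism from a locally
free quasi-coherent module of finite type that is surjective on sections over every object with
affine scheme, and (b) the locally free modules of finite type form a generating family of the
category of quasi-coherent modules — two morphisms of quasi-coherent modules `M ⟶ N` that become
equal after composition with every morphism from a locally free module of finite type into `M` are
equal. (The published statement also says that every torsion-free quasi-coherent module is the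
filtered union of its locally free submodules of finite type; that part is not stated here.) -/
theorem result (S : Scheme.{u}) (𝒳 : AlgSt.Cat S)
    (h𝒳 : AlgSt.IsAlgStack Scheme.fppfPrecoverage 𝒳)
    (hΔ : AlgSt.RepByAlgSpWith (AlgSp.IsSeparatedMor ⊓ AlgSp.IsQuasiCompactMor) (FibCat.diag (FibCat.toSelf 𝒳)))
    (U : Over S) [IsNoetherian U.left] (hreg : ∀ x : U.left, IsRegularLocalRing (U.left.presheaf.stalk x))
    (hdim : topologicalKrullDim U.left ≤ 1) (u : FibCat.overCat U ⥤ᵇ 𝒳)
    (hua : AlgSt.RepByAlgSpWith AlgSp.IsAffineMor u) (huf : AlgSt.RepByAlgSpWith (AlgSp.LocP @Flat) u)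
    (hus : AlgSt.RepByAlgSpWith AlgSp.IsSurjectiveMor u) :
    (∀ F : StMod.QCoh 𝒳, F.obj.IsFinType →
        ∃ (E : StMod.QCoh 𝒳) (q : E ⟶ F), E.obj.IsLocFree ∧ E.obj.IsFinType ∧ StMod.Mod.IsSurj q.hom) ∧
      (∀ (M N : StMod.QCoh 𝒳) (a b : M ⟶ N),
        (∀ E : StMod.QCoh 𝒳, E.obj.IsLocFree → E.obj.IsFinType → ∀ φ : E ⟶ M, φ ≫ a = φ ≫ b) → a = b) := by
  obtain ⟨A, hA⟩ := Groth.Agent.StQC14.exists_atlas_regDimOne h𝒳.isStack.1 U hreg hdim u hua huf hus
  refine ⟨fun F hF => ?_, fun M N a b h => A.eq_of_locFree hA a b h⟩
  haveI := A.finite_sections F hF
  exact A.exists_locFree_surj hA F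

end Groth.Agent.S16911
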