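import Groth.Statements.S16915
import Groth.Agent.Lib.StQC14.ResChart
import Groth.Agent.Lib.Quot16.Algebraic

set_option autoImplicit false
universe u
open CategoryTheory CategoryTheory.Limits AlgebraicGeometry MonoidalCategory
open ResProp

namespace Groth.Agent.S16915

/-- Let `S` be a Noetherian scheme of Krull dimension at most one all of whose local rings are regular,
and `G` a group scheme over `S` that is affine, flat and locally of finite presentation over `S`.
Then the classifying stack `B_S G` (fppf `G`-torsors given as schemes) has the resolution property: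
(a) every quasi-coherent module of finite type on it receives a morphism from a locally free
quasi-coherent module of finite type that is surjective on sections over every object with affine
scheme, and (b) two morphisms of quasi-coherent modules `M ⟶ N` that agree after composition with
every morphism from a locally free module of finite type into `M` are equal. (In the text this is
the instance of the preceding lemma for the chart `S → B_S G` given by the trivial torsor, which is
affine, flat and surjective.) -/
theorem result (S : Scheme.{u}) [IsNoetherian S]
    (hreg : ∀ x : S, IsRegularLocalRing (S.presheaf.stalk x)) (hdim : topologicalKrullDim S ≤ 1)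
    (G : Over S) [GrpObj G] [IsAffineHom G.hom] [Flat G.hom] [LocallyOfFinitePresentation G.hom] :
    (∀ F : StMod.QCoh (AlgSt.BG Scheme.fppfPrecoverage G), F.obj.IsFinType →
        ∃ (E : StMod.QCoh (AlgSt.BG Scheme.fppfPrecoverage G)) (q : E ⟶ F),
          E.obj.IsLocFree ∧ E.obj.IsFinType ∧ StMod.Mod.IsSurj q.hom) ∧
      (∀ (M N : StMod.QCoh (AlgSt.BG Scheme.fppfPrecoverage G)) (a b : M ⟶ N),
        (∀ E : StMod.QCoh (AlgSt.BG Scheme.fppfPrecoverage G),
          E.obj.IsLocFree → E.obj.IsFinType → ∀ φ : E ⟶ M, φ ≫ a = φ ≫ b) → a = b) := by
  haveI : IsNoetherian (MonoidalCategoryStruct.tensorUnit (Over S)).left := ‹IsNoetherian S›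
  obtain ⟨A, hA⟩ := Groth.Agent.StQC14.exists_atlas_regDimOne (𝒳 := AlgSt.BG Scheme.fppfPrecoverage G)
    Groth.Agent.Quot16.isFibGrpd (MonoidalCategoryStruct.tensorUnit (Over S)) hreg hdim
    (Groth.Agent.Quot16.chartMap Scheme.fppfPrecoverage _)
    (Groth.Agent.Quot16.repWith_chartMap_affine Scheme.fppfPrecoverage_le_fpqcPrecoverage)
    Groth.Agent.Quot16.repWith_chartMap_flat Groth.Agent.Quot16.repWith_chartMap_surjective
  refine ⟨fun F hF => ?_, fun M N a b h => A.eq_of_locFree hA a b h⟩
  haveI := A.finite_sections F hF
  exact A.exists_locFree_surj hA F

end Groth.Agent.S16915
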