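import Groth.Statements.S16917
import Groth.Agent.Lib.VarDim.Uncountable

set_option autoImplicit false
open CategoryTheory AlgebraicGeometry
universe u
open Variety

namespace Groth.Agent.S16917

/-- Let k be an uncountable algebraically closed field, X a k-scheme of finite type and Z₀, Z₁, …
countably many closed subsets of X. Then the countable union of the Zₙ, read through closed points,
has a unique irredundant decomposition: there is exactly one countable family S of irreducible
closed subsets of X, pairwise not contained in one another, such that a closed point of X lies in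
some member of S if and only if it lies in some Zₙ. (The published statement is the existence and
uniqueness of the irredundant decomposition of a countable union of algebraic varieties into
c-components, a variety being read through its closed points; with all points of the scheme the
uniqueness would not need the uncountable field.) -/
theorem result (k : Type u) [Field k] [IsAlgClosed k]
    [Uncountable k] (X : Scheme.{u}) (sX : X ⟶ Spec (CommRingCat.of k)) [LocallyOfFiniteType sX]
    [QuasiCompact sX] (Z : ℕ → TopologicalSpace.Closeds X) :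
    ∃! S : Set (TopologicalSpace.Closeds X), S.Countable ∧ (∀ T ∈ S, IsIrreducible (T : Set X)) ∧
      IsAntichain (· ≤ ·) S ∧
      {x : X | IsClosed ({x} : Set X) ∧ ∃ T ∈ S, x ∈ T} =
        {x : X | IsClosed ({x} : Set X) ∧ ∃ n, x ∈ Z n} := by
  classical
  open Groth.Agent.VarDim in
  haveI := noetherianSpace_of_finiteType sX
  have key : ∀ (S : Set (TopologicalSpace.Closeds X)), S.Countable → ∀ T : Set X, IsClosed T → (hT : IsIrreducible T) →
      (∀ x, IsClosed ({x} : Set X) → x ∈ T → ∃ A ∈ S, x ∈ A) → ∃ A ∈ S, T ⊆ (A : Set X) := by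
    intro S hS T hTc hT hcov
    obtain ⟨e, he⟩ := (hS.insert ⊥).exists_eq_range ⟨⊥, Set.mem_insert _ _⟩
    by_contra! hcon
    have havoid : ∀ n, hT.genericPoint ∉ (e n : Set X) := fun n hmem => by
      have hn : e n ∈ insert (⊥ : TopologicalSpace.Closeds X) S := he ▸ Set.mem_range_self n
      rcases hn with h | h
      · rw [h] at hmem; exact hmem
      · refine hcon (e n) h ?_
        rw [← hT.closure_genericPoint hTc]
        exact closure_minimal (Set.singleton_subset_iff.mpr hmem) (e n).isClosed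
    obtain ⟨x, hgx, -, hx, hxe⟩ := Groth.Agent.VarDim.exists_closedPoint_avoiding sX
      (U := ⊤) (g := hT.genericPoint) trivial (fun n => (e n : Set X)) (fun n => (e n).isClosed) havoid
    obtain ⟨A, hA, hxA⟩ := hcov x hx (by
      rw [← hT.closure_genericPoint hTc]; exact specializes_iff_mem_closure.mp hgx)
    obtain ⟨n, hn⟩ : A ∈ Set.range e := he ▸ Set.mem_insert_of_mem _ hA
    exact hxe n (hn ▸ hxA)
  choose G hG using fun n => Groth.Agent.VarDim.exists_finite_generic (X := X) (Z n).isClosed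
  let C : Set X := ⋃ n, (G n : Set X)
  let M : Set X := {g | g ∈ C ∧ ∀ h ∈ C, h ⤳ g → h = g}
  let cl : X → TopologicalSpace.Closeds X := fun g => ⟨closure {g}, isClosed_closure⟩
  have hCcount : C.Countable := Set.countable_iUnion fun n => (G n).countable_toSet
  have hmax : ∀ g ∈ C, ∃ h ∈ M, h ⤳ g := by
    intro g hg
    haveI : Nonempty X := ⟨g⟩
    obtain ⟨x₀, -, hD⟩ := Groth.Agent.VarDim.exists_dim_eq sX
    induction hm : Groth.Agent.VarDim.sdim sX x₀ - Groth.Agent.VarDim.sdim sX g using Nat.strong_induction_on generalizing g with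
    | _ m ih =>
      by_cases hgM : g ∈ M
      · exact ⟨g, hgM, specializes_rfl⟩
      · obtain ⟨h, hhC, hhg, hne⟩ : ∃ h ∈ C, h ⤳ g ∧ h ≠ g := by
          by_contra! hall
          exact hgM ⟨hg, hall⟩
        have hlt := Groth.Agent.VarDim.sdim_lt_of_specializes sX hhg hne
        have hb := hD h
        obtain ⟨r, hrM, hrh⟩ := ih _ (by omega) h hhC rfl
        exact ⟨r, hrM, hrh.trans hhg⟩
  have hScount : (cl '' M).Countable := (hCcount.mono fun g hg => hg.1).image cl
  have hSirr : ∀ T ∈ cl '' M, IsIrreducible (T : Set X) := by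
    rintro _ ⟨g, -, rfl⟩; exact isIrreducible_singleton.closure
  have hanti : IsAntichain (· ≤ ·) (cl '' M) := by
    rintro _ ⟨a, ha, rfl⟩ _ ⟨b, hb, rfl⟩ hne hle
    exact hne (congrArg cl (ha.2 b hb.1 (specializes_iff_mem_closure.mpr (hle (subset_closure rfl)))).symm)
  have hpts : {x : X | IsClosed ({x} : Set X) ∧ ∃ T ∈ cl '' M, x ∈ T} =
      {x : X | IsClosed ({x} : Set X) ∧ ∃ n, x ∈ Z n} := by
    ext x
    refine and_congr_right fun _ => ⟨?_, ?_⟩
    · rintro ⟨_, ⟨g, hg, rfl⟩, hxg⟩
      obtain ⟨n, hn⟩ := Set.mem_iUnion.mp hg.1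
      exact ⟨n, (hG n x).mpr ⟨g, hn, specializes_iff_mem_closure.mpr hxg⟩⟩
    · rintro ⟨n, hn⟩
      obtain ⟨g, hg, hgx⟩ := (hG n x).mp hn
      obtain ⟨h, hh, hhg⟩ := hmax g (Set.mem_iUnion.mpr ⟨n, hg⟩)
      exact ⟨cl h, ⟨h, hh, rfl⟩, specializes_iff_mem_closure.mp (hhg.trans hgx)⟩
  have sub : ∀ S S' : Set (TopologicalSpace.Closeds X), S.Countable → S'.Countable →
      (∀ T ∈ S, IsIrreducible (T : Set X)) → (∀ T ∈ S', IsIrreducible (T : Set X)) → IsAntichain (· ≤ ·) S' →
      {x : X | IsClosed ({x} : Set X) ∧ ∃ T ∈ S, x ∈ T} = {x : X | IsClosed ({x} : Set X) ∧ ∃ T ∈ S', x ∈ T} →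
      S' ⊆ S := by
    intro S S' hS hS' hSi hS'i hA heq T hT
    obtain ⟨T₁, hT₁, hle₁⟩ := key S hS T T.isClosed (hS'i T hT) fun x hx hxT =>
      ((Set.ext_iff.mp heq x).mpr ⟨hx, T, hT, hxT⟩).2
    obtain ⟨T₂, hT₂, hle₂⟩ := key S' hS' T₁ T₁.isClosed (hSi T₁ hT₁) fun x hx hxT =>
      ((Set.ext_iff.mp heq x).mp ⟨hx, T₁, hT₁, hxT⟩).2
    have h12 : T = T₂ := hA.eq hT hT₂ (hle₁.trans hle₂)
    have h1 : T = T₁ := le_antisymm hle₁ (h12 ▸ hle₂)
    exact h1 ▸ hT₁
  refine ⟨cl '' M, ⟨hScount, hSirr, hanti, hpts⟩, fun S' hS' => ?_⟩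
  obtain ⟨hc, hi, ha, he⟩ := hS'
  exact Set.Subset.antisymm (sub _ _ hScount hc hSirr hi ha (hpts.trans he.symm))
    (sub _ _ hc hScount hi hSirr hanti (he.trans hpts.symm))

end Groth.Agent.S16917
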