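import Groth.Statements.S16918
import Groth.Agent.Lib.CubeField.Simple
import Groth.Agent.Lib.VarDim.Uncountable
import Groth.Agent.Lib.AbRigid.Geometric

set_option autoImplicit false
universe u
open CategoryTheory MonoidalCategory CartesianMonoidalCategory MonObj GrpObj AlgebraicGeometry
open GrpSch

namespace Groth.Agent.S16918

/-- Let k be an uncountable algebraically closed field, A an abelian variety over k (a proper,
geometrically integral group scheme over k) and K a subgroup of the group of k-points of A (sections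
of A over Spec k, a group through the group structure of A) which is the trace of a countable union
of closed subsets: a k-point belongs to K exactly when its image point lies in some Zₙ. Call an
irreducible closed subset T of A admissible when every k-point whose image lies in T belongs to K.
Then there is exactly one maximal admissible T containing the image of the neutral element; that T
is contained in some Zₙ, and the k-points landing in T are closed under x, y ↦ x·y⁻¹, so that T is a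
closed irreducible subgroup variety of A lying in one of the Zₙ. (The published statement says that
the irredundant decomposition of K has a unique component through 0 and that it is an abelian
subvariety; the maximal admissible subsets are exactly the components of that decomposition, each of
which lies in some Zₙ, and this containment is the part of the conclusion that uses the
uncountability of k.) -/
theorem result (k : Type u)
    [Field k] [IsAlgClosed k] [Uncountable k] (A : Over (Spec (CommRingCat.of k))) [GrpObj A]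
    [IsProper A.hom] [GeometricallyIntegral A.hom]
    (K : Subgroup (𝟙_ (Over (Spec (CommRingCat.of k))) ⟶ A))
    (Z : ℕ → TopologicalSpace.Closeds ↥A.left)
    (hK : ∀ x : 𝟙_ (Over (Spec (CommRingCat.of k))) ⟶ A,
      x ∈ K ↔ Set.range ⇑x.left.base ⊆ ⋃ n, (Z n : Set ↥A.left)) :
    (∃! T : TopologicalSpace.Closeds ↥A.left,
      Maximal (fun T : TopologicalSpace.Closeds ↥A.left => IsIrreducible (T : Set ↥A.left) ∧
        ∀ x : 𝟙_ (Over (Spec (CommRingCat.of k))) ⟶ A, Set.range ⇑x.left.base ⊆ (T : Set ↥A.left) → x ∈ K) T ∧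
      Set.range ⇑(1 : 𝟙_ (Over (Spec (CommRingCat.of k))) ⟶ A).left.base ⊆ (T : Set ↥A.left)) ∧
    ∀ T : TopologicalSpace.Closeds ↥A.left,
      Maximal (fun T : TopologicalSpace.Closeds ↥A.left => IsIrreducible (T : Set ↥A.left) ∧
        ∀ x : 𝟙_ (Over (Spec (CommRingCat.of k))) ⟶ A, Set.range ⇑x.left.base ⊆ (T : Set ↥A.left) → x ∈ K) T →
      Set.range ⇑(1 : 𝟙_ (Over (Spec (CommRingCat.of k))) ⟶ A).left.base ⊆ (T : Set ↥A.left) →
      (∃ n, (T : Set ↥A.left) ⊆ (Z n : Set ↥A.left)) ∧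
      ∀ x y : 𝟙_ (Over (Spec (CommRingCat.of k))) ⟶ A,
        Set.range ⇑x.left.base ⊆ (T : Set ↥A.left) → Set.range ⇑y.left.base ⊆ (T : Set ↥A.left) →
        Set.range ⇑(x * y⁻¹).left.base ⊆ (T : Set ↥A.left) := by
  classical
  let pt : Spec (CommRingCat.of k) := IsLocalRing.closedPoint k
  have hr : ∀ (x : 𝟙_ (Over (Spec (CommRingCat.of k))) ⟶ A) (S : Set A.left),
      Set.range x.left.base ⊆ S ↔ CubeField.rpt x ∈ S := fun x S =>
    ⟨fun h => h ⟨pt, rfl⟩, fun h => by
      rintro _ ⟨s, rfl⟩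
      rw [Subsingleton.elim (α := Spec (CommRingCat.of k)) s pt]; exact h⟩
  simp only [hr] at hK ⊢
  haveI : JacobsonSpace A.left := LocallyOfFiniteType.jacobsonSpace A.hom
  haveI : CompactSpace A.left := QuasiCompact.compactSpace_of_compactSpace A.hom
  have hadm : ∀ T : TopologicalSpace.Closeds A.left, IsIrreducible (T : Set A.left) →
      ((∀ x, CubeField.rpt x ∈ (T : Set A.left) → x ∈ K) ↔ ∃ n, (T : Set A.left) ⊆ Z n) := by
    intro T hT
    refine ⟨fun h => ?_, fun ⟨n, hn⟩ x hx => (hK x).2 (Set.mem_iUnion.2 ⟨n, hn hx⟩)⟩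
    by_contra hcon
    push Not at hcon
    have hg := hT.closure_genericPoint T.isClosed
    obtain ⟨x, hgx, -, hxc, hxZ⟩ := VarDim.exists_closedPoint_avoiding A.hom (U := ⊤) (g := hT.genericPoint)
      trivial (fun n => (Z n : Set A.left)) (fun n => (Z n).isClosed) fun n hn =>
        hcon n (hg ▸ closure_minimal (Set.singleton_subset_iff.2 hn) (Z n).isClosed)
    obtain ⟨p, rfl⟩ := CubeField.exists_rpt (X := A) hxc
    obtain ⟨n, hn⟩ := Set.mem_iUnion.1 ((hK p).1 (h p (hg ▸ specializes_iff_mem_closure.1 hgx)))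
    exact hxZ n hn
  -- images of products of admissible sets are admissible
  have key : ∀ (T₁ T₂ : TopologicalSpace.Closeds A.left), IsIrreducible (T₁ : Set A.left) →
      IsIrreducible (T₂ : Set A.left) → (∀ x, CubeField.rpt x ∈ (T₁ : Set A.left) → x ∈ K) →
      (∀ x, CubeField.rpt x ∈ (T₂ : Set A.left) → x ∈ K) → CubeField.rpt 1 ∈ (T₁ : Set A.left) →
      CubeField.rpt 1 ∈ (T₂ : Set A.left) → ∀ (inv : Bool), ∃ T : TopologicalSpace.Closeds A.left,
        IsIrreducible (T : Set A.left) ∧ (∀ x, CubeField.rpt x ∈ (T : Set A.left) → x ∈ K) ∧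
        (T₁ : Set A.left) ⊆ T ∧ (inv = false → (T₂ : Set A.left) ⊆ T) ∧
        ∀ a b, CubeField.rpt a ∈ (T₁ : Set A.left) → CubeField.rpt b ∈ (T₂ : Set A.left) →
          CubeField.rpt (a * (if inv then b⁻¹ else b)) ∈ (T : Set A.left) := by
    intro T₁ T₂ h₁ h₂ a₁ a₂ e₁ e₂ b
    obtain ⟨B₁, _, _, _, i₁, hc₁, r₁, -⟩ := CubeField.exists_subvariety (A := A) T₁.isClosed h₁
    obtain ⟨B₂, _, _, _, i₂, hc₂, r₂, -⟩ := CubeField.exists_subvariety (A := A) T₂.isClosed h₂
    haveI := hc₁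
    haveI := hc₂
    haveI : IsLocallyNoetherian B₁.left := LocallyOfFiniteType.isLocallyNoetherian B₁.hom
    haveI : IrreducibleSpace (B₁ ⊗ B₂).left := inferInstanceAs (IrreducibleSpace ↥(Limits.pullback B₁.hom B₂.hom))
    haveI : QuasiCompact (B₁ ⊗ B₂).hom := inferInstanceAs (QuasiCompact (Limits.pullback.fst B₁.hom B₂.hom ≫ B₁.hom))
    haveI : LocallyOfFiniteType (B₁ ⊗ B₂).hom :=
      inferInstanceAs (LocallyOfFiniteType (Limits.pullback.fst B₁.hom B₂.hom ≫ B₁.hom))
    let φ : B₁ ⊗ B₂ ⟶ A := (fst _ _ ≫ i₁) * (if b then (snd _ _ ≫ i₂)⁻¹ else snd _ _ ≫ i₂)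
    let T : TopologicalSpace.Closeds A.left := ⟨closure (Set.range φ.left), isClosed_closure⟩
    have hTi : IsIrreducible (T : Set A.left) := by
      show IsIrreducible (closure (Set.range φ.left))
      rw [← Set.image_univ]
      exact ((IrreducibleSpace.isIrreducible_univ _).image _ φ.left.continuous.continuousOn).closure
    have hmem : ∀ a c, CubeField.rpt a ∈ (T₁ : Set A.left) → CubeField.rpt c ∈ (T₂ : Set A.left) →
        CubeField.rpt (a * (if b then c⁻¹ else c)) ∈ Set.range φ.left := fun a c ha hc => by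
      obtain ⟨a', rfl⟩ := CubeField.exists_point_lift i₁ a (r₁.ge ha)
      obtain ⟨c', rfl⟩ := CubeField.exists_point_lift i₂ c (r₂.ge hc)
      refine ⟨CubeField.rpt (lift a' c'), ?_⟩
      rw [← CubeField.rpt_comp]
      cases b <;> simp [φ, MonObj.comp_mul, GrpObj.comp_inv]
    refine ⟨T, hTi, (hadm T hTi).2 ?_, ?_, fun hb => ?_, fun a c ha hc => subset_closure (hmem a c ha hc)⟩
    · by_contra hcon
      push Not at hcon
      let ζ := genericPoint (B₁ ⊗ B₂).left
      obtain ⟨x, -, -, hxc, hxZ⟩ := VarDim.exists_closedPoint_avoiding (B₁ ⊗ B₂).hom (U := ⊤) (g := ζ)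
        trivial (fun n => φ.left ⁻¹' (Z n : Set A.left)) (fun n => (Z n).isClosed.preimage φ.left.continuous)
        fun n hn => hcon n (closure_minimal (by
          rintro _ ⟨y, rfl⟩
          exact ((genericPoint_specializes y).map φ.left.continuous).mem_closed (Z n).isClosed hn) (Z n).isClosed)
      obtain ⟨p, rfl⟩ := CubeField.exists_rpt (X := B₁ ⊗ B₂) hxc
      have hp : p ≫ φ ∈ K := by
        have m₁ : p ≫ fst _ _ ≫ i₁ ∈ K := a₁ _ (by rw [CubeField.rpt_comp, AbRigid.left_comp_apply, ← r₁]; exact ⟨_, rfl⟩)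
        have m₂ : p ≫ snd _ _ ≫ i₂ ∈ K := a₂ _ (by rw [CubeField.rpt_comp, AbRigid.left_comp_apply, ← r₂]; exact ⟨_, rfl⟩)
        cases b <;> simp only [φ, Bool.false_eq_true, if_false, if_true, MonObj.comp_mul, GrpObj.comp_inv]
        · exact K.mul_mem m₁ m₂
        · exact K.mul_mem m₁ (K.inv_mem m₂)
      obtain ⟨n, hn⟩ := Set.mem_iUnion.1 ((hK _).1 hp)
      exact hxZ n (by rw [Set.mem_preimage, ← CubeField.rpt_comp]; exact hn)
    · intro v hv
      obtain ⟨z, rfl⟩ := r₁.ge hv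
      obtain ⟨o, ho⟩ := CubeField.exists_point_lift i₂ 1 (r₂.ge e₂)
      refine subset_closure ⟨(lift (𝟙 B₁) (toUnit B₁ ≫ o)).left z, ?_⟩
      rw [← AbRigid.left_comp_apply]
      cases b <;> simp [φ, MonObj.comp_mul, GrpObj.comp_inv, ho]
    · intro v hv
      subst hb
      obtain ⟨z, rfl⟩ := r₂.ge hv
      obtain ⟨o, ho⟩ := CubeField.exists_point_lift i₁ 1 (r₁.ge e₁)
      refine subset_closure ⟨(lift (toUnit B₂ ≫ o) (𝟙 B₂)).left z, ?_⟩
      rw [← AbRigid.left_comp_apply]
      simp [φ, MonObj.comp_mul, ho]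
  -- existence
  let P : A.left → Prop := fun g => g ⤳ CubeField.rpt (1 : 𝟙_ _ ⟶ A) ∧ ∃ n, closure {g} ⊆ (Z n : Set A.left)
  have hP : P (CubeField.rpt 1) := by
    refine ⟨specializes_rfl, ?_⟩
    obtain ⟨n, hn⟩ := Set.mem_iUnion.1 ((hK 1).1 K.one_mem)
    exact ⟨n, closure_minimal (Set.singleton_subset_iff.2 hn) (Z n).isClosed⟩
  haveI : Nonempty A.left := ⟨CubeField.rpt (1 : 𝟙_ _ ⟶ A)⟩
  obtain ⟨x₀, -, hx₀⟩ := VarDim.exists_dim_eq A.hom
  have hbdd : ∃ N, ∀ m, (∃ g, P g ∧ VarDim.sdim A.hom g = m) → m ≤ N :=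
    ⟨VarDim.sdim A.hom x₀, fun m ⟨g, _, e⟩ => e ▸ hx₀ g⟩
  obtain ⟨N, hN⟩ := hbdd
  let m := Nat.findGreatest (fun m => ∃ g, P g ∧ VarDim.sdim A.hom g = m) N
  obtain ⟨g, ⟨hg1, hgn⟩, hgm⟩ : ∃ g, P g ∧ VarDim.sdim A.hom g = m :=
    Nat.findGreatest_spec (P := fun m => ∃ g, P g ∧ VarDim.sdim A.hom g = m) (hN _ ⟨_, hP, rfl⟩) ⟨_, hP, rfl⟩
  let T₀ : TopologicalSpace.Closeds A.left := ⟨closure {g}, isClosed_closure⟩
  have hT₀ : IsIrreducible (T₀ : Set A.left) := isIrreducible_singleton.closure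
  have hmax : Maximal (fun T : TopologicalSpace.Closeds A.left => IsIrreducible (T : Set A.left) ∧
      ∀ x, CubeField.rpt x ∈ (T : Set A.left) → x ∈ K) T₀ := by
    refine ⟨⟨hT₀, (hadm T₀ hT₀).2 hgn⟩, fun T ⟨hTi, hTa⟩ hle => ?_⟩
    obtain ⟨n, hn⟩ := (hadm T hTi).1 hTa
    have hc := hTi.closure_genericPoint T.isClosed
    have hsp : hTi.genericPoint ⤳ g := specializes_iff_mem_closure.2 (hc.ge (hle (subset_closure rfl) : g ∈ (T : Set A.left)))
    by_cases heq : hTi.genericPoint = g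
    · intro v hv
      have hv' := hc.ge hv
      rwa [heq] at hv'
    · exfalso
      have hlt := VarDim.sdim_lt_of_specializes A.hom hsp heq
      have hP' : P hTi.genericPoint := ⟨hsp.trans hg1, n, hc.le.trans hn⟩
      have := Nat.le_findGreatest (P := fun m => ∃ g, P g ∧ VarDim.sdim A.hom g = m)
        (hN _ ⟨_, hP', rfl⟩) ⟨_, hP', rfl⟩
      omega
  have h1 : CubeField.rpt (1 : 𝟙_ _ ⟶ A) ∈ (T₀ : Set A.left) := specializes_iff_mem_closure.1 hg1
  refine ⟨⟨T₀, ⟨hmax, h1⟩, fun T ⟨hT, hT1⟩ => ?_⟩, fun T hT hT1 => ⟨(hadm T hT.1.1).1 hT.1.2, fun x y hx hy => ?_⟩⟩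
  · obtain ⟨S, hS, hSa, hS1, hS2, -⟩ := key T T₀ hT.1.1 hT₀ hT.1.2 hmax.1.2 hT1 h1 false
    exact le_antisymm ((show T ≤ S from hS1).trans (hmax.2 ⟨hS, hSa⟩ (hS2 rfl)))
      ((show T₀ ≤ S from hS2 rfl).trans (hT.2 ⟨hS, hSa⟩ hS1))
  · obtain ⟨S, hS, hSa, hS1, -, hS3⟩ := key T T hT.1.1 hT.1.1 hT.1.2 hT.1.2 hT1 hT1 true
    exact hT.2 ⟨hS, hSa⟩ hS1 (hS3 x y hx hy)

end Groth.Agent.S16918
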