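import Groth.Statements.S16919
import Mathlib

set_option autoImplicit false
universe u
open TensorProduct
open CAlg

namespace Groth.Agent.S16919
open TensorProduct Cardinal

theorem exists_equiv {R K L : Type u} [Field R] [Field K] [Field L] [Algebra R K] [Algebra R L]
    [IsAlgClosed K] [IsAlgClosed L] (h : Algebra.trdeg R K = Algebra.trdeg R L) :
    ∃ e : K ≃+* L, ∀ r, e (algebraMap R K r) = algebraMap R L r := by
  obtain ⟨s, hs⟩ := exists_isTranscendenceBasis R K
  obtain ⟨t, ht⟩ := exists_isTranscendenceBasis R L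
  rw [← hs.cardinalMk_eq_trdeg, ← ht.cardinalMk_eq_trdeg, Cardinal.eq] at h
  obtain ⟨g⟩ := h
  letI := IsAlgClosed.isAlgClosure_of_transcendence_basis _ hs
  letI := IsAlgClosed.isAlgClosure_of_transcendence_basis _ ht
  let e0 : Algebra.adjoin R (Set.range (Subtype.val : s → K)) ≃ₐ[R] Algebra.adjoin R (Set.range (Subtype.val : t → L)) :=
    hs.1.aevalEquiv.symm.trans ((MvPolynomial.renameEquiv R g).trans ht.1.aevalEquiv)
  refine ⟨IsAlgClosure.equivOfEquiv K L e0.toRingEquiv, fun r => ?_⟩
  rw [IsScalarTower.algebraMap_apply R (Algebra.adjoin R (Set.range (Subtype.val : s → K))) K,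
    IsAlgClosure.equivOfEquiv_algebraMap, IsScalarTower.algebraMap_apply R (Algebra.adjoin R (Set.range (Subtype.val : t → L))) L]
  congr 1
  exact e0.commutes r

theorem trdeg_lt_aleph0 (F A : Type u) [Field F] [CommRing A] [Algebra F A] [Algebra.FiniteType F A] :
    Algebra.trdeg F A < ℵ₀ := by
  obtain ⟨n, f, hf⟩ := Algebra.FiniteType.iff_quotient_mvPolynomial''.1 ‹Algebra.FiniteType F A›
  have h := lift_trdeg_le_of_surjective f hf
  rw [MvPolynomial.trdeg_of_isDomain] at h
  refine lt_of_le_of_lt (by simpa using h) (Cardinal.natCast_lt_aleph0)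

theorem trdeg_frac (F A : Type u) [Field F] [CommRing A] [IsDomain A] [Algebra F A] [Algebra.FiniteType F A] :
    Algebra.trdeg F (FractionRing A) < ℵ₀ := by
  haveI : Algebra.IsAlgebraic A (FractionRing A) := IsLocalization.isAlgebraic _ (nonZeroDivisors A)
  haveI : FaithfulSMul F A := (faithfulSMul_iff_algebraMap_injective F A).2 (algebraMap F A).injective
  rw [← trdeg_add_eq F A (A := FractionRing A), trdeg_eq_zero (R := A) (A := FractionRing A), add_zero]
  exact trdeg_lt_aleph0 F A

theorem eq_of_fin_add {a b c : Cardinal.{u}} (hc : ℵ₀ ≤ c) (ha : a < ℵ₀) (h : a + b = c) : b = c := by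
  have hb : ℵ₀ ≤ b := by
    by_contra hb
    exact absurd hc (not_le.2 (h ▸ Cardinal.add_lt_aleph0 ha (not_le.1 hb)))
  rw [← h, Cardinal.add_eq_right hb (ha.le.trans hb)]

theorem core {k₀ R₀ k Ω : Type u} [Field k₀] [Field k] [Field Ω] [IsAlgClosed k] [IsAlgClosed Ω] [CommRing R₀]
    [IsDomain R₀] [Algebra k₀ R₀] [Algebra.FiniteType k₀ R₀] [Algebra k₀ k] [Algebra k₀ Ω]
    (hκ : ℵ₀ ≤ Algebra.trdeg k₀ k) (hΩ : Algebra.trdeg k₀ Ω = Algebra.trdeg k₀ k)
    (g : R₀ →ₐ[k₀] k) (hg : Function.Injective g) (j : R₀ →ₐ[k₀] Ω) (hj : Function.Injective j) :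
    ∃ e : Ω ≃+* k, ∀ r, e (j r) = g r := by
  letI : Algebra (FractionRing R₀) k := (IsFractionRing.lift hg : FractionRing R₀ →+* k).toAlgebra
  letI : Algebra (FractionRing R₀) Ω := (IsFractionRing.lift hj : FractionRing R₀ →+* Ω).toAlgebra
  haveI : IsScalarTower k₀ (FractionRing R₀) k := IsScalarTower.of_algebraMap_eq fun c => by
    show algebraMap k₀ k c = IsFractionRing.lift hg (algebraMap k₀ (FractionRing R₀) c)
    rw [IsScalarTower.algebraMap_apply k₀ R₀ (FractionRing R₀), IsFractionRing.lift_algebraMap]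
    exact (g.commutes c).symm
  haveI : IsScalarTower k₀ (FractionRing R₀) Ω := IsScalarTower.of_algebraMap_eq fun c => by
    show algebraMap k₀ Ω c = IsFractionRing.lift hj (algebraMap k₀ (FractionRing R₀) c)
    rw [IsScalarTower.algebraMap_apply k₀ R₀ (FractionRing R₀), IsFractionRing.lift_algebraMap]
    exact (j.commutes c).symm
  have hK0 : Algebra.trdeg k₀ (FractionRing R₀) < ℵ₀ := trdeg_frac k₀ R₀
  have h1 : Algebra.trdeg (FractionRing R₀) k = Algebra.trdeg k₀ k :=
    eq_of_fin_add hκ hK0 (trdeg_add_eq k₀ (FractionRing R₀) (A := k))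
  have h2 : Algebra.trdeg (FractionRing R₀) Ω = Algebra.trdeg k₀ k :=
    eq_of_fin_add hκ hK0 ((trdeg_add_eq k₀ (FractionRing R₀) (A := Ω)).trans hΩ)
  obtain ⟨e, he⟩ := exists_equiv (h2.trans h1.symm)
  refine ⟨e, fun r => ?_⟩
  have := he (algebraMap R₀ (FractionRing R₀) r)
  change e (IsFractionRing.lift hj (algebraMap R₀ (FractionRing R₀) r)) = IsFractionRing.lift hg (algebraMap R₀ (FractionRing R₀) r) at this
  rw [IsFractionRing.lift_algebraMap, IsFractionRing.lift_algebraMap] at this
  exact this

/-- Let k₀ → k be an extension of fields with k algebraically closed and of infinite transcendence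
degree over k₀, R₀ a finitely generated k₀-algebra whose base change R = k ⊗ R₀ is an integral
domain (so Spec R is an integral affine k-scheme of finite type with the model Spec R₀ over k₀), and
P a k-point of Spec R, i.e. a k-algebra homomorphism ev : R → k, lying over the generic point of
Spec R₀, i.e. with ev injective on R₀. Then there is a field isomorphism e from an algebraic closure
of the fraction field of R (the function field of Spec R) onto k such that e(1 ⊗ r) = ev(1 ⊗ r) for
every r in R₀: e extends evaluation at P on R₀. (The published setting has k algebraically closed of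
characteristic zero and of infinite transcendence degree over its prime field, and k₀ the subfield
generated by the coefficients of equations of Spec R, which is finitely generated over the prime
field, so that k has infinite transcendence degree over k₀; only this last property and no
characteristic assumption enter here. The isomorphism is not canonical.) -/
theorem result (k₀ k : Type u)
    [Field k₀] [Field k] [Algebra k₀ k] [IsAlgClosed k] (hinf : ∃ x : ℕ → k, AlgebraicIndependent k₀ x)
    (R₀ : Type u) [CommRing R₀] [Algebra k₀ R₀] [Algebra.FiniteType k₀ R₀] [IsDomain (k ⊗[k₀] R₀)]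
    (ev : k ⊗[k₀] R₀ →ₐ[k] k) (hP : Function.Injective fun r : R₀ => ev (1 ⊗ₜ[k₀] r)) :
    ∃ e : AlgebraicClosure (FractionRing (k ⊗[k₀] R₀)) ≃+* k,
      ∀ r : R₀, e (algebraMap (k ⊗[k₀] R₀) (AlgebraicClosure (FractionRing (k ⊗[k₀] R₀)))
        (1 ⊗ₜ[k₀] r)) = ev (1 ⊗ₜ[k₀] r) := by
  let i : R₀ →ₐ[k₀] k ⊗[k₀] R₀ := Algebra.TensorProduct.includeRight
  let g : R₀ →ₐ[k₀] k := (ev.restrictScalars k₀).comp i
  have hg : Function.Injective g := hP
  haveI : IsDomain R₀ := hg.isDomain g
  let S := k ⊗[k₀] R₀
  let Ω := AlgebraicClosure (FractionRing S)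
  let j : R₀ →+* Ω := (algebraMap S Ω).comp i.toRingHom
  have hj : Function.Injective j := by
    have hS : Function.Injective (algebraMap S Ω) := by
      rw [IsScalarTower.algebraMap_eq S (FractionRing S) Ω]
      exact (algebraMap (FractionRing S) Ω).injective.comp (IsFractionRing.injective S (FractionRing S))
    refine hS.comp ?_
    exact Function.Injective.of_comp (f := ev) hP
  haveI : IsScalarTower k₀ k Ω := IsScalarTower.of_algebraMap_eq fun c => by
    rw [IsScalarTower.algebraMap_apply k S Ω, ← IsScalarTower.algebraMap_apply k₀ k S,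
      ← IsScalarTower.algebraMap_apply k₀ S Ω]
  have hκ : ℵ₀ ≤ Algebra.trdeg k₀ k := by
    obtain ⟨x, hx⟩ := hinf
    simpa using hx.lift_cardinalMk_le_trdeg
  haveI : Algebra.FiniteType k S := inferInstance
  have hF : Algebra.trdeg k Ω < ℵ₀ := by
    rw [← trdeg_add_eq k (FractionRing S) (A := Ω), trdeg_eq_zero (R := FractionRing S) (A := Ω), add_zero]
    exact trdeg_frac k S
  have hΩ : Algebra.trdeg k₀ Ω = Algebra.trdeg k₀ k := by
    rw [← trdeg_add_eq k₀ k (A := Ω)]
    exact Cardinal.add_eq_left hκ (hF.le.trans hκ)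
  have hc : ∀ c, j (algebraMap k₀ R₀ c) = algebraMap k₀ Ω c := fun c => by
    show algebraMap S Ω (i (algebraMap k₀ R₀ c)) = algebraMap k₀ Ω c
    rw [i.commutes, ← IsScalarTower.algebraMap_apply]
  let jA : R₀ →ₐ[k₀] Ω := { j with commutes' := hc }
  obtain ⟨e, he⟩ := core hκ hΩ g hg jA hj
  exact ⟨e, he⟩

end Groth.Agent.S16919
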