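import Groth.Statements.S1692
import Groth.Agent.Lib.Cyc26.Stalk
import Mathlib.AlgebraicGeometry.OrderOfVanishing
-- import your own Groth.Agent.* helpers here

set_option autoImplicit false
universe u
open CategoryTheory CategoryTheory.Limits AlgebraicGeometry TopologicalSpace
open SDiv

namespace Groth.Agent.S1692

/-- Let X be a locally Noetherian integral scheme and f a nonzero rational function. Then the closures
of the codimension-one points at which f has nonzero order of vanishing form a locally finite family
of closed subsets of X. -/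
theorem result (X : Scheme.{u}) [IsIntegral X] [IsLocallyNoetherian X] (f : ↑X.functionField) (hf : f ≠ 0) :
    LocallyFinite (fun ξ : {ξ : ↥X // Order.coheight ξ = 1 ∧ Scheme.ord f ξ ≠ 0} => closure ({ξ.1} : Set ↥X)) := by
  intro x
  obtain ⟨W, hW, hxW, -⟩ := TopologicalSpace.Opens.isBasis_iff_nbhd.mp X.isBasis_affineOpens (show x ∈ (⊤ : X.Opens) from trivial)
  have : Nonempty W := ⟨⟨x, hxW⟩⟩
  have := functionField_isFractionRing_of_isAffineOpen X W hW
  obtain ⟨a, b, hb, hab⟩ := IsFractionRing.div_surjective (A := Γ(X, W)) f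
  have hb0 : b ≠ 0 := nonZeroDivisors.ne_zero hb
  have ha0 : a ≠ 0 := fun h => hf (by rw [← hab, h, map_zero, zero_div])
  let D : X.Opens := X.basicOpen (a * b)
  have hη : genericPoint X ∈ D := by
    have hab0 : a * b ≠ 0 := mul_ne_zero ha0 hb0
    have hne : D ≠ ⊥ := fun h => hab0 ((basicOpen_eq_bot_iff _).mp h)
    obtain ⟨y, hy⟩ := Set.nonempty_iff_ne_empty.mpr (fun h => hne (TopologicalSpace.Opens.ext h))
    exact ((genericPoint_spec X).specializes (Set.mem_univ y)).mem_open D.2 hy
  have : Nonempty D := ⟨⟨_, hη⟩⟩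
  have hord : ∀ ξ ∈ D, Scheme.ord f ξ = 0 := by
    intro ξ hξ
    have hle : D ≤ W := X.basicOpen_le _
    have hu : IsUnit (X.presheaf.map (homOfLE hle).op (a * b)) := RingedSpace.isUnit_res_basicOpen _ _
    rw [map_mul] at hu
    have hA : Scheme.ord (algebraMap Γ(X, W) X.functionField a) ξ = 0 := by
      have : algebraMap Γ(X, W) X.functionField a = X.germToFunctionField D (X.presheaf.map (homOfLE hle).op a) := by
        exact (TopCat.Presheaf.germ_res_apply X.presheaf (homOfLE hle) (genericPoint X) hη a).symm
      rw [this]; exact Scheme.ord_of_isUnit (isUnit_of_mul_isUnit_left hu) hξ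
    have hB : Scheme.ord (algebraMap Γ(X, W) X.functionField b) ξ = 0 := by
      have : algebraMap Γ(X, W) X.functionField b = X.germToFunctionField D (X.presheaf.map (homOfLE hle).op b) := by
        exact (TopCat.Presheaf.germ_res_apply X.presheaf (homOfLE hle) (genericPoint X) hη b).symm
      rw [this]; exact Scheme.ord_of_isUnit (isUnit_of_mul_isUnit_right hu) hξ
    have hb' : algebraMap Γ(X, W) X.functionField b ≠ 0 := (map_ne_zero_iff _ (IsFractionRing.injective Γ(X, W) X.functionField)).mpr hb0
    have := Scheme.ord_mul (x := ξ) hf hb'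
    rw [← hab, div_mul_cancel₀ _ hb', hA, hB, hab] at this
    omega
  refine ⟨W, W.2.mem_nhds hxW, ((Groth.Agent.Cyc26.finite_maximal_points (D.2.isClosed_compl) hW).preimage Subtype.val_injective.injOn).subset ?_⟩
  rintro ⟨ξ, hcoh, hne⟩ ⟨z, hzξ, hzW⟩
  refine ⟨fun h => hne (hord ξ h), fun y hy hyξ => ?_, (specializes_iff_mem_closure.mpr hzξ).mem_open W.2 hzW⟩
  by_contra hyne
  have hlt : ξ < y := lt_of_le_not_ge hyξ (fun h => hyne ((show y ⤳ ξ from hyξ).antisymm (show ξ ⤳ y from h)).eq)
  have h1 := Order.coheight_add_one_le hlt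
  rw [hcoh] at h1
  have h0 : Order.coheight y = 0 := by
    have : Order.coheight y + 1 ≤ 0 + 1 := by simpa using h1
    exact nonpos_iff_eq_zero.mp ((ENat.addLECancellable_of_ne_top ENat.one_ne_top).add_le_add_iff_right.mp this)
  have hmax := Order.coheight_eq_zero.mp h0
  have hgy : y ≤ genericPoint X := (genericPoint_spec X).specializes (Set.mem_univ y)
  have : y = genericPoint X := ((show y ⤳ genericPoint X from hmax hgy).antisymm (show genericPoint X ⤳ y from hgy)).eq
  exact hy (this ▸ hη)

end Groth.Agent.S1692
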