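import Groth.Statements.S1693
import Mathlib.AlgebraicGeometry.Noetherian
import Mathlib.Topology.Irreducible
import Mathlib.Topology.LocallyFinite

set_option autoImplicit false
universe u
open CategoryTheory CategoryTheory.Limits AlgebraicGeometry TopologicalSpace
open SDiv

namespace Groth.Agent.S1693

/-- Let X be a locally Noetherian scheme and Z a closed subset. Then the irreducible components of Z
form a locally finite family of subsets of X. -/
theorem result (X : Scheme.{u}) [IsLocallyNoetherian X] (Z : Set ↥X) (hZ : IsClosed Z) :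
    LocallyFinite (fun T : ↥(irreducibleComponents ↥Z) => ((↑) '' (T.1 : Set ↥Z) : Set ↥X)) := by
  intro x
  obtain ⟨U, hU, hxU, -⟩ := exists_isAffineOpen_mem_and_subset (U := (⊤ : X.Opens)) (x := x) trivial
  refine ⟨U, U.isOpen.mem_nhds hxU, ?_⟩
  haveI : IsNoetherianRing Γ(X, U) := IsLocallyNoetherian.component_noetherian ⟨U, hU⟩
  haveI : NoetherianSpace (U : Set ↥X) := noetherianSpace_of_isAffineOpen U hU
  let j : ↥((U : Set ↥X) ∩ Z) → ↥Z := fun y => ⟨y.1, y.2.2⟩
  have hj : Topology.IsOpenEmbedding j := by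
    refine ⟨⟨Topology.IsInducing.subtypeVal.codRestrict fun y : ↥((U : Set ↥X) ∩ Z) => y.2.2, fun a b h => Subtype.ext (congrArg (fun w : ↥Z => (w : ↥X)) h)⟩, ?_⟩
    have : Set.range j = (Subtype.val : ↥Z → ↥X) ⁻¹' (U : Set ↥X) := by
      ext ⟨y, hy⟩
      exact ⟨by rintro ⟨w, hw⟩; rw [← hw]; exact w.2.1, fun h => ⟨⟨y, h, hy⟩, rfl⟩⟩
    rw [this]
    exact U.isOpen.preimage continuous_subtype_val
  haveI : NoetherianSpace ↥((U : Set ↥X) ∩ Z) :=
    (Topology.IsInducing.subtypeVal.codRestrict fun y : ↥((U : Set ↥X) ∩ Z) => y.2.1).noetherianSpace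
  refine Set.Finite.of_finite_image (f := fun T => j ⁻¹' (T.1 : Set ↥Z))
    (NoetherianSpace.finite_irreducibleComponents.subset ?_) ?_
  · rintro _ ⟨T, ⟨_, ⟨y, hy, rfl⟩, hyU⟩, rfl⟩
    exact preimage_mem_irreducibleComponents T.2 hj ⟨y, hy, ⟨y.1, hyU, y.2⟩, rfl⟩
  · intro T hT T' _ he
    obtain ⟨_, ⟨y, hy, rfl⟩, hyU⟩ := hT
    have hne : ((T.1 : Set ↥Z) ∩ Set.range j).Nonempty := ⟨y, hy, ⟨y.1, hyU, y.2⟩, rfl⟩
    have hcl := subset_closure_inter_of_isPreirreducible_of_isOpen T.2.1.isPreirreducible hj.isOpen_range hne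
    have hsub : (T.1 : Set ↥Z) ⊆ T'.1 := hcl.trans ((isClosed_of_mem_irreducibleComponents _ T'.2).closure_subset_iff.mpr
      (by rintro _ ⟨hw, v, rfl⟩; exact (Set.ext_iff.mp he v).mp hw))
    exact Subtype.ext (le_antisymm hsub (T.2.2 T'.2.1 hsub))

end Groth.Agent.S1693
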