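import Groth.Statements.S16948
import Groth.Agent.Lib.CBC10.Compat
import Groth.Agent.Lib.CBC10.SectAff
import Groth.Agent.Lib.ModLimH13.Hom1

set_option autoImplicit false
universe u
open Coherent
set_option maxHeartbeats 2000000

namespace Groth.Agent.S16948

open AlgebraicGeometry CategoryTheory Scheme.Modules in
/-- Take two cartesian squares of schemes side by side, f : X → Y over φ : U → V (vertical maps ξ : X →
U and η : Y → V, f ≫ η = ξ ≫ φ) and g : Y → Z over ψ : V → W (vertical map ζ : Z → W, g ≫ ζ = η ≫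
ψ), a quasi-coherent O_Z-module L and a natural number p. Write β for the degree-p base change maps
of higher direct images (R^p the p-th right derived functor of direct image on O-modules; the maps
are the pinned ones of the structure GenBC relative to pinned comparison data for ζ, η and ξ): B₂
for the right square, B₁ for the left square, B for the outer square. Then the composite of the
composition isomorphism φ^* ψ^* R^p ζ_* L ≅ (φ ≫ ψ)^* R^p ζ_* L with β_B(L) equals φ^* β_{B₂}(L)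
followed by β_{B₁}(g^* L) followed by R^p ξ_* of the composition isomorphism f^* g^* L ≅ (f ≫ g)^*
L. The source states this for arbitrary ζ and η; its verification evaluates both sides on sections
of R^p ζ_* L and R^p η_*(g^* L) over affine opens, identified with cohomology classes over their
preimages, and that identification is the one available for ζ and η quasi-compact and
quasi-separated, which are therefore assumed here. -/
theorem result
    {X Y Z U V W : Scheme.{u}} (f : X ⟶ Y) (g : Y ⟶ Z) (ξ : X ⟶ U) (η : Y ⟶ V) (ζ : Z ⟶ W)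
    (φ : U ⟶ V) (ψ : V ⟶ W) (h₁ : IsPullback f ξ η φ) (h₂ : IsPullback g η ζ ψ)
    (hw : (f ≫ g) ≫ ζ = ξ ≫ (φ ≫ ψ))
    [QuasiCompact ζ] [QuasiSeparated ζ] [QuasiCompact η] [QuasiSeparated η]
    [HasInjectiveResolutions X.Modules] [HasInjectiveResolutions Y.Modules] [HasInjectiveResolutions Z.Modules]
    (L : Z.Modules) [Coh.IsQCoh L] (p : ℕ)
    {Δζ : RDer.DerivedLES (pushforward ζ)} {Δη : RDer.DerivedLES (pushforward η)} {Δξ : RDer.DerivedLES (pushforward ξ)}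
    (Eζ : CohCmp.SectCmp ζ Δζ) (Eη : CohCmp.SectCmp η Δη) (Eξ : CohCmp.SectCmp ξ Δξ)
    (B₂ : CohCmp.GenBC ζ ψ η g h₂.w Eζ Eη) (B₁ : CohCmp.GenBC η φ ξ f h₁.w Eη Eξ)
    (B : CohCmp.GenBC ζ (φ ≫ ψ) ξ (f ≫ g) hw Eζ Eξ) :
    (pullbackComp φ ψ).hom.app ((Coh.Rpush ζ p).obj L) ≫ B.bc p L =
      (pullback φ).map (B₂.bc p L) ≫ B₁.bc p ((pullback g).obj L) ≫
        (Coh.Rpush ξ p).map ((pullbackComp f g).hom.app L) := by
  haveI : ((Coh.Rpush ζ p).obj L).IsQuasicoherent := Groth.Agent.CohFound.isQCoh_rpush ζ ‹Coh.IsQCoh L› p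
  refine (Iso.cancel_iso_inv_left ((pullbackComp φ ψ).app ((Coh.Rpush ζ p).obj L)) _ _).1 ?_
  refine Eq.trans (Iso.inv_hom_id_assoc ((pullbackComp φ ψ).app ((Coh.Rpush ζ p).obj L)) _) ?_
  refine Groth.Agent.ModLimH13.pullback_hom_ext (φ ≫ ψ) _ _ _ fun x => ?_
  obtain ⟨_, ⟨O, hO, rfl⟩, hxO, -⟩ := W.isBasis_affineOpens.exists_subset_of_mem_open (Set.mem_univ x) isOpen_univ
  refine ⟨O, Set.univ, hxO, hO, Submodule.span_univ, fun s _ => ?_⟩
  obtain ⟨z, rfl⟩ := (Groth.Agent.CBC10.bijective_ε_affine Eζ L hO p).2 s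
  have k₁ : ((pullbackComp φ ψ).inv.app ((Coh.Rpush ζ p).obj L)).app ((φ ≫ ψ) ⁻¹ᵁ O)
      (Groth.Agent.ModLimH13.res' (φ ≫ ψ) _ le_rfl (Eζ.ε O L p z)) =
      Groth.Agent.ModLimH13.res' φ _ le_rfl (Groth.Agent.ModLimH13.res' ψ _ le_rfl (Eζ.ε O L p z)) := by
    refine (congrArg (((pullbackComp φ ψ).inv.app ((Coh.Rpush ζ p).obj L)).app ((φ ≫ ψ) ⁻¹ᵁ O))
      ((congrArg (fun t : (pullback φ).obj ((pullback ψ).obj ((Coh.Rpush ζ p).obj L)) ⟶
          (pullback (φ ≫ ψ)).obj ((Coh.Rpush ζ p).obj L) => t.app ((φ ≫ ψ) ⁻¹ᵁ O)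
            (Groth.Agent.ModLimH13.res' φ _ le_rfl (Groth.Agent.ModLimH13.res' ψ _ le_rfl (Eζ.ε O L p z))))
          (Groth.Agent.CBC10.cmp_rfl_app φ ψ _).symm).trans
        (Groth.Agent.ModLimH13.cmp_res' φ ψ _ rfl le_rfl le_rfl (Eζ.ε O L p z))).symm).trans ?_
    exact congrArg (fun t => t.app ((φ ≫ ψ) ⁻¹ᵁ O) (Groth.Agent.ModLimH13.res' φ _ le_rfl
      (Groth.Agent.ModLimH13.res' ψ _ le_rfl (Eζ.ε O L p z)))) ((pullbackComp φ ψ).hom_inv_id_app _)
  have k₂ : ((pullback φ).map (B₂.bc p L)).app ((φ ≫ ψ) ⁻¹ᵁ O)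
      (Groth.Agent.ModLimH13.res' φ _ le_rfl (Groth.Agent.ModLimH13.res' ψ _ le_rfl (Eζ.ε O L p z))) =
      Groth.Agent.ModLimH13.res' φ _ le_rfl (Eη.ε (ψ ⁻¹ᵁ O) ((pullback g).obj L) p
        (CohPull.pullOn g (ζ ⁻¹ᵁ O) (η ⁻¹ᵁ (ψ ⁻¹ᵁ O))
          (Groth.Agent.CBC10.le_preimage_of_le (w := h₂.w) le_rfl) L p z)) :=
    (Groth.Agent.ModLimH13.map_res' φ _ le_rfl _ _).trans
      (congrArg (Groth.Agent.ModLimH13.res' φ _ le_rfl) (Groth.Agent.CBC10.bc_res'_ε B₂ p L le_rfl z))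
  refine (Groth.Agent.CBC10.bc_res'_ε B p L le_rfl z).trans ?_
  refine Eq.symm ((congrArg (fun t => ((Coh.Rpush ξ p).map ((pullbackComp f g).hom.app L)).app _
    ((B₁.bc p ((pullback g).obj L)).app _ (((pullback φ).map (B₂.bc p L)).app _ t))) k₁).trans ?_)
  refine (congrArg (fun t => ((Coh.Rpush ξ p).map ((pullbackComp f g).hom.app L)).app _
    ((B₁.bc p ((pullback g).obj L)).app _ t)) k₂).trans ?_
  refine (congrArg (fun t => ((Coh.Rpush ξ p).map ((pullbackComp f g).hom.app L)).app _ t)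
    (Groth.Agent.CBC10.bc_res'_ε B₁ p _ (V := ψ ⁻¹ᵁ O) (W := (φ ≫ ψ) ⁻¹ᵁ O) le_rfl _)).trans ?_
  refine (Eξ.natural _ ((pullbackComp f g).hom.app L) p _).symm.trans ?_
  exact congrArg (Eξ.ε _ _ p) (Groth.Agent.CBC10.pullOn_pullOn f g _ _ _ _ _ _ L p z)

end Groth.Agent.S16948
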