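import Groth.Statements.S16951
import Groth.Agent.Lib.PicPn.TrivialLocus
import Groth.Agent.Lib.TensorMod.PullTensor

set_option autoImplicit false
universe u
open PicF

namespace Groth.Agent.S16951

open AlgebraicGeometry CategoryTheory Scheme.Modules in
/-- Let f : X → S be a proper flat morphism of locally Noetherian schemes whose fibres are geometrically
integral, and let L be an invertible O_X-module with an inverse M (an isomorphism L ⊗ M ≅ O_X). Then
the following are equivalent: (a) L ≅ f^* L₀ for some invertible O_S-module L₀; (b) for N = L and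
for N = M, at every point s of S the space H^0(X_s, N|_{X_s}) of sections over the scheme-theoretic
fibre is nonzero and the degree-0 base change map of the fibre square, κ(s)^* f_* N → (X_s → Spec
κ(s))_* (N|_{X_s}), is an epimorphism. When this holds, dim_{κ(s)} H^0(X_s, N|_{X_s}) = 1 for every
s and both N, the counit f^* f_* L → L is an isomorphism, and any invertible L₀ with L ≅ f^* L₀ is
isomorphic to f_* L. -/
theorem result
    {X S : Scheme.{u}} (f : X ⟶ S) [IsProper f] [Flat f] [IsLocallyNoetherian X] [IsLocallyNoetherian S]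
    [GeometricallyIntegral f] (L M : X.Modules) (hL : PicF.IsInvertible L)
    (hM : Nonempty (CohB1.tensorMod L M ≅ Coh.structureModule X)) :
    ((∃ L₀ : S.Modules, PicF.IsInvertible L₀ ∧ Nonempty (L ≅ (pullback f).obj L₀)) ↔
      ((∀ s : S, Nontrivial (CohIII.fiberH f L s 0)) ∧ (∀ s : S, Nontrivial (CohIII.fiberH f M s 0)) ∧
        (∀ s : S, Epi (CohBC.bc0 f (S.fromSpecResidueField s) (f.fiberToSpecResidueField s) (f.fiberι s) (f.fiber_fac s) L)) ∧ (∀ s : S, Epi (CohBC.bc0 f (S.fromSpecResidueField s) (f.fiberToSpecResidueField s) (f.fiberι s) (f.fiber_fac s) M)))) ∧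
    (((∀ s : S, Nontrivial (CohIII.fiberH f L s 0)) ∧ (∀ s : S, Nontrivial (CohIII.fiberH f M s 0)) ∧
        (∀ s : S, Epi (CohBC.bc0 f (S.fromSpecResidueField s) (f.fiberToSpecResidueField s) (f.fiberι s) (f.fiber_fac s) L)) ∧ (∀ s : S, Epi (CohBC.bc0 f (S.fromSpecResidueField s) (f.fiberToSpecResidueField s) (f.fiberι s) (f.fiber_fac s) M))) →
      (∀ s : S, CohIII.fiberRank f L 0 s = 1 ∧ CohIII.fiberRank f M 0 s = 1) ∧
      IsIso ((pullbackPushforwardAdjunction f).counit.app L) ∧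
      ∀ L₀ : S.Modules, PicF.IsInvertible L₀ → Nonempty (L ≅ (pullback f).obj L₀) →
        Nonempty (L₀ ≅ (pushforward f).obj L)) := by
  obtain ⟨e⟩ := hM
  haveI : LocallyOfFinitePresentation f := Groth.Agent.LimH13.locallyOfFinitePresentation_of_noetherian f
  haveI : GeometricallyConnected f := Groth.Agent.PicPn.geometricallyConnected_of_irreducible f
  have h0 := fun s => Groth.Agent.PicPn.finrank_fiber_of_geometrically f s
  have hb := Groth.Agent.PicPn.bijective_app_of_h0 f h0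
  have hM' : PicF.IsInvertible M :=
    Groth.Agent.M2.isInvertible_of_tensor_iso hL (Groth.Agent.M2.tensorComm M L ≪≫ e)
  have hfib := fun s => Groth.Agent.PicPn.fibre_trivial_iff f s hL hM' e
  have hfib' := fun s => Groth.Agent.PicPn.fibre_trivial_iff f s hM' hL (Groth.Agent.M2.tensorComm M L ≪≫ e)
  have hgen : ∀ (N : X.Modules), PicF.IsInvertible N →
      (∀ s : S, Nonempty ((Scheme.Modules.pullback (f.fiberι s)).obj N ≅ Coh.structureModule (f.fiber s))) →
      (∀ s : S, Epi (CohBC.bc0 f (S.fromSpecResidueField s) (f.fiberToSpecResidueField s) (f.fiberι s) (f.fiber_fac s) N)) →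
      ∀ s : S, ∃ (U : S.Opens) (σ : Γ(N, f ⁻¹ᵁ U)), s ∈ U ∧ Groth.Agent.Twist.IsGen N (f ⁻¹ᵁ U) σ := by
    intro N hN ht he s
    haveI : Subsingleton (Spec (S.residueField s)) :=
      inferInstanceAs (Subsingleton (PrimeSpectrum (S.residueField s)))
    obtain ⟨V, hV, hsV, -⟩ := exists_isAffineOpen_mem_and_subset (X := S) (x := s) (U := ⊤) trivial
    exact Groth.Agent.PicPn.exists_gen_of_surjective f hN hV hsV
      ((Groth.Agent.CBC10.epi_iff_surjective_top _).1 (he s)) (ht s)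
  have back : ((∀ s : S, Nontrivial (CohIII.fiberH f L s 0)) ∧ (∀ s : S, Nontrivial (CohIII.fiberH f M s 0)) ∧
      (∀ s : S, Epi (CohBC.bc0 f (S.fromSpecResidueField s) (f.fiberToSpecResidueField s) (f.fiberι s) (f.fiber_fac s) L)) ∧
      (∀ s : S, Epi (CohBC.bc0 f (S.fromSpecResidueField s) (f.fiberToSpecResidueField s) (f.fiberι s) (f.fiber_fac s) M))) → _ :=
    fun h => Groth.Agent.PicPn.exists_of_gens f hb
      (hgen L hL (fun s => (hfib s).2 ⟨h.1 s, h.2.1 s⟩) h.2.2.1)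
  refine ⟨⟨?_, fun h => ?_⟩, fun h => ?_⟩
  · rintro ⟨L₀, hL₀, ⟨φ⟩⟩
    obtain ⟨D₀, hD₀, ⟨e₀⟩⟩ := Groth.Agent.M2.exists_inverse hL₀
    let φM : (Scheme.Modules.pullback f).obj D₀ ≅ M :=
      (Groth.Agent.M2.tensorLUnit _).symm ≪≫
        Groth.Agent.M2.tensorIso (e.symm ≪≫ Groth.Agent.M2.tensorComm L M) (Iso.refl _) ≪≫
        Groth.Agent.M2.tensorAssoc M L _ ≪≫
        Groth.Agent.M2.tensorIso (Iso.refl M) (Groth.Agent.M2.tensorIso φ (Iso.refl _) ≪≫
          (Groth.Agent.M2.pullTensorIso f L₀ D₀).symm ≪≫ (Scheme.Modules.pullback f).mapIso e₀ ≪≫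
          Groth.Agent.Twist.pullbackUnitIso f) ≪≫ Groth.Agent.M2.tensorRUnit M
    have ht := fun s => Groth.Agent.PicPn.fibre_trivial_of_pullback f hL₀ φ.symm s
    refine ⟨fun s => ((hfib s).1 (ht s)).1, fun s => ((hfib s).1 (ht s)).2, fun s => ?_, fun s => ?_⟩
    · obtain ⟨U, σ, hsU, hσ⟩ := Groth.Agent.PicPn.exists_gen_of_pullback f hL₀ φ.symm s
      exact Groth.Agent.PicPn.epi_bc0_of_gen f s
        (Groth.Agent.PicPn.bijective_fiber_appTop_of_finrank f s (h0 s)) σ hsU hσ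
    · obtain ⟨U, σ, hsU, hσ⟩ := Groth.Agent.PicPn.exists_gen_of_pullback f hD₀ φM s
      exact Groth.Agent.PicPn.epi_bc0_of_gen f s
        (Groth.Agent.PicPn.bijective_fiber_appTop_of_finrank f s (h0 s)) σ hsU hσ
  · obtain ⟨⟨N, hN, ⟨φ⟩⟩, -⟩ := back h
    exact ⟨N, hN, ⟨φ.symm⟩⟩
  · refine ⟨fun s => ⟨?_, ?_⟩, (back h).2.2, fun L₀ hL₀ ⟨φ⟩ => ?_⟩
    · rw [Groth.Agent.PicPn.fiberRank_zero_eq_finrank f L s ((hfib s).2 ⟨h.1 s, h.2.1 s⟩).some, h0]
    · rw [Groth.Agent.PicPn.fiberRank_zero_eq_finrank f M s ((hfib' s).2 ⟨h.2.1 s, h.1 s⟩).some, h0]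
    · haveI := Groth.Agent.PushUnit3.isIso_unit f hb (Groth.Agent.M2.isFinLocFree_of_isInvertible hL₀)
      exact ⟨asIso ((pullbackPushforwardAdjunction f).unit.app L₀) ≪≫ (pushforward f).mapIso φ.symm⟩

end Groth.Agent.S16951
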