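import Groth.Statements.S1696
import Groth.Agent.Lib.DepthAlong11.FlatExtend
import Groth.Agent.Lib.TensorMod.PullStalk

set_option autoImplicit false
set_option backward.isDefEq.respectTransparency false
universe u
open CategoryTheory CategoryTheory.Limits AlgebraicGeometry TopologicalSpace
open SDiv

namespace Groth.Agent.S1696

theorem isSMulRegular_germ {X : Scheme.{u}} {U : X.Opens} (hU : IsAffineOpen U) {y : X} (hy : y ∈ U)
    {f : Γ(X, U)} (hf : f ∈ nonZeroDivisors Γ(X, U)) :
    IsSMulRegular (X.presheaf.stalk y) (X.presheaf.germ U y hy f) := by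
  letI := TopCat.Presheaf.algebra_section_stalk X.presheaf (⟨y, hy⟩ : U)
  haveI := hU.isLocalization_stalk ⟨y, hy⟩
  let p := (hU.primeIdealOf ⟨y, hy⟩).asIdeal
  rw [isSMulRegular_iff_right_eq_zero_of_smul]
  intro z hz
  obtain ⟨⟨a, s⟩, ha⟩ := IsLocalization.surj p.primeCompl z
  have h1 : algebraMap Γ(X, U) (X.presheaf.stalk y) (f * a) = 0 := by
    rw [map_mul, ← ha, ← mul_assoc]
    change (X.presheaf.germ U y hy f • z) * _ = 0
    rw [hz, zero_mul]
  obtain ⟨t, ht⟩ := (IsLocalization.map_eq_zero_iff p.primeCompl _ _).1 h1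
  rw [mul_left_comm, mul_comm f] at ht
  have h2 : algebraMap Γ(X, U) (X.presheaf.stalk y) a = 0 :=
    (IsLocalization.map_eq_zero_iff p.primeCompl _ _).2
      ⟨t, (mem_nonZeroDivisors_iff.1 hf).2 _ ht⟩
  rw [← ha] at h2
  exact (IsLocalization.map_units (X.presheaf.stalk y) s).mul_left_eq_zero.1 h2


/-- Let b : S' → S be the blowing-up of a scheme S in a quasi-coherent sheaf of ideals 𝓘 and F a
quasi-coherent O_S-module which is flat at every point of V(𝓘), the support of O_S/𝓘. Then the
pullback b^*F is its own strict transform (via the identity map): no nonzero local section of b^*F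
is annihilated by a power of the exceptional ideal. -/
theorem result {S S' : Scheme.{u}} (𝓘 : S.IdealSheafData) (b : S' ⟶ S) (hb : BlowUp.IsBlowUp b 𝓘)
    (F : S.Modules) (hF : Coh.IsQCoh F) (hflat : ∀ s : ↥S, s ∈ 𝓘.support → FlatMod.IsFlatAt F s) :
    BlowUp.IsStrictTransform b 𝓘 F ((Scheme.Modules.pullback b).obj F) (𝟙 _) := by
  refine ⟨inferInstance, fun V m => ⟨fun h => ⟨0, fun a _ => ?_⟩, ?_⟩⟩
  · change m = 0 at h
    rw [h, smul_zero]
  rintro ⟨n, hn⟩
  let G := (Scheme.Modules.pullback b).obj F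
  change m = 0
  refine TopCat.Presheaf.section_ext ⟨G.presheaf, G.isSheaf⟩ V.1 m 0 fun y hy => ?_
  show G.presheaf.germ V.1 y hy m = G.presheaf.germ V.1 y hy 0
  rw [map_zero]
  have hpow : ∀ a ∈ (BlowUp.exceptional b 𝓘).ideal V, a ^ n • m = 0 := fun a ha => hn _ (by
    rw [Scheme.IdealSheafData.ideal_pow]; exact Ideal.pow_mem_pow ha n)
  by_cases hs : b y ∈ 𝓘.support
  · haveI : Module.Flat (S.presheaf.stalk (b y)) (F.presheaf.stalk (b y) : Type u) := hflat _ hs
    haveI : Module.Flat (S'.presheaf.stalk y) (G.presheaf.stalk y : Type u) :=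
      Module.Flat.of_linearEquiv (M2.pullStalkEquiv b y F).symm
    obtain ⟨U, hyU, f, hf, hfU⟩ := hb.1 y
    obtain ⟨W, hW, hyW, hWle⟩ := exists_isAffineOpen_mem_and_subset (x := y) (U := U.1 ⊓ V.1) ⟨hyU, hy⟩
    have hWU : (⟨W, hW⟩ : S'.affineOpens) ≤ U := fun v hv => (hWle hv).1
    have hWV : (⟨W, hW⟩ : S'.affineOpens) ≤ V := fun v hv => (hWle hv).2
    have h1 : (M1.ores (show W ≤ U.1 from hWU) f) ^ n • M1.mres G (show W ≤ V.1 from hWV) m = 0 := by
      have hmem : (M1.ores (show W ≤ U.1 from hWU) f) ^ n ∈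
          (((BlowUp.exceptional b 𝓘) ^ n).ideal V).map (S'.presheaf.map (homOfLE hWV).op).hom := by
        rw [Scheme.IdealSheafData.map_ideal, Scheme.IdealSheafData.ideal_pow]
        refine Ideal.pow_mem_pow ?_ n
        rw [← (BlowUp.exceptional b 𝓘).map_ideal hWU, hfU]
        exact Ideal.mem_map_of_mem _ (Ideal.mem_span_singleton_self f)
      have hle : (((BlowUp.exceptional b 𝓘) ^ n).ideal V).map (S'.presheaf.map (homOfLE hWV).op).hom ≤
          Ideal.torsionOf Γ(S', W) Γ(G, W) (M1.mres G (show W ≤ V.1 from hWV) m) := by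
        rw [Ideal.map_le_iff_le_comap]
        intro a ha
        show M1.ores (show W ≤ V.1 from hWV) a • M1.mres G (show W ≤ V.1 from hWV) m = 0
        rw [← M1.mres_smul, hn a ha, map_zero]
      exact hle hmem
    have h2 := congrArg (G.presheaf.germ W y hyW) h1
    rw [map_zero, M1.germ_smul, M1.germ_mres, map_pow, TopCat.Presheaf.germ_res_apply] at h2
    exact ((DepthAlong11.isSMulRegular_of_flat (R := S'.presheaf.stalk y) (G.presheaf.stalk y : Type u)
      (isSMulRegular_germ U.2 hyU hf)).pow n).right_eq_zero_of_smul h2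
  · have hys : y ∉ (BlowUp.exceptional b 𝓘).support := by
      rw [BlowUp.exceptional, Scheme.IdealSheafData.support_comap]
      exact hs
    rw [Scheme.IdealSheafData.mem_support_iff_of_mem hy, Scheme.mem_zeroLocus_iff] at hys
    push Not at hys
    obtain ⟨a, ha, hay⟩ := hys
    have h2 := congrArg (G.presheaf.germ V.1 y hy) (hpow a ha)
    rw [map_zero, M1.germ_smul, map_pow] at h2
    exact (((S'.mem_basicOpen a y hy).1 hay).pow n).smul_eq_zero.1 h2


end Groth.Agent.S1696
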