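import Groth.Prelude.Def_ConstAct2
import Groth.Prelude.Def_StMod2
import Mathlib.RingTheory.FiniteType
import Groth.Agent.Lib.ConstCat23.Main
import Groth.Agent.Lib.ConstCat23.Unit
import Groth.Agent.Lib.IsQuot25.FlatBC
-- import your own Groth.Agent.* helpers here

set_option autoImplicit false
universe u
open ConstAct

namespace Groth.Agent.S16961

open CategoryTheory AlgebraicGeometry in
/-- Let R be a Noetherian commutative ring, A a commutative R-algebra of finite type, and G a finite
group acting on A by R-algebra automorphisms, with ring of invariants A^G. Let [Spec A/G] be the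
quotient stack of Spec A by the constant group scheme of G over Spec R, the category over (Sch/Spec
R) whose objects are torsors under the constant group scheme, locally trivial for the fppf topology,
with an equivariant morphism to Spec A; and let π : [Spec A/G] → Spec A^G be a functor over
(Sch/Spec R) whose composite with the canonical functor Spec A → [Spec A/G] is the functor of the
morphism Spec A → Spec A^G induced by the inclusion A^G ⊆ A. Then the structure sheaf of Spec A^G
maps isomorphically onto the pushforward of the structure sheaf of [Spec A/G]: for every scheme E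
etale over Spec A^G, the canonical map from the ring of functions on E to the sections over E of the
pushforward (the compatible families of functions on the base schemes of the objects of [Spec A/G]
equipped with a morphism to E over Spec A^G) is bijective. (The published statement puts no
finiteness condition on A; the published proof uses that A is finite over A^G, which holds when A is
of finite type over a Noetherian ring, the case stated here.) -/
theorem result (R : Type u) [CommRing R] [IsNoetherianRing R]
    (A : Type u) [CommRing A] [Algebra R A] [Algebra.FiniteType R A]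
    (G : Type u) [Group G] [Fintype G] [DecidableEq G] [MulSemiringAction G A] [SMulCommClass G R A]
    (π : ConstAct.quotSt R A G Scheme.fppfPrecoverage ⥤ᵇ AlgSt.ofSch (ConstAct.specInv R A G))
    (hπ : BasedFunctor.comp
        (AlgSt.quotMap Scheme.fppfPrecoverage (ConstAct.GR R G) (ConstAct.gaction R A G)) π =
      AlgSt.ofSpMap ((AlgSp.yon (Spec (CommRingCat.of R))).map (ConstAct.quot R A G))) :
    StMod.UnitIsIso π := by
  haveI : IsAffineHom (ConstAct.GR R G).hom :=
    inferInstanceAs (IsAffineHom (Spec.map (CommRingCat.ofHom (algebraMap R (ConstGrp.F R G)))))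
  haveI : Flat (ConstAct.GR R G).hom :=
    (HasRingHomProperty.Spec_iff (P := @Flat)).2 (RingHom.flat_algebraMap_iff.2 inferInstance)
  haveI : LocallyOfFinitePresentation (ConstAct.GR R G).hom :=
    (HasRingHomProperty.Spec_iff (P := @LocallyOfFinitePresentation)).2
      (RingHom.finitePresentation_algebraMap.2
        ((Algebra.FinitePresentation.of_finiteType (R := R) (A := ConstGrp.F R G)).1 inferInstance))
  intro E
  let η : (AlgSt.ofSch (ConstAct.specInv R A G)).obj := StMod.etaOf E
  let g : η.base ⟶ ConstAct.specInv R A G := η.sec.down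
  obtain ⟨g', hg'⟩ := (AlgSp.yon (Spec (CommRingCat.of R))).map_surjective E.obj.hom
  have hgg : g = g' := by
    show (((AlgSp.J (Spec (CommRingCat.of R))).uliftYonedaEquiv E.obj.hom)).down = g'
    rw [← hg']
    exact Category.id_comp g'
  haveI : Etale g.left := by
    rw [hgg]
    have h : AlgSp.RepWith @Etale E.obj.hom := E.property
    rw [← hg'] at h
    exact (AlgSp.repWith_yon_map_iff @Etale g').1 h
  let p := (ConstAct.quot R A G).left
  let X' : Over (Spec (CommRingCat.of R)) :=
    Over.mk (Limits.pullback.fst p g.left ≫ (ConstAct.X R A).hom)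
  let p₁ : X' ⟶ ConstAct.X R A := Over.homMk (Limits.pullback.fst p g.left) rfl
  let p₂ : X' ⟶ η.base := Over.homMk (Limits.pullback.snd p g.left) (by
    show Limits.pullback.snd p g.left ≫ η.base.hom = Limits.pullback.fst p g.left ≫ (ConstAct.specA R A).hom
    rw [← Over.w g, ← Over.w (ConstAct.quot R A G), Limits.pullback.condition_assoc])
  have hsq : IsPullback p₁ p₂ (ConstAct.quot R A G) g :=
    IsPullback.of_map (Over.forget _) (Over.OverMorphism.ext Limits.pullback.condition)
      (IsPullback.of_hasPullback p g.left)
  have hp := Groth.Agent.ConstCat23.isQuot R A G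
  let σ : G → (X'.left ⟶ X'.left) := fun k =>
    Limits.pullback.lift (Limits.pullback.fst p g.left ≫ (Groth.Agent.ConstCat23.rho R A G k).hom)
      (Limits.pullback.snd p g.left) (by rw [Category.assoc, hp.inv, Limits.pullback.condition])
  have hσmul : ∀ a b, σ (a * b) = σ b ≫ σ a := fun a b => by
    apply Limits.pullback.hom_ext
    · simp only [σ, Limits.pullback.lift_fst, Category.assoc, Limits.pullback.lift_fst_assoc,
        Groth.Agent.IsQuot25.map_mul_hom]
    · simp only [σ, Limits.pullback.lift_snd, Category.assoc]
  have hσone : σ 1 = 𝟙 _ := by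
    apply Limits.pullback.hom_ext
    · simp only [σ, Limits.pullback.lift_fst, Groth.Agent.IsQuot25.map_one_hom, Category.comp_id, Category.id_comp]
    · simp only [σ, Limits.pullback.lift_snd, Category.id_comp]
  let ρ' : G →* Aut X'.left :=
    { toFun := fun k => ⟨σ k, σ k⁻¹, by rw [← hσmul, inv_mul_cancel, hσone],
        by rw [← hσmul, mul_inv_cancel, hσone]⟩
      map_one' := Iso.ext hσone
      map_mul' := fun a b => Iso.ext (hσmul a b) }
  have hq : SGA1.IsQuot ρ' p₂.left :=
    Groth.Agent.IsQuot25.baseChange_flat hp g.left _ _ (IsPullback.of_hasPullback p g.left) ρ'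
      (fun k => Limits.pullback.lift_fst _ _ _) (fun k => Limits.pullback.lift_snd _ _ _)
  refine Groth.Agent.ConstCat23.unitSect_bijective hπ hsq (hq.injective ⊤) fun a ha => ?_
  refine (hq.range_iff ⊤ a).2 fun k => ?_
  let s : X' ⟶ X' := Over.homMk (σ k) (by
    show σ k ≫ Limits.pullback.fst p g.left ≫ (ConstAct.specA R A).hom =
      Limits.pullback.fst p g.left ≫ (ConstAct.specA R A).hom
    rw [← Over.w (ConstAct.quot R A G), Limits.pullback.condition_assoc, ← Category.assoc,
      Limits.pullback.lift_snd])
  have hs₁ : s ≫ p₁ = p₁ ≫ ConstAct.act R A G k⁻¹ :=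
    Over.OverMorphism.ext (Limits.pullback.lift_fst _ _ _)
  have h := ha s (Over.OverMorphism.ext (Limits.pullback.lift_snd _ _ _))
    ⟨(s ≫ p₁) ≫ Groth.Agent.ConstCat23.gpt R A G k⁻¹, by
      have e : CartesianMonoidalCategory.lift ((s ≫ p₁) ≫ Groth.Agent.ConstCat23.gpt R A G k⁻¹) (s ≫ p₁) =
          (s ≫ p₁) ≫ CartesianMonoidalCategory.lift (Groth.Agent.ConstCat23.gpt R A G k⁻¹) (𝟙 _) := by
        rw [CartesianMonoidalCategory.comp_lift, Category.comp_id]
      rw [e, Category.assoc, Groth.Agent.ConstCat23.lift_gpt_act, hs₁]
      refine (Category.assoc _ _ _).trans (Eq.trans (congrArg (p₁ ≫ ·) ?_) (Category.comp_id _))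
      exact (ConstAct.act_mul R A G _ _).symm.trans (by rw [mul_inv_cancel, ConstAct.act_one]; rfl)⟩
  show ((ρ' k).hom.appLE _ _ _).hom a = a
  exact Eq.trans (by rw [Scheme.Hom.appTop, Scheme.Hom.app_eq_appLE]; rfl) h

end Groth.Agent.S16961
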