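import Groth.Statements.S16962
import Groth.Agent.Lib.ConstAct23.Basic

set_option autoImplicit false
universe u
open ConstAct

namespace Groth.Agent.S16962

open scoped TensorProduct

theorem action_ext {Γ B : Type*} [Monoid Γ] [Semiring B] (a₁ a₂ : MulSemiringAction Γ B)
    (h : ∀ γ b, @HSMul.hSMul Γ B B (@instHSMul Γ B a₁.toSMul) γ b = @HSMul.hSMul Γ B B (@instHSMul Γ B a₂.toSMul) γ b) :
    a₁ = a₂ := by
  rcases a₁ with @⟨@⟨@⟨@⟨s₁⟩⟩⟩⟩
  rcases a₂ with @⟨@⟨@⟨@⟨s₂⟩⟩⟩⟩
  obtain rfl : s₁ = s₂ := SMul.ext (funext fun γ => funext (h γ))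
  rfl

open TensorProduct in
/-- Let R be a commutative ring, Γ a finite group and B a commutative R-algebra equipped with a comodule
structure over the Hopf algebra of R-valued functions on Γ (the coordinate ring of the constant
group scheme of Γ over Spec R, with basis the indicator functions e_γ) whose coaction B → B ⊗ Fun(Γ,
R) is a homomorphism of algebras, i.e. an action of the constant group scheme on Spec B. Then there
is exactly one action of Γ on B by R-algebra automorphisms whose associated coaction b ↦ Σ_γ (γ · b)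
⊗ e_γ is the given coaction; and for that action the ring of invariants of the comodule algebra (the
b whose coaction is b ⊗ 1) equals the ring of elements fixed by Γ. (That the coaction associated
with an action is a comodule algebra structure is the other direction of the published equivalence
and is a construction here.) -/
theorem result (R : Type u) [CommRing R]
    (B : Type u) [CommRing B] [Algebra R B] (Γ : Type u) [Group Γ] [Fintype Γ] [DecidableEq Γ]
    [HopfRep.Comod R (ConstGrp.F R Γ) B] [GLin.IsCoactAlg R (ConstGrp.F R Γ) B] :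
    ∃! a : MulSemiringAction Γ B, ∃ _ : SMulCommClass Γ R B,
      ConstAct.coactLin R B Γ = HopfRep.Comod.coact (k := R) (A := ConstGrp.F R Γ) (V := B) ∧
        GLin.invariants R (ConstGrp.F R Γ) B = ConstAct.inv R B Γ := by
  let a := Groth.Agent.ConstAct23.action R B (Γ := Γ)
  have hc : @SMulCommClass Γ R B a.toSMul _ :=
    ⟨fun γ r b => map_smul (Groth.Agent.ConstAct23.smulFun R B γ) r b⟩
  have hco : @ConstAct.coactLin R _ B _ _ Γ _ _ _ a hc = HopfRep.Comod.coact (k := R) (A := ConstGrp.F R Γ) (V := B) := by
    letI := a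
    refine LinearMap.ext fun b => ?_
    rw [ConstAct.coactLin_apply]
    exact (Groth.Agent.ConstAct23.eq_sum_sl R B _).symm
  refine ⟨a, ⟨hc, hco, ?_⟩, ?_⟩
  · letI := a
    ext b
    constructor
    · intro hb γ
      show Groth.Agent.ConstAct23.smulFun R B γ b = b
      rw [Groth.Agent.ConstAct23.smulFun_apply, show HopfRep.Comod.coact (k := R) (A := ConstGrp.F R Γ) b = b ⊗ₜ[R] (1 : ConstGrp.F R Γ) from hb]
      simp
    · intro hb
      show HopfRep.Comod.coact (k := R) (A := ConstGrp.F R Γ) b = b ⊗ₜ[R] (1 : ConstGrp.F R Γ)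
      refine Groth.Agent.ConstAct23.ext_sl R B fun g => ?_
      rw [← Groth.Agent.ConstAct23.smulFun_apply, show Groth.Agent.ConstAct23.smulFun R B g b = b from hb g]
      simp
  · rintro a' ⟨hc', hco', -⟩
    have key : ∀ (γ : Γ) (b : B), @HSMul.hSMul Γ B B (@instHSMul Γ B a'.toSMul) γ b = @HSMul.hSMul Γ B B (@instHSMul Γ B a.toSMul) γ b := ?_
    · exact action_ext a' a key
    intro γ b
    show _ = Groth.Agent.ConstAct23.smulFun R B γ b
    letI := a'
    rw [Groth.Agent.ConstAct23.smulFun_apply, ← hco', ConstAct.coactLin_apply, map_sum, Finset.sum_eq_single γ]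
    · simp
    · intro g _ hg; simp [ConstGrp.e_apply, Ne.symm hg]
    · exact fun h => absurd (Finset.mem_univ _) h


end Groth.Agent.S16962
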