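import Groth.Statements.S16963
import Groth.Agent.Lib.ConstAct23.Basic

set_option autoImplicit false
universe u
open scoped BigOperators
open ConstAct

namespace Groth.Agent.S16963

open scoped TensorProduct

open TensorProduct in
/-- Let R be a commutative ring and Γ a finite group acting on a commutative R-algebra B by R-algebra
automorphisms; regard B as a comodule algebra over the Hopf algebra of R-valued functions on Γ (the
constant group scheme of Γ acting on Spec B) through the coaction b ↦ Σ_γ (γ · b) ⊗ e_γ. Then the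
action is tame — there is a comodule map α from the Hopf algebra, with its regular coaction, to B
with α(1) = 1 (a total integral) — if and only if the trace b ↦ Σ_γ γ · b, which takes values in the
ring of invariants B^Γ, maps B onto B^Γ. -/
theorem result (R : Type u) [CommRing R]
    (B : Type u) [CommRing B] [Algebra R B] (Γ : Type u) [Group Γ] [Fintype Γ] [DecidableEq Γ]
    [MulSemiringAction Γ B] [SMulCommClass Γ R B] :
    letI := ConstAct.comod R B Γ
    (∃ α : ConstGrp.F R Γ →ₗ[R] B, Hoch.IsComodHom (ConstGrp.F R Γ) α ∧ α 1 = 1) ↔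
      ∀ c : B, c ∈ ConstAct.inv R B Γ → ∃ b : B, ∑ γ : Γ, γ • b = c := by
  constructor
  · rintro ⟨α, hα, hα1⟩ c hc
    let cm := ConstAct.comod R B Γ
    have key : ∀ h g : Γ, h • α (ConstGrp.e R g) = α (ConstGrp.e R (g * h⁻¹)) := by
      intro h g
      have h1 := congrArg (Groth.Agent.ConstAct23.sl R B h) (LinearMap.congr_fun hα (ConstGrp.e R g))
      simp only [LinearMap.comp_apply] at h1
      rw [show (HopfRep.Comod.coact (k := R) (A := ConstGrp.F R Γ) (α (ConstGrp.e R g))) =
        ConstAct.coactLin R B Γ (α (ConstGrp.e R g)) from rfl, ConstAct.coactLin_apply,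
        show (HopfRep.Comod.coact (k := R) (A := ConstGrp.F R Γ) (ConstGrp.e R g)) =
        Coalgebra.comul (R := R) (ConstGrp.e R g) from rfl, ConstGrp.comul_e, map_sum, map_sum, map_sum] at h1
      simp only [LinearMap.rTensor_tmul, Groth.Agent.ConstAct23.sl_tmul, ConstGrp.e_apply, ite_smul, one_smul, zero_smul] at h1
      rw [Finset.sum_eq_single h (fun x _ hx => if_neg (Ne.symm hx)) (fun hx => absurd (Finset.mem_univ _) hx),
        Finset.sum_eq_single (g * h⁻¹) (fun x _ hx => if_neg fun e => hx (by rw [e]; group))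
          (fun hx => absurd (Finset.mem_univ _) hx)] at h1
      simpa [mul_assoc] using h1
    refine ⟨c * α (ConstGrp.e R 1), ?_⟩
    rw [Finset.sum_congr rfl fun γ _ => show γ • (c * α (ConstGrp.e R 1)) = c * α (ConstGrp.e R γ⁻¹) by
      rw [smul_mul', hc γ, key, one_mul], ← Finset.mul_sum, ← map_sum,
      Fintype.sum_equiv (Equiv.inv Γ) (fun γ => ConstGrp.e R γ⁻¹) (fun γ => ConstGrp.e R γ) (fun _ => rfl),
      ConstGrp.sum_e, hα1, mul_one]
  · intro h
    obtain ⟨b, hb⟩ := h 1 (fun γ => smul_one γ)
    let α : ConstGrp.F R Γ →ₗ[R] B := (ConstGrp.basis R Γ).constr R fun g => g⁻¹ • b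
    have hαe : ∀ g, α (ConstGrp.e R g) = g⁻¹ • b := fun g => by
      rw [← ConstGrp.basis_apply (R := R) (G := Γ) g, Module.Basis.constr_basis]
    let cm := ConstAct.comod R B Γ
    refine ⟨α, ConstGrp.linearMap_ext (R := R) (G := Γ) fun g => ?_, ?_⟩
    · show ConstAct.coactLin R B Γ (α (ConstGrp.e R g)) = α.rTensor _ (Coalgebra.comul (R := R) (ConstGrp.e R g))
      refine Groth.Agent.ConstAct23.ext_sl R B fun h => ?_
      rw [ConstAct.coactLin_apply, ConstGrp.comul_e, map_sum, map_sum, map_sum]
      simp only [LinearMap.rTensor_tmul, Groth.Agent.ConstAct23.sl_tmul, ConstGrp.e_apply, ite_smul, one_smul, zero_smul, hαe]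
      rw [Finset.sum_eq_single h (fun x _ hx => if_neg (Ne.symm hx)) (fun hx => absurd (Finset.mem_univ _) hx),
        Finset.sum_eq_single (g * h⁻¹) (fun x _ hx => if_neg fun e => hx (by rw [e]; group))
          (fun hx => absurd (Finset.mem_univ _) hx), if_pos rfl, if_pos (by group), smul_smul]
      congr 1
      group
    · rw [← ConstGrp.sum_e (R := R) (G := Γ), map_sum]
      simp only [hαe]
      rw [Fintype.sum_equiv (Equiv.inv Γ) (fun γ => γ⁻¹ • b) (fun γ => γ • b) (fun _ => rfl), hb]


end Groth.Agent.S16963
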