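import Groth.Prelude.Def_ConstAct2
import Groth.Prelude.Def_AlgSt4
import Mathlib.RingTheory.FiniteType
import Groth.Agent.S13571
import Groth.Agent.Lib.Quot16.Coarse
import Groth.Agent.Lib.ConstCat23.Main
import Groth.Agent.Lib.ConstCat23.Homeo
-- import your own Groth.Agent.* helpers here

set_option autoImplicit false
universe u
open ConstAct

namespace Groth.Agent.S16965

open CategoryTheory AlgebraicGeometry in
/-- Let R be a Noetherian commutative ring, A a commutative R-algebra of finite type, and G a finite
group acting on A by R-algebra automorphisms, with ring of invariants A^G. Let [Spec A/G] be the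
quotient stack of Spec A by the constant group scheme of G over Spec R, the category over (Sch/Spec
R) whose objects are torsors under the constant group scheme, locally trivial for the fppf topology,
with an equivariant morphism to Spec A; and let π : [Spec A/G] → Spec A^G be a functor over
(Sch/Spec R) whose composite with the canonical functor Spec A → [Spec A/G] is the functor of the
morphism Spec A → Spec A^G induced by the inclusion A^G ⊆ A. Then π is a universal homeomorphism:
for every algebraic stack 𝒵 over (Sch/Spec R) (fppf topology) and every functor 𝒵 → Spec A^G over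
(Sch/Spec R), the first projection of the 2-fibre product 𝒵 ×_{Spec A^G} [Spec A/G] → 𝒵 induces a
homeomorphism on the spaces of points. (The published clause also asserts that π is proper and that
A^G is finitely generated over R; only the universal homeomorphism is stated here.) -/
theorem result (R : Type u) [CommRing R] [IsNoetherianRing R]
    (A : Type u) [CommRing A] [Algebra R A] [Algebra.FiniteType R A]
    (G : Type u) [Group G] [Fintype G] [DecidableEq G] [MulSemiringAction G A] [SMulCommClass G R A]
    (π : ConstAct.quotSt R A G Scheme.fppfPrecoverage ⥤ᵇ AlgSt.ofSch (ConstAct.specInv R A G))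
    (hπ : BasedFunctor.comp
        (AlgSt.quotMap Scheme.fppfPrecoverage (ConstAct.GR R G) (ConstAct.gaction R A G)) π =
      AlgSt.ofSpMap ((AlgSp.yon (Spec (CommRingCat.of R))).map (ConstAct.quot R A G))) :
    AlgSt.IsUnivHomeo Scheme.fppfPrecoverage π := by
  haveI : IsAffineHom (ConstAct.GR R G).hom :=
    inferInstanceAs (IsAffineHom (Spec.map (CommRingCat.ofHom (algebraMap R (ConstGrp.F R G)))))
  haveI : Flat (ConstAct.GR R G).hom :=
    (HasRingHomProperty.Spec_iff (P := @Flat)).2 (RingHom.flat_algebraMap_iff.2 inferInstance)
  haveI : LocallyOfFinitePresentation (ConstAct.GR R G).hom :=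
    (HasRingHomProperty.Spec_iff (P := @LocallyOfFinitePresentation)).2
      (RingHom.finitePresentation_algebraMap.2
        ((Algebra.FinitePresentation.of_finiteType (R := R) (A := ConstGrp.F R G)).1 inferInstance))
  haveI : Surjective (ConstAct.quot R A G).left :=
    ⟨Groth.Agent.IsQuot25.surjective (Groth.Agent.ConstCat23.isQuot R A G)⟩
  haveI : IsIntegralHom (ConstAct.quot R A G).left :=
    Groth.Agent.IsQuot25.isIntegralHom (Groth.Agent.ConstCat23.isQuot R A G)
  refine Groth.Agent.ConstCat23.isUnivHomeo_of_geomPtBij (Groth.Agent.S13571.result _ _ _)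
    (ConstAct.quot R A G) (AlgSt.quotMap Scheme.fppfPrecoverage (ConstAct.GR R G) (ConstAct.gaction R A G))
    ?_ π hπ (Groth.Agent.Quot16.geomPtBij (fun Ω _ _ t =>
      ⟨(Groth.Agent.ConstCat23.geomOrbits R A G t).1, fun x x' h =>
        ((Groth.Agent.ConstCat23.geomOrbits R A G t).2 x x' h).elim fun _ hg => hg.2⟩) π hπ)
  exact Groth.Agent.StAlg16.isSurjective_of_with (Groth.Agent.Quot16.isStack_quotSt
    Scheme.fppfPrecoverage_le_fpqcPrecoverage).1
    (Groth.Agent.StAlg16.with_comp_equiv (a := AlgSt.toOverCat (ConstAct.X R A))
      (g := Groth.Agent.Quot16.chartMap Scheme.fppfPrecoverage (ConstAct.gaction R A G))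
      ⟨AlgSt.ofOverCat (ConstAct.X R A), ⟨Iso.refl _⟩, ⟨Iso.refl _⟩⟩
      Groth.Agent.Quot16.repWith_chartMap_surjective)

end Groth.Agent.S16965
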