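import Groth.Statements.S16966
import Groth.Agent.Lib.VB17.Proper
import Groth.Agent.Lib.CurveCoh17.Clifford
import Groth.Agent.Lib.CurveCoh17.HZero
-- import your own Groth.Agent.* helpers here

set_option autoImplicit false
universe u
open CategoryTheory CategoryTheory.Limits AlgebraicGeometry Opposite
open Curves

namespace Groth.Agent.S16966

/-- Let X be a smooth projective curve over an algebraically closed field k of characteristic 0 (an
integral scheme, proper over k, of dimension one, with all local rings regular), of genus g ≥ 1, and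
L an invertible O_X-module with deg L > 2g. Then the morphism to projective space given by the
complete linear system of L is linearly stable, stated through the criterion by invertible
subsheaves: for every invertible module M and every monomorphism ι : M ⟶ L that is not an
isomorphism, with dim_k H^0(X, M) ≥ 2, one has deg L · (h^0(M) - 1) < deg M · (h^0(L) - 1), i.e. the
reduced degree deg M / (h^0(M) - 1) of the projection exceeds the reduced degree deg L / (h^0(L) -
1). Degrees are χ(·) - χ(O_X). -/
theorem result (k : Type u) [Field k] [IsAlgClosed k] [CharZero k] (X : Scheme.{u}) [X.Over (Spec (CommRingCat.of k))]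
    [IsIntegral X] [IsProper (X ↘ (Spec (CommRingCat.of k)))] (hdim : topologicalKrullDim X = 1)
    (hreg : ∀ x : X, IsRegularLocalRing (X.presheaf.stalk x))
    (hg : 1 ≤ Curv2.genus k X) (L : X.Modules) (hL : PicF.IsInvertible L)
    (hdeg : 2 * (Curv2.genus k X : ℤ) < Curv2.deg k X L 1)
    (M : X.Modules) (hM : PicF.IsInvertible M) (ι : M ⟶ L) [Mono ι] (hι : ¬ IsIso ι)
    (h2 : 2 ≤ Module.finrank k (Coh.HH X M 0)) :
    Curv2.deg k X L 1 * ((Module.finrank k (Coh.HH X M 0) : ℤ) - 1) <
      Curv2.deg k X M 1 * ((Module.finrank k (Coh.HH X L 0) : ℤ) - 1) := by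
  have hX := VB17.curveLike (k := k) hdim
  haveI := hX.noetherian
  have h0 := hX.h0_eq_one
  have hF := CurveCoh17.rkOne_of_invertible hdim.le hM
  have hR := CurveCoh17.rkOne_of_invertible hdim.le hL
  have hs : Nontrivial (Coh.HH X M 0) := Module.nontrivial_of_finrank_pos (R := k) (by omega)
  have hlt : Curv2.deg k X M 1 < Curv2.deg k X L 1 := by
    obtain ⟨h, he⟩ := VB17.deg_le_of_mono hX ((Groth.Agent.M2.isInvertible_iff_isFinLocFreeOfRank_one M).1 hM)
      ((Groth.Agent.M2.isInvertible_iff_isFinLocFreeOfRank_one L).1 hL) ι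
    exact h.lt_of_ne fun e => hι (he e)
  have hrr := hX.rr hF.coh
  have hrL := hX.rr hR.coh
  haveI := hX.h1_subsingleton_of_deg hR h0 (by omega)
  rw [h0] at hrr hrL
  rw [Module.finrank_zero_of_subsingleton (M := Coh.HH X L 1)] at hrL
  set d' := Curv2.deg k X M 1
  set d := Curv2.deg k X L 1
  set g := (Curv2.genus k X : ℤ) with hgdef
  obtain ⟨m, hm⟩ : ∃ m : ℤ, (Module.finrank k (Coh.HH X M 0) : ℤ) = m + 1 := ⟨_, (sub_add_cancel _ 1).symm⟩
  rw [show (Module.finrank k (Coh.HH X L 0) : ℤ) = d + 1 - g by omega, hm, add_sub_cancel_right]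
  by_cases h1 : Nontrivial (Coh.HH X M 1)
  · have hc := hX.clifford hF hs h1
    rw [h0] at hc
    have h2' : 2 * m ≤ d' := by omega
    have : 1 ≤ m := by omega
    nlinarith
  · rw [not_nontrivial_iff_subsingleton] at h1
    rw [Module.finrank_zero_of_subsingleton (M := Coh.HH X M 1)] at hrr
    have h2' : m + g ≤ d' := by omega
    have h3 : (0 : ℤ) < d - g - m := by omega
    nlinarith [mul_pos (by omega : (0:ℤ) < g) h3, mul_le_mul_of_nonneg_right h2' (by omega : (0:ℤ) ≤ d - g)]

end Groth.Agent.S16966
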