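import Groth.Statements.S16967
-- import your own Groth.Agent.* helpers here
import Groth.Agent.Lib.CurveOm17.CliffordEq
import Groth.Agent.Lib.CurveOm17.AnyField
import Groth.Agent.Lib.Omega12.Universal
import Groth.Agent.Lib.RegSmooth17.Scheme

set_option autoImplicit false
universe u
open CategoryTheory CategoryTheory.Limits AlgebraicGeometry Opposite
open Curves

namespace Groth.Agent.S16967

/-- Let X be a smooth projective curve over an algebraically closed field k of characteristic 0
(integral, proper over k, of dimension one, all local rings regular) of genus g ≥ 3 that is not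
hyperelliptic: there is no invertible module of degree 2 with two k-linearly independent global
sections. Then the canonical morphism of X is linearly stable, stated through the criterion by
invertible subsheaves: for every invertible module M and every monomorphism ι : M ⟶ Ω_{X/k} which is
not an isomorphism, with dim_k H^0(X, M) ≥ 2, one has deg Ω_{X/k} · (h^0(M) - 1) < deg M ·
(h^0(Ω_{X/k}) - 1). Degrees are χ(·) - χ(O_X). -/
theorem result (k : Type u) [Field k] [IsAlgClosed k] [CharZero k] (X : Scheme.{u}) [X.Over (Spec (CommRingCat.of k))]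
    [IsIntegral X] [IsProper (X ↘ (Spec (CommRingCat.of k)))] (hdim : topologicalKrullDim X = 1)
    (hreg : ∀ x : X, IsRegularLocalRing (X.presheaf.stalk x))
    (hg : 3 ≤ Curv2.genus k X)
    (hnh : ¬ ∃ (N : X.Modules) (t : Fin 2 → LinSer.Sect X N), LinSer.IsLinSer k X N 2 1 t)
    (M : X.Modules) (hM : PicF.IsInvertible M) (ι : M ⟶ Omega.sheaf (X ↘ (Spec (CommRingCat.of k)))) [Mono ι] (hι : ¬ IsIso ι)
    (h2 : 2 ≤ Module.finrank k (Coh.HH X M 0)) :
    Curv2.deg k X (Omega.sheaf (X ↘ (Spec (CommRingCat.of k)))) 1 * ((Module.finrank k (Coh.HH X M 0) : ℤ) - 1) <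
      Curv2.deg k X M 1 * ((Module.finrank k (Coh.HH X (Omega.sheaf (X ↘ (Spec (CommRingCat.of k)))) 0) : ℤ) - 1) := by
  haveI : Smooth (X ↘ Spec (CommRingCat.of k)) :=
    Groth.Agent.RegSmooth17.smooth_of_regular_of_perfectField (X ↘ Spec (CommRingCat.of k)) hreg
  obtain ⟨hX, h0O, hbig⟩ := Groth.Agent.VB17.setup (k := k) (X := X) hdim
  obtain ⟨-, -, hΩ, -, lam, hW⟩ := Groth.Agent.CurveOm17.exists_isDualizing_omega' hdim h0O
    (Groth.Agent.Omega12.isUniversal_dOmega (f := X ↘ Spec (CommRingCat.of k)))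
  obtain ⟨hW0, hW1, hWd⟩ := hW.invariants hX h0O hbig
  haveI := hX.like.noetherian
  have hR := Groth.Agent.CurveCoh17.rkOne_of_invertible hX.like.dim hM
  haveI := hX.like.fin M hR.coh 0
  haveI := hX.like.fin M hR.coh 1
  have hMr := (Groth.Agent.M2.isInvertible_iff_isFinLocFreeOfRank_one _).1 hM
  have hWr := (Groth.Agent.M2.isInvertible_iff_isFinLocFreeOfRank_one _).1 hW.inv
  have hsurj := LinearMap.finrank_le_finrank_of_surjective (f := Groth.Agent.CurveCoh17.hmap k ι 1)
    (Groth.Agent.VB17.h1_surjective_of_mono hX hMr hWr ι)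
  have h := hX.like.clifford hR ((Module.finrank_pos_iff (R := k)).1 (show 0 < Module.finrank k (Coh.HH X M 0) by omega))
    ((Module.finrank_pos_iff (R := k)).1 (show 0 < Module.finrank k (Coh.HH X M 1) by omega))
  rw [h0O] at h
  push_cast at h
  obtain ⟨hle, hiso⟩ := Groth.Agent.VB17.deg_le_of_mono hX.like hMr hWr ι
  rw [hWd] at hle hiso
  have hstrict : 2 * (Module.finrank k (Coh.HH X M 0) : ℤ) - 2 < Curv2.deg k X M 1 := by
    refine lt_of_le_of_ne (by omega) fun heq => hnh ?_
    obtain ⟨N, hN, hd, hN2⟩ := Groth.Agent.CurveOm17.exists_g12_of_clifford_eq hdim hW hM (by omega) (by omega)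
      (lt_of_le_of_ne hle fun h' => hι (hiso h'))
    haveI := hX.like.fin N (Groth.Agent.CurveCoh17.isCoh_of_ofRank
      ((Groth.Agent.M2.isInvertible_iff_isFinLocFreeOfRank_one _).1 hN)) 0
    obtain ⟨s, hs⟩ := Groth.Agent.CurveOm17.exists_isLinSer hN (d := 2) hd hN2
    exact ⟨N, s, hs⟩
  rw [hWd, hW0]
  have hg' : (0 : ℤ) < (Curv2.genus k X : ℤ) - 1 := by omega
  nlinarith [mul_lt_mul_of_pos_right hstrict hg']

end Groth.Agent.S16967
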