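import Groth.Statements.S16968
-- import your own Groth.Agent.* helpers here
import Groth.Agent.Lib.CurveCoh17.Clifford
import Groth.Agent.Lib.CurveOm17.AnyField
import Groth.Agent.Lib.CurveOm17.Hyp
import Groth.Agent.Lib.VB17.SmoothDuality
import Groth.Agent.Lib.Omega12.Universal
import Groth.Agent.Lib.RegSmooth17.Basic

set_option autoImplicit false
universe u
open CategoryTheory CategoryTheory.Limits AlgebraicGeometry Opposite
open Curves

namespace Groth.Agent.S16968

/-- Let X be a smooth projective curve over an algebraically closed field k of characteristic 0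
(integral, proper over k, of dimension one, all local rings regular) of genus g ≥ 3 which is
hyperelliptic, with a g^1_2 given as an invertible module N of degree 2 and two k-linearly
independent global sections t_0, t_1. Then the canonical morphism of X is linearly semistable but
not linearly stable, stated through the criterion by invertible subsheaves: (i) for every invertible
module M and every monomorphism ι : M ⟶ Ω_{X/k} which is not an isomorphism, with dim_k H^0(X, M) ≥
2, one has deg Ω_{X/k} · (h^0(M) - 1) ≤ deg M · (h^0(Ω_{X/k}) - 1); (ii) N admits a monomorphism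
into Ω_{X/k} which is not an isomorphism and for which equality holds. Degrees are χ(·) - χ(O_X).
(The published statement gives no genus bound for the hyperelliptic case; here g ≥ 3 is assumed,
since for g = 2 the module N is the canonical module itself and clause (ii) fails.) -/
theorem result (k : Type u) [Field k] [IsAlgClosed k] [CharZero k] (X : Scheme.{u}) [X.Over (Spec (CommRingCat.of k))]
    [IsIntegral X] [IsProper (X ↘ (Spec (CommRingCat.of k)))] (hdim : topologicalKrullDim X = 1)
    (hreg : ∀ x : X, IsRegularLocalRing (X.presheaf.stalk x))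
    (hg : 3 ≤ Curv2.genus k X)
    (N : X.Modules) (t : Fin 2 → LinSer.Sect X N) (hN : LinSer.IsLinSer k X N 2 1 t) :
    (∀ (M : X.Modules) (ι : M ⟶ Omega.sheaf (X ↘ (Spec (CommRingCat.of k)))), PicF.IsInvertible M → Mono ι → ¬ IsIso ι →
        2 ≤ Module.finrank k (Coh.HH X M 0) →
        Curv2.deg k X (Omega.sheaf (X ↘ (Spec (CommRingCat.of k)))) 1 * ((Module.finrank k (Coh.HH X M 0) : ℤ) - 1) ≤
          Curv2.deg k X M 1 * ((Module.finrank k (Coh.HH X (Omega.sheaf (X ↘ (Spec (CommRingCat.of k)))) 0) : ℤ) - 1)) ∧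
      ∃ ι : N ⟶ Omega.sheaf (X ↘ (Spec (CommRingCat.of k))), Mono ι ∧ ¬ IsIso ι ∧
        Curv2.deg k X (Omega.sheaf (X ↘ (Spec (CommRingCat.of k)))) 1 * ((Module.finrank k (Coh.HH X N 0) : ℤ) - 1) =
          Curv2.deg k X N 1 * ((Module.finrank k (Coh.HH X (Omega.sheaf (X ↘ (Spec (CommRingCat.of k)))) 0) : ℤ) - 1) := by
  haveI : Smooth (X ↘ Spec (CommRingCat.of k)) :=
    Groth.Agent.RegSmooth17.smooth_of_regular_of_perfectField (X ↘ Spec (CommRingCat.of k)) hreg
  obtain ⟨hX, h0, hbig⟩ := Groth.Agent.VB17.setup (k := k) (X := X) hdim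
  obtain ⟨-, -, hΩ, -, lam, hW⟩ := Groth.Agent.CurveOm17.exists_isDualizing_omega' hdim h0
    (Groth.Agent.Omega12.isUniversal_dOmega (f := X ↘ Spec (CommRingCat.of k)))
  obtain ⟨hW0, hW1, hWd⟩ := hW.invariants hX h0 hbig
  haveI := hX.like.noetherian
  have hNi : PicF.IsInvertible N := hN.1
  have hNd : Curv2.deg k X N 1 = 2 := hN.2.1
  have hRN := Groth.Agent.CurveCoh17.rkOne_of_invertible hX.like.dim hNi
  haveI := hX.like.fin N hRN.coh 0
  haveI := hX.like.fin N hRN.coh 1
  have h2 := Groth.Agent.CurveOm17.two_le_h0_of_isLinSer hN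
  have hrr := hX.like.rr hRN.coh
  rw [h0, hNd] at hrr
  haveI h1N : Nontrivial (Coh.HH X N 1) := Module.finrank_pos_iff.1
    (show 0 < Module.finrank k (Coh.HH X N 1) by omega)
  haveI : Nontrivial (Coh.HH X N 0) := Module.finrank_pos_iff.1
    (show 0 < Module.finrank k (Coh.HH X N 0) by omega)
  have hN2 := hX.like.clifford hRN inferInstance h1N
  rw [h0, hNd] at hN2
  refine ⟨fun M ι hMi hm hι hM2 => ?_, ?_⟩
  · haveI := hm
    have hMr := (Groth.Agent.M2.isInvertible_iff_isFinLocFreeOfRank_one _).1 hMi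
    have hRM := Groth.Agent.CurveCoh17.rkOne_of_invertible hX.like.dim hMi
    haveI := hX.like.fin M hRM.coh 0
    haveI := hX.like.fin M hRM.coh 1
    have hsurj := Groth.Agent.VB17.h1_surjective_of_mono hX hMr
      ((Groth.Agent.M2.isInvertible_iff_isFinLocFreeOfRank_one _).1 hW.inv) ι
    have h1 : Nontrivial (Coh.HH X M 1) := by
      have := LinearMap.finrank_le_finrank_of_surjective (f := Groth.Agent.CurveCoh17.hmap k ι 1) hsurj
      rw [hW1] at this
      exact Module.finrank_pos_iff.1 (show 0 < Module.finrank k (Coh.HH X M 1) by omega)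
    have hs : Nontrivial (Coh.HH X M 0) := Module.finrank_pos_iff.1
      (show 0 < Module.finrank k (Coh.HH X M 0) by omega)
    have h := hX.like.clifford hRM hs h1
    rw [h0] at h
    rw [hWd, hW0]
    have hg' : (0 : ℤ) ≤ (Curv2.genus k X : ℤ) - 1 := by omega
    push_cast at h
    nlinarith [mul_le_mul_of_nonneg_right h hg']
  · obtain ⟨v, hv⟩ := exists_ne (0 : Module.Dual k (Coh.HH X N 1))
    obtain ⟨φ, hφ⟩ := hW.exists_hom hX h0 hbig ((Groth.Agent.M2.isInvertible_iff_isFinLocFreeOfRank_one _).1 hNi) v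
    have hφ0 : φ ≠ 0 := fun h => hv (by
      rw [hφ, h]
      refine LinearMap.ext fun x => ?_
      show lam (Groth.Agent.CurveCoh17.hmap₀ (0 : N ⟶ Omega.sheaf (X ↘ Spec (CommRingCat.of k))) 1 x) = 0
      have hz := Groth.Agent.CurveCoh17.hmap₀_add (0 : N ⟶ Omega.sheaf (X ↘ Spec (CommRingCat.of k))) 0 1 x
      rw [add_zero, left_eq_add] at hz
      rw [hz, map_zero])
    haveI := Groth.Agent.VB17.mono_of_ne_zero hX hNi hW.inv φ hφ0
    refine ⟨φ, inferInstance, fun hi => ?_, ?_⟩
    · haveI := hi
      have := (Groth.Agent.CurveCoh17.hequiv k (asIso φ) 0).finrank_eq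
      omega
    · rw [hWd, hW0, hNd, show Module.finrank k (Coh.HH X N 0) = 2 by omega]
      ring

end Groth.Agent.S16968
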