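import Groth.Statements.S16969
-- import your own Groth.Agent.* helpers here
import Groth.Agent.Lib.Cliff17.Main
import Groth.Agent.Lib.CurveOm17.Hyp
import Groth.Agent.Lib.CurveOm17.AnyField
import Groth.Agent.Lib.Omega12.Universal
import Groth.Agent.Lib.RegSmooth17.Scheme

set_option autoImplicit false
universe u
open CategoryTheory CategoryTheory.Limits AlgebraicGeometry Opposite
open Curves

namespace Groth.Agent.S16969

/-- Let X be a smooth projective curve over an algebraically closed field k of characteristic 0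
(integral, proper over k, of dimension one, all local rings regular) of genus g ≥ 5 which is neither
hyperelliptic nor trigonal (no invertible module of degree 2, resp. 3, with two k-linearly
independent global sections) and which, if g = 6, is not a plane curve (admits no closed immersion
into P^2_k over k). Let V ⊂ H^0(X, Ω_{X/k}) be a hyperplane without base points, given by g - 1
global sections σ_i : O_X ⟶ Ω_{X/k} that are k-linearly independent and generate Ω_{X/k} at every
point; V defines the projection of the canonical image of X from a point not on it. Then this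
projection is linearly stable: for every m with 2 ≤ m < g - 1, every k-linearly independent family
w_1, …, w_m of global sections of Ω_{X/k} lying in the k-span of the σ_i, and every invertible
module M with a monomorphism ι : M ⟶ Ω_{X/k} through whose global sections all the w_j factor, one
has deg Ω_{X/k} · (m - 1) < deg M · (g - 2); that is, every proper projection has reduced degree
larger than (2g - 2)/(g - 2). -/
theorem result (k : Type u) [Field k] [IsAlgClosed k] [CharZero k] (X : Scheme.{u}) [X.Over (Spec (CommRingCat.of k))]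
    [IsIntegral X] [IsProper (X ↘ (Spec (CommRingCat.of k)))] (hdim : topologicalKrullDim X = 1)
    (hreg : ∀ x : X, IsRegularLocalRing (X.presheaf.stalk x))
    (hg : 5 ≤ Curv2.genus k X)
    (hnh : ¬ ∃ (N : X.Modules) (t : Fin 2 → LinSer.Sect X N), LinSer.IsLinSer k X N 2 1 t)
    (hnt : ¬ ∃ (N : X.Modules) (t : Fin 2 → LinSer.Sect X N), LinSer.IsLinSer k X N 3 1 t)
    (hpl : Curv2.genus k X = 6 → ∀ i : X ⟶ CohB1.ProjSpace 2 k, IsClosedImmersion i →
      i ≫ CohB1.ProjSpace.toSpec 2 k ≠ X ↘ Spec (CommRingCat.of k))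
    (σ : Fin (Curv2.genus k X - 1) → (Coh.structureModule X ⟶ Omega.sheaf (X ↘ (Spec (CommRingCat.of k)))))
    (hσ : LinSer.LinIndep k X (Omega.sheaf (X ↘ (Spec (CommRingCat.of k)))) (fun i => PicF2.secVal (Omega.sheaf (X ↘ (Spec (CommRingCat.of k)))) (σ i) ⊤))
    (hbpf : ⨆ i, CohB1.genLocus (Omega.sheaf (X ↘ (Spec (CommRingCat.of k)))) (σ i) = ⊤) :
    ∀ (m : ℕ) (w : Fin m → LinSer.Sect X (Omega.sheaf (X ↘ (Spec (CommRingCat.of k))))), 2 ≤ m → m + 1 < Curv2.genus k X →
      LinSer.LinIndep k X (Omega.sheaf (X ↘ (Spec (CommRingCat.of k)))) w →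
      (∀ j, ∃ c : Fin (Curv2.genus k X - 1) → k,
        w j = ∑ i, (Coh.toGlobal (X ↘ Spec (CommRingCat.of k)) (c i)) • PicF2.secVal (Omega.sheaf (X ↘ (Spec (CommRingCat.of k)))) (σ i) ⊤) →
      ∀ (M : X.Modules) (ι : M ⟶ Omega.sheaf (X ↘ (Spec (CommRingCat.of k)))), PicF.IsInvertible M → Mono ι →
        (∀ j, ∃ v : LinSer.Sect X M, (ι.val.app (op ⊤)).hom v = w j) →
        Curv2.deg k X (Omega.sheaf (X ↘ (Spec (CommRingCat.of k)))) 1 * ((m : ℤ) - 1) < Curv2.deg k X M 1 * ((Curv2.genus k X : ℤ) - 2) := by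
  haveI : Smooth (X ↘ Spec (CommRingCat.of k)) :=
    Groth.Agent.RegSmooth17.smooth_of_regular_of_perfectField (X ↘ Spec (CommRingCat.of k)) hreg
  obtain ⟨hX, h0O, hbig⟩ := Groth.Agent.VB17.setup (k := k) (X := X) hdim
  obtain ⟨-, -, -, -, lam, hW⟩ := Groth.Agent.CurveOm17.exists_isDualizing_omega' hdim h0O
    (Groth.Agent.Omega12.isUniversal_dOmega (f := X ↘ Spec (CommRingCat.of k)))
  haveI := hX.like.noetherian
  have hfin : ∀ N : X.Modules, PicF.IsInvertible N → Module.Finite k (Coh.HH X N 0) := fun N hN =>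
    hX.like.fin N (Groth.Agent.CurveCoh17.isCoh_of_ofRank
      ((Groth.Agent.M2.isInvertible_iff_isFinLocFreeOfRank_one _).1 hN)) 0
  have nh : Groth.Agent.Cliff17.NH k X := Groth.Agent.Cliff17.nh_of_no_g12 hdim hW fun N hN hd => by
    by_contra h
    haveI := hfin N hN
    obtain ⟨s, hs⟩ := Groth.Agent.CurveOm17.exists_isLinSer hN (d := 2) hd (by omega)
    exact hnh ⟨N, s, hs⟩
  have nt : Groth.Agent.Cliff17.NT k X := fun N hN hd => by
    by_contra h
    haveI := hfin N hN
    obtain ⟨s, hs⟩ := Groth.Agent.CurveOm17.exists_isLinSer hN (d := 3) hd (by omega)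
    exact hnt ⟨N, s, hs⟩
  intro m w hm hm' hw _ M ι hM hι hv
  haveI := hfin M hM
  have hmle := Groth.Agent.Cliff17.le_h0_of_linIndep ι hw hv
  obtain ⟨-, -, hΩ⟩ := hW.invariants hX h0O hbig
  obtain ⟨hle, -⟩ := Groth.Agent.VB17.deg_le_of_mono hX.like
    ((Groth.Agent.M2.isInvertible_iff_isFinLocFreeOfRank_one _).1 hM)
    ((Groth.Agent.M2.isInvertible_iff_isFinLocFreeOfRank_one _).1 hW.inv) ι
  rw [hΩ] at hle ⊢
  have hrr := Groth.Agent.Cliff17.rr_nat (k := k) hdim hM
  rcases Groth.Agent.Cliff17.deg_bound hdim hW nh (by omega) hM ι hm hmle with h | h | ⟨h1, h⟩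
  · rw [h]
    nlinarith
  · nlinarith
  · have hne : 2 * (Module.finrank k (Coh.HH X M 0) : ℤ) ≠ Curv2.deg k X M 1 + 1 := fun he => by
      obtain ⟨hg6, i, hi, hi'⟩ := Groth.Agent.Cliff17.cliff_one hdim hW nh nt _ hM rfl (by omega) h1 he
      exact hpl hg6 i hi hi'
    have hd2 : 2 * (m : ℤ) ≤ Curv2.deg k X M 1 := by omega
    have hmg : (m : ℤ) + 1 < (Curv2.genus k X : ℤ) := by exact_mod_cast hm'
    nlinarith [mul_le_mul_of_nonneg_right hd2 (show (0 : ℤ) ≤ (Curv2.genus k X : ℤ) - 2 by omega)]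

end Groth.Agent.S16969
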