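import Groth.Statements.S16970
-- import your own Groth.Agent.* helpers here
import Groth.Agent.Lib.Cliff17.Main
import Groth.Agent.Lib.CurveOm17.Hyp
import Groth.Agent.Lib.CurveOm17.AnyField
import Groth.Agent.Lib.Omega12.Universal
import Groth.Agent.Lib.RegSmooth17.Scheme

set_option autoImplicit false
universe u
open CategoryTheory CategoryTheory.Limits AlgebraicGeometry Opposite
open Curves

namespace Groth.Agent.S16970

/-- Let X be a smooth projective curve over an algebraically closed field k of characteristic 0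
(integral, proper over k, of dimension one, all local rings regular) of genus 6 which is neither
hyperelliptic nor trigonal (no invertible module of degree 2, resp. 3, with two k-linearly
independent global sections) and which is a plane curve: there is a closed immersion i : X ⟶ P^2_k
over k (so X is a smooth plane quintic; such a curve is in fact neither hyperelliptic nor trigonal,
but both hypotheses are kept as in the published statement, whose proof uses the absence of a g^1_3
in this case too). Let V ⊂ H^0(X, Ω_{X/k}) be a hyperplane without base points, given by 5 global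
sections σ_i : O_X ⟶ Ω_{X/k} that are k-linearly independent and generate Ω_{X/k} at every point.
Then the projection of the canonical image from the corresponding point is linearly semistable: for
every m with 2 ≤ m < 5, every k-linearly independent family w_1, …, w_m of global sections of
Ω_{X/k} in the k-span of the σ_i, and every invertible module M with a monomorphism ι : M ⟶ Ω_{X/k}
through whose global sections all the w_j factor, deg Ω_{X/k} · (m - 1) ≤ deg M · (g - 2). -/
theorem result (k : Type u) [Field k] [IsAlgClosed k] [CharZero k] (X : Scheme.{u}) [X.Over (Spec (CommRingCat.of k))]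
    [IsIntegral X] [IsProper (X ↘ (Spec (CommRingCat.of k)))] (hdim : topologicalKrullDim X = 1)
    (hreg : ∀ x : X, IsRegularLocalRing (X.presheaf.stalk x))
    (hg : Curv2.genus k X = 6)
    (hnh : ¬ ∃ (N : X.Modules) (t : Fin 2 → LinSer.Sect X N), LinSer.IsLinSer k X N 2 1 t)
    (hnt : ¬ ∃ (N : X.Modules) (t : Fin 2 → LinSer.Sect X N), LinSer.IsLinSer k X N 3 1 t)
    (i : X ⟶ CohB1.ProjSpace 2 k) [IsClosedImmersion i] (hi : i ≫ CohB1.ProjSpace.toSpec 2 k = X ↘ Spec (CommRingCat.of k))
    (σ : Fin (Curv2.genus k X - 1) → (Coh.structureModule X ⟶ Omega.sheaf (X ↘ (Spec (CommRingCat.of k)))))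
    (hσ : LinSer.LinIndep k X (Omega.sheaf (X ↘ (Spec (CommRingCat.of k)))) (fun i => PicF2.secVal (Omega.sheaf (X ↘ (Spec (CommRingCat.of k)))) (σ i) ⊤))
    (hbpf : ⨆ i, CohB1.genLocus (Omega.sheaf (X ↘ (Spec (CommRingCat.of k)))) (σ i) = ⊤) :
    ∀ (m : ℕ) (w : Fin m → LinSer.Sect X (Omega.sheaf (X ↘ (Spec (CommRingCat.of k))))), 2 ≤ m → m + 1 < Curv2.genus k X →
      LinSer.LinIndep k X (Omega.sheaf (X ↘ (Spec (CommRingCat.of k)))) w →
      (∀ j, ∃ c : Fin (Curv2.genus k X - 1) → k,
        w j = ∑ i, (Coh.toGlobal (X ↘ Spec (CommRingCat.of k)) (c i)) • PicF2.secVal (Omega.sheaf (X ↘ (Spec (CommRingCat.of k)))) (σ i) ⊤) →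
      ∀ (M : X.Modules) (ι : M ⟶ Omega.sheaf (X ↘ (Spec (CommRingCat.of k)))), PicF.IsInvertible M → Mono ι →
        (∀ j, ∃ v : LinSer.Sect X M, (ι.val.app (op ⊤)).hom v = w j) →
        Curv2.deg k X (Omega.sheaf (X ↘ (Spec (CommRingCat.of k)))) 1 * ((m : ℤ) - 1) ≤ Curv2.deg k X M 1 * ((Curv2.genus k X : ℤ) - 2) := by
  haveI : Smooth (X ↘ Spec (CommRingCat.of k)) :=
    Groth.Agent.RegSmooth17.smooth_of_regular_of_perfectField (X ↘ Spec (CommRingCat.of k)) hreg
  obtain ⟨hX, h0O, hbig⟩ := Groth.Agent.VB17.setup (k := k) (X := X) hdim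
  obtain ⟨-, -, -, -, lam, hW⟩ := Groth.Agent.CurveOm17.exists_isDualizing_omega' hdim h0O
    (Groth.Agent.Omega12.isUniversal_dOmega (f := X ↘ Spec (CommRingCat.of k)))
  haveI := hX.like.noetherian
  have hfin : ∀ N : X.Modules, PicF.IsInvertible N → Module.Finite k (Coh.HH X N 0) := fun N hN =>
    hX.like.fin N (Groth.Agent.CurveCoh17.isCoh_of_ofRank
      ((Groth.Agent.M2.isInvertible_iff_isFinLocFreeOfRank_one _).1 hN)) 0
  have nh : Groth.Agent.Cliff17.NH k X := Groth.Agent.Cliff17.nh_of_no_g12 hdim hW fun N hN hd => by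
    by_contra h
    haveI := hfin N hN
    obtain ⟨s, hs⟩ := Groth.Agent.CurveOm17.exists_isLinSer hN (d := 2) hd (by omega)
    exact hnh ⟨N, s, hs⟩
  have nt : Groth.Agent.Cliff17.NT k X := fun N hN hd => by
    by_contra h
    haveI := hfin N hN
    obtain ⟨s, hs⟩ := Groth.Agent.CurveOm17.exists_isLinSer hN (d := 3) hd (by omega)
    exact hnt ⟨N, s, hs⟩
  intro m w hm hm' hw _ M ι hM hι hv
  haveI := hfin M hM
  have hmle := Groth.Agent.Cliff17.le_h0_of_linIndep ι hw hv
  obtain ⟨-, -, hΩ⟩ := hW.invariants hX h0O hbig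
  obtain ⟨hle, -⟩ := Groth.Agent.VB17.deg_le_of_mono hX.like
    ((Groth.Agent.M2.isInvertible_iff_isFinLocFreeOfRank_one _).1 hM)
    ((Groth.Agent.M2.isInvertible_iff_isFinLocFreeOfRank_one _).1 hW.inv) ι
  rw [hΩ] at hle ⊢
  have hrr := Groth.Agent.Cliff17.rr_nat (k := k) hdim hM
  rw [hg]
  rcases Groth.Agent.Cliff17.deg_bound hdim hW nh (by omega) hM ι hm hmle with h | h | ⟨h1, h⟩
  · push_cast; rw [hg] at h; omega
  · push_cast; rw [hg] at h; omega
  · by_cases hbad : (Module.finrank k (Coh.HH X M 0) = 4 ∧ Curv2.deg k X M 1 = 7)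
    · obtain ⟨R, hR, hdR, hR1, -⟩ := Groth.Agent.Cliff17.exists_residual hdim hW hM
      rw [hg] at hdR
      have := nt R hR (by push_cast at hdR; omega)
      push_cast at hrr hdR
      rw [hg] at hrr
      omega
    · rw [hg] at hm' hrr hle
      push_cast at hrr hle ⊢
      omega

end Groth.Agent.S16970
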