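import Groth.Statements.S16971
-- import your own Groth.Agent.* helpers here
import Groth.Agent.Lib.Cliff17.Main
import Groth.Agent.Lib.CurveOm17.Hyp
import Groth.Agent.Lib.CurveOm17.AnyField
import Groth.Agent.Lib.Omega12.Universal
import Groth.Agent.Lib.RegSmooth17.Scheme

set_option autoImplicit false
universe u
open CategoryTheory CategoryTheory.Limits AlgebraicGeometry Opposite
open Curves

namespace Groth.Agent.S16971

/-- Let X be a smooth projective curve over an algebraically closed field k of characteristic 0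
(integral, proper over k, of dimension one, all local rings regular) of genus g ≥ 4 whose Clifford
index equals 1: there is an invertible module M with dim_k H^0(X, M) ≥ 2, dim_k H^1(X, M) ≥ 2 and
deg M - 2 (h^0(M) - 1) = 1, and every invertible module M with h^0(M) ≥ 2 and h^1(M) ≥ 2 has deg M -
2 (h^0(M) - 1) ≥ 1. Then either X is trigonal — it carries an invertible module of degree 3 with two
k-linearly independent global sections — or g = 6 and X is a smooth plane quintic: there is a closed
immersion X ⟶ P^2_k over k. (Only this implication is stated; the converse asserted in the source is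
not part of the row.) Degrees are χ(·) - χ(O_X). -/
theorem result (k : Type u) [Field k] [IsAlgClosed k] [CharZero k] (X : Scheme.{u}) [X.Over (Spec (CommRingCat.of k))]
    [IsIntegral X] [IsProper (X ↘ (Spec (CommRingCat.of k)))] (hdim : topologicalKrullDim X = 1)
    (hreg : ∀ x : X, IsRegularLocalRing (X.presheaf.stalk x))
    (hg : 4 ≤ Curv2.genus k X)
    (hex : ∃ M : X.Modules, PicF.IsInvertible M ∧ 2 ≤ Module.finrank k (Coh.HH X M 0) ∧
      2 ≤ Module.finrank k (Coh.HH X M 1) ∧ Curv2.deg k X M 1 = 2 * (Module.finrank k (Coh.HH X M 0) : ℤ) - 1)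
    (hmin : ∀ M : X.Modules, PicF.IsInvertible M → 2 ≤ Module.finrank k (Coh.HH X M 0) →
      2 ≤ Module.finrank k (Coh.HH X M 1) → 2 * (Module.finrank k (Coh.HH X M 0) : ℤ) - 1 ≤ Curv2.deg k X M 1) :
    (∃ (L : X.Modules) (s : Fin 2 → LinSer.Sect X L), LinSer.IsLinSer k X L 3 1 s) ∨
      (Curv2.genus k X = 6 ∧ ∃ i : X ⟶ CohB1.ProjSpace 2 k, IsClosedImmersion i ∧
        i ≫ CohB1.ProjSpace.toSpec 2 k = X ↘ Spec (CommRingCat.of k)) := by
  haveI : Smooth (X ↘ Spec (CommRingCat.of k)) :=
    Groth.Agent.RegSmooth17.smooth_of_regular_of_perfectField (X ↘ Spec (CommRingCat.of k)) hreg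
  obtain ⟨hX, h0O, hbig⟩ := Groth.Agent.VB17.setup (k := k) (X := X) hdim
  obtain ⟨-, -, -, -, lam, hW⟩ := Groth.Agent.CurveOm17.exists_isDualizing_omega' hdim h0O
    (Groth.Agent.Omega12.isUniversal_dOmega (f := X ↘ Spec (CommRingCat.of k)))
  haveI := hX.like.noetherian
  have hfin : ∀ N : X.Modules, PicF.IsInvertible N → Module.Finite k (Coh.HH X N 0) := fun N hN =>
    hX.like.fin N (Groth.Agent.CurveCoh17.isCoh_of_ofRank
      ((Groth.Agent.M2.isInvertible_iff_isFinLocFreeOfRank_one _).1 hN)) 0
  have nh : Groth.Agent.Cliff17.NH k X := fun N hN h1 h2 h3 h4 => by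
    have hrr := Groth.Agent.Cliff17.rr_nat (k := k) hdim hN
    by_cases a : 2 ≤ Module.finrank k (Coh.HH X N 0)
    · by_cases b : 2 ≤ Module.finrank k (Coh.HH X N 1)
      · linarith [hmin N hN a b]
      · omega
    · omega
  by_cases nt : Groth.Agent.Cliff17.NT k X
  · obtain ⟨M, hM, h2, h12, hd⟩ := hex
    exact Or.inr (Groth.Agent.Cliff17.cliff_one hdim hW nh nt _ hM rfl h2 h12 (by omega))
  · simp only [Groth.Agent.Cliff17.NT, not_forall, not_le] at nt
    obtain ⟨N, hN, hd, h2⟩ := nt
    haveI := hfin N hN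
    obtain ⟨s, hs⟩ := Groth.Agent.CurveOm17.exists_isLinSer hN (d := 3) hd h2
    exact Or.inl ⟨N, s, hs⟩

end Groth.Agent.S16971
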