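import Groth.Statements.S16973
import Groth.Agent.Lib.DoubleCov17.Field
import Groth.Agent.Lib.GenusFF17.Main
import Groth.Agent.Lib.CurveOm17.PullP1
import Groth.Agent.Lib.CurveCoh17.DegTwo
import Groth.Agent.Lib.Curve17.FunctionField
import Groth.Agent.Lib.HypEq17.Inv
import Groth.Agent.Lib.InvolFF17.Cover
import Groth.Agent.Lib.RegSmooth17.Scheme
-- import your own Groth.Agent.* helpers here

set_option autoImplicit false
universe u
open CategoryTheory CategoryTheory.Limits AlgebraicGeometry Opposite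
open Curves

namespace Groth.Agent.S16973

attribute [local instance] Curv2.stalkAlgebra

section

variable {k : Type u} [Field k] [IsAlgClosed k] {X P : Scheme.{u}} [X.Over (Spec (CommRingCat.of k))]
  [IsIntegral X] [IsProper (X ↘ Spec (CommRingCat.of k))] [P.Over (Spec (CommRingCat.of k))]
  [IsIntegral P] [IsProper (P ↘ Spec (CommRingCat.of k))]

theorem fromSpecStalk_comp (f : X ⟶ P) (e : f (genericPoint X) = genericPoint P) :
    X.fromSpecStalk (genericPoint X) ≫ f = Spec.map (Curve17.genMap f e) ≫ P.fromSpecStalk (genericPoint P) := by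
  rw [Curve17.genMap, Spec.map_comp, Category.assoc, Scheme.SpecMap_stalkSpecializes_fromSpecStalk,
    Scheme.SpecMap_stalkMap_fromSpecStalk]

omit [IsAlgClosed k] [IsProper (X ↘ Spec (CommRingCat.of k))] in
theorem eq_of_generic (f g : X ⟶ P) (hf : f ≫ (P ↘ Spec (CommRingCat.of k)) = g ≫ (P ↘ Spec (CommRingCat.of k)))
    (h : X.fromSpecStalk (genericPoint X) ≫ f = X.fromSpecStalk (genericPoint X) ≫ g) : f = g := by
  haveI : IsDominant (X.fromSpecStalk (genericPoint X)) := by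
    refine ⟨fun y => ?_⟩
    refine closure_mono (s := {genericPoint X}) (t := Set.range (X.fromSpecStalk (genericPoint X))) ?_
      (specializes_iff_mem_closure.1 (genericPoint_specializes y))
    rintro _ rfl
    exact ⟨_, Scheme.fromSpecStalk_closedPoint⟩
  exact ext_of_isDominant_of_isSeparated (P ↘ Spec (CommRingCat.of k)) hf (X.fromSpecStalk (genericPoint X)) h

/-- The invariants of a double cover: the extension of function fields has degree two. -/
theorem cover_facts (hdimX : topologicalKrullDim X = 1) (hdim : topologicalKrullDim P = 1)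
    (hreg : ∀ y : P, IsRegularLocalRing (P.presheaf.stalk y)) (f : X ⟶ P)
    (hf : f ≫ (P ↘ Spec (CommRingCat.of k)) = X ↘ Spec (CommRingCat.of k)) [IsFinite f] [Flat f]
    (hr : ∀ y : P, Scheme.Hom.finrank f y = 2) :
    Epi f ∧ Smooth (P ↘ Spec (CommRingCat.of k)) ∧
    ∃ e : f (genericPoint X) = genericPoint P, (letI := (Curve17.genMap f e).hom.toAlgebra
      Module.finrank P.functionField X.functionField = 2 ∧ IsScalarTower k P.functionField X.functionField) := by
  haveI : Smooth (P ↘ Spec (CommRingCat.of k)) := RegSmooth17.smooth_of_regular_of_perfectField _ hreg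
  haveI : JacobsonSpace X := LocallyOfFiniteType.jacobsonSpace (X ↘ Spec (CommRingCat.of k))
  haveI : JacobsonSpace P := LocallyOfFiniteType.jacobsonSpace (P ↘ Spec (CommRingCat.of k))
  haveI : IsLocallyNoetherian P := LocallyOfFiniteType.isLocallyNoetherian (P ↘ Spec (CommRingCat.of k))
  haveI : LocallyOfFinitePresentation f := inferInstance
  have hξ := CurveOm17.map_genericPoint_of_isFinite hdim.le hdimX f
  have huniq : ∀ x, f x = genericPoint P → x = genericPoint X := fun x =>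
    (Curve17.map_eq_genericPoint_iff hdimX.le hdim f hξ x).1
  haveI : Surjective f := (Scheme.Hom.one_le_finrank_iff_surjective f).1 fun z => by rw [hr]; exact one_le_two
  refine ⟨inferInstance, inferInstance, hξ, ?_, ?_⟩
  · rw [CurveOm17.finrank_genMap_eq_residueDegree f hξ,
      ← CurveCoh17.finrank_genericPoint_eq_residueDegree f hξ huniq]
    exact hr _
  · letI := (Curve17.genMap f hξ).hom.toAlgebra
    exact IsScalarTower.of_algebraMap_eq fun c => (ConcreteCategory.congr_hom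
      (Curve17.genMap_baseStalk (X ↘ Spec (CommRingCat.of k)) (P ↘ Spec (CommRingCat.of k)) f hf hξ) c).symm

end

/-- Let F be a smooth projective curve over an algebraically closed field k of characteristic 0
(integral, proper over k, of dimension one, all local rings regular) of genus g, and γ ≥ 1 an
integer with g > 4γ + 1. Then F carries at most one involution whose quotient has genus at most γ;
equivalently, degree-2 covers of curves of genus ≤ γ by F are unique: if for i = 1, 2, P_i is a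
smooth projective curve over k of genus dim_k H^1(P_i, O) ≤ γ and f_i : F ⟶ P_i is a morphism over k
which is finite and flat of constant rank 2, then there is an isomorphism e : P_1 ≅ P_2 over k with
f_1 ≫ e = f_2. -/
theorem result (k : Type u) [Field k] [IsAlgClosed k] [CharZero k] (X : Scheme.{u}) [X.Over (Spec (CommRingCat.of k))]
    [IsIntegral X] [IsProper (X ↘ (Spec (CommRingCat.of k)))] (hdim : topologicalKrullDim X = 1)
    (hreg : ∀ x : X, IsRegularLocalRing (X.presheaf.stalk x))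
    (γ : ℕ) (hγ : 1 ≤ γ) (hg : 4 * γ + 1 < Curv2.genus k X)
    (P₁ : Scheme.{u}) [P₁.Over (Spec (CommRingCat.of k))] [IsIntegral P₁] [IsProper (P₁ ↘ (Spec (CommRingCat.of k)))]
    (hdim₁ : topologicalKrullDim P₁ = 1) (hreg₁ : ∀ y : P₁, IsRegularLocalRing (P₁.presheaf.stalk y)) (hγ₁ : Curv2.genus k P₁ ≤ γ)
    (P₂ : Scheme.{u}) [P₂.Over (Spec (CommRingCat.of k))] [IsIntegral P₂] [IsProper (P₂ ↘ (Spec (CommRingCat.of k)))]
    (hdim₂ : topologicalKrullDim P₂ = 1) (hreg₂ : ∀ y : P₂, IsRegularLocalRing (P₂.presheaf.stalk y)) (hγ₂ : Curv2.genus k P₂ ≤ γ)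
    (f₁ : X ⟶ P₁) (hf₁ : f₁ ≫ (P₁ ↘ Spec (CommRingCat.of k)) = X ↘ Spec (CommRingCat.of k))
    [IsFinite f₁] [Flat f₁] (hr₁ : ∀ y : P₁, Scheme.Hom.finrank f₁ y = 2)
    (f₂ : X ⟶ P₂) (hf₂ : f₂ ≫ (P₂ ↘ Spec (CommRingCat.of k)) = X ↘ Spec (CommRingCat.of k))
    [IsFinite f₂] [Flat f₂] (hr₂ : ∀ y : P₂, Scheme.Hom.finrank f₂ y = 2) :
    ∃ e : P₁ ≅ P₂, e.hom ≫ (P₂ ↘ Spec (CommRingCat.of k)) = (P₁ ↘ Spec (CommRingCat.of k)) ∧ f₁ ≫ e.hom = f₂ := by
  have main : ∀ (Q₁ Q₂ : Scheme.{u}) [Q₁.Over (Spec (CommRingCat.of k))] [Q₂.Over (Spec (CommRingCat.of k))]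
      [IsIntegral Q₁] [IsIntegral Q₂] [IsProper (Q₁ ↘ (Spec (CommRingCat.of k)))] [IsProper (Q₂ ↘ (Spec (CommRingCat.of k)))]
      (_ : topologicalKrullDim Q₁ = 1) (_ : topologicalKrullDim Q₂ = 1)
      (_ : ∀ y : Q₁, IsRegularLocalRing (Q₁.presheaf.stalk y)) (_ : ∀ y : Q₂, IsRegularLocalRing (Q₂.presheaf.stalk y))
      (_ : Curv2.genus k Q₁ ≤ γ) (_ : Curv2.genus k Q₂ ≤ γ)
      (u₁ : X ⟶ Q₁) (u₂ : X ⟶ Q₂) [IsFinite u₁] [Flat u₁] [IsFinite u₂] [Flat u₂]
      (_ : u₁ ≫ (Q₁ ↘ Spec (CommRingCat.of k)) = X ↘ Spec (CommRingCat.of k))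
      (_ : u₂ ≫ (Q₂ ↘ Spec (CommRingCat.of k)) = X ↘ Spec (CommRingCat.of k))
      (_ : ∀ y, Scheme.Hom.finrank u₁ y = 2) (_ : ∀ y, Scheme.Hom.finrank u₂ y = 2),
      ∃ h : Q₁ ⟶ Q₂, h ≫ (Q₂ ↘ Spec (CommRingCat.of k)) = (Q₁ ↘ Spec (CommRingCat.of k)) ∧ u₁ ≫ h = u₂ ∧ Epi u₁ := by
    intro Q₁ Q₂ _ _ _ _ _ _ hd₁ hd₂ hg₁ hg₂ hγ₁' hγ₂' u₁ u₂ _ _ _ _ hu₁ hu₂ hn₁ hn₂
    obtain ⟨hepi, hs₁, e₁, hdeg₁, htw₁⟩ := cover_facts hdim hd₁ hg₁ u₁ hu₁ hn₁
    obtain ⟨-, hs₂, e₂, hdeg₂, htw₂⟩ := cover_facts hdim hd₂ hg₂ u₂ hu₂ hn₂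
    haveI : Smooth (X ↘ Spec (CommRingCat.of k)) := RegSmooth17.smooth_of_regular_of_perfectField _ hreg
    haveI := hs₁
    haveI := hs₂
    obtain ⟨hKX, hgX⟩ := GenusFF17.genus_functionField (k := k) hdim (VB17.h0_one_of_smooth (k := k) (X := X))
    obtain ⟨hK₁, hgQ₁⟩ := GenusFF17.genus_functionField (k := k) hd₁ (VB17.h0_one_of_smooth (k := k) (X := Q₁))
    obtain ⟨hK₂, hgQ₂⟩ := GenusFF17.genus_functionField (k := k) hd₂ (VB17.h0_one_of_smooth (k := k) (X := Q₂))
    letI := (Curve17.genMap u₁ e₁).hom.toAlgebra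
    letI := (Curve17.genMap u₂ e₂).hom.toAlgebra
    haveI := htw₁
    haveI := htw₂
    have hrange := DoubleCov17.range_eq_of_genus_lt (k := k) (K := X.functionField) (F₁ := Q₁.functionField)
      (F₂ := Q₂.functionField) (two_ne_zero) hKX hK₁ hK₂ hdeg₁ hdeg₂ (by omega)
    -- the induced map of function fields
    have hmem : ∀ z : Q₂.functionField, ∃ y : Q₁.functionField,
        algebraMap Q₁.functionField X.functionField y = algebraMap Q₂.functionField X.functionField z := fun z =>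
      (Set.ext_iff.1 hrange _).2 ⟨z, rfl⟩
    choose θ hθ using hmem
    have hinj := (algebraMap Q₁.functionField X.functionField).injective
    let Θ : Q₂.functionField →+* Q₁.functionField :=
      { toFun := θ
        map_one' := hinj (by rw [hθ, map_one, map_one])
        map_mul' := fun a b => hinj (by rw [hθ, map_mul, map_mul, hθ, hθ])
        map_zero' := hinj (by rw [hθ, map_zero, map_zero])
        map_add' := fun a b => hinj (by rw [hθ, map_add, map_add, hθ, hθ]) }
    obtain ⟨h, eh, hh, hgm⟩ := Curve17.exists_hom_of_functionField (Q₁ ↘ Spec (CommRingCat.of k))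
      (Q₂ ↘ Spec (CommRingCat.of k))
      (fun y => Curve17.valuationRing_stalk_of_normal (Q₁ ↘ Spec (CommRingCat.of k)) hd₁
        (fun z => SmoothReg17.isIntegrallyClosed_stalk (Q₁ ↘ Spec (CommRingCat.of k)) z) y)
      (CommRingCat.ofHom Θ) (by
        ext c
        exact hinj ((hθ _).trans ((IsScalarTower.algebraMap_apply k Q₂.functionField X.functionField c).symm.trans
          (IsScalarTower.algebraMap_apply k Q₁.functionField X.functionField c))))
    refine ⟨h, hh, eq_of_generic _ _ (by rw [Category.assoc, hh, hu₁, hu₂]) ?_, hepi⟩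
    rw [← Category.assoc, fromSpecStalk_comp u₁ e₁, Category.assoc, fromSpecStalk_comp h eh,
      fromSpecStalk_comp u₂ e₂, hgm]
    refine (Spec.map_comp_assoc (CommRingCat.ofHom Θ) (Curve17.genMap u₁ e₁) _).symm.trans ?_
    congr 2
    ext z
    exact hθ z
  obtain ⟨e, he, he', hepi⟩ := main P₁ P₂ hdim₁ hdim₂ hreg₁ hreg₂ hγ₁ hγ₂ f₁ f₂ hf₁ hf₂ hr₁ hr₂
  obtain ⟨e', -, he'', hepi'⟩ := main P₂ P₁ hdim₂ hdim₁ hreg₂ hreg₁ hγ₂ hγ₁ f₂ f₁ hf₂ hf₁ hr₂ hr₁
  refine ⟨⟨e, e', ?_, ?_⟩, he, he'⟩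
  · rw [← cancel_epi f₁, reassoc_of% he', he'', Category.comp_id]
  · rw [← cancel_epi f₂, reassoc_of% he'', he', Category.comp_id]

end Groth.Agent.S16973
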