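import Groth.Statements.S16976
import Groth.Agent.Lib.NumConn10.Fibre
import Groth.Agent.Lib.ArInter.Deg
import Groth.Agent.Lib.BlanchardNS19
import Groth.Agent.Lib.BlowUpExist.Local
import Groth.Agent.Lib.CurveCoh17.RegPoint
import Groth.Agent.Lib.SecDiv18.Basic

set_option autoImplicit false
set_option maxHeartbeats 1000000
set_option linter.style.haveILetI false
set_option backward.isDefEq.respectTransparency false
set_option backward.isDefEq.respectTransparency.types false
universe u
open CategoryTheory CategoryTheory.Limits AlgebraicGeometry TopologicalSpace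
open Surf

namespace Groth.Agent.S16976

open TopologicalSpace Opposite
open Groth.Agent Groth.Agent.NumConn10
open Groth.Agent.SymSq10 (sdot)
open Groth.Agent.NumPoly18 (ptIdeal)

noncomputable local instance instLawMulFibre (Y : Scheme.{u}) : PicGrp.Law Y := M2.law Y

/-- A locally principal ideal with proper support is an effective Cartier ideal. -/
theorem isEffCartier_of_locPrincipal {X : Scheme.{u}} [IsIntegral X] (I : X.IdealSheafData)
    (hI : Curv2.IsLocPrincipal I) (hne : genericPoint X ∉ (I.support : Set X)) : BlowUp.IsEffCartierIdeal I := by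
  intro x
  by_cases hx : x ∈ I.support
  · obtain ⟨U, hxU, f, hf⟩ := hI x hx
    haveI : Nonempty U.1 := ⟨⟨x, hxU⟩⟩
    refine ⟨U, hxU, f, mem_nonZeroDivisors_of_ne_zero fun h0 => hne ?_, hf⟩
    have hgU : genericPoint X ∈ U.1 := ((genericPoint_spec X).mem_open_set_iff U.1.isOpen).2 ⟨x, trivial, hxU⟩
    rw [SetLike.mem_coe, Scheme.IdealSheafData.mem_support_iff_of_mem (U := U) hgU, hf, h0, Scheme.mem_zeroLocus_iff]
    intro g hg
    rw [Ideal.span_singleton_zero] at hg
    rw [(Submodule.mem_bot _).1 hg, Scheme.basicOpen_zero]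
    exact id
  · obtain ⟨V, hV, hxV, hsub⟩ := exists_isAffineOpen_mem_and_subset (x := x) (U := I.support.compl) hx
    refine ⟨⟨V, hV⟩, hxV, 1, one_mem _, ?_⟩
    rw [Ideal.span_singleton_one]
    by_contra h
    obtain ⟨M, hM, hle⟩ := Ideal.exists_le_maximal _ h
    let q : Spec Γ(X, V) := ⟨M, hM.isPrime⟩
    have hqV : hV.fromSpec q ∈ V := by
      have h2 : hV.fromSpec q ∈ Set.range hV.fromSpec := ⟨q, rfl⟩
      rwa [hV.range_fromSpec] at h2
    refine hsub hqV ?_
    rw [SetLike.mem_coe, Scheme.IdealSheafData.mem_support_iff_of_mem (U := ⟨V, hV⟩) hqV, Scheme.mem_zeroLocus_iff]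
    intro g hg hgq
    have h' : q ∈ hV.fromSpec ⁻¹ᵁ X.basicOpen g := hgq
    rw [hV.fromSpec_preimage_basicOpen] at h'
    exact h' (hle hg)

theorem prod_map_eq {M : Type*} [CommMonoid M] {α : Type*} [DecidableEq α] (g : α → M) (s : Multiset α)
    (S : Finset α) (h : s.toFinset ⊆ S) : (s.map g).prod = ∏ p : S, g (p : α) ^ s.count (p : α) := by
  rw [Finset.prod_coe_sort S fun p => g p ^ s.count p, Finset.prod_multiset_map_count]
  exact Finset.prod_subset h fun p _ hp => by
    rw [Multiset.count_eq_zero.2 fun hm => hp (Multiset.mem_toFinset.2 hm), pow_zero]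

/-- Let f : S ⟶ B be a relatively minimal fibration of genus at least 2 over an algebraically closed
field k of characteristic 0 (S a smooth projective integral surface, B a smooth projective integral
curve, f a surjective k-morphism with O_B ⟶ f_*O_S an isomorphism, every closed fibre with χ(O_F) <
0, and no (-1)-curve in a fibre: every integral closed curve E ⊆ S with regular local rings, mapped
to a point and with χ(O_E) = 1, has E.E ≠ -1). Let F = f⁻¹(p) be the fibre over a closed point, with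
ideal sheaf I_F = m_p·O_S. Then F is a positive multiple m·E of a 1-connected effective divisor E:
for every m ≥ 1 and every locally principal ideal sheaf I_E with I_E^m = I_F that is not the n-th
power (n ≥ 2) of a locally principal ideal sheaf (so that E = F/m with m the greatest common divisor
of the multiplicities of F), and for every factorisation I_E = I_A · I_B with I_A, I_B locally
principal ideal sheaves different from O_S (an effective decomposition E = A + B), the intersection
number A.B — computed as the intersection number of the ideal sheaves I_A, I_B on S — is at least 1. -/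
theorem result (k : Type u) [Field k] [IsAlgClosed k] [CharZero k]
    (S : Scheme.{u}) [S.Over (Spec (CommRingCat.of k))] [IsProper (S ↘ (Spec (CommRingCat.of k)))]
    [Smooth (S ↘ (Spec (CommRingCat.of k)))] [IsIntegral S] (hdimS : topologicalKrullDim S = 2)
    (B : Scheme.{u}) [B.Over (Spec (CommRingCat.of k))] [IsProper (B ↘ (Spec (CommRingCat.of k)))]
    [Smooth (B ↘ (Spec (CommRingCat.of k)))] [IsIntegral B] (hdimB : topologicalKrullDim B = 1)
    (f : S ⟶ B) [f.IsOver (Spec (CommRingCat.of k))] [Surjective f] (hconn : IsIso (ClSub.unitToPush f))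
    (hg : ∀ p : B, IsClosed ({p} : Set B) → Curv2.euler k S (ClSub.quotMod (f.fiberι p).ker) < 0)
    (hmin : ∀ (E : Scheme.{u}) (j : E ⟶ S), IsClosedImmersion j → IsIntegral E → topologicalKrullDim E = 1 →
      (∀ e : E, IsRegularLocalRing (E.presheaf.stalk e)) → (∃ p : B, Set.range (j ≫ f).base ⊆ {p}) →
      Curv2.euler k S (ClSub.quotMod j.ker) = 1 →
      FGA.intNum k S 2 ![ClSub.idealMod j.ker, ClSub.idealMod j.ker] (Coh.structureModule S) ≠ -1)
    (p : B) (hp : IsClosed ({p} : Set B))
    (m : ℕ) (hm : 1 ≤ m) (IE : S.IdealSheafData) (hIE : Curv2.IsLocPrincipal IE)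
    (hpow : IE ^ m = (Scheme.IdealSheafData.vanishingIdeal ⟨{p}, hp⟩).comap f)
    (hprim : ∀ n : ℕ, 2 ≤ n → ∀ J : S.IdealSheafData, Curv2.IsLocPrincipal J → J ^ n ≠ IE)
    (IA IB : S.IdealSheafData) (hIA : Curv2.IsLocPrincipal IA) (hIB : Curv2.IsLocPrincipal IB)
    (hA : IA ≠ ⊤) (hB : IB ≠ ⊤) (hAB : IA * IB = IE) :
    1 ≤ FGA.intNum k S 2 ![ClSub.idealMod IA, ClSub.idealMod IB] (Coh.structureModule S) := by
  classical
  have hd := SurfRR10.dim_eq (k := k) hdimS
  have hfk : f ≫ (B ↘ Spec (CommRingCat.of k)) = S ↘ Spec (CommRingCat.of k) := comp_over f (Spec (CommRingCat.of k))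
  haveI : IsProper (f ≫ (B ↘ Spec (CommRingCat.of k))) := by rw [hfk]; infer_instance
  haveI : IsProper f := IsProper.of_comp f (B ↘ Spec (CommRingCat.of k))
  haveI : IsNoetherian B := CohFound.isNoetherian_of_isProper (B ↘ Spec (CommRingCat.of k))
  let P := Scheme.IdealSheafData.vanishingIdeal (⟨{p}, hp⟩ : Closeds B)
  have hPi := CurveCoh17.isInvertible_pointIdeal hdimB (SurfRR10.regular (k := k) (X := B)) hp
  have hPc : BlowUp.IsEffCartierIdeal P := SecDiv.isEffCartierIdeal_of_isInvertible P hPi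
  have hsuppF : ∀ x, x ∈ ((P.comap f).support : Set S) ↔ f x = p := fun x => by
    rw [Scheme.IdealSheafData.support_comap]
    show f x ∈ (P.support : Set B) ↔ _
    rw [Scheme.IdealSheafData.coe_support_vanishingIdeal]
    exact Set.mem_singleton_iff
  have hgen : f (genericPoint S) ≠ p := by
    intro h
    obtain ⟨x, hx⟩ := f.surjective (genericPoint B)
    have h2 := (genericPoint_specializes x).map f.continuous
    rw [h, hx] at h2
    exact CurveCoh17.genericPoint_ne_of_isClosed hdimB hp (h2.mem_closed hp rfl)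
  have hsuppE : ∀ x, x ∈ (IE.support : Set S) ↔ f x = p := fun x => by
    rw [← Scheme.IdealSheafData.support_pow IE m (by omega), hpow]
    exact hsuppF x
  have hsuppAB : ∀ x, x ∈ (IE.support : Set S) ↔ x ∈ (IA.support : Set S) ∨ x ∈ (IB.support : Set S) := fun x => by
    rw [← hAB, Scheme.IdealSheafData.support_mul]
    rfl
  have hEc : BlowUp.IsEffCartierIdeal IE :=
    isEffCartier_of_locPrincipal IE hIE fun h => hgen ((hsuppE _).1 h)
  have hAc : BlowUp.IsEffCartierIdeal IA :=
    isEffCartier_of_locPrincipal IA hIA fun h => hgen ((hsuppE _).1 ((hsuppAB _).2 (Or.inl h)))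
  have hBc : BlowUp.IsEffCartierIdeal IB :=
    isEffCartier_of_locPrincipal IB hIB fun h => hgen ((hsuppE _).1 ((hsuppAB _).2 (Or.inr h)))
  obtain ⟨sA, hsA, hprodA, hclA, hsuA⟩ := exists_multiset (k := k) hdimS IA hAc
  obtain ⟨sB, hsB, hprodB, hclB, hsuB⟩ := exists_multiset (k := k) hdimS IB hBc
  let T := (sA + sB).toFinset
  have hT : ∀ q : T, topologicalKrullDim (closure ({(q : S)} : Set S)) = 1 := fun q => by
    rcases Multiset.mem_add.1 (Multiset.mem_toFinset.1 q.2) with h | h
    exacts [hsA _ h, hsB _ h]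
  let c : T → PicLoc.PicSet S := fun q => ccl (k := k) hdimS (q : S)
  let al : T → ℕ := fun q => sA.count (q : S)
  let be : T → ℕ := fun q => sB.count (q : S)
  have hw : ∀ q, 0 < al q + be q := fun q => by
    rw [← Multiset.count_add]
    exact Multiset.count_pos.2 (Multiset.mem_toFinset.1 q.2)
  have hsubA : sA.toFinset ⊆ T := fun x hx => by simp [T] at hx ⊢; exact Or.inl hx
  have hsubB : sB.toFinset ⊆ T := fun x hx => by simp [T] at hx ⊢; exact Or.inr hx
  have hA' : icl hAc = (∏ q : T, c q ^ al q)⁻¹ := by rw [hclA hAc, prod_map_eq _ sA T hsubA]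
  have hB' : icl hBc = (∏ q : T, c q ^ be q)⁻¹ := by rw [hclB hBc, prod_map_eq _ sB T hsubB]
  have hsd : ∀ (b : PicLoc.PicSet S) (e : T → ℕ), sdot k b (∏ q : T, c q ^ e q) = ∑ q : T, (e q : ℤ) * sdot k b (c q) :=
    fun b e => Goodman10.sdot_prod (k := k) (SurfRR10.regular (k := k)) hd Finset.univ c e b
  -- the fibre class is orthogonal to its components
  obtain ⟨eF⟩ := ArInter.nonempty_pullback_idealMod f hPc (hpow ▸ BlowUpExist.isEffCartierIdeal_pow hEc m)
  have hFc : BlowUp.IsEffCartierIdeal (P.comap f) := hpow ▸ BlowUpExist.isEffCartierIdeal_pow hEc m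
  have horth : ∀ q : T, ∑ q' : T, ((al q' + be q' : ℕ) : ℤ) * sdot k (c q) (c q') = 0 := fun q => by
    have hcl : icl hFc = PicGrp.cls _ (Twist.isInvertible_pullback f hPi) :=
      (PicGrp.cls_eq_cls_iff _ _).2 ⟨eF.symm⟩
    have hp' : ∀ x, (q : S) ⤳ x → f x = p := fun x hx => by
      refine (hsuppE x).1 ((hsuppAB x).2 ?_)
      rcases Multiset.mem_add.1 (Multiset.mem_toFinset.1 q.2) with h | h
      exacts [Or.inl ((hsuA x).2 ⟨_, h, hx⟩), Or.inr ((hsuB x).2 ⟨_, h, hx⟩)]
    have h0 := sdot_pullback_eq_zero (k := k) hdimS f hPi (hT q) p hp'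
    rw [← hcl, icl_congr hFc (BlowUpExist.isEffCartierIdeal_pow hEc m) hpow.symm, icl_pow (k := k) hdimS hEc,
      SymSq10.sdot_comm, SurfRR10.sdot_pow_left (k := k) hdimS, SymSq10.sdot_comm,
      icl_congr hEc (by rw [hAB]; exact hEc) hAB.symm, icl_mul hAc hBc (by rw [hAB]; exact hEc), hA', hB',
      SurfRR10.sdot_mul_right (k := k) hdimS, SurfRR10.sdot_inv_right (k := k) hdimS,
      SurfRR10.sdot_inv_right (k := k) hdimS, hsd, hsd] at h0
    have h1 := (mul_eq_zero.1 h0).resolve_left (by omega)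
    simp only [Nat.cast_add, add_mul, Finset.sum_add_distrib]
    show ∑ q' : T, (al q' : ℤ) * sdot k (ccl (k := k) hdimS (q : S)) (c q') +
      ∑ q' : T, (be q' : ℤ) * sdot k (ccl (k := k) hdimS (q : S)) (c q') = 0
    linarith
  have hval : FGA.intNum k S 2 ![ClSub.idealMod IA, ClSub.idealMod IB] (Coh.structureModule S) =
      - ∑ a : T, ∑ b : T, (al a : ℤ) * (al b : ℤ) * sdot k (c a) (c b) := by
    rw [SymSq10.intNum_eq' hd.le (M2.isInvertible_idealMod IA hAc) (M2.isInvertible_idealMod IB hBc)]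
    show sdot k (icl hAc) (icl hBc) = _
    rw [hA', hB', SurfRR10.sdot_inv_left (k := k) hdimS, SurfRR10.sdot_inv_right (k := k) hdimS, neg_neg,
      SymSq10.sdot_comm, hsd, ← Finset.sum_neg_distrib]
    refine Finset.sum_congr rfl fun a _ => ?_
    rw [SymSq10.sdot_comm, hsd]
    have h := horth a
    simp only [Nat.cast_add, add_mul, Finset.sum_add_distrib] at h
    rw [eq_neg_of_add_eq_zero_right h, mul_neg, Finset.mul_sum]
    exact congrArg Neg.neg (Finset.sum_congr rfl fun b _ => by ring)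
  rw [hval]
  by_contra hcon
  have hge : (0 : ℤ) ≤ ∑ a : T, ∑ b : T, (al a : ℤ) * (al b : ℤ) * sdot k (c a) (c b) := by omega
  have hnn : ∀ a b : T, a ≠ b → 0 ≤ sdot k (c b) (c a) ∧
      ((∃ x, (b : S) ⤳ x ∧ (a : S) ⤳ x) → 0 < sdot k (c b) (c a)) := fun a b h =>
    Goodman10.sdot_curve_nonneg (k := k) (SurfRR10.regular (k := k)) hd (hT b) (hT a) fun e => h (Subtype.ext e)
  have hne : ∀ {K : S.IdealSheafData} {s : Multiset S}, K ≠ ⊤ → K = (s.map ptIdeal).prod → ∃ q, q ∈ s := by
    intro K s hK hs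
    refine Multiset.exists_mem_of_ne_zero fun h0 => hK ?_
    rw [hs, h0]
    simp [Scheme.IdealSheafData.one_eq_top]
  obtain ⟨a₀, ha₀⟩ := hne hA hprodA
  obtain ⟨b₀, hb₀⟩ := hne hB hprodB
  let a₀' : T := ⟨a₀, hsubA (Multiset.mem_toFinset.2 ha₀)⟩
  let b₀' : T := ⟨b₀, hsubB (Multiset.mem_toFinset.2 hb₀)⟩
  have hbij : ∀ U : B.Opens, IsAffineOpen U → Function.Bijective (f.app U).hom := fun U _ => by
    haveI := hconn
    haveI : IsIso ((Scheme.Modules.toPresheaf B).map (ClSub.unitToPush f)) := inferInstance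
    exact ConcreteCategory.bijective_of_isIso (((Scheme.Modules.toPresheaf B).map (ClSub.unitToPush f)).app (op U))
  have hpre := BlanchardNS19.isPreconnected_fibre f hbij p
  have hfib : ∀ x, f x = p ↔ ∃ q : T, (q : S) ⤳ x := fun x => by
    rw [← hsuppE, hsuppAB, hsuA, hsuB]
    constructor
    · rintro (⟨η, h, h'⟩ | ⟨η, h, h'⟩)
      exacts [⟨⟨η, hsubA (Multiset.mem_toFinset.2 h)⟩, h'⟩, ⟨⟨η, hsubB (Multiset.mem_toFinset.2 h)⟩, h'⟩]
    · rintro ⟨q, h'⟩
      rcases Multiset.mem_add.1 (Multiset.mem_toFinset.1 q.2) with h | h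
      exacts [Or.inl ⟨_, h, h'⟩, Or.inr ⟨_, h, h'⟩]
  let N : T → T → ℚ := fun q p => (sdot k (c q) (c p) : ℚ)
  let w : T → ℚ := fun q => ((al q + be q : ℕ) : ℚ)
  have key := eq_smul_of_form_nonneg N w (fun q => Nat.cast_pos.2 (hw q))
    (fun a b h => Int.cast_nonneg (hnn a b h).1) (fun a b => by simp only [N, SymSq10.sdot_comm])
    (fun a => by
      have h := congrArg (fun z : ℤ => (z : ℚ)) (horth a)
      push_cast at h
      simp only [N, w]
      rw [← h]
      exact Finset.sum_congr rfl fun b _ => by rw [SymSq10.sdot_comm (a := c b)]; push_cast; ring)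
    (fun U hU hUc => by
      have hcl : ∀ V : Set T, IsClosed (⋃ q ∈ V, closure ({(q : S)} : Set S)) := fun V =>
        (Set.toFinite V).isClosed_biUnion fun q _ => isClosed_closure
      obtain ⟨a, ha⟩ := hU
      obtain ⟨b, hb⟩ := hUc
      obtain ⟨x, -, hx1, hx2⟩ := isPreconnected_closed_iff.1 hpre _ _ (hcl U) (hcl Uᶜ) (fun x hx => by
          obtain ⟨q, hq⟩ := (hfib x).1 hx
          by_cases hqU : q ∈ U
          · exact Or.inl (Set.mem_biUnion hqU (specializes_iff_mem_closure.1 hq))
          · exact Or.inr (Set.mem_biUnion hqU (specializes_iff_mem_closure.1 hq)))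
        ⟨(a : S), (hfib _).2 ⟨a, specializes_rfl⟩, Set.mem_biUnion ha (subset_closure rfl)⟩
        ⟨(b : S), (hfib _).2 ⟨b, specializes_rfl⟩, Set.mem_biUnion hb (subset_closure rfl)⟩
      obtain ⟨q, hq, hqx⟩ := Set.mem_iUnion₂.1 hx1
      obtain ⟨q', hq', hqx'⟩ := Set.mem_iUnion₂.1 hx2
      refine ⟨q, hq, q', hq', ?_⟩
      exact (Int.cast_pos.2 ((hnn q q' fun e => hq' (show q' ∈ U from e ▸ hq)).2
        ⟨x, specializes_iff_mem_closure.2 hqx', specializes_iff_mem_closure.2 hqx⟩)).ne')
    (fun q => (al q : ℚ)) (by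
      refine le_of_le_of_eq (Int.cast_nonneg (R := ℚ) hge) ?_
      push_cast
      exact Finset.sum_congr rfl fun a _ => Finset.sum_congr rfl fun b _ => by
        simp only [N, SymSq10.sdot_comm (a := c a)]) a₀'
  let t : ℚ := (al a₀' : ℚ) / w a₀'
  have hmul : ∀ q : T, (al q : ℤ) * (t.den : ℤ) = t.num * ((al q + be q : ℕ) : ℤ) := fun q => by
    have h : (al q : ℚ) * (t.den : ℚ) = (t.num : ℚ) * ((al q + be q : ℕ) : ℚ) := by
      rw [key q, ← Rat.mul_den_eq_num]
      ring
    exact_mod_cast h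
  have hdvd : ∀ q : T, t.den ∣ al q + be q := fun q => by
    have h : (t.den : ℤ) ∣ t.num * ((al q + be q : ℕ) : ℤ) := ⟨al q, by rw [← hmul q]; ring⟩
    exact Int.natCast_dvd_natCast.1 ((Rat.isCoprime_num_den t).symm.dvd_of_dvd_mul_left h)
  have ha0 : 0 < al a₀' := Multiset.count_pos.2 ha₀
  have hb0 : 0 < be b₀' := Multiset.count_pos.2 hb₀
  have hden : 2 ≤ t.den := by
    by_contra h
    have h1 : t.den = 1 := by have := t.den_pos; omega
    have e1 := hmul a₀'
    have e2 := hmul b₀'
    rw [h1] at e1 e2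
    push_cast at e1 e2
    have hnum : 0 < t.num := by nlinarith
    nlinarith
  let J := ∏ q : T, ptIdeal (q : S) ^ ((al q + be q) / t.den)
  have hJ : J ^ t.den = IE := by
    rw [← Finset.prod_pow, ← hAB, hprodA, hprodB, prod_map_eq ptIdeal sA T hsubA, prod_map_eq ptIdeal sB T hsubB,
      ← Finset.prod_mul_distrib]
    refine Finset.prod_congr rfl fun q _ => ?_
    rw [← pow_mul, Nat.div_mul_cancel (hdvd q), pow_add]
  refine hprim t.den hden J (fun x hx => ?_) hJ
  have hJc : BlowUp.IsEffCartierIdeal J := by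
    have h : BlowUp.IsEffCartierIdeal (J ^ (t.den - 1) * J) := by
      rw [← pow_succ, Nat.sub_add_cancel (by omega), hJ]
      exact hEc
    rw [mul_comm] at h
    exact EffCartier.isEffCartierIdeal_of_mul_left h
  obtain ⟨U, hxU, g, -, hg⟩ := hJc x
  exact ⟨U, hxU, g, hg⟩

end Groth.Agent.S16976
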