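import Groth.Statements.S16979
import Mathlib

set_option autoImplicit false
universe u v
open CAlg

namespace Groth.Agent.S16979

open Polynomial in

/-- Let R be an integral domain with fraction field K and φ a square matrix over R whose characteristic
polynomial becomes separable in K[T] (equivalently, K[T] modulo the characteristic polynomial is
geometrically reduced over K). Then a polynomial f over R satisfies f(φ) = 0 exactly when the
characteristic polynomial of φ divides f in R[T]: the kernel of evaluation at φ (the minimal ideal
of φ) is the principal ideal generated by the characteristic polynomial. -/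
theorem result
    {R : Type u} [CommRing R] [IsDomain R] {n : Type v} [Fintype n] [DecidableEq n]
    (φ : Matrix n n R)
    (hsep : (φ.charpoly.map (algebraMap R (FractionRing R))).Separable) :
    RingHom.ker (Polynomial.aeval (R := R) φ) = Ideal.span {φ.charpoly} := by
  refine le_antisymm (fun p hp => ?_) ?_
  · rw [Ideal.mem_span_singleton]
    let K := FractionRing R
    let L := AlgebraicClosure K
    let f : R →+* L := (algebraMap K L).comp (algebraMap R K)
    have hf : Function.Injective f := (algebraMap K L).injective.comp (IsFractionRing.injective R K)
    rw [← Polynomial.map_dvd_map f hf φ.charpoly_monic]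
    by_cases hp0 : p = 0
    · simp [hp0]
    have hpm : p.map f ≠ 0 := (Polynomial.map_ne_zero_iff hf).2 hp0
    have hsep' : (φ.charpoly.map f).Separable := by
      rw [← Polynomial.map_map]; exact hsep.map
    have hspl : Multiset.card (φ.charpoly.map f).roots = (φ.charpoly.map f).natDegree :=
      splits_iff_card_roots.1 (IsAlgClosed.splits _)
    rw [← Polynomial.prod_multiset_X_sub_C_of_monic_of_roots_card_eq (φ.charpoly_monic.map f) hspl,
      Multiset.prod_X_sub_C_dvd_iff_le_roots hpm, Multiset.le_iff_subset (nodup_roots hsep')]
    intro μ hμ
    rw [mem_roots hpm]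
    rw [mem_roots ((φ.charpoly_monic.map f).ne_zero), ← Matrix.charpoly_map] at hμ
    have hμ' : μ ∈ spectrum L (φ.map f) := (Matrix.mem_spectrum_iff_isRoot_charpoly).2 hμ
    have h2 := spectrum.subset_polynomial_aeval (φ.map f) (p.map f) ⟨μ, hμ', rfl⟩
    letI : Algebra R L := f.toAlgebra
    have h0 : aeval (φ.map f) (p.map f) = 0 := by
      have e := Polynomial.aeval_algHom_apply ((Algebra.ofId R L).mapMatrix) φ p
      rw [RingHom.mem_ker] at hp
      rw [hp, map_zero] at e
      rw [show p.map f = p.map (algebraMap R L) from rfl, aeval_map_algebraMap]
      exact e
    rw [h0] at h2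
    have : Nonempty n := by
      by_contra hne
      rw [not_nonempty_iff] at hne
      exact spectrum.mem_iff.1 hμ' (isUnit_of_subsingleton _)
    rw [spectrum.zero_eq] at h2
    exact h2
  · rw [Ideal.span_le, Set.singleton_subset_iff]
    exact Matrix.aeval_self_charpoly φ

end Groth.Agent.S16979
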