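import Groth.Statements.S16980
import Groth.Agent.Lib.NodeTriv28.Poly
import Mathlib.RingTheory.Kaehler.Basic
import Mathlib.Algebra.MvPolynomial.PDeriv
import Mathlib.Algebra.TrivSqZeroExt.Ideal
import Mathlib.Tactic.LinearCombination
import Mathlib.Tactic.Ring
import Mathlib.Tactic.FinCases

set_option autoImplicit false
universe u
open CAlg

namespace Groth.Agent.S16980

/-- Let A be a commutative ring, J an A-module, A′ = A ⊕ εJ the trivial square-zero extension of A by J,
and τ any element of A′. Let B′ be the A′-algebra A′[x,y]/(xy − τ), presented by two generators x, y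
with the evaluation map from the polynomial ring in two variables over A′ surjective and with kernel
generated by XY − τ. Let I ⊆ B′ be the ideal generated by the square-zero ideal J of A′, so that B =
B′/I is A[x,y]/(xy − t) with t the A-component of τ. Then the first map of the conormal sequence of
B′ → B relative to A, namely I → B ⊗_{B′} Ω_{B′/A}, i ↦ 1 ⊗ di, is injective (so the sequence 0 → I
→ B ⊗_{B′} Ω_{B′/A} → Ω_{B/A} → 0 is exact on the left as well; this is the local computation at a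
node for first-order deformations of nodal curves). -/
theorem result
    (A : Type u) [CommRing A] (J : Type u) [AddCommGroup J] [Module A J] [Module Aᵐᵒᵖ J]
    [IsCentralScalar A J] (τ : TrivSqZeroExt A J)
    (B' : Type u) [CommRing B'] [Algebra (TrivSqZeroExt A J) B'] [Algebra A B']
    [IsScalarTower A (TrivSqZeroExt A J) B'] (x y : B')
    (hsurj : Function.Surjective
      (MvPolynomial.aeval ![x, y] : MvPolynomial (Fin 2) (TrivSqZeroExt A J) →ₐ[TrivSqZeroExt A J] B'))
    (hker : RingHom.ker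
      (MvPolynomial.aeval ![x, y] : MvPolynomial (Fin 2) (TrivSqZeroExt A J) →ₐ[TrivSqZeroExt A J] B') =
      Ideal.span {MvPolynomial.X 0 * MvPolynomial.X 1 - MvPolynomial.C τ}) :
    Function.Injective (KaehlerDifferential.kerToTensor A B'
      (B' ⧸ Ideal.map (algebraMap (TrivSqZeroExt A J) B') (TrivSqZeroExt.kerIdeal A J))) := by
  classical
  let A' := TrivSqZeroExt A J
  let I : Ideal B' := Ideal.map (algebraMap A' B') (TrivSqZeroExt.kerIdeal A J)
  let Φ : MvPolynomial (Fin 2) A' →+* B' := (MvPolynomial.aeval ![x, y] : MvPolynomial (Fin 2) A' →ₐ[A'] B').toRingHom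
  have hΦs : Function.Surjective Φ := hsurj
  let p0 : A' →+* A' := (TrivSqZeroExt.inlHom A J).comp (TrivSqZeroExt.fstHom A A J).toRingHom
  let π : MvPolynomial (Fin 2) A' →+* MvPolynomial (Fin 2) A' := MvPolynomial.map p0
  have hp0 : ∀ a : A', a - p0 a ∈ TrivSqZeroExt.kerIdeal A J := by
    intro a
    show TrivSqZeroExt.fst (a - TrivSqZeroExt.inl (TrivSqZeroExt.fst a)) = 0
    rw [TrivSqZeroExt.fst_sub, TrivSqZeroExt.fst_inl, sub_self]
  have hp0K : ∀ a ∈ TrivSqZeroExt.kerIdeal A J, p0 a = 0 := by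
    intro a ha
    have h : TrivSqZeroExt.fst a = 0 := ha
    show TrivSqZeroExt.inl (TrivSqZeroExt.fst a) = 0
    rw [h, TrivSqZeroExt.inl_zero]
  have hδ : ∀ f, Φ (f - π f) ∈ I := by
    intro f
    have h : f - π f ∈ (TrivSqZeroExt.kerIdeal A J).map (MvPolynomial.C : A' →+* MvPolynomial (Fin 2) A') := by
      rw [MvPolynomial.mem_map_C_iff]
      intro m
      rw [MvPolynomial.coeff_sub, MvPolynomial.coeff_map]
      exact hp0 _
    have h2 := Ideal.mem_map_of_mem Φ h
    rwa [Ideal.map_map, show Φ.comp MvPolynomial.C = algebraMap A' B' from RingHom.ext fun a => MvPolynomial.aeval_C _ a] at h2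
  have hI2 : ∀ u ∈ I, ∀ v ∈ I, u * v = 0 := by
    intro u hu v hv
    have h : u * v ∈ I ^ 2 := by rw [pow_two]; exact Ideal.mul_mem_mul hu hv
    rw [show I ^ 2 = ⊥ by rw [← Ideal.map_pow, TrivSqZeroExt.kerIdeal_sq, Ideal.map_bot]] at h
    exact h
  let q : B' →+* B' ⧸ I := Ideal.Quotient.mk I
  have hqπ : ∀ f, q (Φ (π f)) = q (Φ f) := fun f =>
    ((Ideal.Quotient.eq (I := I)).2 (by rw [← map_sub]; exact hδ f)).symm
  let E : MvPolynomial (Fin 2) A' →+ (B' ⧸ I) × (B' ⧸ I) × I :=
    { toFun := fun f => (q (Φ (MvPolynomial.pderiv 0 f)), q (Φ (MvPolynomial.pderiv 1 f)), ⟨Φ (f - π f), hδ f⟩)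
      map_zero' := by simp
      map_add' := fun f g => Prod.ext (by simp) (Prod.ext (by simp) (Subtype.ext (by
        show Φ _ = Φ _ + Φ _
        rw [← map_add, map_add π]; congr 1; ring))) }
  have hsmulq : ∀ (b : B') (z : B'), b • q z = q (b * z) := fun b z => rfl
  have hEmul : ∀ f g, E (f * g) = Φ f • E g + Φ g • E f := by
    intro f g
    refine Prod.ext ?_ (Prod.ext ?_ (Subtype.ext ?_))
    · show q (Φ (MvPolynomial.pderiv 0 (f * g))) = Φ f • q _ + Φ g • q _
      rw [MvPolynomial.pderiv_mul, hsmulq, hsmulq, ← map_add, map_add Φ, map_mul, map_mul]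
      congr 1
      ring
    · show q (Φ (MvPolynomial.pderiv 1 (f * g))) = Φ f • q _ + Φ g • q _
      rw [MvPolynomial.pderiv_mul, hsmulq, hsmulq, ← map_add, map_add Φ, map_mul, map_mul]
      congr 1
      ring
    · show Φ (f * g - π (f * g)) = Φ f * Φ (g - π g) + Φ g * Φ (f - π f)
      have h := hI2 _ (hδ f) _ (hδ g)
      simp only [map_sub, map_mul] at h ⊢
      linear_combination -h
  let τC : MvPolynomial (Fin 2) A' := MvPolynomial.C τ
  let F : MvPolynomial (Fin 2) A' := MvPolynomial.X 0 * MvPolynomial.X 1 - MvPolynomial.C τ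
  have hΦF : Φ F = 0 := by
    have h : F ∈ RingHom.ker (MvPolynomial.aeval ![x, y] : MvPolynomial (Fin 2) A' →ₐ[A'] B') :=
      hker ▸ Ideal.mem_span_singleton_self F
    exact h
  let S : Submodule B' ((B' ⧸ I) × (B' ⧸ I) × I) := B' ∙ E F
  have hEker : ∀ f g, Φ f = Φ g → E f - E g ∈ S := by
    intro f g h
    have h' : f - g ∈ RingHom.ker (MvPolynomial.aeval ![x, y] : MvPolynomial (Fin 2) A' →ₐ[A'] B') := by
      show Φ (f - g) = 0
      rw [map_sub, h, sub_self]
    rw [hker, Ideal.mem_span_singleton'] at h'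
    obtain ⟨w, hw⟩ := h'
    rw [← map_sub E, ← hw, hEmul, show Φ (MvPolynomial.X 0 * MvPolynomial.X 1 - MvPolynomial.C τ) = 0 from hΦF,
      zero_smul, add_zero]
    exact Submodule.smul_mem _ _ (Submodule.mem_span_singleton_self _)
  let sec : B' → MvPolynomial (Fin 2) A' := Function.surjInv hΦs
  have hsec : ∀ b, Φ (sec b) = b := Function.surjInv_eq hΦs
  let Dm : B' → ((B' ⧸ I) × (B' ⧸ I) × I) ⧸ S := fun b => Submodule.Quotient.mk (E (sec b))
  have hDm : ∀ f, Dm (Φ f) = Submodule.Quotient.mk (E f) := fun f =>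
    (Submodule.Quotient.eq S).2 (hEker _ _ (hsec _))
  have hDmul : ∀ a b, Dm (a * b) = a • Dm b + b • Dm a := by
    intro a b
    obtain ⟨f, rfl⟩ := hΦs a
    obtain ⟨g, rfl⟩ := hΦs b
    rw [← map_mul, hDm, hDm, hDm, hEmul]
    rfl
  have hDadd : ∀ a b, Dm (a + b) = Dm a + Dm b := by
    intro a b
    obtain ⟨f, rfl⟩ := hΦs a
    obtain ⟨g, rfl⟩ := hΦs b
    rw [← map_add, hDm, hDm, hDm, map_add]
    rfl
  have hDA : ∀ a : A, Dm (algebraMap A B' a) = 0 := by
    intro a
    have h1 : Φ (MvPolynomial.C (algebraMap A A' a)) = algebraMap A B' a := by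
      rw [IsScalarTower.algebraMap_apply A A' B']
      exact MvPolynomial.aeval_C _ _
    have h2 : E (MvPolynomial.C (algebraMap A A' a)) = 0 := by
      refine Prod.ext ?_ (Prod.ext ?_ (Subtype.ext ?_))
      · show q (Φ (MvPolynomial.pderiv 0 _)) = 0
        simp
      · show q (Φ (MvPolynomial.pderiv 1 _)) = 0
        simp
      · show Φ (_ - π _) = 0
        rw [show π (MvPolynomial.C (algebraMap A A' a)) = MvPolynomial.C (algebraMap A A' a) from by
          simp only [π, MvPolynomial.map_C]; rfl, sub_self, map_zero]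
    rw [← h1, hDm, h2]
    rfl
  let Dl : B' →ₗ[A] ((B' ⧸ I) × (B' ⧸ I) × I) ⧸ S :=
    { toFun := Dm
      map_add' := hDadd
      map_smul' := fun a b => by
        rw [Algebra.smul_def, hDmul, hDA, smul_zero, add_zero, algebraMap_smul]
        rfl }
  let Dd : Derivation A B' (((B' ⧸ I) × (B' ⧸ I) × I) ⧸ S) := Derivation.mk' Dl hDmul
  let L := Dd.liftKaehlerDifferential
  have hkill : ∀ b ∈ I, b • L = 0 := by
    intro b hb
    refine LinearMap.ext fun w => ?_
    show b • L w = 0
    obtain ⟨⟨v1, v2, v3⟩, hv⟩ := Submodule.Quotient.mk_surjective S (L w)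
    rw [← hv, ← Submodule.Quotient.mk_smul]
    have hz : b • ((v1, v2, v3) : (B' ⧸ I) × (B' ⧸ I) × I) = 0 := by
      refine Prod.ext ?_ (Prod.ext ?_ (Subtype.ext (hI2 b hb v3 v3.2)))
      · obtain ⟨w1, rfl⟩ := Ideal.Quotient.mk_surjective v1
        exact Ideal.Quotient.eq_zero_iff_mem.2 (Ideal.mul_mem_right _ _ hb)
      · obtain ⟨w1, rfl⟩ := Ideal.Quotient.mk_surjective v2
        exact Ideal.Quotient.eq_zero_iff_mem.2 (Ideal.mul_mem_right _ _ hb)
    rw [hz]
    rfl
  let Ψ : TensorProduct B' (B' ⧸ I) (Ω[B'⁄A]) →ₗ[B'] ((B' ⧸ I) × (B' ⧸ I) × I) ⧸ S :=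
    TensorProduct.lift (Submodule.liftQ I (LinearMap.toSpanSingleton B' _ L) (fun b hb => hkill b hb))
  rw [injective_iff_map_eq_zero]
  intro i hi
  have hiI : (i : B') ∈ I := Ideal.Quotient.eq_zero_iff_mem.1 i.2
  have h1 : Ψ (KaehlerDifferential.kerToTensor A B' (B' ⧸ I) i) = 0 := by rw [hi, map_zero]
  have h2 : Dm (i : B') = 0 := by
    rw [KaehlerDifferential.kerToTensor_apply] at h1
    have e : Ψ (TensorProduct.tmul B' (1 : B' ⧸ I) (KaehlerDifferential.D A B' (i : B'))) = Dd (i : B') := by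
      show ((1 : B') • L) (KaehlerDifferential.D A B' (i : B')) = _
      rw [one_smul]
      exact Dd.liftKaehlerDifferential_comp_D _
    rw [e] at h1
    exact h1
  -- choose a lift in the kernel of `π`
  obtain ⟨f, hf⟩ : ∃ f, Φ (f - π f) = (i : B') := by
    have hC : Φ.comp MvPolynomial.C = algebraMap A' B' := RingHom.ext fun a => MvPolynomial.aeval_C _ a
    have h : (i : B') ∈ ((TrivSqZeroExt.kerIdeal A J).map (MvPolynomial.C : A' →+* MvPolynomial (Fin 2) A')).map Φ := by
      rw [Ideal.map_map, hC]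
      exact hiI
    obtain ⟨f, hf, hfi⟩ := (Ideal.mem_map_iff_of_surjective Φ hΦs).1 h
    refine ⟨f, ?_⟩
    have hπf : π f = 0 := by
      refine MvPolynomial.ext _ _ fun m => ?_
      rw [MvPolynomial.coeff_map, MvPolynomial.coeff_zero]
      exact hp0K _ (MvPolynomial.mem_map_C_iff.1 hf m)
    rw [hπf, sub_zero, hfi]
  have hp0p : ∀ a, p0 (p0 a) = p0 a := fun a =>
    congrArg (TrivSqZeroExt.inl (M := J)) (TrivSqZeroExt.fst_inl J (TrivSqZeroExt.fst a))
  have hππ : ∀ g, π (π g) = π g := fun g => by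
    refine MvPolynomial.ext _ _ fun m => ?_
    simp only [π, MvPolynomial.coeff_map, hp0p]
  have hqpd : ∀ j, q (Φ (MvPolynomial.pderiv j (f - π f))) = 0 := fun j => by
    rw [← hqπ]
    show q (Φ (MvPolynomial.map p0 _)) = 0
    rw [← MvPolynomial.pderiv_map, show MvPolynomial.map p0 (f - π f) = π (f - π f) from rfl, map_sub, hππ,
      sub_self, map_zero, map_zero, map_zero]
  have h3 : E (f - π f) ∈ S := by
    rw [← Submodule.Quotient.mk_eq_zero, ← hDm, hf]
    exact h2
  obtain ⟨lam, hlam⟩ := Submodule.mem_span_singleton.1 h3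
  obtain ⟨g, rfl⟩ := hΦs lam
  have hEF : ∀ j, q (Φ g) * q (Φ (MvPolynomial.pderiv j F)) = 0 := by
    intro j
    rw [← map_mul]
    fin_cases j
    · exact ((congrArg Prod.fst hlam).trans (hqpd 0))
    · exact ((congrArg (fun v => v.2.1) hlam).trans (hqpd 1))
  let c := p0 τ
  have hπF : π F = NodeTriv28.G c := by simp [π, F, NodeTriv28.G, c]
  have hΦπF : Φ (NodeTriv28.G c) ∈ I := by
    rw [← hπF, ← sub_sub_cancel F (π F), map_sub, hΦF, zero_sub]
    exact neg_mem (hδ F)
  have hmulmem : ∀ (j : Fin 2) (v : MvPolynomial (Fin 2) A'), MvPolynomial.pderiv j F = v →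
      π v = v → ∃ w, v * π g = NodeTriv28.G c * w := by
    intro j v hv hπv
    have h := hEF j
    rw [hv, ← map_mul, ← map_mul, Ideal.Quotient.eq_zero_iff_mem] at h
    have hC : Φ.comp MvPolynomial.C = algebraMap A' B' := RingHom.ext fun a => MvPolynomial.aeval_C _ a
    have h' : Φ (g * v) ∈ ((TrivSqZeroExt.kerIdeal A J).map (MvPolynomial.C : A' →+* MvPolynomial (Fin 2) A')).map Φ := by
      rw [Ideal.map_map, hC]
      exact h
    obtain ⟨k0, hk0, hk⟩ := (Ideal.mem_map_iff_of_surjective Φ hΦs).1 h'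
    have h4 : g * v - k0 ∈ RingHom.ker (MvPolynomial.aeval ![x, y] : MvPolynomial (Fin 2) A' →ₐ[A'] B') := by
      show Φ (g * v - k0) = 0
      rw [map_sub, hk, sub_self]
    rw [hker, Ideal.mem_span_singleton'] at h4
    obtain ⟨w, hw⟩ := h4
    refine ⟨π w, ?_⟩
    have hπk : π k0 = 0 := by
      refine MvPolynomial.ext _ _ fun m => ?_
      rw [MvPolynomial.coeff_map, MvPolynomial.coeff_zero]
      exact hp0K _ (MvPolynomial.mem_map_C_iff.1 hk0 m)
    have := congrArg π hw
    rw [map_mul, show π (MvPolynomial.X 0 * MvPolynomial.X 1 - MvPolynomial.C τ) = π F from rfl, hπF, map_sub, map_mul,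
      hπv, hπk, sub_zero] at this
    rw [mul_comm v, ← this, mul_comm]
  obtain ⟨wy, hwy⟩ := hmulmem 0 (MvPolynomial.X 1) (by simp [F, MvPolynomial.pderiv_X]) (by simp [π])
  obtain ⟨wx, hwx⟩ := hmulmem 1 (MvPolynomial.X 0) (by simp [F, MvPolynomial.pderiv_X]) (by simp [π])
  obtain ⟨g', hg'⟩ := NodeTriv28.exists_eq_G_mul hwx hwy
  have hgI : Φ g ∈ I := by
    rw [← sub_add_cancel g (π g), map_add, hg', map_mul]
    refine add_mem ?_ (Ideal.mul_mem_right _ _ hΦπF)
    rw [← hg']
    exact hδ g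
  have h5 : Φ g * Φ (F - π F) = Φ (f - π f - π (f - π f)) :=
    congrArg (fun v => ((v.2.2 : I) : B')) hlam
  rw [hI2 _ hgI _ (hδ F), map_sub π, hππ, sub_self, sub_zero, hf] at h5
  exact Subtype.ext h5.symm

end Groth.Agent.S16980
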