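import Groth.Statements.S16981
import Groth.Agent.Lib.Compl.Complete
import Mathlib.RingTheory.Noetherian.Basic
-- import your own Groth.Agent.* helpers here

set_option autoImplicit false
universe u v
open CAlg

namespace Groth.Agent.S16981

/-- Let A be a complete Noetherian local ring and f : E → A a surjective ring homomorphism whose kernel
has square zero and is finitely generated (equivalently, is a finite A-module for the induced module
structure). Then E is separated and complete for the adic topology of the inverse image of the
maximal ideal of A. (The published statement takes A to be the completion of a local ring of a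
scheme of finite type over an Artinian local ring and the kernel the completion of a finite module;
this row assumes only that A is complete Noetherian local and the kernel finitely generated.) -/
theorem result
    {A : Type u} {E : Type v} [CommRing A] [CommRing E] [IsNoetherianRing A] [IsLocalRing A]
    [IsAdicComplete (IsLocalRing.maximalIdeal A) A]
    (f : E →+* A) (hf : Function.Surjective f)
    (hsq : RingHom.ker f ^ 2 = ⊥) (hfg : (RingHom.ker f).FG) :
    IsAdicComplete ((IsLocalRing.maximalIdeal A).comap f) E := by
  let N := RingHom.ker f
  let e : (E ⧸ N) ≃+* A := RingHom.quotientKerEquivOfSurjective hf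
  haveI : IsNoetherianRing (E ⧸ N) := isNoetherianRing_of_ringEquiv A e.symm
  haveI : RingHomSurjective (algebraMap E (E ⧸ N)) := ⟨Ideal.Quotient.mk_surjective⟩
  haveI hQ : IsNoetherian E (E ⧸ N) :=
    (LinearMap.isNoetherian_iff_of_bijective (σ := algebraMap E (E ⧸ N)) (P := E ⧸ N)
      { toFun := id, map_add' := fun _ _ => rfl, map_smul' := fun r x => Algebra.smul_def r x } Function.bijective_id).mpr inferInstance
  haveI : IsNoetherianRing E := by
    haveI : IsNoetherian E N := by
      obtain ⟨n, v, hv⟩ := Submodule.fg_iff_exists_fin_generating_family.mp hfg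
      let g : (Fin n → E) →ₗ[E] N := Fintype.linearCombination E fun i =>
        (⟨v i, hv.le (Submodule.subset_span ⟨i, rfl⟩)⟩ : N)
      have hg : Function.Surjective g := fun x => by
        obtain ⟨c, hc⟩ := (Submodule.mem_span_range_iff_exists_fun E).mp (show (x : E) ∈ Submodule.span E (Set.range v) from hv ▸ x.2)
        exact ⟨c, Subtype.ext (by simpa [g, Fintype.linearCombination_apply] using hc)⟩
      let π : (Fin n → E) →ₗ[E] (Fin n → E ⧸ N) := LinearMap.pi fun i => N.mkQ ∘ₗ LinearMap.proj i
      have hk : LinearMap.ker π ≤ LinearMap.ker g := fun c hc => by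
        refine Subtype.ext ?_
        have h0 : ∀ i, c i ∈ N := fun i => Ideal.Quotient.eq_zero_iff_mem.mp (congrFun hc i)
        have : (g c : E) = ∑ i, c i * v i := by simp [g, Fintype.linearCombination_apply]
        rw [this]
        refine Finset.sum_eq_zero fun i _ => ?_
        have : c i * v i ∈ N ^ 2 := by
          rw [sq]
          exact Ideal.mul_mem_mul (h0 i) (hv.le (Submodule.subset_span ⟨i, rfl⟩))
        rw [hsq] at this
        exact this
      haveI : IsNoetherian E (LinearMap.range π) := inferInstance
      have hl : Function.Surjective ((LinearMap.ker π).liftQ g hk) := by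
        rw [← LinearMap.range_eq_top, Submodule.range_liftQ]
        exact LinearMap.range_eq_top.mpr hg
      exact isNoetherian_of_surjective
        ((LinearMap.ker π).liftQ g hk ∘ₗ π.quotKerEquivRange.symm.toLinearMap)
        (LinearMap.range_eq_top.mpr (hl.comp π.quotKerEquivRange.symm.surjective))
    exact isNoetherian_of_range_eq_ker N.subtype N.mkQ (by simp)
  haveI : IsAdicComplete N E := Groth.Agent.Compl.isAdicComplete_of_le_of_pow_le (I := ⊥) E bot_le (k := 2) hsq.le
  haveI : IsAdicComplete (Ideal.map (Ideal.Quotient.mk N) ((IsLocalRing.maximalIdeal A).comap f)) (E ⧸ N) := by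
    refine (IsAdicComplete.congr_ringEquiv _ e).mp ?_
    have : ((IsLocalRing.maximalIdeal A).comap f).map ((e : E ⧸ N →+* A).comp (Ideal.Quotient.mk N)) = IsLocalRing.maximalIdeal A := by
      rw [show (e : E ⧸ N →+* A).comp (Ideal.Quotient.mk N) = f from RingHom.ext fun x => rfl]
      exact Ideal.map_comap_of_surjective f hf _
    rw [show Ideal.map e (Ideal.map (Ideal.Quotient.mk N) ((IsLocalRing.maximalIdeal A).comap f)) =
        IsLocalRing.maximalIdeal A from (Ideal.map_map _ (e : E ⧸ N →+* A)).trans this]
    infer_instance
  exact Groth.Agent.Compl.isAdicComplete_of_quotient N _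

end Groth.Agent.S16981
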