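import Groth.Statements.S16982
import Groth.Agent.Lib.SqZeroExt1.Basic

set_option autoImplicit false
universe u v w w'
open CAlg

namespace Groth.Agent.S16982

/-- Let R be a commutative ring, A a complete Noetherian local R-algebra written as a quotient of a
power series ring over R in finitely many variables by a surjective R-algebra map π, and f : E → A a
surjective R-algebra map whose kernel has square zero and is finitely generated. Then π lifts along
f to an R-algebra map λ from the power series ring to E with f ∘ λ = π. (The published statement
takes R Artinian local and asks for a lift that is continuous for the adic topologies; this row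
allows any commutative R and asks for any lift.) -/
theorem result
    {R : Type u} [CommRing R] {σ : Type v} [Finite σ]
    {A : Type w} {E : Type w'} [CommRing A] [CommRing E] [Algebra R A] [Algebra R E]
    [IsNoetherianRing A] [IsLocalRing A] [IsAdicComplete (IsLocalRing.maximalIdeal A) A]
    (π : MvPowerSeries σ R →ₐ[R] A) (hπ : Function.Surjective π)
    (f : E →ₐ[R] A) (hf : Function.Surjective f)
    (hsq : RingHom.ker f.toRingHom ^ 2 = ⊥) (hfg : (RingHom.ker f.toRingHom).FG) :
    ∃ l : MvPowerSeries σ R →ₐ[R] E, f.comp l = π := by
  exact Groth.Agent.SqZeroExt1.exists_lift π hπ f hf hsq hfg

end Groth.Agent.S16982
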