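import Groth.Statements.S16983
import Mathlib

set_option autoImplicit false
universe u
open DeformData

namespace Groth.Agent.S16983

/-- Let p be a prime, s ≥ 1, B a finite index set with a subset B₀ of exactly three elements, m_j ≥ 1
integers coprime to p, and σ_{i,j} (i < s, j ∈ B) rational numbers with m_j σ_{i,j} an integer, such
that Σ_j (σ_{i,j} − 1) = −2 for every i, the fractional part of σ_{i,j} equals that of p^i σ_{0,j},
no σ_{i,j} equals 1, and the minimum over i of ⌊σ_{i,j}⌋ is 0 for j ∈ B₀ and 1 for j ∉ B₀. Then for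
every i the fractional parts ⟨σ_{i,j}⟩ sum over j to 1 (purity), and ⌊σ_{i,j}⌋ is 0 on B₀ and 1 off
B₀ for every i. (The hypotheses are exactly the properties of the signature of a special deformation
datum on the projective line: each entry is an integer divided by a stabilizer order m_j in a group
of order prime to p, the degree identity coming from Riemann–Hurwitz, the Frobenius-twist relation
between fractional parts, and the speciality conditions; the statement is given here for any such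
tuple.) -/
theorem result
    {B : Type u} [Fintype B] [DecidableEq B] (B₀ : Finset B) (hB₀ : B₀.card = 3)
    (p : ℕ) (hp : p.Prime) (s : ℕ) (hs : 0 < s)
    (m : B → ℕ) (hm : ∀ j, 0 < m j) (hmp : ∀ j, Nat.Coprime (m j) p)
    (σ : Fin s → B → ℚ) (hint : ∀ i j, ∃ h : ℤ, σ i j = (h : ℚ) / (m j : ℚ))
    (hsum : ∀ i, ∑ j, (σ i j - 1) = -2)
    (hfract : ∀ i j, Int.fract (σ i j) = Int.fract ((p : ℚ) ^ (i : ℕ) * σ ⟨0, hs⟩ j))
    (hne : ∀ i j, σ i j ≠ 1)
    (hB₀min : ∀ j ∈ B₀, (∃ i, ⌊σ i j⌋ = 0) ∧ ∀ i, 0 ≤ ⌊σ i j⌋)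
    (hBmin : ∀ j ∉ B₀, (∃ i, ⌊σ i j⌋ = 1) ∧ ∀ i, 1 ≤ ⌊σ i j⌋) :
    (∀ i, ∑ j, Int.fract (σ i j) = 1) ∧ (∀ i j, ⌊σ i j⌋ = if j ∈ B₀ then 0 else 1) := by
  classical
  have hfl : ∀ i j, (if j ∈ B₀ then 0 else 1 : ℤ) ≤ ⌊σ i j⌋ := by
    intro i j
    split_ifs with h
    · exact (hB₀min j h).2 i
    · exact (hBmin j h).2 i
  have hbase : ∑ j : B, (if j ∈ B₀ then 0 else 1 : ℤ) = (Fintype.card B : ℤ) - 3 := by
    rw [Finset.sum_congr rfl (g := fun j => (1 : ℤ) - if j ∈ B₀ then 1 else 0) (fun j _ => by split_ifs <;> rfl),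
      Finset.sum_sub_distrib, Finset.sum_ite_mem, Finset.univ_inter]
    simp [hB₀]
  have key : ∀ i, ∑ j, Int.fract (σ i j) = 1 ∧ ∑ j, ⌊σ i j⌋ = (Fintype.card B : ℤ) - 3 := by
    intro i
    have h1 : ∑ j, Int.fract (σ i j) = (((Fintype.card B : ℤ) - 2 - ∑ j, ⌊σ i j⌋ : ℤ) : ℚ) := by
      have := hsum i
      simp only [Finset.sum_sub_distrib, Finset.sum_const, Finset.card_univ, nsmul_eq_mul, mul_one] at this
      push_cast
      simp only [Int.fract, Finset.sum_sub_distrib]
      linarith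
    have h2 : (0 : ℚ) ≤ ∑ j, Int.fract (σ i j) := Finset.sum_nonneg fun j _ => Int.fract_nonneg _
    have h3 : (Fintype.card B : ℤ) - 3 ≤ ∑ j, ⌊σ i j⌋ := hbase ▸ Finset.sum_le_sum fun j _ => hfl i j
    have h4 : ∑ j, ⌊σ i j⌋ ≤ (Fintype.card B : ℤ) - 2 := by
      rw [h1] at h2
      have h2' : (0 : ℤ) ≤ _ := Int.cast_nonneg_iff.1 h2
      omega
    rcases h4.eq_or_lt with h5 | h5
    · exfalso
      have h0 : ∀ j, Int.fract (σ i j) = 0 := fun j =>
        (Finset.sum_eq_zero_iff_of_nonneg fun j _ => Int.fract_nonneg (σ i j)).1 (by rw [h1, h5]; simp) j (Finset.mem_univ j)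
      have h00 : ∀ i' j, Int.fract (σ i' j) = 0 := by
        intro i' j
        obtain ⟨z, hz⟩ : ∃ z : ℤ, (z : ℚ) = σ i j := ⟨⌊σ i j⌋, by have := h0 j; rw [Int.fract] at this; linarith⟩
        have hb : Int.fract (σ ⟨0, hs⟩ j) = 0 := by
          have hcop : IsCoprime ((p : ℤ) ^ (i : ℕ)) (m j : ℤ) := (Nat.isCoprime_iff_coprime.2 (hmp j).symm).pow_left
          obtain ⟨h, hh⟩ := hint ⟨0, hs⟩ j
          have hfr : Int.fract ((p : ℚ) ^ (i : ℕ) * σ ⟨0, hs⟩ j) = 0 := (hfract i j).symm.trans (h0 j)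
          obtain ⟨w, hw⟩ := Int.fract_eq_iff.1 hfr |>.2.2
          rw [sub_zero, hh] at hw
          obtain ⟨x, y, hxy⟩ := hcop
          refine Int.fract_eq_iff.2 ⟨le_rfl, zero_lt_one, x * w + y * h, ?_⟩
          have hm0 : (m j : ℚ) ≠ 0 := by have := hm j; positivity
          have hxy' : (x : ℚ) * (p : ℚ) ^ (i : ℕ) + y * (m j : ℚ) = 1 := by exact_mod_cast hxy
          push_cast
          rw [sub_zero, hh, ← hw]
          field_simp
          linear_combination (-(h : ℚ)) * hxy'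
        obtain ⟨w, hw⟩ := Int.fract_eq_iff.1 hb |>.2.2
        rw [sub_zero] at hw
        rw [hfract i' j, hw, show ((p : ℚ) ^ (i' : ℕ) * (w : ℚ)) = (((p : ℤ) ^ (i' : ℕ) * w : ℤ) : ℚ) by push_cast; ring]
        exact Int.fract_intCast _
      have hall : ∀ j, j ∈ B₀ := by
        intro j
        by_contra hj
        obtain ⟨i', hi'⟩ := (hBmin j hj).1
        refine hne i' j ?_
        have := h00 i' j
        rw [Int.fract, hi'] at this
        push_cast at this
        linarith
      have hc : Fintype.card B = 3 := by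
        rw [← hB₀, ← Finset.card_univ]
        congr 1
        exact (Finset.eq_univ_of_forall hall).symm
      rw [hc] at h5
      have hne' : ∀ j, ⌊σ i j⌋ ≠ 1 := fun j e => hne i j (by
        have := h0 j
        rw [Int.fract, e] at this
        push_cast at this
        linarith)
      obtain ⟨j, hj⟩ : ∃ j, 0 < ⌊σ i j⌋ := by
        by_contra hno
        push Not at hno
        have := Finset.sum_nonpos (s := Finset.univ) fun j _ => hno j
        omega
      have h2le : (2 : ℤ) ≤ ∑ j, ⌊σ i j⌋ := le_trans (by have := hne' j; omega)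
        (Finset.single_le_sum (fun j _ => (hB₀min j (hall j)).2 i) (Finset.mem_univ j))
      omega
    · have h6 : ∑ j, ⌊σ i j⌋ = (Fintype.card B : ℤ) - 3 := by omega
      exact ⟨by rw [h1, h6]; push_cast; ring, h6⟩
  refine ⟨fun i => (key i).1, fun i j => ?_⟩
  exact ((Finset.sum_eq_sum_iff_of_le fun j _ => hfl i j).1 (hbase.trans (key i).2.symm) j (Finset.mem_univ j)).symm

end Groth.Agent.S16983
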