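import Groth.Statements.S16984
import Groth.Agent.Lib.CoalgH23.Hochschild

set_option autoImplicit false
universe u v w
open Hoch

namespace Groth.Agent.S16984

open Groth.Agent.CoalgH23

open TensorProduct in
/-- Let k be a commutative ring, A a commutative k-bialgebra that is flat over k (the coordinate ring of
a flat affine group scheme over Spec k; flatness and commutativity are the standing hypotheses of
the appendix and are not needed for the assertion) and P a k-module. Then p ↦ p ⊗ 1 is an injection
of P into the induced comodule P ⊗ A (coaction id ⊗ Δ) whose image is exactly the submodule of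
invariants, i.e. the elements with coaction x ↦ x ⊗ 1. (The published statement writes the
coordinate-ring factor on the left and calls this module coinduced; this row is its degree-zero
part, the identification of P with the invariants of the coinduced module.) -/
theorem result (k : Type u) [CommRing k] (A : Type v) [CommRing A] [Bialgebra k A]
    [Module.Flat k A] (P : Type w) [AddCommGroup P] [Module k P] :
    Function.Injective ((Hoch.Ind.equiv k A P).toLinearMap ∘ₗ (TensorProduct.mk k P A).flip (1 : A)) ∧
    LinearMap.range ((Hoch.Ind.equiv k A P).toLinearMap ∘ₗ (TensorProduct.mk k P A).flip (1 : A)) =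
      HopfRep.fixedPts k A (Hoch.Ind k A P) := by
  let ι := (Hoch.Ind.equiv k A P).toLinearMap ∘ₗ (TensorProduct.mk k P A).flip (1 : A)
  have hc : ∀ p, Hoch.Ind.counit k A P (ι p) = p := fun p => by simp [ι]
  refine ⟨Function.LeftInverse.injective hc, le_antisymm ?_ fun y hy => ?_⟩
  · rintro _ ⟨p, rfl⟩
    show HopfRep.Comod.coact (k := k) (A := A) (ι p) = ι p ⊗ₜ[k] (1 : A)
    refine (Hoch.Ind.coact_equiv_tmul k A P p 1).trans ?_
    rw [Bialgebra.comul_one, Algebra.TensorProduct.one_def, TensorProduct.assoc_symm_tmul]
    rfl
  · refine ⟨Hoch.Ind.counit k A P y, ?_⟩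
    have h := rTensor_counit_coact y
    rw [show HopfRep.Comod.coact (k := k) (A := A) y = y ⊗ₜ[k] (1 : A) from hy, LinearMap.rTensor_tmul] at h
    exact (congrArg (Hoch.Ind.equiv k A P) h).trans ((Hoch.Ind.equiv k A P).apply_symm_apply y)

end Groth.Agent.S16984
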