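import Groth.Statements.S16990
import Groth.Agent.Lib.QuadH13.DicksonDet

set_option autoImplicit false
universe u v
open QuadGrp

namespace Groth.Agent.S16990

/-- Comparison with SO′: over a commutative ring in which 2 is invertible, for a quadratic form Q on a
finite free module of even rank 2m ≥ 2 whose polar form is a perfect pairing, the isometries
satisfying the Dickson condition are exactly the isometries of determinant one. -/
theorem result {R : Type u} [CommRing R] [Invertible (2 : R)]
    {M : Type v} [AddCommGroup M] [Module R M] [Module.Free R M] [Module.Finite R M]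
    (m : ℕ) (hm : 1 ≤ m) (hM : Module.finrank R M = 2 * m) (Q : QuadraticForm R M) (hQ : QuadGrp.IsRegular Q) :
    QuadGrp.SOeven Q = QuadGrp.SO' Q := by
  rcases subsingleton_or_nontrivial R with hR | hR
  · haveI : Subsingleton M := Module.subsingleton R M
    haveI : Subsingleton (M ≃ₗ[R] M) := ⟨fun a c ↦ LinearEquiv.ext fun x ↦ Subsingleton.elim _ _⟩
    ext g
    rw [Subsingleton.elim g 1]
    exact iff_of_true (one_mem _) (one_mem _)
  let b := Module.finBasisOfFinrankEq R M hM
  ext g
  constructor
  · rintro ⟨hg, hd⟩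
    refine ⟨hg, MonoidHom.mem_ker.2 (Units.ext ?_)⟩
    rw [LinearEquiv.coe_det, Units.val_one]
    exact Groth.Agent.QuadH13.det_eq_one_of_dickson b ⟨m, two_mul m⟩ hQ hg hd
  · rintro ⟨hg, hd⟩
    refine ⟨hg, Groth.Agent.QuadH13.dickson_of_det_eq_one b ⟨m, two_mul m⟩ hQ (isUnit_of_invertible 2) hg ?_⟩
    rw [← LinearEquiv.coe_det, MonoidHom.mem_ker.1 hd, Units.val_one]

end Groth.Agent.S16990
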