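import Groth.Statements.S16996
import Groth.Agent.Lib.QuadH13.OddMain

set_option autoImplicit false
universe u v
open QuadGrp

namespace Groth.Agent.S16996

/-- Points over a local ring: over a local ring, let Q be a quadratic form on a finite free module M
with a basis indexed by Fin (2m+1) whose half-discriminant in that basis is a unit. Then every unit
of the Clifford algebra C(Q) normalising M is the product of a central unit of C(Q) and a point of
the even Clifford group (an even, locally homogeneous unit normalising M). (The published statement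
is the equality GPin′(q) = Z_q^× ×^{G_m} GSpin(q) of group schemes, a Zariski-local product
decomposition; over a local base it is the factorisation given.) -/
theorem result {R : Type u} [CommRing R] [IsLocalRing R]
    {M : Type v} [AddCommGroup M] [Module R M] [Module.Free R M] [Module.Finite R M]
    (m : ℕ) (b : Module.Basis (Fin (2 * m + 1)) R M) (Q : QuadraticForm R M)
    (hQ : QuadGrp.IsSemiregular b (LinearEquiv.refl R R) Q)
    (u' : (CliffordAlgebra Q)ˣ) (hu' : u' ∈ QuadGrp.GPin' Q) :
    ∃ z : CliffordAlgebra Q, z ∈ Subalgebra.center R (CliffordAlgebra Q) ∧ IsUnit z ∧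
      ∃ u ∈ QuadGrp.GSpin Q, (u' : CliffordAlgebra Q) = z * u := by
  obtain ⟨S⟩ := Groth.Agent.QuadH13.exists_oddSplit m b Q hQ
  obtain ⟨g, w, u, -, -, hu, hc, hw, heq⟩ := S.exists_central_mul hu'
  exact ⟨w, Groth.Agent.QuadH13.mem_center_of_comm hw, w.isUnit, u,
    ⟨⟨Groth.Agent.QuadH13.mem_GPin'_of_conj u g hc,
    ⟨1, IsIdempotentElem.one, by rwa [one_smul], by rw [sub_self, zero_smul]; exact zero_mem _⟩⟩, hu⟩,
    by rw [heq, Units.val_mul]⟩

end Groth.Agent.S16996
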