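import Groth.Statements.S16999
import Groth.Agent.Lib.QuadH13.OddMain

set_option autoImplicit false
universe u v
open QuadGrp

namespace Groth.Agent.S16999

/-- Centre over a local base: over a local ring R, let Q be a quadratic form on a free module M with a
basis indexed by Fin (2m+1) whose half-discriminant in that basis is a unit. Then the centre of the
Clifford algebra C(Q) is generated by the square root of a unit: there is a central unit z, odd for
the ℤ/2-grading, with z² a scalar, such that 1, z are linearly independent and span the centre. (The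
published statement: the centre is a ℤ/2-graded locally free module of rank 2 with degree-0 part the
structure sheaf and degree-1 part an invertible sheaf squaring to it; over a local base this is the
form stated.) -/
theorem result {R : Type u} [CommRing R] [IsLocalRing R]
    {M : Type v} [AddCommGroup M] [Module R M]
    (m : ℕ) (b : Module.Basis (Fin (2 * m + 1)) R M) (Q : QuadraticForm R M)
    (hQ : QuadGrp.IsSemiregular b (LinearEquiv.refl R R) Q) :
    ∃ z : CliffordAlgebra Q, z ∈ Subalgebra.center R (CliffordAlgebra Q) ∧ z ∈ CliffordAlgebra.evenOdd Q 1 ∧ IsUnit z ∧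
      z * z ∈ (algebraMap R (CliffordAlgebra Q)).range ∧ LinearIndependent R ![(1 : CliffordAlgebra Q), z] ∧
      Subalgebra.toSubmodule (Subalgebra.center R (CliffordAlgebra Q)) = Submodule.span R {1, z} := by
  obtain ⟨S⟩ := Groth.Agent.QuadH13.exists_oddSplit m b Q hQ
  obtain ⟨z, hz, hzc, ⟨s, hs⟩, -⟩ := S.exists_odd_central
  have hzC := Groth.Agent.QuadH13.mem_center_of_comm hzc
  refine ⟨z, hzC, hz, z.isUnit, ⟨s, hs⟩, ?_, ?_⟩
  · rw [LinearIndependent.pair_iff]
    intro r t h
    rw [← Algebra.algebraMap_eq_smul_one] at h
    obtain ⟨h0, h1⟩ := Groth.Agent.QuadH13.parts_unique (SetLike.algebraMap_mem_graded _ _)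
      (Submodule.smul_mem _ _ hz) (zero_mem _) (zero_mem _) (h.trans (add_zero _).symm)
    refine ⟨Groth.Agent.QuadH13.algebraMap_inj b Q (h0.trans (map_zero _).symm),
      Groth.Agent.QuadH13.algebraMap_inj b Q ?_⟩
    rw [map_zero]
    rw [Algebra.smul_def] at h1
    exact z.isUnit.mul_left_eq_zero.1 h1
  · refine le_antisymm (fun x hx ↦ ?_) (Submodule.span_le.2 ?_)
    · obtain ⟨r, t, rfl⟩ := S.eq_scalar_add_smul hz hzc (fun v ↦ (Subalgebra.mem_center_iff (R := R)).1 hx _)
      rw [Algebra.algebraMap_eq_smul_one]
      exact add_mem (Submodule.smul_mem _ _ (Submodule.subset_span (Or.inl rfl)))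
        (Submodule.smul_mem _ _ (Submodule.subset_span (Or.inr rfl)))
    · rintro x (rfl | rfl)
      · exact one_mem (Subalgebra.center R (CliffordAlgebra Q))
      · exact hzC

end Groth.Agent.S16999
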