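import Groth.Statements.S1700
import Groth.Agent.Lib.SecDiv18.Factorial

set_option autoImplicit false
universe u
open CategoryTheory CategoryTheory.Limits AlgebraicGeometry TopologicalSpace
open SDiv

namespace Groth.Agent.S1700

/-- Let X be a Noetherian scheme and 𝓘 a quasi-coherent ideal sheaf with closed subscheme Z such that
(1) Z has no embedded points: every point of Z whose local ring has its maximal ideal associated is
a maximal point of Z; (2) every maximal point of Z has codimension 1 in X (the local ring of X there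
has dimension 1); (3) the local ring of X at every point of Z is a unique factorisation domain. Then
𝓘 is the ideal sheaf of an effective Cartier divisor. -/
theorem result (X : Scheme.{u}) [IsNoetherian X] (𝓘 : X.IdealSheafData)
    (h1 : ∀ z : ↥𝓘.subscheme, IsAssociatedPrime (IsLocalRing.maximalIdeal ↑(𝓘.subscheme.presheaf.stalk z)) ↑(𝓘.subscheme.presheaf.stalk z) → ∀ z' : ↥𝓘.subscheme, z' ⤳ z → z' = z)
    (h2 : ∀ z : ↥𝓘.subscheme, (∀ z' : ↥𝓘.subscheme, z' ⤳ z → z' = z) →
      ringKrullDim (X.presheaf.stalk (𝓘.subschemeι z)) = 1)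
    (h3 : ∀ x : ↥X, x ∈ 𝓘.support → IsDomain (X.presheaf.stalk x) ∧ UniqueFactorizationMonoid (X.presheaf.stalk x)) :
    BlowUp.IsEffCartierIdeal 𝓘 := by
  intro x
  by_cases hx : x ∈ 𝓘.support
  · obtain ⟨hdom, hufd⟩ := h3 x hx
    haveI := hdom
    haveI := hufd
    obtain ⟨U, hU, hxU, -⟩ := exists_isAffineOpen_mem_and_subset (U := (⊤ : X.Opens)) (x := x) trivial
    obtain ⟨g, hg, hJ⟩ := Groth.Agent.SecDiv.principal_of_ass ((𝓘.ideal ⟨U, hU⟩).map (X.presheaf.germ U x hxU).hom)
      (Groth.Agent.SecDiv.exists_prime_of_ass 𝓘 h1 h2 ⟨U, hU⟩ hxU hdom hufd)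
    exact Groth.Agent.SecDiv.exists_eqn_of_stalk 𝓘 ⟨U, hU⟩ hxU g (mem_nonZeroDivisors_of_ne_zero hg) hJ
  · obtain ⟨U, hU, hxU, hUs⟩ := exists_isAffineOpen_mem_and_subset (U := 𝓘.support.compl) (x := x) hx
    refine ⟨⟨U, hU⟩, hxU, 1, one_mem _, ?_⟩
    rw [Ideal.span_singleton_one]
    by_contra hne
    obtain ⟨P, hP, hle⟩ := Ideal.exists_le_maximal _ hne
    obtain ⟨y, hy, hyu⟩ := Groth.Agent.WA.exists_point hU P
    refine hUs hy ?_
    rw [SetLike.mem_coe, Scheme.IdealSheafData.mem_support_iff_of_mem (U := ⟨U, hU⟩) hy, Scheme.mem_zeroLocus_iff]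
    exact fun a ha hya => (hyu a).mp ((X.mem_basicOpen a y hy).mp hya) (hle ha)

end Groth.Agent.S1700
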