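import Groth.Statements.S17000
import Groth.Agent.Lib.QuadH13.SOrthNotFlat
import Mathlib.Data.Nat.Prime.Int

set_option autoImplicit false
open CategoryTheory AlgebraicGeometry
open QuadGrp

namespace Groth.Agent.S17000

/-- For m ≥ 1, a group scheme over Spec ℤ which is the naive special orthogonal group (kernel of the
determinant on the orthogonal group) of the standard split quadratic form in 2m variables is a
reduced scheme and is not flat over ℤ. (The published statement also identifies the complement of
the Dickson special orthogonal group inside it with the non-identity component of the orthogonal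
group in characteristic 2.) -/
theorem result (m : ℕ) (hm : 1 ≤ m)
    (G : Over (Spec (CommRingCat.of ℤ))) [GrpObj G] (D : QuadGrp.SOrth'Rep (QuadGrp.splitForm ℤ (2 * m)) G) :
    AlgebraicGeometry.IsReduced G.left ∧ ¬ AlgebraicGeometry.Flat G.hom := by
  have key : ∀ n : ℕ, n = m * 2 → ∀ (G : Over (Spec (CommRingCat.of ℤ))) [GrpObj G],
      QuadGrp.SOrth'Rep (QuadGrp.splitForm ℤ n) G →
        AlgebraicGeometry.IsReduced G.left ∧ ¬ AlgebraicGeometry.Flat G.hom := by
    rintro n rfl G _ D
    obtain ⟨g, hg, hd⟩ := Groth.Agent.QuadH13.exists_splitForm_det_neg_one (R := ℤ) m hm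
    exact Groth.Agent.QuadH13.isReduced_not_flat_sorth' (by norm_num)
      (Ideal.IsPrime.isMaximal ((Ideal.span_singleton_prime (by norm_num)).2 Int.prime_two) (by simp))
      ⟨m, by ring⟩ (Groth.Agent.QuadH13.splitForm_even_regular m) g hg hd D
  exact key _ (mul_comm 2 m) G D

end Groth.Agent.S17000
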