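import Groth.Statements.S17005
import Groth.Agent.Lib.QuadH13.Minors

set_option autoImplicit false
universe u
open scoped TensorProduct
open QuadGrp Groth.Agent.QuadH13

namespace Groth.Agent.S17005

/-- Let Q be a non-degenerate quadratic form on R^n, n ≥ 3, over a commutative ring R (perfect polar
pairing for even n, unit half-discriminant in the standard basis for odd n). An isometry g of Q of
determinant one commutes, after base change to every R-algebra A, with every determinant-one
isometry of Q_A if and only if g is multiplication by a scalar whose square is one; for odd n such a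
scalar is 1 because the determinant of g is its n-th power. (Points-level form of: the functorial
centre of the naive special orthogonal group is the central μ₂ for even rank and trivial for odd
rank.) -/
theorem result (R : Type u) [CommRing R] (n : ℕ) (hn : 3 ≤ n)
    (Q : QuadraticForm R (Fin n → R))
    (hQ : QuadGrp.IsNondeg (Pi.basisFun R (Fin n)) (LinearEquiv.refl R R) Q)
    (g : (Fin n → R) ≃ₗ[R] (Fin n → R)) (hg : g ∈ QuadGrp.SO' Q) :
    (∀ (A : Type u) [CommRing A] [Algebra R A], ∀ h ∈ QuadGrp.sorth' Q A,
        g.baseChange R A (Fin n → R) (Fin n → R) * h = h * g.baseChange R A (Fin n → R) (Fin n → R)) ↔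
      ∃ c : R, c * c = 1 ∧ ∀ v, g v = c • v := by
  constructor
  · intro hcomm
    exact eq_smul_of_commute (Pi.basisFun R (Fin n)) Q hn (exists_minor hn Q hQ) g hg.1 fun A _ _ v w c d hc hd y ↦
      LinearEquiv.congr_fun (hcomm A _ ⟨(baseChangeForm_isometry_iff A Q _).2
        (mul_mem (refl'_mem _ v c hc) (refl'_mem _ w d hd)), MonoidHom.mem_ker.2 (by
          rw [map_mul, det_refl', det_refl', neg_one_mul, neg_neg])⟩) y
  · rintro ⟨c, -, hc⟩ A _ _ h -
    exact commute_of_smul g c hc A h

end Groth.Agent.S17005
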