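import Groth.Statements.S17006
import Groth.Agent.Lib.QuadH13.Minors

set_option autoImplicit false
universe u
open scoped TensorProduct
open QuadGrp Groth.Agent.QuadH13

namespace Groth.Agent.S17006

/-- Let Q be a quadratic form on R^{2m}, m ≥ 2, over a commutative ring R, whose polar form is a perfect
pairing. An isometry g of Q satisfying the Dickson condition commutes, after base change to every
R-algebra A, with every isometry of Q_A satisfying the Dickson condition if and only if g is
multiplication by a scalar whose square is one. (Points-level form of: for even rank at least 4 the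
functorial centre of the special orthogonal group is the central μ₂ and coincides with that of the
naive one.) -/
theorem result (R : Type u) [CommRing R] (m : ℕ) (hm : 2 ≤ m)
    (Q : QuadraticForm R (Fin (2 * m) → R)) (hQ : QuadGrp.IsRegular Q)
    (g : (Fin (2 * m) → R) ≃ₗ[R] (Fin (2 * m) → R)) (hg : g ∈ QuadGrp.SO Q) :
    (∀ (A : Type u) [CommRing A] [Algebra R A], ∀ h ∈ QuadGrp.sorth Q A,
        g.baseChange R A (Fin (2 * m) → R) (Fin (2 * m) → R) * h = h * g.baseChange R A (Fin (2 * m) → R) (Fin (2 * m) → R)) ↔
      ∃ c : R, c * c = 1 ∧ ∀ v, g v = c • v := by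
  constructor
  · intro hcomm
    have hg' : g ∈ QuadGrp.O Q := by
      unfold QuadGrp.SO at hg
      split_ifs at hg
      · exact hg.1
      · exact hg.1
    refine eq_smul_of_commute (Pi.basisFun R (Fin (2 * m))) Q (by omega)
      (fun p hp ↦ exists_minor_of_regular (by omega) _ Q hQ p hp) g hg' fun A _ _ v w c d hc hd y ↦
      LinearEquiv.congr_fun (hcomm A (refl' _ v c hc * refl' _ w d hd) ?_) y
    by_cases hA : Subsingleton A
    · haveI : Subsingleton (A ⊗[R] (Fin (2 * m) → R)) := Module.subsingleton A _
      rw [Subsingleton.elim (refl' _ v c hc * refl' _ w d hd) 1]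
      exact one_mem _
    · haveI : Nontrivial A := not_subsingleton_iff_nontrivial.1 hA
      unfold QuadGrp.sorth QuadGrp.SO
      rw [if_pos ⟨m, by rw [Module.finrank_eq_card_basis ((Pi.basisFun R (Fin (2 * m))).baseChange A),
        Fintype.card_fin, two_mul]⟩]
      exact ⟨mul_mem (refl'_mem _ v c hc) (refl'_mem _ w d hd), map_refl'_mul _ v w c d hc hd _⟩
  · rintro ⟨c, -, hc⟩ A _ _ h -
    exact commute_of_smul g c hc A h

end Groth.Agent.S17006
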