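import Groth.Statements.S17007
import Groth.Agent.Lib.QuadH13.Inner

set_option autoImplicit false
universe u v
open QuadGrp

namespace Groth.Agent.S17007

/-- Over a local ring, for a quadratic form Q on a finite free module of even rank 2m ≥ 2 whose polar
form is a perfect pairing, the isometries satisfying the Dickson condition form a subgroup of index
2 in the group of all isometries. (Points-level form, over a local base, of: the Dickson invariant
from the orthogonal group onto the constant group ℤ/2 is surjective with kernel the special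
orthogonal group.) -/
theorem result {R : Type u} [CommRing R] [IsLocalRing R]
    {M : Type v} [AddCommGroup M] [Module R M] [Module.Free R M] [Module.Finite R M]
    (m : ℕ) (hm : 1 ≤ m) (hM : Module.finrank R M = 2 * m) (Q : QuadraticForm R M) (hQ : QuadGrp.IsRegular Q) :
    ((QuadGrp.SOeven Q).subgroupOf (QuadGrp.O Q)).index = 2 := by
  classical
  let b := Module.finBasisOfFinrankEq R M hM
  have hn : Even (2 * m) := ⟨m, two_mul m⟩
  obtain ⟨v, hv⟩ : ∃ v, IsUnit (Q v) := by
    by_contra h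
    push Not at h
    obtain ⟨w, hw⟩ := Groth.Agent.QuadH13.contract_eq_of_regular hQ (b.coord ⟨0, by omega⟩)
    have h1 : QuadraticMap.polar Q w (b ⟨0, by omega⟩) = 1 := by
      rw [← QuadraticMap.polarBilin_apply_apply, hw]; simp
    refine (Ideal.ne_top_iff_one _).1 (IsLocalRing.maximalIdeal.isMaximal R).ne_top ?_
    rw [← h1]
    exact sub_mem (sub_mem (h _) (h _)) (h _)
  obtain ⟨c, hc⟩ := hv
  let u : (CliffordAlgebra Q)ˣ := ⟨CliffordAlgebra.ι Q v, (↑c⁻¹ : R) • CliffordAlgebra.ι Q v,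
    by rw [mul_smul_comm, CliffordAlgebra.ι_sq_scalar, ← hc, Algebra.smul_def, ← map_mul, c.inv_mul, map_one],
    by rw [smul_mul_assoc, CliffordAlgebra.ι_sq_scalar, ← hc, Algebra.smul_def, ← map_mul, c.inv_mul, map_one]⟩
  have hu : u ∈ QuadGrp.GPin' Q := by
    let gf : M →ₗ[R] M := ((↑c⁻¹ : R) • (QuadraticMap.polarBilin Q v)).smulRight v - LinearMap.id
    have key : ∀ y, CliffordAlgebra.ι Q v * CliffordAlgebra.ι Q y = CliffordAlgebra.ι Q (gf y) * CliffordAlgebra.ι Q v := by
      intro y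
      change _ = CliffordAlgebra.ι Q (((↑c⁻¹ : R) * QuadraticMap.polar Q v y) • v - y) * CliffordAlgebra.ι Q v
      rw [map_sub, map_smul, sub_mul, smul_mul_assoc, CliffordAlgebra.ι_sq_scalar, ← hc, Algebra.smul_def,
        ← map_mul (algebraMap R (CliffordAlgebra Q)), mul_right_comm, c.inv_mul, one_mul,
        eq_sub_iff_add_eq, CliffordAlgebra.ι_mul_ι_add_swap]
    have hinv : ∀ y, gf (gf y) = y := by
      intro y
      change ((↑c⁻¹ : R) * QuadraticMap.polar Q v (((↑c⁻¹ : R) * QuadraticMap.polar Q v y) • v - y)) • v -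
        (((↑c⁻¹ : R) * QuadraticMap.polar Q v y) • v - y) = y
      have e : (↑c⁻¹ : R) * QuadraticMap.polar Q v (((↑c⁻¹ : R) * QuadraticMap.polar Q v y) • v - y) =
          (↑c⁻¹ : R) * QuadraticMap.polar Q v y := by
        rw [QuadraticMap.polar_sub_right, QuadraticMap.polar_smul_right, QuadraticMap.polar_self, ← hc,
          smul_eq_mul, nsmul_eq_mul, Nat.cast_ofNat]
        linear_combination (2 * ↑c⁻¹ * QuadraticMap.polar Q v y) * c.inv_mul
      rw [e, sub_sub_cancel]
    exact Groth.Agent.QuadH13.mem_GPin'_of_conj u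
      (LinearEquiv.ofLinearMap gf gf (LinearMap.ext hinv) (LinearMap.ext hinv)) key
  obtain ⟨g, hg, hconj⟩ := Groth.Agent.QuadH13.exists_isometry_of_mem_GPin' b hu
  rw [Subgroup.index_eq_two_iff]
  refine ⟨⟨g, hg⟩, fun h ↦ ?_⟩
  obtain ⟨p, w, hw, hwc⟩ := Groth.Agent.QuadH13.exists_conj b hn hQ (h : M ≃ₗ[R] M) h.2
  have hmem : ∀ (g : QuadGrp.O Q) (p : ZMod 2) (u : (CliffordAlgebra Q)ˣ),
      (u : CliffordAlgebra Q) ∈ CliffordAlgebra.evenOdd Q p →
      (∀ v, (u : CliffordAlgebra Q) * CliffordAlgebra.ι Q v = CliffordAlgebra.ι Q ((g : M ≃ₗ[R] M) v) * u) →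
      (g ∈ (QuadGrp.SOeven Q).subgroupOf (QuadGrp.O Q) ↔ p = 0) := by
    intro g p u hu hc
    rw [Subgroup.mem_subgroupOf, ← Groth.Agent.QuadH13.isDicksonTrivial_iff b hn hQ _ g.2 p u hu hc]
    exact ⟨fun ⟨_, h⟩ ↦ h, fun h ↦ ⟨g.2, h⟩⟩
  rw [hmem h p w hw hwc, hmem (h * ⟨g, hg⟩) (p + 1) (w * u)
    (by rw [Units.val_mul]; exact SetLike.mul_mem_graded hw (CliffordAlgebra.ι_mem_evenOdd_one Q v))
    (fun y ↦ by rw [Units.val_mul, mul_assoc, hconj, ← mul_assoc, hwc, mul_assoc]; rfl)]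
  rcases (show ∀ i : ZMod 2, i = 0 ∨ i = 1 by decide) p with rfl | rfl
  · exact Or.inr ⟨rfl, by decide⟩
  · exact Or.inl ⟨rfl, by decide⟩

end Groth.Agent.S17007
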