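import Groth.Statements.S1701
import Groth.Agent.Lib.RelEff26.Noeth
-- import your own Groth.Agent.* helpers here

set_option autoImplicit false
universe u
open CategoryTheory CategoryTheory.Limits AlgebraicGeometry TopologicalSpace
open SDiv

namespace Groth.Agent.S1701

/-- Let f : X ⟶ S be a morphism, 𝓘 the ideal sheaf of an effective Cartier divisor D ⊂ X such that D ⟶ S
is flat (a relative effective Cartier divisor), and x a point of D at which the local ring of X is
Noetherian. Then f is flat at x. -/
theorem result {X S : Scheme.{u}} (f : X ⟶ S) (𝓘 : X.IdealSheafData)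
    (hD : (BlowUp.IsEffCartierIdeal 𝓘 ∧ Flat (𝓘.subschemeι ≫ f))) (d : ↥𝓘.subscheme) [IsNoetherianRing (X.presheaf.stalk (𝓘.subschemeι d))] :
    (f.stalkMap (𝓘.subschemeι d)).hom.Flat := by
  refine Groth.Agent.RelEff26.flat_stalkMap_of_mem f _ hD.1 hD.2 _ ?_
  have : 𝓘.subschemeι d ∈ Set.range 𝓘.subschemeι := ⟨d, rfl⟩
  rwa [Scheme.IdealSheafData.range_subschemeι] at this

end Groth.Agent.S1701
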