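import Groth.Statements.S17016
import Groth.Prelude.Def_QuadGrp

set_option autoImplicit false
universe u
open QuadGrp

namespace Groth.Agent.S17016

/-- For the standard split quadratic form Σ x_{2i} x_{2i+1} on R^{2m} over any commutative ring R, with
standard basis vectors e_j in the Clifford algebra, the product w of the elements 1 − 2 e_{2i}
e_{2i+1} (i < m, which pairwise commute) satisfies w² = 1 and anticommutes with every e_j. (Hence w
is central in the even Clifford algebra; over rings in which 2 is invertible (1 − w)/2 is the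
non-trivial central idempotent of the even part.) -/
theorem result (R : Type u) [CommRing R] (m : ℕ) :
    let Q := QuadGrp.splitForm R (m * 2)
    let e : Fin (m * 2) → CliffordAlgebra Q := fun j => CliffordAlgebra.ι Q (Pi.single j 1)
    let w : CliffordAlgebra Q :=
      ((List.finRange m).map fun i => 1 - 2 * (e (finProdFinEquiv (i, 0)) * e (finProdFinEquiv (i, 1)))).prod
    w * w = 1 ∧ ∀ j : Fin (m * 2), e j * w = -(w * e j) := by
  intro Q e w
  have hQ : ∀ x, Q x = ∑ i : Fin m, x (finProdFinEquiv (i, 0)) * x (finProdFinEquiv (i, 1)) := by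
    intro x
    have h0 : ¬ m * 2 % 2 = 1 := by omega
    change QuadGrp.splitForm R (m * 2) x = _
    rw [QuadGrp.splitForm, dif_neg h0, add_zero, QuadraticMap.sum_apply]
    refine Fintype.sum_equiv (finCongr (by omega)) _ _ fun i ↦ ?_
    rw [QuadraticMap.linMulLin_apply, LinearMap.proj_apply, LinearMap.proj_apply]
    congr 2 <;> ext <;> simp <;> omega
  have sq : ∀ p, e p * e p = 0 := by
    intro p
    obtain ⟨⟨k, c⟩, rfl⟩ := finProdFinEquiv.surjective p
    rw [CliffordAlgebra.ι_sq_scalar, hQ, Finset.sum_eq_zero, map_zero]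
    intro i _
    fin_cases c <;> simp [Pi.single_apply]
  have pol : ∀ p q : Fin m × Fin 2, p.1 ≠ q.1 →
      e (finProdFinEquiv p) * e (finProdFinEquiv q) = -(e (finProdFinEquiv q) * e (finProdFinEquiv p)) := by
    intro p q hpq
    obtain ⟨k, c⟩ := p
    obtain ⟨l, d⟩ := q
    refine eq_neg_of_add_eq_zero_left ?_
    rw [CliffordAlgebra.ι_mul_ι_add_swap, QuadraticMap.polar, hQ, hQ, hQ, ← Finset.sum_sub_distrib,
      ← Finset.sum_sub_distrib, Finset.sum_eq_zero, map_zero]
    intro i _
    fin_cases c <;> fin_cases d <;> simp_all [Pi.single_apply] <;>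
      (by_cases hk : i = k <;> by_cases hl : i = l <;> simp_all)
  have one : ∀ i, e (finProdFinEquiv (i, 0)) * e (finProdFinEquiv (i, 1)) +
      e (finProdFinEquiv (i, 1)) * e (finProdFinEquiv (i, 0)) = 1 := by
    intro i
    rw [CliffordAlgebra.ι_mul_ι_add_swap, QuadraticMap.polar, hQ, hQ, hQ, ← Finset.sum_sub_distrib,
      ← Finset.sum_sub_distrib, Finset.sum_eq_single i]
    · simp [Pi.single_apply]
    · intro k _ hk; simp [Pi.single_apply, hk]
    · simp
  have hself : ∀ i c, e (finProdFinEquiv (i, c)) * (1 - 2 * (e (finProdFinEquiv (i, 0)) * e (finProdFinEquiv (i, 1)))) =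
      -((1 - 2 * (e (finProdFinEquiv (i, 0)) * e (finProdFinEquiv (i, 1)))) * e (finProdFinEquiv (i, c))) := by
    intro i c
    have ha := sq (finProdFinEquiv (i, 0))
    have hb := sq (finProdFinEquiv (i, 1))
    have hba := eq_sub_of_add_eq' (one i)
    generalize he0 : e (finProdFinEquiv (i, 0)) = a at ha hba ⊢
    generalize he1 : e (finProdFinEquiv (i, 1)) = b at hb hba ⊢
    have haba : a * b * a = a := by rw [mul_assoc, hba, mul_sub, mul_one, ← mul_assoc, ha, zero_mul, sub_zero]
    have hbab : b * (a * b) = b := by rw [← mul_assoc, hba, sub_mul, one_mul, mul_assoc, hb, mul_zero, sub_zero]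
    have hlow : c = 0 ∨ c = 1 := by omega
    rcases hlow with rfl | rfl
    · rw [he0, mul_sub, sub_mul, mul_one, one_mul, two_mul, mul_add, add_mul, ← mul_assoc, ha, zero_mul, haba]
      abel
    · rw [he1, mul_sub, sub_mul, mul_one, one_mul, two_mul, mul_add, add_mul, hbab, mul_assoc, hb, mul_zero]
      abel
  have hother : ∀ i (p : Fin m × Fin 2), p.1 ≠ i →
      Commute (e (finProdFinEquiv p)) (1 - 2 * (e (finProdFinEquiv (i, 0)) * e (finProdFinEquiv (i, 1)))) := by
    intro i p hp
    refine (Commute.one_right _).sub_right ((Commute.ofNat_right _ 2).mul_right ?_)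
    change _ * _ = _ * _
    rw [← mul_assoc, pol p (i, 0) hp, neg_mul, mul_assoc, pol p (i, 1) hp, mul_neg, neg_neg, mul_assoc]
  have hsq : ∀ i, (1 - 2 * (e (finProdFinEquiv (i, 0)) * e (finProdFinEquiv (i, 1)))) *
      (1 - 2 * (e (finProdFinEquiv (i, 0)) * e (finProdFinEquiv (i, 1)))) = 1 := by
    intro i
    have ha := sq (finProdFinEquiv (i, 0))
    have hba := eq_sub_of_add_eq' (one i)
    generalize e (finProdFinEquiv (i, 0)) = a at ha hba ⊢
    generalize e (finProdFinEquiv (i, 1)) = b at hba ⊢
    have h : a * b * (a * b) = a * b := by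
      rw [← mul_assoc, mul_assoc a b a, hba, mul_sub, mul_one, ← mul_assoc, ha, zero_mul, sub_zero]
    simp only [two_mul, sub_mul, mul_sub, mul_add, add_mul, h, mul_one, one_mul]
    abel
  have hcomm : ∀ i k, Commute (1 - 2 * (e (finProdFinEquiv (i, 0)) * e (finProdFinEquiv (i, 1))))
      (1 - 2 * (e (finProdFinEquiv (k, 0)) * e (finProdFinEquiv (k, 1)))) := by
    intro i k
    by_cases h : i = k
    · subst h; exact Commute.refl _
    · exact (Commute.one_left _).sub_left ((Commute.ofNat_left 2 _).mul_left ((hother k (i, 0) h).mul_left (hother k (i, 1) h)))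
  have main : ∀ l : List (Fin m), l.Nodup →
      let W := (l.map fun i => 1 - 2 * (e (finProdFinEquiv (i, 0)) * e (finProdFinEquiv (i, 1)))).prod
      W * W = 1 ∧ ∀ p : Fin m × Fin 2, (p.1 ∈ l → e (finProdFinEquiv p) * W = -(W * e (finProdFinEquiv p))) ∧
        (p.1 ∉ l → e (finProdFinEquiv p) * W = W * e (finProdFinEquiv p)) := by
    intro l hl
    induction l with
    | nil => simp
    | cons i l ih =>
      obtain ⟨hil, hl'⟩ := List.nodup_cons.1 hl
      obtain ⟨h1, h2⟩ := ih hl'
      intro W
      simp only [W, List.map_cons, List.prod_cons]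
      refine ⟨?_, fun p ↦ ⟨fun hp ↦ ?_, fun hp ↦ ?_⟩⟩
      · have hc : Commute (1 - 2 * (e (finProdFinEquiv (i, 0)) * e (finProdFinEquiv (i, 1))))
            (l.map fun i => 1 - 2 * (e (finProdFinEquiv (i, 0)) * e (finProdFinEquiv (i, 1)))).prod :=
          Commute.list_prod_right _ _ fun y hy ↦ by
            obtain ⟨k, _, rfl⟩ := List.mem_map.1 hy
            exact hcomm i k
        rw [(Commute.symm hc).mul_mul_mul_comm, hsq, h1, mul_one]
      · obtain ⟨p, c⟩ := p
        rcases List.mem_cons.1 hp with rfl | hp'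
        · rw [← mul_assoc, hself, neg_mul, mul_assoc, (h2 (p, c)).2 hil, mul_assoc]
        · have hne : p ≠ i := fun h ↦ hil (h ▸ hp')
          rw [← mul_assoc, (hother i (p, c) hne).eq, mul_assoc, (h2 (p, c)).1 hp', mul_neg, mul_assoc]
      · simp only [List.mem_cons, not_or] at hp
        rw [← mul_assoc, (hother i p hp.1).eq, mul_assoc, (h2 p).2 hp.2, mul_assoc]
  obtain ⟨h1, h2⟩ := main (List.finRange m) (List.nodup_finRange m)
  refine ⟨h1, fun j ↦ ?_⟩
  obtain ⟨p, rfl⟩ := finProdFinEquiv.surjective j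
  exact (h2 p).1 (List.mem_finRange _)

end Groth.Agent.S17016
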