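import Groth.Statements.S17017
import Groth.Agent.Lib.QuadH13.Inner

set_option autoImplicit false
universe u
open QuadGrp

namespace Groth.Agent.S17017

open scoped Pointwise


/-- Over a field k, for the standard split quadratic form x₀² + x₁x₂ on k³, every even unit of the
Clifford algebra normalises the subspace k³, i.e. lies in the naive Clifford group; so the even
Clifford group is the whole unit group of the even Clifford algebra. (The published claim is made
over fields of characteristic different from 2; here it is stated for every field.) -/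
theorem result (k : Type u) [Field k] :
    QuadGrp.evenUnits (QuadGrp.splitForm k 3) ≤ QuadGrp.GPin' (QuadGrp.splitForm k 3) := by

  let Q := QuadGrp.splitForm k 3
  have flip : ∀ a c : Fin 3 → k, CliffordAlgebra.ι Q a * CliffordAlgebra.ι Q c =
      algebraMap k _ (QuadraticMap.polar Q a c) - CliffordAlgebra.ι Q c * CliffordAlgebra.ι Q a := fun a c ↦
    eq_sub_of_add_eq (CliffordAlgebra.ι_mul_ι_add_swap a c)
  let S := LinearMap.range (CliffordAlgebra.ι Q)
  let Z := (algebraMap k (CliffordAlgebra Q)).range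
  have sand : ∀ a v, CliffordAlgebra.ι Q a * CliffordAlgebra.ι Q v * CliffordAlgebra.ι Q a ∈ S := by
    intro a v
    rw [flip a v, sub_mul, ← Algebra.smul_def, mul_assoc, CliffordAlgebra.ι_sq_scalar, ← Algebra.commutes, ← Algebra.smul_def]
    exact sub_mem (Submodule.smul_mem _ _ ⟨a, rfl⟩) (Submodule.smul_mem _ _ ⟨v, rfl⟩)
  have triple : ∀ a c v, CliffordAlgebra.ι Q a * CliffordAlgebra.ι Q c * CliffordAlgebra.ι Q v +
      CliffordAlgebra.ι Q v * CliffordAlgebra.ι Q c * CliffordAlgebra.ι Q a ∈ S := by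
    intro a c v
    have e : CliffordAlgebra.ι Q a * CliffordAlgebra.ι Q c * CliffordAlgebra.ι Q v +
        CliffordAlgebra.ι Q v * CliffordAlgebra.ι Q c * CliffordAlgebra.ι Q a =
        QuadraticMap.polar Q c v • CliffordAlgebra.ι Q a - QuadraticMap.polar Q a v • CliffordAlgebra.ι Q c +
          QuadraticMap.polar Q a c • CliffordAlgebra.ι Q v := by
      rw [mul_assoc, flip c v, mul_sub, ← Algebra.commutes, ← Algebra.smul_def, ← mul_assoc, flip a v, sub_mul,
        ← Algebra.smul_def, mul_assoc _ _ (CliffordAlgebra.ι Q a), flip c a, mul_sub, ← Algebra.commutes,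
        ← Algebra.smul_def, QuadraticMap.polar_comm (⇑Q) c a, ← mul_assoc]
      abel
    rw [e]
    exact add_mem (sub_mem (Submodule.smul_mem _ _ ⟨a, rfl⟩) (Submodule.smul_mem _ _ ⟨c, rfl⟩))
      (Submodule.smul_mem _ _ ⟨v, rfl⟩)
  let e : Fin 3 → CliffordAlgebra Q := fun i ↦ CliffordAlgebra.ι Q (Pi.single i 1)
  let pr : Fin 3 → CliffordAlgebra Q := ![e 0 * e 1, e 0 * e 2, e 2 * e 1]
  let pb : Fin 3 → CliffordAlgebra Q := ![e 1 * e 0, e 2 * e 0, e 1 * e 2]
  have hQ : ∀ x, Q x = x 1 * x 2 + x 0 * x 0 := fun x ↦ by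
    simp [Q, QuadGrp.splitForm, QuadraticMap.sum_apply, Fin.sum_univ_one, QuadraticMap.sq]
  -- the even part is spanned by `1` and three products
  let W : Submodule k (CliffordAlgebra Q) := Submodule.span k {1, e 0 * e 1, e 0 * e 2, e 2 * e 1}
  let E : Submodule k (CliffordAlgebra Q) := Submodule.span k (Set.range ![e 0, e 1, e 2, e 0 * (e 2 * e 1)])
  have h00 : e 0 * e 0 = 1 := by rw [CliffordAlgebra.ι_sq_scalar, hQ]; simp
  have h11 : e 1 * e 1 = 0 := by rw [CliffordAlgebra.ι_sq_scalar, hQ]; simp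
  have h22 : e 2 * e 2 = 0 := by rw [CliffordAlgebra.ι_sq_scalar, hQ]; simp
  have h10 : e 1 * e 0 = -(e 0 * e 1) := eq_neg_of_add_eq_zero_left (by
    rw [CliffordAlgebra.ι_mul_ι_add_swap, QuadraticMap.polar, hQ, hQ, hQ]; simp)
  have h20 : e 2 * e 0 = -(e 0 * e 2) := eq_neg_of_add_eq_zero_left (by
    rw [CliffordAlgebra.ι_mul_ι_add_swap, QuadraticMap.polar, hQ, hQ, hQ]; simp)
  have h12 : e 1 * e 2 = 1 - e 2 * e 1 := eq_sub_of_add_eq (by
    rw [CliffordAlgebra.ι_mul_ι_add_swap, QuadraticMap.polar, hQ, hQ, hQ]; simp)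
  have hWE : ∀ i, ∀ x ∈ W, e i * x ∈ E := by
    intro i x hx
    have g : ∀ j, ![e 0, e 1, e 2, e 0 * (e 2 * e 1)] j ∈ E := fun j ↦ Submodule.subset_span ⟨j, rfl⟩
    induction hx using Submodule.span_induction with
    | zero => rw [mul_zero]; exact zero_mem _
    | add a c _ _ ha hc => rw [mul_add]; exact add_mem ha hc
    | smul r a _ ha => rw [mul_smul_comm]; exact Submodule.smul_mem _ _ ha
    | mem y hy =>
      simp only [Set.mem_insert_iff, Set.mem_singleton_iff] at hy
      fin_cases i <;> rcases hy with rfl | rfl | rfl | rfl <;> simp only [Fin.isValue, Fin.zero_eta, Fin.mk_one, Fin.reduceFinMk]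
      · simpa using g 0
      · rw [← mul_assoc, h00, one_mul]; simpa using g 1
      · rw [← mul_assoc, h00, one_mul]; simpa using g 2
      · simpa using g 3
      · simpa using g 1
      · rw [← mul_assoc, h10, neg_mul, mul_assoc, h11, mul_zero, neg_zero]; exact zero_mem _
      · rw [← mul_assoc, h10, neg_mul, mul_assoc, h12, mul_sub, mul_one]
        exact neg_mem (sub_mem (by simpa using g 0) (by simpa using g 3))
      · rw [← mul_assoc, h12, sub_mul, one_mul, mul_assoc, h11, mul_zero, sub_zero]; simpa using g 1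
      · simpa using g 2
      · rw [← mul_assoc, h20, neg_mul, mul_assoc]; exact neg_mem (by simpa using g 3)
      · rw [← mul_assoc, h20, neg_mul, mul_assoc, h22, mul_zero, neg_zero]; exact zero_mem _
      · rw [← mul_assoc, h22, zero_mul]; exact zero_mem _
  have hEW : ∀ i, ∀ x ∈ E, e i * x ∈ W := by
    intro i x hx
    have w0 : (1 : CliffordAlgebra Q) ∈ W := Submodule.subset_span (Or.inl rfl)
    have w1 : e 0 * e 1 ∈ W := Submodule.subset_span (Or.inr (Or.inl rfl))
    have w2 : e 0 * e 2 ∈ W := Submodule.subset_span (Or.inr (Or.inr (Or.inl rfl)))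
    have w3 : e 2 * e 1 ∈ W := Submodule.subset_span (Or.inr (Or.inr (Or.inr rfl)))
    induction hx using Submodule.span_induction with
    | zero => rw [mul_zero]; exact zero_mem _
    | add a c _ _ ha hc => rw [mul_add]; exact add_mem ha hc
    | smul r a _ ha => rw [mul_smul_comm]; exact Submodule.smul_mem _ _ ha
    | mem y hy =>
      obtain ⟨j, rfl⟩ := hy
      fin_cases i <;> fin_cases j <;> simp only [Fin.isValue, Fin.zero_eta, Fin.mk_one, Fin.reduceFinMk, Matrix.cons_val]
      · rw [h00]; exact w0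
      · exact w1
      · exact w2
      · rw [← mul_assoc, h00, one_mul]; exact w3
      · rw [h10]; exact neg_mem w1
      · rw [h11]; exact zero_mem _
      · rw [h12]; exact sub_mem w0 w3
      · rw [← mul_assoc, h10, neg_mul, mul_assoc, ← mul_assoc (e 1), h12, sub_mul, one_mul, mul_assoc, h11, mul_zero, sub_zero]
        exact neg_mem w1
      · rw [h20]; exact neg_mem w2
      · exact w3
      · rw [h22]; exact zero_mem _
      · rw [← mul_assoc, h20, neg_mul, mul_assoc, ← mul_assoc (e 2), h22, zero_mul, mul_zero, neg_zero]; exact zero_mem _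
  have hι : ∀ v, CliffordAlgebra.ι Q v ∈ Submodule.span k (Set.range e) := by
    intro v
    rw [← (Pi.basisFun k (Fin 3)).sum_repr v, map_sum]
    exact sum_mem fun i _ ↦ by
      rw [map_smul, Pi.basisFun_apply]
      exact Submodule.smul_mem _ _ (Submodule.subset_span ⟨i, rfl⟩)
  have hmulE : ∀ v, ∀ x ∈ W, CliffordAlgebra.ι Q v * x ∈ E := by
    intro v x hx
    have hy := hι v
    generalize CliffordAlgebra.ι Q v = y at hy ⊢
    induction hy using Submodule.span_induction with
    | mem y hy => obtain ⟨i, rfl⟩ := hy; exact hWE i x hx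
    | zero => rw [zero_mul]; exact zero_mem _
    | add a c _ _ ha hc => rw [add_mul]; exact add_mem ha hc
    | smul r a _ ha => rw [smul_mul_assoc]; exact Submodule.smul_mem _ _ ha
  have hmulW : ∀ v, ∀ x ∈ E, CliffordAlgebra.ι Q v * x ∈ W := by
    intro v x hx
    have hy := hι v
    generalize CliffordAlgebra.ι Q v = y at hy ⊢
    induction hy using Submodule.span_induction with
    | mem y hy => obtain ⟨i, rfl⟩ := hy; exact hEW i x hx
    | zero => rw [zero_mul]; exact zero_mem _
    | add a c _ _ ha hc => rw [add_mul]; exact add_mem ha hc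
    | smul r a _ ha => rw [smul_mul_assoc]; exact Submodule.smul_mem _ _ ha
  haveI : Nontrivial (CliffordAlgebra Q) := Groth.Agent.QuadH13.nontrivial_clifford (b := Pi.basisFun k (Fin 3))
  change ∀ u : (CliffordAlgebra Q)ˣ, u ∈ QuadGrp.evenUnits Q → u ∈ QuadGrp.GPin' Q
  intro u hu
  have heven : (u : CliffordAlgebra Q) ∈ W := by
    change (u : CliffordAlgebra Q) ∈ CliffordAlgebra.evenOdd Q 0 at hu
    generalize (u : CliffordAlgebra Q) = x at hu
    induction x, hu using CliffordAlgebra.even_induction with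
    | algebraMap r => rw [Algebra.algebraMap_eq_smul_one]; exact Submodule.smul_mem _ _ (Submodule.subset_span (Or.inl rfl))
    | add a c _ _ ha hc => exact add_mem ha hc
    | ι_mul_ι_mul m₁ m₂ y _ ih => rw [mul_assoc]; exact hmulW _ _ (hmulE _ _ ih)
  simp only [W, Submodule.mem_span_insert, Submodule.mem_span_singleton] at heven
  obtain ⟨c0, _, ⟨c1, _, ⟨c2, _, ⟨c3, rfl⟩, rfl⟩, rfl⟩, hux⟩ := heven
  let ū : CliffordAlgebra Q := c0 • 1 + (c1 • (e 1 * e 0) + (c2 • (e 2 * e 0) + c3 • (e 1 * e 2)))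
  have hmid : ∀ a c v, CliffordAlgebra.ι Q a * CliffordAlgebra.ι Q c * CliffordAlgebra.ι Q v *
      (CliffordAlgebra.ι Q c * CliffordAlgebra.ι Q a) ∈ S := by
    intro a c v
    obtain ⟨w, hw⟩ := sand c v
    rw [show CliffordAlgebra.ι Q a * CliffordAlgebra.ι Q c * CliffordAlgebra.ι Q v *
        (CliffordAlgebra.ι Q c * CliffordAlgebra.ι Q a) = CliffordAlgebra.ι Q a *
        (CliffordAlgebra.ι Q c * CliffordAlgebra.ι Q v * CliffordAlgebra.ι Q c) * CliffordAlgebra.ι Q a by
      simp only [mul_assoc], ← hw]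
    exact sand a w
  have hone : ∀ a c v, CliffordAlgebra.ι Q a * CliffordAlgebra.ι Q c * CliffordAlgebra.ι Q v * 1 +
      1 * CliffordAlgebra.ι Q v * (CliffordAlgebra.ι Q c * CliffordAlgebra.ι Q a) ∈ S := by
    intro a c v
    rw [mul_one, one_mul, ← mul_assoc]
    exact triple a c v
  have hfirst : ∀ a c d v, CliffordAlgebra.ι Q a * CliffordAlgebra.ι Q c * CliffordAlgebra.ι Q v *
      (CliffordAlgebra.ι Q d * CliffordAlgebra.ι Q a) + CliffordAlgebra.ι Q a * CliffordAlgebra.ι Q d *
      CliffordAlgebra.ι Q v * (CliffordAlgebra.ι Q c * CliffordAlgebra.ι Q a) ∈ S := by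
    intro a c d v
    obtain ⟨w, hw⟩ := triple c v d
    have := sand a w
    rw [hw, mul_add, add_mul] at this
    simpa only [mul_assoc] using this
  have hlast : ∀ a c d v, CliffordAlgebra.ι Q a * CliffordAlgebra.ι Q c * CliffordAlgebra.ι Q v *
      (CliffordAlgebra.ι Q c * CliffordAlgebra.ι Q d) + CliffordAlgebra.ι Q d * CliffordAlgebra.ι Q c *
      CliffordAlgebra.ι Q v * (CliffordAlgebra.ι Q c * CliffordAlgebra.ι Q a) ∈ S := by
    intro a c d v
    obtain ⟨w, hw⟩ := sand c v
    have := triple a w d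
    rw [hw] at this
    simpa only [mul_assoc] using this
  have hsand : ∀ v, (u : CliffordAlgebra Q) * CliffordAlgebra.ι Q v * ū ∈ S := by
    intro v
    have hall := add_mem (add_mem (add_mem (add_mem (add_mem (add_mem (add_mem (add_mem (add_mem
      (Submodule.smul_mem S (c0 * c0) ⟨v, rfl⟩)
      (Submodule.smul_mem S (c1 * c1) (hmid (Pi.single 0 1) (Pi.single 1 1) v)))
      (Submodule.smul_mem S (c2 * c2) (hmid (Pi.single 0 1) (Pi.single 2 1) v)))
      (Submodule.smul_mem S (c3 * c3) (hmid (Pi.single 2 1) (Pi.single 1 1) v)))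
      (Submodule.smul_mem S (c0 * c1) (hone (Pi.single 0 1) (Pi.single 1 1) v)))
      (Submodule.smul_mem S (c0 * c2) (hone (Pi.single 0 1) (Pi.single 2 1) v)))
      (Submodule.smul_mem S (c0 * c3) (hone (Pi.single 2 1) (Pi.single 1 1) v)))
      (Submodule.smul_mem S (c1 * c2) (hfirst (Pi.single 0 1) (Pi.single 1 1) (Pi.single 2 1) v)))
      (Submodule.smul_mem S (c1 * c3) (hlast (Pi.single 0 1) (Pi.single 1 1) (Pi.single 2 1) v)))
      (Submodule.smul_mem S (c2 * c3) (show e 0 * e 2 * CliffordAlgebra.ι Q v * (e 1 * e 2) +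
        e 2 * e 1 * CliffordAlgebra.ι Q v * (e 2 * e 0) ∈ S from ?_))
    · convert hall using 1
      rw [hux]
      simp only [ū, e, mul_add, add_mul, smul_mul_assoc, mul_smul_comm, smul_add, smul_smul, mul_one, one_mul, mul_comm c1 c0,
        mul_comm c2 c0, mul_comm c3 c0, mul_comm c2 c1, mul_comm c3 c1, mul_comm c3 c2]
      abel
    · -- use `e 2 * e 1 = 1 - e 1 * e 2` to reach a shared last factor
      have h21 : e 2 * e 1 = 1 - e 1 * e 2 := by rw [h12, sub_sub_cancel]
      have := sub_mem (hone (Pi.single 0 1) (Pi.single 2 1) v) (hlast (Pi.single 0 1) (Pi.single 2 1) (Pi.single 1 1) v)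
      change e 0 * e 2 * CliffordAlgebra.ι Q v * 1 + 1 * CliffordAlgebra.ι Q v * (e 2 * e 0) -
        (e 0 * e 2 * CliffordAlgebra.ι Q v * (e 2 * e 1) + e 1 * e 2 * CliffordAlgebra.ι Q v * (e 2 * e 0)) ∈ S at this
      convert this using 1
      rw [h12]
      simp only [mul_sub, sub_mul]
      abel
  -- the norm
  obtain ⟨N, hN⟩ : ∃ N : k, (u : CliffordAlgebra Q) * ū = algebraMap k _ N := by
    refine ⟨c0 * c0 + c0 * c3 + c1 * c2, ?_⟩
    have a1 : e 0 * e 1 * (e 1 * e 0) = 0 := by rw [mul_assoc, ← mul_assoc (e 1), h11, zero_mul, mul_zero]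
    have a2 : e 0 * e 2 * (e 2 * e 0) = 0 := by rw [mul_assoc, ← mul_assoc (e 2), h22, zero_mul, mul_zero]
    have a3 : e 2 * e 1 * (e 1 * e 2) = 0 := by rw [mul_assoc, ← mul_assoc (e 1), h11, zero_mul, mul_zero]
    have a4 : e 0 * e 1 * (e 2 * e 0) + e 0 * e 2 * (e 1 * e 0) = 1 := by
      rw [mul_assoc, mul_assoc, ← mul_assoc (e 1), ← mul_assoc (e 2), ← mul_add, ← add_mul, h12, sub_add_cancel, one_mul, h00]
    have a5 : e 0 * e 1 * (e 1 * e 2) + e 2 * e 1 * (e 1 * e 0) = 0 := by
      rw [mul_assoc, ← mul_assoc (e 1) (e 1), h11, zero_mul, mul_zero, mul_assoc, ← mul_assoc (e 1), h11, zero_mul, mul_zero, add_zero]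
    have a6 : e 0 * e 2 * (e 1 * e 2) + e 2 * e 1 * (e 2 * e 0) = 0 := by
      have t1 : e 2 * (e 1 * e 2) = e 2 := by rw [h12, mul_sub, mul_one, ← mul_assoc, h22, zero_mul, sub_zero]
      rw [mul_assoc (e 0), t1, mul_assoc (e 2), ← mul_assoc (e 1), ← mul_assoc (e 2), t1, h20]
      abel
    have b1 : e 1 * e 0 + e 0 * e 1 = 0 := by rw [h10, neg_add_cancel]
    have b2 : e 2 * e 0 + e 0 * e 2 = 0 := by rw [h20, neg_add_cancel]
    have b3 : e 1 * e 2 + e 2 * e 1 = 1 := by rw [h12, sub_add_cancel]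
    have : (u : CliffordAlgebra Q) * ū = (c0 * c0) • 1 + (c0 * c1) • (e 1 * e 0 + e 0 * e 1) +
        (c0 * c2) • (e 2 * e 0 + e 0 * e 2) + (c0 * c3) • (e 1 * e 2 + e 2 * e 1) +
        (c1 * c1) • (e 0 * e 1 * (e 1 * e 0)) + (c2 * c2) • (e 0 * e 2 * (e 2 * e 0)) +
        (c3 * c3) • (e 2 * e 1 * (e 1 * e 2)) + (c1 * c2) • (e 0 * e 1 * (e 2 * e 0) + e 0 * e 2 * (e 1 * e 0)) +
        (c1 * c3) • (e 0 * e 1 * (e 1 * e 2) + e 2 * e 1 * (e 1 * e 0)) +
        (c2 * c3) • (e 0 * e 2 * (e 1 * e 2) + e 2 * e 1 * (e 2 * e 0)) := by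
      rw [hux]
      simp only [ū, mul_add, add_mul, smul_mul_assoc, mul_smul_comm, smul_add, smul_smul, mul_one, one_mul, mul_comm c1 c0,
        mul_comm c2 c0, mul_comm c3 c0, mul_comm c2 c1, mul_comm c3 c1, mul_comm c3 c2]
      abel
    rw [this, a1, a2, a3, a4, a5, a6, b1, b2, b3, Algebra.algebraMap_eq_smul_one]
    module
  have hN0 : N ≠ 0 := by
    intro h
    rw [h, map_zero] at hN
    have hz : ū = 0 := u.isUnit.mul_right_eq_zero.1 hN
    have := congrArg CliffordAlgebra.reverse hz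
    simp only [ū, e, map_add, map_smul, map_zero, CliffordAlgebra.reverse.map_mul, CliffordAlgebra.reverse_ι,
      CliffordAlgebra.reverse.map_one] at this
    exact u.ne_zero (hux.trans this)
  have hconj : ∀ v, ∃ w, (u : CliffordAlgebra Q) * CliffordAlgebra.ι Q v * ↑u⁻¹ = CliffordAlgebra.ι Q w := by
    intro v
    obtain ⟨w, hw⟩ := hsand v
    refine ⟨N⁻¹ • w, ?_⟩
    have hinv : (↑u⁻¹ : CliffordAlgebra Q) = N⁻¹ • ū := by
      rw [← u.isUnit.mul_right_inj, Units.mul_inv, mul_smul_comm, hN, Algebra.smul_def, ← map_mul, inv_mul_cancel₀ hN0, map_one]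
    rw [hinv, mul_smul_comm, ← hw, map_smul]
  rw [QuadGrp.mem_GPin']
  have hle : ConjAct.toConjAct u • S ≤ S := by
    intro x hx
    rw [Submodule.mem_smul_pointwise_iff_exists] at hx
    obtain ⟨_, ⟨v, rfl⟩, rfl⟩ := hx
    rw [ConjAct.units_smul_def, ConjAct.ofConjAct_toConjAct]
    obtain ⟨w, hw⟩ := hconj v
    exact ⟨w, hw.symm⟩
  refine Submodule.eq_of_le_of_finrank_le hle (le_of_eq ?_)
  rw [Submodule.pointwise_smul_def]
  exact (LinearMap.finrank_range_of_inj (f := (DistribSMul.toLinearMap k (CliffordAlgebra Q) (ConjAct.toConjAct u)).comp S.subtype)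
    (fun x y h ↦ Subtype.ext (MulAction.injective (ConjAct.toConjAct u) h))).symm.trans (by rw [LinearMap.range_comp, Submodule.range_subtype])

end Groth.Agent.S17017
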