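import Groth.Statements.S17018


set_option autoImplicit false
set_option linter.style.haveILetI false
set_option backward.isDefEq.respectTransparency false
universe u
open CategoryTheory CategoryTheory.Limits AlgebraicGeometry
open scoped TensorProduct
open Models

namespace Groth.Agent.S17018

/-- Let R be a discrete valuation ring with algebraically closed residue field and f : X → Spec R a
proper flat morphism whose generic fibre (base change to the fraction field of R) is smooth of
relative dimension 1 and connected and whose special fibre (base change to the residue field) is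
connected and reduced; let ξ be the generic point of an irreducible component of the special fibre
and B a discrete valuation ring given with an isomorphism from the local ring of X at ξ under which
R → B is the map induced by f. Then the maximal ideal of B is the extension of the maximal ideal of
R: a uniformizer of R maps to a uniformizer of B. (The published setting takes everything
essentially of finite type over a field of characteristic zero; the printed argument does not use
this and it is not imposed here.) -/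
theorem result
    (R : Type u) [CommRing R] [IsDomain R] [IsDiscreteValuationRing R]
    [IsAlgClosed (IsLocalRing.ResidueField R)]
    (X : Scheme.{u}) (f : X ⟶ Spec (CommRingCat.of R)) [IsProper f] [Flat f]
    (XK : Scheme.{u}) (gK : XK ⟶ X) (fK : XK ⟶ Spec (CommRingCat.of (FractionRing R)))
    (hK : IsPullback gK fK f (Spec.map (CommRingCat.ofHom (algebraMap R (FractionRing R)))))
    [SmoothOfRelativeDimension 1 fK] [ConnectedSpace XK]
    (Xs : Scheme.{u}) (gs : Xs ⟶ X) (fs : Xs ⟶ Spec (CommRingCat.of (IsLocalRing.ResidueField R)))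
    (hs : IsPullback gs fs f (Spec.map (CommRingCat.ofHom (IsLocalRing.residue R))))
    [ConnectedSpace Xs] [IsReduced Xs]
    (ξ : Xs) (hξ : closure ({ξ} : Set Xs) ∈ irreducibleComponents Xs)
    (B : Type u) [CommRing B] [IsDomain B] [IsDiscreteValuationRing B] [Algebra R B]
    (e : X.presheaf.stalk (gs.base ξ) ≅ CommRingCat.of B)
    (he : e.hom.hom.comp ((X.presheaf.germ ⊤ (gs.base ξ) trivial).hom.comp (Coh.toGlobal f)) =
      algebraMap R B) :
    IsLocalRing.maximalIdeal B = Ideal.map (algebraMap R B) (IsLocalRing.maximalIdeal R) := by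
  obtain ⟨π, hπ⟩ := IsDiscreteValuationRing.exists_irreducible R
  have hgen : IsLocalRing.maximalIdeal R = Ideal.span {π} := hπ.maximalIdeal_eq
  obtain ⟨t, ht⟩ := IsDiscreteValuationRing.exists_irreducible B
  let φ : R →+* X.presheaf.stalk (gs.base ξ) :=
    (X.presheaf.germ ⊤ (gs.base ξ) trivial).hom.comp (Coh.toGlobal f)
  have hφ : ∀ r, e.hom.hom (φ r) = algebraMap R B r := fun r => RingHom.congr_fun he r
  have hinj : Function.Injective φ := by
    have h1 : φ = (f.stalkMap (gs.base ξ)).hom.comp
        (((Spec (CommRingCat.of R)).presheaf.germ ⊤ _ trivial).hom.comp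
          (Scheme.ΓSpecIso (CommRingCat.of R)).inv.hom) := by
      rw [← RingHom.comp_assoc, ← CommRingCat.hom_comp, Scheme.Hom.germ_stalkMap]
      rfl
    rw [h1, RingHom.coe_comp, RingHom.coe_comp]
    refine Function.Injective.comp ?_ (Function.Injective.comp
      (germ_injective_of_isIntegral (X := Spec (CommRingCat.of R)) (f.base (gs.base ξ)) (U := ⊤) trivial)
      (ConcreteCategory.bijective_of_isIso (Scheme.ΓSpecIso (CommRingCat.of R)).inv).1)
    let g := (f.stalkMap (gs.base ξ)).hom
    letI := g.toAlgebra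
    haveI : IsLocalHom (algebraMap ((Spec (CommRingCat.of R)).presheaf.stalk (f.base (gs.base ξ)))
        (X.presheaf.stalk (gs.base ξ))) :=
      inferInstanceAs (IsLocalHom g)
    haveI : Module.Flat ((Spec (CommRingCat.of R)).presheaf.stalk (f.base (gs.base ξ)))
      (X.presheaf.stalk (gs.base ξ)) := Flat.stalkMap f (gs.base ξ)
    haveI := Module.FaithfullyFlat.of_flat_of_isLocalHom
      (A := (Spec (CommRingCat.of R)).presheaf.stalk (f.base (gs.base ξ)))
      (B := X.presheaf.stalk (gs.base ξ))
    exact FaithfulSMul.algebraMap_injective ((Spec (CommRingCat.of R)).presheaf.stalk (f.base (gs.base ξ)))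
      (X.presheaf.stalk (gs.base ξ))
  have hzero : (gs.stalkMap ξ).hom (φ π) = 0 := by
    have h1 : (gs.appTop).hom (Coh.toGlobal f π) = 0 := by
      have h2 : (Scheme.ΓSpecIso (CommRingCat.of R)).inv ≫ f.appTop ≫ gs.appTop =
          CommRingCat.ofHom (IsLocalRing.residue R) ≫
            (Scheme.ΓSpecIso (CommRingCat.of (IsLocalRing.ResidueField R))).inv ≫ fs.appTop := by
        rw [← Scheme.Hom.comp_appTop, hs.w, Scheme.Hom.comp_appTop,
          ← Scheme.ΓSpecIso_inv_naturality_assoc]
      have h3 := congrArg (fun k => k.hom π) h2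
      simp only [CommRingCat.hom_comp, RingHom.comp_apply, CommRingCat.hom_ofHom] at h3
      change gs.appTop.hom (f.appTop.hom ((Scheme.ΓSpecIso (CommRingCat.of R)).inv.hom π)) = 0
      rw [h3, show IsLocalRing.residue R π = 0 from
        (IsLocalRing.residue_eq_zero_iff π).2 (hgen ▸ Ideal.mem_span_singleton_self π), map_zero,
        map_zero]
    change ((X.presheaf.germ ⊤ (gs.base ξ) trivial) ≫ gs.stalkMap ξ).hom (Coh.toGlobal f π) = 0
    rw [Scheme.Hom.germ_stalkMap, CommRingCat.hom_comp, RingHom.comp_apply]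
    exact (congrArg _ h1).trans (map_zero _)
  -- elements killed on the special fibre are divisible by the uniformiser
  have hker : ∀ x, (gs.stalkMap ξ).hom x = 0 → x ∈ Ideal.span {φ π} := by
    intro x hx
    let I : Ideal (X.presheaf.stalk (gs.base ξ)) := Ideal.span {φ π}
    have hI : I ≤ IsLocalRing.maximalIdeal _ := by
      rw [Ideal.span_le, Set.singleton_subset_iff]
      intro hu
      exact not_isUnit_zero (hzero ▸ hu.map (gs.stalkMap ξ).hom)
    haveI : Nontrivial (X.presheaf.stalk (gs.base ξ) ⧸ I) :=
      Ideal.Quotient.nontrivial_iff.2 (ne_top_of_le_ne_top (IsLocalRing.maximalIdeal.isMaximal _).ne_top hI)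
    haveI : IsLocalRing (X.presheaf.stalk (gs.base ξ) ⧸ I) :=
      IsLocalRing.of_surjective' (Ideal.Quotient.mk I) Ideal.Quotient.mk_surjective
    let m : X.presheaf.stalk (gs.base ξ) ⟶ CommRingCat.of (X.presheaf.stalk (gs.base ξ) ⧸ I) :=
      CommRingCat.ofHom (Ideal.Quotient.mk I)
    haveI : IsLocalHom m.hom :=
      ⟨fun a ha => by
        by_contra hna
        obtain ⟨b, hb⟩ := isUnit_iff_exists_inv.1 ha
        obtain ⟨b, rfl⟩ := Ideal.Quotient.mk_surjective b
        refine (IsLocalRing.maximalIdeal.isMaximal (X.presheaf.stalk (gs.base ξ))).ne_top ((Ideal.eq_top_iff_one _).2 ?_)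
        have h1 : a * b - 1 ∈ I := Ideal.Quotient.eq.1 (by rw [map_mul, map_one]; exact hb)
        have h2 : a * b ∈ IsLocalRing.maximalIdeal _ := Ideal.mul_mem_right _ _ hna
        simpa using sub_mem h2 (hI h1)⟩
    let q : IsLocalRing.ResidueField R →+* X.presheaf.stalk (gs.base ξ) ⧸ I :=
      Ideal.Quotient.lift (IsLocalRing.maximalIdeal R) ((Ideal.Quotient.mk I).comp φ)
        (fun r hr => by
          rw [hgen, Ideal.mem_span_singleton] at hr
          obtain ⟨c, rfl⟩ := hr
          rw [RingHom.comp_apply, map_mul, Ideal.Quotient.eq_zero_iff_mem]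
          exact I.mul_mem_right _ (Ideal.mem_span_singleton_self _))
    have hφ' : Spec.map (CommRingCat.ofHom φ) = X.fromSpecStalk (gs.base ξ) ≫ f := by
      apply ext_of_isAffine
      rw [Scheme.Hom.comp_appTop, Scheme.fromSpecStalk_appTop]
      rw [← cancel_epi (Scheme.ΓSpecIso (CommRingCat.of R)).inv, ← Scheme.ΓSpecIso_inv_naturality]
      rfl
    have hcompat : (Spec.map m ≫ X.fromSpecStalk (gs.base ξ)) ≫ f =
        Spec.map (CommRingCat.ofHom q) ≫ Spec.map (CommRingCat.ofHom (IsLocalRing.residue R)) := by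
      rw [Category.assoc, ← hφ', ← Spec.map_comp, ← Spec.map_comp]
      rfl
    let ℓ := hs.lift _ _ hcompat
    have hl : ℓ ≫ gs = Spec.map m ≫ X.fromSpecStalk (gs.base ξ) := hs.lift_fst _ _ hcompat
    obtain ⟨U, hU, s, rfl⟩ := X.presheaf.exists_germ_eq x
    have hp : ℓ.base (IsLocalRing.closedPoint _) = ξ := by
      haveI : IsClosedImmersion gs := MorphismProperty.of_isPullback hs.flip
        (IsClosedImmersion.spec_of_surjective _ IsLocalRing.residue_surjective)
      apply gs.isEmbedding.injective
      rw [← Scheme.Hom.comp_apply, hl, Scheme.Hom.comp_apply, Spec_closedPoint,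
        Scheme.fromSpecStalk_closedPoint]
    have key : ∀ (g : Spec (CommRingCat.of (X.presheaf.stalk (gs.base ξ) ⧸ I)) ⟶ X),
        g = Spec.map m ≫ X.fromSpecStalk (gs.base ξ) → ∀ hg : g.base (IsLocalRing.closedPoint _) ∈ U,
        X.presheaf.germ U _ hg ≫ Scheme.stalkClosedPointTo g = X.presheaf.germ U _ hU ≫ m := by
      rintro g rfl hg
      exact Scheme.germ_stalkClosedPointTo_Spec_fromSpecStalk m U hg
    have hgU : gs.base (ℓ.base (IsLocalRing.closedPoint _)) ∈ U := by rw [hp]; exact hU
    have h5 := key _ hl hgU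
    rw [Scheme.stalkClosedPointTo_comp] at h5
    replace h5 := (Scheme.Hom.germ_stalkMap_assoc gs U _ hgU _).symm.trans h5
    have h6 : ∀ p, p = ξ → ∀ (hpU : gs.base p ∈ U),
        (Xs.presheaf.germ (gs ⁻¹ᵁ U) p hpU).hom ((gs.app U).hom s) = 0 := by
      rintro p rfl hpU
      rw [← RingHom.comp_apply, ← CommRingCat.hom_comp, ← Scheme.Hom.germ_stalkMap]
      exact hx
    have h7 := congrArg (fun k => k.hom s) h5
    simp only [CommRingCat.hom_comp, RingHom.comp_apply] at h7
    erw [h6 _ hp hgU, map_zero] at h7
    exact Ideal.Quotient.eq_zero_iff_mem.1 h7.symm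
  have hne : algebraMap R B π ≠ 0 := by
    rw [← hφ, map_ne_zero_iff _ (ConcreteCategory.bijective_of_isIso e.hom).1,
      map_ne_zero_iff _ hinj]
    exact hπ.ne_zero
  rw [hgen, Ideal.map_span, Set.image_singleton, ht.maximalIdeal_eq]
  obtain ⟨n, u, hn⟩ := IsDiscreteValuationRing.eq_unit_mul_pow_irreducible hne ht
  refine le_antisymm ?_ ?_
  · rw [Ideal.span_singleton_le_iff_mem, Ideal.mem_span_singleton]
    have h8 : (gs.stalkMap ξ).hom (e.inv.hom t) ^ n = 0 := by
      rw [← map_pow, ← map_pow, show t ^ n = ((u⁻¹ : Bˣ) : B) * e.hom.hom (φ π) by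
        rw [hφ, hn, ← mul_assoc, Units.inv_mul, one_mul], map_mul, map_mul,
        show e.inv.hom (e.hom.hom (φ π)) = φ π from congrArg (fun k => k.hom (φ π)) e.hom_inv_id,
        hzero, mul_zero]
    obtain ⟨c, hc⟩ := Ideal.mem_span_singleton.1
      (hker _ (IsReduced.eq_zero _ ⟨n, h8⟩ : (gs.stalkMap ξ).hom (e.inv.hom t) = 0))
    refine ⟨e.hom.hom c, ?_⟩
    rw [← hφ, ← map_mul, ← hc]
    exact (congrArg (fun k => k.hom t) e.inv_hom_id).symm
  · rw [Ideal.span_singleton_le_iff_mem, ← ht.maximalIdeal_eq, ← hφ]
    intro hu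
    refine not_isUnit_zero (hzero ▸ ?_ : IsUnit (0 : Xs.presheaf.stalk ξ))
    have h9 := (hu.map e.inv.hom).map (gs.stalkMap ξ).hom
    rwa [show e.inv.hom (e.hom.hom (φ π)) = φ π from
      congrArg (fun k => k.hom (φ π)) e.hom_inv_id] at h9

end Groth.Agent.S17018
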