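import Groth.Statements.S17019
import Groth.Agent.Lib.DVRTensor.Main
-- import your own Groth.Agent.* helpers here

set_option autoImplicit false
universe u
open CategoryTheory CategoryTheory.Limits AlgebraicGeometry
open scoped TensorProduct
open Models

namespace Groth.Agent.S17019

/-- Let R be a discrete valuation ring with algebraically closed residue field and f : X → Spec R a
proper flat morphism whose generic fibre (base change to the fraction field of R) is smooth of
relative dimension 1 and connected and whose special fibre (base change to the residue field) is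
connected and reduced; let ξ be the generic point of an irreducible component of the special fibre
and B a discrete valuation ring given with an isomorphism from the local ring of X at ξ under which
R → B is the map induced by f; let R' be a discrete valuation ring with an injective local
homomorphism R → R' which is generically finite (Frac R ⊗_R R' is a finite module over Frac R). Then
B ⊗_R R' is an integral domain and a discrete valuation ring. (The published setting takes
everything essentially of finite type over a field of characteristic zero; the printed argument does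
not use this and it is not imposed here.) -/
theorem result
    (R : Type u) [CommRing R] [IsDomain R] [IsDiscreteValuationRing R]
    [IsAlgClosed (IsLocalRing.ResidueField R)]
    (X : Scheme.{u}) (f : X ⟶ Spec (CommRingCat.of R)) [IsProper f] [Flat f]
    (XK : Scheme.{u}) (gK : XK ⟶ X) (fK : XK ⟶ Spec (CommRingCat.of (FractionRing R)))
    (hK : IsPullback gK fK f (Spec.map (CommRingCat.ofHom (algebraMap R (FractionRing R)))))
    [SmoothOfRelativeDimension 1 fK] [ConnectedSpace XK]
    (Xs : Scheme.{u}) (gs : Xs ⟶ X) (fs : Xs ⟶ Spec (CommRingCat.of (IsLocalRing.ResidueField R)))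
    (hs : IsPullback gs fs f (Spec.map (CommRingCat.ofHom (IsLocalRing.residue R))))
    [ConnectedSpace Xs] [IsReduced Xs]
    (ξ : Xs) (hξ : closure ({ξ} : Set Xs) ∈ irreducibleComponents Xs)
    (B : Type u) [CommRing B] [IsDomain B] [IsDiscreteValuationRing B] [Algebra R B]
    (e : X.presheaf.stalk (gs.base ξ) ≅ CommRingCat.of B)
    (he : e.hom.hom.comp ((X.presheaf.germ ⊤ (gs.base ξ) trivial).hom.comp (Coh.toGlobal f)) =
      algebraMap R B)
    (R' : Type u) [CommRing R'] [IsDomain R'] [IsDiscreteValuationRing R'] [Algebra R R']
    (hinj : Function.Injective (algebraMap R R')) [IsLocalHom (algebraMap R R')]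
    [Module.Finite (FractionRing R) (FractionRing R ⊗[R] R')] :
    ∃ _ : IsDomain (B ⊗[R] R'), IsDiscreteValuationRing (B ⊗[R] R') := by
  obtain ⟨π, hπ⟩ := IsDiscreteValuationRing.exists_irreducible R
  haveI : Smooth fK := SmoothOfRelativeDimension.smooth 1 fK
  obtain ⟨hB, hflat, hRB, hL⟩ := Groth.Agent.DVRTensor.isField_finite f hK hs ξ hξ B e he hπ
  haveI := hflat
  let K := FractionRing R
  let L := FractionRing R'
  letI : Algebra K L := (IsFractionRing.lift (A := R) (K := K) (g := algebraMap R L) (by
    rw [IsScalarTower.algebraMap_eq R R' L]
    exact (IsFractionRing.injective R' L).comp hinj)).toAlgebra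
  haveI : IsScalarTower R K L := IsScalarTower.of_algebraMap_eq fun r => (IsFractionRing.lift_algebraMap _ r).symm
  let φ : K ⊗[R] R' →ₐ[K] L := Algebra.TensorProduct.lift (Algebra.ofId K L) (IsScalarTower.toAlgHom R R' L)
    fun _ _ => Commute.all _ _
  haveI : FiniteDimensional K φ.range := Module.Finite.of_surjective φ.rangeRestrict.toLinearMap φ.rangeRestrict_surjective
  haveI : FiniteDimensional K L := by
    have hfld : ∀ z ∈ φ.range, z⁻¹ ∈ φ.range := fun z hz => Subalgebra.inv_mem_of_algebraic φ.range (x := ⟨z, hz⟩)
      (IsAlgebraic.algHom φ.range.val (Algebra.IsAlgebraic.isAlgebraic (R := K) (⟨z, hz⟩ : φ.range)))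
    have htop : φ.range = ⊤ := eq_top_iff.2 fun z _ => by
      obtain ⟨a, b, hb, rfl⟩ := IsFractionRing.div_surjective (A := R') z
      have hmem : ∀ c : R', algebraMap R' L c ∈ φ.range := fun c => ⟨(1 : K) ⊗ₜ c, by simp [φ]⟩
      rw [div_eq_mul_inv]
      exact mul_mem (hmem a) (hfld _ (hmem b))
    exact Module.Finite.of_surjective φ.range.val.toLinearMap fun z => ⟨⟨z, by rw [htop]; trivial⟩, rfl⟩
  have halg : ∀ x : R', IsAlgebraic R x := fun x =>
    (isAlgebraic_algHom_iff (IsScalarTower.toAlgHom R R' L) (IsFractionRing.injective R' L)).1
      ((IsFractionRing.isAlgebraic_iff R K L).2 (Algebra.IsAlgebraic.isAlgebraic _))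
  exact Groth.Agent.DVRTensor.isDVR_tensor hπ hB hinj halg (L := L) (hL L)

end Groth.Agent.S17019
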