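import Groth.Statements.S17021
import Groth.Agent.Lib.ParaFDesc27.BigOpen
-- import your own Groth.Agent.* helpers here

set_option autoImplicit false
universe u
open CategoryTheory CategoryTheory.Limits AlgebraicGeometry
open PicF

namespace Groth.Agent.S17021

/-- Let X be a locally Noetherian scheme all of whose local rings satisfy Serre's condition (S₂), p a
closed point of X whose local ring has Krull dimension 2, U the open complement of p and L an
invertible O_U-module. Suppose L extends to an invertible module over an étale neighbourhood of p: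
there are an étale morphism j : V → X, a point q of V with j(q) = p and an invertible O_V-module M
whose pullback to j⁻¹(U) is isomorphic to the pullback of L along j⁻¹(U) → U. Then L extends to X:
some invertible O_X-module has pullback to U isomorphic to L. (Stated for schemes; the published
statement is for a Deligne–Mumford stack of dimension 2 satisfying (S₂) and its proof passes to a
scheme on an étale chart. Dimension 2 is imposed here on the local ring at p. The published setting
takes everything essentially of finite type over a field of characteristic zero; here X is only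
assumed locally Noetherian.) -/
theorem result {X : Scheme.{u}} [IsLocallyNoetherian X]
    (hS2 : ∀ x : X, LocCoh.HasSk 2 (X.presheaf.stalk x) (X.presheaf.stalk x))
    (p : X) (hp : IsClosed ({p} : Set X)) (hdim : ringKrullDim (X.presheaf.stalk p) = 2)
    (U : X.Opens) (hU : (U : Set X) = {p}ᶜ)
    (L : (U : Scheme.{u}).Modules) (hL : PicF.IsInvertible L)
    {V : Scheme.{u}} (j : V ⟶ X) [Etale j] (q : V) (hq : j.base q = p)
    (M : V.Modules) (hM : PicF.IsInvertible M)
    (e : (Scheme.Modules.pullback (j ⁻¹ᵁ U).ι).obj M ≅ (Scheme.Modules.pullback (j ∣_ U)).obj L) :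
    ∃ N : X.Modules, PicF.IsInvertible N ∧ Nonempty ((Scheme.Modules.pullback U.ι).obj N ≅ L) := by
  open Groth.Agent in
  have hdp : ∀ x : X, x ∉ U → (2 : ℕ∞) ≤ LocCoh.depth (X.presheaf.stalk x) (X.presheaf.stalk x) := fun x hx => by
    obtain rfl : x = p := by
      by_contra h
      exact hx (show x ∈ (U : Set X) by rw [hU]; exact h)
    have h := FlatDepth.skIneq_self (hS2 x)
    rw [FlatDepth.SkIneq, hdim] at h
    simp only [Nat.cast_ofNat, min_self] at h
    exact WithBot.coe_le_coe.1 h
  let P := (Scheme.Modules.pushforward U.ι).obj L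
  let iU : (Scheme.Modules.pullback U.ι).obj P ≅ L :=
    ((Scheme.Modules.restrictFunctorIsoPullback U.ι).app P).symm ≪≫ ParaF27.counitIso U.ι L
  haveI : IsLocallyNoetherian V := LocallyOfFiniteType.isLocallyNoetherian j
  obtain ⟨i'⟩ := ParaFDesc27.nonempty_pullback_push_iso j U hdp hL hM e
  haveI : ∀ b : Bool, Flat ((Bool.rec ⟨_, U.ι⟩ ⟨_, j⟩ b : Σ S : Scheme.{u}, S ⟶ X).2) := by
    rintro (_ | _)
    · exact (inferInstance : Flat U.ι)
    · exact (inferInstance : Flat j)
  refine ⟨P, ParaFDesc27.isInvertible_of_pullback_family
    (fun b : Bool => (Bool.rec ⟨_, U.ι⟩ ⟨_, j⟩ b : Σ S : Scheme.{u}, S ⟶ X).2) ?_ (fun x => ?_)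
    (M1.isQCoh_push U.ι (Twist.isQCoh_of_isInvertible hL)) ?_, ⟨iU⟩⟩
  · rintro (_ | _)
    · exact U.ι.isOpenEmbedding.isOpenMap
    · exact j.isOpenMap
  · by_cases hx : x ∈ U
    · exact ⟨false, ⟨x, hx⟩, rfl⟩
    · refine ⟨true, q, hq.trans ?_⟩
      by_contra h
      exact hx (show x ∈ (U : Set X) by rw [hU]; exact fun h' => h h'.symm)
  · rintro (_ | _)
    · exact Twist.isInvertible_of_iso iU.symm hL
    · exact Twist.isInvertible_of_iso i'.symm hM


end Groth.Agent.S17021
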