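import Groth.Statements.S17022
import Groth.Agent.Lib.TwoPts17.Count
import Groth.Agent.Lib.Hurwitz17.Global
import Groth.Agent.Lib.HypEq17.Split
import Groth.Agent.Lib.SmDim19.RelDimVariety
import Groth.Agent.Lib.AlgClosedExt25.Geometry
import Groth.Agent.Lib.CurveCartier25.RelDim
import Groth.Agent.Lib.ProjSpace.Basic
import Groth.Agent.Lib.RegExt.P1
import Groth.Agent.S1536
import Groth.Agent.S7834
import Groth.Agent.S10829

set_option autoImplicit false
universe u
open CategoryTheory CategoryTheory.Limits AlgebraicGeometry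
open Curves

namespace Groth.Agent.S17022

/-- Let k be an algebraically closed field of characteristic zero, C a connected scheme which is proper
and smooth of relative dimension 1 over k, and f : C → P¹_k a surjective morphism over k which is
étale over the complement of two closed points p, q of P¹_k (p = q is allowed). Then C is isomorphic
to P¹_k over k, and f has exactly one point over p and exactly one point over q. (Existence of an
isomorphism only; the published statement moreover identifies f, in suitable coordinates, with (a :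
b) ↦ (aⁿ : bⁿ) for some n. The published statement leaves implicit that the ground field is
algebraically closed and that C is a connected smooth proper curve; its argument uses both, and over
a non-closed field the projective line over a finite extension is a connected cover with no
ramification.) -/
theorem result (k : Type u) [Field k]
    [IsAlgClosed k] [CharZero k] {C : Scheme.{u}} (s : C ⟶ Spec (CommRingCat.of k))
    [IsProper s] [SmoothOfRelativeDimension 1 s] [ConnectedSpace C]
    (f : C ⟶ CohB1.ProjSpace 1 k) (hf : f ≫ CohB1.ProjSpace.toSpec 1 k = s) [Surjective f]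
    (p q : ↥(CohB1.ProjSpace 1 k)) (hp : IsClosed ({p} : Set ↥(CohB1.ProjSpace 1 k))) (hq : IsClosed ({q} : Set ↥(CohB1.ProjSpace 1 k)))
    (W : (CohB1.ProjSpace 1 k).Opens) (hW : (W : Set ↥(CohB1.ProjSpace 1 k)) = {p, q}ᶜ) [Etale (f ∣_ W)] :
    (∃ e : C ≅ CohB1.ProjSpace 1 k, e.hom ≫ CohB1.ProjSpace.toSpec 1 k = s) ∧
      (∀ x y : C, f.base x = p → f.base y = p → x = y) ∧
      (∀ x y : C, f.base x = q → f.base y = q → x = y) := by
  classical
  let P1 := CohB1.ProjSpace 1 k
  letI : C.Over (Spec (CommRingCat.of k)) := ⟨s⟩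
  letI : P1.Over (Spec (CommRingCat.of k)) := ⟨CohB1.ProjSpace.toSpec 1 k⟩
  haveI : IsProper (C ↘ Spec (CommRingCat.of k)) := ‹IsProper s›
  haveI : SmoothOfRelativeDimension 1 (C ↘ Spec (CommRingCat.of k)) := ‹SmoothOfRelativeDimension 1 s›
  haveI : Smooth (C ↘ Spec (CommRingCat.of k)) := SmoothOfRelativeDimension.smooth 1 _
  haveI := Groth.Agent.ProjSpace.isProper_toSpec 1 k
  haveI : IsProper (P1 ↘ Spec (CommRingCat.of k)) := Groth.Agent.ProjSpace.isProper_toSpec 1 k
  haveI : SmoothOfRelativeDimension 1 (P1 ↘ Spec (CommRingCat.of k)) :=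
    Groth.Agent.ProjSpace.smoothOfRelativeDimension_toSpec 1 k
  haveI : Smooth (P1 ↘ Spec (CommRingCat.of k)) := SmoothOfRelativeDimension.smooth 1 _
  haveI : IsIntegral P1 := Groth.Agent.RegExt.isIntegral_projSpace 1 k
  haveI := Groth.Agent.VB17.isNoetherian_of_over (k := k) (X := C)
  haveI := Groth.Agent.VB17.isNoetherian_of_over (k := k) (X := P1)
  haveI : IsIntegral C := Groth.Agent.VB17.isIntegral_of_connected fun x =>
    SmoothReg17.isDomain_stalk (C ↘ Spec (CommRingCat.of k)) x
  haveI : JacobsonSpace C := LocallyOfFiniteType.jacobsonSpace (C ↘ Spec (CommRingCat.of k))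
  haveI : JacobsonSpace P1 := LocallyOfFiniteType.jacobsonSpace (P1 ↘ Spec (CommRingCat.of k))
  -- dimension
  have hdC : topologicalKrullDim C = 1 := by
    obtain ⟨z, -, hz⟩ := nonempty_inter_closedPoints (X := C) (Z := Set.univ) Set.univ_nonempty isClosed_univ.isLocallyClosed
    have h1 := VarDim.dim_eq_sdim_genericPoint (C ↘ Spec (CommRingCat.of k))
    have h2 := SmDim19.ringKrullDim_stalk_closed (C ↘ Spec (CommRingCat.of k)) h1 hz
    rw [SmDim19.ringKrullDim_stalk_of_isClosed (C ↘ Spec (CommRingCat.of k)) 1 hz] at h2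
    exact h1.trans h2.symm
  have hdP : topologicalKrullDim P1 = 1 := by rw [Groth.Agent.S10829.result k 1]; rfl
  have hnC : Pi1.IsNormalScheme C := fun x =>
    ⟨SmoothReg17.isDomain_stalk (C ↘ Spec (CommRingCat.of k)) x, SmoothReg17.isIntegrallyClosed_stalk (C ↘ Spec (CommRingCat.of k)) x⟩
  have hnP : Pi1.IsNormalScheme P1 := fun x =>
    ⟨SmoothReg17.isDomain_stalk (P1 ↘ Spec (CommRingCat.of k)) x, SmoothReg17.isIntegrallyClosed_stalk (P1 ↘ Spec (CommRingCat.of k)) x⟩
  -- the map
  have he : f (genericPoint C) = genericPoint P1 :=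
    Curve17.map_genericPoint hdP.le f (by
      obtain ⟨z, -, hz⟩ := nonempty_inter_closedPoints (X := P1) (Z := Set.univ) Set.univ_nonempty isClosed_univ.isLocallyClosed
      obtain ⟨a, ha⟩ := f.surjective z
      obtain ⟨b, hb⟩ := f.surjective (genericPoint P1)
      exact ⟨_, ⟨a, rfl⟩, _, ⟨b, rfl⟩, by rw [ha, hb]; exact Curve17.ne_genericPoint hdP hz⟩)
  haveI : IsProper (f ≫ (P1 ↘ Spec (CommRingCat.of k))) := by
    show IsProper (f ≫ CohB1.ProjSpace.toSpec 1 k)
    rw [hf]; infer_instance
  haveI : IsProper f := IsProper.of_comp f (P1 ↘ Spec (CommRingCat.of k))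
  haveI : IsFinite f := AmpleFin18.isFinite_of_nonconstant hdC.le hdP f he
  haveI : Flat f := CurveCoh17.flat_of_pid f (fun y => VB17.pid_stalk (k := k) hdP.le y) he
  haveI : LocallyOfFinitePresentation f := {
    finitePresentation_appLE := fun {U} hU {V} hV le =>
      haveI := IsLocallyNoetherian.component_noetherian (X := P1) ⟨U, hU⟩
      RingHom.FinitePresentation.of_finiteType.mp (f.finiteType_appLE hU hV le) }
  -- the degree
  letI algK := ((P1.presheaf.stalkSpecializes (specializes_of_eq he) ≫ f.stalkMap (genericPoint C)).hom).toAlgebra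
  have hA : FlatMod.IsFinLocFree (RelSpec.QCAlg.directImage f).toModule := CurveCoh17.isFinLocFree_pushO f
  obtain ⟨m, hm⟩ := VB17.exists_rank_of_isFinLocFree (CurveCoh17.isFinLocFree_pushO f)
  have hmn : Module.finrank P1.functionField C.functionField = m := Hurwitz17.rank_eq_finrank f he hA hm
  obtain ⟨N, hN⟩ : ∃ N, ∀ y, f.finrank y = N := ⟨f.finrank (genericPoint P1), fun y =>
    f.isLocallyConstant_finrank.apply_eq_of_preconnectedSpace _ _⟩
  have hNm : N = m := by
    rw [← hN (genericPoint P1), ← hmn]
    have h := Weight.fibreIntegral_wt_eq_finrank f (genericPoint P1)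
    rw [MoreMor.fibreIntegral, finsum_eq_single _ (⟨genericPoint C, he⟩ : {u : C // f u = genericPoint P1})
      fun u hu => absurd (Subtype.ext ((Curve17.map_eq_genericPoint_iff hdC.le hdP f he u.1).1 u.2)) hu] at h
    letI := (f.residueFieldMap (genericPoint C)).hom.toAlgebra
    have hres : Module.finrank P1.functionField C.functionField = f.residueDegree (genericPoint C) :=
      CurveOm17.finrank_genMap_eq_residueDegree f he
    have hwt : Weight.wt f (genericPoint C) =
        (Field.finInsepDegree (P1.residueField (f (genericPoint C))) (C.residueField (genericPoint C)) : ℤ) := by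
      have hF : IsField (C.presheaf.stalk (genericPoint C)) := Field.toIsField C.functionField
      have hF' : IsField (P1.presheaf.stalk (f (genericPoint C))) := by rw [he]; exact Field.toIsField P1.functionField
      rw [Weight.wt, IsLocalRing.isField_iff_maximalIdeal_eq.1 hF', Ideal.map_bot,
        ← IsLocalRing.isField_iff_maximalIdeal_eq.1 hF]
      haveI : IsSimpleModule (C.presheaf.stalk (genericPoint C))
          (C.presheaf.stalk (genericPoint C) ⧸ IsLocalRing.maximalIdeal (C.presheaf.stalk (genericPoint C))) :=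
        isSimpleModule_iff_isCoatom.2 (Ideal.isMaximal_def.1 inferInstance)
      rw [Module.length_eq_one]
      simp
      rfl
    rw [hwt] at h
    rw [hres, Scheme.Hom.residueDegree, ← Field.finSepDegree_mul_finInsepDegree (P1.residueField (f (genericPoint C)))
      (C.residueField (genericPoint C))]
    have h' : ((f.finrank (genericPoint P1) : ℤ)) = _ := h.symm
    rw [mul_comm]
    exact_mod_cast h'
  have hN1 : 1 ≤ m := by
    rw [← hNm, ← hN (genericPoint P1)]
    exact f.one_le_finrank_iff_surjective.2 inferInstance _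
  haveI : FiniteDimensional P1.functionField C.functionField :=
    Module.finite_of_finrank_pos (by omega)
  have hsep : Algebra.IsSeparable P1.functionField C.functionField := by
    haveI : CharZero P1.functionField := charZero_of_injective_ringHom
      ((CurveCoh17.stalkRingMap k (genericPoint P1)) : k →+* P1.presheaf.stalk (genericPoint P1)).injective
    infer_instance
  -- closed points
  have hclC : ∀ (x : C) (y : P1), IsClosed ({y} : Set P1) → f x = y → IsClosed ({x} : Set C) := fun x y hy hx =>
    Curve17.isClosed_singleton hdC.le fun h => Curve17.ne_genericPoint hdP hy (by rw [← hx, h, he])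
  have hdvr : ∀ x : C, IsClosed ({x} : Set C) →
      ∃ h : IsDomain (C.presheaf.stalk x), @IsDiscreteValuationRing (C.presheaf.stalk x) _ h := fun x hx => by
    haveI := SmoothReg17.isIntegrallyClosed_stalk (C ↘ Spec (CommRingCat.of k)) x
    exact ⟨inferInstance, Curve17.isDiscreteValuationRing_stalk hdC hx⟩
  have hram : ∀ x : C, IsClosed ({x} : Set C) → ∃ n, 1 ≤ n ∧
      Ideal.map (f.stalkMap x).hom (IsLocalRing.maximalIdeal (P1.presheaf.stalk (f x))) =
        IsLocalRing.maximalIdeal (C.presheaf.stalk x) ^ n ∧ Hurwitz17.ramIdx f x = n := by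
    intro x hx
    obtain ⟨hdom, hd⟩ := hdvr x hx
    haveI := hdom
    haveI := hd
    letI := (f.stalkMap x).hom.toAlgebra
    haveI : IsLocalHom (algebraMap (P1.presheaf.stalk (f x)) (C.presheaf.stalk x)) :=
      inferInstanceAs (IsLocalHom (f.stalkMap x).hom)
    obtain ⟨ϖ, hϖ⟩ := IsDiscreteValuationRing.exists_irreducible (C.presheaf.stalk x)
    have hne : (IsLocalRing.maximalIdeal (P1.presheaf.stalk (f x))).map
        (algebraMap (P1.presheaf.stalk (f x)) (C.presheaf.stalk x)) ≠ ⊥ := by
      rw [ne_eq, Ideal.map_eq_bot_iff_of_injective (f := algebraMap (P1.presheaf.stalk (f x)) (C.presheaf.stalk x))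
        (Curve17.stalkMap_injective f he x), ← IsLocalRing.isField_iff_maximalIdeal_eq]
      intro hF
      have h1 := ringKrullDim_eq_zero_of_isField hF
      rw [Curve17.ringKrullDim_stalk hdP (by simpa using f.isClosedMap _ hx)] at h1
      exact one_ne_zero h1
    obtain ⟨n, hn⟩ := IsDiscreteValuationRing.ideal_eq_span_pow_irreducible hne hϖ
    have hmap : (IsLocalRing.maximalIdeal (P1.presheaf.stalk (f x))).map
        (algebraMap (P1.presheaf.stalk (f x)) (C.presheaf.stalk x)) = IsLocalRing.maximalIdeal (C.presheaf.stalk x) ^ n := by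
      rw [hn, hϖ.maximalIdeal_eq, Ideal.span_singleton_pow]
    refine ⟨n, Nat.one_le_iff_ne_zero.2 fun h0 => ?_, hmap,
      Hurwitz17.ramificationIdx_eq_of_map_eq (IsDiscreteValuationRing.not_a_field _) hmap⟩
    rw [h0, pow_zero, Ideal.one_eq_top] at hmap
    exact (IsLocalRing.maximalIdeal.isMaximal (C.presheaf.stalk x)).ne_top (top_le_iff.1
      (hmap.ge.trans (IsLocalRing.map_maximalIdeal_le (algebraMap (P1.presheaf.stalk (f x)) (C.presheaf.stalk x)))))
  -- Hurwitz
  let F : C → ℤ := fun x => letI := Curv2.resAlgebra k C x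
    if IsClosed ({x} : Set C) then ((Hurwitz17.ramIdx f x - 1 : ℕ) : ℤ) * (Module.finrank k (C.residueField x) : ℤ) else 0
  obtain ⟨-, heq⟩ := Hurwitz17.hurwitz (k := k) hdC hdP hnC hnP f hf he hsep F (fun x hx => if_pos hx) (fun x hx => if_neg hx)
  have hS := heq.2 fun x hx => TwoPts17.tameAt_of_charZero f hf hx (by simpa using f.isClosedMap _ hx)
    (by obtain ⟨n, hn, -, h⟩ := hram x hx; omega)
  let P : Finset P1 := {p, q}
  have hP : ∀ y ∈ P, IsClosed ({y} : Set P1) := by
    intro y hy
    rcases Finset.mem_insert.1 hy with rfl | hy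
    · exact hp
    · rw [Finset.mem_singleton] at hy; exact hy ▸ hq
  have hfib : ∀ y : P1, ({x : C | f x = y} : Set C).Finite := fun y =>
    (f.finite_preimage (Set.finite_singleton y)).subset fun x hx => hx
  let T : P1 → Finset C := fun y => (hfib y).toFinset
  have hT : ∀ y x, x ∈ T y ↔ f x = y := fun y x => Set.Finite.mem_toFinset _
  have hout : ∀ x : C, f x ∉ P → F x = 0 := by
    intro x hx
    by_cases hxc : IsClosed ({x} : Set C)
    · obtain ⟨n, hn1, hmap, hn⟩ := hram x hxc
      have hxW : x ∈ f ⁻¹ᵁ W := show f x ∈ (W : Set P1) by rw [hW]; simpa [P] using hx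
      haveI : FormallyUnramified ((f ⁻¹ᵁ W).ι ≫ f) := by
        rw [← morphismRestrict_ι]; infer_instance
      have h1 := ((EtaleNhd17.formallyUnramified_stalkMap_iff_map_eq f x).1
        (EtaleNhd17.formallyUnramified_stalkMap_of_nhd f x hxW)).2
      obtain ⟨hdom, hd⟩ := hdvr x hxc
      haveI := hdom
      haveI := hd
      letI := (f.stalkMap x).hom.toAlgebra
      haveI : IsLocalHom (algebraMap (P1.presheaf.stalk (f x)) (C.presheaf.stalk x)) :=
        inferInstanceAs (IsLocalHom (f.stalkMap x).hom)
      have h2 : Hurwitz17.ramIdx f x = 1 :=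
        Hurwitz17.ramificationIdx_eq_of_map_eq (IsDiscreteValuationRing.not_a_field _) (h1.trans (pow_one _).symm)
      simp [F, hxc, h2]
    · exact if_neg hxc
  have hsum : (∑ᶠ x, F x) = ∑ y ∈ P, ((N : ℤ) - (T y).card) := by
    rw [finsum_eq_sum_of_support_subset F (s := P.biUnion T) (fun x hx => by
        rw [Finset.mem_coe, Finset.mem_biUnion]
        exact ⟨f x, by_contra fun h => hx (hout x h), (hT _ x).2 rfl⟩),
      Finset.sum_biUnion fun y _ y' _ hne => Finset.disjoint_left.2 fun x h h' =>
        hne (((hT y x).1 h).symm.trans ((hT y' x).1 h'))]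
    refine Finset.sum_congr rfl fun y hy => ?_
    have hsumy := TwoPts17.sum_ramIdx (k := k) f hf hdvr (hP y hy)
      (fun x hx => by obtain ⟨n, hn1, hmap, -⟩ := hram x (hclC x y (hP y hy) hx); exact ⟨n, hn1, hmap⟩)
      (fun x hx => hclC x y (hP y hy) hx) (T y) (hT y)
    rw [← hN y, ← hsumy, Nat.cast_sum, Finset.card_eq_sum_ones, Nat.cast_sum, ← Finset.sum_sub_distrib]
    refine Finset.sum_congr rfl fun x hx => ?_
    have hxc := hclC x y (hP y hy) ((hT y x).1 hx)
    obtain ⟨n, hn1, -, hn⟩ := hram x hxc
    simp only [F, if_pos hxc, TwoPts17.finrank_residueField_eq_one (k := k) hxc, hn]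
    omega
  -- Euler characteristics
  have hχP : Curv2.euler k P1 (Coh.structureModule P1) = 1 := by
    obtain ⟨z⟩ := Groth.Agent.Twist.nonempty_twist_zero_iso (CohB1.polyGrading 1 k)
    rw [← HypEq17.euler_twist_zero (k := k)]
    exact (CurveCoh17.euler_iso (k := k) z).symm
  have hχC : Curv2.euler k C (Coh.structureModule C) = 1 - (Curv2.genus k C : ℤ) := by
    haveI : GeometricallyConnected (C ↘ Spec (CommRingCat.of k)) := AlgClosedExt25.geometricallyConnected_of_connected _
    haveI := Groth.Agent.GeomRed.geometricallyReduced_of_smooth (k := k) (X := C)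
    have hh0 := Groth.Agent.S1536.result k C
    rw [((VB17.curveLike (k := k) hdC).adm CurveCoh17.isCoh_structureModule).euler_eq, hh0]
    rfl
  have hcount : 2 * (1 - (Curv2.genus k C : ℤ)) = 2 * (N : ℤ) - ∑ y ∈ P, ((N : ℤ) - (T y).card) := by
    have h1 := hS
    rw [hsum, hmn, ← hNm, hχP, hχC] at h1
    linarith
  have hTpos : ∀ y, 1 ≤ (T y).card := fun y => by
    obtain ⟨x, hx⟩ := f.surjective y
    exact Finset.card_pos.2 ⟨x, (hT y x).2 hx⟩
  rw [Finset.sum_sub_distrib, Finset.sum_const, nsmul_eq_mul] at hcount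
  have hPc : P.card ≤ 2 := Finset.card_insert_le _ _
  have hPpos : 1 ≤ P.card := Finset.card_pos.2 ⟨p, Finset.mem_insert_self _ _⟩
  have hlow : ∀ y ∈ P, ((T y).card : ℤ) - 1 ≤ ∑ z ∈ P, ((T z).card : ℤ) - P.card := fun y hy => by
    have h1 : ∑ z ∈ P, ((T z).card : ℤ) - P.card = ∑ z ∈ P, (((T z).card : ℤ) - 1) := by
      rw [Finset.sum_sub_distrib, Finset.sum_const, nsmul_eq_mul, mul_one]
    rw [h1]
    exact Finset.single_le_sum (f := fun z => ((T z).card : ℤ) - 1)
      (fun z _ => by have := hTpos z; omega) hy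
  have hN1' : (1 : ℤ) ≤ N := by omega
  have hprod : 0 ≤ ((2 : ℤ) - P.card) * ((N : ℤ) - 1) := mul_nonneg (by omega) (by omega)
  have hg0 : Curv2.genus k C = 0 := by
    have h1 := hlow p (Finset.mem_insert_self _ _)
    have h2 := hTpos p
    nlinarith
  have hone : ∀ y ∈ P, ∀ a b : C, f a = y → f b = y → a = b := fun y hy a b ha hb => by
    have h1 := hlow y hy
    have h2 : (T y).card ≤ 1 := by
      rw [hg0] at hcount
      push_cast at hcount
      nlinarith
    exact Finset.card_le_one.1 h2 a ((hT y a).2 ha) b ((hT y b).2 hb)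
  refine ⟨?_, hone p (Finset.mem_insert_self _ _), hone q (by simp [P])⟩
  haveI : GeometricallyConnected (C ↘ Spec (CommRingCat.of k)) := AlgClosedExt25.geometricallyConnected_of_connected _
  haveI : GeometricallyIntegral (C ↘ Spec (CommRingCat.of k)) := by
    refine ⟨fun L _ x Z p₁ p₂ hZ => ?_⟩
    letI : Z.Over (Spec (CommRingCat.of L)) := ⟨p₂⟩
    haveI : IsProper (Z ↘ Spec (CommRingCat.of L)) := MorphismProperty.of_isPullback (P := @IsProper) hZ inferInstance
    haveI : Smooth (Z ↘ Spec (CommRingCat.of L)) := MorphismProperty.of_isPullback (P := @Smooth) hZ inferInstance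
    haveI : GeometricallyConnected (Z ↘ Spec (CommRingCat.of L)) :=
      MorphismProperty.of_isPullback (P := @GeometricallyConnected) hZ inferInstance
    exact Groth.Agent.VB17.isIntegral_of_smooth (k := L) (X := Z)
  exact Groth.Agent.S7834.result k C hdC hg0

end Groth.Agent.S17022
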