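import Groth.Statements.S17023
import Mathlib

set_option autoImplicit false
universe u
open FlatMor

namespace Groth.Agent.S17023

open IsLocalRing TensorProduct
section Aux
/-- local, maximal ideal generated by a regular element -/
theorem isDomain_of_maximalIdeal_span_regular {R : Type u} [CommRing R] [IsNoetherianRing R] [IsLocalRing R]
    {t : R} (ht : maximalIdeal R = Ideal.span {t}) (hreg : ∀ x, t * x = 0 → x = 0) : IsDomain R := by
  classical
  have key : ∀ x : R, x ≠ 0 → ∃ (n : ℕ) (v : R), IsUnit v ∧ x = t ^ n * v := by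
    intro x hx
    have hex : ∃ n, x ∉ maximalIdeal R ^ n := by
      by_contra h
      push Not at h
      have : x ∈ ⨅ n, maximalIdeal R ^ n := (Submodule.mem_iInf _).2 h
      have hk := Ideal.iInf_pow_eq_bot_of_isLocalRing (R := R) (maximalIdeal R) (maximalIdeal.isMaximal R).ne_top
      rw [hk] at this
      exact hx this
    obtain ⟨n, hn, hmin⟩ : ∃ n, x ∉ maximalIdeal R ^ n ∧ ∀ k < n, ¬ (x ∉ maximalIdeal R ^ k) :=
      ⟨Nat.find hex, Nat.find_spec hex, fun k => Nat.find_min hex⟩
    rcases n with _ | n
    · simp at hn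
    · have h := hmin n (Nat.lt_succ_self n)
      rw [not_not, ht, Ideal.span_singleton_pow, Ideal.mem_span_singleton'] at h
      obtain ⟨v, rfl⟩ := h
      refine ⟨n, v, ?_, mul_comm _ _⟩
      by_contra hv
      refine hn ?_
      have hv' : v ∈ maximalIdeal R := hv
      rw [ht] at hv' ⊢
      obtain ⟨w, rfl⟩ := Ideal.mem_span_singleton'.1 hv'
      rw [Ideal.span_singleton_pow, Ideal.mem_span_singleton']
      exact ⟨w, by ring⟩
  haveI : NoZeroDivisors R := ⟨fun {x y} h => by
    by_contra hno
    push Not at hno
    obtain ⟨a, v, hv, rfl⟩ := key x hno.1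
    obtain ⟨b, w, hw, rfl⟩ := key y hno.2
    have hpow : ∀ (n : ℕ) (z : R), t ^ n * z = 0 → z = 0 := by
      intro n
      induction n with
      | zero => intro z hz; simpa using hz
      | succ n ih => intro z hz; exact hreg z (ih _ (by rw [← mul_assoc, ← pow_succ]; exact hz))
    have h2 : t ^ (a + b) * (v * w) = 0 := by rw [← h]; ring
    exact (hv.mul hw).ne_zero (hpow _ _ h2)⟩
  exact NoZeroDivisors.to_isDomain R

theorem core {B C : Type u} [CommRing B] [IsDomain B] [IsDiscreteValuationRing B] [CommRing C] [Algebra B C]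
    [Algebra.Etale B C] (P : Ideal C) [P.IsPrime] (hP : P.comap (algebraMap B C) = maximalIdeal B)
    (hres : ∀ c : C, ∃ b : B, c - algebraMap B C b ∈ P) :
    ∃ (_ : IsDomain (Localization.AtPrime P)) (_ : IsDiscreteValuationRing (Localization.AtPrime P)),
      Function.Injective (algebraMap B (Localization.AtPrime P)) ∧
      (maximalIdeal B).map (algebraMap B (Localization.AtPrime P)) = maximalIdeal (Localization.AtPrime P) ∧
      Function.Surjective ((residue (Localization.AtPrime P)).comp (algebraMap B (Localization.AtPrime P))) := by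
  let T := Localization.AtPrime P
  haveI : IsNoetherianRing C := Algebra.FiniteType.isNoetherianRing B C
  haveI : Module.Flat B T := Module.Flat.trans B C T
  have hloc : IsLocalHom (algebraMap B T) := ⟨fun b hb => by
    by_contra hnb
    have h1 : algebraMap B C b ∈ P := hP.ge hnb
    rw [IsScalarTower.algebraMap_apply B C T] at hb
    exact (mem_maximalIdeal _).1 ((IsLocalization.AtPrime.to_map_mem_maximal_iff T P _).2 h1) hb⟩
  haveI := hloc
  haveI : Module.FaithfullyFlat B T := Module.FaithfullyFlat.of_flat_of_isLocalHom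
  have hinj := FaithfulSMul.algebraMap_injective B T
  haveI : Algebra.FormallyUnramified C T := .of_isLocalization P.primeCompl
  haveI : Algebra.FormallyUnramified B T := .comp B C T
  haveI : Algebra.EssFiniteType B T := Algebra.EssFiniteType.comp B C T
  have hm : (maximalIdeal B).map (algebraMap B T) = maximalIdeal T := Algebra.FormallyUnramified.map_maximalIdeal
  obtain ⟨π, hπ⟩ := IsDiscreteValuationRing.exists_irreducible B
  have ht : maximalIdeal T = Ideal.span {algebraMap B T π} := by
    rw [← hm, hπ.maximalIdeal_eq, Ideal.map_span, Set.image_singleton]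
  haveI : IsDomain T := isDomain_of_maximalIdeal_span_regular ht fun x hx => by
    have h2 := Module.Flat.isSMulRegular_of_isRegular (M := T) (IsRegular.of_ne_zero hπ.ne_zero)
    exact h2 (show π • x = π • 0 by rw [smul_zero, Algebra.smul_def, hx])
  have hnf : ¬ IsField T := fun hF => by
    have h0 : algebraMap B T π = 0 := by
      have := (IsLocalRing.isField_iff_maximalIdeal_eq.1 hF)
      rw [ht, Ideal.span_singleton_eq_bot] at this
      exact this
    exact hπ.ne_zero (hinj (h0.trans (map_zero _).symm))
  haveI hdvr : IsDiscreteValuationRing T :=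
    ((IsDiscreteValuationRing.TFAE T hnf).out 4 0).mp (⟨⟨algebraMap B T π, ht⟩⟩ : (maximalIdeal T).IsPrincipal)
  refine ⟨inferInstance, hdvr, hinj, hm, fun y => ?_⟩
  obtain ⟨y, rfl⟩ := residue_surjective y
  obtain ⟨⟨c, s⟩, rfl⟩ := IsLocalization.mk'_surjective P.primeCompl y
  obtain ⟨b₁, h₁⟩ := hres c
  obtain ⟨b₂, h₂⟩ := hres s.1
  have hz : ∀ z : C, z ∈ P → residue T (algebraMap C T z) = 0 := fun z hz =>
    (residue_eq_zero_iff _).2 ((IsLocalization.AtPrime.to_map_mem_maximal_iff T P _).2 hz)
  have e₁ : residue T (algebraMap C T c) = residue T (algebraMap B T b₁) := by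
    rw [IsScalarTower.algebraMap_apply B C T, ← sub_eq_zero, ← map_sub, ← map_sub]; exact hz _ h₁
  have e₂ : residue T (algebraMap C T s.1) = residue T (algebraMap B T b₂) := by
    rw [IsScalarTower.algebraMap_apply B C T, ← sub_eq_zero, ← map_sub, ← map_sub]; exact hz _ h₂
  have hu : IsUnit b₂ := by
    by_contra h
    exact s.2 (by simpa using add_mem h₂ (hP.ge h : algebraMap B C b₂ ∈ P))
  obtain ⟨i, hi⟩ := hu.exists_left_inv
  refine ⟨i * b₁, ?_⟩
  show residue T (algebraMap B T (i * b₁)) = residue T (IsLocalization.mk' T c s)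
  refine mul_right_cancel₀ (b := residue T (algebraMap B T b₂)) ?_ ?_
  · rw [← RingHom.comp_apply]; exact (hu.map _).ne_zero
  · rw [← map_mul, ← map_mul, mul_right_comm, hi, one_mul, ← e₂, ← map_mul, IsLocalization.mk'_spec, e₁]

end Aux


/-- Let B be a discrete valuation ring, A a B-algebra of finite type and p a prime ideal of A which lies
over the maximal ideal of B (a point of the special fibre), at which A is smooth over B (the
localization A_p is formally smooth over B), and such that B maps onto the residue field κ(p). Then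
there are a discrete valuation ring B' and a ring map ψ : A → B' pulling the maximal ideal of B'
back to p, such that the composite B → A → B' is injective, the maximal ideal of B generates the
maximal ideal of B', and B maps onto the residue field of B'; in other words Spec B' → Spec A → Spec
B is surjective and unramified with trivial residue field extension. (The published statement does
not say that the closed point of Spec B' goes to p; it is required here. The published setting takes
A essentially of finite type over a field of characteristic zero; here A is taken of finite type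
over B, with no ground field.) -/
theorem result
    (B : Type u) [CommRing B] [IsDomain B] [IsDiscreteValuationRing B]
    (A : Type u) [CommRing A] [Algebra B A] [Algebra.FiniteType B A]
    (p : Ideal A) [p.IsPrime] (hp : p.comap (algebraMap B A) = IsLocalRing.maximalIdeal B)
    [Algebra.IsSmoothAt B p]
    (hres : Function.Surjective ((algebraMap A p.ResidueField).comp (algebraMap B A))) :
    ∃ (B' : Type u) (_ : CommRing B') (_ : IsDomain B') (_ : IsDiscreteValuationRing B') (ψ : A →+* B'),
      Ideal.comap ψ (IsLocalRing.maximalIdeal B') = p ∧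
      Function.Injective (ψ.comp (algebraMap B A)) ∧
      Ideal.map (ψ.comp (algebraMap B A)) (IsLocalRing.maximalIdeal B) = IsLocalRing.maximalIdeal B' ∧
      Function.Surjective ((IsLocalRing.residue B').comp (ψ.comp (algebraMap B A))) := by
  classical
  haveI : Algebra.FinitePresentation B A := Algebra.FinitePresentation.of_finiteType.1 ‹_›
  obtain ⟨f, hf, n, _, _, _⟩ := Algebra.IsSmoothAt.exists_isStandardEtale_mvPolynomial (R := B) (p := p)
  let Af := Localization.Away f
  let κ := p.ResidueField
  let πA : Af →+* κ := IsLocalization.Away.lift f (g := algebraMap A κ)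
    (IsUnit.mk0 _ fun h => hf (Ideal.algebraMap_residueField_eq_zero.1 h))
  have hπA : ∀ a, πA (algebraMap A Af a) = algebraMap A κ a := fun a => IsLocalization.Away.lift_eq f _ a
  have hA : ∀ b : B, πA (algebraMap B Af b) = algebraMap A κ (algebraMap B A b) := fun b => by
    rw [IsScalarTower.algebraMap_apply B A Af, hπA]
  choose bs hbs using fun i => hres (πA (algebraMap (MvPolynomial (Fin n) B) Af (MvPolynomial.X i)))
  letI : Algebra (MvPolynomial (Fin n) B) B := (MvPolynomial.aeval bs).toRingHom.toAlgebra
  let πB : B →+* κ := (algebraMap A κ).comp (algebraMap B A)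
  letI : Algebra (MvPolynomial (Fin n) B) κ := (πA.comp (algebraMap (MvPolynomial (Fin n) B) Af)).toAlgebra
  let gA : Af →ₐ[MvPolynomial (Fin n) B] κ := { πA with commutes' := fun _ => rfl }
  have hcomm : ∀ q : MvPolynomial (Fin n) B, πB (MvPolynomial.aeval bs q) =
      πA (algebraMap (MvPolynomial (Fin n) B) Af q) := fun q => by
    refine DFunLike.congr_fun (MvPolynomial.ringHom_ext (f := πB.comp (MvPolynomial.aeval bs).toRingHom)
      (g := πA.comp (algebraMap (MvPolynomial (Fin n) B) Af)) (fun b => ?_) fun i => ?_) q
    · show πB (MvPolynomial.aeval bs (MvPolynomial.C b)) = πA (algebraMap (MvPolynomial (Fin n) B) Af (MvPolynomial.C b))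
      rw [MvPolynomial.aeval_C, ← MvPolynomial.algebraMap_eq, ← IsScalarTower.algebraMap_apply B _ Af, hA]
      rfl
    · show πB (MvPolynomial.aeval bs (MvPolynomial.X i)) = _
      rw [MvPolynomial.aeval_X]
      exact hbs i
  let gB : B →ₐ[MvPolynomial (Fin n) B] κ := { πB with commutes' := hcomm }
  let π : B ⊗[MvPolynomial (Fin n) B] Af →ₐ[MvPolynomial (Fin n) B] κ :=
    Algebra.TensorProduct.lift gB gA fun _ _ => Commute.all _ _
  let P : Ideal (B ⊗[MvPolynomial (Fin n) B] Af) := RingHom.ker π
  haveI : P.IsPrime := RingHom.ker_isPrime _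
  have hπ1 : ∀ b : B, π (algebraMap B (B ⊗[MvPolynomial (Fin n) B] Af) b) = πB b := fun b => by
    show π (b ⊗ₜ 1) = _
    rw [Algebra.TensorProduct.lift_tmul, map_one, mul_one]; rfl
  have hπ2 : ∀ a : Af, π (1 ⊗ₜ a) = πA a := fun a => by
    rw [Algebra.TensorProduct.lift_tmul, map_one, one_mul]; rfl
  have hP : P.comap (algebraMap B (B ⊗[MvPolynomial (Fin n) B] Af)) = maximalIdeal B := by
    rw [← hp]
    ext b
    rw [Ideal.mem_comap, RingHom.mem_ker, hπ1, Ideal.mem_comap]
    exact Ideal.algebraMap_residueField_eq_zero
  have hres' : ∀ c, ∃ b : B, c - algebraMap B (B ⊗[MvPolynomial (Fin n) B] Af) b ∈ P := fun c => by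
    obtain ⟨b, hb⟩ := hres (π c)
    exact ⟨b, by rw [RingHom.mem_ker, map_sub, hπ1, sub_eq_zero]; exact hb.symm⟩
  obtain ⟨i1, i2, hinj, hmap, hsurj⟩ := core P hP hres'
  let inR : A →+* B ⊗[MvPolynomial (Fin n) B] Af :=
    (Algebra.TensorProduct.includeRight : Af →ₐ[MvPolynomial (Fin n) B] _).toRingHom.comp (algebraMap A Af)
  let ψ : A →+* Localization.AtPrime P := (algebraMap _ (Localization.AtPrime P)).comp inR
  have hψ : ψ.comp (algebraMap B A) = algebraMap B (Localization.AtPrime P) := RingHom.ext fun b => by
    rw [IsScalarTower.algebraMap_apply B (B ⊗[MvPolynomial (Fin n) B] Af) (Localization.AtPrime P)]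
    show algebraMap _ (Localization.AtPrime P) ((1 : B) ⊗ₜ[MvPolynomial (Fin n) B] algebraMap A Af (algebraMap B A b)) = _
    congr 1
    rw [← IsScalarTower.algebraMap_apply B A Af, IsScalarTower.algebraMap_apply B (MvPolynomial (Fin n) B) Af,
      Algebra.algebraMap_eq_smul_one (R := MvPolynomial (Fin n) B) (A := Af), ← TensorProduct.smul_tmul,
      Algebra.smul_def, mul_one, RingHom.algebraMap_toAlgebra]
    show MvPolynomial.aeval bs (MvPolynomial.C b) ⊗ₜ[MvPolynomial (Fin n) B] (1 : Af) = b ⊗ₜ 1
    rw [MvPolynomial.aeval_C]; rfl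
  refine ⟨Localization.AtPrime P, inferInstance, i1, i2, ψ, ?_, ?_, ?_, ?_⟩
  · ext a
    rw [Ideal.mem_comap, RingHom.comp_apply, IsLocalization.AtPrime.to_map_mem_maximal_iff _ P, RingHom.mem_ker]
    show π (1 ⊗ₜ algebraMap A Af a) = 0 ↔ _
    rw [hπ2, hπA]
    exact Ideal.algebraMap_residueField_eq_zero
  · rw [hψ]; exact hinj
  · rw [hψ]; exact hmap
  · rw [hψ]; exact hsurj

end Groth.Agent.S17023
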