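import Groth.Statements.S17029
import Groth.Agent.Lib.FormalModH7.IndCoh
import Groth.Agent.Lib.FormalModH7.Coref
import Groth.Agent.Lib.FormalModH7.SmallGen

set_option autoImplicit false
open CategoryTheory CategoryTheory.Limits
universe u
open FSch

namespace Groth.Agent.S17029

/-- On a locally Noetherian formal scheme 𝔛 (an adic system of thickenings with locally Noetherian
levels), the inclusion functor from the full subcategory of O_𝔛-modules that are small filtered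
colimits of coherent O_𝔛-modules into all O_𝔛-modules admits a right adjoint. -/
theorem result (𝔛 : FSch.Sys.{u}) (h𝔛 : 𝔛.IsLocNoethFormal) :
    (ObjectProperty.ind.{u} fun 𝔊 : FSch.ModF 𝔛 h𝔛.1 => FSch.IsCohF 𝔛 h𝔛.1 𝔊).ι.IsLeftAdjoint := by
  let Q : ObjectProperty (FSch.ModF 𝔛 h𝔛.1) :=
    ObjectProperty.isoClosure fun 𝔊 : FSch.ModF 𝔛 h𝔛.1 => FSch.IsCohF 𝔛 h𝔛.1 𝔊
  obtain ⟨A, G, hG, hA⟩ := FormalModH7.exists_small_of_finiteType (𝔛.Osh h𝔛.1) Q fun M hM => by
    obtain ⟨N, hN, ⟨e⟩⟩ := hM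
    haveI : SheafOfModules.IsFinitePresentation (R := ModSite.ringSh (𝔛.Osh h𝔛.1)) N := hN
    exact FormalModH7.isFiniteType_of_epi h𝔛 e.inv
  refine FormalModH7.isLeftAdjoint_ι_of_generators _ (fun J _ D hD => FormalModH7.ind_colimit h𝔛 D _ (colimit.isColimit D) hD)
    (fun f hX hY => FormalModH7.ind_cokernel h𝔛 f hX hY) G (fun a => ?_) fun X hX => ?_
  · obtain ⟨N, hN, ⟨e⟩⟩ := hG a
    exact ObjectProperty.prop_of_iso _ e.symm (FormalModH7.ind_coh h𝔛 hN)
  · obtain ⟨J, inst, _, pres, hp⟩ := hX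
    exact ⟨J, inst, pres, fun j => hA _ (Q.prop_of_iso (Iso.refl _) (ObjectProperty.le_isoClosure _ _ (hp j)))⟩

end Groth.Agent.S17029
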