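import Groth.Statements.S17037
import Groth.Agent.Lib.FormalModH7.GlobalPres
import Groth.Agent.S3855

set_option autoImplicit false
open CategoryTheory CategoryTheory.Limits
universe u
open FSch

namespace Groth.Agent.S17037

/-- Let A be a Noetherian ring, I an ideal, and 𝔛 the affine Noetherian formal scheme presented by the
system Spec(A/I^(n+1)) (the formal spectrum of the I-adic completion of A; the published statement
is for an arbitrary affine Noetherian formal scheme, which is of this form). Then an O_𝔛-module is a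
small filtered colimit of coherent O_𝔛-modules if and only if it is isomorphic to the cokernel of a
morphism of free O_𝔛-modules (direct sums of copies of O_𝔛 over arbitrary small index sets). -/
theorem result (A : Type u) [CommRing A] [IsNoetherianRing A] (I : Ideal A)
    (h : (FSch.spf A I).IsFormal) (𝔉 : FSch.ModF (FSch.spf A I) h) :
    (ObjectProperty.ind.{u} fun 𝔊 : FSch.ModF (FSch.spf A I) h => FSch.IsCohF (FSch.spf A I) h 𝔊) 𝔉 ↔
      ∃ (α β : Type u) (φ : (SheafOfModules.free α : FSch.ModF (FSch.spf A I) h) ⟶ SheafOfModules.free β),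
        Nonempty (cokernel φ ≅ 𝔉) := by
  classical
  have hN : (FSch.spf A I).IsLocNoethFormal := Groth.Agent.S3855.result A I
  have hV : AlgebraicGeometry.IsAffineOpen (⊤ : ((FSch.spf A I).X 0).Opens) := AlgebraicGeometry.isAffineOpen_top
    (AlgebraicGeometry.Spec (CommRingCat.of (A ⧸ I ^ (0 + 1))))
  haveI hc : CompactSpace ((FSch.spf A I).X 0) := isCompact_univ_iff.1 hV.isCompact
  constructor
  · rintro ⟨J, _, _, pres, hpres⟩
    have Q : ∀ j, FormalModH7.QData hN (pres.diag.obj j) ⊤ := fun j =>
      haveI : SheafOfModules.IsFinitePresentation.{u} (pres.diag.obj j) := hpres j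
      (FormalModH7.qdata_coh hN (pres.diag.obj j) hV).some
    obtain ⟨α, φ, e⟩ := FormalModH7.exists_coker_free
      (FormalModH7.genF_colim pres.diag (Cocone.mk _ pres.ι) pres.isColimit fun j => ⟨_, _, (Q j).gen⟩)
      (FormalModH7.relF_colim pres.diag (Cocone.mk _ pres.ι) pres.isColimit fun j _ t => (Q j).rel t)
    exact ⟨α, _, φ, e⟩
  · rintro ⟨α, β, φ, ⟨e⟩⟩
    obtain ⟨hcol⟩ := FormalModH7.isColimit_part (φ := φ)
    haveI : Nonempty (FormalModH7.Part φ) := ⟨(FormalModH7.exists_part ∅ ∅).choose⟩
    haveI : IsDirected (FormalModH7.Part φ) (· ≤ ·) := ⟨fun p q => by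
      obtain ⟨r, h₁, h₂⟩ := FormalModH7.exists_part (φ := φ) (p.1.1 ∪ q.1.1) (p.1.2 ∪ q.1.2)
      exact ⟨r, ⟨Finset.subset_union_left.trans h₁, Finset.subset_union_left.trans h₂⟩,
        ⟨Finset.subset_union_right.trans h₁, Finset.subset_union_right.trans h₂⟩⟩⟩
    refine ObjectProperty.prop_of_iso _ e ?_
    refine ⟨FormalModH7.Part φ, inferInstance, inferInstance, ⟨_, (FormalModH7.partCocone φ).ι, hcol⟩, fun p => ?_⟩
    haveI := FormalModH7.isFinitePresentation_free (O := (FSch.spf A I).Osh h) p.1.1
    haveI := FormalModH7.isFinitePresentation_free (O := (FSch.spf A I).Osh h) p.1.2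
    exact FormalModH7.isFinitePresentation_coker hN (FormalModH7.pMap φ p)

end Groth.Agent.S17037
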