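import Groth.Statements.S17038
import Groth.Agent.Lib.FormalModH7.Vanish
import Groth.Agent.S3855
import Groth.Agent.Lib.CohFound.Bridge

set_option autoImplicit false
open CategoryTheory CategoryTheory.Limits
universe u
open FSch

namespace Groth.Agent.S17038

/-- Let A be a Noetherian ring, I an ideal, and 𝔛 the affine Noetherian formal scheme presented by the
system Spec(A/I^(n+1)) (the formal spectrum of the I-adic completion of A; the published statement
is for an arbitrary affine Noetherian formal scheme, which is of this form). Then H^i(𝔛, F) = 0 for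
every i > 0 and every O_𝔛-module F that is a small filtered colimit of coherent O_𝔛-modules. -/
theorem result (A : Type u) [CommRing A] [IsNoetherianRing A] (I : Ideal A)
    (h : (FSch.spf A I).IsFormal) (𝔉 : FSch.ModF (FSch.spf A I) h) (h𝔉 : (ObjectProperty.ind.{u} fun 𝔊 : FSch.ModF (FSch.spf A I) h => FSch.IsCohF (FSch.spf A I) h 𝔊) 𝔉) (i : ℕ) (hi : 0 < i) :
    Subsingleton (FSch.HF (FSch.spf A I) h 𝔉 i) := by
  have hN : (FSch.spf A I).IsLocNoethFormal := Groth.Agent.S3855.result A I
  haveI : AlgebraicGeometry.IsAffine ((FSch.spf A I).X 0) :=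
    inferInstanceAs (AlgebraicGeometry.IsAffine (AlgebraicGeometry.Spec (CommRingCat.of (A ⧸ I ^ (0 + 1)))))
  obtain ⟨q, rfl⟩ : ∃ q, i = q + 1 := ⟨i - 1, by omega⟩
  haveI := FormalModH7.subsingleton_hc_ind hN h𝔉 (AlgebraicGeometry.isAffineOpen_top ((FSch.spf A I).X 0)) q
  exact (CohFound.hExt ((FormalModH7.abFs hN).obj 𝔉) (q + 1)).injective.subsingleton

end Groth.Agent.S17038
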