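import Groth.Statements.S1704
import Groth.Agent.Lib.WeakAss18.Basic
import Groth.Agent.Lib.EffCartier.Basic

set_option autoImplicit false
universe u
open CategoryTheory CategoryTheory.Limits AlgebraicGeometry TopologicalSpace
open SDiv

namespace Groth.Agent.S1704

/-- Let X be a locally Noetherian scheme and F a quasi-coherent module. Then F is zero if and only if F
has no associated point. -/
theorem result (X : Scheme.{u}) [IsLocallyNoetherian X] (F : X.Modules) (hF : Coh.IsQCoh F) :
    IsZero F ↔ ∀ x : ↥X, ¬ Curv2.IsAssPoint F x := by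
  haveI := hF
  constructor
  · intro hz x hx
    exact Groth.Agent.WA.not_subsingleton_of_isWeakAssPoint ((Groth.Agent.WA.isAssPoint_iff x).mp hx)
      (AddCommGrpCat.subsingleton_of_isZero ((Groth.Agent.M1.stalkAb x).map_isZero hz))
  · intro h
    refine (IsZero.iff_id_eq_zero F).mpr (Scheme.Modules.hom_ext _ _ fun U => ?_)
    ext t
    have hb : (⊥ : X.Opens) ≤ U := bot_le
    refine Groth.Agent.WA.res_injective (F := F) hb (fun x _ hx => absurd ((Groth.Agent.WA.isAssPoint_iff x).mpr hx) (h x)) ?_
    exact Groth.Agent.M1.section_ext _ _ fun x hx => hx.elim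

end Groth.Agent.S1704
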