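import Groth.Statements.S17050
import Groth.Agent.Lib.FTorsH7.RpushAdj

set_option autoImplicit false
open CategoryTheory CategoryTheory.Limits
universe u
attribute [local instance] HasDerivedCategory.standard
open FTors

namespace Groth.Agent.S17050

/-- Let f : 𝔛 ⟶ 𝔜 be a morphism of Noetherian formal schemes (adic systems of thickenings with locally
Noetherian levels and quasi-compact underlying spaces), and assume the total right derived functor
Rf_* exists on unbounded derived categories of modules. Let A_qct be the full subcategory of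
quasi-coherent torsion O_𝔛-modules, assumed (as holds) to contain 0, to be closed under kernels,
cokernels and finite products and to have exact inclusion; assume further that the induced functor
D(A_qct) ⥤ D(O_𝔛) is fully faithful with essential image D_qct(𝔛), the complexes with quasi-coherent
torsion cohomology sheaves — the case the published proof establishes first, valid when 𝔛 is
separated or of finite Krull dimension. Then the restriction of Rf_* to D_qct(𝔛) has a right
adjoint. (The published statement also removes the hypothesis on 𝔛 when f is separated, by gluing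
over an open cover, and gives a bounded-below right adjoint compatible with the triangulated
structures.) -/
theorem result (𝔛 𝔜 : FSch.Sys.{u}) (h𝔛 : 𝔛.IsLocNoethFormal) (h𝔜 : 𝔜.IsLocNoethFormal)
    [CompactSpace (𝔛.X 0)] [CompactSpace (𝔜.X 0)] (f : 𝔛 ⟶ 𝔜)
    [SiteCmp.HasRpushD (FSch.homMor f h𝔛.1 h𝔜.1)]
    [(FTors.IsQCT 𝔛 h𝔛.1).ContainsZero] [(FTors.IsQCT 𝔛 h𝔛.1).IsClosedUnderKernels]
    [(FTors.IsQCT 𝔛 h𝔛.1).IsClosedUnderCokernels] [(FTors.IsQCT 𝔛 h𝔛.1).IsClosedUnderFiniteProducts]
    [PreservesFiniteLimits (FTors.IsQCT 𝔛 h𝔛.1).ι] [PreservesFiniteColimits (FTors.IsQCT 𝔛 h𝔛.1).ι]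
    (hj : (FTors.IsQCT 𝔛 h𝔛.1).ι.mapDerivedCategory.Full ∧ (FTors.IsQCT 𝔛 h𝔛.1).ι.mapDerivedCategory.Faithful ∧
      ∀ G : DerivedCategory (FSch.ModF 𝔛 h𝔛.1),
        (FTors.IsQCT 𝔛 h𝔛.1).ι.mapDerivedCategory.essImage G ↔ FTors.IsDQCT 𝔛 h𝔛.1 G) :
    ((FTors.IsDQCT 𝔛 h𝔛.1).ι ⋙ SiteCmp.RpushD (FSch.homMor f h𝔛.1 h𝔜.1)).IsLeftAdjoint := by
  exact FTorsH7.isLeftAdjoint_ι_rpushD_isDQCT h𝔛 h𝔜.1 f hj

end Groth.Agent.S17050
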