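import Groth.Statements.S17062
import Groth.Agent.Lib.FormalModH7.DerClasses

set_option autoImplicit false
open CategoryTheory CategoryTheory.Limits
universe u
attribute [local instance] HasDerivedCategory.standard
open FSch

namespace Groth.Agent.S17062

/-- Let 𝔛 be a Noetherian formal scheme (adic system of thickenings with locally Noetherian levels and
quasi-compact underlying space). Then RΓ(𝔛, –) is bounded above on complexes with lim-coherent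
cohomology sheaves: there is e ≥ 0 such that whenever G ∈ D(O_𝔛) has every cohomology sheaf a small
filtered colimit of coherent O_𝔛-modules and H^i(G) = 0 for all i ≥ i₀, the groups Hom_{D(O_𝔛)}(O_𝔛,
G[i]) (the hypercohomology H^i(𝔛, G)) vanish for all i ≥ i₀ + e. -/
theorem result (𝔛 : FSch.Sys.{u}) (h𝔛 : 𝔛.IsLocNoethFormal) [CompactSpace (𝔛.X 0)] :
    ∃ e : ℕ, ∀ (G : DerivedCategory (FSch.ModF 𝔛 h𝔛.1)),
      (∀ i : ℤ, (ObjectProperty.ind.{u} fun 𝔊 : FSch.ModF 𝔛 h𝔛.1 => FSch.IsCohF 𝔛 h𝔛.1 𝔊) (SiteCmp.HMod G i)) →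
      ∀ i₀ : ℤ, (∀ i : ℤ, i₀ ≤ i → IsZero (SiteCmp.HMod G i)) →
        ∀ i : ℤ, i₀ + e ≤ i →
          Subsingleton (SiteCmp.inD (𝔛.Osh h𝔛.1) (FSch.unitF 𝔛 h𝔛.1) ⟶ (shiftFunctor (DerivedCategory (FSch.ModF 𝔛 h𝔛.1)) i).obj G) := by
  obtain ⟨d, hd⟩ := FormalModH7.exists_cdLE (FormalModH7.isCompact_opens h𝔛) ⊤
  refine ⟨d, fun G hG i₀ h₀ i hi => ?_⟩
  letI := HasDerivedCategory.standard (FSch.ModF 𝔛 h𝔛.1)
  obtain ⟨e⟩ := FormalModH7.nonempty_freeOn_top_iso (𝔛.Osh h𝔛.1)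
  haveI := FormalModH7.subsingleton_classes_ind h𝔛 G hG ⊤ d
    (fun 𝔉 h => hd _ fun V hV => FormalModH7.cdLE_ind h𝔛 h hV) (i₀ - 1) (fun q hq => h₀ q (by omega)) i (by omega)
  let s := SiteRlim.singleShift (ModSite.freeOn (𝔛.Osh h𝔛.1) ⊤) i ≪≫
    (DerivedCategory.singleFunctor (FSch.ModF 𝔛 h𝔛.1) 0).mapIso e
  exact (SiteRlim.bijective_shiftTr i s G).2.subsingleton

end Groth.Agent.S17062
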