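import Groth.Statements.S17065
import Mathlib
import Groth.Agent.Lib.H2Alg.EtalePow
import Groth.Agent.S18589

set_option autoImplicit false
universe u
open CAlg

namespace Groth.Agent.S17065
open TensorProduct

/-- The local algebraic statement its proof establishes: let A be a Noetherian ring, I ≤ J radical
ideals and Â the J-adic completion of A. If J^n Â ⊆ I Â for some n, then the closed set V(J) is open
inside V(I) ⊆ Spec A. (Globally: if X₂ ⊆ X₁ are the completions of a locally Noetherian scheme along
nested closed subsets Z₂ ⊆ Z₁ and the ideal of Z₁ generates an ideal of definition of X₂, then X₂ is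
a union of connected components of X₁.) -/
theorem result (A : Type u) [CommRing A] [IsNoetherianRing A]
    (I J : Ideal A) (hIJ : I ≤ J) (hI : I.IsRadical) (hJ : J.IsRadical) (n : ℕ)
    (h : (J ^ n).map (algebraMap A (AdicCompletion J A)) ≤ I.map (algebraMap A (AdicCompletion J A))) :
    IsOpen ((fun x : PrimeSpectrum.zeroLocus (I : Set A) => (x : PrimeSpectrum A)) ⁻¹'
      PrimeSpectrum.zeroLocus (J : Set A)) := by
  classical
  have key : ∀ x ∈ J ^ n, ∃ j ∈ J, (1 - j) * x ∈ I := by
    intro x hx
    have hmem : Ideal.Quotient.mk I x ∈ (⨅ i : ℕ, J ^ i • ⊤ : Submodule A (A ⧸ I)) := by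
      rw [Submodule.mem_iInf]
      intro i
      have h1 : Ideal.Quotient.mk (J ^ i) x ∈ I.map (Ideal.Quotient.mk (J ^ i)) := by
        have h2 := Ideal.mem_map_of_mem (AdicCompletion.evalₐ J i).toRingHom (h (Ideal.mem_map_of_mem _ hx))
        rw [Ideal.map_map] at h2
        have hcomp : (AdicCompletion.evalₐ J i).toRingHom.comp (algebraMap A (AdicCompletion J A)) = Ideal.Quotient.mk (J ^ i) :=
          (AdicCompletion.evalₐ J i).comp_algebraMap
        rw [hcomp] at h2
        have h3 : (AdicCompletion.evalₐ J i).toRingHom (algebraMap A (AdicCompletion J A) x) = Ideal.Quotient.mk (J ^ i) x := RingHom.congr_fun hcomp x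
        rwa [h3] at h2
      obtain ⟨y, hy, hxy⟩ := (Ideal.mem_map_iff_of_surjective _ Ideal.Quotient.mk_surjective).1 h1
      rw [Ideal.Quotient.eq] at hxy
      have h4 : Ideal.Quotient.mk I x = (x - y) • (1 : A ⧸ I) := by
        rw [Algebra.smul_def, mul_one, Ideal.Quotient.algebraMap_eq, map_sub, Ideal.Quotient.eq_zero_iff_mem.2 hy, sub_zero]
      rw [h4]
      exact Submodule.smul_mem_smul (by simpa using neg_mem hxy) Submodule.mem_top
    obtain ⟨r, hr⟩ := (Ideal.mem_iInf_smul_pow_eq_bot_iff J _).1 hmem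
    refine ⟨r, r.2, ?_⟩
    rw [Algebra.smul_def, Ideal.Quotient.algebraMap_eq, ← map_mul, Ideal.Quotient.eq] at hr
    rw [sub_mul, one_mul, ← neg_sub]
    exact neg_mem hr
  choose! j hj hj' using key
  obtain ⟨G, hG⟩ := (IsNoetherian.noetherian (J ^ n) : (J ^ n).FG)
  let f := ∏ g ∈ G, (1 - j g)
  have hset : ((fun x : PrimeSpectrum.zeroLocus (I : Set A) => (x : PrimeSpectrum A)) ⁻¹' PrimeSpectrum.zeroLocus (J : Set A)) =
      (fun x : PrimeSpectrum.zeroLocus (I : Set A) => (x : PrimeSpectrum A)) ⁻¹' (PrimeSpectrum.basicOpen f : Set (PrimeSpectrum A)) := by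
    ext ⟨p, hp⟩
    simp only [Set.mem_preimage, PrimeSpectrum.mem_zeroLocus, SetLike.mem_coe, PrimeSpectrum.mem_basicOpen]
    constructor
    · intro hJp hf
      obtain ⟨g, hg, hgp⟩ := (Ideal.IsPrime.prod_mem_iff).1 hf
      have : j g ∈ p.asIdeal := hJp (hj g (hG ▸ Submodule.subset_span hg))
      exact p.isPrime.ne_top ((Ideal.eq_top_iff_one _).2 (by simpa using add_mem hgp this))
    · intro hf x hx
      refine p.isPrime.mem_of_pow_mem n ?_
      have hle : J ^ n ≤ p.asIdeal := by
        rw [← hG, Submodule.span_le]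
        intro g hg
        have h1 : (1 - j g) * g ∈ p.asIdeal := hp (hj' g (hG ▸ Submodule.subset_span hg))
        exact (p.isPrime.mem_or_mem h1).resolve_left fun h => hf (Ideal.mem_of_dvd _ (Finset.dvd_prod_of_mem _ hg) h)
      exact hle (Ideal.pow_mem_pow hx n)
  rw [hset]
  exact (PrimeSpectrum.basicOpen f).isOpen.preimage continuous_subtype_val

end Groth.Agent.S17065
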