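import Groth.Statements.S17073
import Groth.Agent.Lib.LocCoh.TopTensor
-- import your own Groth.Agent.* helpers here

set_option autoImplicit false
open CategoryTheory
universe u
open LocCoh

namespace Groth.Agent.S17073

/-- Let R → S be a homomorphism of Noetherian rings, J an ideal of S containing elements u₁, …, u_d such
that S/(u₁, …, u_d) is a finite R-module and J lies in the radical of (u₁, …, u_d), and let F be a
finite R-module. Then the functor sending an S-module E to the set Hom_R(H^d_J(E), F) (d-th local
cohomology supported in J, scalars restricted to R) is representable by an S-module. (The published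
statement gives the representing module as the degree −d cohomology of RHom_R(RΓ_J S, F) and a
bifunctorial isomorphism; only representability is asserted here.) -/
theorem result
    (R S : Type u) [CommRing R] [CommRing S] [IsNoetherianRing R] [IsNoetherianRing S] [Algebra R S]
    (J : Ideal S) (d : ℕ) (u : Fin d → S) (hu : ∀ i, u i ∈ J)
    (hJ : J ≤ (Ideal.span (Set.range u)).radical) [Module.Finite R (S ⧸ Ideal.span (Set.range u))]
    (F : Type u) [AddCommGroup F] [Module R F] [Module.Finite R F] :
    ((localCohomology J d ⋙ ModuleCat.restrictScalars (algebraMap R S)).op ⋙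
      yoneda.obj (ModuleCat.of R F)).IsRepresentable := by
  classical
  let s := Finset.univ.image u
  have hcd : LocCoh.CdLE S J d := fun M _ _ i hi => by
    have hspan : Ideal.span (s : Set S) = Ideal.span (Set.range u) := by simp [s]
    have h1 : J ≤ (Ideal.span (s : Set S)).radical := hspan ▸ hJ
    have h2 : Ideal.span (s : Set S) ≤ J.radical := by
      refine le_trans ?_ Ideal.le_radical
      rw [hspan, Ideal.span_le]
      rintro _ ⟨j, rfl⟩
      exact hu j
    obtain ⟨e⟩ := Groth.Agent.LocCohLib.nonempty_congr_radical h1 h2 i M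
    have := Groth.Agent.LocCohLib.cdLE_span_finset s M i
      ((Finset.card_image_le.trans (by simp)).trans_lt hi)
    exact e.toEquiv.subsingleton
  let φ := algebraMap R S
  let C := (ModuleCat.coextendScalars φ).obj (ModuleCat.of R F)
  let W := LocCoh.H J d S
  let adj := ModuleCat.restrictCoextendScalarsAdj φ
  let e : ∀ E : ModuleCat.{u} S, (E →ₗ[S] W →ₗ[S] C) ≃ ((localCohomology J d).obj E ⟶ C) := fun E =>
    ((TensorProduct.lift.equiv (RingHom.id S) E W C).toEquiv.trans
      (LinearEquiv.arrowCongr (Groth.Agent.LocCohLib.tensorEquiv hcd E) (LinearEquiv.refl S C)).toEquiv).trans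
      ModuleCat.homEquiv.symm
  refine Functor.RepresentableBy.isRepresentable (Y := ModuleCat.of S (W →ₗ[S] C)) ⟨fun {E} =>
    ((ModuleCat.homEquiv (R := S)).trans (e E)).trans (adj.homEquiv _ _).symm, fun {E E'} a g => ?_⟩
  change (adj.homEquiv _ _).symm (e E (a ≫ g).hom) =
    (ModuleCat.restrictScalars φ).map ((localCohomology J d).map a) ≫ (adj.homEquiv _ _).symm (e E' g.hom)
  rw [← adj.homEquiv_naturality_left_symm]
  congr 1
  refine ModuleCat.hom_ext (LinearMap.ext fun x => ?_)
  obtain ⟨z, rfl⟩ := (Groth.Agent.LocCohLib.tensorEquiv hcd E).surjective x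
  have hn : ((localCohomology J d).map a).hom (Groth.Agent.LocCohLib.tensorEquiv hcd E z) =
      Groth.Agent.LocCohLib.tensorEquiv hcd E' (a.hom.rTensor _ z) :=
    (Groth.Agent.LocCohLib.tensorTo_natural J d a.hom z).symm
  simp only [e, Equiv.trans_apply, ModuleCat.homEquiv, ModuleCat.hom_comp, LinearMap.comp_apply, hn]
  simp only [Equiv.coe_fn_symm_mk, ModuleCat.hom_ofHom, LinearEquiv.coe_toEquiv, LinearEquiv.arrowCongr_apply,
    LinearEquiv.symm_apply_apply, LinearEquiv.refl_apply]
  clear hn
  induction z with
  | zero => simp
  | tmul m h => rfl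
  | add p q hp hq => simp only [map_add, hp, hq]

end Groth.Agent.S17073
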