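import Groth.Statements.S17074
import Groth.Agent.Lib.IndLan6.Lan
import Groth.Agent.Lib.IndLan6.Fac
-- import your own Groth.Agent.* helpers here

set_option autoImplicit false
set_option backward.isDefEq.respectTransparency false
set_option backward.isDefEq.respectTransparency.types false
open CategoryTheory CategoryTheory.Limits
universe v' u' u
open FSch

namespace Groth.Agent.S17074

open FormalModH7

variable {𝔛 : FSch.Sys.{u}} (hN : 𝔛.IsLocNoethFormal)

theorem containsZero_indC [ObjectProperty.ContainsZero (fun 𝔊 : FSch.ModF 𝔛 hN.1 => FSch.IsCohF 𝔛 hN.1 𝔊)] :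
    (IndC hN).ContainsZero := by
  obtain ⟨Z, hZ, hP⟩ := ObjectProperty.exists_prop_of_containsZero (fun 𝔊 : FSch.ModF 𝔛 hN.1 => FSch.IsCohF 𝔛 hN.1 𝔊)
  exact ⟨⟨Z, hZ, ObjectProperty.le_ind _ _ hP⟩⟩

theorem isClosedUnderKernels_indC : (IndC hN).IsClosedUnderKernels := ⟨by
  rintro _ ⟨f, k, hk, hf⟩
  exact (IndC hN).prop_of_iso ((kernelIsKernel f).conePointUniqueUpToIso hk) (ind_kernel hN f hf.1 hf.2)⟩

theorem isClosedUnderCokernels_indC : (IndC hN).IsClosedUnderCokernels := ⟨by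
  rintro _ ⟨f, k, hk, hf⟩
  exact (IndC hN).prop_of_iso ((cokernelIsCokernel f).coconePointUniqueUpToIso hk) (ind_cokernel hN f hf.1 hf.2)⟩

theorem isClosedUnderBinaryProducts_indC : (IndC hN).IsClosedUnderLimitsOfShape (Discrete WalkingPair) := ⟨by
  rintro X ⟨p⟩
  exact (IndC hN).prop_of_iso
    (((BinaryBiproduct.isLimit (p.diag.obj ⟨WalkingPair.left⟩) (p.diag.obj ⟨WalkingPair.right⟩)).conePointUniqueUpToIso
      ((IsLimit.postcomposeHomEquiv (diagramIsoPair p.diag) _).symm p.isLimit)))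
    (ind_biprod hN (p.prop_diag_obj _) (p.prop_diag_obj _))⟩

theorem isClosedUnderFiniteProducts_indC [ObjectProperty.ContainsZero (fun 𝔊 : FSch.ModF 𝔛 hN.1 => FSch.IsCohF 𝔛 hN.1 𝔊)] :
    (IndC hN).IsClosedUnderFiniteProducts := by
  haveI := containsZero_indC hN
  haveI := isClosedUnderBinaryProducts_indC hN
  exact ObjectProperty.IsClosedUnderFiniteProducts.mk'

theorem exists_pres [CompactSpace (𝔛.X 0)] {M : FSch.ModF 𝔛 hN.1} (h : IndC hN M) :
    ∃ (J : Type u) (_ : SmallCategory J) (_ : IsFiltered J)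
      (D : IndLan6.Pres (P := fun 𝔊 : FSch.ModF 𝔛 hN.1 => FSch.IsCohF 𝔛 hN.1 𝔊) M J),
      Nonempty (IsColimit (Cocone.mk M D.ι)) := by
  haveI := isQuasicoherent_of_ind hN h
  obtain ⟨A, C, f, hC, hf⟩ := exists_covers hN h
  obtain ⟨J, i₁, i₂, pres, hK, hm⟩ := exists_mono_pres hN hC hf
  refine ⟨J, i₁, i₂,
    { diag := ObjectProperty.lift _ pres.diag hK
      ι := pres.ι
      mono := hm
      fac := fun K g => ?_ }, ⟨pres.isColimit⟩⟩
  haveI : SheafOfModules.IsFinitePresentation (R := ModSite.ringSh (𝔛.Osh hN.1)) K.obj := K.property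
  exact IndLan6.exists_fac (isCompact_opens hN) pres.diag (Cocone.mk M pres.ι) pres.isColimit hm g

/-- Let 𝔛 be a Noetherian formal scheme (an adic system of thickenings with locally Noetherian levels
and quasi-compact underlying space); let A_c be the full subcategory of coherent O_𝔛-modules
(assumed, as holds, to contain 0 and to be closed under kernels, cokernels and finite products,
hence abelian) inside the full subcategory A of small filtered colimits of coherent modules. For an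
abelian category A' with exact small filtered colimits and an exact functor G : A_c ⥤ A', the
pointwise left Kan extension of G along the inclusion A_c ⥤ A (assumed to exist; it is the
filtered-colimit-preserving extension of G, whose value at a module M is the colimit of G over the
coherent submodules of M) is exact: it preserves finite limits and finite colimits. (The published
statement assumes 𝔛 only locally Noetherian. On the scheme glued from the spectra of the local rings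
ℤ_(p), p ranging over all primes, along their common generic point, viewed as a formal scheme with
zero ideal of definition, the structure sheaf is the increasing union of the coherent ideals J_n
equal to the unit ideal at the first n closed points and to the maximal ideal at the others; for G
the product over all closed points of the stalk functors, with values in abelian groups, the
extension of G does not carry the epimorphism from the direct sum of the J_n onto the structure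
sheaf to an epimorphism. The last step of the published proof needs every coherent module to be a
Noetherian object, so 𝔛 is taken Noetherian here, which is the case in which the lemma is applied.) -/
theorem result (𝔛 : FSch.Sys.{u}) (h𝔛 : 𝔛.IsLocNoethFormal)
    [CompactSpace (𝔛.X 0)]
    [ObjectProperty.ContainsZero (fun 𝔊 : FSch.ModF 𝔛 h𝔛.1 => FSch.IsCohF 𝔛 h𝔛.1 𝔊)] [ObjectProperty.IsClosedUnderKernels (fun 𝔊 : FSch.ModF 𝔛 h𝔛.1 => FSch.IsCohF 𝔛 h𝔛.1 𝔊)]
    [ObjectProperty.IsClosedUnderCokernels (fun 𝔊 : FSch.ModF 𝔛 h𝔛.1 => FSch.IsCohF 𝔛 h𝔛.1 𝔊)] [ObjectProperty.IsClosedUnderFiniteProducts (fun 𝔊 : FSch.ModF 𝔛 h𝔛.1 => FSch.IsCohF 𝔛 h𝔛.1 𝔊)]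
    {A' : Type u'} [Category.{v'} A'] [Abelian A'] [HasFilteredColimitsOfSize.{u, u} A'] [AB5OfSize.{u, u} A']
    (G : ObjectProperty.FullSubcategory (fun 𝔊 : FSch.ModF 𝔛 h𝔛.1 => FSch.IsCohF 𝔛 h𝔛.1 𝔊) ⥤ A') [PreservesFiniteLimits G] [PreservesFiniteColimits G]
    [(ObjectProperty.ιOfLE (ObjectProperty.le_ind (fun 𝔊 : FSch.ModF 𝔛 h𝔛.1 => FSch.IsCohF 𝔛 h𝔛.1 𝔊) : (fun 𝔊 : FSch.ModF 𝔛 h𝔛.1 => FSch.IsCohF 𝔛 h𝔛.1 𝔊) ≤ ObjectProperty.ind.{u} (fun 𝔊 : FSch.ModF 𝔛 h𝔛.1 => FSch.IsCohF 𝔛 h𝔛.1 𝔊))).HasPointwiseLeftKanExtension G] :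
    PreservesFiniteLimits ((ObjectProperty.ιOfLE (ObjectProperty.le_ind (fun 𝔊 : FSch.ModF 𝔛 h𝔛.1 => FSch.IsCohF 𝔛 h𝔛.1 𝔊) : (fun 𝔊 : FSch.ModF 𝔛 h𝔛.1 => FSch.IsCohF 𝔛 h𝔛.1 𝔊) ≤ ObjectProperty.ind.{u} (fun 𝔊 : FSch.ModF 𝔛 h𝔛.1 => FSch.IsCohF 𝔛 h𝔛.1 𝔊))).pointwiseLeftKanExtension G) ∧
      PreservesFiniteColimits ((ObjectProperty.ιOfLE (ObjectProperty.le_ind (fun 𝔊 : FSch.ModF 𝔛 h𝔛.1 => FSch.IsCohF 𝔛 h𝔛.1 𝔊) : (fun 𝔊 : FSch.ModF 𝔛 h𝔛.1 => FSch.IsCohF 𝔛 h𝔛.1 𝔊) ≤ ObjectProperty.ind.{u} (fun 𝔊 : FSch.ModF 𝔛 h𝔛.1 => FSch.IsCohF 𝔛 h𝔛.1 𝔊))).pointwiseLeftKanExtension G) := by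
  let Q := IndC h𝔛
  haveI := containsZero_indC h𝔛
  haveI := isClosedUnderKernels_indC h𝔛
  haveI := isClosedUnderCokernels_indC h𝔛
  haveI := isClosedUnderFiniteProducts_indC h𝔛
  haveI := Functor.additive_of_preserves_binary_products G
  have hle := ObjectProperty.le_ind.{u} (fun 𝔊 : FSch.ModF 𝔛 h𝔛.1 => FSch.IsCohF 𝔛 h𝔛.1 𝔊)
  haveI : (IndLan6.Lan hle G).Additive := IndLan6.additive hle G fun M => by
    obtain ⟨J, i₁, i₂, D, -⟩ := exists_pres h𝔛 M.property
    exact ⟨J, i₁, i₂, ⟨D⟩⟩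
  haveI : (IndC h𝔛).ι.PreservesMonomorphisms :=
    ObjectProperty.preservesMonomorphisms_ι_of_isNormalEpiCategory _
  haveI : (IndC h𝔛).ι.PreservesEpimorphisms :=
    ObjectProperty.preservesEpimorphisms_ι_of_isNormalMonoCategory _
  refine ((IndLan6.Lan hle G).exact_tfae.out 0 3).1 fun S hS => ?_
  have hSι : (S.map (IndC h𝔛).ι).ShortExact := by
    haveI := (IndC h𝔛).preservesKernels_ι
    haveI := (IndC h𝔛).preservesCokernels_ι
    haveI : (IndC h𝔛).ι.PreservesHomology := {}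
    haveI := hS.mono_f
    haveI := hS.epi_g
    haveI : Mono ((IndC h𝔛).ι.map S.f) := (IndC h𝔛).ι.map_mono S.f
    haveI : Epi ((IndC h𝔛).ι.map S.g) := (IndC h𝔛).ι.map_epi S.g
    exact hS.map (IndC h𝔛).ι
  obtain ⟨J, i₁, i₂, D, ⟨hD⟩⟩ := exists_pres h𝔛 S.X₂.property
  refine IndLan6.shortExact_map hle G S hSι D hD (fun j => ?_) fun E c hc hm K f => ?_
  · haveI := isQuasicoherent_of_ind h𝔛 S.X₃.property
    haveI : SheafOfModules.IsFinitePresentation (R := ModSite.ringSh (𝔛.Osh h𝔛.1))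
        ((D.diag ⋙ ObjectProperty.ι _).obj j) := (D.diag.obj j).property
    haveI : SheafOfModules.IsQuasicoherent.{u} (R := ModSite.ringSh (𝔛.Osh h𝔛.1))
        ((D.diag ⋙ ObjectProperty.ι _).obj j) := inferInstance
    haveI : SheafOfModules.IsQuasicoherent.{u} (R := ModSite.ringSh (𝔛.Osh h𝔛.1))
        (((Functor.const J).obj S.X₂.obj).obj j) := isQuasicoherent_of_ind h𝔛 S.X₂.property
    haveI := isQuasicoherent_kernel' h𝔛 (D.ι.app j ≫ S.g.hom)
    haveI := isFiniteType_of_mono h𝔛 (kernel.ι (D.ι.app j ≫ S.g.hom))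
    exact isFinitePresentation_of_qcoh h𝔛
  · haveI : SheafOfModules.IsFinitePresentation (R := ModSite.ringSh (𝔛.Osh h𝔛.1)) K.obj := K.property
    exact IndLan6.exists_fac (isCompact_opens h𝔛) E c hc hm f

end Groth.Agent.S17074
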