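import Groth.Statements.S17075
import Mathlib.AlgebraicGeometry.Morphisms.Proper
import Mathlib.AlgebraicGeometry.PullbackCarrier
-- import your own Groth.Agent.* helpers here

set_option autoImplicit false
set_option backward.isDefEq.respectTransparency.types false
universe u
open CategoryTheory CategoryTheory.Limits AlgebraicGeometry
open MorSch

namespace Groth.Agent.S17075

/-- Let g : X → S be a proper morphism, i : V → X a closed immersion and j : U → X an open immersion.
Then there is an open subset S₀ of S such that, for every scheme S' and every morphism f : S' → S,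
the image of f lies in S₀ if and only if the base change V ×_S S' → X ×_S S' of i factors through
the open subscheme U ×_S S', equivalently the composite V ×_S S' → V → X has image contained in the
image of j. -/
theorem result
    {V X U S : Scheme.{u}} (g : X ⟶ S) [IsProper g] (i : V ⟶ X) [IsClosedImmersion i]
    (j : U ⟶ X) [IsOpenImmersion j] :
    ∃ S₀ : S.Opens, ∀ (S' : Scheme.{u}) (f : S' ⟶ S),
      Set.range f ⊆ (S₀ : Set S) ↔
        Set.range (pullback.fst (i ≫ g) f ≫ i) ⊆ Set.range j := by
  let B : Set X := Set.range i \ Set.range j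
  have hB : IsClosed B := i.isClosedEmbedding.isClosed_range.sdiff j.isOpenEmbedding.isOpen_range
  refine ⟨⟨(g '' B)ᶜ, (g.isClosedMap B hB).isOpen_compl⟩, fun S' f => ?_⟩
  constructor
  · rintro h _ ⟨w, rfl⟩
    by_contra hne
    have hw : g (i (pullback.fst (i ≫ g) f w)) = f (pullback.snd (i ≫ g) f w) := by
      simp only [← Scheme.Hom.comp_apply, Category.assoc, pullback.condition]
    exact h ⟨_, rfl⟩ ⟨_, ⟨⟨_, rfl⟩, by rwa [Scheme.Hom.comp_apply] at hne⟩, hw⟩
  · rintro h _ ⟨s', rfl⟩ ⟨_, ⟨⟨v, rfl⟩, hv⟩, hgv⟩
    obtain ⟨w, hw, -⟩ := Scheme.Pullback.exists_preimage_pullback (f := i ≫ g) (g := f) v s'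
      (by rw [Scheme.Hom.comp_apply]; exact hgv)
    exact hv (h ⟨w, by rw [Scheme.Hom.comp_apply, hw]⟩)

end Groth.Agent.S17075
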