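import Groth.Statements.S17079
-- import your own Groth.Agent.* helpers here

set_option autoImplicit false
set_option backward.isDefEq.respectTransparency.types false
universe u
open CategoryTheory CategoryTheory.Limits AlgebraicGeometry
open MorSch

namespace Groth.Agent.S17079

/-- Let gX : X → S and gY : Y → S be morphisms and suppose the functor Mor_S(X, Y) — sending an S-scheme
T to the set of S-morphisms T ×_S X → Y, with base change as transition maps — is represented by an
S-scheme M. Then for every morphism h : S' → S the functor Mor_{S'}(X ×_S S', Y ×_S S') on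
S'-schemes is represented by M ×_S S'. (The published statement assumes X and Y projective over S
with X flat and S, S' locally Noetherian; this row assumes only that the functor is represented by
M. Only the existence of a representing structure on M ×_S S' is asserted, not its compatibility
with the one on M.) -/
theorem result
    {X Y S S' : Scheme.{u}} (gX : X ⟶ S) (gY : Y ⟶ S) (h : S' ⟶ S)
    (M : Over S) (e : (Flatn.morS gX gY).RepresentableBy M) :
    Nonempty ((Flatn.morS (pullback.snd gX h) (pullback.snd gY h)).RepresentableBy
      (Over.mk (pullback.snd M.hom h))) := by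
  let φ : ∀ T : Over S', pullback T.hom (pullback.snd gX h) ⟶ pullback (T.hom ≫ h) gX := fun T =>
    pullback.lift (pullback.fst _ _) (pullback.snd _ _ ≫ pullback.fst gX h)
      (by rw [Category.assoc, pullback.condition (f := gX), ← pullback.condition_assoc])
  let ψ : ∀ T : Over S', pullback (T.hom ≫ h) gX ⟶ pullback T.hom (pullback.snd gX h) := fun T =>
    pullback.lift (pullback.fst _ _) (pullback.lift (pullback.snd _ _) (pullback.fst _ _ ≫ T.hom)
      (by rw [← pullback.condition, Category.assoc])) (by rw [pullback.lift_snd])
  have hφψ : ∀ T, φ T ≫ ψ T = 𝟙 _ := fun T => by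
    apply pullback.hom_ext
    · simp [φ, ψ, pullback.lift_fst, pullback.lift_fst_assoc]
    · apply pullback.hom_ext <;> simp [φ, ψ, pullback.lift_fst, pullback.lift_fst_assoc, pullback.lift_snd, pullback.lift_snd_assoc, pullback.condition]
  have hψφ : ∀ T, ψ T ≫ φ T = 𝟙 _ := fun T => by
    apply pullback.hom_ext <;> simp [φ, ψ, pullback.lift_fst, pullback.lift_fst_assoc, pullback.lift_snd, pullback.lift_snd_assoc]
  let E : ∀ T : Over S', (Flatn.morS gX gY).obj (Opposite.op ((Over.map h).obj T)) ≃
      (Flatn.morS (pullback.snd gX h) (pullback.snd gY h)).obj (Opposite.op T) := fun T =>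
    { toFun := fun b => Over.homMk (pullback.lift (φ T ≫ b.left)
        (pullback.snd T.hom (pullback.snd gX h) ≫ pullback.snd gX h)
        (by
          rw [Category.assoc]
          refine (congrArg (φ T ≫ ·) (Over.w b)).trans ?_
          change φ T ≫ pullback.snd (T.hom ≫ h) gX ≫ gX = _
          rw [← Category.assoc, pullback.lift_snd, Category.assoc, Category.assoc, pullback.condition (f := gX)]))
        (pullback.lift_snd _ _ _)
      invFun := fun c => Over.homMk (ψ T ≫ c.left ≫ pullback.fst gY h) (by
        change (ψ T ≫ c.left ≫ pullback.fst gY h) ≫ gY = pullback.snd (T.hom ≫ h) gX ≫ gX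
        rw [Category.assoc, Category.assoc, pullback.condition (f := gY)]
        refine (congrArg (ψ T ≫ ·) ((Category.assoc _ _ _).symm.trans (congrArg (· ≫ h) (Over.w c)))).trans ?_
        change ψ T ≫ (pullback.snd T.hom (pullback.snd gX h) ≫ pullback.snd gX h) ≫ h = _
        rw [Category.assoc, ← pullback.condition (f := gX), ← Category.assoc, pullback.lift_snd,
          ← Category.assoc, pullback.lift_fst])
      left_inv := fun b => Over.OverMorphism.ext (by
        change ψ T ≫ pullback.lift (φ T ≫ b.left) _ _ ≫ pullback.fst gY h = b.left
        rw [pullback.lift_fst, ← Category.assoc, hψφ]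
        exact Category.id_comp _)
      right_inv := fun c => Over.OverMorphism.ext (pullback.hom_ext (by
        refine (pullback.lift_fst _ _ _).trans ?_
        change φ T ≫ ψ T ≫ c.left ≫ pullback.fst gY h = _
        rw [← Category.assoc, hφψ, Category.id_comp]) (by
        refine (pullback.lift_snd _ _ _).trans ?_
        exact (Over.w c).symm)) }
  have hE : ∀ {T T' : Over S'} (u : T ⟶ T') (b : (Flatn.morS gX gY).obj (Opposite.op ((Over.map h).obj T'))),
      E T ((Flatn.morS gX gY).map ((Over.map h).map u).op b) =
        (Flatn.morS (pullback.snd gX h) (pullback.snd gY h)).map u.op (E T' b) := by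
    intro T T' u b
    have key : φ T ≫ ((Over.pullback gX).map ((Over.map h).map u)).left =
        ((Over.pullback (pullback.snd gX h)).map u).left ≫ φ T' := by
      apply pullback.hom_ext <;> simp [φ, pullback.lift_fst, pullback.lift_fst_assoc, pullback.lift_snd, pullback.lift_snd_assoc]
    apply Over.OverMorphism.ext
    apply pullback.hom_ext
    · refine (pullback.lift_fst _ _ _).trans (Eq.symm ((Category.assoc _ _ _).trans ?_))
      refine (congrArg (((Over.pullback (pullback.snd gX h)).map u).left ≫ ·) (pullback.lift_fst _ _ _)).trans ?_
      exact ((Category.assoc _ _ _).symm.trans (congrArg (· ≫ b.left) key.symm)).trans (Category.assoc _ _ _)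
    · refine (pullback.lift_snd _ _ _).trans (Eq.symm ((Category.assoc _ _ _).trans ?_))
      refine (congrArg (((Over.pullback (pullback.snd gX h)).map u).left ≫ ·) (pullback.lift_snd _ _ _)).trans ?_
      change ((Over.pullback (pullback.snd gX h)).map u).left ≫ pullback.snd T'.hom _ ≫ _ = _
      rw [← Category.assoc]
      exact congrArg (· ≫ pullback.snd gX h) (pullback.lift_snd _ _ _)
  refine ⟨{ homEquiv := fun {T} => ((Over.mapPullbackAdj h).homEquiv T M).symm.trans (e.homEquiv.trans (E T))
            homEquiv_comp := fun {T T'} u g => ?_ }⟩
  simp only [Equiv.trans_apply]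
  refine (congrArg (fun v => E T (e.homEquiv v)) ((Over.mapPullbackAdj h).homEquiv_naturality_left_symm u g)).trans ?_
  rw [e.homEquiv_comp]
  exact hE u _

end Groth.Agent.S17079
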