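import Groth.Statements.S17080
-- import your own Groth.Agent.* helpers here

set_option autoImplicit false
universe u
open CategoryTheory CategoryTheory.Limits AlgebraicGeometry
open MorSch

namespace Groth.Agent.S17080

set_option maxHeartbeats 800000


/-- Let gX : X → S be proper and flat, gY : Y → S separated and j : U → Y an open immersion, and suppose
the functor Mor_S(X, Y) — S-schemes T ↦ S-morphisms T ×_S X → Y — is represented by an S-scheme M
via e. Then there are an open subset M₀ of M and a representation e₀ of Mor_S(X, U) by the open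
subscheme M₀ (viewed over S through M) which is compatible with e: for every S-morphism φ : T → M₀,
the S-morphism T ×_S X → Y classified by φ followed by the inclusion M₀ → M is the S-morphism T ×_S
X → U classified by φ, followed by j. In particular the morphism Mor_S(X, U) → Mor_S(X, Y) induced
by j is an open immersion. (Published for X projective and flat and Y quasi-projective over a
locally Noetherian S, which is how M is known to exist there; representability is taken as a
hypothesis here.) -/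
theorem result
    {X Y U S : Scheme.{u}} (gX : X ⟶ S) [IsProper gX] [Flat gX] (gY : Y ⟶ S) [IsSeparated gY]
    (j : U ⟶ Y) [IsOpenImmersion j] (M : Over S) (e : (Flatn.morS gX gY).RepresentableBy M) :
    ∃ (M₀ : M.left.Opens)
      (e₀ : (Flatn.morS gX (j ≫ gY)).RepresentableBy (Over.mk (M₀.ι ≫ M.hom))),
      ∀ (T : Over S) (φ : T ⟶ Over.mk (M₀.ι ≫ M.hom)),
        (e.homEquiv (φ ≫ Over.homMk M₀.ι rfl) :
            (Over.map gX).obj ((Over.pullback gX).obj T) ⟶ Over.mk gY) =
          (e₀.homEquiv φ : (Over.map gX).obj ((Over.pullback gX).obj T) ⟶ Over.mk (j ≫ gY)) ≫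
            (Over.homMk j rfl : Over.mk (j ≫ gY) ⟶ Over.mk gY) := by
  let ev : (Over.map gX).obj ((Over.pullback gX).obj M) ⟶ Over.mk gY := e.homEquiv (𝟙 M)
  let p := pullback.fst M.hom gX
  let Bad : Set ↥(pullback M.hom gX) := ev.left ⁻¹' (Set.range j)ᶜ
  have hBad : IsClosed (p '' Bad) :=
    haveI : IsProper p := MorphismProperty.pullback_fst _ _ inferInstance; p.isClosedMap _
      (j.isOpenEmbedding.isOpen_range.isClosed_compl.preimage ev.left.continuous)
  let M₀ : M.left.Opens := ⟨(p '' Bad)ᶜ, hBad.isOpen_compl⟩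
  let inc : Over.mk (M₀.ι ≫ M.hom) ⟶ M := Over.homMk M₀.ι rfl
  let J : Over.mk (j ≫ gY) ⟶ Over.mk gY := Over.homMk j rfl
  let bc {T : Over S} (φ : T ⟶ M) : (Over.map gX).obj ((Over.pullback gX).obj T) ⟶
      (Over.map gX).obj ((Over.pullback gX).obj M) := (Over.map gX).map ((Over.pullback gX).map φ)
  have hev : ∀ {T : Over S} (φ : T ⟶ M), (e.homEquiv φ : _ ⟶ Over.mk gY) = bc φ ≫ ev := fun {T} φ => by
    conv_lhs => rw [← Category.comp_id φ, e.homEquiv_comp]
    rfl
  -- a map to `M` lands in `M₀` exactly when the morphism it classifies lands in `U`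
  have key : ∀ {T : Over S} (φ : T ⟶ M),
      Set.range (e.homEquiv φ).left ⊆ Set.range j ↔ Set.range φ.left ⊆ (M₀ : Set M.left) := fun {T} φ => by
    have h1 : (bc φ).left ≫ p = pullback.fst T.hom gX ≫ φ.left := by simp [bc, p]; exact pullback.lift_fst _ _ _
    have h2 : (bc φ).left ≫ pullback.snd M.hom gX = pullback.snd T.hom gX := by simp [bc]; exact pullback.lift_snd _ _ _
    have sq : IsPullback (bc φ).left (pullback.fst T.hom gX) p φ.left := by
      refine IsPullback.of_right ?_ h1 (IsPullback.of_hasPullback M.hom gX).flip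
      rw [h2, Over.w]
      exact (IsPullback.of_hasPullback T.hom gX).flip
    rw [hev]
    constructor
    · rintro h _ ⟨t, rfl⟩ ⟨z, hz, hzt⟩
      obtain ⟨w, hw, -⟩ := Scheme.exists_preimage_of_isPullback sq z t hzt
      exact hz (hw ▸ h ⟨w, rfl⟩)
    · rintro h _ ⟨w, rfl⟩
      by_contra hw
      exact h ⟨pullback.fst T.hom gX w, rfl⟩ ⟨(bc φ).left w, hw, by
        rw [← Scheme.Hom.comp_apply, h1]; rfl⟩
  have hin : ∀ {T : Over S} (φ : T ⟶ Over.mk (M₀.ι ≫ M.hom)),
      Set.range (e.homEquiv (φ ≫ inc)).left ⊆ Set.range j := fun {T} φ => (key (φ ≫ inc)).2 (by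
    rintro _ ⟨t, rfl⟩
    exact M₀.range_ι.le ⟨φ.left t, rfl⟩)
  let toFun {T : Over S} (φ : T ⟶ Over.mk (M₀.ι ≫ M.hom)) :
      (Over.map gX).obj ((Over.pullback gX).obj T) ⟶ Over.mk (j ≫ gY) :=
    Over.homMk (IsOpenImmersion.lift j (e.homEquiv (φ ≫ inc)).left (hin φ)) (by
      show _ ≫ j ≫ gY = _
      rw [IsOpenImmersion.lift_fac_assoc]
      exact Over.w _)
  have htoFun : ∀ {T : Over S} (φ : T ⟶ Over.mk (M₀.ι ≫ M.hom)), toFun φ ≫ J = e.homEquiv (φ ≫ inc) :=
    fun φ => Over.OverMorphism.ext (IsOpenImmersion.lift_fac _ _ _)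
  have hout : ∀ {T : Over S} (b : (Over.map gX).obj ((Over.pullback gX).obj T) ⟶ Over.mk (j ≫ gY)),
      Set.range (e.homEquiv.symm (b ≫ J : _ ⟶ Over.mk gY) : T ⟶ M).left ⊆ Set.range M₀.ι := fun {T} b => by
    rw [M₀.range_ι, ← key, Equiv.apply_symm_apply]
    rintro _ ⟨w, rfl⟩
    exact ⟨b.left w, rfl⟩
  let invFun {T : Over S} (b : (Over.map gX).obj ((Over.pullback gX).obj T) ⟶ Over.mk (j ≫ gY)) :
      T ⟶ Over.mk (M₀.ι ≫ M.hom) :=
    Over.homMk (IsOpenImmersion.lift M₀.ι (e.homEquiv.symm (b ≫ J : _ ⟶ Over.mk gY) : T ⟶ M).left (hout b)) (by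
      show _ ≫ M₀.ι ≫ M.hom = _
      rw [IsOpenImmersion.lift_fac_assoc]
      exact Over.w _)
  haveI : Mono inc := Over.mono_of_mono_left inc
  haveI : Mono J := Over.mono_of_mono_left J
  have hinv : ∀ {T : Over S} (b : (Over.map gX).obj ((Over.pullback gX).obj T) ⟶ Over.mk (j ≫ gY)),
      invFun b ≫ inc = e.homEquiv.symm (b ≫ J : _ ⟶ Over.mk gY) :=
    fun b => Over.OverMorphism.ext (IsOpenImmersion.lift_fac _ _ _)
  let e₀ : (Flatn.morS gX (j ≫ gY)).RepresentableBy (Over.mk (M₀.ι ≫ M.hom)) :=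
    { homEquiv := fun {T} =>
        { toFun := toFun
          invFun := invFun
          left_inv := fun φ => by
            apply (cancel_mono inc).1
            rw [hinv, htoFun, Equiv.symm_apply_apply]
          right_inv := fun b => by
            apply (cancel_mono J).1
            rw [htoFun, hinv, Equiv.apply_symm_apply] }
      homEquiv_comp := fun {T T'} a φ => by
        apply (cancel_mono J).1
        show toFun (a ≫ φ) ≫ J = ((Over.map gX).map ((Over.pullback gX).map a) ≫ toFun φ) ≫ J
        rw [Category.assoc, htoFun, htoFun, Category.assoc, e.homEquiv_comp]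
        rfl }
  exact ⟨M₀, e₀, fun T φ => (htoFun φ).symm⟩

end Groth.Agent.S17080
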