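import Groth.Statements.S17083
import Groth.Agent.Lib.BlowUp26.Basic
import Groth.Agent.Lib.BlowUpExist.Local

set_option backward.isDefEq.respectTransparency.types false

set_option autoImplicit false
universe u
open CategoryTheory CategoryTheory.Limits AlgebraicGeometry
open MorSch

namespace Groth.Agent.S17083

open Groth.Agent.EffCartier

theorem inf_eq_mul {X : Scheme.{u}} {I J : X.IdealSheafData} (h : I ⊔ J = ⊤) : I ⊓ J = I * J := by
  ext U : 2
  have h' : I.ideal U ⊔ J.ideal U = ⊤ := by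
    simpa using congrArg (fun K => Scheme.IdealSheafData.ideal K U) h
  rw [Scheme.IdealSheafData.ideal_inf, Scheme.IdealSheafData.ideal_mul, Pi.inf_apply, Pi.mul_apply,
    Ideal.inf_eq_mul_of_isCoprime (Ideal.isCoprime_iff_sup_eq.2 h')]

theorem not_mem_both {X : Scheme.{u}} {I J : X.IdealSheafData} (h : I ⊔ J = ⊤) (x : X) :
    x ∉ I.support ∨ x ∉ J.support := by
  by_contra hc
  push Not at hc
  obtain ⟨U, hU, hxU, -⟩ := exists_isAffineOpen_mem_and_subset (x := x) (U := (⊤ : X.Opens)) trivial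
  have h' : I.ideal ⟨U, hU⟩ ⊔ J.ideal ⟨U, hU⟩ = ⊤ := by
    simpa using congrArg (fun K => Scheme.IdealSheafData.ideal K ⟨U, hU⟩) h
  have hI := (Scheme.IdealSheafData.mem_support_iff_of_mem (U := ⟨U, hU⟩) hxU).1 hc.1
  have hJ := (Scheme.IdealSheafData.mem_support_iff_of_mem (U := ⟨U, hU⟩) hxU).1 hc.2
  rw [Scheme.mem_zeroLocus_iff] at hI hJ
  obtain ⟨a, ha, b, hb, hab⟩ := Submodule.mem_sup.1 ((Ideal.eq_top_iff_one _).1 h')
  have hu : IsUnit (X.presheaf.germ U x hxU a) ∨ IsUnit (X.presheaf.germ U x hxU b) :=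
    IsLocalRing.isUnit_or_isUnit_of_isUnit_add (by rw [← map_add, hab, map_one]; exact isUnit_one)
  rcases hu with hu | hu
  · exact hI a ha ((Scheme.mem_basicOpen _ _ _ hxU).2 hu)
  · exact hJ b hb ((Scheme.mem_basicOpen _ _ _ hxU).2 hu)

theorem isBlowUp_fst {X B₁ B₂ : Scheme.{u}} {I₁ I₂ : X.IdealSheafData} (hdisj : I₁ ⊔ I₂ = ⊤)
    {σ₁ : B₁ ⟶ X} (hσ₁ : BlowUp.IsBlowUp σ₁ I₁) {σ₂ : B₂ ⟶ X} (hσ₂ : BlowUp.IsBlowUp σ₂ I₂) :
    BlowUp.IsBlowUp (pullback.fst σ₁ σ₂) (I₂.comap σ₁) := by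
  refine ⟨?_, fun W k hk => ?_⟩
  · rw [← Scheme.IdealSheafData.comap_comp]
    let π := pullback.fst σ₁ σ₂ ≫ σ₁
    let W : Bool → (pullback σ₁ σ₂).Opens := fun t =>
      bif t then π ⁻¹ᵁ cmpl I₂ else pullback.snd σ₁ σ₂ ⁻¹ᵁ (σ₂ ⁻¹ᵁ cmpl I₁)
    refine BlowUpExist.isEffCartierIdeal_of_cover (fun t => (W t).ι) (fun z => ?_) ?_
    · rcases not_mem_both hdisj (π z) with h | h
      · exact ⟨false, ⟨z, show σ₂ (pullback.snd σ₁ σ₂ z) ∈ cmpl I₁ by
          rw [← Scheme.Hom.comp_apply, ← pullback.condition]; exact h⟩, rfl⟩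
      · exact ⟨true, ⟨z, h⟩, rfl⟩
    · rintro (_ | _)
      · let V : B₂.Opens := σ₂ ⁻¹ᵁ cmpl I₁
        haveI := isIso_blowUp_restrict hσ₁
        have h1 := (isPullback_morphismRestrict (pullback.snd σ₁ σ₂) V).flip
        have h2 := h1.paste_horiz (IsPullback.of_hasPullback σ₁ σ₂)
        have h3 := (isPullback_morphismRestrict σ₁ (cmpl I₁)).flip
        let l : (V : Scheme.{u}) ⟶ cmpl I₁ := σ₂ ∣_ cmpl I₁
        have hl : l ≫ (cmpl I₁).ι = V.ι ≫ σ₂ := morphismRestrict_ι σ₂ (cmpl I₁)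
        let k : ((pullback.snd σ₁ σ₂ ⁻¹ᵁ V : (pullback σ₁ σ₂).Opens) : Scheme.{u}) ⟶ σ₁ ⁻¹ᵁ cmpl I₁ :=
          h3.lift ((pullback.snd σ₁ σ₂ ⁻¹ᵁ V).ι ≫ pullback.fst σ₁ σ₂)
            ((pullback.snd σ₁ σ₂ ∣_ V) ≫ l) (by rw [Category.assoc _ l, hl]; exact h2.w)
        have hk : IsPullback k (pullback.snd σ₁ σ₂ ∣_ V) (σ₁ ∣_ cmpl I₁) l :=
          IsPullback.of_right (by rw [IsPullback.lift_fst, hl]; exact h2) (IsPullback.lift_snd _ _ _ _) h3
        haveI : IsIso (pullback.snd σ₁ σ₂ ∣_ V) :=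
          MorphismProperty.of_isPullback (P := MorphismProperty.isomorphisms Scheme.{u}) hk inferInstance
        haveI : IsOpenImmersion ((W false).ι ≫ pullback.snd σ₁ σ₂) := by
          show IsOpenImmersion ((pullback.snd σ₁ σ₂ ⁻¹ᵁ V).ι ≫ pullback.snd σ₁ σ₂)
          rw [← morphismRestrict_ι]
          infer_instance
        rw [pullback.condition, ← Scheme.IdealSheafData.comap_comp, ← Category.assoc,
          Scheme.IdealSheafData.comap_comp]
        exact BlowUpExist.isEffCartierIdeal_comap_of_isOpenImmersion hσ₂.1 _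
      · rw [← Scheme.IdealSheafData.comap_comp, comap_eq_top _ _ fun z => ?_]
        · exact isEffCartierIdeal_top
        · rw [Scheme.Hom.comp_apply]; exact z.2
  · rw [← Scheme.IdealSheafData.comap_comp] at hk
    obtain ⟨h, hh, hu⟩ := hσ₂.2 W (k ≫ σ₁) hk
    refine ⟨pullback.lift k h hh.symm, pullback.lift_fst _ _ _, fun l hl => ?_⟩
    apply pullback.hom_ext
    · rw [pullback.lift_fst]; exact hl
    · rw [pullback.lift_snd]
      refine hu _ ?_
      show (l ≫ pullback.snd σ₁ σ₂) ≫ σ₂ = k ≫ σ₁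
      rw [Category.assoc, ← pullback.condition, ← Category.assoc, hl]

/-- The closed immersion constructed in its proof, as follows. Let X be a scheme, I₁ and I₂
quasi-coherent ideal sheaves on X with I₁ + I₂ = O_X, so that they cut out disjoint closed
subschemes Z₁ and Z₂, let σ : B → X be a blow-up of X in the ideal I₁ ∩ I₂ of Z₁ ∪ Z₂, and let σ₁ :
B₁ → X and σ₂ : B₂ → X be blow-ups of X in Z₁ and in Z₂ (blow-up in the sense of the universal
property: the inverse image ideal is effective Cartier, finally so). Then there is a morphism ι : B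
→ B₁ ×_X B₂ over X which is a closed immersion; the components B → B_i are necessarily the unique
X-morphisms given by the universal properties. (Published for X a projective space over an
algebraically closed field, Z₂ a closed point and Z₁ a finite set of closed points not containing
it, and iterated there to embed the blow-up at r distinct points as a closed subscheme of the fibre
product over X of the r blow-ups at single points.) -/
theorem result
    {X B B₁ B₂ : Scheme.{u}} (I₁ I₂ : X.IdealSheafData) (hdisj : I₁ ⊔ I₂ = ⊤)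
    (σ : B ⟶ X) (hσ : BlowUp.IsBlowUp σ (I₁ ⊓ I₂))
    (σ₁ : B₁ ⟶ X) (hσ₁ : BlowUp.IsBlowUp σ₁ I₁) (σ₂ : B₂ ⟶ X) (hσ₂ : BlowUp.IsBlowUp σ₂ I₂) :
    ∃ ι : B ⟶ pullback σ₁ σ₂, IsClosedImmersion ι ∧ ι ≫ pullback.fst σ₁ σ₂ ≫ σ₁ = σ := by
  have h := BlowUp26.isBlowUp_comp_mul hσ₁ (isBlowUp_fst hdisj hσ₁ hσ₂)
  rw [inf_eq_mul hdisj] at hσ
  obtain ⟨ι, hι, -⟩ := h.2 B σ hσ.1
  obtain ⟨j, hj, -⟩ := hσ.2 _ _ h.1
  obtain ⟨_, -, hu⟩ := hσ.2 B σ hσ.1
  obtain ⟨_, -, hu'⟩ := h.2 _ _ h.1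
  have h1 : ι ≫ j = 𝟙 B := (hu (ι ≫ j) (by
    show (ι ≫ j) ≫ σ = σ
    rw [Category.assoc, hj, hι])).trans (hu (𝟙 B) (Category.id_comp σ)).symm
  have h2 : j ≫ ι = 𝟙 _ := (hu' (j ≫ ι) (by
    show (j ≫ ι) ≫ _ = _
    rw [Category.assoc, hι, hj])).trans (hu' (𝟙 _) (Category.id_comp _)).symm
  haveI : IsIso ι := ⟨j, h1, h2⟩
  exact ⟨ι, inferInstance, hι⟩

end Groth.Agent.S17083
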