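import Groth.Statements.S17084
-- import your own Groth.Agent.* helpers here

set_option autoImplicit false
set_option backward.isDefEq.respectTransparency.types false
universe u
open CategoryTheory CategoryTheory.Limits AlgebraicGeometry
open MorSch

namespace Groth.Agent.S17084

/-- Let (X_i)_{i ∈ ι} be a finite family of schemes over S with structure morphisms g_i : X_i → S, let Y
→ S be a scheme over S and T an S-scheme. Then for every family of S-morphisms a_i : T ×_S X_i → Y
there is a unique S-morphism b : T ×_S (∐_i X_i) → Y whose restriction along each T ×_S X_i → T ×_S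
(∐_i X_i) is a_i. In other words the canonical map Mor_S(∐_i X_i, Y) → ∏_i Mor_S(X_i, Y) of functors
on S-schemes is an isomorphism. -/
theorem result
    {S Y : Scheme.{u}} {ι : Type u} [Finite ι] (X : ι → Scheme.{u}) (g : ∀ i, X i ⟶ S)
    (gY : Y ⟶ S) (T : Over S) (a : ∀ i, (Flatn.morS (g i) gY).obj (Opposite.op T)) :
    ∃! b : (Flatn.morS (Sigma.desc g) gY).obj (Opposite.op T),
      ∀ i, pullback.map T.hom (g i) T.hom (Sigma.desc g) (𝟙 T.left) (Sigma.ι X i) (𝟙 S)
          ((Category.comp_id _).trans (Category.id_comp _).symm)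
          ((Category.comp_id _).trans (Sigma.ι_desc g i).symm) ≫ b.left = (a i).left := by
  let P := pullback T.hom (Sigma.desc g)
  let m : ∀ i, pullback T.hom (g i) ⟶ P := fun i =>
    pullback.map T.hom (g i) T.hom (Sigma.desc g) (𝟙 T.left) (Sigma.ι X i) (𝟙 S)
      ((Category.comp_id _).trans (Category.id_comp _).symm)
      ((Category.comp_id _).trans (Sigma.ι_desc g i).symm)
  have hpb : ∀ i, IsPullback (m i) (pullback.snd T.hom (g i)) (pullback.snd T.hom (Sigma.desc g))
      (Sigma.ι X i) := by
    intro i
    have h0 : IsPullback (m i ≫ pullback.fst T.hom (Sigma.desc g)) (pullback.snd T.hom (g i)) T.hom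
        (Sigma.ι X i ≫ Sigma.desc g) := by
      rw [pullback.lift_fst, Category.comp_id, Sigma.ι_desc]
      exact IsPullback.of_hasPullback _ _
    exact IsPullback.of_right h0 (pullback.lift_snd _ _ _) (IsPullback.of_hasPullback T.hom (Sigma.desc g))
  obtain ⟨hc⟩ : Nonempty (IsColimit (Cofan.mk P m)) :=
    (FinitaryExtensive.isVanKampen_finiteCoproducts (coproductIsCoproduct X)).isUniversal
      (Cofan.mk P m) (Discrete.natTrans fun i => pullback.snd T.hom (g i.as))
      (pullback.snd T.hom (Sigma.desc g))
      (by ext i; exact ((hpb i.as).w).symm)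
      (NatTrans.Equifibered.of_discrete _) (fun i => hpb i.as)
  have hm : ∀ i, m i ≫ pullback.snd T.hom (Sigma.desc g) = pullback.snd T.hom (g i) ≫ Sigma.ι X i :=
    fun i => (hpb i).w
  let b : P ⟶ Y := Cofan.IsColimit.desc hc fun i => (a i).left
  have hb : ∀ i, m i ≫ b = (a i).left := fun i => Cofan.IsColimit.fac hc _ i
  refine ⟨Over.homMk b ?_, hb, fun b' hb' => Over.OverMorphism.ext (Cofan.IsColimit.hom_ext hc _ _
    fun i => (hb' i).trans (hb i).symm)⟩
  refine Cofan.IsColimit.hom_ext hc _ _ fun i => ?_
  change m i ≫ b ≫ gY = m i ≫ pullback.snd T.hom (Sigma.desc g) ≫ Sigma.desc g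
  rw [← Category.assoc, hb, ← Category.assoc, hm, Category.assoc, Sigma.ι_desc]
  exact Over.w (a i)

end Groth.Agent.S17084
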