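import Groth.Statements.S7629
import Groth.Agent.S9680
import Groth.Agent.Lib.RegSmooth17.Scheme

set_option autoImplicit false
universe u
open CategoryTheory CategoryTheory.Limits AlgebraicGeometry
open Variety

namespace Groth.Agent.S7629

/-- (2) ⇒ (3): let X and Y be varieties over a field k (integral, separated, of finite type) and suppose
the function fields k(X) and k(Y) are isomorphic as k-algebras. Then there are nonempty open
subschemes U ⊆ X and V ⊆ Y which are isomorphic as schemes over k. -/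
theorem result (k : Type u) [Field k] (X : Scheme.{u}) [X.Over (Spec (CommRingCat.of k))] [IsIntegral X] [IsSeparated (X ↘ (Spec (CommRingCat.of k)))] [LocallyOfFiniteType (X ↘ (Spec (CommRingCat.of k)))] [QuasiCompact (X ↘ (Spec (CommRingCat.of k)))]
    (Y : Scheme.{u}) [Y.Over (Spec (CommRingCat.of k))] [IsIntegral Y] [IsSeparated (Y ↘ (Spec (CommRingCat.of k)))] [LocallyOfFiniteType (Y ↘ (Spec (CommRingCat.of k)))] [QuasiCompact (Y ↘ (Spec (CommRingCat.of k)))]
    (e : X.functionField ≅ Y.functionField)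
    (he : e.hom.hom.comp (Curv2.stalkMap k X (genericPoint X)) = Curv2.stalkMap k Y (genericPoint Y)) :
    ∃ (U : X.Opens) (V : Y.Opens), (U : Set ↥X).Nonempty ∧
      ∃ φ : (U : Scheme.{u}) ≅ (V : Scheme.{u}), φ.hom ≫ V.ι ≫ (Y ↘ (Spec (CommRingCat.of k))) = U.ι ≫ (X ↘ (Spec (CommRingCat.of k))) := by
  haveI : LocallyOfFinitePresentation (X ↘ Spec (CommRingCat.of k)) :=
    LocallyOfFinitePresentation.iff_locallyOfFiniteType.2 inferInstance
  haveI : LocallyOfFinitePresentation (Y ↘ Spec (CommRingCat.of k)) :=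
    LocallyOfFinitePresentation.iff_locallyOfFiniteType.2 inferInstance
  haveI : Subsingleton ↥(Spec (CommRingCat.of k)) := inferInstanceAs (Subsingleton (PrimeSpectrum k))
  have hs : (X ↘ Spec (CommRingCat.of k)).base (genericPoint X) = (Y ↘ Spec (CommRingCat.of k)).base (genericPoint Y) :=
    Subsingleton.elim _ _
  have hcond : (X ↘ Spec (CommRingCat.of k)).stalkMap (genericPoint X) ≫ e.hom =
      eqToHom (congrArg (Spec (CommRingCat.of k)).presheaf.stalk hs) ≫ (Y ↘ Spec (CommRingCat.of k)).stalkMap (genericPoint Y) := by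
    apply (Spec (CommRingCat.of k)).presheaf.stalk_hom_ext
    intro U hxU
    obtain rfl : U = ⊤ := TopologicalSpace.Opens.ext (Set.eq_univ_of_forall fun y => Subsingleton.elim _ y ▸ hxU)
    rw [← cancel_epi (Scheme.ΓSpecIso (CommRingCat.of k)).inv]
    refine CommRingCat.hom_ext ?_
    have hgx := Scheme.Hom.germ_stalkMap (X ↘ Spec (CommRingCat.of k)) ⊤ (genericPoint X) trivial
    have hgy := Scheme.Hom.germ_stalkMap (Y ↘ Spec (CommRingCat.of k)) ⊤ (genericPoint Y) trivial
    have hx : ((Scheme.ΓSpecIso (CommRingCat.of k)).inv ≫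
        (Spec (CommRingCat.of k)).presheaf.germ ⊤ _ hxU ≫ (X ↘ Spec (CommRingCat.of k)).stalkMap (genericPoint X) ≫ e.hom).hom =
        e.hom.hom.comp (Curv2.stalkMap k X (genericPoint X)) := by
      rw [← Category.assoc ((Spec (CommRingCat.of k)).presheaf.germ ⊤ _ hxU), hgx]
      rfl
    rw [hx, he]
    have hg : ∀ (a b : ↥(Spec (CommRingCat.of k))) (h : a = b),
        (Spec (CommRingCat.of k)).presheaf.germ ⊤ a trivial ≫
          eqToHom (congrArg (Spec (CommRingCat.of k)).presheaf.stalk h) =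
        (Spec (CommRingCat.of k)).presheaf.germ ⊤ b trivial := by
      rintro a b rfl; simp
    rw [reassoc_of% (hg _ _ hs), hgy]
    rfl
  obtain ⟨φ, hφ⟩ := (Groth.Agent.S9680.result (X ↘ Spec (CommRingCat.of k)) (Y ↘ Spec (CommRingCat.of k))).2
    ⟨hs, e, hcond⟩
  exact ⟨φ.source, φ.target, φ.dense_source.nonempty, φ.iso, hφ⟩

end Groth.Agent.S7629
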