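import Groth.Statements.S17085
import Groth.Agent.Lib.RatCurve6.Field
import Groth.Agent.Lib.RegExt.P1
import Groth.Agent.Lib.CurveNF.Dim
import Groth.Agent.Lib.SmoothReg17.Basic
import Groth.Agent.Lib.ProjSpace.Basic
import Groth.Agent.S10829
import Groth.Agent.S7629
import Groth.Agent.S2344

set_option autoImplicit false
universe u
open CategoryTheory CategoryTheory.Limits AlgebraicGeometry
open RatCurve

namespace Groth.Agent.S17085

/-- Let k be an algebraically closed field and C ⊆ P^n_k a closed subscheme which is an integral scheme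
of dimension one (a projective curve). Then C is rational — some nonempty open subscheme of C is
isomorphic over k to an open subscheme of the projective line P^1_k — if and only if C is the
scheme-theoretic image of some k-morphism f : P^1_k → P^n_k, i.e. the ideal sheaf of C in P^n_k is
the kernel ideal sheaf of f. -/
theorem result
    {k : Type u} [Field k] [IsAlgClosed k] {n : ℕ} (C : Scheme.{u})
    (i : C ⟶ CohB1.ProjSpace n k) [IsClosedImmersion i] [IsIntegral C]
    (hdim : topologicalKrullDim C = 1) :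
    (∃ (U : C.Opens) (V : (CohB1.ProjSpace 1 k).Opens) (e : (↑U : Scheme.{u}) ≅ ↑V),
        Nonempty U ∧
          e.hom ≫ V.ι ≫ CohB1.ProjSpace.toSpec 1 k = U.ι ≫ i ≫ CohB1.ProjSpace.toSpec n k) ↔
      ∃ f : CohB1.ProjSpace 1 k ⟶ CohB1.ProjSpace n k,
        f ≫ CohB1.ProjSpace.toSpec n k = CohB1.ProjSpace.toSpec 1 k ∧ f.ker = i.ker := by
  haveI : IsIntegral (CohB1.ProjSpace 1 k) := RegExt.isIntegral_projSpace 1 k
  haveI : IsProper (CohB1.ProjSpace.toSpec 1 k) := ProjSpace.isProper_toSpec 1 k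
  haveI : IsProper (CohB1.ProjSpace.toSpec n k) := ProjSpace.isProper_toSpec n k
  haveI : Smooth (CohB1.ProjSpace.toSpec 1 k) := ProjSpace.smooth_toSpec 1 k
  letI : C.Over (Spec (CommRingCat.of k)) := ⟨i ≫ CohB1.ProjSpace.toSpec n k⟩
  haveI : IsProper (C ↘ Spec (CommRingCat.of k)) :=
    inferInstanceAs (IsProper (i ≫ CohB1.ProjSpace.toSpec n k))
  haveI : IsProper (CohB1.ProjSpace 1 k ↘ Spec (CommRingCat.of k)) :=
    ProjSpace.isProper_toSpec 1 k
  haveI : IsProper (CohB1.ProjSpace n k ↘ Spec (CommRingCat.of k)) :=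
    ProjSpace.isProper_toSpec n k
  constructor
  · rintro ⟨U, V, e, hU, he⟩
    haveI := hU
    haveI : Nonempty V := ⟨e.hom (Classical.arbitrary _)⟩
    have hd1 : topologicalKrullDim (CohB1.ProjSpace 1 k) = 1 := by
      rw [Groth.Agent.S10829.result k 1]; rfl
    have hcurve := (CurveNF.curve_iff_sdim_genericPoint (CohB1.ProjSpace.toSpec 1 k)).2
      (by exact_mod_cast (VarDim.dim_eq_sdim_genericPoint _).symm.trans hd1)
    have hN : Pi1.IsNormalScheme (CohB1.ProjSpace 1 k) := fun x =>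
      ⟨inferInstance, SmoothReg17.isIntegrallyClosed_stalk (CohB1.ProjSpace.toSpec 1 k) x⟩
    have hg : (e.inv ≫ U.ι ≫ i) ≫ CohB1.ProjSpace.toSpec n k = V.ι ≫ CohB1.ProjSpace.toSpec 1 k := by
      rw [← cancel_epi e.hom, he]
      simp
    have hVd : Dense (V : Set (CohB1.ProjSpace 1 k)) := V.2.dense ⟨_, (Classical.arbitrary V).2⟩
    have hUd : Dense (U : Set C) := U.2.dense ⟨_, (Classical.arbitrary U).2⟩
    obtain ⟨f, ⟨hfg, hf⟩, -⟩ := Groth.Agent.S2344.result k (CohB1.ProjSpace 1 k) (CohB1.ProjSpace n k)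
      hcurve hN V hVd (e.inv ≫ U.ι ≫ i) hg
    refine ⟨f, hf, ?_⟩
    haveI : IsDominant V.ι := ⟨by rw [DenseRange, Scheme.Opens.range_ι]; exact hVd⟩
    haveI : IsDominant U.ι := ⟨by rw [DenseRange, Scheme.Opens.range_ι]; exact hUd⟩
    haveI := IsSchemeTheoreticallyDominant.of_isDominant V.ι
    haveI : IsSchemeTheoreticallyDominant (e.inv ≫ U.ι) := .of_isDominant _
    have h1 : (V.ι ≫ f).ker = f.ker := by
      rw [Scheme.Hom.ker_comp, Scheme.Hom.ker_eq_bot V.ι, Scheme.IdealSheafData.map_bot]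
    have h2 : ((e.inv ≫ U.ι) ≫ i).ker = i.ker := by
      rw [Scheme.Hom.ker_comp, Scheme.Hom.ker_eq_bot (e.inv ≫ U.ι), Scheme.IdealSheafData.map_bot]
    rw [← h1, hfg, ← Category.assoc, h2]
  · rintro ⟨f, hf, hker⟩
    haveI : IsProper (f ≫ CohB1.ProjSpace.toSpec n k) := by rw [hf]; infer_instance
    haveI : IsProper f := IsProper.of_comp f (CohB1.ProjSpace.toSpec n k)
    let f0 := IsClosedImmersion.lift i f hker.ge
    have hf0 : f0 ≫ i = f := IsClosedImmersion.lift_fac _ _ _
    have hf0k : f0 ≫ i ≫ CohB1.ProjSpace.toSpec n k = CohB1.ProjSpace.toSpec 1 k := by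
      rw [← Category.assoc, hf0, hf]
    haveI : IsDominant f0 := by
      refine ⟨?_⟩
      have hs := congrArg (fun J : (CohB1.ProjSpace n k).IdealSheafData => (J.support : Set (CohB1.ProjSpace n k))) hker
      simp only [Scheme.Hom.support_ker, TopologicalSpace.Closeds.coe_closure] at hs
      rw [DenseRange, dense_iff_closure_eq, i.isClosedEmbedding.isInducing.closure_eq_preimage_closure_image,
        ← Set.range_comp, show ⇑i ∘ ⇑f0 = ⇑f by rw [← hf0]; rfl, hs, i.isClosedEmbedding.isClosed_range.closure_eq,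
        Set.preimage_range]
    have hgen : f0 (genericPoint (CohB1.ProjSpace 1 k)) = genericPoint C := by
      refine (((genericPoint_spec (CohB1.ProjSpace 1 k)).image f0.continuous).eq ?_)
      rw [Set.image_univ, f0.denseRange.closure_range]
      exact genericPoint_spec C
    letI := Curve17.funAlg (i ≫ CohB1.ProjSpace.toSpec n k)
    letI := Curve17.funAlg (RatCurve6.pP1 k)
    obtain ⟨σ⟩ := RatCurve6.nonempty_algEquiv_of_dominant (i ≫ CohB1.ProjSpace.toSpec n k) hdim f0 hf0k hgen
    obtain ⟨U, V, hU, φ, hφ⟩ := Groth.Agent.S7629.result k C (CohB1.ProjSpace 1 k)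
      σ.toRingEquiv.toCommRingCatIso (RingHom.ext fun a => σ.commutes a)
    exact ⟨U, V, φ, hU.to_subtype, hφ⟩

end Groth.Agent.S17085
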