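import Groth.Statements.S17086
import Groth.Agent.Lib.P1Split17.Chart
import Groth.Agent.Lib.RegExt.P1

set_option autoImplicit false
universe u
open CategoryTheory CategoryTheory.Limits AlgebraicGeometry
open RatCurve

set_option backward.isDefEq.respectTransparency false
set_option backward.isDefEq.respectTransparency.types false

namespace Groth.Agent.S17086

/-- Let k be an algebraically closed field, X a closed subscheme of P^n_k, Z ⊆ X a closed subscheme and
σ : B → X a blow-up of X along Z (the inverse image ideal of Z is effective Cartier and σ is final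
with this property). Then every k-morphism f : P^1_k → X whose image is not contained in Z lifts
uniquely along σ: there is exactly one morphism g : P^1_k → B with g ≫ σ = f. Equivalently, over the
open locus of morphisms meeting X ∖ Z, the morphism Mor(P^1_k, B) → Mor(P^1_k, X) induced by σ is a
bijection on k-points. -/
theorem result
    {k : Type u} [Field k] [IsAlgClosed k] {n : ℕ} (X : Scheme.{u})
    (c : X ⟶ CohB1.ProjSpace n k) [IsClosedImmersion c]
    (Z : Scheme.{u}) (iZ : Z ⟶ X) [IsClosedImmersion iZ]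
    (B : Scheme.{u}) (σ : B ⟶ X) (hσ : BlowUp.IsBlowUp σ iZ.ker)
    (f : CohB1.ProjSpace 1 k ⟶ X)
    (hf : f ≫ c ≫ CohB1.ProjSpace.toSpec n k = CohB1.ProjSpace.toSpec 1 k)
    (hfZ : ¬ Set.range f ⊆ Set.range iZ) :
    ∃! g : CohB1.ProjSpace 1 k ⟶ B, g ≫ σ = f := by
  refine hσ.2 _ f fun x => ?_
  haveI : IsIntegral (CohB1.ProjSpace 1 k) := RegExt.isIntegral_projSpace 1 k
  obtain ⟨i, hi⟩ : ∃ i, x ∈ P1Split.U k i :=
    TopologicalSpace.Opens.mem_iSup.mp (by rw [P1Split.iSup_U]; exact Set.mem_univ _)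
  haveI : Nonempty ↥(P1Split.U k i) := ⟨⟨x, hi⟩⟩
  let U : (CohB1.ProjSpace 1 k).affineOpens := ⟨P1Split.U k i, P1Split.isAffineOpen_U k i⟩
  haveI : IsDomain Γ(CohB1.ProjSpace 1 k, U.1) :=
    @IsIntegral.component_integral _ _ U.1 ⟨⟨x, hi⟩⟩
  haveI : IsPrincipalIdealRing Γ(CohB1.ProjSpace 1 k, U.1) := P1Split.isPrincipalIdealRing_U k i
  refine ⟨U, hi, Submodule.IsPrincipal.generator ((iZ.ker.comap f).ideal U), ?_,
    (Ideal.span_singleton_generator _).symm⟩
  rw [mem_nonZeroDivisors_iff_ne_zero, Ne, ← Submodule.IsPrincipal.eq_bot_iff_generator_eq_zero]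
  intro hbot
  apply hfZ
  have h1 := Scheme.IdealSheafData.coe_support_inter (iZ.ker.comap f) U
  rw [hbot] at h1
  have h2 : genericPoint (CohB1.ProjSpace 1 k) ∈ (U.1 : Set (CohB1.ProjSpace 1 k)) :=
    ((genericPoint_spec _).mem_open_set_iff U.1.2).mpr ⟨x, trivial, hi⟩
  have h3 : genericPoint (CohB1.ProjSpace 1 k) ∈ ((iZ.ker.comap f).support : Set _) := by
    have : genericPoint (CohB1.ProjSpace 1 k) ∈ ((iZ.ker.comap f).support : Set _) ∩ U.1 := by
      rw [h1]; simpa using h2
    exact this.1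
  rw [Scheme.IdealSheafData.support_comap] at h3
  have h4 : f (genericPoint (CohB1.ProjSpace 1 k)) ∈ (iZ.ker.support : Set X) := h3
  rw [Scheme.Hom.support_ker, iZ.isClosedEmbedding.isClosed_range.closure_eq] at h4
  rintro _ ⟨y, rfl⟩
  have h5 : closure {genericPoint (CohB1.ProjSpace 1 k)} ⊆ f ⁻¹' Set.range iZ :=
    closure_minimal (Set.singleton_subset_iff.mpr h4)
      (iZ.isClosedEmbedding.isClosed_range.preimage f.continuous)
  exact h5 (by rw [genericPoint_closure]; trivial)

end Groth.Agent.S17086
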