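import Groth.Statements.S17087
import Groth.Agent.Lib.MorSch18.IsoLocus
import Groth.Agent.Lib.HilbBC25.Basic
-- import your own Groth.Agent.* helpers here

set_option autoImplicit false
universe u
open CategoryTheory CategoryTheory.Limits AlgebraicGeometry
open MorSch

namespace Groth.Agent.S17087

open Groth.Agent

set_option backward.isDefEq.respectTransparency false
set_option backward.isDefEq.respectTransparency.types false
set_option maxHeartbeats 1600000

/-- The graph of a morphism `T ×_S X ⟶ Y`. -/
noncomputable def graph {X Y S : Scheme.{u}} {gX : X ⟶ S} {gY : Y ⟶ S} {T : Over S}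
    (a : (Flatn.morS gX gY).obj (Opposite.op T)) : pullback T.hom gX ⟶ PicF.XT (pullback.fst gX gY ≫ gX) T :=
  pullback.lift (pullback.lift (pullback.snd T.hom gX) a.left (Over.w a).symm) (pullback.fst T.hom gX)
    ((pullback.lift_fst_assoc _ _ _ _).trans pullback.condition.symm)

/-- Forgetting the component in `Y`. -/
noncomputable def qT {X Y S : Scheme.{u}} (gX : X ⟶ S) (gY : Y ⟶ S) (T : Over S) :
    PicF.XT (pullback.fst gX gY ≫ gX) T ⟶ pullback T.hom gX :=
  pullback.lift (pullback.snd _ _) (pullback.fst _ _ ≫ pullback.fst gX gY)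
    (pullback.condition.symm.trans (Category.assoc _ _ _).symm)

theorem graph_qT {X Y S : Scheme.{u}} {gX : X ⟶ S} {gY : Y ⟶ S} {T : Over S}
    (a : (Flatn.morS gX gY).obj (Opposite.op T)) : graph a ≫ qT gX gY T = 𝟙 _ := by
  apply pullback.hom_ext <;> simp [graph, qT]

theorem graph_Y {X Y S : Scheme.{u}} {gX : X ⟶ S} {gY : Y ⟶ S} {T : Over S}
    (a : (Flatn.morS gX gY).obj (Opposite.op T)) :
    graph a ≫ pullback.fst _ _ ≫ pullback.snd gX gY = a.left := by
  simp [graph]

theorem graph_proj {X Y S : Scheme.{u}} {gX : X ⟶ S} {gY : Y ⟶ S} {T : Over S}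
    (a : (Flatn.morS gX gY).obj (Opposite.op T)) :
    graph a ≫ PicF.XTproj (pullback.fst gX gY ≫ gX) T = pullback.fst T.hom gX :=
  pullback.lift_snd _ _ _


/-- Let S be a locally Noetherian scheme, gX : X → S proper and flat, gY : Y → S separated, and (H, Z) a
pair representing the Hilbert functor of X ×_S Y over S on locally Noetherian S-schemes (H locally
Noetherian; Z ⊆ (X ×_S Y) ×_S H closed, proper and flat over H; universal). For an S-morphism a : T
×_S X → Y write Γ_a : T ×_S X → (X ×_S Y) ×_S T for its graph, a closed immersion. Then there is an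
open subset H₀ of H such that, for every locally Noetherian S-scheme T: every S-morphism a : T ×_S X
→ Y has exactly one S-morphism g : T → H with image in H₀ along which Z pulls back to the closed
subscheme defined by Γ_a; and every S-morphism g : T → H with image in H₀ pulls Z back to the graph
of exactly one such a. Thus the functor Mor_S(X, Y) on locally Noetherian S-schemes is represented
by the open subscheme H₀ of the Hilbert scheme of X ×_S Y, the universal family being a graph.
(Published for X and Y projective over S, with X flat; the Hilbert scheme is taken as given here.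
The published statement also asserts that each irreducible component of the representing scheme is
of finite type over S; that clause is not part of this row.) -/
theorem result
    {X Y S : Scheme.{u}} [IsLocallyNoetherian S] (gX : X ⟶ S) [IsProper gX] [Flat gX]
    (gY : Y ⟶ S) [IsSeparated gY]
    (H : Over S) (Z : FGA.HilbSet (pullback.fst gX gY ≫ gX) H)
    (hH : FGA.HilbRepresentedBy (pullback.fst gX gY ≫ gX) H Z) :
    ∃ H₀ : H.left.Opens, ∀ (T : Over S) [IsLocallyNoetherian T.left],
      (∀ a : (Flatn.morS gX gY).obj (Opposite.op T),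
        ∃! g : T ⟶ H, Set.range g.left ⊆ (H₀ : Set H.left) ∧
          FGA.hilbPull (pullback.fst gX gY ≫ gX) g Z.1 =
            (pullback.lift
              (pullback.lift (pullback.snd T.hom gX) a.left (Over.w a).symm)
              (pullback.fst T.hom gX)
              ((pullback.lift_fst_assoc _ _ _ _).trans pullback.condition.symm)
              : pullback T.hom gX ⟶ PicF.XT (pullback.fst gX gY ≫ gX) T).ker) ∧
      (∀ g : T ⟶ H, Set.range g.left ⊆ (H₀ : Set H.left) →
        ∃! a : (Flatn.morS gX gY).obj (Opposite.op T),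
          FGA.hilbPull (pullback.fst gX gY ≫ gX) g Z.1 =
            (pullback.lift
              (pullback.lift (pullback.snd T.hom gX) a.left (Over.w a).symm)
              (pullback.fst T.hom gX)
              ((pullback.lift_fst_assoc _ _ _ _).trans pullback.condition.symm)
              : pullback T.hom gX ⟶ PicF.XT (pullback.fst gX gY ≫ gX) T).ker) := by
  let f := pullback.fst gX gY ≫ gX
  haveI : IsSeparated (pullback.fst gX gY) := MorphismProperty.pullback_fst _ _ inferInstance
  haveI : IsSeparated f := inferInstanceAs (IsSeparated (pullback.fst gX gY ≫ gX))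
  haveI hH' : IsLocallyNoetherian H.left := hH.1
  let q₁ (T : Over S) : PicF.XT f T ⟶ pullback gX T.hom :=
    pullback.map f T.hom gX T.hom (pullback.fst gX gY) (𝟙 _) (𝟙 _) (by simp [f]) (by simp)
  let zX := Z.1.subschemeι ≫ q₁ H
  have hzX : zX ≫ pullback.snd gX H.hom = Z.1.subschemeι ≫ PicF.XTproj f H := by
    simp [zX, q₁]
  haveI : IsProper (zX ≫ pullback.snd gX H.hom) := by rw [hzX]; exact Z.2.1
  haveI : Flat (zX ≫ pullback.snd gX H.hom) := by rw [hzX]; exact Z.2.2
  haveI : IsProper (pullback.snd gX H.hom) := MorphismProperty.pullback_snd _ _ inferInstance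
  obtain ⟨U, hU⟩ := MorSch18.exists_open_isoAt zX (pullback.snd gX H.hom)
  refine ⟨U, fun T _ => ?_⟩
  haveI : IsSeparated (PicF.XTproj f T) := MorphismProperty.pullback_snd _ _ inferInstance
  haveI : IsSeparated (qT gX gY T ≫ pullback.fst T.hom gX) := by
    rw [show qT gX gY T ≫ pullback.fst T.hom gX = PicF.XTproj f T from pullback.lift_fst _ _ _]
    infer_instance
  haveI : IsSeparated (qT gX gY T) := IsSeparated.of_comp (qT gX gY T) (pullback.fst T.hom gX)
  haveI hgraph : ∀ a : (Flatn.morS gX gY).obj (Opposite.op T), IsClosedImmersion (graph a) := fun a => by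
    haveI : IsClosedImmersion (graph a ≫ qT gX gY T) := by rw [graph_qT]; infer_instance
    exact IsClosedImmersion.of_comp (graph a) (qT gX gY T)
  let pr (g : T ⟶ H) := pullback.fst (PicF.XTmap f g) Z.1.subschemeι
  haveI hpr : ∀ g, IsClosedImmersion (pr g) := fun g => MorphismProperty.pullback_fst _ _ inferInstance
  have hker : ∀ g : T ⟶ H, FGA.hilbPull f g Z.1 = (pr g).ker := fun g => HilbBC25.pull_eq_comap f g Z.1
  have hiso : ∀ g : T ⟶ H, Set.range g.left ⊆ (U : Set H.left) ↔ IsIso (pr g ≫ qT gX gY T) := fun g => by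
    rw [hU g.left]
    have hmap : PicF.XTmap f g ≫ q₁ H = q₁ T ≫ PicF.XTmap gX g := by
      apply pullback.hom_ext <;> simp [q₁, PicF.XTmap]
    have outer : IsPullback (pullback.snd (PicF.XTmap f g) Z.1.subschemeι)
        ((pr g ≫ q₁ T) ≫ PicF.XTproj gX T) (zX ≫ pullback.snd gX H.hom) g.left := by
      rw [hzX, show (pr g ≫ q₁ T) ≫ PicF.XTproj gX T = pr g ≫ PicF.XTproj f T by simp [q₁]]
      exact HilbBC25.isPullback_subscheme f g Z.1
    refine (Pur13.isoAt_iff_of_isPullback (HilbBC25.isPullback_XTmap gX g)
      (IsPullback.of_bot outer ?_ (HilbBC25.isPullback_XTmap gX g))).trans ?_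
    · show pullback.snd _ _ ≫ Z.1.subschemeι ≫ q₁ H = (pr g ≫ q₁ T) ≫ PicF.XTmap gX g
      rw [← Category.assoc, ← pullback.condition, Category.assoc, Category.assoc, hmap]
    · have hq : pr g ≫ qT gX gY T = (pr g ≫ q₁ T) ≫ (pullbackSymmetry gX T.hom).hom := by
        apply pullback.hom_ext <;> simp [qT, q₁] <;> rfl
      rw [hq]; exact (isIso_comp_right_iff _ _).symm
  -- closed immersions with the same kernel
  have same : ∀ {P Q : Scheme.{u}} (α : P ⟶ PicF.XT f T) (β : Q ⟶ PicF.XT f T) [IsClosedImmersion α]
      [IsClosedImmersion β], α.ker = β.ker → ∃ ε : Q ⟶ P, IsIso ε ∧ ε ≫ α = β :=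
    fun α β _ _ h => ⟨IsClosedImmersion.lift α β h.le, IsClosedImmersion.isIso_lift α β h,
      IsClosedImmersion.lift_fac _ _ _⟩
  refine ⟨fun a => ?_, fun g hg => ?_⟩
  · have hmem : IsProper ((graph a).ker.subschemeι ≫ PicF.XTproj f T) ∧
        Flat ((graph a).ker.subschemeι ≫ PicF.XTproj f T) := by
      have e : (graph a).ker.subschemeι ≫ PicF.XTproj f T = inv (graph a).toImage ≫ pullback.fst T.hom gX := by
        rw [IsIso.eq_inv_comp, ← Category.assoc]
        exact (congrArg (· ≫ PicF.XTproj f T) (graph a).toImage_imageι).trans (graph_proj a)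
      haveI : IsProper (pullback.fst T.hom gX) := MorphismProperty.pullback_fst _ _ inferInstance
      haveI : Flat (pullback.fst T.hom gX) := MorphismProperty.pullback_fst _ _ inferInstance
      rw [e]
      exact ⟨inferInstance, inferInstance⟩
    obtain ⟨g, hg, hgu⟩ := hH.2 T ⟨(graph a).ker, hmem⟩
    refine ⟨g, ⟨(hiso g).2 ?_, hg⟩, fun g' hg' => hgu g' hg'.2⟩
    obtain ⟨ε, hε, hε'⟩ := same (graph a) (pr g) (((hker g).symm.trans hg).symm)
    haveI := hε
    rw [← hε', Category.assoc, graph_qT, Category.comp_id]
    infer_instance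
  · haveI := (hiso g).1 hg
    let γ := inv (pr g ≫ qT gX gY T) ≫ pr g
    have hγ : γ ≫ qT gX gY T = 𝟙 _ := by simp [γ]
    have h₁ : γ ≫ pullback.fst _ _ ≫ pullback.fst gX gY = pullback.snd T.hom gX := by
      simpa [qT] using congrArg (· ≫ pullback.snd T.hom gX) hγ
    have h₂ : γ ≫ PicF.XTproj f T = pullback.fst T.hom gX := by
      simpa [qT] using congrArg (· ≫ pullback.fst T.hom gX) hγ
    let a : (Flatn.morS gX gY).obj (Opposite.op T) :=
      Over.homMk (γ ≫ pullback.fst _ _ ≫ pullback.snd gX gY) (by
        show (γ ≫ pullback.fst _ _ ≫ pullback.snd gX gY) ≫ gY = pullback.snd T.hom gX ≫ gX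
        rw [← h₁]
        simp only [Category.assoc, pullback.condition])
    have ha : graph a = γ := by
      apply pullback.hom_ext
      · apply pullback.hom_ext
        · simp [graph]; exact h₁.symm
        · simp [graph, a]; rfl
      · exact (graph_proj a).trans h₂.symm
    refine ⟨a, ?_, fun b hb => ?_⟩
    · show FGA.hilbPull f g Z.1 = (graph a).ker
      rw [hker, ha]
      exact (Scheme.Hom.ker_comp_of_isIso (inv (pr g ≫ qT gX gY T)) (pr g)).symm
    · obtain ⟨ε, hε, hε'⟩ := same (pr g) (graph b) ((hker g).symm.trans hb)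
      have he : ε = inv (pr g ≫ qT gX gY T) := by
        refine IsIso.eq_inv_of_inv_hom_id ?_
        rw [← Category.assoc, hε', graph_qT]
      have hab : graph b = graph a := by rw [ha, ← hε', he]
      apply Over.OverMorphism.ext
      rw [← graph_Y b, ← graph_Y a, hab]

end Groth.Agent.S17087
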