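import Groth.Statements.S17088
import Mathlib.AlgebraicGeometry.ZariskisMainTheorem
-- import your own Groth.Agent.* helpers here

set_option autoImplicit false
set_option backward.isDefEq.respectTransparency.types false
universe u
open CategoryTheory CategoryTheory.Limits AlgebraicGeometry
open MorSch

namespace Groth.Agent.S17088

/-- Let f : X → S be a separated morphism, ι : W → X an immersion and T an S-scheme. For every closed
subscheme V of W ×_S T which is proper and flat over T — a T-point of the Hilbert functor of W over
S — the composite V → W ×_S T → X ×_S T is a closed immersion, and the map sending V to the ideal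
sheaf of this composite, from T-points of the Hilbert functor of W to ideal sheaves on X ×_S T, is
injective: an immersion induces a monomorphism of Hilbert functors. -/
theorem result
    {W X S : Scheme.{u}} (f : X ⟶ S) [IsSeparated f] (ι : W ⟶ X) [IsImmersion ι]
    (T : Over S) :
    (∀ V : FGA.HilbSet (ι ≫ f) T,
      IsClosedImmersion (V.1.subschemeι ≫ pullback.map (ι ≫ f) T.hom f T.hom ι (𝟙 T.left) (𝟙 S)
          (Category.comp_id _) ((Category.comp_id _).trans (Category.id_comp _).symm))) ∧
    Function.Injective (fun V : FGA.HilbSet (ι ≫ f) T =>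
      (V.1.subschemeι ≫ pullback.map (ι ≫ f) T.hom f T.hom ι (𝟙 T.left) (𝟙 S)
          (Category.comp_id _) ((Category.comp_id _).trans (Category.id_comp _).symm)).ker) := by
  have key : ∀ V : FGA.HilbSet (ι ≫ f) T,
      IsClosedImmersion (V.1.subschemeι ≫ pullback.map (ι ≫ f) T.hom f T.hom ι (𝟙 T.left) (𝟙 S)
          (Category.comp_id _) ((Category.comp_id _).trans (Category.id_comp _).symm)) := by
    intro V
    set m := pullback.map (ι ≫ f) T.hom f T.hom ι (𝟙 T.left) (𝟙 S)
        (Category.comp_id _) ((Category.comp_id _).trans (Category.id_comp _).symm) with hm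
    haveI : Mono m := ⟨fun a b h => pullback.hom_ext
      (by rw [← cancel_mono ι, Category.assoc, Category.assoc,
            show pullback.fst (ι ≫ f) T.hom ≫ ι = m ≫ pullback.fst f T.hom from (pullback.lift_fst _ _ _).symm,
            reassoc_of% h])
      (by have := congrArg (· ≫ pullback.snd f T.hom) h
          simpa only [hm, Category.assoc, pullback.lift_snd, pullback.lift_snd_assoc, Category.comp_id] using this)⟩
    haveI : IsProper ((V.1.subschemeι ≫ m) ≫ pullback.snd f T.hom) := by
      rw [Category.assoc, show m ≫ pullback.snd f T.hom = pullback.snd (ι ≫ f) T.hom ≫ 𝟙 _ from pullback.lift_snd _ _ _,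
        Category.comp_id]
      exact V.2.1
    haveI : IsProper (V.1.subschemeι ≫ m) := IsProper.of_comp _ (pullback.snd f T.hom)
    exact (IsClosedImmersion.iff_isProper_and_mono _).2 ⟨inferInstance, inferInstance⟩
  refine ⟨key, fun V W h => Subtype.ext ?_⟩
  haveI := key V
  haveI := key W
  set m := pullback.map (ι ≫ f) T.hom f T.hom ι (𝟙 T.left) (𝟙 S)
        (Category.comp_id _) ((Category.comp_id _).trans (Category.id_comp _).symm) with hm
  haveI : Mono m := ⟨fun a b h => pullback.hom_ext
      (by rw [← cancel_mono ι, Category.assoc, Category.assoc,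
            show pullback.fst (ι ≫ f) T.hom ≫ ι = m ≫ pullback.fst f T.hom from (pullback.lift_fst _ _ _).symm,
            reassoc_of% h])
      (by have := congrArg (· ≫ pullback.snd f T.hom) h
          simpa only [hm, Category.assoc, pullback.lift_snd, pullback.lift_snd_assoc, Category.comp_id] using this)⟩
  let e := IsClosedImmersion.lift (V.1.subschemeι ≫ m) (W.1.subschemeι ≫ m) (le_of_eq h)
  haveI : IsIso e := IsClosedImmersion.isIso_lift _ _ h
  have he : e ≫ V.1.subschemeι = W.1.subschemeι := by
    rw [← cancel_mono m, Category.assoc]
    exact IsClosedImmersion.lift_fac _ _ _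
  rw [← V.1.ker_subschemeι, ← W.1.ker_subschemeι, ← he, Scheme.Hom.ker_comp_of_isIso]

end Groth.Agent.S17088
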