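import Groth.Statements.S17089
import Groth.Agent.Lib.TorPts21.Nilpotent
import Groth.Agent.Lib.TorPts21.GeomIso
import Groth.Agent.Lib.TorPts21.Split
-- import your own Groth.Agent.* helpers here

set_option backward.isDefEq.respectTransparency false

set_option autoImplicit false
universe u
open CategoryTheory MonoidalCategory CartesianMonoidalCategory MonObj GrpObj AlgebraicGeometry
open AGF
open scoped commutatorElement

namespace Groth.Agent.S17089

theorem isTorus_unit' {k : Type u} [Field k] : Red.IsTorus (𝟙_ (Over (Spec (CommRingCat.of k)))) :=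
  TorPts21.isTorus_of_chars (r := 0)
    { ch := fun _ => 1
      nat := fun _ _ _ => by simp
      mul := fun _ _ _ => by simp
      inj := fun {X x y} _ => toUnit_unique _ _
      surj := fun {X} c => ⟨toUnit X, MonoidHom.ext fun a => by
        rw [MonoidHom.one_apply, Subsingleton.elim a 1, map_one]⟩ }

theorem isNilpotentGrp_of_noSubtorus (k : Type u) [Field k]
    (G : Over (Spec (CommRingCat.of k))) [GrpObj G] [IsAffine G.left] [Smooth G.hom] [ConnectedSpace ↥G.left]
    (h : ∀ s : ↥(Spec (CommRingCat.of k)),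
      Red.HasNoSubtorus (AlgebraicClosure ((Spec (CommRingCat.of k)).residueField s)) (Red.geomFibre s G)) :
    AGF.IsNilpotentGrp G := by
  let s : ↥(Spec (CommRingCat.of k)) := IsLocalRing.closedPoint k
  let K := AlgebraicClosure ((Spec (CommRingCat.of k)).residueField s)
  let φ : Spec (CommRingCat.of K) ⟶ Spec (CommRingCat.of k) := Red.geomPt s
  haveI : Surjective φ := ⟨fun x => ⟨IsLocalRing.closedPoint K, Subsingleton.elim _ _⟩⟩
  haveI : Smooth (Red.bc φ G).hom := BorelFix21.smooth_bc φ G
  haveI : IsAffine (Red.bc φ G).left := BorelFix21.isAffine_bc φ G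
  haveI : ConnectedSpace (Red.bc φ G).left := BorelFix21.connectedSpace_bc φ G
  have hs : Red.HasNoSubtorus K (Red.bc φ G) := h s
  have h1 : ∀ {X : Over (Spec (CommRingCat.of K))} (y : X ⟶ 𝟙_ (Over (Spec (CommRingCat.of K)))),
      y ≫ η[Red.bc φ G] = 1 := fun y => by rw [Hom.one_def, toUnit_unique y (toUnit _)]
  haveI : IsMonHom η[Red.bc φ G] := TorsorSch25.isMonHom_of_points _ fun W x y => by
    rw [h1, h1, h1, _root_.mul_one]
  haveI : Mono η[Red.bc φ G] := SplitMono.mono ⟨toUnit _, toUnit_unique _ _⟩
  refine TorPts21.isNilpotentGrp_of_bc φ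
    (TorPts21.isNilpotentGrp_of_central_maxTorus (iT := η[Red.bc φ G]) ⟨inferInstance, inferInstance, isTorus_unit',
      fun T' _ j _ _ f hT' _ => ?_⟩ fun x y => by rw [h1, _root_.mul_one, _root_.one_mul])
  haveI : IsIso T'.hom := hs T' j hT'
  haveI : IsIso f.left := by
    haveI : IsIso (f.left ≫ T'.hom) := by
      rw [Over.w f]; exact inferInstanceAs (IsIso (𝟙 _))
    exact IsIso.of_isIso_comp_right f.left T'.hom
  haveI : IsIso ((Over.forget _).map f) := ‹IsIso f.left›
  exact isIso_of_reflects_iso f (Over.forget _)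


/-- Let k be a field, U' an affine, smooth, connected k-group scheme whose geometric fibre contains no
non-trivial subtorus (a smooth connected unipotent group), i : U ⟶ U' a closed subgroup scheme which
is smooth and connected and whose inclusion is not an isomorphism, and n : N ⟶ U' the normalizer of
U in U'. Then N is strictly larger than U: the inclusion of N does not factor through U. -/
theorem result (k : Type u) [Field k]
    (U' : Over (Spec (CommRingCat.of k))) [GrpObj U'] [IsAffine U'.left] [Smooth U'.hom] [ConnectedSpace ↥U'.left]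
    (hU' : ∀ s : ↥(Spec (CommRingCat.of k)),
      Red.HasNoSubtorus (AlgebraicClosure ((Spec (CommRingCat.of k)).residueField s)) (Red.geomFibre s U'))
    (U : Over (Spec (CommRingCat.of k))) [GrpObj U] (i : U ⟶ U') [IsMonHom i] (hi : IsClosedImmersion i.left)
    [Smooth U.hom] [ConnectedSpace ↥U.left] (hne : ¬ IsIso i.left)
    (N : Over (Spec (CommRingCat.of k))) [GrpObj N] (n : N ⟶ U') (hn : Red.IsNormalizerOf i n) :
    ¬ ∃ f : N ⟶ U, f ≫ i = n := by
  rintro ⟨f, hf⟩
  obtain ⟨c, hc⟩ := isNilpotentGrp_of_noSubtorus k U' hU'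
  haveI : IsClosedImmersion i.left := hi
  have key : ∀ d j : ℕ, j + d = c → ∀ (X : Over (Spec (CommRingCat.of k))) (g : X ⟶ U'),
      g ∈ (⊤ : Subgroup (X ⟶ U')).lowerCentralSeries j → ∃ u : X ⟶ U, u ≫ i = g := by
    intro d
    induction d with
    | zero => exact fun j hj X g hg => ⟨1, by
        rw [show j = c by omega, Subgroup.lowerCentralSeries_eq_bot_iff_upperCentralSeries_eq_top.2 (hc X),
          Subgroup.mem_bot] at hg
        rw [hg, MonObj.one_comp]⟩
    | succ d ih =>
      intro j hj X g hg
      obtain ⟨z, hz⟩ := (hn.2.2 X g).2 fun X' x h => by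
        let F : (X ⟶ U') →* (X' ⟶ U') := MonoidHom.mk' (x ≫ ·) fun a b => MonObj.comp_mul x a b
        have hmap : ∀ m : ℕ, ((⊤ : Subgroup (X ⟶ U')).lowerCentralSeries m).map F ≤
            (⊤ : Subgroup (X' ⟶ U')).lowerCentralSeries m := fun m => by
          induction m with
          | zero => exact le_top
          | succ m ihm =>
            rw [Subgroup.lowerCentralSeries_succ, Subgroup.lowerCentralSeries_succ, Subgroup.map_commutator]
            exact Subgroup.commutator_mono ihm le_top
        have hF : x ≫ g ∈ (⊤ : Subgroup (X' ⟶ U')).lowerCentralSeries j := hmap j ⟨g, hg, rfl⟩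
        have step : ∀ g' ∈ (⊤ : Subgroup (X' ⟶ U')).lowerCentralSeries j,
            ∃ h' : X' ⟶ U, g' * (h ≫ i) * g'⁻¹ = h' ≫ i := by
          intro g' hg'
          obtain ⟨u, hu⟩ := ih (j + 1) (by omega) X' ⁅g', h ≫ i⁆
            (Subgroup.commutator_mem_commutator hg' (Subgroup.mem_top _))
          refine ⟨u * h, ?_⟩
          rw [MonObj.mul_comp, hu, commutatorElement_def]
          group
        refine ⟨step _ hF, ?_⟩
        have := step _ (inv_mem hF)
        rwa [_root_.inv_inv] at this
      exact ⟨z ≫ f, by rw [Category.assoc, hf, hz]⟩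
  obtain ⟨s, hs⟩ := key c 0 (by omega) U' (𝟙 U') (Subgroup.mem_top _)
  haveI : IsSplitEpi i.left := ⟨⟨⟨s.left, by rw [← Over.comp_left, hs]; rfl⟩⟩⟩
  exact hne (isIso_of_mono_of_isSplitEpi i.left)

end Groth.Agent.S17089
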