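import Groth.Statements.S17090
import Groth.Agent.Lib.GrpGen20.Generated
import Groth.Agent.Lib.IsogTransfer19.Words
import Groth.Agent.Lib.AbRigid.SmoothGI
import Groth.Agent.Lib.AbRigid.Maximal
import Groth.Agent.Lib.LocCoh.ConnDim27
import Groth.Agent.Lib.TorPts21.Nilpotent
import Groth.Agent.Lib.TorPts21.MaxExist
import Groth.Agent.Lib.TorPts21.Structure
-- import your own Groth.Agent.* helpers here

set_option autoImplicit false
universe u
open CategoryTheory MonoidalCategory CartesianMonoidalCategory MonObj GrpObj AlgebraicGeometry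
open AGF

namespace Groth.Agent.S17090

open CategoryTheory CategoryTheory.Limits MonoidalCategory CartesianMonoidalCategory MonObj GrpObj AlgebraicGeometry
open scoped commutatorElement

set_option backward.isDefEq.respectTransparency.types false

variable {k : Type u} [Field k] {G X U : Over (Spec (CommRingCat.of k))} [GrpObj G] [GrpObj U]

/-- The points normalising `i`. -/
def Nz (i : U ⟶ G) {T : Over (Spec (CommRingCat.of k))} (g : T ⟶ G) : Prop :=
  ∀ (V : Over (Spec (CommRingCat.of k))) (p : V ⟶ T) (n : V ⟶ U),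
    (∃ n' : V ⟶ U, (p ≫ g) * (n ≫ i) * (p ≫ g)⁻¹ = n' ≫ i) ∧
    ∃ n' : V ⟶ U, (p ≫ g)⁻¹ * (n ≫ i) * (p ≫ g) = n' ≫ i

theorem word_nz (i : U ⟶ G) (f : X ⟶ G) (hf : Nz i f) {T : Over (Spec (CommRingCat.of k))} {g : T ⟶ G}
    (h : GrpGen20.Word f g) : Nz i g := by
  induction h with
  | base => exact hf
  | one =>
    intro V p n
    have h1 : p ≫ η[G] = 1 := by rw [Hom.one_def, toUnit_unique p (toUnit V)]
    exact ⟨⟨n, by rw [h1, inv_one, _root_.one_mul, _root_.mul_one]⟩,
      ⟨n, by rw [h1, inv_one, _root_.one_mul, _root_.mul_one]⟩⟩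
  | inv _ ih =>
    intro V p n
    obtain ⟨h1, h2⟩ := ih V p n
    rw [GrpObj.comp_inv, _root_.inv_inv]
    exact ⟨h2, h1⟩
  | mul _ _ ih ih' =>
    intro V p n
    rw [MonObj.comp_mul, ← Category.assoc, ← Category.assoc]
    obtain ⟨a, ha⟩ := (ih' V (p ≫ snd _ _) n).1
    obtain ⟨a', ha'⟩ := (ih V (p ≫ fst _ _) a).1
    obtain ⟨b, hb⟩ := (ih V (p ≫ fst _ _) n).2
    obtain ⟨b', hb'⟩ := (ih' V (p ≫ snd _ _) b).2
    exact ⟨⟨a', by rw [← ha', ← ha]; group⟩, ⟨b', by rw [← hb', ← hb]; group⟩⟩

theorem nilpotent_of_noSubtorus (G : Over (Spec (CommRingCat.of k))) [GrpObj G] [IsAffine G.left] [Smooth G.hom]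
    [ConnectedSpace ↥G.left]
    (hG : ∀ s : ↥(Spec (CommRingCat.of k)),
      Red.HasNoSubtorus (AlgebraicClosure ((Spec (CommRingCat.of k)).residueField s)) (Red.geomFibre s G)) :
    AGF.IsNilpotentGrp G := by
  let s : Spec (CommRingCat.of k) := IsLocalRing.closedPoint k
  let φ := Red.geomPt s
  haveI : Surjective φ := ⟨fun z => ⟨IsLocalRing.closedPoint _, Subsingleton.elim (α := PrimeSpectrum k) _ _⟩⟩
  haveI : Flat φ := inferInstance
  refine TorPts21.isNilpotentGrp_of_bc φ ?_
  haveI : IsAffine (Red.bc φ G).left := BorelFix21.isAffine_bc φ G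
  haveI : Smooth (Red.bc φ G).hom := BorelFix21.smooth_bc φ G
  haveI : ConnectedSpace (Red.bc φ G).left := BorelFix21.connectedSpace_bc φ G
  obtain ⟨T, _, iT, hT⟩ := TorPts21.exists_maxTorus (Red.bc φ G)
  haveI := hT.1
  haveI := hT.2.1
  have htriv : Red.IsTrivialGrp T := hG s T iT hT.2.2.1
  refine TorPts21.isNilpotentGrp_of_central_maxTorus hT fun x y => ?_
  rw [TorPts21.eq_one_of_isTrivialGrp htriv y, MonObj.one_comp, _root_.mul_one, _root_.one_mul]

/-- The particular case of codimension one: let k be a field, U' an affine, smooth, connected k-group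
scheme whose geometric fibre contains no non-trivial subtorus (a smooth connected unipotent group)
and i : U ⟶ U' a closed subgroup scheme which is smooth and connected. If dim U' = dim U + 1
(dimensions of the underlying topological spaces), then U is a normal subgroup of U'. -/
theorem result (k : Type u) [Field k]
    (U' : Over (Spec (CommRingCat.of k))) [GrpObj U'] [IsAffine U'.left] [Smooth U'.hom] [ConnectedSpace ↥U'.left]
    (hU' : ∀ s : ↥(Spec (CommRingCat.of k)),
      Red.HasNoSubtorus (AlgebraicClosure ((Spec (CommRingCat.of k)).residueField s)) (Red.geomFibre s U'))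
    (U : Over (Spec (CommRingCat.of k))) [GrpObj U] (i : U ⟶ U') [IsMonHom i] (hi : IsClosedImmersion i.left)
    [Smooth U.hom] [ConnectedSpace ↥U.left]
    (d : ℕ) (hd : topologicalKrullDim ↥U.left = (d : WithBot ℕ∞))
    (hd' : topologicalKrullDim ↥U'.left = ((d + 1 : ℕ) : WithBot ℕ∞)) :
    AlgGrp.IsNormalHom i := by
  classical
  haveI := hi
  haveI := IsogTransfer19.good_of_connected U'
  haveI := IsogTransfer19.good_of_connected U
  haveI : GeometricallyReduced U'.hom := AbRigid.geometricallyReduced_of_smooth U'.hom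
  haveI : GeometricallyReduced U.hom := AbRigid.geometricallyReduced_of_smooth U.hom
  haveI := GrpGen20.geometricallyReduced_tensorObj U' U
  haveI : IsReduced (U' ⊗ U).left := GrpGen20.isReduced_of_geomReduced (U' ⊗ U).hom
  haveI : IsReduced U'.left := GrpGen20.isReduced_of_geomReduced U'.hom
  haveI : IrreducibleSpace ↥(Spec (CommRingCat.of k)) := ⟨⟨IsLocalRing.closedPoint k⟩⟩
  have hirr : ∀ (Z : Over (Spec (CommRingCat.of k))) [IsogTransfer19.Good Z], IrreducibleSpace Z.left := by
    intro Z _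
    haveI := IsogTransfer19.Good.smooth (Z := Z)
    haveI := IsogTransfer19.Good.irred (Z := Z)
    exact GeometricallyIrreducible.irreducibleSpace (f := Z.hom) Z.hom.isOpenMap
  haveI := hirr U'
  haveI : IsLocallyNoetherian U'.left := LocallyOfFiniteType.isLocallyNoetherian U'.hom
  haveI : IsNoetherian U'.left := ⟨⟩
  obtain ⟨N, hN⟩ := nilpotent_of_noSubtorus U' hU'
  let P : ℕ → Prop := fun m => ∃ l : IsogTransfer19.nilObj U' m ⟶ U, l ≫ i = IsogTransfer19.nilWord U' m
  have hP : ∃ m, P m := by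
    refine ⟨N, 1, ?_⟩
    have h := IsogTransfer19.nilWord_mem (G := U') (IsogTransfer19.nilObj U' N) N (𝟙 _)
    rw [Subgroup.lowerCentralSeries_eq_bot_iff_upperCentralSeries_eq_top.2 (hN _), Subgroup.mem_bot,
      Category.id_comp] at h
    rw [MonObj.one_comp, h]
  have hdi : topologicalKrullDim ↥(Set.range i.left) = (d : WithBot ℕ∞) :=
    ((i.left.isEmbedding.toHomeomorph.isHomeomorph).topologicalKrullDim_eq _).symm.trans hd
  have huniv : topologicalKrullDim ↥(Set.univ : Set U'.left) = ((d + 1 : ℕ) : WithBot ℕ∞) :=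
    ((Homeomorph.Set.univ U'.left).isHomeomorph.topologicalKrullDim_eq _).trans hd'
  have hP0 : ¬ P 0 := by
    rintro ⟨l, hl⟩
    have hsurj : Set.range i.left = Set.univ := Set.eq_univ_of_forall fun x => ⟨l.left x, by
      rw [← AbRigid.left_comp_apply, hl]; rfl⟩
    rw [hsurj, huniv] at hdi
    exact absurd (Nat.cast_inj.1 hdi) (Nat.succ_ne_self d)
  obtain ⟨m, hm, ⟨l, hl⟩⟩ : ∃ m, ¬ P m ∧ P (m + 1) := by
    have hp : Nat.find hP ≠ 0 := fun h => hP0 (h ▸ Nat.find_spec hP)
    refine ⟨Nat.find hP - 1, Nat.find_min hP (by omega), ?_⟩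
    rw [show Nat.find hP - 1 + 1 = Nat.find hP by omega]
    exact Nat.find_spec hP
  let X := IsogTransfer19.nilObj U' m
  let w : X ⟶ U' := IsogTransfer19.nilWord U' m
  haveI : IsogTransfer19.Good X := IsogTransfer19.good_nilObj m
  haveI : IsogTransfer19.Good (U ⊗ X) := inferInstance
  haveI := hirr (U ⊗ X)
  haveI : Smooth (U ⊗ X).hom := IsogTransfer19.Good.smooth
  haveI : GeometricallyReduced (U ⊗ X).hom := AbRigid.geometricallyReduced_of_smooth (U ⊗ X).hom
  have hcom : ∀ (V : Over (Spec (CommRingCat.of k))) (q : V ⟶ X) (y : V ⟶ U'),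
      ∃ a : V ⟶ U, a ≫ i = ⁅q ≫ w, y⁆ := by
    intro V q y
    refine ⟨lift q y ≫ l, ?_⟩
    erw [Category.assoc, hl]
    have h := IsogTransfer19.comp_nilWord_succ m (lift q y)
    rw [lift_fst, lift_snd] at h
    exact h
  let f : U ⊗ X ⟶ U' := fst U X ≫ i * (snd U X ≫ w)
  have hf : Nz i f := by
    intro V p n
    have e : p ≫ f = (p ≫ fst U X) ≫ i * ((p ≫ snd U X) ≫ w) := by
      simp only [f, MonObj.comp_mul, Category.assoc]
    constructor
    · obtain ⟨a, ha⟩ := hcom V (p ≫ snd U X) (n ≫ i)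
      refine ⟨(p ≫ fst U X) * (a * n) * (p ≫ fst U X)⁻¹, ?_⟩
      rw [e, MonObj.mul_comp, MonObj.mul_comp, MonObj.mul_comp, GrpObj.inv_comp, ha, commutatorElement_def]
      group
    · let u := p ≫ fst U X
      let b := (p ≫ snd U X) ≫ w
      let c := (u⁻¹ * n * u) ≫ i
      obtain ⟨a, ha⟩ := hcom V (p ≫ snd U X) (b⁻¹ * c * b)
      refine ⟨a⁻¹ * (u⁻¹ * n * u), ?_⟩
      have hc : (u ≫ i)⁻¹ * (n ≫ i) * (u ≫ i) = c := by
        simp only [c, MonObj.mul_comp, GrpObj.inv_comp]
      rw [e, MonObj.mul_comp, GrpObj.inv_comp, ha, commutatorElement_def]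
      show (u ≫ i * b)⁻¹ * (n ≫ i) * (u ≫ i * b) = (b * (b⁻¹ * c * b) * b⁻¹ * (b⁻¹ * c * b)⁻¹)⁻¹ * c
      rw [show (u ≫ i * b)⁻¹ * (n ≫ i) * (u ≫ i * b) = b⁻¹ * ((u ≫ i)⁻¹ * (n ≫ i) * (u ≫ i)) * b by group, hc]
      group
  obtain ⟨z, hz⟩ : ∃ z : 𝟙_ (Over (Spec (CommRingCat.of k))) ⟶ X, z ≫ w = 1 :=
    IsogTransfer19.exists_pt_nilWord (G := U') m
  have hη : (1 : 𝟙_ (Over (Spec (CommRingCat.of k))) ⟶ U') = η[U'] := by
    rw [Hom.one_def, toUnit_unique (toUnit _) (𝟙 _), Category.id_comp]
  have hz' : lift 1 z ≫ f = η[U'] := by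
    simp only [f, MonObj.comp_mul, lift_fst_assoc, lift_snd_assoc]
    rw [MonObj.one_comp, show z ≫ w = 1 from hz, _root_.one_mul, hη]
  obtain ⟨Γ, hΓ, iΓ, him, hic, ⟨f', hf'⟩, -, hrange, -⟩ := GrpGen20.exists_generated f
  have hsubi : Set.range i.left ⊆ Set.range iΓ.left := by
    rintro _ ⟨x, rfl⟩
    refine ⟨(lift (𝟙 U) (toUnit U ≫ z) ≫ f').left x, ?_⟩
    rw [← AbRigid.left_comp_apply, Category.assoc, hf']
    simp only [f, MonObj.comp_mul, lift_fst_assoc, lift_snd_assoc, Category.assoc, Category.id_comp]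
    rw [show z ≫ w = 1 from hz, MonObj.comp_one, _root_.mul_one]
  have hne : Set.range i.left ≠ Set.range iΓ.left := by
    intro heq
    apply hm
    haveI : IsReduced X.left := IsogTransfer19.isReduced_of_good X
    have hsub : Set.range w.left ⊆ Set.range i.left := by
      rw [heq]
      rintro _ ⟨x, rfl⟩
      refine ⟨(lift 1 (𝟙 X) ≫ f').left x, ?_⟩
      rw [← AbRigid.left_comp_apply, Category.assoc, hf']
      simp only [f, MonObj.comp_mul, lift_fst_assoc, lift_snd_assoc, Category.id_comp]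
      rw [MonObj.one_comp, _root_.one_mul]
    obtain ⟨v, hv⟩ := RedSepLib.exists_lift_of_range_subset w.left i.left hsub
    exact ⟨Over.homMk v (by rw [← Over.w i, reassoc_of% hv, Over.w w]), Over.OverMorphism.ext hv⟩
  have hdense : Dense (GrpGen20.genSet f) := by
    rw [dense_iff_closure_eq, ← hrange]
    by_contra hΓu
    have hΓirr : IsIrreducible (Set.range iΓ.left) := by
      haveI : LocallyOfFiniteType Γ.hom := by rw [← Over.w iΓ]; infer_instance
      have hc : _root_.IsConnected (Set.univ : Set Γ.left) := by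
        refine ⟨⟨η[Γ].left (IsLocalRing.closedPoint k), trivial⟩, ?_⟩
        rw [← iΓ.left.isEmbedding.isInducing.isPreconnected_image, Set.image_univ, hrange]
        exact (GrpGen20.isPreconnected_genSet f (lift 1 z) hz').closure
      haveI : ConnectedSpace Γ.left := connectedSpace_iff_univ.2 hc
      haveI := AbRigid.geometricallyIrreducible_of_connected Γ
      haveI : Flat Γ.hom := inferInstance
      haveI : IrreducibleSpace Γ.left :=
        GeometricallyIrreducible.irreducibleSpace (f := Γ.hom) Γ.hom.isOpenMap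
      rw [← Set.image_univ]
      exact (IrreducibleSpace.isIrreducible_univ Γ.left).image _ iΓ.left.continuous.continuousOn
    have hfin : topologicalKrullDim ↥(Set.univ : Set U'.left) < ⊤ := by
      rw [huniv]; exact WithBot.coe_lt_coe.2 (ENat.natCast_lt_top _)
    have h1 := LocCohLib.dim_lt_of_ssubset (IrreducibleSpace.isIrreducible_univ U'.left) isClosed_univ
      iΓ.left.isClosedEmbedding.isClosed_range (Set.subset_univ _) hΓu hfin
    have h2 := LocCohLib.dim_lt_of_ssubset hΓirr iΓ.left.isClosedEmbedding.isClosed_range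
      i.left.isClosedEmbedding.isClosed_range hsubi hne (h1.trans hfin)
    rw [huniv] at h1
    rw [hdi] at h2
    revert h1 h2
    generalize topologicalKrullDim ↥(Set.range iΓ.left) = a
    intro h1 h2
    induction a with
    | bot => exact absurd h2 not_lt_bot
    | coe a =>
      induction a with
      | top => exact absurd h1 (not_lt_of_ge le_top)
      | coe a =>
        have e1 : a < d + 1 := by exact_mod_cast h1
        have e2 : d < a := by exact_mod_cast h2
        omega
  let c : U' ⊗ U ⟶ U' := fst U' U * (snd U' U ≫ i) * (fst U' U)⁻¹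
  have hsubc : Set.range c.left ⊆ Set.range i.left := by
    have hcl : IsClosed (c.left ⁻¹' Set.range i.left) :=
      i.left.isClosedEmbedding.isClosed_range.preimage c.left.continuous
    haveI : Smooth (fst U' U).left := inferInstanceAs (Smooth (pullback.fst U'.hom U.hom))
    have hd2 : Dense ((fst U' U).left ⁻¹' GrpGen20.genSet f) := hdense.preimage (fst U' U).left.isOpenMap
    have hsub : (fst U' U).left ⁻¹' GrpGen20.genSet f ⊆ c.left ⁻¹' Set.range i.left := by
      rintro x ⟨T, g, hg, t, ht⟩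
      obtain ⟨r, rfl⟩ : x ∈ Set.range (g ⊗ₘ 𝟙 U).left := by
        rw [Over.tensorHom_left, Scheme.Pullback.range_map]
        exact ⟨⟨t, ht⟩, ⟨(snd U' U).left x, rfl⟩⟩
      obtain ⟨n', hn'⟩ := (word_nz i f hf hg (T ⊗ U) (fst T U) (snd T U)).1
      refine ⟨n'.left r, ?_⟩
      rw [← AbRigid.left_comp_apply, ← hn', ← AbRigid.left_comp_apply]
      simp only [c, MonObj.comp_mul, GrpObj.comp_inv, tensorHom_fst, tensorHom_snd_assoc, Category.id_comp]
    rintro _ ⟨x, rfl⟩
    exact closure_minimal hsub hcl (hd2 x)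
  obtain ⟨v, hv⟩ := RedSepLib.exists_lift_of_range_subset c.left i.left hsubc
  let c' : U' ⊗ U ⟶ U := Over.homMk v (by rw [← Over.w i, reassoc_of% hv, Over.w c])
  have hc' : c' ≫ i = c := Over.OverMorphism.ext hv
  intro T g n
  refine ⟨lift g n ≫ c', ?_⟩
  rw [Category.assoc, hc']
  simp only [c, MonObj.comp_mul, GrpObj.comp_inv, lift_fst, lift_snd_assoc]

end Groth.Agent.S17090
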