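import Groth.Statements.S17091
import Groth.Agent.Lib.TorPts21.UnipBorel
-- import your own Groth.Agent.* helpers here

set_option autoImplicit false
universe u
open CategoryTheory MonoidalCategory CartesianMonoidalCategory MonObj GrpObj AlgebraicGeometry
open AGF

namespace Groth.Agent.S17091

/-- Let k be an algebraically closed field, G an affine, smooth, connected k-group scheme, u : U ⟶ G its
unipotent radical (the largest normal closed subgroup scheme of G, smooth and quasi-compact over k,
whose geometric fibre is connected and contains no non-trivial subtorus), B a Borel subgroup of G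
and v : V ⟶ B the unipotent radical of B. Then U is contained in V: u factors through v. -/
theorem result (k : Type u) [Field k] [IsAlgClosed k]
    (G : Over (Spec (CommRingCat.of k))) [GrpObj G] [IsAffine G.left] [Smooth G.hom] [ConnectedSpace ↥G.left]
    (U : Over (Spec (CommRingCat.of k))) [GrpObj U] (u : U ⟶ G) (hU : Par.IsUnipotentRadical u)
    (B : Over (Spec (CommRingCat.of k))) [GrpObj B] (iB : B ⟶ G) (hB : Red.IsBorelOver k iB)
    (V : Over (Spec (CommRingCat.of k))) [GrpObj V] (v : V ⟶ B) (hV : Par.IsUnipotentRadical v) :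
    ∃ f : U ⟶ V, f ≫ v ≫ iB = u := by
  obtain ⟨hum, huc, hunorm, hus, -, hun, huns, -⟩ := (TorPts21.isUnipotentRadical_iff u).1 hU
  obtain ⟨hvm, hvc, hvnorm, hvs, -, hvn, hvns, hvmax⟩ := (TorPts21.isUnipotentRadical_iff v).1 hV
  haveI := hum
  haveI := huc
  haveI := hus
  haveI := hun
  haveI : IsAffine U.left := isAffine_of_isAffineHom u.left
  obtain ⟨hm, hc, hs, hn, hsol, -⟩ := id hB
  haveI := hm
  haveI := hc
  haveI := hs
  haveI := hn
  haveI : IsAffine B.left := isAffine_of_isAffineHom iB.left
  haveI : Mono iB := Over.mono_of_mono_left iB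
  obtain ⟨f, hf⟩ := TorPts21.exists_lift_of_normal_solvable u (TorPts21.isSolvableGrp_of_hasNoSubtorus U huns)
    hunorm iB hB
  haveI : IsMonHom f := BorelFix21.isMonHom_of_comp iB f (hf ▸ ‹IsMonHom u›)
  haveI : IsClosedImmersion (f ≫ iB).left := hf ▸ ‹IsClosedImmersion u.left›
  haveI : IsClosedImmersion f.left := IsClosedImmersion.of_comp f.left iB.left
  have hfn : AlgGrp.IsNormalHom f := fun X g x => by
    obtain ⟨x', hx'⟩ := hunorm X (g ≫ iB) x
    refine ⟨x', (cancel_mono iB).1 ?_⟩
    rw [MonObj.mul_comp, MonObj.mul_comp, GrpObj.inv_comp, Category.assoc, hf, Category.assoc, hf, hx']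
  obtain ⟨f', hf'⟩ := hvmax U f inferInstance hfn hus inferInstance hun huns
  exact ⟨f', by rw [← Category.assoc, hf', hf]⟩

end Groth.Agent.S17091
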