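import Groth.Statements.S17092
import Groth.Agent.Lib.TorPts21.Luna
-- import your own Groth.Agent.* helpers here

set_option autoImplicit false
universe u
open CategoryTheory MonoidalCategory CartesianMonoidalCategory MonObj GrpObj AlgebraicGeometry
open AGF

namespace Groth.Agent.S17092

/-- Let k be an algebraically closed field, G an affine, smooth, connected k-group scheme, u : U ⟶ G its
unipotent radical (the largest normal closed subgroup scheme, smooth and quasi-compact over k, whose
geometric fibre is connected and contains no non-trivial subtorus), T a maximal torus of G and j : H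
⟶ G a closed subgroup scheme which is smooth and connected. If H lies in the unipotent radical of
every Borel subgroup of G containing T, then H lies in U: j factors through u. (Together with the
inclusion of U in the unipotent radical of every Borel subgroup of G, this says that the identity
component of the reduced intersection of the unipotent radicals of the Borel subgroups containing T
is U; it is trivial when G is reductive.) -/
theorem result (k : Type u) [Field k] [IsAlgClosed k]
    (G : Over (Spec (CommRingCat.of k))) [GrpObj G] [IsAffine G.left] [Smooth G.hom] [ConnectedSpace ↥G.left]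
    (U : Over (Spec (CommRingCat.of k))) [GrpObj U] (u : U ⟶ G) (hU : Par.IsUnipotentRadical u)
    (T : Over (Spec (CommRingCat.of k))) [GrpObj T] (iT : T ⟶ G) (hT : AGF.IsMaxTorus iT)
    (H : Over (Spec (CommRingCat.of k))) [GrpObj H] (j : H ⟶ G) [IsMonHom j] (hj : IsClosedImmersion j.left)
    [Smooth H.hom] [ConnectedSpace ↥H.left]
    (hH : ∀ (B : Over (Spec (CommRingCat.of k))) [GrpObj B] (iB : B ⟶ G) (t : T ⟶ B), Red.IsBorelOver k iB → t ≫ iB = iT →
      ∀ (V : Over (Spec (CommRingCat.of k))) [GrpObj V] (v : V ⟶ B), Par.IsUnipotentRadical v → ∃ f : H ⟶ V, f ≫ v ≫ iB = j) :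
    ∃ g : H ⟶ U, g ≫ u = j := by
  haveI := hj
  have hrad : ∀ (B : Over (Spec (CommRingCat.of k))) [GrpObj B] (iB : B ⟶ G) (t : T ⟶ B), Red.IsBorelOver k iB →
      t ≫ iB = iT → ∃ (V : Over (Spec (CommRingCat.of k))) (_ : GrpObj V) (v : V ⟶ B) (f : H ⟶ V),
        Par.IsUnipotentRadical v ∧ IsMonHom iB ∧ f ≫ v ≫ iB = j := by
    intro B _ iB t hB ht
    obtain ⟨hm, hc, hs, hn, hsol, -⟩ := id hB
    haveI := hm
    haveI := hc
    haveI := hs
    haveI := hn
    haveI : IsAffine B.left := isAffine_of_isAffineHom iB.left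
    obtain ⟨V, _, v, hv, -⟩ := TorPts21.exists_unipotentRadical B hsol
    obtain ⟨f, hf⟩ := hH B iB t hB ht V v hv
    exact ⟨V, inferInstance, v, f, hv, hm, hf⟩
  haveI := hT.1
  haveI := hT.2.1
  obtain ⟨B, _, iB, t, hB, ht⟩ := TorPts21.exists_borel_containing iT hT.2.2.1
  obtain ⟨V, _, v, f, hv, hiB, hf⟩ := hrad B iB t hB ht
  haveI := hiB
  obtain ⟨hvm, hvc, -, -, -, -, hns, -⟩ := (TorPts21.isUnipotentRadical_iff v).1 hv
  haveI := hvm
  haveI := hvc
  haveI := hB.2.1
  haveI : Mono j := Over.mono_of_mono_left j
  haveI : Mono (f ≫ v ≫ iB) := hf.symm ▸ inferInstance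
  haveI : Mono f := mono_of_mono f (v ≫ iB)
  haveI : IsClosedImmersion (v ≫ iB).left := by rw [Over.comp_left]; infer_instance
  haveI : Mono (v ≫ iB) := Over.mono_of_mono_left _
  haveI : IsMonHom f := BorelFix21.isMonHom_of_comp (v ≫ iB) f (hf ▸ inferInstance)
  refine TorPts21.exists_lift_unipotentRadical hU hT j (fun T' _ j' _ _ hT' => hns T' (j' ≫ f) hT')
    fun B' _ iB' t' hB' ht' => ?_
  obtain ⟨V', _, v', f', -, -, hf'⟩ := hrad B' iB' t' hB' ht'
  exact ⟨f' ≫ v', by rw [Category.assoc, hf']⟩

end Groth.Agent.S17092
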