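import Groth.Statements.S17094
import Groth.Agent.Lib.AttrBorel21.MaxSepGen
-- import your own Groth.Agent.* helpers here

set_option autoImplicit false
universe u
open CategoryTheory MonoidalCategory CartesianMonoidalCategory MonObj GrpObj AlgebraicGeometry
open AGF

namespace Groth.Agent.S17094

/-- Let k be a separably closed field and G a reductive k-group scheme (affine, smooth, connected
reductive geometric fibre). Then the maximal k-tori of G generate it: if i : H ⟶ G is a closed
subgroup scheme through which the inclusion of every maximal torus of G factors, then i is an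
isomorphism. -/
theorem result (k : Type u) [Field k] [IsSepClosed k]
    (G : Over (Spec (CommRingCat.of k))) [GrpObj G] (hG : Red.IsReductive G)
    (H : Over (Spec (CommRingCat.of k))) [GrpObj H] (i : H ⟶ G) [IsMonHom i] (hi : IsClosedImmersion i.left)
    (hH : ∀ (T : Over (Spec (CommRingCat.of k))) [GrpObj T] (iT : T ⟶ G), Red.IsMaximalTorus iT → ∃ t : T ⟶ H, t ≫ i = iT) :
    IsIso i := by
  exact Groth.Agent.AttrBorel21.isIso_of_forall_maximalTorus hG i hi hH

end Groth.Agent.S17094
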