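import Groth.Statements.S17099
import Groth.Agent.Lib.CentreChar32.Basic

set_option autoImplicit false
universe u
open CategoryTheory MonoidalCategory CartesianMonoidalCategory MonObj GrpObj AlgebraicGeometry
open AGF

namespace Groth.Agent.S17099

/-- Let p be a prime, k a field of characteristic p, G a reductive k-group scheme (affine, smooth,
connected reductive geometric fibre) and z : Z ⟶ G its scheme-theoretic centre. Then Z contains
neither α_p nor Z/pZ as a subgroup scheme: no homomorphism of k-group schemes from α_p (the spectrum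
of k[X]/(X^p) with X primitive) to Z is a monomorphism, and no homomorphism from the constant
k-group scheme of the cyclic group of order p to Z is a monomorphism. (Stated over every field of
characteristic p; applied over an algebraic closure of k to the base change of G, whose centre is
the base change of Z, this is the published assertion about the geometric centre.) -/
theorem result (p : ℕ) [Fact p.Prime]
    (k : Type u) [Field k] [CharP k p]
    (G : Over (Spec (CommRingCat.of k))) [GrpObj G] (hG : Red.IsReductive G)
    (Z : Over (Spec (CommRingCat.of k))) [GrpObj Z] (z : Z ⟶ G) (hz : Red.IsCentre z) :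
    (∀ (φ : (Spec (CommRingCat.of (AlphaP.A p k))).asOver (Spec (CommRingCat.of k)) ⟶ Z), IsMonHom φ → ¬ Mono φ.left) ∧
      (∀ (ψ : (Spec (CommRingCat.of (ConstGrp.F k (Multiplicative (ZMod p))))).asOver (Spec (CommRingCat.of k)) ⟶ Z),
        IsMonHom ψ → ¬ Mono ψ.left) := by
  obtain ⟨Z', _, z', hz'm, hz'c, hz', hMT⟩ := CentreMT25.exists_centre_MT hG
  obtain ⟨hzm, hzmono, huniv⟩ := hz
  haveI := hzm
  haveI := hzmono
  haveI := hz'm
  haveI := hz'.2.1
  obtain ⟨t, ht⟩ := (hz'.2.2 Z z).2 ((huniv Z z).1 ⟨𝟙 Z, Category.id_comp _⟩)
  haveI : IsMonHom t := BorelFix21.isMonHom_of_comp z' t (by rw [ht]; infer_instance)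
  haveI : Mono t := by
    haveI : Mono (t ≫ z') := ht ▸ hzmono
    exact mono_of_mono t z'
  refine ⟨fun φ hφ hm => ?_, fun ψ hψ hm => ?_⟩
  · haveI := hφ
    haveI := hm
    haveI : Mono φ := Over.mono_of_mono_left φ
    exact CentreChar32.not_mono_of_noChars (CentreChar32.alpha_noChars p k) (CentreChar32.alpha_ne p k) hMT (φ ≫ t)
      (mono_comp _ _)
  · haveI := hψ
    haveI := hm
    haveI : Mono ψ := Over.mono_of_mono_left ψ
    exact CentreChar32.not_mono_of_noChars (CentreChar32.const_noChars p k) (CentreChar32.const_ne p k) hMT (ψ ≫ t)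
      (mono_comp _ _)

end Groth.Agent.S17099
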