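import Groth.Statements.S17101
import Groth.Agent.Lib.LogRank12.Main
-- import your own Groth.Agent.* helpers here

set_option autoImplicit false
set_option backward.isDefEq.respectTransparency false
universe u
open CategoryTheory AlgebraicGeometry
open LogNCD

namespace Groth.Agent.S17101

/-- Let f : X → S be smooth of relative dimension n, (Ω', d) a universal receptacle for the
differentials of X over S, D = (D_1, …, D_r) a relative strict normal crossing divisor (each point
of the divisor has an étale chart to affine n-space over S in which the components through it are
coordinate hyperplanes) and Ω¹(log D) the sheaf of differentials with logarithmic poles along D,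
pinned with its inclusion of Ω' and its residue maps by the affine-local description. Then Ω¹(log D)
is a finite locally free O_X-module of rank n; locally a basis is dv_1/v_1, …, dv_s/v_s, dv_{s+1},
…, dv_n for the chart coordinates v_i. (Stated relative to an arbitrary base scheme with étale
coordinates in place of local parameters; the published statement is for a manifold over an
algebraically closed field and also lists the induced bases of the higher exterior powers.) -/
theorem result {X S : Scheme.{u}} (f : X ⟶ S) (n : ℕ)
    [SmoothOfRelativeDimension n f] {Ω' : X.Modules} (d : OmegaSh.Der f Ω') (hd : OmegaSh.IsUniversal d)
    {r : ℕ} (D : Fin r → X.IdealSheafData) (hD : LogNCD.IsNCD D f) (Λ : LogNCD.LogMod d D) :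
    FlatMod.IsFinLocFreeOfRank n Λ.L := by
  exact LogRank12.isFinLocFreeOfRank_log n hd hD Λ

end Groth.Agent.S17101
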