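import Groth.Statements.S1712
import Groth.Agent.Lib.Dlz27.DepthAt
-- import your own Groth.Agent.* helpers here

set_option autoImplicit false
universe u
open CategoryTheory
attribute [local instance] HasDerivedCategory.standard
open Dual

namespace Groth.Agent.S1712

/-- Let A be a Noetherian local ring with a normalized dualizing complex ω, M a finite A-module and E^j
the A-module of maps M → ω[-j] in D(A). A prime p is in the support of one of E^0, …, E^i if and
only if the depth of M_p over A_p plus the dimension of A/p is at most i. -/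
theorem result (A : Type u) [CommRing A] [IsLocalRing A] [IsNoetherianRing A] (ω : Dual.D A) (hω : Dual.IsDualizing A ω) (hn : Dual.IsNormalized A ω) (M : Type u) [AddCommGroup M] [Module A M] [Module.Finite A M] (i : ℕ) (p : PrimeSpectrum A) : (∃ j : ℕ, j ≤ i ∧ p ∈ Module.support A (Dual.inD A M ⟶ ω⟦(-(j : ℤ))⟧)) ↔ ((LocCoh.depth (Localization.AtPrime p.asIdeal) (LocalizedModule p.asIdeal.primeCompl M) : ℕ∞) : WithBot ℕ∞) + ringKrullDim (A ⧸ p.asIdeal) ≤ (i : WithBot ℕ∞) := by
  let Mo := Dlz27.model hω
  obtain ⟨h0, hdim⟩ := Dlz27.dim_quotient_normalized hω Mo hn p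
  have hsupp : ∀ j : ℕ, p ∈ Module.support A (Dual.inD A M ⟶ ω⟦(-(j : ℤ))⟧) ↔
      ¬ Dlz27.VanS Mo.W p.asIdeal.primeCompl M (-(j : ℤ)) := fun j => Dlz27.nontrivial_localized_iff Mo p M _
  simp only [hsupp, hdim]
  cases hdep : LocCoh.depth (Localization.AtPrime p.asIdeal) (LocalizedModule p.asIdeal.primeCompl M) with
  | top =>
    refine iff_of_false ?_ ?_
    · rintro ⟨j, -, hj⟩
      refine hj ?_
      by_cases hsub : Subsingleton (LocalizedModule p.asIdeal.primeCompl M)
      · exact Dlz27.vanS_of_subsingleton_localized p M _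
      · have : Nontrivial (LocalizedModule p.asIdeal.primeCompl M) := not_subsingleton_iff_nontrivial.1 hsub
        have : Module.Finite (Localization.AtPrime p.asIdeal) (LocalizedModule p.asIdeal.primeCompl M) :=
          Module.Finite.of_isLocalizedModule p.asIdeal.primeCompl (LocalizedModule.mkLinearMap p.asIdeal.primeCompl M)
        obtain ⟨m, hm⟩ := DepthLib.exists_depth_eq_natCast (R := Localization.AtPrime p.asIdeal)
          (M := LocalizedModule p.asIdeal.primeCompl M)
        rw [hm] at hdep
        exact absurd hdep (ENat.natCast_ne_top m)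
    · rw [← WithBot.coe_add, top_add]
      exact fun h => absurd (WithBot.coe_le_coe.1 h) (by simp)
  | coe n =>
    obtain ⟨hlow, htop⟩ := Dlz27.vanS_of_depth hω Mo p n M hdep
    constructor
    · rintro ⟨j, hji, hj⟩
      have h1 := (Dlz27.le_deg_of_not_vanS hω Mo p _ M hj).1
      have h2 : n + (-Dlz27.deg hω Mo p).toNat ≤ i := by
        by_contra hcon
        refine hj ?_
        have := hlow (Dlz27.deg hω Mo p + j).toNat (by omega)
        rwa [show Dlz27.deg hω Mo p - ((Dlz27.deg hω Mo p + j).toNat : ℤ) = -(j : ℤ) by omega] at this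
      exact_mod_cast h2
    · intro h
      have h2 : n + (-Dlz27.deg hω Mo p).toNat ≤ i := by exact_mod_cast h
      refine ⟨n + (-Dlz27.deg hω Mo p).toNat, h2, ?_⟩
      rwa [show -((n + (-Dlz27.deg hω Mo p).toNat : ℕ) : ℤ) = Dlz27.deg hω Mo p - n by omega]

end Groth.Agent.S1712
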