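import Groth.Statements.S17120
import Groth.Agent.Lib.LogNCD28.FlatDiv

set_option autoImplicit false
universe u
open CategoryTheory CategoryTheory.Limits AlgebraicGeometry
open Lift

namespace Groth.Agent.S17120

/-- Let p be a prime, S~ a scheme flat over Z/p² with reduction S = S~ ×_{Z/p²} F_p (i_S : S → S~ the
cartesian closed immersion), S noetherian, and f : X → S a smooth morphism with X noetherian; let
D_1, …, D_r be quasi-coherent ideal sheaves on X forming a strict normal crossing divisor relative
to S. Let X~ be a lifting of X to S~ (a flat g : X~ → S~ with j : X → X~ cartesian over i_S) and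
D~_1, …, D~_r closed subschemes of X~, given by quasi-coherent ideal sheaves, with D~_m ×_{S~} S =
D_m, i.e. the ideal of D~_m pulled back along j is that of D_m. Then for each m the subscheme D~_m
is flat over S~ — so that it is a lifting of D_m — if and only if its ideal sheaf is an invertible
O_{X~}-module, i.e. D~_m is an effective Cartier divisor in X~. (The published lemma adds a third
equivalent condition describing the liftings by étale coordinates.) -/
theorem result (p : ℕ) [Fact p.Prime]
    (Sl : Scheme.{u}) (gS : Sl ⟶ Spec (CommRingCat.of (ULift.{u} (ZMod (p ^ 2))))) [Flat gS]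
    (S : Scheme.{u}) (iS : S ⟶ Sl) (fS : S ⟶ Spec (CommRingCat.of (ULift.{u} (ZMod p))))
    (hS : IsPullback iS fS gS (Spec.map (CommRingCat.ofHom
      ((ZMod.castHom (dvd_pow_self p two_ne_zero) (ULift.{u} (ZMod p))).comp
        (ULift.ringEquiv : ULift.{u} (ZMod (p ^ 2)) ≃+* ZMod (p ^ 2)).toRingHom))))
    [IsNoetherian S]
    (X : Scheme.{u}) (f : X ⟶ S) [Smooth f] [IsNoetherian X]
    {r : ℕ} (D : Fin r → X.IdealSheafData) (hD : LogNCD.IsNCD D f)
    (Xl : Scheme.{u}) (g : Xl ⟶ Sl) [Flat g] (j : X ⟶ Xl) (hX : IsPullback j f g iS)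
    (Dl : Fin r → Xl.IdealSheafData) (hDl : ∀ m, (Dl m).comap j = D m) (m : Fin r) :
    Flat ((Dl m).subschemeι ≫ g) ↔ PicF.IsInvertible (ClSub.idealMod (Dl m)) := by
  exact Groth.Agent.LogNCD28.flat_iff_isInvertible hS hX D hD Dl hDl m

end Groth.Agent.S17120
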