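import Groth.Statements.S17127
import Groth.Agent.Lib.LogNCD28.Exists

set_option autoImplicit false
universe u
open CategoryTheory AlgebraicGeometry
open LogNCD

namespace Groth.Agent.S17127

/-- Let f : X → S be smooth, (Ω', d) a universal receptacle for the differentials of X over S and D =
(D_1, …, D_r) a relative strict normal crossing divisor (étale-locally the components through a
point are distinct coordinate hyperplanes). Then the sheaf Ω¹(log D) of differentials with
logarithmic poles along D, together with the inclusion of Ω' and the residue maps onto the O_{D_j},
exists in the pinned sense: there is an O_X-module L with a monomorphism ι : Ω' → L and maps res_j :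
L → O_{D_j} vanishing on ι such that on every affine open U where each D_j has an equation g_j, L(U)
has no (∏ g_j)-torsion and is generated by ι(Ω'(U)) and elements dl_j with g_j · dl_j = ι(dg_j),
res_j(dl_j) = 1 and res_i(dl_j) = 0 for i ≠ j. (Stated relative to an arbitrary base; the lectures
construct Ω¹(log D) inside the sheaf of forms with poles along D over an algebraically closed
field.) -/
theorem result {X S : Scheme.{u}} (f : X ⟶ S) [Smooth f]
    {Ω' : X.Modules} (d : OmegaSh.Der f Ω') (hd : OmegaSh.IsUniversal d)
    {r : ℕ} (D : Fin r → X.IdealSheafData) (hD : LogNCD.IsNCD D f) :
    Nonempty (LogNCD.LogMod d D) := by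
  exact LogNCD28.nonempty_logMod d hD hd

end Groth.Agent.S17127
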