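import Groth.Statements.S17128
import Groth.Agent.Lib.LogNCD28.Sub

set_option autoImplicit false
universe u
open CategoryTheory CategoryTheory.Limits AlgebraicGeometry
open LogNCD

namespace Groth.Agent.S17128

/-- Let f : X → S be smooth, (Ω', d) a universal receptacle for the differentials of X over S, D = (D_0,
…, D_r) a relative strict normal crossing divisor and i an index; let Ω¹(log D) be the pinned log
module of D and Ω¹(log(D − D_i)) the pinned log module of the family with the component D_i removed.
Then the inclusion Ω¹(log(D − D_i)) ⊆ Ω¹(log D) exists as an O_X-linear map κ compatible with the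
inclusions of Ω', and for every such κ the sequence 0 → Ω¹(log(D − D_i)) → Ω¹(log D) → O_{D_i} → 0,
whose second map is the residue along D_i (the map β_i in degree one), is short exact. The argument
h, the vanishing of the composite, holds for every such κ and is an argument only so that the short
complex can be formed. (Stated relative to an arbitrary base; the published statement, over an
algebraically closed field, covers all degrees a with the residue β_i into the logarithmic
(a−1)-forms on D_i.) -/
theorem result {X S : Scheme.{u}} (f : X ⟶ S) [Smooth f]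
    {Ω' : X.Modules} (d : OmegaSh.Der f Ω') (hd : OmegaSh.IsUniversal d)
    {r : ℕ} (D : Fin (r + 1) → X.IdealSheafData) (hD : LogNCD.IsNCD D f) (i : Fin (r + 1))
    (Λ : LogNCD.LogMod d D) (Λ' : LogNCD.LogMod d (D ∘ i.succAbove)) :
    (∃ κ : Λ'.L ⟶ Λ.L, LogNCD.IsSubLog Λ' Λ κ) ∧
      ∀ (κ : Λ'.L ⟶ Λ.L) (hκ : LogNCD.IsSubLog Λ' Λ κ) (h : κ ≫ Λ.res i = 0),
        (ShortComplex.mk κ (Λ.res i) h).ShortExact := by
  exact ⟨LogNCD28.exists_isSubLog Λ Λ' hD, fun κ hκ h => LogNCD28.shortExact_sub hD
    (fun k => (Fin.exists_succAbove_eq_iff).symm) Fin.succAbove_right_injective κ hκ h⟩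

end Groth.Agent.S17128
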