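import Groth.Statements.S17130
import Groth.Agent.Lib.LogNCD28.LiftChart

set_option autoImplicit false
universe u
open CategoryTheory CategoryTheory.Limits AlgebraicGeometry
open Lift

namespace Groth.Agent.S17130

/-- Let p be a prime, S~ a scheme flat over Z/p² with reduction S = S~ ×_{Z/p²} F_p (i : S → S~ the
cartesian closed immersion), S noetherian, f : X → S smooth with X noetherian, and D_1, …, D_r
quasi-coherent ideal sheaves on X forming a strict normal crossing divisor relative to S. Then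
locally in the Zariski topology the pair (X, D) lifts to S~: every point of X has an open
neighbourhood U with a flat g : U~ → S~ and j : U → U~ cartesian over i, together with closed
subschemes D~_1, …, D~_r of U~ (quasi-coherent ideals), flat over S~, whose ideals pull back along j
to the restrictions of the D_m to U. -/
theorem result (p : ℕ) [Fact p.Prime]
    (Sl : Scheme.{u}) (gS : Sl ⟶ Spec (CommRingCat.of (ULift.{u} (ZMod (p ^ 2))))) [Flat gS]
    (S : Scheme.{u}) (iS : S ⟶ Sl) (fS : S ⟶ Spec (CommRingCat.of (ULift.{u} (ZMod p))))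
    (hS : IsPullback iS fS gS (Spec.map (CommRingCat.ofHom
      ((ZMod.castHom (dvd_pow_self p two_ne_zero) (ULift.{u} (ZMod p))).comp
        (ULift.ringEquiv : ULift.{u} (ZMod (p ^ 2)) ≃+* ZMod (p ^ 2)).toRingHom))))
    [IsNoetherian S]
    (X : Scheme.{u}) (f : X ⟶ S) [Smooth f] [IsNoetherian X]
    {r : ℕ} (D : Fin r → X.IdealSheafData) (hD : LogNCD.IsNCD D f) (x : X) :
    ∃ U : X.Opens, x ∈ U ∧ ∃ (Ul : Scheme.{u}) (g : Ul ⟶ Sl) (j : (U : Scheme.{u}) ⟶ Ul),
      Flat g ∧ IsPullback j (U.ι ≫ f) g iS ∧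
        ∃ Dl : Fin r → Ul.IdealSheafData, ∀ m, (Dl m).comap j = (D m).comap U.ι ∧ Flat ((Dl m).subschemeι ≫ g) := by
  haveI : IsClosedImmersion iS := MorphismProperty.of_isPullback hS.flip (IsClosedImmersion.spec_of_surjective _ fun y => by
    obtain ⟨t, ht⟩ := ZMod.ringHom_surjective ((ULift.ringEquiv : ULift.{u} (ZMod p) ≃+* ZMod p).toRingHom.comp
      ((ZMod.castHom (dvd_pow_self p two_ne_zero) (ULift.{u} (ZMod p))).comp
        (ULift.ringEquiv : ULift.{u} (ZMod (p ^ 2)) ≃+* ZMod (p ^ 2)).toRingHom)) y.down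
    exact ⟨t, (ULift.ringEquiv : ULift.{u} (ZMod p) ≃+* ZMod p).injective ht⟩)
  obtain ⟨V', hV', hxV, -⟩ := exists_isAffineOpen_mem_and_subset (U := (⊤ : Sl.Opens)) (x := iS (f x)) trivial
  obtain ⟨U, hU, hUV, n, k, φ, hxU, hφC, hst, hk⟩ :=
    Groth.Agent.LogNCD28.exists_chart D hD (hV'.preimage iS) (x := x) hxV
  exact ⟨U, hxU, Groth.Agent.LogNCD28.exists_lift_of_chart iS hV' hU hUV D k φ hφC hst hk⟩

end Groth.Agent.S17130
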