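import Groth.Statements.S17133
import Groth.Agent.Lib.JacDeg22.Core
import Groth.Agent.Lib.JacDeg22.Canon
import Groth.Agent.Lib.JacDeg22.Form

set_option autoImplicit false
set_option linter.style.haveILetI false
set_option backward.isDefEq.respectTransparency false
set_option backward.isDefEq.respectTransparency.types false
set_option maxHeartbeats 4000000
set_option synthInstance.maxHeartbeats 200000
universe u
open CategoryTheory CategoryTheory.Limits AlgebraicGeometry MonoidalCategory CartesianMonoidalCategory MonObj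
open Jac

namespace Groth.Agent.S17133

open Groth.Agent Groth.Agent.JacBC22 Groth.Agent.JacDeg22
open scoped CategoryTheory.Obj

/-- Let X be a smooth proper geometrically connected curve of genus g ≥ 1 over a field k, let (J', ψ')
be a coarse moduli scheme, on all k-schemes, for line bundles of degree g − 1 on X modulo twisting
from the base (the degree-(g − 1) Picard scheme), and let Θ' be the line bundle of its theta
divisor: an invertible module on J' inverse to the ideal of the closed subset, with reduced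
structure, which is the closure of the locus of classes having a nonzero global section. Let L be an
invertible module of degree g − 2 on X and let j : X → J' be the morphism which ψ' attaches to an
admissible family Lf on X × X (second factor the parameter) with Lf ⊗ I_Δ ≅ pr₁^* L, so that j sends
a point x to the class of L(x) (the Abel map followed by translation by the class of L). Then j^* Θ'
⊗ L is isomorphic to the sheaf of differentials Ω_{X/k} (existence of an isomorphism of modules;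
equivalently j^* Θ' ≅ Ω_{X/k} ⊗ L⁻¹). -/
theorem result (k : Type u) [Field k]
    (X : Scheme.{u}) [X.Over (Spec (CommRingCat.of k))]
    [IsProper (X ↘ Spec (CommRingCat.of k))] [Smooth (X ↘ Spec (CommRingCat.of k))]
    [GeometricallyConnected (X ↘ Spec (CommRingCat.of k))] (hdim : topologicalKrullDim ↥X = 1)
    (g : ℕ) (hg : Curv2.genus k X = g) (hg1 : 1 ≤ g)
    (J' : Scheme.{u}) [J'.Over (Spec (CommRingCat.of k))]
    (ψ' : (ModFun.PicDeg (X ↘ Spec (CommRingCat.of k)) ((g : ℤ) - 1)).Hom ⊤ (Over.mk (J' ↘ Spec (CommRingCat.of k))))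
    (hJ' : ModFun.IsCoarseModuli ⊤ (ModFun.PicDeg (X ↘ Spec (CommRingCat.of k)) ((g : ℤ) - 1)) (Over.mk (J' ↘ Spec (CommRingCat.of k))) ψ')
    (Θ' : J'.Modules) (hΘ' : Jac.IsThetaLB (X ↘ Spec (CommRingCat.of k)) ((g : ℤ) - 1) ψ' (Coh.structureModule X) Θ')
    (L : X.Modules) (hL : PicF.IsInvertible L) (hLdeg : Curv2.deg k X L 1 = (g : ℤ) - 2)
    (Lf : (PicF.XT (X ↘ Spec (CommRingCat.of k)) (Over.mk (X ↘ Spec (CommRingCat.of k)))).Modules)
    (hLf : Nonempty (CohB1.tensorMod Lf (ClSub.idealMod (pullback.diagonal (X ↘ Spec (CommRingCat.of k))).ker) ≅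
      (Scheme.Modules.pullback (pullback.fst (X ↘ Spec (CommRingCat.of k)) (X ↘ Spec (CommRingCat.of k)))).obj L))
    (hT : (⊤ : ObjectProperty (Over (Spec (CommRingCat.of k)))) (Over.mk (X ↘ Spec (CommRingCat.of k))))
    (hLok : (ModFun.PicDeg (X ↘ Spec (CommRingCat.of k)) ((g : ℤ) - 1)).ok (Over.mk (X ↘ Spec (CommRingCat.of k))) Lf)
    (j : Over.mk (X ↘ Spec (CommRingCat.of k)) ⟶ Over.mk (J' ↘ Spec (CommRingCat.of k)))
    (hj : ψ'.app (Over.mk (X ↘ Spec (CommRingCat.of k))) Lf hT hLok = j) :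
    Nonempty (CohB1.tensorMod ((Scheme.Modules.pullback j.left).obj Θ') L ≅ Omega.sheaf (X ↘ Spec (CommRingCat.of k))) := by
  classical
  letI : ∀ Y : Scheme.{u}, PicGrp.Law Y := fun Y => Groth.Agent.M2.law Y
  haveI : IsIntegral X := VB17.isIntegral_of_smooth (k := k) (X := X)
  haveI : GeometricallyIntegral (X ↘ Spec (CommRingCat.of k)) := PicSep22.geometricallyIntegral_of_smooth _
  haveI : GeometricallyIrreducible (X ↘ Spec (CommRingCat.of k)) := inferInstance
  let f := X ↘ Spec (CommRingCat.of k)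
  let Ksep := SeparableClosure k
  let γs : Spec (CommRingCat.of Ksep) ⟶ Spec (CommRingCat.of k) := Spec.map (CommRingCat.ofHom (algebraMap k Ksep))
  obtain ⟨hs1, hs2, hs3, hs4, -, -, -⟩ := JacForm22.setupF γs hdim
  haveI := hs1; haveI := hs2; haveI := hs3; haveI := hs4
  obtain ⟨σs, hσs, -⟩ := CurveTwist13.exists_section_mem (k := Ksep) (X := CK γs X) ⊤ Set.univ_nonempty
  obtain ⟨F₀, hfin, y, -, hy⟩ := PicRep20.exists_factor_finite (f := f) (σs ≫ pullback.fst f γs) (by
    rw [Category.assoc, pullback.condition, ← Category.assoc]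
    exact (congrArg (· ≫ γs) hσs).trans (Category.id_comp _))
  let F : Type u := ↥F₀
  let β : Spec (CommRingCat.of F) ⟶ Spec (CommRingCat.of k) := Spec.map (CommRingCat.ofHom (algebraMap k F))
  haveI : Algebra.IsSeparable k F := inferInstanceAs (Algebra.IsSeparable k ↥F₀)
  haveI : Module.Finite k F := hfin
  haveI : Algebra.FormallyEtale k F := Algebra.FormallyEtale.of_isSeparable k F
  haveI : Algebra.FinitePresentation k F := Algebra.FinitePresentation.of_finiteType.1 inferInstance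
  haveI : Algebra.Etale k F := ⟨inferInstance, inferInstance⟩
  haveI : Etale β := (HasRingHomProperty.Spec_iff (P := @Etale)).2 (RingHom.etale_algebraMap.2 inferInstance)
  haveI : IsFinite β := (IsFinite.SpecMap_iff _).2 (RingHom.finite_algebraMap.2 inferInstance)
  obtain ⟨i1, i2, i3, i4, i5, hdimF, hgF⟩ := JacForm22.setupF β hdim
  haveI := i1; haveI := i2; haveI := i3; haveI := i4; haveI := i5
  let σF : Spec (CommRingCat.of F) ⟶ CK β X := pullback.lift y (𝟙 _) (hy.trans (Category.id_comp β).symm)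
  have hσF : σF ≫ (CK β X ↘ Spec (CommRingCat.of F)) = 𝟙 _ := pullback.lift_snd _ _ _
  obtain ⟨n, rfl⟩ : ∃ n, g = n + 1 := ⟨g - 1, by omega⟩
  have hnF : Curv2.genus F (CK β X) = n + 1 := hgF.trans hg
  let pF := CK β X ↘ Spec (CommRingCat.of F)
  let d : ℤ := ((n + 1 : ℕ) : ℤ) - 1
  haveI : IsProper (fK β f) := i1
  haveI : Smooth (fK β f) := i2
  haveI : GeometricallyConnected (fK β f) := i3
  haveI : GeometricallyIrreducible (fK β f) := i5
  haveI : Surjective β := inferInstance
  obtain ⟨J₀, iG, iC, ψ₀, j₀, hJ₀, hj₀⟩ := JacPts22.exists_jacobian_pair (C := CK β X) (σ := σF) hdimF hσF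
  letI := iG
  haveI := iC
  obtain ⟨hp₀, hs₀, hi₀, ξ₀, hξ₀, hψ₀⟩ := JacPts22.exists_fine pF hdimF σF hσF J₀ ψ₀ hJ₀.coarse.2.1
  haveI := hp₀; haveI := hs₀; haveI := hi₀
  have haff := exists_haff J₀
  let Jk : Over (Spec (CommRingCat.of k)) := Over.mk (J' ↘ Spec (CommRingCat.of k))
  obtain ⟨ξF, hξF, hfm'⟩ := exists_univ_bc β f hdim hdimF ψ' (isUnivClass_shift hdimF σF hσF d hξ₀) hJ'.2.1 haff
  let ψF : (ModFun.PicDeg pF d).Hom ⊤ (Red.bc β Jk) :=
    { app := fun T x _ hx => PicRep20.classify hξF (PicRep20.famCls pF d hx) (PicRep20.degCl_famCls pF hdimF d hx)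
      natural := by
        intro T T' t x _ _ hx hx'
        have h := PicRep20.famCls_pull t hx hx'
        have hd' : ∀ r, PicTan20.degCl pF T' r (Abel10.pc (PicF.XTmap pF t) (PicRep20.famCls pF d hx)).1 = d :=
          h ▸ PicRep20.degCl_famCls pF hdimF d hx'
        rw [← PicRep20.classify_pc hξF t _ (PicRep20.degCl_famCls pF hdimF d hx) hd']
        congr 1
      resp := by
        intro T x y _ hx hy hr
        obtain ⟨m, hm⟩ := PicRep20.classify_spec hξF _ (PicRep20.degCl_famCls pF hdimF d hx)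
        obtain ⟨m', hm'⟩ := (PicRep20.r_iff pF d ((M2.isInvertible_iff_isFinLocFreeOfRank_one x).2 hx.1.2)
          ((M2.isInvertible_iff_isFinLocFreeOfRank_one y).2 hy.1.2)).1 hr
        refine PicRep20.eq_classify hξF _ _ _ (m := m * m') ?_
        change PicRep20.famCls pF d hy = PicRep20.famCls pF d hx * Abel10.pc (PicF.XTproj pF T) m' at hm'
        rw [hm', map_mul, ← _root_.mul_assoc, ← hm]
        rfl }
  have hψF : ∀ T x (hx : (ModFun.PicDeg pF d).ok T x), ∃ hd, JacDeg22.fm β (ψF.app T x trivial hx) =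
      Psi f hdim ψ' (JacBC22.down β f T (PicRep20.famCls _ d hx)) hd := fun T x hx =>
    ⟨deg_down β f hdim hdimF _ (PicRep20.degCl_famCls pF hdimF d hx), hfm' T (PicRep20.famCls pF d hx) (PicRep20.degCl_famCls pF hdimF d hx)⟩
  have hΘF := isThetaLB_bc β hdim hdimF (PicLoc.isInvertible_structureModule X) hψF hΘ'
  let OF := JacForm22.Next β (Coh.structureModule X)
  have hjump : Jac.jumpLocus pF d ψF OF = Jac.jumpLocus pF d ψF (Coh.structureModule (CK β X)) :=
    JacDeg22.jumpLocus_congr pF d ψF (Twist.pullbackUnitIso (pullback.fst f β))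
  replace hΘF : Jac.IsThetaLB pF d ψF (Coh.structureModule (CK β X)) ((Scheme.Modules.pullback (pullback.fst Jk.hom β)).obj Θ') := by
    have h : (⟨Jac.thetaLocus pF d ψF (Coh.structureModule (CK β X)), isClosed_closure⟩ : TopologicalSpace.Closeds (Red.bc β Jk).left) =
        ⟨Jac.thetaLocus pF d ψF OF, isClosed_closure⟩ := TopologicalSpace.Closeds.ext (congrArg closure hjump.symm)
    refine ⟨hΘF.1, ?_⟩
    rw [h]
    exact hΘF.2
  obtain ⟨N, hN, hNc⟩ := PicGrp.exists_eq_cls (degGen hdimF σF hσF d)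
  obtain ⟨e, he, hΘ₀⟩ := exists_translate' hdimF σF hσF d hξ₀ hψ₀ hξF (fun T x hx => rfl) hΘF hN hNc.symm
  haveI : SmoothOfRelativeDimension 1 pF := CurveCartier25.smoothOfRelativeDimension_one pF hdimF
  haveI : SmoothOfRelativeDimension 1 f := CurveCartier25.smoothOfRelativeDimension_one f hdim
  -- the involution
  let KX := kcl (k := k) hdim
  have hKdeg : ∀ (T : Over (Spec (CommRingCat.of k))) r,
      PicTan20.degCl f T r (cstK T KX).1 = 2 * ((n + 1 : ℕ) : ℤ) - 2 := fun T r => by
    rw [show KX = PicGrp.cls _ (AmpleFib.deg_omega_of_smooth_connected (k := k) (X := X) hdim).1 from rfl, degCl_cstK hdim,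
      (AmpleFib.deg_omega_of_smooth_connected (k := k) (X := X) hdim).2, hg]
  have hdeg : ∀ (T : Over (Spec (CommRingCat.of k))) (z : (PicF.XT f T).Modules) (hz : (ModFun.PicDeg f d).ok T z),
      ∀ r, PicTan20.degCl f T r (cstK T KX * (PicRep20.famCls f d hz)⁻¹).1 = d := fun T z hz r => by
    rw [PicTan20.degCl_mul _ (PicRep20.fiber_dim _ hdim), PicRep20.degCl_inv _ hdim, hKdeg, PicRep20.degCl_famCls f hdim d hz]
    show (2 * ((n + 1 : ℕ) : ℤ) - 2) + -(((n + 1 : ℕ) : ℤ) - 1) = ((n + 1 : ℕ) : ℤ) - 1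
    ring
  let φι : (ModFun.PicDeg f d).Hom ⊤ Jk :=
    { app := fun T z _ hz => Psi f hdim ψ' (cstK T KX * (PicRep20.famCls f d hz)⁻¹) (hdeg T z hz)
      natural := by
        intro T T' t z _ _ hz hz'
        rw [← psi_pc f hdim ψ' t (cstK T KX * (PicRep20.famCls f d hz)⁻¹) (hdeg T z hz)
          (fun r => (PicTan20.degCl_pull f t r (cstK T KX * (PicRep20.famCls f d hz)⁻¹).2).trans (hdeg T z hz _))]
        refine psi_congr f hdim ψ' ?_ _ _
        rw [map_mul, map_inv, cstK_map, PicRep20.famCls_pull t hz hz']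
      resp := by
        intro T a b _ ha hb hr
        obtain ⟨m, hm⟩ := (PicRep20.r_iff f d ((M2.isInvertible_iff_isFinLocFreeOfRank_one a).2 ha.1.2)
          ((M2.isInvertible_iff_isFinLocFreeOfRank_one b).2 hb.1.2)).1 hr
        change PicRep20.famCls f d hb = PicRep20.famCls f d ha * Abel10.pc (PicF.XTproj f T) m at hm
        refine psi_twist f hdim ψ' m⁻¹ ?_ _ _
        rw [hm, mul_inv, map_inv, ← _root_.mul_assoc] }
  obtain ⟨iv, hiv, -⟩ := hJ'.2.1 Jk φι
  have hiv' : ∀ (T : Over (Spec (CommRingCat.of k))) (z : (PicF.XT f T).Modules) (hz : (ModFun.PicDeg f d).ok T z),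
      ψ'.app T z trivial hz ≫ iv = Psi f hdim ψ' (cstK T KX * (PicRep20.famCls f d hz)⁻¹) (hdeg T z hz) :=
    fun T z hz => (hiv T z trivial hz).symm
  have hpsi : ∀ (T : Over (Spec (CommRingCat.of k))) (c : PicLoc.PicSet (PicF.XT f T)) (hc : ∀ r, PicTan20.degCl f T r c.1 = d),
      ∃ hc', Psi f hdim ψ' c hc ≫ iv = Psi f hdim ψ' (cstK T KX * c⁻¹) hc' := fun T c hc => by
    have hok := ok_rep f hdim c hc
    have e : PicRep20.famCls f d hok = c := cls_rep c
    refine ⟨e ▸ hdeg T _ hok, (hiv' T (rep c) hok).trans (psi_congr f hdim ψ' ?_ _ _)⟩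
    rw [e]
  have hinv : iv ≫ iv = 𝟙 Jk := by
    obtain ⟨a, -, ha⟩ := hJ'.2.1 Jk ψ'
    refine (ha _ fun T z _ hz => ?_).trans (ha (𝟙 Jk) fun T z _ hz => (Category.comp_id _).symm).symm
    rw [← Category.assoc, hiv' T z hz]
    obtain ⟨h', e⟩ := hpsi T _ (hdeg T z hz)
    rw [e]
    refine psi_app f hdim ψ' z hz _ _ ?_
    rw [mul_inv, inv_inv, mul_inv_cancel_left]
  haveI : IsIso iv := ⟨iv, hinv, hinv⟩
  haveI : IsIso iv.left := inferInstanceAs (IsIso ((Over.forget _).map iv))
  have hjump : iv.left ⁻¹' Jac.jumpLocus f d ψ' (Coh.structureModule X) = Jac.jumpLocus f d ψ' (Coh.structureModule X) := by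
    have h := jumpLocus_invol hdim (show d = (Curv2.genus k X : ℤ) - 1 by rw [hg]) ψ' iv hdeg hiv'
    refine Set.Subset.antisymm (fun y hy => ?_) h
    have h2 := h _ hy
    rwa [← Scheme.Hom.comp_apply, ← Over.comp_left, hinv] at h2
  have hΘiv : Abel10.pc (Y' := J') iv.left (PicGrp.cls Θ' hΘ'.1) = PicGrp.cls Θ' hΘ'.1 := by
    let vI := Scheme.IdealSheafData.vanishingIdeal
      (⟨Jac.thetaLocus f d ψ' (Coh.structureModule X), isClosed_closure⟩ : TopologicalSpace.Closeds J')
    have hvinv : BlowUp.IsEffCartierIdeal vI :=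
      SecDiv.isEffCartierIdeal_of_isInvertible vI (by
        obtain ⟨i⟩ := hΘ'.2
        obtain ⟨D, hD, ⟨eD⟩⟩ := M2.exists_inverse hΘ'.1
        exact M2.isInvertible_of_iso (M2.inverseUnique eD i) hD)
    have hl : vI.comap iv.left = vI := by
      refine (NodeBlow14.comap_vanishingIdeal iv.left _).trans (congrArg _ (TopologicalSpace.Closeds.ext ?_))
      show iv.left ⁻¹' closure (Jac.jumpLocus f d ψ' _) = closure (Jac.jumpLocus f d ψ' _)
      refine (iv.left.homeomorph.preimage_closure _).trans ?_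
      exact congrArg closure hjump
    have hE := BlowUp26.isEffCartierIdeal_comap_flat hvinv iv.left
    have h1 : PicGrp.cls Θ' hΘ'.1 * PicGrp.cls _ (M2.isInvertible_idealMod _ hvinv) = 1 :=
      (PicGrp.cls_mul_cls_eq_one_iff hΘ'.1 _).2 hΘ'.2
    have h2 := (Riemann22.cls_comap iv.left hvinv hE).trans (Riemann22.cls_congr hl hE hvinv)
    rw [eq_inv_of_mul_eq_one_left h1, map_inv]
    exact congrArg (·⁻¹) h2
  -- the class to be found
  let cM := KX * (PicGrp.cls L hL)⁻¹
  have hMdeg : ∀ (T : Over (Spec (CommRingCat.of k))) r, PicTan20.degCl f T r (cstK T cM).1 = ((n + 1 : ℕ) : ℤ) := fun T r => by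
    rw [map_mul, map_inv, PicTan20.degCl_mul _ (PicRep20.fiber_dim _ hdim), PicRep20.degCl_inv _ hdim, hKdeg, degCl_cstK hdim hL, hLdeg]
    push_cast
    ring
  suffices hmain : Abel10.pc (Y' := X) j.left (PicGrp.cls Θ' hΘ'.1) = cM by
    refine (PicGrp.cls_eq_cls_iff (M2.isInvertible_tensor (PicLoc.isInvertible_pullback j.left hΘ'.1) hL)
      (AmpleFib.deg_omega_of_smooth_connected (k := k) (X := X) hdim).1).1 ?_
    rw [← AlgEquiv22.cls_tensor (PicLoc.isInvertible_pullback j.left hΘ'.1) hL, ← PicGrp.pullHom_cls j.left (M2.pullMul _) _ hΘ'.1]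
    show Abel10.pc (Y' := X) j.left _ * _ = _
    rw [hmain]
    exact inv_mul_cancel_right _ _
  -- after an extension to an algebraically closed field
  let K := AlgebraicClosure F
  let t : Spec (CommRingCat.of K) ⟶ Spec (CommRingCat.of F) := Spec.map (CommRingCat.ofHom (algebraMap F K))
  let TF : Over (Spec (CommRingCat.of F)) := Over.mk (PicF.XTproj pF (Over.mk t) ≫ t)
  let x : TF ⟶ Over.mk pF := Over.homMk (pullback.fst pF t) pullback.condition
  let q : TF ⟶ Over.mk t := Over.homMk (PicF.XTproj pF (Over.mk t)) rfl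
  let c := up β f (Over.mk t) (cstK _ cM)
  have hc : ∀ r, PicTan20.degCl pF (Over.mk t) r c.1 = ((n + 1 : ℕ) : ℤ) := fun r =>
    (degCl_up β f hdim hdimF (Over.mk t) r _).trans (hMdeg _ _)
  obtain ⟨hc', hcore⟩ := core β hdim hdimF hσF hJ₀ hj₀ hξ₀ hψ₀ (n := n) (g := ((n + 1 : ℕ) : ℤ)) (d := d) (by push_cast; ring)
    (by show d = _; simp [d]) (hξ' := hξF) hfm' e he hΘ'.1 hN hNc.symm hΘ₀ hnF t c hc TF rfl x q (Category.id_comp _).symm (Category.id_comp _).symm
  rw [eqToHom_refl] at hcore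
  replace hcore := hcore.trans (Abel10.pc_id c)
  let xk : (Over.map β).obj TF ⟶ Over.mk f := Over.homMk (x.left ≫ pullback.fst f β) (by
    show (x.left ≫ pullback.fst f β) ≫ f = TF.hom ≫ β
    rw [Category.assoc, pullback.condition, ← Category.assoc]
    exact congrArg (· ≫ β) (Over.w x))
  obtain ⟨i⟩ := hLf
  have hLfi := (M2.isInvertible_iff_isFinLocFreeOfRank_one Lf).2 hLok.1.2
  have hLfc : PicRep20.famCls f d hLok * PicGrp.cls (Y := PicF.XT f (Over.mk f)) _ (M2.isInvertible_idealMod _ (isEff_diag f)) = cstK (Over.mk f) (PicGrp.cls L hL) := by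
    refine (AlgEquiv22.cls_tensor hLfi _).trans (Eq.trans ?_ (PicGrp.pullHom_cls _ (M2.pullMul _) L hL).symm)
    exact (PicGrp.cls_eq_cls_iff _ _).2 ⟨i⟩
  have hj' : j ≫ iv = Psi f hdim ψ' (cstK (Over.mk f) KX * (PicRep20.famCls f d hLok)⁻¹) (hdeg _ _ hLok) := by
    rw [← hiv' _ Lf hLok, ← hj]
  have hgrk : down β f TF (grCls pF x) = grCls f xk := by
    haveI : IsIso (𝟙 TF.left) := IsIso.id _
    haveI : IsClosedImmersion (gr pF x) := by
      haveI : IsClosedImmersion (gr pF x ≫ PicF.XTproj pF TF) := by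
        rw [show gr pF x ≫ PicF.XTproj pF TF = 𝟙 TF.left from pullback.lift_snd _ _ _]
        infer_instance
      exact IsClosedImmersion.of_comp _ (PicF.XTproj pF TF)
    refine pc_ker _ _ _ (𝟙 TF.left) ?_ (isEff_gr f xk) (isEff_gr pF x)
    refine IsPullback.of_vert_isIso ⟨?_⟩
    refine Eq.trans ?_ (Category.id_comp _).symm
    show gr f xk ≫ (AbDual22.bcIso β (Over.mk f) TF).inv = gr pF x
    rw [Iso.comp_inv_eq]
    apply pullback.hom_ext
    · exact (pullback.lift_fst _ _ _).trans (Eq.symm ((Category.assoc _ _ _).trans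
        ((congrArg (gr pF x ≫ ·) (AbDual22.bcIso_fst β (Over.mk f) TF)).trans ((Category.assoc _ _ _).symm.trans
          (congrArg (· ≫ pullback.fst f β) (pullback.lift_fst _ _ _))))))
    · exact (pullback.lift_snd _ _ _).trans (Eq.symm ((Category.assoc _ _ _).trans
        ((congrArg (gr pF x ≫ ·) (AbDual22.bcIso_snd β (Over.mk f) TF)).trans (pullback.lift_snd _ _ _))))
  have hcomp : xk ≫ j ≫ iv = JacDeg22.fm β (PicRep20.classify hξF
      (Abel10.pc (PicF.XTmap pF q) c * grCls pF x) hc') := by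
    rw [hfm', hj', ← psi_pc f hdim ψ' xk _ _ (fun r => (PicTan20.degCl_pull f xk r (cstK (Over.mk f) KX * (PicRep20.famCls f d hLok)⁻¹).2).trans (hdeg _ _ hLok _))]
    refine psi_congr f hdim ψ' ?_ _ _
    rw [map_mul, map_inv, cstK_map, map_mul (down β f TF), hgrk,
      show down β f TF (Abel10.pc (PicF.XTmap pF q) c) = cstK _ cM from
        (down_map β f q c).trans ((congrArg (Abel10.pc _) (down_up β f (Over.mk t) (cstK _ cM))).trans (cstK_map _ _)), grCls_eq]
    have h := congrArg (Abel10.pc (PicF.XTmap f xk)) hLfc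
    rw [map_mul, cstK_map] at h
    rw [show cstK _ cM = cstK _ KX * (cstK _ (PicGrp.cls L hL))⁻¹ from (map_mul _ _ _).trans (congrArg _ (map_inv _ _)),
      ← h, mul_inv_rev, _root_.mul_assoc, _root_.mul_right_comm _ _ (Abel10.pc _ _), inv_mul_cancel, _root_.one_mul]
  have hX : Abel10.pc (Y' := TF.left) xk.left (Abel10.pc (Y' := X) j.left (PicGrp.cls Θ' hΘ'.1)) = c := by
    refine Eq.trans ?_ hcore
    rw [← hcomp]
    conv_lhs => rw [← hΘiv]
    exact (congrArg _ (Abel10.pc_comp _ _ rfl _)).trans (Abel10.pc_comp _ _ rfl _)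
  refine mul_inv_eq_one.1 (eq_one_of_ext (t ≫ β) _ ?_)
  have hfst : (AbDual22.bcIso β (Over.mk f) (Over.mk t)).inv ≫ xk.left = pullback.fst f (t ≫ β) := by
    rw [Iso.inv_comp_eq]
    exact (AbDual22.bcIso_fst β (Over.mk f) (Over.mk t)).symm
  rw [map_mul, map_inv, mul_inv_eq_one]
  have h := congrArg (down β f (Over.mk t)) hX
  rw [down_up] at h
  exact ((Abel10.pc_comp _ _ hfst _).symm).trans h

end Groth.Agent.S17133
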