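import Groth.Statements.S17134
import Groth.Agent.Lib.JacForm22.ThetaBC

set_option autoImplicit false
set_option linter.style.haveILetI false
set_option backward.isDefEq.respectTransparency false
set_option backward.isDefEq.respectTransparency.types false
set_option maxHeartbeats 2000000
set_option synthInstance.maxHeartbeats 200000
universe u
open CategoryTheory CategoryTheory.Limits AlgebraicGeometry MonoidalCategory CartesianMonoidalCategory MonObj
open Jac

namespace Groth.Agent.S17134

open Groth.Agent Groth.Agent.JacForm22 Groth.Agent.JacBC22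
open scoped CategoryTheory.Obj

/-- Let X be a smooth proper geometrically connected curve of genus g ≥ 1 over a field k, and let (J, ψ)
be its Jacobian: a commutative group scheme over k which is a coarse moduli scheme, on all
k-schemes, for line bundles of degree 0 on X modulo twisting from the base, whose group law is the
tensor product of line bundles. Let N be an invertible module of degree g − 1 on X and Θ_J the line
bundle of the theta divisor Θ_N on J: an invertible module inverse to the ideal of the closed
subset, with reduced structure, which is the closure of the locus of classes M with H⁰(X, M ⊗ N) ≠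
0. Let (Jt, φ) be a commutative group scheme over k presented as the fppf dual of J, and let lam : J
→ Jt be the homomorphism attached to Θ_J through φ (the Jt-valued point of J that φ attaches to the
class of m^* Θ_J ⊗ pr₁^* Θ_J⁻¹ ⊗ pr₂^* Θ_J⁻¹). Then lam is an isomorphism and Θ_J is ample: the
theta divisor defines a principal polarization of the Jacobian. (Stated in the case where a line
bundle N of degree g − 1 exists on X over k, through which the theta divisor is translated to J; the
published statement covers any curve by descent.) -/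
theorem result (k : Type u) [Field k]
    (X : Scheme.{u}) [X.Over (Spec (CommRingCat.of k))]
    [IsProper (X ↘ Spec (CommRingCat.of k))] [Smooth (X ↘ Spec (CommRingCat.of k))]
    [GeometricallyConnected (X ↘ Spec (CommRingCat.of k))] (hdim : topologicalKrullDim ↥X = 1)
    (g : ℕ) (hg : Curv2.genus k X = g) (hg1 : 1 ≤ g)
    (J : Over (Spec (CommRingCat.of k))) [GrpObj J] [IsCommMonObj J]
    (ψ : (ModFun.PicDeg (X ↘ Spec (CommRingCat.of k)) 0).Hom ⊤ J) (hJ : Jac.IsJacobian (X ↘ Spec (CommRingCat.of k)) ⊤ J ψ)
    (N : X.Modules) (hN : PicF.IsInvertible N) (hNdeg : Curv2.deg k X N 1 = (g : ℤ) - 1)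
    (ΘJ : J.left.Modules) (hΘJ : Jac.IsThetaLB (X ↘ Spec (CommRingCat.of k)) 0 ψ N ΘJ)
    (Jt : Over (Spec (CommRingCat.of k))) [GrpObj Jt] [IsCommMonObj Jt]
    (φ : AgPol.DualMap J Jt) (hJt : AbDual.IsDualAV Scheme.fppfPrecoverage J Jt φ)
    (lam : J ⟶ Jt) (hlam : AgPol.IsLambda J Jt φ ΘJ lam) :
    IsIso lam ∧ CohB1.IsAmple ΘJ := by
  classical
  letI : ∀ Y : Scheme.{u}, PicGrp.Law Y := fun Y => Groth.Agent.M2.law Y
  haveI : IsIntegral X := VB17.isIntegral_of_smooth (k := k) (X := X)
  haveI : GeometricallyIntegral (X ↘ Spec (CommRingCat.of k)) := PicSep22.geometricallyIntegral_of_smooth _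
  haveI : GeometricallyIrreducible (X ↘ Spec (CommRingCat.of k)) := inferInstance
  let f := X ↘ Spec (CommRingCat.of k)
  let Ksep := SeparableClosure k
  let γs : Spec (CommRingCat.of Ksep) ⟶ Spec (CommRingCat.of k) := Spec.map (CommRingCat.ofHom (algebraMap k Ksep))
  obtain ⟨hs1, hs2, hs3, hs4, -, -, -⟩ := setupF γs hdim
  haveI := hs1; haveI := hs2; haveI := hs3; haveI := hs4
  obtain ⟨σs, hσs, -⟩ := CurveTwist13.exists_section_mem (k := Ksep) (X := CK γs X) ⊤ Set.univ_nonempty
  obtain ⟨F₀, hfin, y, -, hy⟩ := PicRep20.exists_factor_finite (f := f) (σs ≫ pullback.fst f γs) (by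
    rw [Category.assoc, pullback.condition, ← Category.assoc]
    exact (congrArg (· ≫ γs) hσs).trans (Category.id_comp _))
  let F : Type u := ↥F₀
  let β : Spec (CommRingCat.of F) ⟶ Spec (CommRingCat.of k) := Spec.map (CommRingCat.ofHom (algebraMap k F))
  haveI : Algebra.IsSeparable k F := inferInstanceAs (Algebra.IsSeparable k ↥F₀)
  haveI : Module.Finite k F := hfin
  haveI : Algebra.FormallyEtale k F := Algebra.FormallyEtale.of_isSeparable k F
  haveI : Algebra.FinitePresentation k F := Algebra.FinitePresentation.of_finiteType.1 inferInstance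
  haveI : Algebra.Etale k F := ⟨inferInstance, inferInstance⟩
  haveI : Etale β := (HasRingHomProperty.Spec_iff (P := @Etale)).2 (RingHom.etale_algebraMap.2 inferInstance)
  haveI : IsFinite β := (IsFinite.SpecMap_iff _).2 (RingHom.finite_algebraMap.2 inferInstance)
  obtain ⟨i1, i2, i3, i4, i5, hdimF, hgF⟩ := setupF β hdim
  haveI := i1; haveI := i2; haveI := i3; haveI := i4; haveI := i5
  let σF : Spec (CommRingCat.of F) ⟶ CK β X := pullback.lift y (𝟙 _) (hy.trans (Category.id_comp β).symm)
  have hσF : σF ≫ (CK β X ↘ Spec (CommRingCat.of F)) = 𝟙 _ := pullback.lift_snd _ _ _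
  obtain ⟨ψF, hJF, hψF⟩ := exists_jacobian_form β hdim hdimF hσF hJ
  have hΘF := isThetaLB_bc β hdim hdimF hN hψF hΘJ
  have hdual : AbDual.IsDualAV Scheme.fppfPrecoverage (Red.bc β J) (Red.bc β Jt) (AgPol.bcDual β J Jt φ) := by
    rw [PolPull22.bcDual_eq]
    exact AbDual22.isDualAV_bc β φ hJt
  obtain ⟨hpF, hsF, hgF'⟩ := JacPts22.jacobian_props hdimF σF hσF hJF
  haveI := FpqcDesc.descendsAlong_isProper.{u}
  have hQ : (@Surjective ⊓ @Flat ⊓ @QuasiCompact : MorphismProperty Scheme.{u}) β := ⟨⟨inferInstance, inferInstance⟩, inferInstance⟩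
  haveI : IsProper J.hom := MorphismProperty.of_pullback_snd_of_descendsAlong (P := @IsProper) hQ hpF
  haveI : Smooth J.hom := MorphismProperty.of_pullback_snd_of_descendsAlong (P := @Smooth) hQ hsF
  haveI : GeometricallyConnected J.hom := by
    haveI := hsF
    haveI := hgF'
    haveI : GeometricallyConnected (pullback.snd J.hom β) := (DualAV22.smooth_gc (A := Red.bc β J)).2
    exact GeomIrr.geometricallyConnected_of_pullback J.hom β
  obtain ⟨Nl, hNl, hs, rfl⟩ := hlam
  have hlamF := (AgPol22.isLambda_bc_iff β hJt hΘJ.1 hNl hs _).2 rfl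
  haveI : IsCommMonObj (Red.bc β J) := inferInstance
  haveI : IsCommMonObj (Red.bc β Jt) := inferInstance
  obtain ⟨hiso, hamp⟩ := isIso_lambda_of_section F (CK β X) hdimF g (hgF.trans hg) hg1 σF hσF (Red.bc β J) ψF hJF
    (Next β N) (PicLoc.isInvertible_pullback _ hN) ((deg_ext β hN).trans hNdeg) _ hΘF (Red.bc β Jt) _ hdual _ hlamF
  haveI : Surjective (pullback.fst Jt.hom β) := MorphismProperty.pullback_fst _ _ inferInstance
  haveI : Flat (pullback.fst Jt.hom β) := MorphismProperty.pullback_fst _ _ inferInstance
  haveI : QuasiCompact (pullback.fst Jt.hom β) := MorphismProperty.pullback_fst _ _ inferInstance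
  have hQ' : (@Surjective ⊓ @Flat ⊓ @QuasiCompact : MorphismProperty Scheme.{u}) (pullback.fst Jt.hom β) :=
    ⟨⟨inferInstance, inferInstance⟩, inferInstance⟩
  haveI := hiso
  haveI : IsIso (φ J (PicF.cl Nl)).left :=
    MorphismProperty.of_isPullback_of_descendsAlong (P := MorphismProperty.isomorphisms Scheme.{u})
      (isPullback_map β (φ J (PicF.cl Nl))).flip hQ'
      (show IsIso ((Over.pullback β).map (φ J (PicF.cl Nl))).left from inferInstanceAs (IsIso ((Over.forget _).map ((Over.pullback β).map (φ J (PicF.cl Nl))))))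
  haveI : IsIso ((Over.forget _).map (φ J (PicF.cl Nl))) := ‹IsIso (φ J (PicF.cl Nl)).left›
  refine ⟨isIso_of_reflects_iso (φ J (PicF.cl Nl)) (Over.forget _), ?_⟩
  haveI : CompactSpace J.left := QuasiCompact.compactSpace_of_compactSpace J.hom
  haveI : J.left.IsSeparated := ⟨by
    have : IsSeparated (J.hom ≫ terminal.from (Spec (CommRingCat.of k))) := inferInstance
    rwa [Subsingleton.elim (J.hom ≫ terminal.from _) (terminal.from J.left)] at this⟩
  exact CubeField.isAmple_of_pullback_field (CommRingCat.ofHom (algebraMap k F)) (IsPullback.of_hasPullback J.hom β) hΘJ.1 hamp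

end Groth.Agent.S17134
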