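import Groth.Statements.S17135
import Groth.Agent.Lib.JacDeg22.Form
import Groth.Agent.Lib.JacDeg22.Invariants

set_option autoImplicit false
set_option linter.style.haveILetI false
set_option backward.isDefEq.respectTransparency false
set_option backward.isDefEq.respectTransparency.types false
set_option maxHeartbeats 4000000
set_option synthInstance.maxHeartbeats 200000
universe u
open CategoryTheory CategoryTheory.Limits AlgebraicGeometry MonoidalCategory CartesianMonoidalCategory MonObj
open Jac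

namespace Groth.Agent.S17135

open Groth.Agent Groth.Agent.JacBC22 Groth.Agent.JacForm22
open scoped CategoryTheory.Obj

/-- Let X be a smooth proper geometrically connected curve of genus g ≥ 1 over a field k, let (J', ψ')
be a coarse moduli scheme, on all k-schemes, for line bundles of degree g − 1 on X modulo twisting
from the base, let Θ' be the line bundle of its theta divisor (an invertible module on J' inverse to
the ideal of the closed subset, with reduced structure, which is the closure of the locus of classes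
having a nonzero global section) and let Θinv be a tensor inverse of Θ'. Then the self-intersection
number (Θ'^g) — the alternating sum of Euler characteristics FGA.intNum taken in g copies of the
inverse module Θinv against the structure sheaf, with dimension bound g — equals g!, and h⁰(J', Θ')
= 1. -/
theorem result (k : Type u) [Field k]
    (X : Scheme.{u}) [X.Over (Spec (CommRingCat.of k))]
    [IsProper (X ↘ Spec (CommRingCat.of k))] [Smooth (X ↘ Spec (CommRingCat.of k))]
    [GeometricallyConnected (X ↘ Spec (CommRingCat.of k))] (hdim : topologicalKrullDim ↥X = 1)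
    (g : ℕ) (hg : Curv2.genus k X = g) (hg1 : 1 ≤ g)
    (J' : Scheme.{u}) [J'.Over (Spec (CommRingCat.of k))]
    (ψ' : (ModFun.PicDeg (X ↘ Spec (CommRingCat.of k)) ((g : ℤ) - 1)).Hom ⊤ (Over.mk (J' ↘ Spec (CommRingCat.of k))))
    (hJ' : ModFun.IsCoarseModuli ⊤ (ModFun.PicDeg (X ↘ Spec (CommRingCat.of k)) ((g : ℤ) - 1)) (Over.mk (J' ↘ Spec (CommRingCat.of k))) ψ')
    (Θ' : J'.Modules) (hΘ' : Jac.IsThetaLB (X ↘ Spec (CommRingCat.of k)) ((g : ℤ) - 1) ψ' (Coh.structureModule X) Θ')
    (Θinv : J'.Modules) (hΘinv : Nonempty (CohB1.tensorMod Θ' Θinv ≅ Coh.structureModule J')) :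
    FGA.intNum k J' g (fun _ : Fin g => Θinv) (Coh.structureModule J') = (Nat.factorial g : ℤ) ∧
      Module.finrank k (Coh.HH J' Θ' 0) = 1 := by
  classical
  letI : ∀ Y : Scheme.{u}, PicGrp.Law Y := fun Y => Groth.Agent.M2.law Y
  haveI : IsIntegral X := VB17.isIntegral_of_smooth (k := k) (X := X)
  haveI : GeometricallyIntegral (X ↘ Spec (CommRingCat.of k)) := PicSep22.geometricallyIntegral_of_smooth _
  haveI : GeometricallyIrreducible (X ↘ Spec (CommRingCat.of k)) := inferInstance
  let f := X ↘ Spec (CommRingCat.of k)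
  let Ksep := SeparableClosure k
  let γs : Spec (CommRingCat.of Ksep) ⟶ Spec (CommRingCat.of k) := Spec.map (CommRingCat.ofHom (algebraMap k Ksep))
  obtain ⟨hs1, hs2, hs3, hs4, -, -, -⟩ := setupF γs hdim
  haveI := hs1; haveI := hs2; haveI := hs3; haveI := hs4
  obtain ⟨σs, hσs, -⟩ := CurveTwist13.exists_section_mem (k := Ksep) (X := CK γs X) ⊤ Set.univ_nonempty
  obtain ⟨F₀, hfin, y, -, hy⟩ := PicRep20.exists_factor_finite (f := f) (σs ≫ pullback.fst f γs) (by
    rw [Category.assoc, pullback.condition, ← Category.assoc]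
    exact (congrArg (· ≫ γs) hσs).trans (Category.id_comp _))
  let F : Type u := ↥F₀
  let β : Spec (CommRingCat.of F) ⟶ Spec (CommRingCat.of k) := Spec.map (CommRingCat.ofHom (algebraMap k F))
  haveI : Algebra.IsSeparable k F := inferInstanceAs (Algebra.IsSeparable k ↥F₀)
  haveI : Module.Finite k F := hfin
  haveI : Algebra.FormallyEtale k F := Algebra.FormallyEtale.of_isSeparable k F
  haveI : Algebra.FinitePresentation k F := Algebra.FinitePresentation.of_finiteType.1 inferInstance
  haveI : Algebra.Etale k F := ⟨inferInstance, inferInstance⟩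
  haveI : Etale β := (HasRingHomProperty.Spec_iff (P := @Etale)).2 (RingHom.etale_algebraMap.2 inferInstance)
  haveI : IsFinite β := (IsFinite.SpecMap_iff _).2 (RingHom.finite_algebraMap.2 inferInstance)
  obtain ⟨i1, i2, i3, i4, i5, hdimF, hgF⟩ := setupF β hdim
  haveI := i1; haveI := i2; haveI := i3; haveI := i4; haveI := i5
  let σF : Spec (CommRingCat.of F) ⟶ CK β X := pullback.lift y (𝟙 _) (hy.trans (Category.id_comp β).symm)
  have hσF : σF ≫ (CK β X ↘ Spec (CommRingCat.of F)) = 𝟙 _ := pullback.lift_snd _ _ _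
  obtain ⟨n, rfl⟩ : ∃ n, g = n + 1 := ⟨g - 1, by omega⟩
  have hnF : Curv2.genus F (CK β X) = n + 1 := hgF.trans hg
  let Jk : Over (Spec (CommRingCat.of k)) := Over.mk (J' ↘ Spec (CommRingCat.of k))
  let pF := CK β X ↘ Spec (CommRingCat.of F)
  haveI : IsProper (fK β f) := i1
  haveI : Smooth (fK β f) := i2
  haveI : GeometricallyConnected (fK β f) := i3
  haveI : GeometricallyIrreducible (fK β f) := i5
  obtain ⟨J₀, iG, iC, ψ₀, hJ₀, hp₀, N, hN, e, hNd, hΘ₀⟩ :=
    JacDeg22.exists_form β hdim hdimF σF hσF (Jk := Jk) hJ'.2.1 hΘ'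
  letI := iG
  haveI := iC
  haveI := hp₀
  have hNdeg : Curv2.deg F (CK β X) N 1 = n := by rw [hNd]; push_cast; ring
  obtain ⟨hdimJ, hh0, heu⟩ := JacDeg22.theta_numbers hdimF hnF σF hσF hJ₀ hN hNdeg hΘ₀
  letI : J₀.left.Over (Spec (CommRingCat.of F)) := ⟨J₀.hom⟩
  letI : (Red.bc β Jk).left.Over (Spec (CommRingCat.of F)) := ⟨(Red.bc β Jk).hom⟩
  haveI : IsIso e.hom.left := inferInstanceAs (IsIso ((Over.forget _).map e.hom))
  haveI : IsIso e.inv.left := inferInstanceAs (IsIso ((Over.forget _).map e.inv))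
  have hew : e.hom.left ≫ (Red.bc β Jk).hom = J₀.hom := Over.w e.hom
  haveI hpF : IsProper (Red.bc β Jk).hom := by
    rw [← Over.w e.inv]
    infer_instance
  haveI := FpqcDesc.descendsAlong_isProper.{u}
  have hQ : (@Surjective ⊓ @Flat ⊓ @QuasiCompact : MorphismProperty Scheme.{u}) β := ⟨⟨inferInstance, inferInstance⟩, inferInstance⟩
  haveI : IsProper (J' ↘ Spec (CommRingCat.of k)) := MorphismProperty.of_pullback_snd_of_descendsAlong (P := @IsProper) hQ hpF
  haveI : CompactSpace J' := QuasiCompact.compactSpace_of_compactSpace (J' ↘ Spec (CommRingCat.of k))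
  haveI : QuasiSeparatedSpace J' := quasiSeparatedSpace_of_quasiSeparated (J' ↘ Spec (CommRingCat.of k))
  haveI : IsNoetherian J' := CohFound.isNoetherian_of_isProper (J' ↘ Spec (CommRingCat.of k))
  let π : (Red.bc β Jk).left ⟶ J' := pullback.fst Jk.hom β
  have hpb : IsPullback π ((Red.bc β Jk).left ↘ Spec (CommRingCat.of F)) (J' ↘ Spec (CommRingCat.of k))
      (Spec.map (CommRingCat.ofHom (algebraMap k F))) := IsPullback.of_hasPullback _ _
  have hsq : IsPullback π (Red.bc β Jk).hom (J' ↘ Spec (CommRingCat.of k)) β := IsPullback.of_hasPullback _ _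
  have hdimJ' : topologicalKrullDim J' = ((n + 1 : ℕ) : WithBot ℕ∞) := by
    rw [← CurveLocus.topologicalKrullDim_bc (J' ↘ Spec (CommRingCat.of k)) hsq, ← hdimJ]
    exact (IsHomeomorph.topologicalKrullDim_eq _ e.hom.left.homeomorph.isHomeomorph).symm
  obtain ⟨eI⟩ := hΘinv
  have hΘi : PicF.IsInvertible Θinv := by
    obtain ⟨D, hD, ⟨eD⟩⟩ := M2.exists_inverse hΘ'.1
    exact M2.isInvertible_of_iso (M2.inverseUnique eD eI) hD
  have hH : ∀ {M : J'.Modules} (hM : PicF.IsInvertible M) (q : ℕ),
      Module.finrank k (Coh.HH J' M q) =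
        Module.finrank F (Coh.HH J₀.left ((Scheme.Modules.pullback e.hom.left).obj ((Scheme.Modules.pullback π).obj M)) q) := fun hM q => by
    rw [JacDeg22.finrank_pullback_iso (k := F) e.hom.left hew (PicLoc.isInvertible_pullback π hM) q,
      JacDeg22.finrank_ext hpb hM q]
  refine ⟨JacDeg22.intNum_of_euler hdimJ' hΘi fun m hm => ?_, (hH hΘ'.1 0).trans hh0⟩
  have h1 := PicLoc.isInvertible_pullback e.hom.left (PicLoc.isInvertible_pullback π hΘi)
  have hinv : ClSub.IsInverseOf ((Scheme.Modules.pullback e.hom.left).obj ((Scheme.Modules.pullback π).obj Θinv))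
      ((Scheme.Modules.pullback e.hom.left).obj ((Scheme.Modules.pullback π).obj Θ')) := by
    have h0 : PicGrp.cls Θ' hΘ'.1 * PicGrp.cls Θinv hΘi = 1 := (PicGrp.cls_mul_cls_eq_one_iff hΘ'.1 hΘi).2 ⟨eI⟩
    refine (PicGrp.cls_mul_cls_eq_one_iff h1 (PicLoc.isInvertible_pullback e.hom.left (PicLoc.isInvertible_pullback π hΘ'.1))).1 ?_
    rw [← PicGrp.pullHom_cls e.hom.left (M2.pullMul _) _ (PicLoc.isInvertible_pullback π hΘi),
      ← PicGrp.pullHom_cls e.hom.left (M2.pullMul _) _ (PicLoc.isInvertible_pullback π hΘ'.1), ← map_mul,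
      ← PicGrp.pullHom_cls π (M2.pullMul _) _ hΘi, ← PicGrp.pullHom_cls π (M2.pullMul _) _ hΘ'.1, ← map_mul,
      _root_.mul_comm, h0, map_one, map_one]
  rw [← heu _ h1 hinv m hm]
  have hpw := M2.isInvertible_tensorPow hΘi m
  have hiso : Nonempty ((Scheme.Modules.pullback e.hom.left).obj ((Scheme.Modules.pullback π).obj (CohB1.tensorPow Θinv m)) ≅
      CohB1.tensorPow ((Scheme.Modules.pullback e.hom.left).obj ((Scheme.Modules.pullback π).obj Θinv)) m) := by
    refine (PicGrp.cls_eq_cls_iff (PicLoc.isInvertible_pullback _ (PicLoc.isInvertible_pullback π hpw)) (M2.isInvertible_tensorPow h1 m)).1 ?_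
    rw [← PicGrp.pullHom_cls e.hom.left (M2.pullMul _) _ (PicLoc.isInvertible_pullback π hpw), ← PicGrp.pullHom_cls π (M2.pullMul _) _ hpw,
      show PicGrp.cls _ hpw = PicGrp.cls Θinv hΘi ^ m from Subtype.ext (by rw [PicGrp.cls_pow_val, PicGrp.cls_val]),
      map_pow, map_pow, PicGrp.pullHom_cls π (M2.pullMul _) _ hΘi, PicGrp.pullHom_cls e.hom.left (M2.pullMul _) _ (PicLoc.isInvertible_pullback π hΘi)]
    exact Subtype.ext (by rw [PicGrp.cls_pow_val, PicGrp.cls_val])
  obtain ⟨i⟩ := hiso
  refine finsum_congr fun q => ?_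
  rw [hH hpw q, (CurveCoh17.hequiv F i q).finrank_eq]

end Groth.Agent.S17135
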