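import Groth.Statements.S17136
import Groth.Agent.Lib.JacDeg22.Point
import Groth.Agent.Lib.JacDeg22.Form
import Groth.Agent.Lib.JacDeg22.Twist
import Groth.Agent.Lib.JacDeg22.UnivIso
import Groth.Agent.Lib.AVQuotH1.AffineGrp

set_option autoImplicit false
set_option linter.style.haveILetI false
set_option backward.isDefEq.respectTransparency false
set_option backward.isDefEq.respectTransparency.types false
set_option maxHeartbeats 4000000
set_option synthInstance.maxHeartbeats 200000
universe u
open CategoryTheory CategoryTheory.Limits AlgebraicGeometry MonoidalCategory CartesianMonoidalCategory MonObj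
open Jac

namespace Groth.Agent.S17136

open Groth.Agent Groth.Agent.JacBC22 Groth.Agent.JacDeg22
open scoped CategoryTheory.Obj

/-- Let X be a smooth proper geometrically connected curve of genus g ≥ 1 over a field k (no rational
point is assumed), let (J_g, ψ_g) and (J', ψ') be coarse moduli schemes, on all k-schemes, for line
bundles of degree g and of degree g − 1 on X modulo twisting from the base (the Picard schemes of
degrees g and g − 1), and let Θ' be the line bundle of the theta divisor on J': an invertible module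
inverse to the ideal of the closed subset, with reduced structure, which is the closure of the locus
of classes having a nonzero global section. Let fm : X × J_g → J' be the morphism induced by the
operation (x, M) ↦ M(−x): for every k-scheme T, every T-point x of X and every admissible degree-g
family M on X_T there is an admissible degree-(g − 1) family isomorphic to M ⊗ I_{Γ_x} (I_{Γ_x} the
ideal of the graph of x in X_T), and ψ' of any such family equals the pair (x, ψ_g M) followed by
fm. Then fm^* Θ' is a universal line bundle on X × J_g: it is an admissible degree-g family over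
J_g, and every admissible degree-g family on X_T, T any k-scheme, is isomorphic up to a twist by a
line bundle from T to its pull-back along exactly one k-morphism T → J_g. -/
theorem result (k : Type u) [Field k]
    (X : Scheme.{u}) [X.Over (Spec (CommRingCat.of k))]
    [IsProper (X ↘ Spec (CommRingCat.of k))] [Smooth (X ↘ Spec (CommRingCat.of k))]
    [GeometricallyConnected (X ↘ Spec (CommRingCat.of k))] (hdim : topologicalKrullDim ↥X = 1)
    (g : ℕ) (hg : Curv2.genus k X = g) (hg1 : 1 ≤ g)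
    (Jg : Over (Spec (CommRingCat.of k)))
    (ψg : (ModFun.PicDeg (X ↘ Spec (CommRingCat.of k)) (g : ℤ)).Hom ⊤ Jg)
    (hJg : ModFun.IsCoarseModuli ⊤ (ModFun.PicDeg (X ↘ Spec (CommRingCat.of k)) (g : ℤ)) Jg ψg)
    (J' : Over (Spec (CommRingCat.of k)))
    (ψ' : (ModFun.PicDeg (X ↘ Spec (CommRingCat.of k)) ((g : ℤ) - 1)).Hom ⊤ J')
    (hJ' : ModFun.IsCoarseModuli ⊤ (ModFun.PicDeg (X ↘ Spec (CommRingCat.of k)) ((g : ℤ) - 1)) J' ψ')
    (Θ' : J'.left.Modules) (hΘ' : Jac.IsThetaLB (X ↘ Spec (CommRingCat.of k)) ((g : ℤ) - 1) ψ' (Coh.structureModule X) Θ')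
    (fm : Over.mk (X ↘ Spec (CommRingCat.of k)) ⊗ Jg ⟶ J')
    (hfm : Jac.IsBinOpMap
      (ModFun.Problem.Hom.ofNatTrans (𝟙 ((AlgSp.pyon (Spec (CommRingCat.of k))).obj (Over.mk (X ↘ Spec (CommRingCat.of k)))))) ψg ψ'
      (fun (T : Over (Spec (CommRingCat.of k))) (x : ULift.{u + 1} (T ⟶ Over.mk (X ↘ Spec (CommRingCat.of k))))
        (M N : (PicF.XT (X ↘ Spec (CommRingCat.of k)) T).Modules) =>
        Nonempty (N ≅ CohB1.tensorMod M (ClSub.idealMod
          (pullback.lift x.down.left (𝟙 T.left) ((Over.w x.down).trans (Category.id_comp T.hom).symm) :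
            T.left ⟶ PicF.XT (X ↘ Spec (CommRingCat.of k)) T).ker)))
      fm) :
    ModFun.IsUnivFamily ⊤ (ModFun.PicDeg (X ↘ Spec (CommRingCat.of k)) (g : ℤ)) Jg ((Scheme.Modules.pullback fm.left).obj Θ') := by
  classical
  letI : ∀ Y : Scheme.{u}, PicGrp.Law Y := fun Y => Groth.Agent.M2.law Y
  haveI : IsIntegral X := VB17.isIntegral_of_smooth (k := k) (X := X)
  haveI : GeometricallyIntegral (X ↘ Spec (CommRingCat.of k)) := PicSep22.geometricallyIntegral_of_smooth _
  haveI : GeometricallyIrreducible (X ↘ Spec (CommRingCat.of k)) := inferInstance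
  let f := X ↘ Spec (CommRingCat.of k)
  let Ksep := SeparableClosure k
  let γs : Spec (CommRingCat.of Ksep) ⟶ Spec (CommRingCat.of k) := Spec.map (CommRingCat.ofHom (algebraMap k Ksep))
  obtain ⟨hs1, hs2, hs3, hs4, -, -, -⟩ := JacForm22.setupF γs hdim
  haveI := hs1; haveI := hs2; haveI := hs3; haveI := hs4
  obtain ⟨σs, hσs, -⟩ := CurveTwist13.exists_section_mem (k := Ksep) (X := CK γs X) ⊤ Set.univ_nonempty
  obtain ⟨F₀, hfin, y, -, hy⟩ := PicRep20.exists_factor_finite (f := f) (σs ≫ pullback.fst f γs) (by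
    rw [Category.assoc, pullback.condition, ← Category.assoc]
    exact (congrArg (· ≫ γs) hσs).trans (Category.id_comp _))
  let F : Type u := ↥F₀
  let β : Spec (CommRingCat.of F) ⟶ Spec (CommRingCat.of k) := Spec.map (CommRingCat.ofHom (algebraMap k F))
  haveI : Algebra.IsSeparable k F := inferInstanceAs (Algebra.IsSeparable k ↥F₀)
  haveI : Module.Finite k F := hfin
  haveI : Algebra.FormallyEtale k F := Algebra.FormallyEtale.of_isSeparable k F
  haveI : Algebra.FinitePresentation k F := Algebra.FinitePresentation.of_finiteType.1 inferInstance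
  haveI : Algebra.Etale k F := ⟨inferInstance, inferInstance⟩
  haveI : Etale β := (HasRingHomProperty.Spec_iff (P := @Etale)).2 (RingHom.etale_algebraMap.2 inferInstance)
  haveI : IsFinite β := (IsFinite.SpecMap_iff _).2 (RingHom.finite_algebraMap.2 inferInstance)
  obtain ⟨i1, i2, i3, i4, i5, hdimF, hgF⟩ := JacForm22.setupF β hdim
  haveI := i1; haveI := i2; haveI := i3; haveI := i4; haveI := i5
  let σF : Spec (CommRingCat.of F) ⟶ CK β X := pullback.lift y (𝟙 _) (hy.trans (Category.id_comp β).symm)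
  have hσF : σF ≫ (CK β X ↘ Spec (CommRingCat.of F)) = 𝟙 _ := pullback.lift_snd _ _ _
  obtain ⟨n, rfl⟩ : ∃ n, g = n + 1 := ⟨g - 1, by omega⟩
  have hnF : Curv2.genus F (CK β X) = n + 1 := hgF.trans hg
  let pF := CK β X ↘ Spec (CommRingCat.of F)
  let d : ℤ := ((n + 1 : ℕ) : ℤ) - 1
  haveI : IsProper (fK β f) := i1
  haveI : Smooth (fK β f) := i2
  haveI : GeometricallyConnected (fK β f) := i3
  haveI : GeometricallyIrreducible (fK β f) := i5
  haveI : Surjective β := inferInstance
  obtain ⟨J₀, iG, iC, ψ₀, j₀, hJ₀, hj₀⟩ := JacPts22.exists_jacobian_pair (C := CK β X) (σ := σF) hdimF hσF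
  letI := iG
  haveI := iC
  obtain ⟨hp₀, hs₀, hi₀, ξ₀, hξ₀, hψ₀⟩ := JacPts22.exists_fine pF hdimF σF hσF J₀ ψ₀ hJ₀.coarse.2.1
  haveI := hp₀; haveI := hs₀; haveI := hi₀
  have haff := exists_haff J₀
  obtain ⟨ξgF, hξgF, hfmg⟩ := exists_univ_bc β f hdim hdimF ψg (isUnivClass_shift hdimF σF hσF ((n + 1 : ℕ) : ℤ) hξ₀) hJg.2.1 haff
  obtain ⟨ξF, hξF, hfm'⟩ := exists_univ_bc β f hdim hdimF ψ' (isUnivClass_shift hdimF σF hσF d hξ₀) hJ'.2.1 haff
  let ψF : (ModFun.PicDeg pF d).Hom ⊤ (Red.bc β J') :=
    { app := fun T x _ hx => PicRep20.classify hξF (PicRep20.famCls pF d hx) (PicRep20.degCl_famCls pF hdimF d hx)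
      natural := by
        intro T T' t x _ _ hx hx'
        have h := PicRep20.famCls_pull t hx hx'
        have hd' : ∀ r, PicTan20.degCl pF T' r (Abel10.pc (PicF.XTmap pF t) (PicRep20.famCls pF d hx)).1 = d :=
          h ▸ PicRep20.degCl_famCls pF hdimF d hx'
        rw [← PicRep20.classify_pc hξF t _ (PicRep20.degCl_famCls pF hdimF d hx) hd']
        congr 1
      resp := by
        intro T x y _ hx hy hr
        obtain ⟨m, hm⟩ := PicRep20.classify_spec hξF _ (PicRep20.degCl_famCls pF hdimF d hx)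
        obtain ⟨m', hm'⟩ := (PicRep20.r_iff pF d ((M2.isInvertible_iff_isFinLocFreeOfRank_one x).2 hx.1.2)
          ((M2.isInvertible_iff_isFinLocFreeOfRank_one y).2 hy.1.2)).1 hr
        refine PicRep20.eq_classify hξF _ _ _ (m := m * m') ?_
        change PicRep20.famCls pF d hy = PicRep20.famCls pF d hx * Abel10.pc (PicF.XTproj pF T) m' at hm'
        rw [hm', map_mul, ← _root_.mul_assoc, ← hm]
        rfl }
  have hψF : ∀ T x (hx : (ModFun.PicDeg pF d).ok T x), ∃ hd, JacDeg22.fm β (ψF.app T x trivial hx) =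
      Psi f hdim ψ' (JacBC22.down β f T (PicRep20.famCls _ d hx)) hd := fun T x hx =>
    ⟨deg_down β f hdim hdimF _ (PicRep20.degCl_famCls pF hdimF d hx), hfm' T (PicRep20.famCls pF d hx) (PicRep20.degCl_famCls pF hdimF d hx)⟩
  have hΘF := isThetaLB_bc β hdim hdimF (PicLoc.isInvertible_structureModule X) hψF hΘ'
  let OF := JacForm22.Next β (Coh.structureModule X)
  have hjump : Jac.jumpLocus pF d ψF OF = Jac.jumpLocus pF d ψF (Coh.structureModule (CK β X)) :=
    JacDeg22.jumpLocus_congr pF d ψF (Twist.pullbackUnitIso (pullback.fst f β))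
  replace hΘF : Jac.IsThetaLB pF d ψF (Coh.structureModule (CK β X)) ((Scheme.Modules.pullback (pullback.fst J'.hom β)).obj Θ') := by
    have h : (⟨Jac.thetaLocus pF d ψF (Coh.structureModule (CK β X)), isClosed_closure⟩ : TopologicalSpace.Closeds (Red.bc β J').left) =
        ⟨Jac.thetaLocus pF d ψF OF, isClosed_closure⟩ := TopologicalSpace.Closeds.ext (congrArg closure hjump.symm)
    refine ⟨hΘF.1, ?_⟩
    rw [h]
    exact hΘF.2
  obtain ⟨N, hN, hNc⟩ := PicGrp.exists_eq_cls (degGen hdimF σF hσF d)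
  obtain ⟨e, he, hΘ₀⟩ := exists_translate' hdimF σF hσF d hξ₀ hψ₀ hξF (fun T x hx => rfl) hΘF hN hNc.symm
  let P := (Scheme.Modules.pullback fm.left).obj Θ'
  have hPi : PicF.IsInvertible P := PicLoc.isInvertible_pullback fm.left hΘ'.1
  have hPc : PicGrp.cls (Y := PicF.XT f Jg) P hPi = Abel10.pc (Y' := PicF.XT f Jg) fm.left (PicGrp.cls Θ' hΘ'.1) :=
    (PicGrp.pullHom_cls fm.left (M2.pullMul _) Θ' hΘ'.1).symm
  have key : ∀ {K : Type u} [Field K] [IsAlgClosed K] (t : Spec (CommRingCat.of K) ⟶ Spec (CommRingCat.of F))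
      (w : Over.mk t ⟶ Red.bc β Jg),
      Abel10.pc (PicF.XTmap f (JacDeg22.fm β w)) (PicGrp.cls (Y := PicF.XT f Jg) P hPi) =
        down β f (Over.mk t) (Abel10.pc (PicF.XTmap (fK β f) w) ξgF) := fun t w => by
    rw [hPc]
    refine (Abel10.pc_comp _ _ rfl _).trans ?_
    exact slice β hdim hdimF hσF hJ₀ hj₀ hξ₀ hψ₀ (n := n) (by push_cast; ring) (by show d = _; simp [d]) hξgF hfmg
      hξF hfm' e he hΘ'.1 hN hNc.symm hΘ₀ fm hfm hnF t w
  have hcg : ∀ {T : Over (Spec (CommRingCat.of F))} (w : T ⟶ Red.bc β Jg),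
      ∀ r, PicTan20.degCl (fK β f) T r (Abel10.pc (PicF.XTmap (fK β f) w) ξgF).1 = ((n + 1 : ℕ) : ℤ) :=
    fun w r => (PicTan20.degCl_pull (fK β f) w r ξgF.2).trans (hξgF.1 _)
  -- the twisted Picard scheme is reduced
  obtain ⟨eg⟩ := univ_iso hdimF σF hσF ((n + 1 : ℕ) : ℤ) hξ₀ hξgF
  haveI : IsIso eg.inv.left := inferInstanceAs (IsIso ((Over.forget _).map eg.inv))
  haveI : IsSeparated J₀.hom := AbRigid.isSeparated_of_grpObj J₀
  haveI : IsSeparated (Red.bc β Jg).hom := by rw [← Over.w eg.inv]; infer_instance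
  haveI : GeometricallyConnected J₀.hom := PicPn.geometricallyConnected_of_irreducible J₀.hom
  haveI : GeometricallyIntegral J₀.hom := AbRigid.geometricallyIntegral_of_smooth J₀
  haveI : IsIntegral J₀.left := GeometricallyIntegral.isIntegral_of_subsingleton J₀.hom
  haveI : IsReduced (Red.bc β Jg).left := isReduced_of_isOpenImmersion eg.inv.left
  let π := pullback.fst Jg.hom β
  haveI : Surjective π := MorphismProperty.pullback_fst (P := @Surjective) _ _ inferInstance
  haveI : Flat π := MorphismProperty.pullback_fst (P := @Flat) _ _ inferInstance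
  haveI : IsFinite π := MorphismProperty.pullback_fst (P := @IsFinite) _ _ inferInstance
  have hok : (ModFun.PicDeg f ((n + 1 : ℕ) : ℤ)).ok Jg P := by
    refine PicRep20.ok_of_class f hdim _ hPi fun t₁ => ?_
    obtain ⟨x', hx'⟩ := π.surjective t₁
    let Ω := AlgebraicClosure ((Red.bc β Jg).left.residueField x')
    let q : Spec (CommRingCat.of Ω) ⟶ (Red.bc β Jg).left :=
      Spec.map (CommRingCat.ofHom (algebraMap ((Red.bc β Jg).left.residueField x') Ω)) ≫ (Red.bc β Jg).left.fromSpecResidueField x'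
    let w : Over.mk (q ≫ (Red.bc β Jg).hom) ⟶ Red.bc β Jg := Over.homMk q rfl
    have h := PicTan20.degCl_pull f (JacDeg22.fm β w) (IsLocalRing.closedPoint Ω) (PicGrp.cls (Y := PicF.XT f Jg) P hPi).2
    have e1 : (JacDeg22.fm β w).left (IsLocalRing.closedPoint Ω) = t₁ := by
      rw [fm_left, Scheme.Hom.comp_apply, ← hx']
      refine congrArg π ?_
      show q (IsLocalRing.closedPoint Ω) = x'
      rw [Scheme.Hom.comp_apply]
      exact Scheme.fromSpecResidueField_apply x' _
    rw [e1] at h
    refine h.symm.trans ?_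
    refine (congrArg (PicTan20.degCl f _ _) (congrArg Subtype.val (key _ w))).trans ?_
    exact deg_down β f hdim hdimF _ (hcg w) _
  let η' : Jg ⟶ Jg := ψg.app Jg P trivial hok
  have hη : η' = 𝟙 Jg := by
    let ηF : Red.bc β Jg ⟶ Red.bc β Jg := (Over.mapPullbackAdj β).homEquiv _ _ (JacDeg22.fm β (𝟙 (Red.bc β Jg)) ≫ η')
    have hηF : JacDeg22.fm β ηF = JacDeg22.fm β (𝟙 (Red.bc β Jg)) ≫ η' := Equiv.symm_apply_apply _ _
    have h1 : ηF = 𝟙 _ := by
      refine AVQuotH1.hom_ext_geometric _ _ fun Ω _ _ p y => ?_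
      let w : Over.mk ((Over.map p).obj (𝟙_ (Over (Spec (CommRingCat.of Ω))))).hom ⟶ Red.bc β Jg := Over.homMk y.left (Over.w y)
      suffices h : w ≫ ηF = w ≫ 𝟙 _ by
        exact Over.OverMorphism.ext (congrArg CommaMorphism.left h :)
      refine fm_injective β ?_
      rw [Category.comp_id, fm_comp, hηF, ← Category.assoc, map_fm]
      refine (ψg.natural (JacDeg22.fm β w) P trivial trivial hok (PicRep20.ok_pull hdim _ hok)).symm.trans ?_
      rw [psi_app f hdim ψg _ _ _ (deg_down β f hdim hdimF _ (hcg w)) ((PicRep20.famCls_pull _ hok _).trans (key _ w)),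
        ← hfmg _ _ (hcg w)]
      refine congrArg (JacDeg22.fm β) ?_
      exact (PicRep20.eq_classify hξgF _ _ w (m := 1) (by rw [map_one, _root_.mul_one])).symm
    rw [h1] at hηF
    refine Over.OverMorphism.ext ?_
    haveI : Epi π := Flat.epi_of_flat_of_surjective π
    rw [← cancel_epi π]
    have e1 : (JacDeg22.fm β (𝟙 (Red.bc β Jg))).left = π := (fm_left β _).trans (Category.id_comp _)
    have h2 : (JacDeg22.fm β (𝟙 (Red.bc β Jg))).left ≫ η'.left = (JacDeg22.fm β (𝟙 (Red.bc β Jg))).left :=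
      (congrArg CommaMorphism.left hηF).symm
    rw [e1] at h2
    exact h2.trans (Category.comp_id π).symm
  refine ⟨hok, fun T x _ hx => ⟨ψg.app T x trivial hx, ?_, fun g' hg' => ?_⟩⟩
  · have hy := PicRep20.ok_pull (f := f) hdim (ψg.app T x trivial hx) hok
    refine exists_twist β f hdim hdimF ψg hξgF hfmg _ x hy hx ?_
    refine (ψg.natural (ψg.app T x trivial hx) P trivial trivial hok hy).trans ?_
    exact (congrArg (ψg.app T x trivial hx ≫ ·) hη).trans (Category.comp_id _)
  · have h := ψg.resp _ _ trivial (PicRep20.ok_pull hdim g' hok) hx hg'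
    exact (((ψg.natural g' P trivial trivial hok (PicRep20.ok_pull hdim g' hok)).trans
      ((congrArg (g' ≫ ·) hη).trans (Category.comp_id g'))).symm).trans h

end Groth.Agent.S17136
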