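import Groth.Statements.S17138
import Groth.Agent.Lib.JacDeg22.Slice
import Groth.Agent.Lib.JacDeg22.Canon
import Groth.Agent.Lib.JacBC22.Jac

set_option autoImplicit false
set_option linter.style.haveILetI false
set_option backward.isDefEq.respectTransparency false
set_option backward.isDefEq.respectTransparency.types false
set_option maxHeartbeats 4000000
set_option synthInstance.maxHeartbeats 200000
universe u
open CategoryTheory CategoryTheory.Limits AlgebraicGeometry MonoidalCategory CartesianMonoidalCategory MonObj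
open Jac

namespace Groth.Agent.S17138

open Groth.Agent Groth.Agent.JacBC22 Groth.Agent.JacDeg22
open scoped CategoryTheory.Obj

/-- Let X be a smooth proper geometrically connected curve of genus g ≥ 1 over a field k and n ≥ 1; let
(Y, q) be the n-th symmetric power C^(n) of X over k (q : X ×_k ⋯ ×_k X → Y a quotient of the n-fold
fibre power by the symmetric group permuting the factors: affine, invariant, identifying sections of
O_Y with invariant sections, with q over k), let (J_n, ψ_n) be a coarse moduli scheme, on all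
k-schemes, for line bundles of degree n on X modulo twisting from the base (the degree-n Picard
scheme), and let j_n : Y → J_n be the morphism through which the classifying map of the family O(Γ_1
+ ⋯ + Γ_n) on X × X^n factors (Γ_i the graph of the i-th projection; the family F is pinned by F ⊗
I_{Γ_1} ⊗ ⋯ ⊗ I_{Γ_n} ≅ O), i.e. q followed by j_n is ψ_n of that family, so that j_n sends an
effective divisor D of degree n to the class of O(D). If g ≤ n, then j_n is surjective (on the
underlying topological spaces). -/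
theorem result (k : Type u) [Field k]
    (X : Scheme.{u}) [X.Over (Spec (CommRingCat.of k))]
    [IsProper (X ↘ Spec (CommRingCat.of k))] [Smooth (X ↘ Spec (CommRingCat.of k))]
    [GeometricallyConnected (X ↘ Spec (CommRingCat.of k))] (hdim : topologicalKrullDim ↥X = 1)
    (g : ℕ) (hg : Curv2.genus k X = g) (hg1 : 1 ≤ g)
    (n : ℕ) (hn : 1 ≤ n)
    (Y : Scheme.{u}) (q : SymProd.fibPow (X ↘ Spec (CommRingCat.of k)) n ⟶ Y) (gY : Y ⟶ Spec (CommRingCat.of k))
    (hq : SymProd.IsSymProd (X ↘ Spec (CommRingCat.of k)) n q gY)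
    (Jn : Over (Spec (CommRingCat.of k)))
    (ψn : (ModFun.PicDeg (X ↘ Spec (CommRingCat.of k)) (n : ℤ)).Hom ⊤ Jn)
    (hJn : ModFun.IsCoarseModuli ⊤ (ModFun.PicDeg (X ↘ Spec (CommRingCat.of k)) (n : ℤ)) Jn ψn)
    (F : (PicF.XT (X ↘ Spec (CommRingCat.of k)) (Over.mk (WidePullback.base fun (_ : Fin n) => (X ↘ Spec (CommRingCat.of k))))).Modules)
    (hF : Nonempty (CohB1.tensorMod F (FGA.tensorList (List.ofFn fun i : Fin n =>
        ClSub.idealMod (pullback.lift (WidePullback.π (fun (_ : Fin n) => (X ↘ Spec (CommRingCat.of k))) i) (𝟙 (SymProd.fibPow (X ↘ Spec (CommRingCat.of k)) n))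
          ((WidePullback.π_arrow (fun (_ : Fin n) => (X ↘ Spec (CommRingCat.of k))) i).trans (Category.id_comp _).symm) :
            SymProd.fibPow (X ↘ Spec (CommRingCat.of k)) n ⟶ PicF.XT (X ↘ Spec (CommRingCat.of k)) (Over.mk (WidePullback.base fun (_ : Fin n) => (X ↘ Spec (CommRingCat.of k))))).ker)) ≅
      Coh.structureModule _))
    (hT : (⊤ : ObjectProperty (Over (Spec (CommRingCat.of k)))) (Over.mk (WidePullback.base fun (_ : Fin n) => (X ↘ Spec (CommRingCat.of k)))))
    (hFok : (ModFun.PicDeg (X ↘ Spec (CommRingCat.of k)) (n : ℤ)).ok (Over.mk (WidePullback.base fun (_ : Fin n) => (X ↘ Spec (CommRingCat.of k)))) F)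
    (jn : Over.mk gY ⟶ Jn)
    (hjn : Over.homMk q hq.over ≫ jn = ψn.app (Over.mk (WidePullback.base fun (_ : Fin n) => (X ↘ Spec (CommRingCat.of k)))) F hT hFok)
    (hgn : g ≤ n) :
    Function.Surjective jn.left.base := by
  classical
  letI : ∀ Y : Scheme.{u}, PicGrp.Law Y := fun Y => Groth.Agent.M2.law Y
  haveI : IsIntegral X := VB17.isIntegral_of_smooth (k := k) (X := X)
  haveI : GeometricallyIntegral (X ↘ Spec (CommRingCat.of k)) := PicSep22.geometricallyIntegral_of_smooth _
  haveI : GeometricallyIrreducible (X ↘ Spec (CommRingCat.of k)) := inferInstance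
  let f := X ↘ Spec (CommRingCat.of k)
  haveI : SmoothOfRelativeDimension 1 f := CurveCartier25.smoothOfRelativeDimension_one f hdim
  intro y
  let Ω := AlgebraicClosure (Jn.left.residueField y)
  let s : Spec (CommRingCat.of Ω) ⟶ Jn.left :=
    Spec.map (CommRingCat.ofHom (algebraMap (Jn.left.residueField y) Ω)) ≫ Jn.left.fromSpecResidueField y
  let t : Spec (CommRingCat.of Ω) ⟶ Spec (CommRingCat.of k) := s ≫ Jn.hom
  let w : Over.mk t ⟶ Jn := Over.homMk s rfl
  obtain ⟨M, hM, hMw⟩ := ((hJn.2.2 Ω t trivial).1 w)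
  obtain ⟨h1, h2, h3, h4, h5, hdimK, hgK⟩ := setup t hdim
  haveI := h1; haveI := h2; haveI := h3; haveI := h4; haveI := h5
  let x₀ : Torelli22.Pts Ω (CK t X) := ⟨_, (CurveTwist13.exists_section_mem (k := Ω) (X := CK t X) ⊤ Set.univ_nonempty).choose_spec.1⟩
  let c := PicRep20.famCls f (n : ℤ) hM
  have hd : JacPts22.degC (C := CK t X) Ω c = n :=
    (degC_point hdim t c).trans (PicRep20.degCl_famCls f hdim _ hM _)
  have hr := JacPts22.rr hdimK x₀ (show PicLoc.PicSet (CK t X) from c)
  have hpos : 0 < JacPts22.h0C (C := CK t X) Ω c := by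
    have : Curv2.genus Ω (CK t X) = g := hgK.trans hg
    change (JacPts22.h0C (C := CK t X) Ω c : ℤ) - _ = _ at hr
    rw [hd, this] at hr
    omega
  obtain ⟨Q, hQ⟩ := JacPts22.eff_of_h0_pos hdimK n (show PicLoc.PicSet (CK t X) from c) hd hpos
  let Fp : Over (Spec (CommRingCat.of k)) := Over.mk (WidePullback.base fun (_ : Fin n) => f)
  let pr : Fin n → (Fp ⟶ Over.mk f) := fun i => Over.homMk (WidePullback.π (fun (_ : Fin n) => f) i) (WidePullback.π_arrow _ i)
  have hQw : ∀ i, ((Q i).1 ≫ pullback.fst f t) ≫ f = t := fun i => by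
    rw [Category.assoc, pullback.condition, ← Category.assoc]
    exact (congrArg (· ≫ t) (Q i).2).trans (Category.id_comp _)
  let y' : Over.mk t ⟶ Fp := Over.homMk (WidePullback.lift t (fun i => (Q i).1 ≫ pullback.fst f t) hQw) (WidePullback.lift_base _ _ _ _)
  have hgr : ∀ i, Abel10.pc (PicF.XTmap f y') (grCls f (pr i)) =
      (show PicLoc.PicSet (PicF.XT f (Over.mk t)) from Torelli22.P (k := Ω) (C := CK t X) hdimK (Q i)) := fun i => by
    rw [grCls_eq, pc_map_map, ← grCls_eq]
    have e : gr f (y' ≫ pr i) = (show (Over.mk t).left ⟶ PicF.XT f (Over.mk t) from (Q i).1) := by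
      apply pullback.hom_ext
      · exact (pullback.lift_fst _ _ _).trans (WidePullback.lift_π _ _ _ _ i)
      · exact (pullback.lift_snd _ _ _).trans (Q i).2.symm
    exact Riemann22.cls_congr (congrArg Scheme.Hom.ker e) (isEff_gr f _) (by rw [← e]; exact isEff_gr f _)
  obtain ⟨i⟩ := hF
  have hFi := (M2.isInvertible_iff_isFinLocFreeOfRank_one F).2 hFok.1.2
  have hl : ∀ (l : List (Fin n)), ∃ hi, PicGrp.cls (Y := PicF.XT f Fp)
      (FGA.tensorList (l.map fun i => ClSub.idealMod (gr f (pr i)).ker)) hi = (l.map fun i => grCls f (pr i)).prod := by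
    intro l
    induction l with
    | nil => exact ⟨PicLoc.isInvertible_structureModule _, PicGrp.cls_structureModule_eq_one⟩
    | cons a l ih =>
      obtain ⟨hi, e⟩ := ih
      have ha := M2.isInvertible_idealMod _ (isEff_gr f (pr a))
      refine ⟨M2.isInvertible_tensor ha hi, ?_⟩
      refine (AlgEquiv22.cls_tensor ha hi).symm.trans ?_
      rw [e]
      rfl
  obtain ⟨hi, he⟩ := hl (List.finRange n)
  have hFc : PicRep20.famCls f (n : ℤ) hFok = ((List.finRange n).map fun i => grCls f (pr i)).prod⁻¹ := by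
    refine eq_inv_of_mul_eq_one_left ?_
    rw [← he]
    refine (AlgEquiv22.cls_tensor hFi hi).trans ((PicGrp.cls_eq_one_iff _).2 ?_)
    rw [← List.ofFn_eq_map]
    exact ⟨i⟩
  have hy : (ModFun.PicDeg f (n : ℤ)).ok (Over.mk t) ((ModFun.PicDeg f (n : ℤ)).pull y' F) :=
    PicRep20.ok_pull hdim y' hFok
  have key : ψn.app (Over.mk t) ((ModFun.PicDeg f (n : ℤ)).pull y' F) trivial hy = w := by
    rw [← hMw]
    refine (psi_app f hdim ψn _ hy c (PicRep20.degCl_famCls f hdim _ hM) ?_).trans
      (psi_app f hdim ψn M hM c (PicRep20.degCl_famCls f hdim _ hM) rfl).symm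
    rw [PicRep20.famCls_pull y' hFok hy, hFc, map_inv, map_list_prod, List.map_map, show c = _ from hQ, Fin.prod_univ_def]
    congr 2
    refine List.map_congr_left fun a _ => ?_
    exact hgr a
  have h := ψn.natural y' F hT trivial hFok hy
  rw [key, ← hjn] at h
  refine ⟨q (y'.left (IsLocalRing.closedPoint Ω)), ?_⟩
  have h2 := congrArg (fun φ : Over.mk t ⟶ Jn => φ.left (IsLocalRing.closedPoint Ω)) h
  simp only [Over.comp_left, Scheme.Hom.comp_apply] at h2
  refine h2.symm.trans ?_
  show s (IsLocalRing.closedPoint Ω) = y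
  rw [Scheme.Hom.comp_apply]
  exact Scheme.fromSpecResidueField_apply y _

end Groth.Agent.S17138
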