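import Groth.Statements.S1714
import Groth.Agent.Lib.GorFib27.DegFormula
import Groth.Agent.Lib.Dlz27.FlatExtApps
import Groth.Agent.Lib.Compl.Noetherian
import Groth.Agent.Lib.DQC.Pull
import Groth.Agent.Lib.FlatDepth.AtPrime
import Groth.Agent.Lib.FibDepth5.Sk
import Mathlib.RingTheory.AdicCompletion.AsTensorProduct
-- import your own Groth.Agent.* helpers here

set_option autoImplicit false
universe u
open CategoryTheory
attribute [local instance] HasDerivedCategory.standard
open LocCoh

namespace Groth.Agent.S1714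

/-- Let A be a Noetherian ring with a dualizing complex, I an ideal, M a finite A-module, A' and M' the
I-adic completions. Let p' ⊆ q' be primes of A' with I A' ⊆ q', lying over the primes p ⊆ q of A.
Then the depth of M'_{p'} over A'_{p'} is at least the depth of M_p over A_p, and depth(M'_{p'})
plus the dimension of the interval of primes [p', q'] equals depth(M_p) plus the dimension of [p,
q]. -/
theorem result (A : Type u) [CommRing A] [IsNoetherianRing A] (hA : ∃ ω : Dual.D A, Dual.IsDualizing A ω) (I : Ideal A) (M : Type u) [AddCommGroup M] [Module A M] [Module.Finite A M] (p' q' : PrimeSpectrum (AdicCompletion I A)) (hpq : p' ≤ q') (hq : Ideal.map (algebraMap A (AdicCompletion I A)) I ≤ q'.asIdeal) : LocCoh.depth (Localization.AtPrime (p'.asIdeal.comap (algebraMap A (AdicCompletion I A)))) (LocalizedModule (p'.asIdeal.comap (algebraMap A (AdicCompletion I A))).primeCompl M) ≤ LocCoh.depth (Localization.AtPrime p'.asIdeal) (LocalizedModule p'.asIdeal.primeCompl (AdicCompletion I M)) ∧ ((LocCoh.depth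 (Localization.AtPrime p'.asIdeal) (LocalizedModule p'.asIdeal.primeCompl (AdicCompletion I M)) : ℕ∞) : WithBot ℕ∞) + Order.krullDim (Set.Icc p' q') = ((LocCoh.depth (Localization.AtPrime (p'.asIdeal.comap (algebraMap A (AdicCompletion I A)))) (LocalizedModule (p'.asIdeal.comap (algebraMap A (AdicCompletion I A))).primeCompl M) : ℕ∞) : WithBot ℕ∞) + Order.krullDim (Set.Icc ((PrimeSpectrum.comap (algebraMap A (AdicCompletion I A))) p') ((PrimeSpectrum.comap (algebraMap A (AdicCompletion I A))) q')) := by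
  obtain ⟨ω, hω⟩ := hA
  let B := AdicCompletion I A
  let φ := algebraMap A B
  haveI := Groth.Agent.Compl.isNoetherianRing_adicCompletion I (IsNoetherian.noetherian I)
  haveI := AdicCompletion.isAdicComplete_self I (IsNoetherian.noetherian I)
  haveI : DRing.HasLBaseChange φ := Groth.Agent.DQC.hasLBaseChange φ
  have hflat : φ.Flat := RingHom.flat_algebraMap_iff.2 inferInstance
  have hsurj : ∀ x : B, ∃ a : A, x - φ a ∈ I.map φ := fun x => by
    obtain ⟨a, ha⟩ := Groth.Agent.Compl.exists_sub_mem_map_pow I 1 x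
    rw [pow_one] at ha
    exact ⟨a, ha⟩
  have hL : Dual.IsDualizing B ((DRing.LBaseChange φ).obj ω) := by
    refine Groth.Agent.Dlz27.isDualizing_LBaseChange_mod_ideal φ hflat hω I ?_ ?_ (IsAdicComplete.le_jacobson_bot _)
    · intro x
      obtain ⟨x, rfl⟩ := Ideal.Quotient.mk_surjective x
      obtain ⟨a, ha⟩ := hsurj x
      exact ⟨a, ((Ideal.Quotient.mk_eq_mk_iff_sub_mem _ _).2 ha).symm⟩
    · ext a
      rw [RingHom.mem_ker, RingHom.comp_apply, Ideal.Quotient.eq_zero_iff_mem]
      refine ⟨fun h => ?_, fun h => Ideal.mem_map_of_mem _ h⟩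
      rw [← pow_one I]
      exact Groth.Agent.Compl.mem_pow_of_map_mem I (n := 1) (by rw [pow_one]; exact h)
  let MA := Dlz27.model hω
  haveI := RGamma27.isIso_valueMap_of_flat φ hflat MA.W
  have hB : Dual.IsDualizing B (DerivedCategory.Q.obj (Dlz27.eC φ MA.W)) :=
    Dlz27.isDualizing_of_iso ((DRing.LBaseChange φ).mapIso MA.e.symm ≪≫
      asIso ((DBaseChange.valueMap φ).app MA.W)) hL
  let MB := Dlz27.model hB
  obtain ⟨δ, hδ⟩ := GorFib27.exists_depth_fibQuot (A := A) p'
  obtain ⟨δ', hδ'⟩ := GorFib27.exists_depth_fibQuot (A := A) q'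
  have hp := GorFib27.deg_eq_deg_add hω MA hB MB p' δ hδ
  have hq' := GorFib27.deg_eq_deg_add hω MA hB MB q' δ' hδ'
  have hq0 : δ' = 0 := by
    have hmap : (q'.asIdeal.comap φ).map φ = q'.asIdeal := by
      refine le_antisymm Ideal.map_comap_le fun x hx => ?_
      obtain ⟨a, ha⟩ := hsurj x
      have hIq : I ≤ q'.asIdeal.comap φ := Ideal.map_le_iff_le_comap.1 hq
      have haq : φ a ∈ q'.asIdeal := by
        have := q'.asIdeal.sub_mem hx (hq ha)
        simpa using this
      have : x = (x - φ a) + φ a := (sub_add_cancel _ _).symm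
      rw [this]
      exact Ideal.add_mem _ (Ideal.map_mono hIq ha) (Ideal.mem_map_of_mem _ (Ideal.mem_comap.2 haq))
    by_contra hne
    obtain ⟨hlow, -⟩ := Dlz27.vanS_of_depth hB MB q' δ' _ hδ'
    have h0 := hlow 0 (Nat.pos_of_ne_zero hne)
    have e : GorFib27.fibQuot (A := A) q' ≃ₗ[B] B ⧸ q'.asIdeal :=
      Submodule.quotEquivOfEq _ _ (by rw [hmap]; exact Ideal.mul_top _)
    exact (Dlz27.vanS_iff_ne_deg hB MB q' _).1 (h0.equiv e) (by simp)
  have hdim : ∀ {R : Type u} [CommRing R] [IsNoetherianRing R] {w : Dual.D R} (hw : Dual.IsDualizing R w)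
      (Mw : Dlz27.Model w) (a b : PrimeSpectrum R), a ≤ b →
      Order.krullDim (Set.Icc a b) = ((((Dlz27.deg hw Mw b - Dlz27.deg hw Mw a).toNat : ℕ) : ℕ∞) : WithBot ℕ∞) := by
    intro R _ _ w hw Mw a b hab
    rw [← Dlz27.height_eq_deg_sub Mw hw a b hab, Order.height_eq_krullDim_Iic]
    exact Order.krullDim_eq_of_orderIso
      { toFun := fun x => ⟨⟨x.1, x.2.1⟩, x.2.2⟩
        invFun := fun x => ⟨x.1.1, x.1.2, x.2⟩
        left_inv := fun _ => rfl
        right_inv := fun _ => rfl
        map_rel_iff' := Iff.rfl }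
  have hdepth : LocCoh.depth (Localization.AtPrime p'.asIdeal) (LocalizedModule p'.asIdeal.primeCompl (AdicCompletion I M)) =
      LocCoh.depth (Localization.AtPrime (p'.asIdeal.comap φ))
        (LocalizedModule (p'.asIdeal.comap φ).primeCompl M) + δ := by
    let e := AdicCompletion.ofTensorProductEquivOfFiniteNoetherian I M
    let eL : LocalizedModule p'.asIdeal.primeCompl (TensorProduct A B M) ≃ₗ[Localization.AtPrime p'.asIdeal]
        LocalizedModule p'.asIdeal.primeCompl (AdicCompletion I M) :=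
      IsLocalizedModule.mapEquiv p'.asIdeal.primeCompl (LocalizedModule.mkLinearMap _ _)
        (LocalizedModule.mkLinearMap _ _) (Localization.AtPrime p'.asIdeal) e
    show LocCoh.idealDepth _ _ = _
    rw [← DepthLib.idealDepth_congr eL]
    show LocCoh.depth _ _ = _
    rw [(Groth.Agent.FlatDepth.atPrime_invariants (A := A) B M p'.asIdeal).1]
    refine congrArg (fun t : ℕ∞ => LocCoh.depth (Localization.AtPrime (p'.asIdeal.comap φ))
      (LocalizedModule (p'.asIdeal.comap φ).primeCompl M) + t) ?_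
    rw [← hδ]
    exact ((Groth.Agent.FibDepth5.invariants_red (A := A) (M := B) p'.asIdeal rfl).1).symm
  have hmono : PrimeSpectrum.comap φ p' ≤ PrimeSpectrum.comap φ q' := Ideal.comap_mono hpq
  rw [hdim hB MB p' q' hpq, hdim hω MA (PrimeSpectrum.comap φ p') (PrimeSpectrum.comap φ q') hmono, hdepth]
  have h1 := (Dlz27.deg_strictMono hB MB).monotone hpq
  have h2 := (Dlz27.deg_strictMono hω MA).monotone hmono
  refine ⟨le_self_add, ?_⟩
  rw [← WithBot.coe_add, ← WithBot.coe_add, add_assoc, ← Nat.cast_add]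
  congr 2
  have : δ + (Dlz27.deg hB MB q' - Dlz27.deg hB MB p').toNat =
      (Dlz27.deg hω MA (PrimeSpectrum.comap φ q') - Dlz27.deg hω MA (PrimeSpectrum.comap φ p')).toNat := by
    have hp2 : Dlz27.deg hB MB p' = Dlz27.deg hω MA (PrimeSpectrum.comap φ p') + δ := hp
    have hq2 : Dlz27.deg hB MB q' = Dlz27.deg hω MA (PrimeSpectrum.comap φ q') + δ' := hq'
    omega
  exact_mod_cast congrArg (Nat.cast : ℕ → ℕ∞) this

end Groth.Agent.S1714
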