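import Groth.Statements.S17143
import Groth.Agent.Lib.Isoc.Stmt

set_option autoImplicit false
universe u v
open Isoc

namespace Groth.Agent.S17143

/-- Let k be a perfect field of characteristic p, a ∈ ℤ, W = W(k) with fraction field L, and (N, F) a
σ^a-F-isocrystal over k (N finite-dimensional over L, F a bijective σ^a-semilinear endomorphism)
with first Newton slope λ₁(N, F) = lam. Then for m ∈ ℤ and n ∈ ℕ the twisted iterate (N, p^m F^n), a
σ^(an)-F-isocrystal, has first Newton slope n · lam + m. (The published statement allows every n ∈
ℤ, with F^n the inverse iterate for n < 0; that case is false in general, since the first slope of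
(N, F⁻¹) is minus the LARGEST slope of (N, F): for N = N_0 ⊕ N_1, the sum of the standard
isocrystals of slopes 0 and 1, λ₁(N, F) = 0 while λ₁(N, F⁻¹) = −1. Only n ≥ 0 is stated here.) -/
theorem result (p : ℕ) [Fact p.Prime] (k : Type u) [Field k] [CharP k p] [PerfectRing k p] (a : ℤ)
    (N : Type v) [AddCommGroup N] [Module (WittVector p k) N] [Module (FractionRing (WittVector p k)) N]
    [IsScalarTower (WittVector p k) (FractionRing (WittVector p k)) N]
    (F : N →ₛₗ[Isoc.frob p k a] N) (hF : Isoc.IsIsoc F) (lam : ℝ) (hlam : Isoc.IsFirstSlope F lam) (m : ℤ) (n : ℕ) :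
    Isoc.IsFirstSlope ((p : (FractionRing (WittVector p k))) ^ m • Isoc.iter F n) (n * lam + m) := by
  open Groth.Agent.IsocLib in
  have := hF.finite
  have hτ := tw_frob (p := p) (k := k) a
  have := nontrivial_of_isFirstSlope hlam
  have h := isFirstSlope_slope (F := sc F m n) (hτ.pow n) (bijective_sc hF.bijective m n)
  rw [slope_sc hτ hF.bijective, ← slope_eq_of_isFirstSlope hτ hF.bijective hlam] at h
  exact h
end Groth.Agent.S17143
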