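import Groth.Statements.S17157
import Groth.Prelude.Def_Isoc
import Mathlib.RingTheory.WittVector.Complete
import Mathlib.FieldTheory.Finite.Basic

set_option autoImplicit false
universe u
open Isoc

namespace Groth.Agent.S17157

/-- Let k be a finite field of characteristic p, W = W(k), L its fraction field with Frobenius σ, and
let U be the σ-semilinear endomorphism of L² = (Fin 2 → L) determined by U(e₀) = e₀ and U(e₁) = e₀ +
e₁ on the standard basis. Then (L², U) is an F-isocrystal in which the sub-isocrystal L · e₀ admits
no U-stable complementary L-subspace; in particular the category of F-isocrystals over a finite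
field is not semisimple. (Over an algebraically closed field a complement exists.) -/
theorem result
    (p : ℕ) [Fact p.Prime] (k : Type u) [Field k] [CharP k p] [PerfectRing k p] [Finite k]
    (U : (Fin 2 → (FractionRing (WittVector p k))) →ₛₗ[Isoc.frob p k 1] (Fin 2 → (FractionRing (WittVector p k))))
    (hU0 : U (Pi.single 0 1) = Pi.single 0 1)
    (hU1 : U (Pi.single 1 1) = Pi.single 0 1 + Pi.single 1 1)
    (Q : Submodule (FractionRing (WittVector p k)) (Fin 2 → (FractionRing (WittVector p k)))) (hQ : ∀ x ∈ Q, U x ∈ Q) :
    ¬ IsCompl (Submodule.span (FractionRing (WittVector p k)) {(Pi.single 0 1 : Fin 2 → (FractionRing (WittVector p k)))}) Q := by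
  intro hc
  set e0 : Fin 2 → FractionRing (WittVector p k) := Pi.single 0 1 with he0
  set e1 : Fin 2 → FractionRing (WittVector p k) := Pi.single 1 1 with he1
  obtain ⟨a, ha, q, hq, hab⟩ := Submodule.mem_sup.1 (show e1 ∈ Submodule.span _ {e0} ⊔ Q by
    rw [hc.sup_eq_top]; trivial)
  obtain ⟨c, rfl⟩ := Submodule.mem_span_singleton.1 ha
  have hq' : q = e1 - c • e0 := by rw [← hab, add_sub_cancel_left]
  have h2 : (1 - Isoc.frob p k 1 c + c) • e0 ∈ Q := by
    have hUq : U q = e0 + e1 - Isoc.frob p k 1 c • e0 := by rw [hq', map_sub, map_smulₛₗ, hU1, hU0]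
    have := sub_mem (hQ q hq) hq
    rw [hUq, hq'] at this
    convert this using 1
    rw [add_smul, sub_smul, one_smul]
    abel
  have h3 : (1 - Isoc.frob p k 1 c + c) • e0 = 0 :=
    Submodule.disjoint_def.1 hc.disjoint _ (Submodule.smul_mem _ _ (Submodule.mem_span_singleton_self _)) h2
  have h4 : Isoc.frob p k 1 c = c + 1 := by
    have := congrFun h3 0
    simp only [he0, Pi.smul_apply, Pi.single_eq_same, smul_eq_mul, mul_one, Pi.zero_apply] at this
    linear_combination -this
  have h5 : ∀ n : ℕ, (⇑(Isoc.frob p k 1))^[n] c = c + n := fun n => by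
    induction n with
    | zero => simp
    | succ n ih => rw [Function.iterate_succ_apply', ih, map_add, map_natCast, h4, Nat.cast_succ]; ring
  haveI := Fintype.ofFinite k
  obtain ⟨m, -, hm⟩ := FiniteField.card k p
  have hW : ∀ (n : ℕ) (w : WittVector p k) (i : ℕ),
      ((⇑(WittVector.frobeniusEquiv p k))^[n] w).coeff i = w.coeff i ^ p ^ n := fun n => by
    induction n with
    | zero => simp
    | succ n ih =>
      intro w i
      rw [Function.iterate_succ_apply']
      refine (WittVector.coeff_frobenius_charP p _ i).trans ?_
      rw [ih, ← pow_mul, pow_succ]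
  have hW' : ∀ w : WittVector p k, (⇑(WittVector.frobeniusEquiv p k))^[(m : ℕ)] w = w := fun w => by
    ext i
    rw [hW, ← hm, FiniteField.pow_card]
  have hK : ∀ (n : ℕ) (w : WittVector p k),
      (⇑(Isoc.frob p k 1))^[n] (algebraMap (WittVector p k) _ w) =
        algebraMap (WittVector p k) _ ((⇑(WittVector.frobeniusEquiv p k))^[n] w) := fun n => by
    induction n with
    | zero => simp
    | succ n ih =>
      intro w
      rw [Function.iterate_succ_apply', ih, Isoc.frob_algebraMap, Function.iterate_succ_apply', zpow_one]
  obtain ⟨x, y, -, hxy⟩ := IsFractionRing.div_surjective (A := WittVector p k) c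
  have h6 := h5 (m : ℕ)
  rw [← RingHom.coe_pow, ← hxy, map_div₀, RingHom.coe_pow, hK, hK, hW', hW'] at h6
  have h7 : ((m : ℕ) : FractionRing (WittVector p k)) = 0 := by linear_combination -h6
  rw [← map_natCast (algebraMap (WittVector p k) (FractionRing (WittVector p k))),
    map_eq_zero_iff _ (IsFractionRing.injective (WittVector p k) (FractionRing (WittVector p k)))] at h7
  obtain ⟨r, hr⟩ := CharP.exists (WittVector p k)
  rcases CharP.char_is_prime_or_zero (WittVector p k) r with hp | hp
  · exfalso
    have h8 := congrArg (WittVector.constantCoeff : WittVector p k →+* k) (CharP.cast_eq_zero (WittVector p k) r)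
    rw [map_natCast, map_zero, CharP.cast_eq_zero_iff k p,
      Nat.prime_dvd_prime_iff_eq (Fact.out : p.Prime) hp] at h8
    subst h8
    exact WittVector.p_nonzero p k (CharP.cast_eq_zero _ p)
  subst hp
  haveI := CharP.charP_to_charZero (WittVector p k)
  rw [Nat.cast_eq_zero] at h7
  exact m.ne_zero h7

end Groth.Agent.S17157
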