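import Groth.Statements.S17171
import Mathlib

set_option autoImplicit false
open QSymFn

namespace Groth.Agent.S17171

/-- The ring QSym of quasisymmetric functions over ℤ, with its restriction maps to the polynomial rings
in finitely many ordered variables, is the limit of the diagram S ↦ ℤ[α_s : s ∈ S] over finite
ordered sets S and order-preserving injections (an injection φ : S → T acting by α_t ↦ α_s when t =
φ s and α_t ↦ 0 otherwise), the limit being taken in graded rings. Stated here on degree-d
components, with the variables indexed by ℕ in place of the positive integers and the finite ordered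
sets taken to be the Fin n: (a) if F is a formal power series over ℤ in variables indexed by ℕ which
is quasisymmetric (for strictly increasing i, j : Fin ℓ → ℕ and positive exponents a, the
coefficients of ∏ x_{i t}^{a t} and ∏ x_{j t}^{a t} agree) and all of whose monomials have degree d,
then its restrictions to the initial segments Fin n ⊂ ℕ are compatible with every order embedding
Fin n ↪o Fin m; (b) every family of degree-d homogeneous polynomials f n ∈ ℤ[x_s : s ∈ Fin n],
compatible with all order embeddings Fin n ↪o Fin m in this sense, is the family of restrictions of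
exactly one such quasisymmetric F of degree d. -/
theorem result (d : ℕ) :
    (∀ F : MvPowerSeries ℕ ℤ,
      (∀ (ℓ : ℕ) (i j : Fin ℓ → ℕ) (a : Fin ℓ → ℕ), StrictMono i → StrictMono j → (∀ t, 0 < a t) →
        MvPowerSeries.coeff (∑ t : Fin ℓ, Finsupp.single (i t) (a t)) F =
          MvPowerSeries.coeff (∑ t : Fin ℓ, Finsupp.single (j t) (a t)) F) →
      (∀ e : ℕ →₀ ℕ, MvPowerSeries.coeff e F ≠ 0 → e.degree = d) →
      ∀ (n m : ℕ) (φ : Fin n ↪o Fin m) (e : Fin n →₀ ℕ),
        MvPowerSeries.coeff (Finsupp.mapDomain Fin.val e) F =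
          MvPowerSeries.coeff (Finsupp.mapDomain Fin.val (Finsupp.mapDomain φ e)) F) ∧
    (∀ f : (n : ℕ) → MvPolynomial (Fin n) ℤ,
      (∀ n, (f n).IsHomogeneous d) →
      (∀ (n m : ℕ) (φ : Fin n ↪o Fin m) (e : Fin n →₀ ℕ),
        MvPolynomial.coeff e (f n) = MvPolynomial.coeff (Finsupp.mapDomain φ e) (f m)) →
      ∃! F : MvPowerSeries ℕ ℤ,
        (∀ (ℓ : ℕ) (i j : Fin ℓ → ℕ) (a : Fin ℓ → ℕ), StrictMono i → StrictMono j → (∀ t, 0 < a t) →
          MvPowerSeries.coeff (∑ t : Fin ℓ, Finsupp.single (i t) (a t)) F =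
            MvPowerSeries.coeff (∑ t : Fin ℓ, Finsupp.single (j t) (a t)) F) ∧
        (∀ e : ℕ →₀ ℕ, MvPowerSeries.coeff e F ≠ 0 → e.degree = d) ∧
        (∀ (n : ℕ) (e : Fin n →₀ ℕ),
          MvPowerSeries.coeff (Finsupp.mapDomain Fin.val e) F = MvPolynomial.coeff e (f n))) := by
  classical
  constructor
  · intro F hF _ n m φ e
    let s := e.support.orderEmbOfFin rfl
    have hrep : ∀ g : Fin n → ℕ, Finsupp.mapDomain g e =
        ∑ t : Fin e.support.card, Finsupp.single (g (s t)) (e (s t)) := fun g => by
      rw [Finsupp.mapDomain, Finsupp.sum]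
      conv_lhs => arg 1; rw [← Finset.map_orderEmbOfFin_univ e.support rfl]
      rw [Finset.sum_map]
      rfl
    rw [← Finsupp.mapDomain_comp, hrep, hrep]
    exact hF _ _ _ _ (fun a b h => s.strictMono h) (fun a b h => φ.strictMono (s.strictMono h))
      fun t => Nat.pos_of_ne_zero (Finsupp.mem_support_iff.1 (Finset.orderEmbOfFin_mem _ rfl t))
  · intro f hf hcomp
    let N : (ℕ →₀ ℕ) → ℕ := fun E => E.support.sup id + 1
    let F : MvPowerSeries ℕ ℤ := fun E =>
      MvPolynomial.coeff (Finsupp.comapDomain Fin.val E Fin.val_injective.injOn) (f (N E))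
    have hlt : ∀ (E : ℕ →₀ ℕ) x, x ∈ E.support → x < N E := fun E x hx =>
      Nat.lt_succ_of_le (Finset.le_sup (f := id) hx)
    have hback : ∀ E : ℕ →₀ ℕ, Finsupp.mapDomain Fin.val (Finsupp.comapDomain (Fin.val : Fin (N E) → ℕ) E Fin.val_injective.injOn) = E :=
      fun E => Finsupp.mapDomain_comapDomain _ Fin.val_injective E fun x hx => ⟨⟨x, hlt E x hx⟩, rfl⟩
    -- coefficients along any increasing map
    have key : ∀ (n : ℕ) (ψ : Fin n → ℕ) (e : Fin n →₀ ℕ), StrictMono ψ →
        MvPowerSeries.coeff (Finsupp.mapDomain ψ e) F = MvPolynomial.coeff e (f n) := by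
      intro n ψ e hψ
      let E := Finsupp.mapDomain ψ e
      let M := max (N E) (Finset.univ.sup ψ + 1)
      let φ : Fin n ↪o Fin M := OrderEmbedding.ofStrictMono (fun t => ⟨ψ t,
        (Nat.lt_succ_of_le (Finset.le_sup (f := ψ) (Finset.mem_univ t))).trans_le (le_max_right _ _)⟩) fun a b h => hψ h
      let ι : Fin (N E) ↪o Fin M := Fin.castLEOrderEmb (le_max_left _ _)
      show MvPolynomial.coeff (Finsupp.comapDomain Fin.val E Fin.val_injective.injOn) (f (N E)) = _
      rw [hcomp _ _ ι, hcomp _ _ φ]
      refine congrArg (fun x => MvPolynomial.coeff x (f M)) ?_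
      apply Finsupp.mapDomain_injective Fin.val_injective
      rw [← Finsupp.mapDomain_comp, ← Finsupp.mapDomain_comp]
      exact hback E
    refine ⟨F, ⟨fun ℓ i j a hi hj _ => ?_, fun E hE => ?_, fun n e => key n _ e Fin.val_strictMono⟩, fun G hG => ?_⟩
    · have h : ∀ g : Fin ℓ → ℕ, (∑ t : Fin ℓ, Finsupp.single (g t) (a t)) =
          Finsupp.mapDomain g (∑ t : Fin ℓ, Finsupp.single t (a t)) := fun g => by
        rw [Finsupp.mapDomain_finsetSum]; simp
      rw [h i, h j, key _ _ _ hi, key _ _ _ hj]
    · have : MvPolynomial.coeff (Finsupp.comapDomain (Fin.val : Fin (N E) → ℕ) E Fin.val_injective.injOn) (f (N E)) ≠ 0 := hE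
      have : (Finsupp.comapDomain (Fin.val : Fin (N E) → ℕ) E Fin.val_injective.injOn).degree = d := by
        rw [Finsupp.degree_eq_weight_one]; exact hf (N E) this
      rw [← this]
      conv_lhs => rw [← hback E]
      rw [Finsupp.degree_mapDomain]
    · ext E
      rw [← hback E, hG.2.2, key _ _ _ Fin.val_strictMono]

end Groth.Agent.S17171
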