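import Groth.Statements.S17174
import Groth.Agent.Lib.LabBIH28.Basic

set_option autoImplicit false
universe u
open LabGraph

namespace Groth.Agent.S17174

open Finset

open LabGraph in
/-- Let Γ be the weighted dual graph of a Deligne–Mumford semistable curve X of genus g ≥ 3 over an
algebraically closed field (connected; every weight-zero vertex without loop is joined to the other
vertices by at least two edges), and let d, d' be two multidegrees of the same (arbitrary) total
degree D (g ≥ 3 being the paper's standing assumption) which both satisfy the Basic Inequality and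
lie in the same degree class (d - d' is a twist). Then d - d' can be written in normal form: there
is a labelling h of the vertices by natural numbers taking exactly the values 0, 1, …, q, with d -
d' equal to the twist of h (that is, d - d' = Σ_v h(v)·c_v with c_v the multidegree of O(C_v)), such
that for distinct levels i ≠ j in {0, …, q} the subcurves on h⁻¹(i) and h⁻¹(j) meet (some edge joins
the two levels) exactly when |i - j| = 1. -/
theorem result {V E : Type u} [Fintype V] [Fintype E]
    [DecidableEq V] [DecidableEq E] (ends : E → V × V) (w : V → ℕ) (hX : IsSemistableGraph ends w)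
    (hg : 3 ≤ genus ends w) (d d' : V → ℤ)
    (hBI : SatisfiesBI ends w d) (hBI' : SatisfiesBI ends w d') (heq : TwistEquiv ends d d') :
    ∃ (q : ℕ) (h : V → ℕ), (∀ v : V, h v ≤ q) ∧ (∀ i : ℕ, i ≤ q → ∃ v : V, h v = i) ∧
      (∀ v : V, d v - d' v = twist ends (fun u => (h u : ℤ)) v) ∧
      (∀ i j : ℕ, i ≤ q → j ≤ q → i ≠ j →
        ((∃ e : E, (h (ends e).1 = i ∧ h (ends e).2 = j) ∨ (h (ends e).1 = j ∧ h (ends e).2 = i)) ↔
          (i + 1 = j ∨ j + 1 = i))) := by
  obtain ⟨φ, hφ⟩ := heq
  haveI := hX.1.1
  obtain ⟨vmin, -, hmin⟩ := Finset.exists_min_image univ φ univ_nonempty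
  let h : V → ℕ := fun v => (φ v - φ vmin).toNat
  have hh : ∀ v, (h v : ℤ) = φ v - φ vmin := fun v =>
    Int.toNat_of_nonneg (sub_nonneg.2 (hmin v (mem_univ v)))
  obtain ⟨vmax, -, hmax⟩ := Finset.exists_max_image univ h univ_nonempty
  set K := canDeg ends w univ with hK
  have hK0 : 0 < K := by rw [hK, Groth.Agent.LabBIH28.canDeg_univ]; omega
  have hdd : ∀ v, d v = d' v + twist ends φ v := fun v => by linarith [hφ v]
  rw [Groth.Agent.LabBIH28.bi_iff] at hBI hBI'
  -- no edge jumps two levels
  have hstep : ∀ e, h (ends e).1 ≤ h (ends e).2 + 1 ∧ h (ends e).2 ≤ h (ends e).1 + 1 := by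
    intro e₀
    by_contra hcon
    let i := min (h (ends e₀).1) (h (ends e₀).2) + 1
    let Y := univ.filter fun v => i ≤ h v
    have h1 := hBI Y
    have h2 := hBI' Y
    rw [show d = fun v => d' v + twist ends φ v from funext hdd, Groth.Agent.LabBIH28.dev_twist] at h1
    set A := ∑ e, (Groth.Agent.LabBIH28.ind Y (ends e).1 - Groth.Agent.LabBIH28.ind Y (ends e).2) * (φ (ends e).2 - φ (ends e).1)
    have hA : A + (LabGraph.cut ends Y : ℤ) < 0 := by
      rw [Groth.Agent.LabBIH28.cut_eq, ← Finset.sum_add_distrib]
      have hterm : ∀ e, (Groth.Agent.LabBIH28.ind Y (ends e).1 - Groth.Agent.LabBIH28.ind Y (ends e).2) * (φ (ends e).2 - φ (ends e).1) +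
          (Groth.Agent.LabBIH28.ind Y (ends e).1 - Groth.Agent.LabBIH28.ind Y (ends e).2) ^ 2 ≤ 0 := by
        intro e
        simp only [Groth.Agent.LabBIH28.ind, Y, mem_filter, mem_univ, true_and]
        have := hh (ends e).1; have := hh (ends e).2
        split_ifs <;> norm_num <;> omega
      refine lt_of_lt_of_le (Finset.sum_lt_sum (fun e _ => hterm e) ⟨e₀, mem_univ e₀, ?_⟩) (le_of_eq Finset.sum_const_zero)
      simp only [Groth.Agent.LabBIH28.ind, Y, i, mem_filter, mem_univ, true_and]
      have := hh (ends e₀).1; have := hh (ends e₀).2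
      split_ifs <;> norm_num <;> omega
    have h3 := (abs_le.1 h1).1
    have h4 := (abs_le.1 h2).2
    rw [← hK] at h3 h4
    nlinarith [mul_lt_mul_of_pos_left hA hK0]
  have hsurj : ∀ i, i ≤ h vmax → ∃ v, h v = i := by
    intro i hi
    have hp : Relation.ReflTransGen (LabGraph.Adj ends) vmin vmax := hX.1.2 vmin vmax
    have h0 : h vmin = 0 := by simp [h]
    clear hmax
    revert hi
    induction hp with
    | refl => intro hi; exact ⟨vmin, by omega⟩
    | @tail b c _ hbc ih =>
      intro hi
      by_cases hib : i ≤ h b
      · exact ih hib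
      · obtain ⟨e, he⟩ := hbc
        have := hstep e
        rcases he with he | he <;> rw [he] at this <;> exact ⟨c, by simp only at this; omega⟩
  refine ⟨h vmax, h, fun v => hmax v (mem_univ v), hsurj, fun v => ?_, fun i j hi hj hij => ⟨?_, ?_⟩⟩
  · rw [hφ v]
    simp only [LabGraph.twist, hh]
    simp
  · rintro ⟨e, he⟩
    have := hstep e
    omega
  · intro hc
    have key : ∀ i, i + 1 ≤ h vmax → ∃ e, (h (ends e).1 = i ∧ h (ends e).2 = i + 1) ∨ (h (ends e).1 = i + 1 ∧ h (ends e).2 = i) := by
      clear hi hj
      intro i hi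
      obtain ⟨v, hv⟩ := hsurj i (by omega)
      have hp : Relation.ReflTransGen (LabGraph.Adj ends) v vmax := hX.1.2 v vmax
      clear hmax hsurj
      revert hi
      induction hp with
      | refl => intro hi; omega
      | @tail b c _ hbc ih =>
        intro hi
        by_cases hib : i + 1 ≤ h b
        · exact ih hib
        · obtain ⟨e, he⟩ := hbc
          have := hstep e
          refine ⟨e, ?_⟩
          rcases he with he | he <;> rw [he] at this ⊢ <;> simp only at this ⊢ <;> omega
    rcases hc with rfl | rfl
    · exact key i hj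
    · obtain ⟨e, he⟩ := key j hi
      exact ⟨e, by tauto⟩

end Groth.Agent.S17174
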