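import Groth.Statements.S17177
import Groth.Agent.Lib.NormalH1.Dual
import Groth.Agent.Lib.NormalH1.Euler
import Groth.Agent.Lib.NefH1.Core
import Groth.Agent.Lib.NefH1.Fibre
import Groth.Agent.Lib.GrMap12.MonoFS
import Groth.Agent.Lib.HilbPt3.Normal
import Groth.Agent.Lib.CurveCoh17.Vanish
import Groth.Agent.Lib.CurveCoh17.GenericZero
import Mathlib.AlgebraicGeometry.Morphisms.Smooth

set_option autoImplicit false
universe u
open CategoryTheory CategoryTheory.Limits AlgebraicGeometry
attribute [local instance] HasDerivedCategory.standard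
open Curves

namespace Groth.Agent.S17177


open Groth.Agent CurveCoh17

/-- An affine open inside the smooth locus is formally smooth over the base. -/
theorem formallySmooth_appLE {X : Scheme.{u}} {k : Type u} [Field k] (f : X ⟶ Spec (CommRingCat.of k))
    [LocallyOfFinitePresentation f] {V : X.Opens} (hV : IsAffineOpen V) (hle : V ≤ f.smoothLocus)
    (e : V ≤ f ⁻¹ᵁ ⊤) : (f.appLE ⊤ V e).hom.FormallySmooth := by
  letI := (f.appLE ⊤ V e).hom.toAlgebra
  haveI : Algebra.FinitePresentation Γ(Spec (CommRingCat.of k), ⊤) Γ(X, V) :=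
    f.finitePresentation_appLE (isAffineOpen_top _) hV e
  refine RingHom.formallySmooth_algebraMap.2 (Algebra.smoothLocus_eq_univ_iff.1 (Set.eq_univ_of_forall fun q => ?_))
  have hx : hV.fromSpec q ∈ V := hV.range_fromSpec.le ⟨q, rfl⟩
  have h := (formallySmooth_stalkMap_iff ⊤ (isAffineOpen_top _) V hV e hx).1 (hle hx)
  have hq : hV.primeIdealOf ⟨hV.fromSpec q, hx⟩ = q :=
    hV.fromSpec.isOpenEmbedding.injective (IsAffineOpen.fromSpec_primeIdealOf hV ⟨hV.fromSpec q, hx⟩)
  rwa [hq] at h



/-- Let k be an algebraically closed field, r ≥ 1, and X ⊆ P^r_k a closed subscheme, cut out by a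
quasi-coherent ideal sheaf I, which is a connected nodal curve: reduced, connected, of dimension
one, with at-worst-nodal singularities over k. Suppose H^1(X, O_X(1)) = 0, O_X(1) being the
pull-back of O(1). Let N = Hom_{O_X}(I/I², O_X) be the normal sheaf (the sheaf Hom, assumed to exist
as the right adjoint of tensoring with the conormal sheaf I/I²). Then H^1(X, N) = 0. (In the paper X
is a curve of degree d ≥ 20(g - 1) and genus g ≥ 3 whose Hilbert point is semistable, for which
H^1(X, O_X(1)) = 0 holds, and the vanishing is used to conclude that the Hilbert scheme is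
nonsingular of dimension r(r + 2) + 4g - 3 at the point of X; that deduction, through the
identification of the tangent space with H^0(X, N) and Riemann–Roch, is not part of this row.) -/
theorem result
    (k : Type u) [Field k] [IsAlgClosed k] (r : ℕ) (hr : 1 ≤ r)
    (I₀ : (CohB1.ProjSpace r k).IdealSheafData) [I₀.subscheme.Over (Spec (CommRingCat.of k))]
    (hX : I₀.subscheme ↘ Spec (CommRingCat.of k) = I₀.subschemeι ≫ (CohB1.ProjSpace r k ↘ Spec (CommRingCat.of k)))
    [IsReduced I₀.subscheme] [ConnectedSpace I₀.subscheme] (hdim : topologicalKrullDim I₀.subscheme = 1)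
    (hnod : Curv2.AtWorstNodal k I₀.subscheme)
    (h1 : Subsingleton (Coh.HH I₀.subscheme
      ((Scheme.Modules.pullback I₀.subschemeι).obj (Twist.twistProjSpace r k 1)) 1))
    [DCoh.HasSheafHom (Omega.conormal I₀.subschemeι)] :
    Subsingleton (Coh.HH I₀.subscheme
      ((DCoh.sheafHom (Omega.conormal I₀.subschemeι)).obj (Coh.structureModule I₀.subscheme)) 1) := by
  let X := I₀.subscheme
  let i := I₀.subschemeι
  let p := CohB1.ProjSpace.toSpec r k
  let f := X ↘ Spec (CommRingCat.of k)
  have hf : i ≫ p = f := hX.symm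
  haveI : IsProper p := ProjSpace.isProper_toSpec r k
  haveI : IsProper f := by rw [← hf]; infer_instance
  haveI : IsNoetherian X := CohFound.isNoetherian_of_isProper f
  haveI : IsLocallyNoetherian (CohB1.ProjSpace r k) := LocallyOfFiniteType.isLocallyNoetherian p
  haveI : CompactSpace (CohB1.ProjSpace r k) := QuasiCompact.compactSpace_of_compactSpace p
  haveI : IsNoetherian (CohB1.ProjSpace r k) := {}
  haveI : X.IsSeparated := CurveAmple18.isSeparated k X
  have hd : topologicalKrullDim X ≤ 1 := hdim.le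
  obtain ⟨Ω, d, F, q, L, a, b, hΩ, hq, hF, hL, hab, ⟨τ⟩⟩ := NormalH1.exists_omega_embedding r k i
  haveI := hq
  obtain ⟨φ, hφ, -⟩ := GrMap12.existsUnique_conormalDiff (i := i) d
  let ψ : Omega.conormal i ⟶ F := φ ≫ q
  have hC : Coh.IsCoh (Omega.conormal i) := M1.isCoh_pullback _ (CurveCoh17.isCoh_idealMod _)
  haveI : LocallyOfFinitePresentation f := {
    finitePresentation_appLE := fun {U} hU {V} hV e =>
      haveI := IsLocallyNoetherian.component_noetherian (X := Spec (CommRingCat.of k)) ⟨U, hU⟩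
      RingHom.FinitePresentation.of_finiteType.mp (f.finiteType_appLE hU hV e) }
  have hgen : ∀ g : X, (∀ y, y ⤳ g → y = g) → g ∈ f.smoothLocus ∧ IsField (X.presheaf.stalk g) := by
    intro g hg
    refine ⟨?_, GenericZero.isField_stalk_of_maxPt hg⟩
    have hfin : (({x : X | ∀ y, y ⤳ x → y = x} \ {g}) : Set X).Finite := finite_maximal.sdiff
    let U : X.Opens := ⟨(⋃ x ∈ ({x : X | ∀ y, y ⤳ x → y = x} \ {g}), closure ({x} : Set X))ᶜ,
      (hfin.isClosed_biUnion fun x _ => isClosed_closure).isOpen_compl⟩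
    have hgU : g ∈ U := fun h => by
      obtain ⟨x, ⟨hx, hne⟩, hgx⟩ := Set.mem_iUnion₂.1 h
      exact hne (hg x (specializes_iff_mem_closure.2 hgx))
    obtain ⟨y, hyU, hys⟩ := (Scheme.Hom.dense_smoothLocus_of_perfectField f).inter_open_nonempty U U.2 ⟨g, hgU⟩
    obtain ⟨g', hg'y, hg'⟩ := exists_maximal_generization y
    by_cases hgg : g' = g
    · subst hgg
      exact hg'y.mem_open f.smoothLocus.2 hys
    · exact absurd (Set.mem_iUnion₂.2 ⟨g', ⟨hg', hgg⟩, specializes_iff_mem_closure.1 hg'y⟩) hyU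
  have hψ : ∀ g : X, g ∈ f.smoothLocus → Function.Injective (CurveCoh17.stalkLin ψ g) := by
    intro g hg
    have hφg : Function.Injective (CurveCoh17.stalkLin φ g) := by
      refine (injective_iff_map_eq_zero _).2 fun z hz => ?_
      obtain ⟨W, hgW, s, rfl⟩ := (Omega.conormal i).presheaf.exists_germ_eq z
      rw [stalkLin_apply, M1.germ_naturality φ W g hgW s] at hz
      obtain ⟨W', hgW', i₁, i₂, he⟩ := ((Scheme.Modules.pullback i).obj Ω).presheaf.germ_eq g hgW hgW
        (φ.app W s) 0 (hz.trans (map_zero _).symm)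
      obtain ⟨T, hT, hTW⟩ := i.isEmbedding.isInducing.isOpen_iff.1 (W' ⊓ f.smoothLocus).2
      have hgT : i g ∈ T := by
        have : g ∈ i ⁻¹' T := by rw [hTW]; exact ⟨hgW', hg⟩
        exact this
      obtain ⟨U, hU, hgU, hUT⟩ := exists_isAffineOpen_mem_and_subset (U := (⟨T, hT⟩ : (CohB1.ProjSpace r k).Opens))
        (x := i g) hgT
      have hle : U ≤ i.coborderRange := fun y _ => by
        show y ∈ coborder (Set.range i)
        rw [i.isClosedEmbedding.isClosed_range.coborder_eq]
        trivial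
      have hV : IsAffineOpen (i ⁻¹ᵁ U) := hU.preimage i
      have hUW : i ⁻¹ᵁ U ≤ W' ⊓ f.smoothLocus := fun y hy => by
        have : y ∈ i ⁻¹' T := hUT hy
        rw [hTW] at this
        exact this
      have hfs : ((i ≫ p).appLE ⊤ (i ⁻¹ᵁ U) (i.preimage_mono le_top)).hom.FormallySmooth := by
        have key : ∀ (f' : X ⟶ Spec (CommRingCat.of k)), f' = f → ∀ e : i ⁻¹ᵁ U ≤ f' ⁻¹ᵁ ⊤,
            (f'.appLE ⊤ (i ⁻¹ᵁ U) e).hom.FormallySmooth := fun f' hf' e => by
          subst hf'
          exact formallySmooth_appLE f hV (hUW.trans inf_le_right) e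
        exact key _ hf _
      have hinj := GrMap12.injective_app_conormalDiff hΩ hφ hU hle (isAffineOpen_top _) le_top hfs
      have hUW' : i ⁻¹ᵁ U ≤ W' := hUW.trans inf_le_left
      have h0 : M1.mres (Omega.conormal i) (hUW'.trans i₁.le) s = 0 := hinj (by
        rw [M1.app_mres, map_zero, ← M1.mres_mres _ i₁.le hUW']
        refine Eq.trans (congrArg (M1.mres _ hUW') he) ?_
        exact (congrArg _ (map_zero _)).trans (map_zero _))
      rw [← M1.germ_mres (Omega.conormal i) (hUW'.trans i₁.le) (x := g) hgU, h0]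
      exact map_zero _
    intro z z' hzz
    refine hφg ((M1.mono_iff_stalk q).1 hq g ?_)
    have hcomp : ∀ w, (M1.stalkAb g).map q (CurveCoh17.stalkLin φ g w) = CurveCoh17.stalkLin ψ g w := fun w => by
      show ((M1.stalkAb g).map φ ≫ (M1.stalkAb g).map q) w = _
      rw [← Functor.map_comp]
      rfl
    rw [hcomp, hcomp, hzz]
  let O := Coh.structureModule X
  let Φ := NormalH1.dualMap ψ O
  have hqO : Coh.IsQCoh O := M1.isQCoh_structureModule X
  have hN : Coh.IsCoh (M2.homMod (Omega.conormal i) O) := HomShH7.isCoh_homMod hC (M1.isCoh_structureModule _)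
  have hH : Coh.IsCoh (M2.homMod F O) := HomShH7.isCoh_homMod hF (M1.isCoh_structureModule _)
  have hK : Coh.IsCoh (cokernel Φ) := M1.isCoh_cokernel hH.1 hN Φ
  obtain ⟨S, hS, hScl⟩ := exists_finset_closedPoints hd (M1.isClosed_support hK.2) (fun g hg hgs => by
    have hs := NormalH1.surjective_stalk_dualMap ψ O hC hF hqO (hgen g hg).2 (hψ g (hgen g hg).1)
    refine hgs ⟨fun z z' => ?_⟩
    have hz : ∀ w : (cokernel Φ).presheaf.stalk g, w = 0 := fun w => by
      obtain ⟨n, rfl⟩ := (M1.epi_iff_stalk (cokernel.π Φ)).1 inferInstance g w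
      obtain ⟨m, rfl⟩ := hs n
      show ((M1.stalkAb g).map Φ ≫ (M1.stalkAb g).map (cokernel.π Φ)) m = 0
      rw [← Functor.map_comp, cokernel.condition, Functor.map_zero]
      rfl
    rw [hz z, hz z'])
  have hsupp : SuppIn (cokernel Φ) S := ⟨hScl, fun x hx a => by
    have : x ∉ CohB1.support (cokernel Φ) := fun h => hx (Finset.mem_coe.1 (hS ▸ h))
    rw [CohB1.support, Set.mem_setOf_eq, not_not] at this
    exact @Subsingleton.elim _ this a 0⟩
  have hv2 : ∀ M : X.Modules, Coh.IsQCoh M → Subsingleton (Coh.HH X M 2) :=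
    fun M hM => subsingleton_HH_of_dim hd M hM 0
  haveI : Subsingleton (Coh.HH X (M2.homMod L O) 1) := by
    let e : M2.homMod L O ≅ (Scheme.Modules.pullback i).obj (Twist.twistProjSpace r k 1) :=
      M2.inverseUnique (M2.tensorComm L (M2.dualMod L) ≪≫ M2.dualTensorIso hL) τ
    exact (hequiv k e 1).toEquiv.subsingleton_congr.2 h1
  haveI : Subsingleton (Coh.HH X (M2.homMod F O) 1) := NormalH1.subsingleton_h1_dual k a b hab O
  haveI : Subsingleton (Coh.HH X (Abelian.image Φ) 1) :=
    NefH1.subsingleton_h1_of_epi k hv2 (Abelian.factorThruImage Φ) hH.1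
      (M1.isQCoh_kernel hN.1 (M1.isQCoh_cokernel hH.1 hN.1 Φ) _)
  haveI : Subsingleton (Coh.HH X (cokernel Φ) 1) := hsupp.subsingleton_HH 0
  haveI := NefH1.subsingleton_h1_mid k (cokerSC_shortExact Φ)
  obtain ⟨e⟩ := HilbObs3.nonempty_sheafHom_iso (Omega.conormal i) O
  exact (hequiv k e 1).toEquiv.subsingleton_congr.2 this

end Groth.Agent.S17177
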