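import Groth.Statements.S17178
import Groth.Agent.Lib.CurveCoh17.Vanish
import Groth.Agent.Lib.CurveR1_10.Dim
import Groth.Agent.Lib.ModM1.Stalk
import Groth.Agent.Lib.Curve17.SubSheaf
import Groth.Agent.Lib.CurveCoh17.Integral

set_option autoImplicit false
universe u
open CategoryTheory CategoryTheory.Limits AlgebraicGeometry
open Curves

namespace Groth.Agent.S17178

set_option linter.style.haveILetI false
set_option backward.isDefEq.respectTransparency false


/-- Let k be an algebraically closed field and X a nodal curve over k: proper over k, reduced,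
connected, every irreducible component of dimension one, with at-worst-nodal singularities. Let J be
a coherent O_X-module which is pure of dimension one (every nonzero coherent submodule has
one-dimensional support), for instance a pure quotient with one-dimensional support of a rank-one
torsion-free sheaf. Let U be an open subset and f a function on U vanishing at every point of U
lying in the support Y of J. Then f acts as zero on J over U: for every x ∈ U the germ of f at x
annihilates the stalk J_x. In other words the ideal sheaf of the reduced subcurve Y annihilates J,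
so J is an O_Y-module; this is the first assertion in the proof that every such quotient q : I → J
of a rank-one torsion-free I factors through the torsion-free restriction of I to Y, the remaining
assertion (that the induced map is an isomorphism) not being part of this row. -/
theorem result
    (k : Type u) [Field k] [IsAlgClosed k] (X : Scheme.{u}) [X.Over (Spec (CommRingCat.of k))]
    [IsProper (X ↘ Spec (CommRingCat.of k))] [IsReduced X] [ConnectedSpace X]
    (hequi : ∀ Z ∈ irreducibleComponents (X : Type u), topologicalKrullDim Z = 1)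
    (hX : Curv2.AtWorstNodal k X)
    (J : X.Modules) (hJc : Coh.IsCoh J) (hJp : ShStab.IsPure X J 1)
    (U : X.Opens) (f : X.presheaf.obj (Opposite.op U))
    (hf : ∀ x : X, x ∈ U → x ∈ CohB1.support J → x ∉ X.basicOpen f)
    (x : X) (hx : x ∈ U) (t : J.presheaf.stalk x) :
    (X.presheaf.germ U x hx f) • t = 0 := by
  haveI : IsLocallyNoetherian X :=
    LocallyOfFiniteType.isLocallyNoetherian (X ↘ Spec (CommRingCat.of k))
  haveI : CompactSpace X := QuasiCompact.compactSpace_of_compactSpace (X ↘ Spec (CommRingCat.of k))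
  haveI : AlgebraicGeometry.IsNoetherian X := {}
  have hd : topologicalKrullDim X ≤ 1 :=
    Groth.Agent.CurveR1_10.topologicalKrullDim_le_of_components fun Z hZ => (hequi Z hZ).le
  have hgen : ∀ y : X, ∀ hy : y ∈ U, ¬ IsClosed ({y} : Set X) → ∀ m : J.presheaf.stalk y,
      X.presheaf.germ U y hy f • m = 0 := by
    intro y hy hnc m
    by_cases hs : y ∈ CohB1.support J
    · have hmax : IsMax y := fun z hz =>
        le_of_eq (Groth.Agent.Curve17.eq_of_specializes hd hnc hz)
      haveI : Ring.KrullDimLE 0 (X.presheaf.stalk y) := by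
        rw [Ring.krullDimLE_iff, ringKrullDim_stalk_eq_coheight, Order.coheight_eq_zero.2 hmax]
        rfl
      have hz : X.presheaf.germ U y hy f = 0 := by
        by_contra h0
        obtain ⟨b, hb⟩ := Ring.KrullDimLE.isField_of_isReduced.mul_inv_cancel h0
        exact hf y hy hs ((X.mem_basicOpen f y hy).2 (IsUnit.of_mul_eq_one b hb))
      rw [hz, zero_smul]
    · haveI : Subsingleton (J.presheaf.stalk y) := not_not.1 hs
      exact Subsingleton.elim _ _
  by_cases hcl : IsClosed ({x} : Set X)
  swap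
  · exact hgen x hx hcl t
  by_contra hne
  obtain ⟨W₀, hxW₀, t₀, ht₀⟩ := J.presheaf.exists_germ_eq t
  let W : X.Opens := U ⊓ W₀
  let s : Γ(J, W) := X.presheaf.map (homOfLE (inf_le_left : W ≤ U)).op f •
    Groth.Agent.M1.mres J (inf_le_right : W ≤ W₀) t₀
  have hs : ∀ y, ∀ hy : y ∈ W, J.presheaf.germ W y hy s =
      X.presheaf.germ U y hy.1 f • J.presheaf.germ W₀ y hy.2 t₀ := by
    intro y hy
    refine (Groth.Agent.M1.germ_smul J hy _ _).trans ?_
    rw [Groth.Agent.M1.germ_mres, TopCat.Presheaf.germ_res_apply]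
  let C : Set X := {y | ∀ hy : y ∈ W, J.presheaf.germ W y hy s ≠ 0}
  have hC : IsClosed C := by
    rw [← isOpen_compl_iff, isOpen_iff_forall_mem_open]
    intro y hy
    simp only [C, Set.mem_compl_iff, Set.mem_ofPred_eq, not_forall, not_not] at hy
    obtain ⟨hyW, hy0⟩ := hy
    obtain ⟨V, hyV, i₁, i₂, e⟩ := J.presheaf.germ_eq y hyW hyW s 0 (hy0.trans (map_zero _).symm)
    refine ⟨V, fun z hz hzC => hzC (i₁.le hz) ?_, V.2, hyV⟩
    rw [← TopCat.Presheaf.germ_res_apply J.presheaf i₁ z hz s, e, map_zero, map_zero]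
  obtain ⟨G, hG⟩ := Groth.Agent.VarDim.exists_finite_generic hC
  have hfin : ∀ y, ∀ hy : y ∈ W, J.presheaf.germ W y hy s ≠ 0 → y ∈ G := by
    intro y hy h0
    obtain ⟨g, hg, hgy⟩ := (hG y).1 fun _ => h0
    have hgW : g ∈ W := hgy.mem_open W.2 hy
    have hgc : IsClosed ({g} : Set X) := by
      by_contra hnc
      have := (hG g).2 ⟨g, hg, specializes_rfl⟩ hgW
      exact this ((hs g hgW).trans (hgen g hgW.1 hnc _))
    have : y ∈ ({g} : Set X) := hgy.mem_closed hgc rfl
    exact Set.mem_singleton_iff.1 this ▸ hg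
  classical
  let S : Finset X := (G.filter fun g => IsClosed ({g} : Set X)).erase x
  have hSc : IsClosed (S : Set X) := by
    rw [← Set.biUnion_of_singleton (S : Set X)]
    exact S.finite_toSet.isClosed_biUnion fun g hg => (Finset.mem_filter.1 (Finset.mem_of_mem_erase hg)).2
  let W' : X.Opens := W ⊓ ⟨(S : Set X)ᶜ, hSc.isOpen_compl⟩
  have hxW' : x ∈ W' := ⟨⟨hx, hxW₀⟩, fun h => (Finset.mem_erase.1 h).1 rfl⟩
  have hzero : ∀ y, ∀ hy : y ∈ W', y ≠ x → J.presheaf.germ W y hy.1 s = 0 := by
    intro y hy hyx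
    by_contra h0
    refine hy.2 (Finset.mem_erase.2 ⟨hyx, Finset.mem_filter.2 ⟨hfin y hy.1 h0, ?_⟩⟩)
    by_contra hnc
    exact h0 ((hs y hy.1).trans (hgen y hy.1.1 hnc _))
  let fam : ∀ y : (⊤ : X.Opens), (J.presheaf.stalk y.1 : Type u) := fun y =>
    if h : y.1 ∈ W' then J.presheaf.germ W y.1 h.1 s else 0
  obtain ⟨σ, hσ, -⟩ := Groth.Agent.Curve17.existsUnique_of_germPred J fam fun y => by
    by_cases h : y.1 = x
    · refine ⟨W', h.symm ▸ hxW', homOfLE le_top, Groth.Agent.M1.mres J (inf_le_left : W' ≤ W) s, fun z => ?_⟩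
      refine (dif_pos z.2 : fam _ = _).trans ?_
      exact (Groth.Agent.M1.germ_mres J (inf_le_left : W' ≤ W) z.2 s).symm
    · refine ⟨⟨{x}ᶜ, hcl.isOpen_compl⟩, h, homOfLE le_top, 0, fun z => ?_⟩
      refine Eq.trans ?_ (map_zero _).symm
      by_cases h' : z.1 ∈ W'
      · exact (dif_pos h' : fam _ = _).trans (hzero _ h' z.2)
      · exact dif_neg (show ¬ ((homOfLE le_top : _ ⟶ (⊤ : X.Opens)) z).1 ∈ W' from h')
  have hσ0 : ∀ y, y ≠ x → J.presheaf.germ ⊤ y trivial σ = 0 := by
    intro y hy
    rw [hσ ⟨y, trivial⟩]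
    by_cases h' : y ∈ W'
    · exact (dif_pos h' : fam ⟨y, trivial⟩ = _).trans (hzero _ h' hy)
    · exact (dif_neg h' : fam ⟨y, trivial⟩ = _)
  have hσx : J.presheaf.germ ⊤ x trivial σ ≠ 0 := by
    rw [hσ ⟨x, trivial⟩, show fam ⟨x, trivial⟩ = _ from dif_pos hxW', hs x ⟨hx, hxW₀⟩, ht₀]
    exact hne
  let φ := Groth.Agent.M1.secHom σ
  let I := Abelian.image φ
  have hI : Coh.IsCoh I := Groth.Agent.M1.isCoh_kernel hJc
    (Groth.Agent.M1.isQCoh_cokernel (Groth.Agent.M1.isCoh_structureModule X).1 hJc.1 φ) (cokernel.π φ)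
  have hstalk : ∀ y (a : I.presheaf.stalk y), ∃ c : X.presheaf.stalk y,
      Groth.Agent.CurveCoh17.stalkLin (Abelian.image.ι φ) y a = c • J.presheaf.germ ⊤ y trivial σ := by
    intro y a
    obtain ⟨b, rfl⟩ := (Groth.Agent.M1.epi_iff_stalk (Abelian.factorThruImage φ)).1 inferInstance y a
    obtain ⟨c, hc, hc'⟩ := Groth.Agent.CurveCoh17.stalkLin_secHom σ y b
    refine ⟨c, ?_⟩
    show ((Groth.Agent.M1.stalkAb y).map (Abelian.factorThruImage φ) ≫
      (Groth.Agent.M1.stalkAb y).map (Abelian.image.ι φ)) b = _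
    rw [← Functor.map_comp, Abelian.image.fac]
    exact hc'
  have hsub : CohB1.support I ⊆ {x} := by
    intro y hy
    by_contra hyx
    refine hy ⟨fun a b => ?_⟩
    obtain ⟨c, hc⟩ := hstalk y a
    obtain ⟨d, hd'⟩ := hstalk y b
    refine (Groth.Agent.M1.mono_iff_stalk (Abelian.image.ι φ)).1 inferInstance y ?_
    rw [hσ0 y hyx, smul_zero] at hc hd'
    exact hc.trans hd'.symm
  have hnz : ¬ IsZero I := by
    intro hz
    have h1 : φ = 0 := by rw [← Abelian.image.fac φ, hz.eq_zero_of_src (Abelian.image.ι φ), comp_zero]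
    apply hσx
    have h2 := congrArg (fun ψ => ψ.app ⊤ (Groth.Agent.M1.one ⊤)) h1
    simp only [φ, Groth.Agent.M1.secHom_app_one] at h2
    rw [h2]
    exact map_zero _
  have hdim := hJp I (Abelian.image.ι φ) inferInstance hI hnz
  haveI : Subsingleton (CohB1.support I) := ⟨fun a b => Subtype.ext
    ((Set.mem_singleton_iff.1 (hsub a.2)).trans (Set.mem_singleton_iff.1 (hsub b.2)).symm)⟩
  exact absurd (hdim.symm.le.trans (topologicalKrullDim_zero_of_discreteTopology _)) (by norm_num)

end Groth.Agent.S17178
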