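import Groth.Statements.S1718
import Groth.Agent.Lib.Dlz27.Gamma
-- import your own Groth.Agent.* helpers here

set_option autoImplicit false
universe u
open CategoryTheory
attribute [local instance] HasDerivedCategory.standard
open Dual

namespace Groth.Agent.S1718

/-- Let A be a Noetherian local ring with maximal ideal m, residue field κ and a normalized dualizing
complex ω, and let κ → E be an injective hull. Then the degree-0 local cohomology of ω with support
in m (the direct limit of Hom(A/m^n, ω)) is isomorphic to E, and the local cohomology of ω in every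
other degree is zero. -/
theorem result (A : Type u) [CommRing A] [IsLocalRing A] [IsNoetherianRing A] (ω : Dual.D A) (hω : Dual.IsDualizing A ω) (hn : Dual.IsNormalized A ω) (E : Type u) [AddCommGroup E] [Module A E] (f : IsLocalRing.ResidueField A →ₗ[A] E) (hf : InjHull.IsInjectiveHull f) : Nonempty (Dual2.HDI A (IsLocalRing.maximalIdeal A) ω 0 ≃ₗ[A] E) ∧ ∀ i : ℤ, i ≠ 0 → Subsingleton (Dual2.HDI A (IsLocalRing.maximalIdeal A) ω i) := by
  let M := Dlz27.model hω
  let m := IsLocalRing.maximalIdeal A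
  obtain ⟨eE⟩ := Dlz27.equiv_hull M hω hn hf
  refine ⟨?_, fun i hi => ?_⟩
  · let φ : ↥(RGamma27.cyc M.W 0 m) →ₗ[A] Dlz27.H0 M :=
      Submodule.mkQ _ ∘ₗ LinearMap.codRestrict (Dlz27.cy M 0)
        (LinearMap.codRestrict (Dlz27.G M 0) (RGamma27.cyc M.W 0 m).subtype
          (fun x => (Dlz27.mem_G M).2 x.2.1)) (fun x => Subtype.ext x.2.2)
    have hφ : Function.Surjective φ := fun z => by
      obtain ⟨⟨⟨x, hx⟩, hd⟩, rfl⟩ := Submodule.Quotient.mk_surjective _ z
      exact ⟨⟨x, (Dlz27.mem_G M).1 hx, congrArg Subtype.val hd⟩, rfl⟩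
    have hker : LinearMap.ker (RGamma27.toColim 0 m M.e) = LinearMap.ker φ := by
      ext x
      rw [LinearMap.mem_ker, LinearMap.mem_ker, RGamma27.toColim_eq_zero_iff]
      refine Iff.trans ?_ (Submodule.Quotient.mk_eq_zero _).symm
      constructor
      · rintro ⟨y, hy, hd⟩
        exact ⟨⟨y, (Dlz27.mem_G M).2 hy⟩, Subtype.ext hd⟩
      · rintro ⟨⟨y, hy⟩, hd⟩
        exact ⟨y, (Dlz27.mem_G M).1 hy, congrArg Subtype.val hd⟩
    exact ⟨(LinearMap.quotKerEquivOfSurjective _ (RGamma27.toColim_surjective m M.e)).symm ≪≫ₗ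
      Submodule.quotEquivOfEq _ _ hker ≪≫ₗ LinearMap.quotKerEquivOfSurjective φ hφ ≪≫ₗ eE⟩
  · refine subsingleton_of_forall_eq 0 fun z => ?_
    obtain ⟨x, rfl⟩ := RGamma27.toColim_surjective (q := i) m M.e z
    obtain ⟨y, hy⟩ := Dlz27.cy_le_bd M hω hn hi
      (show (⟨x.1, (Dlz27.mem_G M).2 x.2.1⟩ : Dlz27.G M i) ∈ Dlz27.cy M i from Subtype.ext x.2.2)
    exact (RGamma27.toColim_eq_zero_iff m M.e x).2 ⟨y.1, (Dlz27.mem_G M).1 y.2, congrArg Subtype.val hy⟩

end Groth.Agent.S1718
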