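import Groth.Statements.S17180
import Groth.Agent.Lib.NumPoly18.SurfBir
import Groth.Agent.Lib.PoleOne18.Ample
import Groth.Agent.Lib.VB17.Sub

set_option autoImplicit false
universe u
open CategoryTheory CategoryTheory.Limits AlgebraicGeometry
open Surf

open Groth.Agent Groth.Agent.NumPoly18
namespace Groth.Agent.S17180

/-- Let k be a field, X an integral proper k-scheme of dimension 2 with regular local rings which is
geometrically irreducible over k, C an integral proper smooth k-scheme of dimension 1, and f : X → C
a surjective k-morphism. Let L be an invertible O_X-module whose intersection number with every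
vertical integral curve (a closed integral one-dimensional E ⊆ X sent by f to a single point) is 0,
and whose intersection number with some horizontal integral curve P (closed, integral,
one-dimensional, with f(P) not a single point) is 0. Then (L·L) ≤ 0, and if (L·L) = 0 then L is
numerically trivial: its intersection number with every closed integral curve of X is 0. Here (L·L)
= χ(O_X) − 2χ(L) + χ(L ⊗ L) and the number with a curve Y is χ(O_Y) − χ(L ⊗ O_Y), both packaged as
FGA.intNum. (The published assertion is the positive-definiteness of the pairing −(D·D′) on classes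
of divisors of degree 0 on the generic fibre modulo classes of fibre components, after tensoring
with the rationals; this row gives that content for divisor classes up to numerical equivalence,
which is what the printed argument establishes, and leaves aside the identification of the pairing
with a canonical height. The published setting also takes X to be the relatively minimal regular
model, projective over k, of a smooth projective geometrically irreducible curve of positive genus
over the function field of C, with C projective and geometrically irreducible; this row keeps only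
the hypotheses the printed argument uses.) -/
theorem result (k : Type u) [Field k]
    (X : Scheme.{u}) [X.Over (Spec (CommRingCat.of k))] [IsProper (X ↘ Spec (CommRingCat.of k))]
    [IsIntegral X] [GeometricallyIrreducible (X ↘ Spec (CommRingCat.of k))]
    (hreg : ∀ x : X, IsRegularLocalRing (X.presheaf.stalk x)) (hdim : topologicalKrullDim X = 2)
    (C : Scheme.{u}) [C.Over (Spec (CommRingCat.of k))] [IsProper (C ↘ Spec (CommRingCat.of k))]
    [Smooth (C ↘ Spec (CommRingCat.of k))] [IsIntegral C] (hdimC : topologicalKrullDim C = 1)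
    (f : X ⟶ C) [f.IsOver (Spec (CommRingCat.of k))] [Surjective f]
    (L : X.Modules) (hL : PicF.IsInvertible L)
    (hvert : ∀ (E : Scheme.{u}) (ι : E ⟶ X) [IsClosedImmersion ι] [IsIntegral E],
      topologicalKrullDim E = 1 → (Set.range (fun e : E => f (ι e))).Subsingleton →
      FGA.intNum k X 2 ![L] ((Coh.push ι).obj (Coh.structureModule E)) = 0)
    (P : Scheme.{u}) (ιP : P ⟶ X) [IsClosedImmersion ιP] [IsIntegral P] (hP : topologicalKrullDim P = 1)
    (hPh : (Set.range (fun q : P => f (ιP q))).Nontrivial)
    (hLP : FGA.intNum k X 2 ![L] ((Coh.push ιP).obj (Coh.structureModule P)) = 0) :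
    FGA.intNum k X 2 ![L, L] (Coh.structureModule X) ≤ 0 ∧
      (FGA.intNum k X 2 ![L, L] (Coh.structureModule X) = 0 →
        ∀ (Y : Scheme.{u}) (ι : Y ⟶ X) [IsClosedImmersion ι] [IsIntegral Y], topologicalKrullDim Y = 1 →
          FGA.intNum k X 2 ![L] ((Coh.push ι).obj (Coh.structureModule Y)) = 0) := by
  haveI : IsNoetherian X := CohFound.isNoetherian_of_isProper (X ↘ (Spec (CommRingCat.of k)))
  haveI : IsNoetherian C := CohFound.isNoetherian_of_isProper (C ↘ (Spec (CommRingCat.of k)))
  have hf : f ≫ (C ↘ Spec (CommRingCat.of k)) = X ↘ Spec (CommRingCat.of k) :=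
    CategoryTheory.comp_over f (Spec (CommRingCat.of k))
  haveI : IsProper (f ≫ (C ↘ Spec (CommRingCat.of k))) := by rw [hf]; infer_instance
  haveI : IsProper f := IsProper.of_comp f (C ↘ Spec (CommRingCat.of k))
  haveI : C.IsSeparated := CurveAmple18.isSeparated k C
  have hd : topologicalKrullDim X = ((2 : ℕ) : WithBot ℕ∞) := by simpa using hdim
  obtain ⟨A, hA⟩ := PoleOne18.exists_isAmple (X := C) fun y =>
    (VB17.ringKrullDim_stalk_le_topologicalKrullDim y).trans hdimC.le
  let M := (Scheme.Modules.pullback f).obj A
  have hM : PicF.IsInvertible M := Twist.isInvertible_pullback f hA.1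
  have hO := M1.isCoh_structureModule X
  -- intersection with a curve
  have hcdeg : ∀ (E : Scheme.{u}) (ι : E ⟶ X) [IsClosedImmersion ι],
      topologicalKrullDim E = 1 →
      FGA.intNum k X 2 ![L] ((Coh.push ι).obj (Coh.structureModule E)) = 0 →
      cdeg k L ((Scheme.Modules.pushforward ι).obj (Coh.structureModule E)) = 0 := by
    intro E ι _ hE h0
    haveI : IsLocallyNoetherian E := LocallyOfFiniteType.isLocallyNoetherian ι
    have h := intNum_eq_mixedDiff (k := k) hd.le (M := ![L]) (fun i => by fin_cases i; exact hL)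
      (CohFound.isCoh_push_closedImm ι (M1.isCoh_structureModule E))
    rw [show (FGA.intNum k X 2 ![L] ((Scheme.Modules.pushforward ι).obj (Coh.structureModule E)) : ℚ) = 0 from by
      exact_mod_cast h0] at h
    rw [cdeg, show (fun _ : Fin 1 => L) = ![L] from funext fun i => by fin_cases i; rfl]
    simp only [md]
    linarith
  have hvert' : ∀ ξ : X, topologicalKrullDim (closure ({ξ} : Set X)) = 1 → IsClosed ({f ξ} : Set C) →
      cdeg k L (ptMod ξ) = 0 := by
    intro ξ hξ hcl
    haveI := (isIntegral_pt ξ).1
    have hE : topologicalKrullDim (ptIdeal ξ).subscheme = 1 :=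
      (AmpleFin18.dim_subscheme _ (Scheme.IdealSheafData.coe_support_vanishingIdeal _)).trans hξ
    refine hcdeg _ (ptIdeal ξ).subschemeι hE (hvert _ _ hE ?_)
    have hone : ∀ e, f ((ptIdeal ξ).subschemeι e) = f ξ := fun e => by
      have h := map_mem_closure f.continuous ((range_ptι ξ).le ⟨e, rfl⟩) (t := {f ξ}) (by simp)
      rwa [hcl.closure_eq] at h
    rintro _ ⟨a, rfl⟩ _ ⟨b, rfl⟩
    show f ((ptIdeal ξ).subschemeι a) = f ((ptIdeal ξ).subschemeι b)
    rw [hone a, hone b]
  have hMM : dot k M M = 0 := by
    have hd2 : topologicalKrullDim (CohB1.support (Coh.structureModule X)) ≤ ((2 : ℕ) : WithBot ℕ∞) :=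
      (Topology.IsInducing.subtypeVal.topologicalKrullDim_le).trans hd.le
    have hA2 : ∀ _i : Fin 2, PicF.IsInvertible A := fun _ => hA.1
    rw [dot_self, show (fun _ : Fin 2 => M) = (fun i : Fin 2 => (Scheme.Modules.pullback f).obj A) from rfl,
      sub_eq_zero.1 (md_push_proper f hf (fun _ => A) hA2 _ hO hd2)]
    refine md_eq_zero_of_points hA2 (isCoh_push_proper (k := k) f hO) fun x _ => ?_
    refine (Topology.IsInducing.subtypeVal.topologicalKrullDim_le).trans_lt ?_
    rw [hdimC]
    exact Nat.one_lt_cast.2 (by omega)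
  have hML : dot k M L = 0 := by
    obtain ⟨D, hD, ⟨eD⟩⟩ := hA.1 (f (genericPoint X))
    obtain ⟨V, hV, hξV, hVD⟩ := exists_isAffineOpen_mem_and_subset (U := D) hD
    obtain ⟨eV⟩ := M2.nonempty_trivial_mono hVD eD
    let U : X.Opens := f ⁻¹ᵁ V
    haveI : IsAffineHom V.ι := CurveCoh17.isAffineHom_ι hV
    haveI : IsAffineHom U.ι :=
      MorphismProperty.of_isPullback (isPullback_morphismRestrict f V) ‹IsAffineHom V.ι›
    let eU : M.restrict U.ι ≅ _ :=
      Twist.pullbackRestrictIso f A V ≪≫ (Scheme.Modules.pullback (f ∣_ V)).mapIso eV ≪≫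
        Twist.pullbackUnitIso (f ∣_ V)
    have hcl : closure ({genericPoint X} : Set X) = Set.univ := genericPoint_closure X
    have hG : Coh.IsCoh (CohB1.tensorMod (Coh.structureModule X) M) :=
      CurveCoh17.isCoh_tensor hO (Snapper.isCoh_of_isInvertible hM)
    obtain ⟨W, φ, ψ, hW, k1, c1, k2, c2⟩ := exists_zigzag' (CurveAmple18.isSeparated k X) hO hG
      (η := genericPoint X) (hcl.symm ▸ Set.subset_univ _) (hcl.symm ▸ Set.subset_univ _) (U := U)
      (M2.restrictTensorIso U.ι (Coh.structureModule X) _ ≪≫ M2.tensorIso (Iso.refl _) eU ≪≫ M2.tensorRUnit _)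
    have hgU : genericPoint X ∈ U := hξV
    have hsm : ∀ {K : X.Modules}, Coh.IsCoh K →
        CohB1.support K ⊆ closure {genericPoint X} \ (U : Set X) → md k (fun _ : Fin 1 => L) K = 0 := by
      intro K hK hKs
      have hKd : topologicalKrullDim (CohB1.support K) ≤ ((1 : ℕ) : WithBot ℕ∞) :=
        Snapper.dim_le_of_subset hKs (Snapper.dim_le_of_notMem (isClosed_closure.sdiff U.isOpen) Set.sdiff_subset
          (fun h => h.2 hgU) (d := 1) (by
            rw [hcl, (Homeomorph.Set.univ X).isHomeomorph.topologicalKrullDim_eq, hd]))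
      obtain ⟨T, hT⟩ := exists_finset_top (M1.isClosed_support hK.2) hKd
      rw [md_eq_sum (fun _ => hL) (M1.isClosed_support hK.2) hKd T hT hK subset_rfl]
      refine Finset.sum_eq_zero fun ξ hξ => mul_eq_zero_of_right _ ?_
      have hξ1 : topologicalKrullDim (closure ({ξ} : Set X)) = 1 := by simpa using ((hT ξ).1 hξ).2
      refine hvert' ξ hξ1 ?_
      rcases image_curve (k := k) f hf hξ1 with h | h
      · exact h
      · exfalso
        refine (hKs ((hT ξ).1 hξ).1).2 ?_
        show f ξ ∈ V
        have hgd : topologicalKrullDim (Set.univ : Set C) ≤ ((1 : ℕ) : WithBot ℕ∞) :=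
          (Topology.IsInducing.subtypeVal.topologicalKrullDim_le).trans (by simpa using hdimC.le)
        rw [← eq_of_specializes_of_dim isClosed_univ hgd trivial (by simpa using h)
          (genericPoint_specializes (f ξ))]
        exact (genericPoint_specializes (f (genericPoint X))).mem_open V.isOpen hξV
    have hL1 : ∀ _i : Fin 1, PicF.IsInvertible L := fun _ => hL
    rw [dot, md_cons, md_hom hL1 ψ hW hG, md_hom hL1 φ hW hO,
      hsm (M1.isCoh_cokernel hW.1 hG ψ) c2, hsm (CurveCoh17.isCoh_kernel hW hG.1 ψ) k2,
      hsm (M1.isCoh_cokernel hW.1 hO φ) c1, hsm (CurveCoh17.isCoh_kernel hW hO.1 φ) k1]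
    ring
  -- the horizontal curve
  let ξP : X := ιP (genericPoint P)
  haveI : IsLocallyNoetherian P := LocallyOfFiniteType.isLocallyNoetherian ιP
  have hclP : closure ({ξP} : Set X) = Set.range ιP := by
    rw [show ({ξP} : Set X) = ιP '' {genericPoint P} from (Set.image_singleton).symm,
      ιP.isClosedEmbedding.closure_image_eq, genericPoint_closure, Set.image_univ]
  have hξP : topologicalKrullDim (closure ({ξP} : Set X)) = 1 := by
    rw [hclP, ← (ιP.isEmbedding.toHomeomorph).isHomeomorph.topologicalKrullDim_eq]
    exact hP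
  have hLP' : cdeg k L (ptMod ξP) = 0 := by
    have hQ := CohFound.isCoh_push_closedImm ιP (M1.isCoh_structureModule P)
    have hs : CohB1.support ((Scheme.Modules.pushforward ιP).obj (Coh.structureModule P)) ⊆ closure {ξP} :=
      (CohFound.support_push_subset _ _).trans hclP.ge
    have h := hcdeg P ιP hP hLP
    have hd1 : topologicalKrullDim (closure ({ξP} : Set X)) ≤ ((1 : ℕ) : WithBot ℕ∞) := by simpa using hξP.le
    rw [cdeg, md_eq_sum (fun _ => hL) isClosed_closure hd1 {ξP} (fun x => ⟨fun hx => by
        rw [Finset.mem_singleton.1 hx]; exact ⟨subset_closure rfl, by simpa using hξP⟩, fun hx => Finset.mem_singleton.2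
        (eq_of_specializes_of_dim isClosed_closure hd1 (subset_closure rfl) hx.2
          (specializes_iff_mem_closure.2 hx.1)).symm⟩) hQ hs, Finset.sum_singleton] at h
    refine (mul_eq_zero.1 h).resolve_left (ne_of_gt (lenAt_pos hQ (Snapper.dim_le_of_subset hs hd1) ?_ (by simpa using hξP)))
    exact mem_support_push ιP (genericPoint P)
  have hMP : 0 < cdeg k M (ptMod ξP) := by
    rcases cdeg_pullback (k := k) f hf hξP with ⟨-, hcl⟩ | ⟨h1, c, hc, hce⟩
    · exfalso
      refine hPh.not_subsingleton ?_
      have hone : ∀ q, f (ιP q) = f ξP := fun q => by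
        have h := map_mem_closure f.continuous (hclP.ge ⟨q, rfl⟩) (t := {f ξP}) (by simp)
        rwa [hcl.closure_eq] at h
      rintro _ ⟨a, rfl⟩ _ ⟨b, rfl⟩
      show f (ιP a) = f (ιP b)
      rw [hone a, hone b]
    · rw [hce A hA.1]
      refine mul_pos (Nat.cast_pos.2 hc) (cdeg_pos_of_dim_one hA (isCoh_ptMod _) ?_)
      rw [support_quotMod, show ((ptIdeal (f ξP)).support : Set C) = closure {f ξP} from
        Scheme.IdealSheafData.coe_support_vanishingIdeal _]
      exact h1
  obtain ⟨W, str, hW, hWi, hWd, ⟨AW, hAW⟩, π, _, hπ, hsurj, hgen, hdeg, D, hD, c, hc, hce⟩ :=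
    exists_dot_model (k := k) hd hξP
  letI : W.Over (Spec (CommRingCat.of k)) := ⟨str⟩
  haveI := hW
  haveI := hWi
  haveI := hsurj
  let l := (Scheme.Modules.pullback π).obj L
  let m := (Scheme.Modules.pullback π).obj M
  have hl : PicF.IsInvertible l := Twist.isInvertible_pullback π hL
  have hm : PicF.IsInvertible m := Twist.isInvertible_pullback π hM
  have e : ∀ {A B : X.Modules}, PicF.IsInvertible A → PicF.IsInvertible B →
      dot k ((Scheme.Modules.pullback π).obj A) ((Scheme.Modules.pullback π).obj B) = dot k A B :=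
    fun hA hB => dot_pullback_one π hπ hgen hdeg hWd hA hB
  have hmD : 0 < dot k m D := by rw [hce M hM]; exact mul_pos hc hMP
  obtain ⟨n, hn⟩ := exists_nat_gt ((- dot k D D) / (2 * dot k m D))
  rw [div_lt_iff₀ (by positivity)] at hn
  obtain ⟨H, hH, hHe⟩ := exists_comb (k := k) hWd.le hm hD (n : ℤ) 1
  have hHH : 0 < dot k H H := by
    rw [hHe H hH, dot_comm m H, dot_comm D H, hHe m hm, hHe D hD,
      show dot k m m = 0 from (e hM hM).trans hMM, dot_comm D m]
    push_cast
    nlinarith
  have hHl : dot k H l = 0 := by
    rw [hHe l hl, show dot k m l = 0 from (e hM hL).trans hML, dot_comm D l, hce L hL, hLP']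
    ring
  have hle : dot k l l ≤ 0 := orth hWd hAW hH hl hHH hHl
  have hint : (FGA.intNum k X 2 ![L, L] (Coh.structureModule X) : ℚ) = dot k l l := by
    rw [intNum2 hd.le hL hL, e hL hL]
  refine ⟨?_, fun h0 Y ι _ _ hY => ?_⟩
  · have : (FGA.intNum k X 2 ![L, L] (Coh.structureModule X) : ℚ) ≤ 0 := hint.le.trans hle
    exact_mod_cast this
  · have hll : dot k l l = 0 := by rw [← hint, h0, Int.cast_zero]
    haveI : IsLocallyNoetherian Y := LocallyOfFiniteType.isLocallyNoetherian ι
    have hQ := CohFound.isCoh_push_closedImm ι (M1.isCoh_structureModule Y)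
    have hd1 : topologicalKrullDim (CohB1.support ((Scheme.Modules.pushforward ι).obj (Coh.structureModule Y))) ≤ 1 :=
      (dim_support_push ι _).trans hY.le
    have hzero : cdeg k L ((Scheme.Modules.pushforward ι).obj (Coh.structureModule Y)) = 0 :=
      md_rel_of_integral k (fun a _ => a = 0) rfl (fun _ _ _ _ a b => by rw [a, b, add_zero])
        (fun _ _ _ _ a => by rw [a, mul_zero]) (L := fun _ : Fin 1 => L) (L' := fun _ : Fin 1 => L) (fun _ => hL)
        (fun _ => hL) (fun η hη => by
          have hη1 : topologicalKrullDim (closure ({η} : Set X)) = 1 := by simpa using hη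
          obtain ⟨r, hr, hrη⟩ := exists_curve_over (k := k) π hπ hη1
          rcases cdeg_pullback (k := k) π hπ hr with ⟨-, hcl⟩ | ⟨-, c', hc', hce'⟩
          · rw [hrη] at hcl
            exact absurd hcl (not_isClosed_of_dim_one hη1)
          · have h := hce' L hL
            rw [cdeg_eq_zero_of_hodge hWd hH hl hHH (by rw [dot_comm]; exact hHl) hll.ge hr, hrη] at h
            exact (mul_eq_zero.1 h.symm).resolve_left (Nat.cast_pos.2 hc').ne') hQ (by simpa using hd1)
    have h := intNum_eq_mixedDiff (k := k) hd.le (M := ![L]) (fun i => by fin_cases i; exact hL) hQ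
    rw [cdeg, show (fun _ : Fin 1 => L) = ![L] from funext fun i => by fin_cases i; rfl] at hzero
    simp only [md] at hzero
    rw [hzero, mul_zero] at h
    exact_mod_cast h

end Groth.Agent.S17180
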