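import Groth.Statements.S17181
import Groth.Agent.Lib.GeomIrr18.Roof
import Mathlib.AlgebraicGeometry.Fiber
import Mathlib.AlgebraicGeometry.Morphisms.Flat

set_option autoImplicit false
universe u
open CategoryTheory CategoryTheory.Limits AlgebraicGeometry
open FBase

namespace Groth.Agent.S17181

/-- Let k be a field, C an irreducible k-scheme which is geometrically irreducible over k, and f : X → C
a flat k-morphism locally of finite type with X irreducible. If the generic fibre of f is
geometrically irreducible over the residue field of the generic point of C, then X is geometrically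
irreducible over k. (The published setting is a regular proper surface mapping onto a smooth
projective geometrically irreducible curve with smooth projective geometrically irreducible generic
fibre; the printed argument uses only the hypotheses kept here.) -/
theorem result (k : Type u) [Field k]
    (X C : Scheme.{u}) [X.Over (Spec (CommRingCat.of k))] [C.Over (Spec (CommRingCat.of k))]
    (f : X ⟶ C) [f.IsOver (Spec (CommRingCat.of k))] [IrreducibleSpace X] [IrreducibleSpace C]
    [GeometricallyIrreducible (C ↘ Spec (CommRingCat.of k))] [Flat f] [LocallyOfFiniteType f]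
    [GeometricallyIrreducible (f.fiberToSpecResidueField (genericPoint C))] :
    GeometricallyIrreducible (X ↘ Spec (CommRingCat.of k)) := by
  let gC := C ↘ Spec (CommRingCat.of k)
  refine ⟨geometrically_iff_of_commRing_of_isClosedUnderIsomorphisms.mpr fun K _ _ => ?_⟩
  let s := Spec.map (CommRingCat.ofHom (algebraMap k K))
  let q := Limits.pullback.fst gC s
  let p := Limits.pullback.snd f q
  haveI : IrreducibleSpace ↥(pullback gC s) :=
    GeometricallyIrreducible.geometrically_irreducibleSpace (f := gC) _ _ _ (IsPullback.of_hasPullback _ _)
  haveI : Surjective q := GeomIrr.surjective_fst gC K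
  haveI : Flat p := MorphismProperty.pullback_snd _ _ inferInstance
  let ξ' := genericPoint ↥(pullback gC s)
  obtain ⟨z₀, hz₀⟩ := q.surjective (genericPoint C)
  have hqξ : q ξ' = genericPoint C :=
    (((genericPoint_spec C).specializes trivial).antisymm
      (hz₀ ▸ ((genericPoint_spec ↥(pullback gC s)).specializes (Set.mem_univ z₀)).map q.continuous)).eq.symm
  let t := C.fromSpecResidueField (q ξ')
  let a := Spec.map (q.residueFieldMap ξ')
  haveI : GeometricallyIrreducible (f.fiberToSpecResidueField (q ξ')) := by rw [hqξ]; infer_instance
  haveI : IrreducibleSpace ↥(pullback (Limits.pullback.snd f t) a) :=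
    GeometricallyIrreducible.geometrically_irreducibleSpace (f := f.fiberToSpecResidueField (q ξ')) _ _ _ (IsPullback.of_hasPullback _ _)
  haveI : IrreducibleSpace ↥(p.fiber ξ') := by
    let e : pullback (Limits.pullback.snd f t) a ≅ pullback (Limits.pullback.snd f q) ((pullback gC s).fromSpecResidueField ξ') :=
      pullbackLeftPullbackSndIso f t a ≪≫ pullback.congrHom rfl (Scheme.Hom.SpecMap_residueFieldMap_fromSpecResidueField q ξ') ≪≫
        (pullbackLeftPullbackSndIso f q ((pullback gC s).fromSpecResidueField ξ')).symm
    exact e.hom.homeomorph.irreducibleSpace_iff.mp inferInstance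
  have hfib : IsIrreducible (p ⁻¹' {ξ'}) := by
    rw [← p.range_fiberι, ← Set.image_univ]
    exact (IrreducibleSpace.isIrreducible_univ _).image _ (p.fiberι ξ').continuous.continuousOn
  haveI : IrreducibleSpace ↥(pullback f q) := by
    let g := hfib.genericPoint
    have hg : IsGenericPoint g (closure (p ⁻¹' {ξ'})) := hfib.isGenericPoint_genericPoint_closure
    refine (irreducibleSpace_def _).mpr (show IsIrreducible (Set.univ : Set ↥(pullback f q)) from ?_)
    rw [show (Set.univ : Set ↥(pullback f q)) = closure {g} from (Set.eq_univ_of_forall fun a => ?_).symm]
    · exact isIrreducible_singleton.closure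
    obtain ⟨w, hw, hwa⟩ := GeomIrr.exists_maximal_specializes a
    have hpw : p w = ξ' := (GeomIrr.IsMaximalPt.map p hw _ ((genericPoint_spec ↥(pullback gC s)).specializes trivial)).symm
    rw [hw g (hg.specializes (subset_closure hpw))]
    exact specializes_iff_mem_closure.mp hwa
  have hf : f ≫ gC = X ↘ Spec (CommRingCat.of k) := comp_over f _
  exact (pullbackRightPullbackFstIso gC s f ≪≫ pullback.congrHom hf rfl).hom.homeomorph.irreducibleSpace_iff.mp inferInstance

end Groth.Agent.S17181
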