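import Groth.Statements.S17186
import Groth.Agent.Lib.NodalCrit14.OpenLocus
import Groth.Agent.Lib.CurvOpen16.Line
import Groth.Agent.Lib.RegExt.P1

set_option autoImplicit false
universe u
open CurvSt

namespace Groth.Agent.S17186

open CategoryTheory CategoryTheory.Limits AlgebraicGeometry

set_option linter.style.haveILetI false
set_option backward.isDefEq.respectTransparency false
set_option backward.isDefEq.respectTransparency.types false

theorem locP_nodalFam_iff {S : Scheme.{u}} {X : AlgSp.Sp S} {T : Over S} {f : X ⟶ (AlgSp.yon S).obj T}
    (hflat : AlgSp.LocP @Flat f) (hlfp : AlgSp.LocP @LocallyOfFinitePresentation f) :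
    AlgSp.LocP CurvSt.nodalFam f ↔ AlgSp.LocP (CurvOpen16.allPts fun h a => NodalCrit14.NPt h a) f := by
  constructor
  · intro H U V a b h ha hb w x
    haveI := hlfp a b h ha hb w
    obtain ⟨_, _, hn⟩ := (NodalCrit14.isNodalFamily_iff h.left).1 (H a b h ha hb w)
    intro _; exact hn x
  · intro H U V a b h ha hb w
    haveI := hflat a b h ha hb w
    haveI := hlfp a b h ha hb w
    exact (NodalCrit14.isNodalFamily_iff h.left).2 ⟨inferInstance, inferInstance, fun x =>
      (NodalCrit14.nPt_iff h.left x).1 (H a b h ha hb w x)⟩

open CategoryTheory AlgebraicGeometry in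
/-- Let S be a scheme and consider the category over schemes over S whose objects over T are the
families of curves over T (an algebraic space X over S together with a proper, flat, finitely
presented morphism X → T all of whose fibres have dimension at most one; no marked sections) with
cartesian squares as morphisms. Assume this category is an algebraic stack for the fppf topology
(the algebraicity of the stack of curves). Then the families whose structure morphism is
at-worst-nodal of relative dimension one (read etale locally on scheme charts: flat, locally of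
finite presentation, every fibre with all irreducible components of dimension one and at-worst-nodal
singularities) form an open substack: that condition is closed under isomorphism, the full
subcategory on it is an fppf algebraic stack and its inclusion is representable by open immersions.
Moreover this substack has, over every algebraically closed field over S, an object all of whose
geometric fibres realised as schemes are non-empty (nodal curves exist; the empty family, which
satisfies the nodal condition vacuously, does not count). The source works over the spectrum of the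
integers; over a base scheme S the statement is its base change. -/
theorem result (S : Scheme.{u})
    (hC : AlgSt.IsAlgStack Scheme.fppfPrecoverage (CurvSt.Curves S 0)) :
    AlgSt.IsOpenSubstack (CurvSt.Curves S 0) (fun A => AlgSp.LocP CurvSt.nodalFam A.obj.f) Scheme.fppfPrecoverage ∧
      ∀ (Ω : Type u) [Field Ω] [IsAlgClosed Ω] (t : Spec (CommRingCat.of Ω) ⟶ S),
        Nonempty ((AlgSt.fullSub (CurvSt.Curves S 0) (fun A => AlgSp.LocP CurvSt.nodalFam A.obj.f ∧
          CurvSt.GeomFib (fun _ _ _ X' _ _ => Nonempty ↥X') A.obj)).p.Fiber (Over.mk t)) := by
  refine ⟨?_, fun Ω _ _ t => ?_⟩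
  · rw [funext fun A : (CurvSt.Curves S 0).obj =>
      propext (locP_nodalFam_iff A.property.2.1 A.property.2.2.2.1.1)]
    exact CurvOpen16.isOpenSubstack_curves NodalCrit14.isOpenLocus_nPt hC
  · let X : Over S := Over.mk (CohB1.ProjSpace.toSpec 1 Ω ≫ t)
    let k : X ⟶ Over.mk t := Over.homMk (CohB1.ProjSpace.toSpec 1 Ω) rfl
    haveI : SmoothOfRelativeDimension 1 k.left := CurvOpen16.smoothOfRelativeDimension_one_line (Ω := Ω)
    haveI : IsProper k.left := inferInstanceAs (IsProper (CohB1.ProjSpace.toSpec 1 Ω))
    haveI : Smooth k.left := SmoothOfRelativeDimension.smooth 1 k.left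
    have hA := CurvOpen16.isCurveFam_yon k Fin.elim0 (fun i => i.elim0)
    refine ⟨⟨⟨⟨⟨Over.mk t, (AlgSp.yon S).obj X, (AlgSp.yon S).map k, Fin.elim0, fun i => i.elim0⟩, hA⟩, ?_, ?_⟩, rfl⟩⟩
    · exact (locP_nodalFam_iff hA.2.1 hA.2.2.2.1.1).2
        ((CurvOpen16.locP_iff NodalCrit14.isOpenLocus_nPt hA.2.1 hA.2.2.2.1.1 (AlgSp.repWith_id _ X)
          (AlgSp.repWith_id _ X) (h := k) (Category.id_comp _)).2 fun a =>
            (NodalCrit14.nPt_iff k.left a).2 ⟨Or.inl (by rw [Scheme.Hom.smoothLocus_eq_top]; trivial),
              S2768.result 1 k.left a⟩)
    · intro L _ _ τ X' q i hP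
      obtain ⟨i', rfl⟩ := (AlgSp.yon S).map_surjective i
      have hP' := IsPullback.of_map (AlgSp.yon S)
        ((AlgSp.yon S).map_injective (by simpa only [Functor.map_comp] using hP.w)) hP
      have hP'' := hP'.map (Over.forget S)
      haveI : Surjective k.left := Surjective.mk fun x => by
        haveI := RegExt.isIntegral_projSpace 1 Ω
        exact ⟨genericPoint ↥(CohB1.ProjSpace 1 Ω), Subsingleton.elim (α := Spec (CommRingCat.of Ω)) _ _⟩
      haveI : Surjective q := MorphismProperty.of_isPullback (P := @Surjective) hP'' (inferInstanceAs (Surjective k.left))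
      obtain ⟨x, -⟩ := q.surjective (IsLocalRing.closedPoint L)
      exact ⟨x⟩

end Groth.Agent.S17186
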