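import Groth.Statements.S17196
import Groth.Agent.Lib.StabUniq18.Inter
import Groth.Agent.Lib.Nodal27.Families
-- import your own Groth.Agent.* helpers here

set_option autoImplicit false
universe u
open CurvSt

namespace Groth.Agent.S17196

open CategoryTheory CategoryTheory.Limits AlgebraicGeometry StabUniq18 in
theorem curve_of_prestableFam {C T : Scheme.{u}} {f : C ⟶ T} (h : CurvSt.IsPrestableFam f) {Ω : Type u} [Field Ω]
    [IsAlgClosed Ω] {t : Spec (CommRingCat.of Ω) ⟶ T} {X : Scheme.{u}} [X.Over (Spec (CommRingCat.of Ω))]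
    {i : X ⟶ C} {q : X ⟶ Spec (CommRingCat.of Ω)} (hq : (X ↘ Spec (CommRingCat.of Ω)) = q)
    (hP : IsPullback i q f t) : IsNodalCurve Ω X ∧ ConnectedSpace X := by
  obtain ⟨hp, hnod, hconn⟩ := h
  subst hq
  haveI := hp
  haveI : IsProper (X ↘ Spec (CommRingCat.of Ω)) := MorphismProperty.of_isPullback hP hp
  haveI : IsProper (pullback.snd f t) := MorphismProperty.pullback_snd (P := @IsProper) _ _ hp
  haveI : LocallyOfFiniteType (X ↘ Spec (CommRingCat.of Ω)) := inferInstance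
  refine ⟨?_, hconn Ω t X i _ hP⟩
  have hg : Nodal27.Good (pullback.snd f t) := Nodal27.famGood_of_isNodalFamily f hnod Ω t
  have hg' : Nodal27.Good (X ↘ Spec (CommRingCat.of Ω)) :=
    (Nodal27.good_congr hP.isoPullback hP.isoPullback_hom_snd).2 hg
  obtain ⟨hd, hn⟩ := (Nodal27.good_bar_iff X Ω).1 ((Nodal27.good_bc_iff (L := AlgebraicClosure Ω) (X ↘ Spec (CommRingCat.of Ω))).2 hg')
  exact ⟨inferInstance, hd, hn⟩


open CategoryTheory CategoryTheory.Limits AlgebraicGeometry in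
/-- Let f : C → T be a morphism of schemes which is a prestable family of curves (proper, flat and
locally of finite presentation, every fibre with all irreducible components of dimension one and
at-worst-nodal singularities, every geometric fibre connected) all of whose geometric fibres have
genus g, where g ≥ 2. Suppose c₁ : C → C₁ and c₂ : C → C₂ are morphisms over T to stable families g₁
: C₁ → T, g₂ : C₂ → T of genus g (prestable families all of whose geometric fibres have genus g and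
neither a rational tail nor a rational bridge) such that, for i = 1, 2, for every morphism T₁ → T
and every pair of cartesian squares of schemes producing the base change of c_i (with injective
resolutions on the base-changed source), the map from the structure sheaf to the direct image of the
structure sheaf is an isomorphism and the first higher direct image of the structure sheaf vanishes.
Then there is a unique isomorphism e : C₁ ≅ C₂ with c₁ followed by e equal to c₂. (Scheme total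
spaces, a special case of the source's algebraic spaces; genus at least two as in the existence
statement.) -/
theorem result {C T : Scheme.{u}} (f : C ⟶ T) (g : ℕ)
    (hpre : CurvSt.IsPrestableFam f)
    (hgen : ∀ (Ω : Type u) [Field Ω] [IsAlgClosed Ω] (t : Spec (CommRingCat.of Ω) ⟶ T) (X : Scheme.{u}) (i : X ⟶ C)
      (q : X ⟶ Spec (CommRingCat.of Ω)), IsPullback i q f t → Models.curveGenus Ω X q = g)
    (hg : 2 ≤ g)
    (C₁ : Scheme.{u}) (g₁ : C₁ ⟶ T) (c₁ : C ⟶ C₁) (hc₁ : c₁ ≫ g₁ = f)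
    (hst₁ : CurvSt.IsPrestableFam g₁ ∧
        ∀ (Ω : Type u) [Field Ω] [IsAlgClosed Ω] (t : Spec (CommRingCat.of Ω) ⟶ T) (Y : Scheme.{u}) (i : Y ⟶ C₁)
          (q : Y ⟶ Spec (CommRingCat.of Ω)), IsPullback i q g₁ t →
          Models.curveGenus Ω Y q = g ∧ ∀ (Z : Set ↥Y) (hZ : Z ∈ irreducibleComponents (↥Y : Type u)),
            ¬ Curv2.IsRationalTail Y Z hZ ∧ ¬ @Curv2.IsRationalBridge Ω _ Y ⟨q⟩ Z hZ)
    (hbc₁ : ∀ (T₀ C₀ D₀ : Scheme.{u}) (b : T₀ ⟶ T) (g₀ : D₀ ⟶ T₀) (c₀ : C₀ ⟶ D₀) (pD : D₀ ⟶ C₁) (pC : C₀ ⟶ C)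
        [HasInjectiveResolutions C₀.Modules],
        IsPullback pD g₀ g₁ b → IsPullback pC c₀ c₁ pD →
          IsIso (ClSub.unitToPush c₀) ∧ IsZero ((Coh.Rpush c₀ 1).obj (Coh.structureModule C₀)))
    (C₂ : Scheme.{u}) (g₂ : C₂ ⟶ T) (c₂ : C ⟶ C₂) (hc₂ : c₂ ≫ g₂ = f)
    (hst₂ : CurvSt.IsPrestableFam g₂ ∧
        ∀ (Ω : Type u) [Field Ω] [IsAlgClosed Ω] (t : Spec (CommRingCat.of Ω) ⟶ T) (Y : Scheme.{u}) (i : Y ⟶ C₂)
          (q : Y ⟶ Spec (CommRingCat.of Ω)), IsPullback i q g₂ t →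
          Models.curveGenus Ω Y q = g ∧ ∀ (Z : Set ↥Y) (hZ : Z ∈ irreducibleComponents (↥Y : Type u)),
            ¬ Curv2.IsRationalTail Y Z hZ ∧ ¬ @Curv2.IsRationalBridge Ω _ Y ⟨q⟩ Z hZ)
    (hbc₂ : ∀ (T₀ C₀ D₀ : Scheme.{u}) (b : T₀ ⟶ T) (g₀ : D₀ ⟶ T₀) (c₀ : C₀ ⟶ D₀) (pD : D₀ ⟶ C₂) (pC : C₀ ⟶ C)
        [HasInjectiveResolutions C₀.Modules],
        IsPullback pD g₀ g₂ b → IsPullback pC c₀ c₂ pD →
          IsIso (ClSub.unitToPush c₀) ∧ IsZero ((Coh.Rpush c₀ 1).obj (Coh.structureModule C₀))) :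
    ∃! e : C₁ ≅ C₂, c₁ ≫ e.hom = c₂ := by
  haveI := hpre.1
  haveI := hst₁.1.1
  haveI := hst₂.1.1
  refine StabUniq18.existsUnique_iso f g₁ c₁ g₂ c₂ hc₁ hc₂ hbc₁ hbc₂ ?_
  intro Ω _ _ t X Y₁ Y₂ iX q j₁ r₁ j₂ r₂ d₁ d₂ hX hY₁ hY₂ hq₁ hq₂ hdr₁ hdr₂
  letI : X.Over (Spec (CommRingCat.of Ω)) := ⟨q⟩
  letI : Y₁.Over (Spec (CommRingCat.of Ω)) := ⟨r₁⟩
  letI : Y₂.Over (Spec (CommRingCat.of Ω)) := ⟨r₂⟩
  obtain ⟨hXcur, hXc⟩ := curve_of_prestableFam hpre (q := q) rfl hX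
  obtain ⟨hY₁cur, hcn₁⟩ := curve_of_prestableFam hst₁.1 (q := r₁) rfl hY₁
  obtain ⟨hY₂cur, hcn₂⟩ := curve_of_prestableFam hst₂.1 (q := r₂) rfl hY₂
  haveI : IsProper q := hXcur.proper
  haveI : IsProper r₁ := hY₁cur.proper
  haveI : IsProper r₂ := hY₂cur.proper
  haveI : IsProper (d₁ ≫ r₁) := hdr₁.symm ▸ inferInstance
  haveI : IsProper (d₂ ≫ r₂) := hdr₂.symm ▸ inferInstance
  haveI : IsProper d₁ := IsProper.of_comp d₁ r₁
  haveI : IsProper d₂ := IsProper.of_comp d₂ r₂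
  obtain ⟨hu₁, hz₁⟩ := hbc₁ _ _ _ t r₁ d₁ j₁ iX hY₁ hq₁
  obtain ⟨hu₂, hz₂⟩ := hbc₂ _ _ _ t r₂ d₂ j₂ iX hY₂ hq₂
  haveI := hu₁
  haveI := hu₂
  let x : Fin 0 → X := Fin.elim0
  have hP₁ : StabUniq18.IsPtContr Ω d₁ x := ⟨⟨hXcur, hY₁cur, hXc, hdr₁,
    StabUniq18.isIso_app_of_isIso_unitToPush d₁, StabUniq18.subsingleton_hc_of_isZero_rpush d₁ hz₁⟩,
    fun a => a.elim0, fun a => a.elim0, fun a => a.elim0, fun a => a.elim0, hcn₁⟩
  have hP₂ : StabUniq18.IsPtContr Ω d₂ x := ⟨⟨hXcur, hY₂cur, hXc, hdr₂,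
    StabUniq18.isIso_app_of_isIso_unitToPush d₂, StabUniq18.subsingleton_hc_of_isZero_rpush d₂ hz₂⟩,
    fun a => a.elim0, fun a => a.elim0, fun a => a.elim0, fun a => a.elim0, hcn₂⟩
  have key : ∀ {Y Y' : Scheme.{u}} [Y.Over (Spec (CommRingCat.of Ω))] [Y'.Over (Spec (CommRingCat.of Ω))]
      (d : X ⟶ Y) (d' : X ⟶ Y'), StabUniq18.IsPtContr Ω d x → StabUniq18.IsPtContr Ω d' x →
      2 ≤ Curv2.genus Ω Y' →
      (∀ (Z : Set Y') (hZ : Z ∈ irreducibleComponents (Y' : Type u)),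
        ¬ Curv2.IsRationalTail Y' Z hZ ∧ ¬ Curv2.IsRationalBridge Ω Y' Z hZ) →
      ∀ a b : X, d a = d b → d' a = d' b := by
    intro Y Y' _ _ d d' h h' hg' hnt a b hab
    haveI := h'.connY
    refine StabUniq18.collapse_of_kills h.toIsContr h'.toIsContr (fun E hE hk => ?_) hab
    refine StabUniq18.kills_of_kills h h' (fun W hW hle => ?_) (fun _ => hg') hE hk
    exact h'.toIsContr.target.false_of_P1 hg' hnt hW (le_trans le_self_add hle)
  obtain ⟨hg₁', hnt₁⟩ := hst₁.2 Ω t Y₁ j₁ r₁ hY₁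
  obtain ⟨hg₂', hnt₂⟩ := hst₂.2 Ω t Y₂ j₂ r₂ hY₂
  exact ⟨key d₁ d₂ hP₁ hP₂ (le_of_le_of_eq hg hg₂'.symm) hnt₂, key d₂ d₁ hP₂ hP₁ (le_of_le_of_eq hg hg₁'.symm) hnt₁⟩

end Groth.Agent.S17196
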