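import Groth.Statements.S17207
import Groth.Agent.Lib.StabUniq18.Geo
-- import your own Groth.Agent.* helpers here

set_option autoImplicit false
universe u
open CurvSt

namespace Groth.Agent.S17207

open CategoryTheory CategoryTheory.Limits AlgebraicGeometry StabUniq18 in
theorem markedPt_map {C C' T : Scheme.{u}} {f : C ⟶ T} {g : C' ⟶ T} {n : ℕ} (σ : Fin n → (T ⟶ C))
    (hσ : ∀ i, σ i ≫ f = 𝟙 T) (c : C ⟶ C') (hσ' : ∀ i, (σ i ≫ c) ≫ g = 𝟙 T) {Ω : Type u} [Field Ω]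
    {t : Spec (CommRingCat.of Ω) ⟶ T} {X Y : Scheme.{u}} {iX : X ⟶ C} {q : X ⟶ Spec (CommRingCat.of Ω)}
    {j : Y ⟶ C'} {r : Y ⟶ Spec (CommRingCat.of Ω)} {d : X ⟶ Y} (hX : IsPullback iX q f t) (hY : IsPullback j r g t)
    (hd : d ≫ j = iX ≫ c) (hdr : d ≫ r = q) (i : Fin n) :
    d (markedPt σ hσ hX i) = markedPt (fun i => σ i ≫ c) hσ' hY i := by
  unfold markedPt
  rw [← Scheme.Hom.comp_apply]
  refine congrArg (fun φ : Spec (CommRingCat.of Ω) ⟶ Y => φ (IsLocalRing.closedPoint Ω)) (hY.hom_ext ?_ ?_)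
  · rw [Category.assoc, hd, ← Category.assoc, hX.lift_fst, hY.lift_fst, Category.assoc]
  · rw [Category.assoc, hdr, hX.lift_snd, hY.lift_snd]

open CategoryTheory CategoryTheory.Limits AlgebraicGeometry StabUniq18 in
theorem curve_of_prestable {Ω : Type u} [Field Ω] [IsAlgClosed Ω] {X : Scheme.{u}} [X.Over (Spec (CommRingCat.of Ω))]
    {q : X ⟶ Spec (CommRingCat.of Ω)} (hq : (X ↘ Spec (CommRingCat.of Ω)) = q) (h₁ : IsProper q)
    (h₂ : ConnectedSpace X) (h₃ : topologicalKrullDim X = 1) (h₄ : Curv2.AtWorstNodal Ω X) :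
    IsNodalCurve Ω X := by
  subst hq
  haveI := h₁
  haveI := h₂
  haveI := CohFound.isNoetherian_of_isProper (X ↘ Spec (CommRingCat.of Ω))
  exact ⟨h₁, fun Z hZ => dim_components h₃ Z hZ, h₄⟩


open CategoryTheory CategoryTheory.Limits AlgebraicGeometry in
/-- Let f : C → T be a morphism of schemes with n sections σ_i which is a prestable n-pointed family of
genus g (flat, proper and locally of finite presentation, every geometric fibre with the induced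
marked points a connected at-worst-nodal curve of dimension one with h^1(O) = g and marked points
distinct, closed and in the smooth locus), with 2g − 2 + n > 0. Suppose c₁ : C → C₁ and c₂ : C → C₂
are morphisms over T to schemes g₁ : C₁ → T, g₂ : C₂ → T such that, for i = 1, 2, the family C_i → T
with the sections σ_j followed by c_i is a stable n-pointed family of genus g, and for every
morphism T₀ → T and every pair of cartesian squares of schemes producing the base change of c_i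
(with injective resolutions on the base-changed source) the map from the structure sheaf to the
direct image of the structure sheaf is an isomorphism and the first higher direct image of the
structure sheaf vanishes. Then there is a unique isomorphism e : C₁ ≅ C₂ with c₁ followed by e equal
to c₂. (Scheme total spaces, a special case of the source.) -/
theorem result {C T : Scheme.{u}} (f : C ⟶ T) (n g : ℕ) (σ : Fin n → (T ⟶ C))
    (hσ : ∀ i, σ i ≫ f = 𝟙 T) (hpre : CurvSt.IsPrestablePtdFam f σ hσ g) (hg : 3 ≤ 2 * g + n)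
    (C₁ : Scheme.{u}) (g₁ : C₁ ⟶ T) (c₁ : C ⟶ C₁) (hc₁ : c₁ ≫ g₁ = f)
    (hst₁ : CurvSt.IsStableFam g₁ (fun i => σ i ≫ c₁)
      (fun i => (Category.assoc _ _ _).trans ((congrArg (fun x => σ i ≫ x) hc₁).trans (hσ i))) g)
    (hbc₁ : ∀ (T₀ C₀ D₀ : Scheme.{u}) (b : T₀ ⟶ T) (g₀ : D₀ ⟶ T₀) (c₀ : C₀ ⟶ D₀) (pD : D₀ ⟶ C₁) (pC : C₀ ⟶ C)
        [HasInjectiveResolutions C₀.Modules],
        IsPullback pD g₀ g₁ b → IsPullback pC c₀ c₁ pD →
          IsIso (ClSub.unitToPush c₀) ∧ IsZero ((Coh.Rpush c₀ 1).obj (Coh.structureModule C₀)))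
    (C₂ : Scheme.{u}) (g₂ : C₂ ⟶ T) (c₂ : C ⟶ C₂) (hc₂ : c₂ ≫ g₂ = f)
    (hst₂ : CurvSt.IsStableFam g₂ (fun i => σ i ≫ c₂)
      (fun i => (Category.assoc _ _ _).trans ((congrArg (fun x => σ i ≫ x) hc₂).trans (hσ i))) g)
    (hbc₂ : ∀ (T₀ C₀ D₀ : Scheme.{u}) (b : T₀ ⟶ T) (g₀ : D₀ ⟶ T₀) (c₀ : C₀ ⟶ D₀) (pD : D₀ ⟶ C₂) (pC : C₀ ⟶ C)
        [HasInjectiveResolutions C₀.Modules],
        IsPullback pD g₀ g₂ b → IsPullback pC c₀ c₂ pD →
          IsIso (ClSub.unitToPush c₀) ∧ IsZero ((Coh.Rpush c₀ 1).obj (Coh.structureModule C₀))) :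
    ∃! e : C₁ ≅ C₂, c₁ ≫ e.hom = c₂ := by
  haveI := hpre.2.1
  haveI := hst₁.2.1
  haveI := hst₂.2.1
  refine StabUniq18.existsUnique_iso f g₁ c₁ g₂ c₂ hc₁ hc₂ hbc₁ hbc₂ ?_
  intro Ω _ _ t X Y₁ Y₂ iX q j₁ r₁ j₂ r₂ d₁ d₂ hX hY₁ hY₂ hq₁ hq₂ hdr₁ hdr₂
  obtain ⟨hXp, hXc, hXd, ⟨hXn, -⟩, hxinj, hxreg⟩ := hpre.2.2.2 Ω t X iX q hX
  obtain ⟨hp₁, hcn₁, hd₁, ⟨hn₁, hg₁⟩, hinj₁, hreg₁, hst₁', -⟩ := hst₁.2.2.2 Ω t Y₁ j₁ r₁ hY₁
  obtain ⟨hp₂, hcn₂, hd₂, ⟨hn₂, hg₂⟩, hinj₂, hreg₂, hst₂', -⟩ := hst₂.2.2.2 Ω t Y₂ j₂ r₂ hY₂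
  letI : X.Over (Spec (CommRingCat.of Ω)) := ⟨q⟩
  letI : Y₁.Over (Spec (CommRingCat.of Ω)) := ⟨r₁⟩
  letI : Y₂.Over (Spec (CommRingCat.of Ω)) := ⟨r₂⟩
  have hXcur := curve_of_prestable (q := q) rfl hXp hXc hXd hXn
  have hY₁cur := curve_of_prestable (q := r₁) rfl hp₁ hcn₁ hd₁ hn₁
  have hY₂cur := curve_of_prestable (q := r₂) rfl hp₂ hcn₂ hd₂ hn₂
  haveI := hXp
  haveI := hp₁
  haveI := hp₂
  haveI := hXc
  haveI : LocallyOfFiniteType (X ↘ Spec (CommRingCat.of Ω)) := inferInstanceAs (LocallyOfFiniteType q)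
  haveI : LocallyOfFiniteType (Y₁ ↘ Spec (CommRingCat.of Ω)) := inferInstanceAs (LocallyOfFiniteType r₁)
  haveI : LocallyOfFiniteType (Y₂ ↘ Spec (CommRingCat.of Ω)) := inferInstanceAs (LocallyOfFiniteType r₂)
  haveI : IsProper (d₁ ≫ r₁) := hdr₁.symm ▸ hXp
  haveI : IsProper (d₂ ≫ r₂) := hdr₂.symm ▸ hXp
  haveI : IsProper d₁ := IsProper.of_comp d₁ r₁
  haveI : IsProper d₂ := IsProper.of_comp d₂ r₂
  obtain ⟨hu₁, hz₁⟩ := hbc₁ _ _ _ t r₁ d₁ j₁ iX hY₁ hq₁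
  obtain ⟨hu₂, hz₂⟩ := hbc₂ _ _ _ t r₂ d₂ j₂ iX hY₂ hq₂
  haveI := hu₁
  haveI := hu₂
  have hC₁ : StabUniq18.IsContr Ω d₁ := ⟨hXcur, hY₁cur, hXc, hdr₁,
    StabUniq18.isIso_app_of_isIso_unitToPush d₁, StabUniq18.subsingleton_hc_of_isZero_rpush d₁ hz₁⟩
  have hC₂ : StabUniq18.IsContr Ω d₂ := ⟨hXcur, hY₂cur, hXc, hdr₂,
    StabUniq18.isIso_app_of_isIso_unitToPush d₂, StabUniq18.subsingleton_hc_of_isZero_rpush d₂ hz₂⟩
  let x : Fin n → X := markedPt σ hσ hX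
  have hone : ∀ i, ∀ E ∈ irreducibleComponents (X : Type u), ∀ E' ∈ irreducibleComponents (X : Type u),
      x i ∈ E → x i ∈ E' → E = E' := fun i E hE E' hE' =>
    hXcur.comp_unique (hxreg i).1 (StabUniq18.regular_of_smooth_nbhd (k := Ω) (hxreg i).2) hE hE'
  have hm₁ := markedPt_map σ hσ c₁
    (fun i => (Category.assoc _ _ _).trans ((congrArg (fun x => σ i ≫ x) hc₁).trans (hσ i))) hX hY₁ hq₁.w.symm hdr₁
  have hm₂ := markedPt_map σ hσ c₂
    (fun i => (Category.assoc _ _ _).trans ((congrArg (fun x => σ i ≫ x) hc₂).trans (hσ i))) hX hY₂ hq₂.w.symm hdr₂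
  have hP₁ : StabUniq18.IsPtContr Ω d₁ x := ⟨hC₁, fun a b e => hinj₁ (by simpa [x, hm₁] using e),
    fun i => by rw [show d₁ (x i) = _ from hm₁ i]; exact (hreg₁ i).1,
    fun i => by rw [show d₁ (x i) = _ from hm₁ i]; exact StabUniq18.regular_of_smooth_nbhd (k := Ω) (hreg₁ i).2,
    hone, hcn₁⟩
  have hP₂ : StabUniq18.IsPtContr Ω d₂ x := ⟨hC₂, fun a b e => hinj₂ (by simpa [x, hm₂] using e),
    fun i => by rw [show d₂ (x i) = _ from hm₂ i]; exact (hreg₂ i).1,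
    fun i => by rw [show d₂ (x i) = _ from hm₂ i]; exact StabUniq18.regular_of_smooth_nbhd (k := Ω) (hreg₂ i).2,
    hone, hcn₂⟩
  have key : ∀ {Y Y' : Scheme.{u}} [Y.Over (Spec (CommRingCat.of Ω))] [Y'.Over (Spec (CommRingCat.of Ω))]
      (d : X ⟶ Y) (d' : X ⟶ Y') (y' : Fin n → Y'), StabUniq18.IsPtContr Ω d x → StabUniq18.IsPtContr Ω d' x →
      (∀ i, d' (x i) = y' i) →
      (∀ E, CurvSt.IsSmRatComp Ω Y' (Y' ↘ Spec (CommRingCat.of Ω)) E →
        (3 : ℕ∞) ≤ (CurvSt.meetPts Y' E).encard + (Nat.card {i : Fin n // y' i ∈ E} : ℕ∞)) →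
      Curv2.genus Ω Y' = g → ∀ a b : X, d a = d b → d' a = d' b := by
    intro Y Y' _ _ d d' y' h h' hy hst hgY a b hab
    refine StabUniq18.collapse_of_kills h.toIsContr h'.toIsContr (fun E hE hk => ?_) hab
    refine StabUniq18.kills_of_kills h h' (fun W hW hle => ?_) (fun hn => ?_) hE hk
    · have h3 := hst W hW
      simp only [← hy] at h3
      exact absurd (h3.trans hle) (by decide)
    · rw [hgY]; omega
  exact ⟨key d₁ d₂ _ hP₁ hP₂ hm₂ hst₂' hg₂, key d₂ d₁ _ hP₂ hP₁ hm₁ hst₁' hg₁⟩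

end Groth.Agent.S17207
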