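import Groth.Statements.S17218
import Groth.Agent.Lib.IntShRes5.Aug

set_option autoImplicit false
universe u
open IntSh

namespace Groth.Agent.S17218

open CategoryTheory CategoryTheory.Limits AlgebraicGeometry in
/-- Let π : X → Y be a projective morphism of Noetherian schemes with X and Y connected, F a coherent
O_X-module flat over Y whose support meets every fibre of π in dimension d, and assume that π is
flat or that Y carries an ample invertible module; K^•(X) and K^•(Y) are given through λ-ring models
and π_*^F : K^•(X) → K^•(Y) denotes the push-forward on bundle classes twisted by F. Then the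
augmentation ε (the rank) of π_*^F(x) is zero for every x in F^{d+1} K^•(X); hence the relative
intersection number x ↦ ε(π_*^F(x)) is a homomorphism on F^d K^•(X) vanishing on F^{d+1} K^•(X).
(The source lets X be an arbitrary Noetherian scheme; X is taken connected here so that K^•(X) has a
λ-ring model with integer-valued rank.) -/
theorem result
    {X Y : Scheme.{u}} [IsNoetherian X] [IsNoetherian Y] [ConnectedSpace X] [ConnectedSpace Y] (π : X ⟶ Y)
    (hπ : RelProj.IsProjective π) [HasInjectiveResolutions X.Modules]
    (F : X.Modules) (hF : Coh.IsCoh F) (hFf : FlatMod.IsFlatOver π F)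
    (d : ℕ) (hd : ∀ y : Y, topologicalKrullDim ↥(CohB1.support F ∩ π.base ⁻¹' {y}) = d)
    (hAB : Flat π ∨ ∃ H : Y.Modules, CohB1.IsAmple H)
    (KX : Type u) [CommRing KX] [LambdaRing.LambdaOps KX] (PX : LambdaRing.PosStructure KX)
    (φX : SGA6.Kvb X →+ KX) (hKX : KRR.IsModel X KX PX φX)
    (KY : Type u) [CommRing KY] [LambdaRing.LambdaOps KY] (PY : LambdaRing.PosStructure KY)
    (φY : SGA6.Kvb Y →+ KY) (hKY : KRR.IsModel Y KY PY φY)
    (g : KX →+ KY) (hg : KDet.IsPushF π F φX φY g)
    (x : KX) (hx : x ∈ LambdaRing.gammaFiltration PX (d + 1)) :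
    PY.aug (g x) = 0 := by
  exact Groth.Agent.IntShRes5.aug_push_eq_zero hπ hF hFf (fun y => (hd y).le) hAB hKX hKY hg hx

end Groth.Agent.S17218
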