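import Groth.Statements.S17229
import Groth.Agent.Lib.IntShRes5.Pos

set_option autoImplicit false
universe u
open IntSh

set_option backward.isDefEq.respectTransparency false
set_option backward.isDefEq.respectTransparency.types false
namespace Groth.Agent.S17229

open CategoryTheory CategoryTheory.Limits AlgebraicGeometry in
/-- Let π : X → Y be a projective morphism of Noetherian schemes with X and Y connected, F a coherent
O_X-module flat over Y whose support meets every fibre of π in dimension d, and assume that π is
flat or that Y carries an ample invertible module; K^•(X) and K^•(Y) are given through λ-ring models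
and π_*^F : K^•(X) → K^•(Y) denotes the push-forward on bundle classes twisted by F, with
augmentation ε on K^•(Y). Let E be a locally free O_X-module of rank d + 1 which is a quotient of
the pull-back π^*G of a finite locally free O_Y-module G. Then the relative intersection number
i_{F/Y}(c^d(E)) = ε(π_*^F(γ^d([E] − (d+1)))) is non-negative. (The source also gives a surjection
from a symmetric power of G onto the intersection sheaf of c^{d+1}(E); that clause is not stated.)
(The source lets X be an arbitrary Noetherian scheme; X is taken connected here so that K^•(X) has a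
λ-ring model with integer-valued rank.) -/
theorem result
    {X Y : Scheme.{u}} [IsNoetherian X] [IsNoetherian Y] [ConnectedSpace X] [ConnectedSpace Y] (π : X ⟶ Y)
    (hπ : RelProj.IsProjective π) [HasInjectiveResolutions X.Modules]
    (F : X.Modules) (hF : Coh.IsCoh F) (hFf : FlatMod.IsFlatOver π F)
    (d : ℕ) (hd : ∀ y : Y, topologicalKrullDim ↥(CohB1.support F ∩ π.base ⁻¹' {y}) = d)
    (hAB : Flat π ∨ ∃ H : Y.Modules, CohB1.IsAmple H)
    (KX : Type u) [CommRing KX] [LambdaRing.LambdaOps KX] (PX : LambdaRing.PosStructure KX)
    (φX : SGA6.Kvb X →+ KX) (hKX : KRR.IsModel X KX PX φX)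
    (KY : Type u) [CommRing KY] [LambdaRing.LambdaOps KY] (PY : LambdaRing.PosStructure KY)
    (φY : SGA6.Kvb Y →+ KY) (hKY : KRR.IsModel Y KY PY φY)
    (g : KX →+ KY) (hg : KDet.IsPushF π F φX φY g)
    (G : Y.Modules) (hG : FlatMod.IsFinLocFree G)
    (E : X.Modules) (hE : FlatMod.IsFinLocFreeOfRank (d + 1) E)
    (q : (Scheme.Modules.pullback π).obj G ⟶ E) [Epi q] :
    0 ≤ PY.aug (g (LambdaRing.gamma d (φX (KRR.cl X E) - ((d + 1 : ℕ) : KX)))) := by
  refine Groth.Agent.IntShRes5.aug_push_gamma_nonneg hπ hF hFf (fun y => le_of_eq (hd y)) hAB hKX hKY hg hG hE q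

end Groth.Agent.S17229
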