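import Groth.Statements.S17234
import Groth.Agent.Lib.IntShRes5.Cut

set_option autoImplicit false
universe u
open IntSh

namespace Groth.Agent.S17234

open CategoryTheory CategoryTheory.Limits AlgebraicGeometry in
/-- Let π : X → Y be a projective morphism of Noetherian schemes with X and Y connected, F a coherent
O_X-module flat over Y whose support meets every fibre of π in dimension d, and assume that π is
flat or that Y carries an ample invertible module; K^•(X) and K^•(Y) are given through λ-ring models
and π_*^F : K^•(X) → K^•(Y) denotes the push-forward on bundle classes twisted by F, and det :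
K^•(Y) → Pic(Y) is the determinant. Let L_0, …, L_d be invertible O_X-modules with inverses M_0, …,
M_d, and let s : M_0 → O_X be the dual of an F-regular section σ of L_0, regularity meaning that F ⊗
s : F ⊗ M_0 → F ⊗ O_X is injective; let F_B denote its cokernel, which is F ⊗ O_B for the zero
scheme B of σ, and assume F_B flat over Y. Then the intersection sheaf I_{F/Y}(L_0, …, L_d) = det
π_*^F(∏_{i} (1 − [M_i])) equals I_{F ⊗ O_B/Y}(L_1|_B, …, L_d|_B), computed here as det
π_*^{F_B}(∏_{i ≥ 1} (1 − [M_i])) with the push-forward on bundle classes twisted by the O_X-module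
F_B. (The source lets X be an arbitrary Noetherian scheme; X is taken connected here so that K^•(X)
has a λ-ring model with integer-valued rank.) -/
theorem result
    {X Y : Scheme.{u}} [IsNoetherian X] [IsNoetherian Y] [ConnectedSpace X] [ConnectedSpace Y] (π : X ⟶ Y)
    (hπ : RelProj.IsProjective π) [HasInjectiveResolutions X.Modules]
    (F : X.Modules) (hF : Coh.IsCoh F) (hFf : FlatMod.IsFlatOver π F)
    (d : ℕ) (hd : ∀ y : Y, topologicalKrullDim ↥(CohB1.support F ∩ π.base ⁻¹' {y}) = d)
    (hAB : Flat π ∨ ∃ H : Y.Modules, CohB1.IsAmple H)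
    (KX : Type u) [CommRing KX] [LambdaRing.LambdaOps KX] (PX : LambdaRing.PosStructure KX)
    (φX : SGA6.Kvb X →+ KX) (hKX : KRR.IsModel X KX PX φX)
    (KY : Type u) [CommRing KY] [LambdaRing.LambdaOps KY] (PY : LambdaRing.PosStructure KY)
    (φY : SGA6.Kvb Y →+ KY) (hKY : KRR.IsModel Y KY PY φY)
    (g : KX →+ KY) (hg : KDet.IsPushF π F φX φY g)
    [PicGrp.Law Y] (dt : KY →+ Additive (PicLoc.PicSet Y)) (hdt : KDet.IsDet φY dt)
    (L M : Fin (d + 1) → X.Modules) (hL : ∀ i, PicF.IsInvertible (L i)) (hM : ∀ i, PicF.IsInvertible (M i))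
    (hLM : ∀ i, ClSub.IsInverseOf (L i) (M i))
    (s : M 0 ⟶ Coh.structureModule X) (hreg : Mono (((DCoh.tensorBi (X := X)).obj F).map s))
    (hBf : FlatMod.IsFlatOver π (cokernel (((DCoh.tensorBi (X := X)).obj F).map s)))
    (g₁ : KX →+ KY) (hg₁ : KDet.IsPushF π (cokernel (((DCoh.tensorBi (X := X)).obj F).map s)) φX φY g₁) :
    dt (g (KDet.delta φX M)) = dt (g₁ (KDet.delta φX (Fin.tail M))) := by
  refine congrArg dt ?_
  have h := Groth.Agent.IntShRes5.push_cut hπ hF hFf (fun y => (hd y).le) hAB hKX hKY hg (hM 0) s hreg hBf hg₁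
    (KDet.delta φX (Fin.tail M))
  rw [← h]
  refine congrArg g ?_
  rw [KDet.delta, KDet.delta, Fin.prod_univ_succ]
  rfl

end Groth.Agent.S17234
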