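import Groth.Statements.S17238
import Groth.Agent.Lib.IntShRes5.KosDet

set_option autoImplicit false
universe u
open IntSh

set_option backward.isDefEq.respectTransparency false
set_option backward.isDefEq.respectTransparency.types false
set_option linter.style.haveILetI false
set_option maxHeartbeats 1600000
namespace Groth.Agent.S17238

open Groth.Agent Groth.Agent.IntShRes5 in
open Groth.Agent.ExtFil4 (cl) in
attribute [local instance] ExtFil4.kvbRing in
open CategoryTheory CategoryTheory.Limits AlgebraicGeometry in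
theorem cl_tensorPow {W : Scheme.{u}} {L : W.Modules} (hL : PicF.IsInvertible L) :
    ∀ i : ℕ, cl (CohB1.tensorPow L i) = cl L ^ i
  | 0 => (pow_zero (cl L)).symm
  | i + 1 => by
    rw [pow_succ, ← cl_tensorPow hL i, PBK5.cl_mul (M2.isFinLocFree_of_isInvertible (M2.isInvertible_tensorPow hL i))
      (M2.isFinLocFree_of_isInvertible hL)]
    rfl

open Groth.Agent Groth.Agent.IntShRes5 in
open Groth.Agent.ExtFil4 (cl) in
attribute [local instance] ExtFil4.kvbRing in
open CategoryTheory CategoryTheory.Limits AlgebraicGeometry in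
theorem det_mul_line_pow {Y : Scheme.{u}} [ConnectedSpace Y] {K : Type u} [CommRing K] [LambdaRing.LambdaOps K]
    {P : LambdaRing.PosStructure K} {φ : SGA6.Kvb Y →+ K} (hK : KRR.IsModel Y K P φ)
    [PicGrp.Law Y] {dt : K →+ Additive (PicLoc.PicSet Y)} (hdt : KDet.IsDet φ dt)
    {M : Y.Modules} (hM : PicF.IsInvertible M) (a : SGA6.Kvb Y) : ∀ i : ℕ,
    dt (φ (cl M ^ i * a)) = dt (φ a) + ((i : ℤ) * P.aug (φ a)) • Additive.ofMul (PicGrp.cls M hM)
  | 0 => by simp
  | i + 1 => by
    have haug : P.aug (φ (cl M ^ i * a)) = P.aug (φ a) := by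
      rw [← PBK5.modelHom_apply hK, map_mul, map_pow, PBK5.modelHom_apply hK, PBK5.modelHom_apply hK,
        map_mul, map_pow, show P.aug (φ (cl M)) = 1 from (PBK5.isLine_cl hK hM).2, one_pow, one_mul]
    rw [pow_succ, mul_right_comm, ← PBK5.modelHom_apply hK, map_mul, PBK5.modelHom_apply hK,
      PBK5.modelHom_apply hK, det_mul_line hK hdt hM, det_mul_line_pow hK hdt hM a i, haug, add_assoc, ← add_smul]
    congr 2
    push_cast
    ring


open CategoryTheory CategoryTheory.Limits AlgebraicGeometry in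
/-- Let π : X → Y be a projective morphism of Noetherian schemes with X and Y connected, F a coherent
O_X-module flat over Y whose support meets every fibre of π in dimension d, and assume that π is
flat or that Y carries an ample invertible module; K^•(X) and K^•(Y) are given through λ-ring models
and π_*^F : K^•(X) → K^•(Y) denotes the push-forward on bundle classes twisted by F, det : K^• → Pic
the determinant on Y and on P. Let G be a finite locally free O_Y-module, E a locally free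
O_X-module of rank d + 1 with a surjection π^*G → E, q : P → Y the projective bundle of the dual G^∨
with its universal invertible quotient q^*G^∨ → O(1) and an inverse O(−1) of O(1), and P_X = X ×_Y P
with projections p_1, p_2 (P and P_X Noetherian and connected, with their λ-ring models, the
pull-backs q^*, p_1^*, p_2^* and the push-forward p_{2*}^{p_1^*F} on bundle classes twisted by
p_1^*F). The zero scheme V of the tautological section of p_1^*E ⊗ p_2^*O(1) has class
λ_{-1}(p_1^*[E^∨] · p_2^*[O(−1)]) in K^•(P_X), and the claim is: det_P p_{2*}^{p_1^*F} of that class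
equals, in Pic(P) written additively, q^* det_Y π_*^F(c^{d+1}(E)) + ε(π_*^F(c^d(E))) • [O(1)], where
E^∨ is the dual module, the top Chern class c^{d+1}(E) is represented by λ_{-1}[E^∨] = Σ_i (−1)^i
[Λ^i E^∨] (the class of the Koszul complex of E, which is the representative the printed computation
produces), c^d(E) is represented by γ^d([E] − (d+1)) (its relative intersection number ε(π_*^F(·))
does not depend on the representative), and pulling back classes along q is multiplicative (carried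
as a hypothesis). (X, P, P_X are taken connected so that λ-ring models exist.) -/
theorem result
    {X Y : Scheme.{u}} [IsNoetherian X] [IsNoetherian Y] [ConnectedSpace X] [ConnectedSpace Y] (π : X ⟶ Y)
    (hπ : RelProj.IsProjective π) [HasInjectiveResolutions X.Modules]
    (F : X.Modules) (hF : Coh.IsCoh F) (hFf : FlatMod.IsFlatOver π F)
    (d : ℕ) (hd : ∀ y : Y, topologicalKrullDim ↥(CohB1.support F ∩ π.base ⁻¹' {y}) = d)
    (hAB : Flat π ∨ ∃ H : Y.Modules, CohB1.IsAmple H)
    (KX : Type u) [CommRing KX] [LambdaRing.LambdaOps KX] (PX : LambdaRing.PosStructure KX)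
    (φX : SGA6.Kvb X →+ KX) (hKX : KRR.IsModel X KX PX φX)
    (KY : Type u) [CommRing KY] [LambdaRing.LambdaOps KY] (PY : LambdaRing.PosStructure KY)
    (φY : SGA6.Kvb Y →+ KY) (hKY : KRR.IsModel Y KY PY φY)
    (g : KX →+ KY) (hg : KDet.IsPushF π F φX φY g)
    [PicGrp.Law Y] (dt : KY →+ Additive (PicLoc.PicSet Y)) (hdt : KDet.IsDet φY dt)
    (G : Y.Modules) (hG : FlatMod.IsFinLocFree G)
    (E : X.Modules) (hE : FlatMod.IsFinLocFreeOfRank (d + 1) E)
    (qE : (Scheme.Modules.pullback π).obj G ⟶ E) [Epi qE]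
    {P XP : Scheme.{u}} [IsNoetherian P] [ConnectedSpace P] [IsNoetherian XP] [ConnectedSpace XP]
    (q : P ⟶ Y) (O1 : P.Modules) (u : (Scheme.Modules.pullback q).obj (RefHull.dual G) ⟶ O1)
    (hPB : KRR.IsProjBundle q (RefHull.dual G) O1 u) (hO1 : PicF.IsInvertible O1)
    (Om : P.Modules) (hOm : PicF.IsInvertible Om) (hOOm : ClSub.IsInverseOf O1 Om)
    (p₁ : XP ⟶ X) (p₂ : XP ⟶ P) (hsq : IsPullback p₁ p₂ π q) [HasInjectiveResolutions XP.Modules]
    (KP : Type u) [CommRing KP] [LambdaRing.LambdaOps KP] (PP : LambdaRing.PosStructure KP)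
    (φP : SGA6.Kvb P →+ KP) (hKP : KRR.IsModel P KP PP φP)
    (KPX : Type u) [CommRing KPX] [LambdaRing.LambdaOps KPX] (PPX : LambdaRing.PosStructure KPX)
    (φPX : SGA6.Kvb XP →+ KPX) (hKPX : KRR.IsModel XP KPX PPX φPX)
    (pp₁ : KX →+ KPX) (hpp₁ : KRR.IsPull p₁ φX φPX pp₁)
    (pp₂ : KP →+ KPX) (hpp₂ : KRR.IsPull p₂ φP φPX pp₂)
    (g₂ : KPX →+ KP) (hg₂ : KDet.IsPushF p₂ ((Scheme.Modules.pullback p₁).obj F) φPX φP g₂)
    [PicGrp.Law P] (dtP : KP →+ Additive (PicLoc.PicSet P)) (hdtP : KDet.IsDet φP dtP)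
    (hmul : PicGrp.PullMul q) :
    dtP (g₂ (KRR.lamAlt PPX (pp₁ (φX (KRR.cl X (RefHull.dual E))) * pp₂ (φP (KRR.cl P Om))))) =
      Additive.ofMul (PicGrp.pullHom q hmul (Additive.toMul
          (dt (g (KRR.lamAlt PX (φX (KRR.cl X (RefHull.dual E)))))))) +
        (PY.aug (g (LambdaRing.gamma d (φX (KRR.cl X E) - ((d + 1 : ℕ) : KX))))) •
          Additive.ofMul (PicGrp.cls O1 hO1) := by
  letI := Groth.Agent.ExtFil4.kvbRing (X := X)
  letI := Groth.Agent.ExtFil4.kvbRing (X := Y)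
  letI := Groth.Agent.ExtFil4.kvbRing (X := P)
  letI := Groth.Agent.ExtFil4.kvbRing (X := XP)
  have hEl := Groth.Agent.M2.isFinLocFree_of_ofRank hE
  have hDl : FlatMod.IsFinLocFree (RefHull.dual E) := Groth.Agent.LefFEt11.isFinLocFree_dual hEl
  have hDr : FlatMod.IsFinLocFreeOfRank (d + 1) (RefHull.dual E) := by
    obtain ⟨x₀⟩ := (inferInstance : Nonempty X)
    obtain ⟨e⟩ := Groth.Agent.S16492.Aux.dual_iso (A := E) (Groth.Agent.LFResK5.isCoh_of_isFinLocFree hEl)
    intro x
    obtain ⟨U, hxU, ⟨i⟩⟩ := Groth.Agent.PBK5.Segre.rank_dual hE x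
    exact ⟨U, hxU, ⟨(Scheme.Modules.restrictFunctor U.ι).mapIso e.symm ≪≫ i⟩⟩
  choose L hL hLE using fun i => Groth.Agent.KModel5.hasExt X i (RefHull.dual E) hDl
  let D' := (Scheme.Modules.pullback p₁).obj (RefHull.dual E)
  let O' := (Scheme.Modules.pullback p₂).obj Om
  have hD'r : FlatMod.IsFinLocFreeOfRank (d + 1) D' := Groth.Agent.M2.isFinLocFreeOfRank_pullback p₁ hDr
  have hD' := Groth.Agent.M2.isFinLocFree_of_ofRank hD'r
  have hO' : PicF.IsInvertible O' := PicLoc.isInvertible_pullback p₂ hOm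
  have hO'r := (Groth.Agent.M2.isInvertible_iff_isFinLocFreeOfRank_one O').1 hO'
  have hO'l := Groth.Agent.M2.isFinLocFree_of_ofRank hO'r
  have hT : FlatMod.IsFinLocFreeOfRank (d + 1) (CohB1.tensorMod D' O') := by
    simpa using Groth.Agent.M2.isFinLocFreeOfRank_tensor hD'r hO'r
  have hprod : pp₁ (φX (KRR.cl X (RefHull.dual E))) * pp₂ (φP (KRR.cl P Om)) =
      φPX (KRR.cl XP (CohB1.tensorMod D' O')) := by
    rw [hpp₁ _ hDl, hpp₂ _ (Groth.Agent.M2.isFinLocFree_of_isInvertible hOm)]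
    exact hKPX.map_mul D' O' hD' hO'l
  let a : ℕ → SGA6.Kvb Y := fun i =>
    (AddEquiv.ofBijective φY hKY.bijective).symm (g (φX (Groth.Agent.ExtFil4.cl (L i))))
  have ha : ∀ i, φY (a i) = g (φX (Groth.Agent.ExtFil4.cl (L i))) := fun i =>
    (AddEquiv.ofBijective φY hKY.bijective).apply_symm_apply _
  have hterm : ∀ i, g₂ (LambdaRing.LambdaOps.lam i (φPX (KRR.cl XP (CohB1.tensorMod D' O')))) =
      φP (Groth.Agent.ExtFil4.cl Om ^ i * Groth.Agent.PBK5.pullHom q (a i)) := by
    intro i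
    obtain ⟨N, hN, hNE⟩ := Groth.Agent.KModel5.hasExt XP i _ (Groth.Agent.M2.isFinLocFree_of_ofRank hT)
    have hLp := Groth.Agent.Wedge2.isExtPow_pullback' p₁ (Groth.Agent.M1.isFP_isQCoh (Groth.Agent.M1.isFP_of_isFinLocFree hDl)) (hLE i)
    obtain ⟨e⟩ := Groth.Agent.KoszShH13.extPow_twist hO' i hNE hLp
    rw [hKPX.map_lam i _ N (Groth.Agent.M2.isFinLocFree_of_ofRank hT) hN hNE,
      ← Groth.Agent.IntShRes5.push_baseChange hπ hsq hF hFf (fun y => (hd y).le) hAB hKX hKY hg hg₂]
    refine congrArg g₂ (congrArg φPX ?_)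
    refine (Groth.Agent.PBK5.cl_congr e hN).trans ((Groth.Agent.PBK5.cl_mul (Groth.Agent.M2.isFinLocFree_pullback p₁ (hL i))
      (Groth.Agent.M2.isFinLocFree_of_isInvertible (Groth.Agent.M2.isInvertible_tensorPow hO' i))).symm.trans ?_)
    rw [cl_tensorPow hO' i, map_pow, Groth.Agent.PBK5.pullHom_cl p₂ (Groth.Agent.M2.isFinLocFree_of_isInvertible hOm),
      Groth.Agent.PBK5.pullHom_cl p₁ (hL i), mul_comm]
  have hlamE : ∀ i, LambdaRing.LambdaOps.lam i (φX (KRR.cl X (RefHull.dual E))) = φX (Groth.Agent.ExtFil4.cl (L i)) :=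
    fun i => hKX.map_lam i _ (L i) hDl (hL i) (hLE i)
  obtain ⟨zg, hzg⟩ := hKX.bijective.2 (LambdaRing.gamma d (φX (KRR.cl X E) - ((d + 1 : ℕ) : KX)))
  have hzero := Groth.Agent.IntShRes5.aug_push_eq_zero' hπ hF hFf (fun y => (hd y).le) hAB hKY hg
    (zg + ∑ i ∈ Finset.range (d + 1 + 1), ((-1 : ℤ) ^ i * (i : ℤ)) • Groth.Agent.ExtFil4.cl (L i))
    (fun Z j A hZ hZn hA hdZ => by
      haveI := hZ
      haveI := hZn
      exact Groth.Agent.IntShRes5.pullHom_moment_eq_zero hA hdZ hKX hE hL hLE hzg)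
  simp only [map_add, map_sum, map_zsmul, hzg] at hzero
  simp only [smul_eq_mul] at hzero
  have hstep : ∀ i : ℕ, dtP (φP (Groth.Agent.ExtFil4.cl Om ^ i * Groth.Agent.PBK5.pullHom q (a i))) =
      Additive.ofMul (PicGrp.pullHom q hmul (Additive.toMul (dt (g (φX (Groth.Agent.ExtFil4.cl (L i))))))) +
        ((i : ℤ) * PY.aug (g (φX (Groth.Agent.ExtFil4.cl (L i))))) • Additive.ofMul (PicGrp.cls Om hOm) := by
    intro i
    rw [det_mul_line_pow hKP hdtP hOm, ← Groth.Agent.IntShRes5.det_pullHom hdt hdtP q hmul, ha,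
      ← Groth.Agent.PBK5.isPull_apply (Groth.Agent.PBK5.Segre.isPull_pl (π := q) hKY (φX := φP)),
      Groth.Agent.PBK5.pull_aug hKY hKP (Groth.Agent.PBK5.Segre.isPull_pl hKY), ha]
  have hOm' : Additive.ofMul (PicGrp.cls Om hOm) = -Additive.ofMul (PicGrp.cls O1 hO1) := by
    rw [eq_neg_iff_add_eq_zero, add_comm, ← ofMul_mul, ← ofMul_one]
    refine congrArg Additive.ofMul ?_
    rw [← (PicGrp.cls_eq_one_iff (Groth.Agent.M2.isInvertible_tensor hO1 hOm)).2 hOOm]
    exact Subtype.ext (by rw [PicGrp.mul_val, PicGrp.cls_val, PicGrp.cls_val, PicGrp.cls_val, PicGrp.mulCl_cl])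
  rw [KRR.lamAlt, KRR.lamAlt, hprod, hKPX.aug_cl _ _ hT, hKX.aug_cl _ _ hDr, Int.toNat_natCast]
  simp only [map_sum]
  have hsgn : ∀ {K : Type u} [CommRing K] (i : ℕ) (x : K), (-1 : K) ^ i * x = ((-1 : ℤ) ^ i) • x := by
    intro K _ i x
    rw [zsmul_eq_mul]; push_cast; rfl
  simp only [hsgn, map_zsmul, hterm, hlamE, hstep, toMul_sum, toMul_zsmul, map_prod, map_zpow, ofMul_prod,
    ofMul_zpow, smul_add, Finset.sum_add_distrib, smul_smul, ← Finset.sum_smul]
  rw [hOm', smul_neg, ← neg_smul]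
  congr 2
  rw [← eq_comm, eq_neg_iff_add_eq_zero]
  rw [← hzero]
  refine congrArg₂ (· + ·) rfl (Finset.sum_congr rfl fun i _ => ?_)
  ring

end Groth.Agent.S17238
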