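import Groth.Statements.S17240
import Groth.Agent.Lib.IntShRes5.NormIso
import Groth.Agent.Lib.IntShRes5.Gen
import Groth.Agent.Lib.CurveR1_10.Basic

set_option autoImplicit false
set_option backward.isDefEq.respectTransparency false
set_option linter.style.haveILetI false
universe u
open IntSh

namespace Groth.Agent.S17240

open CategoryTheory CategoryTheory.Limits AlgebraicGeometry in
/-- Let π : X → Y be a projective flat morphism of Noetherian schemes with X and Y connected, of
relative dimension d = 0 (every fibre has Krull dimension 0, so π is finite flat), take λ-ring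
models of K^•(X) and K^•(Y), the push-forward π_* = π_*^{O_X} on bundle classes and the determinant
det : K^•(Y) → Pic(Y), and let L be an invertible O_X-module with inverse M. Then the intersection
sheaf I_{X/Y}(L) = det π_*(δ(L)), δ(L) = 1 − [M], is the norm of L: in Pic(Y) written additively it
equals det[π_*O_X] − det[π_*M] and also det[π_*L] − det[π_*O_X], the direct images π_*O_X, π_*L,
π_*M being finite locally free. (X is taken connected so that K^•(X) has a λ-ring model; the source
allows any X.) -/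
theorem result
    {X Y : Scheme.{u}} [IsNoetherian X] [IsNoetherian Y] [ConnectedSpace X] [ConnectedSpace Y] (π : X ⟶ Y)
    (hπ : RelProj.IsProjective π) [Flat π] [HasInjectiveResolutions X.Modules]
    (hd : ∀ y : Y, topologicalKrullDim (↥(π.fiber y) : Type u) = 0)
    (KX : Type u) [CommRing KX] [LambdaRing.LambdaOps KX] (PX : LambdaRing.PosStructure KX)
    (φX : SGA6.Kvb X →+ KX) (hKX : KRR.IsModel X KX PX φX)
    (KY : Type u) [CommRing KY] [LambdaRing.LambdaOps KY] (PY : LambdaRing.PosStructure KY)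
    (φY : SGA6.Kvb Y →+ KY) (hKY : KRR.IsModel Y KY PY φY)
    (g : KX →+ KY) (hg : KDet.IsPushF π (Coh.structureModule X) φX φY g)
    [PicGrp.Law Y] (dt : KY →+ Additive (PicLoc.PicSet Y)) (hdt : KDet.IsDet φY dt)
    (L M : X.Modules) (hL : PicF.IsInvertible L) (hM : PicF.IsInvertible M) (hLM : ClSub.IsInverseOf L M) :
    dt (g (1 - φX (KRR.cl X M))) =
        dt (φY (KRR.cl Y ((Coh.push π).obj (Coh.structureModule X)))) - dt (φY (KRR.cl Y ((Coh.push π).obj M))) ∧
      dt (g (1 - φX (KRR.cl X M))) =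
        dt (φY (KRR.cl Y ((Coh.push π).obj L))) - dt (φY (KRR.cl Y ((Coh.push π).obj (Coh.structureModule X)))) := by
  classical
  haveI : IsProper π := Groth.Agent.QuotProj11.isProper_of_isProjective hπ
  haveI : IsFinite π := Groth.Agent.IntShRes5.NormIso.isFinite_of_dim π hd
  haveI : LocallyOfFinitePresentation π := inferInstance
  obtain ⟨ψ⟩ := hLM
  have hO := Groth.Agent.M1.isCoh_structureModule X
  have hOf := Groth.Agent.CurveR1_10.isFlatOver_structure π
  have hOlf : FlatMod.IsFinLocFree (Coh.structureModule X) :=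
    Groth.Agent.M2.isFinLocFree_of_isInvertible Groth.Agent.CurveR1_10.isInvertible_structure
  have hdim : ∀ y : Y, topologicalKrullDim ↥{x : X | x ∈ CohB1.support (Coh.structureModule X) ∧ π.base x = y} ≤ (0 : ℕ) := fun y => by
    let i : ↥{x : X | x ∈ CohB1.support (Coh.structureModule X) ∧ π.base x = y} → (π.fiber y : Type u) :=
      fun x => (π.fiberHomeo y).symm ⟨x.1, x.2.2⟩
    have hi : Topology.IsInducing i := (π.fiberHomeo y).symm.isInducing.comp
      (Topology.IsInducing.codRestrict Topology.IsInducing.subtypeVal fun x => x.2.2)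
    exact hi.topologicalKrullDim_le.trans (hd y).le
  have hval : ∀ E : X.Modules, FlatMod.IsFinLocFree E →
      g (φX (KRR.cl X E)) = φY (KRR.cl Y ((Coh.push π).obj E)) := by
    intro E hE
    have hgood : Groth.Agent.IntShRes5.GoodB π (Coh.structureModule X) E :=
      ⟨hE, Groth.Agent.IntShRes5.van_of_support hO hdim hE⟩
    refine (Groth.Agent.IntShRes5.push_cl hO hOf hg hgood).trans (congrArg φY ?_)
    exact Groth.Agent.ExtFil4.cl_iso ((Scheme.Modules.pushforward π).mapIso (Groth.Agent.M2.tensorLUnit E))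
      (hgood.push hO hOf).1
  have hfirst : g (1 - φX (KRR.cl X M)) =
      φY (KRR.cl Y ((Coh.push π).obj (Coh.structureModule X))) - φY (KRR.cl Y ((Coh.push π).obj M)) := by
    rw [← hKX.map_one, map_sub, hval _ hOlf, hval M (Groth.Agent.M2.isFinLocFree_of_isInvertible hM)]
  obtain ⟨n, D₀, hn, hD₀i, hD₀⟩ := Groth.Agent.IntShRes5.exists_det (Groth.Agent.CurveCoh17.isFinLocFree_pushO π)
  have hnL := Groth.Agent.CurveOm17.isFinLocFreeOfRank_pushW π hL hn
  have hnM := Groth.Agent.CurveOm17.isFinLocFreeOfRank_pushW π hM hn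
  obtain ⟨DL, -, hDL⟩ := Groth.Agent.KModel5.hasExt Y n _ (Groth.Agent.M2.isFinLocFree_of_ofRank hnL)
  obtain ⟨DM, -, hDM⟩ := Groth.Agent.KModel5.hasExt Y n _ (Groth.Agent.M2.isFinLocFree_of_ofRank hnM)
  have hDLi := Groth.Agent.Wedge2.isInvertible_top hnL hDL
  have hDMi := Groth.Agent.Wedge2.isInvertible_top hnM hDM
  obtain ⟨e⟩ := Groth.Agent.IntShRes5.NormIso.nonempty_iso (f := π) hL hM ψ hn hD₀ hDL hDM
    (Groth.Agent.M2.isFinLocFree_of_isInvertible hD₀i) (Groth.Agent.M2.isFinLocFree_of_isInvertible hDLi)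
    (Groth.Agent.M2.isFinLocFree_of_isInvertible hDMi)
  have h2 : PicGrp.cls D₀ hD₀i * PicGrp.cls D₀ hD₀i = PicGrp.cls DL hDLi * PicGrp.cls DM hDMi :=
    Subtype.ext (by
      rw [PicGrp.mul_val, PicGrp.mul_val, PicGrp.cls_val, PicGrp.cls_val, PicGrp.cls_val, PicGrp.mulCl_cl, PicGrp.mulCl_cl]
      exact (PicGrp.cl_eq_cl_iff _ _).2 ⟨e⟩)
  have e₀ : dt (φY (KRR.cl Y ((Coh.push π).obj (Coh.structureModule X)))) = Additive.ofMul (PicGrp.cls D₀ hD₀i) :=
    hdt n _ D₀ hD₀i hn hD₀
  have eL : dt (φY (KRR.cl Y ((Coh.push π).obj L))) = Additive.ofMul (PicGrp.cls DL hDLi) :=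
    hdt n _ DL hDLi hnL hDL
  have eM : dt (φY (KRR.cl Y ((Coh.push π).obj M))) = Additive.ofMul (PicGrp.cls DM hDMi) :=
    hdt n _ DM hDMi hnM hDM
  refine ⟨by rw [hfirst, map_sub], ?_⟩
  rw [hfirst, map_sub, e₀, eL, eM, sub_eq_sub_iff_add_eq_add, ← ofMul_mul, ← ofMul_mul, h2]

end Groth.Agent.S17240
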