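import Groth.Statements.S17247
import Groth.Agent.Lib.FunField.GenusOne
-- import your own Groth.Agent.* helpers here

set_option autoImplicit false
open FunFld

namespace Groth.Agent.S17247

/-- Let `K/k` be a function field of one variable of genus one over an algebraically closed field `k` of
characteristic zero (an elliptic curve `E`), `A` a place, and `g ≥ 3` an odd integer. Inside
`H⁰(O_E((2g-2)A)) = L((2g-2)A)` consider `V = L(gA)` (dimension `g`) and any hyperplane `V₁` of it
containing `L((g-2)A)`: `L((g-2)A) ⊆ V₁ ⊆ L(gA)`, `dim V₁ = g - 1`. Vanishing orders are those of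
sections of `O_E((2g-2)A)`: a member `f` vanishes to order at least `n` at a place `Q` when `f ∈
L((2g-2)A - nQ)`, and the weight of `V₁` at `Q` is `∑_{n=1}^{2g-2} dim (V₁ ∩ L((2g-2)A - nQ)) - (g-1
choose 2)` (the sum of the `g - 1` vanishing orders minus `0 + 1 + ⋯ + (g-2)`). Then the weight of
`V₁` at every place `Q ≠ A` is at most `2`. (The published statement is for a smooth elliptic curve
over the complex numbers and allows every odd positive `g`; for `g = 1` the inclusion `O(gA) ⊆
O((2g-2)A)` it uses fails, so `g ≥ 3` here.) -/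
theorem result
    (k K : Type*) [Field k] [IsAlgClosed k] [CharZero k] [Field K] [Algebra k K]
    (hK : FunFld.IsFunctionField k K) (hg1 : FunFld.genus k K = 1)
    (g : ℕ) (hodd : Odd g) (h3 : 3 ≤ g) (A : FunFld.Place k K)
    (V₁ : Submodule k K) (hlo : FunFld.L (Finsupp.single A ((g : ℤ) - 2)) ≤ V₁)
    (hhi : V₁ ≤ FunFld.L (Finsupp.single A (g : ℤ))) (hdim : Module.finrank k ↥V₁ + 1 = g)
    (Q : FunFld.Place k K) (hQ : Q ≠ A) :
    (∑ n ∈ Finset.range (2 * g - 2), Module.finrank k
        ↥(V₁ ⊓ FunFld.L (Finsupp.single A (2 * (g : ℤ) - 2) - Finsupp.single Q ((n : ℤ) + 1)))) ≤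
      (g - 1).choose 2 + 2 := by
  classical
  have h := Groth.Agent.FunField.ff hK
  have hA := Groth.Agent.FunField.deg_eq_one h A
  have hQd := Groth.Agent.FunField.deg_eq_one h Q
  haveI := Groth.Agent.FunField.finiteDimensional_L h (Finsupp.single A (g : ℤ))
  haveI : FiniteDimensional k V₁ := Submodule.finiteDimensional_of_le hhi
  let W : ℤ → ℤ → Submodule k K := fun a m => FunFld.L (Finsupp.single A a - Finsupp.single Q m)
  let c : ℕ → ℕ := fun m => Module.finrank k ↥(V₁ ⊓ W (2 * (g : ℤ) - 2) m)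
  have hle : ∀ m : ℕ, V₁ ⊓ W (2 * (g : ℤ) - 2) m ≤ W g m := by
    rintro m z ⟨hz1, hz2⟩ R
    have h1 := hhi hz1 R
    have h2 := hz2 R
    rcases eq_or_ne R Q with rfl | hR
    · simpa [Finsupp.single_eq_of_ne hQ] using h2
    · simpa [Finsupp.single_eq_of_ne hR] using h1
  have hW : ∀ (a m : ℕ), m < a → (Module.finrank k (W a m) : ℤ) = (a : ℤ) - m := by
    intro a m hm
    have hd : FunFld.Divisor.deg (k := k) (K := K) (Finsupp.single A (a : ℤ) - Finsupp.single Q (m : ℤ)) = (a : ℤ) - m := by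
      rw [Groth.Agent.FunField.deg_sub, Groth.Agent.FunField.deg_single, Groth.Agent.FunField.deg_single, hA, hQd]
      simp
    have := Groth.Agent.FunField.ell_g1 hK hg1 _ (show 1 ≤ FunFld.Divisor.deg (k := k) (K := K) (Finsupp.single A (a : ℤ) - Finsupp.single Q (m : ℤ)) by omega)
    rw [hd] at this
    exact this
  have hneg : ∀ (a m : ℕ), a < m → W a m = ⊥ := by
    intro a m hm
    refine Groth.Agent.FunField.L_eq_bot_of_deg_neg h ?_
    rw [Groth.Agent.FunField.deg_sub, Groth.Agent.FunField.deg_single, Groth.Agent.FunField.deg_single, hA, hQd]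
    omega
  have hprin : ∀ a : ℕ, W a a ≠ ⊥ → ∃ f : K, f ≠ 0 ∧ ∀ R : FunFld.Place k K,
      R.ord f = (Finsupp.single Q (a : ℤ) - Finsupp.single A (a : ℤ) : FunFld.Divisor k K) R := by
    intro a ha
    obtain ⟨f, hf, hf0⟩ := Submodule.exists_mem_ne_zero_of_ne_bot ha
    refine ⟨f, hf0, fun R => ?_⟩
    have hle' : (0 : FunFld.Divisor k K) ≤ FunFld.div k f + (Finsupp.single A (a : ℤ) - Finsupp.single Q (a : ℤ)) := by
      intro S
      have := (Groth.Agent.FunField.mem_L_iff_ord hf0).1 hf S
      rw [Finsupp.add_apply, Groth.Agent.FunField.div_apply h, Finsupp.zero_apply]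
      exact this
    have he := Groth.Agent.FunField.eq_of_le_of_deg h hle' (by
      rw [Groth.Agent.FunField.deg_add, Groth.Agent.FunField.deg_div h, Groth.Agent.FunField.deg_sub,
        Groth.Agent.FunField.deg_single, Groth.Agent.FunField.deg_single, hA, hQd, Groth.Agent.FunField.deg_zero]
      simp)
    have := DFunLike.congr_fun he R
    rw [Finsupp.add_apply, Groth.Agent.FunField.div_apply h, Finsupp.zero_apply, Finsupp.sub_apply] at this
    rw [Finsupp.sub_apply]
    omega
  have hnot : W ((g - 2 : ℕ) : ℤ) ((g - 2 : ℕ) : ℤ) = ⊥ ∨ W (g : ℤ) (g : ℤ) = ⊥ := by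
    by_contra hcon
    push Not at hcon
    obtain ⟨u, hu, hu'⟩ := hprin _ hcon.1
    obtain ⟨v, hv, hv'⟩ := hprin _ hcon.2
    obtain ⟨s, hs⟩ := hodd
    have hw0 : v / (v / u) ^ s ≠ 0 := div_ne_zero hv (pow_ne_zero _ (div_ne_zero hv hu))
    have hord : ∀ R : FunFld.Place k K, R.ord (v / (v / u) ^ s) =
        (Finsupp.single Q (1 : ℤ) - Finsupp.single A (1 : ℤ) : FunFld.Divisor k K) R := by
      intro R
      have hpow : ∀ j : ℕ, R.ord ((v / u) ^ j) = j * (R.ord v - R.ord u) := by
        intro j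
        induction j with
        | zero => simp
        | succ j ih =>
          rw [pow_succ, Groth.Agent.FunField.ord_mul R (pow_ne_zero _ (div_ne_zero hv hu)) (div_ne_zero hv hu), ih,
            Groth.Agent.FunField.ord_div R hv hu]
          push_cast
          ring
      rw [Groth.Agent.FunField.ord_div R hv (pow_ne_zero _ (div_ne_zero hv hu)), hpow, hu', hv']
      simp only [Finsupp.sub_apply, Finsupp.single_apply]
      have hg' : ((g - 2 : ℕ) : ℤ) = (g : ℤ) - 2 := by omega
      have hgs : (g : ℤ) = 2 * (s : ℤ) + 1 := by omega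
      rw [hg', hgs]
      split_ifs <;> ring
    have hmem : v / (v / u) ^ s ∈ FunFld.L (Finsupp.single A 1) := by
      refine (Groth.Agent.FunField.mem_L_iff_ord hw0).2 fun R => ?_
      rw [hord R]
      simp only [Finsupp.sub_apply, Finsupp.single_apply]
      split_ifs <;> omega
    have hl1 := Groth.Agent.FunField.ell_single_one hK (by omega) hA
    have hl0 : FunFld.L (0 : FunFld.Divisor k K) = FunFld.L (Finsupp.single A 1) := by
      haveI := Groth.Agent.FunField.finiteDimensional_L h (Finsupp.single A (1 : ℤ))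
      exact Submodule.eq_of_le_of_finrank_eq (Groth.Agent.FunField.L_mono (Finsupp.single_nonneg.2 zero_le_one))
        (by rw [← FunFld.ell, ← FunFld.ell, Groth.Agent.FunField.ell_zero hK, hl1])
    rw [← hl0, Groth.Agent.FunField.mem_L_iff_ord hw0] at hmem
    have := hmem A
    rw [hord A, Finsupp.sub_apply, Finsupp.single_eq_same, Finsupp.single_eq_of_ne (Ne.symm hQ), Finsupp.zero_apply] at this
    omega
  have hrank : ∀ a m : ℕ, W a m = ⊥ → Module.finrank k (W a m) = 0 := fun a m hb => by rw [hb, finrank_bot]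
  have hc1 : ∀ m : ℕ, c m ≤ Module.finrank k (W g m) := fun m => by
    haveI : FiniteDimensional k (W g m) := Groth.Agent.FunField.finiteDimensional_L h _
    exact Submodule.finrank_mono (hle m)
  have hc2 : ∀ m : ℕ, c m ≤ Module.finrank k (W ((g - 2 : ℕ) : ℤ) m) + 1 := by
    intro m
    show Module.finrank k ↥(V₁ ⊓ W (2 * (g : ℤ) - 2) m) ≤ _
    haveI := Submodule.finiteDimensional_inf_left V₁ (W (2 * (g : ℤ) - 2) m)
    haveI : FiniteDimensional k (W ((g - 2 : ℕ) : ℤ) m) := Groth.Agent.FunField.finiteDimensional_L h _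
    let L₀ := FunFld.L (Finsupp.single A ((g : ℤ) - 2))
    haveI : FiniteDimensional k L₀ := Groth.Agent.FunField.finiteDimensional_L h _
    have h1 := Submodule.finrank_sup_add_finrank_inf_eq (V₁ ⊓ W (2 * (g : ℤ) - 2) m) L₀
    have h2 : Module.finrank k ↥(V₁ ⊓ W (2 * (g : ℤ) - 2) m ⊔ L₀) ≤ Module.finrank k V₁ := Submodule.finrank_mono (sup_le (inf_le_left (b := W (2 * (g : ℤ) - 2) m)) hlo)
    have h3 : Module.finrank k ↥(V₁ ⊓ W (2 * (g : ℤ) - 2) m ⊓ L₀) ≤ Module.finrank k (W ((g - 2 : ℕ) : ℤ) m) := by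
      refine Submodule.finrank_mono ?_
      rintro z ⟨⟨hz1, hz2⟩, hz3⟩ R
      have e3 := hz3 R
      have e2 := hz2 R
      have hgg : ((g - 2 : ℕ) : ℤ) = (g : ℤ) - 2 := by omega
      rcases eq_or_ne R Q with rfl | hR
      · simpa [Finsupp.single_eq_of_ne hQ] using e2
      · simpa [Finsupp.single_eq_of_ne hR, hgg] using e3
    have h4 : (Module.finrank k L₀ : ℤ) = (g : ℤ) - 2 :=
      Groth.Agent.FunField.ell_g1_single hK hg1 hA (by omega)
    omega
  have hsum : ∑ n ∈ Finset.range (2 * g - 2), Module.finrank k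
      ↥(V₁ ⊓ FunFld.L (Finsupp.single A (2 * (g : ℤ) - 2) - Finsupp.single Q ((n : ℤ) + 1))) =
      ∑ n ∈ Finset.range (2 * g - 2), c (n + 1) := Finset.sum_congr rfl fun n _ => by
    show _ = Module.finrank k ↥(V₁ ⊓ W _ _)
    simp only [W]
    rw [Nat.cast_add, Nat.cast_one]
  rw [hsum, show 2 * g - 2 = (g - 3) + 3 + (g - 2) by omega, Finset.sum_range_add, Finset.sum_range_succ, Finset.sum_range_succ,
    Finset.sum_range_succ]
  have hz : ∑ x ∈ Finset.range (g - 2), c (g - 3 + 3 + x + 1) = 0 := Finset.sum_eq_zero fun x _ => by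
    have := hc1 (g - 3 + 3 + x + 1)
    rw [hrank g _ (hneg g _ (by omega))] at this
    omega
  have hlowsum : ∀ N, N + 3 ≤ g → ∑ n ∈ Finset.range N, c (n + 1) + (g - 1 - N).choose 2 ≤ (g - 1).choose 2 := by
    intro N hN
    induction N with
    | zero => simp
    | succ N ih =>
      rw [Finset.sum_range_succ]
      have := ih (by omega)
      have h2 := hc2 (N + 1)
      have h3 := hW (g - 2) (N + 1) (by omega)
      rw [show g - 1 - N = (g - 1 - (N + 1)) + 1 by omega, Nat.choose_succ_succ' _ 1, Nat.choose_one_right] at this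
      simp only [Nat.reduceAdd] at this
      omega
  have hl := hlowsum (g - 3) (by omega)
  rw [show g - 1 - (g - 3) = 2 by omega, Nat.choose_self] at hl
  rw [hz, show g - 3 + 1 = g - 2 by omega, show g - 2 + 1 = g - 1 by omega, show g - 3 + 2 + 1 = g by omega]
  have k1 := hc1 (g - 2)
  have k1' := hW g (g - 2) (by omega)
  have k2 := hc2 (g - 1)
  rw [hrank (g - 2) _ (hneg (g - 2) (g - 1) (by omega))] at k2
  have k3 := hc1 g
  have k4 := hc2 (g - 2)
  have k5 := hc2 g
  rw [hrank (g - 2) _ (hneg (g - 2) g (by omega))] at k5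
  rcases hnot with hb | hb
  · rw [hrank _ _ hb] at k4
    omega
  · rw [hrank _ _ hb] at k3
    omega

end Groth.Agent.S17247
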