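import Groth.Statements.S17248
import Groth.Agent.Lib.FunField.GenusOne
-- import your own Groth.Agent.* helpers here

set_option autoImplicit false
open FunFld

namespace Groth.Agent.S17248

/-- Let `K/k` be a function field of one variable of genus one over an algebraically closed field `k` of
characteristic zero (an elliptic curve `E`), `A` a place, and `g ≥ 3` an integer. Inside
`H⁰(O_E((2g-2)A)) = L((2g-2)A)` consider `V = L(gA)` (dimension `g`) and any hyperplane `V₁` of it
containing `L((g-2)A)`: `L((g-2)A) ⊆ V₁ ⊆ L(gA)`, `dim V₁ = g - 1`. Vanishing orders are those of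
sections of `O_E((2g-2)A)`: a member `f` vanishes to order at least `n` at a place `Q` when `f ∈
L((2g-2)A - nQ)`, and the weight of `V₁` at `Q` is `∑_{n=1}^{2g-2} dim (V₁ ∩ L((2g-2)A - nQ)) - (g-1
choose 2)` (the sum of the `g - 1` vanishing orders minus `0 + 1 + ⋯ + (g-2)`). Then the weight of
`V₁` at `A` is `(g-1)² + ε` with `ε ∈ {0, 1}`. (The published statement is for a smooth elliptic
curve over the complex numbers and `g` odd positive; `g ≥ 3` here since the ambient inclusion needs
it; this row does not assume `g` odd.) -/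
theorem result
    (k K : Type*) [Field k] [IsAlgClosed k] [CharZero k] [Field K] [Algebra k K]
    (hK : FunFld.IsFunctionField k K) (hg1 : FunFld.genus k K = 1)
    (g : ℕ) (h3 : 3 ≤ g) (A : FunFld.Place k K)
    (V₁ : Submodule k K) (hlo : FunFld.L (Finsupp.single A ((g : ℤ) - 2)) ≤ V₁)
    (hhi : V₁ ≤ FunFld.L (Finsupp.single A (g : ℤ))) (hdim : Module.finrank k ↥V₁ + 1 = g) :
    ∃ ε : ℕ, ε ≤ 1 ∧
      (∑ n ∈ Finset.range (2 * g - 2), Module.finrank k
        ↥(V₁ ⊓ FunFld.L (Finsupp.single A (2 * (g : ℤ) - 2) - Finsupp.single A ((n : ℤ) + 1)))) =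
      (g - 1).choose 2 + (g - 1) ^ 2 + ε := by
  classical
  have h := Groth.Agent.FunField.ff hK
  have hA := Groth.Agent.FunField.deg_eq_one h A
  let F : ℕ → ℕ := fun j => Module.finrank k ↥(V₁ ⊓ FunFld.L (Finsupp.single A (j : ℤ)))
  haveI := Groth.Agent.FunField.finiteDimensional_L h (Finsupp.single A (g : ℤ))
  haveI : FiniteDimensional k V₁ := Submodule.finiteDimensional_of_le hhi
  haveI := Submodule.finiteDimensional_inf_left V₁ (FunFld.L (Finsupp.single A ((g : ℤ) - 1)))
  have hmono : ∀ {a b : ℤ}, a ≤ b → FunFld.L (Finsupp.single A a) ≤ FunFld.L (Finsupp.single A b) :=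
    fun hab => Groth.Agent.FunField.L_mono (Finsupp.single_le_single.2 hab)
  have hL : ∀ j : ℕ, 1 ≤ j → (Module.finrank k (FunFld.L (Finsupp.single A (j : ℤ))) : ℤ) = j := fun j hj =>
    Groth.Agent.FunField.ell_g1_single hK hg1 hA (by omega)
  have hlow : ∀ j : ℕ, j + 2 ≤ g → F j = if j = 0 then 1 else j := by
    intro j hj
    have e : F j = Module.finrank k (FunFld.L (Finsupp.single A (j : ℤ))) := by
      show Module.finrank k ↥(V₁ ⊓ _) = _
      rw [inf_eq_right.2 ((hmono (by omega)).trans hlo)]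
    rcases Nat.eq_zero_or_pos j with rfl | hpos
    · rw [e, if_pos rfl, Nat.cast_zero, Finsupp.single_zero]
      exact Groth.Agent.FunField.ell_zero hK
    · rw [if_neg (by omega), e]
      exact_mod_cast hL j hpos
  have hhigh : ∀ j : ℕ, g ≤ j → F j = g - 1 := by
    intro j hj
    show Module.finrank k ↥(V₁ ⊓ _) = _
    rw [inf_eq_left.2 (hhi.trans (hmono (by omega)))]
    omega
  have hm1 : g - 2 ≤ F (g - 1) := by
    have h1 : Module.finrank k (FunFld.L (Finsupp.single A ((g - 2 : ℕ) : ℤ))) ≤ F (g - 1) := by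
      haveI := Submodule.finiteDimensional_inf_left V₁ (FunFld.L (Finsupp.single A ((g - 1 : ℕ) : ℤ)))
      exact Submodule.finrank_mono (le_inf ((hmono (by omega)).trans hlo) (hmono (by omega)))
    have h2 := hL (g - 2) (by omega)
    omega
  have hm2 : F (g - 1) ≤ g - 1 := by
    have := Submodule.finrank_mono (inf_le_left : V₁ ⊓ FunFld.L (Finsupp.single A ((g - 1 : ℕ) : ℤ)) ≤ V₁)
    show Module.finrank k ↥(V₁ ⊓ _) ≤ _
    omega
  refine ⟨F (g - 1) - (g - 2), by omega, ?_⟩
  have hrefl : ∑ n ∈ Finset.range (2 * g - 2), Module.finrank k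
      ↥(V₁ ⊓ FunFld.L (Finsupp.single A (2 * (g : ℤ) - 2) - Finsupp.single A ((n : ℤ) + 1))) =
      ∑ j ∈ Finset.range (2 * g - 2), F j := by
    rw [← Finset.sum_range_reflect F]
    refine Finset.sum_congr rfl fun n hn => ?_
    have := Finset.mem_range.1 hn
    show _ = Module.finrank k ↥(V₁ ⊓ _)
    rw [← Finsupp.single_sub, show 2 * (g : ℤ) - 2 - ((n : ℤ) + 1) = ((2 * g - 2 - 1 - n : ℕ) : ℤ) by omega]
  rw [hrefl, show 2 * g - 2 = (g - 1) + 1 + (g - 2) by omega, Finset.sum_range_add, Finset.sum_range_succ]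
  have h1 : ∀ N, N + 2 ≤ g → ∑ j ∈ Finset.range (N + 1), F j = (N + 1).choose 2 + 1 := by
    intro N hN
    induction N with
    | zero => simpa using hlow 0 hN
    | succ N ih =>
      rw [Finset.sum_range_succ, ih (by omega), hlow (N + 1) hN, if_neg (Nat.succ_ne_zero _),
        Nat.choose_succ_succ' (N + 1) 1, Nat.choose_one_right]
      simp only [Nat.reduceAdd]
      omega
  have h1' := h1 (g - 2) (by omega)
  rw [show g - 2 + 1 = g - 1 by omega] at h1'
  have h2 : ∑ x ∈ Finset.range (g - 2), F (g - 1 + 1 + x) = (g - 2) * (g - 1) := by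
    rw [Finset.sum_congr rfl fun x _ => hhigh (g - 1 + 1 + x) (by omega), Finset.sum_const, Finset.card_range, smul_eq_mul]
  rw [h1', h2]
  obtain ⟨m, rfl⟩ : ∃ m, g = m + 3 := ⟨g - 3, by omega⟩
  simp only [show m + 3 - 2 = m + 1 by omega, show m + 3 - 1 = m + 2 by omega] at hm1 ⊢
  have : (m + 2) ^ 2 = (m + 1) * (m + 2) + (m + 1) + 1 := by ring
  omega

end Groth.Agent.S17248
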