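import Groth.Statements.S17249
import Groth.Agent.Lib.FunField.LinEquiv
-- import your own Groth.Agent.* helpers here

set_option autoImplicit false
open FunFld

namespace Groth.Agent.S17249

/-- Let `K/k` be a function field of one variable of genus two over an algebraically closed field `k` of
characteristic zero (a smooth curve `X` of genus `2`), `C` a canonical divisor, `A` a place with
`ℓ(2A) = 1` (not a Weierstrass point), and `P`, `Q` places with `Q ≠ A`. Then `ℓ(C + 2A - P - 3Q) =
1` and `ℓ(C + 2A - P - Q) = 2` do not both hold: the two-dimensional complete system `H⁰(ω_X(2A -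
P))` (of degree `3`) has no point `Q ≠ A` of weight three. (The published statement concerns a
general pointed curve `(X, A)` of genus two over the complex numbers and a point `P` of `X`; this
row assumes only `ℓ(2A) = 1`.) -/
theorem result
    (k K : Type*) [Field k] [IsAlgClosed k] [CharZero k] [Field K] [Algebra k K]
    (hK : FunFld.IsFunctionField k K) (hg : FunFld.genus k K = 2)
    (C : FunFld.Divisor k K) (hC : FunFld.IsCanonical k K C)
    (A P Q : FunFld.Place k K) (hA : Module.finrank k ↥(FunFld.L (Finsupp.single A (2 : ℤ))) = 1) (hQ : Q ≠ A) :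
    ¬ (Module.finrank k ↥(FunFld.L (C + Finsupp.single A (2 : ℤ) - Finsupp.single P (1 : ℤ) - Finsupp.single Q (3 : ℤ))) = 1 ∧
       Module.finrank k ↥(FunFld.L (C + Finsupp.single A (2 : ℤ) - Finsupp.single P (1 : ℤ) - Finsupp.single Q (1 : ℤ))) = 2) := by
  rintro ⟨-, h2⟩
  have hh := hK.1
  set E := C + Finsupp.single A 2 - Finsupp.single P 1 - Finsupp.single Q 1
  have hCd := Groth.Agent.FunField.isCanonical_deg hK hC
  have hEd : E.deg = 2 := by
    simp only [E, Groth.Agent.FunField.deg_sub, Groth.Agent.FunField.deg_add, Groth.Agent.FunField.deg_single, Groth.Agent.FunField.deg_eq_one hh, hCd.2, hg]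
    norm_num
  have hEc : FunFld.IsCanonical k K E := Groth.Agent.FunField.isCanonical_of_ell_deg hK (by rw [hg]; exact h2) (by rw [hEd, hg]; norm_num)
  obtain ⟨x, hx, he⟩ := Groth.Agent.FunField.isCanonical_sub_isCanonical hK hEc hC
  have hle : Groth.Agent.FunField.LE' (Finsupp.single A 2) (Finsupp.single P 1 + Finsupp.single Q 1 : FunFld.Divisor k K) := by
    refine ⟨x, hx, ?_⟩
    linear_combination (norm := (simp only [E]; abel)) he
  have := Groth.Agent.FunField.eq_of_ell_eq_one hK (Finsupp.single_nonneg.2 (by norm_num))
    (add_nonneg (Finsupp.single_nonneg.2 (by norm_num)) (Finsupp.single_nonneg.2 (by norm_num))) hA hle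
  have := DFunLike.congr_fun this Q
  rw [Finsupp.single_eq_of_ne hQ, Finsupp.add_apply, Finsupp.single_eq_same] at this
  have h3 : (0 : ℤ) ≤ (Finsupp.single P 1 : FunFld.Divisor k K) Q := Finsupp.single_nonneg.2 zero_le_one Q
  omega

end Groth.Agent.S17249
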