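import Groth.Statements.S17250
import Groth.Agent.Lib.FunField.LinEquiv
-- import your own Groth.Agent.* helpers here

set_option autoImplicit false
open FunFld

namespace Groth.Agent.S17250

/-- Let `K/k` be a function field of one variable of genus two over an algebraically closed field `k` of
characteristic zero (a smooth curve `X` of genus `2`), `C` a canonical divisor, `A` a place with
`ℓ(2A) = 1`, and `P`, `Q` places different from `A`. Then `ℓ(C + 3A - P - 4Q) = 1` and `ℓ(C + 3A - P
- 2Q) = 2` do not both hold (the three-dimensional complete system `H⁰(ω_X(3A - P))`, of degree `4`,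
has no point `Q ≠ A` with two independent sections vanishing to order at least `2` there and one
vanishing to order at least `4`). (The published statement concerns a general pointed curve `(X, A)`
of genus two over the complex numbers and a point `P ≠ A`; this row assumes `ℓ(2A) = 1` in place of
generality.) -/
theorem result
    (k K : Type*) [Field k] [IsAlgClosed k] [CharZero k] [Field K] [Algebra k K]
    (hK : FunFld.IsFunctionField k K) (hg : FunFld.genus k K = 2)
    (C : FunFld.Divisor k K) (hC : FunFld.IsCanonical k K C)
    (A P Q : FunFld.Place k K) (hA : Module.finrank k ↥(FunFld.L (Finsupp.single A (2 : ℤ))) = 1) (hP : P ≠ A) (hQ : Q ≠ A) :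
    ¬ (Module.finrank k ↥(FunFld.L (C + Finsupp.single A (3 : ℤ) - Finsupp.single P (1 : ℤ) - Finsupp.single Q (4 : ℤ))) = 1 ∧
       Module.finrank k ↥(FunFld.L (C + Finsupp.single A (3 : ℤ) - Finsupp.single P (1 : ℤ) - Finsupp.single Q (2 : ℤ))) = 2) := by
  rintro ⟨h1, h2⟩
  have hh := hK.1
  have hCd := Groth.Agent.FunField.isCanonical_deg hK hC
  set E := C + Finsupp.single A 3 - Finsupp.single P 1 - Finsupp.single Q 2
  set G := C + Finsupp.single A 3 - Finsupp.single P 1 - Finsupp.single Q 4
  have hEd : E.deg = 2 := by
    simp only [E, Groth.Agent.FunField.deg_sub, Groth.Agent.FunField.deg_add, Groth.Agent.FunField.deg_single, Groth.Agent.FunField.deg_eq_one hh, hCd.2, hg]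
    norm_num
  have hGd : G.deg = 0 := by
    simp only [G, Groth.Agent.FunField.deg_sub, Groth.Agent.FunField.deg_add, Groth.Agent.FunField.deg_single, Groth.Agent.FunField.deg_eq_one hh, hCd.2, hg]
    norm_num
  have hEc : FunFld.IsCanonical k K E := Groth.Agent.FunField.isCanonical_of_ell_deg hK (by rw [hg]; exact h2) (by rw [hEd, hg]; norm_num)
  obtain ⟨x, hx, he⟩ := Groth.Agent.FunField.isCanonical_sub_isCanonical hK hEc hC
  obtain ⟨G', hG', y, hy, rfl⟩ := Groth.Agent.FunField.exists_effective hh (D := G) (by unfold FunFld.ell; omega)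
  have hy0 : 0 = G + FunFld.div k y := Groth.Agent.FunField.eq_of_le_of_deg hh hG' (by
    rw [Groth.Agent.FunField.deg_add, Groth.Agent.FunField.deg_div hh, hGd, Groth.Agent.FunField.deg_zero]; norm_num)
  have hle : Groth.Agent.FunField.LE' (Finsupp.single A 3 - Finsupp.single P 1) C := by
    refine ⟨x * x * y⁻¹, mul_ne_zero (mul_ne_zero hx hx) (inv_ne_zero hy), ?_⟩
    rw [Groth.Agent.FunField.div_mul hh (mul_ne_zero hx hx) (inv_ne_zero hy), Groth.Agent.FunField.div_mul hh hx hx, Groth.Agent.FunField.div_inv hh]
    linear_combination (norm := (simp only [E, G, show (Finsupp.single Q 4 : FunFld.Divisor k K) = Finsupp.single Q 2 + Finsupp.single Q 2 by rw [← Finsupp.single_add]; norm_num]; abel)) he + he - hy0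
  have h3 := hle.ell hh
  rw [hCd.1, hg] at h3
  have h4 := Groth.Agent.FunField.ell_of_large_deg hK (Finsupp.single A 3) (by rw [Groth.Agent.FunField.deg_single, Groth.Agent.FunField.deg_eq_one hh, hg]; norm_num)
  rw [Groth.Agent.FunField.deg_single, Groth.Agent.FunField.deg_eq_one hh, hg] at h4
  have h5 := Groth.Agent.FunField.base_point hK (D := Finsupp.single A 3) (E := Finsupp.single A 3) (P := P)
    (Finsupp.single_nonneg.2 (by norm_num)) (Groth.Agent.FunField.LE'.refl hh _) (by omega)
  rw [Finsupp.single_eq_of_ne hP] at h5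
  omega

end Groth.Agent.S17250
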