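import Groth.Statements.S17251
import Groth.Agent.Lib.FunField.LinEquiv
-- import your own Groth.Agent.* helpers here

set_option autoImplicit false
open FunFld

namespace Groth.Agent.S17251

/-- Let `K/k` be a function field of one variable of genus two over an algebraically closed field `k` of
characteristic zero (a smooth curve `Y` of genus `2`), `C` a canonical divisor, `B` a place with
`ℓ(2B) = 1` (not a Weierstrass point) and `Q ≠ B` a place. Then `ℓ(C + B - 2Q) = 1` and `ℓ(C + 3B -
4Q) = 1` do not both hold: the complete systems `H⁰(ω_Y(B))` (dimension `2`, degree `3`) and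
`H⁰(ω_Y(3B))` (dimension `4`, degree `5`) have no ramification point in common on `Y` minus `B`.
(The published statement concerns a general pointed curve `(Y, B)` of genus two over the complex
numbers; this row assumes only `ℓ(2B) = 1`.) -/
theorem result
    (k K : Type*) [Field k] [IsAlgClosed k] [CharZero k] [Field K] [Algebra k K]
    (hK : FunFld.IsFunctionField k K) (hg : FunFld.genus k K = 2)
    (C : FunFld.Divisor k K) (hC : FunFld.IsCanonical k K C)
    (B Q : FunFld.Place k K) (hB : Module.finrank k ↥(FunFld.L (Finsupp.single B (2 : ℤ))) = 1) (hQ : Q ≠ B) :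
    ¬ (Module.finrank k ↥(FunFld.L (C + Finsupp.single B (1 : ℤ) - Finsupp.single Q (2 : ℤ))) = 1 ∧
       Module.finrank k ↥(FunFld.L (C + Finsupp.single B (3 : ℤ) - Finsupp.single Q (4 : ℤ))) = 1) := by
  rintro ⟨h1, h2⟩
  have hh := hK.1
  have hCd := Groth.Agent.FunField.isCanonical_deg hK hC
  obtain ⟨R, hR⟩ := Groth.Agent.FunField.exists_effective_deg_one hh (D := C + Finsupp.single B 1 - Finsupp.single Q 2)
    (by unfold FunFld.ell; omega) (by simp only [Groth.Agent.FunField.deg_sub, Groth.Agent.FunField.deg_add, Groth.Agent.FunField.deg_single, Groth.Agent.FunField.deg_eq_one hh, hCd.2, hg]; norm_num)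
  obtain ⟨S, hS⟩ := Groth.Agent.FunField.exists_effective_deg_one hh (D := C + Finsupp.single B 3 - Finsupp.single Q 4)
    (by unfold FunFld.ell; omega) (by simp only [Groth.Agent.FunField.deg_sub, Groth.Agent.FunField.deg_add, Groth.Agent.FunField.deg_single, Groth.Agent.FunField.deg_eq_one hh, hCd.2, hg]; norm_num)
  obtain ⟨x, hx, hxe⟩ := hR
  obtain ⟨y, hy, hye⟩ := hS
  have hle : Groth.Agent.FunField.LE' (C + Finsupp.single S 1) (Finsupp.single R 2 + Finsupp.single B 1 : FunFld.Divisor k K) := by
    refine ⟨x * x * y⁻¹, mul_ne_zero (mul_ne_zero hx hx) (inv_ne_zero hy), ?_⟩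
    rw [Groth.Agent.FunField.div_mul hh (mul_ne_zero hx hx) (inv_ne_zero hy), Groth.Agent.FunField.div_mul hh hx hx, Groth.Agent.FunField.div_inv hh,
      show (Finsupp.single R 2 : FunFld.Divisor k K) = Finsupp.single R 1 + Finsupp.single R 1 by
        rw [← Finsupp.single_add]; norm_num]
    linear_combination (norm := skip) hxe + hxe - hye
    simp only [show (Finsupp.single B 3 : FunFld.Divisor k K) = Finsupp.single B 1 + Finsupp.single B 1 + Finsupp.single B 1 by
      rw [← Finsupp.single_add, ← Finsupp.single_add]; norm_num, show (Finsupp.single Q 4 : FunFld.Divisor k K) = Finsupp.single Q 2 + Finsupp.single Q 2 by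
      rw [← Finsupp.single_add]; norm_num]
    abel
  have h4 := Groth.Agent.FunField.ell_of_large_deg hK (C + Finsupp.single S 1) (by
    rw [Groth.Agent.FunField.deg_add, Groth.Agent.FunField.deg_single, Groth.Agent.FunField.deg_eq_one hh, hCd.2, hg]; norm_num)
  rw [Groth.Agent.FunField.deg_add, Groth.Agent.FunField.deg_single, Groth.Agent.FunField.deg_eq_one hh, hCd.2, hg] at h4
  have h5 := Groth.Agent.FunField.base_point hK (P := S) (add_nonneg (Finsupp.single_nonneg.2 (by norm_num)) (Finsupp.single_nonneg.2 (by norm_num))) hle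
    (by rw [add_sub_cancel_right, hCd.1, hg]; omega)
  -- `S` is `R` or `B`
  have hB0 : (0 : FunFld.Divisor k K) ≤ Finsupp.single B 2 := Finsupp.single_nonneg.2 (by norm_num)
  obtain ⟨z, hz, hze⟩ := hle
  rcases eq_or_ne S B with hSB | hSB
  · subst hSB
    have hle2 : Groth.Agent.FunField.LE' C (Finsupp.single R 2) := ⟨z, hz, by
      linear_combination (norm := abel) hze⟩
    have hbp : Groth.Agent.FunField.LE' (C + Finsupp.single S 1) (Finsupp.single Q 2 + Finsupp.single R 1 : FunFld.Divisor k K) :=
      ⟨x, hx, by linear_combination (norm := abel) hxe⟩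
    have h6 := Groth.Agent.FunField.base_point hK (P := S) (add_nonneg (Finsupp.single_nonneg.2 (by norm_num)) (Finsupp.single_nonneg.2 (by norm_num))) hbp
      (by rw [add_sub_cancel_right, hCd.1, hg]; omega)
    rcases eq_or_ne S R with hSR | hSR
    · subst hSR
      have := hle2.ell hh
      rw [hCd.1, hg] at this
      unfold FunFld.ell at this
      omega
    · rw [Finsupp.add_apply, Finsupp.single_eq_of_ne hQ.symm, Finsupp.single_eq_of_ne hSR] at h6
      omega
  · have hSR : S = R := by
      by_contra hne
      rw [Finsupp.add_apply, Finsupp.single_eq_of_ne hne, Finsupp.single_eq_of_ne hSB] at h5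
      omega
    subst hSR
    have hle3 : Groth.Agent.FunField.LE' (Finsupp.single B 2) (Finsupp.single Q 2 : FunFld.Divisor k K) := by
      refine ⟨z⁻¹ * x, mul_ne_zero (inv_ne_zero hz) hx, ?_⟩
      rw [Groth.Agent.FunField.div_mul hh (inv_ne_zero hz) hx, Groth.Agent.FunField.div_inv hh,
        show (Finsupp.single B 2 : FunFld.Divisor k K) = Finsupp.single B 1 + Finsupp.single B 1 by
          rw [← Finsupp.single_add]; norm_num]
      rw [show (Finsupp.single S 2 : FunFld.Divisor k K) = Finsupp.single S 1 + Finsupp.single S 1 by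
          rw [← Finsupp.single_add]; norm_num] at hze
      linear_combination (norm := abel) hxe - hze
    have := Groth.Agent.FunField.eq_of_ell_eq_one hK hB0 (Finsupp.single_nonneg.2 (by norm_num)) hB hle3
    have := DFunLike.congr_fun this Q
    rw [Finsupp.single_eq_of_ne hQ, Finsupp.single_eq_same] at this
    omega

end Groth.Agent.S17251
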