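import Groth.Statements.S17258
import Groth.Agent.S16731
import Groth.Agent.Lib.PointedDeg1
import Groth.Agent.Lib.DlzCurve17.Duality
import Groth.Agent.Lib.CurveH1Min27.NodalOmega
import Groth.Agent.Lib.CurveH1Min27.Pointed0

set_option autoImplicit false
universe u
open Curves

namespace Groth.Agent.S17258


open CategoryTheory CategoryTheory.Limits AlgebraicGeometry TopologicalSpace Groth.Agent Groth.Agent.StabUniq18 Groth.Agent.CurveH1Min27
attribute [local instance] HasDerivedCategory.standard

set_option backward.isDefEq.respectTransparency false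

variable {k : Type u} [Field k] [IsAlgClosed k] {X : Scheme.{u}} [X.Over (Spec (CommRingCat.of k))]
  [IsProper (X ↘ Spec (CommRingCat.of k))]

/-- The genus of a smooth rational component vanishes. -/
theorem genusOn_eq_zero {E : Set X} (hE : E ∈ irreducibleComponents (X : Type u))
    (h : CurvSt.IsSmRatComp k X (X ↘ Spec (CommRingCat.of k)) E) :
    genusOn k (vI E (isClosed_of_mem_irreducibleComponents E hE)) = 0 := by
  obtain ⟨-, e, hec, hek, her⟩ := h
  haveI := hec
  letI : (CohB1.ProjSpace 1 k).Over (Spec (CommRingCat.of k)) := ⟨CohB1.ProjSpace.toSpec 1 k⟩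
  letI : (red (clE hE)).Over (Spec (CommRingCat.of k)) := ⟨redι (clE hE) ≫ (X ↘ Spec (CommRingCat.of k))⟩
  obtain ⟨φ, hφ⟩ : ∃ φ : red (clE hE) ⟶ CohB1.ProjSpace 1 k, φ ≫ e = redι (clE hE) :=
    ⟨IsClosedImmersion.lift e (redι (clE hE)) (by
      rw [show (redι (clE hE)).ker = Scheme.IdealSheafData.vanishingIdeal (clE hE) from
        Scheme.IdealSheafData.ker_subschemeι _]
      refine Scheme.IdealSheafData.le_support_iff_le_vanishingIdeal.1 fun z hz => ?_
      show z ∈ (e.ker.support : Set X)
      rw [Scheme.Hom.support_ker]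
      exact subset_closure (her.symm.subset hz)), IsClosedImmersion.lift_fac _ _ _⟩
  haveI : IsClosedImmersion φ := by
    haveI : IsClosedImmersion (φ ≫ e) := hφ ▸ inferInstance
    exact IsClosedImmersion.of_comp φ e
  haveI : AlgebraicGeometry.IsReduced (CohB1.ProjSpace 1 k) := by
    haveI : SmoothOfRelativeDimension 1 (CohB1.ProjSpace.toSpec 1 k) := ProjSpace.smoothOfRelativeDimension_toSpec 1 k
    haveI : Smooth (CohB1.ProjSpace.toSpec 1 k) := SmoothOfRelativeDimension.smooth 1 _
    haveI : ∀ z : CohB1.ProjSpace 1 k, _root_.IsReduced ((CohB1.ProjSpace 1 k).presheaf.stalk z) := fun z => by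
      haveI := SmoothReg17.isDomain_stalk (CohB1.ProjSpace.toSpec 1 k) z
      infer_instance
    exact isReduced_of_isReduced_stalk _
  haveI : Surjective φ := ⟨fun p => by
    obtain ⟨z, hz⟩ := (mem_range_redι hE).2 (her.subset ⟨p, rfl⟩)
    exact ⟨z, e.isEmbedding.injective (by rw [← Scheme.Hom.comp_apply, hφ]; exact hz)⟩⟩
  haveI : IsIso φ := isIso_of_isClosedImmersion_of_surjective φ
  show Curv2.genus k (red (clE hE)) = 0
  rw [CurveCoh17.genus_eq_of_iso φ (by
    show φ ≫ CohB1.ProjSpace.toSpec 1 k = redι (clE hE) ≫ _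
    rw [← hek, reassoc_of% hφ])]
  exact CurveCoh17.genus_P1 k

/-- A node on a smooth rational component lies on a second component. -/
theorem exists_other (hY : IsNodalCurve k X) {x : X} (hx : Curv2.IsNode k X x) {E : Set X}
    (hE : E ∈ irreducibleComponents (X : Type u)) (hxE : x ∈ E)
    (h : CurvSt.IsSmRatComp k X (X ↘ Spec (CommRingCat.of k)) E) :
    ∃ E' ∈ irreducibleComponents (X : Type u), E' ≠ E ∧ x ∈ E' := by
  by_contra hne
  push Not at hne
  haveI := hY.isReduced
  haveI := CohFound.isNoetherian_of_isProper (X ↘ Spec (CommRingCat.of k))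
  obtain ⟨-, e, hec, hek, her⟩ := h
  haveI := hec
  have hfin : (irreducibleComponents (X : Type u) \ {E}).Finite :=
    NoetherianSpace.finite_irreducibleComponents.diff
  let U : X.Opens := ⟨(⋃ E' ∈ irreducibleComponents (X : Type u) \ {E}, E')ᶜ,
    (hfin.isClosed_biUnion fun E' hE' => isClosed_of_mem_irreducibleComponents E' hE'.1).isOpen_compl⟩
  have hxU : x ∈ U := fun hm => by
    obtain ⟨E', hE', hxE'⟩ := Set.mem_iUnion₂.1 hm
    exact hne E' hE'.1 hE'.2 hxE'
  haveI : AlgebraicGeometry.IsReduced (U : Scheme.{u}) := isReduced_of_isOpenImmersion U.ι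
  haveI : IsClosedImmersion (e ∣_ U) := IsZariskiLocalAtTarget.restrict (P := @IsClosedImmersion) hec U
  haveI : Surjective (e ∣_ U) := ⟨fun y => by
    have hyU : y.1 ∈ U := y.2
    have hy : y.1 ∈ ⋃₀ irreducibleComponents (X : Type u) := by
      rw [sUnion_irreducibleComponents]; trivial
    obtain ⟨E', hE', hyE'⟩ := hy
    by_cases he : E' = E
    · subst he
      obtain ⟨p, hp⟩ := her.symm.subset hyE'
      exact ⟨⟨p, show e p ∈ U by rw [hp]; exact hyU⟩, Subtype.ext ((morphismRestrict_base_coe e U _).trans hp)⟩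
    · exact absurd (Set.mem_biUnion (show E' ∈ irreducibleComponents (X : Type u) \ {E} from ⟨hE', he⟩) hyE') hyU⟩
  haveI : IsIso (e ∣_ U) := isIso_of_isClosedImmersion_of_surjective _
  have hsm : Smooth (U.ι ≫ (X ↘ Spec (CommRingCat.of k))) := by
    haveI : SmoothOfRelativeDimension 1 (CohB1.ProjSpace.toSpec 1 k) := ProjSpace.smoothOfRelativeDimension_toSpec 1 k
    haveI : Smooth (CohB1.ProjSpace.toSpec 1 k) := SmoothOfRelativeDimension.smooth 1 _
    have : U.ι ≫ (X ↘ Spec (CommRingCat.of k)) =
        inv (e ∣_ U) ≫ (e ⁻¹ᵁ U).ι ≫ CohB1.ProjSpace.toSpec 1 k := by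
      rw [IsIso.eq_inv_comp, ← hek, morphismRestrict_ι_assoc]
    rw [this]
    infer_instance
  exact not_isNode_of_surjective hY hx.1 (surjective_of_regular hY hx.1 (regular_of_smooth_nbhd ⟨U, hxU, hsm⟩)) hx

variable [ConnectedSpace X]

/-- The points where a component meets the others are nodes. -/
theorem isNode_of_two (hY : IsNodalCurve k X) {E E' : Set X} (hE : E ∈ irreducibleComponents (X : Type u))
    (hE' : E' ∈ irreducibleComponents (X : Type u)) (hne : E' ≠ E) {x : X} (hx : IsClosed ({x} : Set X))
    (hxE : x ∈ E) (hxE' : x ∈ E') : Curv2.IsNode k X x :=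
  (hY.nodal x hx).resolve_left fun h => hne (hY.comp_unique hx (regular_of_smooth_nbhd h) hE' hE hxE' hxE)

theorem closed_of_mem_bdry (hY : IsNodalCurve k X) (hd : topologicalKrullDim X = 1) {E : Set X}
    (hE : E ∈ irreducibleComponents (X : Type u)) {x : X} (hx : x ∈ E ∩ closure Eᶜ) : IsClosed ({x} : Set X) := by
  haveI := hY.isReduced
  haveI := CohFound.isNoetherian_of_isProper (X ↘ Spec (CommRingCat.of k))
  have hEc := isClosed_of_mem_irreducibleComponents E hE
  have hcs := isComplSub_closure hEc (PointedDeg1.genClosed_component hE)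
  have hfin : (E ∩ closure Eᶜ).Finite := finite_of_no_generic hd.le (hEc.inter isClosed_closure) fun g hg hmem =>
    (hcs.2.2 g hg).1 hmem.2 hmem.1
  haveI : Finite ↥(E ∩ closure Eᶜ) := hfin.to_subtype
  haveI : JacobsonSpace X := LocallyOfFiniteType.jacobsonSpace (X ↘ Spec (CommRingCat.of k))
  have hc : IsClosed (E ∩ closure Eᶜ) := hEc.inter isClosed_closure
  haveI : JacobsonSpace ↥(E ∩ closure Eᶜ) := JacobsonSpace.of_isClosedEmbedding hc.isClosedEmbedding_subtypeVal
  have h := hc.isClosedEmbedding_subtypeVal.isClosedMap {(⟨x, hx⟩ : ↥(E ∩ closure Eᶜ))} (isClosed_discrete _)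
  rwa [Set.image_singleton] at h

theorem meet_eq_nodes (hY : IsNodalCurve k X) (hd : topologicalKrullDim X = 1)
    (hall : ∀ E ∈ irreducibleComponents (X : Type u), CurvSt.IsSmRatComp k X (X ↘ Spec (CommRingCat.of k)) E)
    {E : Set X} (hE : E ∈ irreducibleComponents (X : Type u)) :
    E ∩ closure Eᶜ = {x ∈ {x : X | Curv2.IsNode k X x} | x ∈ E} := by
  have hEc := isClosed_of_mem_irreducibleComponents E hE
  haveI := CohFound.isNoetherian_of_isProper (X ↘ Spec (CommRingCat.of k))
  ext x
  constructor
  · intro hx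
    obtain ⟨hxE, E', hE', hEE, hxE'⟩ := bdry_subset (D := E) hx
    exact ⟨isNode_of_two hY hE hE' (fun h => hEE h.le) (closed_of_mem_bdry hY hd hE hx) hxE hxE', hxE⟩
  · rintro ⟨hn, hxE⟩
    obtain ⟨E', hE', hne, hxE'⟩ := exists_other hY hn hE hxE (hall E hE)
    exact mem_bdry_of_comp hEc hE' (fun h => hne (hE'.eq_of_le hE.1 h |>.trans rfl)) hxE' hxE

theorem two_comps (hY : IsNodalCurve k X)
    (hall : ∀ E ∈ irreducibleComponents (X : Type u), CurvSt.IsSmRatComp k X (X ↘ Spec (CommRingCat.of k)) E)
    {x : X} (hx : Curv2.IsNode k X x) :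
    {E ∈ irreducibleComponents (X : Type u) | x ∈ E}.ncard = 2 := by
  obtain ⟨E, hE, hxE⟩ : x ∈ ⋃₀ irreducibleComponents (X : Type u) := by
    rw [sUnion_irreducibleComponents]; trivial
  obtain ⟨E', hE', hne, hxE'⟩ := exists_other hY hx hE hxE (hall E hE)
  have : {F ∈ irreducibleComponents (X : Type u) | x ∈ F} = {E, E'} := by
    refine Set.Subset.antisymm (fun F hF => ?_) (by rintro F (rfl | rfl) <;> [exact ⟨hE, hxE⟩; exact ⟨hE', hxE'⟩])
    by_contra hc
    simp only [Set.mem_insert_iff, Set.mem_singleton_iff, not_or] at hc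
    refine hY.isContr_id.not_three_branches hx.1 ⟨⟨(⟨E, hE, not_kills_id hY hE⟩, x), hxE⟩, rfl⟩
      ⟨⟨(⟨E', hE', not_kills_id hY hE'⟩, x), hxE'⟩, rfl⟩ ⟨⟨(⟨F, hF.1, not_kills_id hY hF.1⟩, x), hF.2⟩, rfl⟩
      (fun e => hne ?_) (fun e => hc.1 ?_) (fun e => hc.2 ?_)
    · exact (congrArg (fun w : {w : Br (𝟙 X) // (𝟙 X : X ⟶ X) w.1.2 = x} => w.1.1.1.1) e).symm
    · exact (congrArg (fun w : {w : Br (𝟙 X) // (𝟙 X : X ⟶ X) w.1.2 = x} => w.1.1.1.1) e).symm
    · exact (congrArg (fun w : {w : Br (𝟙 X) // (𝟙 X : X ⟶ X) w.1.2 = x} => w.1.1.1.1) e).symm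
  rw [this]
  exact Set.ncard_pair hne.symm

theorem key (hd : topologicalKrullDim X = 1) (hnod : Curv2.AtWorstNodal k X)
    (hall : ∀ E ∈ irreducibleComponents (X : Type u), CurvSt.IsSmRatComp k X (X ↘ Spec (CommRingCat.of k)) E) :
    {x : X | Curv2.IsNode k X x}.Finite ∧ (irreducibleComponents (X : Type u)).Finite ∧
    2 * (Curv2.genus k X : ℤ) - 2 = 2 * ({x : X | Curv2.IsNode k X x}.ncard : ℤ) -
      2 * ((irreducibleComponents (X : Type u)).ncard : ℤ) := by
  classical
  have hY : IsNodalCurve k X := ⟨inferInstance, components_dim_one k X hd, hnod⟩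
  haveI := hY.isReduced
  haveI := CohFound.isNoetherian_of_isProper (X ↘ Spec (CommRingCat.of k))
  let str := X ↘ Spec (CommRingCat.of k)
  haveI : DCoh.HasRpush str := DBC9.hasRpush str
  have h : DCoh.RpushPreservesQCoh str := BC8.rpushPreserves str
  haveI : DCoh.HasShriek str h := BC8.isLeftAdjoint_rpushQ str h
  let OY := BC8.oQ (Spec (CommRingCat.of k))
  have hOY : Nonempty (OY.obj ≅ DCoh.inD (Spec (CommRingCat.of k)) (Coh.structureModule (Spec (CommRingCat.of k)))) :=
    ⟨Iso.refl _⟩
  let ω := DCoh.dualizingMod str h OY 1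
  have hω : PicF.IsInvertible ω := isInvertible_dualizing_nodal k X hd hnod h OY hOY
  obtain ⟨t, ht⟩ := DlzCurve17.exists_trace k X hd h OY hOY
  have ht' : IsTrace k ω t := ht
  have hX := CurveAmple18.curveLike k X hd.le
  have hC : (irreducibleComponents (X : Type u)).Finite := NoetherianSpace.finite_irreducibleComponents
  have hG : (genericPoints (X : Type u)).Finite := genericPoints.finite hC
  -- nodes lie on the meeting points
  have hNsub : {x : X | Curv2.IsNode k X x} ⊆ ⋃ E ∈ irreducibleComponents (X : Type u), E ∩ closure Eᶜ := fun x hx => by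
    obtain ⟨E, hE, hxE⟩ : x ∈ ⋃₀ irreducibleComponents (X : Type u) := by
      rw [sUnion_irreducibleComponents]; trivial
    exact Set.mem_biUnion hE ((meet_eq_nodes hY hd hall hE).symm.subset ⟨hx, hxE⟩)
  have hN : {x : X | Curv2.IsNode k X x}.Finite := by
    refine (hC.biUnion fun E hE => ?_).subset hNsub
    have hEc := isClosed_of_mem_irreducibleComponents E hE
    have hcs := isComplSub_closure hEc (PointedDeg1.genClosed_component hE)
    exact finite_of_no_generic hd.le (hEc.inter isClosed_closure) fun g hg hmem => (hcs.2.2 g hg).1 hmem.2 hmem.1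
  refine ⟨hN, hC, ?_⟩
  -- one component
  have hone : ∀ η ∈ hG.toFinset, TFOne27.delta k ω 1 (TFOne27.OT (closure ({η} : Set X)) isClosed_closure) =
      ((hN.toFinset.filter fun x => x ∈ closure ({η} : Set X)).card : ℤ) - 2 := by
    intro η hη
    have hE : closure ({η} : Set X) ∈ irreducibleComponents (X : Type u) := (hG.mem_toFinset.1 hη)
    have hsupp : ((vI (closure ({η} : Set X)) isClosed_closure).support : Set X) = closure ({η} : Set X) :=
      Scheme.IdealSheafData.coe_support_vanishingIdeal _
    haveI : IrreducibleSpace (vI (closure ({η} : Set X)) isClosed_closure).subscheme :=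
      irreducibleSpace_of_range (vI (closure ({η} : Set X)) isClosed_closure).subschemeι
        (by rw [Scheme.IdealSheafData.range_subschemeι, hsupp]; exact hE.1)
    have hgen := PointedDeg1.genClosed_component hE
    have hcs := isComplSub_closure isClosed_closure hgen
    have hm := NodeMeet1.meet_eq_ncard hY isClosed_closure isClosed_closure hgen hcs.2.1
      (Set.eq_univ_of_forall fun x => (em (x ∈ closure ({η} : Set X))).imp id fun hx => subset_closure hx)
      fun θ hθ he => (hcs.2.2 θ hθ).1 he.2 he.1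
    rw [adjunction hω ht' hd.le isClosed_closure isClosed_closure hcs,
      euler_connected_sub hd.le isClosed_closure inferInstance, hm, genusOn_eq_zero hE (hall _ hE),
      meet_eq_nodes hY hd hall hE]
    rw [← Set.ncard_coe_finset]
    simp only [Finset.coe_filter, Set.Finite.mem_toFinset, Set.mem_setOf_eq]
    push_cast
    ring
  -- the whole curve
  have hfinS : ∀ S : Set X, S ⊆ genericPoints (X : Type u) → IsClosed (span S) := fun S hS =>
    isClosed_span (hG.subset hS)
  have hgu : TFOne27.GenClosed (Set.univ : Set X) := fun x _ => by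
    obtain ⟨E, hE, hxE⟩ : x ∈ ⋃₀ irreducibleComponents (X : Type u) := by
      rw [sUnion_irreducibleComponents]; trivial
    obtain ⟨η, hη, hgen⟩ := TFOne27.exists_generic_of_component hE
    exact ⟨η, hη, trivial, hgen.specializes hxE⟩
  have hsum := delta_eq_sum (k := k) hd.le hω hfinS hG.toFinset Set.univ isClosed_univ hgu
    (by rw [Set.univ_inter, Set.Finite.coe_toFinset])
  rw [TFOne27.delta_univ, Finset.sum_congr rfl hone] at hsum
  have heul : Curv2.euler k X (Coh.structureModule X) = 1 - Curv2.genus k X := by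
    rw [(hX.adm CurveCoh17.isCoh_structureModule).euler_eq,
      le_antisymm (h0_le_one hd.le) (h0_structure_pos (k := k) hX)]
    rfl
  rw [Curv2.deg, euler_trace hω ht' hd.le, heul] at hsum
  have hbij : Set.BijOn (fun η => closure ({η} : Set X)) (genericPoints (X : Type u)) (irreducibleComponents (X : Type u)) := by
    refine ⟨fun η hη => hη, fun a ha b hb hab => ?_, fun E hE => ?_⟩
    · exact TFOne27.mem_genericPoints.mp ha b (specializes_iff_mem_closure.mpr (show a ∈ closure ({b} : Set X) from (show closure ({a} : Set X) = closure ({b} : Set X) from hab) ▸ subset_closure rfl)) |>.symm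
    · obtain ⟨η, hη, hgen⟩ := TFOne27.exists_generic_of_component hE
      exact ⟨η, hη, hgen.def⟩
  have hcard : hG.toFinset.card = (irreducibleComponents (X : Type u)).ncard := by
    rw [← Set.ncard_eq_toFinset_card _ hG, ← hbij.image_eq, Set.ncard_image_of_injOn hbij.injOn]
  have htwo : ∀ x ∈ hN.toFinset, (hG.toFinset.filter fun η => x ∈ closure ({η} : Set X)).card = 2 := fun x hx => by
    rw [← two_comps hY hall (hN.mem_toFinset.1 hx), ← Set.ncard_coe_finset]
    rw [← Set.ncard_image_of_injOn (hbij.injOn.mono (by intro η hη; simp only [Finset.coe_filter, Set.Finite.mem_toFinset] at hη; exact hη.1))]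
    congr 1
    ext E
    simp only [Finset.coe_filter, Set.Finite.mem_toFinset, Set.mem_image, Set.mem_setOf_eq]
    constructor
    · rintro ⟨η, ⟨hη, hxη⟩, rfl⟩
      exact ⟨hη, hxη⟩
    · rintro ⟨hE, hxE⟩
      obtain ⟨η, hη, rfl⟩ := hbij.surjOn hE
      exact ⟨η, ⟨hη, hxE⟩, rfl⟩
  have hdc : ∑ η ∈ hG.toFinset, (hN.toFinset.filter fun x => x ∈ closure ({η} : Set X)).card = 2 * hN.toFinset.card := by
    simp only [Finset.card_filter]
    rw [Finset.sum_comm, Finset.sum_congr rfl fun x hx => (Finset.card_filter _ _).symm.trans (htwo x hx)]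
    simp [mul_comm]
  rw [Finset.sum_sub_distrib, ← Nat.cast_sum, hdc, Finset.sum_const, hcard, ← Set.ncard_eq_toFinset_card _ hN] at hsum
  simp only [nsmul_eq_mul] at hsum
  push_cast at hsum
  linarith



open CategoryTheory AlgebraicGeometry in
/-- Let Ω be an algebraically closed field of characteristic zero and let C be a scheme proper over Ω
which is connected, of dimension one and has at-worst-nodal singularities. Then the first cohomology
of the structure sheaf of C vanishes if and only if C is a rational tree: every irreducible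
component of C is the image of a closed immersion of the projective line over Ω, and the number of
nodes of C plus one equals the number of irreducible components. (The source phrases the second
condition as the absence of closed chains of components; for a connected nodal curve whose
components are projective lines the two conditions agree, a connected graph being a tree exactly
when it has one more vertex than edges. The source takes Ω an algebraically closed extension of the
complex numbers.) -/
theorem result (Ω : Type u) [Field Ω] [IsAlgClosed Ω] [CharZero Ω]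
    (C : Scheme.{u}) [C.Over (Spec (CommRingCat.of Ω))] [IsProper (C ↘ Spec (CommRingCat.of Ω))]
    [ConnectedSpace ↥C] (hdim : topologicalKrullDim ↥C = 1) (hnod : Curv2.AtWorstNodal Ω C) :
    Curv2.genus Ω C = 0 ↔
      ((∀ E ∈ irreducibleComponents (↥C : Type u), CurvSt.IsSmRatComp Ω C (C ↘ Spec (CommRingCat.of Ω)) E) ∧
        {x : ↥C | Curv2.IsNode Ω C x}.encard + 1 = (irreducibleComponents (↥C : Type u)).encard) := by
  have hY : IsNodalCurve Ω C := ⟨inferInstance, components_dim_one Ω C hdim, hnod⟩
  haveI := hY.isReduced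
  haveI := CohFound.isNoetherian_of_isProper (C ↘ Spec (CommRingCat.of Ω))
  constructor
  · intro hg
    have hall : ∀ E ∈ irreducibleComponents (↥C : Type u), CurvSt.IsSmRatComp Ω C (C ↘ Spec (CommRingCat.of Ω)) E := by
      intro E hE
      refine S16731.isSmRatComp_of_h1 hY hE ?_
      letI : (red (clE hE)).Over (Spec (CommRingCat.of Ω)) := ⟨redι (clE hE) ≫ (C ↘ Spec (CommRingCat.of Ω))⟩
      haveI : IsProper (red (clE hE) ↘ Spec (CommRingCat.of Ω)) :=
        inferInstanceAs (IsProper (redι (clE hE) ≫ (C ↘ Spec (CommRingCat.of Ω))))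
      haveI : Module.Finite Ω (Coh.HH (red (clE hE)) (Coh.structureModule (red (clE hE))) 1) :=
        CohFound.finite_HH_of_isProper _ CurveCoh17.isCoh_structureModule 1
      exact Module.finrank_zero_iff.1
        (Nat.le_zero.1 ((h1_OT_le (k := Ω) hdim.le E (isClosed_of_mem_irreducibleComponents E hE)).trans_eq hg))
    refine ⟨hall, ?_⟩
    obtain ⟨hN, hC, he⟩ := key hdim hnod hall
    rw [hg] at he
    rw [← hN.cast_ncard_eq, ← hC.cast_ncard_eq]
    norm_cast
    omega
  · rintro ⟨hall, hcard⟩
    obtain ⟨hN, hC, he⟩ := key hdim hnod hall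
    rw [← hN.cast_ncard_eq, ← hC.cast_ncard_eq] at hcard
    norm_cast at hcard
    omega

end Groth.Agent.S17258
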