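import Groth.Statements.S17259
import Mathlib
import Groth.Agent.S15706

set_option autoImplicit false
open CAlg

namespace Groth.Agent.S17259
open Polynomial TensorProduct

/-- Let A, B, C be rings, f : B → A and g : B → C ring homomorphisms, and φ : A → B a homomorphism of
additive groups such that the sequence A → B → C → 0 (maps φ, g) is exact and f ∘ φ is
multiplication by a central element a of A which is not a zero divisor. Then the projection p : A →
A/(a) composed with f factors through g as a ring homomorphism q : C → A/(a), the homomorphism (f,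
g) : B → A × C is injective, and its image is the fibre product of A and C over A/(a) along p and q;
thus (f, g) is a ring isomorphism from B onto that fibre product. (The two-sidedness of the ideal
generated by a, automatic for a central element, is carried as an instance hypothesis.) -/
theorem result {A B C : Type*} [Ring A] [Ring B] [Ring C]
    (f : B →+* A) (g : B →+* C) (φ : A →+ B) (a : A)
    (hc : ∀ x : A, Commute a x) (ha : a ∈ nonZeroDivisors A)
    (hex : Function.Exact φ g) (hg : Function.Surjective g)
    (hφ : ∀ x : A, f (φ x) = a * x)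
    [(Ideal.span ({a} : Set A)).IsTwoSided] :
    ∃ q : C →+* A ⧸ Ideal.span ({a} : Set A),
      q.comp g = (Ideal.Quotient.mk (Ideal.span ({a} : Set A))).comp f ∧
      Function.Injective (f.prod g) ∧
      (f.prod g).range = (Ideal.Quotient.mk (Ideal.span ({a} : Set A))).pullback q := by
  have hker : RingHom.ker g ≤ RingHom.ker ((Ideal.Quotient.mk (Ideal.span ({a} : Set A))).comp f) := by
    intro b hb
    obtain ⟨x, rfl⟩ := (hex b).1 hb
    rw [RingHom.mem_ker, RingHom.comp_apply, Ideal.Quotient.eq_zero_iff_mem, hφ, (hc x).eq]
    exact Ideal.mem_span_singleton'.2 ⟨x, rfl⟩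
  refine ⟨RingHom.liftOfSurjective g hg ⟨_, hker⟩, ?_, ?_, ?_⟩
  · exact RingHom.liftOfRightInverse_comp g _ _ _
  · rw [injective_iff_map_eq_zero]
    intro b hb
    simp only [RingHom.prod_apply, Prod.mk_eq_zero] at hb
    obtain ⟨x, rfl⟩ := (hex b).1 hb.2
    have h0 : a * x = 0 := (hφ x).symm.trans hb.1
    rw [(mem_nonZeroDivisors_iff.1 ha).1 x h0, map_zero]
  · have hq : ∀ b, RingHom.liftOfSurjective g hg ⟨_, hker⟩ (g b) = Ideal.Quotient.mk (Ideal.span ({a} : Set A)) (f b) :=
      RingHom.liftOfRightInverse_comp_apply g _ _ ⟨_, hker⟩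
    ext ⟨u, w⟩
    constructor
    · rintro ⟨b, hb⟩
      cases hb
      exact (hq b).symm
    · intro h
      obtain ⟨b, rfl⟩ := hg w
      have h2 : Ideal.Quotient.mk (Ideal.span ({a} : Set A)) u = Ideal.Quotient.mk _ (f b) := h.trans (hq b)
      obtain ⟨x, hx⟩ := Ideal.mem_span_singleton'.1 (Ideal.Quotient.eq.1 h2)
      refine ⟨b + φ x, ?_⟩
      ext
      · simp [hφ, (hc x).eq, hx]
      · simp [hex.apply_apply_eq_zero]

end Groth.Agent.S17259
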