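import Groth.Statements.S17262
import Groth.Agent.Lib.TreeSq1
import Groth.Agent.Lib.CurveH1Min27.NodalOmega
import Groth.Agent.Lib.DlzCurve17.Duality

set_option autoImplicit false
universe u
open CategoryTheory CategoryTheory.Limits AlgebraicGeometry
attribute [local instance] HasDerivedCategory.standard
open Curves

namespace Groth.Agent.S17262




/-- Let Ω be an algebraically closed field of characteristic zero and C a scheme proper over Ω which is
connected, of dimension one, at-worst-nodal, with vanishing first cohomology of the structure sheaf,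
and with at most three nodes. Let ω be the dualizing module of C over Ω (via the upper-shriek
functor, whose existence is assumed) and ω' an O_C-module with ω' ⊗ ω ≅ O_C. Then ω ⊗ ω has no
nonzero global sections, the first cohomology of ω' vanishes, and the global sections of ω' form a
three-dimensional Ω-vector space. (The source states that for a family of such curves with at most
three nodes in each fibre the direct image of the inverse of the relative dualizing sheaf is locally
free of rank three and commutes with base change; this row is the statement on each geometric fibre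
from which that follows. The published statement is over the complex numbers; it is stated here over
any algebraically closed field of characteristic zero.) -/
theorem result (Ω : Type u) [Field Ω] [IsAlgClosed Ω] [CharZero Ω]
    (C : Scheme.{u}) [C.Over (Spec (CommRingCat.of Ω))] [IsProper (C ↘ Spec (CommRingCat.of Ω))] [ConnectedSpace ↥C]
    (hdim : topologicalKrullDim ↥C = 1) (hnod : Curv2.AtWorstNodal Ω C) (hg : Curv2.genus Ω C = 0)
    (h3 : {x : ↥C | Curv2.IsNode Ω C x}.encard ≤ 3)
    [DCoh.HasRpush (C ↘ Spec (CommRingCat.of Ω))] (h : DCoh.RpushPreservesQCoh (C ↘ Spec (CommRingCat.of Ω))) [DCoh.HasShriek (C ↘ Spec (CommRingCat.of Ω)) h]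
    (OY : DCoh.DQCoh (Spec (CommRingCat.of Ω))) (hOY : Nonempty (OY.obj ≅ DCoh.inD (Spec (CommRingCat.of Ω)) (Coh.structureModule (Spec (CommRingCat.of Ω)))))
    (ωd : C.Modules) (hωd : ClSub.IsInverseOf ωd (DCoh.dualizingMod (C ↘ Spec (CommRingCat.of Ω)) h OY 1)) :
    Subsingleton (Coh.HH C (CohB1.tensorPow (DCoh.dualizingMod (C ↘ Spec (CommRingCat.of Ω)) h OY 1) 2) 0) ∧
      Subsingleton (Coh.HH C ωd 1) ∧ Module.finrank Ω (Coh.HH C ωd 0) = 3 := by
  haveI := Groth.Agent.CohFound.isNoetherian_of_isProper (C ↘ (Spec (CommRingCat.of Ω)))
  have hN : Groth.Agent.StabUniq18.IsNodalCurve Ω C :=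
    ⟨inferInstance, Groth.Agent.CurveH1Min27.components_dim_one Ω C hdim, hnod⟩
  haveI : AlgebraicGeometry.IsReduced C := hN.isReduced
  have hGor := Groth.Agent.CurveH1Min27.isInvertible_dualizing_nodal Ω C hdim hnod h OY hOY
  obtain ⟨t, ht⟩ := Groth.Agent.DlzCurve17.exists_trace Ω C hdim h OY hOY
  have ht' : Groth.Agent.CurveH1Min27.IsTrace Ω (DCoh.dualizingMod (C ↘ (Spec (CommRingCat.of Ω))) h OY 1) t := ht
  have hX := Groth.Agent.CurveAmple18.curveLike Ω C hdim.le
  have h0 : Module.finrank Ω (Coh.HH C (Coh.structureModule C) 0) = 1 :=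
    (Groth.Agent.H0Comp5.finrank_h0_eq_card Ω).trans (by
      haveI : PreconnectedSpace C := inferInstance
      haveI : Nonempty C := ConnectedSpace.toNonempty
      exact Nat.card_unique)
  exact ⟨Groth.Agent.TreeSq1.subsingleton_h0_sq hGor ht' hN hdim hg h3,
    Groth.Agent.TreeSq1.inverse_coh hGor ht' hN hdim hg h3 hωd h0⟩

end Groth.Agent.S17262
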