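import Groth.Statements.S17264
import Groth.Agent.Lib.FC16.Repr

set_option autoImplicit false
open CategoryTheory
universe v u
open FibCat

namespace Groth.Agent.S17264
open CategoryTheory.Functor Groth.Agent.FC16
set_option linter.style.haveILetI false
set_option backward.isDefEq.respectTransparency false
set_option backward.isDefEq.respectTransparency.types false


/-- Let C be a category with fibre products and let f : 𝒳 → 𝒴 and g : 𝒴 → 𝒵 be functors over C between
categories fibred in groupoids over C. If the composite g ∘ f is a representable 1-morphism (its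
2-fibre product with every slice category C/U is equivalent over C to a slice category) and the
diagonal 𝒴 → 𝒴 ×_𝒵 𝒴 of g is a representable 1-morphism, then f is a representable 1-morphism. This
is the case of the source's lemma in which the class of test objects is the class of representable
categories over C. -/
theorem result {C : Type u} [Category.{v} C]
    [Limits.HasPullbacks C] {𝒳 𝒴 𝒵 : BasedCategory.{v, max u v} C}
    (h𝒳 : FibCat.IsFibGrpd 𝒳.p) (h𝒴 : FibCat.IsFibGrpd 𝒴.p) (h𝒵 : FibCat.IsFibGrpd 𝒵.p)
    (f : 𝒳 ⥤ᵇ 𝒴) (g : 𝒴 ⥤ᵇ 𝒵)
    (hgf : FibCat.IsRepresentable1 (BasedFunctor.comp f g))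
    (hΔ : FibCat.IsRepresentable1 (FibCat.diag g)) :
    FibCat.IsRepresentable1 f := by
  intro U G
  rw [← isRepresentable_congr (diagFun_isEquivOver (g := g) (G := G) (F := f)
    (a := BasedFunctor.comp G g) (b := BasedFunctor.comp f g) (Iso.refl _) (Iso.refl _))]
  obtain ⟨V, E, hE⟩ := hgf U (BasedFunctor.comp G g)
  obtain ⟨E', hE', -, -⟩ := exists_inverse hE
  rw [← isRepresentable_fp_comp_left (a := E') hE']
  exact hΔ V _

end Groth.Agent.S17264
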