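import Groth.Statements.S17275
import Groth.Agent.Lib.VB17.SmoothDuality
import Groth.Agent.Lib.VB17.Atiyah
import Groth.Agent.Lib.CurveCoh17.PairDeg
import Groth.Agent.Lib.FrobPull22.Basic
import Groth.Agent.Lib.FrobPull22.Exists
import Groth.Agent.Lib.KFlat.Pullback
import Groth.Agent.Lib.KFlat.LpullPC
-- import your own Groth.Agent.* helpers here

set_option autoImplicit false
universe u
open CategoryTheory CategoryTheory.Limits AlgebraicGeometry
open VBCurve

namespace Groth.Agent.S17275

namespace Aux

open Groth.Agent.M1 Groth.Agent.M2 Groth.Agent.CurveCoh17 Groth.Agent.KFlat Groth.Agent.KFlat.Sch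

set_option maxHeartbeats 1000000

variable {k : Type u} [Field k] {X : Scheme.{u}} [X.Over (Spec (CommRingCat.of k))] [IsIntegral X] (p : ℕ) [Fact p.Prime]
  [FrobSch.IsCharP X p]

theorem iterate_iso (E : X.Modules) : ∀ n, Nonempty (((Scheme.Modules.pullback (FrobSch.frob X p)).obj)^[n] E ≅
    (Scheme.Modules.pullback (FrobPull22.frobIter p X n)).obj E)
  | 0 => ⟨((Scheme.Modules.pullbackId X).app E).symm⟩
  | n + 1 => by
    have hc : FrobPull22.frobIter p X (n + 1) = FrobSch.frob X p ≫ FrobPull22.frobIter p X n :=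
      (FrobSch.frob_comp (p := p) (f := FrobPull22.frobIter p X n)).symm
    obtain ⟨e⟩ := iterate_iso E n
    rw [Function.iterate_succ_apply', hc]
    exact ⟨(Scheme.Modules.pullback (FrobSch.frob X p)).mapIso e ≪≫ (Scheme.Modules.pullbackComp _ _).app E⟩

theorem bound (hX : VB17.RegCurve k X) (h0 : Module.finrank k (Coh.HH X (Coh.structureModule X) 0) = 1)
    (hdim : topologicalKrullDim X = 1) [CompactSpace X] {L : X.Modules} (hL : PicF.IsInvertible L) :
    ∀ (r : ℕ) (E : X.Modules), FlatMod.IsFinLocFreeOfRank r E → ∃ M : ℕ, ∀ n : ℕ,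
      Module.finrank k (Coh.HH X (CohB1.tensorMod ((Scheme.Modules.pullback (FrobPull22.frobIter p X n)).obj E) L) 0)
        ≤ M * p ^ n
  | 0, E, hE => ⟨0, fun n => by
      have h := VB17.h0_rank_zero (k := k) (isFinLocFreeOfRank_tensor
        (isFinLocFreeOfRank_pullback (FrobPull22.frobIter p X n) hE) ((isInvertible_iff_isFinLocFreeOfRank_one L).1 hL))
      omega⟩
  | r + 1, E, hE => by
    obtain ⟨N, i, hN, hi, hQ⟩ := exists_saturated_line hX hdim hE
    haveI := hX.like.noetherian
    obtain ⟨M, hM⟩ := bound hX h0 hdim hL r (cokernel i) hQ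
    refine ⟨(Curv2.deg k X N 1).natAbs + (Curv2.deg k X L 1).natAbs + 1 + M, fun n => ?_⟩
    set F := Scheme.Modules.pullback (FrobPull22.frobIter p X n)
    have hN1 := (isInvertible_iff_isFinLocFreeOfRank_one N).1 hN
    have hL1 := (isInvertible_iff_isFinLocFreeOfRank_one L).1 hL
    let S := ShortComplex.mk i (cokernel.π i) (cokernel.condition i)
    have hS : S.ShortExact := { exact := ShortComplex.exact_of_g_is_cokernel _ (cokernelIsCokernel _) }
    have hSF : (S.map F).ShortExact := by
      haveI : Mono (S.map F).f := mono_pullback_map (FrobPull22.frobIter p X n) S hS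
        ((isFlat_iff _).2 (isFlat_of_isFinLocFree (isFinLocFree_of_ofRank hQ)))
      haveI : F.IsLeftAdjoint := (Scheme.Modules.pullbackPushforwardAdjunction _).isLeftAdjoint
      haveI := hS.epi_g
      haveI : PreservesFiniteColimits F := inferInstance
      haveI : Epi (S.map F).g := show Epi (F.map S.g) from inferInstance
      exact { exact := ShortComplex.exact_of_g_is_cokernel _ (CokernelCofork.mapIsColimit _ (cokernelIsCokernel i) F) }
    have hT := shortExact_tensorR hSF L fun x => VB17.flat_stalk hL x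
    have hle := VB17.h0_le_of_shortExact hX.like hT
      (isCoh_of_ofRank (isFinLocFreeOfRank_tensor (isFinLocFreeOfRank_pullback _ hN1) hL1))
      (isCoh_of_ofRank (isFinLocFreeOfRank_tensor (isFinLocFreeOfRank_pullback _ hE) hL1))
      (isCoh_of_ofRank (isFinLocFreeOfRank_tensor (isFinLocFreeOfRank_pullback _ hQ) hL1))
    refine le_trans hle ?_
    refine (Nat.add_le_add ?_ (hM n)).trans_eq (by rw [← add_mul])
    show Module.finrank k (Coh.HH X (CohB1.tensorMod (F.obj N) L) 0) ≤ _
    obtain ⟨hle', happ⟩ := FrobPull22.frobIter_appLE p X n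
    obtain ⟨e⟩ := FrobPull22.nonempty_pullback_iso_tensorPow (FrobPull22.frobIter p X n) hle' happ hN
    have hFN : PicF.IsInvertible (F.obj N) :=
      (isInvertible_iff_isFinLocFreeOfRank_one _).2 (isFinLocFreeOfRank_pullback _ hN1)
    have hd : Curv2.deg k X (CohB1.tensorMod (F.obj N) L) 1 =
        ((p ^ n : ℕ) : ℤ) * Curv2.deg k X N 1 + Curv2.deg k X L 1 := by
      rw [hX.like.deg_tensor_invertible hFN hL, deg_iso e, hX.like.deg_tensorPow hN]
    rcases subsingleton_or_nontrivial (Coh.HH X (CohB1.tensorMod (F.obj N) L) 0) with hs | hs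
    · rw [Module.finrank_zero_of_subsingleton]
      exact Nat.zero_le _
    · have h := hX.like.h0_le_deg_add (rkOne_of_invertible hdim.le (isInvertible_tensor hFN hL)) hs
      rw [h0, hd] at h
      have hq : (1 : ℤ) ≤ ((p ^ n : ℕ) : ℤ) := by exact_mod_cast Nat.one_le_pow _ _ (Fact.out : p.Prime).pos
      zify
      push_cast at hq h ⊢
      nlinarith [le_abs_self (Curv2.deg k X N 1), le_abs_self (Curv2.deg k X L 1), abs_nonneg (Curv2.deg k X L 1)]

end Aux

/-- Let p be a prime, k an algebraically closed field whose characteristic is p, and X an integral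
curve, smooth and proper over k (of dimension one), with absolute Frobenius F : X → X. For every
finite locally free O_X-module E and every invertible O_X-module L there are natural numbers M and N
such that dim_k H⁰(X, (Fⁿ)^*E ⊗ L) ≤ M·pⁿ for all n ≥ N, where (Fⁿ)^* is the n-fold iterate of the
module pullback along F. (This is the bound established inside the printed proof for vector bundles
on the auxiliary curve, in the case where that curve is a scheme; the printed lemma itself concerns
sheaves on a two-dimensional Deligne–Mumford stack.) -/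
theorem result (p : ℕ) [Fact p.Prime]
    (k : Type u) [Field k] [IsAlgClosed k] [CharP k p]
    (X : Scheme.{u}) [X.Over (Spec (CommRingCat.of k))] [IsIntegral X]
    [IsProper (X ↘ Spec (CommRingCat.of k))] [Smooth (X ↘ Spec (CommRingCat.of k))]
    (hdim : topologicalKrullDim X = 1) [FrobSch.IsCharP X p]
    (E : X.Modules) (hE : FlatMod.IsFinLocFree E) (L : X.Modules) (hL : PicF.IsInvertible L) :
    ∃ M N : ℕ, ∀ n : ℕ, N ≤ n →
      Module.finrank k (Coh.HH X (CohB1.tensorMod
        (((Scheme.Modules.pullback (FrobSch.frob X p)).obj)^[n] E) L) 0) ≤ M * p ^ n := by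
  obtain ⟨hX, h0, -⟩ := VB17.setup (k := k) (X := X) hdim
  haveI := hX.like.noetherian
  obtain ⟨r, hr⟩ := VB17.exists_rank_of_isFinLocFree hE
  obtain ⟨M, hM⟩ := Aux.bound p hX h0 hdim hL r E hr
  refine ⟨M, 0, fun n _ => ?_⟩
  obtain ⟨e⟩ := Aux.iterate_iso p E n
  rw [(Groth.Agent.CurveCoh17.hequiv k (Groth.Agent.M2.tensorIso e (Iso.refl L)) 0).finrank_eq]
  exact hM n

end Groth.Agent.S17275
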