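import Groth.Statements.S17277
import Groth.Agent.Lib.AsympCoh18.Single
import Groth.Agent.Lib.CurveCoh17.Twist
import Groth.Agent.Lib.NumPoly18.Apps

set_option autoImplicit false
universe u
open CategoryTheory CategoryTheory.Limits AlgebraicGeometry TopologicalSpace
open Variety

namespace Groth.Agent.S17277

/-- Let X be a proper scheme over a field k of dimension d and L an invertible O_X-module that is big:
there is a real constant c > 0 with dim_k H^0(X, L^{⊗n}) > c·n^d for all sufficiently large n. Then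
for every closed subscheme Z ⊆ X of dimension < d, with quasi-coherent ideal sheaf I_Z, there is an
integer m > 0 with H^0(X, I_Z ⊗ L^{⊗m}) ≠ 0. -/
theorem result (k : Type u) [Field k] (X : Scheme.{u})
    [X.Over (Spec (CommRingCat.of k))] [IsProper (X ↘ (Spec (CommRingCat.of k)))]
    (d : ℕ) (hdim : topologicalKrullDim X = d) (L : X.Modules) (hL : PicF.IsInvertible L)
    (hbig : ∃ c : ℝ, 0 < c ∧ ∀ᶠ n : ℕ in Filter.atTop,
      c * (n : ℝ) ^ d < (Module.finrank k (Coh.HH X (CohB1.tensorPow L n) 0) : ℝ))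
    (Z : X.IdealSheafData) (hZ : topologicalKrullDim (Z.support : Set X) < d) :
    ∃ m : ℕ, 0 < m ∧
      Nontrivial (Coh.HH X (CohB1.tensorMod (ClSub.idealMod Z) (CohB1.tensorPow L m)) 0) := by
  haveI : IsNoetherian X := CohFound.isNoetherian_of_isProper (X ↘ (Spec (CommRingCat.of k)))
  obtain ⟨c, hc, hev⟩ := hbig
  obtain ⟨F, hF, hstep, hpow⟩ := AsympCoh18.exists_family hL
  have hQ := CurveCoh17.isCoh_quotMod Z
  obtain ⟨B, hB0, hB⟩ := AsympCoh18.exists_small (k := k) (L := fun _ : Fin 1 => L) (fun _ => hL) hF hstep hQ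
    (lt_of_le_of_lt (Snapper.dim_le_of_subset (NumPoly18.support_quotMod_subset Z) le_rfl) hZ)
  have herr := (AsympCoh18.tendsto_err d B hB0 1).eventually_lt_const hc
  obtain ⟨m, ⟨h1, h2⟩, hm⟩ := ((hev.and herr).and (Filter.eventually_gt_atTop 0)).exists
  refine ⟨m, hm, Module.nontrivial_of_finrank_pos (R := k) (Nat.pos_of_ne_zero fun h0 => ?_)⟩
  have hT := M2.isInvertible_tensorPow hL m
  obtain ⟨e⟩ := hpow m
  have h3 := Growth13.hdim_mid_tensor_le (k := k)
    (S := ShortComplex.mk (ClSub.idealModι Z) (ClSub.toSubscheme Z) (kernel.condition _))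
    (M2.shortExact_idealMod Z) (CurveCoh17.isCoh_idealMod Z) (M1.isCoh_structureModule X) hQ hT 0
  have h4 : Growth13.hdim k (CohB1.tensorMod (ClSub.quotMod Z) (CohB1.tensorPow L m)) 0 ≤ B * (m + 1) ^ (d - 1) := by
    have := hB 0 (fun _ => (m : ℤ))
    rwa [AsympCoh18.wt_const, Growth13.hdim_iso k (M2.tensorIso (Iso.refl _) e) 0] at this
  have h5 : Growth13.hdim k (CohB1.tensorMod (ClSub.idealMod Z) (CohB1.tensorPow L m)) 0 = 0 := h0
  rw [Growth13.hdim_iso k (M2.tensorLUnit _) 0, h5, zero_add] at h3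
  have h6 : (Module.finrank k (Coh.HH X (CohB1.tensorPow L m) 0) : ℝ) ≤ (B : ℝ) * ((m : ℝ) + 1) ^ (d - 1) := by
    exact_mod_cast (h3.trans h4)
  have hfac : (1 : ℝ) ≤ (d.factorial : ℝ) := by exact_mod_cast d.factorial_pos
  rw [div_lt_iff₀ (by positivity), Nat.cast_one] at h2
  nlinarith [(by positivity : (0:ℝ) ≤ (B : ℝ) * ((m : ℝ) + 1) ^ (d - 1))]

end Groth.Agent.S17277
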