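import Groth.Statements.S17278
import Groth.Agent.Lib.NumPoly18.Big
import Groth.Agent.Lib.AmpleFin18.GenCurves

set_option autoImplicit false
universe u
open CategoryTheory CategoryTheory.Limits AlgebraicGeometry TopologicalSpace
open Variety

open Groth.Agent Filter
namespace Groth.Agent.S17278

/-- Let X be a projective variety over a field k (an integral scheme, proper over k, carrying an ample
invertible module A₀) of dimension d, and L an invertible O_X-module. Then L is big, meaning that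
for some real c > 0 one has dim_k H^0(X, L^{⊗n}) > c·n^d for all sufficiently large n, if and only
if for every ample invertible O_X-module A, with a tensor inverse A' (A' ⊗ A ≅ O_X), there is an
integer m > 0 with H^0(X, A' ⊗ L^{⊗m}) ≠ 0. -/
theorem result (k : Type u) [Field k]
    (X : Scheme.{u}) [X.Over (Spec (CommRingCat.of k))] [IsProper (X ↘ (Spec (CommRingCat.of k)))] [IsIntegral X]
    (A₀ : X.Modules) (hA₀ : CohB1.IsAmple A₀)
    (d : ℕ) (hdim : topologicalKrullDim X = d) (L : X.Modules) (hL : PicF.IsInvertible L) :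
    (∃ c : ℝ, 0 < c ∧ ∀ᶠ n : ℕ in Filter.atTop,
        c * (n : ℝ) ^ d < (Module.finrank k (Coh.HH X (CohB1.tensorPow L n) 0) : ℝ)) ↔
      ∀ (A A' : X.Modules), CohB1.IsAmple A → ClSub.IsInverseOf A' A →
        ∃ m : ℕ, 0 < m ∧ Nontrivial (Coh.HH X (CohB1.tensorMod A' (CohB1.tensorPow L m)) 0) := by
  haveI : Nonempty X := inferInstance
  constructor
  · rintro ⟨c, hc, hev⟩ A A' hA ⟨e⟩
    obtain ⟨C, hC0, hCc⟩ := exists_rat_btwn hc
    obtain ⟨n₁, hn₁⟩ := eventually_atTop.1 hev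
    obtain ⟨m, φ, hm, hφ⟩ := NumPoly18.mono_of_growth k hdim hA hL (C := C) (Rat.cast_pos.1 hC0) (n₁ := n₁)
      fun n hn => by
        have h1 : ((C * (n : ℚ) ^ d : ℚ) : ℝ) ≤
            ((Module.finrank k (Coh.HH X (CohB1.tensorPow L n) 0) : ℚ) : ℝ) := by
          push_cast
          exact le_trans (mul_le_mul_of_nonneg_right hCc.le (by positivity)) (hn₁ n hn).le
        exact Rat.cast_le.1 h1
    haveI := hφ
    have hA' : PicF.IsInvertible A' := by
      obtain ⟨B, hB, ⟨eB⟩⟩ := M2.exists_inverse hA.1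
      exact M2.isInvertible_of_iso ((M2.tensorRUnit A').symm ≪≫ M2.tensorIso (Iso.refl _) eB.symm ≪≫
        (M2.tensorAssoc _ _ _).symm ≪≫ M2.tensorIso e (Iso.refl _) ≪≫ M2.tensorLUnit B).symm hB
    exact ⟨m, hm, NumPoly18.nontrivial_of_hasMonoSec k
      ((NumPoly18.hasMonoSec_of_mono φ hA' (M2.tensorComm A A' ≪≫ e)).of_iso (M2.tensorComm _ _))⟩
  · intro h
    obtain ⟨A', hA', ⟨e⟩⟩ := M2.exists_inverse hA₀.1
    obtain ⟨m, hm, hnt⟩ := h A₀ A' hA₀ ⟨M2.tensorComm A' A₀ ≪≫ e⟩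
    have hP := M2.isInvertible_tensorPow hL m
    obtain ⟨φ, hφ⟩ := NumPoly18.exists_mono_of_hasMonoSec
      (NumPoly18.hasMonoSec_of_nontrivial k (M2.isInvertible_tensor hA' hP) hnt) hA₀.1
      (C := CohB1.tensorPow L m) (M2.tensorIso (M2.tensorComm _ _) (Iso.refl _) ≪≫ M2.tensorAssoc _ _ _ ≪≫
        M2.tensorIso (Iso.refl _) (M2.tensorComm A' A₀ ≪≫ e) ≪≫ M2.tensorRUnit _)
    haveI := hφ
    obtain ⟨C, hC, n₁, hn₁⟩ := NumPoly18.growth_of_mono k hdim hA₀ hL hm φ
    refine ⟨(C : ℝ) / 2, by positivity, eventually_atTop.2 ⟨n₁ + 1, fun n hn => ?_⟩⟩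
    have h1 : ((C * (n : ℚ) ^ d : ℚ) : ℝ) ≤
        ((Module.finrank k (Coh.HH X (CohB1.tensorPow L n) 0) : ℚ) : ℝ) :=
      Rat.cast_le.2 (hn₁ n (by omega))
    push_cast at h1
    refine lt_of_lt_of_le ?_ h1
    have hn0 : (0 : ℝ) < (n : ℝ) ^ d := pow_pos (Nat.cast_pos.2 (by omega)) d
    exact mul_lt_mul_of_pos_right (half_lt_self (by exact_mod_cast hC)) hn0

end Groth.Agent.S17278
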