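import Groth.Statements.S17280
import Groth.Agent.Lib.VB17.Sub
import Groth.Agent.Lib.VB17.Setup
import Groth.Agent.Lib.DVRVal.Curve
import Groth.Agent.Lib.RegLoc.UFD
import Groth.Agent.Lib.CurveAmple18.Basic
import Groth.Agent.Lib.Snapper.Main
import Groth.Agent.Lib.TensorMod.Invertible
import Groth.Agent.Lib.CohFound.ProjQuot
-- import your own Groth.Agent.* helpers here

set_option autoImplicit false
set_option backward.isDefEq.respectTransparency false
universe u
open CategoryTheory CategoryTheory.Limits AlgebraicGeometry TopologicalSpace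
open Variety Groth.Agent

namespace Groth.Agent.S17280

/-- Scheme case, curve-test form of nefness: let X be a proper scheme over a field k and 0 → E' → E →
E'' → 0 a short exact sequence whose three terms are finite locally free O_X-modules. Assume that E'
and E'' are nef in the curve-test sense: for every regular projective curve C over k (integral,
proper over k, of dimension one, all local rings regular), every k-morphism f : C → X and every
invertible quotient M of the pulled-back module, deg M = χ(M) - χ(O_C) ≥ 0. Then E is nef in the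
same sense. (The source states this for proper algebraic spaces and nefness of O(1) on P(E); on
proper schemes the two senses agree by the Barton–Kleiman criterion.) -/
theorem result (k : Type u) [Field k] (X : Scheme.{u})
    [X.Over (Spec (CommRingCat.of k))] [IsProper (X ↘ (Spec (CommRingCat.of k)))] (S : ShortComplex X.Modules) (hS : S.ShortExact)
    (h₁ : FlatMod.IsFinLocFree S.X₁) (h₂ : FlatMod.IsFinLocFree S.X₂) (h₃ : FlatMod.IsFinLocFree S.X₃)
    (hnef₁ : ∀ (C : Scheme.{u}) [C.Over (Spec (CommRingCat.of k))] [IsProper (C ↘ (Spec (CommRingCat.of k)))] [IsIntegral C],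
      topologicalKrullDim C = 1 → (∀ x : C, IsRegularLocalRing (C.presheaf.stalk x)) →
      ∀ (f : C ⟶ X), f ≫ (X ↘ (Spec (CommRingCat.of k))) = C ↘ (Spec (CommRingCat.of k)) →
      ∀ (M : C.Modules), PicF.IsInvertible M →
      ∀ (q : (Scheme.Modules.pullback f).obj S.X₁ ⟶ M), Epi q → 0 ≤ Curv2.deg k C M 1)
    (hnef₃ : ∀ (C : Scheme.{u}) [C.Over (Spec (CommRingCat.of k))] [IsProper (C ↘ (Spec (CommRingCat.of k)))] [IsIntegral C],
      topologicalKrullDim C = 1 → (∀ x : C, IsRegularLocalRing (C.presheaf.stalk x)) →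
      ∀ (f : C ⟶ X), f ≫ (X ↘ (Spec (CommRingCat.of k))) = C ↘ (Spec (CommRingCat.of k)) →
      ∀ (M : C.Modules), PicF.IsInvertible M →
      ∀ (q : (Scheme.Modules.pullback f).obj S.X₃ ⟶ M), Epi q → 0 ≤ Curv2.deg k C M 1) :
    ∀ (C : Scheme.{u}) [C.Over (Spec (CommRingCat.of k))] [IsProper (C ↘ (Spec (CommRingCat.of k)))] [IsIntegral C],
    topologicalKrullDim C = 1 → (∀ x : C, IsRegularLocalRing (C.presheaf.stalk x)) →
    ∀ (f : C ⟶ X), f ≫ (X ↘ (Spec (CommRingCat.of k))) = C ↘ (Spec (CommRingCat.of k)) →
    ∀ (M : C.Modules), PicF.IsInvertible M →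
    ∀ (q : (Scheme.Modules.pullback f).obj S.X₂ ⟶ M), Epi q → 0 ≤ Curv2.deg k C M 1 := by
  intro C _ _ _ hdim hreg f hf M hM q hq
  have hX := CurveAmple18.curveLike k C hdim.le
  haveI := hX.noetherian
  let F := Scheme.Modules.pullback f
  haveI : F.IsLeftAdjoint := (Scheme.Modules.pullbackPushforwardAdjunction f).isLeftAdjoint
  haveI := hS.epi_g
  by_cases h0 : F.map S.f ≫ q = 0
  · let l := isColimitCoforkMapOfIsColimit' F S.zero hS.gIsCokernel
    let q' := l.desc (CokernelCofork.ofπ q h0)
    have hfac : F.map S.g ≫ q' = q := l.fac _ WalkingParallelPair.one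
    haveI := hq
    exact hnef₃ C hdim hreg f hf M hM q' (epi_of_epi_fac hfac)
  · have hpid : ∀ x : C, IsPrincipalIdealRing (C.presheaf.stalk x) := fun x => by
      haveI := hreg x
      haveI := RegLoc.isDomain (C.presheaf.stalk x)
      haveI := RegLoc.ufd_of_isRegularLocalRing (C.presheaf.stalk x)
      have hle : ringKrullDim (C.presheaf.stalk x) ≤ 1 :=
        (VB17.ringKrullDim_stalk_le_topologicalKrullDim x).trans hdim.le
      haveI := DVRVal.valuationRing_of_normal _ hle
      have e : ValuationRing (C.presheaf.stalk x) ↔ IsPrincipalIdealRing (C.presheaf.stalk x) :=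
        (tfae_of_isNoetherianRing_of_isLocalRing_of_isDomain (C.presheaf.stalk x)).out 1 0
      exact e.1 inferInstance
    have hM1 := (M2.isInvertible_iff_isFinLocFreeOfRank_one M).1 hM
    have hcM : Coh.IsCoh M := Snapper.isCoh_of_isInvertible hM
    have hcE : Coh.IsCoh (F.obj S.X₁) :=
      CohFound.isCoh_of_isFinLocFree (M2.isFinLocFree_pullback f h₁)
    let g := F.map S.f ≫ q
    obtain ⟨rI, hle, hI⟩ := VB17.exists_rank_of_mono hpid hM1
      (M1.isCoh_of_mono (Abelian.image.ι g) hcM (M1.isQCoh_kernel hcM.1 (M1.isCoh_cokernel hcE.1 hcM g).1 _))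
      (Abelian.image.ι g)
    rcases Nat.le_one_iff_eq_zero_or_eq_one.1 hle with rfl | rfl
    · exact absurd ((Abelian.image.fac g).symm.trans (by
        rw [(VB17.isZero_of_rank_zero hI).eq_of_src (Abelian.image.ι g) 0, comp_zero])) h0
    exact (hnef₁ C hdim hreg f hf (Abelian.image g) ((M2.isInvertible_iff_isFinLocFreeOfRank_one _).2 hI)
      (Abelian.factorThruImage g) inferInstance).trans (VB17.deg_le_of_mono hX hI hM1 (Abelian.image.ι g)).1

end Groth.Agent.S17280
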