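import Groth.Statements.S17281
import Groth.Agent.Lib.VB17.GlobGen
import Groth.Agent.Lib.VB17.PairSat
import Groth.Agent.Lib.RegSmooth17.Scheme

set_option autoImplicit false
universe u
open CategoryTheory CategoryTheory.Limits AlgebraicGeometry TopologicalSpace
open Curves

open Groth.Agent.M1 Groth.Agent.M2 Groth.Agent.CurveCoh17 Groth.Agent.VB17

namespace Groth.Agent.S17281

/-- Fix an algebraically closed field k and a regular projective curve C over it (integral, proper over
k, of dimension one, all local rings regular) of genus g = dim_k H^1(C, O_C), E a finite locally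
free O_C-module that is nef in the curve-test sense (for every regular projective curve C' over k,
every k-morphism f : C' → C and every invertible quotient M of f^*E, deg M = χ(M) - χ(O_{C'}) ≥ 0),
and H an invertible O_C-module with deg H = χ(H) - χ(O_C) ≥ 2g. Then E ⊗ H is generated by its
global sections. -/
theorem result (k : Type u) [Field k] [IsAlgClosed k]
    (X : Scheme.{u}) [X.Over (Spec (CommRingCat.of k))] [IsProper (X ↘ (Spec (CommRingCat.of k)))] [IsIntegral X]
    (hdim : topologicalKrullDim X = 1) (hreg : ∀ x : X, IsRegularLocalRing (X.presheaf.stalk x))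
    (E : X.Modules) (hE : FlatMod.IsFinLocFree E)
    (hnef : ∀ (C : Scheme.{u}) [C.Over (Spec (CommRingCat.of k))] [IsProper (C ↘ (Spec (CommRingCat.of k)))] [IsIntegral C],
      topologicalKrullDim C = 1 → (∀ x : C, IsRegularLocalRing (C.presheaf.stalk x)) →
      ∀ (f : C ⟶ X), f ≫ (X ↘ (Spec (CommRingCat.of k))) = C ↘ (Spec (CommRingCat.of k)) →
      ∀ (M : C.Modules), PicF.IsInvertible M →
      ∀ (q : (Scheme.Modules.pullback f).obj E ⟶ M), Epi q → 0 ≤ Curv2.deg k C M 1)
    (H : X.Modules) (hH : PicF.IsInvertible H)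
    (hdeg : 2 * (Curv2.genus k X : ℤ) ≤ Curv2.deg k X H 1) :
    Curv2.IsGloballyGenerated (CohB1.tensorMod E H) := by
  haveI : Smooth (X ↘ Spec (CommRingCat.of k)) :=
    RegSmooth17.smooth_of_regular_of_perfectField (X ↘ Spec (CommRingCat.of k)) hreg
  obtain ⟨hX, h0, hbig⟩ := VB17.setup (k := k) (X := X) hdim
  haveI := hX.like.noetherian
  obtain ⟨r, hEr⟩ := exists_rank_of_isFinLocFree hE
  have hH1 := (isInvertible_iff_isFinLocFreeOfRank_one H).1 hH
  have hEH : FlatMod.IsFinLocFreeOfRank r (CohB1.tensorMod E H) := by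
    simpa using isFinLocFreeOfRank_tensor hEr hH1
  have hx0 : ∃ x : X, IsClosed ({x} : Set X) :=
    ⟨_, (IsClosed.exists_closed_singleton isClosed_univ Set.univ_nonempty).choose_spec.2⟩
  refine isGloballyGenerated_of_h1 k hdim.le hEH hx0 fun x hx => ?_
  obtain ⟨hI, hdI⟩ := pointIdeal_data k hdim hx
  generalize ClSub.idealMod (Scheme.IdealSheafData.vanishingIdeal (⟨{x}, hx⟩ : Closeds X)) = I at hI hdI ⊢
  have hI1 := (isInvertible_iff_isFinLocFreeOfRank_one I).1 hI
  have hE' : FlatMod.IsFinLocFreeOfRank r (CohB1.tensorMod I (CohB1.tensorMod E H)) := by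
    simpa using isFinLocFreeOfRank_tensor hI1 hEH
  by_contra hne
  rw [not_subsingleton_iff_nontrivial] at hne
  rcases Nat.eq_zero_or_pos r with rfl | hr
  · obtain ⟨η, hη⟩ := exists_ne (0 : Coh.HH X (CohB1.tensorMod I (CohB1.tensorMod E H)) 1)
    refine hη ?_
    rw [← hmap_id (A := k) (CohB1.tensorMod I (CohB1.tensorMod E H)) 1 η,
      (isZero_of_rank_zero hE').eq_of_src (𝟙 _) 0, hmap_zero]
  obtain ⟨K, i, hi, hK, hd⟩ := exists_big_sub_of_h1 hX h0 hbig hr hE' hne
  haveI := hi
  obtain ⟨P, j, u, hj, hP, -, hco, hKP, -⟩ := exists_saturation hX hE' hK i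
  haveI := hj
  obtain ⟨s, hQ⟩ := exists_rank_of_isFinLocFree hco
  have hS : (ShortComplex.mk j (cokernel.π j) (cokernel.condition j)).ShortExact :=
    { exact := ShortComplex.exact_of_g_is_cokernel _ (cokernelIsCokernel j) }
  have hs1 : s = 1 := by
    have := rank_add hS hP hE' hQ
    omega
  subst hs1
  have hadd := deg_add hX.like hS hP hE' hQ
  have hN : PicF.IsInvertible (CohB1.tensorMod H I) := isInvertible_tensor hH hI
  obtain ⟨D, hD, ⟨e⟩⟩ := exists_inverse hN
  have hQinv : PicF.IsInvertible (cokernel j) := (isInvertible_iff_isFinLocFreeOfRank_one _).2 hQ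
  haveI := isEquivalence_tensorR hD
  let φ : CohB1.tensorMod (CohB1.tensorMod I (CohB1.tensorMod E H)) D ≅ E :=
    tensorIso (tensorComm I (CohB1.tensorMod E H) ≪≫ tensorAssoc E H I) (Iso.refl D) ≪≫ untwist e E
  have hepi : Epi ((tensorR D).map (cokernel.π j)) := inferInstance
  let g : E ⟶ CohB1.tensorMod (cokernel j) D := φ.inv ≫ (tensorR D).map (cokernel.π j)
  haveI : Epi g := @epi_comp _ _ _ _ _ φ.inv inferInstance _ hepi
  have h := hnef X hdim hreg (𝟙 X) (Category.id_comp _) (CohB1.tensorMod (cokernel j) D)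
    (isInvertible_tensor hQinv hD) ((Scheme.Modules.pullbackId X).hom.app E ≫ g) inferInstance
  have hD1 := (isInvertible_iff_isFinLocFreeOfRank_one D).1 hD
  have dQD : Curv2.deg k X (CohB1.tensorMod (cokernel j) D) 1 =
      Curv2.deg k X (cokernel j) 1 + Curv2.deg k X D 1 := by
    simpa using hX.like.deg_tensor hQ hD1
  have dN : Curv2.deg k X (CohB1.tensorMod H I) 1 = Curv2.deg k X H 1 + Curv2.deg k X I 1 := by
    simpa using hX.like.deg_tensor hH1 hI1
  rw [dQD, hX.like.deg_of_tensor_iso hN hD e, dN, hdI] at h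
  have hadd' : Curv2.deg k X (CohB1.tensorMod I (CohB1.tensorMod E H)) r =
      Curv2.deg k X P (r - 1) + Curv2.deg k X (cokernel j) 1 := hadd
  linarith

end Groth.Agent.S17281
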