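import Groth.Statements.S17283
import Groth.Agent.S1585
import Groth.Agent.S7640
import Groth.Agent.Lib.NumPoly18.Pullback
import Groth.Agent.Lib.RelMin32.Birat
import Groth.Agent.Lib.VB17.Setup
import Groth.Agent.Lib.DVRVal.Curve
import Groth.Agent.Lib.H12.Dim
import Groth.Agent.Lib.H12.DimZero
import Groth.Agent.Lib.TensorMod.Invertible
-- import your own Groth.Agent.* helpers here

set_option autoImplicit false
set_option backward.isDefEq.respectTransparency false
universe u
open CategoryTheory CategoryTheory.Limits AlgebraicGeometry TopologicalSpace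
open Variety Groth.Agent

namespace Groth.Agent.S17283

/-- Scheme case, curve-test form of nefness: let f : Y → X be a surjective k-morphism of proper schemes
over a field k and E a finite locally free O_X-module. If the pullback f^*E is nef on Y in the
curve-test sense (for every regular projective curve C over k — integral, proper over k, of
dimension one, all local rings regular — every k-morphism g : C → Y and every invertible quotient M
of g^*(f^*E), deg M = χ(M) - χ(O_C) ≥ 0), then E is nef on X in the same sense. (The source states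
this for proper algebraic spaces with nefness of O(1) on P(E); on proper schemes the senses agree by
the Barton–Kleiman criterion.) -/
theorem result (k : Type u) [Field k] (X Y : Scheme.{u})
    [X.Over (Spec (CommRingCat.of k))] [IsProper (X ↘ (Spec (CommRingCat.of k)))] [Y.Over (Spec (CommRingCat.of k))] [IsProper (Y ↘ (Spec (CommRingCat.of k)))]
    (f : Y ⟶ X) (hf : f ≫ (X ↘ (Spec (CommRingCat.of k))) = Y ↘ (Spec (CommRingCat.of k))) [Surjective f]
    (E : X.Modules) (hE : FlatMod.IsFinLocFree E)
    (hnef : ∀ (C : Scheme.{u}) [C.Over (Spec (CommRingCat.of k))] [IsProper (C ↘ (Spec (CommRingCat.of k)))] [IsIntegral C],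
      topologicalKrullDim C = 1 → (∀ x : C, IsRegularLocalRing (C.presheaf.stalk x)) →
      ∀ (g : C ⟶ Y), g ≫ (Y ↘ (Spec (CommRingCat.of k))) = C ↘ (Spec (CommRingCat.of k)) →
      ∀ (M : C.Modules), PicF.IsInvertible M →
      ∀ (q : (Scheme.Modules.pullback g).obj ((Scheme.Modules.pullback f).obj E) ⟶ M), Epi q → 0 ≤ Curv2.deg k C M 1) :
    ∀ (C : Scheme.{u}) [C.Over (Spec (CommRingCat.of k))] [IsProper (C ↘ (Spec (CommRingCat.of k)))] [IsIntegral C],
    topologicalKrullDim C = 1 → (∀ x : C, IsRegularLocalRing (C.presheaf.stalk x)) →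
    ∀ (g : C ⟶ X), g ≫ (X ↘ (Spec (CommRingCat.of k))) = C ↘ (Spec (CommRingCat.of k)) →
    ∀ (M : C.Modules), PicF.IsInvertible M →
    ∀ (q : (Scheme.Modules.pullback g).obj E ⟶ M), Epi q → 0 ≤ Curv2.deg k C M 1 := by
  intro C _ _ _ hdim hreg g hg M hM q hq
  let P := pullback g f
  let p : P ⟶ C := pullback.fst g f
  let r : P ⟶ Y := pullback.snd g f
  haveI : IsProper (f ≫ (X ↘ Spec (CommRingCat.of k))) := by rw [hf]; infer_instance
  haveI : IsProper f := IsProper.of_comp f (X ↘ Spec (CommRingCat.of k))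
  haveI : IsProper p := MorphismProperty.pullback_fst _ _ inferInstance
  haveI : Surjective p := MorphismProperty.pullback_fst _ _ inferInstance
  letI : P.Over (Spec (CommRingCat.of k)) := ⟨p ≫ C ↘ Spec (CommRingCat.of k)⟩
  haveI : IsProper (P ↘ Spec (CommRingCat.of k)) :=
    (inferInstance : IsProper (p ≫ C ↘ Spec (CommRingCat.of k)))
  obtain ⟨ξ, hξ, hpξ⟩ := NumPoly18.exists_curve_over (k := k) p rfl (η := genericPoint C) (by
    rw [genericPoint_closure, (Homeomorph.Set.univ C).isHomeomorph.topologicalKrullDim_eq, hdim])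
  obtain ⟨hZi, z, hzgen, hzξ⟩ := NumPoly18.isIntegral_pt ξ
  haveI := hZi
  let Z := (NumPoly18.ptIdeal ξ).subscheme
  let ι : Z ⟶ P := (NumPoly18.ptIdeal ξ).subschemeι
  letI : Z.Over (Spec (CommRingCat.of k)) := ⟨ι ≫ P ↘ Spec (CommRingCat.of k)⟩
  haveI : IsProper (Z ↘ Spec (CommRingCat.of k)) :=
    (inferInstance : IsProper (ι ≫ P ↘ Spec (CommRingCat.of k)))
  have hZd : topologicalKrullDim Z = 1 :=
    (AmpleFin18.dim_subscheme _ (Scheme.IdealSheafData.coe_support_vanishingIdeal _)).trans hξ
  let γ := Z.fromSpecStalk (genericPoint Z)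
  obtain ⟨hfin, hdom, ⟨V, hV, hiso⟩, hint, hN⟩ := S1585.result k Z
  haveI := hfin
  haveI := hdom
  haveI := hint
  haveI := hiso
  let N := Curv2.normalization Z
  let ν := Curv2.normalizationι Z
  letI : N.Over (Spec (CommRingCat.of k)) := ⟨ν ≫ Z ↘ Spec (CommRingCat.of k)⟩
  haveI : IsProper (N ↘ Spec (CommRingCat.of k)) :=
    (inferInstance : IsProper (ν ≫ Z ↘ Spec (CommRingCat.of k)))
  haveI : Surjective ν := ⟨fun y => by
    have := ν.isClosedMap.isClosed_range.closure_eq
    rw [ν.denseRange.closure_eq] at this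
    exact this.le (Set.mem_univ y)⟩
  have hNd : topologicalKrullDim N = 1 := (le_antisymm
      (H12.topologicalKrullDim_le_of_eq_of_specializes ν ν.continuous
        fun _ _ hs he => H12.eq_of_specializes_of_isIntegralHom ν hs he)
      (H12.topologicalKrullDim_le_of_surjective_of_lift ν ν.surjective
        (Or.inl ν.isClosedMap.specializingMap))).trans hZd
  haveI : IsLocallyNoetherian N := LocallyOfFiniteType.isLocallyNoetherian (N ↘ Spec (CommRingCat.of k))
  have hNreg : ∀ x : N, IsRegularLocalRing (N.presheaf.stalk x) := fun x => by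
    haveI := (hN x).1
    haveI := (hN x).2
    exact DVRVal.isRegularLocalRing_of_normal _
      ((VB17.ringKrullDim_stalk_le_topologicalKrullDim x).trans hNd.le)
  let h : N ⟶ C := ν ≫ ι ≫ p
  have hhk : h ≫ (C ↘ Spec (CommRingCat.of k)) = N ↘ Spec (CommRingCat.of k) := by
    show (ν ≫ ι ≫ p) ≫ _ = ν ≫ ι ≫ p ≫ _
    simp only [Category.assoc]
  haveI : IsProper (h ≫ (C ↘ Spec (CommRingCat.of k))) := by rw [hhk]; infer_instance
  haveI : IsProper h := IsProper.of_comp h (C ↘ Spec (CommRingCat.of k))
  have hgen : h (genericPoint N) = genericPoint C := by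
    show (ν ≫ ι ≫ p) (genericPoint N) = _
    rw [Scheme.Hom.comp_apply, Scheme.Hom.comp_apply, (RelMin.birational_of_restrict ν hV).1,
      (genericPoint_spec _).eq hzgen]
    exact (congrArg p hzξ).trans hpξ
  let s : N ⟶ Y := ν ≫ ι ≫ r
  have hsq : h ≫ g = s ≫ f := by
    show (ν ≫ ι ≫ p) ≫ g = (ν ≫ ι ≫ r) ≫ f
    simp only [Category.assoc, p, r, pullback.condition]
  let q' : (Scheme.Modules.pullback s).obj ((Scheme.Modules.pullback f).obj E) ⟶
      (Scheme.Modules.pullback h).obj M :=
    (Scheme.Modules.pullbackComp s f).hom.app E ≫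
      (Scheme.Modules.pullbackCongr hsq).inv.app E ≫
        (Scheme.Modules.pullbackComp h g).inv.app E ≫ (Scheme.Modules.pullback h).map q
  haveI := hq
  haveI : (Scheme.Modules.pullback h).IsLeftAdjoint :=
    (Scheme.Modules.pullbackPushforwardAdjunction _).isLeftAdjoint
  haveI : Epi ((Scheme.Modules.pullback h).map q) := inferInstance
  have hs : s ≫ (Y ↘ Spec (CommRingCat.of k)) = N ↘ Spec (CommRingCat.of k) := by
    rw [← hhk, ← hf, ← hg, ← Category.assoc, ← hsq, Category.assoc]
  have hpos := hnef N hNd hNreg s hs _ (Twist.isInvertible_pullback h hM) q' inferInstance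
  rw [S7640.result k N C hNd hdim h hhk hgen 1 M ((M2.isInvertible_iff_isFinLocFreeOfRank_one M).1 hM)] at hpos
  haveI : IsNoetherian N := CohFound.isNoetherian_of_isProper (N ↘ Spec (CommRingCat.of k))
  haveI : IsNoetherian C := CohFound.isNoetherian_of_isProper (C ↘ Spec (CommRingCat.of k))
  have hc : (0 : ℤ) < (h.residueDegree (genericPoint N) : ℤ) := by
    exact_mod_cast NumPoly18.residueDegree_pos hNd.le hdim h hgen
  exact nonneg_of_mul_nonneg_right hpos hc

end Groth.Agent.S17283
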