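import Groth.Statements.S17284
import Groth.Agent.S1585
import Groth.Agent.Lib.NumPoly18.StrictNef
import Groth.Agent.Lib.AmpleFin18.Birational
import Groth.Agent.Lib.VB17.Setup
import Groth.Agent.Lib.DVRVal.Curve
import Groth.Agent.Lib.H12.Dim
import Groth.Agent.Lib.H12.DimZero
import Groth.Agent.Lib.AmpleFin18.Curves
import Groth.Agent.Lib.Twist.Pullback
-- import your own Groth.Agent.* helpers here

set_option autoImplicit false
set_option backward.isDefEq.respectTransparency false
universe u
open CategoryTheory CategoryTheory.Limits AlgebraicGeometry TopologicalSpace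
open Variety Groth.Agent

namespace Groth.Agent.S17284

/-- (iii) ⇒ (ii): let X be a proper scheme over a field k and E a finite locally free O_X-module.
Suppose that for every regular projective curve C over k (integral, proper over k, of dimension one,
all local rings regular), every k-morphism f : C → X and every invertible quotient f^*E → M, deg M =
χ(M) - χ(O_C) ≥ 0. Then for every proper k-scheme C of dimension one (equivalently projective;
possibly reducible or non-reduced), every k-morphism f : C → X and every invertible quotient f^*E →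
M, deg M = χ(M) - χ(O_C) ≥ 0. (The source states this for proper algebraic spaces X; this is the
case of schemes.) -/
theorem result (k : Type u) [Field k]
    (X : Scheme.{u}) [X.Over (Spec (CommRingCat.of k))] [IsProper (X ↘ (Spec (CommRingCat.of k)))] (E : X.Modules) (hE : FlatMod.IsFinLocFree E)
    (hnef : ∀ (C : Scheme.{u}) [C.Over (Spec (CommRingCat.of k))] [IsProper (C ↘ (Spec (CommRingCat.of k)))] [IsIntegral C],
      topologicalKrullDim C = 1 → (∀ x : C, IsRegularLocalRing (C.presheaf.stalk x)) →
      ∀ (f : C ⟶ X), f ≫ (X ↘ (Spec (CommRingCat.of k))) = C ↘ (Spec (CommRingCat.of k)) →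
      ∀ (M : C.Modules), PicF.IsInvertible M →
      ∀ (q : (Scheme.Modules.pullback f).obj E ⟶ M), Epi q → 0 ≤ Curv2.deg k C M 1) :
    ∀ (C : Scheme.{u}) [C.Over (Spec (CommRingCat.of k))] [IsProper (C ↘ (Spec (CommRingCat.of k)))], topologicalKrullDim C = 1 →
    ∀ (f : C ⟶ X), f ≫ (X ↘ (Spec (CommRingCat.of k))) = C ↘ (Spec (CommRingCat.of k)) →
    ∀ (M : C.Modules), PicF.IsInvertible M →
    ∀ (q : (Scheme.Modules.pullback f).obj E ⟶ M), Epi q → 0 ≤ Curv2.deg k C M 1 := by
  intro C _ _ hdim f hf M hM q hq
  refine Groth.Agent.NumPoly18.deg_nonneg_of_nef_dim_one k hdim.le hM fun I hI h1 => ?_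
  haveI := hI
  letI : I.subscheme.Over (Spec (CommRingCat.of k)) := ⟨I.subschemeι ≫ (C ↘ (Spec (CommRingCat.of k)))⟩
  haveI : IsProper (I.subscheme ↘ (Spec (CommRingCat.of k))) :=
    inferInstanceAs (IsProper (I.subschemeι ≫ (C ↘ (Spec (CommRingCat.of k)))))
  rw [show ClSub.quotMod I = (Scheme.Modules.pushforward I.subschemeι).obj (Coh.structureModule I.subscheme) from rfl,
    NumPoly18.cdeg_push I.subschemeι rfl hM]
  let Z := I.subscheme
  have hZd : topologicalKrullDim Z = 1 := (AmpleFin18.dim_subscheme I rfl).trans h1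
  let γ := Z.fromSpecStalk (genericPoint Z)
  obtain ⟨hfin, hdom, ⟨V, hV, hiso⟩, hint, hN⟩ := S1585.result k Z
  haveI := hfin
  haveI := hdom
  haveI := hiso
  haveI := hint
  let N := Curv2.normalization Z
  let ν := Curv2.normalizationι Z
  letI : N.Over (Spec (CommRingCat.of k)) := ⟨ν ≫ Z ↘ Spec (CommRingCat.of k)⟩
  haveI : IsProper (N ↘ Spec (CommRingCat.of k)) :=
    (inferInstance : IsProper (ν ≫ Z ↘ Spec (CommRingCat.of k)))
  haveI : Surjective ν := ⟨fun y => by
    have := ν.isClosedMap.isClosed_range.closure_eq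
    rw [ν.denseRange.closure_eq] at this
    exact this.le (Set.mem_univ y)⟩
  have hNd : topologicalKrullDim N = 1 := (le_antisymm
      (H12.topologicalKrullDim_le_of_eq_of_specializes ν ν.continuous
        fun _ _ hs he => H12.eq_of_specializes_of_isIntegralHom ν hs he)
      (H12.topologicalKrullDim_le_of_surjective_of_lift ν ν.surjective
        (Or.inl ν.isClosedMap.specializingMap))).trans hZd
  haveI : IsLocallyNoetherian N := LocallyOfFiniteType.isLocallyNoetherian (N ↘ Spec (CommRingCat.of k))
  have hreg : ∀ x : N, IsRegularLocalRing (N.presheaf.stalk x) := fun x => by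
    haveI := (hN x).1
    haveI := (hN x).2
    exact DVRVal.isRegularLocalRing_of_normal _
      ((VB17.ringKrullDim_stalk_le_topologicalKrullDim x).trans hNd.le)
  have hMZ : PicF.IsInvertible ((Scheme.Modules.pullback I.subschemeι).obj M) :=
    Twist.isInvertible_pullback _ hM
  have hVd : Dense ((ν ⁻¹ᵁ V : N.Opens) : Set N) := (ν ⁻¹ᵁ V).2.dense (by
    obtain ⟨v, hv⟩ := hV
    obtain ⟨w, rfl⟩ := ν.surjective v
    exact ⟨w, hv⟩)
  rw [← AmpleFin18.deg_pullback_birational (k := k) hZd.le hNd.le ν rfl V (V.2.dense hV) hVd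
    ((M2.isInvertible_iff_isFinLocFreeOfRank_one _).1 hMZ)]
  let g := ν ≫ I.subschemeι ≫ f
  let q' : (Scheme.Modules.pullback g).obj E ⟶
      (Scheme.Modules.pullback ν).obj ((Scheme.Modules.pullback I.subschemeι).obj M) :=
    (Scheme.Modules.pullbackComp ν (I.subschemeι ≫ f)).inv.app E ≫
      (Scheme.Modules.pullback ν).map ((Scheme.Modules.pullbackComp I.subschemeι f).inv.app E ≫
        (Scheme.Modules.pullback I.subschemeι).map q)
  haveI := hq
  haveI : (Scheme.Modules.pullback I.subschemeι).IsLeftAdjoint :=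
    (Scheme.Modules.pullbackPushforwardAdjunction _).isLeftAdjoint
  haveI : (Scheme.Modules.pullback ν).IsLeftAdjoint :=
    (Scheme.Modules.pullbackPushforwardAdjunction _).isLeftAdjoint
  haveI : Epi ((Scheme.Modules.pullback I.subschemeι).map q) := inferInstance
  haveI : Epi ((Scheme.Modules.pullbackComp I.subschemeι f).inv.app E ≫
        (Scheme.Modules.pullback I.subschemeι).map q) := epi_comp _ _
  exact_mod_cast hnef N hNd hreg g (by
    show (ν ≫ I.subschemeι ≫ f) ≫ _ = ν ≫ I.subschemeι ≫ _
    rw [Category.assoc, Category.assoc, hf]) _ (Twist.isInvertible_pullback _ hMZ) q' (epi_comp _ _)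

end Groth.Agent.S17284
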