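import Groth.Statements.S17285
import Groth.Agent.Lib.AsympCoh18.Push

set_option autoImplicit false
universe u
open CategoryTheory CategoryTheory.Limits AlgebraicGeometry TopologicalSpace
open Variety

namespace Groth.Agent.S17285

/-- Let X and Y be proper varieties over a field k (integral schemes, proper over k) of the same
dimension d, f : Y → X a birational k-morphism (generic point to generic point, with a single point
in that fibre and the same residue field there), and L an invertible O_X-module. Then L is big,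
meaning that some real c > 0 has dim_k H^0(X, L^{⊗n}) > c·n^d for all sufficiently large n, if and
only if f^*L is big on Y in the same sense. (The source states this for birational morphisms of
proper schemes over k; it is stated here for integral X and Y, the case in which the printed
argument's injectivity of O_X → f_*O_Y holds.) -/
theorem result (k : Type u) [Field k] (X Y : Scheme.{u})
    [X.Over (Spec (CommRingCat.of k))] [IsProper (X ↘ (Spec (CommRingCat.of k)))] [IsIntegral X]
    [Y.Over (Spec (CommRingCat.of k))] [IsProper (Y ↘ (Spec (CommRingCat.of k)))] [IsIntegral Y]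
    (f : Y ⟶ X) (hf : f ≫ (X ↘ (Spec (CommRingCat.of k))) = Y ↘ (Spec (CommRingCat.of k))) (hbir : RadPt.IsBirational f)
    (d : ℕ) (hdimX : topologicalKrullDim X = d) (hdimY : topologicalKrullDim Y = d)
    (L : X.Modules) (hL : PicF.IsInvertible L) :
    (∃ c : ℝ, 0 < c ∧ ∀ᶠ n : ℕ in Filter.atTop,
        c * (n : ℝ) ^ d < (Module.finrank k (Coh.HH X (CohB1.tensorPow L n) 0) : ℝ)) ↔
      (∃ c : ℝ, 0 < c ∧ ∀ᶠ n : ℕ in Filter.atTop,
        c * (n : ℝ) ^ d < (Module.finrank k (Coh.HH Y (CohB1.tensorPow ((Scheme.Modules.pullback f).obj L) n) 0) : ℝ)) := by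
  obtain ⟨hdom, hdeg⟩ := AsympCoh18.dominant_degree_one f hbir
  obtain ⟨C, hC0, hC⟩ := AsympCoh18.exists_h0_pullback_bound (k := k) f hf hdom hdeg Nat.one_pos hdimX.le hL
  simp only [Nat.cast_one, one_mul] at hC
  have key : ∀ u v : ℕ → ℝ, (∀ m, |u m - v m| ≤ (C : ℝ) * ((m : ℝ) + 1) ^ (d - 1)) →
      (∃ c : ℝ, 0 < c ∧ ∀ᶠ n : ℕ in Filter.atTop, c * (n : ℝ) ^ d < u n) →
      ∃ c : ℝ, 0 < c ∧ ∀ᶠ n : ℕ in Filter.atTop, c * (n : ℝ) ^ d < v n := by
    rintro u v huv ⟨c, hc, hev⟩
    refine ⟨c / 2, half_pos hc, ?_⟩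
    filter_upwards [hev, (AsympCoh18.tendsto_err d C hC0 1).eventually_lt_const (half_pos hc),
      Filter.eventually_gt_atTop 0] with m h1 h2 hm
    have hfac : (1 : ℝ) ≤ (d.factorial : ℝ) := by exact_mod_cast d.factorial_pos
    have hm' : (0 : ℝ) < (m : ℝ) ^ d := pow_pos (by exact_mod_cast hm) d
    rw [div_lt_iff₀ hm', Nat.cast_one] at h2
    have h3 : (C : ℝ) * ((m : ℝ) + 1) ^ (d - 1) ≤ (C : ℝ) * ((m : ℝ) + 1) ^ (d - 1) * d.factorial :=
      le_mul_of_one_le_right (by positivity) hfac
    linarith [abs_sub_le_iff.1 (huv m)]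
  exact ⟨key _ _ fun m => by rw [abs_sub_comm]; exact hC m, key _ _ hC⟩

end Groth.Agent.S17285
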