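import Groth.Statements.S17287
import Groth.Agent.Lib.NumPoly18.Pullback
-- import your own Groth.Agent.* helpers here

set_option autoImplicit false
set_option backward.isDefEq.respectTransparency false
universe u
open CategoryTheory CategoryTheory.Limits AlgebraicGeometry TopologicalSpace
open Variety Groth.Agent

namespace Groth.Agent.S17287

/-- Let f : Y → X be a surjective k-morphism of proper schemes over a field k and C ⊆ X an integral
closed subscheme of dimension one. Then there is an integral closed subscheme C' ⊆ Y of dimension
one with f(C') = C as closed subsets. (The source states this for proper algebraic spaces over k;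
this is the case of schemes.) -/
theorem result (k : Type u) [Field k] (X Y : Scheme.{u})
    [X.Over (Spec (CommRingCat.of k))] [IsProper (X ↘ (Spec (CommRingCat.of k)))] [Y.Over (Spec (CommRingCat.of k))] [IsProper (Y ↘ (Spec (CommRingCat.of k)))]
    (f : Y ⟶ X) (hf : f ≫ (X ↘ (Spec (CommRingCat.of k))) = Y ↘ (Spec (CommRingCat.of k))) [Surjective f]
    (C : X.IdealSheafData) [IsIntegral C.subscheme] (hC : topologicalKrullDim (C.support : Set X) = 1) :
    ∃ C' : Y.IdealSheafData, IsIntegral C'.subscheme ∧ topologicalKrullDim (C'.support : Set Y) = 1 ∧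
      f.base '' (C'.support : Set Y) = (C.support : Set X) := by
  have hirr : IsIrreducible (C.support : Set X) := by
    rw [← Scheme.IdealSheafData.range_subschemeι, ← Set.image_univ]
    exact (irreducibleSpace_def _).1 inferInstance |>.image _ C.subschemeι.continuous.continuousOn
  obtain ⟨η, hη⟩ := QuasiSober.sober hirr C.support.isClosed
  have hη' : closure ({η} : Set X) = (C.support : Set X) := hη
  obtain ⟨ξ, hξ, hfξ⟩ := NumPoly18.exists_curve_over f hf (η := η) (by rw [hη']; exact hC)
  haveI : IsProper (f ≫ (X ↘ Spec (CommRingCat.of k))) := by rw [hf]; infer_instance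
  haveI : IsProper f := IsProper.of_comp f (X ↘ Spec (CommRingCat.of k))
  have hs : ((NumPoly18.ptIdeal ξ).support : Set Y) = closure {ξ} :=
    Scheme.IdealSheafData.coe_support_vanishingIdeal _
  refine ⟨NumPoly18.ptIdeal ξ, (NumPoly18.isIntegral_pt ξ).1, ?_, ?_⟩
  · rw [hs]; exact hξ
  · rw [hs, ← hη']
    exact (f.isClosedMap.closure_image_eq_of_continuous f.continuous {ξ}).symm.trans (by rw [Set.image_singleton, hfξ])

end Groth.Agent.S17287
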