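import Groth.Statements.S17288
import Groth.Agent.Lib.AmpleFin18.Divisor

set_option autoImplicit false
universe u
open CategoryTheory CategoryTheory.Limits AlgebraicGeometry TopologicalSpace
open Variety

namespace Groth.Agent.S17288

/-- Let X be a proper scheme over a field k, D ⊆ X an effective Cartier divisor, i.e. a closed subscheme
whose quasi-coherent ideal I_D is an invertible O_X-module, and O_X(D) an invertible module with
O_X(D) ⊗ I_D ≅ O_X. If the restriction of O_X(D) to D is ample on D, then O_X(mD) = O_X(D)^{⊗m} is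
generated by its global sections for all sufficiently large m. (The source states this for proper
algebraic spaces over k; this is the case of schemes.) -/
theorem result (k : Type u) [Field k] (X : Scheme.{u})
    [X.Over (Spec (CommRingCat.of k))] [IsProper (X ↘ (Spec (CommRingCat.of k)))] (D : X.IdealSheafData)
    (hD : PicF.IsInvertible (ClSub.idealMod D)) (LD : X.Modules) (hLD : ClSub.IsInverseOf LD (ClSub.idealMod D))
    (hample : CohB1.IsAmple ((Scheme.Modules.pullback D.subschemeι).obj LD)) :
    ∀ᶠ m : ℕ in Filter.atTop, Curv2.IsGloballyGenerated (CohB1.tensorPow LD m) := by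
  haveI : IsNoetherian X := Groth.Agent.CohFound.isNoetherian_of_isProper (X ↘ (Spec (CommRingCat.of k)))
  obtain ⟨α⟩ := hLD
  have hL : PicF.IsInvertible LD := Groth.Agent.M2.isInvertible_of_tensor_iso_unit LD (ClSub.idealMod D) α
  haveI : Mono (ClSub.idealModι D) := inferInstanceAs (Mono (kernel.ι (ClSub.toSubscheme D)))
  let g := (Groth.Agent.M2.tensorR LD).map (ClSub.idealModι D)
  haveI hg : Mono g := (Groth.Agent.CurveCoh17.shortExact_tensorR
    (S := ShortComplex.mk (ClSub.idealModι D) (cokernel.π _) (cokernel.condition _))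
    { exact := ShortComplex.exact_cokernel _ } LD (Groth.Agent.Snapper.flat_stalk hL)).mono_f
  let φ : Coh.structureModule X ⟶ LD :=
    α.inv ≫ (Groth.Agent.M2.tensorComm LD (ClSub.idealMod D)).hom ≫ g ≫ (Groth.Agent.M2.tensorLUnit LD).hom
  haveI : Mono φ := mono_comp' inferInstance (mono_comp' inferInstance (mono_comp' hg inferInstance))
  haveI : Mono (Groth.Agent.M1.secHom (Groth.Agent.Amp.gval φ)) := by rw [Groth.Agent.Amp.secHom_gval]; infer_instance
  have hsupp : CohB1.support (cokernel (Groth.Agent.M1.secHom (Groth.Agent.Amp.gval φ))) ⊆ (D.support : Set X) := by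
    rw [Groth.Agent.Amp.secHom_gval]
    intro x hx
    by_contra hxD
    refine hx ?_
    have hι : Function.Surjective (Groth.Agent.CurveCoh17.stalkLin (ClSub.idealModι D) x) := fun b => by
      obtain ⟨a, ha⟩ := (Groth.Agent.M1.exact_iff_stalk_eq_zero
        (ShortComplex.mk (ClSub.idealModι D) (ClSub.toSubscheme D) (kernel.condition _))).1
        (ShortComplex.exact_kernel (ClSub.toSubscheme D)) x b
        (Groth.Agent.M1.eq_zero_stalk_push D.subschemeι _
          (fun hr => hxD (by rw [← Scheme.IdealSheafData.range_subschemeι]; exact hr)) _)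
      exact ⟨a, ha⟩
    have hgx : Function.Surjective (Groth.Agent.CurveCoh17.stalkLin g x) := fun b => by
      obtain ⟨z, hz⟩ := LinearMap.rTensor_surjective (LD.presheaf.stalk x) hι
        (Groth.Agent.M2.stalkEquiv (Coh.structureModule X) LD x b)
      obtain ⟨a, rfl⟩ := (Groth.Agent.M2.stalkEquiv (ClSub.idealMod D) LD x).surjective z
      exact ⟨a, (Groth.Agent.M2.stalkEquiv (Coh.structureModule X) LD x).injective
        ((Groth.Agent.CurveCoh17.stalkEquiv_natural (ClSub.idealModι D) LD x a).trans hz)⟩
    have hφ : Function.Surjective (Groth.Agent.CurveCoh17.stalkLin φ x) := fun b => by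
      obtain ⟨c, rfl⟩ := Groth.Agent.CohFound.stL_surjective_of_epi (Groth.Agent.M2.tensorLUnit LD).hom x b
      obtain ⟨d, rfl⟩ := hgx c
      obtain ⟨e, rfl⟩ := Groth.Agent.CohFound.stL_surjective_of_epi (Groth.Agent.M2.tensorComm LD (ClSub.idealMod D)).hom x d
      obtain ⟨f, rfl⟩ := Groth.Agent.CohFound.stL_surjective_of_epi α.inv x e
      refine ⟨f, ?_⟩
      simp only [φ, Groth.Agent.CurveCoh17.stalkLin_comp]
      rfl
    exact ⟨fun a b => (Groth.Agent.CurveCoh17.eq_zero_stalk_cokernel φ x hφ a).trans
      (Groth.Agent.CurveCoh17.eq_zero_stalk_cokernel φ x hφ b).symm⟩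
  obtain ⟨N, hN⟩ := Groth.Agent.AmpleFin18.eventually_gen_of_section k hL (Groth.Agent.Amp.gval φ) fun F hF hFs =>
    Groth.Agent.AmpleFin18.van_of_support_subset (X ↘ (Spec (CommRingCat.of k))) hL (S := (D.support : Set X))
      (fun Z i hi hZ hr => by
        haveI := hi
        haveI := hZ
        exact Groth.Agent.AmpleFin18.isAmple_pullback_of_range_subset i D hr hample)
      hF (hFs.trans hsupp) one_pos
  refine Filter.eventually_atTop.2 ⟨N, fun m hm => ?_⟩
  refine Groth.Agent.RA.isGloballyGenerated_of_gen (Groth.Agent.M2.isInvertible_tensorPow hL m) fun z => ?_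
  obtain ⟨G, ⟨t, ht⟩, hz⟩ := hN m hm z
  exact ⟨t, ht ▸ hz⟩

end Groth.Agent.S17288
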