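import Groth.Statements.S17289
import Groth.Agent.Lib.Cyc26.Cone
import Groth.Agent.Lib.Ample18.Ample
import Groth.Agent.Lib.TensorMod.Invertible
import Groth.Agent.S8258
import Groth.Agent.S8284
import Groth.Agent.S8262
import Groth.Agent.S8287
-- import your own Groth.Agent.* helpers here

set_option autoImplicit false
universe u
open CategoryTheory CategoryTheory.Limits AlgebraicGeometry TopologicalSpace
open Variety

set_option backward.isDefEq.respectTransparency false
set_option backward.isDefEq.respectTransparency.types false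
namespace Groth.Agent.S17289

/-- Suppose X is a proper scheme over a field k, and E, F are finite locally free O_X-modules with E → F
surjective. Assume E is ample, meaning that the fundamental module O(1) of the projective bundle
P(E) = Proj(Sym E) → X is ample (for any relative-Proj data of the graded symmetric algebra of E
with its O(1)); then F is ample in the same sense. (The source states this for proper algebraic
spaces over k, together with the analogous assertion for nef modules; this is the ample assertion in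
the case of schemes.) -/
theorem result (k : Type u) [Field k] (X : Scheme.{u})
    [X.Over (Spec (CommRingCat.of k))] [IsProper (X ↘ (Spec (CommRingCat.of k)))] (E F : X.Modules)
    (hE : FlatMod.IsFinLocFree E) (hF : FlatMod.IsFinLocFree F) (φ : E ⟶ F) [Epi φ]
    (hample : ∀ (𝒮 : RelProj.QCGrAlg X) (j : E ⟶ 𝒮.toModule) (P : Scheme.{u}) (p : P ⟶ X)
        (chart : ∀ (U : X.Opens) (hU : IsAffineOpen U),
          (((p ⁻¹ᵁ U : P.Opens) : Scheme.{u}) ≅ Proj (𝒮.deg U hU)))
        (O1 : P.Modules)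
        (lam : ∀ (U : X.Opens) (hU : IsAffineOpen U),
          O1 ⟶ (Scheme.Modules.pushforward (RelProj.emb p chart U hU)).obj (GrTwist.twist (𝒮.deg U hU) 1)),
        RelProj.IsGrSymAlg E 𝒮 j → RelProj.IsRelProj 𝒮 p chart → RelProj.IsRelTwist 𝒮 p chart 1 O1 lam →
        CohB1.IsAmple O1) :
    ∀ (𝒮 : RelProj.QCGrAlg X) (j : F ⟶ 𝒮.toModule) (P : Scheme.{u}) (p : P ⟶ X)
      (chart : ∀ (U : X.Opens) (hU : IsAffineOpen U),
        (((p ⁻¹ᵁ U : P.Opens) : Scheme.{u}) ≅ Proj (𝒮.deg U hU)))
      (O1 : P.Modules)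
      (lam : ∀ (U : X.Opens) (hU : IsAffineOpen U),
        O1 ⟶ (Scheme.Modules.pushforward (RelProj.emb p chart U hU)).obj (GrTwist.twist (𝒮.deg U hU) 1)),
      RelProj.IsGrSymAlg F 𝒮 j → RelProj.IsRelProj 𝒮 p chart → RelProj.IsRelTwist 𝒮 p chart 1 O1 lam →
      CohB1.IsAmple O1 := by
  intro 𝒯 i P p chart O1 lam hi hP hL
  have hFq := Groth.Agent.M2.isQCoh_of_isFinLocFree hF
  let 𝒮 := Groth.Agent.VA11.symGr (Groth.Agent.M2.isQCoh_of_isFinLocFree hE)
  let j : E ⟶ 𝒮.toModule := Groth.Agent.SymAlg11.symGen (Groth.Agent.M2.isQCoh_of_isFinLocFree hE)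
  have hj : RelProj.IsGrSymAlg E 𝒮 j := Groth.Agent.VA11.isGrSymAlg_symGr _
  obtain ⟨π, hπ', -⟩ := hj.1 𝒯.toQCAlg (φ ≫ i)
  have hπ : RelProj.IsGradedHom π := Groth.Agent.Cyc26Cone.isGradedHom_of_app
    (Groth.Agent.M2.isQCoh_of_isFinLocFree hE) hj π fun U hU m => by
      rw [Groth.Agent.VA11.app_eq_of_comp hπ' U m]
      exact hi.2 U hU (φ.app U m)
  have hsurj : ∀ (U : X.Opens) (hU : IsAffineOpen U), Function.Surjective (RelProj.gradedHomAt π hπ U hU) := by
    intro U hU y
    obtain ⟨x, rfl⟩ := (Groth.Agent.SymAlg11.bijective_liftOn hFq hi.1 U hU).2 y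
    induction x using SymmetricAlgebra.induction with
    | algebraMap r =>
      refine ⟨(𝒮.str.app (Opposite.op U)).hom r, ?_⟩
      rw [Groth.Agent.SymAlg11.liftOn_algebraMap]
      exact ConcreteCategory.congr_hom (NatTrans.congr_app π.comm (Opposite.op U)) r
    | ι m =>
      obtain ⟨m', rfl⟩ := Groth.Agent.M1.app_surjective_affine_of_isQCoh
        (Groth.Agent.M2.isQCoh_of_isFinLocFree hE) hFq φ hU m
      refine ⟨j.app U m', ?_⟩
      rw [Groth.Agent.SymAlg11.liftOn_ι]
      exact Groth.Agent.VA11.app_eq_of_comp hπ' U m'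
    | mul a b ha hb =>
      obtain ⟨a', ha'⟩ := ha
      obtain ⟨b', hb'⟩ := hb
      exact ⟨a' * b', by rw [map_mul, map_mul, ha', hb']⟩
    | add a b ha hb =>
      obtain ⟨a', ha'⟩ := ha
      obtain ⟨b', hb'⟩ := hb
      exact ⟨a' + b', by rw [map_add, map_add, ha', hb']⟩
  have hirr := fun U hU => Groth.Agent.Cyc26Cone.irrelevant_le_of_surjective _ _ _ (hsurj U hU)
  obtain ⟨PE, pE, chartE, hPE⟩ := Groth.Agent.S8258.result 𝒮
  obtain ⟨OE, lamE, hLE⟩ := Groth.Agent.S8284.result 𝒮 pE chartE hPE 1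
  obtain ⟨⟨g, hg, -⟩, -⟩ := Groth.Agent.S8262.result π hπ hirr pE p chartE chart hPE hP
  haveI : IsClosedImmersion g :=
    Groth.Agent.RelProj11.relProjMap_of_forall_affine hPE hP hg @IsClosedImmersion fun U hU =>
      Groth.Agent.RelProj11.isClosedImmersion_map _ _ fun n _ =>
        Groth.Agent.RelProj11.surjOn_of_surjective _ (hsurj U hU) n
  obtain ⟨e⟩ := Groth.Agent.S8287.result π hπ
    (Groth.Agent.VA11.isGenDegOne_of_isGrSymAlg (Groth.Agent.M2.isQCoh_of_isFinLocFree hE) hj)
    hsurj hirr pE p chartE chart hPE hP g hg 1 OE lamE hLE O1 lam hL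
  exact Groth.Agent.Amp.isAmple_of_iso e
    (Groth.Agent.Amp.isAmple_pullback_of_isAffineHom g (hample 𝒮 j PE pE chartE OE lamE hj hPE hLE))

end Groth.Agent.S17289
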