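import Groth.Statements.S1729
import Mathlib.RingTheory.LocalRing.Module

set_option autoImplicit false
universe u
open Dual2
open TensorProduct

namespace Groth.Agent.S1729

/-- Over a local ring, every finite module M admits a projective cover: a surjection from a projective
module P onto M such that no proper submodule of P maps onto M. -/
theorem result (R : Type u) [CommRing R] [IsLocalRing R] (M : Type u) [AddCommGroup M] [Module R M] [Module.Finite R M] : ∃ (P : Type u) (_ : AddCommGroup P) (_ : Module R P) (f : P →ₗ[R] M), Dual2.IsProjectiveCover f := by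
  let k := IsLocalRing.ResidueField R
  let b := Module.finBasis k (k ⊗[R] M)
  have hsurj : Function.Surjective (TensorProduct.mk R k M 1) :=
    TensorProduct.mk_surjective R M k IsLocalRing.residue_surjective
  choose c hc using fun i => hsurj (b i)
  let f : (Fin (Module.finrank k (k ⊗[R] M)) → R) →ₗ[R] M := Fintype.linearCombination R c
  have hf : Function.Surjective f := by
    rw [← LinearMap.range_eq_top, Fintype.range_linearCombination]
    refine IsLocalRing.span_eq_top_of_tmul_eq_basis c b hc
  refine ⟨_, inferInstance, inferInstance, f, ⟨inferInstance, hf, fun N hN => ?_⟩⟩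
  refine top_le_iff.1 (Submodule.le_of_le_smul_of_le_jacobson_bot (I := IsLocalRing.maximalIdeal R)
    Module.Finite.fg_top (by rw [IsLocalRing.jacobson_eq_maximalIdeal ⊥ bot_ne_top]) ?_)
  intro p _
  obtain ⟨n, hn, hpn⟩ : ∃ n ∈ N, f n = f p := by
    have : f p ∈ Submodule.map f N := by rw [hN]; trivial
    exact Submodule.mem_map.1 this
  refine Submodule.mem_sup.2 ⟨n, hn, p - n, ?_, by abel⟩
  have h0 : ∑ i, IsLocalRing.residue R ((p - n) i) • b i = 0 := by
    have : TensorProduct.mk R k M 1 (f (p - n)) = 0 := by rw [map_sub f, hpn, sub_self, map_zero]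
    rw [Fintype.linearCombination_apply, map_sum] at this
    rw [← this]
    refine Finset.sum_congr rfl fun i _ => ?_
    rw [map_smul, hc]
    exact algebraMap_smul k ((p - n) i) (b i)
  have h1 := Fintype.linearIndependent_iff.1 b.linearIndependent _ h0
  rw [← Finset.univ_sum_single (p - n)]
  refine Submodule.sum_mem _ fun i _ => ?_
  have : Pi.single i ((p - n) i) = ((p - n) i) • (Pi.single i (1 : R) : Fin (Module.finrank k (k ⊗[R] M)) → R) := by
    rw [← Pi.single_smul, smul_eq_mul, mul_one]
  rw [this]
  exact Submodule.smul_mem_smul ((IsLocalRing.residue_eq_zero_iff _).1 (h1 i)) Submodule.mem_top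

end Groth.Agent.S1729
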