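import Groth.Statements.S17293
import Groth.Agent.Lib.CurvOpen16.RelDimOne

set_option backward.isDefEq.respectTransparency false
set_option backward.isDefEq.respectTransparency.types false
-- import your own Groth.Agent.* helpers here

set_option autoImplicit false
universe u
open CurvSt

namespace Groth.Agent.S17293

open CategoryTheory AlgebraicGeometry in
/-- Assume the stack of curves over the base scheme S (families with algebraic-space total space, flat,
proper, of finite presentation and of relative dimension at most 1, no marked points) is an
algebraic stack for the fppf topology. Then the families whose structure morphism is a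
Cohen–Macaulay morphism (read etale locally: in every etale chart diagram the morphism of schemes is
flat with Cohen–Macaulay fibre local rings at every point) form an open substack for the fppf
topology; moreover this substack has an object over every algebraically closed field point of S.
(The source works over the integers; the statement over S is its form over a base. The
characterisation of the substack by the Cohen–Macaulay condition on families is built into the
statement as the defining condition of the full subcategory.) -/
theorem result (S : Scheme.{u})
    (hC : AlgSt.IsAlgStack Scheme.fppfPrecoverage (CurvSt.Curves S 0)) :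
    AlgSt.IsOpenSubstack (CurvSt.Curves S 0) (fun A => AlgSp.LocP (fun _ _ g => ∀ x, MoreMor.IsCMAt g x) A.obj.f) Scheme.fppfPrecoverage ∧
      ∀ (Ω : Type u) [Field Ω] [IsAlgClosed Ω] (t : Spec (CommRingCat.of Ω) ⟶ S),
        Nonempty ((AlgSt.fullSub (CurvSt.Curves S 0) (fun A => AlgSp.LocP (fun _ _ g => ∀ x, MoreMor.IsCMAt g x) A.obj.f)).p.Fiber (Over.mk t)) := by
  refine ⟨CurvOpen16.isOpenSubstack_curves CurvOpen16.isOpenLocus_cm hC, fun Ω _ _ t => ?_⟩
  refine CurvOpen16.nonempty_fiber t _ fun X T k _ _ => ?_
  haveI : Smooth k.left := SmoothOfRelativeDimension.smooth 1 k.left
  have hA := CurvOpen16.isCurveFam_yon k Fin.elim0 (fun i => i.elim0)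
  exact (CurvOpen16.locP_iff CurvOpen16.isOpenLocus_cm hA.2.1 hA.2.2.2.1.1 (AlgSp.repWith_id _ X)
    (AlgSp.repWith_id _ X) (h := k) (Category.id_comp _)).2 fun a =>
      (GrpdSlice19.isCMAt_iff _ _).1 (QdmSlice16.isCMAt_of_smooth k.left a)

end Groth.Agent.S17293
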