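import Groth.Statements.S17299
import Groth.Agent.Lib.CurvOpen16.Goren
import Groth.Agent.Lib.CurvOpen16.Line
import Groth.Agent.Lib.GorOpen27.Global

set_option backward.isDefEq.respectTransparency false
set_option backward.isDefEq.respectTransparency.types false
-- import your own Groth.Agent.* helpers here

set_option autoImplicit false
universe u
open CurvSt

namespace Groth.Agent.S17299

open CategoryTheory AlgebraicGeometry in
/-- Assume the stack of curves over the base scheme S (families with algebraic-space total space, flat,
proper, of finite presentation and of relative dimension at most 1, no marked points) is an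
algebraic stack for the fppf topology. Then, inside it, the families whose structure morphism is a
Gorenstein morphism (read etale locally on every chart diagram: at every point flat with Gorenstein
fibre local ring) and has relative dimension exactly 1 (at every point of the total space some etale
chart diagram through it has fibre of local dimension 1 there) form an open substack for the fppf
topology; moreover this substack has an object over every algebraically closed field point of S.
(The source works over the integers; the statement over S is its form over a base.) -/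
theorem result (S : Scheme.{u})
    (hC : AlgSt.IsAlgStack Scheme.fppfPrecoverage (CurvSt.Curves S 0)) :
    AlgSt.IsOpenSubstack (CurvSt.Curves S 0) (fun A => AlgSp.LocP (fun _ _ g => ∀ x, (g.stalkMap x).hom.Flat ∧
            LocCoh.IsGorensteinLocalRing ((g.fiber (g x)).presheaf.stalk (g.asFiber x))) A.obj.f ∧
          (∀ x : AlgSp.Points A.obj.X,
            AlgSp.HasAtMor (fun _ _ h u => FlatMor.fibreDimAt h u = ((1 : ℕ) : WithBot ℕ∞)) A.obj.f x)) Scheme.fppfPrecoverage ∧
      ∀ (Ω : Type u) [Field Ω] [IsAlgClosed Ω] (t : Spec (CommRingCat.of Ω) ⟶ S),
        Nonempty ((AlgSt.fullSub (CurvSt.Curves S 0) (fun A => AlgSp.LocP (fun _ _ g => ∀ x, (g.stalkMap x).hom.Flat ∧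
            LocCoh.IsGorensteinLocalRing ((g.fiber (g x)).presheaf.stalk (g.asFiber x))) A.obj.f ∧
          (∀ x : AlgSp.Points A.obj.X,
            AlgSp.HasAtMor (fun _ _ h u => FlatMor.fibreDimAt h u = ((1 : ℕ) : WithBot ℕ∞)) A.obj.f x))).p.Fiber (Over.mk t)) := by
  refine ⟨?_, fun Ω _ _ t => ?_⟩
  · convert CurvOpen16.isOpenSubstack_curves (S := S)
      (CurvOpen16.isOpenLocus_gorOne fun h _ _ => GorOpen27.isOpen_gorensteinLocus h) hC using 1
    funext A
    exact propext (CurvOpen16.gor_and_iff
      (fun h _ _ => GorOpen27.isOpen_gorensteinLocus h) A.property.1 A.property.2.1 A.property.2.2.2.1.1)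
  · refine CurvOpen16.nonempty_fiber t _ fun X T k _ _ => ?_
    exact ⟨CurvOpen16.gor_line (fun h _ _ => GorOpen27.isOpen_gorensteinLocus h) k, (CurvOpen16.cmOne_line k).2⟩

end Groth.Agent.S17299
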