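import Groth.Statements.S1730


set_option autoImplicit false
universe u
open Dual2

namespace Groth.Agent.S1730

/-- If f : P → M and f' : P' → M are two projective covers of an R-module M, then there is an
isomorphism P ≃ P' compatible with the maps to M. -/
theorem result (R : Type u) [CommRing R] (M P P' : Type u) [AddCommGroup M] [Module R M] [AddCommGroup P] [Module R P] [AddCommGroup P'] [Module R P'] (f : P →ₗ[R] M) (f' : P' →ₗ[R] M) (hf : Dual2.IsProjectiveCover f) (hf' : Dual2.IsProjectiveCover f') : ∃ e : P ≃ₗ[R] P', f' ∘ₗ e.toLinearMap = f := by
  have := hf.projective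
  have := hf'.projective
  obtain ⟨e, he⟩ := Module.projective_lifting_property f' f hf'.surjective
  have hes : Function.Surjective e := by
    rw [← LinearMap.range_eq_top]
    refine hf'.essential _ ?_
    rw [← LinearMap.range_comp, he]
    exact LinearMap.range_eq_top.2 hf.surjective
  obtain ⟨s, hs⟩ := Module.projective_lifting_property e LinearMap.id hes
  have hss : Function.Surjective s := by
    rw [← LinearMap.range_eq_top]
    refine hf.essential _ ?_
    rw [← LinearMap.range_comp, ← he, LinearMap.comp_assoc, hs, LinearMap.comp_id]
    exact LinearMap.range_eq_top.2 hf'.surjective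
  have hei : Function.Injective e := by
    intro a b hab
    obtain ⟨a', rfl⟩ := hss a
    obtain ⟨b', rfl⟩ := hss b
    have h1 := LinearMap.congr_fun hs a'
    have h2 := LinearMap.congr_fun hs b'
    simp only [LinearMap.comp_apply, LinearMap.id_apply] at h1 h2
    rw [← h1, ← h2, hab]
  exact ⟨LinearEquiv.ofBijective e ⟨hei, hes⟩, he⟩

end Groth.Agent.S1730
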