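import Groth.Statements.S17311
import Groth.Agent.Lib.CurveLocus.GeomFibre
import Groth.Agent.Lib.LocImm12.Basic

set_option autoImplicit false
universe u
open CurvSt

namespace Groth.Agent.S17311

open CategoryTheory AlgebraicGeometry in
/-- Let X be a proper scheme of dimension at most 1 over a field k with structure morphism p, and Spec k
→ S a point of the base. The classifying object of X in the stack of curves over S lies in the open
substack of curves with isolated singularities — by definition: every geometric fibre of h_X →
h_{Spec k}, realised as a scheme over an algebraically closed field Ω through a cartesian square of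
sheaves, is smooth over Ω outside a finite set of points — if and only if p : X → Spec k is smooth
outside a finite set of points of X. -/
theorem result (S : Scheme.{u}) (k : Type u) [Field k] (t : Spec (CommRingCat.of k) ⟶ S)
    (X : Scheme.{u}) (p : X ⟶ Spec (CommRingCat.of k)) [IsProper p] (hdim : topologicalKrullDim ↥X ≤ 1) :
    CurvSt.GeomFib (fun _ _ _ X' q _ => Set.Finite {x : ↥X' | ¬ ∃ U : X'.Opens, x ∈ U ∧ Smooth (U.ι ≫ q)}) ((CurvSt.toSpFam S 0).obj ⟨Over.mk t, X, p, Fin.elim0, fun i => i.elim0⟩) ↔
      Set.Finite {x : ↥X | ¬ ∃ U : X.Opens, x ∈ U ∧ Smooth (U.ι ≫ p)} := by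
  refine (Groth.Agent.CurveLocus.geomFib_iff t p
    (fun _ _ _ X' q => Set.Finite {x : ↥X' | ¬ ∃ U : X'.Opens, x ∈ U ∧ Smooth (U.ι ≫ q)})).trans ?_
  haveI : LocallyOfFinitePresentation p := Groth.Agent.LocImm12.locallyOfFinitePresentation_of_locallyOfFiniteType p
  constructor
  · intro H
    let σ := Spec.map (CommRingCat.ofHom (algebraMap k (AlgebraicClosure k)))
    have hsq := IsPullback.of_hasPullback p σ
    haveI : Flat σ := (HasRingHomProperty.Spec_iff (P := @Flat)).2 (RingHom.flat_algebraMap_iff.2 inferInstance)
    haveI : Surjective σ := ⟨Function.surjective_to_subsingleton _⟩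
    have h1 := H _ σ _ _ _ hsq
    rw [Groth.Agent.CurveLocus.nonsmooth_bc p hsq] at h1
    exact Set.Finite.of_preimage h1 (Limits.pullback.fst p σ).surjective
  · intro H Ω _ _ σ X' q pr hsq
    haveI : Flat σ := by
      obtain ⟨φ, rfl⟩ := Spec.map_surjective σ
      exact (HasRingHomProperty.Spec_iff (P := @Flat)).2 (by
        letI := φ.hom.toAlgebra
        exact (inferInstance : Module.Flat k Ω))
    rw [Groth.Agent.CurveLocus.nonsmooth_bc p hsq]
    refine Set.Finite.preimage' H fun x hx => Groth.Agent.CurveLocus.finite_preimage_closed p hsq ?_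
    exact Groth.Agent.CurveLocus.isClosed_singleton_of_mem_finite (p := p)
      (Groth.Agent.CurveLocus.isClosed_nonsmooth p) H hx

end Groth.Agent.S17311
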