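import Groth.Statements.S17316
import Groth.Agent.Lib.StQC14.CompFib

set_option autoImplicit false
universe u
open CategoryTheory CategoryTheory.Limits AlgebraicGeometry
open ResProp

namespace Groth.Agent.S17316

/-- Let `f : 𝒳 → 𝒴` and `g : 𝒴 → 𝒵` be quasi-compact and quasi-separated morphisms of algebraic stacks
over a scheme `S` (fppf topology; diagonals representable, separated and quasi-compact, the text's
standing convention), and `F` a family of quasi-coherent modules of finite presentation on `𝒴`. If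
the structure sheaf of `𝒳` is generating relative to `f` and `F` is generating relative to `g`, then
the family of inverse images `f^* F j` is generating relative to the composite `g ∘ f`. (The
published statement takes two families `E` on `𝒳` and `F` on `𝒴` and concludes for the family of
tensor products `E i ⊗ f^* F j`, for a composite given up to 2-isomorphism; this is the case where
the family on `𝒳` is the structure sheaf alone, so that the tensor products are the inverse images,
and the composite is the strict one.) -/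
theorem result (S : Scheme.{u}) (𝒳 𝒴 𝒵 : AlgSt.Cat S)
    (h𝒳 : AlgSt.IsAlgStack Scheme.fppfPrecoverage 𝒳) (h𝒴 : AlgSt.IsAlgStack Scheme.fppfPrecoverage 𝒴) (h𝒵 : AlgSt.IsAlgStack Scheme.fppfPrecoverage 𝒵)
    (hΔ𝒳 : AlgSt.RepByAlgSpWith (AlgSp.IsSeparatedMor ⊓ AlgSp.IsQuasiCompactMor) (FibCat.diag (FibCat.toSelf 𝒳)))
    (hΔ𝒴 : AlgSt.RepByAlgSpWith (AlgSp.IsSeparatedMor ⊓ AlgSp.IsQuasiCompactMor) (FibCat.diag (FibCat.toSelf 𝒴)))
    (hΔ𝒵 : AlgSt.RepByAlgSpWith (AlgSp.IsSeparatedMor ⊓ AlgSp.IsQuasiCompactMor) (FibCat.diag (FibCat.toSelf 𝒵)))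
    (f : 𝒳 ⥤ᵇ 𝒴) (hfqc : AlgSt.IsQuasiCompactMor Scheme.fppfPrecoverage f) (hfqs : AlgSt.IsQuasiSeparatedMor f)
    (g : 𝒴 ⥤ᵇ 𝒵) (hgqc : AlgSt.IsQuasiCompactMor Scheme.fppfPrecoverage g) (hgqs : AlgSt.IsQuasiSeparatedMor g)
    {ι : Type u} (F : ι → StMod.QCoh 𝒴) (hF : ∀ j, (F j).obj.IsFinPres)
    (hO : StMod.IsRelGenFam f (fun _ : PUnit.{u + 1} => StMod.OQ 𝒳)) (hF' : StMod.IsRelGenFam g F) :
    StMod.IsRelGenFam (BasedFunctor.comp f g) (fun j => (StMod.comapQ f).obj (F j)) := by
  exact StQC14.isRelGenFam_comp_left f g h𝒳 h𝒴 h𝒵 hfqc hfqs hgqc hgqs F hO hF'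

end Groth.Agent.S17316
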