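import Groth.Statements.S17323
import Mathlib
import Groth.Agent.Lib.H2Alg.FinAlgClosed

set_option autoImplicit false
universe u v
open CAlg

namespace Groth.Agent.S17323
open TensorProduct H2Alg

/-- Let k be an algebraically closed field and A a commutative k-algebra which is finite-dimensional as
a k-vector space. Then A has a largest reduced subalgebra: a k-subalgebra B which is reduced and
contains every reduced k-subalgebra of A; moreover the composite of the inclusion B → A with the
projection A → A/nilradical(A) is bijective. -/
theorem result (k : Type u) [Field k] [IsAlgClosed k]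
    (A : Type v) [CommRing A] [Algebra k A] [Module.Finite k A] :
    ∃ B : Subalgebra k A, IsReduced ↥B ∧ (∀ C : Subalgebra k A, IsReduced ↥C → C ≤ B) ∧
      Function.Bijective ((Ideal.Quotient.mkₐ k (nilradical A)).comp B.val) := by
  refine ⟨(FinAlg.sect k A).range, FinAlg.isReduced_range_sect k A, fun C hC => FinAlg.le_range_sect k A C, ?_, ?_⟩
  · rintro ⟨_, x, rfl⟩ ⟨_, y, rfl⟩ h
    simp only [AlgHom.comp_apply, Subalgebra.val, AlgHom.coe_mk, RingHom.coe_mk, MonoidHom.coe_mk, OneHom.coe_mk] at h
    have h' : Ideal.Quotient.mk (nilradical A) (FinAlg.sect k A x) = Ideal.Quotient.mk (nilradical A) (FinAlg.sect k A y) := h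
    rw [FinAlg.mk_sect, FinAlg.mk_sect] at h'
    simp [h']
  · intro x
    exact ⟨⟨_, x, rfl⟩, FinAlg.mk_sect k A x⟩

end Groth.Agent.S17323
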