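import Groth.Statements.S17324
import Mathlib
import Groth.Agent.Lib.H2Alg.FinAlgClosed

set_option autoImplicit false
universe u v
open CAlg

namespace Groth.Agent.S17324
open TensorProduct H2Alg

/-- (i) ⟺ (ii): let k be an algebraically closed field, A a commutative k-algebra which is
finite-dimensional as a k-vector space and is a local ring with maximal ideal m, and a_1, …, a_m ∈
m. Then A is generated as a k-algebra by a_1, …, a_m if and only if m is generated as an ideal by
a_1, …, a_m. (The printed lemma has a third equivalent condition, that the images of the a_i span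
m/m²; its equivalence with (ii) is Nakayama's lemma.) -/
theorem result (k : Type u) [Field k] [IsAlgClosed k]
    (A : Type v) [CommRing A] [Algebra k A] [Module.Finite k A] [IsLocalRing A]
    (m : ℕ) (a : Fin m → A) (ha : ∀ i, a i ∈ IsLocalRing.maximalIdeal A) :
    Algebra.adjoin k (Set.range a) = ⊤ ↔ Ideal.span (Set.range a) = IsLocalRing.maximalIdeal A := by
  have : IsArtinianRing A := isArtinian_of_tower k inferInstance
  have hres : ∀ x : A, ∃ c : k, x - algebraMap k A c ∈ IsLocalRing.maximalIdeal A := by
    intro x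
    let _ := Ideal.Quotient.field (IsLocalRing.maximalIdeal A)
    obtain ⟨c, hc⟩ := (IsAlgClosed.algebraMap_bijective_of_isIntegral (k := k) (K := A ⧸ IsLocalRing.maximalIdeal A)).2 (Ideal.Quotient.mk _ x)
    exact ⟨c, Ideal.Quotient.eq.1 hc.symm⟩
  constructor
  · intro h
    refine le_antisymm (Ideal.span_le.2 (by rintro _ ⟨i, rfl⟩; exact ha i)) fun x hx => ?_
    have hJ : Ideal.span (Set.range a) ≤ IsLocalRing.maximalIdeal A := Ideal.span_le.2 (by rintro _ ⟨i, rfl⟩; exact ha i)
    have key : Algebra.adjoin k (Set.range a) ≤ (⊥ : Subalgebra k (A ⧸ Ideal.span (Set.range a))).comap (Ideal.Quotient.mkₐ k _) := by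
      rw [Algebra.adjoin_le_iff]
      rintro _ ⟨i, rfl⟩
      show Ideal.Quotient.mk _ (a i) ∈ (⊥ : Subalgebra k _)
      rw [Ideal.Quotient.eq_zero_iff_mem.2 (Ideal.subset_span (Set.mem_range_self i))]
      exact zero_mem _
    have hxmem : x ∈ (⊥ : Subalgebra k (A ⧸ Ideal.span (Set.range a))).comap (Ideal.Quotient.mkₐ k _) :=
      key (h ▸ Algebra.mem_top)
    obtain ⟨c, hc⟩ := Algebra.mem_bot.1 hxmem
    have h1 : x - algebraMap k A c ∈ Ideal.span (Set.range a) := Ideal.Quotient.eq.1 hc.symm
    rcases eq_or_ne c 0 with rfl | hc0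
    · simpa using h1
    · exfalso
      have h2 : algebraMap k A c ∈ IsLocalRing.maximalIdeal A := by
        have := sub_mem hx (hJ h1)
        simpa using this
      exact (IsLocalRing.maximalIdeal.isMaximal A).ne_top (Ideal.eq_top_of_isUnit_mem _ h2 ((isUnit_iff_ne_zero.2 hc0).map _))
  · intro h
    obtain ⟨N, hN⟩ : IsNilpotent (IsLocalRing.maximalIdeal A) := by
      rw [← IsLocalRing.jacobson_eq_maximalIdeal ⊥ bot_ne_top]
      exact IsArtinianRing.isNilpotent_jacobson_bot
    have key : ∀ j : ℕ, ∀ x : A, ∃ y ∈ Algebra.adjoin k (Set.range a), x - y ∈ IsLocalRing.maximalIdeal A ^ j := by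
      intro j
      induction j with
      | zero => exact fun x => ⟨0, zero_mem _, by simp⟩
      | succ j ih =>
        intro x
        obtain ⟨c, hc⟩ := hres x
        have hc' : x - algebraMap k A c ∈ Ideal.span (Set.range a) := h.symm ▸ hc
        obtain ⟨r, hr⟩ := Ideal.mem_span_range_iff_exists_fun.1 hc'
        choose y hy hy' using fun i => ih (r i)
        refine ⟨algebraMap k A c + ∑ i, y i * a i, add_mem (Subalgebra.algebraMap_mem _ _)
          (sum_mem fun i _ => mul_mem (hy i) (Algebra.subset_adjoin ⟨i, rfl⟩)), ?_⟩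
        rw [← sub_sub, ← hr, ← Finset.sum_sub_distrib]
        refine sum_mem fun i _ => ?_
        rw [← sub_mul, pow_succ]
        exact Ideal.mul_mem_mul (hy' i) (ha i)
    rw [eq_top_iff]
    intro x _
    obtain ⟨y, hy, hxy⟩ := key N x
    rw [hN] at hxy
    rwa [sub_eq_zero.1 hxy]

end Groth.Agent.S17324
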