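import Groth.Statements.S17325
import Mathlib

set_option autoImplicit false
universe u v
open LieAlg

namespace Groth.Agent.S17325

/-- Let k be an algebraically closed field of characteristic p > 0, V a finite-dimensional k-vector
space and g a nonzero k-linear subspace of End_k(V) closed under the p-th power map u ↦ u^p. Then g
contains a nonzero u with u^p = c u for some c ∈ k, i.e. a line k u closed under p-th powers. (The
published lemma concerns an abstract nonzero finite-dimensional restricted Lie algebra; this row
concerns subspaces of End_k(V) closed under p-th powers, a class that contains every restricted Lie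
subalgebra of gl(V).) -/
theorem result (k : Type u) [Field k] [IsAlgClosed k]
    (p : ℕ) [Fact p.Prime] [CharP k p] (V : Type v) [AddCommGroup V] [Module k V] [FiniteDimensional k V]
    (g : Submodule k (Module.End k V)) (hg : ∀ u ∈ g, u ^ p ∈ g) (hne : g ≠ ⊥) :
    ∃ u ∈ g, u ≠ 0 ∧ ∃ c : k, u ^ p = c • u := by
  classical
  obtain ⟨u, hu, hu0⟩ := g.exists_mem_ne_zero_of_ne_bot hne
  let U : ℕ → Module.End k V := fun i => u ^ p ^ i
  have hUg : ∀ i, U i ∈ g := fun i => by
    induction i with
    | zero => simpa [U] using hu
    | succ i ih => simpa [U, pow_succ, pow_mul] using hg _ ih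
  have hex : ∃ m, U m ∈ Submodule.span k (U '' Set.Iio m) := by
    by_contra hc; push Not at hc
    have hli : ∀ n, LinearIndependent k (fun i : Fin n => U i) := by
      intro n
      induction n with
      | zero => exact linearIndependent_empty_type
      | succ n ih =>
        rw [linearIndependent_finSucc']
        refine ⟨by simpa [Fin.init_def] using ih, ?_⟩
        have : Set.range (Fin.init fun i : Fin (n + 1) => U i) = U '' Set.Iio n := by
          ext x; constructor
          · rintro ⟨i, rfl⟩; exact ⟨i, i.2, rfl⟩
          · rintro ⟨i, hi, rfl⟩; exact ⟨⟨i, hi⟩, rfl⟩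
        rw [this]; simpa using hc n
    have := (hli (Module.finrank k (Module.End k V) + 1)).fintype_card_le_finrank
    simp at this
  let m := Nat.find hex
  have hm := Nat.find_spec hex
  have hli : LinearIndependent k (fun i : Fin m => U i) := by
    have : ∀ n, n ≤ m → LinearIndependent k (fun i : Fin n => U i) := by
      intro n
      induction n with
      | zero => exact fun _ => linearIndependent_empty_type
      | succ n ih =>
        intro hn
        rw [linearIndependent_finSucc']
        refine ⟨by simpa [Fin.init_def] using ih (by omega), ?_⟩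
        have : Set.range (Fin.init fun i : Fin (n + 1) => U i) = U '' Set.Iio n := by
          ext x; constructor
          · rintro ⟨i, rfl⟩; exact ⟨i, i.2, rfl⟩
          · rintro ⟨i, hi, rfl⟩; exact ⟨⟨i, hi⟩, rfl⟩
        rw [this]; simpa using Nat.find_min hex (show n < m by omega)
    exact this m le_rfl
  have hm0 : m ≠ 0 := fun h => hu0 (by
    have : U m ∈ Submodule.span k (U '' Set.Iio m) := hm
    simpa [h, U] using this)
  obtain ⟨m', hm'⟩ : ∃ m', m = m' + 1 := ⟨m - 1, by omega⟩
  have hm2 : U m ∈ Submodule.span k (Set.range fun i : Fin m => U i) := by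
    refine Submodule.span_mono ?_ hm
    rintro _ ⟨i, hi, rfl⟩; exact ⟨⟨i, hi⟩, rfl⟩
  obtain ⟨c0, hc0⟩ := (Submodule.mem_span_range_iff_exists_fun k).1 hm2
  let c : ℕ → k := fun i => if h : i < m then c0 ⟨i, h⟩ else 0
  have hc : U m = ∑ i ∈ Finset.range m, c i • U i := by
    rw [← hc0, ← Fin.sum_univ_eq_sum_range (fun i => c i • U i)]
    exact Finset.sum_congr rfl fun i _ => by simp [c]
  by_cases hz : ∀ i, i < m → c i = 0
  · refine ⟨U m', hUg _, hli.ne_zero (⟨m', by omega⟩ : Fin m), 0, ?_⟩
    rw [zero_smul, show U m' ^ p = U m by simp [U, hm', pow_succ, pow_mul], hc]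
    exact Finset.sum_eq_zero fun i hi => by rw [hz i (Finset.mem_range.1 hi), zero_smul]
  · let P : ℕ → Polynomial k := fun n => Nat.rec (Polynomial.C (c 0) * Polynomial.X ^ p)
      (fun i q => q ^ p + Polynomial.C (c (i + 1)) * Polynomial.X ^ p) n
    have hp1 : 1 < p := (Fact.out : p.Prime).one_lt
    have hP0 : ∀ i, (P i).eval 0 = 0 := fun i => by
      induction i with
      | zero => simp [P, zero_pow (by omega : p ≠ 0)]
      | succ i ih =>
        show (P i ^ p + Polynomial.C (c (i + 1)) * Polynomial.X ^ p).eval 0 = 0
        simp [ih, zero_pow (by omega : p ≠ 0)]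
    have hPd : ∀ i, ((∀ l, l ≤ i → c l = 0) ∧ P i = 0) ∨ p ≤ (P i).natDegree := fun i => by
      induction i with
      | zero =>
        by_cases h : c 0 = 0
        · exact Or.inl ⟨fun l hl => by rwa [Nat.le_zero.1 hl], by simp [P, h]⟩
        · exact Or.inr (Polynomial.natDegree_C_mul_X_pow p _ h).ge
      | succ i ih =>
        rcases ih with ⟨h1, h2⟩ | h2
        · by_cases h : c (i + 1) = 0
          · refine Or.inl ⟨fun l hl => (Nat.le_succ_iff.1 hl).elim (h1 l) (fun e => e ▸ h), ?_⟩
            show P i ^ p + _ = 0
            simp [h2, h, zero_pow (by omega : p ≠ 0)]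
          · right
            show p ≤ (P i ^ p + Polynomial.C (c (i + 1)) * Polynomial.X ^ p).natDegree
            rw [h2, zero_pow (by omega : p ≠ 0), zero_add, Polynomial.natDegree_C_mul_X_pow p _ h]
        · right
          show p ≤ (P i ^ p + Polynomial.C (c (i + 1)) * Polynomial.X ^ p).natDegree
          have h3 : (Polynomial.C (c (i + 1)) * Polynomial.X ^ p).natDegree < (P i ^ p).natDegree := by
            refine lt_of_le_of_lt (Polynomial.natDegree_C_mul_X_pow_le _ _) ?_
            rw [Polynomial.natDegree_pow]; nlinarith
          rw [Polynomial.natDegree_add_eq_left_of_natDegree_lt h3, Polynomial.natDegree_pow]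
          nlinarith
    have hdeg : p ≤ (P m').natDegree := (hPd m').resolve_left fun h => hz fun i hi => h.1 i (by omega)
    obtain ⟨Q, hQ⟩ : Polynomial.X ∣ P m' := Polynomial.X_dvd_iff.2 (by rw [Polynomial.coeff_zero_eq_eval_zero]; exact hP0 _)
    have hQd : (Q - 1).degree ≠ 0 := by
      intro h
      have h1 : (P m').natDegree ≤ 1 := by
        rw [hQ]
        refine Polynomial.natDegree_mul_le.trans ?_
        have h2 := Polynomial.natDegree_eq_of_degree_eq_some h
        have : Q.natDegree ≤ 0 := by
          rw [show Q = (Q - 1) + 1 by ring]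
          refine (Polynomial.natDegree_add_le _ _).trans ?_
          simp [h2]; rfl
        simp; omega
      omega
    obtain ⟨y, hy⟩ := IsAlgClosed.exists_root (Q - 1) hQd
    have hQ0 : Q.eval 0 = 0 := by
      have h1 : Polynomial.X ^ 2 ∣ P m' := by
        have : ∀ i, Polynomial.X ^ 2 ∣ P i := fun i => by
          induction i with
          | zero => exact Dvd.dvd.mul_left (pow_dvd_pow _ hp1) _
          | succ i ih => exact dvd_add (dvd_pow ih (by omega)) (Dvd.dvd.mul_left (pow_dvd_pow _ hp1) _)
        exact this _
      obtain ⟨S, hS⟩ := h1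
      rw [hQ, pow_two, mul_assoc] at hS
      rw [mul_left_cancel₀ Polynomial.X_ne_zero hS]; simp
    have hy0 : y ≠ 0 := fun h => by
      rw [h, Polynomial.IsRoot.def, Polynomial.eval_sub, hQ0, Polynomial.eval_one, zero_sub, neg_eq_zero] at hy
      exact one_ne_zero hy
    let x : ℕ → k := fun i => (P i).eval y
    have hxm : x m' = y := by
      rw [Polynomial.IsRoot.def, Polynomial.eval_sub, Polynomial.eval_one, sub_eq_zero] at hy
      simp [x, hQ, hy]
    let w := ∑ i ∈ Finset.range m, x i • U i
    refine ⟨w, Submodule.sum_mem _ fun i _ => g.smul_mem _ (hUg i), fun hw => ?_, 1, ?_⟩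
    · have := Fintype.linearIndependent_iff.1 hli (fun i => x i) (by rw [Fin.sum_univ_eq_sum_range (fun i => x i • U i)]; exact hw) ⟨m', by omega⟩
      exact hy0 (hxm.symm.trans this)
    · have hpow : w ^ p = ∑ i ∈ Finset.range m, (x i) ^ p • U (i + 1) := by
        have e : w = Polynomial.aeval u (∑ i ∈ Finset.range m, Polynomial.C (x i) * Polynomial.X ^ (p ^ i)) := by
          simp [w, U, Algebra.smul_def]
        rw [e, ← map_pow, sum_pow_char p, map_sum]
        refine Finset.sum_congr rfl fun i _ => ?_
        rw [mul_pow, ← pow_mul, ← pow_succ, map_mul, map_pow, map_pow, Polynomial.aeval_C, Polynomial.aeval_X, Algebra.smul_def, map_pow]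
      rw [one_smul, hpow, hm', Finset.sum_range_succ, ← hm', hc, Finset.smul_sum, hxm]
      simp only [w, hm']
      rw [Finset.sum_range_succ' (fun i => y ^ p • c i • U i), Finset.sum_range_succ' (fun i => x i • U i), ← add_assoc, ← Finset.sum_add_distrib]
      congr 1
      · refine Finset.sum_congr rfl fun i _ => ?_
        rw [smul_smul, ← add_smul]
        congr 1
        show x i ^ p + y ^ p * c (i + 1) = (P i ^ p + Polynomial.C (c (i + 1)) * Polynomial.X ^ p).eval y
        simp only [x, Polynomial.eval_add, Polynomial.eval_pow, Polynomial.eval_mul, Polynomial.eval_C, Polynomial.eval_X]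
        ring
      · rw [smul_smul]; congr 1
        show y ^ p * c 0 = (Polynomial.C (c 0) * Polynomial.X ^ p).eval y
        simp only [Polynomial.eval_pow, Polynomial.eval_mul, Polynomial.eval_C, Polynomial.eval_X]
        ring

end Groth.Agent.S17325
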