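import Groth.Statements.S17326
import Mathlib
import Groth.Agent.Lib.H2Alg.FinAlgClosed

set_option autoImplicit false
universe u v
open CAlg

namespace Groth.Agent.S17326
open TensorProduct H2Alg

/-- Let k be an algebraically closed field of characteristic p > 0, A a commutative k-algebra which is
finite-dimensional as a k-vector space (a finite k-scheme X), and n ≥ 1. The n-th iterated relative
Frobenius morphism X → X^(p^n) is an isomorphism if and only if X is reduced; on rings: the map a ↦
a^(p^n) of A to itself (which is the ring homomorphism underlying the relative Frobenius, the twist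
A^(p^n) having the same underlying ring as A) is bijective if and only if A is reduced. -/
theorem result (k : Type u) [Field k] [IsAlgClosed k]
    (p : ℕ) [Fact p.Prime] [CharP k p] (A : Type v) [CommRing A] [Algebra k A] [Module.Finite k A]
    (n : ℕ) (hn : 1 ≤ n) :
    Function.Bijective (fun a : A => a ^ p ^ n) ↔ IsReduced A := by
  have hp : 1 < p ^ n := Nat.one_lt_pow (by omega) (Fact.out : p.Prime).one_lt
  constructor
  · intro h
    rw [isReduced_iff_pow_one_lt (p ^ n) hp]
    intro x hx
    exact h.1 (a₂ := 0) (by simpa [zero_pow (by omega : p ^ n ≠ 0)] using hx)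
  · intro h
    obtain ⟨-, hs, hk⟩ := FinAlg.pi_eval_surjective k A
    have hinj : Function.Injective (AlgHom.pi (R := k) (fun f : A →ₐ[k] k => f)) := by
      rw [RingHom.injective_iff_ker_eq_bot, hk]
      exact nilradical_eq_zero A
    constructor
    · intro a b hab
      apply hinj
      funext f
      have h1 : f a ^ p ^ n = f b ^ p ^ n := by simpa using congrArg f hab
      exact iterateFrobenius_inj k p n h1
    · intro b
      choose r hr using fun f : A →ₐ[k] k => IsAlgClosed.exists_pow_nat_eq (f b) (show 0 < p ^ n by omega)
      obtain ⟨a, ha⟩ := hs r
      refine ⟨a, hinj (funext fun f => ?_)⟩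
      have h1 : f a = r f := congrFun ha f
      simp [h1, hr]

end Groth.Agent.S17326
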