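import Groth.Statements.S18472
import Groth.Agent.S8048
import Mathlib.RingTheory.Smooth.Fiber
import Mathlib.RingTheory.Finiteness.ModuleFinitePresentation
import Mathlib.RingTheory.Ideal.Cotangent
import Mathlib.Algebra.Module.FinitePresentation

set_option autoImplicit false
universe u v
open Hopf

namespace Groth.Agent.S18472

open scoped TensorProduct

/-- Let R be a commutative ring and A a commutative Hopf algebra over R which is finitely generated and
projective as an R-module (a finite locally free group scheme G = Spec A over Spec R), and let I =
ker ε be its augmentation ideal. Then A is étale over R if and only if I² = I. (The published text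
calls G finite flat, meaning that A is finitely generated and projective.) -/
theorem result
    (R : Type u) [CommRing R] (A : Type v) [CommRing A] [HopfAlgebra R A]
    [Module.Finite R A] [Module.Projective R A] :
    Algebra.Etale R A ↔
      RingHom.ker (Bialgebra.counitAlgHom R A) ^ 2 = RingHom.ker (Bialgebra.counitAlgHom R A) := by

  set I := RingHom.ker (Bialgebra.counitAlgHom R A)
  have hmem : ∀ a : A, a - algebraMap R A (Bialgebra.counitAlgHom R A a) ∈ I := by
    intro a
    rw [RingHom.mem_ker, map_sub, AlgHom.commutes]
    simp
  let g : A →ₗ[R] I :=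
    LinearMap.codRestrict (I.restrictScalars R)
      (LinearMap.id - Algebra.linearMap R A ∘ₗ (Bialgebra.counitAlgHom R A).toLinearMap) hmem
  let π : A →ₗ[R] I.Cotangent := (I.toCotangent.restrictScalars R) ∘ₗ g
  have hπI : ∀ x : I, π (x : A) = I.toCotangent x := by
    intro x
    have hx : Bialgebra.counitAlgHom R A (x : A) = 0 := x.2
    show I.toCotangent (g (x : A)) = I.toCotangent x
    congr 1
    apply Subtype.ext
    show (x : A) - algebraMap R A (Bialgebra.counitAlgHom R A (x : A)) = (x : A)
    rw [hx, map_zero, sub_zero]
  have hπ1 : π 1 = 0 := by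
    have : g 1 = 0 := by
      apply Subtype.ext
      show (1 : A) - algebraMap R A (Bialgebra.counitAlgHom R A 1) = 0
      rw [map_one, map_one, sub_self]
    show I.toCotangent (g 1) = 0
    rw [this, map_zero]
  obtain ⟨hleib, huniv⟩ := Groth.Agent.S8048.result R A π hπI hπ1
  have hsq : I ^ 2 = I ↔ Subsingleton I.Cotangent := by
    rw [Ideal.cotangent_subsingleton_iff, IsIdempotentElem, ← pow_two]
  rw [hsq]
  constructor
  · intro h
    haveI : Subsingleton Ω[A⁄R] := Algebra.FormallyUnramified.subsingleton_kaehlerDifferential
    let d : A →ₗ[R] A ⊗[R] I.Cotangent := (π.lTensor A) ∘ₗ (CoalgebraStruct.comul (R := R) (A := A))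
    have hd : ∀ a b, d (a * b) = a • d b + b • d a := hleib
    let D : Derivation R A (A ⊗[R] I.Cotangent) := Derivation.mk' d hd
    have hD : ∀ a, d a = 0 := by
      intro a
      show D a = 0
      rw [← Derivation.liftKaehlerDifferential_comp_D D a,
        Subsingleton.elim (KaehlerDifferential.D R A a) 0, map_zero]
    refine subsingleton_of_forall_eq 0 fun y => ?_
    obtain ⟨x, rfl⟩ := I.toCotangent_surjective y
    rw [← hπI x]
    have key : (TensorProduct.lid R I.Cotangent) ((Coalgebra.counit (R := R) (A := A)).rTensor _ (d (x : A)))
        = π (x : A) := by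
      have h2 : (Coalgebra.counit (R := R) (A := A)).rTensor _ (d (x : A)) = (1 : R) ⊗ₜ[R] π (x : A) := by
        show (Coalgebra.counit (R := R) (A := A)).rTensor _ ((π.lTensor A) (Coalgebra.comul (x : A))) = _
        rw [← LinearMap.comp_apply, LinearMap.rTensor_comp_lTensor, ← LinearMap.lTensor_comp_rTensor,
          LinearMap.comp_apply, Coalgebra.rTensor_counit_comul, LinearMap.lTensor_tmul]
      rw [h2, TensorProduct.lid_tmul, one_smul]
    rw [hD, map_zero, map_zero] at key
    exact key.symm
  · intro h
    haveI : Algebra.FormallyUnramified R A := by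
      refine ⟨subsingleton_of_forall_eq 0 fun z => ?_⟩
      have hz : z ∈ Submodule.span A (Set.range (KaehlerDifferential.D R A)) := by
        rw [KaehlerDifferential.span_range_derivation]; trivial
      induction hz using Submodule.span_induction with
      | mem w hw =>
        obtain ⟨a, rfl⟩ := hw
        obtain ⟨f, hf, -⟩ := huniv (Ω[A⁄R]) (KaehlerDifferential.D R A)
        have : π = 0 := LinearMap.ext fun _ => Subsingleton.elim _ _
        rw [← hf a, LinearMap.comp_apply, this]
        simp
      | zero => rfl
      | add v w _ _ hv hw => rw [hv, hw, add_zero]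
      | smul c v _ hv => rw [hv, smul_zero]
    haveI : Module.FinitePresentation R A := Module.finitePresentation_of_projective R A
    exact Algebra.Etale.of_formallyUnramified_of_flat


end Groth.Agent.S18472
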