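import Groth.Statements.S17327
import Groth.Agent.S18472
import Groth.Agent.S17326
import Mathlib.RingTheory.Etale.Field

set_option autoImplicit false
universe u v
open Hopf

namespace Groth.Agent.S17327

/-- Let k be an algebraically closed field of characteristic p > 0, A a commutative Hopf algebra over k
which is finite-dimensional as a k-vector space (a finite group scheme G = Spec A), I the
augmentation ideal (kernel of the counit) and n ≥ 1. The n-th Frobenius kernel G_n is the closed
subgroup scheme cut out by the ideal generated by the p^n-th powers f^(p^n), f ∈ I; it is trivial,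
i.e. that ideal equals I, if and only if G is reduced. -/
theorem result (k : Type u) [Field k] [IsAlgClosed k]
    (p : ℕ) [Fact p.Prime] [CharP k p] (A : Type v) [CommRing A] [HopfAlgebra k A] [Module.Finite k A]
    (n : ℕ) (hn : 1 ≤ n) :
    Ideal.span ((fun f : A => f ^ p ^ n) '' (RingHom.ker (Bialgebra.counitAlgHom k A) : Set A)) =
      RingHom.ker (Bialgebra.counitAlgHom k A) ↔ IsReduced A := by
  set I := RingHom.ker (Bialgebra.counitAlgHom k A) with hI
  have hq : 1 < p ^ n := Nat.one_lt_pow (by omega) (Fact.out : p.Prime).one_lt
  constructor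
  · intro h
    have h2 : I ^ 2 = I := le_antisymm (Ideal.pow_le_self two_ne_zero) (h.symm.le.trans (Ideal.span_le.2 (by
      rintro _ ⟨f, hf, rfl⟩
      exact Ideal.pow_le_pow_right hq (Ideal.pow_mem_pow hf _))))
    have : Algebra.Etale k A := (Groth.Agent.S18472.result k A).2 h2
    exact Algebra.FormallyUnramified.isReduced_of_field k A
  · intro hr
    refine le_antisymm (Ideal.span_le.2 ?_) fun x hx => ?_
    · rintro _ ⟨f, hf, rfl⟩
      exact Ideal.pow_mem_of_mem _ hf _ (by omega)
    · obtain ⟨y, hy⟩ := ((Groth.Agent.S17326.result k p A n hn).2 hr).2 x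
      refine Ideal.subset_span ⟨y, ?_, hy⟩
      have : Bialgebra.counitAlgHom k A y ^ p ^ n = 0 := by
        rw [← map_pow]
        exact (congrArg _ hy).trans hx
      exact pow_eq_zero_iff' |>.1 this |>.1


end Groth.Agent.S17327
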