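import Groth.Statements.S17328
import Groth.Agent.Lib.TruncPoly23.Quot

set_option autoImplicit false
universe u v
open Hopf

namespace Groth.Agent.S17328

/-- Let k be an algebraically closed field of characteristic p > 0 and A a commutative Hopf algebra over
k, finite-dimensional as a k-vector space, with augmentation ideal I (kernel of the counit), such
that f^p = 0 for every f ∈ I (the finite group scheme G = Spec A is infinitesimal of height at most
one: A is then a local ring with maximal ideal I). Then the order of G is dim_k A = p^n where n =
dim_k I/I² is the dimension of the Lie algebra of G. -/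
theorem result (k : Type u) [Field k] [IsAlgClosed k]
    (p : ℕ) [Fact p.Prime] [CharP k p] (A : Type v) [CommRing A] [HopfAlgebra k A] [Module.Finite k A]
    (h1 : ∀ f : A, Bialgebra.counitAlgHom k A f = 0 → f ^ p = 0) :
    Module.finrank k A = p ^ Module.finrank k (RingHom.ker (Bialgebra.counitAlgHom k A)).Cotangent := by
  classical
  have : IsNoetherianRing A := IsNoetherianRing.of_finite k A
  have := Groth.Agent.TruncPoly23.finite_cotangent (k := k) (A := A)
  let b := Module.finBasis k (RingHom.ker (Bialgebra.counitAlgHom k A)).Cotangent
  have hI : IsNilpotent (RingHom.ker (Bialgebra.counitAlgHom k A)) :=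
    (Ideal.fg_of_isNoetherianRing _).isNilpotent_iff_le_nilradical.2 fun x hx => ⟨p, h1 x hx⟩
  obtain ⟨N, hN⟩ := hI
  have h := Groth.Agent.TruncPoly23.finrank_quot b p ⊥ bot_le (fun i a ha => by simp [Ideal.mem_bot.1 ha])
    (fun i => Ideal.mem_bot.2 (h1 _ (Groth.Agent.TruncPoly23.gen_mem b i))) ⟨N, hN.le⟩
  rw [Fintype.card_fin] at h
  rw [← h]
  exact (AlgEquiv.quotientBot k A).toLinearEquiv.finrank_eq.symm


end Groth.Agent.S17328
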