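import Groth.Statements.S17330
import Groth.Agent.Lib.InfPoint23.Hom
import Mathlib.RingTheory.Ideal.IdempotentFG


set_option autoImplicit false
universe u v
open Hopf

namespace Groth.Agent.S17330

open Groth.Agent TruncPoly23

theorem exists_point (k : Type u) [Field k] [IsAlgClosed k] (A : Type v) [CommRing A] [Algebra k A]
    [Module.Finite k A] (M : Ideal A) [M.IsMaximal] : ∃ g : A →ₐ[k] k, RingHom.ker g = M := by
  let e : k ≃ₐ[k] A ⧸ M := AlgEquiv.ofBijective (Algebra.ofId k (A ⧸ M))
    IsAlgClosed.algebraMap_bijective_of_isIntegral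
  refine ⟨e.symm.toAlgHom.comp (Ideal.Quotient.mkₐ k M), Ideal.ext fun a => ?_⟩
  simp [RingHom.mem_ker, Ideal.Quotient.eq_zero_iff_mem]

/-- A finite Hopf algebra over an algebraically closed field with trivial cotangent space is reduced. -/
theorem isReduced_of_cotangent (k : Type u) [Field k] [IsAlgClosed k] (A : Type v) [CommRing A] [HopfAlgebra k A]
    [Module.Finite k A] (hs : Subsingleton (aug k A).Cotangent) : IsReduced A := by
  haveI : IsNoetherianRing A := isNoetherian_of_tower k (inferInstance : IsNoetherian k A)
  obtain ⟨e, he, hspan⟩ := (Ideal.isIdempotentElem_iff_of_fg (aug k A) (IsNoetherian.noetherian _)).1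
    ((Ideal.cotangent_subsingleton_iff _).1 hs)
  refine ⟨fun x hx => ?_⟩
  by_contra hne
  let ann : Ideal A :=
    { carrier := {a | a * x = 0}
      add_mem' := fun {a b} ha hb => by
        simp only [Set.mem_setOf_eq] at ha hb ⊢
        rw [add_mul, ha, hb, add_zero]
      zero_mem' := zero_mul x
      smul_mem' := fun c a ha => by
        simp only [Set.mem_setOf_eq, smul_eq_mul] at ha ⊢
        rw [mul_assoc, ha, mul_zero] }
  obtain ⟨M, hM, hle⟩ := Ideal.exists_le_maximal ann (fun h => hne (by
    have h1 : (1 : A) * x = 0 := (show (1 : A) ∈ ann from h ▸ Submodule.mem_top)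
    rwa [one_mul] at h1))
  obtain ⟨g, hg⟩ := exists_point k A M
  set t := HopfDim23.translate g
  have hMe : ∀ a, a ∈ M ↔ t a ∈ aug k A := fun a => by
    rw [← hg, ← HopfDim23.comap_translate_aug g]; rfl
  have hxM : t x ∈ aug k A := (hMe x).1 (hM.isPrime.mem_of_pow_mem _ ((hx.choose_spec).symm ▸ M.zero_mem))
  rw [hspan, Ideal.submodule_span_eq, Ideal.mem_span_singleton] at hxM
  obtain ⟨c, hc⟩ := hxM
  have hfix : e * t x = t x := by rw [hc, ← mul_assoc, he.eq]
  have h1 : t.symm (1 - e) ∈ M := hle (show t.symm (1 - e) * x = 0 from t.injective (by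
    rw [map_mul, AlgEquiv.apply_symm_apply, map_zero, sub_mul, one_mul, hfix, sub_self]))
  rw [hMe, AlgEquiv.apply_symm_apply] at h1
  have h1' : (1 : A) ∈ aug k A := by
    simpa using add_mem h1 (show e ∈ aug k A by rw [hspan]; exact Submodule.mem_span_singleton_self e)
  simp [RingHom.mem_ker] at h1'

theorem exists_pointDer (k : Type u) [Field k] (A : Type v) [CommRing A] [HopfAlgebra k A]
    (h : ¬ Subsingleton (aug k A).Cotangent) :
    ∃ D : CartDual.D k A, InfPoint23.IsPointDer D ∧ D ≠ 0 := by
  let b := Module.Basis.ofVectorSpace k (aug k A).Cotangent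
  obtain ⟨i⟩ : Nonempty (Module.Basis.ofVectorSpaceIndex k (aug k A).Cotangent) := by
    by_contra hne
    rw [not_nonempty_iff] at hne
    exact h b.repr.toEquiv.subsingleton
  refine ⟨WithConv.toConv (tan b i), (InfPoint23.isPointDer_iff _).2 fun x y => ?_, fun h0 => ?_⟩
  · show tan b i (x * y) = _
    rw [tan_mul]
    simp only [Bialgebra.counitAlgHom_apply, CartDual.coe_apply, WithConv.ofConv_toConv]
    ring
  · have := congrArg (fun D : CartDual.D k A => D (gen b i)) h0
    simp [CartDual.coe_apply, tan, proj_gen] at this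



/-- Let k be an algebraically closed field of characteristic p > 0 and A a commutative Hopf algebra over
k, finite-dimensional as a k-vector space and not reduced (a non-reduced finite group scheme G =
Spec A). Then G contains a subgroup scheme isomorphic to μ_p or to α_p: there is a surjective
bialgebra homomorphism from A onto the group algebra of the cyclic group of order p (the Hopf
algebra of μ_p, group elements group-like) or onto k[X]/(X^p) with X primitive (the Hopf algebra of
α_p). -/
theorem result (k : Type u) [Field k] [IsAlgClosed k]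
    (p : ℕ) [Fact p.Prime] [CharP k p] (A : Type v) [CommRing A] [HopfAlgebra k A] [Module.Finite k A]
    (hA : ¬ IsReduced A) :
    (∃ f : A →ₐc[k] MonoidAlgebra k (Multiplicative (ZMod p)), Function.Surjective f) ∨
      (∃ f : A →ₐc[k] AlphaP.A p k, Function.Surjective f) := by
  classical
  have hcot : ¬ Subsingleton (aug k A).Cotangent := fun hs => hA (isReduced_of_cotangent k A hs)
  obtain ⟨D, hD, hDne⟩ := exists_pointDer k A hcot
  obtain ⟨E, hE, hEne, hE0 | hEp⟩ := InfPoint23.exists_normalized p hD hDne
  · exact Or.inr (InfPoint23.exists_alpha p hE hEne hE0)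
  · exact Or.inl (InfPoint23.exists_mu p hE hEne hEp)


end Groth.Agent.S17330
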