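import Groth.Statements.S17332
import Mathlib
import Groth.Agent.Lib.H2Alg.WeakAss

set_option autoImplicit false
universe u v w
open CAlg

namespace Groth.Agent.S17332
open TensorProduct

/-- Let k be a field, E and F finite sets, and O(E), O(F) the k-algebras of k-valued functions with
pointwise operations. Then every k-algebra homomorphism u : O(F) → O(E) is pull-back along a unique
map φ : E → F, i.e. u(g) = g ∘ φ for all g. (In the source k is algebraically closed; the printed
argument only uses that k is a field.) -/
theorem result (k : Type u) [Field k] (E : Type v) [Finite E]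
    (F : Type w) [Finite F] (u : (F → k) →ₐ[k] (E → k)) :
    ∃! φ : E → F, ∀ g : F → k, u g = g ∘ φ := by
  classical
  have : Fintype F := Fintype.ofFinite F
  have key : ∀ e, ∃ f : F, ∀ g, u g e = g f := fun e => by
    obtain ⟨f, hf⟩ : ∃ f : F, u (Pi.single f 1) e ≠ 0 := by
      by_contra! hc
      have h1 : u (∑ f : F, Pi.single f 1) e = 1 := by
        rw [show (∑ f : F, Pi.single f (1 : k)) = 1 from Finset.univ_sum_single (1 : F → k)]; simp
      simp [map_sum, Finset.sum_apply, hc] at h1
    refine ⟨f, fun g => ?_⟩
    have h2 : g * Pi.single f 1 = g f • (Pi.single f (1 : k)) := by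
      funext x; rcases eq_or_ne x f with rfl | hx <;> simp [*]
    have := congrArg (fun t => u t e) h2
    simp only [map_mul, map_smul, Pi.mul_apply, Pi.smul_apply, smul_eq_mul] at this
    exact mul_right_cancel₀ hf this
  choose φ hφ using key
  refine ⟨φ, fun g => funext fun e => hφ e g, fun ψ hψ => funext fun e => ?_⟩
  by_contra hne
  have := congrFun (hψ (Pi.single (φ e) 1)) e
  rw [hφ] at this
  simp [hne] at this

end Groth.Agent.S17332
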