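import Groth.Statements.S17333
import Mathlib
import Groth.Agent.Lib.H2Alg.WeakAss

set_option autoImplicit false
universe u v w
open CAlg

namespace Groth.Agent.S17333
open TensorProduct

/-- Let k be a field and A = B × C a decomposable commutative k-algebra. Then the natural map Der(B) ×
Der(C) → Der(A) is bijective: every k-derivation D : A → A is (b, c) ↦ (D₁ b, D₂ c) for a unique
pair of k-derivations D₁ : B → B, D₂ : C → C. Compatibility with brackets is not stated. (The
published statement takes k algebraically closed; this row takes any field.) -/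
theorem result (k : Type u) [Field k] (B : Type v) [CommRing B] [Algebra k B]
    (C : Type w) [CommRing C] [Algebra k C] (D : Derivation k (B × C) (B × C)) :
    ∃! P : Derivation k B B × Derivation k C C, ∀ (b : B) (c : C), D (b, c) = (P.1 b, P.2 c) := by
  have hid : ∀ e : B × C, e * e = e → D e = 0 := fun e he => by
    have h := D.leibniz e e
    rw [he, smul_eq_mul, ← two_mul] at h
    have h2 : e * D e = 0 := by
      have := congrArg (e * ·) h
      simp only [← mul_assoc, mul_comm e 2] at this
      rw [mul_assoc 2 e e, he] at this
      linear_combination -this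
    rw [h, h2, mul_zero]
  have hB : ∀ b : B, (D (b, 0)).2 = 0 := fun b => by
    have h := D.leibniz ((1, 0) : B × C) (b, 0)
    simp only [Prod.mk_mul_mk, one_mul, mul_zero, hid (1, 0) (by simp), smul_zero, add_zero] at h
    rw [h]; simp
  have hC : ∀ c : C, (D (0, c)).1 = 0 := fun c => by
    have h := D.leibniz ((0, 1) : B × C) (0, c)
    simp only [Prod.mk_mul_mk, one_mul, mul_zero, hid (0, 1) (by simp), smul_zero, add_zero] at h
    rw [h]; simp
  let DB : Derivation k B B := Derivation.mk'
    (LinearMap.fst k B C ∘ₗ D.toLinearMap ∘ₗ LinearMap.inl k B C) fun a b => by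
      have := congrArg Prod.fst (D.leibniz ((a, 0) : B × C) (b, 0))
      simpa using this
  let DC : Derivation k C C := Derivation.mk'
    (LinearMap.snd k B C ∘ₗ D.toLinearMap ∘ₗ LinearMap.inr k B C) fun a b => by
      have := congrArg Prod.snd (D.leibniz ((0, a) : B × C) (0, b))
      simpa using this
  have hs : ∀ b c, D (b, c) = D (b, 0) + D (0, c) := fun b c => by rw [← map_add]; simp
  refine ⟨(DB, DC), fun b c => ?_, fun P hP => ?_⟩
  · rw [hs]; ext
    · simp [DB, hC c]
    · simp [DC, hB b]
  · ext x
    · have := congrArg Prod.fst (hP x 0); simpa [DB] using this.symm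
    · have := congrArg Prod.snd (hP 0 x); simpa [DC] using this.symm

end Groth.Agent.S17333
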