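import Groth.Statements.S17334
import Mathlib
import Groth.Agent.Lib.H2Alg.WeakAss

set_option autoImplicit false
universe u v
open CAlg

namespace Groth.Agent.S17334
open TensorProduct

/-- Let k be a field and A a nonzero commutative k-algebra which is finite-dimensional as a k-vector
space. Then A is indecomposable (no decomposition as a product of two nonzero rings, i.e. no
idempotent other than 0 and 1) if and only if A is a local ring. (In the source k is algebraically
closed and the lemma adds that the maximal ideal is then the nilradical, is nilpotent, and has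
residue field k; the equivalence itself uses only that k is a field, and the zero algebra is
excluded here explicitly.) -/
theorem result (k : Type u) [Field k]
    (A : Type v) [CommRing A] [Algebra k A] [Module.Finite k A] [Nontrivial A] :
    (∀ e : A, IsIdempotentElem e → e = 0 ∨ e = 1) ↔ IsLocalRing A := by
  have : IsArtinianRing A := IsArtinianRing.of_finite k A
  refine ⟨fun h => IsLocalRing.of_nonunits_add fun a b ha hb hab => ?_, fun _ e he => ?_⟩
  · have key : ∀ a : A, IsUnit a ∨ IsNilpotent a := fun a => by
      obtain ⟨n, hn⟩ := monotone_stabilizes_iff_noetherian.mpr (inferInstance : IsNoetherian A A) |> fun _ => IsArtinian.monotone_stabilizes (R := A) (M := A)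
        ⟨fun n => OrderDual.toDual (Ideal.span {a ^ n}), fun m n hmn => by
          exact Ideal.span_singleton_le_span_singleton.2 (pow_dvd_pow a hmn)⟩
      have h2 : Ideal.span {a ^ n} = Ideal.span {a ^ (n + n + 1)} := hn (n + n + 1) (by omega)
      obtain ⟨c, hc⟩ := Ideal.mem_span_singleton.1 (h2 ▸ Ideal.mem_span_singleton_self (a ^ n) : a ^ n ∈ Ideal.span {a ^ (n + n + 1)})
      have he : IsIdempotentElem (a ^ (n + 1) * c) := by
        show a ^ (n + 1) * c * (a ^ (n + 1) * c) = a ^ (n + 1) * c
        linear_combination -(c * a) * hc
      rcases h _ he with h0 | h1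
      · exact Or.inr ⟨n, by rw [hc, show a ^ (n + n + 1) * c = a ^ n * (a ^ (n + 1) * c) by ring, h0, mul_zero]⟩
      · exact Or.inl (IsUnit.of_mul_eq_one (a ^ n * c) (by rw [← h1]; ring))
    exact ((Commute.all a b).isNilpotent_add ((key a).resolve_left ha) ((key b).resolve_left hb)).not_isUnit hab
  · rcases IsLocalRing.isUnit_or_isUnit_one_sub_self e with hu | hu
    · exact Or.inr (hu.mul_left_cancel (by rw [mul_one]; exact he))
    · exact Or.inl (hu.mul_left_cancel (by rw [mul_zero, sub_mul, one_mul, he, sub_self]))

end Groth.Agent.S17334
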