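import Groth.Statements.S17337
import Groth.Agent.Lib.PLie23.Restricted
import Mathlib.LinearAlgebra.Matrix.ToLin
import Mathlib.LinearAlgebra.FreeModule.Finite.Basic
-- import your own Groth.Agent.* helpers here

set_option autoImplicit false
universe u v
open PLie

namespace Groth.Agent.S17337

/-- Let k be a field of characteristic p > 0 and (L, x ↦ x^[p]) a finite-dimensional restricted Lie
algebra over k. Then L is isomorphic to a restricted Lie subalgebra of gl_n(k) for some n: there is
an injective k-linear map e : L → M_n(k) with e[x, y] = e(x)e(y) − e(y)e(x) and e(x^[p]) = e(x)^p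
for all x, y. (The published statement takes k algebraically closed; this row takes any field of
characteristic p.) -/
theorem result (k : Type u) [Field k] (p : ℕ) [Fact p.Prime] [CharP k p]
    (L : Type v) [LieRing L] [LieAlgebra k L] [Module.Finite k L] (φ : PLie.PMap k p L) :
    ∃ (n : ℕ) (e : L →ₗ[k] Matrix (Fin n) (Fin n) k), PLie.IsPSubOfAssoc φ e := by
  classical
  let b := Module.finBasis k L
  set d := Module.finrank k L
  haveI : Finite (Groth.Agent.PLie23.RWord p (Fin d)) := inferInstance
  haveI := Fintype.ofFinite (Groth.Agent.PLie23.RWord p (Fin d))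
  let e0 : Fin (Fintype.card (Groth.Agent.PLie23.RWord p (Fin d))) ≃ Groth.Agent.PLie23.RWord p (Fin d) :=
    (Fintype.equivFin _).symm
  let B : Module.Basis (Fin (Fintype.card (Groth.Agent.PLie23.RWord p (Fin d)))) k
      (Groth.Agent.PLie23.RWord p (Fin d) →₀ k) := Finsupp.basisSingleOne.reindex e0.symm
  let T := LinearMap.toMatrixAlgEquiv B
  obtain ⟨h1, h2, h3⟩ := Groth.Agent.PLie23.isPSubOfAssoc_rrep φ b
  refine ⟨_, T.toLinearMap.comp (Groth.Agent.PLie23.rrep φ b), T.injective.comp h1,
    fun x y => ?_, fun x => ?_⟩
  · show T _ = T _ * T _ - T _ * T _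
    rw [h2, map_sub, map_mul, map_mul]
  · show T _ = T _ ^ p
    rw [h3, map_pow]
end Groth.Agent.S17337
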