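import Groth.Statements.S17351
import Groth.Agent.Lib.LMSimple8.IdealExt
import Groth.Agent.Lib.NumPoly18.Apps
import Groth.Agent.Lib.OrbitTop19.Smooth

set_option backward.isDefEq.respectTransparency false
set_option backward.isDefEq.respectTransparency.types false
set_option maxHeartbeats 1600000

set_option autoImplicit false
universe u
open CategoryTheory CategoryTheory.Limits AlgebraicGeometry
open AdjLin

namespace Groth.Agent.S17351

/-- Let k be an algebraically closed field of characteristic zero and X a smooth projective surface over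
k (irreducible, proper, smooth of dimension 2, with an ample invertible module); let M be an
invertible O_X-module, Z ⊆ X a closed subscheme whose underlying set is finite, with quasi-coherent
ideal I_Z regarded as an O_X-module, and let 0 → M → F → I_Z → 0 be a short exact sequence of
O_X-modules (an extension of L ⊗ I_Z by O_X in the source, here tensored with M = L⁻¹). Then F is
not finite locally free if and only if there exist an ideal sheaf I' strictly containing I_Z (a
proper closed subscheme Z' of Z, the empty one allowed), a short exact sequence 0 → M → F' → I' → 0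
and a morphism g : F → F' which is compatible with the two maps from M and, on the quotients, with
the inclusion I_Z → I' (the unique map commuting with the inclusions into O_X); in other words the
extension class of F is the pull-back of an extension of I' by M. -/
theorem result (k : Type u) [Field k] [IsAlgClosed k] [CharZero k]
    (X : Scheme.{u}) [X.Over (Spec (CommRingCat.of k))] [IsProper (X ↘ (Spec (CommRingCat.of k)))]
    [Smooth (X ↘ (Spec (CommRingCat.of k)))] [IrreducibleSpace X] (hdim : topologicalKrullDim X = 2)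
    (H : X.Modules) (hH : CohB1.IsAmple H)
    (M : X.Modules) (hM : PicF.IsInvertible M)
    (IZ : X.IdealSheafData) (hZ : (IZ.support : Set X).Finite)
    (F : X.Modules) (a : M ⟶ F) (b : F ⟶ ClSub.idealMod IZ) (w : a ≫ b = 0)
    (hex : (ShortComplex.mk a b w).ShortExact) :
    ¬ FlatMod.IsFinLocFree F ↔
      ∃ (I' : X.IdealSheafData) (F' : X.Modules) (a' : M ⟶ F') (b' : F' ⟶ ClSub.idealMod I') (w' : a' ≫ b' = 0)
        (φ : ClSub.idealMod IZ ⟶ ClSub.idealMod I') (g : F ⟶ F'),
        IZ < I' ∧ (ShortComplex.mk a' b' w').ShortExact ∧ φ ≫ ClSub.idealModι I' = ClSub.idealModι IZ ∧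
          a ≫ g = a' ∧ g ≫ b' = b ≫ φ := by
  haveI : IsReduced X := OrbitTop19.isReduced_of_smooth (X ↘ Spec (CommRingCat.of k))
  haveI : IsIntegral X := isIntegral_of_irreducibleSpace_of_isReduced X
  haveI : IsNoetherian X := CohFound.isNoetherian_of_isProper (X ↘ Spec (CommRingCat.of k))
  have hX : Pi1.IsNormalScheme X := RH26.isNormalScheme_of_regular fun x => SurfRR10.regular (k := k) x
  have hMR := Div21F12.r1_of_invertible hX hM (Snapper.isCoh_of_isInvertible hM)
  let Y := ShStab28.sys k X H hH.1 (ShStab28.positive k hH)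
  have hOc : Coh.IsCoh (Coh.structureModule X) := M1.isCoh_structureModule X
  have hOcl := RH26.closed1_structure hX
  have hIdsp : ∀ (J : X.IdealSheafData) (x : X),
      Function.Injective ((ClSub.idealMod J).presheaf.stalkSpecializes (RH26.gsp x)) := fun J x v v' h =>
    (M1.mono_iff_stalk (ClSub.idealModι J)).1 inferInstance x (hOcl.1 x (by
      show (Coh.structureModule X).presheaf.stalkSpecializes (RH26.gsp x) (RefHull.stalkMapₗ (ClSub.idealModι J) x v) =
        (Coh.structureModule X).presheaf.stalkSpecializes (RH26.gsp x) (RefHull.stalkMapₗ (ClSub.idealModι J) x v')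
      rw [RH26.stalkMapₗ_stalkSpecializes, RH26.stalkMapₗ_stalkSpecializes, h]))
  have hquot : Coh.IsCoh (ClSub.quotMod IZ) :=
    CohFound.isCoh_push_closedImm IZ.subschemeι (M1.isCoh_structureModule _)
  have hιs : ∀ x : X, ringKrullDim (X.presheaf.stalk x) ≤ 1 →
      Function.Surjective (RefHull.stalkMapₗ (ClSub.idealModι IZ) x) := fun x hx v => by
    have hxs : x ∉ (IZ.support : Set X) := LMSimple8.notMem_of_dim_le_zero (k := k) hdim IZ.support.isClosed
      (InterLen.dim_le_zero_of_finite (k := k) IZ.support.isClosed hZ) hx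
    have hs0 : x ∉ CohB1.support (ClSub.quotMod IZ) := fun h => hxs (NumPoly18.support_quotMod_subset IZ h)
    obtain ⟨u, hu⟩ := ((Cyc26.stalkLin_exact (M2.shortExact_idealMod IZ) x).2.1 v).1
      ((M1.notMem_support_iff _ _).1 hs0 _)
    exact ⟨u, hu⟩
  have hIc : Coh.IsCoh (ClSub.idealMod IZ) := Y.ok_ker _ hOc hquot
  have hF : Coh.IsCoh F := Y.ok_ext hex (Snapper.isCoh_of_isInvertible hM) hIc
  have hFsp := LMSimple8.injective_sp_extension a b w hex hMR.closed.1 (hIdsp IZ)
  haveI : Epi b := hex.epi_g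
  constructor
  · intro hnf
    let W := RefHull.ddual F
    let β : F ⟶ W := RefHull.bidualMap F
    have hWc : Coh.IsCoh W := RH26.isCoh_dual (RH26.isCoh_dual hF)
    have hWcl : RH26.Closed1 W := RH26.closed1_dual hX (RH26.isCoh_dual hF)
    have hWr := (RH26.isReflexive_iff_stalks hWc).1 ((RH26.isReflexive_iff_closed1 hX hWc).2 hWcl)
    have hWf : FlatMod.IsFinLocFree W := RH26.isFinLocFree_of_stalks hWc fun x => by
      haveI := SurfRR10.regular (k := k) x
      haveI : Module.IsReflexive (X.presheaf.stalk x) (W.presheaf.stalk x) := hWr x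
      haveI := M1.finite_stalk hWc.1 hWc.2 x
      exact RH26.free_of_isReflexive_regular ((VB17.ringKrullDim_stalk_le_topologicalKrullDim x).trans hdim.le) _
    have hβη := (RH26.bijective_bidual_stalk_iff hF _).2 (RH26.isReflexiveAt_generic hF)
    haveI : Mono β := LMSimple8.mono_of_injective_η hFsp β hβη.1
    have hβ1 : ∀ x : X, ringKrullDim (X.presheaf.stalk x) ≤ 1 → Function.Surjective (RefHull.stalkMapₗ β x) := fun x hx =>
      ((RH26.bijective_bidual_stalk_iff hF x).2 (RH26.isReflexiveAt_of_dim_le_one hX hF (hFsp x) hx)).2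
    let eβ := LinearEquiv.ofBijective (RefHull.stalkMapₗ β (genericPoint X)) hβη
    obtain ⟨b'', hb''⟩ := RH26.exists_hom_of_generic hOcl
      ((RefHull.stalkMapₗ (b ≫ ClSub.idealModι IZ) (genericPoint X)).comp eβ.symm.toLinearMap) fun x hx v hv => by
        obtain ⟨t, ht⟩ := hv
        obtain ⟨u, rfl⟩ := hβ1 x hx.le t
        refine ⟨RefHull.stalkMapₗ (b ≫ ClSub.idealModι IZ) x u, ?_⟩
        rw [RH26.stalkMapₗ_stalkSpecializes]
        show _ = RefHull.stalkMapₗ (b ≫ ClSub.idealModι IZ) (genericPoint X) (eβ.symm v)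
        congr 1
        refine eβ.eq_symm_apply.2 ?_
        rw [← ht]
        exact (RH26.stalkMapₗ_stalkSpecializes β (RH26.gsp x) u).symm
    have hβb : β ≫ b'' = b ≫ ClSub.idealModι IZ := by
      refine sub_eq_zero.1 (LMSimple8.stalk_eq_zero_of_closed1 hOcl _ fun v => ?_)
      show (M1.stalkAb _).map (β ≫ b'' - b ≫ ClSub.idealModι IZ) v = 0
      rw [Functor.map_sub]
      show RefHull.stalkMapₗ (β ≫ b'') _ v - RefHull.stalkMapₗ (b ≫ ClSub.idealModι IZ) _ v = 0
      rw [LMSimple8.stalkMap_comp, hb'', sub_eq_zero]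
      show RefHull.stalkMapₗ _ _ (eβ.symm (eβ v)) = _
      rw [eβ.symm_apply_apply]
    have hJ : Coh.IsCoh (Abelian.image b'') := ShStab28.Sys.ok_image Y b'' hWc hOc
    haveI : Coh.IsQCoh (Abelian.image b'') := hJ.1
    obtain ⟨e, he⟩ := LMSimple8.exists_idealMod_fac (Abelian.image.ι b'')
    let I' := SecDiv.ofMono (Abelian.image.ι b'')
    let b' : W ⟶ ClSub.idealMod I' := Abelian.factorThruImage b'' ≫ e.hom
    have hb' : b' ≫ ClSub.idealModι I' = b'' := by
      rw [Category.assoc, he, Abelian.image.fac]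
    have h0 : ClSub.idealModι IZ ≫ ClSub.toSubscheme I' = 0 := by
      rw [← cancel_epi b, CategoryTheory.Limits.comp_zero, ← Category.assoc, ← hβb, ← hb', Category.assoc,
        Category.assoc, show ClSub.idealModι I' ≫ ClSub.toSubscheme I' = 0 from kernel.condition _,
        CategoryTheory.Limits.comp_zero, CategoryTheory.Limits.comp_zero]
    let φ : ClSub.idealMod IZ ⟶ ClSub.idealMod I' := kernel.lift _ (ClSub.idealModι IZ) h0
    have hφ : φ ≫ ClSub.idealModι I' = ClSub.idealModι IZ := kernel.lift_ι _ _ _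
    have hg : β ≫ b' = b ≫ φ := by
      rw [← cancel_mono (ClSub.idealModι I'), Category.assoc β b', hb', Category.assoc b φ, hφ, hβb]
    have w' : (a ≫ β) ≫ b' = 0 := by rw [Category.assoc, hg, reassoc_of% w, zero_comp]
    let c : M ⟶ kernel b' := kernel.lift b' (a ≫ β) w'
    have hc : c ≫ kernel.ι b' = a ≫ β := kernel.lift_ι _ _ _
    haveI : Mono a := hex.mono_f
    haveI : Mono c := mono_of_mono_fac hc
    have hKsp : ∀ x, Function.Injective ((kernel b').presheaf.stalkSpecializes (RH26.gsp x)) :=
      (LMSimple8.closed1_kernel hWcl (hIdsp I') b').1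
    haveI : IsIso c := LMSimple8.isIso_of_codim_one hMR.closed hKsp c fun x hx v => by
      obtain ⟨u, hu⟩ := hβ1 x hx (RefHull.stalkMapₗ (kernel.ι b') x v)
      have h1 : RefHull.stalkMapₗ φ x (RefHull.stalkMapₗ b x u) = 0 := by
        rw [← LMSimple8.stalkMap_comp, ← hg, LMSimple8.stalkMap_comp, hu, ← LMSimple8.stalkMap_comp, kernel.condition]
        exact LMSimple8.stalkMap_zero_apply x v
      haveI : Mono φ := mono_of_mono_fac hφ
      obtain ⟨m, hm⟩ := ((Cyc26.stalkLin_exact hex x).2.1 u).1
        ((M1.mono_iff_stalk φ).1 inferInstance x (h1.trans (map_zero _).symm))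
      refine ⟨m, (M1.mono_iff_stalk (kernel.ι b')).1 inferInstance x ?_⟩
      show RefHull.stalkMapₗ (kernel.ι b') x (RefHull.stalkMapₗ c x m) = RefHull.stalkMapₗ (kernel.ι b') x v
      rw [← LMSimple8.stalkMap_comp, hc, LMSimple8.stalkMap_comp, show RefHull.stalkMapₗ a x m = u from hm, hu]
    haveI : Epi b' := epi_comp _ _
    have hex' : (ShortComplex.mk (a ≫ β) b' w').ShortExact := by
      refine ShortComplex.shortExact_of_iso (ShortComplex.isoMk (S₁ := ShortComplex.mk (kernel.ι b') b' (kernel.condition b'))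
          (S₂ := ShortComplex.mk (a ≫ β) b' w') (asIso c).symm (Iso.refl W) (Iso.refl _) ?_ ?_)
        (ShortComplex.ShortExact.mk (S := ShortComplex.mk (kernel.ι b') b' (kernel.condition b'))
          (ShortComplex.exact_kernel b'))
      · show inv c ≫ (a ≫ β) = kernel.ι b' ≫ 𝟙 W
        rw [Category.comp_id, ← hc, IsIso.inv_hom_id_assoc]
      · show 𝟙 W ≫ b' = b' ≫ 𝟙 _
        rw [Category.id_comp, Category.comp_id]
    refine ⟨I', W, a ≫ β, b', w', φ, β, ?_, hex', hφ, rfl, hg⟩
    refine lt_of_le_of_ne (LMSimple8.le_of_fac φ hφ) fun heq => hnf ?_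
    have key : ∀ (J : X.IdealSheafData) (ψ : ClSub.idealMod IZ ⟶ ClSub.idealMod J),
        IZ = J → ψ ≫ ClSub.idealModι J = ClSub.idealModι IZ → IsIso ψ := by
      rintro J ψ rfl hψ
      rw [show ψ = 𝟙 _ from (cancel_mono (ClSub.idealModι IZ)).1 (hψ.trans (Category.id_comp _).symm)]
      infer_instance
    have hφi : IsIso φ := key I' φ heq hφ
    let t : ShortComplex.mk a b w ⟶ ShortComplex.mk (a ≫ β) b' w' := ⟨𝟙 M, β, φ, Category.id_comp _, hg⟩
    haveI : IsIso t.τ₁ := inferInstanceAs (IsIso (𝟙 M))
    haveI : IsIso t.τ₃ := hφi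
    haveI : IsIso β := ShortComplex.isIso₂_of_shortExact_of_isIso₁₃ (φ := t) hex hex'
    exact M2.isFinLocFree_of_iso (asIso β).symm hWf
  · rintro ⟨I', F', a', b', w', φ, g, hlt, hex', hφ, hag, hgb⟩ hfree
    haveI : Mono φ := mono_of_mono_fac hφ
    have hFcl : RH26.Closed1 F := (RH26.isReflexive_iff_closed1 hX hF).1 ((RH26.isReflexive_iff_stalks hF).2 fun x => by
      haveI := ((M1.isFinLocFree_iff F).1 hfree).2 x
      haveI := M1.finite_stalk hF.1 hF.2 x
      show Module.IsReflexive (X.presheaf.stalk x) (F.presheaf.stalk x)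
      infer_instance)
    have hF'sp := LMSimple8.injective_sp_extension a' b' w' hex' hMR.closed.1 (hIdsp I')
    haveI : Mono g := by
      refine Preadditive.mono_of_cancel_zero _ fun t ht => ?_
      have h1 : t ≫ b = 0 := by
        rw [← cancel_mono φ, Category.assoc, ← hgb, reassoc_of% ht, zero_comp, zero_comp]
      haveI : Mono (ShortComplex.mk a b w).f := hex.mono_f
      obtain ⟨s, hs⟩ : ∃ s, s ≫ a = t := ⟨hex.exact.lift t h1, hex.exact.lift_f t h1⟩
      haveI : Mono a' := hex'.mono_f
      have h2 : s ≫ a' = 0 := by rw [← hag, reassoc_of% hs, ht]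
      rw [← hs, show s = 0 from (cancel_mono a').1 (h2.trans zero_comp.symm), zero_comp]
    have hgs : ∀ x : X, ringKrullDim (X.presheaf.stalk x) ≤ 1 → Function.Surjective (RefHull.stalkMapₗ g x) := fun x hx v => by
      obtain ⟨q, hq⟩ := hιs x hx (RefHull.stalkMapₗ (ClSub.idealModι I') x (RefHull.stalkMapₗ b' x v))
      obtain ⟨(u : F.presheaf.stalk x), hu⟩ := (M1.epi_iff_stalk b).1 inferInstance x q
      have hu' : RefHull.stalkMapₗ b x u = q := hu
      rw [← hu'] at hq
      have h1 : RefHull.stalkMapₗ b' x (v - RefHull.stalkMapₗ g x u) = 0 := by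
        refine (M1.mono_iff_stalk (ClSub.idealModι I')).1 inferInstance x ?_
        show RefHull.stalkMapₗ (ClSub.idealModι I') x _ = RefHull.stalkMapₗ (ClSub.idealModι I') x 0
        rw [map_sub, map_sub, map_zero, sub_eq_zero, ← LMSimple8.stalkMap_comp g b', hgb, ← hq, ← LMSimple8.stalkMap_comp,
          ← LMSimple8.stalkMap_comp, Category.assoc, hφ, LMSimple8.stalkMap_comp]
      obtain ⟨m, hm⟩ := ((Cyc26.stalkLin_exact hex' x).2.1 _).1 h1
      refine ⟨u + RefHull.stalkMapₗ a x m, ?_⟩
      rw [map_add, ← LMSimple8.stalkMap_comp a g, hag, show RefHull.stalkMapₗ a' x m = v - RefHull.stalkMapₗ g x u from hm,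
        add_sub_cancel]
    haveI : IsIso g := LMSimple8.isIso_of_codim_one hFcl hF'sp g hgs
    haveI : Epi b' := hex'.epi_g
    haveI : Epi (g ≫ b') := epi_comp _ _
    haveI : Epi (b ≫ φ) := hgb ▸ (inferInstance : Epi (g ≫ b'))
    haveI : Epi φ := epi_of_epi b φ
    haveI : IsIso φ := isIso_of_mono_of_epi φ
    exact hlt.not_ge (LMSimple8.le_of_fac (inv φ) (by rw [← hφ, IsIso.inv_hom_id_assoc]))

end Groth.Agent.S17351
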