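import Groth.Statements.S19673
import Groth.Agent.Lib.LMSimple8.ExtReal
import Groth.Agent.S17351

set_option backward.isDefEq.respectTransparency false
set_option backward.isDefEq.respectTransparency.types false
set_option maxHeartbeats 1600000

set_option autoImplicit false
universe u
open CategoryTheory CategoryTheory.Limits AlgebraicGeometry
open AdjLin

namespace Groth.Agent.S19673

/-- Let k be an algebraically closed field of characteristic zero and X a smooth projective surface over
k (irreducible, proper, smooth of dimension 2, with an ample invertible module); let M be an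
invertible O_X-module and Z ⊆ X a finite set of closed points, viewed as a reduced finite subscheme
with ideal sheaf I_Z (the vanishing ideal of the closed set Z), regarded as an O_X-module. Then the
following are equivalent: (a) there is a short exact sequence 0 → M → F → I_Z → 0 of O_X-modules
with F finite locally free (an extension class of I_Z by M whose middle term is a vector bundle; in
the source the extensions are of L ⊗ I_Z by O_X, here tensored with M = L⁻¹); (b) for every proper
subset Z' of Z, the empty one included, with vanishing ideal I_{Z'} ⊇ I_Z and φ : I_Z → I_{Z'} the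
inclusion (the map commuting with the two inclusions into O_X), the map Ext¹(I_{Z'}, M) → Ext¹(I_Z,
M) given by precomposition with φ is not surjective. Ext groups are taken in the category of all
O_X-modules (the Ext instance is the stated hypothesis; it holds). -/
theorem result (k : Type u) [Field k]
    [IsAlgClosed k] [CharZero k]
    (X : Scheme.{u}) [X.Over (Spec (CommRingCat.of k))] [IsProper (X ↘ (Spec (CommRingCat.of k)))]
    [Smooth (X ↘ (Spec (CommRingCat.of k)))] [IrreducibleSpace X] (hdim : topologicalKrullDim X = 2)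
    (H : X.Modules) (hH : CohB1.IsAmple H)
    (M : X.Modules) (hM : PicF.IsInvertible M)
    (Z : Finset X) (hZc : IsClosed ((Z : Set X))) (hZ : ∀ z ∈ Z, IsClosed ({z} : Set X))
    [HasExt.{u} X.Modules] :
    (∃ (F : X.Modules) (a : M ⟶ F)
        (b : F ⟶ ClSub.idealMod (Scheme.IdealSheafData.vanishingIdeal ⟨(Z : Set X), hZc⟩)) (w : a ≫ b = 0),
        (ShortComplex.mk a b w).ShortExact ∧ FlatMod.IsFinLocFree F) ↔
      ∀ (Z' : Finset X) (hZ'c : IsClosed ((Z' : Set X))), Z' ⊂ Z →
        ∀ φ : ClSub.idealMod (Scheme.IdealSheafData.vanishingIdeal ⟨(Z : Set X), hZc⟩) ⟶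
            ClSub.idealMod (Scheme.IdealSheafData.vanishingIdeal ⟨(Z' : Set X), hZ'c⟩),
          φ ≫ ClSub.idealModι (Scheme.IdealSheafData.vanishingIdeal ⟨(Z' : Set X), hZ'c⟩) =
              ClSub.idealModι (Scheme.IdealSheafData.vanishingIdeal ⟨(Z : Set X), hZc⟩) →
            ¬ Function.Surjective ((Abelian.Ext.mk₀ φ).precomp M (zero_add 1)) := by
  classical
  have hZf : ((Scheme.IdealSheafData.vanishingIdeal ⟨(Z : Set X), hZc⟩).support : Set X).Finite := by
    rw [Scheme.IdealSheafData.coe_support_vanishingIdeal]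
    exact Z.finite_toSet
  constructor
  · rintro ⟨F, a, b, w, hS, hF⟩ Z' hZ'c hlt φ hφ hsurj
    obtain ⟨e, he⟩ := hsurj hS.extClass
    obtain ⟨F', a', b', w', g, hS', hag, hgb⟩ := LMSimple8.exists_lift_of_class hS φ e he
    have hle : Scheme.IdealSheafData.vanishingIdeal ⟨(Z : Set X), hZc⟩ < Scheme.IdealSheafData.vanishingIdeal ⟨(Z' : Set X), hZ'c⟩ := by
      refine lt_of_le_of_ne (Scheme.IdealSheafData.vanishingIdeal_antimono fun x hx => Finset.coe_subset.2 hlt.subset hx) fun he => ?_
      have h := congrArg (fun I : X.IdealSheafData => (I.support : Set X)) he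
      simp only [Scheme.IdealSheafData.coe_support_vanishingIdeal] at h
      exact hlt.ne (Finset.coe_injective h).symm
    exact (S17351.result k X hdim H hH M hM _ hZf F a b w hS).2
      ⟨_, F', a', b', w', φ, g, hle, hS', hφ, hag, hgb⟩ hF
  · intro h
    let K : (Z' : Finset X) → IsClosed (Z' : Set X) → Submodule k
        (Abelian.Ext (ClSub.idealMod (Scheme.IdealSheafData.vanishingIdeal ⟨(Z : Set X), hZc⟩)) M 1) := fun Z' hc =>
      if hex : ∃ φ : ClSub.idealMod (Scheme.IdealSheafData.vanishingIdeal ⟨(Z : Set X), hZc⟩) ⟶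
            ClSub.idealMod (Scheme.IdealSheafData.vanishingIdeal ⟨(Z' : Set X), hc⟩),
          φ ≫ ClSub.idealModι _ = ClSub.idealModι _ then
        LinearMap.range ((Abelian.Ext.mk₀ hex.choose).precompOfLinear k M (zero_add 1)) else ⊥
    let s : Finset (Subspace k (Abelian.Ext (ClSub.idealMod (Scheme.IdealSheafData.vanishingIdeal ⟨(Z : Set X), hZc⟩)) M 1)) :=
      Z.ssubsets.image fun (Z' : Finset X) => if hc : IsClosed (Z' : Set X) then K Z' hc else ⊥
    have hfc : ∀ {Z' : Finset X}, Z' ⊂ Z → IsClosed (Z' : Set X) := fun {Z'} hlt => by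
      rw [← Set.biUnion_of_singleton (Z' : Set X)]
      exact Z'.finite_toSet.isClosed_biUnion fun z hz => hZ z (hlt.subset hz)
    by_cases htop : ⊤ ∈ s
    · obtain ⟨Z', hZ', hK⟩ := Finset.mem_image.1 htop
      have hlt := Finset.mem_ssubsets.1 hZ'
      rw [dif_pos (hfc hlt)] at hK
      simp only [K] at hK
      by_cases hex : ∃ φ : ClSub.idealMod (Scheme.IdealSheafData.vanishingIdeal ⟨(Z : Set X), hZc⟩) ⟶
            ClSub.idealMod (Scheme.IdealSheafData.vanishingIdeal ⟨(Z' : Set X), hfc hlt⟩),
          φ ≫ ClSub.idealModι _ = ClSub.idealModι _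
      · rw [dif_pos hex] at hK
        exact absurd (LinearMap.range_eq_top.1 hK) (h Z' (hfc hlt) hlt hex.choose hex.choose_spec)
      · refine absurd ?_ hex
        have hle : Scheme.IdealSheafData.vanishingIdeal ⟨(Z : Set X), hZc⟩ ≤
            Scheme.IdealSheafData.vanishingIdeal ⟨(Z' : Set X), hfc hlt⟩ :=
          Scheme.IdealSheafData.vanishingIdeal_antimono fun x hx => Finset.coe_subset.2 hlt.subset hx
        exact LMSimple8.exists_idealMap hle
    · obtain ⟨e, he⟩ := (Set.ne_univ_iff_exists_notMem _).1 (Subspace.biUnion_ne_univ_of_top_notMem htop)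
      obtain ⟨F, a, b, w, hS, hSe⟩ := LMSimple8.exists_realisation e
      refine ⟨F, a, b, w, hS, Classical.not_not.1 fun hnf => he ?_⟩
      obtain ⟨I', F', a', b', w', φ, g, hlt, hS', hφ, hag, hgb⟩ := (S17351.result k X hdim H hH M hM _ hZf F a b w hS).1 hnf
      have hsupp : (I'.support : Set X) ⊆ (Z : Set X) := fun x hx => by
        have h2 : x ∈ ((Scheme.IdealSheafData.vanishingIdeal ⟨(Z : Set X), hZc⟩).support : Set X) :=
          Scheme.IdealSheafData.support_antitone hlt.le hx
        rwa [Scheme.IdealSheafData.coe_support_vanishingIdeal] at h2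
      let Z' := Z.filter fun x => x ∈ (I'.support : Set X)
      have hZ'eq : (Z' : Set X) = I'.support := Set.ext fun x => by
        simp only [Z', Finset.coe_filter, Set.mem_setOf_eq]
        exact ⟨fun h => h.2, fun hx => ⟨hsupp hx, hx⟩⟩
      have hI' := LMSimple8.eq_vanishingIdeal_of_finite_le (Z := ⟨(Z : Set X), hZc⟩) Z.finite_toSet (fun z hz => hZ z hz) hlt.le
      have hc : IsClosed (Z' : Set X) := hZ'eq ▸ I'.support.isClosed
      have hI'' : I' = Scheme.IdealSheafData.vanishingIdeal ⟨(Z' : Set X), hc⟩ := by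
        refine hI'.trans (congrArg Scheme.IdealSheafData.vanishingIdeal (SetLike.coe_injective ?_))
        exact hZ'eq.symm
      have hZlt : Z' ⊂ Z := lt_of_le_of_ne (Finset.filter_subset _ _) fun he' => hlt.ne (by
        rw [hI'']
        congr 1
        exact SetLike.coe_injective (by show (Z : Set X) = (Z' : Set X); rw [he']))
      simp only [s, Finset.mem_image, Set.mem_iUnion, SetLike.mem_coe, exists_prop, exists_exists_and_eq_and]
      refine ⟨Z', Finset.mem_ssubsets.2 hZlt, ?_⟩
      rw [dif_pos hc]
      have hex : ∃ φ : ClSub.idealMod (Scheme.IdealSheafData.vanishingIdeal ⟨(Z : Set X), hZc⟩) ⟶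
            ClSub.idealMod (Scheme.IdealSheafData.vanishingIdeal ⟨(Z' : Set X), hc⟩),
          φ ≫ ClSub.idealModι _ = ClSub.idealModι _ := ⟨φ ≫ eqToHom (congrArg ClSub.idealMod hI''), by rw [Category.assoc, LMSimple8.eqToHom_idealι hI'', hφ]⟩
      simp only [K, dif_pos hex]
      refine ⟨(Abelian.Ext.mk₀ (eqToHom (congrArg ClSub.idealMod hI''.symm))).comp hS'.extClass (zero_add 1), ?_⟩
      show (Abelian.Ext.mk₀ hex.choose).comp ((Abelian.Ext.mk₀ (eqToHom (congrArg ClSub.idealMod hI''.symm))).comp
        hS'.extClass (zero_add 1)) (zero_add 1) = e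
      have hφe : hex.choose ≫ eqToHom (congrArg ClSub.idealMod hI''.symm) = φ := by
        rw [← cancel_mono (ClSub.idealModι I'), Category.assoc, LMSimple8.eqToHom_idealι hI''.symm, hex.choose_spec, hφ]
      rw [Abelian.Ext.mk₀_comp_mk₀_assoc]
      have hn := ShortComplex.ShortExact.extClass_naturality hS hS'
        (ShortComplex.homMk (𝟙 M) g φ (show 𝟙 M ≫ a' = a ≫ g from (Category.id_comp _).trans hag.symm) hgb)
      rw [ShortComplex.homMk_τ₁, ShortComplex.homMk_τ₃, Abelian.Ext.comp_mk₀_id, hSe] at hn
      rw [hφe]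
      exact hn.symm

end Groth.Agent.S19673
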