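import Groth.Statements.S17341
import Groth.Agent.S19673
import Groth.Agent.Lib.LMSimple8.CBExt
import Groth.Agent.Lib.VB17.Sub
import Groth.Agent.Lib.QAGen11.Basic

set_option backward.isDefEq.respectTransparency false
set_option backward.isDefEq.respectTransparency.types false
set_option maxHeartbeats 1600000
-- import your own Groth.Agent.* helpers here

set_option autoImplicit false
universe u
open CategoryTheory CategoryTheory.Limits AlgebraicGeometry
open AdjLin

namespace Groth.Agent.S17341

/-- Let k be an algebraically closed field of characteristic zero and X a smooth projective surface over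
k (irreducible, proper, smooth of dimension 2, with an ample invertible module), ω a second exterior
power of Ω_{X/k}, L an invertible O_X-module and Z ⊆ X a finite set of closed points, viewed as a
reduced finite subscheme with ideal sheaf I_Z (the vanishing ideal of the closed set Z). Then the
following are equivalent: (a) there are a locally free O_X-module E of rank 2, a section s : O_X → E
and a map E → L ⊗ I_Z making 0 → O_X → E → L ⊗ I_Z → 0 a short exact sequence (the Koszul complex of
a rank-2 bundle of determinant L with a section vanishing exactly on Z); (b) for every point z of Z,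
every global section of L ⊗ ω whose zero scheme contains all the other points of Z also vanishes at
z. -/
theorem result (k : Type u) [Field k] [IsAlgClosed k] [CharZero k]
    (X : Scheme.{u}) [X.Over (Spec (CommRingCat.of k))] [IsProper (X ↘ (Spec (CommRingCat.of k)))]
    [Smooth (X ↘ (Spec (CommRingCat.of k)))] [IrreducibleSpace X] (hdim : topologicalKrullDim X = 2)
    (H : X.Modules) (hH : CohB1.IsAmple H)
    (L : X.Modules) (hL : PicF.IsInvertible L)
    (ω : X.Modules) (hω : ExtPow.IsExtPow 2 (Omega.sheaf (X ↘ (Spec (CommRingCat.of k)))) ω)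
    (Z : Finset X) (hZc : IsClosed ((Z : Set X))) (hZ : ∀ z ∈ Z, IsClosed ({z} : Set X)) :
    (∃ (E : X.Modules) (sE : Coh.structureModule X ⟶ E)
        (p : E ⟶ CohB1.tensorMod L (ClSub.idealMod (Scheme.IdealSheafData.vanishingIdeal ⟨(Z : Set X), hZc⟩)))
        (w : sE ≫ p = 0), FlatMod.IsFinLocFreeOfRank 2 E ∧ (ShortComplex.mk sE p w).ShortExact) ↔
      (∀ z ∈ Z, ∀ σ : Coh.structureModule X ⟶ CohB1.tensorMod L ω,
        (∀ z' ∈ Z, z' ≠ z → z' ∈ (PicF2.zeroScheme (CohB1.tensorMod L ω) σ).support) →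
          z ∈ (PicF2.zeroScheme (CohB1.tensorMod L ω) σ).support) := by
  classical
  haveI : IsReduced X := Groth.Agent.OrbitTop19.isReduced_of_smooth (X ↘ Spec (CommRingCat.of k))
  haveI : IsIntegral X := isIntegral_of_irreducibleSpace_of_isReduced X
  haveI : IsNoetherian X := CohFound.isNoetherian_of_isProper (X ↘ Spec (CommRingCat.of k))
  haveI : SmoothOfRelativeDimension 2 (X ↘ Spec (CommRingCat.of k)) := SurfRR10.smoothRelDim (k := k) hdim
  haveI : HasExt.{u} X.Modules := hasExt_of_enoughInjectives _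
  have hωi : PicF.IsInvertible ω := SerreDual8.isInvertible_canonical (k := k) 2 hω
  obtain ⟨M, hM, ⟨eM⟩⟩ := M2.exists_inverse hL
  set N := CohB1.tensorMod L ω
  have hN : PicF.IsInvertible N := M2.isInvertible_tensor hL hωi
  let eN : CohB1.tensorMod M (CohB1.tensorMod L ω) ≅ ω :=
    (M2.tensorAssoc M L ω).symm ≪≫ M2.tensorIso (M2.tensorComm M L ≪≫ eM) (Iso.refl ω) ≪≫ M2.tensorLUnit ω
  set I := Scheme.IdealSheafData.vanishingIdeal ⟨(Z : Set X), hZc⟩ with hI
  have hmain := S19673.result k X hdim H hH M hM Z hZc hZ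
  have hfc : ∀ {Z' : Finset X}, Z' ⊆ Z → IsClosed (Z' : Set X) := fun {Z'} hsub => by
    rw [← Set.biUnion_of_singleton (Z' : Set X)]
    exact Z'.finite_toSet.isClosed_biUnion fun z hz => hZ z (hsub hz)
  have hzs : ∀ (σ : Coh.structureModule X ⟶ N) (x : X),
      x ∈ (PicF2.zeroScheme N σ).support ↔ x ∉ CohB1.genLocus N σ := fun σ x => by
    show x ∈ ((PicF2.zeroScheme N σ).support : Set X) ↔ _
    rw [TZ11.support_zeroScheme hN σ]
    rfl
  refine Iff.trans ⟨?_, ?_⟩ (hmain.trans ⟨?_, ?_⟩)
  · rintro ⟨E, sE, p, w, hE, hS⟩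
    let F := M2.tensorR M
    haveI : F.IsEquivalence := VB17.isEquivalence_tensorR hM
    haveI : PreservesFiniteLimits F := inferInstance
    haveI : PreservesFiniteColimits F := inferInstance
    let u : F.obj (CohB1.tensorMod L (ClSub.idealMod I)) ≅ ClSub.idealMod I :=
      M2.tensorIso (M2.tensorComm _ _) (Iso.refl M) ≪≫ M2.tensorAssoc _ _ _ ≪≫
        M2.tensorIso (Iso.refl _) eM ≪≫ M2.tensorRUnit _
    let a : M ⟶ F.obj E := (M2.tensorLUnit M).inv ≫ F.map sE
    let b : F.obj E ⟶ ClSub.idealMod I := F.map p ≫ u.hom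
    have w' : a ≫ b = 0 := by
      simp only [a, b, Category.assoc]
      rw [← F.map_comp_assoc, w, F.map_zero, zero_comp, CategoryTheory.Limits.comp_zero]
    refine ⟨F.obj E, a, b, w', ShortComplex.shortExact_of_iso (ShortComplex.isoMk (S₁ := (ShortComplex.mk sE p w).map F) (S₂ := ShortComplex.mk a b w') (M2.tensorLUnit M)
      (Iso.refl _) u ?_ ?_) (hS.map_of_exact F),
      M2.isFinLocFree_tensor (M2.isFinLocFree_of_ofRank hE) (M2.isFinLocFree_of_isInvertible hM)⟩
    · show (M2.tensorLUnit M).hom ≫ a = F.map sE ≫ 𝟙 _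
      simp only [a, Iso.hom_inv_id_assoc, Category.comp_id]
    · show 𝟙 _ ≫ b = F.map p ≫ u.hom
      simp only [b, Category.id_comp]
  · rintro ⟨F₀, a, b, w, hS, hF⟩
    let G := M2.tensorR L
    haveI : G.IsEquivalence := VB17.isEquivalence_tensorR hL
    haveI : PreservesFiniteLimits G := inferInstance
    haveI : PreservesFiniteColimits G := inferInstance
    let e₁ : G.obj M ≅ Coh.structureModule X := M2.tensorComm M L ≪≫ eM
    let e₃ : G.obj (ClSub.idealMod I) ≅ CohB1.tensorMod L (ClSub.idealMod I) := M2.tensorComm _ _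
    obtain ⟨r, hr⟩ := VB17.exists_rank_of_isFinLocFree hF
    have hr2 : r = 2 := by
      let η := genericPoint X
      obtain ⟨hinj, hex, hsurj⟩ := Cyc26.stalkLin_exact hS η
      have hη : η ∉ (I.support : Set X) := by
        rw [hI, Scheme.IdealSheafData.coe_support_vanishingIdeal]
        exact LMSimple8.notMem_of_dim_le_zero (k := k) hdim hZc
          (InterLen.dim_le_zero_of_finite (k := k) hZc Z.finite_toSet) (by
            rw [ringKrullDim_eq_zero_of_isField RH26.isField_η]; exact zero_le_one)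
      obtain ⟨hi, hiex, -⟩ := Cyc26.stalkLin_exact (M2.shortExact_idealMod I) η
      have his : Function.Surjective (CurveCoh17.stalkLin (ClSub.idealModι I) η) := fun v =>
        (hiex v).1 ((M1.notMem_support_iff _ _).1 (fun h => hη (NumPoly18.support_quotMod_subset I h)) _)
      have hI1 : Module.finrank (X.presheaf.stalk η) ((ClSub.idealMod I).presheaf.stalk η) = 1 :=
        (LinearEquiv.ofBijective (CurveCoh17.stalkLin (ClSub.idealModι I) η) ⟨hi, his⟩).finrank_eq.trans
          (VB17.finrank_stalk ((M2.isInvertible_iff_isFinLocFreeOfRank_one _).1 (QAGen11.isInvertible_unit X)) η)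
      obtain ⟨e₂⟩ := CurveCoh17.nonempty_stalk_equiv hr η
      haveI : Module.Finite (X.presheaf.stalk η) (F₀.presheaf.stalk η) := Module.Finite.equiv e₂.symm
      have h := Submodule.finrank_quotient_add_finrank (LinearMap.ker (CurveCoh17.stalkLin b η))
      have hk : LinearMap.ker (CurveCoh17.stalkLin b η) = LinearMap.range (CurveCoh17.stalkLin a η) :=
        LinearMap.exact_iff.1 hex
      rw [((CurveCoh17.stalkLin b η).quotKerEquivOfSurjective hsurj).finrank_eq, hI1, hk,
        LinearMap.finrank_range_of_inj (f := CurveCoh17.stalkLin a η) hinj,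
        VB17.finrank_stalk ((M2.isInvertible_iff_isFinLocFreeOfRank_one _).1 hM) η, VB17.finrank_stalk hr η] at h
      omega
    subst hr2
    have hE : FlatMod.IsFinLocFreeOfRank 2 (G.obj F₀) := by
      show FlatMod.IsFinLocFreeOfRank 2 (CohB1.tensorMod F₀ L)
      simpa using M2.isFinLocFreeOfRank_tensor hr ((M2.isInvertible_iff_isFinLocFreeOfRank_one L).1 hL)
    have w' : (e₁.inv ≫ G.map a) ≫ G.map b ≫ e₃.hom = 0 := by
      rw [Category.assoc, ← G.map_comp_assoc, w, G.map_zero, zero_comp, CategoryTheory.Limits.comp_zero]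
    refine ⟨G.obj F₀, e₁.inv ≫ G.map a, G.map b ≫ e₃.hom, w', hE,
      ShortComplex.shortExact_of_iso (ShortComplex.isoMk (S₁ := (ShortComplex.mk a b w).map G) (S₂ := ShortComplex.mk (e₁.inv ≫ G.map a) (G.map b ≫ e₃.hom) w') e₁ (Iso.refl _) e₃ ?_ ?_) (hS.map_of_exact G)⟩
    · show e₁.hom ≫ e₁.inv ≫ G.map a = G.map a ≫ 𝟙 _
      simp only [Iso.hom_inv_id_assoc, Category.comp_id]
    · show 𝟙 _ ≫ G.map b ≫ e₃.hom = G.map b ≫ e₃.hom
      simp only [Category.id_comp]
  · intro h z hz σ hσ
    rw [hzs]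
    intro hzg
    obtain ⟨φ, hφ⟩ := LMSimple8.exists_idealMap (Scheme.IdealSheafData.vanishingIdeal_antimono
      (show (⟨((Z.erase z : Finset X) : Set X), hfc (Finset.erase_subset _ _)⟩ : TopologicalSpace.Closeds X) ≤ ⟨(Z : Set X), hZc⟩
        from fun x hx => Finset.mem_of_mem_erase hx))
    refine h (Z.erase z) (hfc (Finset.erase_subset _ _)) (Finset.erase_ssubset hz) φ hφ
      ((LMSimple8.surjective_precomp_iff hdim hH hω hN eN Z z hz hZc hZ _ rfl rfl φ hφ).2 ⟨σ, fun z' hz' => ?_, hzg⟩)
    exact (hzs σ z').1 (hσ z' (Finset.mem_of_mem_erase hz') (Finset.ne_of_mem_erase hz'))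
  · intro h Z' hZ'c hlt φ hφ hsurj
    obtain ⟨z, hz, hzn⟩ := Finset.exists_of_ssubset hlt
    have hc := hfc (Finset.erase_subset z Z)
    obtain ⟨φe, hφe⟩ := LMSimple8.exists_idealMap (Scheme.IdealSheafData.vanishingIdeal_antimono
      (show (⟨((Z.erase z : Finset X) : Set X), hc⟩ : TopologicalSpace.Closeds X) ≤ ⟨(Z : Set X), hZc⟩
        from fun x hx => Finset.mem_of_mem_erase hx))
    obtain ⟨ψ, hψ⟩ := LMSimple8.exists_idealMap (Scheme.IdealSheafData.vanishingIdeal_antimono
      (show (⟨(Z' : Set X), hZ'c⟩ : TopologicalSpace.Closeds X) ≤ ⟨((Z.erase z : Finset X) : Set X), hc⟩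
        from fun x hx => Finset.mem_erase.2 ⟨fun he => hzn (he ▸ hx), hlt.subset hx⟩))
    have hcomp : φe ≫ ψ = φ := (cancel_mono (ClSub.idealModι _)).1 (by rw [Category.assoc, hψ, hφe, hφ])
    obtain ⟨σ, hσ, hσz⟩ := (LMSimple8.surjective_precomp_iff hdim hH hω hN eN Z z hz hZc hZ hc rfl rfl φe hφe).1 (fun x => by
      obtain ⟨y, hy⟩ := hsurj x
      refine ⟨(Abelian.Ext.mk₀ ψ).comp y (zero_add 1), ?_⟩
      show (Abelian.Ext.mk₀ φe).comp ((Abelian.Ext.mk₀ ψ).comp y (zero_add 1)) (zero_add 1) = x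
      rw [Abelian.Ext.mk₀_comp_mk₀_assoc, hcomp]
      exact hy)
    exact (hzs σ z).1 (h z hz σ fun z' hz' hne => (hzs σ z').2 (hσ z' (Finset.mem_erase.2 ⟨hne, hz'⟩))) hσz

end Groth.Agent.S17341
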