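import Groth.Statements.S17344
import Groth.Agent.Lib.NumConn10.Rational
import Groth.Agent.Lib.CurveCoh17.Twist
import Groth.Agent.Lib.Nodal27.Point
import Groth.Agent.Lib.Cyc26.DegC1
import Groth.Agent.Lib.CanElt.RegLength
import Groth.Agent.Lib.AbRigid.SmoothGI
import Groth.Agent.Lib.FMBase13.Lambda
import Groth.Agent.Lib.Index22.Index
import Groth.Agent.Lib.NumPoly18.RR

set_option autoImplicit false
set_option maxHeartbeats 1000000
set_option linter.style.haveILetI false
set_option backward.isDefEq.respectTransparency false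
set_option backward.isDefEq.respectTransparency.types false
universe u
open CategoryTheory CategoryTheory.Limits AlgebraicGeometry
open AdjLin

namespace Groth.Agent.S17344

open TopologicalSpace Opposite IsLocalRing
open Groth.Agent Groth.Agent.CurveCoh17
open Groth.Agent.SymSq10 (sdot)
open Groth.Agent.HypSq10 (chi)

attribute [local instance] CurveCoh17.stalkMod
noncomputable local instance instLawJets (Y : Scheme.{u}) : PicGrp.Law Y := M2.law Y

section Jets

variable {k : Type u} [Field k] {X : Scheme.{u}} [X.Over (Spec (CommRingCat.of k))]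

/-- The ideal of a closed point on an affine open. -/
theorem pointIdeal_ideal_of_mem (z : X) (hz : IsClosed ({z} : Set X)) (U : X.affineOpens) (hzU : z ∈ U.1) :
    (W4c2seshadripos.pointIdeal z hz).ideal U = (U.2.primeIdealOf ⟨z, hzU⟩).asIdeal := by
  show PrimeSpectrum.vanishingIdeal (U.2.fromSpec ⁻¹' {z}) = _
  have h : U.2.fromSpec ⁻¹' {z} = {U.2.primeIdealOf ⟨z, hzU⟩} := by
    ext p
    simp only [Set.mem_preimage, Set.mem_singleton_iff]
    refine ⟨fun h => U.2.fromSpec.isOpenEmbedding.injective (h.trans (U.2.fromSpec_primeIdealOf ⟨z, hzU⟩).symm), fun h => ?_⟩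
    rw [h]
    exact U.2.fromSpec_primeIdealOf ⟨z, hzU⟩
  rw [h, PrimeSpectrum.vanishingIdeal_singleton]

/-- The ideal of a closed point on an affine open avoiding it. -/
theorem pointIdeal_ideal_of_notMem (z : X) (hz : IsClosed ({z} : Set X)) (U : X.affineOpens) (hzU : z ∉ U.1) :
    (W4c2seshadripos.pointIdeal z hz).ideal U = ⊤ := by
  show PrimeSpectrum.vanishingIdeal (U.2.fromSpec ⁻¹' {z}) = _
  have h : U.2.fromSpec ⁻¹' {z} = ∅ := by
    ext p
    simp only [Set.mem_preimage, Set.mem_singleton_iff, Set.mem_empty_iff_false, iff_false]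
    intro h
    refine hzU (h ▸ ?_)
    have h2 : U.2.fromSpec p ∈ Set.range U.2.fromSpec := ⟨p, rfl⟩
    rwa [U.2.range_fromSpec] at h2
  rw [h, PrimeSpectrum.vanishingIdeal_empty]

/-- A local section of the ideal kills the stalk of the quotient. -/
theorem germ_smul_eq_zero (J : X.IdealSheafData) {x : X} (U : X.affineOpens) (hx : x ∈ U.1)
    {a : Γ(X, U.1)} (ha : a ∈ J.ideal U) (b : (ClSub.quotMod J).presheaf.stalk x) :
    X.presheaf.germ U.1 x hx a • b = 0 := by
  obtain ⟨b', rfl⟩ := NumConn10.surjective_toSubscheme J x b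
  obtain ⟨c, rfl⟩ := NumConn10.exists_smul_one x b'
  rw [map_smul, smul_smul, mul_comm, ← smul_smul, ← map_smul]
  have h1 : X.presheaf.germ U.1 x hx a • NumConn10.oneAt x =
      (Coh.structureModule X).presheaf.germ U.1 x hx (a • M1.one U.1) := by
    rw [M1.germ_smul, ← M1.mres_one (le_top : U.1 ≤ ⊤), M1.germ_mres]
  rw [h1]
  have h2 : stalkLin (ClSub.toSubscheme J) x ((Coh.structureModule X).presheaf.germ U.1 x hx (a • M1.one U.1)) = 0 := by
    show (M1.stalkAb x).map (ClSub.toSubscheme J) _ = 0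
    rw [M1.germ_naturality]
    have h3 : (ClSub.toSubscheme J).app U.1 (a • M1.one U.1) = 0 := by
      show J.subschemeι.app U.1 (a * 1) = 0
      rw [mul_one]
      exact (SetLike.ext_iff.1 (J.ker_subschemeι_app U) a).2 ha
    rw [h3, map_zero]
  rw [h2, smul_zero]

variable (Z : Finset X) (hZ : ∀ z ∈ Z, IsClosed ({z} : Set X)) (n : ℕ)

/-- The ideal of points of multiplicity `n`. -/
noncomputable abbrev fat : X.IdealSheafData :=
  ⨅ z : ↥Z, (W4c2seshadripos.pointIdeal (z : X) (hZ z z.2)) ^ n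

include hZ in
/-- An affine neighbourhood avoiding the other points. -/
theorem exists_affine_avoid (x : X) : ∃ U : X.affineOpens, x ∈ U.1 ∧ ∀ z : ↥Z, (z : X) ≠ x → (z : X) ∉ U.1 := by
  classical
  have hc : IsClosed (⋃ z ∈ Z.erase x, ({z} : Set X)) :=
    Set.Finite.isClosed_biUnion (Z.erase x).finite_toSet fun z hz => hZ z (Finset.mem_of_mem_erase hz)
  obtain ⟨U, hU, hxU, hsub⟩ := exists_isAffineOpen_mem_and_subset (x := x) (U := ⟨_, hc.isOpen_compl⟩)
    (fun hmem => by
      obtain ⟨z, hz, hxz⟩ := Set.mem_iUnion₂.1 hmem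
      exact (Finset.mem_erase.1 hz).1 hxz.symm)
  exact ⟨⟨U, hU⟩, hxU, fun z hne hzU => hsub hzU (Set.mem_biUnion (Finset.mem_erase.2 ⟨hne, z.2⟩) rfl)⟩

theorem fat_stalk_killed (x : X) (c : X.presheaf.stalk x)
    (hc : x ∈ Z → c ∈ maximalIdeal (X.presheaf.stalk x) ^ n) (b : (ClSub.quotMod (fat Z hZ n)).presheaf.stalk x) :
    c • b = 0 := by
  obtain ⟨U, hxU, havoid⟩ := exists_affine_avoid Z hZ x
  by_cases hx : x ∈ Z
  · let P := (U.2.primeIdealOf ⟨x, hxU⟩).asIdeal
    letI := TopCat.Presheaf.algebra_section_stalk X.presheaf (⟨x, hxU⟩ : U.1)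
    haveI := U.2.isLocalization_stalk ⟨x, hxU⟩
    have hm : P.map (X.presheaf.germ U.1 x hxU).hom = maximalIdeal (X.presheaf.stalk x) :=
      IsLocalization.AtPrime.map_eq_maximalIdeal P (X.presheaf.stalk x)
    have hle : P ^ n ≤ (fat Z hZ n).ideal U := by
      rw [Scheme.IdealSheafData.ideal_iInf, iInf_apply]
      refine le_iInf fun z => ?_
      rw [Scheme.IdealSheafData.ideal_pow, Pi.pow_apply]
      by_cases hzx : (z : X) = x
      · refine Ideal.pow_right_mono (le_of_eq ?_) n
        rw [pointIdeal_ideal_of_mem _ _ U (hzx ▸ hxU)]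
        exact congrArg (fun p => (U.2.primeIdealOf p).asIdeal) (Subtype.ext hzx.symm)
      · rw [pointIdeal_ideal_of_notMem _ _ U (havoid z hzx), Ideal.top_pow]
        exact le_top
    have hc' : c ∈ ((fat Z hZ n).ideal U).map (X.presheaf.germ U.1 x hxU).hom := by
      refine Ideal.map_mono hle ?_
      rw [Ideal.map_pow, hm]
      exact hc hx
    rw [Ideal.map] at hc'
    refine Submodule.span_induction ?_ ?_ ?_ ?_ hc'
    · rintro _ ⟨a, ha, rfl⟩
      exact germ_smul_eq_zero _ U hxU ha b
    · exact zero_smul _ b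
    · intro u v _ _ hu hv
      rw [add_smul, hu, hv, add_zero]
    · intro r u _ hu
      rw [smul_eq_mul, mul_smul, hu, smul_zero]
  · have htop : (1 : Γ(X, U.1)) ∈ (fat Z hZ n).ideal U := by
      rw [Scheme.IdealSheafData.ideal_iInf, iInf_apply]
      refine (Submodule.mem_iInf _).2 fun z => ?_
      rw [Scheme.IdealSheafData.ideal_pow, Pi.pow_apply,
        pointIdeal_ideal_of_notMem _ _ U (havoid z fun h => hx (h ▸ z.2)), Ideal.top_pow]
      trivial
    have h := germ_smul_eq_zero _ U hxU htop b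
    rw [map_one, one_smul] at h
    rw [h, smul_zero]

theorem fat_tw_killed {M : X.Modules} (hM : PicF.IsInvertible M) (x : X) (c : X.presheaf.stalk x)
    (hc : x ∈ Z → c ∈ maximalIdeal (X.presheaf.stalk x) ^ n)
    (b : (NumConn10.tw (fat Z hZ n) M).presheaf.stalk x) : c • b = 0 := by
  obtain ⟨e⟩ := NumConn10.exists_twEquiv (fat Z hZ n) hM x
  exact e.injective (by rw [map_smul, fat_stalk_killed Z hZ n x c hc, map_zero])

theorem fat_suppIn {M : X.Modules} (hM : PicF.IsInvertible M) :
    SuppIn (NumConn10.tw (fat Z hZ n) M) Z :=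
  ⟨hZ, fun x hx a => by
    have h := fat_tw_killed Z hZ n hM x 1 (fun h => absurd h hx) a
    rwa [one_smul] at h⟩

variable [IsAlgClosed k] [IsProper (X ↘ Spec (CommRingCat.of k))] [Smooth (X ↘ Spec (CommRingCat.of k))]
  [IsIntegral X]

/-- Jets of order `n` at finitely many points of a surface. -/
theorem finrank_h0_fat_le (hdim : topologicalKrullDim X = 2) {M : X.Modules} (hM : PicF.IsInvertible M) (j : ℕ) :
    Module.Finite k (Coh.HH X (NumConn10.tw (fat Z hZ (j + 1)) M) 0) ∧
      Module.finrank k (Coh.HH X (NumConn10.tw (fat Z hZ (j + 1)) M) 0) ≤ Z.card * (j + 2).choose 2 := by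
  haveI : IsNoetherian X := CohFound.isNoetherian_of_isProper (X ↘ Spec (CommRingCat.of k))
  have hS := fat_suppIn Z hZ (j + 1) hM
  have hfin : Module.Finite k (Coh.HH X (NumConn10.tw (fat Z hZ (j + 1)) M) 0) :=
    CohFound.finite_HH_of_isProper _
      (isCoh_tensor (isCoh_quotMod _) (Snapper.isCoh_of_isInvertible hM)) 0
  refine ⟨hfin, ?_⟩
  haveI hfs : ∀ x : Z, Module.Finite k ((NumConn10.tw (fat Z hZ (j + 1)) M).presheaf.stalk (x : X)) :=
    fun x => hS.finite_stalk hfin x
  rw [(hS.h0Equiv k).finrank_eq, Module.finrank_pi_fintype]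
  refine (Finset.sum_le_card_nsmul _ _ _ fun x _ => ?_).trans
    (by rw [Finset.card_univ, Fintype.card_coe, smul_eq_mul])
  let T := (NumConn10.tw (fat Z hZ (j + 1)) M).presheaf.stalk (x : X)
  letI : Algebra k (X.presheaf.stalk (x : X)) := (stalkRingMap k (x : X)).toAlgebra
  haveI : IsScalarTower k (X.presheaf.stalk (x : X)) T := ⟨fun a b c => by
    show ((stalkRingMap k (x : X) a) * b) • c = stalkRingMap k (x : X) a • (b • c)
    rw [mul_smul]⟩
  have hb : Function.Bijective (algebraMap k (ResidueField (X.presheaf.stalk (x : X)))) :=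
    Nodal27.bijective_residue_toStalk (X ↘ Spec (CommRingCat.of k)) (hZ x x.2)
  let eA : k ≃ₐ[k] ResidueField (X.presheaf.stalk (x : X)) := AlgEquiv.ofBijective (Algebra.ofId k _) hb
  haveI : Module.Finite k (ResidueField (X.presheaf.stalk (x : X))) := Module.Finite.equiv eA.toLinearEquiv
  haveI : Module.Finite k T := hfs x
  have h1 : Module.finrank k T = (Module.length (X.presheaf.stalk (x : X)) T).toNat := by
    rw [Cyc26.finrank_eq_length_mul (k := k) (R := X.presheaf.stalk (x : X)) (M := T),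
      ← eA.toLinearEquiv.finrank_eq, Module.finrank_self, mul_one]
  obtain ⟨g, hg⟩ := NumConn10.exists_gen (fat Z hZ (j + 1)) hM (x : X)
  let φ : X.presheaf.stalk (x : X) →ₗ[X.presheaf.stalk (x : X)] T :=
    LinearMap.toSpanSingleton _ T g
  have hker : maximalIdeal (X.presheaf.stalk (x : X)) ^ (j + 1) ≤ LinearMap.ker φ := fun c hc =>
    LinearMap.mem_ker.2 (fat_tw_killed Z hZ (j + 1) hM (x : X) c (fun _ => hc) g)
  haveI : IsRegularLocalRing (X.presheaf.stalk (x : X)) := SurfRR10.regular (k := k) (x : X)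
  let A := X.presheaf.stalk (x : X)
  let d := (maximalIdeal A).spanFinrank
  have hd : d ≤ 2 := by
    have h := (IsRegularLocalRing.spanFinrank_maximalIdeal (R := A)).le.trans
      ((VB17.ringKrullDim_stalk_le_topologicalKrullDim (x : X)).trans hdim.le)
    exact_mod_cast h
  have hlen : Module.length A T ≤ ((j + d).choose d : ℕ∞) := by
    rw [← CanElt.length_quotient_pow d A rfl j]
    refine Module.length_le_of_surjective (Submodule.liftQ _ φ hker) fun t => ?_
    obtain ⟨c, hc⟩ := hg t
    exact ⟨Submodule.Quotient.mk c, hc.symm⟩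
  show Module.finrank k T ≤ _
  rw [h1]
  refine ((ENat.toNat_le_toNat hlen (ENat.natCast_ne_top _)).trans_eq (ENat.toNat_natCast _)).trans ?_
  rw [show (j + d).choose d = (j + d).choose j from Nat.choose_symm_add.symm,
    show (j + 2).choose 2 = (j + 2).choose j from Nat.choose_symm_add.symm]
  exact Nat.choose_le_choose j (by omega)

/-- Euler characteristics of powers on a surface. -/
theorem two_chi_pow (hdim : topologicalKrullDim X = 2) (c : PicLoc.PicSet X) (m : ℕ) :
    2 * chi k (c ^ m) = 2 * chi k (1 : PicLoc.PicSet X) + 2 * (m : ℤ) * (chi k c - chi k (1 : PicLoc.PicSet X)) +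
      (m : ℤ) * ((m : ℤ) - 1) * sdot k c c := by
  induction m with
  | zero => simp
  | succ n ih =>
    rw [pow_succ, SymSq10.chi_mul' (k := k) (c ^ n) c, SurfRR10.sdot_pow_left (k := k) hdim c c n]
    push_cast
    linear_combination ih

end Jets

/-- Let k be an algebraically closed field of characteristic zero, X a smooth projective surface over k
(irreducible, proper, smooth of dimension 2, with an ample invertible module), L an ample invertible
O_X-module with tensor inverse L⁻¹, and Z a finite set of closed points of X such that the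
self-intersection number (L²), the alternating sum of Euler characteristics attached to two copies
of L⁻¹, exceeds 4 · #Z. Then for every sufficiently large m there is a non-zero global section of
(⋂_{z ∈ Z} m_z^(2m+1)) ⊗ L^{⊗m}: a divisor in the linear series of L^{⊗m} with multiplicity greater
than 2m at every point of Z. (In the source L is the ample determinant of a globally generated
rank-2 bundle E and Z the reduced zero set of a section of E, so that (L²) = c_1(E)² and #Z =
c_2(E); the assertion is the dimension count under c_1(E)² > 4 c_2(E).) -/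
theorem result (k : Type u) [Field k] [IsAlgClosed k] [CharZero k]
    (X : Scheme.{u}) [X.Over (Spec (CommRingCat.of k))] [IsProper (X ↘ (Spec (CommRingCat.of k)))]
    [Smooth (X ↘ (Spec (CommRingCat.of k)))] [IrreducibleSpace X] (hdim : topologicalKrullDim X = 2)
    (H : X.Modules) (hH : CohB1.IsAmple H)
    (L Linv : X.Modules) (hL : CohB1.IsAmple L) (hLinv : ClSub.IsInverseOf Linv L)
    (Z : Finset X) (hZ : ∀ z ∈ Z, IsClosed ({z} : Set X))
    (hsq : 4 * (Z.card : ℤ) < FGA.intNum k X 2 (fun _ : Fin 2 => Linv) (Coh.structureModule X)) :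
    ∃ m₀ : ℕ, ∀ m : ℕ, m₀ ≤ m →
      Nontrivial (Coh.HH X (CohB1.tensorMod
        (ClSub.idealMod (⨅ z : ↥Z, (W4c2seshadripos.pointIdeal (z : X) (hZ z z.2)) ^ (2 * m + 1)))
        (CohB1.tensorPow L m)) 0) := by
  haveI : AlgebraicGeometry.IsReduced X := AbRigid.isReduced_of_smooth_over_field (X ↘ Spec (CommRingCat.of k))
  haveI : IsIntegral X := isIntegral_of_irreducibleSpace_of_isReduced X
  haveI : IsNoetherian X := CohFound.isNoetherian_of_isProper (X ↘ Spec (CommRingCat.of k))
  obtain ⟨eLi⟩ := hLinv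
  have hLi : PicF.IsInvertible L := hL.1
  have hLinvI : PicF.IsInvertible Linv :=
    FMBase13.isInvertible_of_inverse hLi (M2.tensorComm _ _ ≪≫ eLi)
  let c := PicGrp.cls L hLi
  have hs : FGA.intNum k X 2 (fun _ : Fin 2 => Linv) (Coh.structureModule X) = sdot k c c := by
    rw [show (fun _ : Fin 2 => Linv) = ![Linv, Linv] from funext fun i => by fin_cases i <;> rfl,
      SymSq10.intNum_eq' (SurfRR10.dim_eq (k := k) hdim).le hLinvI hLinvI,
      Index22.cls_inverse hLi hLinvI ⟨M2.tensorComm _ _ ≪≫ eLi⟩,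
      SurfRR10.sdot_inv_left (k := k) hdim, SurfRR10.sdot_inv_right (k := k) hdim, neg_neg]
  rw [hs] at hsq
  obtain ⟨n₀, hn₀⟩ := CohFound.exists_vanishing_all (X ↘ Spec (CommRingCat.of k)) hL
    (Snapper.isCoh_of_isInvertible (PicLoc.isInvertible_structureModule X))
  obtain ⟨N₁, hN₁⟩ : ∃ N : ℕ, ∀ m : ℕ, N ≤ m → (Z.card : ℤ) * ((2 * m + 1) * (2 * m + 2)) <
      2 * chi k (1 : PicLoc.PicSet X) + 2 * (m : ℤ) * (chi k c - chi k (1 : PicLoc.PicSet X)) +
        (m : ℤ) * ((m : ℤ) - 1) * sdot k c c := by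
    let a := chi k (1 : PicLoc.PicSet X)
    let b := chi k c
    let s := sdot k c c
    refine ⟨(2 * |a| + 2 * |b - a| + |s| + 6 * Z.card + 2 * Z.card + 2).toNat, fun m hm => ?_⟩
    have hm' : 2 * |a| + 2 * |b - a| + |s| + 6 * (Z.card : ℤ) + 2 * Z.card + 2 ≤ (m : ℤ) := Int.toNat_le.1 hm
    have h0 := abs_nonneg a
    have h1 := abs_nonneg (b - a)
    have h2 := abs_nonneg s
    have hz : (0 : ℤ) ≤ Z.card := Int.natCast_nonneg _
    have hm1 : (1 : ℤ) ≤ m := by omega
    show (Z.card : ℤ) * ((2 * m + 1) * (2 * m + 2)) < 2 * a + 2 * (m : ℤ) * (b - a) + (m : ℤ) * ((m : ℤ) - 1) * s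
    have e1 : 0 ≤ ((m : ℤ) * m) * (s - 4 * Z.card - 1) := mul_nonneg (mul_self_nonneg _) (by omega)
    have e2 : 0 ≤ (m : ℤ) * (|b - a| * 2 + |s| - 2 * (-(b - a)) - s) := mul_nonneg (by omega)
      (by have := neg_le_abs (b - a); have := le_abs_self s; omega)
    have e3 : 0 ≤ (m : ℤ) * (m - (2 * |a| + 2 * |b - a| + |s| + 6 * Z.card + 2 * Z.card + 2)) :=
      mul_nonneg (by omega) (by omega)
    have e4 : 0 ≤ ((m : ℤ) - 1) * |a| := mul_nonneg (by omega) h0
    have e5 : 0 ≤ ((m : ℤ) - 1) * (Z.card : ℤ) := mul_nonneg (by omega) hz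
    have := neg_abs_le a
    nlinarith
  refine ⟨max n₀ N₁, fun m hm => ?_⟩
  set M := CohB1.tensorPow L m with hMdef
  have hM : PicF.IsInvertible M := M2.isInvertible_tensorPow hLi m
  set J := ⨅ z : ↥Z, (W4c2seshadripos.pointIdeal (z : X) (hZ z z.2)) ^ (2 * m + 1) with hJ
  by_contra hnt
  rw [not_nontrivial_iff_subsingleton] at hnt
  have hS := CurveCoh17.twistSES hM J
  let S := (ShortComplex.mk (ClSub.idealModι J) (ClSub.toSubscheme J) (kernel.condition _)).map (M2.tensorR M)
  haveI : Subsingleton (Coh.HH X S.X₁ 0) := hnt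
  have hinj : Function.Injective (CurveCoh17.hmap k S.g 0) := by
    rw [injective_iff_map_eq_zero]
    intro x hx
    obtain ⟨y, rfl⟩ := (CurveCoh17.exact_hmap_hmap k hS 0 x).1 hx
    rw [Subsingleton.elim y 0, map_zero]
  obtain ⟨hfin, hle⟩ := finrank_h0_fat_le (k := k) Z hZ hdim hM (2 * m)
  haveI : Module.Finite k (Coh.HH X S.X₃ 0) := hfin
  have h1 : Module.finrank k (Coh.HH X S.X₂ 0) ≤ Module.finrank k (Coh.HH X S.X₃ 0) :=
    LinearMap.finrank_le_finrank_of_injective hinj
  have h2 : Module.finrank k (Coh.HH X S.X₂ 0) = Module.finrank k (Coh.HH X M 0) :=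
    (CurveCoh17.hequiv k (show S.X₂ ≅ M from M2.tensorLUnit M) 0).finrank_eq
  have hm0 : n₀ ≤ m := le_of_max_le_left hm
  have h3 : (Module.finrank k (Coh.HH X M 0) : ℤ) = chi k (c ^ m) := by
    rw [← HypSq10.cls_pow_eq hLi m, ← HypSq10.euler_eq_chi, Curv2.euler, finsum_eq_single _ 0 fun p hp => by
      haveI : Subsingleton (Coh.HH X M p) := (CohFound.subsingleton_HH_iff _ p).2
        (CohFound.subsingleton_hc_of_iso (M2.tensorLUnit _) p _ (hn₀ m hm0 p (Nat.pos_of_ne_zero hp)))
      simp [M, Module.finrank_zero_of_subsingleton]]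
    simp [M]
  have h4 : Module.finrank k (Coh.HH X M 0) ≤ Z.card * (2 * m + 2).choose 2 := by
    rw [← h2]
    exact h1.trans hle
  have h5 := hN₁ m (le_of_max_le_right hm)
  rw [← two_chi_pow (k := k) hdim c m, ← h3] at h5
  have h6 : ((2 * m + 2).choose 2 : ℤ) * 2 = (2 * m + 1) * (2 * m + 2) := by
    rw [Nat.choose_two_right]
    have hd : (2 * m + 2) * (2 * m + 2 - 1) / 2 * 2 = (2 * m + 2) * (2 * m + 1) := by
      rw [show 2 * m + 2 - 1 = 2 * m + 1 from rfl, show (2 * m + 2) * (2 * m + 1) = 2 * ((m + 1) * (2 * m + 1)) from by ring,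
        Nat.mul_div_cancel_left _ two_pos, mul_comm]
    have := congrArg (fun t : ℕ => (t : ℤ)) hd
    push_cast at this ⊢
    linarith
  have h7 : (Module.finrank k (Coh.HH X M 0) : ℤ) * 2 ≤ (Z.card : ℤ) * (((2 * m + 2).choose 2 : ℤ) * 2) := by
    rw [← mul_assoc]
    exact mul_le_mul_of_nonneg_right (by exact_mod_cast h4) (by norm_num)
  rw [h6] at h7
  linarith

end Groth.Agent.S17344
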