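import Groth.Statements.S1736
import Groth.Agent.Lib.LocCoh.RemoveElem
import Mathlib.RingTheory.KrullDimension.Zero
-- import your own Groth.Agent.* helpers here

set_option autoImplicit false
universe u
open LocCoh

namespace Groth.Agent.S1736

/-- Let A be a Noetherian ring of finite dimension d and I ⊆ I' ideals with I' contained in the Jacobson
radical of A. If cd(A, I') < d, i.e. H^i_{I'}(M) = 0 for all A-modules M and all i ≥ d, then also
cd(A, I) < d: H^i_I(M) = 0 for all A-modules M and all i ≥ d. -/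
theorem result (A : Type u) [CommRing A] [IsNoetherianRing A] (d : ℕ) (hd : ringKrullDim A = d) (I I' : Ideal A) (hII' : I ≤ I') (hJ : I' ≤ (⊥ : Ideal A).jacobson) (h : ∀ (M : Type u) [AddCommGroup M] [Module A M] (i : ℕ), d ≤ i → Subsingleton (LocCoh.H I' i M)) (M : Type u) [AddCommGroup M] [Module A M] (i : ℕ) (hi : d ≤ i) : Subsingleton (LocCoh.H I i M) := by
  rcases Nat.eq_zero_or_pos d with rfl | hd0
  · exfalso
    have hne : ringKrullDim A ≠ ⊥ := by rw [hd]; simp
    have : Nontrivial A := not_subsingleton_iff_nontrivial.1 fun _ => hne ringKrullDim_eq_bot_of_subsingleton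
    have : Ring.KrullDimLE 0 A := Ring.krullDimLE_iff.2 hd.le
    have hnil : I' ≤ (⊥ : Ideal A).radical := by
      refine hJ.trans (le_of_eq ?_)
      rw [Ideal.radical_eq_sInf, Ideal.jacobson]
      congr 1
      ext J
      exact and_congr_right fun _ => ⟨fun hJ => hJ.isPrime, fun hJ => hJ.isMaximal'⟩
    obtain ⟨k, hk⟩ := Ideal.exists_pow_le_of_le_radical_of_fg hnil (IsNoetherian.noetherian _)
    have hT : LocCoh.IsPowerTorsion I' A := fun z => ⟨k, fun a ha => by
      rw [(Ideal.mem_bot.1 (hk ha)), zero_smul]⟩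
    have := h A 0 le_rfl
    obtain ⟨e, he⟩ := (Groth.Agent.LocCohLib.zeroMap_bijective I' (M := A) hT).2 1
    have h1 : Groth.Agent.LocCohLib.zeroMap I' A 0 = 1 := by
      rw [Subsingleton.elim (0 : LocCoh.H I' 0 A) e]; exact he
    rw [map_zero] at h1
    exact zero_ne_one h1
  · exact Groth.Agent.LocCohLib.vanishing_of_le_jacobson hd.le hd0 hII' hJ h M i hi

end Groth.Agent.S1736
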