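import Groth.Statements.S17363
import Groth.Agent.Lib.RInv29.SkewTwo

set_option autoImplicit false
universe u v
open scoped TensorProduct
open RInv

namespace Groth.Agent.S17363

/-- Let `A` be a commutative ring with an involution `lam` whose fixed ring `B` is local; assume that
`lam` is the identity modulo the Jacobson radical of `A`, that `2` is a unit of `A`, and that `h` is
an invertible `2 × 2` matrix over `A` with `h = -(lam h)ᵀ` whose entries are congruent modulo the
Jacobson radical to those of the matrix with rows `(0, 1)`, `(-1, 0)`. Then there are units `s, t`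
of `B`, finitely many elements `f_i` of `B' = B[X, Y]/(X² - s, Y² - t)` (`B` with square roots of
`s` and `t` adjoined) that generate the unit ideal, and for every `i` an invertible `2 × 2` matrix
`v` over `B'_{f_i} ⊗_B A` (that is, `A` with the two square roots adjoined, localised at `f_i`;
`lam` extends so as to fix the square roots) such that `(lam v)ᵀ h v` is the matrix with rows `(0,
1)`, `(-1, 0)`. (The published statement writes the congruence with the plain transpose `vᵀ h v`,
which fails in general: for a field `k` of characteristic not `2`, the ring `A` of formal power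
series in `y` over `k`, with `B` its subring of series in `y²`, `lam y = -y` and `h` with rows `(y,
1)`, `(-1, y)`, satisfies every hypothesis, while `vᵀ h v` equal to the matrix with rows `(0, 1)`,
`(-1, 0)` would, added to its transpose, give `2y · vᵀ v = 0` and hence `det v = 0` over a nonzero
ring in which `y` is not a zero divisor. The proof computes the Gram matrix of the hermitian form
`(a, b) ↦ (lam a)ᵀ h b` in a new basis, which is `(lam v)ᵀ h v`, and that is what is stated here.) -/
theorem result (B : Type u) (A : Type v) [CommRing B] [CommRing A]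
    [Algebra B A] (lam : A ≃ₐ[B] A) (hlam : ∀ a, lam (lam a) = a) (hB : RInv.IsFixedRing B A lam.toRingEquiv)
    [IsLocalRing B] (hid : ∀ a : A, lam a - a ∈ Ring.jacobson A) (h2 : IsUnit (2 : A))
    (h : Matrix (Fin 2) (Fin 2) A) (hh : IsUnit h) (herm : -(h.map lam).transpose = h)
    (hJ : ∀ i j : Fin 2, h i j - Matrix.of ![![(0 : A), 1], ![-1, 0]] i j ∈ Ring.jacobson A) :
    ∃ (s t : Bˣ) (r : ℕ) (f : Fin r → (MvPolynomial (Fin 2) B ⧸ Ideal.span ({MvPolynomial.X 0 ^ 2 - MvPolynomial.C (s : B), MvPolynomial.X 1 ^ 2 - MvPolynomial.C (t : B)} : Set (MvPolynomial (Fin 2) B)))),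
      Ideal.span (Set.range f) = ⊤ ∧
      ∀ i : Fin r, ∃ v : Matrix (Fin 2) (Fin 2) (Localization.Away (f i) ⊗[B] A), IsUnit v ∧
        (v.map (Algebra.TensorProduct.congr (AlgEquiv.refl : Localization.Away (f i) ≃ₐ[Localization.Away (f i)] Localization.Away (f i)) lam)).transpose * h.map (Algebra.TensorProduct.includeRight : A →ₐ[B] Localization.Away (f i) ⊗[B] A) * v
          = (Matrix.of ![![(0 : A), 1], ![-1, 0]]).map (Algebra.TensorProduct.includeRight : A →ₐ[B] Localization.Away (f i) ⊗[B] A) := by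
  haveI := RInv29.isLocalRing_of_forall (lam := lam.toRingEquiv) hlam hB hid
  have hm : ∀ i j, -lam (h j i) = h i j := fun i j => by
    simpa using congrFun (congrFun herm i) j
  have ha : lam (h 0 0) = -h 0 0 := by linear_combination -(hm 0 0)
  have hd : lam (h 1 1) = -h 1 1 := by linear_combination -(hm 1 1)
  have h10 : h 1 0 = -lam (h 0 1) := (hm 1 0).symm
  have hJm : ∀ x ∈ Ring.jacobson A, x ∈ IsLocalRing.maximalIdeal A := fun x hx =>
    RInv29.mem_jacobson_iff.1 hx _ (IsLocalRing.maximalIdeal.isMaximal A)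
  have hbu : IsUnit (h 0 1) := by
    by_contra hc
    refine (IsLocalRing.maximalIdeal.isMaximal A).ne_top ((Ideal.eq_top_iff_one _).2 ?_)
    have := Ideal.sub_mem _ ((IsLocalRing.mem_maximalIdeal _).2 hc) (hJm _ (hJ 0 1))
    simpa using this
  have ha0 : h 0 0 ∈ IsLocalRing.maximalIdeal A := by simpa using hJm _ (hJ 0 0)
  obtain ⟨β, hβ⟩ := (hbu.mul (hbu.map lam)).exists_left_inv
  -- the element of `B`
  obtain ⟨δ, hδ⟩ := (hB.2 (h 1 1 * h 0 0 * β)).1 (by
    have hb' : lam β = β := by
      have e1 : lam β * (h 0 1 * lam (h 0 1)) = 1 := by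
        have := congrArg lam hβ
        rw [map_mul, map_one, map_mul, hlam] at this
        linear_combination this
      linear_combination β * e1 - lam β * hβ
    change lam (h 1 1 * h 0 0 * β) = _
    rw [map_mul, map_mul, ha, hd, hb']; ring)
  have hδu : IsUnit (1 + δ) := by
    by_contra hc
    have h1 : ¬ IsUnit δ := fun hu => by
      refine (IsLocalRing.maximalIdeal.isMaximal A).ne_top (Ideal.eq_top_of_isUnit_mem _ ?_ (hu.map (algebraMap B A)))
      rw [hδ]; exact Ideal.mul_mem_right _ _ (Ideal.mul_mem_left _ _ ha0)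
    refine (IsLocalRing.maximalIdeal.isMaximal B).ne_top ((Ideal.eq_top_iff_one _).2 ?_)
    have := Ideal.sub_mem _ ((IsLocalRing.mem_maximalIdeal _).2 hc) ((IsLocalRing.mem_maximalIdeal _).2 h1)
    simpa using this
  let I : Ideal (MvPolynomial (Fin 2) B) := Ideal.span {MvPolynomial.X 0 ^ 2 - MvPolynomial.C ((hδu.unit : Bˣ) : B), MvPolynomial.X 1 ^ 2 - MvPolynomial.C ((1 : Bˣ) : B)}
  let x : MvPolynomial (Fin 2) B ⧸ I := Ideal.Quotient.mk I (MvPolynomial.X 0)
  have hx : x * x = algebraMap B _ (1 + δ) := by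
    rw [← sub_eq_zero]
    have h1 : Ideal.Quotient.mk I (MvPolynomial.X 0 ^ 2 - MvPolynomial.C ((hδu.unit : Bˣ) : B)) = 0 :=
      Ideal.Quotient.eq_zero_iff_mem.2 (Ideal.subset_span (Set.mem_insert _ _))
    rw [IsUnit.unit_spec, map_sub, map_pow, sq] at h1
    exact h1
  have h2B : IsUnit (2 : B) := by
    by_contra hc
    haveI := RInv29.isIntegral (lam := lam.toRingEquiv) hlam hB
    refine (IsLocalRing.maximalIdeal.isMaximal A).ne_top (Ideal.eq_top_of_isUnit_mem _ ?_ h2)
    have h1 := RInv29.map_le_jacobson (lam := lam.toRingEquiv) hlam hB (Ideal.mem_map_of_mem _ ((IsLocalRing.mem_maximalIdeal _).2 hc))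
    rw [map_ofNat] at h1
    exact hJm _ h1
  refine ⟨hδu.unit, 1, 2, ![1 + x, 1 - x], ?_, fun i => ?_⟩
  · obtain ⟨w, hw⟩ := h2B.exists_left_inv
    rw [Ideal.eq_top_iff_one]
    have h1 : algebraMap B (MvPolynomial (Fin 2) B ⧸ I) w * 2 = 1 := by
      rw [← map_ofNat (algebraMap B (MvPolynomial (Fin 2) B ⧸ I)) 2, ← map_mul, hw, map_one]
    have hmem := Ideal.add_mem (Ideal.span (Set.range ![1 + x, 1 - x]))
      (Ideal.mul_mem_left _ (algebraMap B (MvPolynomial (Fin 2) B ⧸ I) w) (Ideal.subset_span ⟨0, rfl⟩))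
      (Ideal.mul_mem_left _ (algebraMap B (MvPolynomial (Fin 2) B ⧸ I) w) (Ideal.subset_span ⟨1, rfl⟩))
    simp only [Matrix.cons_val_zero, Matrix.cons_val_one] at hmem
    rwa [show algebraMap B (MvPolynomial (Fin 2) B ⧸ I) w * (1 + x) + algebraMap B _ w * (1 - x) = 1 by
      linear_combination h1] at hmem
  · set f := (![1 + x, 1 - x] : Fin 2 → MvPolynomial (Fin 2) B ⧸ I) i
    let C := Localization.Away f
    obtain ⟨x', hx', hx1⟩ : ∃ x' : C, x' * x' = algebraMap B C (1 + δ) ∧ IsUnit (1 + x') := by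
      have hf : IsUnit (algebraMap (MvPolynomial (Fin 2) B ⧸ I) C f) := IsLocalization.Away.algebraMap_isUnit f
      have hxx : algebraMap (MvPolynomial (Fin 2) B ⧸ I) C x * algebraMap (MvPolynomial (Fin 2) B ⧸ I) C x =
          algebraMap B C (1 + δ) := by
        rw [← map_mul, hx, ← IsScalarTower.algebraMap_apply]
      fin_cases i
      · exact ⟨_, hxx, by simpa [f] using hf⟩
      · exact ⟨-algebraMap (MvPolynomial (Fin 2) B ⧸ I) C x, by rw [neg_mul_neg, hxx],
          by simpa [f, sub_eq_add_neg] using hf⟩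
    let ι : A →ₐ[B] C ⊗[B] A := Algebra.TensorProduct.includeRight
    let σ : C ⊗[B] A →+* C ⊗[B] A :=
      (Algebra.TensorProduct.congr (AlgEquiv.refl : C ≃ₐ[C] C) lam).toRingEquiv.toRingHom
    have hσ : ∀ y, σ (ι y) = ι (lam y) := fun y => rfl
    have hs0u : IsUnit (algebraMap C (C ⊗[B] A) x') :=
      (isUnit_of_mul_isUnit_left (hx' ▸ hδu.map (algebraMap B C))).map _
    obtain ⟨v, hv, hvj⟩ := RInv29.exists_congr_stdJ σ (a := ι (h 0 0)) (b := ι (h 0 1)) (d := ι (h 1 1))
      (s0 := algebraMap C (C ⊗[B] A) x') (by rw [hσ, ha, map_neg]) (by rw [hσ, hd, map_neg]) (hbu.map ι)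
      (by exact AlgEquiv.commutes _ _) (by rw [hσ, hσ, hlam])
      (by
        rw [hσ, ← map_mul ι, ← map_mul ι, ← map_mul (algebraMap C (C ⊗[B] A)), hx',
          ← IsScalarTower.algebraMap_apply, ← AlgHom.commutes ι, ← map_mul ι, ← map_add ι, map_add, map_one, hδ]
        congr 1
        linear_combination (h 1 1 * h 0 0) * hβ)
      (by
        rw [← map_ofNat (algebraMap B (C ⊗[B] A)) 2]
        exact h2B.map _)
      (by rw [← map_one (algebraMap C (C ⊗[B] A)), ← map_add]; exact hx1.map _) hs0u
    refine ⟨v, hv, ?_⟩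
    have hh' : h.map ι = !![ι (h 0 0), ι (h 0 1); -σ (ι (h 0 1)), ι (h 1 1)] := by
      ext p q; fin_cases p <;> fin_cases q <;> simp [hσ, h10]
    change (v.map σ).transpose * h.map ι * v = _
    rw [hh', hvj]
    ext p q
    fin_cases p <;> fin_cases q
    · exact (map_zero ι).symm
    · exact (map_one ι).symm
    · exact ((map_neg ι 1).trans (congrArg Neg.neg (map_one ι))).symm
    · exact (map_zero ι).symm

end Groth.Agent.S17363
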