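import Groth.Statements.S17364
import Groth.Agent.Lib.RInv29.Spread

set_option autoImplicit false
universe u v
set_option maxHeartbeats 2000000
open scoped TensorProduct
open RInv

namespace Groth.Agent.S17364

/-- Let `A` be a commutative ring with an involution `lam` whose fixed ring is `B`, let `ε = ±1`, and
let `h, h'` be invertible `n × n` matrices over `A` with `h = ε (lam h)ᵀ` and `h' = ε (lam h')ᵀ`.
Let `p` be a prime of `B` and suppose there are units `s_1, …, s_l` of the local ring `B_p`,
elements `f_1, …, f_r` of `B_p[X_1, …, X_l]/(X_k² - s_k)` (square roots of the `s_k` adjoined)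
generating the unit ideal, and for each `i` an invertible matrix `v` over `C ⊗_B A` for the
localisation `C` of that ring at `f_i` (any `B`-algebra with the universal property of that
localisation) (`lam` extended so as to fix the square roots and `B_p`) with `(lam v)ᵀ h v = h'`.
Then there is `b ∉ p` in `B` such that the same kind of data exists with `B_p` replaced by `B_b`:
units of `B_b`, a finite family generating the unit ideal of `B_b[X_1, …, X_l]/(X_k² - s_k)`, and
invertible matrices over the corresponding localisations tensored with `A` congruating `h` to `h'`. -/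
theorem result (B : Type u) (A : Type v) [CommRing B] [CommRing A]
    [Algebra B A] (lam : A ≃ₐ[B] A) (hlam : ∀ a, lam (lam a) = a) (hB : RInv.IsFixedRing B A lam.toRingEquiv)
    (n : ℕ) (ε : A) (hε : ε = 1 ∨ ε = -1) (h h' : Matrix (Fin n) (Fin n) A) (hh : IsUnit h) (hh' : IsUnit h')
    (herm : ε • (h.map lam).transpose = h) (herm' : ε • (h'.map lam).transpose = h')
    (p : Ideal B) [p.IsPrime]
    (hdata : (∃ (l : ℕ) (s : Fin l → (Localization.AtPrime p)ˣ) (r : ℕ) (f : Fin r → (MvPolynomial (Fin l) (Localization.AtPrime p) ⧸ Ideal.span (Set.range fun k : Fin l => MvPolynomial.X k ^ 2 - MvPolynomial.C (s k : Localization.AtPrime p)))),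
        Ideal.span (Set.range f) = ⊤ ∧
        ∀ (i : Fin r) (C : Type u) [CommRing C] [Algebra B C]
          [Algebra (MvPolynomial (Fin l) (Localization.AtPrime p) ⧸ Ideal.span (Set.range fun k : Fin l => MvPolynomial.X k ^ 2 - MvPolynomial.C (s k : Localization.AtPrime p))) C]
          [IsScalarTower B (MvPolynomial (Fin l) (Localization.AtPrime p) ⧸ Ideal.span (Set.range fun k : Fin l => MvPolynomial.X k ^ 2 - MvPolynomial.C (s k : Localization.AtPrime p))) C]
          [IsLocalization.Away (f i) C],
          ∃ v : Matrix (Fin n) (Fin n) (C ⊗[B] A), IsUnit v ∧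
            (v.map (Algebra.TensorProduct.congr (AlgEquiv.refl : C ≃ₐ[C] C) lam)).transpose * h.map (Algebra.TensorProduct.includeRight : A →ₐ[B] C ⊗[B] A) * v = h'.map (Algebra.TensorProduct.includeRight : A →ₐ[B] C ⊗[B] A))) :
    ∃ b : B, b ∉ p ∧
      (∃ (l : ℕ) (s : Fin l → (Localization.Away b)ˣ) (r : ℕ) (f : Fin r → (MvPolynomial (Fin l) (Localization.Away b) ⧸ Ideal.span (Set.range fun k : Fin l => MvPolynomial.X k ^ 2 - MvPolynomial.C (s k : Localization.Away b)))),
        Ideal.span (Set.range f) = ⊤ ∧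
        ∀ (i : Fin r) (C : Type u) [CommRing C] [Algebra B C]
          [Algebra (MvPolynomial (Fin l) (Localization.Away b) ⧸ Ideal.span (Set.range fun k : Fin l => MvPolynomial.X k ^ 2 - MvPolynomial.C (s k : Localization.Away b))) C]
          [IsScalarTower B (MvPolynomial (Fin l) (Localization.Away b) ⧸ Ideal.span (Set.range fun k : Fin l => MvPolynomial.X k ^ 2 - MvPolynomial.C (s k : Localization.Away b))) C]
          [IsLocalization.Away (f i) C],
          ∃ v : Matrix (Fin n) (Fin n) (C ⊗[B] A), IsUnit v ∧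
            (v.map (Algebra.TensorProduct.congr (AlgEquiv.refl : C ≃ₐ[C] C) lam)).transpose * h.map (Algebra.TensorProduct.includeRight : A →ₐ[B] C ⊗[B] A) * v = h'.map (Algebra.TensorProduct.includeRight : A →ₐ[B] C ⊗[B] A)) := by
  obtain ⟨l, s, r, f, hspan, hC⟩ := hdata
  classical
  set M := p.primeCompl
  -- fractions for the units
  choose a c hac using fun k : Fin l => IsLocalization.exists_mk'_eq M (s k : Localization.AtPrime p)
  have ha : ∀ k, a k ∈ M := fun k => (IsLocalization.AtPrime.isUnit_mk'_iff _ p _ _).1 (hac k ▸ (s k).isUnit)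
  let J : Ideal (MvPolynomial (Fin l) B) := Ideal.span (Set.range fun k : Fin l =>
    MvPolynomial.C (c k : B) * MvPolynomial.X k ^ 2 - MvPolynomial.C (a k))
  let φp : MvPolynomial (Fin l) B →ₐ[B] MvPolynomial (Fin l) (Localization.AtPrime p) :=
    { MvPolynomial.map (algebraMap B (Localization.AtPrime p)) with
      commutes' := fun b => by simp [MvPolynomial.algebraMap_eq, IsScalarTower.algebraMap_apply B (Localization.AtPrime p) (MvPolynomial (Fin l) (Localization.AtPrime p))] }
  have hJ : J.map (MvPolynomial.map (algebraMap B (Localization.AtPrime p))) =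
      Ideal.span (Set.range fun k : Fin l => MvPolynomial.X k ^ 2 - MvPolynomial.C (s k : Localization.AtPrime p)) := by
    rw [Ideal.map_span, ← Set.range_comp]
    have he : ∀ k, MvPolynomial.map (algebraMap B (Localization.AtPrime p))
        (MvPolynomial.C (c k : B) * MvPolynomial.X k ^ 2 - MvPolynomial.C (a k)) =
        MvPolynomial.C (algebraMap B (Localization.AtPrime p) (c k)) *
          (MvPolynomial.X k ^ 2 - MvPolynomial.C (s k : Localization.AtPrime p)) := fun k => by
      rw [map_sub, map_mul, map_pow, MvPolynomial.map_C, MvPolynomial.map_X, MvPolynomial.map_C, mul_sub,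
        ← map_mul, ← hac k, IsLocalization.mk'_spec']
    apply le_antisymm <;> rw [Ideal.span_le] <;> rintro _ ⟨k, rfl⟩
    · simp only [Function.comp_apply, SetLike.mem_coe]
      rw [he]
      exact Ideal.mul_mem_left _ _ (Ideal.subset_span ⟨k, rfl⟩)
    · obtain ⟨u, hu⟩ := (IsLocalization.map_units (Localization.AtPrime p) (c k)).exists_left_inv
      have h1 := Ideal.mul_mem_left (Ideal.span (Set.range ((MvPolynomial.map (algebraMap B (Localization.AtPrime p))) ∘
        fun k : Fin l => MvPolynomial.C (c k : B) * MvPolynomial.X k ^ 2 - MvPolynomial.C (a k))))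
        (MvPolynomial.C u) (Ideal.subset_span ⟨k, rfl⟩)
      simp only [Function.comp_apply, he] at h1
      rw [← mul_assoc, ← map_mul, hu, map_one, one_mul] at h1
      exact h1
  let T : (MvPolynomial (Fin l) B ⧸ J) →ₐ[B] (MvPolynomial (Fin l) (Localization.AtPrime p) ⧸ Ideal.span (Set.range fun k : Fin l => MvPolynomial.X k ^ 2 - MvPolynomial.C (s k : Localization.AtPrime p))) :=
    Ideal.quotientMapₐ _ φp (Ideal.map_le_iff_le_comap.1 hJ.le)
  have hT := RInv29.locB_quot (M := M) (Localization.AtPrime p) J _ hJ T fun P => rfl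
  obtain ⟨m0, g, hm0, hg⟩ := hT.exists_common f
  -- covering
  obtain ⟨m1, hm1, hcov⟩ : ∃ m1 ∈ M, algebraMap B (MvPolynomial (Fin l) B ⧸ J) m1 ∈ Ideal.span (Set.range g) := by
    obtain ⟨q, hq⟩ := (Ideal.mem_span_range_iff_exists_fun (R := _)).1 (hspan ▸ Submodule.mem_top (x := (1 : _)))
    obtain ⟨m, e, hm, he⟩ := hT.exists_common q
    obtain ⟨m', hm', hk⟩ := hT.exists_kill (ι := Unit) (fun _ => (∑ i, e i * g i) - algebraMap B _ (m * m0)) fun _ => by
      rw [map_sub, map_sum, AlgHom.commutes, map_mul, sub_eq_zero]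
      simp only [map_mul, ← he, ← hg]
      conv_rhs => rw [← mul_one (algebraMap B _ m * algebraMap B _ m0), ← hq, Finset.mul_sum]
      exact Finset.sum_congr rfl fun i _ => by ring
    refine ⟨m' * (m * m0), M.mul_mem hm' (M.mul_mem hm hm0), ?_⟩
    rw [show algebraMap B (MvPolynomial (Fin l) B ⧸ J) (m' * (m * m0)) = algebraMap B _ m' * ∑ i, e i * g i by
      rw [map_mul]; linear_combination -(hk ())]
    exact Ideal.mul_mem_left _ _ (Ideal.sum_mem _ fun i _ => Ideal.mul_mem_left _ _ (Ideal.subset_span ⟨i, rfl⟩))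
  -- each chart
  have hmain : ∀ i, ∃ (m m' : B) (X X' : Matrix (Fin n) (Fin n) (Localization.Away (g i) ⊗[B] A)), m ∈ M ∧ m' ∈ M ∧
      algebraMap B (Localization.Away (g i) ⊗[B] A) m' •
        ((X.map (Algebra.TensorProduct.map (AlgHom.id B (Localization.Away (g i))) lam.toAlgHom)).transpose *
          h.map (Algebra.TensorProduct.includeRight : A →ₐ[B] Localization.Away (g i) ⊗[B] A) * X -
          algebraMap B (Localization.Away (g i) ⊗[B] A) (m * m) • h'.map (Algebra.TensorProduct.includeRight : A →ₐ[B] Localization.Away (g i) ⊗[B] A)) = 0 ∧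
      algebraMap B (Localization.Away (g i) ⊗[B] A) m' • (X * X' - algebraMap B (Localization.Away (g i) ⊗[B] A) (m * m) • 1) = 0 := by
    intro i
    let Cp := Localization.Away (f i)
    obtain ⟨v, hvu, hv⟩ := hC i Cp
    obtain ⟨v', hv'⟩ : ∃ v', v * v' = 1 := ⟨_, hvu.unit.mul_inv⟩
    have hgu : IsUnit (algebraMap (MvPolynomial (Fin l) (Localization.AtPrime p) ⧸ Ideal.span (Set.range fun k : Fin l => MvPolynomial.X k ^ 2 - MvPolynomial.C (s k : Localization.AtPrime p))) Cp (T (g i))) := by
      rw [← hg i, map_mul]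
      exact ((hT.1 m0 hm0).map _).mul (IsLocalization.Away.algebraMap_isUnit (f i))
    obtain ⟨T1, hT1r⟩ := RInv29.exists_away_lift (X := MvPolynomial (Fin l) B ⧸ J) (Y := MvPolynomial (Fin l) (Localization.AtPrime p) ⧸ Ideal.span (Set.range fun k : Fin l => MvPolynomial.X k ^ 2 - MvPolynomial.C (s k : Localization.AtPrime p))) T Cp (g i) hgu
    have hT1 : RInv29.LocB M T1 := hT.away hm0 (hg i) T1 hT1r
    let T2 := Algebra.TensorProduct.map T1 (AlgHom.id B A)
    have hT2 : RInv29.LocB M T2 := hT1.tensor A
    obtain ⟨m, x, hm, hx⟩ := hT2.exists_common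
      (fun q : (Fin n × Fin n) ⊕ (Fin n × Fin n) => Sum.elim (fun z => v z.1 z.2) (fun z => v' z.1 z.2) q)
    let X : Matrix (Fin n) (Fin n) (Localization.Away (g i) ⊗[B] A) := Matrix.of fun j k => x (Sum.inl (j, k))
    let X' : Matrix (Fin n) (Fin n) (Localization.Away (g i) ⊗[B] A) := Matrix.of fun j k => x (Sum.inr (j, k))
    let μ := algebraMap B (Cp ⊗[B] A) m
    have hX : X.map T2 = μ • v := by ext j k; exact (hx (Sum.inl (j, k))).symm
    have hX' : X'.map T2 = μ • v' := by ext j k; exact (hx (Sum.inr (j, k))).symm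
    let σ0 := Algebra.TensorProduct.map (AlgHom.id B (Localization.Away (g i))) lam.toAlgHom
    let σp := Algebra.TensorProduct.congr (AlgEquiv.refl : Cp ≃ₐ[Cp] Cp) lam
    have hσ : ∀ z, T2 (σ0 z) = σp (T2 z) := fun z => by
      induction z using TensorProduct.induction_on with
      | zero => simp
      | tmul u w => rfl
      | add u w hu hw => simp only [map_add, hu, hw]
    have hσμ : σp μ = μ := by
      change σp (algebraMap B Cp m ⊗ₜ 1) = algebraMap B Cp m ⊗ₜ 1
      simp [σp]
    have hh0 : ∀ q : Matrix (Fin n) (Fin n) A,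
        (q.map (Algebra.TensorProduct.includeRight : A →ₐ[B] Localization.Away (g i) ⊗[B] A)).map T2 =
          q.map (Algebra.TensorProduct.includeRight : A →ₐ[B] Cp ⊗[B] A) := fun q => by
      ext j k; simp [T2]
    let F1 := (X.map σ0).transpose * h.map (Algebra.TensorProduct.includeRight : A →ₐ[B] Localization.Away (g i) ⊗[B] A) * X -
      algebraMap B (Localization.Away (g i) ⊗[B] A) (m * m) • h'.map (Algebra.TensorProduct.includeRight : A →ₐ[B] Localization.Away (g i) ⊗[B] A)
    let F2 := X * X' - algebraMap B (Localization.Away (g i) ⊗[B] A) (m * m) • (1 : Matrix (Fin n) (Fin n) _)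
    have hμ : T2.toRingHom (algebraMap B (Localization.Away (g i) ⊗[B] A) m) = μ := T2.commutes m
    have hF1 : F1.map T2 = 0 := by
      have := RInv29.descend T2.toRingHom σ0.toRingHom σp.toRingEquiv.toRingHom hσ (v := v)
        (μ := algebraMap B (Localization.Away (g i) ⊗[B] A) m)
        (H := h.map (Algebra.TensorProduct.includeRight : A →ₐ[B] Localization.Away (g i) ⊗[B] A))
        (H' := h'.map (Algebra.TensorProduct.includeRight : A →ₐ[B] Localization.Away (g i) ⊗[B] A))
        (X := X) (by rw [hμ]; exact hX) (by rw [hμ]; exact hσμ)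
        (by
          change (v.map σp).transpose * (h.map _).map T2 * v = (h'.map _).map T2
          rw [hh0, hh0, hv])
      rw [← map_mul (algebraMap B (Localization.Away (g i) ⊗[B] A))] at this
      exact this
    have hF2 : F2.map T2 = 0 := by
      have := RInv29.descend_inv T2.toRingHom (v := v) (v' := v') (μ := algebraMap B (Localization.Away (g i) ⊗[B] A) m)
        (X := X) (X' := X') (by rw [hμ]; exact hX) (by rw [hμ]; exact hX') hv'
      rw [← map_mul (algebraMap B (Localization.Away (g i) ⊗[B] A))] at this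
      exact this
    obtain ⟨m', hm', hk⟩ := hT2.exists_kill
      (fun q : (Fin n × Fin n) ⊕ (Fin n × Fin n) => Sum.elim (fun z => F1 z.1 z.2) (fun z => F2 z.1 z.2) q) (by
      rintro (z | z)
      · exact congrFun (congrFun hF1 z.1) z.2
      · exact congrFun (congrFun hF2 z.1) z.2)
    exact ⟨m, m', X, X', hm, hm', by ext j k; exact hk (Sum.inl (j, k)), by ext j k; exact hk (Sum.inr (j, k))⟩
  choose m m' X X' hm hm' hF1 hF2 using hmain
  set b : B := (∏ k, (c k : B) * a k) * m1 * ∏ i, m i * m' i
  have hb : b ∈ M := M.mul_mem (M.mul_mem (M.prod_mem fun k _ => M.mul_mem (c k).2 (ha k)) hm1)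
    (M.prod_mem fun i _ => M.mul_mem (hm i) (hm' i))
  refine ⟨b, hb, ?_⟩
  have hdvd : ∀ d : B, d ∣ b → IsUnit (algebraMap B (Localization.Away b) d) := fun d hd =>
    isUnit_of_dvd_unit ((algebraMap B (Localization.Away b)).map_dvd hd) (IsLocalization.Away.algebraMap_isUnit b)
  have hcu : ∀ k, IsUnit (algebraMap B (Localization.Away b) (c k)) := fun k => hdvd _
    (((dvd_mul_right _ (a k)).trans (Finset.dvd_prod_of_mem (fun k => (c k : B) * a k) (Finset.mem_univ k))).trans
      ((dvd_mul_right _ _).trans (dvd_mul_right _ _)))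
  have hau : ∀ k, IsUnit (algebraMap B (Localization.Away b) (a k)) := fun k => hdvd _
    (((dvd_mul_left _ (c k : B)).trans (Finset.dvd_prod_of_mem (fun k => (c k : B) * a k) (Finset.mem_univ k))).trans
      ((dvd_mul_right _ _).trans (dvd_mul_right _ _)))
  let s' : Fin l → (Localization.Away b)ˣ := fun k => (hau k).unit * (hcu k).unit⁻¹
  let Jb : Ideal (MvPolynomial (Fin l) (Localization.Away b)) :=
    Ideal.span (Set.range fun k : Fin l => MvPolynomial.X k ^ 2 - MvPolynomial.C (s' k : Localization.Away b))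
  let φb : MvPolynomial (Fin l) B →ₐ[B] MvPolynomial (Fin l) (Localization.Away b) :=
    { MvPolynomial.map (algebraMap B (Localization.Away b)) with
      commutes' := fun b' => by simp [MvPolynomial.algebraMap_eq, IsScalarTower.algebraMap_apply B (Localization.Away b) (MvPolynomial (Fin l) (Localization.Away b))] }
  have hJb : J ≤ Jb.comap φb := by
    rw [Ideal.span_le]
    rintro _ ⟨k, rfl⟩
    change MvPolynomial.map (algebraMap B (Localization.Away b)) _ ∈ Jb
    rw [map_sub, map_mul, map_pow, MvPolynomial.map_C, MvPolynomial.map_X, MvPolynomial.map_C]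
    have h1 : algebraMap B (Localization.Away b) (a k) =
        algebraMap B (Localization.Away b) (c k) * (s' k : Localization.Away b) := by
      change _ = _ * (algebraMap B (Localization.Away b) (a k) * (↑(hcu k).unit⁻¹ : Localization.Away b))
      rw [mul_left_comm, IsUnit.mul_val_inv, mul_one]
    rw [h1, map_mul, ← mul_sub]
    exact Ideal.mul_mem_left _ _ (Ideal.subset_span ⟨k, rfl⟩)
  let Tb : (MvPolynomial (Fin l) B ⧸ J) →ₐ[B] (MvPolynomial (Fin l) (Localization.Away b) ⧸ Jb) :=
    Ideal.quotientMapₐ _ φb hJb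
  refine ⟨l, s', r, fun i => Tb (g i), ?_, ?_⟩
  · refine Ideal.eq_top_of_isUnit_mem _ ?_ ((hdvd m1 ((dvd_mul_left _ _).trans (dvd_mul_right _ _))).map
      (algebraMap (Localization.Away b) (MvPolynomial (Fin l) (Localization.Away b) ⧸ Jb)))
    rw [← IsScalarTower.algebraMap_apply, ← AlgHom.commutes Tb]
    have := Ideal.mem_map_of_mem Tb hcov
    rwa [Ideal.map_span, ← Set.range_comp] at this
  intro i C _ _ _ _ _
  let Qb := MvPolynomial (Fin l) (Localization.Away b) ⧸ Jb
  obtain ⟨U1, hU1r⟩ := RInv29.exists_away_lift (X := MvPolynomial (Fin l) B ⧸ J) (Y := Qb) Tb C (g i) (IsLocalization.Away.algebraMap_isUnit (S := C) (Tb (g i) : Qb))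
  let U := Algebra.TensorProduct.map U1 (AlgHom.id B A)
  have hub : ∀ d : B, d ∣ b → IsUnit (algebraMap B (C ⊗[B] A) d) := fun d hd => by
    rw [IsScalarTower.algebraMap_apply B C (C ⊗[B] A), IsScalarTower.algebraMap_apply B Qb C,
      IsScalarTower.algebraMap_apply B (Localization.Away b) Qb]
    exact (((hdvd d hd).map (algebraMap (Localization.Away b) Qb)).map _).map _
  have hmu := hub (m i) (((dvd_mul_right _ (m' i)).trans (Finset.dvd_prod_of_mem (fun i => m i * m' i) (Finset.mem_univ i))).trans (dvd_mul_left _ _))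
  have hm'u := hub (m' i) (((dvd_mul_left _ (m i)).trans (Finset.dvd_prod_of_mem (fun i => m i * m' i) (Finset.mem_univ i))).trans (dvd_mul_left _ _))
  let σc := Algebra.TensorProduct.congr (AlgEquiv.refl : C ≃ₐ[C] C) lam
  have hσ : ∀ z, U (Algebra.TensorProduct.map (AlgHom.id B (Localization.Away (g i))) lam.toAlgHom z) = σc (U z) := fun z => by
    induction z using TensorProduct.induction_on with
    | zero => simp
    | tmul u w => rfl
    | add u w hu hw => simp only [map_add, hu, hw]
  have hσm : σc (algebraMap B (C ⊗[B] A) (m i)) = algebraMap B (C ⊗[B] A) (m i) := by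
    change σc (algebraMap B C (m i) ⊗ₜ 1) = algebraMap B C (m i) ⊗ₜ 1
    simp [σc]
  have hh0 : ∀ q : Matrix (Fin n) (Fin n) A,
      (q.map (Algebra.TensorProduct.includeRight : A →ₐ[B] Localization.Away (g i) ⊗[B] A)).map U =
        q.map (Algebra.TensorProduct.includeRight : A →ₐ[B] C ⊗[B] A) := fun q => by
    ext j k; simp [U]
  obtain ⟨vv, hvv, hve⟩ := RInv29.ascend U.toRingHom
    (Algebra.TensorProduct.map (AlgHom.id B (Localization.Away (g i))) lam.toAlgHom).toRingHom σc.toRingEquiv.toRingHom hσ
    (H := h.map (Algebra.TensorProduct.includeRight : A →ₐ[B] Localization.Away (g i) ⊗[B] A))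
    (H' := h'.map (Algebra.TensorProduct.includeRight : A →ₐ[B] Localization.Away (g i) ⊗[B] A))
    (X := X i) (X' := X' i) (μ := algebraMap B (Localization.Away (g i) ⊗[B] A) (m i))
    (k := algebraMap B (Localization.Away (g i) ⊗[B] A) (m' i))
    (by change IsUnit (U _); rw [AlgHom.commutes]; exact hm'u)
    (by change IsUnit (U _); rw [AlgHom.commutes]; exact hmu)
    (by change σc (U _) = U _; rw [AlgHom.commutes]; exact hσm)
    (by rw [← map_mul]; exact hF1 i) (by rw [← map_mul]; exact hF2 i)
  refine ⟨vv, hvv, ?_⟩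
  rw [← hh0, ← hh0]
  exact hve

end Groth.Agent.S17364
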