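import Groth.Statements.S17365
import Groth.Agent.Lib.DepthAlong11.FlatExtend
import Groth.Agent.S2863
import Groth.Agent.Lib.KFlat.LpullPC
import Groth.Agent.Lib.FlatDepth.FibreStalk

set_option autoImplicit false
set_option backward.isDefEq.respectTransparency.types false
universe u
open CategoryTheory CategoryTheory.Limits AlgebraicGeometry TopologicalSpace
open CInt

namespace Groth.Agent.S17365

/-- Let k be an algebraically closed field, X a smooth proper k-scheme admitting an ample invertible
sheaf, and S a locally Noetherian k-scheme. Let E be a finite locally free module on S ×_k X and Z a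
closed subset of S ×_k X whose intersection with every fibre {s} × X has codimension at least 2
there, i.e. at every point of Z the local ring of the fibre of the projection S ×_k X ⟶ S has Krull
dimension at least 2. Then, with j the inclusion of the complement of Z, the natural map E ⟶ j_*
(E|_{S × X ∖ Z}) is an isomorphism. -/
theorem result
    (k : Type u) [Field k] [IsAlgClosed k] (S X : Scheme.{u})
    (b : S ⟶ Spec (CommRingCat.of k)) (a : X ⟶ Spec (CommRingCat.of k))
    [IsLocallyNoetherian S] [Smooth a] [IsProper a]
    (hproj : ∃ H : X.Modules, CohB1.IsAmple H)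
    (E : (pullback b a).Modules) (hE : FlatMod.IsFinLocFree E)
    (Z : Closeds ↥(pullback b a))
    (hZ : ∀ x : ↥(pullback b a), x ∈ Z →
      (2 : WithBot ℕ∞) ≤ ringKrullDim ↑(CInt.fiberStalk (pullback.fst b a) x)) :
    IsIso ((Scheme.Modules.restrictAdjunction (Scheme.Opens.ι (Z.compl : (pullback b a).Opens))).unit.app E) := by
  let g := pullback.fst b a
  haveI : Smooth g := MorphismProperty.pullback_fst (P := @AlgebraicGeometry.Smooth) b a (inferInstanceAs (Smooth a))
  haveI : IsLocallyNoetherian (pullback b a) := LocallyOfFiniteType.isLocallyNoetherian g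
  haveI : Coh.IsQCoh (Coh.structureModule (pullback b a)) := M1.isQCoh_structureModule _
  haveI : Coh.IsQCoh E := M1.isFP_isQCoh (M1.isFP_of_isFinLocFree hE)
  refine DepthAlong11.isIso_unit_of_hasSlicePair (DepthAlong11.hasSlicePair_of_flat
    (DepthAlong11.hasSlicePair_of_depth _ (M1.isCoh_structureModule (pullback b a)) Z.compl fun z hz => ?_)
    E (KFlat.Sch.isFlat_of_isFinLocFree hE))
  rw [show LocCoh.depth ((pullback b a).presheaf.stalk z) ((Coh.structureModule (pullback b a)).presheaf.stalk z) =
      LocCoh.depth ((pullback b a).presheaf.stalk z) ((pullback b a).presheaf.stalk z) from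
    (DepthLib.idealDepth_congr (RH26.str (X := pullback b a) z)).symm, (FlatDepth.stalk_invariants g z).1]
  haveI : IsRegularLocalRing (CInt.fiberStalk g z) := S2863.isRegularLocalRing_fiberStalk g z
  have hF := DepthLib.isCohenMacaulayLocalRing_of_isRegularLocalRing (R := CInt.fiberStalk g z)
  have h2 := hZ z (not_not.1 hz)
  rw [← Module.supportDim_self_eq_ringKrullDim, hF.supportDim_eq_depth] at h2
  exact le_trans (WithBot.coe_le_coe.1 h2) (self_le_add_left _ _)

end Groth.Agent.S17365
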