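import Groth.Statements.S1737
import Groth.Agent.Lib.ClosedAlong.Criteria
import Mathlib.RingTheory.LocalProperties.Exactness
-- import your own Groth.Agent.* helpers here

set_option autoImplicit false
universe u
open LocCoh

namespace Groth.Agent.S1737

/-- Let A be a Noetherian ring, T ⊆ Spec A stable under specialization and M a finite A-module. There
are a finite A-module M' and a surjection M → M' which is bijective after localizing at every prime
outside T and such that M'_p has depth ≥ 1 over A_p for every p in T. (The source states this for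
coherent modules on a Noetherian scheme, with uniqueness.) -/
theorem result (A : Type u) [CommRing A] [IsNoetherianRing A] (T : Set (PrimeSpectrum A)) (hT : StableUnderSpecialization T) (M : Type u) [AddCommGroup M] [Module A M] [Module.Finite A M] : ∃ (M' : Type u) (_ : AddCommGroup M') (_ : Module A M') (_ : Module.Finite A M') (f : M →ₗ[A] M'), Function.Surjective f ∧ (∀ p : PrimeSpectrum A, p ∉ T → Function.Bijective (LocalizedModule.map p.asIdeal.primeCompl f)) ∧ ∀ p : PrimeSpectrum A, p ∈ T → 1 ≤ LocCoh.depth (Localization.AtPrime p.asIdeal) (LocalizedModule p.asIdeal.primeCompl M') := by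
  let N : Submodule A M :=
    { carrier := {m | ∀ q : PrimeSpectrum A, q ∉ T → ∃ s : A, s ∉ q.asIdeal ∧ s • m = 0}
      zero_mem' := fun q _ => ⟨1, q.asIdeal.primeCompl.one_mem, smul_zero _⟩
      add_mem' := fun {a b} ha hb q hq => by
        obtain ⟨s, hs, hs'⟩ := ha q hq
        obtain ⟨t, ht, ht'⟩ := hb q hq
        exact ⟨s * t, q.asIdeal.primeCompl.mul_mem hs ht, by
          rw [smul_add, mul_smul, mul_smul, ht', smul_comm s t a, hs', smul_zero, smul_zero, add_zero]⟩
      smul_mem' := fun c a ha q hq => by
        obtain ⟨s, hs, hs'⟩ := ha q hq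
        exact ⟨s, hs, by rw [smul_comm, hs', smul_zero]⟩ }
  refine ⟨M ⧸ N, inferInstance, inferInstance, inferInstance, N.mkQ, Submodule.mkQ_surjective N,
    fun q hq => ⟨?_, LocalizedModule.map_surjective _ _ (Submodule.mkQ_surjective N)⟩, fun p hp => ?_⟩
  · rw [injective_iff_map_eq_zero]
    intro x hx
    induction x using LocalizedModule.induction_on with
    | h m s =>
      rw [LocalizedModule.map_mk, ← LocalizedModule.zero_mk 1, LocalizedModule.mk_eq] at hx
      obtain ⟨c, hc⟩ := hx
      simp only [one_smul, smul_zero, Submonoid.smul_def, Submodule.mkQ_apply, ← Submodule.Quotient.mk_smul,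
        Submodule.Quotient.mk_eq_zero] at hc
      obtain ⟨t, ht, ht'⟩ := hc q hq
      rw [← LocalizedModule.zero_mk 1, LocalizedModule.mk_eq]
      refine ⟨⟨t * c, q.asIdeal.primeCompl.mul_mem ht c.2⟩, ?_⟩
      simp only [one_smul, smul_zero, Submonoid.smul_def]
      rw [mul_smul, ht']
  · refine Groth.Agent.ClosedAlong.one_le_depth_of_notMem_associatedPrimes _ fun hass => ?_
    obtain ⟨hprime, x, hx⟩ := isAssociatedPrime_iff.mp hass
    obtain ⟨m, rfl⟩ := Submodule.mkQ_surjective N x
    refine hprime.ne_top ?_
    rw [hx, Ideal.eq_top_iff_one, Submodule.mem_colon_singleton, one_smul, Submodule.mem_bot,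
      Submodule.mkQ_apply, Submodule.Quotient.mk_eq_zero]
    intro q hq
    obtain ⟨a, ha, haq⟩ := SetLike.not_le_iff_exists.1 fun hle : p.asIdeal ≤ q.asIdeal =>
      hq (hT ((PrimeSpectrum.le_iff_specializes p q).mp hle) hp)
    have h1 := hx.le ha
    rw [Submodule.mem_colon_singleton, Submodule.mem_bot, Submodule.mkQ_apply, ← Submodule.Quotient.mk_smul,
      Submodule.Quotient.mk_eq_zero] at h1
    obtain ⟨t, ht, ht'⟩ := h1 q hq
    exact ⟨t * a, q.asIdeal.primeCompl.mul_mem ht haq, by rw [mul_smul, ht']⟩

end Groth.Agent.S1737
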