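import Groth.Statements.S17374
import Groth.Agent.Lib.NumPoly18.Vol

set_option autoImplicit false
universe u
open CategoryTheory CategoryTheory.Limits AlgebraicGeometry
open scoped ENNReal
open Variety

open Groth.Agent Groth.Agent.NumPoly18
namespace Groth.Agent.S17374

/-- Let X be a geometrically integral scheme of dimension d, proper over a field k and admitting an
ample invertible module, and let L, N be invertible modules on X with N numerically trivial (degree
zero on every integral closed one-dimensional subscheme). Then the upper limits of dim_k H^0(X, (L ⊗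
N)^m) / m^d and of dim_k H^0(X, L^m) / m^d as m → ∞, taken in the extended non-negative reals,
agree; that is, the volume of an invertible module depends only on its numerical equivalence class. -/
theorem result (k : Type u) [Field k] (X : Scheme.{u})
    [X.Over (Spec (CommRingCat.of k))] [IsIntegral X] [GeometricallyIntegral (X ↘ Spec (CommRingCat.of k))]
    [IsProper (X ↘ Spec (CommRingCat.of k))]
    (hproj : ∃ A : X.Modules, CohB1.IsAmple A) (d : ℕ) (hd : topologicalKrullDim X = d)
    (L N : X.Modules) (hL : PicF.IsInvertible L) (hN : PicF.IsInvertible N) (hNum : Pic13.IsNumEquivZero k X N) :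
    Filter.limsup (fun m : ℕ => (Module.finrank k (Coh.HH X (CohB1.tensorPow (CohB1.tensorMod L N) m) 0) : ℝ≥0∞) /
        (m : ℝ≥0∞) ^ d) Filter.atTop =
      Filter.limsup (fun m : ℕ => (Module.finrank k (Coh.HH X (CohB1.tensorPow L m) 0) : ℝ≥0∞) /
        (m : ℝ≥0∞) ^ d) Filter.atTop := by
  obtain ⟨A, hA⟩ := hproj
  haveI : IsNoetherian X := CohFound.isNoetherian_of_isProper (X ↘ (Spec (CommRingCat.of k)))
  obtain ⟨N', hN', ⟨e⟩⟩ := M2.exists_inverse hN
  have hNum' : Pic13.IsNumEquivZero k X N' := fun Y i _ hY hd1 => by
    haveI : IsLocallyNoetherian Y := LocallyOfFiniteType.isLocallyNoetherian i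
    have hc : Coh.IsCoh ((Scheme.Modules.pushforward i).obj (Coh.structureModule Y)) :=
      CohFound.isCoh_push_closedImm i (M1.isCoh_structureModule Y)
    have h1 := md_cons_inverse (k := k) (r := 0) hN hN' e (M := fun _ : Fin 0 => N) (fun j => j.elim0) hc
      ((dim_support_push i _).trans (by rw [hd1]; rfl))
    have h2 := curveDeg_eq_cdeg (k := k) i hd1.le hN'
    have h3 := curveDeg_eq_cdeg (k := k) i hd1.le hN
    rw [cdeg, const_eq_cons, Subsingleton.elim (fun _ : Fin 0 => N') (fun _ : Fin 0 => N), h1] at h2
    rw [cdeg, const_eq_cons, hNum Y i hY hd1] at h3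
    rw [← h3, Int.cast_zero, neg_zero] at h2
    exact_mod_cast h2
  have e' : CohB1.tensorMod (CohB1.tensorMod L N) N' ≅ L :=
    M2.tensorAssoc _ _ _ ≪≫ M2.tensorIso (Iso.refl _) e ≪≫ M2.tensorRUnit _
  have hvol : volSeq k (CohB1.tensorMod (CohB1.tensorMod L N) N') d = volSeq k L d := funext fun n => by
    rw [volSeq, volSeq, (CurveCoh17.hequiv k (M2.tensorPowIso e' n) 0).finrank_eq]
  change Filter.limsup (volSeq k (CohB1.tensorMod L N) d) Filter.atTop = Filter.limsup (volSeq k L d) Filter.atTop
  refine le_antisymm ?_ (limsup_volSeq_le_tensor k hd hA hL hN hNum)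
  rw [← hvol]
  exact limsup_volSeq_le_tensor k hd hA (M2.isInvertible_tensor hL hN) hN' hNum'

end Groth.Agent.S17374
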