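import Groth.Statements.S17376
import Mathlib

set_option autoImplicit false
universe u
open scoped TensorProduct
open CAlg

namespace Groth.Agent.S17376

section Aux
open TensorProduct MvPolynomial

/-- the determinant of a matrix of polynomials killed by a monic polynomial over `A[σ]` has coefficients in `A` -/
theorem det_mem_range_map {σ : Type u} {n : Type*} [Fintype n] [DecidableEq n] {A K : Type u} [CommRing A] [IsDomain A]
    [IsIntegrallyClosed A] [Field K] [Algebra A K] [IsFractionRing A K] (Y : Matrix n n (MvPolynomial σ K))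
    (q : Polynomial (MvPolynomial σ A)) (hq : q.Monic)
    (hY : Polynomial.eval₂ ((algebraMap (MvPolynomial σ K) (Matrix n n (MvPolynomial σ K))).comp
      (MvPolynomial.map (algebraMap A K))) Y q = 0) :
    Y.det ∈ Set.range (MvPolynomial.map (σ := σ) (algebraMap A K)) := by
  classical
  let Ω := AlgebraicClosure (FractionRing (MvPolynomial σ K))
  let g : MvPolynomial σ K →+* Ω := (algebraMap (FractionRing (MvPolynomial σ K)) Ω).comp (algebraMap _ _)
  have hg : Function.Injective g := (algebraMap (FractionRing (MvPolynomial σ K)) Ω).injective.comp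
    (IsFractionRing.injective (MvPolynomial σ K) (FractionRing (MvPolynomial σ K)))
  let q' : Polynomial Ω := q.map (g.comp (MvPolynomial.map (algebraMap A K)))
  have hq' : Polynomial.aeval (Y.map g) q' = 0 := by
    have h1 := congrArg g.mapMatrix hY
    rw [map_zero, Polynomial.hom_eval₂] at h1
    rw [Polynomial.aeval_def, Polynomial.eval₂_map]
    refine Eq.trans ?_ h1
    congr 1
    refine RingHom.ext fun a => ?_
    show algebraMap Ω (Matrix n n Ω) (g _) = (algebraMap (MvPolynomial σ K) (Matrix n n (MvPolynomial σ K)) _).map g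
    ext i j
    by_cases h : i = j <;> simp [h, Matrix.algebraMap_matrix_apply]
  letI : Algebra (MvPolynomial σ A) (MvPolynomial σ K) := (MvPolynomial.map (algebraMap A K)).toAlgebra
  letI : Algebra (MvPolynomial σ A) Ω := (g.comp (MvPolynomial.map (algebraMap A K))).toAlgebra
  have hint : IsIntegral (MvPolynomial σ A) (Y.map g).det := by
    rw [Matrix.det_eq_prod_roots_charpoly]
    refine IsIntegral.multiset_prod fun l hl => ⟨q, hq, ?_⟩
    have hroot := (Polynomial.mem_roots'.1 hl).2
    have hspec : l ∈ spectrum Ω (Y.map g) := Matrix.mem_spectrum_iff_isRoot_charpoly.2 hroot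
    have h2 := spectrum.subset_polynomial_aeval (Y.map g) q' ⟨l, hspec, rfl⟩
    rw [hq', spectrum.mem_iff, sub_zero] at h2
    have h3 : Polynomial.eval l q' = 0 := by
      by_contra h
      exact h2 ((IsUnit.mk0 _ h).map _)
    rwa [Polynomial.eval_map] at h3
  have hdet : g Y.det = (Y.map g).det := RingHom.map_det g Y
  rw [← hdet] at hint
  let gA : MvPolynomial σ K →ₐ[MvPolynomial σ A] Ω := { g with commutes' := fun _ => rfl }
  have hint2 : IsIntegral (MvPolynomial σ A) Y.det := (isIntegral_algHom_iff gA hg).1 hint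
  rw [MvPolynomial.mem_range_map_iff_coeffs_subset]
  intro c hc
  rw [Finset.mem_coe, MvPolynomial.mem_coeffs_iff] at hc
  obtain ⟨m, -, rfl⟩ := hc
  exact IsIntegrallyClosed.isIntegral_iff.1 (MvPolynomial.isIntegral_iff_isIntegral_coeff.1 hint2 m)

variable {k K L R : Type u} [Field k] [Field K] [Algebra k K] [Field L] [Algebra K L] [Algebra k L]
  [IsScalarTower k K L] [CommRing R] [Algebra k R] {ι : Type*} [Fintype ι] [DecidableEq ι]

/-- `K ⊗ R → L ⊗ R` -/
noncomputable def bc (k K L R : Type u) [Field k] [Field K] [Algebra k K] [Field L] [Algebra K L] [Algebra k L]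
    [IsScalarTower k K L] [CommRing R] [Algebra k R] : K ⊗[k] R →ₐ[k] L ⊗[k] R :=
  Algebra.TensorProduct.map (IsScalarTower.toAlgHom k K L) (AlgHom.id k R)

theorem bc_mul_tmul (x : K) (r : R) (l : L) (s : R) :
    bc k K L R (x ⊗ₜ r) * (l ⊗ₜ s) = (x • l) ⊗ₜ (r * s) := by
  rw [bc, Algebra.TensorProduct.map_tmul, Algebra.TensorProduct.tmul_mul_tmul, Algebra.smul_def]
  rfl

/-- coordinates -/
noncomputable def coord (R : Type u) [CommRing R] [Algebra k R] (bas : Module.Basis ι K L) : L ⊗[k] R →ₗ[k] ι → K ⊗[k] R :=
  LinearMap.pi fun i => LinearMap.rTensor R ((bas.coord i).restrictScalars k)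

theorem coord_tmul (bas : Module.Basis ι K L) (l : L) (r : R) (i : ι) :
    coord R bas (l ⊗ₜ[k] r) i = bas.repr l i ⊗ₜ r := rfl

theorem sum_coord (bas : Module.Basis ι K L) (z : L ⊗[k] R) :
    ∑ i, bc k K L R (coord R bas z i) * (bas i ⊗ₜ 1) = z := by
  induction z using TensorProduct.induction_on with
  | zero => simp
  | tmul l r =>
    simp only [coord_tmul, bc_mul_tmul, mul_one, ← TensorProduct.sum_tmul, bas.sum_repr]
  | add x y hx hy =>
    simp only [map_add, Pi.add_apply, add_mul, Finset.sum_add_distrib, hx, hy]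

theorem coord_bc_mul (bas : Module.Basis ι K L) (c : K ⊗[k] R) (i j : ι) :
    coord R bas (bc k K L R c * (bas i ⊗ₜ 1)) j = if i = j then c else 0 := by
  induction c using TensorProduct.induction_on with
  | zero => simp
  | tmul x r =>
    rw [bc_mul_tmul, coord_tmul, mul_one, map_smul, Finsupp.smul_apply, Module.Basis.repr_self, Finsupp.single_apply]
    split <;> simp
  | add x y hx hy =>
    simp only [map_add, add_mul, Pi.add_apply, hx, hy]
    split <;> simp

theorem tmul_injective_map {A : Type u} [CommRing A] [Algebra k A] {B : Type u} [CommRing B] [Algebra k B]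
    (f : A →ₐ[k] B) (hf : Function.Injective f) :
    Function.Injective (Algebra.TensorProduct.map f (AlgHom.id k R)) := by
  have h := Module.Flat.rTensor_preserves_injective_linearMap (M := R) f.toLinearMap hf
  have e : ∀ x, Algebra.TensorProduct.map f (AlgHom.id k R) x = LinearMap.rTensor R f.toLinearMap x := by
    intro x
    induction x using TensorProduct.induction_on with
    | zero => simp
    | tmul a r => rfl
    | add x y hx hy => simp only [map_add, hx, hy]
  intro x y hxy
  rw [e, e] at hxy
  exact h hxy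

end Aux


/-- Let k be a field, A an integrally closed domain over k with fraction field K, L a finite extension
of K, B the integral closure of A in L, and R an arbitrary commutative k-algebra; view L ⊗_k R as an
algebra over K ⊗_k R through K → L. Then L ⊗_k R is finite free over K ⊗_k R, so the norm
(determinant of multiplication) L ⊗_k R → K ⊗_k R is defined; the norm of any element β of B ⊗_k R
(mapped into L ⊗_k R) lies in the image of A ⊗_k R; and β is a nonzerodivisor in B ⊗_k R if and only
if its norm is a nonzerodivisor in K ⊗_k R. (Nonzerodivisors of A ⊗_k R are exactly its elements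
that are nonzerodivisors in K ⊗_k R, the latter being a localisation of the former at
nonzerodivisors, so this is the source's formulation with the norm regarded in A ⊗_k R.) -/
theorem result (k A K L R : Type u) [Field k]
    [CommRing A] [IsDomain A] [IsIntegrallyClosed A] [Algebra k A]
    [Field K] [Algebra A K] [IsFractionRing A K] [Algebra k K] [IsScalarTower k A K]
    [Field L] [Algebra K L] [FiniteDimensional K L] [Algebra A L] [IsScalarTower A K L]
    [Algebra k L] [IsScalarTower k K L] [IsScalarTower k A L]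
    [CommRing R] [Algebra k R] :
    letI : Algebra (K ⊗[k] R) (L ⊗[k] R) :=
      (Algebra.TensorProduct.map (IsScalarTower.toAlgHom k K L) (AlgHom.id k R)).toRingHom.toAlgebra
    Module.Free (K ⊗[k] R) (L ⊗[k] R) ∧ Module.Finite (K ⊗[k] R) (L ⊗[k] R) ∧
      ∀ b : (integralClosure A L) ⊗[k] R,
        Algebra.norm (K ⊗[k] R)
            (Algebra.TensorProduct.map ((integralClosure A L).val.restrictScalars k) (AlgHom.id k R) b) ∈
          Set.range (Algebra.TensorProduct.map (IsScalarTower.toAlgHom k A K) (AlgHom.id k R)) ∧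
        (IsRegular b ↔ IsRegular (Algebra.norm (K ⊗[k] R)
            (Algebra.TensorProduct.map ((integralClosure A L).val.restrictScalars k) (AlgHom.id k R) b))) := by
  letI : Algebra (K ⊗[k] R) (L ⊗[k] R) := (bc k K L R).toRingHom.toAlgebra
  show Module.Free (K ⊗[k] R) (L ⊗[k] R) ∧ Module.Finite (K ⊗[k] R) (L ⊗[k] R) ∧ _
  classical
  let bas := Module.finBasis K L
  have hsmul : ∀ (c : K ⊗[k] R) (z : L ⊗[k] R), c • z = bc k K L R c * z := fun c z => rfl
  let e : (L ⊗[k] R) ≃ₗ[K ⊗[k] R] (Fin (Module.finrank K L) → K ⊗[k] R) :=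
    LinearEquiv.symm
    { toFun := fun v => ∑ i, bc k K L R (v i) * (bas i ⊗ₜ 1)
      map_add' := fun v w => by simp only [Pi.add_apply, map_add, add_mul, Finset.sum_add_distrib]
      map_smul' := fun c v => by
        simp only [Pi.smul_apply, smul_eq_mul, map_mul, RingHom.id_apply, hsmul, Finset.mul_sum, mul_assoc]
      invFun := coord R bas
      left_inv := fun v => by
        funext j
        simp only [map_sum, Finset.sum_apply, coord_bc_mul, Finset.sum_ite_eq', Finset.mem_univ, if_true]
      right_inv := sum_coord bas }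
  let basR := Module.Basis.ofEquivFun e
  haveI : Module.Free (K ⊗[k] R) (L ⊗[k] R) := Module.Free.of_basis basR
  haveI : Module.Finite (K ⊗[k] R) (L ⊗[k] R) := Module.Finite.of_basis basR
  refine ⟨inferInstance, inferInstance, fun b => ?_⟩
  let ι' := Algebra.TensorProduct.map ((integralClosure A L).val.restrictScalars k) (AlgHom.id k R)
  change Algebra.norm (K ⊗[k] R) (ι' b) ∈ _ ∧ (IsRegular b ↔ IsRegular (Algebra.norm (K ⊗[k] R) (ι' b)))
  rw [Algebra.norm_eq_matrix_det basR]
  have hrepr : ∀ z j, basR.repr z j = coord R bas z j := fun z j => by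
    rw [Module.Basis.ofEquivFun_repr_apply]; rfl
  have hbasR : ∀ j, basR j = bas j ⊗ₜ 1 := fun j => by
    apply basR.repr.injective
    ext i
    rw [Module.Basis.repr_self, hrepr, coord_tmul, Module.Basis.repr_self, Finsupp.single_apply,
      Finsupp.single_apply]
    split <;> simp [Algebra.TensorProduct.one_def]
  refine ⟨?_, ?_⟩
  · obtain ⟨S, hS⟩ := TensorProduct.exists_finset b
    let P := MvPolynomial ↥S K
    let E := P ⊗[K] L
    let bE := Algebra.TensorProduct.basis P bas
    let y : E := ∑ i : S, MvPolynomial.X i ⊗ₜ ((i.1.1 : integralClosure A L) : L)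
    letI : Algebra (MvPolynomial ↥S A) E :=
      ((algebraMap P E).comp (MvPolynomial.map (algebraMap A K))).toAlgebra
    have hy : IsIntegral (MvPolynomial ↥S A) y := by
      refine IsIntegral.sum _ fun i _ => ?_
      have e1 : (MvPolynomial.X i : P) ⊗ₜ[K] ((i.1.1 : integralClosure A L) : L) =
          algebraMap (MvPolynomial ↥S A) E (MvPolynomial.X i) * (1 ⊗ₜ[K] ((i.1.1 : integralClosure A L) : L)) := by
        rw [RingHom.algebraMap_toAlgebra, RingHom.comp_apply, MvPolynomial.map_X,
          Algebra.TensorProduct.algebraMap_apply, Algebra.algebraMap_self, RingHom.id_apply,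
          Algebra.TensorProduct.tmul_mul_tmul, mul_one, one_mul]
      rw [e1]
      refine isIntegral_algebraMap.mul (IsIntegral.map_of_comp_eq (MvPolynomial.C : A →+* MvPolynomial ↥S A)
        (Algebra.TensorProduct.includeRight : L →ₐ[K] E).toRingHom ?_ i.1.1.2)
      refine RingHom.ext fun a => ?_
      rw [RingHom.algebraMap_toAlgebra]
      simp only [RingHom.comp_apply, MvPolynomial.map_C, AlgHom.toRingHom_eq_coe, RingHom.coe_coe]
      rw [IsScalarTower.algebraMap_apply A K L, AlgHom.commutes, IsScalarTower.algebraMap_apply K P E, MvPolynomial.map_C, MvPolynomial.algebraMap_eq]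
    obtain ⟨q, hq, hqy⟩ := hy
    let Y := Algebra.leftMulMatrix bE y
    have hY : Polynomial.eval₂ ((algebraMap P (Matrix (Fin (Module.finrank K L)) (Fin (Module.finrank K L)) P)).comp
        (MvPolynomial.map (algebraMap A K))) Y q = 0 := by
      have h1 := congrArg (Algebra.leftMulMatrix bE).toRingHom hqy
      rw [map_zero, Polynomial.hom_eval₂, RingHom.algebraMap_toAlgebra, ← RingHom.comp_assoc] at h1
      rwa [show (Algebra.leftMulMatrix bE).toRingHom.comp (algebraMap P E) = algebraMap P _ from
        RingHom.ext (Algebra.leftMulMatrix bE).commutes] at h1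
    obtain ⟨p, hp⟩ := det_mem_range_map Y q hq hY
    let incl : K →+* K ⊗[k] R := (Algebra.TensorProduct.includeLeft : K →ₐ[k] K ⊗[k] R).toRingHom
    let ev : P →+* K ⊗[k] R := MvPolynomial.eval₂Hom incl fun i : S => 1 ⊗ₜ i.1.2
    have evX : ∀ x : S, ev (MvPolynomial.X x) = (1 : K) ⊗ₜ x.1.2 := fun x => MvPolynomial.eval₂Hom_X' _ _ _
    have evC : ∀ c : K, ev (MvPolynomial.C c) = c ⊗ₜ (1 : R) := fun c => MvPolynomial.eval₂Hom_C _ _ _
    have hev : Algebra.leftMulMatrix basR (ι' b) = Y.map ev := by
      ext i j
      show Algebra.leftMulMatrix basR (ι' b) i j = ev (Algebra.leftMulMatrix bE y i j)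
      rw [Algebra.leftMulMatrix_eq_repr_mul, Algebra.leftMulMatrix_eq_repr_mul, hrepr, hbasR, hS,
        ← Finset.sum_coe_sort]
      simp only [y, bE, Algebra.TensorProduct.basis_apply, map_sum, Finset.sum_mul, Finset.sum_apply,
        Finsupp.coe_finset_sum]
      refine Finset.sum_congr rfl fun x _ => ?_
      rw [show ι' (x.1.1 ⊗ₜ x.1.2) = ((x.1.1 : integralClosure A L) : L) ⊗ₜ x.1.2 from
          Algebra.TensorProduct.map_tmul _ _ _ _,
        Algebra.TensorProduct.tmul_mul_tmul, Algebra.TensorProduct.tmul_mul_tmul, mul_one, mul_one, coord_tmul,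
        Algebra.TensorProduct.basis_repr_tmul, Finsupp.smul_apply, Finsupp.mapRange_apply, smul_eq_mul, RingHom.map_mul,
        MvPolynomial.algebraMap_eq, evX, evC, Algebra.TensorProduct.tmul_mul_tmul, mul_one, one_mul]
    refine ⟨MvPolynomial.eval₂Hom (Algebra.TensorProduct.includeLeft : A →ₐ[k] A ⊗[k] R).toRingHom
      (fun i : S => 1 ⊗ₜ i.1.2) p, ?_⟩
    rw [hev, show (Y.map ev).det = ev Y.det from (RingHom.map_det ev Y).symm, ← hp]
    show (Algebra.TensorProduct.map (IsScalarTower.toAlgHom k A K) (AlgHom.id k R)).toRingHom _ = _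
    rw [← RingHom.comp_apply, ← RingHom.comp_apply]
    refine DFunLike.congr_fun (MvPolynomial.ringHom_ext (fun a => ?_) fun i => ?_) p
    · rw [RingHom.comp_apply, RingHom.comp_apply, MvPolynomial.map_C, evC, MvPolynomial.eval₂Hom_C]
      rfl
    · rw [RingHom.comp_apply, RingHom.comp_apply, MvPolynomial.map_X, evX, MvPolynomial.eval₂Hom_X',
        AlgHom.toRingHom_eq_coe, RingHom.coe_coe, Algebra.TensorProduct.map_tmul, map_one]
      rfl
  · have hι : Function.Injective ι' := tmul_injective_map _ Subtype.val_injective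
    haveI : Algebra.IsAlgebraic A K := IsLocalization.isAlgebraic K (nonZeroDivisors A)
    haveI : Algebra.IsAlgebraic A L := Algebra.IsAlgebraic.trans A K L
    have hloc : ∀ z : L ⊗[k] R, ∃ a : A, a ≠ 0 ∧ ∃ x, ι' x = (algebraMap A L a ⊗ₜ[k] (1 : R)) * z := by
      intro z
      induction z using TensorProduct.induction_on with
      | zero => exact ⟨1, one_ne_zero, 0, by simp⟩
      | tmul l r =>
        obtain ⟨a, ha, hint⟩ := (Algebra.IsAlgebraic.isAlgebraic (R := A) l).exists_integral_multiple
        refine ⟨a, ha, (⟨a • l, hint⟩ : integralClosure A L) ⊗ₜ r, ?_⟩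
        rw [show ι' ((⟨a • l, hint⟩ : integralClosure A L) ⊗ₜ r) = (a • l) ⊗ₜ r from
          Algebra.TensorProduct.map_tmul _ _ _ _, Algebra.TensorProduct.tmul_mul_tmul, one_mul, Algebra.smul_def]
      | add x y hx hy =>
        obtain ⟨a, ha, u, hu⟩ := hx
        obtain ⟨c, hc, v, hv⟩ := hy
        refine ⟨a * c, mul_ne_zero ha hc, (algebraMap A (integralClosure A L) c ⊗ₜ 1) * u +
          (algebraMap A (integralClosure A L) a ⊗ₜ 1) * v, ?_⟩
        have e : ∀ t : A, ι' (algebraMap A (integralClosure A L) t ⊗ₜ 1) = algebraMap A L t ⊗ₜ 1 :=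
          fun t => Algebra.TensorProduct.map_tmul _ _ _ _
        rw [map_add, map_mul, map_mul, e, e, hu, hv, map_mul,
          show (algebraMap A L a * algebraMap A L c) ⊗ₜ[k] (1 : R) =
            (algebraMap A L a ⊗ₜ[k] (1 : R)) * (algebraMap A L c ⊗ₜ[k] (1 : R)) by
              rw [Algebra.TensorProduct.tmul_mul_tmul, one_mul]]
        ring
    have hAL : Function.Injective (algebraMap A L) := by
      rw [IsScalarTower.algebraMap_eq A K L, RingHom.coe_comp]
      exact (algebraMap K L).injective.comp (IsFractionRing.injective A K)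
    have hiff : IsRegular b ↔ IsRegular (ι' b) := by
      simp only [isRegular_iff_eq_zero_of_mul, mul_comm _ b, mul_comm _ (ι' b), and_self]
      refine ⟨fun h z hz => ?_, fun h x hx => ?_⟩
      · obtain ⟨a, ha, x, hx⟩ := hloc z
        have h0 : x = 0 := h x (hι (by rw [map_mul, map_zero, hx, mul_left_comm, hz, mul_zero]))
        rw [h0, map_zero] at hx
        have hu : IsUnit (algebraMap A L a ⊗ₜ[k] (1 : R)) :=
          (IsUnit.mk0 _ ((map_ne_zero_iff _ hAL).2 ha)).map (Algebra.TensorProduct.includeLeft : L →ₐ[k] L ⊗[k] R)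
        exact hu.mul_right_eq_zero.1 hx.symm
      · exact hι (by rw [map_zero]; exact h _ (by rw [← map_mul, hx, map_zero]))
    rw [hiff]
    set M := Algebra.leftMulMatrix basR (ι' b) with hM
    have hmv : ∀ z, M.mulVec (basR.repr z) = ⇑(basR.repr (ι' b * z)) := fun z =>
      Algebra.leftMulMatrix_mulVec_repr basR _ z
    rw [isRegular_iff_mem_nonZeroDivisors (r := M.det)]
    constructor
    · intro hreg
      rw [← Matrix.nonsingular_iff_det_mem_nonZeroDivisors]
      refine Matrix.Nonsingular.of_linearIndependent_col (Matrix.mulVec_injective_iff.1 fun v w hvw => ?_)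
      obtain ⟨v', rfl⟩ := basR.equivFun.surjective v
      obtain ⟨w', rfl⟩ := basR.equivFun.surjective w
      simp only [Module.Basis.equivFun_apply, hmv] at hvw
      rw [hreg.left (basR.repr.injective (DFunLike.coe_injective hvw))]
    · intro hdet
      have hl : IsLeftRegular (ι' b) := fun z w hzw => by
        apply basR.repr.injective
        apply DFunLike.coe_injective
        apply Matrix.mulVec_injective_of_det_mem_nonZeroDivisors hdet
        rw [hmv, hmv]
        exact congrArg (fun t => ⇑(basR.repr t)) hzw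
      exact ⟨hl, fun z w hzw => hl (by simpa only [mul_comm] using hzw)⟩

end Groth.Agent.S17376
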