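import Groth.Statements.S9706
import Groth.Agent.Lib.VeryAmple11.FT
import Groth.Agent.Lib.RelAmple18.Ops
import Groth.Agent.S12478
-- import your own Groth.Agent.* helpers here

set_option autoImplicit false
set_option backward.isDefEq.respectTransparency false
universe u
open CategoryTheory CategoryTheory.Limits AlgebraicGeometry
open Mor

namespace Groth.Agent.S9706

/-- Let S be quasi-compact and quasi-separated and f : X ⟶ S quasi-projective. Then f factors as an open
immersion X ⟶ X' followed by a projective morphism X' ⟶ S. Here X' ⟶ S projective means isomorphic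
over S to the relative Proj of a quasi-coherent graded algebra generated by its finite-type
degree-one part; the published definition uses closed subschemes of P(E) with E of finite type, an
equivalent condition. -/
theorem result {X S : Scheme.{u}} [CompactSpace ↥S]
    [QuasiSeparatedSpace ↥S] (f : X ⟶ S) (hf : RelProj.IsQuasiProjective f) :
    ∃ (X' : Scheme.{u}) (j : X ⟶ X') (g : X' ⟶ S), IsOpenImmersion j ∧ RelProj.IsProjective g ∧ j ≫ g = f := by
  obtain ⟨hlft, hqc, L, hL⟩ := hf
  haveI := hlft; haveI := hqc
  have hLi := Groth.Agent.RA.isInvertible_of_isRelAmple f hL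
  obtain ⟨n₀, -, hn⟩ := Groth.Agent.S12478.result f L hLi hL
  obtain ⟨E, φ, hE, hFT, hva⟩ := Groth.Agent.VA11.exists_ft_vamp (hn n₀ le_rfl)
  obtain ⟨P, p, chart, hP⟩ := Groth.Agent.RelProj11.exists_isRelProj (Groth.Agent.VA11.symGr hE)
  obtain ⟨O1, lam, hO⟩ := Groth.Agent.RelProj11.exists_isRelTwist hP 1
  obtain ⟨i, hi, hip, -⟩ := Groth.Agent.VA11.exists_immersion_of_vamp hE hva (Groth.Agent.VA11.isGrSymAlg_symGr hE) hP hO
  have hp := Groth.Agent.VA11.isProjective_of_isRelProj hE hFT (Groth.Agent.VA11.isGrSymAlg_symGr hE) hP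
  haveI := Groth.Agent.QuotProj11.isProper_of_isProjective hp
  haveI : QuasiCompact (i ≫ p) := hip ▸ hqc
  haveI : QuasiCompact i := QuasiCompact.of_comp i p
  refine ⟨i.image, i.toImage, i.imageι ≫ p, inferInstance,
    Groth.Agent.QuotProj11.isProjective_comp_of_isClosedImmersion _ hp, ?_⟩
  rw [Scheme.Hom.toImage_imageι_assoc, hip]

end Groth.Agent.S9706
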