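import Groth.Statements.S17383
import Groth.Agent.S1281
import Groth.Agent.S9706
import Groth.Agent.S9708
import Groth.Agent.S8910
import Groth.Agent.Lib.QuotProj11.Main
import Groth.Agent.Lib.QuotProj11.Proper
import Groth.Agent.Lib.AdmOpen4.CommonTarget
-- import your own Groth.Agent.* helpers here

set_option autoImplicit false
universe u
open FlatMor

namespace Groth.Agent.S17383

open AlgebraicGeometry CategoryTheory Limits in
/-- Let S be a quasi-compact quasi-separated scheme, f : X → S a separated morphism of finite type, and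
U ⊆ X a quasi-compact dense open subscheme which is quasi-projective over S (of finite type with a
relatively ample invertible module). Then there are a blowing up q : X' → X in a quasi-coherent
ideal of finite type with support disjoint from U, a projective morphism g : P → S (P the relative
homogeneous spectrum of a quasi-coherent graded algebra generated in degree one with degree-one part
of finite type) and an open immersion j : X' → P with dense image such that j ≫ g = q ≫ f. The
centre of the blow-up misses the prescribed open U. -/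
theorem result
    {X S : Scheme.{u}} [CompactSpace S] [QuasiSeparatedSpace S]
    (f : X ⟶ S) [IsSeparated f] [QuasiCompact f] [LocallyOfFiniteType f]
    (U : X.Opens) (hU : IsCompact (U : Set X)) (hUd : Dense (U : Set X))
    (hq : RelProj.IsQuasiProjective (U.ι ≫ f)) :
    ∃ (𝓘 : X.IdealSheafData) (X' P : Scheme.{u}) (q : X' ⟶ X) (j : X' ⟶ P) (g : P ⟶ S),
      BlowUp.IsBlowUp q 𝓘 ∧ BlowUp.IsAdmissibleFor U 𝓘 ∧ RelProj.IsProjective g ∧
      IsOpenImmersion j ∧ IsDominant j ∧ j ≫ g = q ≫ f := by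
  haveI : CompactSpace X := QuasiCompact.compactSpace_of_compactSpace f
  haveI : QuasiSeparatedSpace X := quasiSeparatedSpace_of_quasiSeparated f
  haveI : CompactSpace (U : Scheme.{u}) := isCompact_iff_compactSpace.1 hU
  haveI : QuasiCompact U.ι := inferInstance
  obtain ⟨P₀', j₀, g₀', hj₀, hg₀', hjg₀⟩ := Groth.Agent.S9706.result (U.ι ≫ f) hq
  haveI : IsProper g₀' := Groth.Agent.QuotProj11.isProper_of_isProjective hg₀'
  haveI : QuasiSeparatedSpace P₀' := quasiSeparatedSpace_of_quasiSeparated g₀'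
  haveI : QuasiCompact j₀ := inferInstance
  let g₀ : j₀.image ⟶ S := j₀.imageι ≫ g₀'
  have hg₀ : RelProj.IsProjective g₀ := Groth.Agent.QuotProj11.isProjective_comp_of_isClosedImmersion _ hg₀'
  let j₂ := j₀.toImage
  have hj₂ : j₂ ≫ g₀ = U.ι ≫ f := by rw [Scheme.Hom.toImage_imageι_assoc, hjg₀]
  obtain ⟨Y, q, hsq, -, -, I₁, I₂, X', P, b, b₂, o₁, o₂, u₁, u₂, hb, hI₁, hb₂, hI₂, ho₁, ho₂, hoq₁, hoq₂, hu₁, hu₂, hu⟩ :=
    Groth.Agent.S1281.result (U.ι ≫ f) f g₀ U.ι j₂ rfl hj₂
  have hPb : RelProj.IsProjective (b₂ ≫ g₀) :=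
    Groth.Agent.S9708.result b₂ g₀ (Groth.Agent.S8910.result I₂ hI₂.1 b₂ hb₂) hg₀
  haveI : IsProper (o₂ ≫ q) := by rw [hoq₂]; exact Groth.Agent.QuotProj11.isProper_of_isProjective hPb
  haveI : IsProper o₂ := IsProper.of_comp o₂ q
  obtain ⟨-, hr₁⟩ := Groth.Agent.AdmOpen4.lift_isOpenImmersion hb U.ι hI₁.2 u₁ hu₁
  obtain ⟨-, hr₂⟩ := Groth.Agent.AdmOpen4.lift_isOpenImmersion hb₂ j₂ hI₂.2 u₂ hu₂
  have hd₁ : Dense (Set.range u₁) := by
    refine (Groth.Agent.Nagata4.dense_blowUp_preimage hb U.ι.opensRange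
      (by rw [Scheme.Opens.opensRange_ι]; exact hUd)).mono ?_
    exact fun y hy => hr₁ y hy
  have hd₂ : Dense (Set.range u₂) := by
    refine (Groth.Agent.Nagata4.dense_blowUp_preimage hb₂ j₂.opensRange ?_).mono ?_
    · exact IsDominant.denseRange (f := j₂)
    · exact fun y hy => hr₂ y hy
  have hr : Set.range o₁ ⊆ Set.range o₂ := by
    rintro _ ⟨x, rfl⟩
    refine closure_minimal (t := o₁ ⁻¹' Set.range o₂) ?_ (o₂.isClosedMap.isClosed_range.preimage o₁.continuous) (hd₁ x)
    rintro _ ⟨z, rfl⟩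
    exact ⟨u₂ z, by rw [← Scheme.Hom.comp_apply, ← hu, Scheme.Hom.comp_apply]⟩
  let j := IsOpenImmersion.lift o₂ o₁ hr
  have hj : j ≫ o₂ = o₁ := IsOpenImmersion.lift_fac _ _ _
  have huj : u₁ ≫ j = u₂ := by rw [← cancel_mono o₂, Category.assoc, hj, hu]
  haveI : IsOpenImmersion (j ≫ o₂) := by rw [hj]; exact ho₁
  refine ⟨I₁, X', P, b, j, b₂ ≫ g₀, hb, ⟨hI₁.1, by simpa [Scheme.Opens.opensRange_ι] using hI₁.2⟩, hPb,
    IsOpenImmersion.of_comp j o₂, ⟨hd₂.mono ?_⟩, by rw [← hoq₂, ← Category.assoc, hj, hoq₁]⟩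
  rw [← huj, Scheme.Hom.comp_base, TopCat.coe_comp]
  exact Set.range_comp_subset_range _ _

end Groth.Agent.S17383
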