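import Groth.Statements.S17384
import Groth.Agent.Lib.AdmOpen4.Open

set_option autoImplicit false
universe u
open FlatMor

namespace Groth.Agent.S17384

open AlgebraicGeometry CategoryTheory Limits in
/-- Let S be a quasi-compact quasi-separated scheme, X and Y quasi-compact quasi-separated S-schemes
with Y → S separated and locally of finite type, U ⊆ V ⊆ X dense quasi-compact open subschemes, and
f : U → Y an S-morphism which is a quasi-domination of V over Y: the image Γ of its graph morphism U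
→ X ×_S Y satisfies closure(Γ) ∩ (part over V) ⊆ Γ, i.e. the graph is closed in V ×_S Y. Then there
are a blowing up q : X̃ → X in a quasi-coherent ideal of finite type with support disjoint from V, a
dense open W ⊆ X̃ containing q⁻¹(U), and an S-morphism f̃ : W → Y which agrees with f on q⁻¹(U) and
whose graph morphism W → X̃ ×_S Y has closed image (a quasi-domination of X̃ over Y extending f). -/
theorem result
    {S X Y : Scheme.{u}} [CompactSpace S] [QuasiSeparatedSpace S]
    [CompactSpace X] [QuasiSeparatedSpace X] [CompactSpace Y] [QuasiSeparatedSpace Y]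
    (pX : X ⟶ S) (pY : Y ⟶ S) [IsSeparated pY] [LocallyOfFiniteType pY]
    (U V : X.Opens) (hUV : U ≤ V) (hU : IsCompact (U : Set X)) (hV : IsCompact (V : Set X))
    (hUd : Dense (U : Set X))
    (f : (U : Scheme.{u}) ⟶ Y) (hf : U.ι ≫ pX = f ≫ pY)
    (hcl : closure (Set.range (fun x => pullback.lift U.ι f hf x)) ∩
        ((pullback.fst pX pY) ⁻¹ᵁ V : Set ↥(pullback pX pY)) ⊆ Set.range (fun x => pullback.lift U.ι f hf x)) :
    ∃ (𝓘 : X.IdealSheafData) (Xt : Scheme.{u}) (q : Xt ⟶ X),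
      BlowUp.IsBlowUp q 𝓘 ∧ BlowUp.IsAdmissibleFor V 𝓘 ∧
      ∃ (W : Xt.Opens) (hle : q ⁻¹ᵁ U ≤ W) (ft : (W : Scheme.{u}) ⟶ Y) (hft : W.ι ≫ q ≫ pX = ft ≫ pY),
        Dense (W : Set Xt) ∧ Xt.homOfLE hle ≫ ft = (q ∣_ U) ≫ f ∧
        IsClosed (Set.range (fun x => pullback.lift W.ι ft hft x)) := by
  haveI : QuasiCompact pY := inferInstance
  haveI : QuasiCompact U.ι := by
    refine ⟨fun Z hZ hc => ?_⟩
    rw [U.ι.isOpenEmbedding.isEmbedding.isCompact_iff, Set.image_preimage_eq_inter_range, Scheme.Opens.range_ι]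
    exact QuasiSeparatedSpace.inter_isCompact Z (U : Set X) hZ hc U.2 hU
  let g₀ := pullback.lift U.ι f hf
  haveI : QuasiCompact g₀ := by
    haveI : QuasiCompact (g₀ ≫ pullback.fst pX pY) := by rw [pullback.lift_fst]; infer_instance
    exact QuasiCompact.of_comp g₀ (pullback.fst pX pY)
  let p := g₀.imageι ≫ pullback.fst pX pY
  haveI := EffCartier.dominant_toImage g₀
  have hσ : g₀.toImage ≫ p = U.ι := by rw [Scheme.Hom.toImage_imageι_assoc, pullback.lift_fst]
  haveI := AdmOpen4.isIso_restrict_of_section U p g₀.toImage hσ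
  have hpV : p ⁻¹ᵁ V ≤ p ⁻¹ᵁ U := fun y hy => by
    have h1 : g₀.imageι y ∈ closure (Set.range g₀) := by
      rw [← Scheme.Hom.support_ker, ← Scheme.IdealSheafData.range_subschemeι]
      exact ⟨y, rfl⟩
    obtain ⟨z, hz⟩ := hcl ⟨h1, hy⟩
    show (pullback.fst pX pY) (g₀.imageι y) ∈ U
    rw [← hz, ← Scheme.Hom.comp_apply, pullback.lift_fst]
    exact z.2
  haveI : IsOpenImmersion (p ∣_ V) := by
    haveI : IsOpenImmersion ((p ∣_ V) ≫ V.ι) := by
      rw [morphismRestrict_ι, ← Scheme.homOfLE_ι _ hpV, Category.assoc, ← morphismRestrict_ι]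
      infer_instance
    exact IsOpenImmersion.of_comp _ V.ι
  obtain ⟨𝓘, hI, hsupp, H⟩ := AdmOpen4.exists_center p V hV
  let q := BlowUpExist.ChartIdx.blowUpHom 𝓘
  have hb : BlowUp.IsBlowUp q 𝓘 := BlowUpExist.ChartIdx.isBlowUp_blowUpHom
  refine ⟨𝓘, _, q, hb, hI, ?_⟩
  obtain ⟨T, a, s, hS⟩ := AdmOpen4.exists_isStrict_of_eff p q hsupp hb.1
  haveI := H q a s hS hb.1
  let r := s.isoOpensRange.inv
  have hr : r ≫ s = s.opensRange.ι := by
    rw [Iso.inv_comp_eq]; exact (IsOpenImmersion.isoOfRangeEq_hom_fac _ _ _).symm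
  obtain ⟨h, ha, hh⟩ := hS.univ _ ((q ∣_ U) ≫ g₀.toImage) (q ⁻¹ᵁ U).ι
    (by rw [Category.assoc, hσ, morphismRestrict_ι]) (fun z => hUV z.2)
  have hle : q ⁻¹ᵁ U ≤ s.opensRange := fun x hx => ⟨h ⟨x, hx⟩, by rw [← Scheme.Hom.comp_apply, hh]; rfl⟩
  have hft : s.opensRange.ι ≫ q ≫ pX = (r ≫ a ≫ g₀.imageι ≫ pullback.snd pX pY) ≫ pY := by
    rw [← hr]
    simp only [Category.assoc, ← pullback.condition]
    rw [← reassoc_of% hS.w]
    simp only [p, Category.assoc]
  have hdense : Dense (SetLike.coe (q ⁻¹ᵁ U)) := by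
    have hiso : IsIso (q ∣_ V) := by
      have hV' : V = EffCartier.cmpl 𝓘 := by
        ext1
        show (V : Set X) = ((𝓘.support : Set X))ᶜ
        rw [hsupp, compl_compl]
      rw [hV']; exact EffCartier.isIso_blowUp_restrict hb
    rw [dense_iff_inter_open]
    intro O hO hne
    obtain ⟨x, hxO, hxV⟩ := (AdmOpen4.dense_preimage hsupp hb.1).inter_open_nonempty O hO hne
    let O' := ((q ∣_ V) ≫ V.ι) '' ((q ⁻¹ᵁ V).ι ⁻¹' O)
    have hO' : IsOpen O' := ((q ∣_ V) ≫ V.ι).isOpenEmbedding.isOpenMap _ (hO.preimage (q ⁻¹ᵁ V).ι.continuous)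
    obtain ⟨_, ⟨z, hzO, rfl⟩, hzU⟩ := hUd.inter_open_nonempty O' hO' ⟨_, ⟨x, hxV⟩, hxO, rfl⟩
    refine ⟨(q ⁻¹ᵁ V).ι z, hzO, ?_⟩
    show q ((q ⁻¹ᵁ V).ι z) ∈ U
    rw [← Scheme.Hom.comp_apply, ← morphismRestrict_ι]
    exact hzU
  refine ⟨s.opensRange, hle, r ≫ a ≫ g₀.imageι ≫ pullback.snd pX pY, hft, hdense.mono hle, ?_, ?_⟩
  · have h1 : Scheme.homOfLE _ hle ≫ r = h := by
      rw [← cancel_mono s, Category.assoc, hr, Scheme.homOfLE_ι, hh]
    rw [← Category.assoc, h1, ← Category.assoc, ha]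
    simp only [Category.assoc, Scheme.Hom.toImage_imageι_assoc, g₀, pullback.lift_snd]
  · let j : pullback p q ⟶ pullback (q ≫ pX) pY :=
      (pullbackRightPullbackFstIso (pullback.fst pX pY) q g₀.imageι).inv ≫
        pullback.snd g₀.imageι (pullback.fst (pullback.fst pX pY) q) ≫
        (pullbackSymmetry (pullback.fst pX pY) q).hom ≫ (pullbackRightPullbackFstIso pX pY q).hom
    haveI := hS.closed
    let t := pullback.lift a s hS.w ≫ j
    haveI : IsClosedImmersion t := inferInstance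
    have ht : pullback.lift s.opensRange.ι (r ≫ a ≫ g₀.imageι ≫ pullback.snd pX pY) hft = r ≫ t := by
      apply pullback.hom_ext
      · simp [t, j, hr]
        erw [pullback.lift_fst, pullback.lift_snd]
        exact hr.symm
      · simp [t, j, hr, pullback.condition_assoc]
        erw [pullback.lift_snd, pullback.lift_fst_assoc]
    show IsClosed (Set.range (pullback.lift s.opensRange.ι (r ≫ a ≫ g₀.imageι ≫ pullback.snd pX pY) hft))
    rw [ht, Scheme.Hom.comp_base, TopCat.coe_comp, Set.range_comp,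
      Set.range_eq_univ.2 (show Function.Surjective r from r.homeomorph.surjective), Set.image_univ]
    exact t.isClosedEmbedding.isClosed_range

end Groth.Agent.S17384
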