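import Groth.Statements.S17385
import Groth.Agent.Lib.BlowUp3.Strict
import Groth.Agent.Lib.BlowUp26.Basic

set_option autoImplicit false
universe u
open BlowUp

namespace Groth.Agent.S17385

open AlgebraicGeometry CategoryTheory Limits in
theorem le_ker_strict {X' : Scheme.{u}} (A : X'.IdealSheafData) (O : X'.Opens) :
    A ≤ ((A.subschemeι ⁻¹ᵁ O).ι ≫ A.subschemeι).ker :=
  A.ker_subschemeι.symm.le.trans (Scheme.Hom.le_ker_comp _ _)

open AlgebraicGeometry CategoryTheory Limits in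
theorem dominant_strict {X' : Scheme.{u}} (A : X'.IdealSheafData) (O : X'.Opens) (hO : IsAffineHom O.ι) :
    IsSchemeTheoreticallyDominant
      ((((A.subschemeι ⁻¹ᵁ O).ι ≫ A.subschemeι).ker).subschemeι ⁻¹ᵁ O).ι := by
  have : IsAffineHom (A.subschemeι ⁻¹ᵁ O).ι :=
    MorphismProperty.of_isPullback (P := @IsAffineHom) (isPullback_morphismRestrict A.subschemeι O) hO
  have := EffCartier.dominant_toImage ((A.subschemeι ⁻¹ᵁ O).ι ≫ A.subschemeι)
  refine EffCartier.dominant_of_range_le ((A.subschemeι ⁻¹ᵁ O).ι ≫ A.subschemeι).toImage _ fun x => ?_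
  have h : (((A.subschemeι ⁻¹ᵁ O).ι ≫ A.subschemeι).toImage ≫ ((A.subschemeι ⁻¹ᵁ O).ι ≫ A.subschemeι).imageι) x ∈ O := by
    rw [Scheme.Hom.toImage_imageι]; exact x.2
  exact h

open AlgebraicGeometry CategoryTheory Limits in
theorem fac {T X' : Scheme.{u}} (h : T ⟶ X') (O : X'.Opens) (A : X'.IdealSheafData) (hA : A.comap h = ⊥)
    (hd : IsSchemeTheoreticallyDominant (h ⁻¹ᵁ O).ι) :
    ((A.subschemeι ⁻¹ᵁ O).ι ≫ A.subschemeι).ker ≤ h.ker := by
  have hT0 : A.subschemeι.ker ≤ h.ker := by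
    rw [Scheme.IdealSheafData.ker_subschemeι, ← Scheme.IdealSheafData.map_bot,
      Scheme.IdealSheafData.le_map_iff_comap_le]
    exact hA.le
  obtain ⟨l, hl⟩ : ∃ l : T ⟶ A.subscheme, l ≫ A.subschemeι = h :=
    ⟨IsClosedImmersion.lift A.subschemeι h hT0, IsClosedImmersion.lift_fac _ _ _⟩
  have hsub : Set.range ((h ⁻¹ᵁ O).ι ≫ l) ⊆ Set.range (A.subschemeι ⁻¹ᵁ O).ι := by
    rintro _ ⟨x, rfl⟩
    rw [Scheme.Opens.range_ι]
    have h0 : ((h ⁻¹ᵁ O).ι ≫ l ≫ A.subschemeι) x ∈ O := by rw [hl]; exact x.2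
    exact h0
  have he : (h ⁻¹ᵁ O).ι ≫ h =
      IsOpenImmersion.lift (A.subschemeι ⁻¹ᵁ O).ι _ hsub ≫ ((A.subschemeι ⁻¹ᵁ O).ι ≫ A.subschemeι) := by
    rw [IsOpenImmersion.lift_fac_assoc, Category.assoc, hl]
  refine ((IsOpenImmersion.lift (A.subschemeι ⁻¹ᵁ O).ι _ hsub).le_ker_comp _).trans ?_
  rw [← he, Scheme.Hom.ker_comp, hd.ker_eq_bot, Scheme.IdealSheafData.map_bot]

open AlgebraicGeometry CategoryTheory Limits TopologicalSpace in
/-- Let X be any scheme, I and J quasi-coherent ideals on X, b : X' → X a blowing up of X in I, Z ⊆ X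
the closed subscheme of J, b' : Z' → Z a blowing up of Z in the inverse image ideal I·O_Z, and k :
Z' → X' the morphism with k ≫ b = b' ≫ (Z → X) (it exists and is unique by the universal property).
Then k is a closed immersion (its image is the strict transform of Z); writing U for the open
complement of the support of I and W ⊆ Z' for the preimage of U, the restriction W → X' of k is an
affine morphism, and its scheme-theoretic image is the whole image of k: the kernel ideal sheaf of W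
→ X' equals that of k. No Noetherian or finite-type hypothesis is needed. -/
theorem result
    {X X' Z' : Scheme.{u}} (𝓘 𝓙 : X.IdealSheafData) (b : X' ⟶ X) (hb : BlowUp.IsBlowUp b 𝓘)
    (b' : Z' ⟶ 𝓙.subscheme) (hb' : BlowUp.IsBlowUp b' (𝓘.comap 𝓙.subschemeι))
    (k : Z' ⟶ X') (hk : k ≫ b = b' ≫ 𝓙.subschemeι) :
    IsClosedImmersion k ∧
      IsAffineHom ((k ⁻¹ᵁ (b ⁻¹ᵁ 𝓘.support.compl)).ι ≫ k) ∧
      ((k ⁻¹ᵁ (b ⁻¹ᵁ 𝓘.support.compl)).ι ≫ k).ker = k.ker := by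
  obtain ⟨O, hO⟩ : ∃ O : X'.Opens, O = b ⁻¹ᵁ EffCartier.cmpl 𝓘 := ⟨_, rfl⟩
  have hOeq : O = EffCartier.cmpl (𝓘.comap b) := hO.trans (BlowUp26.preimage_cmpl_eq 𝓘 b)
  have hOpre : ∀ {T : Scheme.{u}} (h : T ⟶ X') (g : T ⟶ 𝓙.subscheme), h ≫ b = g ≫ 𝓙.subschemeι →
      h ⁻¹ᵁ O = EffCartier.cmpl ((𝓘.comap 𝓙.subschemeι).comap g) := by
    intro T h g hg
    rw [hO, ← Scheme.Hom.comp_preimage, hg, Scheme.Hom.comp_preimage, BlowUp26.preimage_cmpl_eq,
      BlowUp26.preimage_cmpl_eq]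
  obtain ⟨A, hA⟩ : ∃ A : X'.IdealSheafData, A = 𝓙.comap b := ⟨_, rfl⟩
  obtain ⟨K, hK⟩ : ∃ K : X'.IdealSheafData, K = ((A.subschemeι ⁻¹ᵁ O).ι ≫ A.subschemeι).ker := ⟨_, rfl⟩
  have hOaff : IsAffineHom O.ι := by rw [hOeq]; exact EffCartier.isAffineHom_interior hb.1
  have hAK : A ≤ K := by rw [hK]; exact le_ker_strict A O
  have hlift : 𝓙.subschemeι.ker ≤ (K.subschemeι ≫ b).ker := by
    rw [Scheme.IdealSheafData.ker_subschemeι, Scheme.Hom.ker_comp, Scheme.IdealSheafData.ker_subschemeι,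
      Scheme.IdealSheafData.le_map_iff_comap_le, ← hA]
    exact hAK
  obtain ⟨b'', hb''⟩ : ∃ b'' : K.subscheme ⟶ 𝓙.subscheme, b'' ≫ 𝓙.subschemeι = K.subschemeι ≫ b :=
    ⟨IsClosedImmersion.lift 𝓙.subschemeι (K.subschemeι ≫ b) hlift, IsClosedImmersion.lift_fac _ _ _⟩
  have hdom : IsSchemeTheoreticallyDominant (K.subschemeι ⁻¹ᵁ O).ι := by
    subst hK; exact dominant_strict A O hOaff
  have heff : BlowUp.IsEffCartierIdeal ((𝓘.comap 𝓙.subschemeι).comap b'') := by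
    rw [← Scheme.IdealSheafData.comap_comp, hb'', Scheme.IdealSheafData.comap_comp]
    rw [hOeq] at hdom
    exact EffCartier.comap_of_dominant hb.1 K.subschemeι
  have hAk : A.comap k = ⊥ := by rw [hA]; exact BlowUp3.comap_comap_eq_bot hk
  have hk' : K.subschemeι.ker ≤ k.ker := by
    rw [Scheme.IdealSheafData.ker_subschemeι, hK]
    refine fac k O A hAk ?_
    rw [hOpre k b' hk]; exact EffCartier.dominant_cmpl hb'.1
  obtain ⟨l, hl⟩ : ∃ l : Z' ⟶ K.subscheme, l ≫ K.subschemeι = k :=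
    ⟨IsClosedImmersion.lift K.subschemeι k hk', IsClosedImmersion.lift_fac _ _ _⟩
  obtain ⟨m, hm, -⟩ := hb'.2 _ b'' heff
  have hlb : l ≫ b'' = b' := by
    rw [← cancel_mono 𝓙.subschemeι, Category.assoc, hb'', ← Category.assoc, hl, hk]
  have hlm : (l ≫ m) ≫ b' = b' := (Category.assoc _ _ _).trans ((congrArg (l ≫ ·) hm).trans hlb)
  have h1 : l ≫ m = 𝟙 Z' := by
    obtain ⟨u, -, hu⟩ := hb'.2 _ b' hb'.1
    rw [hu (l ≫ m) hlm, hu (𝟙 Z') (Category.id_comp _)]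
  have hmk : (m ≫ k) ≫ b = K.subschemeι ≫ b := by rw [Category.assoc, hk, ← Category.assoc, hm, hb'']
  have h2 : m ≫ l = 𝟙 K.subscheme := by
    rw [← cancel_mono K.subschemeι, Category.assoc, hl, Category.id_comp]
    obtain ⟨u, -, hu⟩ := hb.2 _ (K.subschemeι ≫ b) (by
      rw [← hb'', Scheme.IdealSheafData.comap_comp]; exact heff)
    rw [hu (m ≫ k) hmk, hu K.subschemeι rfl]
  have : IsIso l := ⟨m, h1, h2⟩
  have hck : IsClosedImmersion k := by rw [← hl]; infer_instance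
  have hZO : k ⁻¹ᵁ (b ⁻¹ᵁ 𝓘.support.compl) = EffCartier.cmpl ((𝓘.comap 𝓙.subschemeι).comap b') :=
    hO ▸ hOpre k b' hk
  refine ⟨hck, ?_, ?_⟩
  · rw [hZO]
    have := EffCartier.isAffineHom_interior hb'.1
    infer_instance
  · rw [hZO]
    have := EffCartier.dominant_cmpl hb'.1
    rw [Scheme.Hom.ker_comp, Scheme.Hom.ker_eq_bot, Scheme.IdealSheafData.map_bot]

end Groth.Agent.S17385
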