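import Groth.Statements.S17386
import Groth.Agent.Lib.BlowUp3.Strict

set_option autoImplicit false
universe u
open BlowUp

namespace Groth.Agent.S17386

open AlgebraicGeometry CategoryTheory Limits in
/-- Let X be any scheme, J_1, …, J_n quasi-coherent ideals on X with closed subschemes Y_i, and b : X' →
X a blowing up of X in the ideal J_1 + ⋯ + J_n of the intersection of the Y_i. For each i let b_i' :
Y_i' → Y_i be a blowing up of Y_i in the inverse image of J_1 + ⋯ + J_n and k_i : Y_i' → X' the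
morphism with k_i ≫ b = b_i' ≫ (Y_i → X), so that the image of k_i is the strict transform of Y_i.
Then the strict transforms have empty common intersection: no point of X' lies in the image of every
k_i. -/
theorem result
    {X X' : Scheme.{u}} {n : ℕ} (𝓙 : Fin n → X.IdealSheafData) (b : X' ⟶ X)
    (hb : BlowUp.IsBlowUp b (⨆ i, 𝓙 i))
    (Y' : Fin n → Scheme.{u}) (b' : ∀ i, Y' i ⟶ (𝓙 i).subscheme)
    (hb' : ∀ i, BlowUp.IsBlowUp (b' i) ((⨆ j, 𝓙 j).comap (𝓙 i).subschemeι))
    (k : ∀ i, Y' i ⟶ X') (hk : ∀ i, k i ≫ b = b' i ≫ (𝓙 i).subschemeι) :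
    (⋂ i, Set.range (fun y => k i y)) = (∅ : Set X') := by
  refine Set.eq_empty_iff_forall_notMem.2 fun x hx => ?_
  rw [Set.mem_iInter] at hx
  have hsup : (⨆ i, (𝓙 i).comap b) = (⨆ i, 𝓙 i).comap b := ((Scheme.IdealSheafData.map_gc b).l_iSup).symm
  obtain ⟨i, U, hxU, hle⟩ := BlowUp3.exists_generates (fun i => (𝓙 i).comap b) (hsup ▸ hb.1) x
  obtain ⟨y, hy⟩ := hx i
  rw [hsup] at hle
  exact BlowUp3.not_le_near (k i) (BlowUp3.isEff_comap_comap (hk i) (hb' i)) (BlowUp3.comap_comap_eq_bot (hk i)) U y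
    ((show k i y = x from hy) ▸ hxU) hle

end Groth.Agent.S17386
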