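import Groth.Statements.S17387
import Groth.Agent.Lib.AdmOpen4.CommonTarget
-- import your own Groth.Agent.* helpers here

set_option autoImplicit false
universe u
open FlatMor

namespace Groth.Agent.S17387

open AlgebraicGeometry CategoryTheory Limits in
/-- Let S be a quasi-compact quasi-separated scheme, U and X_1, …, X_n separated S-schemes of finite
type, and j_i : U → X_i open immersions over S with dense image. Then there are blowing ups b_i :
X_i' → X_i in quasi-coherent ideals of finite type with support disjoint from the image of U, a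
separated S-scheme X of finite type, and open immersions o_i : X_i' → X over S whose images cover X,
together with the lifts u_i : U → X_i' of the j_i (u_i ≫ b_i = j_i), such that all the composites
u_i ≫ o_i : U → X coincide. -/
theorem result
    {S U : Scheme.{u}} [CompactSpace S] [QuasiSeparatedSpace S] {n : ℕ}
    (gU : U ⟶ S) [IsSeparated gU] [QuasiCompact gU] [LocallyOfFiniteType gU]
    (X : Fin n → Scheme.{u}) (g : ∀ i, X i ⟶ S)
    [∀ i, IsSeparated (g i)] [∀ i, QuasiCompact (g i)] [∀ i, LocallyOfFiniteType (g i)]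
    (j : ∀ i, U ⟶ X i) [∀ i, IsOpenImmersion (j i)] [∀ i, IsDominant (j i)] (hj : ∀ i, j i ≫ g i = gU) :
    ∃ (Xc : Scheme.{u}) (q : Xc ⟶ S) (_ : IsSeparated q) (_ : QuasiCompact q) (_ : LocallyOfFiniteType q)
      (𝓘 : ∀ i, (X i).IdealSheafData) (X' : Fin n → Scheme.{u}) (b : ∀ i, X' i ⟶ X i)
      (o : ∀ i, X' i ⟶ Xc) (u : ∀ i, U ⟶ X' i),
      (∀ i, BlowUp.IsBlowUp (b i) (𝓘 i) ∧ BlowUp.IsAdmissibleFor (j i).opensRange (𝓘 i) ∧
        IsOpenImmersion (o i) ∧ o i ≫ q = b i ≫ g i ∧ u i ≫ b i = j i) ∧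
      (⋃ i, Set.range (fun x => o i x)) = Set.univ ∧ (∀ i i', u i ≫ o i = u i' ≫ o i') := by
  obtain ⟨Xc, q, hsq, hqq, hftq, k, hk, hkq, hd⟩ := AdmOpen4.hasTarget gU X g j hj
  choose 𝓘 X' b o l hb hI ho hoq hlb hlo using hd
  haveI : ∀ i, IsOpenImmersion (o i) := ho
  haveI : ∀ i, CompactSpace (X i) := fun i => QuasiCompact.compactSpace_of_compactSpace (g i)
  haveI : ∀ i, CompactSpace (X' i) := fun i => by
    haveI : IsProper (b i) := BlowUpExist.isProper (hI i).1 (hb i)
    exact QuasiCompact.compactSpace_of_compactSpace (b i)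
  let W : Xc.Opens := ⨆ i, (o i).opensRange
  have hr : ∀ i, Set.range (o i) ⊆ Set.range W.ι := fun i => by
    rw [Scheme.Opens.range_ι]
    exact fun x hx => TopologicalSpace.Opens.mem_iSup.2 ⟨i, hx⟩
  have hW : IsCompact (W : Set Xc) := by
    rw [TopologicalSpace.Opens.coe_iSup]
    exact isCompact_iUnion fun i => isCompact_range (o i).continuous
  haveI : CompactSpace (W : Scheme.{u}) := isCompact_iff_compactSpace.1 hW
  haveI : QuasiCompact (W.ι ≫ q) := inferInstance
  have hfac : ∀ i, IsOpenImmersion.lift W.ι (o i) (hr i) ≫ W.ι = o i := fun i => IsOpenImmersion.lift_fac _ _ _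
  refine ⟨W, W.ι ≫ q, inferInstance, inferInstance, inferInstance, 𝓘, X', b,
    fun i => IsOpenImmersion.lift W.ι (o i) (hr i), l, fun i => ⟨hb i, hI i, ?_, ?_, hlb i⟩, ?_, ?_⟩
  · have : IsOpenImmersion (IsOpenImmersion.lift W.ι (o i) (hr i) ≫ W.ι) := by rw [hfac]; exact ho i
    exact IsOpenImmersion.of_comp _ W.ι
  · rw [← Category.assoc, hfac, hoq]
  · refine Set.eq_univ_of_forall fun x => ?_
    obtain ⟨i, y, hy⟩ := TopologicalSpace.Opens.mem_iSup.1 x.2
    refine Set.mem_iUnion.2 ⟨i, y, W.ι.isOpenEmbedding.injective ?_⟩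
    rw [← Scheme.Hom.comp_apply, hfac]
    exact hy
  · intro i i'
    rw [← cancel_mono W.ι, Category.assoc, Category.assoc, hfac, hfac, hlo, hlo]

end Groth.Agent.S17387
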