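import Groth.Statements.S17389
import Groth.Agent.Lib.AdmOpen4.TwoDom
-- import your own Groth.Agent.* helpers here

set_option autoImplicit false
universe u
open FlatMor

namespace Groth.Agent.S17389

open AlgebraicGeometry CategoryTheory Limits in
/-- Let S be a quasi-compact quasi-separated scheme, U, X₁, X₂ separated S-schemes of finite type (so U
is quasi-compact), and j₁ : U → X₁, j₂ : U → X₂ open immersions over S with dense image (necessarily
quasi-compact). Then there are a separated S-scheme X of finite type and a schematically dense open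
immersion j : U → X over S such that X properly quasi-dominates each X_i in a manner extending j_i:
for i = 1, 2 there are an open W_i ⊆ X containing the image of j, a proper S-morphism p_i : W_i →
X_i whose composite with the factorisation U → W_i of j is j_i, and the graph morphism W_i → X ×_S
X_i of p_i has closed image. -/
theorem result
    {S U X₁ X₂ : Scheme.{u}} [CompactSpace S] [QuasiSeparatedSpace S]
    (g₁ : X₁ ⟶ S) (g₂ : X₂ ⟶ S)
    [IsSeparated g₁] [QuasiCompact g₁] [LocallyOfFiniteType g₁]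
    [IsSeparated g₂] [QuasiCompact g₂] [LocallyOfFiniteType g₂]
    (j₁ : U ⟶ X₁) (j₂ : U ⟶ X₂) [IsOpenImmersion j₁] [IsOpenImmersion j₂] [IsDominant j₁] [IsDominant j₂]
    [CompactSpace U]
    (h : j₁ ≫ g₁ = j₂ ≫ g₂) :
    ∃ (X : Scheme.{u}) (q : X ⟶ S) (_ : IsSeparated q) (_ : QuasiCompact q) (_ : LocallyOfFiniteType q)
      (j : U ⟶ X) (_ : IsOpenImmersion j) (_ : IsSchemeTheoreticallyDominant j) (_ : j ≫ q = j₁ ≫ g₁),
      (∃ (W : X.Opens) (l : U ⟶ (W : Scheme.{u})) (p : (W : Scheme.{u}) ⟶ X₁) (hp : W.ι ≫ q = p ≫ g₁),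
        l ≫ W.ι = j ∧ l ≫ p = j₁ ∧ IsProper p ∧
        IsClosed (Set.range (fun x => pullback.lift W.ι p hp x))) ∧
      (∃ (W : X.Opens) (l : U ⟶ (W : Scheme.{u})) (p : (W : Scheme.{u}) ⟶ X₂) (hp : W.ι ≫ q = p ≫ g₂),
        l ≫ W.ι = j ∧ l ≫ p = j₂ ∧ IsProper p ∧
        IsClosed (Set.range (fun x => pullback.lift W.ι p hp x))) := by
  obtain ⟨X, q, hsq, hqq, hftq, k, hk, hkq, hd₁, hd₂⟩ := AdmOpen4.exists_two_dom g₁ g₂ j₁ j₂ h
  haveI : CompactSpace X := QuasiCompact.compactSpace_of_compactSpace q
  haveI : QuasiSeparatedSpace X := quasiSeparatedSpace_of_quasiSeparated q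
  haveI : QuasiCompact k := inferInstance
  haveI := EffCartier.dominant_toImage k
  refine ⟨k.image, k.imageι ≫ q, inferInstance, inferInstance, inferInstance, k.toImage, inferInstance, ‹_›,
    by rw [Scheme.Hom.toImage_imageι_assoc, hkq], ?_, ?_⟩
  · exact hd₁.restrict k.imageι k.toImage (Scheme.Hom.toImage_imageι k)
  · exact hd₂.restrict k.imageι k.toImage (Scheme.Hom.toImage_imageι k)

end Groth.Agent.S17389
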