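import Groth.Statements.S17390
import Groth.Agent.Lib.Nagata4.Basics
import Groth.Agent.Lib.AdmOpen4.BlowUp
-- import your own Groth.Agent.* helpers here

set_option autoImplicit false
universe u
open FlatMor

namespace Groth.Agent.S17390

open AlgebraicGeometry CategoryTheory Limits in
/-- Let S be a quasi-compact quasi-separated scheme, X and Y separated S-schemes of finite type, U a
quasi-compact scheme with an open immersion jX : U → X with dense image (so U is separated of finite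
type over S), V ⊆ Y a quasi-compact open subscheme with an open immersion jV : U → V which is
schematically dense and such that U has dense image in Y, and φ : V → X an S-morphism with jV ≫ φ =
jX which is a quasi-domination of Y over X (its graph morphism V → Y ×_S X has closed image). Let I
be a quasi-coherent ideal of finite type on X with support disjoint from the image of U and b : X̃ →
X a blowing up of X in I; let W ⊆ X̃ be an open subscheme, u : U → W the lift of jX (u ≫ W.ι ≫ b =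
jX), assumed schematically dense as a morphism to X̃, and ψ : W → V an S-morphism with u ≫ ψ = jV
which is a quasi-domination of X̃ over V (its graph morphism W → X̃ ×_S V has closed image). Then ψ
is a blowing up of V in the inverse image ideal I·O_V, hence proper, and the graph morphism W → X̃
×_S Y of ψ followed by V ⊆ Y has closed image. -/
theorem result
    {S U X Y Xt : Scheme.{u}} [CompactSpace S] [QuasiSeparatedSpace S]
    (gX : X ⟶ S) (gY : Y ⟶ S)
    [IsSeparated gX] [QuasiCompact gX] [LocallyOfFiniteType gX]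
    [IsSeparated gY] [QuasiCompact gY] [LocallyOfFiniteType gY]
    (jX : U ⟶ X) [IsOpenImmersion jX] [IsDominant jX] [CompactSpace U]
    (V : Y.Opens) (hVc : IsCompact (V : Set Y))
    (jV : U ⟶ (V : Scheme.{u})) [IsOpenImmersion jV] [IsSchemeTheoreticallyDominant jV]
    [IsDominant (jV ≫ V.ι)]
    (φ : (V : Scheme.{u}) ⟶ X) (hφU : jV ≫ φ = jX) (hφ : V.ι ≫ gY = φ ≫ gX)
    (hφcl : IsClosed (Set.range (fun x => pullback.lift V.ι φ hφ x)))
    (𝓘 : X.IdealSheafData) (h𝓘 : BlowUp.IsAdmissibleFor jX.opensRange 𝓘)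
    (b : Xt ⟶ X) (hb : BlowUp.IsBlowUp b 𝓘)
    (W : Xt.Opens) (u : U ⟶ (W : Scheme.{u})) (hu : u ≫ W.ι ≫ b = jX)
    [IsSchemeTheoreticallyDominant (u ≫ W.ι)]
    (ψ : (W : Scheme.{u}) ⟶ (V : Scheme.{u})) (hψU : u ≫ ψ = jV)
    (hψ : W.ι ≫ b ≫ gX = ψ ≫ V.ι ≫ gY)
    (hψcl : IsClosed (Set.range (fun x => pullback.lift W.ι ψ hψ x))) :
    BlowUp.IsBlowUp ψ (𝓘.comap φ) ∧
      IsClosed (Set.range (fun x => pullback.lift (f := b ≫ gX) (g := gY) W.ι (ψ ≫ V.ι)
        (hψ.trans (Category.assoc ψ V.ι gY).symm) x)) := by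
  haveI : CompactSpace X := QuasiCompact.compactSpace_of_compactSpace gX
  haveI : QuasiSeparatedSpace X := quasiSeparatedSpace_of_quasiSeparated gX
  haveI : QuasiSeparatedSpace Y := quasiSeparatedSpace_of_quasiSeparated gY
  haveI : CompactSpace (V : Scheme.{u}) := isCompact_iff_compactSpace.1 hVc
  haveI : QuasiSeparatedSpace (V : Scheme.{u}) := quasiSeparatedSpace_of_quasiSeparated (V.ι ≫ gY)
  haveI : IsProper b := BlowUpExist.isProper h𝓘.1 hb
  haveI : QuasiSeparatedSpace Xt := quasiSeparatedSpace_of_quasiSeparated b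
  haveI : QuasiCompact (u ≫ W.ι) := inferInstance
  obtain ⟨u₁, hu₁, hu₁d⟩ := Nagata4.exists_lift_dominant (u ≫ W.ι) W (fun x => (u x).2)
  obtain rfl : u₁ = u := (cancel_mono W.ι).1 hu₁
  have hid : W.ι ≫ b = ψ ≫ φ := Nagata4.ext_dom u₁ gX _ _
    (by rw [Category.assoc, Category.assoc, hψ, hφ])
    (by rw [hu, reassoc_of% hψU, hφU])
  let C := 𝓘.comap φ
  let c := BlowUpExist.ChartIdx.blowUpHom C
  have hc : BlowUp.IsBlowUp c C := BlowUpExist.ChartIdx.isBlowUp_blowUpHom
  haveI : IsProper c := BlowUpExist.isProper (EffCartier.isFiniteTypeIdeal_comap h𝓘.1 φ) hc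
  haveI : QuasiSeparatedSpace _ := quasiSeparatedSpace_of_quasiSeparated c
  obtain ⟨φ', hφ', -⟩ := hb.2 _ (c ≫ φ) (by rw [Scheme.IdealSheafData.comap_comp]; exact hc.1)
  have hφ'b : φ' ≫ b = c ≫ φ := hφ'
  let A := EffCartier.cmpl C
  have hjA : ∀ x, jV x ∈ A := fun x hx => by
    rw [Scheme.IdealSheafData.support_comap] at hx
    refine Set.disjoint_left.1 h𝓘.2 hx ?_
    show φ (jV x) ∈ Set.range jX
    exact ⟨x, by rw [← Scheme.Hom.comp_apply, hφU]⟩
  have heffX : BlowUp.IsEffCartierIdeal (𝓘.comap jX) := by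
    rw [EffCartier.comap_eq_top _ _ fun x hx => Set.disjoint_left.1 h𝓘.2 hx ⟨x, rfl⟩]
    exact EffCartier.isEffCartierIdeal_top
  have heffV : BlowUp.IsEffCartierIdeal (C.comap jV) := by
    rw [← Scheme.IdealSheafData.comap_comp, hφU]; exact heffX
  obtain ⟨l₀, hl₀, hl₀d⟩ := Nagata4.exists_lift_dominant jV A hjA
  haveI := EffCartier.isIso_blowUp_restrict hc
  haveI : IsSchemeTheoreticallyDominant (c ⁻¹ᵁ A).ι := by
    have h := EffCartier.dominant_cmpl hc.1
    rwa [← BlowUp26.preimage_cmpl_eq] at h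
  let u' := (l₀ ≫ inv (c ∣_ A)) ≫ (c ⁻¹ᵁ A).ι
  have hu'c : u' ≫ c = jV := by
    simp only [u', Category.assoc]
    rw [← morphismRestrict_ι, IsIso.inv_hom_id_assoc, hl₀]
  haveI : IsSchemeTheoreticallyDominant u' := inferInstance
  haveI : QuasiCompact u' := inferInstance
  have hu'φ : u' ≫ φ' = u₁ ≫ W.ι := (hb.2 U jX heffX).unique
    (by rw [Category.assoc, hφ'b, reassoc_of% hu'c, hφU]) (by rw [Category.assoc, hu])
  have hS : φ' ≫ b ≫ gX = c ≫ V.ι ≫ gY := by rw [hφ, reassoc_of% hφ'b]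
  let Φ' := pullback.lift φ' c hS
  have hmem : ∀ z, Φ' z ∈ Set.range (fun x => pullback.lift W.ι ψ hψ x) := by
    intro z
    have hdense := Nagata4.denseRange_of_dominant u'
    refine closure_minimal (t := Φ' ⁻¹' Set.range (fun x => pullback.lift W.ι ψ hψ x)) ?_
      (hψcl.preimage Φ'.continuous) (hdense z)
    rintro _ ⟨x, rfl⟩
    refine ⟨u₁ x, ?_⟩
    show (pullback.lift W.ι ψ hψ) (u₁ x) = Φ' (u' x)
    rw [← Scheme.Hom.comp_apply, ← Scheme.Hom.comp_apply]
    refine congrArg (fun m : U ⟶ _ => m x) (pullback.hom_ext ?_ ?_)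
    · rw [Category.assoc, Category.assoc, pullback.lift_fst, pullback.lift_fst, hu'φ]
    · rw [Category.assoc, Category.assoc, pullback.lift_snd, pullback.lift_snd, hu'c, hψU]
  have hrange : Set.range φ' ⊆ Set.range W.ι := by
    rintro _ ⟨z, rfl⟩
    obtain ⟨w, hw⟩ := hmem z
    refine ⟨w, ?_⟩
    have h2 : (pullback.fst (b ≫ gX) (V.ι ≫ gY)) (pullback.lift W.ι ψ hψ w) =
        (pullback.fst (b ≫ gX) (V.ι ≫ gY)) (Φ' z) := congrArg _ hw
    rw [← Scheme.Hom.comp_apply, ← Scheme.Hom.comp_apply, pullback.lift_fst, pullback.lift_fst] at h2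
    exact h2
  let h := IsOpenImmersion.lift W.ι φ' hrange
  have hh : h ≫ W.ι = φ' := IsOpenImmersion.lift_fac _ _ _
  have hu'h : u' ≫ h = u₁ := by rw [← cancel_mono W.ι, Category.assoc, hh, hu'φ]
  have hhψ : h ≫ ψ = c := Nagata4.ext_dom u' (V.ι ≫ gY) _ _
    (by rw [Category.assoc, ← hψ, reassoc_of% hh, hS])
    (by rw [reassoc_of% hu'h, hψU, hu'c])
  have heffW : BlowUp.IsEffCartierIdeal (C.comap ψ) := by
    rw [← Scheme.IdealSheafData.comap_comp, ← hid, Scheme.IdealSheafData.comap_comp]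
    exact BlowUpExist.isEffCartierIdeal_comap_of_isOpenImmersion hb.1 _
  obtain ⟨h', hh'c, -⟩ := hc.2 _ ψ heffW
  have huh' : u₁ ≫ h' = u' := (hc.2 U jV heffV).unique (by rw [Category.assoc, hh'c, hψU]) hu'c
  have h1 : h' ≫ h = 𝟙 _ := Nagata4.ext_dom u₁ (W.ι ≫ b ≫ gX) _ _
    (by rw [Category.id_comp, Category.assoc, reassoc_of% hh, hS, reassoc_of% hh'c, hψ])
    (by rw [reassoc_of% huh', hu'h, Category.comp_id])
  have h2 : h ≫ h' = 𝟙 _ := (hc.2 _ c hc.1).unique (by rw [Category.assoc, hh'c, hhψ]) (Category.id_comp _)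
  haveI : IsIso h' := ⟨h, h1, h2⟩
  refine ⟨hh'c ▸ AdmOpen4.isBlowUp_iso_comp hc h', ?_⟩
  let Φ := pullback.lift (f := gY) (g := gX) (pullback.snd (b ≫ gX) gY) (pullback.fst (b ≫ gX) gY ≫ b)
    (by rw [Category.assoc, pullback.condition])
  let e := pullback.map (b ≫ gX) (V.ι ≫ gY) (b ≫ gX) gY (𝟙 Xt) V.ι (𝟙 S) (by simp) (by simp)
  have he : Set.range e = pullback.snd (b ≫ gX) gY ⁻¹' (V : Set Y) := by
    rw [Scheme.Pullback.range_map]
    simp
  have he1 : e ≫ pullback.fst (b ≫ gX) gY = pullback.fst (b ≫ gX) (V.ι ≫ gY) :=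
    (pullback.lift_fst _ _ _).trans (Category.comp_id _)
  have he2 : e ≫ pullback.snd (b ≫ gX) gY = pullback.snd (b ≫ gX) (V.ι ≫ gY) ≫ V.ι := pullback.lift_snd _ _ _
  have hΦ1 : Φ ≫ pullback.fst gY gX = pullback.snd (b ≫ gX) gY := pullback.lift_fst _ _ _
  have hΦ2 : Φ ≫ pullback.snd gY gX = pullback.fst (b ≫ gX) gY ≫ b := pullback.lift_snd _ _ _
  have hl1 : pullback.lift W.ι ψ hψ ≫ pullback.fst (b ≫ gX) (V.ι ≫ gY) = W.ι := pullback.lift_fst _ _ _
  have hl2 : pullback.lift W.ι ψ hψ ≫ pullback.snd (b ≫ gX) (V.ι ≫ gY) = ψ := pullback.lift_snd _ _ _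
  have hcomp : pullback.lift W.ι ψ hψ ≫ e =
      pullback.lift (f := b ≫ gX) (g := gY) W.ι (ψ ≫ V.ι) (hψ.trans (Category.assoc ψ V.ι gY).symm) := by
    apply pullback.hom_ext
    · rw [Category.assoc, he1, hl1]; exact (pullback.lift_fst _ _ _).symm
    · rw [Category.assoc, he2, reassoc_of% hl2]; exact (pullback.lift_snd _ _ _).symm
  rw [← hcomp]
  have hrc : Set.range (fun x => (pullback.lift W.ι ψ hψ ≫ e) x) = e '' Set.range (fun x => pullback.lift W.ι ψ hψ x) := by
    rw [← Set.range_comp]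
    rfl
  rw [hrc, ← closure_subset_iff_isClosed]
  intro p hp
  have hpΦ : Φ p ∈ Set.range (fun x => pullback.lift V.ι φ hφ x) := by
    refine closure_minimal (t := Φ ⁻¹' Set.range (fun x => pullback.lift V.ι φ hφ x)) ?_ (hφcl.preimage Φ.continuous) hp
    rintro _ ⟨_, ⟨w, rfl⟩, rfl⟩
    refine ⟨ψ w, ?_⟩
    show (pullback.lift V.ι φ hφ) (ψ w) = Φ (e (pullback.lift W.ι ψ hψ w))
    rw [← Scheme.Hom.comp_apply, ← Scheme.Hom.comp_apply, ← Scheme.Hom.comp_apply]
    refine congrArg (fun m : (W : Scheme.{u}) ⟶ _ => m w) (pullback.hom_ext ?_ ?_)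
    · simp only [Category.assoc, hΦ1, he2, reassoc_of% hl2]
      rw [pullback.lift_fst]
    · simp only [Category.assoc, hΦ2, reassoc_of% he1, reassoc_of% hl1, hid]
      rw [pullback.lift_snd]
  have hpV : p ∈ Set.range e := by
    rw [he]
    obtain ⟨v, hv⟩ := hpΦ
    have h3 : (pullback.fst gY gX) (pullback.lift V.ι φ hφ v) = (pullback.fst gY gX) (Φ p) := congrArg _ hv
    rw [← Scheme.Hom.comp_apply, ← Scheme.Hom.comp_apply, pullback.lift_fst, pullback.lift_fst] at h3
    rw [Set.mem_preimage, ← h3]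
    exact v.2
  obtain ⟨q, rfl⟩ := hpV
  refine ⟨q, ?_, rfl⟩
  haveI : IsOpenImmersion e := inferInstance
  rw [← hψcl.closure_eq, e.isOpenEmbedding.isInducing.closure_eq_preimage_closure_image]
  exact hp

end Groth.Agent.S17390
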