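import Groth.Statements.S17392
import Groth.Agent.Lib.BlowUp3.Sep
import Groth.Agent.Lib.BlowUp3.Pow

set_option autoImplicit false
universe u
open BlowUp

namespace Groth.Agent.S17392

open AlgebraicGeometry CategoryTheory Limits in
/-- Let X₁ and X₂ be quasi-compact quasi-separated schemes, q : X₂ → X₁ a quasi-compact separated
morphism, V₁ ⊆ X₁ a quasi-compact open subscheme and U ⊆ q⁻¹(V₁) an open subscheme of X₂ on which q
restricts to an open immersion (so U is identified with an open of V₁). Let Z₁ ⊆ X₁ be a closed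
subset whose open complement is quasi-compact, put Y₁ = Z₁ ∩ V₁, and let Z₂ ⊆ X₂ be a closed subset
whose open complement is also quasi-compact, with q⁻¹(Y₁) ⊆ Z₂. Then there is a quasi-coherent ideal
E of finite type on X₁ with support contained in Z₁ ∖ V₁ (so that blowing up E is V₁-admissible)
such that, for every blowing up c : X₁' → X₁ of X₁ in E with base change q' : X₂' = X₂ ×_{X₁} X₁' →
X₁' and c₂ : X₂' → X₂, one has q'⁻¹(closure of c⁻¹(Y₁)) ∩ closure(c₂⁻¹(U)) ⊆ c₂⁻¹(Z₂) as subsets of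
X₂'. -/
theorem result
    {X₁ X₂ : Scheme.{u}} [CompactSpace X₁] [QuasiSeparatedSpace X₁] [CompactSpace X₂] [QuasiSeparatedSpace X₂]
    (q : X₂ ⟶ X₁) [QuasiCompact q] [IsSeparated q]
    (V₁ : X₁.Opens) (hV₁ : IsCompact (V₁ : Set X₁))
    (U : X₂.Opens) (hU : U ≤ q ⁻¹ᵁ V₁) [IsOpenImmersion (U.ι ≫ q)]
    (Z₁ : Set X₁) (hZ₁ : IsClosed Z₁) (hZ₁c : IsCompact Z₁ᶜ)
    (Z₂ : Set X₂) (hZ₂ : IsClosed Z₂) (hZ₂c : IsCompact Z₂ᶜ)
    (hYZ : (fun x => q x) ⁻¹' (Z₁ ∩ (V₁ : Set X₁)) ⊆ Z₂) :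
    ∃ 𝓔 : X₁.IdealSheafData, BlowUp.IsFiniteTypeIdeal 𝓔 ∧ (𝓔.support : Set X₁) ⊆ Z₁ \ (V₁ : Set X₁) ∧
      ∀ (X₁' : Scheme.{u}) (c : X₁' ⟶ X₁), BlowUp.IsBlowUp c 𝓔 →
        (fun z => (pullback.snd q c) z) ⁻¹' closure ((fun x => c x) ⁻¹' (Z₁ ∩ (V₁ : Set X₁))) ∩
            closure ((fun z => (pullback.fst q c) z) ⁻¹' (U : Set X₂)) ⊆
          (fun z => (pullback.fst q c) z) ⁻¹' Z₂ := by
  obtain ⟨I₁, hI₁, hsI⟩ := AdmBlowUp4.exists_ideal_support_eq X₁ ⟨Z₁ᶜ, hZ₁.isOpen_compl⟩ hZ₁c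
  obtain ⟨J₁, hJ₁, hsJ⟩ := AdmBlowUp4.exists_ideal_support_eq X₁ V₁ hV₁
  rw [show ((⟨Z₁ᶜ, hZ₁.isOpen_compl⟩ : X₁.Opens) : Set X₁) = Z₁ᶜ from rfl, compl_compl] at hsI
  let O : X₂.Opens := ⟨Z₂ᶜ, hZ₂.isOpen_compl⟩
  haveI : CompactSpace O := isCompact_iff_compactSpace.1 hZ₂c
  let r : (O : Scheme.{u}) ⟶ X₁ := O.ι ≫ q
  have hsupp : ((I₁.comap r).support : Set O) ⊆ (J₁.comap r).support := by
    intro x hx
    rw [Scheme.IdealSheafData.support_comap] at hx ⊢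
    have hxZ : r x ∈ Z₁ := hsI.le hx
    exact hsJ.ge fun hxV => x.2 (hYZ ⟨hxZ, hxV⟩)
  obtain ⟨n, hn⟩ := BlowUp3.exists_pow_le (EffCartier.isFiniteTypeIdeal_comap hJ₁ r) hsupp
  have hsE : ((I₁ ⊔ J₁ ^ (n + 1)).support : Set X₁) = Z₁ \ (V₁ : Set X₁) := by
    rw [Scheme.IdealSheafData.support_sup, Scheme.IdealSheafData.support_pow_succ, TopologicalSpace.Closeds.coe_inf, hsI, hsJ]
    rfl
  refine ⟨I₁ ⊔ J₁ ^ (n + 1), EffCartier.isFiniteTypeIdeal_sup hI₁ (BlowUp3.isFiniteTypeIdeal_pow hJ₁ _),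
    hsE.le, ?_⟩
  intro X₁' c hc z hz
  by_contra hzZ
  let P₀ := pullback.fst q c ⁻¹ᵁ O
  let s : (P₀ : Scheme.{u}) ⟶ X₁' := P₀.ι ≫ pullback.snd q c
  have hsc : s ≫ c = (pullback.fst q c ∣_ O) ≫ r := by
    rw [Category.assoc, ← pullback.condition, ← Category.assoc, ← morphismRestrict_ι, Category.assoc]
  have hd : Disjoint (closure (P₀.ι ⁻¹' ((fun z => (pullback.fst q c) z) ⁻¹' (U : Set X₂))))
      (s ⁻¹' closure ((fun x => c x) ⁻¹' (Z₁ ∩ (V₁ : Set X₁)))) := by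
    refine BlowUp3.disjoint_closure_preimage s (E := (I₁ ⊔ J₁ ^ (n + 1)).comap c) (J := I₁.comap c)
      (M := (I₁ ⊔ J₁ ^ (n + 1)).comap c) (T := I₁.comap c) (K := ⊥) hc.1
      (Scheme.IdealSheafData.comap_mono c le_sup_left) ?_ ?_ ?_ (fun _ _ _ _ h => h) le_sup_right ?_ ?_
    · intro x hx
      rw [Scheme.IdealSheafData.support_comap]
      exact hsI.ge hx.1
    · rw [Set.disjoint_left]
      intro x hx hx'
      rw [Scheme.IdealSheafData.support_comap] at hx'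
      exact (hsE.le hx').2 hx.2
    · have h0 : (I₁ ⊔ J₁ ^ (n + 1)).comap r ≤ I₁.comap r := by
        rw [Scheme.IdealSheafData.comap_sup, BlowUp3.comap_pow]
        exact sup_le le_rfl hn
      have h1 : ((I₁ ⊔ J₁ ^ (n + 1)).comap r).comap (pullback.fst q c ∣_ O) ≤
          (I₁.comap r).comap (pullback.fst q c ∣_ O) :=
        (Scheme.IdealSheafData.map_gc (pullback.fst q c ∣_ O)).monotone_l h0
      rw [sup_bot_eq]
      have key : ∀ A : X₁.IdealSheafData, (A.comap c).comap s = (A.comap r).comap (pullback.fst q c ∣_ O) := by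
        intro A
        rw [← Scheme.IdealSheafData.comap_comp, hsc, Scheme.IdealSheafData.comap_comp]
      exact (key _).le.trans (h1.trans (key _).ge)
    · rw [Scheme.IdealSheafData.support_bot, TopologicalSpace.Closeds.coe_top]
      exact Set.subset_univ _
    · intro w hw hw'
      rw [Scheme.IdealSheafData.support_comap] at hw'
      have h : (P₀.ι ≫ pullback.snd q c ≫ c) w ∈ ((I₁ ⊔ J₁ ^ (n + 1)).support : Set X₁) := hw'
      rw [← pullback.condition] at h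
      exact (hsE.le h).2 (hU hw)
  have h2 : (⟨z, hzZ⟩ : P₀) ∈ closure (P₀.ι ⁻¹' ((fun z => (pullback.fst q c) z) ⁻¹' (U : Set X₂))) := by
    rw [← P₀.ι.isOpenEmbedding.isOpenMap.preimage_closure_eq_closure_preimage P₀.ι.continuous]
    exact hz.2
  exact Set.disjoint_left.mp hd h2 hz.1

end Groth.Agent.S17392
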