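import Groth.Statements.S17393
import Groth.Agent.Lib.BlowUp3.Strict

set_option autoImplicit false
universe u
open BlowUp

namespace Groth.Agent.S17393

open AlgebraicGeometry CategoryTheory Limits in
/-- Let X be any scheme, I and I' quasi-coherent ideals on X (of closed subschemes Y and Y'), b : X' → X
a blowing up of X in I + I' (the ideal of Y ∩ Y'), b' : Ỹ → Y a blowing up of Y = V(I) in the
inverse image of I + I' and k : Ỹ → X' the morphism with k ≫ b = b' ≫ (Y → X), whose image is the
strict transform of Y. For an affine open V of X, a section s of I over V, and an affine open V' ⊆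
b⁻¹(V) of X' which meets the image of k, the ideal of the inverse image ideal sheaf (I + I')·O_X' on
V' is not the principal ideal generated by the pullback of s. Equivalently the strict transform of Y
does not meet the open locus U(s) where s generates the (invertible) inverse image ideal; since the
U(s) for s ranging over local sections of I and of I' cover X', the strict transform of Y lies in
the union of the U(s) with s a local section of I'. -/
theorem result
    {X X' Yt : Scheme.{u}} (𝓘 𝓘' : X.IdealSheafData) (b : X' ⟶ X) (hb : BlowUp.IsBlowUp b (𝓘 ⊔ 𝓘'))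
    (b' : Yt ⟶ 𝓘.subscheme) (hb' : BlowUp.IsBlowUp b' ((𝓘 ⊔ 𝓘').comap 𝓘.subschemeι))
    (k : Yt ⟶ X') (hk : k ≫ b = b' ≫ 𝓘.subschemeι)
    (V : X.affineOpens) (s : Γ(X, V.1)) (hs : s ∈ 𝓘.ideal V)
    (V' : X'.affineOpens) (hV' : V'.1 ≤ b ⁻¹ᵁ V.1)
    (hmeet : (Set.range (fun y => k y) ∩ (V'.1 : Set X')).Nonempty) :
    ((𝓘 ⊔ 𝓘').comap b).ideal V' ≠ Ideal.span {(b.appLE V.1 V'.1 hV').hom s} := by
  intro h
  obtain ⟨_, ⟨y, rfl⟩, hy⟩ := hmeet
  refine BlowUp3.not_le_near k (K := 𝓘.comap b) (BlowUp3.isEff_comap_comap hk hb') (BlowUp3.comap_comap_eq_bot hk) V' y hy ?_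
  rw [h, Ideal.span_singleton_le_iff_mem, EffCartier.comap_ideal 𝓘 b V V' hV']
  exact Ideal.mem_map_of_mem _ hs

end Groth.Agent.S17393
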