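import Groth.Statements.S17394
import Groth.Agent.Lib.AdmBlowUp4.Product
import Groth.Agent.Lib.BlowUp3.Strict
import Groth.Agent.Lib.EffCartier.Dense
import Groth.Agent.S17392
-- import your own Groth.Agent.* helpers here

set_option autoImplicit false
universe u
open FlatMor

namespace Groth.Agent.S17394

open AlgebraicGeometry CategoryTheory Limits in
/-- Let S be a quasi-compact quasi-separated scheme, X → S separated of finite type, and for i = 1, …, m
let X̄_i → S be proper, o_i : X_i → X̄_i a quasi-compact open immersion and q_i : X_i → X a proper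
S-morphism; let U be a scheme with quasi-compact open immersions jU : U → X and v_i : U → X_i such
that v_i ≫ q_i = jU, with U dense in X, in each X_i and in each X̄_i (via v_i ≫ o_i). Let Y_i ⊆ X_i
be closed subschemes of finite presentation. Let Ū ⊆ X̄_1 ×_S ⋯ ×_S X̄_m be the closure of the image
of U (the scheme-theoretic closure, the morphism being quasi-compact) with projections π_i : Ū →
X̄_i, and assume ⋂_i π_i⁻¹(Y_i) = ∅. Then there are blowing ups c_i : X̄_i' → X̄_i in quasi-coherent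
ideals of finite type with support disjoint from X_i (X_i-admissible), with the lifts v_i' : U →
X̄_i' of v_i ≫ o_i, such that, writing Ū' for the closure of the image of U in X̄_1' ×_S ⋯ ×_S X̄_m'
with projections π_i' and Ȳ_i' for the closure in X̄_i' of c_i⁻¹(Y_i), one has ⋂_i (π_i')⁻¹(Ȳ_i') =
∅. -/
theorem result
    {S X U : Scheme.{u}} [CompactSpace S] [QuasiSeparatedSpace S] {m : ℕ}
    (gX : X ⟶ S) [IsSeparated gX] [QuasiCompact gX] [LocallyOfFiniteType gX]
    (Xi Xb : Fin m → Scheme.{u}) (gb : ∀ i, Xb i ⟶ S) [∀ i, IsProper (gb i)]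
    (o : ∀ i, Xi i ⟶ Xb i) [∀ i, IsOpenImmersion (o i)] [∀ i, QuasiCompact (o i)]
    (q : ∀ i, Xi i ⟶ X) [∀ i, IsProper (q i)] (hq : ∀ i, q i ≫ gX = o i ≫ gb i)
    (jU : U ⟶ X) [IsOpenImmersion jU] [QuasiCompact jU] [IsDominant jU]
    (v : ∀ i, U ⟶ Xi i) [∀ i, IsOpenImmersion (v i)] [∀ i, QuasiCompact (v i)] [∀ i, IsDominant (v i)]
    [∀ i, IsDominant (v i ≫ o i)]
    (hv : ∀ i, v i ≫ q i = jU) (w : ∀ i, (v i ≫ o i) ≫ gb i = jU ≫ gX)
    (Y : ∀ i, (Xi i).IdealSheafData) (hY : ∀ i, BlowUp.IsFiniteTypeIdeal (Y i))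
    (hempty : ∀ z ∈ closure (Set.range (fun x => (WidePullback.lift (jU ≫ gX) (fun i => v i ≫ o i) w) x)),
      ∃ i, (WidePullback.π gb i) z ∉ (fun x => o i x) '' ((Y i).support : Set (Xi i))) :
    ∃ (𝓔 : ∀ i, (Xb i).IdealSheafData) (Xb' : Fin m → Scheme.{u}) (c : ∀ i, Xb' i ⟶ Xb i)
      (v' : ∀ i, U ⟶ Xb' i) (w' : ∀ i, v' i ≫ c i ≫ gb i = jU ≫ gX),
      (∀ i, BlowUp.IsBlowUp (c i) (𝓔 i) ∧ BlowUp.IsAdmissibleFor (o i).opensRange (𝓔 i) ∧
        v' i ≫ c i = v i ≫ o i) ∧
      ∀ z ∈ closure (Set.range (fun x => (WidePullback.lift (jU ≫ gX) (fun i => v' i) w') x)),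
        ∃ i, (WidePullback.π (fun i => c i ≫ gb i) i) z ∉
          closure ((fun y => c i y) ⁻¹' ((fun x => o i x) '' ((Y i).support : Set (Xi i)))) := by
  rcases isEmpty_or_nonempty U with hU | hU
  · let c := fun i => BlowUpExist.ChartIdx.blowUpHom (⊤ : (Xb i).IdealSheafData)
    have hb := fun i => BlowUpExist.ChartIdx.isBlowUp_blowUpHom (C := (⊤ : (Xb i).IdealSheafData))
    have hlift : ∀ i, ∃ v' : U ⟶ _, v' ≫ c i = v i ≫ o i := fun i => by
      obtain ⟨h, hh, -⟩ := (hb i).2 U (v i ≫ o i) (by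
        rw [Scheme.IdealSheafData.comap_top]; exact EffCartier.isEffCartierIdeal_top)
      exact ⟨h, hh⟩
    choose v' hv' using hlift
    refine ⟨fun i => ⊤, _, c, v', fun i => by rw [← Category.assoc, hv', w], fun i => ⟨hb i, ⟨fun V => ?_, ?_⟩, hv' i⟩,
      fun z hz => ?_⟩
    · rw [Scheme.IdealSheafData.ideal_top]; exact ⟨{1}, by simp⟩
    · rw [Scheme.IdealSheafData.support_top]; exact Set.empty_disjoint _
    · rw [Set.range_eq_empty, closure_empty] at hz
      exact hz.elim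
  obtain ⟨i₀, -⟩ := hempty _ (subset_closure ⟨hU.some, rfl⟩)
  -- the compactifications are qcqs
  have hXb : ∀ i, CompactSpace (Xb i) ∧ QuasiSeparatedSpace (Xb i) := fun i =>
    ⟨QuasiCompact.compactSpace_of_compactSpace (gb i), quasiSeparatedSpace_of_quasiSeparated (gb i)⟩
  have hXi : ∀ i, CompactSpace (Xi i) := fun i =>
    haveI := (hXb i).1
    QuasiCompact.compactSpace_of_compactSpace (o i)
  let P : Scheme.{u} := widePullback S Xb gb
  haveI hPb : IsProper (WidePullback.base gb) := AdmBlowUp4.isProper_widePullback_base Xb gb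
  haveI : CompactSpace P := QuasiCompact.compactSpace_of_compactSpace (WidePullback.base gb)
  haveI : QuasiSeparatedSpace P := quasiSeparatedSpace_of_quasiSeparated (WidePullback.base gb)
  have hπ : ∀ i, IsProper (WidePullback.π gb i) := fun i =>
    haveI : IsProper (WidePullback.π gb i ≫ gb i) := by rw [WidePullback.π_arrow]; exact hPb
    IsProper.of_comp _ (gb i)
  let f : U ⟶ P := WidePullback.lift (jU ≫ gX) (fun i => v i ≫ o i) w
  have hfπ : ∀ i, f ≫ WidePullback.π gb i = v i ≫ o i := fun i => WidePullback.lift_π _ _ _ _ _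
  haveI : IsImmersion (f ≫ WidePullback.π gb i₀) := by rw [hfπ]; infer_instance
  haveI : IsImmersion f := IsImmersion.of_comp f (WidePullback.π gb i₀)
  haveI : QuasiCompact (f ≫ WidePullback.π gb i₀) := by rw [hfπ]; infer_instance
  haveI : QuasiCompact f :=
    haveI := hπ i₀
    QuasiCompact.of_comp f (WidePullback.π gb i₀)
  -- the closure of `U`
  let Z : Scheme.{u} := f.image
  haveI : CompactSpace Z := QuasiCompact.compactSpace_of_compactSpace f.imageι
  haveI : QuasiSeparatedSpace Z := quasiSeparatedSpace_of_quasiSeparated f.imageι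
  have hZcl : ∀ z : Z, f.imageι z ∈ closure (Set.range f) := fun z => by
    have : f.imageι z ∈ (f.ker.support : Set P) := by
      rw [← Scheme.IdealSheafData.range_subschemeι]; exact ⟨z, rfl⟩
    rwa [Scheme.Hom.support_ker] at this
  let pr : ∀ i, Z ⟶ Xb i := fun i => f.imageι ≫ WidePullback.π gb i
  have hpr : ∀ i, IsProper (pr i) := fun i => haveI := hπ i; inferInstanceAs (IsProper (f.imageι ≫ _))
  -- over `X_i` the closure lies over every `X_j`
  have hall : ∀ (z : Z) i j, pr i z ∈ Set.range (o i) → pr j z ∈ Set.range (o j) := by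
    intro z i j hzi
    let Pi : P.Opens := WidePullback.π gb i ⁻¹ᵁ (o i).opensRange
    have hr : Set.range (Pi.ι ≫ WidePullback.π gb i) ⊆ Set.range (o i) := by
      rintro _ ⟨x, rfl⟩; exact x.2
    let a : (Pi : Scheme.{u}) ⟶ Xi i := IsOpenImmersion.lift (o i) (Pi.ι ≫ WidePullback.π gb i) hr
    let μ : (Pi : Scheme.{u}) ⟶ pullback (q i ≫ gX) (gb j) := pullback.lift a (Pi.ι ≫ WidePullback.π gb j) (by
      rw [hq i, IsOpenImmersion.lift_fac_assoc, Category.assoc, Category.assoc, WidePullback.π_arrow,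
        WidePullback.π_arrow])
    let ν : pullback (q i) (q j) ⟶ pullback (q i ≫ gX) (gb j) := pullback.lift (pullback.fst _ _)
      (pullback.snd _ _ ≫ o j) (by rw [Category.assoc, ← hq j, ← pullback.condition_assoc])
    haveI : IsProper (ν ≫ pullback.fst _ _) := by rw [pullback.lift_fst]; infer_instance
    haveI : IsProper ν := IsProper.of_comp ν (pullback.fst _ _)
    have hcl : IsClosed (Set.range ν) := ν.isClosedMap.isClosed_range
    have hw : f.imageι z ∈ Pi := hzi
    have hmem : (⟨_, hw⟩ : Pi) ∈ closure (Pi.ι ⁻¹' Set.range f) := by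
      rw [← Pi.ι.isOpenEmbedding.isOpenMap.preimage_closure_eq_closure_preimage Pi.ι.continuous]
      exact hZcl z
    have hsub : Pi.ι ⁻¹' Set.range f ⊆ μ ⁻¹' Set.range ν := by
      rintro p ⟨x, hx⟩
      have hfr : Set.range f ⊆ Set.range Pi.ι := by
        rintro _ ⟨y, rfl⟩
        rw [Scheme.Opens.range_ι]
        show (f ≫ WidePullback.π gb i) y ∈ Set.range (o i)
        rw [hfπ]
        exact ⟨v i y, rfl⟩
      let f' : U ⟶ (Pi : Scheme.{u}) := IsOpenImmersion.lift Pi.ι f hfr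
      have hp : f' x = p := Pi.ι.isOpenEmbedding.injective (by
        rw [← Scheme.Hom.comp_apply, IsOpenImmersion.lift_fac]; exact hx)
      have he : f' ≫ μ = pullback.lift (v i) (v j) (by rw [hv, hv]) ≫ ν := by
        refine pullback.hom_ext ?_ ?_
        · rw [← cancel_mono (o i)]
          simp only [μ, ν, Category.assoc, pullback.lift_fst_assoc, pullback.lift_fst, IsOpenImmersion.lift_fac, a]
          rw [← Category.assoc, IsOpenImmersion.lift_fac, hfπ]
        · simp only [μ, ν, Category.assoc, pullback.lift_snd_assoc, pullback.lift_snd]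
          rw [← Category.assoc, IsOpenImmersion.lift_fac, hfπ]
      show μ p ∈ Set.range ν
      rw [← hp, ← Scheme.Hom.comp_apply, he]
      exact ⟨_, rfl⟩
    have hμ : μ ⟨_, hw⟩ ∈ Set.range ν :=
      (closure_minimal hsub (hcl.preimage μ.continuous)) hmem
    obtain ⟨t, ht⟩ := hμ
    refine ⟨pullback.snd (q i) (q j) t, ?_⟩
    have := congrArg (pullback.snd (q i ≫ gX) (gb j)) ht
    rw [← Scheme.Hom.comp_apply, ← Scheme.Hom.comp_apply, pullback.lift_snd, pullback.lift_snd] at this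
    exact this
  -- closed subsets extending the `Y_i`
  have hW : ∀ i, IsCompact (((o i) ''ᵁ (Y i).support.compl : (Xb i).Opens) : Set (Xb i)) := fun i =>
    haveI := hXi i
    (AdmBlowUp4.isCompact_compl_support (hY i)).image (o i).continuous
  let Wi : ∀ i, (Xb i).Opens := fun i => (o i) ''ᵁ (Y i).support.compl
  let Z₁ : ∀ i, Set (Xb i) := fun i => (Wi i : Set (Xb i))ᶜ
  have hZ₁V : ∀ i, Z₁ i ∩ Set.range (o i) = (fun x => o i x) '' ((Y i).support : Set (Xi i)) := fun i => by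
    ext x
    constructor
    · rintro ⟨hx, y, rfl⟩
      refine ⟨y, ?_, rfl⟩
      by_contra hy
      exact hx ⟨y, hy, rfl⟩
    · rintro ⟨y, hy, rfl⟩
      refine ⟨?_, y, rfl⟩
      rintro ⟨y', hy', e⟩
      exact hy' ((o i).isOpenEmbedding.injective e ▸ hy)
  -- the ideal to be blown up in the closure
  have hJ' : ∀ i, ∃ J : Z.IdealSheafData, BlowUp.IsFiniteTypeIdeal J ∧ (J.support : Set Z) = pr i ⁻¹' Z₁ i := fun i => by
    haveI := hpr i
    obtain ⟨J, hJ, hs⟩ := AdmBlowUp4.exists_ideal_support_eq Z (pr i ⁻¹ᵁ Wi i)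
      ((pr i).isCompact_preimage (hW i))
    exact ⟨J, hJ, hs⟩
  choose J hJ hJs using hJ'
  have hE : ∀ z : Z, z ∈ (⨆ i, J i).support → ∀ i, pr i z ∈ Z₁ i := fun z hz i => by
    rw [Scheme.IdealSheafData.support_iSup] at hz
    have hz' : z ∈ (J i).support := (iInf_le (fun i => (J i).support) i) hz
    exact (hJs i).le hz'
  have hprU : ∀ x i, pr i (f.toImage x) = o i (v i x) := fun x i => by
    rw [← Scheme.Hom.comp_apply, Scheme.Hom.toImage_imageι_assoc, hfπ, Scheme.Hom.comp_apply]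
  have hUE : ∀ x : U, f.toImage x ∉ (⨆ i, J i).support := fun x hx => by
    obtain ⟨i, hi⟩ := hempty _ (subset_closure ⟨x, rfl⟩)
    refine hi ?_
    show (f ≫ WidePullback.π gb i) x ∈ _
    rw [hfπ, ← hZ₁V i]
    exact ⟨hprU x i ▸ hE _ hx i, v i x, rfl⟩
  let Zt : Scheme.{u} := colimit (BlowUpExist.ChartIdx.diagram (⨆ i, J i))
  let b : Zt ⟶ Z := BlowUpExist.ChartIdx.blowUpHom (⨆ i, J i)
  have hb : BlowUp.IsBlowUp b (⨆ i, J i) := BlowUpExist.ChartIdx.isBlowUp_blowUpHom
  haveI : IsProper b := BlowUpExist.isProper (AdmBlowUp4.isFiniteTypeIdeal_iSup hJ) hb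
  haveI : CompactSpace Zt := QuasiCompact.compactSpace_of_compactSpace b
  haveI : QuasiSeparatedSpace Zt := quasiSeparatedSpace_of_quasiSeparated b
  let qi : ∀ i, Zt ⟶ Xb i := fun i => b ≫ pr i
  have hqi : ∀ i, IsProper (qi i) := fun i => haveI := hpr i; inferInstanceAs (IsProper (b ≫ _))
  -- the open copy of `U`
  let R : Z.Opens := f.toImage.opensRange
  let Ut : Zt.Opens := b ⁻¹ᵁ R
  have hRc : R ≤ EffCartier.cmpl (⨆ i, J i) := by
    rintro _ ⟨x, rfl⟩
    exact hUE x
  haveI : IsIso (b ∣_ R) := by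
    haveI := EffCartier.isIso_blowUp_restrict hb
    exact AdmBlowUp4.isIso_restrict_of_le' b hRc
  have hopen : ∀ i, IsOpenImmersion (Ut.ι ≫ qi i) := fun i => by
    have : Ut.ι ≫ qi i = (b ∣_ R) ≫ f.toImage.isoOpensRange.inv ≫ v i ≫ o i := by
      have e : R.ι ≫ pr i = f.toImage.isoOpensRange.inv ≫ v i ≫ o i := by
        rw [← f.toImage.isoOpensRange_inv_comp, Category.assoc, Scheme.Hom.toImage_imageι_assoc, hfπ]
      rw [← e, morphismRestrict_ι_assoc]
    rw [this]; infer_instance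
  have hUV : ∀ i, Ut ≤ qi i ⁻¹ᵁ (o i).opensRange := fun i z hz => by
    obtain ⟨x, hx⟩ := hz
    refine ⟨v i x, ?_⟩
    rw [← hprU x i, hx]
    rfl
  -- an open cover avoiding the `Y_i`
  have hcov : ∀ z : Zt, ∃ (i : Fin m) (V : Zt.affineOpens), z ∈ V.1 ∧
      ((⨆ j, J j).comap b).ideal V ≤ ((J i).comap b).ideal V := fun z => by
    have hsup : (⨆ i, (J i).comap b) = (⨆ i, J i).comap b := ((Scheme.IdealSheafData.map_gc b).l_iSup).symm
    obtain ⟨i, V, hzV, hle⟩ := BlowUp3.exists_generates (fun i => (J i).comap b) (hsup ▸ hb.1) z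
    exact ⟨i, V, hzV, hsup ▸ hle⟩
  choose idx nb hnb hnble using hcov
  obtain ⟨s, hs⟩ := isCompact_univ.elim_finite_subcover (fun z : Zt => ((nb z).1 : Set Zt))
    (fun z => (nb z).1.2) (fun z _ => Set.mem_iUnion.2 ⟨z, hnb z⟩)
  classical
  let O : Fin m → Zt.Opens := fun i => ⨆ z ∈ s.filter (fun z => idx z = i), (nb z).1
  have hOc : ∀ i, IsCompact (O i : Set Zt) := fun i => by
    simp only [O, TopologicalSpace.Opens.coe_iSup]
    exact (s.filter _).isCompact_biUnion fun z _ => (nb z).2.isCompact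
  have hOY : ∀ i, (fun x => qi i x) ⁻¹' (Z₁ i ∩ ((o i).opensRange : Set (Xb i))) ⊆ (O i : Set Zt)ᶜ := by
    rintro i x ⟨hx₁, hx₂⟩ hxO
    simp only [O, SetLike.mem_coe, TopologicalSpace.Opens.mem_iSup] at hxO
    obtain ⟨z, hz, hxz⟩ := hxO
    obtain ⟨-, rfl⟩ := Finset.mem_filter.1 hz
    have hxJ : x ∈ ((J (idx z)).comap b).support := by
      rw [Scheme.IdealSheafData.support_comap]
      exact (hJs (idx z)).ge hx₁
    have hxE : x ∈ ((⨆ j, J j).comap b).support := by
      rw [Scheme.IdealSheafData.mem_support_iff_of_mem hxz] at hxJ ⊢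
      exact Scheme.zeroLocus_mono _ (hnble z) hxJ
    rw [Scheme.IdealSheafData.support_comap] at hxE
    obtain ⟨j, hj⟩ := hempty _ (hZcl (b x))
    refine hj ?_
    show pr j (b x) ∈ _
    rw [← hZ₁V j]
    exact ⟨hE _ hxE j, hall (b x) (idx z) j hx₂⟩
  -- separate on each factor
  have hsep : ∀ i, ∃ 𝓔 : (Xb i).IdealSheafData, BlowUp.IsFiniteTypeIdeal 𝓔 ∧
      (𝓔.support : Set (Xb i)) ⊆ Z₁ i \ Set.range (o i) ∧
      ∀ (X₁' : Scheme.{u}) (c : X₁' ⟶ Xb i), BlowUp.IsBlowUp c 𝓔 →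
        (fun z => (pullback.snd (qi i) c) z) ⁻¹' closure ((fun x => c x) ⁻¹' ((fun x => o i x) '' ((Y i).support : Set (Xi i)))) ∩
            closure ((fun z => (pullback.fst (qi i) c) z) ⁻¹' (Ut : Set Zt)) ⊆
          (fun z => (pullback.fst (qi i) c) z) ⁻¹' (O i : Set Zt)ᶜ := fun i => by
    haveI := (hXb i).1; haveI := (hXb i).2
    haveI := hqi i; haveI := hopen i
    obtain ⟨𝓔, h1, h2, h3⟩ := S17392.result (qi i) (o i).opensRange (isCompact_range (o i).continuous) Ut (hUV i)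
      (Z₁ i) (Wi i).2.isClosed_compl (by show IsCompact (Wi i : Set (Xb i))ᶜᶜ; rw [compl_compl]; exact hW i) (O i : Set Zt)ᶜ (O i).2.isClosed_compl
      (by rw [compl_compl]; exact hOc i) (hOY i)
    refine ⟨𝓔, h1, h2, fun X₁' c hc => ?_⟩
    have := h3 X₁' c hc
    rwa [show Z₁ i ∩ ((o i).opensRange : Set (Xb i)) = _ from hZ₁V i] at this
  choose 𝓔 h𝓔ft h𝓔s h𝓔 using hsep
  let c := fun i => BlowUpExist.ChartIdx.blowUpHom (𝓔 i)
  have hc : ∀ i, BlowUp.IsBlowUp (c i) (𝓔 i) := fun i => BlowUpExist.ChartIdx.isBlowUp_blowUpHom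
  haveI : ∀ i, IsProper (c i) := fun i => BlowUpExist.isProper (h𝓔ft i) (hc i)
  have hlift : ∀ i, ∃ v' : U ⟶ _, v' ≫ c i = v i ≫ o i := fun i => by
    obtain ⟨h, hh, -⟩ := (hc i).2 U (v i ≫ o i) (by
      rw [EffCartier.comap_eq_top _ _ fun x hx => (h𝓔s i hx).2 ⟨v i x, rfl⟩]
      exact EffCartier.isEffCartierIdeal_top)
    exact ⟨h, hh⟩
  choose v' hv' using hlift
  have hw' : ∀ i, v' i ≫ c i ≫ gb i = jU ≫ gX := fun i => by rw [← Category.assoc, hv', w]
  refine ⟨𝓔, _, c, v', hw', fun i => ⟨hc i, ⟨h𝓔ft i, ?_⟩, hv' i⟩, fun z' hz' => ?_⟩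
  · rw [Set.disjoint_left]
    exact fun x hx hxo => (h𝓔s i hx).2 hxo
  -- the product of the blown up factors
  let Φ : widePullback S _ (fun i => c i ≫ gb i) ⟶ P := WidePullback.lift (WidePullback.base _)
    (fun i => WidePullback.π (fun i => c i ≫ gb i) i ≫ c i) (fun i => by
      rw [Category.assoc]; exact WidePullback.π_arrow (fun i => c i ≫ gb i) i)
  obtain ⟨ut, hut, -⟩ := hb.2 U f.toImage (by
    rw [EffCartier.comap_eq_top _ _ hUE]; exact EffCartier.isEffCartierIdeal_top)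
  let g : U ⟶ widePullback S _ (fun i => c i ≫ gb i) := WidePullback.lift (jU ≫ gX) (fun i => v' i) hw'
  have hgΦ : g ≫ Φ = f := by
    refine WidePullback.hom_ext gb _ _ (fun i => ?_) ?_
    · rw [Category.assoc, WidePullback.lift_π, hfπ, WidePullback.lift_π_assoc, hv']
    · rw [Category.assoc, WidePullback.lift_base, WidePullback.lift_base, WidePullback.lift_base]
  let u₁ : U ⟶ pullback (b ≫ f.imageι) Φ := pullback.lift ut g (by
    rw [reassoc_of% hut, Scheme.Hom.toImage_imageι, hgΦ])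
  let sn := pullback.snd (b ≫ f.imageι) Φ
  have hsn : closure (Set.range g) ⊆ sn '' closure (Set.range u₁) := by
    refine closure_minimal ?_ (sn.isClosedMap _ isClosed_closure)
    rintro _ ⟨x, rfl⟩
    refine ⟨u₁ x, subset_closure ⟨x, rfl⟩, ?_⟩
    rw [← Scheme.Hom.comp_apply, pullback.lift_snd]
  obtain ⟨p, hp, rfl⟩ := hsn hz'
  let z₀ := pullback.fst (b ≫ f.imageι) Φ p
  obtain ⟨zt, hzt, hmem⟩ := Set.mem_iUnion₂.1 (hs (Set.mem_univ z₀))
  refine ⟨idx zt, fun hbad => ?_⟩
  let φ : pullback (b ≫ f.imageι) Φ ⟶ pullback (qi (idx zt)) (c (idx zt)) :=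
    pullback.lift (pullback.fst _ _) (sn ≫ WidePullback.π (fun i => c i ≫ gb i) (idx zt)) (by
      have := congrArg (· ≫ WidePullback.π gb (idx zt)) (pullback.condition (f := b ≫ f.imageι) (g := Φ))
      simp only [Category.assoc, Φ, WidePullback.lift_π] at this
      simp only [qi, pr, Category.assoc, sn]
      exact this)
  have hcl : φ p ∈ closure ((fun z => (pullback.fst (qi (idx zt)) (c (idx zt))) z) ⁻¹' (Ut : Set Zt)) := by
    refine closure_mono ?_ (image_closure_subset_closure_image φ.continuous ⟨p, hp, rfl⟩)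
    rintro _ ⟨_, ⟨x, rfl⟩, rfl⟩
    show pullback.fst (qi (idx zt)) (c (idx zt)) (φ (u₁ x)) ∈ Ut
    rw [← Scheme.Hom.comp_apply, ← Scheme.Hom.comp_apply, pullback.lift_fst, pullback.lift_fst]
    show b (ut x) ∈ R
    rw [← Scheme.Hom.comp_apply, hut]
    exact ⟨x, rfl⟩
  have h := h𝓔 (idx zt) _ (c (idx zt)) (hc _) ⟨?_, hcl⟩
  · apply h
    show pullback.fst (qi (idx zt)) (c (idx zt)) (φ p) ∈ O (idx zt)
    rw [← Scheme.Hom.comp_apply, pullback.lift_fst]
    simp only [O, TopologicalSpace.Opens.mem_iSup]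
    exact ⟨zt, Finset.mem_filter.2 ⟨hzt, rfl⟩, hmem⟩
  · have e : pullback.snd (qi (idx zt)) (c (idx zt)) (φ p) = WidePullback.π (fun i => c i ≫ gb i) (idx zt) (sn p) := by
      rw [← Scheme.Hom.comp_apply, pullback.lift_snd]; rfl
    simp only [Set.mem_preimage]
    rw [e]
    exact hbad

end Groth.Agent.S17394
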