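import Groth.Statements.S17411
import Groth.Agent.Lib.VarDim.Scheme
import Mathlib.AlgebraicGeometry.Noetherian
import Mathlib.AlgebraicGeometry.Morphisms.FiniteType

set_option autoImplicit false
universe u
open CategoryTheory AlgebraicGeometry
open Prym5

namespace Groth.Agent.S17411

/-- Let k be an algebraically closed field of characteristic zero and X, Y, Z schemes of finite type
over k, with Y and Z irreducible of the same dimension, η : Y → Z a dominant k-morphism and ρ : X →
Y a k-morphism. Then the composite ρ ≫ η is dominant exactly when ρ is dominant. (The published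
statement concerns the forgetful map from the moduli space of étale double covers of genus-five
curves to the moduli space of genus-five curves, both irreducible of dimension 12, and a morphism
into the former; its argument uses only the hypotheses kept here.) -/
theorem result (k : Type u) [Field k] [IsAlgClosed k]
    [CharZero k] (X Y Z : Scheme.{u}) [X.Over (Spec (CommRingCat.of k))] [Y.Over (Spec (CommRingCat.of k))]
    [Z.Over (Spec (CommRingCat.of k))]
    [LocallyOfFiniteType (X ↘ Spec (CommRingCat.of k))] [QuasiCompact (X ↘ Spec (CommRingCat.of k))]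
    [LocallyOfFiniteType (Y ↘ Spec (CommRingCat.of k))] [QuasiCompact (Y ↘ Spec (CommRingCat.of k))]
    [LocallyOfFiniteType (Z ↘ Spec (CommRingCat.of k))] [QuasiCompact (Z ↘ Spec (CommRingCat.of k))]
    [IrreducibleSpace Y] [IrreducibleSpace Z] (hdim : topologicalKrullDim Y = topologicalKrullDim Z)
    (ρ : X ⟶ Y) [ρ.IsOver (Spec (CommRingCat.of k))] (η : Y ⟶ Z) [η.IsOver (Spec (CommRingCat.of k))]
    [IsDominant η] :
    IsDominant (ρ ≫ η) ↔ IsDominant ρ := by
  constructor
  swap
  · intro h; exact inferInstance
  intro hd
  let S := Spec (CommRingCat.of k)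
  let fX := X ↘ S
  let fY := Y ↘ S
  let fZ := Z ↘ S
  have hη : η ≫ fZ = fY := CategoryTheory.comp_over η S
  haveI : LocallyOfFiniteType η := by
    haveI : LocallyOfFiniteType (η ≫ fZ) := hη ▸ inferInstance
    exact locallyOfFiniteType_of_comp η fZ
  haveI : IsLocallyNoetherian X := LocallyOfFiniteType.isLocallyNoetherian fX
  haveI : CompactSpace X := QuasiCompact.compactSpace_of_compactSpace fX
  haveI : AlgebraicGeometry.IsNoetherian X := {}
  have hfin : (irreducibleComponents X).Finite := TopologicalSpace.NoetherianSpace.finite_irreducibleComponents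
  have hgen : ∃ x : X, η (ρ x) = genericPoint Z := by
    classical
    haveI : Finite (irreducibleComponents X) := hfin
    let ξ : irreducibleComponents X → X := fun s => (s.2.1).genericPoint
    have hcl : IsClosed (⋃ s, closure {(ρ ≫ η) (ξ s)}) := isClosed_iUnion_of_finite fun _ => isClosed_closure
    have hsub : Set.range (ρ ≫ η) ⊆ ⋃ s, closure {(ρ ≫ η) (ξ s)} := by
      rintro _ ⟨x, rfl⟩
      refine Set.mem_iUnion.2 ⟨⟨irreducibleComponent x, irreducibleComponent_mem_irreducibleComponents x⟩, ?_⟩
      rw [← specializes_iff_mem_closure]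
      refine Specializes.map ?_ (ρ ≫ η).continuous
      rw [specializes_iff_mem_closure]
      have := IsIrreducible.isGenericPoint_genericPoint_closure
        ((irreducibleComponent_mem_irreducibleComponents x).1)
      rw [this.def]
      exact subset_closure mem_irreducibleComponent
    have := hcl.closure_subset_iff.2 hsub ((ρ ≫ η).denseRange.closure_eq ▸ Set.mem_univ (genericPoint Z))
    obtain ⟨s, hs⟩ := Set.mem_iUnion.1 this
    refine ⟨ξ s, Specializes.antisymm (specializes_iff_mem_closure.2 hs) (genericPoint_specializes _) |>.eq⟩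
  obtain ⟨x, hx⟩ := hgen
  have hy : ρ x = genericPoint Y := by
    by_contra hne
    have h1 := Groth.Agent.VarDim.sdim_lt_of_specializes fY (genericPoint_specializes (ρ x)) (Ne.symm hne)
    have h2 := Groth.Agent.VarDim.sdim_le_comp fZ η (ρ x)
    rw [hη, hx] at h2
    have h3 := Groth.Agent.VarDim.dim_eq_sdim_genericPoint fY
    have h4 := Groth.Agent.VarDim.dim_eq_sdim_genericPoint fZ
    rw [h3, h4] at hdim
    have h5 : Groth.Agent.VarDim.sdim fY (genericPoint Y) = Groth.Agent.VarDim.sdim fZ (genericPoint Z) := by
      exact_mod_cast hdim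
    omega
  refine ⟨dense_iff_closure_eq.2 (Set.eq_univ_of_univ_subset ?_)⟩
  rw [← (genericPoint_spec Y).def, ← hy]
  exact closure_mono (Set.singleton_subset_iff.2 ⟨x, rfl⟩)

end Groth.Agent.S17411
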