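import Groth.Statements.S17412
import Groth.Agent.S1612
import Groth.Agent.Lib.PicPn.Aut
import Groth.Agent.Lib.Curve17.ProjSep
import Groth.Agent.Lib.CurveCoh17.HZero
import Groth.Agent.Lib.AmpleFib.CurveRel
import Groth.Agent.Lib.VB17.Proper

set_option autoImplicit false
set_option linter.style.haveILetI false
set_option backward.isDefEq.respectTransparency false
set_option maxHeartbeats 4000000
universe u
open CategoryTheory CategoryTheory.Limits AlgebraicGeometry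
open Prym5

namespace Groth.Agent.S17412

section Helpers

open Groth.Agent.M1 Groth.Agent.Twist TopologicalSpace MvPolynomial

variable {k : Type u} [Field k] {n : ℕ}

local notation "𝒢" => CohB1.polyGrading n k
local notation "A" => MvPolynomial (Fin (n + 1)) k
local notation "O1" => _root_.Twist.twist (CohB1.polyGrading n k) 1

variable {X : Scheme.{u}}

theorem sec_linForm (pX : X ⟶ Spec (CommRingCat.of k)) (r : X ⟶ Proj 𝒢)
    (hr : r ≫ CohB1.ProjSpace.toSpec n k = pX) (c : Fin (n + 1) → k) :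
    ProjUP.sec 𝒢 r (Curve17.linForm_mem c) = Curve17.vSec pX r c := by
  refine TopCat.Presheaf.section_ext ⟨_, ((Scheme.Modules.pullback r).obj O1).isSheaf⟩ ⊤ _ _ fun P hPt => ?_
  obtain ⟨i, hi⟩ := Curve17.exists_X_notMem (r P)
  have hP : P ∈ r ⁻¹ᵁ Proj.basicOpen 𝒢 (MvPolynomial.X i) := hi
  refine Eq.trans ?_ (Curve17.germ_vSec pX r i P hP hr c).symm
  rw [← germ_mres _ (le_top : r ⁻¹ᵁ Proj.basicOpen 𝒢 (MvPolynomial.X i) ≤ ⊤) hP,
    ProjUP.sec_eq_ev_smul 𝒢 r (Curve17.X_mem i) (Curve17.linForm_mem c) _ le_rfl, germ_smul]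
  rfl

/-- The substituted coordinate on the chart of a linear form. -/
theorem ev_lmap (g : GL (Fin (n + 1)) k) (r : X ⟶ Proj 𝒢) (m a : Fin (n + 1)) (U : X.Opens)
    (hU : U ≤ r ⁻¹ᵁ Proj.basicOpen 𝒢 (PicPn.lin (g : Matrix (Fin (n + 1)) (Fin (n + 1)) k) m))
    (hU' : U ≤ (r ≫ PicPn.lmap g) ⁻¹ᵁ Proj.basicOpen 𝒢 (MvPolynomial.X m : A)) :
    ProjUP.ev 𝒢 (ProjSpace.X_mem' n k m) (r ≫ PicPn.lmap g) U hU' (MvPolynomial.X a) =
      ProjUP.ev 𝒢 (PicPn.lin_mem (g : Matrix (Fin (n + 1)) (Fin (n + 1)) k) m) r U hU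
        (PicPn.lin (g : Matrix (Fin (n + 1)) (Fin (n + 1)) k) a) := by
  let M := (g : Matrix (Fin (n + 1)) (Fin (n + 1)) k)
  let V : (Proj 𝒢).Opens := Proj.basicOpen 𝒢 (PicPn.lin M m)
  have hV : V ≤ PicPn.lmap g ⁻¹ᵁ Proj.basicOpen 𝒢 (MvPolynomial.X m : A) := fun y hy => by
    show PicPn.sub M (MvPolynomial.X m) ∉ (y : ProjectiveSpectrum 𝒢).asHomogeneousIdeal
    rw [PicPn.sub_X]
    exact hy
  rw [← ProjUP.ev_comp 𝒢 (ProjSpace.X_mem' n k m) r (PicPn.lmap g) hV hU, ProjUP.ev_apply 𝒢 (PicPn.lin_mem M m)]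
  refine congrArg (r.appLE V U hU) (sectionO_ext fun y hy => ?_)
  have h1 := PicPn.valO_ev_lmap g m a V hV y hy
  refine (PicPn.isUnit_alg (show PicPn.lin M m ∉ y.asHomogeneousIdeal from hy)).mul_right_cancel (h1.trans ?_)
  rw [ProjUP.valO_awayToSection_dehom 𝒢 (PicPn.lin_mem M m) (PicPn.lin_mem M a) y hy, Localization.mk_eq_mk']
  simp only [pow_one]
  exact (IsLocalization.mk'_spec _ _ _).symm

/-- Two maps with the same linear series differ by a linear substitution. -/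
theorem eq_comp_lmap (g : GL (Fin (n + 1)) k) (r r' : X ⟶ Proj 𝒢)
    (hbase : r ≫ CohB1.ProjSpace.toSpec n k = r' ≫ CohB1.ProjSpace.toSpec n k)
    (τ : (Scheme.Modules.pullback r').obj O1 ≅ (Scheme.Modules.pullback r).obj O1)
    (hτ : ∀ j, τ.hom.app ⊤ (ProjUP.sec 𝒢 r' (ProjSpace.X_mem' n k j)) =
      ProjUP.sec 𝒢 r (PicPn.lin_mem (g : Matrix (Fin (n + 1)) (Fin (n + 1)) k) j)) :
    r ≫ PicPn.lmap g = r' := by
  let M := (g : Matrix (Fin (n + 1)) (Fin (n + 1)) k)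
  refine Segre.ext_of_co k ?_ fun x => ?_
  · show (r ≫ PicPn.lmap g) ≫ CohB1.ProjSpace.toSpec n k = r' ≫ CohB1.ProjSpace.toSpec n k
    rw [Category.assoc, PicPn.lmap_toSpec, hbase]
  · obtain ⟨m, hm⟩ := Curve17.exists_X_notMem (r' x)
    let D' := r' ⁻¹ᵁ Proj.basicOpen 𝒢 (MvPolynomial.X m : A)
    have hgen : IsGen ((Scheme.Modules.pullback r).obj O1) D' (mres _ (le_top : D' ≤ ⊤)
        (ProjUP.sec 𝒢 r (PicPn.lin_mem M m))) := by
      have h := ProjDeg17.isGen_app_iso τ (ProjUP.isGen_sec 𝒢 r' (ProjSpace.X_mem' n k m))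
      rwa [app_mres, hτ] at h
    let D := r ⁻¹ᵁ Proj.basicOpen 𝒢 (PicPn.lin M m)
    have hle : D' ≤ D := by
      intro y hy
      obtain ⟨l, hl⟩ := Curve17.exists_X_notMem (r y)
      let W := D' ⊓ r ⁻¹ᵁ Proj.basicOpen 𝒢 (MvPolynomial.X l : A)
      have hW : W ≤ r ⁻¹ᵁ Proj.basicOpen 𝒢 (MvPolynomial.X l : A) := inf_le_right
      obtain ⟨e, he⟩ := (hgen W inf_le_left).2 (mres _ (le_top : W ≤ ⊤) (ProjUP.sec 𝒢 r (ProjSpace.X_mem' n k l)))
      simp only [mres_mres] at he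
      rw [ProjUP.sec_eq_ev_smul 𝒢 r (ProjSpace.X_mem' n k l) (PicPn.lin_mem M m) W hW, ← mul_smul] at he
      have he1 : e * ProjUP.ev 𝒢 (ProjSpace.X_mem' n k l) r W hW (PicPn.lin M m) = 1 :=
        ((ProjUP.isGen_sec_of_le 𝒢 r (ProjSpace.X_mem' n k l) hW) W le_rfl).1 (by
          simpa only [mres_id, one_smul] using he)
      have hd := X.basicOpen_of_isUnit (IsUnit.of_mul_eq_one_right _ he1)
      rw [ProjUP.basicOpen_ev 𝒢 (ProjSpace.X_mem' n k l) r W hW (PicPn.lin_mem M m)] at hd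
      exact (hd.ge (show y ∈ W from ⟨hy, hl⟩)).2
    have hU₁ : D' ≤ (r ≫ PicPn.lmap g) ⁻¹ᵁ Proj.basicOpen 𝒢 (MvPolynomial.X m : A) := fun y hy => by
      show PicPn.sub M (MvPolynomial.X m) ∉ (r y : ProjectiveSpectrum 𝒢).asHomogeneousIdeal
      rw [PicPn.sub_X]
      exact hle hy
    refine ⟨m, D', hU₁, le_rfl, hm, fun a => ?_⟩
    refine (ev_lmap g r m a D' hle hU₁).trans ?_
    have h1 := congrArg (τ.hom.app D') (ProjUP.sec_eq_ev_smul 𝒢 r' (ProjSpace.X_mem' n k m) (ProjSpace.X_mem' n k a) D' le_rfl)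
    rw [Scheme.Modules.Hom.app_smul, app_mres, app_mres, hτ, hτ,
      ProjUP.sec_eq_ev_smul 𝒢 r (PicPn.lin_mem M m) (PicPn.lin_mem M a) D' hle] at h1
    exact ((ProjUP.isGen_sec_of_le 𝒢 r (PicPn.lin_mem M m) hle) D' le_rfl).1 (by
      simpa only [mres_id] using h1)

theorem vSec_injective (pX : X ⟶ Spec (CommRingCat.of k)) (r : X ⟶ Proj 𝒢)
    (hr : r ≫ CohB1.ProjSpace.toSpec n k = pX)
    (hnd : Function.Injective
      (((Scheme.Modules.pullbackPushforwardAdjunction r).unit.app (_root_.Twist.twistProjSpace n k 1)).app ⊤))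
    {c : Fin (n + 1) → k} (hc : Curve17.vSec pX r c = 0) : c = 0 := by
  have h0 : ProjUP.sec 𝒢 r (Curve17.linForm_mem c) = 0 := (sec_linForm pX r hr c).trans hc
  have h1 : _root_.Twist.globalOf 𝒢 (⟨Curve17.linForm c, Curve17.linForm_mem c⟩ : 𝒢 1) = 0 :=
    hnd (h0.trans (map_zero _).symm)
  have h2 : (⟨Curve17.linForm c, Curve17.linForm_mem c⟩ : 𝒢 1) = 0 := by
    refine (Twist.globalOf_bijective_polyGrading (R := k) (n := n) 1).1 (h1.trans (Twist.sec_ext fun x hx => ?_))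
    exact (Localization.mk_zero _).symm.trans (Twist.val_globalOf 𝒢 0 x hx fun h => x.isPrime.ne_top ((Ideal.eq_top_iff_one _).mpr h)).symm
  funext j
  have := congrArg (MvPolynomial.eval (Pi.single j (1 : k))) (congrArg Subtype.val h2)
  simpa [Curve17.linForm, Pi.single_apply, eq_comm] using this

theorem vSec_comp_injective [IsIntegral X] {Y : Scheme.{u}} (φ : Y ⟶ X) [IsIso φ]
    (pX : X ⟶ Spec (CommRingCat.of k)) (r : X ⟶ Proj 𝒢) (hr : r ≫ CohB1.ProjSpace.toSpec n k = pX)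
    (hinj : ∀ {c : Fin (n + 1) → k}, Curve17.vSec pX r c = 0 → c = 0)
    {c : Fin (n + 1) → k} (hc : Curve17.vSec (φ ≫ pX) (φ ≫ r) c = 0) : c = 0 := by
  refine hinj ?_
  rw [← sec_linForm pX r hr c]
  obtain ⟨j, hj⟩ := Curve17.exists_X_notMem (r (genericPoint X))
  let V := r ⁻¹ᵁ Proj.basicOpen 𝒢 (MvPolynomial.X j : A)
  let U := φ ⁻¹ᵁ V
  have hsec : ProjUP.sec 𝒢 (φ ≫ r) (Curve17.linForm_mem c) = 0 :=
    (sec_linForm (φ ≫ pX) (φ ≫ r) (by rw [Category.assoc, hr]) c).trans hc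
  have hev : ProjUP.ev 𝒢 (ProjSpace.X_mem' n k j) (φ ≫ r) U le_rfl (Curve17.linForm c) = 0 :=
    ((ProjUP.isGen_sec_of_le 𝒢 (φ ≫ r) (ProjSpace.X_mem' n k j) (U := U) le_rfl) U le_rfl).1 (by
      simp only [mres_id, zero_smul]
      rw [← ProjUP.sec_eq_ev_smul 𝒢 (φ ≫ r) (ProjSpace.X_mem' n k j) (Curve17.linForm_mem c) U le_rfl, hsec, map_zero])
  have hev' : ProjUP.ev 𝒢 (ProjSpace.X_mem' n k j) r V le_rfl (Curve17.linForm c) = 0 := by
    rw [← ProjUP.ev_comp 𝒢 (ProjSpace.X_mem' n k j) φ r (U := V) (V := U) le_rfl le_rfl,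
      Scheme.Hom.appLE_eq_app] at hev
    exact (ConcreteCategory.bijective_of_isIso (φ.app V)).1 (hev.trans (map_zero _).symm)
  refine CurveCoh17.eq_zero_of_germ_eq_zero (E := (Scheme.Modules.pullback r).obj O1)
    ((M2.isInvertible_iff_isFinLocFreeOfRank_one _).1
      (Twist.isInvertible_pullback r (Twist.isInvertible_twistProjSpace n k 1)))
    (ProjUP.sec 𝒢 r (Curve17.linForm_mem c)) (x := genericPoint X) ?_
  rw [← germ_mres _ (le_top : V ≤ ⊤) (show genericPoint X ∈ V from hj),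
    ProjUP.sec_eq_ev_smul 𝒢 r (ProjSpace.X_mem' n k j) (Curve17.linForm_mem c) V le_rfl, hev', zero_smul, map_zero]

theorem exists_lmap [X.Over (Spec (CommRingCat.of k))]
    (r r' : X ⟶ Proj 𝒢) (hr : r ≫ CohB1.ProjSpace.toSpec n k = X ↘ Spec (CommRingCat.of k))
    (hr' : r' ≫ CohB1.ProjSpace.toSpec n k = X ↘ Spec (CommRingCat.of k))
    (τ : (Scheme.Modules.pullback r').obj O1 ≅ (Scheme.Modules.pullback r).obj O1)
    (hfr : Module.finrank k (Coh.HH X ((Scheme.Modules.pullback r).obj O1) 0) = n + 1)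
    (hinj : ∀ {c : Fin (n + 1) → k}, Curve17.vSec (X ↘ Spec (CommRingCat.of k)) r c = 0 → c = 0)
    (hinj' : ∀ {c : Fin (n + 1) → k}, Curve17.vSec (X ↘ Spec (CommRingCat.of k)) r' c = 0 → c = 0) :
    ∃ g : GL (Fin (n + 1)) k, r ≫ PicPn.lmap g = r' := by
  classical
  let pX := X ↘ Spec (CommRingCat.of k)
  let L := (Scheme.Modules.pullback r).obj O1
  let v : Fin (n + 1) → Coh.HH X L 0 := fun j => (CurveCoh17.hh0 L).symm (ProjUP.sec 𝒢 r (Curve17.X_mem j))
  have hsum : ∀ c : Fin (n + 1) → k, CurveCoh17.hh0 L (∑ j, c j • v j) = Curve17.vSec pX r c := fun c => by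
    rw [map_sum]
    refine Finset.sum_congr rfl fun j _ => ?_
    refine (CurveCoh17.hh0_smul (M := L) _ _).trans ?_
    rw [AddEquiv.apply_symm_apply]
    rfl
  have hv : LinearIndependent k v := Fintype.linearIndependent_iff.2 fun c hc => by
    refine congrFun (hinj ?_)
    rw [← hsum, hc, map_zero]
  have hspan : Submodule.span k (Set.range v) = ⊤ :=
    hv.span_eq_top_of_card_eq_finrank (by rw [Fintype.card_fin, hfr])
  have hsurj : ∀ t : Γ(L, ⊤), ∃ c : Fin (n + 1) → k, Curve17.vSec pX r c = t := fun t => by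
    obtain ⟨c, hc⟩ := (Submodule.mem_span_range_iff_exists_fun k).1
      (hspan ▸ Submodule.mem_top : (CurveCoh17.hh0 L).symm t ∈ Submodule.span k (Set.range v))
    exact ⟨c, by rw [← hsum, hc, AddEquiv.apply_symm_apply]⟩
  choose M hM using fun j => hsurj (τ.hom.app ⊤ (ProjUP.sec 𝒢 r' (Curve17.X_mem j)))
  have hdet : (Matrix.of M).det ≠ 0 := by
    intro hd
    obtain ⟨c, hc, hcM⟩ := Matrix.exists_vecMul_eq_zero_iff.2 hd
    refine hc (hinj' ?_)
    have h0 : τ.hom.app ⊤ (Curve17.vSec pX r' c) = 0 := by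
      rw [Curve17.vSec, map_sum]
      simp only [Scheme.Modules.Hom.app_smul, ← hM, Curve17.vSec, Finset.smul_sum, ← mul_smul, ← map_mul]
      rw [Finset.sum_comm]
      refine Finset.sum_eq_zero fun i _ => ?_
      rw [← Finset.sum_smul, ← map_sum, show (∑ j, c j * M j i) = 0 from congrFun hcM i, map_zero, zero_smul]
    have h := congrArg (τ.inv.app ⊤) h0
    rw [← CategoryTheory.comp_apply, ← Scheme.Modules.Hom.comp_app, τ.hom_inv_id, map_zero] at h
    exact h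
  refine ⟨Matrix.GeneralLinearGroup.mkOfDetNeZero (Matrix.of M) hdet, eq_comp_lmap _ r r' (hr.trans hr'.symm) τ fun j => ?_⟩
  refine (hM j).symm.trans ((sec_linForm pX r hr (M j)).symm.trans ?_)
  rfl

end Helpers

/-- Let k be an algebraically closed field of characteristic zero, g ≥ 3, and X₁, X₂ smooth proper
integral curves of genus g over k. Suppose each X_j is canonically embedded: i_j : X_j → P^{g-1}_k
is a closed immersion over k, the pullback i_j^* O(1) is isomorphic to the sheaf of differentials of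
X_j over k, and X_j lies in no hyperplane (the restriction map from the global sections of O(1) to
those of i_j^* O(1) is injective). Then X₁ and X₂ are isomorphic over k exactly when they are
projectively equivalent: there are a k-automorphism σ of P^{g-1}_k and an isomorphism ψ : X₁ ≅ X₂
with i₁ ≫ σ = ψ ≫ i₂. (Projective equivalence is expressed through k-automorphisms of the scheme
P^{g-1}_k; that these are exactly the projective linear transformations is classical and not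
restated.) -/
theorem result (k : Type u) [Field k] [IsAlgClosed k]
    [CharZero k] (g : ℕ) (hg : 3 ≤ g)
    (X₁ X₂ : Scheme.{u}) [X₁.Over (Spec (CommRingCat.of k))] [X₂.Over (Spec (CommRingCat.of k))]
    [AlgebraicGeometry.IsIntegral X₁] [AlgebraicGeometry.IsIntegral X₂]
    [IsProper (X₁ ↘ Spec (CommRingCat.of k))] [IsProper (X₂ ↘ Spec (CommRingCat.of k))]
    [Smooth (X₁ ↘ Spec (CommRingCat.of k))] [Smooth (X₂ ↘ Spec (CommRingCat.of k))]
    (hd₁ : topologicalKrullDim X₁ = 1) (hd₂ : topologicalKrullDim X₂ = 1)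
    (hg₁ : Curv2.genus k X₁ = g) (hg₂ : Curv2.genus k X₂ = g)
    (i₁ : X₁ ⟶ CohB1.ProjSpace (g - 1) k) (i₂ : X₂ ⟶ CohB1.ProjSpace (g - 1) k)
    [IsClosedImmersion i₁] [IsClosedImmersion i₂]
    (hi₁ : i₁ ≫ CohB1.ProjSpace.toSpec (g - 1) k = X₁ ↘ Spec (CommRingCat.of k))
    (hi₂ : i₂ ≫ CohB1.ProjSpace.toSpec (g - 1) k = X₂ ↘ Spec (CommRingCat.of k))
    (e₁ : (Scheme.Modules.pullback i₁).obj (Twist.twistProjSpace (g - 1) k 1)
      ≅ Omega.sheaf (X₁ ↘ Spec (CommRingCat.of k)))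
    (e₂ : (Scheme.Modules.pullback i₂).obj (Twist.twistProjSpace (g - 1) k 1)
      ≅ Omega.sheaf (X₂ ↘ Spec (CommRingCat.of k)))
    (hnd₁ : Function.Injective
      (((Scheme.Modules.pullbackPushforwardAdjunction i₁).unit.app (Twist.twistProjSpace (g - 1) k 1)).app ⊤))
    (hnd₂ : Function.Injective
      (((Scheme.Modules.pullbackPushforwardAdjunction i₂).unit.app (Twist.twistProjSpace (g - 1) k 1)).app ⊤)) :
    (∃ φ : X₁ ≅ X₂, φ.hom ≫ (X₂ ↘ Spec (CommRingCat.of k)) = X₁ ↘ Spec (CommRingCat.of k)) ↔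
      ∃ (σ : CohB1.ProjSpace (g - 1) k ≅ CohB1.ProjSpace (g - 1) k) (ψ : X₁ ≅ X₂),
        σ.hom ≫ CohB1.ProjSpace.toSpec (g - 1) k = CohB1.ProjSpace.toSpec (g - 1) k ∧
        i₁ ≫ σ.hom = ψ.hom ≫ i₂ := by
  classical
  constructor
  swap
  · rintro ⟨σ, ψ, hσ, h⟩
    refine ⟨ψ, ?_⟩
    rw [← hi₂, ← Category.assoc, ← h, Category.assoc, hσ, hi₁]
  rintro ⟨φ, hφ⟩
  have h01 := (Groth.Agent.VB17.curveLike (k := k) (X := X₁) hd₁).h0_eq_one
  have hfr := (Groth.Agent.S1612.result k X₁ ⟨inferInstance, inferInstance, inferInstance, hd₁⟩ h01).1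
  obtain ⟨ω⟩ := Groth.Agent.AmpleFib.nonempty_omega_pullback
    (IsPullback.of_horiz_isIso (fst := φ.hom) (snd := X₁ ↘ Spec (CommRingCat.of k))
      (f := X₂ ↘ Spec (CommRingCat.of k)) (g := 𝟙 _) ⟨by rw [hφ, Category.comp_id]⟩)
  let τ : (Scheme.Modules.pullback (φ.hom ≫ i₂)).obj (_root_.Twist.twistProjSpace (g - 1) k 1) ≅
      (Scheme.Modules.pullback i₁).obj (_root_.Twist.twistProjSpace (g - 1) k 1) :=
    ((Scheme.Modules.pullbackComp φ.hom i₂).app _).symm ≪≫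
      (Scheme.Modules.pullback φ.hom).mapIso e₂ ≪≫ ω ≪≫ e₁.symm
  have hfr' : Module.finrank k (Coh.HH X₁ ((Scheme.Modules.pullback i₁).obj (_root_.Twist.twistProjSpace (g - 1) k 1)) 0) = g - 1 + 1 := by
    have := LinearEquiv.finrank_eq (LinearEquiv.ofLinear (Groth.Agent.CurveCoh17.hmap k e₁.hom 0) (Groth.Agent.CurveCoh17.hmap k e₁.inv 0)
      (LinearMap.ext fun x => by
        rw [LinearMap.comp_apply, ← Groth.Agent.CurveCoh17.hmap_comp, e₁.inv_hom_id, Groth.Agent.CurveCoh17.hmap_id]; rfl)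
      (LinearMap.ext fun x => by
        rw [LinearMap.comp_apply, ← Groth.Agent.CurveCoh17.hmap_comp, e₁.hom_inv_id, Groth.Agent.CurveCoh17.hmap_id]; rfl))
    omega
  have hr' : (φ.hom ≫ i₂) ≫ CohB1.ProjSpace.toSpec (g - 1) k = X₁ ↘ Spec (CommRingCat.of k) := by
    rw [Category.assoc, hi₂, hφ]
  obtain ⟨M, hM⟩ := exists_lmap (X := X₁) i₁ (φ.hom ≫ i₂) hi₁ hr' τ hfr'
    (fun {c} hc => vSec_injective _ i₁ hi₁ hnd₁ hc)
    (fun {c} hc => vSec_comp_injective φ.hom _ i₂ hi₂ (fun {c} h => vSec_injective _ i₂ hi₂ hnd₂ h)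
      (by rwa [hφ]))
  exact ⟨⟨Groth.Agent.PicPn.lmap M, Groth.Agent.PicPn.lmap M⁻¹,
    by rw [← Groth.Agent.PicPn.lmap_mul, inv_mul_cancel, Groth.Agent.PicPn.lmap_one],
    by rw [← Groth.Agent.PicPn.lmap_mul, mul_inv_cancel, Groth.Agent.PicPn.lmap_one]⟩,
    φ, Groth.Agent.PicPn.lmap_toSpec M, hM⟩

end Groth.Agent.S17412
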