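import Groth.Statements.S17413
import Groth.Agent.Lib.CotInj.Alg
import Groth.Agent.Lib.GenSmooth18.Scheme
import Groth.Agent.Lib.SmoothReg17.Basic
import Groth.Agent.Lib.ShStab28.Scalar

set_option autoImplicit false
universe u
open CategoryTheory AlgebraicGeometry
open Prym5

namespace Groth.Agent.S17413

/-- Formally smooth local homomorphisms are injective on cotangent spaces along trivial residue extensions. -/
theorem mem_sq_of_formallySmooth {L R : Type u} [CommRing L] [IsLocalRing L] [CommRing R] [IsLocalRing R]
    (f : L →+* R) [IsLocalHom f] (hfs : f.FormallySmooth)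
    (hres : Function.Surjective ((IsLocalRing.residue R).comp f)) (a : L)
    (ha : a ∈ IsLocalRing.maximalIdeal L) (h : f a ∈ IsLocalRing.maximalIdeal R ^ 2) :
    a ∈ IsLocalRing.maximalIdeal L ^ 2 := by
  algebraize [f]
  haveI : Algebra.FormallySmooth L R := hfs
  let Q := L ⧸ IsLocalRing.maximalIdeal L ^ 2
  let J : Ideal Q := (IsLocalRing.maximalIdeal L).map (Ideal.Quotient.mk _)
  have hJ : J ^ 2 = ⊥ := by rw [← Ideal.map_pow, Ideal.map_quotient_self]
  have hker : RingHom.ker ((IsLocalRing.residue R).comp f) = IsLocalRing.maximalIdeal L := by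
    rw [← RingHom.comap_ker, IsLocalRing.ker_residue]
    ext z
    exact ⟨fun h hu => h (hu.map f), fun h => map_nonunit f _ h⟩
  let π : L →+* Q ⧸ J := (Ideal.Quotient.mk J).comp (Ideal.Quotient.mk _)
  have hπ : RingHom.ker ((IsLocalRing.residue R).comp f) ≤ RingHom.ker π := by
    rw [hker]
    intro z hz
    exact Ideal.Quotient.eq_zero_iff_mem.2 (Ideal.mem_map_of_mem _ hz)
  let g₀ : IsLocalRing.ResidueField R →+* Q ⧸ J := RingHom.liftOfSurjective _ hres ⟨π, hπ⟩
  let g : R →ₐ[L] Q ⧸ J :=
    { toRingHom := g₀.comp (IsLocalRing.residue R)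
      commutes' := fun z => RingHom.liftOfRightInverse_comp_apply _ _ (Function.rightInverse_surjInv hres) ⟨π, hπ⟩ z }
  let σ : R →ₐ[L] Q := Algebra.FormallySmooth.lift J ⟨2, hJ⟩ g
  have hm : (IsLocalRing.maximalIdeal R).map σ.toRingHom ≤ J := by
    rw [Ideal.map_le_iff_le_comap]
    intro z hz
    rw [Ideal.mem_comap, ← Ideal.Quotient.eq_zero_iff_mem]
    refine (Algebra.FormallySmooth.mk_lift J ⟨2, hJ⟩ g z).trans ?_
    show g₀ (IsLocalRing.residue R z) = 0
    rw [(IsLocalRing.residue_eq_zero_iff z).2 hz, map_zero]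
  have h0 : σ (f a) ∈ J ^ 2 := by
    refine Ideal.pow_right_mono hm 2 ?_
    rw [← Ideal.map_pow]
    exact Ideal.mem_map_of_mem σ.toRingHom h
  rw [hJ, Ideal.mem_bot] at h0
  rw [← Ideal.Quotient.eq_zero_iff_mem]
  exact (σ.commutes a).symm.trans h0


/-- Let k be an algebraically closed field of characteristic zero, X a reduced scheme of finite type
over k, Y an integral scheme of finite type over k and u : X → Y a k-morphism. Then u is dominant if
and only if there is a closed point P of X such that X is regular at P and the differential of u at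
P is surjective onto the tangent space of Y at u(P); surjectivity of the differential is written
dually as injectivity of the map of cotangent spaces m_{u(P)}/m_{u(P)}² → m_P/m_P² induced by the
local homomorphism of u at P. (The published statement asks only that Y be irreducible, puts no
condition on P and concludes that the scheme-theoretic image is all of Y. Without regularity at P
the backward implication fails: the inclusion of the union of the two coordinate axes into the
affine plane induces a bijection of tangent spaces at the origin and is not dominant. Without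
reducedness of Y the forward implication fails: the reduced line inside the doubled line y² = 0 is
dominant but its differential is nowhere surjective. For Y integral and u quasi-compact, dominance
is the same as the scheme-theoretic image being Y.) -/
theorem result (k : Type u) [Field k]
    [IsAlgClosed k] [CharZero k] (X Y : Scheme.{u})
    [X.Over (Spec (CommRingCat.of k))] [Y.Over (Spec (CommRingCat.of k))]
    [LocallyOfFiniteType (X ↘ Spec (CommRingCat.of k))] [QuasiCompact (X ↘ Spec (CommRingCat.of k))]
    [LocallyOfFiniteType (Y ↘ Spec (CommRingCat.of k))] [QuasiCompact (Y ↘ Spec (CommRingCat.of k))]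
    [AlgebraicGeometry.IsReduced X] [AlgebraicGeometry.IsIntegral Y] (u : X ⟶ Y) [u.IsOver (Spec (CommRingCat.of k))] :
    IsDominant u ↔
      ∃ P : X, IsClosed ({P} : Set X) ∧ IsRegularLocalRing (X.presheaf.stalk P) ∧
        ∀ a ∈ IsLocalRing.maximalIdeal (Y.presheaf.stalk (u P)),
          (u.stalkMap P).hom a ∈ IsLocalRing.maximalIdeal (X.presheaf.stalk P) ^ 2 →
            a ∈ IsLocalRing.maximalIdeal (Y.presheaf.stalk (u P)) ^ 2 := by
  classical
  let qX := X ↘ Spec (CommRingCat.of k)
  let qY := Y ↘ Spec (CommRingCat.of k)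
  haveI : IsLocallyNoetherian Y := LocallyOfFiniteType.isLocallyNoetherian qY
  haveI : IsLocallyNoetherian X := LocallyOfFiniteType.isLocallyNoetherian qX
  have hu : u ≫ qY = qX := comp_over u _
  haveI : LocallyOfFiniteType (u ≫ qY) := by rw [hu]; infer_instance
  haveI : LocallyOfFiniteType u := locallyOfFiniteType_of_comp u qY
  haveI : CompactSpace X := QuasiCompact.compactSpace_of_compactSpace qX
  haveI : IsNoetherian X := {}
  haveI : JacobsonSpace X := LocallyOfFiniteType.jacobsonSpace qX
  -- constants through the local homomorphism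
  have hconst : ∀ (P : X) (c : k), (u.stalkMap P).hom (Y.presheaf.germ ⊤ (u P) trivial (Coh.toGlobal qY c)) =
      X.presheaf.germ ⊤ P trivial (Coh.toGlobal qX c) := fun P c => by
    refine (Scheme.Hom.germ_stalkMap_apply u ⊤ P trivial _).trans ?_
    show X.presheaf.germ ⊤ P trivial ((qY.appTop ≫ u.appTop).hom ((Scheme.ΓSpecIso (CommRingCat.of k)).inv c)) = _
    rw [← Scheme.Hom.comp_appTop, hu]
    rfl
  constructor
  · intro hdom
    have hVd : Dense (qX.smoothLocus : Set X) := Scheme.Hom.dense_smoothLocus_of_perfectField qX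
    obtain ⟨x, hxV, hxη⟩ : ∃ x ∈ qX.smoothLocus, u x = genericPoint Y := by
      by_contra hne
      push Not at hne
      haveI : QuasiCompact u := by
        haveI : QuasiCompact (u ≫ qY) := by rw [hu]; infer_instance
        exact QuasiCompact.of_comp u qY
      haveI : CompactSpace Y := QuasiCompact.compactSpace_of_compactSpace qY
      haveI : IsNoetherian Y := {}
      have hC := u.isConstructible_image
        ((TopologicalSpace.NoetherianSpace.isCompact (qX.smoothLocus : Set X)).isConstructible qX.smoothLocus.2)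
      obtain ⟨W, hW, hd⟩ := Agent.GenSmooth18.exists_open_compl_of_constructible hC
        (fun ⟨x, hx, he⟩ => hne x hx he)
      obtain ⟨y, hyW, hy⟩ := (u.denseRange.dense_image u.continuous hVd).exists_mem_open W.2 hW
      exact Set.disjoint_left.1 hd hy hyW
    haveI : Smooth (qX.smoothLocus.ι ≫ qX) := by
      rw [← Scheme.Hom.smoothLocus_eq_top_iff, ← Scheme.Hom.preimage_smoothLocus_eq]
      exact Scheme.Opens.ι_preimage_self _
    have hreg : ∀ z ∈ qX.smoothLocus, IsRegularLocalRing (X.presheaf.stalk z) := fun z hz => by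
      haveI := Agent.SmoothReg17.isRegularLocalRing_stalk (qX.smoothLocus.ι ≫ qX) ⟨z, hz⟩
      exact IsRegularLocalRing.of_ringEquiv (qX.smoothLocus.stalkIso ⟨z, hz⟩).commRingCatIsoToRingEquiv
    haveI := Agent.GenSmooth18.charZero_functionField qY
    haveI := hreg x hxV
    obtain ⟨P, hP, hPc⟩ := nonempty_inter_closedPoints
      (Z := ((u.smoothLocus ⊓ qX.smoothLocus : X.Opens) : Set X))
      ⟨x, Agent.GenSmooth18.mem_smoothLocus u x hxη, hxV⟩ (u.smoothLocus ⊓ qX.smoothLocus : X.Opens).2.isLocallyClosed
    refine ⟨P, hPc, hreg P hP.2, mem_sq_of_formallySmooth (u.stalkMap P).hom hP.1 ?_⟩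
    intro z
    obtain ⟨c, hc⟩ := (Agent.ShStab28.bijective_const_residue k (X := X) hPc).2 z
    refine ⟨Y.presheaf.germ ⊤ (u P) trivial (Coh.toGlobal qY c), ?_⟩
    exact (congrArg (IsLocalRing.residue _) (hconst P c)).trans hc
  · rintro ⟨P, hP, hreg, hinj⟩
    haveI := hreg
    obtain ⟨U, hU, hQU, -⟩ := exists_isAffineOpen_mem_and_subset (show u P ∈ (⊤ : Y.Opens) from trivial)
    haveI : Nonempty U := ⟨⟨u P, hQU⟩⟩
    letI algA : Algebra k Γ(Y, U) :=
      ((qY.appLE ⊤ U le_top).hom.comp (Scheme.ΓSpecIso (CommRingCat.of k)).inv.hom).toAlgebra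
    haveI : Algebra.FiniteType k Γ(Y, U) :=
      RingHom.finiteType_algebraMap.1 ((qY.finiteType_appLE (isAffineOpen_top _) hU le_top).comp
        (RingHom.FiniteType.of_surjective _
          ((ConcreteCategory.isIso_iff_bijective (Scheme.ΓSpecIso (CommRingCat.of k)).inv).1 inferInstance).2))
    letI := Y.presheaf.algebra_section_stalk (⟨u P, hQU⟩ : U)
    haveI := hU.isLocalization_stalk ⟨u P, hQU⟩
    have hres : Function.Surjective ((IsLocalRing.residue (X.presheaf.stalk P)).comp ((u.stalkMap P).hom.comp
        ((algebraMap Γ(Y, U) (Y.presheaf.stalk (u P))).comp (algebraMap k Γ(Y, U))))) := fun z => by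
      obtain ⟨c, hc⟩ := (Agent.ShStab28.bijective_const_residue k (X := X) hP).2 z
      refine ⟨c, (congrArg (IsLocalRing.residue _) ?_).trans hc⟩
      refine Eq.trans ?_ (hconst P c)
      refine congrArg (u.stalkMap P).hom ?_
      exact Y.presheaf.germ_res_apply (homOfLE (le_top : U ≤ ⊤)) (u P) hQU _
    have hf : Function.Injective (u.stalkMap P).hom :=
      @Agent.CotInj.injective_of_cotangent k _ Γ(Y, U) _ _ algA _ (hU.primeIdealOf ⟨u P, hQU⟩).asIdeal _
        (Y.presheaf.stalk (u P)) _ _ _ _ _ (X.presheaf.stalk P) _ _ (u.stalkMap P).hom inferInstance hres hinj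
    haveI := Agent.RegLoc.isDomain (X.presheaf.stalk P)
    let b : Spec (X.presheaf.stalk P) := ⟨⊥, Ideal.bot_prime⟩
    have hb : (Spec.map (u.stalkMap P)) b = (⟨⊥, Ideal.bot_prime⟩ : Spec (Y.presheaf.stalk (u P))) :=
      PrimeSpectrum.ext ((RingHom.ker_eq_comap_bot _).symm.trans ((RingHom.injective_iff_ker_eq_bot _).1 hf))
    have hη : genericPoint Y ∈ Set.range (Y.fromSpecStalk (u P)) := by
      rw [Scheme.range_fromSpecStalk]; exact genericPoint_specializes _
    obtain ⟨p, hp⟩ := hη
    have hbot : Y.fromSpecStalk (u P) (⟨⊥, Ideal.bot_prime⟩ : Spec (Y.presheaf.stalk (u P))) = genericPoint Y := by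
      have hsp : (⟨⊥, Ideal.bot_prime⟩ : Spec (Y.presheaf.stalk (u P))) ⤳ p :=
        (PrimeSpectrum.le_iff_specializes _ _).1 bot_le
      exact (((hsp.map (Y.fromSpecStalk (u P)).continuous).antisymm (hp ▸ genericPoint_specializes _)).eq).trans hp
    have hmem : genericPoint Y ∈ Set.range u := by
      refine ⟨X.fromSpecStalk P b, ?_⟩
      rw [← hbot, ← hb]
      exact congrArg (fun g => g b) (congrArg (fun g : Spec (X.presheaf.stalk P) ⟶ Y => (g : Spec (X.presheaf.stalk P) → Y))
        (Scheme.SpecMap_stalkMap_fromSpecStalk u (x := P)).symm)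
    refine ⟨fun y => ?_⟩
    exact closure_mono (Set.singleton_subset_iff.2 hmem) ((genericPoint_specializes y).mem_closure)

end Groth.Agent.S17413
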