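import Groth.Statements.S17417
import Groth.Agent.Lib.FlatH4.PullFlat
import Groth.Agent.Lib.ModM1.Pull

set_option autoImplicit false
open CategoryTheory CategoryTheory.Limits AlgebraicGeometry
universe u
open ModSt

namespace Groth.Agent.S17417

theorem congr_self {Y Z : Scheme.{u}} (h : Y ⟶ Z) (M : Y.Modules) :
    (Scheme.Modules.pushforwardCongr (rfl : h = h)).hom.app M = 𝟙 _ := by
  refine Scheme.Modules.hom_ext _ _ fun U => ?_
  ext x
  simp

theorem hom_c_congr {X S : Scheme.{u}} {f : X ⟶ S} {A B : ModSt.Obj f} {φ ψ : A ⟶ B} (e : φ = ψ) :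
    ∃ ht : φ.top = ψ.top, φ.c ≫ (Scheme.Modules.pushforwardCongr ht).hom.app A.E = ψ.c := by
  subst e
  exact ⟨rfl, by rw [congr_self]; exact Category.comp_id _⟩

theorem hom_ext2 {X S : Scheme.{u}} {f : X ⟶ S} {A B : ModSt.Obj f} {φ ψ : A ⟶ B} (hb : φ.base = ψ.base)
    (ht : φ.top = ψ.top) (hc : φ.c ≫ (Scheme.Modules.pushforwardCongr ht).hom.app A.E = ψ.c) : φ = ψ := by
  obtain ⟨b, t, wp, wq, c, hcart⟩ := φ
  obtain ⟨b', t', wp', wq', c', hcart'⟩ := ψ
  cases hb
  cases ht
  dsimp only at hc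
  rw [congr_self] at hc
  erw [Category.comp_id] at hc
  cases hc
  rfl

theorem cart_universal {X S : Scheme.{u}} {f : X ⟶ S} {A B Z : ModSt.Obj f} (φ : A ⟶ B)
    (g : Z.base ⟶ A.base) (ψ : Z ⟶ B) (hg : g ≫ φ.base = ψ.base) :
    ∃! χ : Z ⟶ A, χ.base = g ∧ χ ≫ φ = ψ := by
  have w : ψ.top ≫ B.q = (Z.q ≫ g.left) ≫ φ.base.left := by
    rw [ψ.w_q, ← hg]; simp
  let t := φ.isPullback_top.lift ψ.top (Z.q ≫ g.left) w
  have ht₁ : t ≫ φ.top = ψ.top := φ.isPullback_top.lift_fst ..
  have ht₂ : t ≫ A.q = Z.q ≫ g.left := φ.isPullback_top.lift_snd ..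
  have htp : t ≫ A.p = Z.p := by rw [← φ.w_p, ← Category.assoc, ht₁, ψ.w_p]
  let e : (Scheme.Modules.pushforward φ.top).obj ((Scheme.Modules.pushforward t).obj Z.E) ≅
      (Scheme.Modules.pushforward ψ.top).obj Z.E :=
    (Scheme.Modules.pushforwardComp t φ.top).app Z.E ≪≫ (Scheme.Modules.pushforwardCongr ht₁).app Z.E
  obtain ⟨v, hv⟩ := (φ.cart ((Scheme.Modules.pushforward t).obj Z.E)).2 (ψ.c ≫ e.inv)
  dsimp only at hv
  have hv' : φ.c ≫ (Scheme.Modules.pushforward φ.top).map v ≫ e.hom = ψ.c := by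
    rw [← Category.assoc, hv, Category.assoc, e.inv_hom_id, Category.comp_id]
  have hcart : ModSt.IsCart t v := by
    intro M'
    let e' : (Scheme.Modules.pushforward φ.top).obj ((Scheme.Modules.pushforward t).obj M') ≅
        (Scheme.Modules.pushforward ψ.top).obj M' :=
      (Scheme.Modules.pushforwardComp t φ.top).app M' ≪≫ (Scheme.Modules.pushforwardCongr ht₁).app M'
    have key : ∀ w : Z.E ⟶ M', e'.homToEquiv (φ.c ≫ (Scheme.Modules.pushforward φ.top).map
        (v ≫ (Scheme.Modules.pushforward t).map w)) = ψ.c ≫ (Scheme.Modules.pushforward ψ.top).map w := by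
      intro w
      have nat : (Scheme.Modules.pushforward φ.top).map ((Scheme.Modules.pushforward t).map w) ≫ e'.hom =
          e.hom ≫ (Scheme.Modules.pushforward ψ.top).map w :=
        (Functor.whiskerLeft (𝟭 _) ((Scheme.Modules.pushforwardComp t φ.top).hom ≫
          (Scheme.Modules.pushforwardCongr ht₁).hom)).naturality w
      rw [Iso.homToEquiv_apply, Functor.map_comp, Category.assoc, Category.assoc, nat, ← hv', Category.assoc,
        Category.assoc]
    have hb := (ψ.cart M')
    rw [show (fun w : Z.E ⟶ M' => ψ.c ≫ (Scheme.Modules.pushforward ψ.top).map w) =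
      (e'.homToEquiv ∘ (fun u => φ.c ≫ (Scheme.Modules.pushforward φ.top).map u)) ∘
        (fun w => v ≫ (Scheme.Modules.pushforward t).map w) from funext fun w => (key w).symm] at hb
    exact ((e'.homToEquiv.bijective.comp (φ.cart _)).of_comp_iff' _).1 hb
  let χ : Z ⟶ A := ⟨g, t, htp, ht₂, v, hcart⟩
  have hcomp : χ ≫ φ = ψ := by
    refine hom_ext2 hg ht₁ ?_
    rw [ModSt.Obj.comp_c]
    simpa [e, χ] using hv'
  refine ⟨χ, ⟨rfl, hcomp⟩, ?_⟩
  rintro χ' ⟨hb', hcomp'⟩
  obtain ⟨b', t', wp', wq', c', cart'⟩ := χ'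
  dsimp only at hb'
  subst hb'
  have htt : t' = t := φ.isPullback_top.hom_ext
    ((congrArg ModSt.Obj.Hom.top hcomp').trans ht₁.symm) (wq'.trans ht₂.symm)
  subst htt
  obtain ⟨ht, hc⟩ := hom_c_congr hcomp'
  rw [ModSt.Obj.comp_c] at hc
  have hcv : c' = v := (φ.cart _).1 (by
    dsimp only
    rw [hv, Iso.eq_comp_inv]
    simpa [e] using hc)
  subst hcv
  rfl

theorem exists_lift {X S : Scheme.{u}} (f : X ⟶ S) (x : (ModSt.Coh f).obj) (V : Over S)
    (g : V ⟶ x.obj.base) :
    ∃ (y : (ModSt.Coh f).obj) (φ : y ⟶ x), (ModSt.Coh f).p.IsHomLift g φ := by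
  let sq := IsPullback.of_hasPullback x.obj.q g.left
  have hP : IsPullback (pullback.fst x.obj.q g.left ≫ x.obj.p) (pullback.snd x.obj.q g.left) f V.hom := by
    rw [← Over.w g]
    exact sq.paste_horiz x.obj.isPullback
  let A : ModSt.Obj f := ⟨V, _, _, _, hP, (Scheme.Modules.pullback (pullback.fst x.obj.q g.left)).obj x.obj.E⟩
  haveI : Coh.IsQCoh x.obj.E := M1.isFP_isQCoh x.property.2
  have hA : ModSt.IsCohObj A :=
    ⟨fun a => FlatH4.isFlatOverAt_baseChange sq x.obj.E a (x.property.1 _), M1.isFP_pullback _ x.property.2⟩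
  let ψ : A ⟶ x.obj :=
    { base := g
      top := pullback.fst x.obj.q g.left
      w_p := rfl
      w_q := pullback.condition
      c := (Scheme.Modules.pullbackPushforwardAdjunction _).unit.app x.obj.E
      cart := fun M' => by
        have := ((Scheme.Modules.pullbackPushforwardAdjunction (pullback.fst x.obj.q g.left)).homEquiv
          x.obj.E M').bijective
        convert this using 1
        funext v
        exact (Adjunction.homEquiv_unit _ _ _ _).symm }
  let ψ' : (⟨A, hA⟩ : (ModSt.Coh f).obj) ⟶ x := ObjectProperty.homMk ψ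
  exact ⟨⟨A, hA⟩, ψ', IsHomLift.map (ModSt.Coh f).p ψ'⟩

/-- Let `f : X ⟶ S` be a morphism of schemes. The category over `(Sch/S)` of finitely presented modules
flat over the base (objects over `T`: a cartesian square `X_T` over `T` and a finitely presented
`T`-flat module on `X_T`; morphisms: cartesian comparison maps over morphisms of bases) is fibred in
groupoids. (The source states this for a morphism of finite presentation of algebraic spaces `X → B`
over a base scheme and for modules whose support is moreover proper over the base; this row is the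
case of schemes with base `S = B`, for the category without the support condition, and for any
morphism `f`.) -/
theorem result {X S : Scheme.{u}} (f : X ⟶ S) :
    FibCat.IsFibGrpd (ModSt.Coh f).p := by
  refine ⟨fun {x} {V} g => exists_lift f x V g, fun {y x} φ => ⟨fun {z} g ψ hψ => ?_⟩⟩
  have hg : g ≫ φ.hom.base = ψ.hom.base :=
    IsHomLift.eq_of_isHomLift (ModSt.Coh f).p (g ≫ (ModSt.Coh f).p.map φ) ψ
  obtain ⟨χ, ⟨hb, hc⟩, hu⟩ := cart_universal φ.hom g ψ.hom hg
  subst hb
  refine ⟨ObjectProperty.homMk χ, ⟨IsHomLift.map (ModSt.Coh f).p (ObjectProperty.homMk χ), ?_⟩, ?_⟩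
  · exact ObjectProperty.hom_ext _ hc
  · rintro χ' ⟨h1, h2⟩
    haveI := h1
    exact ObjectProperty.hom_ext _ (hu χ'.hom
      ⟨(IsHomLift.eq_of_isHomLift (ModSt.Coh f).p _ χ').symm, congrArg (fun w => w.hom) h2⟩)

end Groth.Agent.S17417
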