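import Groth.Statements.S17428
import Mathlib.RingTheory.AdicCompletion.AsTensorProduct

set_option autoImplicit false
universe u
open FrobAlg

open TensorProduct

namespace Groth.Agent.S17428

/-- Let p be a prime, A a regular local ring of characteristic p whose absolute Frobenius a ↦ a^p is a
finite ring homomorphism, I an ideal of A and Â the I-adic completion of A. Then Spec Â → Spec A is
relatively perfect: the relative Frobenius Â ⊗_{A,Frob} A → Â, b ⊗ a ↦ b^p a, is bijective. (Â is
also flat over A since A is Noetherian, so the morphism is flat and relatively perfect. The instance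
hypothesis that Â has characteristic p holds as soon as I ≠ A.) -/
theorem result (p : ℕ) [Fact p.Prime]
    (A : Type u) [CommRing A] [IsRegularLocalRing A] [CharP A p] (hF : (frobenius A p).Finite)
    (I : Ideal A) [CharP (AdicCompletion I A) p] :
    Function.Bijective (FrobAlg.relFrob p A (AdicCompletion I A)) := by
  classical
  haveI : Module.Finite A (FrobAlg.Twist p A) := hF
  set J : Ideal A := I.map (frobenius A p) with hJ
  have hp0 : 0 < p := (Fact.out : p.Prime).pos
  have hJle : ∀ n, J ^ n ≤ I ^ n := fun n => by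
    refine Ideal.pow_right_mono (Ideal.map_le_iff_le_comap.2 fun x hx => ?_) n
    exact Ideal.pow_mem_of_mem I hx p hp0
  obtain ⟨c, hc⟩ : ∃ c, I ^ c ≤ J := Ideal.exists_pow_le_of_le_radical_of_fg
    (fun x hx => ⟨p, Ideal.mem_map_of_mem (frobenius A p) hx⟩) (IsNoetherian.noetherian I)
  have hc1 : I ^ (c + 1) ≤ J := le_trans (Ideal.pow_le_pow_right (Nat.le_succ c)) hc
  have hpow : ∀ n, I ^ ((c + 1) * n) ≤ J ^ n := fun n => by
    rw [pow_mul]; exact Ideal.pow_right_mono hc1 n
  have hmem : ∀ n (a : A), FrobAlg.toTwist p A a ∈ (I ^ n • ⊤ : Submodule A (FrobAlg.Twist p A)) ↔ a ∈ J ^ n := by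
    intro n a
    rw [Ideal.smul_top_eq_map, Submodule.restrictScalars_mem, hJ, ← Ideal.map_pow]
    exact Iff.rfl
  let Mk : ∀ n, A → FrobAlg.Twist p A ⧸ (I ^ n • ⊤ : Submodule A (FrobAlg.Twist p A)) := fun n a =>
    Submodule.Quotient.mk (FrobAlg.toTwist p A a)
  let F := FrobAlg.relFrob p A (AdicCompletion I A)
  let e := AdicCompletion.ofTensorProductEquivOfFiniteNoetherian I (FrobAlg.Twist p A)
  have hrel : ∀ (z : AdicCompletion I A ⊗[A] FrobAlg.Twist p A) (n : ℕ),
      ∃ a : A, (e z).val n = Mk n a ∧ AdicCompletion.evalₐ I n (F z) = Ideal.Quotient.mk (I ^ n) a := by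
    intro z n
    induction z using TensorProduct.induction_on with
    | zero => exact ⟨0, by simp [Mk], by simp [F]⟩
    | tmul r x =>
      obtain ⟨f, rfl⟩ := AdicCompletion.mk_surjective I A r
      refine ⟨f n ^ p * (FrobAlg.toTwist p A).symm x, ?_, ?_⟩
      · rw [show e ((AdicCompletion.mk I A) f ⊗ₜ[A] x) =
          (AdicCompletion.mk I A) f • AdicCompletion.of I (FrobAlg.Twist p A) x from
          AdicCompletion.ofTensorProduct_tmul I (FrobAlg.Twist p A) _ _]
        rfl
      · have hF' : F ((AdicCompletion.mk I A) f ⊗ₜ[A] x) =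
            (AdicCompletion.mk I A) f ^ p * algebraMap A (AdicCompletion I A) ((FrobAlg.toTwist p A).symm x) := rfl
        rw [hF', map_mul, map_pow, AdicCompletion.evalₐ_mk, AlgHom.commutes, map_mul, map_pow]
        rfl
    | add u v hu hv =>
      obtain ⟨a, ha, ha'⟩ := hu
      obtain ⟨b, hb, hb'⟩ := hv
      exact ⟨a + b, by simp [Mk, ha, hb], by simp [map_add, ha', hb']⟩
  constructor
  · refine (injective_iff_map_eq_zero F).2 fun z hz => e.injective ?_
    rw [map_zero]
    refine AdicCompletion.ext fun n => ?_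
    obtain ⟨a, ha, ha'⟩ := hrel z ((c + 1) * n)
    rw [hz, map_zero, eq_comm, Ideal.Quotient.eq_zero_iff_mem] at ha'
    rw [← (e z).property (Nat.le_mul_of_pos_left n (Nat.succ_pos c)), ha]
    exact (Submodule.Quotient.mk_eq_zero _).2 ((hmem n a).2 (hpow n ha'))
  · intro w
    obtain ⟨f, rfl⟩ := AdicCompletion.mk_surjective I A w
    have hcauchy : ∀ {m n : ℕ}, m ≤ n → f m - f n ∈ I ^ m := fun {m n} h => by
      have := SModEq.sub_mem.1 (f.property h)
      simpa using this
    let y : AdicCompletion I (FrobAlg.Twist p A) := ⟨fun n => Mk n (f ((c + 1) * n)), fun {m n} h => by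
      refine (Submodule.Quotient.eq _).2 ?_
      rw [LinearMap.id_apply, ← map_sub, hmem]
      refine hpow m ?_
      rw [← neg_sub]
      exact Submodule.neg_mem _ (hcauchy (Nat.mul_le_mul_left _ h))⟩
    refine ⟨e.symm y, AdicCompletion.ext_evalₐ fun n => ?_⟩
    obtain ⟨a, ha, ha'⟩ := hrel (e.symm y) n
    rw [LinearEquiv.apply_symm_apply] at ha
    refine ha'.trans ?_
    rw [AdicCompletion.evalₐ_mk, Ideal.Quotient.eq]
    have h1 : f ((c + 1) * n) - a ∈ J ^ n := (hmem n _).1 (by rw [map_sub]; exact (Submodule.Quotient.eq _).1 ha)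
    have h3 := Submodule.add_mem _ (hJle n h1) (hcauchy (Nat.le_mul_of_pos_left n (Nat.succ_pos c)))
    rw [← neg_mem_iff]
    convert h3 using 1
    show -(a - f.val n) = _
    ring

end Groth.Agent.S17428
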