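import Groth.Statements.S17429
import Groth.Agent.Lib.KaehlerFlat27.Kaehler
import Groth.Agent.Lib.KaehlerFlat27.ExtPow
import Groth.Agent.Lib.LocCoh.Basic
import Groth.Agent.S5150
import Groth.Agent.S0326
import Mathlib.RingTheory.Regular.Flat
-- import your own Groth.Agent.* helpers here

set_option autoImplicit false
universe u
open LocCoh

namespace Groth.Agent.S17429

/-- Let p be a prime, A a regular local ring of characteristic p, t_1, …, t_r an A-regular sequence such
that A/(t_1, …, t_r) is again a regular local ring (a regular closed immersion Z ↪ X = Spec A of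
codimension r with Z regular and non-empty), and I = (t_1, …, t_r). Then for every i and every j ≠ r
the local cohomology module H^j_I(Ω^i_A) vanishes, where Ω^i_A is the i-th exterior power over A of
the module of Kähler differentials of A over ℤ (the same module as over the prime field). (Module
form, for X local, of the vanishing of the local cohomology sheaves H^j_Z(X, Ω^i_X), j ≠ r; the same
vanishing holds more generally for the de Rham–Witt sheaves W_mΩ^i_X and their quotients by
dV^{m-1}Ω^{i-1}_X on the étale site of a regular F_p-scheme, a form not stated here.) -/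
theorem result (p : ℕ) [Fact p.Prime]
    (A : Type u) [CommRing A] [IsRegularLocalRing A] [CharP A p]
    (ts : List A) (hreg : RingTheory.Sequence.IsRegular A ts)
    (hZ : IsRegularLocalRing (A ⧸ Ideal.ofList ts))
    (i j : ℕ) (hj : j ≠ ts.length) :
    Subsingleton (LocCoh.H (Ideal.ofList ts) j
      ↥(ExteriorAlgebra.exteriorPower A i (KaehlerDifferential ℤ A))) := by
  classical
  haveI := Groth.Agent.KaehlerFlat27.flat_kaehler A p
  haveI : Module.Flat A ↥(ExteriorAlgebra.exteriorPower A i (KaehlerDifferential ℤ A)) :=
    Groth.Agent.KaehlerFlat27.flat_exteriorPower i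
  rcases Nat.lt_or_gt_of_ne hj with hlt | hgt
  · have hweak : RingTheory.Sequence.IsWeaklyRegular
        ↥(ExteriorAlgebra.exteriorPower A i (KaehlerDifferential ℤ A)) ts :=
      ((TensorProduct.lid A _).isWeaklyRegular_congr ts).1 (hreg.toIsWeaklyRegular.isWeaklyRegular_rTensor)
    refine Groth.Agent.LocCohLib.subsingleton_of_eventually _ _ _ 0 fun n _ => ?_
    refine Groth.Agent.S5150.result A (Ideal.ofList ts) _ (A ⧸ Ideal.ofList ts ^ n) ts hweak
      (fun r hr => Ideal.subset_span hr) n ?_ j hlt
    refine eq_bot_iff.2 (Submodule.smul_le.2 fun a ha x _ => ?_)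
    obtain ⟨y, rfl⟩ := Submodule.Quotient.mk_surjective _ x
    rw [Submodule.mem_bot, ← Submodule.Quotient.mk_smul, Submodule.Quotient.mk_eq_zero, smul_eq_mul]
    exact Ideal.mul_mem_right _ _ ha
  · have hI : Ideal.ofList ts = Ideal.span (ts.toFinset : Set A) :=
      congrArg Ideal.span (Set.ext fun x => by simp)
    rw [hI]
    exact Groth.Agent.S0326.result A ts.toFinset _ j (lt_of_le_of_lt (List.toFinset_card_le ts) hgt)


end Groth.Agent.S17429
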