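import Groth.Statements.S17432
import Groth.Agent.Lib.BorelAdj1.Basic

set_option autoImplicit false
universe u v w
open LieAlgebra LieModule
open AdjVar

namespace Groth.Agent.S17432


section Aux

theorem rank_le_one {K : Type v} [Field K] [CharZero K] {W : Type w} [AddCommGroup W] [Module K W]
    (B : Module.Basis (Fin 3) K W) (q : QuadraticForm K W) (X Y : W → W) (d : K) (hd : d ≠ 0)
    (hX : ∀ a b c : K, X (a • B 0 + b • B 1 + c • B 2) = b • B 0)
    (hY : ∀ a b c : K, Y (a • B 0 + b • B 1 + c • B 2) = (c * d) • B 1)
    (hqX : ∃ c : K, ∀ w, QuadraticMap.polar q (X w) w = c * q w)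
    (hqY : ∃ c : K, ∀ w, QuadraticMap.polar q (Y w) w = c * q w) :
    ∃ (ℓ : Module.Dual K W) (c : K), ∀ w : W, q w = c * ℓ w ^ 2 := by
  obtain ⟨c, hc⟩ := hqX
  obtain ⟨e, he⟩ := hqY
  have hexp : ∀ a b g : K, q (a • B 0 + b • B 1 + g • B 2) = a * a * q (B 0) + b * b * q (B 1) + g * g * q (B 2) +
      a * b * QuadraticMap.polar q (B 0) (B 1) + a * g * QuadraticMap.polar q (B 0) (B 2) +
      b * g * QuadraticMap.polar q (B 1) (B 2) := by
    intro a b g
    rw [QuadraticMap.map_add q, QuadraticMap.map_add q, QuadraticMap.polar_add_left]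
    simp only [QuadraticMap.map_smul, QuadraticMap.polar_smul_left, QuadraticMap.polar_smul_right, smul_eq_mul]
    ring
  have h1 : ∀ a b g : K, b * (2 * a * q (B 0) + b * QuadraticMap.polar q (B 0) (B 1) +
      g * QuadraticMap.polar q (B 0) (B 2)) = c * q (a • B 0 + b • B 1 + g • B 2) := by
    intro a b g
    rw [← hc, hX]
    simp only [QuadraticMap.polar_smul_left, QuadraticMap.polar_add_right, QuadraticMap.polar_smul_right,
      QuadraticMap.polar_self, smul_eq_mul]
    ring
  have h2 : ∀ a b g : K, g * d * (a * QuadraticMap.polar q (B 0) (B 1) + 2 * b * q (B 1) +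
      g * QuadraticMap.polar q (B 1) (B 2)) = e * q (a • B 0 + b • B 1 + g • B 2) := by
    intro a b g
    rw [← he, hY]
    simp only [QuadraticMap.polar_smul_left, QuadraticMap.polar_add_right, QuadraticMap.polar_smul_right,
      QuadraticMap.polar_self, QuadraticMap.polar_comm q (B 1) (B 0), smul_eq_mul]
    ring
  simp only [hexp] at h1 h2
  have hv : q (B 0) = 0 := by
    by_contra hne
    have hc0 : c = 0 := by
      have h := h1 1 0 0
      norm_num at h
      exact h.resolve_right hne
    subst hc0
    have h := h1 1 1 0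
    have h' := h1 0 1 0
    norm_num at h h'
    exact hne (by linear_combination (h - h') / 2)
  simp only [hv, mul_zero, zero_add] at h1 h2
  have x1 := h1 0 1 0
  have x2 := h1 1 1 0
  have x3 := h1 1 0 1
  have x4 := h1 0 1 1
  have x5 := h1 0 0 1
  norm_num at x1 x2 x3 x4
  have hvw : QuadraticMap.polar q (B 0) (B 1) = 0 := by
    by_cases hc0 : c = 0
    · rw [x1, hc0, zero_mul]
    · have : c * QuadraticMap.polar q (B 0) (B 1) = 0 := by linear_combination x1 - x2
      exact (mul_eq_zero.1 this).resolve_left hc0
  have hvu : QuadraticMap.polar q (B 0) (B 2) = 0 := by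
    by_cases hc0 : c = 0
    · subst hc0; linear_combination x4 - x1
    · norm_num at x5
      have hu : q (B 2) = 0 := x5.resolve_left hc0
      have : c * QuadraticMap.polar q (B 0) (B 2) = 0 := by
        rw [hu] at x3
        simpa [hc0] using x3
      exact (mul_eq_zero.1 this).resolve_left hc0
  simp only [hvw, hvu, mul_zero, zero_add, add_zero] at h2
  have y2 := h2 0 1 0
  have y3 := h2 0 1 1
  have y4 := h2 0 0 1
  norm_num at y2 y3 y4
  have hw : q (B 1) = 0 := by
    by_cases he0 : e = 0
    · subst he0
      have : d * q (B 1) * 2 = 0 := by linear_combination y3 - y4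
      simpa [hd] using this
    · exact y2.resolve_left he0
  have hwu : QuadraticMap.polar q (B 1) (B 2) = 0 := by
    by_cases he0 : e = 0
    · subst he0
      have : d * QuadraticMap.polar q (B 1) (B 2) = 0 := by linear_combination y4
      exact (mul_eq_zero.1 this).resolve_left hd
    · rw [hw] at y3
      have : e * QuadraticMap.polar q (B 1) (B 2) = 0 := by linear_combination y4 - y3
      exact (mul_eq_zero.1 this).resolve_left he0
  refine ⟨B.coord 2, q (B 2), fun w => ?_⟩
  conv_lhs => rw [← B.sum_repr w, Fin.sum_univ_three, hexp, hv, hw, hvw, hvu, hwu]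
  rw [Module.Basis.coord_apply]
  ring

end Aux


/-- Let L be a finite-dimensional simple Lie algebra over an algebraically closed field K of
characteristic zero, H a Cartan subalgebra and b a basis of (L, H) in Mathlib's sense (Chevalley
generators h_i, e_i, f_i indexed by a finite type, with simple roots α_i = b.baseSupp i and upper
Borel subalgebra 𝔟 = H + the Lie subalgebra generated by the e_i). Let ρ be the highest root: a root
of H on L whose root space is nonzero and such that no ρ + α_i is a root (the root space of ρ + α_i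
is zero for every i). Assume that exactly one simple root α_j is not orthogonal to ρ (ρ(h_i) ≠ 0 if
and only if i = j) and that ρ(h_j) = 1; for simple L these two conditions say precisely that L is
not of type A_r or C_r (r ≥ 1), the case excluded in the source. Let W be a three-dimensional linear
subspace of L stable under 𝔟 and q a quadratic form on W which is semi-invariant under 𝔟: for every
x in 𝔟 there is a scalar c with polar_q([x, w], w) = c q(w) for all w in W (this is the
infinitesimal condition for the line spanned by q, equivalently the conic q = 0 of the plane P(W),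
to be stable under the Borel subgroup). Then q is a scalar multiple of the square of a linear form
on W. In the source's words: P(L) contains no Borel-stable conic which is smooth or reducible (a
pair of distinct lines); only double lines occur. (Over the complex numbers a conic of rank at least
two is Borel-stable exactly when its plane is 𝔟-stable and its equation is 𝔟-semi-invariant, which
is the form stated here.) -/
theorem result {ι : Type u} {K : Type v} {L : Type w} [Fintype ι] [Field K] [CharZero K]
    [IsAlgClosed K] [LieRing L] [LieAlgebra K L] [FiniteDimensional K L] [LieAlgebra.IsSimple K L]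
    (H : LieSubalgebra K L) [H.IsCartanSubalgebra] (b : LieAlgebra.Basis ι H)
    (ρ : Module.Dual K H) (hρ : rootSpace H ρ ≠ ⊥) (htop : ∀ i, rootSpace H (ρ + b.baseSupp i) = ⊥)
    (j : ι) (hN : ∀ i, ρ (b.h' i) ≠ 0 ↔ i = j) (hj : ρ (b.h' j) = 1)
    (W : Submodule K L) (hW : Module.finrank K W = 3)
    (hst : ∀ x ∈ H.toSubmodule ⊔ (b.borelUpper : Submodule K L), ∀ w ∈ W, ⁅x, w⁆ ∈ W)
    (q : QuadraticForm K W)
    (hq : ∀ (x : L) (hx : x ∈ H.toSubmodule ⊔ (b.borelUpper : Submodule K L)), ∃ c : K, ∀ w : W,
      QuadraticMap.polar q ⟨⁅x, (w : L)⁆, hst x hx w w.property⟩ w = c * q w) :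
    ∃ (ℓ : Module.Dual K W) (c : K), ∀ w : W, q w = c * ℓ w ^ 2 := by
  obtain ⟨i, v, u, d, hij, hA, hd, hρe, hρje, hue, hWe, hind, hjv, hiv, hjw, hiw, hju, hiu⟩ :=
    BorelAdj1.threeDim b j hρ htop hN hj W hW hst
  have hmem : ∀ k : Fin 3, (![v, ⁅b.f j, v⁆, u] k) ∈ W := by
    intro k
    rw [hWe]
    fin_cases k <;> exact Submodule.subset_span (by simp)
  let w : Fin 3 → W := fun k => ⟨_, hmem k⟩
  have hli : LinearIndependent K w := LinearIndependent.of_comp W.subtype hind
  let B := basisOfLinearIndependentOfCardEqFinrank hli (by simp [hW])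
  have hB : ∀ k, (B k : W) = w k := fun k => by simp [B]
  have hE : ∀ k, b.e k ∈ H.toSubmodule ⊔ (b.borelUpper : Submodule K L) := fun k =>
    Submodule.mem_sup_right (LieSubalgebra.subset_lieSpan (Set.mem_range_self k))
  refine rank_le_one B q (fun x => ⟨⁅b.e j, (x : L)⁆, hst _ (hE j) x x.2⟩)
    (fun x => ⟨⁅b.e i, (x : L)⁆, hst _ (hE i) x x.2⟩) d hd ?_ ?_ (hq _ (hE j)) (hq _ (hE i))
  · intro p r g
    apply Subtype.ext
    simp [hB, w, lie_add, lie_smul, hjv, hjw, hju]
  · intro p r g
    apply Subtype.ext
    simp [hB, w, lie_add, lie_smul, hiv, hiw, hiu, smul_smul]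

end Groth.Agent.S17432
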